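import Mathlib
set_option autoImplicit false
open CategoryTheory Bicategory
universe w v u


namespace Groth.Agent.BicatEquiv

variable {B : Type u} [Bicategory.{w, v} B] {a b : B}

theorem precomp_isEquivalence (c : B) (f : a ⟶ b) (g : b ⟶ a) (eta : f ≫ g ≅ 𝟙 a) (eps : g ≫ f ≅ 𝟙 b) :
    (precomp c f).IsEquivalence := by
  let e1 : precomp c f ⋙ precomp c g ≅ 𝟭 (b ⟶ c) :=
    (associatorNatIsoRight g f c).symm ≪≫ (precomposing b b c).mapIso eps ≪≫ leftUnitorNatIso b c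
  let e2 : precomp c g ⋙ precomp c f ≅ 𝟭 (a ⟶ c) :=
    (associatorNatIsoRight f g c).symm ≪≫ (precomposing a a c).mapIso eta ≪≫ leftUnitorNatIso a c
  exact (CategoryTheory.Equivalence.mk (precomp c f) (precomp c g) e1.symm e2).isEquivalence_functor

theorem postcomp_isEquivalence (c : B) (f : a ⟶ b) (g : b ⟶ a) (eta : f ≫ g ≅ 𝟙 a) (eps : g ≫ f ≅ 𝟙 b) :
    (postcomp c f).IsEquivalence := by
  let e1 : postcomp c f ⋙ postcomp c g ≅ 𝟭 (c ⟶ a) :=
    associatorNatIsoLeft c f g ≪≫ (postcomposing c a a).mapIso eta ≪≫ rightUnitorNatIso c a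
  let e2 : postcomp c g ⋙ postcomp c f ≅ 𝟭 (c ⟶ b) :=
    associatorNatIsoLeft c g f ≪≫ (postcomposing c b b).mapIso eps ≪≫ rightUnitorNatIso c b
  exact (CategoryTheory.Equivalence.mk (postcomp c f) (postcomp c g) e1.symm e2).isEquivalence_functor

end Groth.Agent.BicatEquiv

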