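import Groth.Prelude.Def_FibCat2
import Mathlib
set_option autoImplicit false
set_option backward.isDefEq.respectTransparency false
set_option backward.isDefEq.respectTransparency.types false
open CategoryTheory CategoryTheory.Functor
universe v₃ u₃ v₂ u₂ v u

namespace Groth.Agent.FibEquiv

variable {C : Type u} [Category.{v} C]

theorem isHomLift_of_eq {𝒳 : Type u₂} [Category.{v₂} 𝒳] (p : 𝒳 ⥤ C) {S S' : C} (h : S = S') {a b : 𝒳} (φ : a ⟶ b)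
    [p.IsHomLift (𝟙 S) φ] : p.IsHomLift (𝟙 S') φ := by
  subst h; infer_instance

variable {𝒳 : BasedCategory.{v₂, u₂} C} {𝒴 : BasedCategory.{v₃, u₃} C}

/-- forward direction of S5139 -/
theorem of_isEquivOver (F : 𝒳 ⥤ᵇ 𝒴) (h : FibCat.IsEquivOver F) :
    (F.toFunctor.Full ∧ F.toFunctor.Faithful) ∧
      ∀ η : 𝒴.obj, ∃ (ξ : 𝒳.obj) (e : F.toFunctor.obj ξ ≅ η), 𝒴.p.IsHomLift (𝟙 (𝒴.p.obj η)) e.hom := by
  obtain ⟨G, ⟨α⟩, ⟨β⟩⟩ := h
  let α' : F.toFunctor ⋙ G.toFunctor ≅ 𝟭 _ := (BasedNatTrans.forgetful _ _).mapIso α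
  let β' : G.toFunctor ⋙ F.toFunctor ≅ 𝟭 _ := (BasedNatTrans.forgetful _ _).mapIso β
  have : F.toFunctor.IsEquivalence := Functor.IsEquivalence.mk' G.toFunctor α'.symm β'
  refine ⟨⟨inferInstance, inferInstance⟩, fun η => ⟨G.obj η, β'.app η, ?_⟩⟩
  exact BasedNatTrans.isHomLift β.hom rfl


/-- backward direction of S5139 -/
theorem isEquivOver_of (F : 𝒳 ⥤ᵇ 𝒴) [F.toFunctor.Full] [F.toFunctor.Faithful]
    (h : ∀ η : 𝒴.obj, ∃ (ξ : 𝒳.obj) (e : F.toFunctor.obj ξ ≅ η), 𝒴.p.IsHomLift (𝟙 (𝒴.p.obj η)) e.hom) :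
    FibCat.IsEquivOver F := by
  choose ξ e he using h
  let Gf : 𝒴.obj ⥤ 𝒳.obj :=
    { obj := ξ
      map := fun {η η'} g => F.toFunctor.preimage ((e η).hom ≫ g ≫ (e η').inv)
      map_id := fun η => F.toFunctor.map_injective (by simp)
      map_comp := fun g g' => F.toFunctor.map_injective (by simp) }
  have hobj : ∀ η, 𝒳.p.obj (ξ η) = 𝒴.p.obj η := fun η =>
    (F.w_obj (ξ η)).symm.trans (IsHomLift.domain_eq 𝒴.p (𝟙 (𝒴.p.obj η)) (e η).hom)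
  have hmapF : ∀ {η η' : 𝒴.obj} (g : η ⟶ η'),
      F.toFunctor.map (Gf.map g) = (e η).hom ≫ g ≫ (e η').inv := fun g => by
    simp [Gf]
  let G : 𝒴 ⥤ᵇ 𝒳 :=
    { toFunctor := Gf
      w := CategoryTheory.Functor.ext hobj (fun η η' g => by
        have h1 := he η
        have h2 : 𝒴.p.IsHomLift (𝟙 (𝒴.p.obj η')) (e η').inv := by
          have := he η'
          exact IsHomLift.lift_id_inv _ _ _
        have h3 : 𝒴.p.IsHomLift (𝒴.p.map g) (F.toFunctor.map (Gf.map g)) := by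
          rw [hmapF]
          infer_instance
        have h4 : 𝒳.p.IsHomLift (𝒴.p.map g) (Gf.map g) := F.isHomLift_map _ _
        exact IsHomLift.fac' 𝒳.p (𝒴.p.map g) (Gf.map g)) }
  refine ⟨G, ⟨?_⟩, ⟨?_⟩⟩
  · refine BasedNatIso.mkNatIso
      (NatIso.ofComponents (fun x => F.toFunctor.preimageIso (e (F.obj x))) ?_) ?_
    · intro x x' f
      apply F.toFunctor.map_injective
      simp only [Functor.map_comp, Functor.preimageIso_hom, Functor.map_preimage]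
      change F.toFunctor.map (Gf.map (F.toFunctor.map f)) ≫ (e (F.obj x')).hom =
        (e (F.obj x)).hom ≫ F.toFunctor.map f
      rw [hmapF]
      simp
    · intro x
      have h1 := he (F.obj x)
      have h2 : 𝒴.p.IsHomLift (𝟙 (𝒳.p.obj x)) (e (F.obj x)).hom :=
        isHomLift_of_eq 𝒴.p (F.w_obj x) _
      have h3 : 𝒴.p.IsHomLift (𝟙 (𝒳.p.obj x))
          (F.toFunctor.map (F.toFunctor.preimageIso (e (F.obj x))).hom) := by
        simpa using h2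
      exact @BasedFunctor.isHomLift_map _ _ _ _ F _ _ _ _ _ _ h3
  · refine BasedNatIso.mkNatIso (NatIso.ofComponents (fun η => e η) ?_) ?_
    · intro η η' g
      change F.toFunctor.map (Gf.map g) ≫ (e η').hom = (e η).hom ≫ g
      rw [hmapF]
      simp
    · intro η
      exact he η


theorem isCartesian_of_map (F : 𝒳 ⥤ᵇ 𝒴) [F.toFunctor.Full] [F.toFunctor.Faithful]
    {R S : C} {a b : 𝒳.obj} (f : R ⟶ S) (φ : a ⟶ b) [𝒴.p.IsCartesian f (F.toFunctor.map φ)] :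
    𝒳.p.IsCartesian f φ := by
  have h0 : 𝒳.p.IsHomLift f φ := F.isHomLift_map f φ
  refine { toIsHomLift := h0, universal_property := ?_ }
  intro a' ψ hψ
  have hFψ : 𝒴.p.IsHomLift f (F.toFunctor.map ψ) := inferInstance
  obtain ⟨χ', ⟨hχ'1, hχ'2⟩, huniq⟩ :=
    IsCartesian.universal_property (p := 𝒴.p) (f := f) (φ := F.toFunctor.map φ) (F.toFunctor.map ψ)
  have hχ'3 : 𝒴.p.IsHomLift (𝟙 R) (F.toFunctor.map (F.toFunctor.preimage χ')) := by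
    rw [Functor.map_preimage]; exact hχ'1
  refine ⟨F.toFunctor.preimage χ', ⟨F.isHomLift_map _ _, ?_⟩, ?_⟩
  · apply F.toFunctor.map_injective
    rw [Functor.map_comp, Functor.map_preimage, hχ'2]
  · rintro χ₂ ⟨h1, h2⟩
    apply F.toFunctor.map_injective
    rw [Functor.map_preimage]
    apply huniq
    refine ⟨inferInstance, ?_⟩
    rw [← Functor.map_comp, h2]

theorem isCartesian_map (F : 𝒳 ⥤ᵇ 𝒴) [F.toFunctor.Full] [F.toFunctor.Faithful]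
    (hess : ∀ η : 𝒴.obj, ∃ (ξ : 𝒳.obj) (e : F.toFunctor.obj ξ ≅ η), 𝒴.p.IsHomLift (𝟙 (𝒴.p.obj η)) e.hom)
    {R S : C} {a b : 𝒳.obj} (f : R ⟶ S) (φ : a ⟶ b) [𝒳.p.IsCartesian f φ] :
    𝒴.p.IsCartesian f (F.toFunctor.map φ) := by
  refine { toIsHomLift := inferInstance, universal_property := ?_ }
  intro η' ψ' hψ'
  obtain ⟨ξ', e, he⟩ := hess η'
  have hR : 𝒴.p.obj η' = R := IsHomLift.domain_eq 𝒴.p f ψ'
  have he' : 𝒴.p.IsHomLift (𝟙 R) e.hom := isHomLift_of_eq 𝒴.p hR _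
  have heinv : 𝒴.p.IsHomLift (𝟙 R) e.inv := IsHomLift.lift_id_inv _ _ _
  have h1 : 𝒴.p.IsHomLift f (e.hom ≫ ψ') := inferInstance
  let ψ : ξ' ⟶ b := F.toFunctor.preimage (e.hom ≫ ψ')
  have hψF : F.toFunctor.map ψ = e.hom ≫ ψ' := Functor.map_preimage _ _
  have h2 : 𝒴.p.IsHomLift f (F.toFunctor.map ψ) := by rw [hψF]; exact h1
  have h3 : 𝒳.p.IsHomLift f ψ := F.isHomLift_map f ψ
  obtain ⟨χ, ⟨hχ1, hχ2⟩, huniq⟩ :=
    IsCartesian.universal_property (p := 𝒳.p) (f := f) (φ := φ) ψ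
  refine ⟨e.inv ≫ F.toFunctor.map χ, ⟨inferInstance, ?_⟩, ?_⟩
  · rw [Category.assoc, ← Functor.map_comp, hχ2, hψF, Iso.inv_hom_id_assoc]
  · rintro χ' ⟨hχ'1, hχ'2⟩
    have h4 : 𝒴.p.IsHomLift (𝟙 R) (e.hom ≫ χ') := inferInstance
    let χ₁ : ξ' ⟶ a := F.toFunctor.preimage (e.hom ≫ χ')
    have hχ₁F : F.toFunctor.map χ₁ = e.hom ≫ χ' := Functor.map_preimage _ _
    have h5 : 𝒴.p.IsHomLift (𝟙 R) (F.toFunctor.map χ₁) := by rw [hχ₁F]; exact h4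
    have h6 : 𝒳.p.IsHomLift (𝟙 R) χ₁ := F.isHomLift_map _ _
    have h7 : χ₁ = χ := by
      apply huniq
      refine ⟨h6, ?_⟩
      apply F.toFunctor.map_injective
      rw [Functor.map_comp, hχ₁F, hψF, Category.assoc, hχ'2]
    rw [← h7, hχ₁F, Iso.inv_hom_id_assoc]


theorem isStronglyCartesian_of_map (F : 𝒳 ⥤ᵇ 𝒴) [F.toFunctor.Full] [F.toFunctor.Faithful]
    {R S : C} {a b : 𝒳.obj} (f : R ⟶ S) (φ : a ⟶ b) [𝒴.p.IsStronglyCartesian f (F.toFunctor.map φ)] :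
    𝒳.p.IsStronglyCartesian f φ := by
  have h0 : 𝒳.p.IsHomLift f φ := F.isHomLift_map f φ
  refine { toIsHomLift := h0, universal_property' := ?_ }
  intro a' g ψ hψ
  have hFψ : 𝒴.p.IsHomLift (g ≫ f) (F.toFunctor.map ψ) := inferInstance
  obtain ⟨χ', ⟨hχ'1, hχ'2⟩, huniq⟩ :=
    IsStronglyCartesian.universal_property (p := 𝒴.p) (f := f) (φ := F.toFunctor.map φ) g (g ≫ f) rfl
      (F.toFunctor.map ψ)
  have hχ'3 : 𝒴.p.IsHomLift g (F.toFunctor.map (F.toFunctor.preimage χ')) := by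
    rw [Functor.map_preimage]; exact hχ'1
  refine ⟨F.toFunctor.preimage χ', ⟨F.isHomLift_map _ _, ?_⟩, ?_⟩
  · apply F.toFunctor.map_injective
    rw [Functor.map_comp, Functor.map_preimage, hχ'2]
  · rintro χ₂ ⟨h1, h2⟩
    apply F.toFunctor.map_injective
    rw [Functor.map_preimage]
    apply huniq
    refine ⟨inferInstance, ?_⟩
    rw [← Functor.map_comp, h2]

theorem isStronglyCartesian_map (F : 𝒳 ⥤ᵇ 𝒴) [F.toFunctor.Full] [F.toFunctor.Faithful]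
    (hess : ∀ η : 𝒴.obj, ∃ (ξ : 𝒳.obj) (e : F.toFunctor.obj ξ ≅ η), 𝒴.p.IsHomLift (𝟙 (𝒴.p.obj η)) e.hom)
    {R S : C} {a b : 𝒳.obj} (f : R ⟶ S) (φ : a ⟶ b) [𝒳.p.IsStronglyCartesian f φ] :
    𝒴.p.IsStronglyCartesian f (F.toFunctor.map φ) := by
  refine { toIsHomLift := inferInstance, universal_property' := ?_ }
  intro η' g ψ' hψ'
  obtain ⟨ξ', e, he⟩ := hess η'
  have heinv : 𝒴.p.IsHomLift (𝟙 (𝒴.p.obj η')) e.inv := IsHomLift.lift_id_inv _ _ _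
  have h1 : 𝒴.p.IsHomLift (g ≫ f) (e.hom ≫ ψ') := inferInstance
  let ψ : ξ' ⟶ b := F.toFunctor.preimage (e.hom ≫ ψ')
  have hψF : F.toFunctor.map ψ = e.hom ≫ ψ' := Functor.map_preimage _ _
  have h2 : 𝒴.p.IsHomLift (g ≫ f) (F.toFunctor.map ψ) := by rw [hψF]; exact h1
  have h3 : 𝒳.p.IsHomLift (g ≫ f) ψ := F.isHomLift_map _ ψ
  obtain ⟨χ, ⟨hχ1, hχ2⟩, huniq⟩ :=
    IsStronglyCartesian.universal_property (p := 𝒳.p) (f := f) (φ := φ) g (g ≫ f) rfl ψ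
  have hFχ : 𝒴.p.IsHomLift g (F.toFunctor.map χ) := inferInstance
  refine ⟨e.inv ≫ F.toFunctor.map χ, ⟨inferInstance, ?_⟩, ?_⟩
  · rw [Category.assoc, ← Functor.map_comp, hχ2, hψF, Iso.inv_hom_id_assoc]
  · rintro χ' ⟨hχ'1, hχ'2⟩
    have h4 : 𝒴.p.IsHomLift g (e.hom ≫ χ') := inferInstance
    let χ₁ : ξ' ⟶ a := F.toFunctor.preimage (e.hom ≫ χ')
    have hχ₁F : F.toFunctor.map χ₁ = e.hom ≫ χ' := Functor.map_preimage _ _
    have h5 : 𝒴.p.IsHomLift g (F.toFunctor.map χ₁) := by rw [hχ₁F]; exact h4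
    have h6 : 𝒳.p.IsHomLift g χ₁ := F.isHomLift_map _ _
    have h7 : χ₁ = χ := by
      apply huniq
      refine ⟨h6, ?_⟩
      apply F.toFunctor.map_injective
      rw [Functor.map_comp, hχ₁F, hψF, Category.assoc, hχ'2]
    rw [← h7, hχ₁F, Iso.inv_hom_id_assoc]


theorem isFibered_target (F : 𝒳 ⥤ᵇ 𝒴) [F.toFunctor.Full] [F.toFunctor.Faithful]
    (hess : ∀ η : 𝒴.obj, ∃ (ξ : 𝒳.obj) (e : F.toFunctor.obj ξ ≅ η), 𝒴.p.IsHomLift (𝟙 (𝒴.p.obj η)) e.hom)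
    [𝒳.p.IsFibered] : 𝒴.p.IsFibered := by
  apply IsFibered.of_exists_isStronglyCartesian
  intro η R f
  obtain ⟨ξ, e, he⟩ := hess η
  have hξ : 𝒳.p.obj ξ = 𝒴.p.obj η :=
    (F.w_obj ξ).symm.trans (IsHomLift.domain_eq 𝒴.p (𝟙 (𝒴.p.obj η)) e.hom)
  obtain ⟨b, φ, hφ⟩ := IsPreFibered.exists_isCartesian 𝒳.p hξ f
  have h1 : 𝒳.p.IsStronglyCartesian f φ := inferInstance
  have h2 : 𝒴.p.IsStronglyCartesian f (F.toFunctor.map φ) := isStronglyCartesian_map F hess f φ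
  have h3 : 𝒴.p.IsStronglyCartesian (𝟙 (𝒴.p.obj η)) e.hom := inferInstance
  have h4 : 𝒴.p.IsStronglyCartesian (f ≫ 𝟙 (𝒴.p.obj η)) (F.toFunctor.map φ ≫ e.hom) := inferInstance
  rw [Category.comp_id] at h4
  exact ⟨_, _, h4⟩

theorem isFibered_source (F : 𝒳 ⥤ᵇ 𝒴) [F.toFunctor.Full] [F.toFunctor.Faithful]
    (hess : ∀ η : 𝒴.obj, ∃ (ξ : 𝒳.obj) (e : F.toFunctor.obj ξ ≅ η), 𝒴.p.IsHomLift (𝟙 (𝒴.p.obj η)) e.hom)
    [𝒴.p.IsFibered] : 𝒳.p.IsFibered := by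
  apply IsFibered.of_exists_isStronglyCartesian
  intro ξ R f
  obtain ⟨η', ψ, hψ⟩ := IsPreFibered.exists_isCartesian 𝒴.p (F.w_obj ξ) f
  have h1 : 𝒴.p.IsStronglyCartesian f ψ := inferInstance
  obtain ⟨ξ', e, he⟩ := hess η'
  have hR : 𝒴.p.obj η' = R := IsHomLift.domain_eq 𝒴.p f ψ
  have he' : 𝒴.p.IsHomLift (𝟙 R) e.hom := isHomLift_of_eq 𝒴.p hR _
  have h3 : 𝒴.p.IsStronglyCartesian (𝟙 R) e.hom := inferInstance
  have h4 : 𝒴.p.IsStronglyCartesian (𝟙 R ≫ f) (e.hom ≫ ψ) := inferInstance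
  rw [Category.id_comp] at h4
  let φ : ξ' ⟶ ξ := F.toFunctor.preimage (e.hom ≫ ψ)
  have hφ : F.toFunctor.map φ = e.hom ≫ ψ := Functor.map_preimage _ _
  have h5 : 𝒴.p.IsStronglyCartesian f (F.toFunctor.map φ) := by rw [hφ]; exact h4
  exact ⟨ξ', φ, isStronglyCartesian_of_map F f φ⟩

end Groth.Agent.FibEquiv
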