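import Groth.Prelude.Def_W4stkcategoriessitesFib
import Groth.Agent.FibEquiv
import Mathlib
set_option autoImplicit false
set_option backward.isDefEq.respectTransparency false
set_option backward.isDefEq.respectTransparency.types false
open CategoryTheory CategoryTheory.Functor
universe v₃ u₃ v₂ u₂ v u

namespace Groth.Agent.FibFiberwise

open Groth.Agent.FibEquiv

variable {C : Type u} [Category.{v} C]

/-- strong cartesianness over `p.map φ` transfers to any `f` that `φ` lifts. -/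
theorem isStronglyCartesian_of_isHomLift {𝒳 : Type u₂} [Category.{v₂} 𝒳] (p : 𝒳 ⥤ C) {a b : 𝒳} (φ : a ⟶ b)
    (h : p.IsStronglyCartesian (p.map φ) φ) {R S : C} (f : R ⟶ S) [hf : p.IsHomLift f φ] :
    p.IsStronglyCartesian f φ := by
  cases hf
  exact h

/-- conversely -/
theorem isStronglyCartesian_map_of {𝒳 : Type u₂} [Category.{v₂} 𝒳] (p : 𝒳 ⥤ C) {a b : 𝒳} (φ : a ⟶ b)
    {R S : C} (f : R ⟶ S) [h : p.IsStronglyCartesian f φ] :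
    p.IsStronglyCartesian (p.map φ) φ := by
  have hf : p.IsHomLift f φ := inferInstance
  cases hf
  exact h

theorem isFibered_of_isFibGrpd {𝒳 : Type u₂} [Category.{v₂} 𝒳] (p : 𝒳 ⥤ C) (h : FibCat.IsFibGrpd p) :
    p.IsFibered := by
  apply IsFibered.of_exists_isStronglyCartesian
  intro a R f
  obtain ⟨y, φ, hφ⟩ := h.exists_lift f
  exact ⟨y, φ, isStronglyCartesian_of_isHomLift p φ (h.isStronglyCartesian φ) f⟩

variable {𝒳 : BasedCategory.{v₂, u₂} C} {𝒴 : BasedCategory.{v₃, u₃} C}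

/-- A based functor between categories fibred in groupoids preserves strongly cartesian morphisms. -/
theorem preserves_of_isFibGrpd (G : 𝒳 ⥤ᵇ 𝒴) (h𝒴 : FibCat.IsFibGrpd 𝒴.p) ⦃a b : 𝒳.obj⦄ (φ : a ⟶ b) :
    𝒴.p.IsStronglyCartesian (𝒳.p.map φ) (G.toFunctor.map φ) :=
  isStronglyCartesian_of_isHomLift 𝒴.p _ (h𝒴.isStronglyCartesian _) _

theorem key_lift [𝒳.p.IsFibered] (G : 𝒳 ⥤ᵇ 𝒴)
    (hG : ∀ ⦃a b : 𝒳.obj⦄ (φ : a ⟶ b), 𝒳.p.IsStronglyCartesian (𝒳.p.map φ) φ →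
      𝒴.p.IsStronglyCartesian (𝒳.p.map φ) (G.toFunctor.map φ))
    (a b : 𝒳.obj) (f : 𝒳.p.obj a ⟶ 𝒳.p.obj b) :
      ∃ (b' : 𝒳.obj) (φ₀ : b' ⟶ b), 𝒳.p.IsStronglyCartesian f φ₀ ∧
        𝒴.p.IsStronglyCartesian f (G.toFunctor.map φ₀) := by
  obtain ⟨b', φ₀, hφ₀⟩ := IsPreFibered.exists_isCartesian 𝒳.p (rfl : 𝒳.p.obj b = 𝒳.p.obj b) f
  have h1 : 𝒳.p.IsStronglyCartesian f φ₀ := inferInstance
  have h2 : 𝒳.p.IsStronglyCartesian (𝒳.p.map φ₀) φ₀ := isStronglyCartesian_map_of 𝒳.p φ₀ f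
  have h3 := hG φ₀ h2
  have h4 : 𝒴.p.IsHomLift f (G.toFunctor.map φ₀) := inferInstance
  have h5 : 𝒴.p.IsStronglyCartesian (𝒴.p.map (G.toFunctor.map φ₀)) (G.toFunctor.map φ₀) :=
    isStronglyCartesian_map_of 𝒴.p _ (𝒳.p.map φ₀)
  exact ⟨b', φ₀, h1, isStronglyCartesian_of_isHomLift 𝒴.p _ h5 f⟩

/-- fibrewise full + preserves cartesian ⇒ full. -/
theorem full_of_fiberwise [𝒳.p.IsFibered] (G : 𝒳 ⥤ᵇ 𝒴)
    (hG : ∀ ⦃a b : 𝒳.obj⦄ (φ : a ⟶ b), 𝒳.p.IsStronglyCartesian (𝒳.p.map φ) φ →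
      𝒴.p.IsStronglyCartesian (𝒳.p.map φ) (G.toFunctor.map φ))
    (hfull : ∀ U : C, (FibCat.fiberFunctor G U).Full) :
    G.toFunctor.Full := by
  constructor
  intro a b ψ
  let f : 𝒳.p.obj a ⟶ 𝒳.p.obj b :=
    eqToHom (G.w_obj a).symm ≫ 𝒴.p.map ψ ≫ eqToHom (G.w_obj b)
  have hψ : 𝒴.p.IsHomLift f ψ := by
    apply IsHomLift.of_fac 𝒴.p f ψ (G.w_obj a) (G.w_obj b)
    simp [f]
  obtain ⟨b', φ₀, h1, h2⟩ := key_lift G hG a b f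
  have hb' : 𝒳.p.obj b' = 𝒳.p.obj a := IsHomLift.domain_eq 𝒳.p f φ₀
  obtain ⟨χ', ⟨hχ'1, hχ'2⟩, -⟩ :=
    IsStronglyCartesian.universal_property (p := 𝒴.p) (f := f) (φ := G.toFunctor.map φ₀)
      (𝟙 (𝒳.p.obj a)) f (Category.id_comp f).symm ψ
  let U := 𝒳.p.obj a
  let xa : 𝒳.p.Fiber U := ⟨a, rfl⟩
  let xb : 𝒳.p.Fiber U := ⟨b', hb'⟩
  let χf : (FibCat.fiberFunctor G U).obj xa ⟶ (FibCat.fiberFunctor G U).obj xb :=
    Fiber.homMk 𝒴.p U χ'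
  have := hfull U
  let χ : xa ⟶ xb := (FibCat.fiberFunctor G U).preimage χf
  have hχ : G.toFunctor.map χ.1 = χ' := by
    have := congrArg (fun m => Fiber.fiberInclusion.map m) ((FibCat.fiberFunctor G U).map_preimage χf)
    exact this
  refine ⟨χ.1 ≫ φ₀, ?_⟩
  rw [Functor.map_comp, hχ, hχ'2]

/-- fibrewise faithful + preserves cartesian ⇒ faithful. -/
theorem faithful_of_fiberwise [𝒳.p.IsFibered] (G : 𝒳 ⥤ᵇ 𝒴)
    (hG : ∀ ⦃a b : 𝒳.obj⦄ (φ : a ⟶ b), 𝒳.p.IsStronglyCartesian (𝒳.p.map φ) φ →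
      𝒴.p.IsStronglyCartesian (𝒳.p.map φ) (G.toFunctor.map φ))
    (hfaith : ∀ U : C, (FibCat.fiberFunctor G U).Faithful) :
    G.toFunctor.Faithful := by
  constructor
  intro a b φ₁ φ₂ h12
  let f : 𝒳.p.obj a ⟶ 𝒳.p.obj b := 𝒳.p.map φ₁
  have hf2 : 𝒳.p.map φ₂ = f := by
    have e1 := Functor.congr_hom G.w.symm φ₁
    have e2 := Functor.congr_hom G.w.symm φ₂
    simp only [Functor.comp_map] at e1 e2
    rw [e2, ← h12, ← e1]
  have hφ₂ : 𝒳.p.IsHomLift f φ₂ := by rw [← hf2]; infer_instance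
  obtain ⟨b', φ₀, h1, h2⟩ := key_lift G hG a b f
  have hb' : 𝒳.p.obj b' = 𝒳.p.obj a := IsHomLift.domain_eq 𝒳.p f φ₀
  obtain ⟨χ₁, ⟨hχ₁1, hχ₁2⟩, -⟩ :=
    IsStronglyCartesian.universal_property (p := 𝒳.p) (f := f) (φ := φ₀)
      (𝟙 (𝒳.p.obj a)) f (Category.id_comp f).symm φ₁
  obtain ⟨χ₂, ⟨hχ₂1, hχ₂2⟩, -⟩ :=
    IsStronglyCartesian.universal_property (p := 𝒳.p) (f := f) (φ := φ₀)
      (𝟙 (𝒳.p.obj a)) f (Category.id_comp f).symm φ₂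
  have hG12 : G.toFunctor.map χ₁ = G.toFunctor.map χ₂ := by
    obtain ⟨χ', -, huniq⟩ :=
      IsStronglyCartesian.universal_property (p := 𝒴.p) (f := f) (φ := G.toFunctor.map φ₀)
        (𝟙 (𝒳.p.obj a)) f (Category.id_comp f).symm (G.toFunctor.map φ₁)
    have e1 : G.toFunctor.map χ₁ = χ' := huniq _ ⟨inferInstance, by rw [← Functor.map_comp, hχ₁2]⟩
    have e2 : G.toFunctor.map χ₂ = χ' :=
      huniq _ ⟨inferInstance, by rw [← Functor.map_comp, hχ₂2, h12]⟩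
    rw [e1, e2]
  let U := 𝒳.p.obj a
  let xa : 𝒳.p.Fiber U := ⟨a, rfl⟩
  let xb : 𝒳.p.Fiber U := ⟨b', hb'⟩
  let c₁ : xa ⟶ xb := Fiber.homMk 𝒳.p U χ₁
  let c₂ : xa ⟶ xb := Fiber.homMk 𝒳.p U χ₂
  have := hfaith U
  have hc : c₁ = c₂ := by
    apply (FibCat.fiberFunctor G U).map_injective
    apply Fiber.hom_ext
    exact hG12
  have hχ : χ₁ = χ₂ := congrArg (fun m => Fiber.fiberInclusion.map m) hc
  rw [← hχ₁2, ← hχ₂2, hχ]

theorem fiberFunctor_faithful (G : 𝒳 ⥤ᵇ 𝒴) [G.toFunctor.Faithful] (U : C) :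
    (FibCat.fiberFunctor G U).Faithful := by
  constructor
  intro x y f g hfg
  apply Fiber.hom_ext
  apply G.toFunctor.map_injective
  exact congrArg (fun m => Fiber.fiberInclusion.map m) hfg

theorem fiberFunctor_full (G : 𝒳 ⥤ᵇ 𝒴) [G.toFunctor.Full] (U : C) :
    (FibCat.fiberFunctor G U).Full := by
  constructor
  intro x y ψ
  have h1 : 𝒴.p.IsHomLift (𝟙 U) (Fiber.fiberInclusion.map ψ) := inferInstance
  let φ : x.1 ⟶ y.1 := G.toFunctor.preimage (Fiber.fiberInclusion.map ψ)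
  have hφ : G.toFunctor.map φ = Fiber.fiberInclusion.map ψ := Functor.map_preimage _ _
  have h2 : 𝒴.p.IsHomLift (𝟙 U) (G.toFunctor.map φ) := by rw [hφ]; exact h1
  have h3 : 𝒳.p.IsHomLift (𝟙 U) φ := G.isHomLift_map _ _
  refine ⟨Fiber.homMk 𝒳.p U φ, ?_⟩
  apply Fiber.hom_ext
  exact hφ

theorem eq_fiberFunctor (G : 𝒳 ⥤ᵇ 𝒴) (U : C) (GU : 𝒳.p.Fiber U ⥤ 𝒴.p.Fiber U)
    (h : GU ⋙ Fiber.fiberInclusion = Fiber.fiberInclusion ⋙ G.toFunctor) :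
    GU = FibCat.fiberFunctor G U := by
  have hobj : ∀ x, GU.obj x = (FibCat.fiberFunctor G U).obj x := fun x =>
    Fiber.fiberInclusion_obj_inj (Functor.congr_obj h x)
  refine CategoryTheory.Functor.ext hobj ?_
  intro x y f
  apply Fiber.hom_ext
  have := Functor.congr_hom h f
  simp only [Functor.comp_map] at this
  rw [this, Functor.map_comp, Functor.map_comp, eqToHom_map, eqToHom_map]
  rfl

theorem fiberFunctor_essSurj (G : 𝒳 ⥤ᵇ 𝒴)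
    (hess : ∀ η : 𝒴.obj, ∃ (ξ : 𝒳.obj) (e : G.toFunctor.obj ξ ≅ η), 𝒴.p.IsHomLift (𝟙 (𝒴.p.obj η)) e.hom)
    (U : C) : (FibCat.fiberFunctor G U).EssSurj := by
  constructor
  rintro ⟨η, hη⟩
  obtain ⟨ξ, e, he⟩ := hess η
  have he' : 𝒴.p.IsHomLift (𝟙 U) e.hom := isHomLift_of_eq 𝒴.p hη _
  have heinv : 𝒴.p.IsHomLift (𝟙 U) e.inv := IsHomLift.lift_id_inv _ _ _
  have hξ : 𝒳.p.obj ξ = U := (G.w_obj ξ).symm.trans (IsHomLift.domain_eq 𝒴.p (𝟙 U) e.hom)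
  refine ⟨⟨ξ, hξ⟩, ⟨⟨Fiber.homMk 𝒴.p U e.hom, Fiber.homMk 𝒴.p U e.inv, ?_, ?_⟩⟩⟩
  · apply Fiber.hom_ext
    simp
    rfl
  · apply Fiber.hom_ext
    simp
    rfl

theorem essSurj_over_id_of_fiberwise (G : 𝒳 ⥤ᵇ 𝒴) (h : ∀ U : C, (FibCat.fiberFunctor G U).EssSurj) :
    ∀ η : 𝒴.obj, ∃ (ξ : 𝒳.obj) (e : G.toFunctor.obj ξ ≅ η), 𝒴.p.IsHomLift (𝟙 (𝒴.p.obj η)) e.hom := by
  intro η
  let U := 𝒴.p.obj η
  let y : 𝒴.p.Fiber U := ⟨η, rfl⟩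
  have := h U
  let x := (FibCat.fiberFunctor G U).objPreimage y
  let e := (FibCat.fiberFunctor G U).objObjPreimageIso y
  refine ⟨x.1, Fiber.fiberInclusion.mapIso e, ?_⟩
  change 𝒴.p.IsHomLift (𝟙 U) (Fiber.fiberInclusion.map e.hom)
  infer_instance


theorem transportable_of_isFibGrpd {𝒳 : Type u₂} [Category.{v₂} 𝒳] (p : 𝒳 ⥤ C) (h : FibCat.IsFibGrpd p)
    ⦃T S : C⦄ (α : T ≅ S) (ξ : 𝒳) (hξ : p.obj ξ = T) :
    ∃ (ξ' : 𝒳) (e : ξ ≅ ξ'), p.IsHomLift α.hom e.hom := by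
  subst hξ
  obtain ⟨y, φ, hφ⟩ := h.exists_lift (x := ξ) α.inv
  have h1 : p.IsStronglyCartesian α.inv φ :=
    isStronglyCartesian_of_isHomLift p φ (h.isStronglyCartesian φ) α.inv
  have h2 : IsIso φ := IsStronglyCartesian.isIso_of_base_isIso p α.inv φ
  refine ⟨y, (asIso φ).symm, ?_⟩
  have h3 : p.IsHomLift α.symm.hom (asIso φ).hom := hφ
  have h4 : p.IsHomLift α.symm.inv (asIso φ).inv := inferInstance
  exact h4

end Groth.Agent.FibFiberwise
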