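import Groth.Agent.FibFiberwise
set_option autoImplicit false
set_option backward.isDefEq.respectTransparency false
set_option backward.isDefEq.respectTransparency.types false
open CategoryTheory CategoryTheory.Functor CategoryTheory.Limits
universe v₄ u₄ v₃ u₃ v₂ u₂ v u

namespace Groth.Agent.FibFp
open Groth.Agent.FibEquiv Groth.Agent.FibFiberwise

variable {C : Type u} [Category.{v} C] {𝒳 : BasedCategory.{v₂, u₂} C} {𝒴 : BasedCategory.{v₃, u₃} C}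
  {𝒮 : BasedCategory.{v₄, u₄} C} (F : 𝒳 ⥤ᵇ 𝒮) (G : 𝒴 ⥤ᵇ 𝒮)

theorem lift_to {R S : C} (f : R ⟶ S) {a b : (FibCat.fp F G).obj} (m : a ⟶ b)
    (h : 𝒳.p.IsHomLift f m.hom.fst) : (FibCat.fp F G).p.IsHomLift f m :=
  IsHomLift.of_fac' _ f m (IsHomLift.domain_eq 𝒳.p f m.hom.fst) (IsHomLift.codomain_eq 𝒳.p f m.hom.fst)
    (IsHomLift.fac' 𝒳.p f m.hom.fst)

theorem lift_from {R S : C} (f : R ⟶ S) {a b : (FibCat.fp F G).obj} (m : a ⟶ b)
    (h : (FibCat.fp F G).p.IsHomLift f m) : 𝒳.p.IsHomLift f m.hom.fst :=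
  IsHomLift.of_fac' 𝒳.p f m.hom.fst (IsHomLift.domain_eq (FibCat.fp F G).p f m)
    (IsHomLift.codomain_eq (FibCat.fp F G).p f m) (IsHomLift.fac' (FibCat.fp F G).p f m)

theorem lift_from_snd {R S : C} (f : R ⟶ S) {a b : (FibCat.fp F G).obj} (m : a ⟶ b)
    (h : (FibCat.fp F G).p.IsHomLift f m) : 𝒴.p.IsHomLift f m.hom.snd := by
  cases h
  infer_instance

theorem iso_isHomLift (t : (FibCat.fp F G).obj) : 𝒮.p.IsHomLift (𝟙 (𝒳.p.obj t.obj.fst)) t.obj.iso.hom :=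
  t.property

theorem snd_obj (t : (FibCat.fp F G).obj) : 𝒴.p.obj t.obj.snd = 𝒳.p.obj t.obj.fst := by
  have := iso_isHomLift F G t
  exact (G.w_obj t.obj.snd).symm.trans (IsHomLift.codomain_eq 𝒮.p (𝟙 (𝒳.p.obj t.obj.fst)) t.obj.iso.hom)

theorem isStronglyCartesian_of_components {R S : C} (f : R ⟶ S) {t' t : (FibCat.fp F G).obj} (m : t' ⟶ t)
    (h1 : 𝒳.p.IsStronglyCartesian f m.hom.fst) (h2 : 𝒴.p.IsStronglyCartesian f m.hom.snd)
    (h3 : 𝒮.p.IsStronglyCartesian f (G.toFunctor.map m.hom.snd)) :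
    (FibCat.fp F G).p.IsStronglyCartesian f m := by
  have hR : 𝒳.p.obj t'.obj.fst = R := IsHomLift.domain_eq 𝒳.p f m.hom.fst
  subst hR
  refine { toIsHomLift := lift_to F G f m inferInstance, universal_property' := ?_ }
  intro t'' g₀ ψ hψ
  obtain ⟨g, hg⟩ : ∃ g : 𝒳.p.obj t''.obj.fst ⟶ 𝒳.p.obj t'.obj.fst, g = g₀ := ⟨g₀, rfl⟩
  subst hg
  have hψ1 : 𝒳.p.IsHomLift (g ≫ f) ψ.hom.fst := lift_from F G _ ψ hψ
  have hψ2 : 𝒴.p.IsHomLift (g ≫ f) ψ.hom.snd := lift_from_snd F G _ ψ hψ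
  obtain ⟨α', ⟨hα1, hα2⟩, hαu⟩ :=
    IsStronglyCartesian.universal_property (p := 𝒳.p) (f := f) (φ := m.hom.fst) g (g ≫ f) rfl ψ.hom.fst
  obtain ⟨β', ⟨hβ1, hβ2⟩, hβu⟩ :=
    IsStronglyCartesian.universal_property (p := 𝒴.p) (f := f) (φ := m.hom.snd) g (g ≫ f) rfl ψ.hom.snd
  have ht'' := iso_isHomLift F G t''
  have ht' := iso_isHomLift F G t'
  have ht := iso_isHomLift F G t
  have compat : F.toFunctor.map α' ≫ t'.obj.iso.hom = t''.obj.iso.hom ≫ G.toFunctor.map β' := by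
    have h4 : 𝒮.p.IsHomLift (g ≫ f) (t''.obj.iso.hom ≫ G.toFunctor.map ψ.hom.snd) := inferInstance
    obtain ⟨κ, -, hκ⟩ :=
      IsStronglyCartesian.universal_property (p := 𝒮.p) (f := f) (φ := G.toFunctor.map m.hom.snd) g
        (g ≫ f) rfl (t''.obj.iso.hom ≫ G.toFunctor.map ψ.hom.snd)
    have e1 : F.toFunctor.map α' ≫ t'.obj.iso.hom = κ := by
      apply hκ
      refine ⟨inferInstance, ?_⟩
      rw [Category.assoc, ← m.hom.w, ← Category.assoc, ← Functor.map_comp, hα2, ψ.hom.w]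
    have e2 : t''.obj.iso.hom ≫ G.toFunctor.map β' = κ := by
      apply hκ
      refine ⟨inferInstance, ?_⟩
      rw [Category.assoc, ← Functor.map_comp, hβ2]
    rw [e1, e2]
  let χ : t'' ⟶ t' := ObjectProperty.homMk ⟨α', β', compat⟩
  refine ⟨χ, ⟨lift_to F G g χ hα1, ?_⟩, ?_⟩
  · apply ObjectProperty.hom_ext
    apply CategoricalPullback.hom_ext
    · exact hα2
    · exact hβ2
  · rintro χ' ⟨hχ'1, hχ'2⟩
    apply ObjectProperty.hom_ext
    apply CategoricalPullback.hom_ext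
    · apply hαu
      refine ⟨lift_from F G g χ' hχ'1, ?_⟩
      exact congrArg (fun k => k.hom.fst) hχ'2
    · apply hβu
      refine ⟨lift_from_snd F G g χ' hχ'1, ?_⟩
      exact congrArg (fun k => k.hom.snd) hχ'2


theorem exists_lift [𝒳.p.IsFibered] [𝒴.p.IsFibered]
    (hF : ∀ {R S : C} (f : R ⟶ S) {a b : 𝒳.obj} (φ : a ⟶ b),
      𝒳.p.IsStronglyCartesian f φ → 𝒮.p.IsStronglyCartesian f (F.toFunctor.map φ))
    (hG : ∀ {R S : C} (f : R ⟶ S) {a b : 𝒴.obj} (φ : a ⟶ b),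
      𝒴.p.IsStronglyCartesian f φ → 𝒮.p.IsStronglyCartesian f (G.toFunctor.map φ))
    (t : (FibCat.fp F G).obj) {V : C} (f : V ⟶ 𝒳.p.obj t.obj.fst) :
    ∃ (t' : (FibCat.fp F G).obj) (m : t' ⟶ t), (FibCat.fp F G).p.IsStronglyCartesian f m := by
  obtain ⟨x', a, ha⟩ :=
    IsPreFibered.exists_isCartesian 𝒳.p (rfl : 𝒳.p.obj t.obj.fst = 𝒳.p.obj t.obj.fst) f
  obtain ⟨y', b, hb⟩ := IsPreFibered.exists_isCartesian 𝒴.p (snd_obj F G t) f
  have hasc : 𝒳.p.IsStronglyCartesian f a := inferInstance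
  have hbsc : 𝒴.p.IsStronglyCartesian f b := inferInstance
  have hFa : 𝒮.p.IsStronglyCartesian f (F.toFunctor.map a) := hF f a hasc
  have hGb : 𝒮.p.IsStronglyCartesian f (G.toFunctor.map b) := hG f b hbsc
  have ht := iso_isHomLift F G t
  have htinv : 𝒮.p.IsHomLift (𝟙 (𝒳.p.obj t.obj.fst)) t.obj.iso.inv := IsHomLift.lift_id_inv _ _ _
  have h1 : 𝒮.p.IsHomLift f (F.toFunctor.map a ≫ t.obj.iso.hom) := inferInstance
  have h2 : 𝒮.p.IsHomLift f (G.toFunctor.map b ≫ t.obj.iso.inv) := inferInstance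
  obtain ⟨θ', ⟨hθ'1, hθ'2⟩, -⟩ :=
    IsStronglyCartesian.universal_property (p := 𝒮.p) (f := f) (φ := G.toFunctor.map b) (𝟙 V) f
      (Category.id_comp f).symm (F.toFunctor.map a ≫ t.obj.iso.hom)
  obtain ⟨θ'', ⟨hθ''1, hθ''2⟩, -⟩ :=
    IsStronglyCartesian.universal_property (p := 𝒮.p) (f := f) (φ := F.toFunctor.map a) (𝟙 V) f
      (Category.id_comp f).symm (G.toFunctor.map b ≫ t.obj.iso.inv)
  have hV : 𝒳.p.obj x' = V := IsHomLift.domain_eq 𝒳.p f a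
  have hV' : 𝒴.p.obj y' = V := IsHomLift.domain_eq 𝒴.p f b
  have e1 : θ' ≫ θ'' = 𝟙 _ := by
    obtain ⟨ι, -, hι⟩ :=
      IsStronglyCartesian.universal_property (p := 𝒮.p) (f := f) (φ := F.toFunctor.map a) (𝟙 V) f
        (Category.id_comp f).symm (F.toFunctor.map a)
    have hid : 𝒮.p.IsHomLift (𝟙 V) (𝟙 (F.toFunctor.obj x')) := IsHomLift.id ((F.w_obj x').trans hV)
    rw [hι (θ' ≫ θ'') ⟨inferInstance, by
        rw [Category.assoc, hθ''2, ← Category.assoc, hθ'2]; simp⟩,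
      hι (𝟙 _) ⟨hid, by simp⟩]
  have e2 : θ'' ≫ θ' = 𝟙 _ := by
    obtain ⟨ι, -, hι⟩ :=
      IsStronglyCartesian.universal_property (p := 𝒮.p) (f := f) (φ := G.toFunctor.map b) (𝟙 V) f
        (Category.id_comp f).symm (G.toFunctor.map b)
    have hid : 𝒮.p.IsHomLift (𝟙 V) (𝟙 (G.toFunctor.obj y')) := IsHomLift.id ((G.w_obj y').trans hV')
    rw [hι (θ'' ≫ θ') ⟨inferInstance, by
        rw [Category.assoc, hθ'2, ← Category.assoc, hθ''2]; simp⟩,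
      hι (𝟙 _) ⟨hid, by simp⟩]
  have hprop : 𝒮.p.IsHomLift (𝟙 (𝒳.p.obj x')) θ' := isHomLift_of_eq 𝒮.p hV.symm θ'
  let t' : (FibCat.fp F G).obj := ⟨⟨x', y', ⟨θ', θ'', e1, e2⟩⟩, hprop⟩
  let m : t' ⟶ t := ObjectProperty.homMk ⟨a, b, hθ'2.symm⟩
  exact ⟨t', m, isStronglyCartesian_of_components F G f m hasc hbsc hGb⟩

theorem isFibered_fp [𝒳.p.IsFibered] [𝒴.p.IsFibered]
    (hF : ∀ {R S : C} (f : R ⟶ S) {a b : 𝒳.obj} (φ : a ⟶ b),
      𝒳.p.IsStronglyCartesian f φ → 𝒮.p.IsStronglyCartesian f (F.toFunctor.map φ))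
    (hG : ∀ {R S : C} (f : R ⟶ S) {a b : 𝒴.obj} (φ : a ⟶ b),
      𝒴.p.IsStronglyCartesian f φ → 𝒮.p.IsStronglyCartesian f (G.toFunctor.map φ)) :
    (FibCat.fp F G).p.IsFibered := by
  apply IsFibered.of_exists_isStronglyCartesian
  intro t V f₀
  obtain ⟨f, hf⟩ : ∃ f : V ⟶ 𝒳.p.obj t.obj.fst, f = f₀ := ⟨f₀, rfl⟩
  subst hf
  exact exists_lift F G hF hG t f


/-- In `C` over itself every morphism is strongly cartesian over any morphism it lifts. -/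
theorem selfOver_isStronglyCartesian {R S : C} (f : R ⟶ S) {a b : C} (φ : a ⟶ b)
    [h : (FibCat.selfOver C).p.IsHomLift f φ] : (FibCat.selfOver C).p.IsStronglyCartesian f φ := by
  cases h
  refine { toIsHomLift := inferInstance, universal_property' := ?_ }
  intro a' g φ' hφ'
  have e := IsHomLift.fac' (FibCat.selfOver C).p (g ≫ (FibCat.selfOver C).p.map φ) φ'
  simp at e
  refine ⟨g, ⟨IsHomLift.map (FibCat.selfOver C).p g, ?_⟩, ?_⟩
  · exact e.symm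
  · rintro χ ⟨h1, -⟩
    have e' := IsHomLift.fac' (FibCat.selfOver C).p g χ
    simp at e'
    exact e'

theorem isCartesian_of_components {R S : C} (f : R ⟶ S) {t' t : (FibCat.fp F G).obj} (m : t' ⟶ t)
    (h1 : 𝒳.p.IsCartesian f m.hom.fst) (h2 : 𝒴.p.IsCartesian f m.hom.snd)
    (h3 : 𝒮.p.IsCartesian f (G.toFunctor.map m.hom.snd)) :
    (FibCat.fp F G).p.IsCartesian f m := by
  have hR : 𝒳.p.obj t'.obj.fst = R := IsHomLift.domain_eq 𝒳.p f m.hom.fst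
  subst hR
  refine { toIsHomLift := lift_to F G f m inferInstance, universal_property := ?_ }
  intro t'' ψ hψ
  have hψ1 : 𝒳.p.IsHomLift f ψ.hom.fst := lift_from F G _ ψ hψ
  have hψ2 : 𝒴.p.IsHomLift f ψ.hom.snd := lift_from_snd F G _ ψ hψ
  obtain ⟨α', ⟨hα1, hα2⟩, hαu⟩ :=
    IsCartesian.universal_property (p := 𝒳.p) (f := f) (φ := m.hom.fst) ψ.hom.fst
  obtain ⟨β', ⟨hβ1, hβ2⟩, hβu⟩ :=
    IsCartesian.universal_property (p := 𝒴.p) (f := f) (φ := m.hom.snd) ψ.hom.snd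
  have ht'' := iso_isHomLift F G t''
  have ht' := iso_isHomLift F G t'
  have ht := iso_isHomLift F G t
  have hR'' : 𝒳.p.obj t''.obj.fst = 𝒳.p.obj t'.obj.fst := IsHomLift.domain_eq 𝒳.p f ψ.hom.fst
  have ht''R : 𝒮.p.IsHomLift (𝟙 (𝒳.p.obj t'.obj.fst)) t''.obj.iso.hom := isHomLift_of_eq 𝒮.p hR'' _
  have compat : F.toFunctor.map α' ≫ t'.obj.iso.hom = t''.obj.iso.hom ≫ G.toFunctor.map β' := by
    have h4 : 𝒮.p.IsHomLift f (t''.obj.iso.hom ≫ G.toFunctor.map ψ.hom.snd) := inferInstance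
    obtain ⟨κ, -, hκ⟩ :=
      IsCartesian.universal_property (p := 𝒮.p) (f := f) (φ := G.toFunctor.map m.hom.snd)
        (t''.obj.iso.hom ≫ G.toFunctor.map ψ.hom.snd)
    have e1 : F.toFunctor.map α' ≫ t'.obj.iso.hom = κ := by
      apply hκ
      refine ⟨inferInstance, ?_⟩
      rw [Category.assoc, ← m.hom.w, ← Category.assoc, ← Functor.map_comp, hα2, ψ.hom.w]
    have e2 : t''.obj.iso.hom ≫ G.toFunctor.map β' = κ := by
      apply hκ
      refine ⟨inferInstance, ?_⟩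
      rw [Category.assoc, ← Functor.map_comp, hβ2]
    rw [e1, e2]
  let χ : t'' ⟶ t' := ObjectProperty.homMk ⟨α', β', compat⟩
  refine ⟨χ, ⟨lift_to F G _ χ hα1, ?_⟩, ?_⟩
  · apply ObjectProperty.hom_ext
    apply CategoricalPullback.hom_ext
    · exact hα2
    · exact hβ2
  · rintro χ' ⟨hχ'1, hχ'2⟩
    apply ObjectProperty.hom_ext
    apply CategoricalPullback.hom_ext
    · apply hαu
      refine ⟨lift_from F G _ χ' hχ'1, ?_⟩
      exact congrArg (fun k => k.hom.fst) hχ'2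
    · apply hβu
      refine ⟨lift_from_snd F G _ χ' hχ'1, ?_⟩
      exact congrArg (fun k => k.hom.snd) hχ'2


theorem exists_iso_of_lifts (t : (FibCat.fp F G).obj) {V : C} (f : V ⟶ 𝒳.p.obj t.obj.fst)
    {x' : 𝒳.obj} (a : x' ⟶ t.obj.fst) {y' : 𝒴.obj} (b : y' ⟶ t.obj.snd)
    [𝒳.p.IsHomLift f a] [𝒴.p.IsHomLift f b]
    (hFa : 𝒮.p.IsStronglyCartesian f (F.toFunctor.map a))
    (hGb : 𝒮.p.IsStronglyCartesian f (G.toFunctor.map b)) :
    ∃ θ' : F.toFunctor.obj x' ≅ G.toFunctor.obj y', 𝒮.p.IsHomLift (𝟙 (𝒳.p.obj x')) θ'.hom ∧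
      F.toFunctor.map a ≫ t.obj.iso.hom = θ'.hom ≫ G.toFunctor.map b := by
  have ht := iso_isHomLift F G t
  have htinv : 𝒮.p.IsHomLift (𝟙 (𝒳.p.obj t.obj.fst)) t.obj.iso.inv := IsHomLift.lift_id_inv _ _ _
  have h1 : 𝒮.p.IsHomLift f (F.toFunctor.map a ≫ t.obj.iso.hom) := inferInstance
  have h2 : 𝒮.p.IsHomLift f (G.toFunctor.map b ≫ t.obj.iso.inv) := inferInstance
  obtain ⟨θ', ⟨hθ'1, hθ'2⟩, -⟩ :=
    IsStronglyCartesian.universal_property (p := 𝒮.p) (f := f) (φ := G.toFunctor.map b) (𝟙 V) f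
      (Category.id_comp f).symm (F.toFunctor.map a ≫ t.obj.iso.hom)
  obtain ⟨θ'', ⟨hθ''1, hθ''2⟩, -⟩ :=
    IsStronglyCartesian.universal_property (p := 𝒮.p) (f := f) (φ := F.toFunctor.map a) (𝟙 V) f
      (Category.id_comp f).symm (G.toFunctor.map b ≫ t.obj.iso.inv)
  have hV : 𝒳.p.obj x' = V := IsHomLift.domain_eq 𝒳.p f a
  have hV' : 𝒴.p.obj y' = V := IsHomLift.domain_eq 𝒴.p f b
  have e1 : θ' ≫ θ'' = 𝟙 _ := by
    obtain ⟨ι, -, hι⟩ :=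
      IsStronglyCartesian.universal_property (p := 𝒮.p) (f := f) (φ := F.toFunctor.map a) (𝟙 V) f
        (Category.id_comp f).symm (F.toFunctor.map a)
    have hid : 𝒮.p.IsHomLift (𝟙 V) (𝟙 (F.toFunctor.obj x')) := IsHomLift.id ((F.w_obj x').trans hV)
    rw [hι (θ' ≫ θ'') ⟨inferInstance, by
        rw [Category.assoc, hθ''2, ← Category.assoc, hθ'2]; simp⟩,
      hι (𝟙 _) ⟨hid, by simp⟩]
  have e2 : θ'' ≫ θ' = 𝟙 _ := by
    obtain ⟨ι, -, hι⟩ :=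
      IsStronglyCartesian.universal_property (p := 𝒮.p) (f := f) (φ := G.toFunctor.map b) (𝟙 V) f
        (Category.id_comp f).symm (G.toFunctor.map b)
    have hid : 𝒮.p.IsHomLift (𝟙 V) (𝟙 (G.toFunctor.obj y')) := IsHomLift.id ((G.w_obj y').trans hV')
    rw [hι (θ'' ≫ θ') ⟨inferInstance, by
        rw [Category.assoc, hθ'2, ← Category.assoc, hθ''2]; simp⟩,
      hι (𝟙 _) ⟨hid, by simp⟩]
  exact ⟨⟨θ', θ'', e1, e2⟩, isHomLift_of_eq 𝒮.p hV.symm θ', hθ'2.symm⟩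

/-- prefibred case over `C` itself -/
theorem isPreFibered_fp_toSelf {𝒳 : BasedCategory.{v₂, u₂} C} {𝒴 : BasedCategory.{v₃, u₃} C}
    [𝒳.p.IsPreFibered] [𝒴.p.IsPreFibered] :
    (FibCat.fp (FibCat.toSelf 𝒳) (FibCat.toSelf 𝒴)).p.IsPreFibered := by
  constructor
  intro t V f₀
  obtain ⟨f, hf⟩ : ∃ f : V ⟶ 𝒳.p.obj t.obj.fst, f = f₀ := ⟨f₀, rfl⟩
  subst hf
  obtain ⟨x', a, ha⟩ :=
    IsPreFibered.exists_isCartesian 𝒳.p (rfl : 𝒳.p.obj t.obj.fst = 𝒳.p.obj t.obj.fst) f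
  obtain ⟨y', b, hb⟩ := IsPreFibered.exists_isCartesian 𝒴.p (snd_obj _ _ t) f
  have hFa : (FibCat.selfOver C).p.IsStronglyCartesian f ((FibCat.toSelf 𝒳).toFunctor.map a) :=
    selfOver_isStronglyCartesian f _
  have hGb : (FibCat.selfOver C).p.IsStronglyCartesian f ((FibCat.toSelf 𝒴).toFunctor.map b) :=
    selfOver_isStronglyCartesian f _
  obtain ⟨θ', hprop, w⟩ := exists_iso_of_lifts (FibCat.toSelf 𝒳) (FibCat.toSelf 𝒴) t f a b hFa hGb
  let t' : (FibCat.fp (FibCat.toSelf 𝒳) (FibCat.toSelf 𝒴)).obj := ⟨⟨x', y', θ'⟩, hprop⟩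
  let m : t' ⟶ t := ObjectProperty.homMk ⟨a, b, w⟩
  have hGb' : (FibCat.selfOver C).p.IsCartesian f ((FibCat.toSelf 𝒴).toFunctor.map m.hom.snd) :=
    inferInstanceAs ((FibCat.selfOver C).p.IsCartesian f ((FibCat.toSelf 𝒴).toFunctor.map b))
  exact ⟨t', m, isCartesian_of_components _ _ f m ha hb hGb'⟩


theorem fst_isCartesian_of_isCartesian
    (hS : ∀ {R S : C} (f : R ⟶ S) {a b : 𝒮.obj} (φ : a ⟶ b), 𝒮.p.IsHomLift f φ → 𝒮.p.IsStronglyCartesian f φ)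
    {R S : C} (f : R ⟶ S) {t' t : (FibCat.fp F G).obj} (m : t' ⟶ t)
    (h : (FibCat.fp F G).p.IsCartesian f m) : 𝒳.p.IsCartesian f m.hom.fst := by
  have hm1 : 𝒳.p.IsHomLift f m.hom.fst := lift_from F G f m inferInstance
  have hm2 : 𝒴.p.IsHomLift f m.hom.snd := lift_from_snd F G f m inferInstance
  have hS' : 𝒳.p.obj t.obj.fst = S := IsHomLift.codomain_eq 𝒳.p f m.hom.fst
  subst hS'
  refine { toIsHomLift := hm1, universal_property := ?_ }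
  intro x'' α hα
  have hFα : 𝒮.p.IsStronglyCartesian f (F.toFunctor.map α) := hS f _ inferInstance
  have hGb : 𝒮.p.IsStronglyCartesian f (G.toFunctor.map m.hom.snd) := hS f _ inferInstance
  obtain ⟨θ'', hprop, w⟩ := exists_iso_of_lifts F G t f α m.hom.snd hFα hGb
  let t'' : (FibCat.fp F G).obj := ⟨⟨x'', t'.obj.snd, θ''⟩, hprop⟩
  let ψ : t'' ⟶ t := ObjectProperty.homMk ⟨α, m.hom.snd, w⟩
  have hψ : (FibCat.fp F G).p.IsHomLift f ψ := lift_to F G f ψ hα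
  obtain ⟨χ, ⟨hχ1, hχ2⟩, hχu⟩ :=
    IsCartesian.universal_property (p := (FibCat.fp F G).p) (f := f) (φ := m) ψ
  have hχfst : χ.hom.fst ≫ m.hom.fst = α := congrArg (fun k => k.hom.fst) hχ2
  have hχsnd : χ.hom.snd ≫ m.hom.snd = m.hom.snd := congrArg (fun k => k.hom.snd) hχ2
  refine ⟨χ.hom.fst, ⟨lift_from F G _ χ hχ1, hχfst⟩, ?_⟩
  rintro α₁ ⟨hα₁1, hα₁2⟩
  have ht' := iso_isHomLift F G t'
  have hR : 𝒳.p.obj t'.obj.fst = R := IsHomLift.domain_eq 𝒳.p f m.hom.fst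
  have ht'R : 𝒮.p.IsHomLift (𝟙 R) t'.obj.iso.hom := isHomLift_of_eq 𝒮.p hR _
  have hR'' : 𝒳.p.obj x'' = R := IsHomLift.domain_eq 𝒳.p f α
  have hθ''R : 𝒮.p.IsHomLift (𝟙 R) θ''.hom := isHomLift_of_eq 𝒮.p hR'' _
  have hχsndl : 𝒴.p.IsHomLift (𝟙 R) χ.hom.snd := lift_from_snd F G _ χ hχ1
  have w₁ : F.toFunctor.map α₁ ≫ t'.obj.iso.hom = t''.obj.iso.hom ≫ G.toFunctor.map χ.hom.snd := by
    have h4 : 𝒮.p.IsHomLift f (θ''.hom ≫ G.toFunctor.map m.hom.snd) := inferInstance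
    obtain ⟨κ, -, hκ⟩ :=
      IsStronglyCartesian.universal_property (p := 𝒮.p) (f := f) (φ := G.toFunctor.map m.hom.snd)
        (𝟙 R) f (Category.id_comp f).symm (θ''.hom ≫ G.toFunctor.map m.hom.snd)
    have e1 : F.toFunctor.map α₁ ≫ t'.obj.iso.hom = κ := by
      apply hκ
      refine ⟨inferInstance, ?_⟩
      rw [Category.assoc, ← m.hom.w, ← Category.assoc, ← Functor.map_comp, hα₁2, w]
    have e2 : θ''.hom ≫ G.toFunctor.map χ.hom.snd = κ := by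
      apply hκ
      refine ⟨inferInstance, ?_⟩
      rw [Category.assoc, ← Functor.map_comp, hχsnd]
    exact e1.trans e2.symm
  let χ₁ : t'' ⟶ t' := ObjectProperty.homMk ⟨α₁, χ.hom.snd, w₁⟩
  have : χ₁ = χ := by
    apply hχu
    refine ⟨lift_to F G _ χ₁ hα₁1, ?_⟩
    apply ObjectProperty.hom_ext
    apply CategoricalPullback.hom_ext
    · exact hα₁2
    · exact hχsnd
  exact congrArg (fun k => k.hom.fst) this


theorem snd_isCartesian_of_isCartesian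
    (hS : ∀ {R S : C} (f : R ⟶ S) {a b : 𝒮.obj} (φ : a ⟶ b), 𝒮.p.IsHomLift f φ → 𝒮.p.IsStronglyCartesian f φ)
    {R S : C} (f : R ⟶ S) {t' t : (FibCat.fp F G).obj} (m : t' ⟶ t)
    (h : (FibCat.fp F G).p.IsCartesian f m) : 𝒴.p.IsCartesian f m.hom.snd := by
  have hm1 : 𝒳.p.IsHomLift f m.hom.fst := lift_from F G f m inferInstance
  have hm2 : 𝒴.p.IsHomLift f m.hom.snd := lift_from_snd F G f m inferInstance
  have hS' : 𝒳.p.obj t.obj.fst = S := IsHomLift.codomain_eq 𝒳.p f m.hom.fst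
  subst hS'
  refine { toIsHomLift := hm2, universal_property := ?_ }
  intro y'' β hβ
  have hFa : 𝒮.p.IsStronglyCartesian f (F.toFunctor.map m.hom.fst) := hS f _ inferInstance
  have hGβ : 𝒮.p.IsStronglyCartesian f (G.toFunctor.map β) := hS f _ inferInstance
  have hGb : 𝒮.p.IsStronglyCartesian f (G.toFunctor.map m.hom.snd) := hS f _ inferInstance
  obtain ⟨θ'', hprop, w⟩ := exists_iso_of_lifts F G t f m.hom.fst β hFa hGβ
  let t'' : (FibCat.fp F G).obj := ⟨⟨t'.obj.fst, y'', θ''⟩, hprop⟩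
  let ψ : t'' ⟶ t := ObjectProperty.homMk ⟨m.hom.fst, β, w⟩
  have hψ : (FibCat.fp F G).p.IsHomLift f ψ := lift_to F G f ψ hm1
  obtain ⟨χ, ⟨hχ1, hχ2⟩, hχu⟩ :=
    IsCartesian.universal_property (p := (FibCat.fp F G).p) (f := f) (φ := m) ψ
  have hχfst : χ.hom.fst ≫ m.hom.fst = m.hom.fst := congrArg (fun k => k.hom.fst) hχ2
  have hχsnd : χ.hom.snd ≫ m.hom.snd = β := congrArg (fun k => k.hom.snd) hχ2
  refine ⟨χ.hom.snd, ⟨lift_from_snd F G _ χ hχ1, hχsnd⟩, ?_⟩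
  rintro β₁ ⟨hβ₁1, hβ₁2⟩
  have ht' := iso_isHomLift F G t'
  have hR : 𝒳.p.obj t'.obj.fst = R := IsHomLift.domain_eq 𝒳.p f m.hom.fst
  have ht'R : 𝒮.p.IsHomLift (𝟙 R) t'.obj.iso.hom := isHomLift_of_eq 𝒮.p hR _
  have hθ''R : 𝒮.p.IsHomLift (𝟙 R) θ''.hom := isHomLift_of_eq 𝒮.p hR _
  have hχfstl : 𝒳.p.IsHomLift (𝟙 R) χ.hom.fst := lift_from F G _ χ hχ1
  have w₁ : F.toFunctor.map χ.hom.fst ≫ t'.obj.iso.hom = t''.obj.iso.hom ≫ G.toFunctor.map β₁ := by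
    have h4 : 𝒮.p.IsHomLift f (θ''.hom ≫ G.toFunctor.map β) := inferInstance
    obtain ⟨κ, -, hκ⟩ :=
      IsStronglyCartesian.universal_property (p := 𝒮.p) (f := f) (φ := G.toFunctor.map m.hom.snd)
        (𝟙 R) f (Category.id_comp f).symm (θ''.hom ≫ G.toFunctor.map β)
    have e1 : F.toFunctor.map χ.hom.fst ≫ t'.obj.iso.hom = κ := by
      apply hκ
      refine ⟨inferInstance, ?_⟩
      rw [Category.assoc, ← m.hom.w, ← Category.assoc, ← Functor.map_comp, hχfst, w]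
    have e2 : θ''.hom ≫ G.toFunctor.map β₁ = κ := by
      apply hκ
      refine ⟨inferInstance, ?_⟩
      rw [Category.assoc, ← Functor.map_comp, hβ₁2]
    exact e1.trans e2.symm
  let χ₁ : t'' ⟶ t' := ObjectProperty.homMk ⟨χ.hom.fst, β₁, w₁⟩
  have : χ₁ = χ := by
    apply hχu
    refine ⟨lift_to F G _ χ₁ hχfstl, ?_⟩
    apply ObjectProperty.hom_ext
    apply CategoricalPullback.hom_ext
    · exact hχfst
    · exact hβ₁2
  exact congrArg (fun k => k.hom.snd) this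

theorem isCartesian_of_isHomLift {𝒵 : Type u₂} [Category.{v₂} 𝒵] (p : 𝒵 ⥤ C) {a b : 𝒵} (φ : a ⟶ b)
    (h : p.IsCartesian (p.map φ) φ) {R S : C} (f : R ⟶ S) [hf : p.IsHomLift f φ] :
    p.IsCartesian f φ := by
  cases hf
  exact h

theorem isCartesian_map_of {𝒵 : Type u₂} [Category.{v₂} 𝒵] (p : 𝒵 ⥤ C) {a b : 𝒵} (φ : a ⟶ b)
    {R S : C} (f : R ⟶ S) [h : p.IsCartesian f φ] :
    p.IsCartesian (p.map φ) φ := by
  have hf : p.IsHomLift f φ := inferInstance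
  cases hf
  exact h

end Groth.Agent.FibFp
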