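import Groth.Agent.FibOver
set_option autoImplicit false
set_option backward.isDefEq.respectTransparency false
set_option backward.isDefEq.respectTransparency.types false
open CategoryTheory CategoryTheory.Functor CategoryTheory.Limits
universe v₅ u₅ v₄ u₄ v₃ u₃ v₂ u₂ v u

namespace Groth.Agent.FibFpProj
open Groth.Agent.FibEquiv Groth.Agent.FibFiberwise Groth.Agent.FibFp

section general
variable {C : Type u} [Category.{v} C] {𝒳 : Type u₂} [Category.{v₂} 𝒳] {𝒵 : Type u₃} [Category.{v₃} 𝒵]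

/-- If `m` is strongly cartesian for `q ⋙ p` and `q m` is strongly cartesian for `p`, then `m` is strongly
cartesian for `q`. -/
theorem isStronglyCartesian_of_comp (q : 𝒵 ⥤ 𝒳) (p : 𝒳 ⥤ C) (r : 𝒵 ⥤ C) (hr : q ⋙ p = r) {t' t : 𝒵} (m : t' ⟶ t)
    (h1 : r.IsStronglyCartesian (r.map m) m)
    (h2 : p.IsStronglyCartesian (p.map (q.map m)) (q.map m)) :
    q.IsStronglyCartesian (q.map m) m := by
  subst hr
  refine { toIsHomLift := inferInstance, universal_property' := ?_ }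
  intro t'' α ψ hψ
  have hψ' : q.map ψ = α ≫ q.map m := by
    have := IsHomLift.fac' q (α ≫ q.map m) ψ
    simpa using this
  have hψ2 : (q ⋙ p).IsHomLift (p.map α ≫ (q ⋙ p).map m) ψ := by
    apply IsHomLift.of_fac' _ _ _ rfl rfl
    simp [hψ']
  obtain ⟨χ, ⟨hχ1, hχ2⟩, hχu⟩ :=
    IsStronglyCartesian.universal_property (p := q ⋙ p) (f := (q ⋙ p).map m) (φ := m) (p.map α) _ rfl ψ
  have hχfac : p.map (q.map χ) = p.map α := by
    have := IsHomLift.fac' (q ⋙ p) (p.map α) χ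
    simpa using this
  have hqχ : q.map χ = α := by
    have hψ3 : p.IsHomLift (p.map α ≫ p.map (q.map m)) (q.map ψ) := by
      apply IsHomLift.of_fac' _ _ _ rfl rfl
      simp [hψ']
    obtain ⟨κ, -, hκ⟩ :=
      IsStronglyCartesian.universal_property (p := p) (f := p.map (q.map m)) (φ := q.map m) (p.map α) _ rfl
        (q.map ψ)
    have e1 : q.map χ = κ := by
      apply hκ
      refine ⟨?_, by rw [← q.map_comp, hχ2]⟩
      exact IsHomLift.of_fac' _ _ _ rfl rfl (by simp [hχfac])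
    have e2 : α = κ := by
      apply hκ
      exact ⟨inferInstance, hψ'.symm⟩
    rw [e1, e2]
  refine ⟨χ, ⟨?_, hχ2⟩, ?_⟩
  · exact IsHomLift.of_fac' _ _ _ rfl rfl (by simp [hqχ])
  · rintro χ' ⟨hχ'1, hχ'2⟩
    apply hχu
    refine ⟨?_, hχ'2⟩
    have : q.map χ' = α := by
      have := IsHomLift.fac' q α χ'
      simpa using this
    exact IsHomLift.of_fac' _ _ _ rfl rfl (by simp [this])

end general


section fp
variable {C : Type u} [Category.{v} C] {𝒳 : BasedCategory.{v₂, u₂} C} {𝒴 : BasedCategory.{v₃, u₃} C}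
  {𝒮 : BasedCategory.{v₄, u₄} C} (F : 𝒳 ⥤ᵇ 𝒮) (G : 𝒴 ⥤ᵇ 𝒮)

theorem exists_lift_of_eq {𝒵 : Type u₅} [Category.{v₅} 𝒵] (p : 𝒵 ⥤ C) (h : FibCat.IsFibGrpd p) {x : 𝒵} {V S : C}
    (hS : p.obj x = S) (f : V ⟶ S) : ∃ (y : 𝒵) (φ : y ⟶ x), p.IsHomLift f φ := by
  subst hS
  exact h.exists_lift f

theorem isStronglyCartesian_of_isFibGrpd {𝒵 : Type u₅} [Category.{v₅} 𝒵] (p : 𝒵 ⥤ C) (h : FibCat.IsFibGrpd p)
    {R S : C} (f : R ⟶ S) {y x : 𝒵} (φ : y ⟶ x) [p.IsHomLift f φ] : p.IsStronglyCartesian f φ :=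
  isStronglyCartesian_of_isHomLift p _ (h.isStronglyCartesian _) f

theorem exists_lift_fpFst (h𝒴 : FibCat.IsFibGrpd 𝒴.p) (h𝒮 : FibCat.IsFibGrpd 𝒮.p)
    (t : (FibCat.fp F G).obj) {x' : 𝒳.obj} (a : x' ⟶ t.obj.fst) :
    ∃ (t' : (FibCat.fp F G).obj) (m : t' ⟶ t), (FibCat.fpFst F G).toFunctor.IsHomLift a m := by
  obtain ⟨y', b, hb⟩ := exists_lift_of_eq 𝒴.p h𝒴 (snd_obj F G t) (𝒳.p.map a)
  have hFa : 𝒮.p.IsStronglyCartesian (𝒳.p.map a) (F.toFunctor.map a) :=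
    isStronglyCartesian_of_isFibGrpd 𝒮.p h𝒮 _ _
  have hGb : 𝒮.p.IsStronglyCartesian (𝒳.p.map a) (G.toFunctor.map b) :=
    isStronglyCartesian_of_isFibGrpd 𝒮.p h𝒮 _ _
  obtain ⟨θ', hθ'1, hθ'2⟩ := exists_iso_of_lifts F G t (𝒳.p.map a) a b hFa hGb
  let t' : (FibCat.fp F G).obj := ⟨⟨x', y', θ'⟩, hθ'1⟩
  let m : t' ⟶ t := ObjectProperty.homMk ⟨a, b, hθ'2⟩
  refine ⟨t', m, ?_⟩
  exact IsHomLift.of_fac' _ _ _ rfl rfl (by simp [m, FibCat.fpFst])

theorem exists_lift_fpSnd (h𝒳 : FibCat.IsFibGrpd 𝒳.p) (h𝒮 : FibCat.IsFibGrpd 𝒮.p)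
    (t : (FibCat.fp F G).obj) {y' : 𝒴.obj} (b : y' ⟶ t.obj.snd) :
    ∃ (t' : (FibCat.fp F G).obj) (m : t' ⟶ t), (FibCat.fpSnd F G).toFunctor.IsHomLift b m := by
  have hb : 𝒴.p.IsHomLift (𝒴.p.map b ≫ eqToHom (snd_obj F G t)) b :=
    IsHomLift.of_fac' _ _ _ rfl (snd_obj F G t) (by simp)
  obtain ⟨x', a, ha⟩ := h𝒳.exists_lift (𝒴.p.map b ≫ eqToHom (snd_obj F G t))
  have hFa : 𝒮.p.IsStronglyCartesian (𝒴.p.map b ≫ eqToHom (snd_obj F G t)) (F.toFunctor.map a) :=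
    isStronglyCartesian_of_isFibGrpd 𝒮.p h𝒮 _ _
  have hGb : 𝒮.p.IsStronglyCartesian (𝒴.p.map b ≫ eqToHom (snd_obj F G t)) (G.toFunctor.map b) :=
    isStronglyCartesian_of_isFibGrpd 𝒮.p h𝒮 _ _
  obtain ⟨θ', hθ'1, hθ'2⟩ := exists_iso_of_lifts F G t _ a b hFa hGb
  let t' : (FibCat.fp F G).obj := ⟨⟨x', y', θ'⟩, hθ'1⟩
  let m : t' ⟶ t := ObjectProperty.homMk ⟨a, b, hθ'2⟩
  refine ⟨t', m, ?_⟩
  exact IsHomLift.of_fac' _ _ _ rfl rfl (by simp [m, FibCat.fpSnd])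

theorem isFibGrpd_selfOver : FibCat.IsFibGrpd (FibCat.selfOver C).p := by
  refine ⟨fun {x V} f => ⟨V, f, IsHomLift.of_fac' _ _ _ rfl rfl (by simp; rfl)⟩, fun {y x} φ => ?_⟩
  exact selfOver_isStronglyCartesian (C := C) _ φ

/-- universe-general version of S6401 -/
theorem isFibGrpd_fp (h𝒳 : FibCat.IsFibGrpd 𝒳.p) (h𝒴 : FibCat.IsFibGrpd 𝒴.p) (h𝒮 : FibCat.IsFibGrpd 𝒮.p) :
    FibCat.IsFibGrpd (FibCat.fp F G).p := by
  have h𝒳f : 𝒳.p.IsFibered := isFibered_of_isFibGrpd 𝒳.p h𝒳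
  have h𝒴f : 𝒴.p.IsFibered := isFibered_of_isFibGrpd 𝒴.p h𝒴
  have hF : ∀ {R S : C} (f : R ⟶ S) {a b : 𝒳.obj} (φ : a ⟶ b),
      𝒳.p.IsStronglyCartesian f φ → 𝒮.p.IsStronglyCartesian f (F.toFunctor.map φ) := by
    intro R S f a b φ h
    exact isStronglyCartesian_of_isHomLift 𝒮.p _ (h𝒮.isStronglyCartesian _) f
  have hG : ∀ {R S : C} (f : R ⟶ S) {a b : 𝒴.obj} (φ : a ⟶ b),
      𝒴.p.IsStronglyCartesian f φ → 𝒮.p.IsStronglyCartesian f (G.toFunctor.map φ) := by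
    intro R S f a b φ h
    exact isStronglyCartesian_of_isHomLift 𝒮.p _ (h𝒮.isStronglyCartesian _) f
  refine ⟨?_, ?_⟩
  · intro t V f₀
    obtain ⟨f, hf⟩ : ∃ f : V ⟶ 𝒳.p.obj t.obj.fst, f = f₀ := ⟨f₀, rfl⟩
    subst hf
    obtain ⟨t', m, hm⟩ := exists_lift F G hF hG t f
    exact ⟨t', m, inferInstance⟩
  · intro t' t m
    have h1 : 𝒳.p.IsStronglyCartesian (𝒳.p.map m.hom.fst) m.hom.fst := h𝒳.isStronglyCartesian _
    have hl : 𝒴.p.IsHomLift (𝒳.p.map m.hom.fst) m.hom.snd := FibCat.fp_isHomLift_snd F G m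
    have h2 : 𝒴.p.IsStronglyCartesian (𝒳.p.map m.hom.fst) m.hom.snd :=
      isStronglyCartesian_of_isHomLift 𝒴.p _ (h𝒴.isStronglyCartesian _) _
    have h3 : 𝒮.p.IsStronglyCartesian (𝒳.p.map m.hom.fst) (G.toFunctor.map m.hom.snd) :=
      isStronglyCartesian_of_isHomLift 𝒮.p _ (h𝒮.isStronglyCartesian _) _
    exact isStronglyCartesian_of_components F G (𝒳.p.map m.hom.fst) m h1 h2 h3

/-- the first projection of the 2-fibre product of categories fibred in groupoids is fibred in groupoids -/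
theorem isFibGrpd_fpFst (h𝒳 : FibCat.IsFibGrpd 𝒳.p) (h𝒴 : FibCat.IsFibGrpd 𝒴.p) (h𝒮 : FibCat.IsFibGrpd 𝒮.p) :
    FibCat.IsFibGrpd (FibCat.fpFst F G).toFunctor := by
  have hfp := isFibGrpd_fp F G h𝒳 h𝒴 h𝒮
  refine ⟨fun {t x'} a => exists_lift_fpFst F G h𝒴 h𝒮 t a, fun {t' t} m => ?_⟩
  exact isStronglyCartesian_of_comp (FibCat.fpFst F G).toFunctor 𝒳.p (FibCat.fp F G).p rfl m
    (hfp.isStronglyCartesian m) (h𝒳.isStronglyCartesian _)

/-- the second projection of the 2-fibre product of categories fibred in groupoids is fibred in groupoids -/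
theorem isFibGrpd_fpSnd (h𝒳 : FibCat.IsFibGrpd 𝒳.p) (h𝒴 : FibCat.IsFibGrpd 𝒴.p) (h𝒮 : FibCat.IsFibGrpd 𝒮.p) :
    FibCat.IsFibGrpd (FibCat.fpSnd F G).toFunctor := by
  have hfp := isFibGrpd_fp F G h𝒳 h𝒴 h𝒮
  refine ⟨fun {t y'} b => exists_lift_fpSnd F G h𝒳 h𝒮 t b, fun {t' t} m => ?_⟩
  exact isStronglyCartesian_of_comp (FibCat.fpSnd F G).toFunctor 𝒴.p (FibCat.fp F G).p (FibCat.fpSnd F G).w m
    (hfp.isStronglyCartesian m) (h𝒴.isStronglyCartesian _)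

/-- the fibres of the first projection are thin when `G` is faithful -/
theorem thin_fiber_fpFst [G.toFunctor.Faithful] (a : 𝒳.obj) :
    Quiver.IsThin ((FibCat.fpFst F G).toFunctor.Fiber a) := by
  refine fun s s' => ⟨fun m m' => ?_⟩
  apply Functor.Fiber.hom_ext
  have hm : (FibCat.fpFst F G).toFunctor.IsHomLift (𝟙 a) (Functor.Fiber.fiberInclusion.map m) := inferInstance
  have hm' : (FibCat.fpFst F G).toFunctor.IsHomLift (𝟙 a) (Functor.Fiber.fiberInclusion.map m') := inferInstance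
  generalize (Functor.Fiber.fiberInclusion.map m) = n at hm
  generalize (Functor.Fiber.fiberInclusion.map m') = n' at hm'
  have e1 := IsHomLift.fac' (FibCat.fpFst F G).toFunctor (𝟙 a) n
  have e2 := IsHomLift.fac' (FibCat.fpFst F G).toFunctor (𝟙 a) n'
  have hfst : n.hom.fst = n'.hom.fst := by
    change (FibCat.fpFst F G).toFunctor.map n = (FibCat.fpFst F G).toFunctor.map n'
    rw [e1, e2]
  have hsnd : n.hom.snd = n'.hom.snd := by
    apply G.toFunctor.map_injective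
    have w := n.hom.w
    have w' := n'.hom.w
    rw [hfst] at w
    rw [← cancel_epi (Functor.Fiber.fiberInclusion.obj s).obj.iso.hom, ← w, ← w']
  apply ObjectProperty.hom_ext
  apply CategoricalPullback.hom_ext
  · exact hfst
  · exact hsnd


theorem diag_faithful : (FibCat.diag F).toFunctor.Faithful := by
  refine ⟨fun {a b} g g' h => ?_⟩
  have := congrArg (fun k => k.hom.fst) h
  exact this

end fp

end Groth.Agent.FibFpProj
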