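import Groth.Agent.FibFiberwise
set_option autoImplicit false
set_option backward.isDefEq.respectTransparency false
set_option backward.isDefEq.respectTransparency.types false
open CategoryTheory CategoryTheory.Functor CategoryTheory.Limits
universe v₃ u₃ v₂ u₂ v u

namespace Groth.Agent.FibInertia
open Groth.Agent.FibEquiv Groth.Agent.FibFiberwise

variable {C : Type u} [Category.{v} C] {𝒳 : BasedCategory.{v₂, u₂} C} {𝒴 : BasedCategory.{v₃, u₃} C}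
  (F : 𝒳 ⥤ᵇ 𝒴)

theorem aut_isHomLift (x : (FibCat.inertia F).obj) : 𝒳.p.IsHomLift (𝟙 (𝒳.p.obj x.pt)) x.aut.hom := by
  have h1 : 𝒴.p.IsHomLift (𝟙 (𝒳.p.obj x.pt)) (F.toFunctor.map x.aut.hom) := by
    have : F.toFunctor.map x.aut.hom = 𝟙 (F.toFunctor.obj x.pt) := x.map_aut
    rw [this]; infer_instance
  exact F.isHomLift_map _ _

theorem lift_to {R S : C} (f : R ⟶ S) {a b : (FibCat.inertia F).obj} (m : a ⟶ b)
    (h : 𝒳.p.IsHomLift f m.hom) : (FibCat.inertia F).p.IsHomLift f m :=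
  IsHomLift.of_fac' _ f m (IsHomLift.domain_eq 𝒳.p f m.hom) (IsHomLift.codomain_eq 𝒳.p f m.hom)
    (IsHomLift.fac' 𝒳.p f m.hom)

theorem lift_from {R S : C} (f : R ⟶ S) {a b : (FibCat.inertia F).obj} (m : a ⟶ b)
    (h : (FibCat.inertia F).p.IsHomLift f m) : 𝒳.p.IsHomLift f m.hom :=
  IsHomLift.of_fac' 𝒳.p f m.hom (IsHomLift.domain_eq (FibCat.inertia F).p f m)
    (IsHomLift.codomain_eq (FibCat.inertia F).p f m) (IsHomLift.fac' (FibCat.inertia F).p f m)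

theorem isStronglyCartesian_of_hom {R S : C} (f : R ⟶ S) {y x : (FibCat.inertia F).obj} (m : y ⟶ x)
    [hsc : 𝒳.p.IsStronglyCartesian f m.hom] : (FibCat.inertia F).p.IsStronglyCartesian f m := by
  have hR : 𝒳.p.obj y.pt = R := IsHomLift.domain_eq 𝒳.p f m.hom
  subst hR
  refine { toIsHomLift := lift_to F f m inferInstance, universal_property' := ?_ }
  intro z g₀ ψ hψ
  obtain ⟨g, hg⟩ : ∃ g : 𝒳.p.obj z.pt ⟶ 𝒳.p.obj y.pt, g = g₀ := ⟨g₀, rfl⟩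
  subst hg
  have hψ' : 𝒳.p.IsHomLift (g ≫ f) ψ.hom := lift_from F _ ψ hψ
  obtain ⟨χ₀, ⟨hχ1, hχ2⟩, huniq⟩ :=
    IsStronglyCartesian.universal_property (p := 𝒳.p) (f := f) (φ := m.hom) g (g ≫ f) rfl ψ.hom
  have hz := aut_isHomLift F z
  have hy := aut_isHomLift F y
  have hx := aut_isHomLift F x
  have hS : 𝒳.p.obj x.pt = S := IsHomLift.codomain_eq 𝒳.p f m.hom
  subst hS
  have hcomm : z.aut.hom ≫ χ₀ = χ₀ ≫ y.aut.hom := by
    have h3 : 𝒳.p.IsHomLift (g ≫ f) (ψ.hom ≫ x.aut.hom) := inferInstance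
    obtain ⟨κ, -, hκ⟩ :=
      IsStronglyCartesian.universal_property (p := 𝒳.p) (f := f) (φ := m.hom) g (g ≫ f) rfl
        (ψ.hom ≫ x.aut.hom)
    have e1 : z.aut.hom ≫ χ₀ = κ := by
      apply hκ
      refine ⟨inferInstance, ?_⟩
      rw [Category.assoc, hχ2, ψ.comm]
    have e2 : χ₀ ≫ y.aut.hom = κ := by
      apply hκ
      refine ⟨inferInstance, ?_⟩
      rw [Category.assoc, m.comm, ← Category.assoc, hχ2]
    rw [e1, e2]
  let χ : z ⟶ y := ⟨χ₀, hcomm⟩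
  refine ⟨χ, ⟨lift_to F g χ hχ1, ?_⟩, ?_⟩
  · apply FibCat.InertiaObj.hom_ext
    exact hχ2
  · rintro χ' ⟨h1, h2⟩
    apply FibCat.InertiaObj.hom_ext
    apply huniq
    refine ⟨lift_from F g χ' h1, ?_⟩
    exact congrArg FibCat.InertiaObj.Hom.hom h2

theorem isFibered_inertia [𝒳.p.IsFibered]
    (hF : ∀ {R S : C} (f : R ⟶ S) {a b : 𝒳.obj} (φ : a ⟶ b),
      𝒳.p.IsStronglyCartesian f φ → 𝒴.p.IsStronglyCartesian f (F.toFunctor.map φ)) :
    (FibCat.inertia F).p.IsFibered := by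
  apply IsFibered.of_exists_isStronglyCartesian
  intro x V f₀
  obtain ⟨f, hf⟩ : ∃ f : V ⟶ 𝒳.p.obj x.pt, f = f₀ := ⟨f₀, rfl⟩
  subst hf
  obtain ⟨y, φ, hφ⟩ := IsPreFibered.exists_isCartesian 𝒳.p (rfl : 𝒳.p.obj x.pt = 𝒳.p.obj x.pt) f
  have hsc : 𝒳.p.IsStronglyCartesian f φ := inferInstance
  have hFsc : 𝒴.p.IsStronglyCartesian f (F.toFunctor.map φ) := hF f φ hsc
  have hx := aut_isHomLift F x
  have hxinv : 𝒳.p.IsHomLift (𝟙 (𝒳.p.obj x.pt)) x.aut.inv := IsHomLift.lift_id_inv _ _ _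
  have h1 : 𝒳.p.IsHomLift f (φ ≫ x.aut.hom) := inferInstance
  have h1' : 𝒳.p.IsHomLift f (φ ≫ x.aut.inv) := inferInstance
  obtain ⟨β, ⟨hβ1, hβ2⟩, -⟩ :=
    IsStronglyCartesian.universal_property (p := 𝒳.p) (f := f) (φ := φ) (𝟙 V) f
      (Category.id_comp f).symm (φ ≫ x.aut.hom)
  obtain ⟨β', ⟨hβ'1, hβ'2⟩, -⟩ :=
    IsStronglyCartesian.universal_property (p := 𝒳.p) (f := f) (φ := φ) (𝟙 V) f
      (Category.id_comp f).symm (φ ≫ x.aut.inv)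
  obtain ⟨ι, -, hι⟩ :=
    IsStronglyCartesian.universal_property (p := 𝒳.p) (f := f) (φ := φ) (𝟙 V) f
      (Category.id_comp f).symm φ
  have hV : 𝒳.p.obj y = V := IsHomLift.domain_eq 𝒳.p f φ
  have hid : 𝒳.p.IsHomLift (𝟙 V) (𝟙 y) := IsHomLift.id hV
  have e1 : β ≫ β' = 𝟙 y := by
    rw [hι (β ≫ β') ⟨inferInstance, by rw [Category.assoc, hβ'2, ← Category.assoc, hβ2]; simp⟩,
      hι (𝟙 y) ⟨hid, by simp⟩]
  have e2 : β' ≫ β = 𝟙 y := by
    rw [hι (β' ≫ β) ⟨inferInstance, by rw [Category.assoc, hβ2, ← Category.assoc, hβ'2]; simp⟩,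
      hι (𝟙 y) ⟨hid, by simp⟩]
  have hFβ : F.toFunctor.map β = 𝟙 (F.toFunctor.obj y) := by
    obtain ⟨κ, -, hκ⟩ :=
      IsStronglyCartesian.universal_property (p := 𝒴.p) (f := f) (φ := F.toFunctor.map φ) (𝟙 V) f
        (Category.id_comp f).symm (F.toFunctor.map φ)
    have hidF : 𝒴.p.IsHomLift (𝟙 V) (𝟙 (F.toFunctor.obj y)) := IsHomLift.id ((F.w_obj y).trans hV)
    rw [hκ (F.toFunctor.map β) ⟨inferInstance, by
        rw [← Functor.map_comp, hβ2, Functor.map_comp]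
        have : F.toFunctor.map x.aut.hom = 𝟙 _ := x.map_aut
        rw [this]; simp⟩,
      hκ (𝟙 _) ⟨hidF, by simp⟩]
  let y' : (FibCat.inertia F).obj := ⟨y, ⟨β, β', e1, e2⟩, hFβ⟩
  let m : y' ⟶ x := ⟨φ, hβ2⟩
  have : 𝒳.p.IsStronglyCartesian f m.hom := hsc
  exact ⟨y', m, isStronglyCartesian_of_hom F f m⟩

end Groth.Agent.FibInertia
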