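import Groth.Prelude.Def_FibClv
import Mathlib

set_option autoImplicit false
set_option backward.isDefEq.respectTransparency false
set_option backward.isDefEq.respectTransparency.types false
open CategoryTheory CategoryTheory.Functor
universe v₁ v₂ u₁ u₂
open FibCat FibCat.Cleavage

namespace Groth.Agent.FibLem

variable {𝒮 : Type u₁} {𝒳 : Type u₂} [Category.{v₁} 𝒮] [Category.{v₂} 𝒳] {p : 𝒳 ⥤ 𝒮} (K : FibCat.Cleavage p)

theorem congr_hom_app_lift {R S : 𝒮} {f f' : R ⟶ S} (h : f = f') (a : p.Fiber S) :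
    Fiber.fiberInclusion.map ((K.inverseImageCongr h).hom.app a) ≫ K.lift a.2 f' = K.lift a.2 f := by
  subst h
  simp [inverseImageCongr]

theorem comp_app_lift {R S T : 𝒮} (f : T ⟶ S) (g : R ⟶ T) (a : p.Fiber S) :
    Fiber.fiberInclusion.map ((K.comp f g).app a) ≫ K.lift a.2 (g ≫ f) =
      K.lift (K.obj_proj a.2 f) g ≫ K.lift a.2 f := by
  rw [comp_app]
  exact IsCartesian.fac _ _ _ _

theorem map_lift {R S : 𝒮} (f : R ⟶ S) {a b : p.Fiber S} (φ : a ⟶ b) :
    Fiber.fiberInclusion.map ((K.inverseImage f).map φ) ≫ K.lift b.2 f =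
      K.lift a.2 f ≫ Fiber.fiberInclusion.map φ := by
  rw [inverseImage_map]
  exact IsCartesian.fac _ _ _ _


theorem fiber_isIso_of_isIso {S : 𝒮} {a b : p.Fiber S} (φ : a ⟶ b)
    [IsIso (Fiber.fiberInclusion.map φ)] : IsIso φ := by
  have : p.IsHomLift (𝟙 S) (inv (Fiber.fiberInclusion.map φ)) := inferInstance
  refine ⟨Fiber.homMk p S (inv (Fiber.fiberInclusion.map φ)), ?_, ?_⟩
  · apply Fiber.hom_ext
    simp
  · apply Fiber.hom_ext
    simp


/-- `(𝟙 S)^* ≅ 𝟭` as soon as the chosen lifts of `𝟙 S` are isomorphisms. -/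
noncomputable def idIso (S : 𝒮) (h : ∀ a : p.Fiber S, IsIso (K.lift a.2 (𝟙 S))) :
    K.inverseImage (𝟙 S) ≅ 𝟭 (p.Fiber S) :=
  NatIso.ofComponents
    (fun a => by
      have : p.IsHomLift (𝟙 S) (K.lift a.2 (𝟙 S)) := inferInstance
      let φ : (K.inverseImage (𝟙 S)).obj a ⟶ a := Fiber.homMk p S (K.lift a.2 (𝟙 S))
      have : IsIso (Fiber.fiberInclusion.map φ) := h a
      have : IsIso φ := fiber_isIso_of_isIso φ
      exact asIso φ)
    (by
      intro a b φ
      apply Fiber.hom_ext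
      simp only [Functor.id_obj, Functor.id_map, asIso_hom, Functor.map_comp]
      exact map_lift K (𝟙 S) φ)

end Groth.Agent.FibLem
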