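import Groth.Agent.FibFp
set_option autoImplicit false
set_option backward.isDefEq.respectTransparency false
set_option backward.isDefEq.respectTransparency.types false
open CategoryTheory CategoryTheory.Functor CategoryTheory.Limits
universe v₄ u₄ v₃ u₃ v₂ u₂ v u

namespace Groth.Agent.FibOver
open Groth.Agent.FibEquiv Groth.Agent.FibFiberwise Groth.Agent.FibFp

variable {C : Type u} [Category.{v} C]

/-- every morphism of `C/U` is strongly cartesian over its image in `C`. -/
theorem overForget_isStronglyCartesian (U : C) {y x : Over U} (φ : y ⟶ x) :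
    (Over.forget U).IsStronglyCartesian ((Over.forget U).map φ) φ := by
  refine { toIsHomLift := inferInstance, universal_property' := ?_ }
  intro a' g φ' hφ'
  have h1 : φ'.left = g ≫ φ.left := by
    have := IsHomLift.fac' (Over.forget U) (g ≫ (Over.forget U).map φ) φ'
    simpa using this
  have hw : g ≫ y.hom = a'.hom := by
    rw [← Over.w φ, ← Category.assoc, ← h1, Over.w φ']
  refine ⟨Over.homMk g hw, ⟨?_, ?_⟩, ?_⟩
  · exact IsHomLift.of_fac' _ _ _ rfl rfl (by simp)
  · ext
    simp [h1]
  · rintro χ ⟨hχ1, hχ2⟩
    ext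
    have := IsHomLift.fac' (Over.forget U) g χ
    simpa using this

theorem isFibGrpd_overForget (U : C) : FibCat.IsFibGrpd (Over.forget U) := by
  refine ⟨?_, fun φ => overForget_isStronglyCartesian U φ⟩
  intro x V f
  refine ⟨Over.mk (f ≫ x.hom), Over.homMk f rfl, ?_⟩
  exact IsHomLift.of_fac' _ _ _ rfl rfl (by simp)

theorem isFibGrpd_overCat (U : C) : FibCat.IsFibGrpd (FibCat.overCat U).p :=
  isFibGrpd_overForget U

end Groth.Agent.FibOver
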