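import Groth.Agent.FibFpProj
import Groth.Prelude.Def_W4stkcategoriessitesFib
set_option autoImplicit false
set_option backward.isDefEq.respectTransparency false
set_option backward.isDefEq.respectTransparency.types false
open CategoryTheory CategoryTheory.Functor CategoryTheory.Limits
universe v₄ u₄ v₃ u₃ v₂ u₂ v u

namespace Groth.Agent.FibYoneda
open Groth.Agent.FibEquiv Groth.Agent.FibFiberwise Groth.Agent.FibFp Groth.Agent.FibOver

variable {C : Type u} [Category.{v} C] {𝒳 : BasedCategory.{v₂, u₂} C} {U : C}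

/-- the canonical morphism `a ⟶ 𝟙_U` of `C/U` -/
def toId (a : Over U) : a ⟶ Over.mk (𝟙 U) := Over.homMk a.hom (by simp)

@[simp] theorem toId_left (a : Over U) : (toId a).left = a.hom := rfl

theorem comp_toId {a b : Over U} (k : a ⟶ b) : k ≫ toId b = toId a := by
  ext; simp [toId]

theorem toId_id : toId (Over.mk (𝟙 U)) = 𝟙 _ := by
  ext; simp [toId]

theorem toId_isStronglyCartesian (a : Over U) :
    (FibCat.overCat U).p.IsStronglyCartesian a.hom (toId a) :=
  overForget_isStronglyCartesian U (toId a)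

theorem hom_isHomLift {a b : Over U} (k : a ⟶ b) : (FibCat.overCat U).p.IsHomLift k.left k :=
  IsHomLift.of_fac' _ _ _ rfl rfl (by simp; rfl)

theorem map_hom_isHomLift (G : FibCat.overCat U ⥤ᵇ 𝒳) {a b : Over U} (k : a ⟶ b) :
    𝒳.p.IsHomLift k.left (G.toFunctor.map k) := by
  have := hom_isHomLift k
  infer_instance

theorem map_toId_isHomLift (G : FibCat.overCat U ⥤ᵇ 𝒳) (a : Over U) :
    𝒳.p.IsHomLift a.hom (G.toFunctor.map (toId a)) :=
  map_hom_isHomLift G (toId a)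

/-- a cartesian functor sends `a ⟶ 𝟙_U` to a strongly cartesian morphism over `a.hom` -/
theorem map_toId_isStronglyCartesian (G : FibCat.overCat U ⥤ᵇ 𝒳) (hG : FibCat.PreservesStronglyCartesian G)
    (a : Over U) : 𝒳.p.IsStronglyCartesian a.hom (G.toFunctor.map (toId a)) :=
  hG a.hom (toId a) (toId_isStronglyCartesian a)

theorem app_isHomLift {G H : FibCat.overCat U ⥤ᵇ 𝒳} (α : G ⟶ H) (a : Over U) :
    𝒳.p.IsHomLift (𝟙 a.left) (α.toNatTrans.app a) :=
  α.isHomLift' a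

/-- 2-morphisms into a cartesian functor are determined by their component at `𝟙_U` -/
theorem ext_of_app_id {G H : FibCat.overCat U ⥤ᵇ 𝒳} (hH : FibCat.PreservesStronglyCartesian H) (α β : G ⟶ H)
    (h : α.toNatTrans.app (Over.mk (𝟙 U)) = β.toNatTrans.app (Over.mk (𝟙 U))) : α = β := by
  apply BasedNatTrans.homCategory.ext
  ext a
  have hsc := map_toId_isStronglyCartesian H hH a
  have h1 := app_isHomLift α a
  have h2 := app_isHomLift β a
  have h3 : 𝒳.p.IsHomLift a.hom (α.toNatTrans.app a ≫ H.toFunctor.map (toId a)) := by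
    have : 𝒳.p.IsHomLift (𝟙 a.left ≫ a.hom) (α.toNatTrans.app a ≫ H.toFunctor.map (toId a)) := inferInstance
    simpa using this
  obtain ⟨χ, -, hχ⟩ :=
    IsStronglyCartesian.universal_property (p := 𝒳.p) (f := a.hom) (φ := H.toFunctor.map (toId a))
      (𝟙 a.left) a.hom (by simp) (α.toNatTrans.app a ≫ H.toFunctor.map (toId a))
  rw [hχ (α.toNatTrans.app a) ⟨h1, rfl⟩]
  refine (hχ (β.toNatTrans.app a) ⟨h2, ?_⟩).symm
  rw [← α.toNatTrans.naturality, ← β.toNatTrans.naturality, h]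

/-- every morphism over `𝟙_U` between the values at `𝟙_U` comes from a 2-morphism -/
theorem exists_of_app_id {G H : FibCat.overCat U ⥤ᵇ 𝒳} (hH : FibCat.PreservesStronglyCartesian H)
    (μ : G.toFunctor.obj (Over.mk (𝟙 U)) ⟶ H.toFunctor.obj (Over.mk (𝟙 U))) [hμ : 𝒳.p.IsHomLift (𝟙 U) μ] :
    ∃ α : G ⟶ H, α.toNatTrans.app (Over.mk (𝟙 U)) = μ := by
  have hsc := fun a => map_toId_isStronglyCartesian H hH a
  have hlift : ∀ a : Over U, 𝒳.p.IsHomLift a.hom (G.toFunctor.map (toId a) ≫ μ) := by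
    intro a
    have h0 : 𝒳.p.IsHomLift a.hom (G.toFunctor.map (toId a)) := map_toId_isHomLift G a
    have : 𝒳.p.IsHomLift (a.hom ≫ 𝟙 U) (G.toFunctor.map (toId a) ≫ μ) := inferInstance
    simpa using this
  let αapp : ∀ a : Over U, G.toFunctor.obj a ⟶ H.toFunctor.obj a := fun a =>
    IsStronglyCartesian.map 𝒳.p a.hom (H.toFunctor.map (toId a)) (g := 𝟙 a.left) (f' := a.hom) (by simp)
      (G.toFunctor.map (toId a) ≫ μ)
  have hαlift : ∀ a, 𝒳.p.IsHomLift (𝟙 a.left) (αapp a) := fun a => by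
    dsimp only [αapp]; infer_instance
  have hαfac : ∀ a, αapp a ≫ H.toFunctor.map (toId a) = G.toFunctor.map (toId a) ≫ μ := fun a =>
    IsStronglyCartesian.fac 𝒳.p a.hom (H.toFunctor.map (toId a)) (by simp) _
  have hnat : ∀ {a b : Over U} (k : a ⟶ b), G.toFunctor.map k ≫ αapp b = αapp a ≫ H.toFunctor.map k := by
    intro a b k
    have hGk : 𝒳.p.IsHomLift k.left (G.toFunctor.map k) := map_hom_isHomLift G k
    have hHk : 𝒳.p.IsHomLift k.left (H.toFunctor.map k) := map_hom_isHomLift H k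
    have hb := hαlift b
    have ha := hαlift a
    have hl1 : 𝒳.p.IsHomLift k.left (G.toFunctor.map k ≫ αapp b) := by
      have : 𝒳.p.IsHomLift (k.left ≫ 𝟙 b.left) (G.toFunctor.map k ≫ αapp b) := inferInstance
      simpa using this
    have hl2 : 𝒳.p.IsHomLift k.left (αapp a ≫ H.toFunctor.map k) := by
      have : 𝒳.p.IsHomLift (𝟙 a.left ≫ k.left) (αapp a ≫ H.toFunctor.map k) := inferInstance
      simpa using this
    have hw : k.left ≫ b.hom = a.hom := Over.w k
    have hl3 : 𝒳.p.IsHomLift a.hom ((G.toFunctor.map k ≫ αapp b) ≫ H.toFunctor.map (toId b)) := by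
      have : 𝒳.p.IsHomLift (k.left ≫ b.hom) ((G.toFunctor.map k ≫ αapp b) ≫ H.toFunctor.map (toId b)) :=
        inferInstance
      rwa [hw] at this
    have := hsc b
    obtain ⟨χ, -, hχ⟩ :=
      IsStronglyCartesian.universal_property (p := 𝒳.p) (f := b.hom) (φ := H.toFunctor.map (toId b))
        k.left a.hom hw.symm ((G.toFunctor.map k ≫ αapp b) ≫ H.toFunctor.map (toId b))
    rw [hχ (G.toFunctor.map k ≫ αapp b) ⟨hl1, rfl⟩]
    refine (hχ _ ⟨hl2, ?_⟩).symm
    rw [Category.assoc, Category.assoc, ← H.toFunctor.map_comp, comp_toId, hαfac a, hαfac b,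
      ← Category.assoc, ← G.toFunctor.map_comp, comp_toId]
  let α : G ⟶ H :=
    { toNatTrans := { app := αapp, naturality := fun a b k => hnat k }
      isHomLift' := fun a => hαlift a }
  refine ⟨α, ?_⟩
  have h1 := hαfac (Over.mk (𝟙 U))
  rw [toId_id] at h1
  simpa using h1


section construct
variable [𝒳.p.IsFibered] (x : 𝒳.obj)

/-- chosen pullback of `x` along `a.hom` -/
noncomputable def yObj (a : Over (𝒳.p.obj x)) : 𝒳.obj :=
  IsPreFibered.pullbackObj (p := 𝒳.p) (a := x) rfl a.hom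

noncomputable def yMap (a : Over (𝒳.p.obj x)) : yObj x a ⟶ x :=
  IsPreFibered.pullbackMap (p := 𝒳.p) (a := x) rfl a.hom

instance yMap_isStronglyCartesian (a : Over (𝒳.p.obj x)) : 𝒳.p.IsStronglyCartesian a.hom (yMap x a) := by
  have : 𝒳.p.IsCartesian a.hom (yMap x a) := by
    unfold yMap; infer_instance
  infer_instance

theorem yObj_proj (a : Over (𝒳.p.obj x)) : 𝒳.p.obj (yObj x a) = a.left :=
  IsHomLift.domain_eq 𝒳.p a.hom (yMap x a)

noncomputable def yHom {a b : Over (𝒳.p.obj x)} (k : a ⟶ b) : yObj x a ⟶ yObj x b :=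
  IsStronglyCartesian.map 𝒳.p b.hom (yMap x b) (g := k.left) (f' := a.hom) (Over.w k).symm (yMap x a)

instance yHom_isHomLift {a b : Over (𝒳.p.obj x)} (k : a ⟶ b) : 𝒳.p.IsHomLift k.left (yHom x k) := by
  unfold yHom; infer_instance

@[simp] theorem yHom_fac {a b : Over (𝒳.p.obj x)} (k : a ⟶ b) : yHom x k ≫ yMap x b = yMap x a :=
  IsStronglyCartesian.fac 𝒳.p b.hom (yMap x b) (Over.w k).symm (yMap x a)

theorem yHom_uniq {a b : Over (𝒳.p.obj x)} (k : a ⟶ b) (ψ : yObj x a ⟶ yObj x b) (h1 : 𝒳.p.IsHomLift k.left ψ)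
    (h2 : ψ ≫ yMap x b = yMap x a) : ψ = yHom x k :=
  IsStronglyCartesian.map_uniq 𝒳.p b.hom (yMap x b) (Over.w k).symm (yMap x a) ψ h2

noncomputable def yFunctor : Over (𝒳.p.obj x) ⥤ 𝒳.obj where
  obj := yObj x
  map k := yHom x k
  map_id a := by
    symm
    apply yHom_uniq
    · exact IsHomLift.id (yObj_proj x a)
    · simp
  map_comp {a b c} k l := by
    symm
    apply yHom_uniq
    · change 𝒳.p.IsHomLift (k.left ≫ l.left) (yHom x k ≫ yHom x l)
      infer_instance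
    · simp

noncomputable def yBased : FibCat.overCat (𝒳.p.obj x) ⥤ᵇ 𝒳 where
  toFunctor := yFunctor x
  w := CategoryTheory.Functor.ext (fun a => yObj_proj x a) (fun a b k => by
    have := IsHomLift.fac' 𝒳.p k.left (yHom x k)
    exact this)

theorem yBased_preserves : FibCat.PreservesStronglyCartesian (yBased x) := by
  intro R S f a b φ hφ
  have h0 := hφ.toIsHomLift
  have hf := IsHomLift.fac (FibCat.overCat (𝒳.p.obj x)).p f φ
  have hR : a.left = R := IsHomLift.domain_eq (FibCat.overCat (𝒳.p.obj x)).p f φ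
  have hS : b.left = S := IsHomLift.codomain_eq (FibCat.overCat (𝒳.p.obj x)).p f φ
  subst hR hS
  simp only [eqToHom_refl, Category.comp_id, Category.id_comp] at hf
  subst hf
  obtain ⟨k, hk⟩ : ∃ k : (a : Over (𝒳.p.obj x)) ⟶ (b : Over (𝒳.p.obj x)), k = φ := ⟨φ, rfl⟩
  subst hk
  change 𝒳.p.IsStronglyCartesian k.left (yHom x k)
  have h1 : 𝒳.p.IsStronglyCartesian (k.left ≫ b.hom) (yHom x k ≫ yMap x b) := by
    rw [yHom_fac, Over.w k]
    infer_instance
  exact IsStronglyCartesian.of_comp (p := 𝒳.p) (f := k.left) (g := b.hom) (φ := yHom x k) (ψ := yMap x b)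

/-- the value of `yBased x` at `𝟙` is isomorphic to `x` over the identity -/
theorem yBased_id_iso : ∃ e : (yBased x).toFunctor.obj (Over.mk (𝟙 (𝒳.p.obj x))) ≅ x,
    𝒳.p.IsHomLift (𝟙 (𝒳.p.obj x)) e.hom := by
  have h1 : 𝒳.p.IsStronglyCartesian (𝟙 (𝒳.p.obj x)) (yMap x (Over.mk (𝟙 (𝒳.p.obj x)))) :=
    yMap_isStronglyCartesian x (Over.mk (𝟙 (𝒳.p.obj x)))
  have h2 : IsIso (yMap x (Over.mk (𝟙 (𝒳.p.obj x)))) :=
    IsStronglyCartesian.isIso_of_base_isIso 𝒳.p (𝟙 (𝒳.p.obj x)) _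
  exact ⟨asIso (yMap x (Over.mk (𝟙 (𝒳.p.obj x)))), h1.toIsHomLift⟩

end construct

/-- isomorphisms in a fibre from isomorphisms over the identity -/
def fiberIsoMk {𝒵 : Type u₃} [Category.{v₃} 𝒵] (p : 𝒵 ⥤ C) {S : C} {a b : p.Fiber S} (e : a.1 ≅ b.1)
    (he : p.IsHomLift (𝟙 S) e.hom) : a ≅ b where
  hom := ⟨e.hom, he⟩
  inv := ⟨e.inv, IsHomLift.lift_id_inv _ _ _⟩
  hom_inv_id := by apply Functor.Fiber.hom_ext; exact e.hom_inv_id
  inv_hom_id := by apply Functor.Fiber.hom_ext; exact e.inv_hom_id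

/-- 2-Yoneda for fibred categories (universe-general form of S6410) -/
theorem evalAtId_cart_isEquivalence [𝒳.p.IsFibered] (U : C) :
    ((ObjectProperty.ι (FibCat.PreservesStronglyCartesian (𝒳 := FibCat.overCat U) (𝒴 := 𝒳))) ⋙
      FibCat.evalAtId 𝒳 U).IsEquivalence := by
  refine { faithful := ⟨fun {G H} α β h => ?_⟩, full := ⟨fun {G H} m => ?_⟩, essSurj := ⟨fun y => ?_⟩ }
  · apply ObjectProperty.hom_ext
    apply ext_of_app_id H.property
    exact congrArg (fun k => Functor.Fiber.fiberInclusion.map k) h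
  · have hm : 𝒳.p.IsHomLift (𝟙 U) (Functor.Fiber.fiberInclusion.map m) := inferInstance
    obtain ⟨α, hα⟩ := exists_of_app_id (G := G.obj) (H := H.obj) H.property (Functor.Fiber.fiberInclusion.map m)
    refine ⟨ObjectProperty.homMk α, ?_⟩
    apply Functor.Fiber.hom_ext
    exact hα
  · obtain ⟨x, hx⟩ := y
    subst hx
    obtain ⟨e, he⟩ := yBased_id_iso x
    exact ⟨⟨yBased x, yBased_preserves x⟩, ⟨fiberIsoMk 𝒳.p e he⟩⟩


/-- 2-Yoneda for categories fibred in groupoids (universe-general form of S6409) -/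
theorem evalAtId_isEquivalence_of_isFibGrpd (h𝒳 : FibCat.IsFibGrpd 𝒳.p) (U : C) :
    (FibCat.evalAtId 𝒳 U).IsEquivalence := by
  have hfib : 𝒳.p.IsFibered := isFibered_of_isFibGrpd 𝒳.p h𝒳
  have hall : ∀ G : FibCat.overCat U ⥤ᵇ 𝒳, FibCat.PreservesStronglyCartesian G := by
    intro G R S f a b φ hφ
    have h0 := hφ.toIsHomLift
    exact Groth.Agent.FibFpProj.isStronglyCartesian_of_isFibGrpd 𝒳.p h𝒳 f (G.toFunctor.map φ)
  have hι : (ObjectProperty.ι (FibCat.PreservesStronglyCartesian (𝒳 := FibCat.overCat U) (𝒴 := 𝒳))).IsEquivalence :=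
    { essSurj := ⟨fun G => ⟨⟨G, hall G⟩, ⟨Iso.refl _⟩⟩⟩ }
  have := evalAtId_cart_isEquivalence (𝒳 := 𝒳) U
  exact Functor.isEquivalence_of_comp_left
    (ObjectProperty.ι (FibCat.PreservesStronglyCartesian (𝒳 := FibCat.overCat U) (𝒴 := 𝒳))) (FibCat.evalAtId 𝒳 U)

end Groth.Agent.FibYoneda
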