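import Groth.Statements.S0649
-- import your own Groth.Agent.* helpers here

set_option autoImplicit false
open CategoryTheory CategoryTheory.Limits AlgebraicGeometry Opposite
universe u
open EtCore

namespace Groth.Agent.S0649

theorem bc_map_fst {X Y : Scheme.{u}} (f : X ⟶ Y) {U W : Y.Etale} (g : W ⟶ U) :
    ((EtCoh.bc f).map g).left ≫ pullback.fst U.hom f = pullback.fst W.hom f ≫ g.left :=
  (EtCoh.isPullback_bc_map f g).w

theorem bc_map_snd {X Y : Scheme.{u}} (f : X ⟶ Y) {U W : Y.Etale} (g : W ⟶ U) :
    ((EtCoh.bc f).map g).left ≫ pullback.snd U.hom f = pullback.snd W.hom f := by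
  dsimp [EtCoh.bc]
  exact pullback.lift_snd _ _ _

variable {V' V Y X : Scheme.{u}} (j : V ⟶ X) [AlgebraicGeometry.Etale j]
    (f : Y ⟶ X) (j' : V' ⟶ Y) [AlgebraicGeometry.Etale j'] (f' : V' ⟶ V)

omit [AlgebraicGeometry.Etale j] [AlgebraicGeometry.Etale j'] in
/-- pasted square -/
theorem isPullback_paste (h : IsPullback j' f' f j) (W : V.Etale) :
    IsPullback (pullback.snd W.hom f' ≫ j') (pullback.fst W.hom f') f (W.hom ≫ j) :=
  (IsPullback.of_hasPullback W.hom f').flip.paste_horiz h

/-- the comparison of site functors `bc f' ⋙ compEtale j' ≅ compEtale j ⋙ bc f` -/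
noncomputable def eK (h : IsPullback j' f' f j) :
    EtCoh.bc f' ⋙ EtShriek.compEtale j' ≅ EtShriek.compEtale j ⋙ EtCoh.bc f :=
  NatIso.ofComponents (fun W => MorphismProperty.Over.isoMk
    ((isPullback_paste j f j' f' h W).flip.isoPullback) (by
      change _ ≫ pullback.snd _ _ = pullback.snd W.hom f' ≫ j'
      exact IsPullback.isoPullback_hom_snd _)) (by
    intro W₁ W₂ g
    apply MorphismProperty.Over.Hom.ext
    change ((EtCoh.bc f').map g).left ≫ (isPullback_paste j f j' f' h W₂).flip.isoPullback.hom =
      (isPullback_paste j f j' f' h W₁).flip.isoPullback.hom ≫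
        ((EtCoh.bc f).map ((EtShriek.compEtale j).map g)).left
    have e1 := (isPullback_paste j f j' f' h W₂).flip.isoPullback_hom_fst
    have e2 := (isPullback_paste j f j' f' h W₁).flip.isoPullback_hom_fst
    have e3 := bc_map_fst f ((EtShriek.compEtale j).map g)
    have e4 := bc_map_fst f' g
    have d1 := (isPullback_paste j f j' f' h W₂).flip.isoPullback_hom_snd
    have d2 := (isPullback_paste j f j' f' h W₁).flip.isoPullback_hom_snd
    have d3 := bc_map_snd f ((EtShriek.compEtale j).map g)
    have d4 := bc_map_snd f' g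
    apply pullback.hom_ext
    · refine (Category.assoc _ _ _).trans ((congrArg (_ ≫ ·) e1).trans ?_)
      refine Eq.trans ?_ ((Category.assoc _ _ _).trans (congrArg (_ ≫ ·) e3)).symm
      refine e4.trans ?_
      exact ((Category.assoc _ _ _).symm.trans (congrArg (· ≫ g.left) e2)).symm
    · refine (Category.assoc _ _ _).trans ((congrArg (_ ≫ ·) d1).trans ?_)
      refine Eq.trans ?_ ((Category.assoc _ _ _).trans (congrArg (_ ≫ ·) d3)).symm
      refine Eq.trans ?_ d2.symm
      exact (Category.assoc _ _ _).symm.trans (congrArg (· ≫ j') d4))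

theorem main [EtShriek.JCont j] [EtShriek.JCont j'] (h : IsPullback j' f' f j) :
    Nonempty (EtCoh.pull f' ⋙ EtShriek.extZero j' ≅ EtShriek.extZero j ⋙ EtCoh.pull f) := by
  let adj1 := (EtCoh.pullPushAdj f').comp (EtShriek.extZeroAdj j')
  let adj2 := (EtShriek.extZeroAdj j).comp (EtCoh.pullPushAdj f)
  let K : V.Etale ⥤ Y.Etale := EtCoh.bc f' ⋙ EtShriek.compEtale j'
  have : K.IsContinuous V.smallEtaleTopology Y.smallEtaleTopology :=
    Functor.isContinuous_comp _ _ _ V'.smallEtaleTopology _
  let e1 : EtShriek.restrAlong j' ⋙ EtCoh.push f' ≅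
      K.sheafPushforwardContinuous AddCommGrpCat.{u + 1} V.smallEtaleTopology
        Y.smallEtaleTopology :=
    Functor.sheafPushforwardContinuousComp' (Iso.refl K) _ _ _ _
  let e2 : EtCoh.push f ⋙ EtShriek.restrAlong j ≅
      K.sheafPushforwardContinuous AddCommGrpCat.{u + 1} V.smallEtaleTopology
        Y.smallEtaleTopology :=
    Functor.sheafPushforwardContinuousComp' (eK j f j' f' h).symm _ _ _ _
  let adj2' := adj2.ofNatIsoRight (e2 ≪≫ e1.symm)
  exact ⟨adj1.leftAdjointUniq adj2'⟩

/-- Extension by zero commutes with pullback, for abelian sheaves. Let f : Y → X be a morphism of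
schemes and j : V → X étale, and let V' = Y ×_X V with projections j' : V' → Y and f' : V' → V. Then
the functors j'_! ∘ f'^(-1) and f^(-1) ∘ j_! from abelian sheaves on V_ét to abelian sheaves on Y_ét
are isomorphic. Only the existence of an isomorphism of functors is asserted; the published
statement gives the canonical one. (Continuity of the composition functor of étale sites, which
always holds, is carried as an instance hypothesis.) -/
theorem result {V' V Y X : Scheme.{u}} (j : V ⟶ X) [AlgebraicGeometry.Etale j] [EtShriek.JCont j]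
    (f : Y ⟶ X) (j' : V' ⟶ Y) [AlgebraicGeometry.Etale j'] [EtShriek.JCont j'] (f' : V' ⟶ V)
    (h : IsPullback j' f' f j) :
    Nonempty (EtCoh.pull f' ⋙ EtShriek.extZero j' ≅ EtShriek.extZero j ⋙ EtCoh.pull f) := by
  exact main j f j' f' h

end Groth.Agent.S0649
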