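import Groth.Statements.S0660
import Groth.Agent.Lib.Helper1.EtGerm
import Groth.Agent.S0649

set_option autoImplicit false
open CategoryTheory CategoryTheory.Limits AlgebraicGeometry Opposite
universe u
open EtCore

namespace Groth.Agent.S0660

open Groth.Agent.H1.EtGerm Groth.Agent.S0649

instance : MorphismProperty.HasOfPostcompProperty @IsOpenImmersion @AlgebraicGeometry.Etale :=
  MorphismProperty.hasOfPostcompProperty_iff_le_diagonal.mpr
    fun _ _ f (_ : AlgebraicGeometry.Etale f) ↦ inferInstanceAs (IsOpenImmersion (pullback.diagonal f))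

/-- a section of an etale morphism is an open immersion -/
theorem isOpenImmersion_of_section {A B : Scheme.{u}} (s : A ⟶ B) (g : B ⟶ A)
    [AlgebraicGeometry.Etale g] (h : s ≫ g = 𝟙 A) : IsOpenImmersion s := by
  have h3 : IsOpenImmersion (s ≫ g) := by rw [h]; infer_instance
  exact MorphismProperty.of_postcomp (W := @IsOpenImmersion)
    (W' := @AlgebraicGeometry.Etale) s g inferInstance h3

theorem isIso_of_left {Z : Scheme.{u}} {A B : Z.Etale} (f : A ⟶ B) [IsIso f.left] : IsIso f := by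
  have h1 : IsIso ((Scheme.Etale.forget Z ⋙ CategoryTheory.Over.forget Z).map f) := by
    change IsIso f.left
    infer_instance
  exact isIso_of_reflects_iso _ (Scheme.Etale.forget Z ⋙ CategoryTheory.Over.forget Z)

theorem map_fst {C : Type*} [Category C] {W X Y Z S T : C} (f₁ : W ⟶ S) (f₂ : X ⟶ S) [HasPullback f₁ f₂]
    (g₁ : Y ⟶ T) (g₂ : Z ⟶ T) [HasPullback g₁ g₂] (i₁ : W ⟶ Y) (i₂ : X ⟶ Z) (i₃ : S ⟶ T)
    (eq₁ : f₁ ≫ i₃ = i₁ ≫ g₁) (eq₂ : f₂ ≫ i₃ = i₂ ≫ g₂) :
    pullback.map f₁ f₂ g₁ g₂ i₁ i₂ i₃ eq₁ eq₂ ≫ pullback.fst g₁ g₂ = pullback.fst f₁ f₂ ≫ i₁ :=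
  pullback.lift_fst _ _ _

theorem map_snd {C : Type*} [Category C] {W X Y Z S T : C} (f₁ : W ⟶ S) (f₂ : X ⟶ S) [HasPullback f₁ f₂]
    (g₁ : Y ⟶ T) (g₂ : Z ⟶ T) [HasPullback g₁ g₂] (i₁ : W ⟶ Y) (i₂ : X ⟶ Z) (i₃ : S ⟶ T)
    (eq₁ : f₁ ≫ i₃ = i₁ ≫ g₁) (eq₂ : f₂ ≫ i₃ = i₂ ≫ g₂) :
    pullback.map f₁ f₂ g₁ g₂ i₁ i₂ i₃ eq₁ eq₂ ≫ pullback.snd g₁ g₂ = pullback.snd f₁ f₂ ≫ i₂ :=
  pullback.lift_snd _ _ _

/-- scheme-level statement -/
theorem main_sch {Z X A A' : Scheme.{u}} (i : Z ⟶ X) [IsClosedImmersion i]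
    (α : A ⟶ X) (α' : A' ⟶ X) [AlgebraicGeometry.Etale α] [AlgebraicGeometry.Etale α']
    (hL : pullback α i ⟶ pullback α' i) (hw : hL ≫ pullback.snd α' i = pullback.snd α i) :
    ∃ (W : Scheme.{u}) (ω : W ⟶ X) (_ : AlgebraicGeometry.Etale ω) (a : W ⟶ A) (b : W ⟶ A')
      (ha : a ≫ α = ω) (hb : b ≫ α' = ω),
      IsIso (pullback.map ω i α i a (𝟙 Z) (𝟙 X) (by rw [ha, Category.comp_id]) (by simp)) ∧
      pullback.map ω i α i a (𝟙 Z) (𝟙 X) (by rw [ha, Category.comp_id]) (by simp) ≫ hL =
        pullback.map ω i α' i b (𝟙 Z) (𝟙 X) (by rw [hb, Category.comp_id]) (by simp) := by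
  let π : pullback α α' ⟶ X := pullback.fst α α' ≫ α
  have hπ' : pullback.snd α α' ≫ α' = π := pullback.condition.symm
  let q1 : pullback π i ⟶ pullback α i :=
    pullback.map π i α i (pullback.fst α α') (𝟙 Z) (𝟙 X) (by simp [π]) (by simp)
  let q2 : pullback π i ⟶ pullback α' i :=
    pullback.map π i α' i (pullback.snd α α') (𝟙 Z) (𝟙 X) (by rw [hπ', Category.comp_id]) (by simp)
  have q1f : q1 ≫ pullback.fst α i = pullback.fst π i ≫ pullback.fst α α' := map_fst _ _ _ _ _ _ _ _ _
  have q1s : q1 ≫ pullback.snd α i = pullback.snd π i :=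
    (map_snd _ _ _ _ _ _ _ _ _).trans (Category.comp_id _)
  have q2f : q2 ≫ pullback.fst α' i = pullback.fst π i ≫ pullback.snd α α' := map_fst _ _ _ _ _ _ _ _ _
  have q2s : q2 ≫ pullback.snd α' i = pullback.snd π i :=
    (map_snd _ _ _ _ _ _ _ _ _).trans (Category.comp_id _)
  have c1 : pullback.fst α i ≫ α = (hL ≫ pullback.fst α' i) ≫ α' := by
    rw [pullback.condition, Category.assoc, pullback.condition, ← Category.assoc, hw]
  have c2 : pullback.lift (pullback.fst α i) (hL ≫ pullback.fst α' i) c1 ≫ π =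
      pullback.snd α i ≫ i := by
    simp only [π]
    rw [pullback.lift_fst_assoc, pullback.condition]
  let γ : pullback α i ⟶ pullback π i :=
    pullback.lift (pullback.lift (pullback.fst α i) (hL ≫ pullback.fst α' i) c1)
      (pullback.snd α i) c2
  have γf : γ ≫ pullback.fst π i = pullback.lift (pullback.fst α i) (hL ≫ pullback.fst α' i) c1 :=
    pullback.lift_fst _ _ _
  have γs : γ ≫ pullback.snd π i = pullback.snd α i := pullback.lift_snd _ _ _
  have hγ1 : γ ≫ q1 = 𝟙 _ := by
    apply pullback.hom_ext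
    · rw [Category.assoc, q1f, ← Category.assoc, γf, pullback.lift_fst, Category.id_comp]
    · rw [Category.assoc, q1s, γs, Category.id_comp]
  have hγ2 : γ ≫ q2 = hL := by
    apply pullback.hom_ext
    · rw [Category.assoc, q2f, ← Category.assoc, γf, pullback.lift_snd]
    · rw [Category.assoc, q2s, γs, hw]
  have hq1 : AlgebraicGeometry.Etale q1 := by
    have h2 : AlgebraicGeometry.Etale (q1 ≫ pullback.snd α i) := by rw [q1s]; infer_instance
    exact MorphismProperty.of_postcomp (W := @AlgebraicGeometry.Etale)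
      (W' := @AlgebraicGeometry.Etale) q1 (pullback.snd α i) inferInstance h2
  have hγo : IsOpenImmersion γ := isOpenImmersion_of_section γ q1 hγ1
  let pr : pullback π i ⟶ pullback α α' := pullback.fst π i
  have hpr : IsClosedImmersion pr := inferInstance
  have hC : IsClosed (pr.base '' (Set.range γ.base)ᶜ) := by
    apply pr.isClosedEmbedding.isClosedMap
    exact hγo.base_open.isOpen_range.isClosed_compl
  let O : (pullback α α').Opens := ⟨(pr.base '' (Set.range γ.base)ᶜ)ᶜ, hC.isOpen_compl⟩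
  let ω : O.toScheme ⟶ X := O.ι ≫ π
  let gZ : pullback ω i ⟶ pullback π i :=
    pullback.map ω i π i O.ι (𝟙 Z) (𝟙 X) (by simp [ω]) (by simp)
  have gf : gZ ≫ pullback.fst π i = pullback.fst ω i ≫ O.ι := map_fst _ _ _ _ _ _ _ _ _
  have gs : gZ ≫ pullback.snd π i = pullback.snd ω i :=
    (map_snd _ _ _ _ _ _ _ _ _).trans (Category.comp_id _)
  have sq : IsPullback gZ (pullback.fst ω i) pr O.ι := by
    refine IsPullback.of_right (h₁₂ := pullback.snd π i) (v₁₃ := i) (h₂₂ := π) ?_ gf
      (IsPullback.of_hasPullback π i).flip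
    rw [gs]
    exact (IsPullback.of_hasPullback ω i).flip
  have hgo : IsOpenImmersion gZ :=
    MorphismProperty.of_isPullback (P := @IsOpenImmersion) sq.flip inferInstance
  have hrange : Set.range gZ.base = Set.range γ.base := by
    have e1 : gZ = sq.isoPullback.hom ≫ pullback.fst pr O.ι := (sq.isoPullback_hom_fst).symm
    rw [e1, Scheme.Hom.comp_base, TopCat.coe_comp, Set.range_comp, Set.range_eq_univ.mpr
      (ConcreteCategory.bijective_of_isIso sq.isoPullback.hom.base).2, Set.image_univ,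
      Scheme.Pullback.range_fst, Scheme.Opens.range_ι]
    ext y
    simp only [Set.mem_preimage, O]
    constructor
    · intro hy
      by_contra hn
      exact hy ⟨y, hn, rfl⟩
    · rintro hy ⟨y', hy', hyy⟩
      have : y' = y := pr.isClosedEmbedding.injective hyy
      exact hy' (this ▸ hy)
  let e : pullback ω i ≅ pullback α i := IsOpenImmersion.isoOfRangeEq gZ γ hrange
  have he : e.hom ≫ γ = gZ := IsOpenImmersion.isoOfRangeEq_hom_fac gZ γ hrange
  have ha : (O.ι ≫ pullback.fst α α') ≫ α = ω := Category.assoc _ _ _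
  have hb : (O.ι ≫ pullback.snd α α') ≫ α' = ω := by
    rw [Category.assoc, hπ']
  refine ⟨O.toScheme, ω, inferInstance, O.ι ≫ pullback.fst α α', O.ι ≫ pullback.snd α α',
    ha, hb, ?_, ?_⟩
  · have e1 : pullback.map ω i α i (O.ι ≫ pullback.fst α α') (𝟙 Z) (𝟙 X)
        (by rw [ha, Category.comp_id]) (by simp) = gZ ≫ q1 := by
      apply pullback.hom_ext
      · rw [map_fst, Category.assoc, q1f, ← Category.assoc gZ, gf, Category.assoc]
      · rw [map_snd, Category.assoc, q1s, gs, Category.comp_id]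
    rw [e1, ← he, Category.assoc, hγ1, Category.comp_id]
    infer_instance
  · have e1 : pullback.map ω i α i (O.ι ≫ pullback.fst α α') (𝟙 Z) (𝟙 X)
        (by rw [ha, Category.comp_id]) (by simp) = gZ ≫ q1 := by
      apply pullback.hom_ext
      · rw [map_fst, Category.assoc, q1f, ← Category.assoc gZ, gf, Category.assoc]
      · rw [map_snd, Category.assoc, q1s, gs, Category.comp_id]
    have e2 : pullback.map ω i α' i (O.ι ≫ pullback.snd α α') (𝟙 Z) (𝟙 X)
        (by rw [hb, Category.comp_id]) (by simp) = gZ ≫ q2 := by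
      apply pullback.hom_ext
      · rw [map_fst, Category.assoc, q2f, ← Category.assoc gZ, gf, Category.assoc]
      · rw [map_snd, Category.assoc, q2s, gs, Category.comp_id]
    rw [e1, e2, ← he, Category.assoc, Category.assoc, Category.assoc, hγ2,
      ← Category.assoc γ, hγ1, Category.id_comp]


theorem main {Z X : Scheme.{u}} (i : Z ⟶ X) [IsClosedImmersion i] (U U' : X.Etale)
    (h : (EtCoh.bc i).obj U ⟶ (EtCoh.bc i).obj U') :
    ∃ (W : X.Etale) (a : W ⟶ U) (b : W ⟶ U'), IsIso ((EtCoh.bc i).map a) ∧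
      (EtCoh.bc i).map a ≫ h = (EtCoh.bc i).map b := by
  have hU : AlgebraicGeometry.Etale U.hom := U.prop
  have hU' : AlgebraicGeometry.Etale U'.hom := U'.prop
  have hw : h.left ≫ pullback.snd U'.hom i = pullback.snd U.hom i := MorphismProperty.Over.w h
  obtain ⟨W, ω, hω, a, b, ha, hb, h1, h2⟩ := main_sch i U.hom U'.hom h.left hw
  let W' : X.Etale := Scheme.Etale.mk ω
  let a' : W' ⟶ U := MorphismProperty.Over.homMk a ha trivial
  let b' : W' ⟶ U' := MorphismProperty.Over.homMk b hb trivial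
  have ea : ((EtCoh.bc i).map a').left = pullback.map ω i U.hom i a (𝟙 Z) (𝟙 X)
      (by rw [ha, Category.comp_id]) (by simp) := by
    apply pullback.hom_ext
    · exact (bc_map_fst i a').trans (map_fst _ _ _ _ _ _ _ _ _).symm
    · exact (bc_map_snd i a').trans ((map_snd _ _ _ _ _ _ _ _ _).trans (Category.comp_id _)).symm
  have eb : ((EtCoh.bc i).map b').left = pullback.map ω i U'.hom i b (𝟙 Z) (𝟙 X)
      (by rw [hb, Category.comp_id]) (by simp) := by
    apply pullback.hom_ext
    · exact (bc_map_fst i b').trans (map_fst _ _ _ _ _ _ _ _ _).symm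
    · exact (bc_map_snd i b').trans ((map_snd _ _ _ _ _ _ _ _ _).trans (Category.comp_id _)).symm
  refine ⟨W', a', b', ?_, ?_⟩
  · have : IsIso ((EtCoh.bc i).map a').left := ea ▸ h1
    exact isIso_of_left _
  · apply MorphismProperty.Over.Hom.ext
    change ((EtCoh.bc i).map a').left ≫ h.left = ((EtCoh.bc i).map b').left
    exact (congrArg (· ≫ h.left) ea).trans (h2.trans eb.symm)

/-- Let i : Z -> X be a closed immersion, U and U' schemes etale over X, and h a Z-morphism from U x_X Z
to U' x_X Z. Then there are an etale X-scheme W and X-morphisms a : W -> U, b : W -> U' such that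
the base change of a to Z is an isomorphism and h is the base change of b composed with the inverse
of the base change of a. -/
theorem result {Z X : Scheme.{u}} (i : Z ⟶ X) [IsClosedImmersion i] (U U' : X.Etale)
    (h : (EtCoh.bc i).obj U ⟶ (EtCoh.bc i).obj U') :
    ∃ (W : X.Etale) (a : W ⟶ U) (b : W ⟶ U'), IsIso ((EtCoh.bc i).map a) ∧ (EtCoh.bc i).map a ≫ h = (EtCoh.bc i).map b := by
  exact main i U U' h

end Groth.Agent.S0660
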