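import Groth.Statements.S10089
import Mathlib
-- import your own Groth.Agent.* helpers here

set_option autoImplicit false
universe u
open CategoryTheory CategoryTheory.Limits AlgebraicGeometry
open AlgSp

namespace Groth.Agent.S10089

section helpers
open Opposite

variable {S : Scheme.{u}} {F G : AlgSp.PSp S} (a : F ⟶ G)

/-- Data extracted from the hypothesis for one section `ξ` of `G` over `U`. -/
theorem fibre_data (ha : AlgSp.RepBySp a) (U : Over S) (ξ : G.obj (op U)) :
    ∃ (P : AlgSp.PSp S) (fst : P ⟶ F) (snd : P ⟶ (AlgSp.pyon S).obj U),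
      Presieve.IsSheaf (AlgSp.J S) P ∧
      (∀ (V : Over S) (p₁ p₂ : P.obj (op V)), fst.app (op V) p₁ = fst.app (op V) p₂ →
        snd.app (op V) p₁ = snd.app (op V) p₂ → p₁ = p₂) ∧
      (∀ (V : Over S) (x : F.obj (op V)) (t : V ⟶ U), a.app (op V) x = G.map t.op ξ →
        ∃ p : P.obj (op V), fst.app (op V) p = x ∧ snd.app (op V) p = ULift.up t) := by
  let ξ' : (AlgSp.pyon S).obj U ⟶ G := uliftYonedaEquiv.symm ξ
  have sq : IsPullback (pullback.fst a ξ') (pullback.snd a ξ') a ξ' := IsPullback.of_hasPullback a ξ'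
  obtain ⟨hP, -⟩ := ha ξ' _ _ sq
  refine ⟨pullback a ξ', pullback.fst a ξ', pullback.snd a ξ',
    (isSheaf_iff_isSheaf_of_type _ _).1 hP, ?_, ?_⟩
  · intro V p₁ p₂ h₁ h₂
    have sqV := sq.map ((evaluation _ _).obj (op V))
    exact Types.ext_of_isPullback sqV h₁ h₂
  · intro V x t hx
    have sqV := sq.map ((evaluation _ _).obj (op V))
    exact Types.exists_of_isPullback sqV x (ULift.up t)
      (show (a.app (op V)) x = (ξ'.app (op V)) (ULift.up t) from hx.trans rfl)

theorem main (S : Scheme.{u}) (F G : AlgSp.PSp S) (a : F ⟶ G)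
    (ha : AlgSp.RepBySp a) (hG : Presheaf.IsSheaf (AlgSp.J S) G) :
    Presheaf.IsSheaf (AlgSp.J S) F := by
  rw [isSheaf_iff_isSheaf_of_type] at hG ⊢
  intro U R hR
  have hGR := hG R hR
  rw [← Presieve.isSeparatedFor_and_exists_isAmalgamation_iff_isSheafFor]
  constructor
  · intro x t₁ t₂ h₁ h₂
    have hat : a.app (op U) t₁ = a.app (op U) t₂ := by
      apply hGR.isSeparatedFor.ext
      intro V f hf
      rw [← NatTrans.naturality_apply, ← NatTrans.naturality_apply, h₁ f hf, h₂ f hf]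
    obtain ⟨P, fst, snd, hP, hinj, hex⟩ := fibre_data a ha U (a.app (op U) t₁)
    obtain ⟨p₁, hp₁, hq₁⟩ := hex U t₁ (𝟙 U) (by simp)
    obtain ⟨p₂, hp₂, hq₂⟩ := hex U t₂ (𝟙 U) (by rw [← hat]; simp)
    have : p₁ = p₂ := by
      apply (hP R hR).isSeparatedFor.ext
      intro V f hf
      apply hinj
      · rw [NatTrans.naturality_apply fst, NatTrans.naturality_apply fst, hp₁, hp₂, h₁ f hf,
          h₂ f hf]
      · rw [NatTrans.naturality_apply snd, NatTrans.naturality_apply snd, hq₁, hq₂]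
    rw [← hp₁, ← hp₂, this]
  · intro x hx
    let y : Presieve.FamilyOfElements G R := fun V f hf => a.app (op V) (x f hf)
    have hy : y.Compatible := by
      intro Y₁ Y₂ Z g₁ g₂ f₁ f₂ h₁ h₂ hc
      show G.map g₁.op (a.app _ (x f₁ h₁)) = G.map g₂.op (a.app _ (x f₂ h₂))
      rw [← NatTrans.naturality_apply, ← NatTrans.naturality_apply, hx g₁ g₂ h₁ h₂ hc]
    obtain ⟨ξ, hξ⟩ :=
      (Presieve.isSeparatedFor_and_exists_isAmalgamation_iff_isSheafFor.2 hGR).2 y hy
    obtain ⟨P, fst, snd, hP, hinj, hex⟩ := fibre_data a ha U ξ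
    have hex' : ∀ (V : Over S) (f : V ⟶ U) (hf : R f), ∃ p : P.obj (op V),
        fst.app (op V) p = x f hf ∧ snd.app (op V) p = ULift.up f :=
      fun V f hf => hex V (x f hf) f (hξ f hf).symm
    choose p hp1 hp2 using hex'
    let z : Presieve.FamilyOfElements P R := fun V f hf => p V f hf
    have hz : z.Compatible := by
      intro Y₁ Y₂ Z g₁ g₂ f₁ f₂ h₁ h₂ hc
      apply hinj
      · show fst.app (op Z) (P.map g₁.op (p Y₁ f₁ h₁)) = fst.app (op Z) (P.map g₂.op (p Y₂ f₂ h₂))
        rw [NatTrans.naturality_apply fst, NatTrans.naturality_apply fst, hp1, hp1]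
        exact hx g₁ g₂ h₁ h₂ hc
      · show snd.app (op Z) (P.map g₁.op (p Y₁ f₁ h₁)) = snd.app (op Z) (P.map g₂.op (p Y₂ f₂ h₂))
        rw [NatTrans.naturality_apply snd, NatTrans.naturality_apply snd, hp2, hp2]
        show ULift.up (g₁ ≫ f₁) = ULift.up (g₂ ≫ f₂)
        rw [hc]
    obtain ⟨q, hq⟩ :=
      (Presieve.isSeparatedFor_and_exists_isAmalgamation_iff_isSheafFor.2 (hP R hR)).2 z hz
    refine ⟨fst.app (op U) q, ?_⟩
    intro V f hf
    rw [← NatTrans.naturality_apply fst, hq f hf]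
    exact hp1 V f hf

end helpers

/-- Let `a : F ⟶ G` be a map of presheaves of sets on schemes over `S` which is representable by
algebraic spaces. If `G` is an fppf sheaf, then so is `F`. -/
theorem result (S : Scheme.{u}) (F G : AlgSp.PSp S) (a : F ⟶ G)
    (ha : AlgSp.RepBySp a) (hG : Presheaf.IsSheaf (AlgSp.J S) G) :
    Presheaf.IsSheaf (AlgSp.J S) F := by
  exact main S F G a ha hG

end Groth.Agent.S10089
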