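import Groth.Statements.S0072
import Groth.Agent.Lib.Helper1.FinStalk

set_option autoImplicit false
open CategoryTheory CategoryTheory.Limits AlgebraicGeometry Opposite
universe u
open EtBase

namespace Groth.Agent.S0072

open GrothendieckTopology
open Groth.Agent.H1.EtStalk Groth.Agent.H1.EtGerm Groth.Agent.H1.PullGerm
  Groth.Agent.H1.FinStalkGeom Groth.Agent.H1.FinStalk

section

variable {X Y : Scheme.{u}} (f : X ⟶ Y) (F : EtCoh.Ab X) {Ω : Type u} [Field Ω] [IsSepClosed Ω]
  (η : Spec (CommRingCat.of Ω) ⟶ Y)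

/-- the germ maps at all points over `η` -/
noncomputable def comp (V : Y.Etale) (v : Lift η V) :
    F.obj.obj (op ((EtCoh.bc f).obj V)) →+
      (∀ ξ : {ξ : Spec (CommRingCat.of Ω) ⟶ X // ξ ≫ f = η}, (EtCoh.stalk ξ.1).obj F) :=
  AddMonoidHom.pi (fun ξ => germ ξ.1 F ((EtCoh.bc f).obj V) (liftBc f ξ.1 ξ.2 v))

theorem comp_res {V W : Y.Etale} (g : W ⟶ V) (w : Lift η W)
    (s : F.obj.obj (op ((EtCoh.bc f).obj V))) :
    comp f F η W w (F.obj.map ((EtCoh.bc f).map g).op s) = comp f F η V (Lift.map g w) s := by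
  funext ξ
  change germ ξ.1 F _ (liftBc f ξ.1 ξ.2 w) (F.obj.map ((EtCoh.bc f).map g).op s) =
    germ ξ.1 F _ (liftBc f ξ.1 ξ.2 (Lift.map g w)) s
  rw [germ_res, liftBc_map]

/-- the comparison map `(f_* F)_η ⟶ ∏_ξ F_ξ` -/
noncomputable def theta :
    (EtCoh.stalk η).obj ((EtCoh.push f).obj F) ⟶
      AddCommGrpCat.of (∀ ξ : {ξ : Spec (CommRingCat.of Ω) ⟶ X // ξ ≫ f = η},
        (EtCoh.stalk ξ.1).obj F) :=
  (Scheme.pointSmallEtale η).presheafFiberDesc (P := ((EtCoh.push f).obj F).obj)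
    (fun V v => AddCommGrpCat.ofHom (comp f F η V v)) (by
      intro W V g w
      apply AddCommGrpCat.hom_ext
      apply AddMonoidHom.ext
      intro s
      exact comp_res f F η g w s)

theorem theta_germ (V : Y.Etale) (v : Lift η V) (s : F.obj.obj (op ((EtCoh.bc f).obj V))) :
    theta f F η (germ η ((EtCoh.push f).obj F) V v s) = comp f F η V v s := by
  have := (Scheme.pointSmallEtale η).toPresheafFiber_presheafFiberDesc
    (P := ((EtCoh.push f).obj F).obj)
    (fun V v => AddCommGrpCat.ofHom (comp f F η V v)) (by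
      intro W V g w
      apply AddCommGrpCat.hom_ext
      apply AddMonoidHom.ext
      intro s
      exact comp_res f F η g w s) V v
  exact ConcreteCategory.congr_hom this s

end

theorem theta_bijective {X Y : Scheme.{u}} (f : X ⟶ Y) [IsFinite f] (F : EtCoh.Ab X)
    {Ω : Type u} [Field Ω] [IsAlgClosed Ω] (η : Spec (CommRingCat.of Ω) ⟶ Y) :
    Function.Bijective (theta f F η) := by
  constructor
  · rw [← AddMonoidHom.coe_coe, injective_iff_map_eq_zero]
    intro q hq
    obtain ⟨V, v, s, rfl⟩ := germ_surjective ((EtCoh.push f).obj F) q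
    change theta f F η (germ η _ V v s) = 0 at hq
    rw [theta_germ] at hq
    obtain ⟨V₁, g, v₁, hv₁, hz⟩ := inj f η F V v s (fun ξ => congrFun hq ξ)
    rw [← hv₁, ← germ_res]
    have hz' : ((EtCoh.push f).obj F).obj.map g.op s = 0 := hz
    rw [hz', map_zero]
  · intro p
    obtain ⟨V, v, s, hs⟩ := surj f η F p
    refine ⟨germ η ((EtCoh.push f).obj F) V v s, ?_⟩
    rw [theta_germ]
    funext ξ
    exact hs ξ

theorem main {X Y : Scheme.{u}} (f : X ⟶ Y) [IsFinite f] [EtCoh.BCCont f]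
    (F : EtCoh.Ab X) {Ω : Type u} [Field Ω] [IsAlgClosed Ω] (η : Spec (CommRingCat.of Ω) ⟶ Y) :
    Nonempty ((EtCoh.stalk η).obj ((EtCoh.push f).obj F) ≅
      ∐ fun ξ : {ξ : Spec (CommRingCat.of Ω) ⟶ X // ξ ≫ f = η} => (EtCoh.stalk ξ.1).obj F) := by
  have hfin : Finite {ξ : Spec (CommRingCat.of Ω) ⟶ X // ξ ≫ f = η} := finite_geomPts f η
  have hiso : IsIso (theta f F η) :=
    (ConcreteCategory.isIso_iff_bijective _).mpr (theta_bijective f F η)
  let G : {ξ : Spec (CommRingCat.of Ω) ⟶ X // ξ ≫ f = η} → AddCommGrpCat.{u + 1} :=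
    fun ξ => (EtCoh.stalk ξ.1).obj F
  exact ⟨asIso (theta f F η) ≪≫ ((limit.isLimit (Discrete.functor G)).conePointUniqueUpToIso
      (AddCommGrpCat.HasLimit.productLimitCone.{u, u + 1} G).isLimit).symm ≪≫
    (biproduct.isoProduct G).symm ≪≫ biproduct.isoCoproduct G⟩

/-- Let f : X → Y be a finite morphism of schemes, F an abelian sheaf on X_ét, and η : Spec Ω → Y a
geometric point with Ω algebraically closed. Then the stalk (f_*F)_η is isomorphic to the direct sum
of the stalks F_ξ over the geometric points ξ : Spec Ω → X lying over η (those with f ∘ ξ = η). Only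
the existence of an isomorphism is asserted; the published statement gives a canonical
identification. -/
theorem result {X Y : Scheme.{u}} (f : X ⟶ Y) [IsFinite f] [EtCoh.BCCont f]
    (F : EtCoh.Ab X) {Ω : Type u} [Field Ω] [IsAlgClosed Ω] (η : Spec (CommRingCat.of Ω) ⟶ Y) :
    Nonempty ((EtCoh.stalk η).obj ((EtCoh.push f).obj F) ≅
      ∐ fun ξ : {ξ : Spec (CommRingCat.of Ω) ⟶ X // ξ ≫ f = η} => (EtCoh.stalk ξ.1).obj F) := by
  exact main f F η

end Groth.Agent.S0072
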