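import Groth.Statements.S0621
import Groth.Agent.S0072
import Groth.Agent.Lib.Helper1.EtStalkAlg

set_option autoImplicit false
open CategoryTheory CategoryTheory.Limits AlgebraicGeometry Opposite
universe u
open EtCore

namespace Groth.Agent.S0621

open GrothendieckTopology
open Groth.Agent.H1.EtStalk Groth.Agent.H1.EtGerm Groth.Agent.H1.PullGerm
  Groth.Agent.H1.FinStalkGeom Groth.Agent.H1.FinStalk Groth.Agent.H1.EtStalkAlg

section Beta

variable {X Y X' Y' : Scheme.{u}} (f : X ⟶ Y) (g : Y' ⟶ Y) (f' : X' ⟶ Y') (g' : X' ⟶ X)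
  (w : g' ≫ f = f' ≫ g) (F : EtCoh.Ab X)

/-- the morphism `f_* F ⟶ g_* f'_* g'⁻¹ F` whose transpose is the base change morphism -/
noncomputable def beta :
    (EtCoh.push f).obj F ⟶ (EtCoh.push g).obj ((EtCoh.push f').obj ((EtCoh.pull g').obj F)) :=
  (EtCoh.push f).map ((EtCoh.pullPushAdj g').unit.app F) ≫ (EtCoh.pushComp f g').hom.app _ ≫
      (EtCoh.pushCongr w).hom.app _ ≫ (EtCoh.pushComp g f').inv.app _

theorem beta_eq : beta f g f' g' w F =
    (EtCoh.pullPushAdj g).unit.app _ ≫ (EtCoh.push g).map (EtCoh.baseChange0 f g f' g' w F) := by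
  have := (EtCoh.pullPushAdj g).homEquiv_unit (f := EtCoh.baseChange0 f g f' g' w F)
  refine Eq.trans ?_ this
  exact (Equiv.apply_symm_apply _ _).symm

/-- the canonical isomorphism `(V ×_Y Y') ×_{Y'} X' ⟶ (V ×_Y X) ×_X X'` -/
noncomputable def MV (V : Y.Etale) :
    (EtCoh.bc f').obj ((EtCoh.bc g).obj V) ⟶ (EtCoh.bc g').obj ((EtCoh.bc f).obj V) :=
  (MorphismProperty.Over.pullbackComp (P := EtCoh.etaleMP) (Q := ⊤) f' g).inv.app V ≫
    (MorphismProperty.Over.pullbackCongr (P := EtCoh.etaleMP) (Q := ⊤) w).inv.app V ≫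
    (MorphismProperty.Over.pullbackComp (P := EtCoh.etaleMP) (Q := ⊤) g' f).hom.app V

theorem beta_app (V : Y.Etale) (s : F.obj.obj (op ((EtCoh.bc f).obj V))) :
    (beta f g f' g' w F).hom.app (op V) s =
      ((EtCoh.pull g').obj F).obj.map (MV f g f' g' w V).op (usec g' F ((EtCoh.bc f).obj V) s) := by
  unfold beta MV
  rw [op_comp, op_comp, Functor.map_comp, Functor.map_comp]
  rfl

theorem plain_MV {C : Type*} [Category C] {A B C' D Q : C} (a : A ⟶ B) (b : B ⟶ C') (c : C' ⟶ D)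
    (a' : B ⟶ A) (b' : C' ⟶ B) (pA : A ⟶ Q) (pB : B ⟶ Q) (pC : C' ⟶ Q) (pD : D ⟶ Q)
    (h1 : c ≫ pD = pC) (h2 : b' ≫ pB = pC) (h3 : a' ≫ pA = pB) (e2 : b ≫ b' = 𝟙 _)
    (e3 : a ≫ a' = 𝟙 _) : (a ≫ b ≫ c) ≫ pD = pA := by
  rw [Category.assoc, Category.assoc, h1, ← h2, ← Category.assoc b, e2, Category.id_comp, ← h3,
    ← Category.assoc, e3, Category.id_comp]

theorem MV_fst_fst (V : Y.Etale) :
    (MV f g f' g' w V).left ≫ pullback.fst (pullback.snd V.hom f) g' ≫ pullback.fst V.hom f =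
      pullback.fst (pullback.snd V.hom g) f' ≫ pullback.fst V.hom g := by
  have h1 := MorphismProperty.Over.pullbackComp_left_fst_fst (P := EtCoh.etaleMP) (Q := ⊤) g' f V
  have h2 := MorphismProperty.Over.pullbackCongr_hom_app_left_fst (P := EtCoh.etaleMP) (Q := ⊤) w V
  have h3 := MorphismProperty.Over.pullbackComp_left_fst_fst (P := EtCoh.etaleMP) (Q := ⊤) f' g V
  have e2 : ((MorphismProperty.Over.pullbackCongr (P := EtCoh.etaleMP) (Q := ⊤) w).inv.app V).left ≫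
      ((MorphismProperty.Over.pullbackCongr (P := EtCoh.etaleMP) (Q := ⊤) w).hom.app V).left = 𝟙 _ :=
    congrArg (fun k => k.left)
      ((MorphismProperty.Over.pullbackCongr (P := EtCoh.etaleMP) (Q := ⊤) w).inv_hom_id_app V)
  have e3 : ((MorphismProperty.Over.pullbackComp (P := EtCoh.etaleMP) (Q := ⊤) f' g).inv.app V).left ≫
      ((MorphismProperty.Over.pullbackComp (P := EtCoh.etaleMP) (Q := ⊤) f' g).hom.app V).left = 𝟙 _ :=
    congrArg (fun k => k.left)
      ((MorphismProperty.Over.pullbackComp (P := EtCoh.etaleMP) (Q := ⊤) f' g).inv_hom_id_app V)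
  exact plain_MV _ _ _ _ _ _ _ _ _ h1 h2 h3 e2 e3

end Beta

section LiftMV

theorem plain_lift_ext {T V X Y X' : Scheme.{u}} (vh : V ⟶ Y) (f : X ⟶ Y) (g' : X' ⟶ X)
    (l l' : T ⟶ pullback (pullback.snd vh f) g')
    (h1 : l ≫ pullback.fst (pullback.snd vh f) g' ≫ pullback.fst vh f =
      l' ≫ pullback.fst (pullback.snd vh f) g' ≫ pullback.fst vh f)
    (h2 : l ≫ pullback.snd (pullback.snd vh f) g' = l' ≫ pullback.snd (pullback.snd vh f) g') :
    l = l' := by
  apply pullback.hom_ext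
  · apply pullback.hom_ext
    · rw [Category.assoc, Category.assoc]
      exact h1
    · rw [Category.assoc, Category.assoc, pullback.condition, ← Category.assoc, ← Category.assoc, h2]
  · exact h2

theorem plain_lift_fst_fst {T V X Y X' : Scheme.{u}} (vh : V ⟶ Y) (f : X ⟶ Y) (g' : X' ⟶ X)
    (a : T ⟶ V) (b : T ⟶ X) (c : T ⟶ X') (h1 : a ≫ vh = b ≫ f)
    (h2 : pullback.lift a b h1 ≫ pullback.snd vh f = c ≫ g') :
    pullback.lift (pullback.lift a b h1) c h2 ≫ pullback.fst (pullback.snd vh f) g' ≫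
      pullback.fst vh f = a := by
  rw [← Category.assoc, pullback.lift_fst, pullback.lift_fst]

variable {X Y X' Y' : Scheme.{u}} (f : X ⟶ Y) (g : Y' ⟶ Y) (f' : X' ⟶ Y') (g' : X' ⟶ X)
  (w : g' ≫ f = f' ≫ g) {Ω : Type u} [Field Ω] [IsSepClosed Ω]

theorem lift_MV (η' : Spec (CommRingCat.of Ω) ⟶ Y') (ξ' : Spec (CommRingCat.of Ω) ⟶ X')
    (hξ' : ξ' ≫ f' = η') (hξ : (ξ' ≫ g') ≫ f = η' ≫ g) (V : Y.Etale) (v : Lift (η' ≫ g) V) :
    Lift.map (MV f g f' g' w V) (liftBc f' ξ' hξ' (liftBc g η' rfl v)) =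
      liftBc g' ξ' rfl (liftBc f (ξ' ≫ g') hξ v) := by
  apply Lift.ext
  refine plain_lift_ext V.hom f g' _ _ ?_ ?_
  · have e1 : (Lift.map (MV f g f' g' w V) (liftBc f' ξ' hξ' (liftBc g η' rfl v))).hom ≫
        pullback.fst (pullback.snd V.hom f) g' ≫ pullback.fst V.hom f = v.hom := by
      change ((liftBc f' ξ' hξ' (liftBc g η' rfl v)).hom ≫ (MV f g f' g' w V).left) ≫
        pullback.fst (pullback.snd V.hom f) g' ≫ pullback.fst V.hom f = v.hom
      rw [Category.assoc, MV_fst_fst]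
      exact plain_lift_fst_fst V.hom g f' v.hom η' ξ' _ _
    have e2 : (liftBc g' ξ' rfl (liftBc f (ξ' ≫ g') hξ v)).hom ≫
        pullback.fst (pullback.snd V.hom f) g' ≫ pullback.fst V.hom f = v.hom :=
      plain_lift_fst_fst V.hom f g' v.hom (ξ' ≫ g') ξ' _ _
    exact e1.trans e2.symm
  · exact (Lift.hom_comp _).trans (Lift.hom_comp _).symm

end LiftMV

section Key

variable {X Y X' Y' : Scheme.{u}} (f : X ⟶ Y) (g : Y' ⟶ Y) (f' : X' ⟶ Y') (g' : X' ⟶ X)
  (w : g' ≫ f = f' ≫ g) (F : EtCoh.Ab X) {Ω : Type u} [Field Ω] [IsSepClosed Ω]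
  (η' : Spec (CommRingCat.of Ω) ⟶ Y')

theorem phi_usec (V : Y.Etale) (s : F.obj.obj (op ((EtCoh.bc f).obj V))) :
    (EtCoh.baseChange0 f g f' g' w F).hom.app (op ((EtCoh.bc g).obj V))
        (usec g ((EtCoh.push f).obj F) V s) =
      ((EtCoh.pull g').obj F).obj.map (MV f g f' g' w V).op
        (usec g' F ((EtCoh.bc f).obj V) s) := by
  rw [← beta_app, beta_eq]
  rfl

theorem key (ξ' : Spec (CommRingCat.of Ω) ⟶ X') (hξ' : ξ' ≫ f' = η')
    (hξ : (ξ' ≫ g') ≫ f = η' ≫ g)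
    (q : (EtCoh.stalk (η' ≫ g)).obj ((EtCoh.push f).obj F)) :
    S0072.theta f' ((EtCoh.pull g').obj F) η'
        ((EtCoh.stalk η').map (EtCoh.baseChange0 f g f' g' w F)
          (tau g η' rfl ((EtCoh.push f).obj F) q)) ⟨ξ', hξ'⟩ =
      tau g' ξ' rfl F (S0072.theta f F (η' ≫ g) q ⟨ξ' ≫ g', hξ⟩) := by
  obtain ⟨V, v, s, rfl⟩ := germ_surjective ((EtCoh.push f).obj F) q
  rw [tau_germ, S0072.theta_germ]
  change S0072.theta f' ((EtCoh.pull g').obj F) η'
        ((EtCoh.stalk η').map (EtCoh.baseChange0 f g f' g' w F)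
          (germ η' ((EtCoh.pull g).obj ((EtCoh.push f).obj F)) ((EtCoh.bc g).obj V)
            (liftBc g η' rfl v) (usec g ((EtCoh.push f).obj F) V s))) ⟨ξ', hξ'⟩ =
      tau g' ξ' rfl F (germ (ξ' ≫ g') F ((EtCoh.bc f).obj V) (liftBc f (ξ' ≫ g') hξ v) s)
  rw [stalk_map_germ, tau_germ, phi_usec]
  have h1 := S0072.theta_germ f' ((EtCoh.pull g').obj F) η' ((EtCoh.bc g).obj V)
    (liftBc g η' rfl v)
    (((EtCoh.pull g').obj F).obj.map (MV f g f' g' w V).op (usec g' F ((EtCoh.bc f).obj V) s))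
  refine (congrFun h1 ⟨ξ', hξ'⟩).trans ?_
  change germ ξ' ((EtCoh.pull g').obj F) _ (liftBc f' ξ' hξ' (liftBc g η' rfl v))
      (((EtCoh.pull g').obj F).obj.map (MV f g f' g' w V).op (usec g' F ((EtCoh.bc f).obj V) s)) =
    germ ξ' ((EtCoh.pull g').obj F) _ (liftBc g' ξ' rfl (liftBc f (ξ' ≫ g') hξ v))
      (usec g' F ((EtCoh.bc f).obj V) s)
  rw [germ_res, lift_MV]

end Key

section Main

variable {X Y X' Y' : Scheme.{u}} (f : X ⟶ Y) [IsFinite f] (g : Y' ⟶ Y) (f' : X' ⟶ Y')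
  (g' : X' ⟶ X) (h : IsPullback g' f' f g) (F : EtCoh.Ab X)

include h in
theorem isFinite_of_isPullback : IsFinite f' :=
  MorphismProperty.of_isPullback (P := @IsFinite) h inferInstance

theorem stalk_bijective {Ω : Type u} [Field Ω] [IsAlgClosed Ω]
    (η' : Spec (CommRingCat.of Ω) ⟶ Y') :
    Function.Bijective ((EtCoh.stalk η').map (EtCoh.baseChange0 f g f' g' h.w F)) := by
  have hf' : IsFinite f' := isFinite_of_isPullback f g f' g' h
  have hcomp : ∀ ξ' : {ξ' : Spec (CommRingCat.of Ω) ⟶ X' // ξ' ≫ f' = η'},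
      (ξ'.1 ≫ g') ≫ f = η' ≫ g := fun ξ' => by
    rw [Category.assoc, h.w, ← Category.assoc, ξ'.2]
  let e₀ : {ξ' : Spec (CommRingCat.of Ω) ⟶ X' // ξ' ≫ f' = η'} →
      {ξ : Spec (CommRingCat.of Ω) ⟶ X // ξ ≫ f = η' ≫ g} := fun ξ' => ⟨ξ'.1 ≫ g', hcomp ξ'⟩
  have he₀ : Function.Bijective e₀ := by
    constructor
    · intro a b hab
      apply Subtype.ext
      apply h.hom_ext
      · exact congrArg Subtype.val hab
      · rw [a.2, b.2]
    · intro ξ
      exact ⟨⟨h.lift ξ.1 η' ξ.2, h.lift_snd _ _ _⟩, Subtype.ext (h.lift_fst _ _ _)⟩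
  let e := Equiv.ofBijective e₀ he₀
  let P : {ξ : Spec (CommRingCat.of Ω) ⟶ X // ξ ≫ f = η' ≫ g} → Type (u + 1) :=
    fun ξ => (EtCoh.stalk ξ.1).obj F
  let res : (∀ ξ, P ξ) → (∀ ξ', P (e ξ')) := fun p ξ' => p (e ξ')
  have hres : Function.Bijective res := by
    have : res = (Equiv.piCongrLeft P e).symm := by
      funext p ξ'
      exact (Equiv.piCongrLeft_symm_apply P e p ξ').symm
    rw [this]
    exact Equiv.bijective _
  let T : (∀ ξ', P (e ξ')) →
      (∀ ξ' : {ξ' : Spec (CommRingCat.of Ω) ⟶ X' // ξ' ≫ f' = η'},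
        (EtCoh.stalk ξ'.1).obj ((EtCoh.pull g').obj F)) :=
    fun q ξ' => tau g' ξ'.1 rfl F (q ξ')
  have hT : Function.Bijective T :=
    Function.Bijective.piMap (fun ξ' => tau_bijective g' ξ'.1 rfl F)
  have hkey : (S0072.theta f' ((EtCoh.pull g').obj F) η') ∘
      ((EtCoh.stalk η').map (EtCoh.baseChange0 f g f' g' h.w F)) ∘
        (tau g η' rfl ((EtCoh.push f).obj F)) = T ∘ res ∘ (S0072.theta f F (η' ≫ g)) := by
    funext q ξ'
    exact key f g f' g' h.w F η' ξ'.1 ξ'.2 (hcomp ξ') q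
  have h1 : Function.Bijective (T ∘ res ∘ S0072.theta f F (η' ≫ g)) :=
    hT.comp (hres.comp (S0072.theta_bijective f F _))
  rw [← hkey] at h1
  have h2 := (Function.Bijective.of_comp_iff' (S0072.theta_bijective f' _ η') _).mp h1
  exact (Function.Bijective.of_comp_iff _ (tau_bijective g η' rfl _)).mp h2

theorem main : IsIso (EtCoh.baseChange0 f g f' g' h.w F) :=
  isIso_of_forall_algClosed _ (fun _ _ _ η' => stalk_bijective f g f' g' h F η')

end Main

/-- In a cartesian square of schemes X' = X x_Y Y' whose right vertical arrow f is finite, the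
degree-zero base change map from the pullback along g of f_* F to f'_* of the pullback of F along g'
is an isomorphism, for every abelian sheaf F on the small etale site of X (no torsion hypothesis). -/
theorem result {X Y X' Y' : Scheme.{u}} (f : X ⟶ Y) [IsFinite f] (g : Y' ⟶ Y)
    (f' : X' ⟶ Y') (g' : X' ⟶ X) (h : IsPullback g' f' f g) (F : EtCoh.Ab X) :
    IsIso (EtCoh.baseChange0 f g f' g' h.w F) := by
  exact main f g f' g' h F

end Groth.Agent.S0621
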