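import Groth.Statements.S10510
import Groth.Agent.Lib.Helper11.AlgSpBasic

set_option autoImplicit false
universe u
open CategoryTheory CategoryTheory.Limits AlgebraicGeometry
open AlgSp

namespace Groth.Agent.S10510

/-- A jointly surjective family of flat, locally finitely presented morphisms over `S` generates a covering
sieve for the fppf topology. -/
theorem cover_mem_family {S : Scheme.{u}} {κ : Type u} {T : Over S} (Tk : κ → Over S)
    (c : ∀ k, Tk k ⟶ T) (h1 : ∀ k, Flat (c k).left) (h2 : ∀ k, LocallyOfFinitePresentation (c k).left)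
    (h3 : ∀ x : ↥T.left, ∃ k, x ∈ Set.range (c k).left) :
    Sieve.ofArrows Tk c ∈ (AlgSp.J S) T := by
  rw [GrothendieckTopology.mem_over_iff, Sieve.overEquiv_ofArrows]
  refine Precoverage.generate_mem_toGrothendieck ?_
  rw [Scheme.fppfPrecoverage, Scheme.ofArrows_mem_precoverage_iff]
  exact ⟨h3, fun k => ⟨h1 k, h2 k⟩⟩

/-- An fppf covering `{X_i ⟶ X}` of an algebraic space `X` over `S` by algebraic spaces is jointly
surjective as a family of maps of fppf sheaves: every `h_T ⟶ X` from a scheme `T` over `S` lifts,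
locally for the fppf topology on `T`, through members of the family. -/
theorem result {S : Scheme.{u}} (X : AlgSp.Space S) {ι : Type u}
    (Xi : ι → AlgSp.Space S) (g : ∀ i, Xi i ⟶ X)
    (h : AlgSp.IsFppfCover (fun i => (Xi i).obj) (fun i => (g i).hom))
    (T : Over S) (t : (AlgSp.yon S).obj T ⟶ X.obj) :
    ∃ (κ : Type u) (Tk : κ → Over S) (c : ∀ k, Tk k ⟶ T),
      Sieve.ofArrows Tk c ∈ AlgSp.J S T ∧
      ∀ k, ∃ (i : ι) (l : (AlgSp.yon S).obj (Tk k) ⟶ (Xi i).obj), l ≫ (g i).hom = (AlgSp.yon S).map (c k) ≫ t := by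
  obtain ⟨hP, hsurj⟩ := h
  -- an atlas of `X`
  obtain ⟨V, b, hbe, hbs⟩ := X.property.atlas
  -- pull back the atlas along `t`
  obtain ⟨T', p, β₀, sqT⟩ := hbe.rep t
  obtain ⟨β, rfl⟩ := (AlgSp.yon S).map_surjective β₀
  have hpe : Etale p.left := hbe.2 _ _ p sqT
  have hps : Surjective p.left := hbs.2 _ _ p sqT
  -- atlases of the `X_i` and their pullbacks to `V`
  have hat : ∀ i, ∃ (U : Over S) (a : (AlgSp.yon S).obj U ⟶ (Xi i).obj),
      AlgSp.RepWith @Etale a ∧ AlgSp.RepWith @Surjective a := fun i => (Xi i).property.atlas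
  choose U a hae has using hat
  have hW : ∀ i, ∃ (W : Over S) (π : W ⟶ U i) (hh : W ⟶ V),
      IsPullback ((AlgSp.yon S).map hh) ((AlgSp.yon S).map π) b (a i ≫ (g i).hom) := by
    intro i
    obtain ⟨W, π, h₀, sq⟩ := hbe.rep (a i ≫ (g i).hom)
    obtain ⟨hh, rfl⟩ := (AlgSp.yon S).map_surjective h₀
    exact ⟨W, π, hh, sq⟩
  choose W π hh sqW using hW
  have hπe : ∀ i, Etale (π i).left := fun i => hbe.2 _ _ (π i) (sqW i)
  have hflat : ∀ i, Flat (hh i).left := by
    intro i
    refine (hP i).1 ((AlgSp.yon S).map (π i) ≫ a i) b (hh i) ?_ hbe ?_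
    · exact (AlgSp.repWith_isMultiplicative (S := S) @Etale).comp_mem _ _
        ((AlgSp.repWith_yon_map_iff _ (π i)).2 (hπe i)) (hae i)
    · rw [Category.assoc]; exact (sqW i).w.symm
  have hlfp : ∀ i, LocallyOfFinitePresentation (hh i).left := by
    intro i
    refine (hP i).2 ((AlgSp.yon S).map (π i) ≫ a i) b (hh i) ?_ hbe ?_
    · exact (AlgSp.repWith_isMultiplicative (S := S) @Etale).comp_mem _ _
        ((AlgSp.repWith_yon_map_iff _ (π i)).2 (hπe i)) (hae i)
    · rw [Category.assoc]; exact (sqW i).w.symm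
  -- the covering family
  have sq1 : ∀ i, IsPullback (pullback.fst (hh i) β) (pullback.snd (hh i) β) (hh i) β :=
    fun i => IsPullback.of_hasPullback _ _
  have sq1' : ∀ i, IsPullback (pullback.fst (hh i) β).left (pullback.snd (hh i) β).left (hh i).left β.left :=
    fun i => (sq1 i).map (Over.forget S)
  refine ⟨ι, fun i => pullback (hh i) β, fun i => pullback.snd (hh i) β ≫ p, ?_, ?_⟩
  · refine cover_mem_family _ _ ?_ ?_ ?_
    · intro i
      have : Flat (pullback.snd (hh i) β).left :=
        MorphismProperty.of_isPullback (P := @Flat) (sq1' i) (hflat i)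
      have : Flat p.left := inferInstance
      change Flat ((pullback.snd (hh i) β).left ≫ p.left)
      infer_instance
    · intro i
      have : LocallyOfFinitePresentation (pullback.snd (hh i) β).left :=
        MorphismProperty.of_isPullback (P := @LocallyOfFinitePresentation) (sq1' i) (hlfp i)
      have : LocallyOfFinitePresentation p.left := inferInstance
      change LocallyOfFinitePresentation ((pullback.snd (hh i) β).left ≫ p.left)
      infer_instance
    · intro τ
      obtain ⟨τ', hτ'⟩ := hps.surj τ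
      obtain ⟨i, xi, hxi⟩ := hsurj (AlgSp.Points.ofPt b (β.left τ'))
      obtain ⟨u, hu⟩ := Groth.Agent.Lib.helper11.surjective_ofPt (a i) (has i) xi
      have e : AlgSp.Points.ofPt b (β.left τ') = AlgSp.Points.ofPt (a i ≫ (g i).hom) u := by
        rw [← AlgSp.Points.map_ofPt, hu, hxi]
      obtain ⟨w, hw1, hw2⟩ := Groth.Agent.Lib.helper11.exists_of_isPullback_schemes (sqW i) (β.left τ') u e
      obtain ⟨z, hz1, hz2⟩ := Scheme.Pullback.exists_preimage_pullback
        (f := (hh i).left) (g := β.left) w τ' hw1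
      refine ⟨i, (sq1' i).isoPullback.inv z, ?_⟩
      change ((pullback.snd (hh i) β).left ≫ p.left) ((sq1' i).isoPullback.inv z) = τ
      rw [Scheme.Hom.comp_apply, ← Scheme.Hom.comp_apply (sq1' i).isoPullback.inv,
        (sq1' i).isoPullback_inv_snd, hz2, hτ']
  · intro i
    refine ⟨i, (AlgSp.yon S).map (pullback.fst (hh i) β ≫ π i) ≫ a i, ?_⟩
    rw [Functor.map_comp, Functor.map_comp, Category.assoc, Category.assoc, Category.assoc,
      ← (sqW i).w, ← sqT.w, ← Functor.map_comp_assoc, ← Functor.map_comp_assoc,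
      (sq1 i).w]

end Groth.Agent.S10510
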