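import Groth.Statements.S9885
-- import your own Groth.Agent.* helpers here

set_option autoImplicit false
universe u
open CategoryTheory CategoryTheory.Limits AlgebraicGeometry
open AlgSp

namespace Groth.Agent.S9885

/-- The sieve generated by a flat, locally finitely presented, surjective morphism over `S` is covering
for the fppf topology. -/
theorem cover_mem {S : Scheme.{u}} {W T : Over S} (w : W ⟶ T) [Flat w.left]
    [LocallyOfFinitePresentation w.left] [Surjective w.left] :
    Sieve.ofArrows (fun _ : PUnit.{1} => W) (fun _ => w) ∈ (AlgSp.J S) T := by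
  rw [GrothendieckTopology.mem_over_iff, Sieve.overEquiv_ofArrows]
  have h := Precoverage.generate_mem_toGrothendieck (w.left.singleton_mem_fppfPrecoverage)
  have e : Presieve.singleton w.left = Presieve.ofArrows (fun _ : PUnit.{1} => W.left)
      (fun _ => w.left) := (Presieve.ofArrows_pUnit.{0} w.left).symm
  rw [e] at h
  exact h

/-- Let `a : F ⟶ G` be a map of fppf sheaves of sets over `S` which is representable by schemes, flat,
locally of finite presentation and surjective (in the representable sense). Then `a` is surjective
as a map of sheaves (locally surjective). -/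
theorem result (S : Scheme.{u}) (F G : AlgSp.Sp S) (a : F ⟶ G)
    (h₁ : AlgSp.RepWith @Flat a) (h₂ : AlgSp.RepWith @LocallyOfFinitePresentation a)
    (h₃ : AlgSp.RepWith @Surjective a) : Sheaf.IsLocallySurjective a := by
  constructor
  intro T y
  obtain ⟨V, snd, fst, sq⟩ := h₁.rep ((AlgSp.J S).uliftYonedaEquiv.symm y)
  have i1 : Flat snd.left := h₁.2 _ fst snd sq
  have i2 : LocallyOfFinitePresentation snd.left := h₂.2 _ fst snd sq
  have i3 : Surjective snd.left := h₃.2 _ fst snd sq
  refine (AlgSp.J S).superset_covering ?_ (cover_mem snd)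
  rintro Y k ⟨_, l, _, ⟨⟨⟩⟩, rfl⟩
  refine ⟨(AlgSp.J S).uliftYonedaEquiv ((AlgSp.yon S).map l ≫ fst), ?_⟩
  have e1 := GrothendieckTopology.uliftYonedaEquiv_comp (AlgSp.J S) ((AlgSp.yon S).map l ≫ fst) a
  rw [Category.assoc, sq.w, ← Category.assoc, ← Functor.map_comp,
    ← GrothendieckTopology.uliftYonedaEquiv_naturality, Equiv.apply_symm_apply] at e1
  exact e1.symm

end Groth.Agent.S9885
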