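import Groth.Statements.S0500
import Mathlib.RingTheory.AdjoinRoot
import Mathlib.RingTheory.Nakayama
import Mathlib.Algebra.Group.Pi.Units
import Mathlib.RingTheory.LocalRing.ResidueField.Basic
import Mathlib.Tactic.Ring
import Mathlib.Tactic.LinearCombination

set_option autoImplicit false
universe u
open Hensel
open Polynomial IsLocalRing

namespace Groth.Agent.S0500

/-- If every algebra over a local ring that is finitely generated as a module is ring-isomorphic to a
finite product of local rings, then the local ring is henselian. -/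
theorem result (R : Type u) [CommRing R] [IsLocalRing R]
    (h : ∀ (S : Type u) [CommRing S] [Algebra R S], Module.Finite R S →
      ∃ (ι : Type u) (_ : Fintype ι) (A : ι → Type u) (_ : ∀ i, CommRing (A i)),
        (∀ i, IsLocalRing (A i)) ∧ Nonempty (S ≃+* (∀ i, A i))) :
    HenselianLocalRing R := by
  classical
  refine ⟨fun f hf a₀ h0 h1 => ?_⟩
  set S := AdjoinRoot f with hS
  have hfin : Module.Finite R S := hf.finite_adjoinRoot
  obtain ⟨ι, hι, A, hA, hloc, ⟨φ⟩⟩ := h S hfin
  set x : S := AdjoinRoot.root f with hxdef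
  set g := f /ₘ (X - C a₀) with hgdef
  have hfg : f = (X - C a₀) * g + C (f.eval a₀) := by
    have := modByMonic_add_div f (X - C a₀)
    rw [modByMonic_X_sub_C_eq_C_eval] at this
    rw [hgdef]
    linear_combination -this
  have hg0 : g.eval a₀ = f.derivative.eval a₀ := by
    conv_rhs => rw [hfg]
    simp [derivative_mul]
  set μ := f.eval a₀ with hμ
  have hx0 : aeval x f = 0 := by
    rw [hxdef, AdjoinRoot.aeval_eq, AdjoinRoot.mk_self]
  set y : S := x - algebraMap R S a₀ with hy
  set G : S := aeval x g with hG
  have hyG : y * G = - algebraMap R S μ := by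
    have := congrArg (aeval x) hfg
    rw [hx0, map_add, map_mul, map_sub, aeval_X, aeval_C, aeval_C] at this
    linear_combination -this
  obtain ⟨t, ht⟩ : y ∣ G - algebraMap R S (g.eval a₀) := by
    have := Polynomial.sub_dvd_eval_sub x (algebraMap R S a₀) (g.map (algebraMap R S))
    rwa [eval_map, eval_map, ← aeval_def, eval₂_at_apply] at this
  have hu : IsUnit (algebraMap R S (g.eval a₀)) := (hg0 ▸ h1).map _
  have hor : ∀ i, IsUnit (φ G i) ∨ IsUnit (φ y i) := by
    intro i
    have h2 : G - y * t = algebraMap R S (g.eval a₀) := by rw [← ht]; ring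
    have h3 : IsUnit (φ (G - y * t) i) := by
      rw [h2]
      exact Pi.isUnit_iff.1 (hu.map φ) i
    rw [map_sub, Pi.sub_apply, map_mul, Pi.mul_apply, sub_eq_add_neg] at h3
    rcases IsLocalRing.isUnit_or_isUnit_of_isUnit_add h3 with h4 | h4
    · exact Or.inl h4
    · exact Or.inr (isUnit_of_mul_isUnit_left ((IsUnit.neg_iff _).1 h4))
  set E : ∀ i, A i := fun i => if IsUnit (φ G i) then 1 else 0 with hE
  set W : ∀ i, A i := fun i => if h : IsUnit (φ G i) then ((h.unit⁻¹ : (A i)ˣ) : A i) else 0
    with hW
  set e : S := φ.symm E with he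
  set w : S := φ.symm W with hw
  have hGw : G * w = e := by
    apply φ.injective
    rw [map_mul, he, hw, RingEquiv.apply_symm_apply, RingEquiv.apply_symm_apply]
    funext i
    simp only [Pi.mul_apply, hE, hW]
    split_ifs with h5
    · exact h5.mul_val_inv
    · exact mul_zero _
  have hee : e * e = e := by
    apply φ.injective
    rw [map_mul, he, RingEquiv.apply_symm_apply]
    funext i
    simp only [Pi.mul_apply, hE]
    split_ifs <;> simp
  have hwe : w * e = w := by
    apply φ.injective
    rw [map_mul, he, hw, RingEquiv.apply_symm_apply, RingEquiv.apply_symm_apply]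
    funext i
    simp only [Pi.mul_apply, hE, hW]
    split_ifs <;> simp
  have he0 : e ≠ 0 := by
    intro hez
    have hEz : E = 0 := by
      have := congrArg φ hez
      rwa [he, RingEquiv.apply_symm_apply, map_zero] at this
    have hall : ∀ i, IsUnit (φ y i) := fun i => (hor i).resolve_left (fun h5 => by
      have := congrFun hEz i
      simp only [hE, if_pos h5, Pi.zero_apply] at this
      exact one_ne_zero this)
    have hyu : IsUnit y := (isUnit_map_iff φ y).1 (Pi.isUnit_iff.2 hall)
    let ψ : S →+* ResidueField R := AdjoinRoot.lift (residue R) (residue R a₀) (by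
      rw [eval₂_at_apply]; exact (residue_eq_zero_iff _).2 h0)
    have e1 : ψ x = residue R a₀ := AdjoinRoot.lift_root _
    have e2 : ψ (algebraMap R S a₀) = residue R a₀ := by
      rw [AdjoinRoot.algebraMap_eq]; exact AdjoinRoot.lift_of _
    have : ψ y = 0 := by rw [hy, map_sub, e1, e2, sub_self]
    exact (hyu.map ψ).ne_zero this
  set N' : Submodule R S := LinearMap.range (LinearMap.mulRight R e) with hN'
  set N : Submodule R S := Submodule.span R {e} with hN
  have hjac : maximalIdeal R ≤ Ideal.jacobson ⊥ :=
    (IsLocalRing.jacobson_eq_maximalIdeal ⊥ bot_ne_top).ge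
  have hxe : x * e = algebraMap R S a₀ * e - algebraMap R S μ * w := by
    have : y * e = - algebraMap R S μ * w := by rw [← hGw, ← mul_assoc, hyG]
    rw [hy] at this
    linear_combination this
  have hT : ∀ k : ℕ, x ^ k * e ∈ N ⊔ maximalIdeal R • N' := by
    intro k
    induction k with
    | zero =>
      rw [pow_zero, one_mul]
      exact Submodule.mem_sup_left (Submodule.subset_span rfl)
    | succ k ih =>
      have : x ^ (k + 1) * e = a₀ • (x ^ k * e) - μ • ((x ^ k * w) * e) := by
        rw [pow_succ, mul_assoc, hxe, Algebra.smul_def, Algebra.smul_def, mul_assoc (x ^ k) w e,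
          hwe]
        ring
      rw [this]
      refine Submodule.sub_mem _ (Submodule.smul_mem _ _ ih) (Submodule.mem_sup_right ?_)
      exact Submodule.smul_mem_smul h0 ⟨x ^ k * w, rfl⟩
  have hN'le : N' ≤ N ⊔ maximalIdeal R • N' := by
    rintro _ ⟨s, rfl⟩
    obtain ⟨p, rfl⟩ := AdjoinRoot.mk_surjective s
    rw [← AdjoinRoot.aeval_eq, aeval_eq_sum_range, LinearMap.mulRight_apply, Finset.sum_mul]
    refine Submodule.sum_mem _ fun k _ => ?_
    rw [smul_mul_assoc]
    exact Submodule.smul_mem _ _ (hT k)
  have hN'fg : N'.FG := by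
    rw [hN', LinearMap.range_eq_map]
    exact (Module.Finite.fg_top).map _
  have hle : N' ≤ N := Submodule.le_of_le_smul_of_le_jacobson_bot hN'fg hjac hN'le
  have hc : ∀ s : S, ∃ r : R, s * e = algebraMap R S r * e := by
    intro s
    have : s * e ∈ N := hle ⟨s, rfl⟩
    obtain ⟨r, hr⟩ := Submodule.mem_span_singleton.1 this
    exact ⟨r, by rw [← hr, Algebra.smul_def]⟩
  have hd : ∀ r : R, algebraMap R S r * e = 0 → r = 0 := by
    intro r hr
    set B := (AdjoinRoot.powerBasis' hf).basis with hB
    by_cases hall : ∀ j, B.repr e j ∈ maximalIdeal R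
    · exfalso
      have hem : e ∈ maximalIdeal R • (⊤ : Submodule R S) := by
        rw [← B.sum_repr e]
        exact Submodule.sum_mem _ fun j _ => Submodule.smul_mem_smul (hall j) trivial
      have hN'm : N' ≤ maximalIdeal R • N' := by
        rintro _ ⟨s, rfl⟩
        set Lm : S →ₗ[R] S := LinearMap.mulRight R (s * e) with hLm
        have h6 : Lm e = s * e := by
          rw [hLm, LinearMap.mulRight_apply, mul_comm e, mul_assoc, hee]
        have h7 : Lm e ∈ Submodule.map Lm (maximalIdeal R • ⊤) := ⟨e, hem, rfl⟩
        rw [Submodule.map_smul''] at h7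
        rw [LinearMap.mulRight_apply, ← h6]
        refine Submodule.smul_mono le_rfl ?_ h7
        rintro _ ⟨z, -, rfl⟩
        exact ⟨z * s, by rw [hLm, LinearMap.mulRight_apply, LinearMap.mulRight_apply, mul_assoc]⟩
      have hbot := Submodule.eq_bot_of_le_smul_of_le_jacobson_bot _ N' hN'fg hN'm hjac
      have : e ∈ N' := ⟨e, by rw [LinearMap.mulRight_apply, hee]⟩
      rw [hbot] at this
      exact he0 ((Submodule.mem_bot R).1 this)
    · push Not at hall
      obtain ⟨j, hj⟩ := hall
      have hju : IsUnit (B.repr e j) := by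
        by_contra h5; exact hj ((mem_maximalIdeal _).2 h5)
      have h8 : r • e = 0 := by rw [Algebra.smul_def]; exact hr
      have h9 := congrArg (fun z => B.repr z j) h8
      simp only [map_smul, Finsupp.smul_apply, smul_eq_mul, map_zero, Finsupp.zero_apply] at h9
      exact (hju.mul_left_eq_zero).1 h9
  obtain ⟨a, ha⟩ := hc x
  have hpow : ∀ k : ℕ, x ^ k * e = algebraMap R S (a ^ k) * e := by
    intro k
    induction k with
    | zero => simp
    | succ k ih =>
      rw [pow_succ, mul_assoc, ha, ← mul_assoc, mul_comm (x ^ k), mul_assoc, ih, pow_succ, map_mul]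
      ring
  have hpoly : ∀ p : R[X], aeval x p * e = algebraMap R S (p.eval a) * e := by
    intro p
    rw [aeval_eq_sum_range, eval_eq_sum_range, Finset.sum_mul, map_sum, Finset.sum_mul]
    refine Finset.sum_congr rfl fun k _ => ?_
    rw [smul_mul_assoc, hpow k, Algebra.smul_def, map_mul, mul_assoc]
  refine ⟨a, hd _ (by rw [← hpoly, hx0, zero_mul]), ?_⟩
  obtain ⟨ρ, hρ⟩ := hc w
  rw [hwe] at hρ
  have h10 : algebraMap R S (a - a₀ + μ * ρ) * e = 0 := by
    rw [map_add, map_sub, map_mul]
    linear_combination (-1 : S) * ha + hxe - algebraMap R S μ * hρ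
  have h11 := hd _ h10
  have : a - a₀ = -(μ * ρ) := by linear_combination h11
  rw [this]
  exact neg_mem (Ideal.mul_mem_right _ _ h0)

end Groth.Agent.S0500
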