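import Groth.Statements.S0733
-- import your own Groth.Agent.* helpers here

set_option autoImplicit false
open CategoryTheory CategoryTheory.Limits AlgebraicGeometry Opposite Topology
universe u
open scoped TensorProduct
open ProEtW

namespace Groth.Agent.S0733

theorem etale_toAlgebra (A B : Type u) [CommRing A] [CommRing B] [i : Algebra A B]
    [Algebra.Etale A B] :
    letI := (algebraMap A B).toAlgebra; Algebra.Etale A B := by
  have : (algebraMap A B).toAlgebra = i := Algebra.algebra_ext _ _ (fun _ => rfl)
  rw [this]; infer_instance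

theorem iso_of_alg_eq (A B A' : Type u) [CommRing A] [CommRing B] [CommRing A'] [Algebra A A']
    (i1 i2 : Algebra A B) (h : i1 = i2) :
    Nonempty ((letI := i1; CommRingCat.mkUnder (CommRingCat.of A') (A' ⊗[A] B)) ≅
      (letI := i2; CommRingCat.mkUnder (CommRingCat.of A') (A' ⊗[A] B))) := by
  subst h; exact ⟨Iso.refl _⟩

/-- If A -> B is ind-etale (a filtered colimit of etale A-algebras) and A -> A' is any ring map, then A'
-> A' (x)_A B is ind-etale. -/
theorem result (A B A' : Type u) [CommRing A] [CommRing B] [CommRing A']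
    [Algebra A B] [Algebra A A'] (h : EtPBC.IsIndEtale A B) :
    EtPBC.IsIndEtale A' (A' ⊗[A] B) := by
  obtain ⟨J, hJ, hJf, D, c, hc, hD, ⟨e⟩⟩ := h
  let R : CommRingCat.{u} := CommRingCat.of A
  let S : CommRingCat.{u} := CommRingCat.of A'
  letI : Algebra R S := inferInstanceAs (Algebra A A')
  let T : Under R ⥤ Under S := CommRingCat.tensorProd R S
  have hT : PreservesColimitsOfSize.{u, u} T := by
    have : PreservesColimitsOfSize.{u, u} (Under.pushout (CommRingCat.ofHom <| algebraMap R S)) :=
      (Under.mapPushoutAdj _).leftAdjoint_preservesColimits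
    exact preservesColimits_of_natIso (CommRingCat.tensorProdIsoPushout R S).symm
  refine ⟨J, hJ, hJf, D ⋙ T, T.mapCocone c, isColimitOfPreserves T hc, ?_, ?_⟩
  · intro j
    have hj := hD j
    letI : Algebra A (D.obj j).right := (D.obj j).hom.hom.toAlgebra
    haveI : Algebra.Etale A (D.obj j).right := hj
    exact etale_toAlgebra A' (A' ⊗[A] (D.obj j).right)
  · have h1 : (algebraMap A B).toAlgebra = ‹Algebra A B› :=
      Algebra.algebra_ext _ _ (fun _ => rfl)
    obtain ⟨e2⟩ := iso_of_alg_eq A B A' _ _ h1
    exact ⟨T.mapIso e ≪≫ e2⟩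

end Groth.Agent.S0733
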