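-- Statement S18724: QGor.idealDepth_le_supportDim_of_mem_support
import Groth.Statements.S18724
import Mathlib.RingTheory.Regular.Flat
import Mathlib.RingTheory.KrullDimension.Regular
import Mathlib.RingTheory.Finiteness.Nakayama

set_option autoImplicit false
universe u
open QGor

namespace Groth.Agent.S18724

open RingTheory.Sequence

/-- Affine form. Let A be a Noetherian ring, M a finite A-module and I an ideal. Then depth_I M ≤
codim(V(I) ∩ Supp M, Supp M): for every prime p ⊇ I in the support of M, depth_I M ≤ dim Supp(M_p). -/
theorem result (A : Type u) [CommRing A] [IsNoetherianRing A]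
    (M : Type u) [AddCommGroup M] [Module A M] [Module.Finite A M] (I : Ideal A)
    (p : PrimeSpectrum A) (hIp : I ≤ p.asIdeal) (hp : p ∈ Module.support A M) :
    ((LocCoh.idealDepth I M : ℕ∞) : WithBot ℕ∞) ≤
      Module.supportDim (Localization.AtPrime p.asIdeal) (LocalizedModule p.asIdeal.primeCompl M) := by
  have hnt : Nontrivial (LocalizedModule p.asIdeal.primeCompl M) := Module.mem_support_iff.mp hp
  unfold LocCoh.idealDepth
  split_ifs with htop
  · -- `I M = M` is impossible by Nakayama since `p ∈ Supp M` and `I ≤ p`
    exfalso
    obtain ⟨r, hr1, hr0⟩ := Submodule.exists_sub_one_mem_and_smul_eq_zero_of_fg_of_le_smul I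
      (⊤ : Submodule A M) Module.Finite.fg_top (le_of_eq htop.symm)
    have hrp : r ∉ p.asIdeal := by
      intro hr
      have h1 : r - 1 ∈ p.asIdeal := hIp hr1
      have : (1 : A) ∈ p.asIdeal := by
        have := p.asIdeal.sub_mem hr h1
        simpa using this
      exact p.2.ne_top ((Ideal.eq_top_iff_one _).mpr this)
    have : p ∉ Module.support A M := by
      rw [Module.notMem_support_iff']
      intro m
      exact ⟨r, hrp, hr0 m Submodule.mem_top⟩
    exact this hp
  · -- every weakly regular sequence in `I` localizes to a regular sequence on `M_p`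
    obtain ⟨d, hd⟩ := WithBot.ne_bot_iff_exists.mp
      (Module.supportDim_ne_bot_of_nontrivial (Localization.AtPrime p.asIdeal)
        (LocalizedModule p.asIdeal.primeCompl M))
    rw [← hd, WithBot.coe_le_coe]
    refine iSup₂_le fun rs hrs => ?_
    have reg := IsWeaklyRegular.isRegular_of_isLocalizedModule_of_mem
      (Localization.AtPrime p.asIdeal) p.asIdeal
      (LocalizedModule.mkLinearMap p.asIdeal.primeCompl M) hrs.1 (fun r hr => hIp (hrs.2 r hr))
    have h := Module.supportDim_add_length_eq_supportDim_of_isRegular _ reg
    have hq : Nontrivial (LocalizedModule p.asIdeal.primeCompl M ⧸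
        Ideal.ofList (rs.map (algebraMap A (Localization.AtPrime p.asIdeal))) •
          (⊤ : Submodule (Localization.AtPrime p.asIdeal) (LocalizedModule p.asIdeal.primeCompl M))) :=
      Submodule.Quotient.nontrivial_iff.mpr reg.2.symm
    obtain ⟨a, ha⟩ := WithBot.ne_bot_iff_exists.mp
      (Module.supportDim_ne_bot_of_nontrivial (Localization.AtPrime p.asIdeal)
        (LocalizedModule p.asIdeal.primeCompl M ⧸
        Ideal.ofList (rs.map (algebraMap A (Localization.AtPrime p.asIdeal))) •
          (⊤ : Submodule (Localization.AtPrime p.asIdeal) (LocalizedModule p.asIdeal.primeCompl M))))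
    rw [← ha, ← hd, List.length_map] at h
    have h' : a + (rs.length : ℕ∞) = d := by exact_mod_cast h
    rw [← h']
    exact le_add_self

end Groth.Agent.S18724
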