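import Groth.Statements.S0560
import Mathlib

set_option autoImplicit false
universe u
open CAlg

namespace Groth.Agent.S0560

/-- Regularity of a Noetherian local ring can be checked after dividing out one nonzerodivisor lying in
the maximal ideal: if that quotient is a regular local ring, so is the original ring. -/
theorem result (R : Type u) [CommRing R] [IsLocalRing R]
    [IsNoetherianRing R] (x : R) (hx : x ∈ IsLocalRing.maximalIdeal R) (hreg : x ∈ nonZeroDivisors R)
    [IsRegularLocalRing (R ⧸ Ideal.span ({x} : Set R))] : IsRegularLocalRing R := by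
  classical
  set I := Ideal.span ({x} : Set R) with hI
  have hπ : Function.Surjective (Ideal.Quotient.mk I) := Ideal.Quotient.mk_surjective
  haveI : IsLocalHom (Ideal.Quotient.mk I) := IsLocalHom.of_surjective _ hπ
  have hfg : (IsLocalRing.maximalIdeal (R ⧸ I)).FG := IsNoetherian.noetherian _
  obtain ⟨s', hcard, hspan⟩ := Submodule.FG.exists_span_finset_card_eq_spanFinrank hfg
  let t : Finset R := s'.image (Function.surjInv hπ)
  have ht : (Ideal.Quotient.mk I) '' (t : Set R) = (s' : Set (R ⧸ I)) := by
    ext y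
    simp only [t, Finset.coe_image, Set.mem_image, Finset.mem_coe]
    constructor
    · rintro ⟨_, ⟨z, hz, rfl⟩, rfl⟩
      rwa [Function.surjInv_eq hπ]
    · intro hy
      exact ⟨_, ⟨y, hy, rfl⟩, Function.surjInv_eq hπ y⟩
  have hm : IsLocalRing.maximalIdeal R = Ideal.span (insert x (t : Set R)) := by
    rw [← IsLocalRing.maximalIdeal_comap (Ideal.Quotient.mk I)]
    have : IsLocalRing.maximalIdeal (R ⧸ I) = Ideal.span (s' : Set (R ⧸ I)) := hspan.symm
    rw [this, ← ht, ← Ideal.map_span, Ideal.comap_map_of_surjective _ hπ,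
      ← RingHom.ker_eq_comap_bot, Ideal.mk_ker, Ideal.span_insert, sup_comm]
  apply IsRegularLocalRing.of_spanFinrank_maximalIdeal_le
  have h1 : (IsLocalRing.maximalIdeal R).spanFinrank ≤ s'.card + 1 := by
    rw [hm]
    refine (Submodule.spanFinrank_span_le_ncard_of_finite (Set.toFinite _)).trans ?_
    calc (insert x (t : Set R)).ncard ≤ (t : Set R).ncard + 1 := Set.ncard_insert_le _ _
      _ ≤ s'.card + 1 := by
        rw [Set.ncard_coe_finset]; exact Nat.succ_le_succ Finset.card_image_le
  have h2 : ((IsLocalRing.maximalIdeal (R ⧸ I)).spanFinrank : WithBot ℕ∞) = ringKrullDim (R ⧸ I) :=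
    IsRegularLocalRing.spanFinrank_maximalIdeal
  have h3 := ringKrullDim_quotient_succ_le_of_nonZeroDivisor hreg
  calc ((IsLocalRing.maximalIdeal R).spanFinrank : WithBot ℕ∞)
      ≤ ((s'.card + 1 : ℕ) : WithBot ℕ∞) := by exact_mod_cast h1
    _ = ((IsLocalRing.maximalIdeal (R ⧸ I)).spanFinrank : WithBot ℕ∞) + 1 := by
        rw [hcard]; push_cast; rfl
    _ = ringKrullDim (R ⧸ I) + 1 := by rw [h2]
    _ ≤ ringKrullDim R := h3

end Groth.Agent.S0560
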