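import Groth.Statements.S0565
import Mathlib
import Groth.Agent.Lib.Helper26.SerreConverse
import Groth.Agent.Lib.Helper26.ProjDimBaseChange

set_option autoImplicit false
universe u
open CAlg

namespace Groth.Agent.S0565

/-- Let `R → S` be a flat local homomorphism of Noetherian local rings. If `S` is regular then so is
`R`. -/
theorem result (R : Type u) [CommRing R]
    [IsLocalRing R] [IsNoetherianRing R] (S : Type u) [CommRing S] [IsRegularLocalRing S] [Algebra R S]
    [IsLocalHom (algebraMap R S)] [Module.Flat R S] : IsRegularLocalRing R := by
  open CategoryTheory in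
  have hff : Module.FaithfullyFlat R S := Module.FaithfullyFlat.of_flat_of_isLocalHom
  have hfin : Module.Finite S (TensorProduct R S (IsLocalRing.ResidueField R)) := inferInstance
  have hpd : HasProjectiveDimensionLE
      (ModuleCat.of S (TensorProduct R S (IsLocalRing.ResidueField R)))
      (IsLocalRing.maximalIdeal S).spanFinrank :=
    Groth.Agent.Lib.helper26.PDReg.hasProjectiveDimensionLE_of_isRegularLocalRing _ S rfl
      (TensorProduct R S (IsLocalRing.ResidueField R))
  have h1 := Groth.Agent.Lib.helper26.PDBC.hasProjectiveDimensionLE_of_baseChange R S _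
    (IsLocalRing.ResidueField R) hpd
  exact Groth.Agent.Lib.helper26.SerreConv.isRegularLocalRing_of_hasProjectiveDimensionLT R _ h1


end Groth.Agent.S0565
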