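import Groth.Statements.S5765
-- import your own Groth.Agent.* helpers here

set_option autoImplicit false
universe u
open EGA41

namespace Groth.Agent.S5765

/-- The support (over `A`) of a localized module is contained in the support of the module. -/
theorem support_localizedModule_subset (A : Type u) [CommRing A] (M : Type u) [AddCommGroup M]
    [Module A M] (S : Submonoid A) :
    Module.support A (LocalizedModule S M) ⊆ Module.support A M := by
  intro q hq
  rw [Module.mem_support_iff'] at hq ⊢
  obtain ⟨x, hx⟩ := hq
  induction x using LocalizedModule.induction_on with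
  | h m s =>
    refine ⟨m, fun r hr h0 => hx r hr ?_⟩
    rw [LocalizedModule.smul'_mk, h0, LocalizedModule.zero_mk]

/-- Let A be a ring, M a finitely generated A-module and p a prime ideal of A. Then dim_{A_p}(M_p) +
dim_A(M/pM) ≤ dim_A(M). -/
theorem result (A : Type u) [CommRing A] (M : Type u)
    [AddCommGroup M] [Module A M] [Module.Finite A M] (p : Ideal A) [p.IsPrime] :
    Module.supportDim (Localization.AtPrime p) (LocalizedModule p.primeCompl M) +
        Module.supportDim A (M ⧸ (p • (⊤ : Submodule A M))) ≤ Module.supportDim A M := by
  by_cases hp : (⟨p, inferInstance⟩ : PrimeSpectrum A) ∈ Module.support A M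
  swap
  · have : Subsingleton (LocalizedModule p.primeCompl M) := by
      rwa [Module.notMem_support_iff] at hp
    rw [Module.supportDim_eq_bot_of_subsingleton, WithBot.bot_add]
    exact bot_le
  let S := Module.support A M
  let P : S := ⟨⟨p, inferInstance⟩, hp⟩
  have : Nonempty S := ⟨P⟩
  have h1 : Module.supportDim (Localization.AtPrime p) (LocalizedModule p.primeCompl M) ≤
      ((Order.height P : ℕ∞) : WithBot ℕ∞) := by
    rw [Order.height_eq_krullDim_Iic]
    have hmem : ∀ q' : Module.support (Localization.AtPrime p) (LocalizedModule p.primeCompl M),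
        PrimeSpectrum.comap (algebraMap A (Localization.AtPrime p)) q'.1 ∈ S := fun q' =>
      support_localizedModule_subset A M p.primeCompl
        (Module.support_subset_preimage_comap (R := A) (A := Localization.AtPrime p)
          (M := LocalizedModule p.primeCompl M) q'.2)
    have hle : ∀ q' : Module.support (Localization.AtPrime p) (LocalizedModule p.primeCompl M),
        (⟨_, hmem q'⟩ : S) ≤ P := by
      intro q' a ha
      change algebraMap A (Localization.AtPrime p) a ∈ q'.1.asIdeal at ha
      by_contra hap
      have hu : IsUnit (algebraMap A (Localization.AtPrime p) a) :=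
        IsLocalization.map_units (Localization.AtPrime p) (⟨a, hap⟩ : p.primeCompl)
      exact q'.1.isPrime.ne_top (Ideal.eq_top_of_isUnit_mem _ ha hu)
    refine Order.krullDim_le_of_strictMono
      (f := fun q' => (⟨⟨_, hmem q'⟩, hle q'⟩ : Set.Iic P)) ?_
    intro q₁ q₂ h12
    have hmono : PrimeSpectrum.comap (algebraMap A (Localization.AtPrime p)) q₁.1 ≤
        PrimeSpectrum.comap (algebraMap A (Localization.AtPrime p)) q₂.1 :=
      fun a ha => h12.le ha
    refine lt_of_le_of_ne hmono ?_
    intro heq
    have := PrimeSpectrum.localization_comap_injective (Localization.AtPrime p) p.primeCompl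
      (by simpa using congrArg (fun z : Set.Iic P => z.1.1) heq)
    exact h12.ne (Subtype.ext this)
  have h2 : Module.supportDim A (M ⧸ (p • (⊤ : Submodule A M))) ≤
      ((Order.coheight P : ℕ∞) : WithBot ℕ∞) := by
    rw [Order.coheight_eq_krullDim_Ici]
    have hmem : ∀ r : Module.support A (M ⧸ (p • (⊤ : Submodule A M))),
        r.1 ∈ S ∩ PrimeSpectrum.zeroLocus p := fun r => by
      rw [← Module.support_quotient]
      exact r.2
    refine Order.krullDim_le_of_strictMono
      (f := fun r => (⟨⟨r.1, (hmem r).1⟩, (hmem r).2⟩ : Set.Ici P)) ?_
    intro r₁ r₂ h12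
    exact h12
  calc _ ≤ ((Order.height P : ℕ∞) : WithBot ℕ∞) + ((Order.coheight P : ℕ∞) : WithBot ℕ∞) :=
        add_le_add h1 h2
    _ ≤ Order.krullDim S := by
      rw [Order.krullDim_eq_iSup_height_add_coheight_of_nonempty]
      exact_mod_cast le_iSup (fun a : S => Order.height a + Order.coheight a) P


end Groth.Agent.S5765
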