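import Mathlib
import Groth.Agent.Lib.Helper24.FlatDepth8

/-!
# Regular sequences with flat quotients, lifted from the closed fibre (helper29)

* `RegFlatM R M ys`: `ys` is weakly regular on the `S`-module `M` and all `M/(y₁,…,yᵢ)M` are flat
  over `R`.
* `RegFlat R S ys`: the ring-level version.
* `regFlatM_of_closedFibre`, `regFlat_of_closedFibre` (iterated Stacks 00ME, on top of helper24):
  `R → S` a flat local homomorphism of Noetherian local rings, `ys` weakly regular on `S/𝔪_R S`;
  then `ys` is weakly regular on `S` and all `S/(y₁,…,yᵢ)` are flat over `R`.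
-/

set_option autoImplicit false
universe u
open TensorProduct IsLocalRing RingTheory.Sequence
open scoped Pointwise

namespace Groth.Agent.LibFibReg29

section Defs

variable (R : Type u) {S : Type u} [CommRing R] [CommRing S] [Algebra R S]

/-- `ys` is weakly regular on `M` and all successive quotients are flat over `R`. -/
def RegFlatM (M : Type u) [AddCommGroup M] [Module R M] [Module S M] [IsScalarTower R S M]
    (ys : List S) : Prop :=
  IsWeaklyRegular M ys ∧
    ∀ i : ℕ, Module.Flat R (M ⧸ (Ideal.ofList (ys.take i) • ⊤ : Submodule S M))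

variable (S) in
/-- `ys` is weakly regular in `S` and all `S/(y₁,…,yᵢ)` are flat over `R`. -/
def RegFlat (ys : List S) : Prop :=
  IsWeaklyRegular S ys ∧ ∀ i : ℕ, Module.Flat R (S ⧸ Ideal.ofList (ys.take i))

variable {R}

theorem regFlatM_nil (M : Type u) [AddCommGroup M] [Module R M] [Module S M] [IsScalarTower R S M]
    [Module.Flat R M] : RegFlatM R M ([] : List S) := by
  refine ⟨IsWeaklyRegular.nil S M, fun i => ?_⟩
  have h : (Ideal.ofList (([] : List S).take i) • ⊤ : Submodule S M) = ⊥ := by
    rw [List.take_nil, Ideal.ofList_nil, Submodule.bot_smul]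
  exact Module.Flat.of_linearEquiv ((Submodule.quotEquivOfEqBot _ h).restrictScalars R)

theorem regFlatM_cons (M : Type u) [AddCommGroup M] [Module R M] [Module S M]
    [IsScalarTower R S M] (y : S) (ys : List S) (hM : Module.Flat R M) (hy : IsSMulRegular M y)
    (h : RegFlatM R (QuotSMulTop y M) ys) : RegFlatM R M (y :: ys) := by
  refine ⟨(isWeaklyRegular_cons_iff M y ys).mpr ⟨hy, h.1⟩, fun i => ?_⟩
  cases i with
  | zero =>
    have h0 : (Ideal.ofList ((y :: ys).take 0) • ⊤ : Submodule S M) = ⊥ := by
      rw [List.take_zero, Ideal.ofList_nil, Submodule.bot_smul]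
    exact Module.Flat.of_linearEquiv ((Submodule.quotEquivOfEqBot _ h0).restrictScalars R)
  | succ i =>
    rw [List.take_succ_cons]
    haveI := h.2 i
    exact Module.Flat.of_linearEquiv
      ((Submodule.quotOfListConsSMulTopEquivQuotSMulTopInner M y (ys.take i)).restrictScalars R)

theorem regFlat_iff (ys : List S) : RegFlat R S ys ↔ RegFlatM R S ys := by
  have h : ∀ i : ℕ, (Ideal.ofList (ys.take i) • ⊤ : Submodule S S) = Ideal.ofList (ys.take i) := by
    intro i
    rw [smul_eq_mul, Ideal.mul_top]
  constructor
  · rintro ⟨h1, h2⟩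
    refine ⟨h1, fun i => ?_⟩
    haveI := h2 i
    exact Module.Flat.of_linearEquiv
      ((Submodule.quotEquivOfEq _ _ (h i)).restrictScalars R)
  · rintro ⟨h1, h2⟩
    refine ⟨h1, fun i => ?_⟩
    haveI := h2 i
    exact Module.Flat.of_linearEquiv
      ((Submodule.quotEquivOfEq _ _ (h i)).symm.restrictScalars R)

theorem RegFlat.flat_quotient {ys : List S} (h : RegFlat R S ys) :
    Module.Flat R (S ⧸ Ideal.ofList ys) := by
  have := h.2 ys.length
  rwa [List.take_length] at this

end Defs

section Local

variable (R S : Type u) [CommRing R] [CommRing S] [Algebra R S] [IsLocalRing R] [IsLocalRing S]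
  [IsNoetherianRing R] [IsNoetherianRing S] [IsLocalHom (algebraMap R S)]

open Groth.Agent.Lib.Helper24.FlatDepth

/-- Iterated Stacks 00ME with flatness of all the quotients. -/
theorem regFlatM_of_closedFibre : ∀ (ys : List S) (N : Type u) [AddCommGroup N] [Module S N]
    [Module R N] [IsScalarTower R S N] [Module.Flat R N] [Module.Finite S N],
    IsWeaklyRegular (N ⊗[R] (R ⧸ maximalIdeal R)) ys → RegFlatM R N ys := by
  intro ys
  induction ys with
  | nil =>
    intro N _ _ _ _ _ _ _
    exact regFlatM_nil N
  | cons y ys ih =>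
    intro N _ _ _ _ _ _ h
    obtain ⟨hy, hys⟩ := (isWeaklyRegular_cons_iff _ y ys).mp h
    haveI hflat : Module.Flat R (QuotSMulTop y N) := flat_quotSMulTop R S N y hy
    have h1 : IsWeaklyRegular ((QuotSMulTop y N) ⊗[R] (R ⧸ maximalIdeal R)) ys :=
      (LinearEquiv.isWeaklyRegular_congr (quotEquivLeft R S N (R ⧸ maximalIdeal R) y) ys).mp hys
    have h2 := ih (QuotSMulTop y N) h1
    have h3 : IsSMulRegular N y :=
      (LinearEquiv.isSMulRegular_congr (TensorProduct.AlgebraTensorModule.rid R S N) y).mp
        (isSMulRegular_tensor R S N y hy R)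
    exact regFlatM_cons N y ys inferInstance h3 h2

variable [Module.Flat R S]

/-- A sequence weakly regular on the closed fibre `S/m_R S` is weakly regular on `S`, with all
quotients flat over `R`. -/
theorem regFlat_of_closedFibre (ys : List S)
    (h : IsWeaklyRegular (S ⧸ (maximalIdeal R).map (algebraMap R S)) ys) :
    RegFlat R S ys := by
  have hI : (maximalIdeal R).map (algebraMap R S) • (⊤ : Submodule S S) =
      (maximalIdeal R).map (algebraMap R S) := by
    rw [smul_eq_mul, Ideal.mul_top]
  let e : S ⊗[R] (R ⧸ maximalIdeal R) ≃ₗ[S] (S ⧸ (maximalIdeal R).map (algebraMap R S)) :=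
    (tensorQuotEquiv R S S (maximalIdeal R)).trans (Submodule.quotEquivOfEq _ _ hI)
  have h1 : IsWeaklyRegular (S ⊗[R] (R ⧸ maximalIdeal R)) ys :=
    (LinearEquiv.isWeaklyRegular_congr e ys).mpr h
  exact (regFlat_iff ys).mpr (regFlatM_of_closedFibre R S ys S h1)

end Local

end Groth.Agent.LibFibReg29
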