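import Mathlib
import Groth.Agent.LibFibReg1_29
import Groth.Agent.Lib.Helper17.RegNear
import Groth.Agent.Lib.Helper3.FlatDescP

/-!
# Fibrewise regular sequences, Noetherian case (helper29)

`R → S` flat of finite type, `R` Noetherian, `q` a prime of the fibre ring `κ(p) ⊗ S` with contraction
`r ⊆ S`.  If the images of `ys` form a weakly regular sequence in the local ring `(κ(p) ⊗ S)_q`
of the fibre, then `ys` is weakly regular in `S_r` with flat quotients (`regFlat_atPrime`), and
the same holds on a principal open `D(g) ∋ r` (`exists_away_regFlat_noeth`).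
-/

set_option autoImplicit false
set_option linter.style.haveILetI false
universe u
open TensorProduct IsLocalRing RingTheory.Sequence
open scoped Pointwise

namespace Groth.Agent.LibFibReg29

section Fib

variable {R S : Type u} [CommRing R] [CommRing S] [Algebra R S] (p : Ideal R) [p.IsPrime]
  (q : Ideal (p.Fiber S)) [q.IsPrime]

/-- the map from `S` to the local ring of the fibre at `q`. -/
noncomputable def fibMap : S →+* Localization.AtPrime q :=
  (algebraMap (p.Fiber S) (Localization.AtPrime q)).comp
    (Algebra.TensorProduct.includeRight : S →ₐ[R] p.Fiber S).toRingHom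

theorem fibMap_apply (s : S) :
    fibMap p q s = algebraMap (p.Fiber S) (Localization.AtPrime q) (1 ⊗ₜ s) := rfl

/-- the contraction of `q` to `S`. -/
noncomputable abbrev fibPrime : Ideal S := q.comap (Algebra.TensorProduct.includeRight : S →ₐ[R] p.Fiber S)

omit [q.IsPrime] in
theorem mem_fibPrime (s : S) : s ∈ fibPrime p q ↔ (1 : p.ResidueField) ⊗ₜ[R] s ∈ q := Iff.rfl

theorem algEquivAux₂_fibMap (s : S) :
    Ideal.Fiber.algEquivAux₂ p q (fibMap p q s) =
      Ideal.Quotient.mk _ (algebraMap S (Localization.AtPrime (fibPrime p q)) s) := by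
  letI : Algebra S (p.Fiber S) := Algebra.TensorProduct.rightAlgebra
  rw [fibMap_apply]
  unfold Ideal.Fiber.algEquivAux₂
  simp only [AlgEquiv.trans_apply, AlgEquiv.restrictScalars_apply]
  have h1 : ((1 : p.ResidueField) ⊗ₜ[R] s : p.Fiber S) = algebraMap S (p.Fiber S) s := rfl
  rw [h1]
  simp only [Localization.localAlgEquiv_symm_apply, AlgEquiv.symm_toRingEquiv, RingEquiv.symm_mk,
    AlgEquiv.toEquiv_eq_coe, AlgEquiv.symm_toEquiv_eq_symm, RingEquiv.toEquiv_eq_coe,
    Equiv.invFun_as_coe, RingEquiv.coe_coe_toEquiv_symm, Localization.localRingEquiv_symm_apply,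
    AlgEquiv.symm_symm, Localization.localRingHom_to_map, RingHom.coe_coe, RingEquiv.coe_mk,
    EquivLike.coe_coe, AlgEquiv.commutes]
  rw [← IsScalarTower.algebraMap_apply S,
    IsScalarTower.algebraMap_apply S (S ⧸ Ideal.map (algebraMap R S) p), AlgEquiv.commutes]
  rfl

end Fib

section Noeth

open Groth.Agent.Lib.helper17.RegSpread Groth.Agent.Lib.helper17.RegNear
  Groth.Agent.Lib.helper3.FlatDesc Groth.Agent.Lib.helper3.FlatLocus

variable {R S : Type u} [CommRing R] [CommRing S] [Algebra R S] [IsNoetherianRing R]
  [Algebra.FiniteType R S] [Module.Flat R S] (p : Ideal R) [p.IsPrime]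
  (q : Ideal (p.Fiber S)) [q.IsPrime]

/-- local form. -/
theorem regFlat_atPrime (ys : List S)
    (h : IsWeaklyRegular (Localization.AtPrime q) (ys.map (fibMap p q))) :
    RegFlat R (Localization.AtPrime (fibPrime p q))
      (ys.map (algebraMap S (Localization.AtPrime (fibPrime p q)))) := by
  haveI : IsNoetherianRing S := Algebra.FiniteType.isNoetherianRing R S
  set r := fibPrime p q with hr
  letI := Localization.AtPrime.algebraOfLiesOver p r
  haveI hloc : IsLocalHom (algebraMap (Localization.AtPrime p) (Localization.AtPrime r)) :=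
    Localization.isLocalHom_localRingHom _ r (algebraMap R S) Ideal.LiesOver.over
  haveI hflat : Module.Flat (Localization.AtPrime p) (Localization.AtPrime r) := inferInstance
  haveI : IsNoetherianRing (Localization.AtPrime p) :=
    IsLocalization.isNoetherianRing p.primeCompl _ inferInstance
  haveI : IsNoetherianRing (Localization.AtPrime r) :=
    IsLocalization.isNoetherianRing r.primeCompl _ inferInstance
  have hI : (maximalIdeal (Localization.AtPrime p)).map
      (algebraMap (Localization.AtPrime p) (Localization.AtPrime r)) =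
      (p.map (algebraMap R S)).map (algebraMap S (Localization.AtPrime r)) := by
    rw [← Localization.AtPrime.map_eq_maximalIdeal, Ideal.map_map, Ideal.map_map,
      ← IsScalarTower.algebraMap_eq, ← IsScalarTower.algebraMap_eq]
  -- transfer the hypothesis
  have h1 := (isWeaklyRegular_map_ringEquiv (Ideal.Fiber.algEquivAux₂ p q).toRingEquiv _).mp h
  rw [List.map_map] at h1
  have h2 : ((Ideal.Fiber.algEquivAux₂ p q).toRingEquiv : Localization.AtPrime q → _) ∘
      (fibMap p q) = (algebraMap (Localization.AtPrime r) (Localization.AtPrime r ⧸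
        (p.map (algebraMap R S)).map (algebraMap S (Localization.AtPrime r)))) ∘
        (algebraMap S (Localization.AtPrime r)) := by
    funext s
    exact algEquivAux₂_fibMap p q s
  rw [h2, ← List.map_map, isWeaklyRegular_map_algebraMap_iff] at h1
  have h3 : IsWeaklyRegular (Localization.AtPrime r ⧸ (maximalIdeal (Localization.AtPrime p)).map
      (algebraMap (Localization.AtPrime p) (Localization.AtPrime r)))
      (ys.map (algebraMap S (Localization.AtPrime r))) := by
    rw [hI]
    exact h1
  obtain ⟨k1, k2⟩ := regFlat_of_closedFibre (Localization.AtPrime p) (Localization.AtPrime r) _ h3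
  refine ⟨k1, fun i => ?_⟩
  haveI := k2 i
  exact (Module.flat_iff_of_isLocalization (Localization.AtPrime p) p.primeCompl _).mp inferInstance

omit [IsNoetherianRing R] [Algebra.FiniteType R S] [Module.Flat R S] in
/-- flatness of `S_r/I S_r` gives flatness of the localized module `(S/I)_r`. -/
theorem flat_localizedModule_quotient_of_flat (T : Submonoid S) (B : Type u) [CommRing B]
    [Algebra S B] [Algebra R B] [IsScalarTower R S B] [IsLocalization T B] (I : Ideal S)
    (h : Module.Flat R (B ⧸ I.map (algebraMap S B))) :
    Module.Flat R (LocalizedModule T (S ⧸ I)) :=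
  flat_of_le T T (IsScalarTower.toAlgHom S (S ⧸ I) (B ⧸ I.map (algebraMap S B))).toLinearMap
    (LocalizedModule.mkLinearMap T (S ⧸ I)) le_rfl h

omit [IsNoetherianRing R] [Algebra.FiniteType R S] [Module.Flat R S] in
theorem flat_quotient_of_flat_localizedModule (T : Submonoid S) (B : Type u) [CommRing B]
    [Algebra S B] [Algebra R B] [IsScalarTower R S B] [IsLocalization T B] (I : Ideal S)
    (h : Module.Flat R (LocalizedModule T (S ⧸ I))) :
    Module.Flat R (B ⧸ I.map (algebraMap S B)) :=
  flat_of_le T T (LocalizedModule.mkLinearMap T (S ⧸ I))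
    (IsScalarTower.toAlgHom S (S ⧸ I) (B ⧸ I.map (algebraMap S B))).toLinearMap le_rfl h

omit [Module.Flat R S] in
/-- spreading flatness of one quotient. -/
theorem exists_forall_flat_localizedModule (r : Ideal S) [r.IsPrime] (I : Ideal S)
    (h : Module.Flat R (Localization.AtPrime r ⧸ I.map (algebraMap S (Localization.AtPrime r)))) :
    ∃ g : S, g ∉ r ∧ ∀ (q' : Ideal S) [q'.IsPrime], g ∉ q' →
      Module.Flat R (LocalizedModule q'.primeCompl (S ⧸ I)) := by
  haveI : IsNoetherianRing S := Algebra.FiniteType.isNoetherianRing R S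
  haveI : Algebra.FinitePresentation R S := Algebra.FinitePresentation.of_finiteType.mp inferInstance
  haveI : Module.FinitePresentation S (S ⧸ I) := Module.finitePresentation_of_finite S (S ⧸ I)
  have hopen := isOpen_flatLocus_of_finitePresentation (R := R) (S := S) (M := S ⧸ I)
  have hr : (⟨r, inferInstance⟩ : PrimeSpectrum S) ∈
      {q : PrimeSpectrum S | Module.Flat R (LocalizedModule q.asIdeal.primeCompl (S ⧸ I))} :=
    flat_localizedModule_quotient_of_flat r.primeCompl (Localization.AtPrime r) I h
  obtain ⟨_, ⟨g, rfl⟩, hg1, hg2⟩ :=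
    PrimeSpectrum.isTopologicalBasis_basic_opens.exists_subset_of_mem_open hr hopen
  refine ⟨g, hg1, fun q' _ hq' => ?_⟩
  exact hg2 (show (⟨q', inferInstance⟩ : PrimeSpectrum S) ∈ PrimeSpectrum.basicOpen g from hq')

omit [Module.Flat R S] in
/-- spreading flatness of the first `n + 1` quotients. -/
theorem exists_forall_le_flat_localizedModule (r : Ideal S) [r.IsPrime] (ys : List S)
    (h : ∀ i : ℕ, Module.Flat R (Localization.AtPrime r ⧸
      (Ideal.ofList (ys.take i)).map (algebraMap S (Localization.AtPrime r)))) (n : ℕ) :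
    ∃ g : S, g ∉ r ∧ ∀ i ≤ n, ∀ (q' : Ideal S) [q'.IsPrime], g ∉ q' →
      Module.Flat R (LocalizedModule q'.primeCompl (S ⧸ Ideal.ofList (ys.take i))) := by
  induction n with
  | zero =>
    obtain ⟨g, hg, hg'⟩ := exists_forall_flat_localizedModule r _ (h 0)
    refine ⟨g, hg, fun i hi q' _ hq' => ?_⟩
    obtain rfl : i = 0 := Nat.le_zero.mp hi
    exact hg' q' hq'
  | succ n ih =>
    obtain ⟨g₁, hg₁, hg₁'⟩ := ih
    obtain ⟨g₂, hg₂, hg₂'⟩ := exists_forall_flat_localizedModule r _ (h (n + 1))
    refine ⟨g₁ * g₂, fun hmem => ?_, fun i hi q' _ hq' => ?_⟩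
    · rcases (inferInstance : r.IsPrime).mem_or_mem hmem with h' | h'
      · exact hg₁ h'
      · exact hg₂ h'
    · rcases Nat.lt_or_ge i (n + 1) with hlt | hge
      · exact hg₁' i (Nat.lt_succ_iff.mp hlt) q' (fun h' => hq' (Ideal.mul_mem_right _ _ h'))
      · obtain rfl : i = n + 1 := le_antisymm hi hge
        exact hg₂' q' (fun h' => hq' (Ideal.mul_mem_left _ _ h'))

/-- **Noetherian case**: a sequence which is weakly regular in the local ring of the fibre at `q` is
weakly regular with flat quotients on a principal open neighbourhood of the contraction of `q`. -/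
theorem exists_away_regFlat_noeth (ys : List S)
    (h : IsWeaklyRegular (Localization.AtPrime q) (ys.map (fibMap p q))) :
    ∃ g : S, g ∉ fibPrime p q ∧
      RegFlat R (Localization.Away g) (ys.map (algebraMap S (Localization.Away g))) := by
  haveI : IsNoetherianRing S := Algebra.FiniteType.isNoetherianRing R S
  set r := fibPrime p q with hr
  obtain ⟨k1, k2⟩ := regFlat_atPrime p q ys h
  -- regularity
  have k1' := (isWeaklyRegular_iff_localizedModule r.primeCompl (Localization.AtPrime r) ys).mp k1
  obtain ⟨g₁, hg₁, hreg⟩ := spread_away r ys S k1'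
  -- flatness
  have k2' : ∀ i : ℕ, Module.Flat R (Localization.AtPrime r ⧸
      (Ideal.ofList (ys.take i)).map (algebraMap S (Localization.AtPrime r))) := by
    intro i
    have := k2 i
    rwa [← List.map_take, ← Ideal.map_ofList] at this
  obtain ⟨g₂, hg₂, hfl⟩ := exists_forall_le_flat_localizedModule r ys k2' ys.length
  refine ⟨g₁ * g₂, fun hmem => ?_, ?_, fun i => ?_⟩
  · rcases (inferInstance : r.IsPrime).mem_or_mem hmem with h' | h'
    · exact hg₁ h'
    · exact hg₂ h'
  · exact (isWeaklyRegular_iff_localizedModule (Submonoid.powers (g₁ * g₂))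
      (Localization.Away (g₁ * g₂)) ys).mpr
      (hreg (Submonoid.powers (g₁ * g₂)) (g₁ * g₂) (Submonoid.mem_powers _) (Dvd.intro _ rfl))
  · have key : ∀ j ≤ ys.length, Module.Flat R (Localization.Away (g₁ * g₂) ⧸
        (Ideal.ofList (ys.take j)).map (algebraMap S (Localization.Away (g₁ * g₂)))) := by
      intro j hj
      apply flat_quotient_of_flat_localizedModule (Submonoid.powers (g₁ * g₂))
      apply flat_localizedModule_powers_of_forall_prime
      intro q' _ hq'
      exact hfl j hj q' (fun h' => hq' (Ideal.mul_mem_left _ _ h'))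
    rw [← List.map_take, ← Ideal.map_ofList]
    rcases Nat.le_total i ys.length with hi | hi
    · exact key i hi
    · rw [List.take_of_length_le hi, ← List.take_length (l := ys)]
      exact key ys.length le_rfl

end Noeth

end Groth.Agent.LibFibReg29
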