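import Mathlib
import Groth.Agent.LibFibReg1_29

/-!
# Base change of regular sequences with flat quotients (helper29)

`regFlat_baseChange`: if `ys` is weakly regular in the `R₀`-algebra `S₀` with all `S₀/(y₁,…,yᵢ)`
flat over `R₀`, then for every `R₀`-algebra `R` the sequence `1 ⊗ ys` is weakly regular in
`R ⊗[R₀] S₀` with all quotients flat over `R`.
-/

set_option autoImplicit false
universe u
open TensorProduct RingTheory.Sequence
open scoped Pointwise

namespace Groth.Agent.LibFibReg29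

section Ring

variable {S : Type u} [CommRing S]

theorem isWeaklyRegular_ring_iff (ys : List S) :
    IsWeaklyRegular S ys ↔
      ∀ (i : ℕ) (h : i < ys.length), IsSMulRegular (S ⧸ Ideal.ofList (ys.take i)) ys[i] := by
  have h : ∀ i : ℕ, (Ideal.ofList (ys.take i) • ⊤ : Submodule S S) = Ideal.ofList (ys.take i) := by
    intro i
    rw [smul_eq_mul, Ideal.mul_top]
  rw [isWeaklyRegular_iff]
  refine forall₂_congr fun i hi => ?_
  exact LinearEquiv.isSMulRegular_congr (Submodule.quotEquivOfEq _ _ (h i)) _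

end Ring

section BaseChange

variable (R₀ R S₀ : Type u) [CommRing R₀] [CommRing R] [CommRing S₀] [Algebra R₀ R]
  [Algebra R₀ S₀]

/-- one step: a regular element with flat cokernel stays regular after base change. -/
theorem isSMulRegular_baseChange (I₀ : Ideal S₀) (y : S₀) (hy : IsSMulRegular (S₀ ⧸ I₀) y)
    (hfl : Module.Flat R₀ (S₀ ⧸ (I₀ ⊔ Ideal.span {y}))) :
    IsSMulRegular ((R ⊗[R₀] S₀) ⧸
      I₀.map (Algebra.TensorProduct.includeRight : S₀ →ₐ[R₀] R ⊗[R₀] S₀))
      ((1 : R) ⊗ₜ[R₀] y : R ⊗[R₀] S₀) := by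
  -- multiplication by `y` on `S₀/I₀`, `R₀`-linearly
  let μ : (S₀ ⧸ I₀) →ₗ[R₀] (S₀ ⧸ I₀) := (LinearMap.lsmul S₀ (S₀ ⧸ I₀) y).restrictScalars R₀
  have hμ : Function.Injective μ := hy
  let π : (S₀ ⧸ I₀) →ₗ[R₀] (S₀ ⧸ (I₀ ⊔ Ideal.span {y})) :=
    (Ideal.Quotient.factorₐ R₀ (le_sup_left : I₀ ≤ I₀ ⊔ Ideal.span {y})).toLinearMap
  have hπ : Function.Surjective π := Ideal.Quotient.factor_surjective le_sup_left
  have hex : Function.Exact μ π := by
    intro x
    obtain ⟨x, rfl⟩ := Ideal.Quotient.mk_surjective x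
    constructor
    · intro hx
      have hx' : Ideal.Quotient.mk (I₀ ⊔ Ideal.span {y}) x = 0 := hx
      rw [Ideal.Quotient.eq_zero_iff_mem, Submodule.mem_sup] at hx'
      obtain ⟨a, ha, b, hb, rfl⟩ := hx'
      obtain ⟨c, rfl⟩ := Ideal.mem_span_singleton'.mp hb
      refine ⟨Ideal.Quotient.mk I₀ c, ?_⟩
      change y • Ideal.Quotient.mk I₀ c = _
      rw [map_add, Ideal.Quotient.eq_zero_iff_mem.mpr ha, zero_add, Algebra.smul_def,
        Ideal.Quotient.algebraMap_eq, ← map_mul, mul_comm]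
    · rintro ⟨z, hz⟩
      obtain ⟨z, rfl⟩ := Ideal.Quotient.mk_surjective z
      have h1 : μ (Ideal.Quotient.mk I₀ z) = Ideal.Quotient.mk I₀ (y * z) := by
        change y • Ideal.Quotient.mk I₀ z = _
        rw [Algebra.smul_def, Ideal.Quotient.algebraMap_eq, ← map_mul]
      rw [← hz, h1]
      change (Ideal.Quotient.factor (le_sup_left : I₀ ≤ I₀ ⊔ Ideal.span {y})) (Ideal.Quotient.mk I₀ (y * z)) = 0
      rw [Ideal.Quotient.factor_mk, Ideal.Quotient.eq_zero_iff_mem]
      exact Ideal.mem_sup_right (Ideal.mul_mem_right _ _ (Ideal.mem_span_singleton_self y))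
  have hinj : Function.Injective (μ.lTensor R) :=
    LinearMap.lTensor_injective_of_exact_of_flat π hπ μ hμ hex R
  let e := Algebra.TensorProduct.tensorQuotientEquiv (R := R₀) R S₀ R I₀
  have he : ∀ x : R ⊗[R₀] (S₀ ⧸ I₀), e (μ.lTensor R x) = ((1 : R) ⊗ₜ[R₀] y : R ⊗[R₀] S₀) • e x := by
    intro x
    induction x using TensorProduct.induction_on with
    | zero => rw [map_zero, map_zero, smul_zero]
    | tmul a t =>
      obtain ⟨t, rfl⟩ := Ideal.Quotient.mk_surjective t
      have h1 : μ (Ideal.Quotient.mk I₀ t) = Ideal.Quotient.mk I₀ (y * t) := by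
        change y • Ideal.Quotient.mk I₀ t = _
        rw [Algebra.smul_def, Ideal.Quotient.algebraMap_eq, ← map_mul]
      rw [LinearMap.lTensor_tmul, h1]
      change Algebra.TensorProduct.tensorQuotientEquiv (R := R₀) R S₀ R I₀ _ =
        _ • Algebra.TensorProduct.tensorQuotientEquiv (R := R₀) R S₀ R I₀ _
      rw [Algebra.TensorProduct.tensorQuotientEquiv_apply_tmul,
        Algebra.TensorProduct.tensorQuotientEquiv_apply_tmul]
      change _ = Ideal.Quotient.mk _ (((1 : R) ⊗ₜ[R₀] y) * (a ⊗ₜ[R₀] t))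
      rw [Algebra.TensorProduct.tmul_mul_tmul, one_mul]
    | add a b ha hb => rw [map_add, map_add, ha, hb, map_add, smul_add]
  intro a b hab
  obtain ⟨a, rfl⟩ := e.surjective a
  obtain ⟨b, rfl⟩ := e.surjective b
  change _ • e a = _ • e b at hab
  rw [← he, ← he] at hab
  rw [hinj (e.injective hab)]

/-- base change of `RegFlat`. -/
theorem regFlat_baseChange (ys : List S₀) (h : RegFlat R₀ S₀ ys) :
    RegFlat R (R ⊗[R₀] S₀)
      (ys.map (Algebra.TensorProduct.includeRight : S₀ →ₐ[R₀] R ⊗[R₀] S₀)) := by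
  obtain ⟨h1, h2⟩ := h
  have hmap : ∀ i : ℕ, Ideal.ofList ((ys.map
      (Algebra.TensorProduct.includeRight : S₀ →ₐ[R₀] R ⊗[R₀] S₀)).take i) =
      (Ideal.ofList (ys.take i)).map
        (Algebra.TensorProduct.includeRight : S₀ →ₐ[R₀] R ⊗[R₀] S₀) := by
    intro i
    rw [← List.map_take]
    exact (Ideal.map_ofList (Algebra.TensorProduct.includeRight :
      S₀ →ₐ[R₀] R ⊗[R₀] S₀).toRingHom (ys.take i)).symm
  refine ⟨?_, fun i => ?_⟩
  · rw [isWeaklyRegular_ring_iff] at h1 ⊢
    intro i hi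
    rw [List.length_map] at hi
    rw [hmap, List.getElem_map]
    apply isSMulRegular_baseChange R₀ R S₀ _ _ (h1 i hi)
    have := h2 (i + 1)
    rwa [List.take_succ_eq_append_getElem hi, Ideal.ofList_append, Ideal.ofList_singleton] at this
  · rw [hmap]
    haveI := h2 i
    exact Module.Flat.of_linearEquiv
      (Algebra.TensorProduct.tensorQuotientEquiv (R := R₀) R S₀ R
        (Ideal.ofList (ys.take i))).symm.toLinearEquiv

end BaseChange

end Groth.Agent.LibFibReg29
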