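import Mathlib
import Groth.Agent.Lib.Helper3.FlatDescP

/-!
# Flat finitely presented models containing prescribed elements (helper29)

`exists_fg_model_flat_elts`: a flat finitely presented `A`-algebra `B` with finitely many elements
`b i` is the base change of a flat finitely presented algebra `B₀` over a finitely generated
`ℤ`-subalgebra `A₀ ⊆ A`, with the `b i` coming from `B₀`
(variant of helper3's `FlatDesc.exists_fg_model_flat`).
-/

set_option autoImplicit false
set_option linter.style.haveILetI false
universe u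
open TensorProduct

namespace Groth.Agent.LibFibReg29

open Groth.Agent.Lib.helper3.FlatDesc

theorem exists_fg_model_flat_elts {A B : Type u} [CommRing A] [CommRing B] [Algebra A B]
    [Algebra.FinitePresentation A B] [Module.Flat A B] (bs : List B) :
    ∃ (A₀ : Type u) (_ : CommRing A₀) (_ : Algebra A₀ A), Algebra.FiniteType ℤ A₀ ∧
      Function.Injective (algebraMap A₀ A) ∧
      ∃ (B₀ : Type u) (_ : CommRing B₀) (_ : Algebra A₀ B₀), Algebra.FinitePresentation A₀ B₀ ∧
        Module.Flat A₀ B₀ ∧ ∃ (e : A ⊗[A₀] B₀ ≃ₐ[A] B) (bs₀ : List B₀),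
          bs₀.map (fun b₀ => e (1 ⊗ₜ b₀)) = bs := by
  classical
  obtain ⟨n, π, hπ, hfg⟩ := Algebra.FinitePresentation.out (R := A) (A := B)
  obtain ⟨d, w, hw⟩ := Submodule.fg_iff_exists_fin_generating_family.mp hfg
  -- lifts of the elements
  choose lift hlift using hπ
  let s : Finset A := (bs.map lift).toFinset.biUnion fun P => P.coeffs
  obtain ⟨R0, hR0, hs, w0, rfl⟩ := exists_wmap_eq A w s
  haveI : Algebra.FiniteType ℤ R0 := (Subalgebra.fg_iff_finiteType R0).mp hR0
  haveI : IsNoetherianRing R0 := Algebra.FiniteType.isNoetherianRing ℤ R0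
  have hπ : Function.Surjective π := fun b => ⟨lift b, hlift b⟩
  have hw' : RingHom.ker π = Ideal.span (Set.range (wmap A w0)) := hw.symm
  have hflat : Module.Flat A ((Fin 1 → MvPolynomial (Fin n) A) ⧸ NB (vmap A (vOf w0))) := by
    refine Module.Flat.of_linearEquiv (M := B)
      (((modelEquivQuot (wmap A w0)).restrictScalars A).trans
        ((Ideal.quotientEquivAlgOfEq A hw'.symm).trans
          (Ideal.quotientKerAlgEquivOfSurjective hπ)).toLinearEquiv)
  obtain ⟨A', hA'fg, hfl⟩ := exists_fg_subalgebra_flat_model (vOf w0) hflat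
  haveI : Algebra.FiniteType R0 A' := (Subalgebra.fg_iff_finiteType A').mp hA'fg
  -- the lifts are defined over `R0`
  have hl : ∀ b ∈ bs, ∃ P' : MvPolynomial (Fin n) R0,
      MvPolynomial.map (algebraMap R0 A) P' = lift b := by
    intro b hb
    apply lift_of_coeffs_subset'
    refine subset_trans ?_ hs
    intro x hx
    simp only [s, Finset.coe_biUnion, Set.mem_iUnion]
    exact ⟨lift b, by simpa using ⟨b, hb, rfl⟩, hx⟩
  let lift0 : B → MvPolynomial (Fin n) R0 := fun b =>
    if hb : b ∈ bs then (hl b hb).choose else 0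
  have hlift0 : ∀ b ∈ bs, MvPolynomial.map (algebraMap R0 A) (lift0 b) = lift b := by
    intro b hb
    simp only [lift0, dif_pos hb]
    exact (hl b hb).choose_spec
  refine ⟨A', inferInstance, inferInstance, Algebra.FiniteType.trans (S := R0) ‹_› ‹_›,
    Subtype.val_injective,
    MvPolynomial (Fin n) A' ⧸ Ideal.span (Set.range (wmap A' w0)), inferInstance, inferInstance,
    ?_, ?_, presTensorEquiv A' w0 π hπ hw',
    bs.map (fun b => Ideal.Quotient.mk _ (MvPolynomial.map (algebraMap R0 A') (lift0 b))), ?_⟩
  · exact Algebra.FinitePresentation.quotient ⟨Finset.univ.image (wmap A' w0), by simp⟩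
  · haveI : Module.Flat A' ((Fin 1 → MvPolynomial (Fin n) A') ⧸ NB (vOf (wmap A' w0))) := hfl
    exact Module.Flat.of_linearEquiv
      (((modelEquivQuot (wmap A' w0)).restrictScalars A').symm)
  · rw [List.map_map]
    conv_rhs => rw [← List.map_id bs]
    apply List.map_congr_left
    intro b hb
    simp only [Function.comp_apply, id]
    rw [presTensorEquiv_one_tmul, MvPolynomial.map_map, ← IsScalarTower.algebraMap_eq,
      hlift0 b hb, hlift b]

end Groth.Agent.LibFibReg29
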