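import Mathlib.RingTheory.Regular.Flat
import Mathlib.RingTheory.Flat.FaithfullyFlat.Basic
import Mathlib.RingTheory.IsTensorProduct

/-!
# Faithfully flat descent of (weakly) regular sequences (helper29)
-/

set_option autoImplicit false

namespace Groth.Agent.LibRegDescent29

open TensorProduct RingTheory.Sequence Module

variable {R S M N : Type*} [CommRing R] [CommRing S] [Algebra R S]
  [AddCommGroup M] [Module R M] [AddCommGroup N] [Module R N] [Module S N] [IsScalarTower R S N]

/-- descent of regular elements along a faithfully flat base change -/
theorem isSMulRegular_of_faithfullyFlat [Module.FaithfullyFlat R S] {f : M →ₗ[R] N}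
    (hf : IsBaseChange S f) {x : R} (reg : IsSMulRegular N (algebraMap R S x)) :
    IsSMulRegular M x := by
  have h1 : Function.Injective ((LinearMap.lsmul R M x).lTensor S) := by
    have h2 : ∀ z : S ⊗[R] M, hf.equiv ((LinearMap.lsmul R M x).lTensor S z) =
        algebraMap R S x • hf.equiv z := by
      intro z
      induction z using TensorProduct.induction_on with
      | zero => simp
      | tmul s m =>
        simp only [LinearMap.lTensor_tmul, LinearMap.lsmul_apply, IsBaseChange.equiv_tmul,
          map_smul, algebraMap_smul]
        rw [smul_comm]
      | add a b ha hb => simp only [map_add, ha, hb, smul_add]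
    intro a b hab
    apply hf.equiv.injective
    apply reg
    change algebraMap R S x • hf.equiv a = algebraMap R S x • hf.equiv b
    rw [← h2, ← h2, hab]
  exact (Module.FaithfullyFlat.lTensor_injective_iff_injective R S _).mp h1

/-- descent of weakly regular sequences along a faithfully flat base change -/
theorem isWeaklyRegular_of_faithfullyFlat_of_isBaseChange [Module.FaithfullyFlat R S]
    {f : M →ₗ[R] N} (hf : IsBaseChange S f) {rs : List R}
    (reg : IsWeaklyRegular N (rs.map (algebraMap R S))) : IsWeaklyRegular M rs := by
  induction rs generalizing M N with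
  | nil => simp
  | cons x _ ih =>
    simp only [List.map_cons, isWeaklyRegular_cons_iff] at reg ⊢
    have e := (QuotSMulTop.algebraMapTensorEquivTensorQuotSMulTop x M S).symm ≪≫ₗ
      QuotSMulTop.congr ((algebraMap R S) x) hf.equiv
    have hg : IsBaseChange S <|
        e.toLinearMap.restrictScalars R ∘ₗ TensorProduct.mk R S (QuotSMulTop x M) 1 :=
      IsBaseChange.of_equiv e (fun _ ↦ by simp)
    exact ⟨isSMulRegular_of_faithfullyFlat hf reg.1, ih hg reg.2⟩

theorem isWeaklyRegular_of_faithfullyFlat [Module.FaithfullyFlat R S] {rs : List R}
    (reg : IsWeaklyRegular S (rs.map (algebraMap R S))) : IsWeaklyRegular R rs :=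
  isWeaklyRegular_of_faithfullyFlat_of_isBaseChange (IsBaseChange.linearMap R S) reg

end Groth.Agent.LibRegDescent29
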