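import Mathlib
import Groth.Agent.LibFibReg2_29
import Groth.Agent.LibFibReg3_29
import Groth.Agent.LibFibReg4_29
import Groth.Agent.LibRegDescent29

/-!
# Fibrewise regular sequences: descent of the hypothesis to a model (helper29)
-/

set_option autoImplicit false
set_option linter.style.haveILetI false
universe u
open TensorProduct IsLocalRing RingTheory.Sequence
open scoped Pointwise

namespace Groth.Agent.LibFibReg29

section Descent

variable (R₀ R S₀ : Type u) [CommRing R₀] [CommRing R] [CommRing S₀] [Algebra R₀ R]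
  [Algebra R₀ S₀] (p : Ideal R) [p.IsPrime]

/-- the residue field extension as an algebra. -/
noncomputable abbrev resAlg : Algebra (p.comap (algebraMap R₀ R)).ResidueField p.ResidueField :=
  (Ideal.ResidueField.map (p.comap (algebraMap R₀ R)) p (algebraMap R₀ R) rfl).toAlgebra

attribute [local instance] resAlg

instance resTower : IsScalarTower R₀ (p.comap (algebraMap R₀ R)).ResidueField p.ResidueField :=
  IsScalarTower.of_algebraMap_eq (fun x => by
    rw [RingHom.algebraMap_toAlgebra, Ideal.ResidueField.map_algebraMap,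
      ← IsScalarTower.algebraMap_apply])

/-- `κ(p) ⊗[R] (R ⊗[R₀] S₀) ≃ κ(p) ⊗[R₀] S₀`. -/
noncomputable abbrev eA :
    p.ResidueField ⊗[R] (R ⊗[R₀] S₀) ≃ₐ[p.ResidueField] p.ResidueField ⊗[R₀] S₀ :=
  Algebra.TensorProduct.cancelBaseChange R₀ R p.ResidueField p.ResidueField S₀

/-- `κ(p) ⊗[κ(p₀)] (κ(p₀) ⊗[R₀] S₀) ≃ κ(p) ⊗[R₀] S₀`. -/
noncomputable abbrev eB :
    p.ResidueField ⊗[(p.comap (algebraMap R₀ R)).ResidueField]
      (p.comap (algebraMap R₀ R)).Fiber S₀ ≃ₐ[p.ResidueField] p.ResidueField ⊗[R₀] S₀ :=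
  Algebra.TensorProduct.cancelBaseChange R₀ (p.comap (algebraMap R₀ R)).ResidueField
    p.ResidueField p.ResidueField S₀

/-- the canonical map from the fibre of the model to the fibre of the base change. -/
noncomputable def fibBC :
    (p.comap (algebraMap R₀ R)).Fiber S₀ →+* p.Fiber (R ⊗[R₀] S₀) :=
  (eA R₀ R S₀ p).symm.toAlgHom.toRingHom.comp
    ((eB R₀ R S₀ p).toAlgHom.toRingHom.comp
      (Algebra.TensorProduct.includeRight :
        (p.comap (algebraMap R₀ R)).Fiber S₀ →ₐ[(p.comap (algebraMap R₀ R)).ResidueField]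
          p.ResidueField ⊗[(p.comap (algebraMap R₀ R)).ResidueField]
            (p.comap (algebraMap R₀ R)).Fiber S₀).toRingHom)

theorem fibBC_one_tmul (s : S₀) :
    fibBC R₀ R S₀ p ((1 : (p.comap (algebraMap R₀ R)).ResidueField) ⊗ₜ[R₀] s) =
      (1 : p.ResidueField) ⊗ₜ[R] ((1 : R) ⊗ₜ[R₀] s) := by
  simp [fibBC]

/-- the fibre of the base change as a base change of the fibre of the model. -/
noncomputable def fibEquiv : p.Fiber (R ⊗[R₀] S₀) ≃+*
    (p.comap (algebraMap R₀ R)).Fiber S₀ ⊗[(p.comap (algebraMap R₀ R)).ResidueField]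
      p.ResidueField :=
  ((eA R₀ R S₀ p).toRingEquiv.trans (eB R₀ R S₀ p).symm.toRingEquiv).trans
    (Algebra.TensorProduct.comm (p.comap (algebraMap R₀ R)).ResidueField p.ResidueField
      ((p.comap (algebraMap R₀ R)).Fiber S₀)).toRingEquiv

theorem fibEquiv_fibBC (x : (p.comap (algebraMap R₀ R)).Fiber S₀) :
    fibEquiv R₀ R S₀ p (fibBC R₀ R S₀ p x) = x ⊗ₜ 1 := by
  simp [fibEquiv, fibBC]

theorem fibBC_flat : (fibBC R₀ R S₀ p).Flat := by
  letI := (fibBC R₀ R S₀ p).toAlgebra
  change Module.Flat ((p.comap (algebraMap R₀ R)).Fiber S₀) (p.Fiber (R ⊗[R₀] S₀))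
  let e : p.Fiber (R ⊗[R₀] S₀) ≃ₗ[(p.comap (algebraMap R₀ R)).Fiber S₀]
      (p.comap (algebraMap R₀ R)).Fiber S₀ ⊗[(p.comap (algebraMap R₀ R)).ResidueField]
        p.ResidueField :=
    { (fibEquiv R₀ R S₀ p).toAddEquiv with
      map_smul' := fun x y => by
        change fibEquiv R₀ R S₀ p (x • y) = x • fibEquiv R₀ R S₀ p y
        rw [Algebra.smul_def, RingHom.algebraMap_toAlgebra, map_mul, fibEquiv_fibBC]
        induction fibEquiv R₀ R S₀ p y using TensorProduct.induction_on with
        | zero => rw [mul_zero, smul_zero]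
        | tmul a b =>
          rw [Algebra.TensorProduct.tmul_mul_tmul, one_mul, TensorProduct.smul_tmul', smul_eq_mul]
        | add a b ha hb => rw [mul_add, smul_add, ha, hb] }
  exact Module.Flat.of_linearEquiv e

end Descent

section Generic

/-- descent of weak regularity in local rings of fibres along a flat ring map. -/
theorem isWeaklyRegular_descend {F₁ F₂ : Type u} [CommRing F₁] [CommRing F₂] (φ : F₁ →+* F₂)
    (hφ : φ.Flat) (q₂ : Ideal F₂) [q₂.IsPrime] (zs : List F₁)
    (h : IsWeaklyRegular (Localization.AtPrime q₂)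
      (zs.map ((algebraMap F₂ (Localization.AtPrime q₂)).comp φ))) :
    IsWeaklyRegular (Localization.AtPrime (q₂.comap φ))
      (zs.map (algebraMap F₁ (Localization.AtPrime (q₂.comap φ)))) := by
  set ψ := Localization.localRingHom (q₂.comap φ) q₂ φ rfl with hψ
  have hflat : ψ.Flat := hφ.localRingHom q₂ (q₂.comap φ) rfl
  haveI hloc : IsLocalHom ψ := Localization.isLocalHom_localRingHom _ q₂ φ rfl
  letI := ψ.toAlgebra
  haveI : Module.Flat (Localization.AtPrime (q₂.comap φ)) (Localization.AtPrime q₂) := hflat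
  haveI : IsLocalHom (algebraMap (Localization.AtPrime (q₂.comap φ)) (Localization.AtPrime q₂)) :=
    hloc
  haveI : Module.FaithfullyFlat (Localization.AtPrime (q₂.comap φ)) (Localization.AtPrime q₂) :=
    Module.FaithfullyFlat.of_flat_of_isLocalHom
  apply Groth.Agent.LibRegDescent29.isWeaklyRegular_of_faithfullyFlat
    (S := Localization.AtPrime q₂)
  have hl : (zs.map (algebraMap F₁ (Localization.AtPrime (q₂.comap φ)))).map
      (algebraMap (Localization.AtPrime (q₂.comap φ)) (Localization.AtPrime q₂)) =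
      zs.map ((algebraMap F₂ (Localization.AtPrime q₂)).comp φ) := by
    rw [List.map_map]
    apply List.map_congr_left
    intro z _
    simp only [Function.comp_apply, RingHom.algebraMap_toAlgebra, hψ, RingHom.comp_apply,
      Localization.localRingHom_to_map]
  rw [hl]
  exact h

variable {R S : Type u} [CommRing R] [CommRing S] [Algebra R S]

/-- `RegFlat` only depends on the algebra up to isomorphism. -/
theorem RegFlat.of_algEquiv {B B' : Type u} [CommRing B] [CommRing B'] [Algebra S B] [Algebra R B]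
    [IsScalarTower R S B] [Algebra S B'] [Algebra R B'] [IsScalarTower R S B'] (e : B ≃ₐ[S] B')
    (ys : List S) (h : RegFlat R B (ys.map (algebraMap S B))) :
    RegFlat R B' (ys.map (algebraMap S B')) := by
  obtain ⟨h1, h2⟩ := h
  refine ⟨?_, fun i => ?_⟩
  · rw [isWeaklyRegular_map_algebraMap_iff] at h1 ⊢
    exact (LinearEquiv.isWeaklyRegular_congr e.toLinearEquiv ys).mp h1
  · have hI : Ideal.ofList ((ys.map (algebraMap S B')).take i) =
        (Ideal.ofList ((ys.map (algebraMap S B)).take i)).map (e : B →+* B') := by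
      rw [Ideal.map_ofList, ← List.map_take, ← List.map_take, List.map_map]
      congr 2
      funext s
      exact (e.commutes s).symm
    haveI := h2 i
    exact Module.Flat.of_linearEquiv
      ((Ideal.quotientEquivAlg _ _ e hI).toLinearEquiv.restrictScalars R).symm

end Generic

section Main

variable {R S : Type u} [CommRing R] [CommRing S] [Algebra R S] [Module.Flat R S]
  [Algebra.FinitePresentation R S] (p : Ideal R) [p.IsPrime] (q : Ideal (p.Fiber S)) [q.IsPrime]

/-- **Fibrewise regular sequences** (Stacks 046Z + spreading out; EGA IV 11.3.8, 19.2.4): `R → S` flat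
of finite presentation, `q` a prime of the fibre ring `κ(p) ⊗ S` with contraction `r ⊆ S`.  If the
images of `ys` form a weakly regular sequence in the local ring `(κ(p) ⊗ S)_q` of the fibre, then
there is `g ∉ r` such that `ys` is weakly regular in `S_g` and all `S_g/(y₁,…,yᵢ)` are flat over
`R`. -/
theorem exists_away_regFlat (ys : List S)
    (h : IsWeaklyRegular (Localization.AtPrime q) (ys.map (fibMap p q))) :
    ∃ g : S, g ∉ fibPrime p q ∧ ∀ (B : Type u) [CommRing B] [Algebra S B] [Algebra R B]
      [IsScalarTower R S B] [IsLocalization.Away g B], RegFlat R B (ys.map (algebraMap S B)) := by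
  obtain ⟨R₀, _, _, hft, -, S₀, _, _, hfp, hfl, e, ys₀, hys⟩ :=
    exists_fg_model_flat_elts (A := R) (B := S) ys
  haveI : IsNoetherianRing R₀ := Algebra.FiniteType.isNoetherianRing ℤ R₀
  haveI : Algebra.FiniteType R₀ S₀ := inferInstance
  -- the flat map from the fibre of the model
  let ε' : p.Fiber (R ⊗[R₀] S₀) ≃ₐ[p.ResidueField] p.Fiber S :=
    Algebra.TensorProduct.congr AlgEquiv.refl e
  let ε : p.Fiber (R ⊗[R₀] S₀) →+* p.Fiber S := ε'.toAlgHom.toRingHom
  have hε : ε.Flat := RingHom.Flat.of_bijective ε'.bijective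
  let φ : (p.comap (algebraMap R₀ R)).Fiber S₀ →+* p.Fiber S := ε.comp (fibBC R₀ R S₀ p)
  have hφ : φ.Flat := (fibBC_flat R₀ R S₀ p).comp hε
  have hφ1 : ∀ s₀ : S₀, φ ((1 : (p.comap (algebraMap R₀ R)).ResidueField) ⊗ₜ[R₀] s₀) =
      (1 : p.ResidueField) ⊗ₜ[R] e ((1 : R) ⊗ₜ[R₀] s₀) := by
    intro s₀
    change ε' (fibBC R₀ R S₀ p _) = _
    rw [fibBC_one_tmul]
    rfl
  set q₀ := q.comap φ with hq₀
  have h0 : IsWeaklyRegular (Localization.AtPrime q₀)
      (ys₀.map (fibMap (p.comap (algebraMap R₀ R)) q₀)) := by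
    have h1 := isWeaklyRegular_descend φ hφ q
      (ys₀.map (fun s₀ => (1 : (p.comap (algebraMap R₀ R)).ResidueField) ⊗ₜ[R₀] s₀)) (by
        rw [List.map_map]
        have h' := h
        rw [← hys, List.map_map] at h'
        convert h' using 2
        funext s₀
        simp only [Function.comp_apply, RingHom.comp_apply, hφ1]
        rfl)
    rw [List.map_map] at h1
    exact h1
  obtain ⟨g₀, hg₀, hreg₀⟩ := exists_away_regFlat_noeth (p.comap (algebraMap R₀ R)) q₀ ys₀ h0
  have hbc := regFlat_baseChange R₀ R (Localization.Away g₀) _ hreg₀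
  refine ⟨e ((1 : R) ⊗ₜ[R₀] g₀), fun hmem => hg₀ ?_, ?_⟩
  · change ((1 : (p.comap (algebraMap R₀ R)).ResidueField) ⊗ₜ[R₀] g₀) ∈ q.comap φ
    rw [Ideal.mem_comap, hφ1]
    exact hmem
  · intro B _ _ _ _ _
    letI algS' : Algebra (R ⊗[R₀] S₀) (R ⊗[R₀] Localization.Away g₀) :=
      (Algebra.TensorProduct.map (AlgHom.id R R)
        (IsScalarTower.toAlgHom R₀ S₀ (Localization.Away g₀))).toRingHom.toAlgebra
    haveI : IsScalarTower R (R ⊗[R₀] S₀) (R ⊗[R₀] Localization.Away g₀) :=
      .of_algebraMap_eq (by intro; simp [RingHom.algebraMap_toAlgebra])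
    haveI loc' : IsLocalization ((Submonoid.powers g₀).map
        (Algebra.TensorProduct.includeRight (R := R₀) (A := R)))
        (R ⊗[R₀] Localization.Away g₀) :=
      IsLocalization.tensorProduct_tensorProduct_right R₀ R (Submonoid.powers g₀)
        (Localization.Away g₀) (by ext; simp [RingHom.algebraMap_toAlgebra])
    letI algS : Algebra S (R ⊗[R₀] Localization.Away g₀) :=
      ((algebraMap (R ⊗[R₀] S₀) (R ⊗[R₀] Localization.Away g₀)).comp
        e.symm.toAlgHom.toRingHom).toAlgebra
    haveI : IsScalarTower R S (R ⊗[R₀] Localization.Away g₀) :=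
      .of_algebraMap_eq (fun r => by
        change _ = algebraMap (R ⊗[R₀] S₀) (R ⊗[R₀] Localization.Away g₀)
          (e.symm (algebraMap R S r))
        rw [AlgEquiv.commutes, ← IsScalarTower.algebraMap_apply])
    haveI : IsLocalization.Away (e ((1 : R) ⊗ₜ[R₀] g₀)) (R ⊗[R₀] Localization.Away g₀) :=
      IsLocalization.of_ringEquiv_left e.symm.toRingEquiv
        (M₁ := (Submonoid.powers g₀).map (Algebra.TensorProduct.includeRight (R := R₀) (A := R)))
        (M₂ := Submonoid.powers (e ((1 : R) ⊗ₜ[R₀] g₀))) (by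
          rw [Submonoid.map_powers, Submonoid.map_powers]
          congr 1
          exact e.symm_apply_apply _) (fun x => rfl)
    have key : RegFlat R (R ⊗[R₀] Localization.Away g₀)
        (ys.map (algebraMap S (R ⊗[R₀] Localization.Away g₀))) := by
      have hl : ys.map (algebraMap S (R ⊗[R₀] Localization.Away g₀)) =
          (ys₀.map (algebraMap S₀ (Localization.Away g₀))).map
            (Algebra.TensorProduct.includeRight :
              Localization.Away g₀ →ₐ[R₀] R ⊗[R₀] Localization.Away g₀) := by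
        rw [← hys, List.map_map, List.map_map]
        apply List.map_congr_left
        intro s₀ _
        change algebraMap (R ⊗[R₀] S₀) (R ⊗[R₀] Localization.Away g₀)
          (e.symm (e ((1 : R) ⊗ₜ[R₀] s₀))) = _
        rw [e.symm_apply_apply]
        simp [RingHom.algebraMap_toAlgebra]
      rw [hl]
      exact hbc
    exact RegFlat.of_algEquiv (IsLocalization.algEquiv
      (Submonoid.powers (e ((1 : R) ⊗ₜ[R₀] g₀))) (R ⊗[R₀] Localization.Away g₀) B) ys key

end Main

end Groth.Agent.LibFibReg29
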