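import Groth.Statements.S0102
import Mathlib.AlgebraicGeometry.Morphisms.UniversallyOpen

set_option autoImplicit false
open CategoryTheory CategoryTheory.Limits AlgebraicGeometry Opposite
universe u
open EtBase

namespace Groth.Agent.S0102

/-- A section of an abelian étale sheaf over an étale scheme U vanishes on pullback to an étale V → U
exactly when V maps into a certain largest open subset of U. -/
theorem result {S : Scheme.{u}} (F : EtCoh.Ab S) (U : S.Etale) (σ : EtCoh.sect F U) :
    ∃ W : U.left.Opens, ∀ (V : S.Etale) (φ : V ⟶ U),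
      F.obj.map φ.op σ = 0 ↔ Set.range φ.left.base ⊆ (W : Set U.left) := by
  let Wset : Set U.left := ⋃ (p : Σ V : S.Etale, {φ : V ⟶ U // F.obj.map φ.op σ = 0}),
    Set.range p.2.1.left.base
  have hWopen : IsOpen Wset := by
    refine isOpen_iUnion fun p ↦ ?_
    exact p.2.1.left.isOpenMap.isOpen_range
  refine ⟨⟨Wset, hWopen⟩, fun V φ ↦ ⟨fun h ↦ ?_, fun h ↦ ?_⟩⟩
  · exact Set.subset_iUnion_of_subset ⟨V, φ, h⟩ subset_rfl
  · -- the sieve of maps killing the section
    let R : Sieve V :=
      { arrows := fun T g ↦ F.obj.map (g ≫ φ).op σ = 0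
        downward_closed := by
          intro T T' g hg g'
          rw [Category.assoc, op_comp, F.obj.map_comp]
          change (F.obj.map g'.op) ((F.obj.map (g ≫ φ).op) σ) = 0
          rw [hg, map_zero] }
    have hR : R ∈ S.smallEtaleTopology V := by
      have eS : S.smallEtaleTopology =
          (S.smallPretopology (P := EtCoh.etaleMP) (Q := EtCoh.etaleMP)).toGrothendieck :=
        Scheme.smallGrothendieckTopology_eq_toGrothendieck_smallPretopology S le_rfl
      rw [eS]
      refine (Scheme.mem_toGrothendieck_smallPretopology V R).2 fun v ↦ ?_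
      obtain ⟨_, ⟨⟨V', φ', hφ'⟩, rfl⟩, v', hv'⟩ := h ⟨v, rfl⟩
      have sq : IsPullback (pullback.fst φ φ').left (pullback.snd φ φ').left φ.left φ'.left :=
        (IsPullback.of_hasPullback φ φ').map (Scheme.Etale.forget S ⋙ Over.forget S)
      obtain ⟨z, hz1, -⟩ := Scheme.Pullback.exists_preimage_pullback
        (f := φ.left) (g := φ'.left) v v' hv'.symm
      refine ⟨pullback φ φ', pullback.fst φ φ', sq.isoPullback.inv z, ?_, inferInstance, ?_⟩
      · change F.obj.map (pullback.fst φ φ' ≫ φ).op σ = 0
        rw [pullback.condition, op_comp, F.obj.map_comp]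
        change (F.obj.map (pullback.snd φ φ').op) ((F.obj.map φ'.op) σ) = 0
        rw [hφ', map_zero]
      · have h1 : sq.isoPullback.inv ≫ (pullback.fst φ φ').left = pullback.fst φ.left φ'.left :=
          sq.isoPullback_inv_fst
        rw [← hz1, ← h1]
        rfl
    have hsep := Sheaf.isSeparated F V R hR (F.obj.map φ.op σ) 0
    apply hsep
    intro T g hg
    rw [map_zero]
    have : F.obj.map (g ≫ φ).op σ = 0 := hg
    rw [op_comp, F.obj.map_comp] at this
    exact this

end Groth.Agent.S0102
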