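import Groth.Statements.S9928
-- import your own Groth.Agent.* helpers here

set_option autoImplicit false
universe u
open CategoryTheory CategoryTheory.Limits AlgebraicGeometry
open AlgSp

namespace Groth.Agent.S9928

/-- Sections of a morphism of sheaves that is representable by monomorphisms of schemes are unique. -/
theorem sections_unique {S : Scheme.{u}} {F G : AlgSp.Sp S} (f : F ⟶ G)
    (hf : AlgSp.RepWith @IsImmersion f) {T : Over S}
    (a b : (AlgSp.yon S).obj T ⟶ F) (h : a ≫ f = b ≫ f) : a = b := by
  obtain ⟨hrep, hP⟩ := (AlgSp.repWith_iff _ f).1 hf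
  obtain ⟨V, snd, fst, sq⟩ := hrep (a ≫ f)
  have himm : IsImmersion snd.left := hP (a ≫ f) fst snd sq
  have hmono : Mono snd := by
    have : Mono ((Over.forget S).map snd) := by
      change Mono snd.left
      infer_instance
    exact (Over.forget S).mono_of_mono_map this
  obtain ⟨la, hla1, hla2⟩ := sq.exists_lift a (𝟙 _) (by simp)
  obtain ⟨lb, hlb1, hlb2⟩ := sq.exists_lift b (𝟙 _) (by simp [h])
  obtain ⟨ma, rfl⟩ := (AlgSp.yon S).map_surjective la
  obtain ⟨mb, rfl⟩ := (AlgSp.yon S).map_surjective lb
  have e1 : ma ≫ snd = 𝟙 T := by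
    apply (AlgSp.yon S).map_injective
    rw [Functor.map_comp, hla2]
    exact ((AlgSp.yon S).map_id T).symm
  have e2 : mb ≫ snd = 𝟙 T := by
    apply (AlgSp.yon S).map_injective
    rw [Functor.map_comp, hlb2]
    exact ((AlgSp.yon S).map_id T).symm
  have : ma = mb := by
    rw [← cancel_mono snd, e1, e2]
  rw [← hla1, ← hlb1, this]

theorem mono_of_repWith_mono {S : Scheme.{u}} {F G : AlgSp.Sp S} (f : F ⟶ G)
    (hf : AlgSp.RepWith @IsImmersion f) : Mono f := by
  constructor
  intro Z a b h
  apply Sheaf.hom_ext
  apply NatTrans.ext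
  funext T
  ext z
  induction T using Opposite.rec with | _ T => ?_
  have key := sections_unique f hf ((AlgSp.J S).uliftYonedaEquiv.symm (a.hom.app _ z))
    ((AlgSp.J S).uliftYonedaEquiv.symm (b.hom.app _ z)) (by
      rw [GrothendieckTopology.uliftYonedaEquiv_symm_naturality_right,
        GrothendieckTopology.uliftYonedaEquiv_symm_naturality_right]
      congr 1
      have := congrArg (fun t => t.hom.app (Opposite.op T) z) h
      simpa using this)
  exact (AlgSp.J S).uliftYonedaEquiv.symm.injective key

/-- A morphism of algebraic spaces that is representable by immersions is a monomorphism of fppf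
sheaves. -/
theorem result {S : Scheme.{u}} {X Y : AlgSp.Space S} (f : X ⟶ Y)
    (hf : AlgSp.RepWith @IsImmersion f.hom) : Mono f.hom := by
  exact mono_of_repWith_mono f.hom hf

end Groth.Agent.S9928
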