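import Groth.Statements.S9888
import Groth.Agent.S9928

set_option autoImplicit false
universe u
open CategoryTheory CategoryTheory.Limits AlgebraicGeometry
open AlgSp

namespace Groth.Agent.S9888

theorem isPullback_comp_mono_iff {C : Type*} [Category C] {P X Y Z W : C} {fst : P ⟶ X}
    {snd : P ⟶ Y} {g : X ⟶ Z} {h : Y ⟶ Z} (m : Z ⟶ W) [Mono m] :
    IsPullback fst snd (g ≫ m) (h ≫ m) ↔ IsPullback fst snd g h := by
  have t' : IsPullback (𝟙 X) g (g ≫ m) m := IsPullback.of_horiz_isIso_mono ⟨by simp⟩
  constructor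
  · intro t
    have t2 : IsPullback (fst ≫ 𝟙 X) snd (g ≫ m) (h ≫ m) := by simpa using t
    refine IsPullback.of_right t2 ?_ t'
    rw [← cancel_mono m, Category.assoc, Category.assoc, t.w]
  · intro t
    simpa using t.paste_horiz t'

/-- Let `F` be an algebraic space over `S`, `f₂ : F₂ ⟶ F` a map of fppf sheaves which is representable
by immersions, `f₁ : F₁ ⟶ F` a map which is representable with property `P`, and `g : F₁ ⟶ F₂` with
`g ≫ f₂ = f₁` (so `F₁ ⊆ F₂` as subsheaves of `F`). Then `g` is representable and has `P`. (The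
published statement is the three cases `P` = immersion, open immersion, closed immersion, i.e. a
locally closed, open or closed subspace contained in a locally closed subspace is such a subspace of
it; the same argument applies to any `P` stable under base change, and the row is stated for such
`P`.) -/
theorem result (S : Scheme.{u}) (F F₁ F₂ : AlgSp.Sp S) (hF : AlgSp.IsAlgSpace F)
    (f₁ : F₁ ⟶ F) (f₂ : F₂ ⟶ F) (P : MorphismProperty Scheme.{u}) [P.IsStableUnderBaseChange]
    (h₁ : AlgSp.RepWith P f₁) (h₂ : AlgSp.RepWith @IsImmersion f₂) (g : F₁ ⟶ F₂) (w : g ≫ f₂ = f₁) :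
    AlgSp.RepWith P g := by
  subst w
  have hm : Mono f₂ := Groth.Agent.S9928.mono_of_repWith_mono f₂ h₂
  have hrep : AlgSp.Representable g := by
    intro U k
    obtain ⟨V, snd, fst, sq⟩ := h₁.rep (k ≫ f₂)
    exact ⟨V, snd, fst, (isPullback_comp_mono_iff f₂).1 sq⟩
  refine ⟨hrep, ?_⟩
  intro U V k fst snd sq
  exact h₁.2 (k ≫ f₂) fst snd ((isPullback_comp_mono_iff f₂).2 sq)

end Groth.Agent.S9888
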