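import Groth.Statements.S10196
import Groth.Agent.Lib.Helper5.AlgSpOpenSub

set_option autoImplicit false
universe u
open CategoryTheory CategoryTheory.Limits AlgebraicGeometry Topology TopologicalSpace
open AlgSp

namespace Groth.Agent.S10196

/-- A monomorphism of sheaves is injective on points. -/
theorem injective_map_of_mono {S : Scheme.{u}} {F G : AlgSp.Sp S} (j : F ⟶ G) [Mono j] :
    Function.Injective (AlgSp.Points.map j) := by
  intro x y h
  have sq : IsPullback (𝟙 F) (𝟙 F) j j := IsKernelPair.id_of_mono j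
  obtain ⟨w, hw1, hw2⟩ := Groth.Agent.Lib.helper10.exists_point_of_isPullback sq x y h
  rw [AlgSp.Points.map_id] at hw1 hw2
  rw [← hw1, ← hw2]

/-- The kernel pair of a representable etale map from a scheme is an etale equivalence relation. -/
theorem isEtaleEqvRel_of_isPullback {S : Scheme.{u}} {F : AlgSp.Sp S} {R U : Over S}
    (a : (AlgSp.yon S).obj U ⟶ F) (ha : AlgSp.RepWith @Etale a) (s t : R ⟶ U)
    (sq : IsPullback ((AlgSp.yon S).map t) ((AlgSp.yon S).map s) a a) : AlgSp.IsEtaleEqvRel s t where
  injective T r r' h1 h2 := by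
    apply (AlgSp.yon S).map_injective
    apply sq.hom_ext
    · rw [← Functor.map_comp, ← Functor.map_comp, h1]
    · rw [← Functor.map_comp, ← Functor.map_comp, h2]
  equivalence T := by
    have key : ∀ x y : T ⟶ U, (∃ r : T ⟶ R, r ≫ t = x ∧ r ≫ s = y) ↔
        (AlgSp.yon S).map x ≫ a = (AlgSp.yon S).map y ≫ a := by
      intro x y
      constructor
      · rintro ⟨r, rfl, rfl⟩
        rw [Functor.map_comp, Functor.map_comp, Category.assoc, Category.assoc, sq.w]
      · intro h
        obtain ⟨r, hr⟩ := (AlgSp.yon S).map_surjective (sq.lift _ _ h)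
        refine ⟨r, ?_, ?_⟩
        · apply (AlgSp.yon S).map_injective
          rw [Functor.map_comp, hr, sq.lift_fst]
        · apply (AlgSp.yon S).map_injective
          rw [Functor.map_comp, hr, sq.lift_snd]
    refine ⟨fun x => (key x x).2 rfl, fun {x y} h => (key y x).2 ((key x y).1 h).symm,
      fun {x y z} h1 h2 => (key x z).2 (((key x y).1 h1).trans ((key y z).1 h2))⟩
  etale_left := ha.2 a _ s sq
  etale_right := ha.2 a _ t sq.flip

/-- Let X be an algebraic space over a scheme S, a : h_U ⟶ X a representable etale map from a scheme U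
over S, and X' ⟶ X the open subspace whose image in |X| is the (open) image of U. Then a factors
through a representable etale and surjective a' : h_U ⟶ X', and if R is a scheme over S with h_R =
h_U ×_X h_U then also h_R = h_U ×_{X'} h_U and (U, R, a') is a presentation of X'. -/
theorem result {S : Scheme.{u}} {X X' : AlgSp.Space S} {U : Over S}
    (a : (AlgSp.yon S).obj U ⟶ X.obj) (ha : AlgSp.RepWith @Etale a)
    (j : X' ⟶ X) (hj : AlgSp.RepWith @IsOpenImmersion j.hom)
    (himage : Set.range (AlgSp.Points.map j.hom) = Set.range (AlgSp.Points.ofPt a)) :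
    ∃ a' : (AlgSp.yon S).obj U ⟶ X'.obj, a' ≫ j.hom = a ∧ AlgSp.RepWith @Etale a' ∧ AlgSp.RepWith @Surjective a' ∧
      ∀ (R : Over S) (s t : R ⟶ U), IsPullback ((AlgSp.yon S).map t) ((AlgSp.yon S).map s) a a →
        AlgSp.IsPresentation s t a' := by
  have himm : AlgSp.RepWith @IsImmersion j.hom := Groth.Agent.S10194.repWith_mono
    (fun X Y g hg => by have : IsOpenImmersion g := hg; infer_instance) hj
  have hmono : Mono j.hom := Groth.Agent.S9928.mono_of_repWith_mono j.hom himm
  have hsub : Set.range (AlgSp.Points.map a) ⊆ Set.range (AlgSp.Points.map j.hom) := by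
    rintro _ ⟨y, rfl⟩
    rw [himage]
    obtain ⟨u, rfl⟩ := (AlgSp.Points.schemeHomeo U).surjective y
    exact ⟨u, AlgSp.Points.ofPt_eq_map_ofScheme a u⟩
  obtain ⟨a', ha'⟩ := (Groth.Agent.Lib.helper5.OpenSub.factors_iff j.hom hj a).2 hsub
  have hae : AlgSp.RepWith @Etale a' :=
    Groth.Agent.S9888.result S X.obj _ X'.obj X.property a j.hom @Etale ha himm a' ha'
  have has : AlgSp.RepWith @Surjective a' := by
    refine Groth.Agent.Lib.helper11.repWith_surjective_of_surjective a' hae.1 ?_
    intro x'
    have hx : AlgSp.Points.map j.hom x' ∈ Set.range (AlgSp.Points.ofPt a) := by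
      rw [← himage]; exact ⟨x', rfl⟩
    obtain ⟨u, hu⟩ := hx
    refine ⟨u, injective_map_of_mono j.hom ?_⟩
    rw [AlgSp.Points.map_ofPt, ha', hu]
  refine ⟨a', ha', hae, has, ?_⟩
  intro R s t sq
  have sq' : IsPullback ((AlgSp.yon S).map t) ((AlgSp.yon S).map s) a' a' := by
    rw [← ha'] at sq
    exact (Groth.Agent.S9888.isPullback_comp_mono_iff j.hom).1 sq
  exact ⟨isEtaleEqvRel_of_isPullback a' hae s t sq', hae, has, sq'⟩

end Groth.Agent.S10196
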