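import Groth.Statements.S7457
import Mathlib
-- import your own Groth.Agent.* helpers here

set_option autoImplicit false
universe u
open CategoryTheory CategoryTheory.Limits AlgebraicGeometry
open Grpd

namespace Groth.Agent.S7457

variable {S : Scheme.{u}} (G : Grpd.GroupoidScheme S)

/-- composition of T-points -/
noncomputable def cmp {T : Scheme.{u}} (α β : T ⟶ G.R) (h : α ≫ G.s = β ≫ G.t) : T ⟶ G.R :=
  pullback.lift α β h ≫ G.c

lemma cmp_congr {T : Scheme.{u}} {α α' β β' : T ⟶ G.R} (h : α ≫ G.s = β ≫ G.t)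
    (hα : α = α') (hβ : β = β') :
    cmp G α β h = cmp G α' β' (by rw [← hα, ← hβ]; exact h) := by
  subst hα hβ; rfl

lemma pre_cmp {T T' : Scheme.{u}} (f : T' ⟶ T) (α β : T ⟶ G.R) (h : α ≫ G.s = β ≫ G.t) :
    f ≫ cmp G α β h = cmp G (f ≫ α) (f ≫ β) (by rw [Category.assoc, Category.assoc, h]) := by
  unfold cmp
  rw [← Category.assoc]
  congr 1
  apply pullback.hom_ext <;> simp only [pullback.lift_fst, pullback.lift_snd, Category.assoc]

lemma hom_c {T : Scheme.{u}} (m : T ⟶ pullback G.s G.t) :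
    m ≫ G.c = cmp G (m ≫ pullback.fst _ _) (m ≫ pullback.snd _ _)
      (by rw [Category.assoc, Category.assoc, pullback.condition]) := by
  unfold cmp
  congr 1
  apply pullback.hom_ext <;> simp only [pullback.lift_fst, pullback.lift_snd, Category.assoc]

lemma cmp_s {T : Scheme.{u}} (α β : T ⟶ G.R) (h : α ≫ G.s = β ≫ G.t) :
    cmp G α β h ≫ G.s = β ≫ G.s := G.comp_s α β h

lemma cmp_t {T : Scheme.{u}} (α β : T ⟶ G.R) (h : α ≫ G.s = β ≫ G.t) :
    cmp G α β h ≫ G.t = α ≫ G.t := G.comp_t α β h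

lemma cmp_assoc {T : Scheme.{u}} (α β γ : T ⟶ G.R) (h₁ : α ≫ G.s = β ≫ G.t)
    (h₂ : β ≫ G.s = γ ≫ G.t) :
    cmp G (cmp G α β h₁) γ ((cmp_s G α β h₁).trans h₂) =
      cmp G α (cmp G β γ h₂) (h₁.trans (cmp_t G β γ h₂).symm) := G.assoc α β γ h₁ h₂

/-- a ∘ (a⁻¹ ∘ b) = b when t a = t b -/
lemma L1 {T : Scheme.{u}} (a b : T ⟶ G.R) (h : a ≫ G.t = b ≫ G.t)
    (h1 : (a ≫ G.i) ≫ G.s = b ≫ G.t) (h2 : a ≫ G.s = cmp G (a ≫ G.i) b h1 ≫ G.t) :
    cmp G a (cmp G (a ≫ G.i) b h1) h2 = b := by
  have hi : a ≫ G.s = (a ≫ G.i) ≫ G.t := by rw [Category.assoc, G.i_t]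
  rw [← cmp_assoc G a (a ≫ G.i) b hi h1]
  have e1 : cmp G a (a ≫ G.i) hi = b ≫ G.t ≫ G.e := by
    have := G.comp_i a
    unfold cmp
    rw [this, ← Category.assoc, h, Category.assoc]
  rw [cmp_congr G _ e1 rfl]
  exact G.e_comp b

/-- a⁻¹ ∘ (a ∘ b) = b when s a = t b -/
lemma L2 {T : Scheme.{u}} (a b : T ⟶ G.R) (h : a ≫ G.s = b ≫ G.t)
    (h2 : (a ≫ G.i) ≫ G.s = cmp G a b h ≫ G.t) :
    cmp G (a ≫ G.i) (cmp G a b h) h2 = b := by
  have hi : (a ≫ G.i) ≫ G.s = a ≫ G.t := by rw [Category.assoc, G.i_s]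
  rw [← cmp_assoc G (a ≫ G.i) a b hi h]
  have e1 : cmp G (a ≫ G.i) a hi = b ≫ G.t ≫ G.e := by
    have := G.i_comp a
    unfold cmp
    rw [this, ← Category.assoc, h, Category.assoc]
  rw [cmp_congr G _ e1 rfl]
  exact G.e_comp b

/-- (α ∘ β⁻¹) ∘ β = α when s α = s β -/
lemma L3 {T : Scheme.{u}} (α β : T ⟶ G.R) (h : α ≫ G.s = β ≫ G.s)
    (h1 : α ≫ G.s = (β ≫ G.i) ≫ G.t) (h2 : cmp G α (β ≫ G.i) h1 ≫ G.s = β ≫ G.t) :
    cmp G (cmp G α (β ≫ G.i) h1) β h2 = α := by
  have hi : (β ≫ G.i) ≫ G.s = β ≫ G.t := by rw [Category.assoc, G.i_s]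
  rw [cmp_assoc G α (β ≫ G.i) β h1 hi]
  have e1 : cmp G (β ≫ G.i) β hi = α ≫ G.s ≫ G.e := by
    have := G.i_comp β
    unfold cmp
    rw [this, ← Category.assoc, ← h, Category.assoc]
  rw [cmp_congr G _ rfl e1]
  exact G.comp_e α

/-- (a ∘ b) ∘ b⁻¹ = a when s a = t b -/
lemma L4 {T : Scheme.{u}} (a b : T ⟶ G.R) (h : a ≫ G.s = b ≫ G.t)
    (h2 : cmp G a b h ≫ G.s = (b ≫ G.i) ≫ G.t) :
    cmp G (cmp G a b h) (b ≫ G.i) h2 = a := by
  have hi : b ≫ G.s = (b ≫ G.i) ≫ G.t := by rw [Category.assoc, G.i_t]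
  rw [cmp_assoc G a b (b ≫ G.i) h hi]
  have e1 : cmp G b (b ≫ G.i) hi = a ≫ G.s ≫ G.e := by
    have := G.comp_i b
    unfold cmp
    rw [this, ← Category.assoc, ← h, Category.assoc]
  rw [cmp_congr G _ rfl e1]
  exact G.comp_e a

/-- Let (U, R, s, t, c) be a groupoid scheme over S. Let φ : R x_(t,U,t) R -> R x_(s,U,t) R be the
morphism sending a pair (a, b) with the same target to (a, a^{-1} composed with b), that is, the
morphism whose first component is the first projection and whose second component is c applied to (i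
composed after the first projection, second projection). Then φ is an isomorphism and composed with
c it gives the second projection. Moreover the square with sides c, the second projection R
x_(s,U,t) R -> R, s and s is cartesian. (A groupoid scheme carries U, R, s, t, c, e, i over S with
the groupoid axioms on T-points; c is defined on the fibre product of s and t and sends a pair (a,
b) with s(a) = t(b) to a composed with b.) -/
theorem result (S : Scheme.{u}) (G : Grpd.GroupoidScheme S) : (∀ φ : pullback G.t G.t ⟶ pullback G.s G.t, φ ≫ pullback.fst G.s G.t = pullback.fst G.t G.t → φ ≫ pullback.snd G.s G.t = pullback.lift (pullback.fst G.t G.t ≫ G.i) (pullback.snd G.t G.t) ((Category.assoc _ _ _).trans ((congrArg (fun x => pullback.fst G.t G.t ≫ x) G.i_s).trans pullback.condition)) ≫ G.c → IsIso φ ∧ φ ≫ G.c = pullback.snd G.t G.t) ∧ IsPullback G.c (pullback.snd G.s G.t) G.s G.s := by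
  constructor
  · intro φ hφ1 hφ2
    have hφ2' : φ ≫ pullback.snd G.s G.t =
        cmp G (pullback.fst G.t G.t ≫ G.i) (pullback.snd G.t G.t)
          (by rw [Category.assoc, G.i_s, pullback.condition]) := hφ2
    have hφc : φ ≫ G.c = pullback.snd G.t G.t := by
      rw [hom_c G φ, cmp_congr G _ hφ1 hφ2']
      exact L1 G _ _ pullback.condition _ _
    refine ⟨?_, hφc⟩
    have hcond : pullback.fst G.s G.t ≫ G.t =
        cmp G (pullback.fst G.s G.t) (pullback.snd G.s G.t) pullback.condition ≫ G.t :=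
      (cmp_t G _ _ _).symm
    refine ⟨⟨pullback.lift (pullback.fst G.s G.t)
      (cmp G (pullback.fst G.s G.t) (pullback.snd G.s G.t) pullback.condition) hcond, ?_, ?_⟩⟩
    · apply pullback.hom_ext
      · rw [Category.assoc, pullback.lift_fst, hφ1, Category.id_comp]
      · rw [Category.assoc, pullback.lift_snd, Category.id_comp, pre_cmp,
          cmp_congr G _ hφ1 hφ2']
        exact L1 G _ _ pullback.condition _ _
    · apply pullback.hom_ext
      · rw [Category.assoc, hφ1, pullback.lift_fst, Category.id_comp]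
      · rw [Category.assoc, hφ2', Category.id_comp, pre_cmp]
        have e1 : pullback.lift (pullback.fst G.s G.t)
            (cmp G (pullback.fst G.s G.t) (pullback.snd G.s G.t) pullback.condition) hcond ≫
            pullback.fst G.t G.t ≫ G.i = pullback.fst G.s G.t ≫ G.i := by
          rw [← Category.assoc, pullback.lift_fst]
        have e2 : pullback.lift (pullback.fst G.s G.t)
            (cmp G (pullback.fst G.s G.t) (pullback.snd G.s G.t) pullback.condition) hcond ≫
            pullback.snd G.t G.t =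
            cmp G (pullback.fst G.s G.t) (pullback.snd G.s G.t) pullback.condition :=
          pullback.lift_snd _ _ _
        rw [cmp_congr G _ e1 e2]
        exact L2 G _ _ pullback.condition _
  · have hw : G.c ≫ G.s = pullback.snd G.s G.t ≫ G.s := by
      have h1 := hom_c G (𝟙 (pullback G.s G.t))
      rw [Category.id_comp] at h1
      rw [h1, cmp_s, Category.id_comp]
    refine ⟨⟨hw⟩, ⟨PullbackCone.IsLimit.mk hw
      (fun σ => pullback.lift (cmp G σ.fst (σ.snd ≫ G.i)
        (by rw [Category.assoc, G.i_t]; exact σ.condition)) σ.snd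
        (by rw [cmp_s, Category.assoc, G.i_s])) ?_ ?_ ?_⟩⟩
    · intro σ
      rw [hom_c, cmp_congr G _ (pullback.lift_fst _ _ _) (pullback.lift_snd _ _ _)]
      exact L3 G _ _ σ.condition _ _
    · intro σ
      exact pullback.lift_snd _ _ _
    · intro σ m hm1 hm2
      apply pullback.hom_ext
      · rw [pullback.lift_fst]
        have hc : (m ≫ pullback.fst G.s G.t) ≫ G.s = (m ≫ pullback.snd G.s G.t) ≫ G.t := by
          rw [Category.assoc, Category.assoc, pullback.condition]
        have h4 := L4 G (m ≫ pullback.fst G.s G.t) (m ≫ pullback.snd G.s G.t) hc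
          (by rw [cmp_s, Category.assoc, Category.assoc, Category.assoc, G.i_t])
        rw [← h4]
        have e1 : cmp G (m ≫ pullback.fst G.s G.t) (m ≫ pullback.snd G.s G.t) hc = σ.fst := by
          rw [← hom_c, hm1]
        have e2 : (m ≫ pullback.snd G.s G.t) ≫ G.i = σ.snd ≫ G.i := by rw [hm2]
        exact cmp_congr G _ e1 e2
      · rw [pullback.lift_snd, hm2]

end Groth.Agent.S7457
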