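import Groth.Statements.S1889
import Mathlib
import Groth.Agent.S7457
-- import your own Groth.Agent.* helpers here

set_option autoImplicit false
universe u
open CategoryTheory CategoryTheory.Limits AlgebraicGeometry
open Grpd

namespace Groth.Agent.S1889

open Groth.Agent.S7457 in
lemma keyA {S : Scheme.{u}} (G : Grpd.GroupoidScheme S) {Z : Scheme.{u}} (a : Z ⟶ G.R)
    (h0 : (pullback.fst (a ≫ G.s) G.t ≫ a) ≫ G.s = pullback.snd (a ≫ G.s) G.t ≫ G.t) :
    IsPullback (cmp G (pullback.fst (a ≫ G.s) G.t ≫ a) (pullback.snd (a ≫ G.s) G.t) h0)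
      (pullback.fst (a ≫ G.s) G.t) G.t (a ≫ G.t) := by
  have hw : cmp G (pullback.fst (a ≫ G.s) G.t ≫ a) (pullback.snd (a ≫ G.s) G.t) h0 ≫ G.t =
      pullback.fst (a ≫ G.s) G.t ≫ a ≫ G.t := by rw [cmp_t, Category.assoc]
  have h1 : ∀ τ : PullbackCone G.t (a ≫ G.t), ((τ.snd ≫ a) ≫ G.i) ≫ G.s = τ.fst ≫ G.t := by
    intro τ
    rw [Category.assoc, G.i_s, Category.assoc]
    exact τ.condition.symm
  have h2 : ∀ τ : PullbackCone G.t (a ≫ G.t),
      τ.snd ≫ a ≫ G.s = cmp G ((τ.snd ≫ a) ≫ G.i) τ.fst (h1 τ) ≫ G.t := by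
    intro τ
    rw [cmp_t, Category.assoc, G.i_t, Category.assoc]
  refine ⟨⟨hw⟩, ⟨PullbackCone.IsLimit.mk hw
    (fun τ => pullback.lift τ.snd (cmp G ((τ.snd ≫ a) ≫ G.i) τ.fst (h1 τ)) (h2 τ)) ?_ ?_ ?_⟩⟩
  · intro τ
    rw [pre_cmp]
    have e1 : pullback.lift τ.snd (cmp G ((τ.snd ≫ a) ≫ G.i) τ.fst (h1 τ)) (h2 τ) ≫
        pullback.fst (a ≫ G.s) G.t ≫ a = τ.snd ≫ a := by
      rw [← Category.assoc, pullback.lift_fst]
    rw [cmp_congr G _ e1 (pullback.lift_snd _ _ _)]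
    exact L1 G _ _ (by rw [Category.assoc]; exact τ.condition.symm) _ _
  · intro τ
    exact pullback.lift_fst _ _ _
  · intro τ m hm1 hm2
    apply pullback.hom_ext
    · rw [pullback.lift_fst, hm2]
    · rw [pullback.lift_snd]
      rw [pre_cmp] at hm1
      have e1 : m ≫ pullback.fst (a ≫ G.s) G.t ≫ a = τ.snd ≫ a := by
        rw [← Category.assoc, hm2]
      rw [cmp_congr G _ e1 rfl] at hm1
      have hL2 := L2 G (τ.snd ≫ a) (m ≫ pullback.snd (a ≫ G.s) G.t)
        (by rw [← e1, Category.assoc, Category.assoc, pullback.condition, Category.assoc])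
        (by rw [cmp_t, Category.assoc, G.i_s])
      rw [← hL2]
      exact cmp_congr G _ rfl hm1

/-- Let (U, R, s, t, c) be a groupoid scheme over S with U the spectrum of a field, W ⊆ R open and a : Z
→ R a morphism. Then the image of Z ×_{s∘a, U, t} W → R ×_{s,U,t} R → R (composition) is open. (A
groupoid scheme carries U, R, s, t, c, e, i over S with the groupoid axioms on T-points; 'finite
locally free' is finite, flat and locally of finite presentation; C ⊂ Γ(U) is the ring of functions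
a with s♯(a) = t♯(a) and M = Spec C.) -/
theorem result (S : Scheme.{u}) (G : Grpd.GroupoidScheme S) (k : Type u) [Field k] (eU : G.U ≅ Spec (CommRingCat.of k)) (W : G.R.Opens) (Z : Scheme.{u}) (a : Z ⟶ G.R) : IsOpen (Set.range ⇑(pullback.lift (pullback.fst (a ≫ G.s) (W.ι ≫ G.t) ≫ a) (pullback.snd (a ≫ G.s) (W.ι ≫ G.t) ≫ W.ι) ((Category.assoc _ _ _).trans (pullback.condition.trans (Category.assoc _ _ _).symm)) ≫ G.c)) := by
  have hne : Nonempty G.U := ⟨eU.inv (Classical.arbitrary _)⟩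
  have hint : IsIntegral G.U := isIntegral_of_isOpenImmersion eU.hom
  have hsub : Subsingleton G.U := eU.hom.homeomorph.subsingleton
  have huo : UniversallyOpen (a ≫ G.t) := inferInstance
  have h0 : (pullback.fst (a ≫ G.s) G.t ≫ a) ≫ G.s = pullback.snd (a ≫ G.s) G.t ≫ G.t := by
    rw [Category.assoc, pullback.condition]
  have hcZ : UniversallyOpen
      (Groth.Agent.S7457.cmp G (pullback.fst (a ≫ G.s) G.t ≫ a) (pullback.snd (a ≫ G.s) G.t) h0) :=
    MorphismProperty.of_isPullback (P := @UniversallyOpen) (keyA G a h0).flip huo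
  have hκ : IsOpenImmersion (pullback.map (a ≫ G.s) (W.ι ≫ G.t) (a ≫ G.s) G.t (𝟙 Z) W.ι (𝟙 G.U)
      (by rw [Category.comp_id, Category.id_comp]) (by rw [Category.comp_id])) := inferInstance
  have hm : pullback.lift (pullback.fst (a ≫ G.s) (W.ι ≫ G.t) ≫ a)
      (pullback.snd (a ≫ G.s) (W.ι ≫ G.t) ≫ W.ι)
      ((Category.assoc _ _ _).trans (pullback.condition.trans (Category.assoc _ _ _).symm)) ≫ G.c =
      pullback.map (a ≫ G.s) (W.ι ≫ G.t) (a ≫ G.s) G.t (𝟙 Z) W.ι (𝟙 G.U)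
      (by rw [Category.comp_id, Category.id_comp]) (by rw [Category.comp_id]) ≫
      Groth.Agent.S7457.cmp G (pullback.fst (a ≫ G.s) G.t ≫ a) (pullback.snd (a ≫ G.s) G.t) h0 := by
    rw [Groth.Agent.S7457.pre_cmp]
    have e1 : pullback.map (a ≫ G.s) (W.ι ≫ G.t) (a ≫ G.s) G.t (𝟙 Z) W.ι (𝟙 G.U)
        (by rw [Category.comp_id, Category.id_comp]) (by rw [Category.comp_id]) ≫
        pullback.fst (a ≫ G.s) G.t ≫ a = pullback.fst (a ≫ G.s) (W.ι ≫ G.t) ≫ a := by
      rw [← Category.assoc, pullback.lift_fst, Category.comp_id]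
    have e2 : pullback.map (a ≫ G.s) (W.ι ≫ G.t) (a ≫ G.s) G.t (𝟙 Z) W.ι (𝟙 G.U)
        (by rw [Category.comp_id, Category.id_comp]) (by rw [Category.comp_id]) ≫
        pullback.snd (a ≫ G.s) G.t = pullback.snd (a ≫ G.s) (W.ι ≫ G.t) ≫ W.ι :=
      pullback.lift_snd _ _ _
    rw [Groth.Agent.S7457.cmp_congr G _ e1 e2]
    rfl
  rw [hm]
  exact (Scheme.Hom.isOpenMap _).isOpen_range

end Groth.Agent.S1889
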