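import Groth.Statements.S1891
import Mathlib
import Groth.Agent.S7457
import Groth.Agent.S1889
-- import your own Groth.Agent.* helpers here

set_option autoImplicit false
universe u
open CategoryTheory CategoryTheory.Limits AlgebraicGeometry
open Grpd

namespace Groth.Agent.S1891

open Groth.Agent.S7457 in
lemma homC {S : Scheme.{u}} {G₁ G₂ : Grpd.GroupoidScheme S} (a : Grpd.GroupoidScheme.Hom G₁ G₂)
    {T : Scheme.{u}} (α β : T ⟶ G₁.R) (h : α ≫ G₁.s = β ≫ G₁.t)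
    (h' : (α ≫ a.fR) ≫ G₂.s = (β ≫ a.fR) ≫ G₂.t) :
    cmp G₁ α β h ≫ a.fR = cmp G₂ (α ≫ a.fR) (β ≫ a.fR) h' :=
  a.comm_c α β h

open Groth.Agent.S7457 in
lemma homE {S : Scheme.{u}} {G₁ G₂ : Grpd.GroupoidScheme S} (a : Grpd.GroupoidScheme.Hom G₁ G₂) :
    G₁.e ≫ a.fR = a.fU ≫ G₂.e := by
  obtain ⟨ε, hε⟩ : ∃ ε, ε = G₁.e ≫ a.fR := ⟨_, rfl⟩
  rw [← hε]
  have hs : ε ≫ G₂.s = a.fU := by
    rw [hε, Category.assoc, a.comm_s, ← Category.assoc, G₁.e_s, Category.id_comp]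
  have ht : ε ≫ G₂.t = a.fU := by
    rw [hε, Category.assoc, a.comm_t, ← Category.assoc, G₁.e_t, Category.id_comp]
  have h11 : G₁.e ≫ G₁.s = G₁.e ≫ G₁.t := by rw [G₁.e_s, G₁.e_t]
  have hee : cmp G₁ G₁.e G₁.e h11 = G₁.e := by
    have h1 := G₁.comp_e G₁.e
    have e2 : G₁.e = G₁.e ≫ G₁.s ≫ G₁.e := by rw [← Category.assoc, G₁.e_s, Category.id_comp]
    rw [cmp_congr G₁ _ rfl e2]
    exact h1
  have hidem : cmp G₂ ε ε (hs.trans ht.symm) = ε := by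
    subst hε
    rw [← homC a G₁.e G₁.e h11, hee]
  have h2 := L2 G₂ ε ε (hs.trans ht.symm) (by rw [cmp_t, Category.assoc, G₂.i_s])
  rw [cmp_congr G₂ _ rfl hidem] at h2
  rw [← h2]
  exact (G₂.i_comp ε).trans (by rw [← Category.assoc, hs])

open Groth.Agent.S7457 in
lemma homI {S : Scheme.{u}} {G₁ G₂ : Grpd.GroupoidScheme S} (a : Grpd.GroupoidScheme.Hom G₁ G₂)
    {T : Scheme.{u}} (β : T ⟶ G₁.R) : (β ≫ G₁.i) ≫ a.fR = (β ≫ a.fR) ≫ G₂.i := by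
  obtain ⟨b, hb⟩ : ∃ b, b = β ≫ a.fR := ⟨_, rfl⟩
  obtain ⟨b', hb'⟩ : ∃ b', b' = (β ≫ G₁.i) ≫ a.fR := ⟨_, rfl⟩
  rw [← hb, ← hb']
  have hbs : b ≫ G₂.s = β ≫ G₁.s ≫ a.fU := by rw [hb, Category.assoc, a.comm_s]
  have hbt : b ≫ G₂.t = β ≫ G₁.t ≫ a.fU := by rw [hb, Category.assoc, a.comm_t]
  have hb's : b' ≫ G₂.s = β ≫ G₁.t ≫ a.fU := by
    rw [hb', Category.assoc, a.comm_s, Category.assoc, ← Category.assoc G₁.i, G₁.i_s]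
  have hb't : b' ≫ G₂.t = β ≫ G₁.s ≫ a.fU := by
    rw [hb', Category.assoc, a.comm_t, Category.assoc, ← Category.assoc G₁.i, G₁.i_t]
  have h1 : (β ≫ G₁.i) ≫ G₁.s = β ≫ G₁.t := by rw [Category.assoc, G₁.i_s]
  have hcomp : cmp G₂ b' b (hb's.trans hbt.symm) = b ≫ G₂.s ≫ G₂.e := by
    subst hb hb'
    rw [← homC a (β ≫ G₁.i) β h1]
    have := G₁.i_comp β
    have e1 : cmp G₁ (β ≫ G₁.i) β h1 = β ≫ G₁.s ≫ G₁.e := this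
    have e3 : (β ≫ a.fR) ≫ G₂.s ≫ G₂.e = β ≫ G₁.s ≫ a.fU ≫ G₂.e := by
      rw [Category.assoc, ← Category.assoc a.fR, a.comm_s, Category.assoc]
    rw [e1, Category.assoc, Category.assoc, homE a, e3]
  have h4 := L4 G₂ b' b (hb's.trans hbt.symm) (by rw [cmp_s, Category.assoc, G₂.i_t])
  rw [cmp_congr G₂ _ hcomp rfl] at h4
  rw [← h4]
  have e4 : b ≫ G₂.s ≫ G₂.e = (b ≫ G₂.i) ≫ G₂.t ≫ G₂.e := by
    rw [Category.assoc, ← Category.assoc G₂.i, G₂.i_t]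
  rw [cmp_congr G₂ _ e4 rfl]
  exact G₂.e_comp (b ≫ G₂.i)

open Groth.Agent.S7457 in
lemma final {S : Scheme.{u}} {G₁ G₂ : Grpd.GroupoidScheme S} (a : Grpd.GroupoidScheme.Hom G₁ G₂)
    [IsIso a.fU] {T T₂ : Scheme.{u}} (zT wT : T ⟶ G₂.R) (h0 : zT ≫ G₂.s = wT ≫ G₂.t)
    (σ : T₂ ⟶ T) (α β : T₂ ⟶ G₁.R) (hαf : α ≫ a.fR = σ ≫ cmp G₂ zT wT h0)
    (hβf : β ≫ a.fR = σ ≫ wT) : ∃ γ : T₂ ⟶ G₁.R, γ ≫ a.fR = σ ≫ zT := by
  have h02 : (σ ≫ zT) ≫ G₂.s = (σ ≫ wT) ≫ G₂.t := by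
    rw [Category.assoc, Category.assoc, h0]
  have hαf' : α ≫ a.fR = cmp G₂ (σ ≫ zT) (σ ≫ wT) h02 := by rw [hαf, pre_cmp]
  have hs : α ≫ G₁.s = β ≫ G₁.s := by
    rw [← cancel_mono a.fU, Category.assoc, Category.assoc, ← a.comm_s, ← Category.assoc,
      ← Category.assoc, hαf', hβf, cmp_s]
  have hc : α ≫ G₁.s = (β ≫ G₁.i) ≫ G₁.t := by rw [Category.assoc, G₁.i_t, hs]
  refine ⟨cmp G₁ α (β ≫ G₁.i) hc, ?_⟩
  have hc' : (α ≫ a.fR) ≫ G₂.s = ((β ≫ G₁.i) ≫ a.fR) ≫ G₂.t := by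
    rw [Category.assoc, Category.assoc, a.comm_s, a.comm_t, ← Category.assoc, ← Category.assoc, hc]
  rw [homC a α (β ≫ G₁.i) hc hc']
  have e2 : (β ≫ G₁.i) ≫ a.fR = (σ ≫ wT) ≫ G₂.i := by rw [homI, hβf]
  rw [cmp_congr G₂ _ hαf' e2]
  exact L4 G₂ _ _ _ _

/-- Let (U, R₁, s₁, t₁, c₁) and (U, R₂, s₂, t₂, c₂) be groupoid schemes over S on the same U = Spec k, k
a field, and a : R₁ → R₂ a morphism of groupoid schemes over the identity of U (here: over an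
isomorphism on objects). If a(R₁) is open in R₂ then it is closed. (A groupoid scheme carries U, R,
s, t, c, e, i over S with the groupoid axioms on T-points; 'finite locally free' is finite, flat and
locally of finite presentation; C ⊂ Γ(U) is the ring of functions a with s♯(a) = t♯(a) and M = Spec
C.) -/
theorem result (S : Scheme.{u}) (G₁ G₂ : Grpd.GroupoidScheme S) (k : Type u) [Field k] (eU : G₂.U ≅ Spec (CommRingCat.of k)) (a : Grpd.GroupoidScheme.Hom G₁ G₂) [IsIso a.fU] (hopen : IsOpen (Set.range ⇑a.fR)) : IsClosed (Set.range ⇑a.fR) := by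
  rw [← closure_subset_iff_isClosed]
  intro r hr
  obtain ⟨Wo, hWo⟩ : ∃ Wo : G₂.R.Opens, (Wo : Set G₂.R) = Set.range ⇑a.fR :=
    ⟨⟨Set.range ⇑a.fR, hopen⟩, rfl⟩
  obtain ⟨ζ, hζ⟩ : ∃ ζ : Spec (G₂.R.residueField r) ⟶ G₂.R, ∀ x, ζ x = r :=
    ⟨G₂.R.fromSpecResidueField r, fun x => Scheme.fromSpecResidueField_apply r x⟩
  have h0 : (pullback.fst (ζ ≫ G₂.s) (Wo.ι ≫ G₂.t) ≫ ζ) ≫ G₂.s =
      (pullback.snd (ζ ≫ G₂.s) (Wo.ι ≫ G₂.t) ≫ Wo.ι) ≫ G₂.t := by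
    rw [Category.assoc, Category.assoc, pullback.condition]
  obtain ⟨m, hm⟩ : ∃ m : pullback (ζ ≫ G₂.s) (Wo.ι ≫ G₂.t) ⟶ G₂.R,
      m = Groth.Agent.S7457.cmp G₂ (pullback.fst (ζ ≫ G₂.s) (Wo.ι ≫ G₂.t) ≫ ζ)
        (pullback.snd (ζ ≫ G₂.s) (Wo.ι ≫ G₂.t) ≫ Wo.ι) h0 := ⟨_, rfl⟩
  have hopenm : IsOpen (Set.range ⇑m) := by
    rw [hm]
    exact Groth.Agent.S1889.result S G₂ k eU Wo _ ζ
  -- Step 2 : r ∈ range m
  have he : G₂.e = inv a.fU ≫ G₁.e ≫ a.fR := by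
    rw [IsIso.eq_inv_comp]
    exact (homE a).symm
  have hwrange : Set.range ⇑(ζ ≫ G₂.s ≫ G₂.e) ⊆ Set.range ⇑Wo.ι := by
    rintro _ ⟨x, rfl⟩
    rw [Scheme.Opens.range_ι, hWo, he]
    simp only [Scheme.Hom.comp_apply]
    exact ⟨_, rfl⟩
  obtain ⟨w', hw'⟩ : ∃ w' : Spec (G₂.R.residueField r) ⟶ Wo.toScheme,
      w' ≫ Wo.ι = ζ ≫ G₂.s ≫ G₂.e :=
    ⟨IsOpenImmersion.lift Wo.ι _ hwrange, IsOpenImmersion.lift_fac _ _ _⟩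
  have hpc : 𝟙 _ ≫ ζ ≫ G₂.s = w' ≫ Wo.ι ≫ G₂.t := by
    rw [← Category.assoc w', hw', Category.assoc, Category.assoc, G₂.e_t, Category.comp_id,
      Category.id_comp]
  have hpm : pullback.lift (𝟙 _) w' hpc ≫ m = ζ := by
    rw [hm, Groth.Agent.S7457.pre_cmp]
    have e1 : pullback.lift (𝟙 _) w' hpc ≫ pullback.fst (ζ ≫ G₂.s) (Wo.ι ≫ G₂.t) ≫ ζ = ζ := by
      rw [← Category.assoc, pullback.lift_fst, Category.id_comp]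
    have e2 : pullback.lift (𝟙 _) w' hpc ≫ pullback.snd (ζ ≫ G₂.s) (Wo.ι ≫ G₂.t) ≫ Wo.ι
        = ζ ≫ G₂.s ≫ G₂.e := by
      rw [← Category.assoc, pullback.lift_snd, hw']
    rw [Groth.Agent.S7457.cmp_congr G₂ _ e1 e2]
    exact G₂.comp_e ζ
  have hrm : r ∈ Set.range ⇑m := by
    refine ⟨pullback.lift (𝟙 _) w' hpc (IsLocalRing.closedPoint _), ?_⟩
    rw [← Scheme.Hom.comp_apply, hpm, hζ]
  -- Step 3
  obtain ⟨y, ⟨q, hq⟩, ⟨r₁, hr₁⟩⟩ := mem_closure_iff.mp hr _ hopenm hrm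
  -- Step 4
  obtain ⟨q₁, hq₁, -⟩ := Scheme.Pullback.exists_preimage_pullback (f := m) (g := a.fR) q r₁
    (hq.trans hr₁.symm)
  have hwq : (pullback.snd (ζ ≫ G₂.s) (Wo.ι ≫ G₂.t) ≫ Wo.ι) q ∈ Set.range ⇑a.fR := by
    rw [← hWo, Scheme.Hom.comp_apply]
    exact (pullback.snd (ζ ≫ G₂.s) (Wo.ι ≫ G₂.t) q).2
  obtain ⟨r₂, hr₂⟩ := hwq
  obtain ⟨q₂, hq₂, -⟩ := Scheme.Pullback.exists_preimage_pullback
    (f := pullback.fst m a.fR ≫ pullback.snd (ζ ≫ G₂.s) (Wo.ι ≫ G₂.t) ≫ Wo.ι) (g := a.fR) q₁ r₂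
    (by rw [Scheme.Hom.comp_apply, hq₁, hr₂])
  obtain ⟨γ, hγ⟩ := final a (pullback.fst (ζ ≫ G₂.s) (Wo.ι ≫ G₂.t) ≫ ζ)
    (pullback.snd (ζ ≫ G₂.s) (Wo.ι ≫ G₂.t) ≫ Wo.ι) h0
    (pullback.fst (pullback.fst m a.fR ≫ pullback.snd (ζ ≫ G₂.s) (Wo.ι ≫ G₂.t) ≫ Wo.ι) a.fR ≫
      pullback.fst m a.fR)
    (pullback.fst (pullback.fst m a.fR ≫ pullback.snd (ζ ≫ G₂.s) (Wo.ι ≫ G₂.t) ≫ Wo.ι) a.fR ≫
      pullback.snd m a.fR)
    (pullback.snd (pullback.fst m a.fR ≫ pullback.snd (ζ ≫ G₂.s) (Wo.ι ≫ G₂.t) ≫ Wo.ι) a.fR)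
    (by rw [Category.assoc, Category.assoc, ← hm, pullback.condition])
    (by rw [← pullback.condition, Category.assoc])
  refine ⟨γ q₂, ?_⟩
  rw [← Scheme.Hom.comp_apply, hγ]
  simp only [Scheme.Hom.comp_apply, hζ]

end Groth.Agent.S1891
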