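import Groth.Statements.S1880
import Mathlib
import Groth.Agent.S7457
-- import your own Groth.Agent.* helpers here

set_option autoImplicit false
universe u
open CategoryTheory CategoryTheory.Limits AlgebraicGeometry
open Grpd

namespace Groth.Agent.S1880


open TensorProduct Groth.Agent.S7457

lemma norm_of_isPushout {R S T P : CommRingCat.{u}} {f : R ⟶ S} {g : R ⟶ T} {inl : S ⟶ P}
    {inr : T ⟶ P} (h : IsPushout f g inl inr)
    (hb : letI := f.hom.toAlgebra; ∃ s : Finset S, Nonempty (Module.Basis s R S)) (x : S) :
    (letI := inr.hom.toAlgebra; Algebra.norm T (inl.hom x)) =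
      g.hom (letI := f.hom.toAlgebra; Algebra.norm R x) := by
  algebraize [f.hom, g.hom, inl.hom, inr.hom, inl.hom.comp f.hom]
  have : IsScalarTower R T P := .of_algebraMap_eq' <| congr($(h.1.1).hom)
  have hp : Algebra.IsPushout R S T P := CommRingCat.isPushout_iff_isPushout.mp h
  have ibc : IsBaseChange T (IsScalarTower.toAlgHom R S P).toLinearMap := hp.symm.out
  obtain ⟨s, ⟨b⟩⟩ := hb
  classical
  rw [Algebra.norm_eq_matrix_det (ibc.basis b), Algebra.norm_eq_matrix_det b, RingHom.map_det]
  congr 1
  ext i j
  rw [Algebra.leftMulMatrix_eq_repr_mul, RingHom.mapMatrix_apply, Matrix.map_apply,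
    Algebra.leftMulMatrix_eq_repr_mul, IsBaseChange.basis_apply]
  have e1 : inl.hom x * (IsScalarTower.toAlgHom R S P).toLinearMap (b j) =
      (IsScalarTower.toAlgHom R S P).toLinearMap (x * b j) := by
    simp only [AlgHom.toLinearMap_apply, map_mul]
    rfl
  rw [e1]
  exact ibc.basis_repr_comp_apply b (x * b j) i

lemma c_t {S : Scheme.{u}} (G : Grpd.GroupoidScheme S) :
    G.c ≫ G.t = pullback.fst G.s G.t ≫ G.t := by
  have h := hom_c G (𝟙 (pullback G.s G.t))
  rw [Category.id_comp] at h
  rw [h, cmp_t]
  simp only [Category.id_comp]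

/-- Let (U, R, s, t, c) be a groupoid scheme with U, R affine and s, t finite locally free. For f ∈
Γ(U), the norm along s♯ of t♯(f) is an R-invariant function. (Mathlib's norm is the determinant when
Γ(R) is free over Γ(U) via s♯ and 1 otherwise; the content is the free case, e.g. after localizing
U.) (A groupoid scheme carries U, R, s, t, c, e, i over S with the groupoid axioms on T-points;
'finite locally free' is finite, flat and locally of finite presentation; C ⊂ Γ(U) is the ring of
functions a with s♯(a) = t♯(a) and M = Spec C.) -/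
theorem result (S : Scheme.{u}) (G : Grpd.GroupoidScheme S) [IsAffine G.U] [IsAffine G.R] [IsFinite G.s] [Flat G.s] [LocallyOfFinitePresentation G.s] [IsFinite G.t] [Flat G.t] [LocallyOfFinitePresentation G.t] (f : Γ(G.U, ⊤)) : G.normST f ∈ G.invariants := by
  rw [Grpd.GroupoidScheme.invariants, RingHom.mem_eqLocus]
  by_cases hb : (letI := G.s.appTop.hom.toAlgebra;
      ∃ s : Finset Γ(G.R, ⊤), Nonempty (Module.Basis s Γ(G.U, ⊤) Γ(G.R, ⊤)))
  · have sq1 := isPushout_appTop_of_isPullback (IsPullback.of_hasPullback G.s G.t)
    have sq2 := isPushout_appTop_of_isPullback (Groth.Agent.S7457.result S G).2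
    have h1 := norm_of_isPushout sq1 hb (G.t.appTop.hom f)
    have h2 := norm_of_isPushout sq2 hb (G.t.appTop.hom f)
    have e : (pullback.fst G.s G.t).appTop.hom (G.t.appTop.hom f) =
        G.c.appTop.hom (G.t.appTop.hom f) := by
      have := congrArg (fun m => m.appTop.hom f) (c_t G)
      simp only [Scheme.Hom.comp_appTop, CommRingCat.hom_comp, RingHom.comp_apply] at this
      exact this.symm
    rw [e] at h1
    unfold Grpd.GroupoidScheme.normST
    rw [← h1, ← h2]
  · unfold Grpd.GroupoidScheme.normST
    letI := G.s.appTop.hom.toAlgebra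
    rw [Algebra.norm_eq_one_of_not_exists_basis _ hb, map_one, map_one]

end Groth.Agent.S1880
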