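import Groth.Statements.S1879
import Mathlib
import Groth.Agent.S7457
import Groth.Agent.S1880
import Groth.Agent.Lib.Helper28.FinProjCharpoly
-- import your own Groth.Agent.* helpers here

set_option autoImplicit false
universe u
open CategoryTheory CategoryTheory.Limits AlgebraicGeometry
open Grpd

namespace Groth.Agent.S1879

open TensorProduct Groth.Agent.S7457 Groth.Agent.Lib.helper28.FinProjCharpoly Polynomial

lemma cp_of_isPushout {R S T P : CommRingCat.{u}} {f : R ⟶ S} {g : R ⟶ T} {inl : S ⟶ P}
    {inr : T ⟶ P} (h : IsPushout f g inl inr) {n : ℕ} (D : DualBasis f.hom n) :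
    ∃ D' : DualBasis inr.hom n, ∀ x, D'.mat (inl.hom x) = (D.mat x).map g.hom := by
  algebraize [f.hom, g.hom, inl.hom, inr.hom, inl.hom.comp f.hom]
  have : IsScalarTower R T P := .of_algebraMap_eq' <| congr($(h.1.1).hom)
  have hp : Algebra.IsPushout R S T P := CommRingCat.isPushout_iff_isPushout.mp h
  have ibc : IsBaseChange T (IsScalarTower.toAlgHom R S P).toLinearMap := hp.symm.out
  exact DualBasis.exists_baseChange ibc D

lemma exists_dualBasis {X Y : Scheme.{u}} (f : X ⟶ Y) [IsAffine X] [IsAffine Y] [IsFinite f]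
    [Flat f] [LocallyOfFinitePresentation f] : ∃ n, Nonempty (DualBasis f.appTop.hom n) := by
  have hfin : RingHom.Finite f.appTop.hom :=
    ((HasAffineProperty.iff_of_isAffine (P := @IsFinite) (f := f)).mp inferInstance).2
  have hflat : RingHom.Flat f.appTop.hom :=
    (HasRingHomProperty.iff_of_isAffine (P := @Flat)).mp inferInstance
  have hfp : RingHom.FinitePresentation f.appTop.hom :=
    (HasRingHomProperty.iff_of_isAffine (P := @LocallyOfFinitePresentation)).mp inferInstance
  apply DualBasis.exists_of_projective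
  · exact hfin
  · letI := f.appTop.hom.toAlgebra
    haveI : Module.Finite Γ(Y, ⊤) Γ(X, ⊤) := hfin
    haveI : Module.Flat Γ(Y, ⊤) Γ(X, ⊤) := hflat
    haveI : Algebra.FinitePresentation Γ(Y, ⊤) Γ(X, ⊤) := hfp
    haveI := Module.FinitePresentation.of_finite_of_finitePresentation Γ(Y, ⊤) Γ(X, ⊤)
    exact Module.Flat.projective_of_finitePresentation

/-- the coefficients of the characteristic polynomial of `t♯ a` (along `s♯`) are invariant. -/
lemma cp_map_eq {S : Scheme.{u}} (G : Grpd.GroupoidScheme S) [IsAffine G.U] [IsAffine G.R] {n : ℕ}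
    (D : DualBasis G.s.appTop.hom n) (a : Γ(G.U, ⊤)) :
    (D.cp (G.t.appTop.hom a)).map G.s.appTop.hom = (D.cp (G.t.appTop.hom a)).map G.t.appTop.hom := by
  have sq1 := isPushout_appTop_of_isPullback (IsPullback.of_hasPullback G.s G.t)
  have sq2 := isPushout_appTop_of_isPullback (Groth.Agent.S7457.result S G).2
  obtain ⟨D₁, h₁⟩ := cp_of_isPushout sq1 D
  obtain ⟨D₂, h₂⟩ := cp_of_isPushout sq2 D
  have e : (pullback.fst G.s G.t).appTop.hom (G.t.appTop.hom a) =
      G.c.appTop.hom (G.t.appTop.hom a) := by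
    have := congrArg (fun m => m.appTop.hom a) (Groth.Agent.S1880.c_t G)
    simp only [Scheme.Hom.comp_appTop, CommRingCat.hom_comp, RingHom.comp_apply] at this
    exact this.symm
  have := D₂.cp_eq D₁ (G.c.appTop.hom (G.t.appTop.hom a))
  unfold DualBasis.cp at this ⊢
  rw [h₂, ← e, h₁, Matrix.charpoly_map, Matrix.charpoly_map] at this
  exact this

lemma e_s_app {S : Scheme.{u}} (G : Grpd.GroupoidScheme S) (a : Γ(G.U, ⊤)) :
    G.e.appTop.hom (G.s.appTop.hom a) = a := by
  have := congrArg (fun m => m.appTop.hom a) G.e_s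
  simpa using this

lemma e_t_app {S : Scheme.{u}} (G : Grpd.GroupoidScheme S) (a : Γ(G.U, ⊤)) :
    G.e.appTop.hom (G.t.appTop.hom a) = a := by
  have := congrArg (fun m => m.appTop.hom a) G.e_t
  simpa using this

lemma eval_cp {S : Scheme.{u}} (G : Grpd.GroupoidScheme S) {n : ℕ}
    (D : DualBasis G.s.appTop.hom n) (a : Γ(G.U, ⊤)) :
    (D.cp (G.t.appTop.hom a)).eval a = 0 := by
  have h := congrArg G.e.appTop.hom (D.eval₂_cp (G.t.appTop.hom a))
  rw [Polynomial.hom_eval₂, map_zero, e_t_app] at h
  have hid : G.e.appTop.hom.comp G.s.appTop.hom = RingHom.id _ := RingHom.ext (e_s_app G)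
  rw [hid, Polynomial.eval₂_id] at h
  exact h

/-- Let (U, R, s, t, c) be a groupoid scheme with U, R affine and s, t finite locally free. Then Γ(U) is
integral over the subring C of R-invariant functions. (A groupoid scheme carries U, R, s, t, c, e, i
over S with the groupoid axioms on T-points; 'finite locally free' is finite, flat and locally of
finite presentation; C ⊂ Γ(U) is the ring of functions a with s♯(a) = t♯(a) and M = Spec C.) -/
theorem result (S : Scheme.{u}) (G : Grpd.GroupoidScheme S) [IsAffine G.U] [IsAffine G.R] [IsFinite G.s] [Flat G.s] [LocallyOfFinitePresentation G.s] [IsFinite G.t] [Flat G.t] [LocallyOfFinitePresentation G.t] : Algebra.IsIntegral G.invariants Γ(G.U, ⊤) := by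
  obtain ⟨n, ⟨D⟩⟩ := exists_dualBasis G.s
  refine ⟨fun a => ?_⟩
  have hco : (↑(D.cp (G.t.appTop.hom a)).coeffs : Set Γ(G.U, ⊤)) ⊆ G.invariants := by
    intro c hc
    obtain ⟨k, -, rfl⟩ := Polynomial.mem_coeffs_iff.mp hc
    rw [SetLike.mem_coe, Grpd.GroupoidScheme.invariants, RingHom.mem_eqLocus]
    have := congrArg (fun q => q.coeff k) (cp_map_eq G D a)
    simpa [Polynomial.coeff_map] using this
  refine ⟨(D.cp (G.t.appTop.hom a)).toSubring G.invariants hco,
    (Polynomial.monic_toSubring _ _ _).mpr (D.cp_monic _), ?_⟩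
  rw [Algebra.algebraMap_ofSubring, ← Polynomial.eval_map, Polynomial.map_toSubring]
  exact eval_cp G D a

end Groth.Agent.S1879
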