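import Groth.Statements.S7456
import Mathlib
-- import your own Groth.Agent.* helpers here

set_option autoImplicit false
universe u
open CategoryTheory CategoryTheory.Limits AlgebraicGeometry
open Grpd

namespace Groth.Agent.S7456

/-- Let (U, R, s, t, c) be a groupoid scheme over S. For every subset W of U, the subset t(s^{-1}(W)) is
set-theoretically R-invariant: its preimages under s and t coincide. If moreover s and t are open
maps and quasi-compact, then U is covered by R-invariant quasi-compact open subsets. (The published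
statement also asserts that this set is open when W is open and s, t are open maps; this row omits
that clause.) (A groupoid scheme carries U, R, s, t, c, e, i over S with the groupoid axioms on
T-points; c is defined on the fibre product of s and t and sends a pair (a, b) with s(a) = t(b) to a
composed with b.) -/
theorem result (S : Scheme.{u}) (G : Grpd.GroupoidScheme S) : (∀ W : Set G.U, ⇑G.s ⁻¹' (⇑G.t '' (⇑G.s ⁻¹' W)) = ⇑G.t ⁻¹' (⇑G.t '' (⇑G.s ⁻¹' W))) ∧ (IsOpenMap ⇑G.s → IsOpenMap ⇑G.t → QuasiCompact G.s → QuasiCompact G.t → ∀ u : G.U, ∃ W : G.U.Opens, IsCompact (W : Set G.U) ∧ u ∈ W ∧ G.s ⁻¹ᵁ W = G.t ⁻¹ᵁ W) := by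
  have hid : pullback.lift (pullback.fst G.s G.t) (pullback.snd G.s G.t) pullback.condition
      = 𝟙 _ := by
    apply pullback.hom_ext <;> simp only [pullback.lift_fst, pullback.lift_snd, Category.id_comp]
  have hcs : G.c ≫ G.s = pullback.snd G.s G.t ≫ G.s := by
    have := G.comp_s (pullback.fst G.s G.t) (pullback.snd G.s G.t) pullback.condition
    rwa [hid, Category.id_comp] at this
  have hct : G.c ≫ G.t = pullback.fst G.s G.t ≫ G.t := by
    have := G.comp_t (pullback.fst G.s G.t) (pullback.snd G.s G.t) pullback.condition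
    rwa [hid, Category.id_comp] at this
  have hcs' : ∀ z : ↑(pullback G.s G.t), G.s (G.c z) = G.s (pullback.snd G.s G.t z) := fun z => by
    rw [← Scheme.Hom.comp_apply, hcs, Scheme.Hom.comp_apply]
  have hct' : ∀ z : ↑(pullback G.s G.t), G.t (G.c z) = G.t (pullback.fst G.s G.t z) := fun z => by
    rw [← Scheme.Hom.comp_apply, hct, Scheme.Hom.comp_apply]
  have his : ∀ r : G.R, G.s (G.i r) = G.t r := fun r => by
    rw [← Scheme.Hom.comp_apply, G.i_s]
  have hit : ∀ r : G.R, G.t (G.i r) = G.s r := fun r => by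
    rw [← Scheme.Hom.comp_apply, G.i_t]
  have part1 : ∀ W : Set G.U,
      ⇑G.s ⁻¹' (⇑G.t '' (⇑G.s ⁻¹' W)) = ⇑G.t ⁻¹' (⇑G.t '' (⇑G.s ⁻¹' W)) := by
    intro W
    ext r
    constructor
    · rintro ⟨r', hr', hr'2⟩
      obtain ⟨z, hz1, hz2⟩ :=
        Scheme.Pullback.exists_preimage_pullback (f := G.s) (g := G.t) r r' hr'2.symm
      refine ⟨G.c z, ?_, ?_⟩
      · show G.s (G.c z) ∈ W
        rw [hcs', hz2]; exact hr'
      · rw [hct', hz1]
    · rintro ⟨r', hr', hr'2⟩
      obtain ⟨z, hz1, hz2⟩ :=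
        Scheme.Pullback.exists_preimage_pullback (f := G.s) (g := G.t) (G.i r) r'
          (by rw [his, hr'2])
      refine ⟨G.c z, ?_, ?_⟩
      · show G.s (G.c z) ∈ W
        rw [hcs', hz2]; exact hr'
      · rw [hct', hz1, hit]
  refine ⟨part1, ?_⟩
  intro hs ht qs qt u
  obtain ⟨_, ⟨W₀, hW₀aff, rfl⟩, huW₀, -⟩ :=
    G.U.isBasis_affineOpens.exists_subset_of_mem_open (Set.mem_univ u) isOpen_univ
  have hW₀c : IsCompact (W₀ : Set G.U) := IsAffineOpen.isCompact hW₀aff
  refine ⟨⟨G.t '' (G.s ⁻¹' W₀), ht _ (W₀.2.preimage G.s.continuous)⟩, ?_, ?_, ?_⟩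
  · exact (G.s.isCompact_preimage hW₀c).image G.t.continuous
  · refine ⟨G.e u, ?_, ?_⟩
    · show G.s (G.e u) ∈ W₀
      rw [← Scheme.Hom.comp_apply, G.e_s]; exact huW₀
    · rw [← Scheme.Hom.comp_apply, G.e_t]; rfl
  · ext r
    exact Set.ext_iff.mp (part1 W₀) r

end Groth.Agent.S7456
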