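import Groth.Statements.S1881
import Mathlib
import Groth.Agent.S1879
import Groth.Agent.S7456
import Groth.Agent.Lib.Helper28.FinProjNorm
-- import your own Groth.Agent.* helpers here

set_option autoImplicit false
universe u
open CategoryTheory CategoryTheory.Limits AlgebraicGeometry
open Grpd

namespace Groth.Agent.S1881

open Groth.Agent.Lib.helper28.FinProjCharpoly TopologicalSpace

lemma mem_basicOpen_iff {X : Scheme.{u}} (a : Γ(X, ⊤)) (x : X) :
    x ∈ X.basicOpen a ↔ a ∉ (X.toSpecΓ x).asIdeal := by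
  rw [← Scheme.toSpecΓ_preimage_basicOpen]
  rfl

lemma toSpecΓ_comap {X Y : Scheme.{u}} (π : Y ⟶ X) (y : Y) :
    (X.toSpecΓ (π y)).asIdeal = Ideal.comap π.appTop.hom (Y.toSpecΓ y).asIdeal := by
  have := congrArg (fun m => m y) (Scheme.toSpecΓ_naturality π)
  simp only [Scheme.Hom.comp_apply] at this
  rw [this]
  rfl

/-- norm locus for finite locally free morphisms of affine schemes. -/
lemma exists_norm {X Y : Scheme.{u}} (π : Y ⟶ X) [IsAffine X] [IsAffine Y] [IsFinite π] [Flat π]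
    [LocallyOfFinitePresentation π] (g : Γ(Y, ⊤)) :
    ∃ N : Γ(X, ⊤), ∀ x : X, x ∈ X.basicOpen N ↔ ∀ y : Y, π y = x → y ∈ Y.basicOpen g := by
  obtain ⟨n, ⟨D⟩⟩ := Groth.Agent.S1879.exists_dualBasis π
  refine ⟨D.nm g, fun x => ?_⟩
  rw [mem_basicOpen_iff, D.nm_mem_iff g (X.toSpecΓ x).asIdeal]
  constructor
  · intro h y hy
    rw [mem_basicOpen_iff]
    intro hg
    exact h ⟨_, (Y.toSpecΓ y).isPrime, by rw [← toSpecΓ_comap, hy], hg⟩
  · rintro h ⟨𝔮, h𝔮, hc, hg⟩
    let y : Y := Y.isoSpec.inv ⟨𝔮, h𝔮⟩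
    have hy : Y.toSpecΓ y = ⟨𝔮, h𝔮⟩ := by
      change Y.isoSpec.hom (Y.isoSpec.inv _) = _
      rw [← Scheme.Hom.comp_apply, Iso.inv_hom_id]
      rfl
    have hx : π y = x := by
      have h1 : X.toSpecΓ (π y) = X.toSpecΓ x := by
        apply PrimeSpectrum.ext
        rw [toSpecΓ_comap, hy]
        exact hc
      have h2 := congrArg (fun z => X.isoSpec.inv z) h1
      change X.isoSpec.inv (X.isoSpec.hom _) = X.isoSpec.inv (X.isoSpec.hom _) at h2
      have key : ∀ z : X, X.isoSpec.inv (X.isoSpec.hom z) = z := fun z => by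
        rw [← Scheme.Hom.comp_apply, Iso.hom_inv_id]; rfl
      rw [key, key] at h2
      exact h2
    have := h y hx
    rw [mem_basicOpen_iff, hy] at this
    exact this hg

/-- On an affine scheme, a finite set of points disjoint from a closed set can be separated from it
by a global function (prime avoidance). -/
lemma exists_sep {X : Scheme.{u}} [IsAffine X] (K : Set X) (hK : IsClosed K) (F : Set X)
    (hF : F.Finite) (x₀ : X) (hd : Disjoint F K) :
    ∃ a : Γ(X, ⊤), (∀ x ∈ F, x ∈ X.basicOpen a) ∧ ∀ x ∈ K, x ∉ X.basicOpen a := by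
  classical
  let e := Scheme.homeoOfIso X.isoSpec
  have he : ∀ x, e x = X.toSpecΓ x := fun x => rfl
  let K' : Set (PrimeSpectrum Γ(X, ⊤)) := e '' K
  have hK' : IsClosed K' := e.isClosedMap K hK
  let I := PrimeSpectrum.vanishingIdeal K'
  have hI : PrimeSpectrum.zeroLocus (I : Set Γ(X, ⊤)) = K' := by
    rw [PrimeSpectrum.zeroLocus_vanishingIdeal_eq_closure, hK'.closure_eq]
  have hnot : ¬ ((I : Set Γ(X, ⊤)) ⊆ ⋃ x ∈ (↑hF.toFinset : Set X), ((X.toSpecΓ x).asIdeal : Set _)) := by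
    rw [Ideal.subset_union_prime x₀ x₀ (fun x _ _ _ => (X.toSpecΓ x).isPrime)]
    rintro ⟨x, hx, hle⟩
    have hxF : x ∈ F := hF.mem_toFinset.mp hx
    have : (X.toSpecΓ x : PrimeSpectrum Γ(X, ⊤)) ∈ K' := by
      rw [← hI]
      exact (PrimeSpectrum.mem_zeroLocus _ _).mpr hle
    obtain ⟨k, hk, hkx⟩ := this
    have : k = x := e.injective hkx
    exact Set.disjoint_left.mp hd hxF (this ▸ hk)
  rw [Set.not_subset] at hnot
  obtain ⟨a, haI, ha⟩ := hnot
  refine ⟨a, fun x hx => ?_, fun x hx => ?_⟩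
  · rw [mem_basicOpen_iff]
    intro hax
    apply ha
    simp only [Set.mem_iUnion]
    exact ⟨x, by simpa using hx, hax⟩
  · rw [mem_basicOpen_iff, not_not]
    have : (X.toSpecΓ x : PrimeSpectrum Γ(X, ⊤)) ∈ PrimeSpectrum.zeroLocus (I : Set Γ(X, ⊤)) := by
      rw [hI]; exact ⟨x, hx, rfl⟩
    exact (PrimeSpectrum.mem_zeroLocus _ _).mp this haI

/-- Let (U, R, s, t, c) be a groupoid scheme over S with s, t finite locally free, and u a point of U
for which some affine open of U contains t(s⁻¹{u}). Then u has an R-invariant affine open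
neighbourhood W (that is, s⁻¹W = t⁻¹W). (A groupoid scheme carries U, R, s, t, c, e, i over S with
the groupoid axioms on T-points; 'finite locally free' is finite, flat and locally of finite
presentation; C ⊂ Γ(U) is the ring of functions a with s♯(a) = t♯(a) and M = Spec C.) -/
theorem result (S : Scheme.{u}) (G : Grpd.GroupoidScheme S) [IsFinite G.s] [Flat G.s] [LocallyOfFinitePresentation G.s] [IsFinite G.t] [Flat G.t] [LocallyOfFinitePresentation G.t] (u : G.U) (V : G.U.Opens) (hV : IsAffineOpen V) (huV : ∀ r : G.R, G.s r = u → G.t r ∈ V) : ∃ W : G.U.Opens, IsAffineOpen W ∧ u ∈ W ∧ G.s ⁻¹ᵁ W = G.t ⁻¹ᵁ W := by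
  have hes : ∀ x : G.U, G.s (G.e x) = x := fun x => by
    rw [← Scheme.Hom.comp_apply, G.e_s]; rfl
  have het : ∀ x : G.U, G.t (G.e x) = x := fun x => by
    rw [← Scheme.Hom.comp_apply, G.e_t]; rfl
  have his : ∀ r : G.R, G.s (G.i r) = G.t r := fun r => by
    rw [← Scheme.Hom.comp_apply, G.i_s]
  have hit : ∀ r : G.R, G.t (G.i r) = G.s r := fun r => by
    rw [← Scheme.Hom.comp_apply, G.i_t]
  have hinv := (Groth.Agent.S7456.result S G).1
  have htcl : IsClosedMap G.t := G.t.isClosedMap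
  -- Step 1
  set Z : Set G.U := (V : Set G.U)ᶜ with hZ
  set T : Set G.U := ⇑G.t '' (⇑G.s ⁻¹' Z) with hT
  have hTcl : IsClosed T := htcl _ (V.isOpen.isClosed_compl.preimage G.s.continuous)
  have hTinv : ⇑G.s ⁻¹' T = ⇑G.t ⁻¹' T := hinv Z
  have hZT : Z ⊆ T := fun z hz => ⟨G.e z, by simpa [hes z] using hz, het z⟩
  have huT : u ∉ T := by
    rintro ⟨r, hr, hru⟩
    have := huV (G.i r) (by rw [his, hru])
    rw [hit] at this
    exact hr this
  set O : Set G.U := ⇑G.t '' (⇑G.s ⁻¹' {u}) with hO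
  have hOfin : O.Finite := (G.s.finite_preimage_singleton u).image _
  have hOV : O ⊆ V := by
    rintro _ ⟨r, hr, rfl⟩
    exact huV r hr
  have huO : u ∈ O := ⟨G.e u, hes u, het u⟩
  have hOT : Disjoint O T := by
    rw [Set.disjoint_left]
    rintro _ ⟨r, hr, rfl⟩ hrT
    have h1 : r ∈ ⇑G.s ⁻¹' T := by rw [hTinv]; exact hrT
    have h2 : G.s r = u := hr
    rw [Set.mem_preimage, h2] at h1
    exact huT h1
  -- Step 2
  haveI : IsAffine V.toScheme := hV
  obtain ⟨f', hf'O, hf'T⟩ := exists_sep (X := V.toScheme) (V.ι ⁻¹' T) (hTcl.preimage V.ι.continuous)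
    (V.ι ⁻¹' O) (hOfin.preimage V.ι.isOpenEmbedding.injective.injOn) ⟨u, hOV huO⟩
    (by
      rw [Set.disjoint_left]
      intro x hxO hxT
      exact Set.disjoint_left.mp hOT hxO hxT)
  -- Step 3
  set D' : V.toScheme.Opens := V.toScheme.basicOpen f' with hD'
  set D : G.U.Opens := V.ι ''ᵁ D' with hD
  have hDaff : IsAffineOpen D := ((isAffineOpen_top V.toScheme).basicOpen f').image_of_isOpenImmersion V.ι
  have hmemD : ∀ w : G.U, w ∈ D ↔ ∃ x : V.toScheme, x ∈ D' ∧ V.ι x = w := fun w => Iff.rfl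
  have hDV : D ≤ V := by
    rintro w ⟨x, -, rfl⟩
    exact x.2
  have hDT : ∀ w ∈ D, w ∉ T := by
    rintro w ⟨x, hx, rfl⟩ hT'
    exact hf'T x hT' hx
  have hOD : O ⊆ D := by
    intro o ho
    exact ⟨⟨o, hOV ho⟩, hf'O ⟨o, hOV ho⟩ ho, rfl⟩
  -- Step 4
  have hsD : ∀ r : G.R, G.s r ∈ D → G.t r ∈ V := by
    intro r hr
    by_contra hrV
    have h1 : G.t r ∈ T := hZT hrV
    have h2 : r ∈ ⇑G.s ⁻¹' T := by rw [hTinv]; exact h1
    exact hDT _ hr h2
  haveI : IsAffine D.toScheme := hDaff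
  haveI : IsAffine (G.s ⁻¹ᵁ D).toScheme := hDaff.preimage G.s
  haveI : Flat (G.s ∣_ D) :=
    IsZariskiLocalAtTarget.restrict (P := @Flat) (inferInstance : Flat G.s) D
  haveI : LocallyOfFinitePresentation (G.s ∣_ D) :=
    IsZariskiLocalAtTarget.restrict (P := @LocallyOfFinitePresentation)
      (inferInstance : LocallyOfFinitePresentation G.s) D
  have hτr : Set.range ⇑((G.s ⁻¹ᵁ D).ι ≫ G.t) ⊆ Set.range ⇑V.ι := by
    rintro _ ⟨y, rfl⟩
    rw [Scheme.Opens.range_ι]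
    exact hsD _ y.2
  obtain ⟨τ, hτ⟩ : ∃ τ : (G.s ⁻¹ᵁ D).toScheme ⟶ V.toScheme, τ ≫ V.ι = (G.s ⁻¹ᵁ D).ι ≫ G.t :=
    ⟨IsOpenImmersion.lift V.ι _ hτr, IsOpenImmersion.lift_fac _ _ _⟩
  have hτpt : ∀ y : (G.s ⁻¹ᵁ D).toScheme, V.ι (τ y) = G.t ((G.s ⁻¹ᵁ D).ι y) := fun y => by
    rw [← Scheme.Hom.comp_apply, hτ, Scheme.Hom.comp_apply]
  have hπpt : ∀ y : (G.s ⁻¹ᵁ D).toScheme, D.ι ((G.s ∣_ D) y) = G.s ((G.s ⁻¹ᵁ D).ι y) := fun y => by
    rw [← Scheme.Hom.comp_apply, morphismRestrict_ι, Scheme.Hom.comp_apply]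
  obtain ⟨N, hN⟩ := exists_norm (G.s ∣_ D) (τ.appTop.hom f')
  have hbo : ∀ y : (G.s ⁻¹ᵁ D).toScheme, y ∈ (G.s ⁻¹ᵁ D).toScheme.basicOpen (τ.appTop.hom f') ↔
      τ y ∈ D' := fun y => by
    rw [hD', ← Scheme.preimage_basicOpen_top]
    rfl
  set W' : D.toScheme.Opens := D.toScheme.basicOpen N with hW'
  refine ⟨D.ι ''ᵁ W', ((isAffineOpen_top D.toScheme).basicOpen N).image_of_isOpenImmersion D.ι, ?_, ?_⟩
  · -- u ∈ W
    refine ⟨⟨u, hOD huO⟩, ?_, rfl⟩
    rw [SetLike.mem_coe, hN]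
    intro y hy
    rw [hbo]
    have h1 : G.s ((G.s ⁻¹ᵁ D).ι y) = u := by
      rw [← hπpt, hy]
      rfl
    have h2 : G.t ((G.s ⁻¹ᵁ D).ι y) ∈ D := hOD ⟨_, h1, rfl⟩
    obtain ⟨x, hx, hxe⟩ := h2
    rw [← hτpt] at hxe
    have := V.ι.isOpenEmbedding.injective hxe
    rwa [← this]
  · -- invariance
    have hchar : ∀ w : G.U, w ∈ D.ι ''ᵁ W' ↔ ∀ r : G.R, G.s r = w → G.t r ∈ D := by
      intro w
      constructor
      · rintro ⟨x, hx, rfl⟩ r hr
        rw [SetLike.mem_coe, hN] at hx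
        have hrD : r ∈ G.s ⁻¹ᵁ D := by
          change G.s r ∈ D
          rw [hr]; exact x.2
        have h1 : (G.s ∣_ D) ⟨r, hrD⟩ = x := by
          apply D.ι.isOpenEmbedding.injective
          rw [hπpt]
          exact hr
        have h2 := (hbo _).mp (hx _ h1)
        exact ⟨_, h2, hτpt _⟩
      · intro h
        have hwD : w ∈ D := by
          have := h (G.e w) (hes w)
          rwa [het] at this
        refine ⟨⟨w, hwD⟩, ?_, rfl⟩
        rw [SetLike.mem_coe, hN]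
        intro y hy
        rw [hbo]
        have h1 : G.s ((G.s ⁻¹ᵁ D).ι y) = w := by
          rw [← hπpt, hy]
          rfl
        obtain ⟨x, hx, hxe⟩ := h _ h1
        rw [← hτpt] at hxe
        have := V.ι.isOpenEmbedding.injective hxe
        rwa [← this]
    set T' : Set G.U := ⇑G.t '' (⇑G.s ⁻¹' (D : Set G.U)ᶜ) with hT'
    have hT'inv : ⇑G.s ⁻¹' T' = ⇑G.t ⁻¹' T' := hinv _
    have hchar' : ∀ w : G.U, w ∈ D.ι ''ᵁ W' ↔ w ∉ T' := by
      intro w
      rw [hchar]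
      constructor
      · rintro h ⟨r, hr, rfl⟩
        have := h (G.i r) (his r)
        rw [hit] at this
        exact hr this
      · intro h r hr
        by_contra hrD
        apply h
        refine ⟨G.i r, ?_, by rw [hit, hr]⟩
        change G.s (G.i r) ∈ (D : Set G.U)ᶜ
        rw [his]
        exact hrD
    ext r
    change G.s r ∈ D.ι ''ᵁ W' ↔ G.t r ∈ D.ι ''ᵁ W'
    rw [hchar', hchar']
    have : G.s r ∈ T' ↔ G.t r ∈ T' := by
      have := Set.ext_iff.mp hT'inv r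
      exact this
    rw [this]

end Groth.Agent.S1881
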