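import Groth.Statements.S1878
import Mathlib
import Groth.Agent.S7457
import Groth.Agent.S1879
import Groth.Agent.S1880
import Groth.Agent.S1881
import Groth.Agent.Lib.Helper28.FinProjInv
-- import your own Groth.Agent.* helpers here

set_option autoImplicit false
universe u
open CategoryTheory CategoryTheory.Limits AlgebraicGeometry
open Grpd

namespace Groth.Agent.S1878


open Groth.Agent.Lib.helper28.FinProjCharpoly Groth.Agent.S7457

lemma invData {S : Scheme.{u}} (G : Grpd.GroupoidScheme S) [IsAffine G.U] [IsAffine G.R] {n : ℕ}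
    (D : DualBasis G.s.appTop.hom n) : InvData G.s.appTop.hom G.t.appTop.hom D := by
  have sq1 := isPushout_appTop_of_isPullback (IsPullback.of_hasPullback G.s G.t)
  have sq2 := isPushout_appTop_of_isPullback (Groth.Agent.S7457.result S G).2
  obtain ⟨D₁, h₁⟩ := Groth.Agent.S1879.cp_of_isPushout sq1 D
  obtain ⟨D₂, h₂⟩ := Groth.Agent.S1879.cp_of_isPushout sq2 D
  refine ⟨Γ(pullback G.s G.t, ⊤), inferInstance, (pullback.snd G.s G.t).appTop.hom,
    (pullback.fst G.s G.t).appTop.hom, G.c.appTop.hom, D₁, D₂, h₁, h₂, ?_⟩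
  intro a
  have := congrArg (fun m => m.appTop.hom a) (Groth.Agent.S1880.c_t G)
  simp only [Scheme.Hom.comp_appTop, CommRingCat.hom_comp, RingHom.comp_apply] at this
  exact this.symm

lemma isIntegral_subtype {S : Scheme.{u}} (G : Grpd.GroupoidScheme S) [IsAffine G.U] [IsAffine G.R]
    [IsFinite G.s] [Flat G.s] [LocallyOfFinitePresentation G.s] [IsFinite G.t] [Flat G.t]
    [LocallyOfFinitePresentation G.t] :
    (RingHom.eqLocus G.s.appTop.hom G.t.appTop.hom).subtype.IsIntegral := by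
  have := Groth.Agent.S1879.result S G
  intro x
  exact this.isIntegral x

lemma toSpecΓ_surj (X : Scheme.{u}) [IsAffine X] (p : PrimeSpectrum Γ(X, ⊤)) :
    ∃ y : X, X.toSpecΓ y = p := by
  refine ⟨X.isoSpec.inv p, ?_⟩
  change X.isoSpec.hom (X.isoSpec.inv _) = _
  rw [← Scheme.Hom.comp_apply, Iso.inv_hom_id]
  rfl

lemma toSpecΓ_inj {X : Scheme.{u}} [IsAffine X] {x y : X} (h : X.toSpecΓ x = X.toSpecΓ y) :
    x = y := by
  have h2 := congrArg (fun z => X.isoSpec.inv z) h
  change X.isoSpec.inv (X.isoSpec.hom _) = X.isoSpec.inv (X.isoSpec.hom _) at h2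
  have key : ∀ z : X, X.isoSpec.inv (X.isoSpec.hom z) = z := fun z => by
    rw [← Scheme.Hom.comp_apply, Iso.hom_inv_id]; rfl
  rw [key, key] at h2
  exact h2

lemma toQuot_asIdeal {S : Scheme.{u}} (G : Grpd.GroupoidScheme S) (u : G.U) :
    (G.toQuot u : PrimeSpectrum G.invariants).asIdeal =
      Ideal.comap (RingHom.eqLocus G.s.appTop.hom G.t.appTop.hom).subtype
        (G.U.toSpecΓ u).asIdeal := rfl

lemma t_toQuot {S : Scheme.{u}} (G : Grpd.GroupoidScheme S) :
    G.t ≫ G.toQuot = G.s ≫ G.toQuot := by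
  unfold Grpd.GroupoidScheme.toQuot
  rw [← Category.assoc, ← Category.assoc, Scheme.toSpecΓ_naturality, Scheme.toSpecΓ_naturality,
    Category.assoc, Category.assoc, ← Spec.map_comp, ← Spec.map_comp]
  congr 2
  ext a
  exact a.2.symm

lemma isoSpec_inv_toQuot {S : Scheme.{u}} (G : Grpd.GroupoidScheme S) [IsAffine G.U] :
    G.U.isoSpec.inv ≫ G.toQuot = Spec.map (CommRingCat.ofHom G.invariants.subtype) := by
  unfold Grpd.GroupoidScheme.toQuot
  rw [← Category.assoc]
  have : G.U.isoSpec.inv ≫ G.U.toSpecΓ = 𝟙 _ := G.U.isoSpec.inv_hom_id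
  rw [this, Category.id_comp]

lemma isoSpec_inv_comp {X Y : Scheme.{u}} [IsAffine X] [IsAffine Y] (f : X ⟶ Y) :
    X.isoSpec.inv ≫ f = Spec.map f.appTop ≫ Y.isoSpec.inv := by
  rw [Iso.inv_comp_eq, ← Category.assoc, Iso.eq_comp_inv]
  exact Scheme.toSpecΓ_naturality f

/-- Let (U, R, s, t, c) be a groupoid scheme over S with U, R affine and s, t finite locally free, and M
= Spec C. (1) U → M is surjective and two points of U have the same image iff some point of R has
them as target and source. (2) For every algebraically closed field k, M(k) = U(k)/R(k): every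
k-point of M lifts to U, and two k-points of U agree in M iff they are the target and source of a
k-point of R. (A groupoid scheme carries U, R, s, t, c, e, i over S with the groupoid axioms on
T-points; 'finite locally free' is finite, flat and locally of finite presentation; C ⊂ Γ(U) is the
ring of functions a with s♯(a) = t♯(a) and M = Spec C.) -/
theorem result (S : Scheme.{u}) (G : Grpd.GroupoidScheme S) [IsAffine G.U] [IsAffine G.R] [IsFinite G.s] [Flat G.s] [LocallyOfFinitePresentation G.s] [IsFinite G.t] [Flat G.t] [LocallyOfFinitePresentation G.t] : (Function.Surjective G.toQuot ∧ ∀ u₀ u₁ : G.U, G.toQuot u₀ = G.toQuot u₁ ↔ ∃ r : G.R, G.t r = u₀ ∧ G.s r = u₁) ∧ ∀ (k : Type u) [Field k] [IsAlgClosed k], (∀ m : Spec (CommRingCat.of k) ⟶ Spec (CommRingCat.of G.invariants), ∃ x : Spec (CommRingCat.of k) ⟶ G.U, x ≫ G.toQuot = m) ∧ ∀ x₀ x₁ : Spec (CommRingCat.of k) ⟶ G.U, x₀ ≫ G.toQuot = x₁ ≫ G.toQuot ↔ ∃ r : Spec (CommRingCat.of k) ⟶ G.R, r ≫ G.t = x₀ ∧ r ≫ G.s = x₁ :=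 by
  obtain ⟨n, ⟨D⟩⟩ := Groth.Agent.S1879.exists_dualBasis G.s
  have H := invData G D
  have hint := isIntegral_subtype G
  have hes := Groth.Agent.S1879.e_s_app G
  have het := Groth.Agent.S1879.e_t_app G
  refine ⟨⟨?_, ?_⟩, ?_⟩
  · -- surjectivity
    intro m
    obtain ⟨𝔠, rfl⟩ : ∃ 𝔠 : PrimeSpectrum G.invariants, 𝔠 = m := ⟨m, rfl⟩
    obtain ⟨𝔭, h𝔭, hco⟩ := @InvData.exists_prime_over Γ(G.U, ⊤) Γ(G.R, ⊤) _ _ G.s.appTop.hom
      G.t.appTop.hom hint 𝔠.asIdeal 𝔠.isPrime
    obtain ⟨u, hu⟩ := toSpecΓ_surj G.U ⟨𝔭, h𝔭⟩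
    refine ⟨u, ?_⟩
    apply PrimeSpectrum.ext
    rw [toQuot_asIdeal, hu]
    exact hco
  · intro u₀ u₁
    constructor
    · intro h
      have h' := congrArg PrimeSpectrum.asIdeal h
      rw [toQuot_asIdeal, toQuot_asIdeal] at h'
      haveI := (G.U.toSpecΓ u₀).isPrime
      haveI := (G.U.toSpecΓ u₁).isPrime
      obtain ⟨𝔮, h𝔮, ht, hs⟩ := InvData.exists_prime_orbit H G.e.appTop.hom hes het hint
        (G.U.toSpecΓ u₀).asIdeal (G.U.toSpecΓ u₁).asIdeal h'
      obtain ⟨r, hr⟩ := toSpecΓ_surj G.R ⟨𝔮, h𝔮⟩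
      refine ⟨r, ?_, ?_⟩
      · apply toSpecΓ_inj
        apply PrimeSpectrum.ext
        rw [Groth.Agent.S1881.toSpecΓ_comap, hr]
        exact ht
      · apply toSpecΓ_inj
        apply PrimeSpectrum.ext
        rw [Groth.Agent.S1881.toSpecΓ_comap, hr]
        exact hs
    · rintro ⟨r, rfl, rfl⟩
      have := congrArg (fun m => m r) (t_toQuot G)
      simpa using this
  · intro k _ _
    constructor
    · intro m
      obtain ⟨ξ, hξ⟩ := InvData.exists_extend (s := G.s.appTop.hom) (t := G.t.appTop.hom)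
        hint (Spec.preimage m).hom
      refine ⟨Spec.map (CommRingCat.ofHom ξ) ≫ G.U.isoSpec.inv, ?_⟩
      rw [Category.assoc, isoSpec_inv_toQuot, ← Spec.map_comp]
      conv_rhs => rw [← Spec.map_preimage m]
      congr 1
      ext a
      exact congrArg (fun f => f a) hξ
    · intro x₀ x₁
      constructor
      · intro h
        let ξ₀ : Γ(G.U, ⊤) →+* k := (Spec.preimage (x₀ ≫ G.U.isoSpec.hom)).hom
        let ξ₁ : Γ(G.U, ⊤) →+* k := (Spec.preimage (x₁ ≫ G.U.isoSpec.hom)).hom
        have hx₀ : x₀ = Spec.map (CommRingCat.ofHom ξ₀) ≫ G.U.isoSpec.inv := by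
          rw [Iso.eq_comp_inv]
          exact (Spec.map_preimage _).symm
        have hx₁ : x₁ = Spec.map (CommRingCat.ofHom ξ₁) ≫ G.U.isoSpec.inv := by
          rw [Iso.eq_comp_inv]
          exact (Spec.map_preimage _).symm
        have hagree : ∀ a, G.s.appTop.hom a = G.t.appTop.hom a → ξ₀ a = ξ₁ a := by
          intro a ha
          rw [hx₀, hx₁, Category.assoc, Category.assoc, isoSpec_inv_toQuot, ← Spec.map_comp,
            ← Spec.map_comp] at h
          have h2 := Spec.map_injective h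
          have := congrArg (fun f => f.hom (⟨a, ha⟩ : G.invariants)) h2
          exact this
        obtain ⟨ρ, hρt, hρs⟩ := InvData.exists_hom H G.e.appTop.hom hes het ξ₀ ξ₁ hagree
        refine ⟨Spec.map (CommRingCat.ofHom ρ) ≫ G.R.isoSpec.inv, ?_, ?_⟩
        · rw [Category.assoc, isoSpec_inv_comp, ← Category.assoc, ← Spec.map_comp, hx₀]
          congr 2
          ext a
          exact congrArg (fun f => f a) hρt
        · rw [Category.assoc, isoSpec_inv_comp, ← Category.assoc, ← Spec.map_comp, hx₁]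
          congr 2
          ext a
          exact congrArg (fun f => f a) hρs
      · rintro ⟨r, rfl, rfl⟩
        rw [Category.assoc, Category.assoc, t_toQuot]

end Groth.Agent.S1878
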