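import Groth.Statements.S5213
import Mathlib

set_option autoImplicit false
universe u
open GrpQ

namespace Groth.Agent.S5213

open IsLocalRing

attribute [local instance] Ideal.Quotient.field

section
variable {B A M : Type u} [CommRing B] [CommRing A] [Algebra B A]
  [AddCommGroup M] [Module A M] [Module B M] [IsScalarTower B A M]

/-- coordinates modulo a maximal ideal -/
noncomputable def rho {n : ℕ} (e : Module.Basis (Fin n) A M) (𝔪 : Ideal A) :
    M →ₗ[A] (Fin n → A ⧸ 𝔪) :=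
  (LinearMap.pi fun i => (Ideal.Quotient.mkₐ A 𝔪).toLinearMap ∘ₗ LinearMap.proj i) ∘ₗ
    e.equivFun.toLinearMap

theorem rho_apply {n : ℕ} (e : Module.Basis (Fin n) A M) (𝔪 : Ideal A) (v : M) (i : Fin n) :
    rho e 𝔪 v i = Ideal.Quotient.mk 𝔪 (e.repr v i) := rfl

theorem rho_surjective {n : ℕ} (e : Module.Basis (Fin n) A M) (𝔪 : Ideal A) :
    Function.Surjective (rho e 𝔪) := by
  intro w
  choose c hc using fun i => Ideal.Quotient.mk_surjective (w i)
  refine ⟨e.equivFun.symm c, ?_⟩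
  ext i
  rw [rho_apply, ← hc i]
  congr 1
  exact congrFun (e.equivFun.apply_symm_apply c) i


theorem rho_smul_B {n : ℕ} (e : Module.Basis (Fin n) A M) (𝔪 : Ideal A) (β : B) (v : M) :
    rho e 𝔪 (β • v) = (Ideal.Quotient.mk 𝔪 (algebraMap B A β)) • rho e 𝔪 v := by
  rw [← algebraMap_smul A β v, map_smul]
  ext i
  simp [Algebra.smul_def]
end

section main
variable {B A M : Type u} [CommRing B] [CommRing A] [Algebra B A]
  [AddCommGroup M] [Module A M] [Module B M] [IsScalarTower B A M]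
  [IsLocalRing B] [Finite (MaximalSpectrum A)]

theorem rho_eq_zero_of_mem (hBA : (maximalIdeal B).map (algebraMap B A) ≤ (⊥ : Ideal A).jacobson)
    {n : ℕ} (e : Module.Basis (Fin n) A M) (N : Submodule B M) (𝔪 : MaximalSpectrum A)
    (y : N) (hy : y ∈ (maximalIdeal B • ⊤ : Submodule B N)) :
    rho e 𝔪.asIdeal (y : M) = 0 := by
  refine Submodule.smul_induction_on (p := fun y : N => rho e 𝔪.asIdeal (y : M) = 0) hy ?_ ?_
  · intro β hβ y' _
    rw [Submodule.coe_smul, rho_smul_B]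
    have h1 : algebraMap B A β ∈ 𝔪.asIdeal := by
      have h2 : algebraMap B A β ∈ (⊥ : Ideal A).jacobson := hBA (Ideal.mem_map_of_mem _ hβ)
      rw [Ideal.jacobson, Ideal.mem_sInf] at h2
      exact h2 ⟨bot_le, 𝔪.isMaximal⟩
    rw [Ideal.Quotient.eq_zero_iff_mem.mpr h1, zero_smul]
  · intro y₁ y₂ h₁ h₂
    rw [Submodule.coe_add, map_add, h₁, h₂, add_zero]

theorem span_rho_eq_top {n : ℕ} (e : Module.Basis (Fin n) A M) (N : Submodule B M)
    (hN : Submodule.span A (N : Set M) = ⊤) (𝔪 : Ideal A) :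
    Submodule.span (A ⧸ 𝔪) ((rho e 𝔪) '' (N : Set M)) = ⊤ := by
  rw [eq_top_iff]
  intro w _
  obtain ⟨v, rfl⟩ := rho_surjective e 𝔪 w
  have hv : v ∈ Submodule.span A (N : Set M) := by rw [hN]; exact Submodule.mem_top
  induction hv using Submodule.span_induction with
  | mem v hv => exact Submodule.subset_span ⟨v, hv, rfl⟩
  | zero => rw [map_zero]; exact zero_mem _
  | add v₁ v₂ _ _ h₁ h₂ => rw [map_add]; exact add_mem (h₁ trivial) (h₂ trivial)
  | smul a v _ h =>
    rw [map_smul]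
    have : a • rho e 𝔪 v = (Ideal.Quotient.mk 𝔪 a) • rho e 𝔪 v := by
      ext i; simp [Algebra.smul_def]
    rw [this]
    exact Submodule.smul_mem _ _ (h trivial)

end main

section step
variable {B A M : Type u} [CommRing B] [CommRing A] [Algebra B A]
  [AddCommGroup M] [Module A M] [Module B M] [IsScalarTower B A M]
  [IsLocalRing B] [Finite (MaximalSpectrum A)]

/-- the proper subspace attached to a maximal ideal -/
noncomputable def pSub {n : ℕ} (e : Module.Basis (Fin n) A M) (N : Submodule B M) (𝔪 : Ideal A)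
    (Sp : Submodule (A ⧸ 𝔪) (Fin n → A ⧸ 𝔪)) :
    Submodule (B ⧸ maximalIdeal B) (N ⧸ (maximalIdeal B • ⊤ : Submodule B N)) where
  carrier := {v | ∃ y : N, Submodule.Quotient.mk y = v ∧ rho e 𝔪 (y : M) ∈ Sp}
  zero_mem' := ⟨0, rfl, by simp⟩
  add_mem' := by
    rintro _ _ ⟨y₁, rfl, h₁⟩ ⟨y₂, rfl, h₂⟩
    exact ⟨y₁ + y₂, rfl, by rw [Submodule.coe_add, map_add]; exact add_mem h₁ h₂⟩
  smul_mem' := by
    rintro c _ ⟨y, rfl, h⟩
    obtain ⟨β, rfl⟩ := Ideal.Quotient.mk_surjective c
    refine ⟨β • y, rfl, ?_⟩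
    rw [Submodule.coe_smul, rho_smul_B]
    exact Submodule.smul_mem _ _ h

theorem step [Infinite (B ⧸ maximalIdeal B)]
    (hBA : (maximalIdeal B).map (algebraMap B A) ≤ (⊥ : Ideal A).jacobson)
    {n : ℕ} (e : Module.Basis (Fin n) A M) (N : Submodule B M)
    (hN : Submodule.span A (N : Set M) = ⊤)
    (j : ℕ) (hj : j < n) (x : Fin j → M) :
    ∃ y ∈ N, ∀ 𝔪 : MaximalSpectrum A, rho e 𝔪.asIdeal y ∉
      Submodule.span (A ⧸ 𝔪.asIdeal) (Set.range fun i => rho e 𝔪.asIdeal (x i)) := by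
  have hne : ∀ 𝔪 : MaximalSpectrum A,
      pSub e N 𝔪.asIdeal
        (Submodule.span (A ⧸ 𝔪.asIdeal) (Set.range fun i => rho e 𝔪.asIdeal (x i))) ≠ ⊤ := by
    intro 𝔪 htop
    set Sp := Submodule.span (A ⧸ 𝔪.asIdeal) (Set.range fun i => rho e 𝔪.asIdeal (x i)) with hSp
    have h1 : ∀ y ∈ N, rho e 𝔪.asIdeal y ∈ Sp := by
      intro y hy
      have h2 : (Submodule.Quotient.mk (⟨y, hy⟩ : N) :
          N ⧸ (maximalIdeal B • ⊤ : Submodule B N)) ∈ pSub e N 𝔪.asIdeal Sp := by
        rw [htop]; exact Submodule.mem_top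
      obtain ⟨y', hy', hmem⟩ := h2
      have h3 : y' - ⟨y, hy⟩ ∈ (maximalIdeal B • ⊤ : Submodule B N) :=
        (Submodule.Quotient.eq _).mp hy'
      have h4 := rho_eq_zero_of_mem hBA e N 𝔪 _ h3
      rw [Submodule.coe_sub, map_sub, sub_eq_zero] at h4
      rw [← h4]
      exact hmem
    have h5 : Sp = ⊤ := by
      rw [eq_top_iff, ← span_rho_eq_top e N hN 𝔪.asIdeal, Submodule.span_le]
      rintro _ ⟨y, hy, rfl⟩
      exact h1 y hy
    have h6 : Module.finrank (A ⧸ 𝔪.asIdeal) Sp ≤ j := by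
      have := finrank_range_le_card (R := A ⧸ 𝔪.asIdeal) (fun i => rho e 𝔪.asIdeal (x i))
      rw [Fintype.card_fin] at this
      exact this
    rw [h5, finrank_top, Module.finrank_fin_fun] at h6
    omega
  obtain ⟨v, hv⟩ := Submodule.exists_forall_notMem_of_forall_ne_top _ hne
  obtain ⟨y, rfl⟩ := Submodule.Quotient.mk_surjective _ v
  refine ⟨y, y.2, fun 𝔪 hmem => hv 𝔪 ⟨y, rfl, hmem⟩⟩

end step

section final
variable {B A M : Type u} [CommRing B] [CommRing A] [Algebra B A]
  [AddCommGroup M] [Module A M] [Module B M] [IsScalarTower B A M]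
  [IsLocalRing B] [Finite (MaximalSpectrum A)]

theorem exists_family [Infinite (B ⧸ maximalIdeal B)]
    (hBA : (maximalIdeal B).map (algebraMap B A) ≤ (⊥ : Ideal A).jacobson)
    {n : ℕ} (e : Module.Basis (Fin n) A M) (N : Submodule B M)
    (hN : Submodule.span A (N : Set M) = ⊤) :
    ∀ j : ℕ, j ≤ n → ∃ x : Fin j → M, (∀ i, x i ∈ N) ∧ ∀ 𝔪 : MaximalSpectrum A,
      LinearIndependent (A ⧸ 𝔪.asIdeal) (fun i => rho e 𝔪.asIdeal (x i)) := by
  intro j
  induction j with
  | zero =>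
    intro _
    exact ⟨fun i => i.elim0, fun i => i.elim0, fun 𝔪 => linearIndependent_empty_type⟩
  | succ j ih =>
    intro hj
    obtain ⟨x, hxN, hli⟩ := ih (by omega)
    obtain ⟨y, hyN, hy⟩ := step hBA e N hN j (by omega) x
    refine ⟨Fin.snoc (α := fun _ => M) x y, ?_, fun 𝔪 => ?_⟩
    · intro i
      induction i using Fin.lastCases with
      | last => rw [Fin.snoc_last]; exact hyN
      | cast i => rw [Fin.snoc_castSucc]; exact hxN i
    · have h1 : (fun i => rho e 𝔪.asIdeal (Fin.snoc (α := fun _ => M) x y i)) =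
          Fin.snoc (α := fun _ => (Fin n → A ⧸ 𝔪.asIdeal)) (fun i => rho e 𝔪.asIdeal (x i))
            (rho e 𝔪.asIdeal y) := by
        funext i
        induction i using Fin.lastCases with
        | last => rw [Fin.snoc_last, Fin.snoc_last]
        | cast i => rw [Fin.snoc_castSucc, Fin.snoc_castSucc]
      rw [h1]
      exact linearIndependent_finSnoc.mpr ⟨hli 𝔪, hy 𝔪⟩

theorem isUnit_det_of_li {n : ℕ} (e : Module.Basis (Fin n) A M) (x : Fin n → M)
    (hli : ∀ 𝔪 : MaximalSpectrum A,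
      LinearIndependent (A ⧸ 𝔪.asIdeal) (fun i => rho e 𝔪.asIdeal (x i))) :
    IsUnit (e.det x) := by
  by_contra hnu
  obtain ⟨I, hI, hmem⟩ := exists_max_ideal_of_mem_nonunits hnu
  let 𝔪 : MaximalSpectrum A := ⟨I, hI⟩
  have hcard : Fintype.card (Fin n) = Module.finrank (A ⧸ 𝔪.asIdeal) (Fin n → A ⧸ 𝔪.asIdeal) := by
    rw [Module.finrank_fin_fun, Fintype.card_fin]
  have hspan := (hli 𝔪).span_eq_top_of_card_eq_finrank' hcard
  have h1 : IsUnit ((Pi.basisFun (A ⧸ 𝔪.asIdeal) (Fin n)).det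
      (fun i => rho e 𝔪.asIdeal (x i))) :=
    (Pi.basisFun (A ⧸ 𝔪.asIdeal) (Fin n)).is_basis_iff_det.mp ⟨hli 𝔪, hspan⟩
  have h2 : (Pi.basisFun (A ⧸ 𝔪.asIdeal) (Fin n)).det (fun i => rho e 𝔪.asIdeal (x i)) =
      Ideal.Quotient.mk 𝔪.asIdeal (e.det x) := by
    rw [Module.Basis.det_apply, Module.Basis.det_apply, RingHom.map_det]
    congr 1
  rw [h2] at h1
  exact h1.ne_zero (Ideal.Quotient.eq_zero_iff_mem.mpr hmem)

end final


/-- Let `B` be a local ring with infinite residue field, `A` a semi-local ring, `B → A` a ring map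
carrying the maximal ideal of `B` into the Jacobson radical of `A`, `M` a finite free `A`-module and
`N` a `B`-submodule of `M` generating `M` as an `A`-module. Then `N` contains a basis of `M` over
`A`. -/
theorem result {B A M : Type u} [CommRing B] [CommRing A]
    [IsLocalRing B] [Infinite (IsLocalRing.ResidueField B)] [Algebra B A]
    [Finite (MaximalSpectrum A)]
    (hBA : (IsLocalRing.maximalIdeal B).map (algebraMap B A) ≤ (⊥ : Ideal A).jacobson)
    [AddCommGroup M] [Module A M] [Module B M] [IsScalarTower B A M]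
    [Module.Free A M] [Module.Finite A M]
    (N : Submodule B M) (hN : Submodule.span A (N : Set M) = ⊤) :
    ∃ b : Module.Basis (Fin (Module.finrank A M)) A M, ∀ i, b i ∈ N := by
  classical
  have hinf : Infinite (B ⧸ maximalIdeal B) := ‹Infinite (IsLocalRing.ResidueField B)›
  rcases subsingleton_or_nontrivial A with hA | hA
  · have hM : Subsingleton M := Module.subsingleton A M
    refine ⟨Module.Basis.ofRepr (LinearEquiv.ofSubsingleton M _), fun i => ?_⟩
    have h0 : ∀ v : M, v ∈ N := fun v => by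
      rw [Subsingleton.elim v 0]
      exact zero_mem _
    exact h0 _
  let e : Module.Basis (Fin (Module.finrank A M)) A M := Module.finBasis A M
  obtain ⟨x, hxN, hli⟩ := exists_family hBA e N hN (Module.finrank A M) le_rfl
  have hu := isUnit_det_of_li e x hli
  obtain ⟨h1, h2⟩ := e.is_basis_iff_det.mpr hu
  refine ⟨Module.Basis.mk h1 h2.ge, fun i => ?_⟩
  rw [Module.Basis.mk_apply]
  exact hxN i

end Groth.Agent.S5213
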