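import Groth.Statements.S7486
import Mathlib
import Groth.Agent.S7457
-- import your own Groth.Agent.* helpers here

set_option autoImplicit false
universe u
open CategoryTheory CategoryTheory.Limits AlgebraicGeometry
open Grpd

namespace Groth.Agent.S7486

open TensorProduct Groth.Agent.S7457

lemma coeff_zero_of_isPushout {R S T P : CommRingCat.{u}} {f : R ⟶ S} {g : R ⟶ T} {inl : S ⟶ P}
    {inr : T ⟶ P} (h : IsPushout f g inl inr) {I : Type u}
    (b : letI := f.hom.toAlgebra; Module.Basis I R S)
    (β : I →₀ T) (hβ : (β.sum fun i t => inr.hom t * inl.hom (b i)) = 0) : β = 0 := by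
  algebraize [f.hom, g.hom, inl.hom, inr.hom, inl.hom.comp f.hom]
  have : IsScalarTower R T P := .of_algebraMap_eq' <| congr($(h.1.1).hom)
  have hp : Algebra.IsPushout R S T P := CommRingCat.isPushout_iff_isPushout.mp h
  have ibc : IsBaseChange T (IsScalarTower.toAlgHom R S P).toLinearMap := hp.symm.out
  have h1 : Finsupp.linearCombination T (ibc.basis b) β = 0 := by
    rw [Finsupp.linearCombination_apply]
    rw [← hβ]
    refine Finsupp.sum_congr fun i _ => ?_
    rw [IsBaseChange.basis_apply, Algebra.smul_def]
    rfl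
  have h2 := (ibc.basis b).repr_linearCombination β
  rw [h1, map_zero] at h2
  exact h2.symm


section
variable {A B Q : Type u} [CommRing A] [CommRing B] [CommRing Q] (s t : A →+* B)
  (p₀ p₁ c : B →+* Q)

/-- the key step: coordinates of `t a` are invariant -/
lemma key_step (r1 : ∀ a, c (t a) = p₀ (t a)) (r2 : ∀ a, c (s a) = p₁ (s a))
    (r3 : ∀ a, p₀ (s a) = p₁ (t a)) {I : Type u}
    (b : letI := s.toAlgebra; Module.Basis I A B) (x : I → A) (hb : ∀ i, b i = t (x i))
    (hfree : ∀ β : I →₀ B, (β.sum fun i y => p₁ y * p₀ (b i)) = 0 → β = 0)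
    (a : A) (i : I) :
    s ((letI := s.toAlgebra; b.repr (t a)) i) = t ((letI := s.toAlgebra; b.repr (t a)) i) := by
  letI := s.toAlgebra
  set r : I →₀ A := b.repr (t a) with hr
  have hta : t a = r.sum fun i y => s y * b i := by
    have := b.linearCombination_repr (t a)
    rw [Finsupp.linearCombination_apply] at this
    rw [← this]
    refine Finsupp.sum_congr fun i _ => ?_
    rw [Algebra.smul_def]; rfl
  -- apply c and p₀
  have h1 : c (t a) = r.sum fun i y => p₁ (s y) * p₀ (b i) := by
    conv_lhs => rw [hta]
    rw [map_finsuppSum]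
    refine Finsupp.sum_congr fun i _ => ?_
    rw [map_mul, r2, hb, r1]
  have h2 : p₀ (t a) = r.sum fun i y => p₁ (t y) * p₀ (b i) := by
    conv_lhs => rw [hta]
    rw [map_finsuppSum]
    refine Finsupp.sum_congr fun i _ => ?_
    rw [map_mul, r3]
  have hβ0 : ∀ y : A, y = 0 → s y - t y = 0 := by rintro y rfl; simp
  set β : I →₀ B := r.mapRange (fun y => s y - t y) (hβ0 0 rfl) with hβ
  have h3 : (β.sum fun i y => p₁ y * p₀ (b i)) = 0 := by
    rw [hβ, Finsupp.sum_mapRange_index (by intro i; simp)]
    have : (r.sum fun i y => p₁ (s y - t y) * p₀ (b i)) =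
        (r.sum fun i y => p₁ (s y) * p₀ (b i)) - (r.sum fun i y => p₁ (t y) * p₀ (b i)) := by
      rw [← Finsupp.sum_sub]
      refine Finsupp.sum_congr fun i _ => ?_
      rw [map_sub, sub_mul]
    rw [this, ← h1, ← h2, r1, sub_self]
  have h4 := hfree β h3
  have h5 : β i = 0 := by rw [h4]; rfl
  rw [hβ, Finsupp.mapRange_apply] at h5
  exact sub_eq_zero.mp h5
end


section
variable {A B : Type u} [CommRing A] [CommRing B] (s t : A →+* B) (e : B →+* A)

theorem ring_main (hes : ∀ a, e (s a) = a) (het : ∀ a, e (t a) = a) {I : Type u} (x : I → A)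
    (b : letI := s.toAlgebra; Module.Basis I A B) (hb : ∀ i, b i = t (x i))
    (key : ∀ a i, s ((letI := s.toAlgebra; b.repr (t a)) i) =
      t ((letI := s.toAlgebra; b.repr (t a)) i)) :
    (∃ b' : Module.Basis I (RingHom.eqLocus s t) A, ∀ i, b' i = x i) ∧
    (letI := (s.comp (RingHom.eqLocus s t).subtype).toAlgebra;
      ∀ φ : TensorProduct (RingHom.eqLocus s t) A A →ₗ[RingHom.eqLocus s t] B,
        (∀ a a' : A, φ (a ⊗ₜ[RingHom.eqLocus s t] a') = t a * s a') → Function.Bijective φ) := by
  letI algAB : Algebra A B := s.toAlgebra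
  set C : Subring A := RingHom.eqLocus s t with hC
  have hCmem : ∀ c : C, s c.1 = t c.1 := fun c => c.2
  have hsinj : Function.Injective s := fun a a' h => by rw [← hes a, ← hes a', h]
  -- expansion of `t a`
  have hta : ∀ a : A, t a = (b.repr (t a)).sum fun i y => s y * t (x i) := by
    intro a
    have := b.linearCombination_repr (t a)
    rw [Finsupp.linearCombination_apply] at this
    conv_lhs => rw [← this]
    refine Finsupp.sum_congr fun i _ => ?_
    rw [Algebra.smul_def, hb]; rfl
  have ha : ∀ a : A, a = (b.repr (t a)).sum fun i y => y * x i := by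
    intro a
    have := congrArg e (hta a)
    rw [het, map_finsuppSum] at this
    conv_lhs => rw [this]
    refine Finsupp.sum_congr fun i _ => ?_
    rw [map_mul, hes, het]
  -- linear independence over C
  have hli : LinearIndependent C x := by
    rw [linearIndependent_iff]
    intro l hl
    rw [Finsupp.linearCombination_apply] at hl
    have h0 : ∀ c : C, c = 0 → (c : A) = 0 := by rintro c rfl; rfl
    set l' : I →₀ A := l.mapRange (fun c : C => (c : A)) rfl with hl'
    have h1 : Finsupp.linearCombination A b l' = 0 := by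
      rw [Finsupp.linearCombination_apply, hl', Finsupp.sum_mapRange_index (by intro i; simp)]
      have := congrArg t hl
      rw [map_finsuppSum, map_zero] at this
      rw [← this]
      refine Finsupp.sum_congr fun i _ => ?_
      rw [Algebra.smul_def, hb, Subring.smul_def, smul_eq_mul, map_mul, ← hCmem]; rfl
    have h2 := b.repr_linearCombination l'
    rw [h1, map_zero] at h2
    ext i
    have h3 : l' i = 0 := by rw [← h2]; rfl
    rw [hl', Finsupp.mapRange_apply] at h3
    exact_mod_cast h3
  have hsp : ⊤ ≤ Submodule.span C (Set.range x) := by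
    intro a _
    rw [ha a]
    refine Submodule.sum_mem _ fun i _ => ?_
    have hmem : (b.repr (t a)) i ∈ C := key a i
    have : (b.repr (t a)) i * x i = (⟨(b.repr (t a)) i, hmem⟩ : C) • x i := rfl
    show (b.repr (t a)) i * x i ∈ _
    rw [this]
    exact Submodule.smul_mem _ _ (Submodule.subset_span ⟨i, rfl⟩)
  refine ⟨⟨Module.Basis.mk hli hsp, fun i => Module.Basis.mk_apply hli hsp i⟩, ?_⟩
  letI algCB : Algebra C B := (s.comp C.subtype).toAlgebra
  intro φ hφ
  have hφsum : ∀ l : I →₀ A, φ (l.sum fun i a' => x i ⊗ₜ[C] a') = Finsupp.linearCombination A b l := by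
    intro l
    rw [map_finsuppSum, Finsupp.linearCombination_apply]
    refine Finsupp.sum_congr fun i _ => ?_
    rw [hφ, Algebra.smul_def, hb, mul_comm]; rfl
  constructor
  · -- injective
    have hform : ∀ z : A ⊗[C] A, ∃ l : I →₀ A, z = l.sum fun i a' => x i ⊗ₜ[C] a' := by
      intro z
      induction z using TensorProduct.induction_on with
      | zero => exact ⟨0, by simp⟩
      | tmul u v =>
        have h0 : ∀ y : A, y = 0 → y * v = 0 := by rintro y rfl; simp
        refine ⟨(b.repr (t u)).mapRange (fun y => y * v) (h0 0 rfl), ?_⟩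
        rw [Finsupp.sum_mapRange_index (by intro i; simp)]
        conv_lhs => rw [ha u]
        rw [Finsupp.sum, TensorProduct.sum_tmul, Finsupp.sum]
        refine Finset.sum_congr rfl fun i _ => ?_
        have hmem : (b.repr (t u)) i ∈ C := key u i
        have e1 : (b.repr (t u)) i * x i = (⟨(b.repr (t u)) i, hmem⟩ : C) • x i := rfl
        have e2 : (b.repr (t u)) i * v = (⟨(b.repr (t u)) i, hmem⟩ : C) • v := rfl
        rw [e1, e2, TensorProduct.smul_tmul]
      | add z₁ z₂ h₁ h₂ =>
        obtain ⟨l₁, rfl⟩ := h₁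
        obtain ⟨l₂, rfl⟩ := h₂
        refine ⟨l₁ + l₂, ?_⟩
        rw [Finsupp.sum_add_index' (by intro i; simp) (by intro i a₁ a₂; rw [TensorProduct.tmul_add])]
    rw [injective_iff_map_eq_zero]
    intro z hz
    obtain ⟨l, rfl⟩ := hform z
    rw [hφsum] at hz
    have h2 := b.repr_linearCombination l
    rw [hz, map_zero] at h2
    rw [← h2]
    simp
  · -- surjective
    intro y
    refine ⟨(b.repr y).sum fun i a' => x i ⊗ₜ[C] a', ?_⟩
    rw [hφsum, b.linearCombination_repr]
end

/-- Let (U, R, s, t, c) be a groupoid scheme over S with U = Spec A and R = Spec B affine (A, B the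
rings of global functions), and let x_i, i in I, be elements of A such that B is free as an A-module
through s^# with basis the elements t^#(x_i). Let C be the subring of R-invariant functions (those a
with s^#(a) = t^#(a)). Then the x_i form a basis of A as a C-module, and the C-linear map A (x)_C A
-> B sending a (x) a' to t^#(a) s^#(a') is bijective (B carries the C-module structure through s^#).
(A groupoid scheme carries U, R, s, t, c, e, i over S with the groupoid axioms on T-points; c is
defined on the fibre product of s and t and sends a pair (a, b) with s(a) = t(b) to a composed with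
b.) -/
theorem result (S : Scheme.{u}) (G : Grpd.GroupoidScheme S) [IsAffine G.U] [IsAffine G.R] (I : Type u) (x : I → Γ(G.U, ⊤)) (hB : letI := G.s.appTop.hom.toAlgebra; ∃ b : Module.Basis I Γ(G.U, ⊤) Γ(G.R, ⊤), ∀ i, b i = G.t.appTop.hom (x i)) : (∃ b : Module.Basis I G.invariants Γ(G.U, ⊤), ∀ i, b i = x i) ∧ (letI := (G.s.appTop.hom.comp G.invariants.subtype).toAlgebra; ∀ φ : TensorProduct G.invariants Γ(G.U, ⊤) Γ(G.U, ⊤) →ₗ[G.invariants] Γ(G.R, ⊤), (∀ a a' : Γ(G.U, ⊤), φ (a ⊗ₜ[G.invariants] a') = G.t.appTop.hom a * G.s.appTop.hom a') → Function.Bijective φ) := by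
  classical
  obtain ⟨b, hb⟩ := hB
  have hct : G.c ≫ G.t = pullback.fst G.s G.t ≫ G.t := by
    have := hom_c G (𝟙 (pullback G.s G.t))
    rw [Category.id_comp] at this
    rw [this, cmp_t, Category.id_comp]
  have hcs : G.c ≫ G.s = pullback.snd G.s G.t ≫ G.s := by
    have := hom_c G (𝟙 (pullback G.s G.t))
    rw [Category.id_comp] at this
    rw [this, cmp_s, Category.id_comp]
  have r1 : ∀ a, G.c.appTop.hom (G.t.appTop.hom a) =
      (pullback.fst G.s G.t).appTop.hom (G.t.appTop.hom a) := by
    intro a
    have := congrArg (fun f => f.appTop.hom a) hct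
    simpa only [Scheme.Hom.comp_appTop, CommRingCat.hom_comp, RingHom.comp_apply] using this
  have r2 : ∀ a, G.c.appTop.hom (G.s.appTop.hom a) =
      (pullback.snd G.s G.t).appTop.hom (G.s.appTop.hom a) := by
    intro a
    have := congrArg (fun f => f.appTop.hom a) hcs
    simpa only [Scheme.Hom.comp_appTop, CommRingCat.hom_comp, RingHom.comp_apply] using this
  have r3 : ∀ a, (pullback.fst G.s G.t).appTop.hom (G.s.appTop.hom a) =
      (pullback.snd G.s G.t).appTop.hom (G.t.appTop.hom a) := by
    intro a
    have := congrArg (fun f => f.appTop.hom a) (pullback.condition (f := G.s) (g := G.t))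
    simpa only [Scheme.Hom.comp_appTop, CommRingCat.hom_comp, RingHom.comp_apply] using this
  have hes : ∀ a, G.e.appTop.hom (G.s.appTop.hom a) = a := by
    intro a
    have := congrArg (fun f => f.appTop.hom a) G.e_s
    simpa only [Scheme.Hom.comp_appTop, CommRingCat.hom_comp, RingHom.comp_apply,
      Scheme.Hom.id_appTop, CommRingCat.hom_id, RingHom.id_apply] using this
  have het : ∀ a, G.e.appTop.hom (G.t.appTop.hom a) = a := by
    intro a
    have := congrArg (fun f => f.appTop.hom a) G.e_t
    simpa only [Scheme.Hom.comp_appTop, CommRingCat.hom_comp, RingHom.comp_apply,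
      Scheme.Hom.id_appTop, CommRingCat.hom_id, RingHom.id_apply] using this
  have hpush : IsPushout G.s.appTop G.t.appTop (pullback.fst G.s G.t).appTop
      (pullback.snd G.s G.t).appTop :=
    isPushout_appTop_of_isPullback (IsPullback.of_hasPullback G.s G.t)
  have hfree : ∀ β : I →₀ Γ(G.R, ⊤),
      (β.sum fun i y => (pullback.snd G.s G.t).appTop.hom y *
        (pullback.fst G.s G.t).appTop.hom (b i)) = 0 → β = 0 :=
    fun β hβ => coeff_zero_of_isPushout hpush b β hβ
  have key := key_step G.s.appTop.hom G.t.appTop.hom (pullback.fst G.s G.t).appTop.hom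
    (pullback.snd G.s G.t).appTop.hom G.c.appTop.hom r1 r2 r3 b x hb hfree
  exact ring_main G.s.appTop.hom G.t.appTop.hom G.e.appTop.hom hes het x b hb key

end Groth.Agent.S7486
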