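import Groth.Statements.S1400
import Mathlib
import Groth.Agent.Lib.Helper12.QuasiAffine
-- import your own Groth.Agent.* helpers here

set_option autoImplicit false
universe u
open FlatMor

namespace Groth.Agent.S1400

section helpers
open AlgebraicGeometry CategoryTheory Limits TopologicalSpace
open Groth.Agent.Lib.helper12

theorem main {X S X' S' : Scheme.{u}} (f : X ⟶ S) (f' : X' ⟶ S') (g' : X' ⟶ X) (g : S' ⟶ S)
    (hc : IsPullback g' f' f g) (hf : MoreMor.IsIndQuasiAffineHom f) :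
    MoreMor.IsIndQuasiAffineHom f' := by
  intro V' hV' U' hU'
  have : CompactSpace (U' : Scheme.{u}) := isCompact_iff_compactSpace.mp hU'
  have : IsAffine (V' : Scheme.{u}) := hV'
  let φ : (U' : Scheme.{u}) ⟶ (V' : Scheme.{u}) := U'.ι ≫ f' ∣_ V'
  refine qa_of_affine_target φ fun x ↦ ?_
  obtain ⟨_, ⟨(V : S.Opens), hV, rfl⟩, hzV, -⟩ := (S.isBasis_affineOpens).exists_subset_of_mem_open
    (Set.mem_univ (g (V'.ι (φ x)))) isOpen_univ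
  obtain ⟨_, ⟨_, ⟨t, rfl⟩, rfl⟩, hxt, htV⟩ :=
    (isBasis_basicOpen (V' : Scheme.{u})).exists_subset_of_mem_open
    (show φ x ∈ ((V'.ι ≫ g) ⁻¹ᵁ V : (V' : Scheme.{u}).Opens) from hzV) ((V'.ι ≫ g) ⁻¹ᵁ V).2
  refine ⟨t, hxt, ?_⟩
  have : IsAffine (V : Scheme.{u}) := hV
  set D : (V' : Scheme.{u}).Opens := (V' : Scheme.{u}).basicOpen t with hD
  have hDaff : IsAffine (D : Scheme.{u}) := (isAffineOpen_top (V' : Scheme.{u})).basicOpen t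
  have hcomp : IsCompact ((φ ⁻¹ᵁ D : (U' : Scheme.{u}).Opens) : Set U') := by
    rw [hD, Scheme.preimage_basicOpen_top]
    have := isRetrocompact_basicOpen (φ.appTop t) isCompact_univ isOpen_univ
    rwa [Set.inter_univ] at this
  have : CompactSpace (φ ⁻¹ᵁ D : Scheme.{u}) := isCompact_iff_compactSpace.mp hcomp
  let k : (φ ⁻¹ᵁ D : Scheme.{u}) ⟶ X' := (φ ⁻¹ᵁ D).ι ≫ U'.ι ≫ (f' ⁻¹ᵁ V').ι
  -- k ≫ f' = ι ≫ φ ≫ V'.ι
  have hkf' : k ≫ f' = (φ ⁻¹ᵁ D).ι ≫ φ ≫ V'.ι := by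
    simp only [k, φ, Category.assoc, morphismRestrict_ι]
  let m : (φ ⁻¹ᵁ D : Scheme.{u}) ⟶ X := k ≫ g'
  have hm : Set.range m ⊆ Set.range (f ⁻¹ᵁ V).ι := by
    rintro _ ⟨p, rfl⟩
    rw [Scheme.Opens.range_ι]
    show f (m p) ∈ V
    have hp : φ p.1 ∈ D := p.2
    have h1 : f (m p) = g (V'.ι (φ p.1)) := by
      have e : m ≫ f = (φ ⁻¹ᵁ D).ι ≫ φ ≫ V'.ι ≫ g := by
        simp only [m, Category.assoc, hc.w]
        rw [reassoc_of% hkf']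
      exact congr($e p)
    rw [h1]
    exact htV hp
  let m₀ : (φ ⁻¹ᵁ D : Scheme.{u}) ⟶ (f ⁻¹ᵁ V : Scheme.{u}) :=
    IsOpenImmersion.lift (f ⁻¹ᵁ V).ι m hm
  have hm₀ : m₀ ≫ (f ⁻¹ᵁ V).ι = m := IsOpenImmersion.lift_fac _ _ _
  obtain ⟨Qs, hQc, hQo, hQsub, -⟩ := PrespectralSpace.exists_isCompact_and_isOpen_between
    (isCompact_range m₀.continuous) isOpen_univ (Set.subset_univ _)
  let Q : (f ⁻¹ᵁ V : Scheme.{u}).Opens := ⟨Qs, hQo⟩
  have hQqa : Scheme.IsQuasiAffine (Q : Scheme.{u}) := hf V hV Q hQc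
  have hr : Set.range m₀ ⊆ Set.range Q.ι := by
    rw [Scheme.Opens.range_ι]; exact hQsub
  let m₁ : (φ ⁻¹ᵁ D : Scheme.{u}) ⟶ (Q : Scheme.{u}) := IsOpenImmersion.lift Q.ι m₀ hr
  have hm₁ : m₁ ≫ Q.ι = m₀ := IsOpenImmersion.lift_fac _ _ _
  let a' : (Q : Scheme.{u}) ⟶ (V : Scheme.{u}) := Q.ι ≫ f ∣_ V
  have hb : Set.range (D.ι ≫ V'.ι ≫ g) ⊆ Set.range V.ι := by
    rintro _ ⟨p, rfl⟩
    rw [Scheme.Opens.range_ι]
    exact htV p.2
  let b' : (D : Scheme.{u}) ⟶ (V : Scheme.{u}) := IsOpenImmersion.lift V.ι (D.ι ≫ V'.ι ≫ g) hb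
  have hb' : b' ≫ V.ι = D.ι ≫ V'.ι ≫ g := IsOpenImmersion.lift_fac _ _ _
  let n : (φ ⁻¹ᵁ D : Scheme.{u}) ⟶ (D : Scheme.{u}) := φ ∣_ D
  have hn : n ≫ D.ι = (φ ⁻¹ᵁ D).ι ≫ φ := morphismRestrict_ι φ D
  have e₁ : a' ≫ V.ι = (Q.ι ≫ (f ⁻¹ᵁ V).ι) ≫ f := by
    simp only [a', Category.assoc, morphismRestrict_ι]
  have e₂ : b' ≫ V.ι = (D.ι ≫ V'.ι) ≫ g := by
    rw [hb', Category.assoc]
  have hmf : m ≫ f = (φ ⁻¹ᵁ D).ι ≫ φ ≫ V'.ι ≫ g := by
    simp only [m, Category.assoc, hc.w]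
    rw [reassoc_of% hkf']
  have comm : m₁ ≫ a' = n ≫ b' := by
    apply (cancel_mono V.ι).mp
    calc (m₁ ≫ a') ≫ V.ι = m₁ ≫ (a' ≫ V.ι) := Category.assoc _ _ _
      _ = m₁ ≫ (Q.ι ≫ (f ⁻¹ᵁ V).ι) ≫ f := by rw [e₁]
      _ = m ≫ f := by rw [← hm₀, ← hm₁]; simp only [Category.assoc]
      _ = (φ ⁻¹ᵁ D).ι ≫ φ ≫ V'.ι ≫ g := hmf
      _ = (n ≫ b') ≫ V.ι := by rw [Category.assoc n b' V.ι, hb', reassoc_of% hn]
  let ℓ : (φ ⁻¹ᵁ D : Scheme.{u}) ⟶ pullback a' b' := pullback.lift m₁ n comm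
  let e : pullback a' b' ⟶ pullback f g :=
    pullback.map a' b' f g (Q.ι ≫ (f ⁻¹ᵁ V).ι) (D.ι ≫ V'.ι) V.ι e₁ e₂
  have hℓe : ℓ ≫ e = k ≫ hc.isoPullback.hom := by
    apply pullback.hom_ext
    · simp only [ℓ, e, Category.assoc, pullback.lift_fst, pullback.lift_fst_assoc,
        IsPullback.isoPullback_hom_fst]
      rw [reassoc_of% hm₁, hm₀]
    · simp only [ℓ, e, Category.assoc, pullback.lift_snd, pullback.lift_snd_assoc,
        IsPullback.isoPullback_hom_snd]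
      rw [reassoc_of% hn, hkf']
  have : IsOpenImmersion (ℓ ≫ e) := by rw [hℓe]; infer_instance
  have : IsOpenImmersion ℓ := IsOpenImmersion.of_comp ℓ e
  have hb'aff : IsAffineHom b' := inferInstance
  have : IsAffineHom (pullback.fst a' b') :=
    MorphismProperty.pullback_fst (P := @IsAffineHom) a' b' hb'aff
  have : Scheme.IsQuasiAffine (pullback a' b') :=
    Scheme.IsQuasiAffine.of_isAffineHom (pullback.fst a' b')
  exact Scheme.IsQuasiAffine.of_isImmersion ℓ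
end helpers

open AlgebraicGeometry CategoryTheory Limits in
/-- The base change of an ind-quasi-affine morphism is ind-quasi-affine. -/
theorem result {X S X' S' : Scheme.{u}} (f : X ⟶ S) (f' : X' ⟶ S') (g' : X' ⟶ X) (g : S' ⟶ S)
    (hc : IsPullback g' f' f g) (hf : MoreMor.IsIndQuasiAffineHom f) : MoreMor.IsIndQuasiAffineHom f' := by
  exact main f f' g' g hc hf

end Groth.Agent.S1400
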