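import Groth.Statements.S9868
import Groth.Agent.Lib.Helper1.BootE
import Groth.Agent.Lib.Helper14.AlgSpQuot1

set_option autoImplicit false
universe u
open CategoryTheory CategoryTheory.Limits AlgebraicGeometry
open AlgSp

namespace Groth.Agent.S9868

open Groth.Agent.H1.Boot Groth.Agent.Lib.Helper14.AlgSpQuot

theorem main (S : Scheme.{u}) {R U : Over S} (s t : R ⟶ U)
    (h : AlgSp.IsEtaleEqvRel s t) :
    AlgSp.IsAlgSpace (QuotSh.quot Scheme.fppfPrecoverage s t) := by
  have hsurj : Surjective t.left := by
    obtain ⟨r, hr1, hr2⟩ := (h.equivalence U).refl (𝟙 U)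
    have e : r.left ≫ t.left = 𝟙 _ := by rw [← Over.comp_left, hr1, Over.id_left]
    refine ⟨fun x => ⟨r.left x, ?_⟩⟩
    rw [← Scheme.Hom.comp_apply, e]
    rfl
  have hk := isPullback_quotMap h.toIsEqvRel
  haveI : Etale t.left := h.etale_right
  haveI : LocallyOfFiniteType t.left := inferInstance
  have hdiag := representable_diag_of_kernelPair (quotMap s t) t s hk
  have hrep : Representable (quotMap s t) := representable_of_kernelPair (quotMap s t) t s hk _
  exact ⟨hdiag, U, quotMap s t, repWith_of_kernelPair @Etale s t _ hrep hk h.etale_right,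
    repWith_of_kernelPair @Surjective s t _ hrep hk hsurj⟩

/-- Let `s, t : R ⟶ U` be an etale equivalence relation on a scheme `U` over `S` (for every scheme `T`
over `S` the map from `T`-points of `R` to pairs of `T`-points of `U` is injective with image an
equivalence relation, and `s`, `t` are etale). Then the quotient sheaf `U/R` (the coequalizer of
`h_s, h_t` in fppf sheaves of sets over `S`) is an algebraic space over `S`. -/
theorem result (S : Scheme.{u}) {R U : Over S} (s t : R ⟶ U)
    (h : AlgSp.IsEtaleEqvRel s t) :
    AlgSp.IsAlgSpace (QuotSh.quot Scheme.fppfPrecoverage s t) := by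
  exact main S s t h

end Groth.Agent.S9868
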