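import Groth.Statements.S10265
import Mathlib

set_option autoImplicit false
universe u
open CategoryTheory CategoryTheory.Limits AlgebraicGeometry
open AlgSp

namespace Groth.Agent.S10265

variable {S : Scheme.{u}}

theorem locP_etale_of_isEtaleMor {F G : Sp S} (f : F ⟶ G) (hf : IsEtaleMor f) : LocP @Etale f := by
  intro U V a b h ha hb hsq
  have hc : RepWith @Etale (a ≫ f) := hf a ha
  obtain ⟨W, snd, fst, sq⟩ := hb.1 (a ≫ f)
  obtain ⟨q, rfl⟩ := (yon S).map_surjective fst
  have hsnd : Etale snd.left := hb.2 _ _ _ sq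
  have hq : Etale q.left := hc.2 _ _ _ sq.flip
  obtain ⟨σ, hσ⟩ := (yon S).map_surjective (sq.lift ((yon S).map h) (𝟙 _) (by rw [Category.id_comp, hsq]))
  have h1 : σ ≫ q = h := by
    apply (yon S).map_injective
    rw [Functor.map_comp, hσ, sq.lift_fst]
  have h2 : σ ≫ snd = 𝟙 U := by
    apply (yon S).map_injective
    rw [Functor.map_comp, hσ, sq.lift_snd, CategoryTheory.Functor.map_id]
  have h2' : σ.left ≫ snd.left = 𝟙 U.left := by
    rw [← Over.comp_left, h2, Over.id_left]
  have : Etale (σ.left ≫ snd.left) := by rw [h2']; infer_instance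
  have hσe : Etale σ.left := Etale.of_comp σ.left snd.left
  have : h.left = σ.left ≫ q.left := by rw [← Over.comp_left, h1]
  rw [this]
  infer_instance

theorem locP_mono {P Q : MorphismProperty Scheme.{u}} (hPQ : P ≤ Q) {F G : Sp S} {f : F ⟶ G}
    (hf : LocP P f) : LocP Q f :=
  fun _ _ a b h ha hb e => hPQ _ (hf a b h ha hb e)

theorem lqf_of_etale {X Y : Scheme.{u}} (g : X ⟶ Y) [Etale g] : LocallyQuasiFinite g := by
  constructor
  intro U hU V hV e
  have h := Etale.etale_appLE g hU hV e
  algebraize [(g.appLE U V e).hom]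
  show Algebra.QuasiFinite _ _
  infer_instance

/-- Whenever a morphism of algebraic spaces is etale, it is, etale locally on both source and target,
smooth, flat, unramified, locally quasi-finite, locally of finite type and locally of finite
presentation. -/
theorem result {S : Scheme.{u}} {X Y : AlgSp.Space S} (f : X ⟶ Y) (hf : AlgSp.IsEtaleMor f.hom) :
    AlgSp.LocP (@LocallyQuasiFinite ⊓ @LocallyOfFiniteType) f.hom ∧ AlgSp.LocP @Smooth f.hom ∧
    AlgSp.LocP @Flat f.hom ∧ AlgSp.LocP @LocallyOfFinitePresentation f.hom ∧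
    AlgSp.LocP @LocallyOfFiniteType f.hom ∧ AlgSp.LocP (@LocallyOfFiniteType ⊓ @FormallyUnramified) f.hom := by
  have h := locP_etale_of_isEtaleMor f.hom hf
  refine ⟨locP_mono ?_ h, locP_mono ?_ h, locP_mono ?_ h, locP_mono ?_ h, locP_mono ?_ h,
    locP_mono ?_ h⟩
  · intro A B g (hg : Etale g)
    exact ⟨lqf_of_etale g, inferInstance⟩
  · intro A B g (hg : Etale g)
    exact (inferInstance : Smooth g)
  · intro A B g (hg : Etale g)
    exact (inferInstance : Flat g)
  · intro A B g (hg : Etale g)
    exact (inferInstance : LocallyOfFinitePresentation g)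
  · intro A B g (hg : Etale g)
    exact (inferInstance : LocallyOfFiniteType g)
  · intro A B g (hg : Etale g)
    exact ⟨inferInstance, inferInstance⟩

end Groth.Agent.S10265
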