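import Groth.Statements.S1179
import Mathlib
-- import your own Groth.Agent.* helpers here

set_option autoImplicit false
open CategoryTheory CategoryTheory.Limits AlgebraicGeometry Opposite
universe u
open Desc

namespace Groth.Agent.S1179

open TensorProduct TopologicalSpace

set_option maxHeartbeats 1000000
set_option synthInstance.maxHeartbeats 200000

lemma range_comap_tensor (R S T : Type u) [CommRing R] [CommRing S] [CommRing T]
    [Algebra R S] [Algebra R T] :
    Set.range (PrimeSpectrum.comap (algebraMap S (S ⊗[R] T))) =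
      PrimeSpectrum.comap (algebraMap R S) ⁻¹' Set.range (PrimeSpectrum.comap (algebraMap R T)) := by
  have h := Scheme.Pullback.range_fst (Spec.map (CommRingCat.ofHom (algebraMap R S)))
    (Spec.map (CommRingCat.ofHom (algebraMap R T)))
  have h2 : Set.range (Spec.map (CommRingCat.ofHom (algebraMap S (S ⊗[R] T)))) =
      Set.range (pullback.fst (Spec.map (CommRingCat.ofHom (algebraMap R S)))
        (Spec.map (CommRingCat.ofHom (algebraMap R T)))) := by
    rw [← pullbackSpecIso_inv_fst' R S T]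
    simp only [Scheme.Hom.comp_base, TopCat.hom_comp, ContinuousMap.coe_comp]
    rw [Set.range_comp, Set.range_eq_univ.mpr, Set.image_univ]
    exact (pullbackSpecIso R S T).inv.homeomorph.surjective
  exact h2.trans h

/-- key ring lemma -/
lemma finiteType_of_etale_tensor {A₀ A B₀ : Type u} [CommRing A₀] [CommRing A] [CommRing B₀]
    [Algebra A₀ A] [Algebra A₀ B₀] [Algebra.Etale A₀ B₀]
    [Algebra.FiniteType A₀ (A ⊗[A₀] B₀)]
    (hsurj : Function.Surjective (PrimeSpectrum.comap (algebraMap A (A ⊗[A₀] B₀)))) :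
    Algebra.FiniteType A₀ A := by
  classical
  -- (i) the image of Spec B₀ → Spec A₀ is open
  have hopen : IsOpen (Set.range (PrimeSpectrum.comap (algebraMap A₀ B₀))) :=
    (PrimeSpectrum.isOpenMap_comap_of_hasGoingDown_of_finitePresentation).isOpen_range
  obtain ⟨I, hI⟩ : ∃ I : Ideal A₀, (Set.range (PrimeSpectrum.comap (algebraMap A₀ B₀)))ᶜ =
      PrimeSpectrum.zeroLocus I :=
    (PrimeSpectrum.isClosed_iff_zeroLocus_ideal _).mp hopen.isClosed_compl
  have hmem : ∀ {C : Type u} [CommRing C] [Algebra A₀ C] (q : PrimeSpectrum C),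
      ¬ I ≤ q.asIdeal.comap (algebraMap A₀ C) →
      q ∈ Set.range (PrimeSpectrum.comap (algebraMap C (C ⊗[A₀] B₀))) := by
    intro C _ _ q hq
    rw [range_comap_tensor]
    show PrimeSpectrum.comap (algebraMap A₀ C) q ∈
      Set.range (PrimeSpectrum.comap (algebraMap A₀ B₀))
    by_contra hcon
    have : PrimeSpectrum.comap (algebraMap A₀ C) q ∈ PrimeSpectrum.zeroLocus (I : Set A₀) := by
      rw [← hI]; exact hcon
    exact hq this
  -- (ii) I A = A
  have hmap : I.map (algebraMap A₀ A) = ⊤ := by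
    by_contra hne
    obtain ⟨M, hM, hle⟩ := Ideal.exists_le_maximal _ hne
    have hP : (⟨M, hM.isPrime⟩ : PrimeSpectrum A) ∈
        Set.range (PrimeSpectrum.comap (algebraMap A (A ⊗[A₀] B₀))) := hsurj _
    rw [range_comap_tensor] at hP
    have h1 : PrimeSpectrum.comap (algebraMap A₀ A) ⟨M, hM.isPrime⟩ ∈
        PrimeSpectrum.zeroLocus (I : Set A₀) := by
      show (I : Set A₀) ⊆ _
      exact Ideal.map_le_iff_le_comap.mp hle
    rw [← hI] at h1
    exact h1 hP
  -- (iii) write 1 as a combination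
  have h1mem : (1 : A) ∈ Submodule.span A ((algebraMap A₀ A) '' (I : Set A₀)) := by
    have : (1 : A) ∈ I.map (algebraMap A₀ A) := hmap ▸ Submodule.mem_top
    exact this
  obtain ⟨t, htI, c, hc⟩ := (Submodule.mem_span_image_iff_exists_fun A).mp h1mem
  -- (iv) generators of the tensor product
  obtain ⟨s, hs⟩ := Algebra.FiniteType.out (R := A₀) (A := A ⊗[A₀] B₀)
  have hdec (x : s) := TensorProduct.exists_sum_tmul_eq x.1
  choose k a m h using hdec
  -- (v) the finitely generated subalgebra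
  let S : Set A := Set.range c ∪ ⋃ x : s, Set.range (a x)
  have hSfin : S.Finite :=
    (Set.finite_range c).union (Set.finite_iUnion fun x => Set.finite_range (a x))
  let A₂ : Subalgebra A₀ A := Algebra.adjoin A₀ S
  have hA₂fg : A₂.FG := Subalgebra.fg_def.mpr ⟨S, hSfin, rfl⟩
  have hA₂ft : Algebra.FiniteType A₀ A₂ := (Subalgebra.fg_iff_finiteType A₂).mp hA₂fg
  have hcmem : ∀ i, c i ∈ A₂ := fun i => Algebra.subset_adjoin (Or.inl ⟨i, rfl⟩)
  have hamem : ∀ x j, a x j ∈ A₂ := fun x j =>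
    Algebra.subset_adjoin (Or.inr (Set.mem_iUnion.mpr ⟨x, ⟨j, rfl⟩⟩))
  -- (vii) faithful flatness
  have hff : Module.FaithfullyFlat A₂ (A₂ ⊗[A₀] B₀) := by
    apply Module.FaithfullyFlat.of_comap_surjective
    intro q
    apply hmem q
    intro hle
    have h1 : (1 : A₂) ∈ q.asIdeal := by
      have : (1 : A₂) = ∑ i : t, (⟨c i, hcmem i⟩ : A₂) * algebraMap A₀ A₂ (i : A₀) := by
        apply Subtype.ext
        simp only [Subalgebra.coe_one, AddSubmonoidClass.coe_finsetSum, Subalgebra.coe_mul,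
          Subalgebra.coe_algebraMap]
        rw [← hc]
        simp [smul_eq_mul]
      rw [this]
      exact Ideal.sum_mem _ fun i _ => Ideal.mul_mem_left _ _ (hle (htI i.2))
    exact q.isPrime.ne_top ((Ideal.eq_top_iff_one _).mpr h1)
  -- (viii) `B₂ → B₂ ⊗[A₂] A` is surjective
  let ρ : (A₂ ⊗[A₀] B₀) →ₐ[A₂ ⊗[A₀] B₀] (A₂ ⊗[A₀] B₀) ⊗[A₂] A := Algebra.ofId _ _
  have hcomm : ∀ (x y : (A₂ ⊗[A₀] B₀) ⊗[A₂] A), Commute x y := fun x y => Commute.all x y
  let θ' : A ⊗[A₀] B₀ →ₐ[A₀] (A₂ ⊗[A₀] B₀) ⊗[A₂] A :=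
    Algebra.TensorProduct.lift
      ((Algebra.TensorProduct.includeRight (R := A₂) (A := A₂ ⊗[A₀] B₀) (B := A)).restrictScalars A₀)
      (((Algebra.TensorProduct.includeLeft (R := A₂) (S := A₂) (A := A₂ ⊗[A₀] B₀)
        (B := A)).restrictScalars A₀).comp
        (Algebra.TensorProduct.includeRight (R := A₀) (A := A₂) (B := B₀)))
      (fun _ _ => hcomm _ _)
  have hθ' : ∀ (x : A) (y : B₀), θ' (x ⊗ₜ y) =
      ((1 : A₂ ⊗[A₀] B₀) ⊗ₜ[A₂] x) * (((1 : A₂) ⊗ₜ[A₀] y) ⊗ₜ[A₂] (1 : A)) := by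
    intro x y
    simp [θ']
  have hρ : ∀ b, ρ b = b ⊗ₜ[A₂] (1 : A) := fun b => rfl
  have hrange : ∀ z : A ⊗[A₀] B₀, θ' z ∈ ρ.range := by
    intro z
    have hz : z ∈ Algebra.adjoin A₀ (s : Set (A ⊗[A₀] B₀)) := hs ▸ Algebra.mem_top
    induction hz using Algebra.adjoin_induction with
    | mem x hx =>
      refine ⟨∑ j : Fin (k ⟨x, hx⟩), (⟨a ⟨x, hx⟩ j, hamem _ j⟩ : A₂) ⊗ₜ[A₀] m ⟨x, hx⟩ j,
        (hρ _).trans ?_⟩
      have hx' : x = ∑ j, a ⟨x, hx⟩ j ⊗ₜ[A₀] m ⟨x, hx⟩ j := h ⟨x, hx⟩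
      conv_rhs => rw [hx']
      rw [map_sum, TensorProduct.sum_tmul]
      refine Finset.sum_congr rfl fun j _ => ?_
      rw [hθ', Algebra.TensorProduct.tmul_mul_tmul, one_mul, mul_one]
      set a' : A₂ := ⟨a ⟨x, hx⟩ j, hamem _ j⟩ with ha'
      have : (a ⟨x, hx⟩ j : A) = a' • (1 : A) := by
        rw [Subalgebra.smul_def, smul_eq_mul, mul_one]
      rw [this, ← TensorProduct.smul_tmul, TensorProduct.smul_tmul', smul_eq_mul, mul_one]
    | algebraMap r =>
      refine ⟨algebraMap A₀ _ r, (hρ _).trans ?_⟩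
      rw [AlgHom.commutes, Algebra.TensorProduct.algebraMap_apply]
      rfl
    | add x y _ _ hx hy => rw [map_add]; exact add_mem hx hy
    | mul x y _ _ hx hy => rw [map_mul]; exact mul_mem hx hy
  have hρsurj : Function.Surjective ρ := by
    intro w
    have : w ∈ ρ.range := by
      induction w using TensorProduct.induction_on with
      | zero => exact zero_mem _
      | tmul b x =>
        have h0 : θ' (x ⊗ₜ[A₀] (1 : B₀)) = (1 : A₂ ⊗[A₀] B₀) ⊗ₜ[A₂] x := by
          rw [hθ']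
          have e1 : ((1 : A₂) ⊗ₜ[A₀] (1 : B₀)) = (1 : A₂ ⊗[A₀] B₀) := rfl
          rw [e1]
          have e2 : ((1 : A₂ ⊗[A₀] B₀) ⊗ₜ[A₂] (1 : A)) = (1 : (A₂ ⊗[A₀] B₀) ⊗[A₂] A) := rfl
          rw [e2]
          exact mul_one ((1 : A₂ ⊗[A₀] B₀) ⊗ₜ[A₂] x)
        have h1 : b ⊗ₜ[A₂] x = ρ b * θ' (x ⊗ₜ[A₀] (1 : B₀)) := by
          rw [hρ, h0, Algebra.TensorProduct.tmul_mul_tmul, mul_one, one_mul]
        rw [h1]
        exact mul_mem ⟨b, rfl⟩ (hrange _)
      | add x y hx hy => exact add_mem hx hy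
    exact this
  have hft : Algebra.FiniteType (A₂ ⊗[A₀] B₀) ((A₂ ⊗[A₀] B₀) ⊗[A₂] A) :=
    Algebra.FiniteType.of_surjective ρ hρsurj
  have hA₂A : Algebra.FiniteType A₂ A :=
    Algebra.FiniteType.of_finiteType_tensorProduct_of_faithfullyFlat (A₂ ⊗[A₀] B₀)
  exact Algebra.FiniteType.trans hA₂ft hA₂A

lemma finiteType_of_etale_comp {R A B : Type u} [CommRing R] [CommRing A] [CommRing B]
    [Algebra R A] [Algebra A B] [Algebra R B] [IsScalarTower R A B] [Algebra.Etale A B]
    (hsurj : Function.Surjective (PrimeSpectrum.comap (algebraMap A B)))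
    [Algebra.FiniteType R B] : Algebra.FiniteType R A := by
  obtain ⟨A₀, B₀, _, _, hfg, hét, ⟨e⟩⟩ := Algebra.Etale.exists_subalgebra_fg R A B
  have h1 : Algebra.FiniteType A₀ B := Algebra.FiniteType.of_restrictScalars_finiteType R A₀ B
  have h2 : Algebra.FiniteType A₀ (A ⊗[A₀] B₀) := Algebra.FiniteType.equiv h1 (e.restrictScalars A₀)
  have hsurj' : Function.Surjective (PrimeSpectrum.comap (algebraMap A (A ⊗[A₀] B₀))) := by
    intro p
    obtain ⟨q, hq⟩ := hsurj p
    refine ⟨PrimeSpectrum.comap (e.symm : A ⊗[A₀] B₀ →+* B) q, ?_⟩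
    rw [← PrimeSpectrum.comap_comp_apply]
    have : (e.symm : A ⊗[A₀] B₀ →+* B).comp (algebraMap A (A ⊗[A₀] B₀)) = algebraMap A B := by
      ext x
      exact e.symm.commutes x
    rw [this, hq]
  have h3 := @finiteType_of_etale_tensor A₀ A B₀ _ _ _ _ _ hét h2 hsurj'
  exact Algebra.FiniteType.trans ((Subalgebra.fg_iff_finiteType A₀).mp hfg) h3

/-- all-affine case -/
theorem descend_affine {P : MorphismProperty Scheme.{u}}
    {Q : ∀ {R S : Type u} [CommRing R] [CommRing S], (R →+* S) → Prop}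
    [HasRingHomProperty P Q]
    (hQ : ∀ {R A B : Type u} [CommRing R] [CommRing A] [CommRing B] (φ : R →+* A) (ψ : A →+* B),
      ψ.Etale → Function.Surjective (PrimeSpectrum.comap ψ) → Q (ψ.comp φ) → Q φ)
    {W U V : Scheme.{u}} [IsAffine W] [IsAffine U] [IsAffine V] (k : W ⟶ U) (g : U ⟶ V)
    [Etale k] [Surjective k] (h : P (k ≫ g)) : P g := by
  rw [HasRingHomProperty.iff_of_isAffine (P := P)] at h ⊢
  have hk : k.appTop.hom.Etale := (HasRingHomProperty.iff_of_isAffine (P := @Etale)).mp inferInstance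
  refine hQ g.appTop.hom k.appTop.hom hk ?_ ?_
  · have h1 : Function.Surjective (Spec.map k.appTop) := by
      have : Spec.map k.appTop = W.isoSpec.inv ≫ k ≫ U.isoSpec.hom := by
        rw [← Scheme.isoSpec_hom_naturality, Iso.inv_hom_id_assoc]
      rw [this]
      simp only [Scheme.Hom.comp_base, TopCat.hom_comp, ContinuousMap.coe_comp]
      exact (U.isoSpec.hom.homeomorph.surjective.comp k.surjective).comp
        W.isoSpec.inv.homeomorph.surjective
    exact h1
  · rw [Scheme.Hom.comp_appTop] at h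
    exact h

theorem descend_source {P : MorphismProperty Scheme.{u}}
    {Q : ∀ {R S : Type u} [CommRing R] [CommRing S], (R →+* S) → Prop}
    [HasRingHomProperty P Q] [P.IsStableUnderBaseChange]
    (hQ : ∀ {R A B : Type u} [CommRing R] [CommRing A] [CommRing B] (φ : R →+* A) (ψ : A →+* B),
      ψ.Etale → Function.Surjective (PrimeSpectrum.comap ψ) → Q (ψ.comp φ) → Q φ)
    {X' X Y : Scheme.{u}} (f : X' ⟶ X) (g : X ⟶ Y) [Etale f] [Surjective f] (h : P (f ≫ g)) :
    P g := by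
  rw [HasRingHomProperty.iff_appLE (P := P)]
  intro V U e
  have hU : IsCompact (U.1 : Set X) := U.2.isCompact
  have hopen : IsOpenMap f := f.isOpenMap
  have hex : ∀ x : U.1, ∃ W : X'.Opens, IsAffineOpen W ∧ W ≤ f ⁻¹ᵁ U.1 ∧
      (x : X) ∈ f '' (W : Set X') := by
    intro x
    obtain ⟨x', hx'⟩ := f.surjective x.1
    obtain ⟨W, hW, hxW, hle⟩ := Opens.isBasis_iff_nbhd.mp X'.isBasis_affineOpens
      (show x' ∈ f ⁻¹ᵁ U.1 from by
        show f x' ∈ U.1
        rw [hx']; exact x.2)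
    exact ⟨W, hW, hle, x', hxW, hx'⟩
  choose W hWaff hWle hWmem using hex
  obtain ⟨t, ht⟩ := hU.elim_finite_subcover (fun x : U.1 => f '' (W x : Set X'))
    (fun x => hopen _ (W x).2) (fun x hx => Set.mem_iUnion.mpr ⟨⟨x, hx⟩, hWmem _⟩)
  have : ∀ i : t, IsAffine ((W i.1 : X'.Opens) : Scheme.{u}) := fun i => hWaff i.1
  let W' : Scheme.{u} := ∐ fun i : t => ((W i.1 : X'.Opens) : Scheme.{u})
  let hh : W' ⟶ X' := Sigma.desc (fun i : t => (W i.1).ι)
  have hhet : Etale hh := IsZariskiLocalAtSource.sigmaDesc (P := @Etale) (fun i => inferInstance)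
  let k : W' ⟶ X := hh ≫ f
  have hpt : ∀ w : W', ∃ (i : t) (w₀ : (W i.1 : X'.Opens)), hh w = (w₀ : X') := by
    intro w
    obtain ⟨⟨i, w₀⟩, rfl⟩ := (sigmaMk (fun i : t => ((W i.1 : X'.Opens) : Scheme.{u}))).surjective w
    refine ⟨i, w₀, ?_⟩
    rw [sigmaMk_mk, ← Scheme.Hom.comp_apply, Sigma.ι_desc]
    rfl
  have hrange : Set.range k ⊆ Set.range U.1.ι := by
    rintro _ ⟨w, rfl⟩
    obtain ⟨i, w₀, hw⟩ := hpt w
    rw [Scheme.Opens.range_ι]
    show f (hh w) ∈ U.1
    rw [hw]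
    exact hWle i.1 w₀.2
  let k' : W' ⟶ U.1 := IsOpenImmersion.lift U.1.ι k hrange
  have hk' : k' ≫ U.1.ι = k := IsOpenImmersion.lift_fac _ _ _
  have hk'et : Etale k' := by
    apply MorphismProperty.of_postcomp (W := @Etale) (W' := @IsOpenImmersion) k' U.1.ι inferInstance
    rw [hk']
    infer_instance
  have hk'surj : Surjective k' := by
    constructor
    intro u
    have hu : (U.1.ι u : X) ∈ (U.1 : Set X) := u.2
    obtain ⟨x, hx⟩ := Set.mem_iUnion.mp (ht hu)
    obtain ⟨hxt, w₀, hw₀, hfw₀⟩ := Set.mem_iUnion.mp hx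
    refine ⟨Sigma.ι (fun i : t => ((W i.1 : X'.Opens) : Scheme.{u})) ⟨x, hxt⟩ ⟨w₀, hw₀⟩, ?_⟩
    apply U.1.ι.isOpenEmbedding.injective
    rw [← Scheme.Hom.comp_apply, hk', ← Scheme.Hom.comp_apply]
    show (Sigma.ι _ _ ≫ hh ≫ f) _ = _
    rw [Sigma.ι_desc_assoc]
    exact hfw₀
  have : IsAffine (U.1 : Scheme.{u}) := U.2
  have : IsAffine (V.1 : Scheme.{u}) := V.2
  have hP : P (k' ≫ g.resLE V.1 U.1 e) := by
    apply MorphismProperty.of_postcomp (W := P) (W' := @IsOpenImmersion) _ V.1.ι inferInstance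
    rw [Category.assoc, Scheme.Hom.resLE_comp_ι, reassoc_of% hk']
    have : k ≫ g = Sigma.desc (fun i : t => (W i.1).ι ≫ f ≫ g) := by
      apply Sigma.hom_ext
      intro i
      simp [k, hh]
    rw [this]
    exact IsZariskiLocalAtSource.sigmaDesc (P := P) (fun i => IsZariskiLocalAtSource.comp h _)
  have hg' : P (g.resLE V.1 U.1 e) := descend_affine hQ k' _ hP
  rw [HasRingHomProperty.iff_of_isAffine (P := P)] at hg'
  have : (RingHom.toMorphismProperty Q).RespectsIso :=
    RingHom.toMorphismProperty_respectsIso_iff.mp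
      (HasRingHomProperty.isLocal_ringHomProperty P).respectsIso
  exact (MorphismProperty.arrow_mk_iso_iff (RingHom.toMorphismProperty Q)
    (arrowResLEAppIso g V.1 U.1 e)).mp hg'


lemma ringHom_finiteType_of_etale_comp {R A B : Type u} [CommRing R] [CommRing A] [CommRing B]
    (φ : R →+* A) (ψ : A →+* B) (hψ : ψ.Etale)
    (hs : Function.Surjective (PrimeSpectrum.comap ψ)) (h : (ψ.comp φ).FiniteType) :
    φ.FiniteType := by
  algebraize [φ, ψ, ψ.comp φ]
  exact finiteType_of_etale_comp (R := R) (A := A) (B := B) hs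

/-- locally of finite type descends along an etale surjection on the source. -/
theorem locallyOfFiniteType_of_etale_comp {X' X Y : Scheme.{u}} (f : X' ⟶ X) (g : X ⟶ Y)
    [Etale f] [Surjective f] [LocallyOfFiniteType (f ≫ g)] : LocallyOfFiniteType g :=
  descend_source (P := @LocallyOfFiniteType) ringHom_finiteType_of_etale_comp f g inferInstance

/-- Let f : X' ⟶ X be etale and surjective and g : X ⟶ Y a morphism. If f ≫ g is locally quasi-finite,
then g is locally quasi-finite; with stability under precomposition by etale maps this says that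
local quasi-finiteness is etale local on the source. -/
theorem result {X' X Y : Scheme.{u}} (f : X' ⟶ X) (g : X ⟶ Y) [Etale f] [Surjective f]
    [LocallyQuasiFinite (f ≫ g)] [LocallyOfFiniteType (f ≫ g)] : LocallyQuasiFinite g ∧ LocallyOfFiniteType g := by
  have hlft : LocallyOfFiniteType g := locallyOfFiniteType_of_etale_comp f g
  refine ⟨?_, hlft⟩
  rw [locallyQuasiFinite_iff_isDiscrete_preimage_singleton]
  intro y
  have hd : _root_.IsDiscrete ((f ≫ g) ⁻¹' {y}) := (f ≫ g).isDiscrete_preimage_singleton y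
  rw [isDiscrete_iff_forall_mem_exists_isOpen] at hd ⊢
  intro x hx
  obtain ⟨x', rfl⟩ := f.surjective x
  have hx' : x' ∈ (f ≫ g) ⁻¹' {y} := by
    simpa using hx
  obtain ⟨u, hu, hux⟩ := hd x' hx'
  refine ⟨f '' u, f.isOpenMap u hu, ?_⟩
  ext z
  simp only [Set.mem_inter_iff, Set.mem_image, Set.mem_preimage, Set.mem_singleton_iff]
  constructor
  · rintro ⟨⟨w, hwu, rfl⟩, hz⟩
    have : w ∈ u ∩ (f ≫ g) ⁻¹' {y} := ⟨hwu, by simpa using hz⟩
    rw [hux] at this
    rw [Set.mem_singleton_iff.mp this]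
  · rintro rfl
    have : x' ∈ u ∩ (f ≫ g) ⁻¹' {y} := by rw [hux]; rfl
    exact ⟨⟨x', this.1, rfl⟩, by simpa using hx⟩

end Groth.Agent.S1179
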