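import Groth.Statements.S1180
import Groth.Agent.S1179
-- import your own Groth.Agent.* helpers here

set_option autoImplicit false
open CategoryTheory CategoryTheory.Limits AlgebraicGeometry Opposite
universe u
open Desc

namespace Groth.Agent.S1180

open TensorProduct

lemma formallyUnramified_of_etale_comp {R A B : Type u} [CommRing R] [CommRing A] [CommRing B]
    [Algebra R A] [Algebra A B] [Algebra R B] [IsScalarTower R A B] [Algebra.Etale A B]
    (hsurj : Function.Surjective (PrimeSpectrum.comap (algebraMap A B)))
    [Algebra.FormallyUnramified R B] : Algebra.FormallyUnramified R A := by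
  have : Module.FaithfullyFlat A B := Module.FaithfullyFlat.of_comap_surjective hsurj
  have e := KaehlerDifferential.tensorKaehlerEquivOfFormallyEtale R A B
  have h1 : Subsingleton (B ⊗[A] Ω[A⁄R]) := e.toEquiv.subsingleton
  constructor
  exact (Module.FaithfullyFlat.subsingleton_tensorProduct_iff_right A B).mp h1

lemma ringHom_formallyUnramified_of_etale_comp {R A B : Type u} [CommRing R] [CommRing A]
    [CommRing B] (φ : R →+* A) (ψ : A →+* B) (hψ : ψ.Etale)
    (hs : Function.Surjective (PrimeSpectrum.comap ψ)) (h : (ψ.comp φ).FormallyUnramified) :
    φ.FormallyUnramified := by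
  algebraize [φ, ψ, ψ.comp φ]
  exact formallyUnramified_of_etale_comp (R := R) (A := A) (B := B) hs

/-- Let f : X' ⟶ X be étale and surjective and g : X ⟶ Y a morphism such that the composite f ≫ g : X' ⟶
Y is unramified, i.e. formally unramified and locally of finite type. Then g is formally unramified
and locally of finite type. (Being unramified can be checked after precomposing with an étale
surjection; single-cover form.) -/
theorem result {X' X Y : Scheme.{u}} (f : X' ⟶ X) (g : X ⟶ Y) [Etale f] [Surjective f]
    [FormallyUnramified (f ≫ g)] [LocallyOfFiniteType (f ≫ g)] : FormallyUnramified g ∧ LocallyOfFiniteType g := by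
  refine ⟨?_, Groth.Agent.S1179.locallyOfFiniteType_of_etale_comp f g⟩
  exact Groth.Agent.S1179.descend_source (P := @FormallyUnramified)
    ringHom_formallyUnramified_of_etale_comp f g inferInstance

end Groth.Agent.S1180
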