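import Groth.Statements.S10194
import Groth.Agent.Lib.Helper11.AlgSpBasic
import Groth.Agent.S9928
import Groth.Agent.S9885

set_option autoImplicit false
universe u
open CategoryTheory CategoryTheory.Limits AlgebraicGeometry Topology TopologicalSpace
open AlgSp

namespace Groth.Agent.S10194

theorem repWith_mono {S : Scheme.{u}} {P Q : MorphismProperty Scheme.{u}} (hPQ : P ≤ Q)
    {F G : AlgSp.Sp S} {f : F ⟶ G} (h : AlgSp.RepWith P f) : AlgSp.RepWith Q f :=
  ⟨h.1, fun _ _ g fst snd sq => hPQ _ (h.2 g fst snd sq)⟩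

/-- A morphism of sheaves that is representable by open immersions and surjective on points is an
isomorphism. -/
theorem isIso_of_openImmersion_of_surjective {S : Scheme.{u}} {F G : AlgSp.Sp S} (f : F ⟶ G)
    (hf : AlgSp.RepWith @IsOpenImmersion f) (hs : AlgSp.IsSurjectiveMor f) : IsIso f := by
  have hsurj : AlgSp.RepWith @Surjective f := by
    refine ⟨hf.1, ?_⟩
    intro T T' g fst snd sq
    refine ⟨fun t => ?_⟩
    obtain ⟨w, hw⟩ := hs (AlgSp.Points.ofPt g t)
    obtain ⟨v, _, hv⟩ := Groth.Agent.Lib.helper11.exists_of_isPullback_scheme sq w t hw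
    exact ⟨v, hv⟩
  have hmono : Mono f := Groth.Agent.S9928.mono_of_repWith_mono f
    (repWith_mono (fun X Y g hg => by have : IsOpenImmersion g := hg; infer_instance) hf)
  have hls : Sheaf.IsLocallySurjective f := Groth.Agent.S9885.result S F G f
    (repWith_mono (fun X Y g hg => by have : IsOpenImmersion g := hg; infer_instance) hf)
    (repWith_mono (fun X Y g hg => by have : IsOpenImmersion g := hg; infer_instance) hf)
    hsurj
  have hepi : Epi f := inferInstance
  exact isIso_of_mono_of_epi f

/-- Let X, Y be algebraic spaces over a scheme S and j : X' ⟶ X an open subspace (a morphism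
representable by open immersions). Then a morphism f : Y ⟶ X factors through X' if and only if
|f|(|Y|) is contained in |X'|. -/
theorem result {S : Scheme.{u}} {X X' Y : AlgSp.Space S}
    (j : X' ⟶ X) (hj : AlgSp.RepWith @IsOpenImmersion j.hom) (f : Y ⟶ X) :
    (∃ g : Y ⟶ X', g ≫ j = f) ↔
      Set.range (AlgSp.Points.map f.hom) ⊆ Set.range (AlgSp.Points.map j.hom) := by
  constructor
  · rintro ⟨g, rfl⟩
    rintro _ ⟨y, rfl⟩
    refine ⟨AlgSp.Points.map g.hom y, ?_⟩
    exact (AlgSp.Points.map_comp g.hom j.hom y).symm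
  · intro hsub
    have sq : IsPullback (pullback.fst f.hom j.hom) (pullback.snd f.hom j.hom) f.hom j.hom :=
      IsPullback.of_hasPullback _ _
    have h1 : AlgSp.RepWith @IsOpenImmersion (pullback.fst f.hom j.hom) :=
      (AlgSp.repWith_isStableUnderBaseChange (S := S) @IsOpenImmersion).of_isPullback sq.flip hj
    have h2 : AlgSp.IsSurjectiveMor (pullback.fst f.hom j.hom) := by
      intro y
      obtain ⟨x', hx'⟩ := hsub ⟨y, rfl⟩
      obtain ⟨w, hw, _⟩ := Groth.Agent.Lib.helper10.exists_point_of_isPullback sq y x' hx'.symm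
      exact ⟨w, hw⟩
    have hiso : IsIso (pullback.fst f.hom j.hom) := isIso_of_openImmersion_of_surjective _ h1 h2
    refine ⟨ObjectProperty.homMk (inv (pullback.fst f.hom j.hom) ≫ pullback.snd f.hom j.hom), ?_⟩
    apply ObjectProperty.hom_ext
    change (inv (pullback.fst f.hom j.hom) ≫ pullback.snd f.hom j.hom) ≫ j.hom = f.hom
    rw [Category.assoc, ← pullback.condition, IsIso.inv_hom_id_assoc]

end Groth.Agent.S10194
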