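import Groth.Statements.S10266
import Mathlib

set_option autoImplicit false
universe u
open CategoryTheory CategoryTheory.Limits AlgebraicGeometry
open AlgSp

namespace Groth.Agent.S10266

variable {S : Scheme.{u}}

/-- If `f : F ⟶ G` has `LocP @Etale` and `G` is an algebraic space, then `f` is etale in the sense of
`IsEtaleMor`. -/
theorem isEtaleMor_of_locP_etale {F G : Sp S} (hG : IsAlgSpace G) (f : F ⟶ G)
    (hf : LocP @Etale f) : IsEtaleMor f := by
  intro U φ hφ
  refine ⟨hG.representable_from_yon _, ?_⟩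
  intro T W g fst snd sq
  obtain ⟨V, b, hbe, hbs⟩ := hG.atlas
  -- `T' = T ×_G V`
  obtain ⟨T', t, t2, sqT⟩ := hbe.1 g
  have ht_et : Etale t.left := hbe.2 _ _ _ sqT
  have ht_surj : Surjective t.left := hbs.2 _ _ _ sqT
  -- `U_V = U ×_G V`
  obtain ⟨UV, u, r', sqU⟩ := hbe.1 (φ ≫ f)
  have hu_et : Etale u.left := hbe.2 _ _ _ sqU
  obtain ⟨r, rfl⟩ := (yon S).map_surjective r'
  have hr : Etale r.left := by
    refine hf ((yon S).map u ≫ φ) b r ?_ hbe ?_
    · exact (RepWith (S := S) @Etale).comp_mem _ _ ((repWith_yon_map_iff @Etale u).2 hu_et) hφ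
    · rw [Category.assoc]; exact sqU.w.symm
  -- `W' = W ×_T T'`
  have sq4 := (IsPullback.of_hasPullback snd t).map (yon S)
  have big := sq4.paste_horiz sq
  -- the map `W' ⟶ U_V`
  have hw : ((yon S).map (pullback.snd snd t) ≫ t2) ≫ b =
      ((yon S).map (pullback.fst snd t) ≫ fst) ≫ (φ ≫ f) := by
    rw [Category.assoc, sqT.w, ← Category.assoc, ← sq4.w, Category.assoc, Category.assoc, sq.w]
  obtain ⟨m, hm⟩ := (yon S).map_surjective (sqU.lift _ _ hw)
  have hm1 : (yon S).map m ≫ (yon S).map r = (yon S).map (pullback.snd snd t) ≫ t2 := by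
    rw [hm]; exact sqU.lift_fst _ _ hw
  have hm2 : (yon S).map m ≫ (yon S).map u = (yon S).map (pullback.fst snd t) ≫ fst := by
    rw [hm]; exact sqU.lift_snd _ _ hw
  have big' : IsPullback ((yon S).map m ≫ (yon S).map u) ((yon S).map (pullback.snd snd t))
      (φ ≫ f) (t2 ≫ b) := by
    rw [hm2, sqT.w]; exact big
  have sqA := IsPullback.of_right big' hm1 sqU.flip
  have hs' : Etale (pullback.snd snd t).left :=
    ((repWith_yon_map_iff @Etale r).2 hr).2 _ _ _ sqA
  -- descent
  have sq5 := (IsPullback.of_hasPullback snd t).map (Over.forget S)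
  exact MorphismProperty.of_isPullback_of_descendsAlong (P := @Etale)
      (Q := @Surjective ⊓ @Flat ⊓ @LocallyOfFinitePresentation) sq5.flip
      ⟨⟨ht_surj, (inferInstance : Flat t.left)⟩,
        (inferInstance : LocallyOfFinitePresentation t.left)⟩ hs'

/-- A morphism of algebraic spaces that is locally of finite presentation, flat and unramified is etale. -/
theorem result {S : Scheme.{u}} {X Y : AlgSp.Space S} (f : X ⟶ Y)
    (h1 : AlgSp.LocP @LocallyOfFinitePresentation f.hom) (h2 : AlgSp.LocP @Flat f.hom)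
    (h3 : AlgSp.LocP (@LocallyOfFiniteType ⊓ @FormallyUnramified) f.hom) :
    AlgSp.IsEtaleMor f.hom := by
  apply isEtaleMor_of_locP_etale Y.property f.hom
  intro U V a b h ha hb e
  rw [Etale.iff_flat_and_formallyUnramified]
  exact ⟨h2 a b h ha hb e, (h3 a b h ha hb e).2, h1 a b h ha hb e⟩

end Groth.Agent.S10266
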