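import Groth.Statements.S9560
import Mathlib

set_option autoImplicit false
universe u
open EtLocal

namespace Groth.Agent.S9560

open TensorProduct IsLocalRing Algebra

theorem flat_of_isEtaleAt (A B : Type u) [CommRing A] [CommRing B]
    [Algebra A B] [IsNoetherianRing A] [Algebra.FiniteType A B]
    (q : Ideal B) [q.IsPrime] [Algebra.IsEtaleAt A q] :
    Module.Flat A (Localization.AtPrime q) := by
  have : Algebra.FinitePresentation A B :=
    Algebra.FinitePresentation.of_finiteType.mp inferInstance
  obtain ⟨f, hf, hE⟩ := Algebra.exists_etale_of_isEtaleAt (R := A) q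
  let Bf := Localization.Away f
  let Bq := Localization.AtPrime q
  have hu : IsUnit (algebraMap B Bq f) :=
    IsLocalization.map_units (M := q.primeCompl) Bq ⟨f, hf⟩
  let g : Bf →ₐ[B] Bq := IsLocalization.liftAlgHom (M := Submonoid.powers f)
    (f := Algebra.ofId B Bq) (by
      rintro ⟨_, n, rfl⟩
      simpa using hu.pow n)
  algebraize [g.toRingHom]
  have : IsScalarTower A Bf Bq := .to₁₃₄ _ B _ _
  have : IsLocalization (algebraMapSubmonoid Bf q.primeCompl) Bq :=
    .isLocalization_of_submonoid_le _ _ (Submonoid.powers f) _ (by
      rintro _ ⟨n, rfl⟩; exact q.primeCompl.pow_mem hf n)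
  have : Module.Flat Bf Bq := IsLocalization.flat Bq (algebraMapSubmonoid Bf q.primeCompl)
  exact Module.Flat.trans A Bf Bq

theorem isEtaleAt_of (A B : Type u) [CommRing A] [CommRing B]
    [Algebra A B] [IsNoetherianRing A] [Algebra.FiniteType A B]
    (p : Ideal A) [p.IsPrime] (q : Ideal B) [q.IsPrime] [q.LiesOver p]
    [Algebra (Localization.AtPrime p) (Localization.AtPrime q)]
    [Localization.AtPrime.IsLiesOverAlgebra p q]
    [Module.Flat (Localization.AtPrime p) (Localization.AtPrime q)]
    [Algebra.IsUnramifiedAt A q] : Algebra.IsEtaleAt A q := by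
  let Rp := Localization.AtPrime p
  let Sp := Localization (algebraMapSubmonoid B p.primeCompl)
  let Sq := Localization.AtPrime q
  have : Algebra.FinitePresentation A B :=
    Algebra.FinitePresentation.of_finiteType.mp inferInstance
  let f : Sp →ₐ[B] Sq := IsLocalization.liftAlgHom (M := algebraMapSubmonoid B p.primeCompl)
        (f := Algebra.ofId _ _) (by
      rintro ⟨_, x, hx, rfl⟩
      simpa using! IsLocalization.map_units (M := q.primeCompl) Sq ⟨algebraMap _ _ x,
        by simp_all [q.over_def p]⟩)
  algebraize [f.toRingHom]
  have : IsScalarTower A Sp Sq := .to₁₃₄ _ B _ _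
  have : IsScalarTower Rp Sp Sq := .of_algebraMap_eq' <| by
    apply IsLocalization.ringHom_ext p.primeCompl
    simp only [RingHom.comp_assoc, ← IsScalarTower.algebraMap_eq]
  have : IsLocalization (algebraMapSubmonoid Sp q.primeCompl) Sq :=
    .isLocalization_of_submonoid_le _ _ (algebraMapSubmonoid B p.primeCompl) _
    (by rintro _ ⟨x, hx, rfl⟩; simp_all [q.over_def p])
  have : FinitePresentation Rp Sp := by
    have : Algebra.IsPushout A Rp B Sp :=
      .symm <| Algebra.isPushout_of_isLocalization p.primeCompl _ _ _
    exact .equiv (Algebra.IsPushout.equiv A Rp B Sp)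
  have : FormallyUnramified Rp Sq := .of_restrictScalars A _ _
  have : EssFiniteType Rp Sq := .of_comp A _ _
  have : FormallyEtale (ResidueField Rp) ((ResidueField Rp) ⊗[Rp] Sq) :=
    .of_formallyUnramified_of_field _ _
  have := FormallySmooth.of_formallySmooth_residueField_tensor
    (R := Rp) (S := Sq) (P := Sp) (algebraMapSubmonoid _ q.primeCompl)
  have : FormallySmooth A Sq := .comp A Rp Sq
  exact FormallyEtale.iff_formallyUnramified_and_formallySmooth.mpr ⟨inferInstance, this⟩

/-- Suppose A is a Noetherian ring and B is a finite-type A-algebra, and consider a prime q of B lying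
over the prime p of A, where B_q carries its A_p-algebra structure. Then B is étale at q over A (the
local ring B_q is formally étale over A) if and only if the local homomorphism A_p → B_q is étale,
which means three things: B_q is A_p-flat, the ideal p B_q equals the maximal ideal of B_q, and the
residue field of q is a finite separable extension of the residue field of p (that B_q is
essentially of finite type over A_p holds automatically). -/
theorem result (A B : Type u) [CommRing A] [CommRing B]
    [Algebra A B] [IsNoetherianRing A] [Algebra.FiniteType A B]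
    (p : Ideal A) [p.IsPrime] (q : Ideal B) [q.IsPrime] [q.LiesOver p]
    [Algebra (Localization.AtPrime p) (Localization.AtPrime q)]
    [Localization.AtPrime.IsLiesOverAlgebra p q] :
    Algebra.IsEtaleAt A q ↔
      Module.Flat (Localization.AtPrime p) (Localization.AtPrime q) ∧
        p.map (algebraMap A (Localization.AtPrime q)) = IsLocalRing.maximalIdeal (Localization.AtPrime q) ∧
        Module.Finite p.ResidueField q.ResidueField ∧
        Algebra.IsSeparable p.ResidueField q.ResidueField := by
  constructor
  · intro h
    have hU : Algebra.IsUnramifiedAt A q := inferInstance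
    obtain ⟨hsep, hmap⟩ := (Algebra.isUnramifiedAt_iff_map_eq A p q).mp hU
    refine ⟨?_, hmap, ?_, hsep⟩
    · rw [Module.flat_iff_of_isLocalization (Localization.AtPrime p) p.primeCompl]
      exact flat_of_isEtaleAt A B q
    · infer_instance
  · rintro ⟨hflat, hmap, hfin, hsep⟩
    have hU : Algebra.IsUnramifiedAt A q :=
      (Algebra.isUnramifiedAt_iff_map_eq A p q).mpr ⟨hsep, hmap⟩
    exact isEtaleAt_of A B p q

end Groth.Agent.S9560
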