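import Groth.Statements.S0543
import Mathlib

set_option autoImplicit false
universe u
open CAlg

namespace Groth.Agent.S0543

open AdicCompletion

/-- a surjective ring map carrying `𝔪` onto `I` induces a surjection on adic completions -/
theorem exists_surjective {P R : Type u} [CommRing P] [CommRing R] (φ : P →+* R)
    (hφ : Function.Surjective φ) (𝔪 : Ideal P) (I : Ideal R) (h : 𝔪.map φ = I) :
    ∃ Ψ : AdicCompletion 𝔪 P →+* AdicCompletion I R, Function.Surjective Ψ := by
  have hk : ∀ k, 𝔪 ^ k ≤ (I ^ k).comap φ := fun k =>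
    Ideal.map_le_iff_le_comap.mp (by rw [Ideal.map_pow, h])
  let f : (k : ℕ) → AdicCompletion 𝔪 P →+* R ⧸ I ^ k := fun k =>
    (Ideal.quotientMap (I ^ k) φ (hk k)).comp (evalₐ 𝔪 k : AdicCompletion 𝔪 P →+* P ⧸ 𝔪 ^ k)
  have hfmk : ∀ (k : ℕ) (Y : AdicCauchySequence 𝔪 P),
      f k (AdicCompletion.mk 𝔪 P Y) = Ideal.Quotient.mk (I ^ k) (φ (Y k)) := by
    intro k Y
    simp only [f, RingHom.comp_apply]
    rw [show ((evalₐ 𝔪 k : AdicCompletion 𝔪 P →+* P ⧸ 𝔪 ^ k) (AdicCompletion.mk 𝔪 P Y))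
      = Ideal.Quotient.mk (𝔪 ^ k) (Y k) from evalₐ_mk 𝔪 k Y]
    simp
  have hf : ∀ {m n : ℕ} (hle : m ≤ n), (Ideal.Quotient.factorPow I hle).comp (f n) = f m := by
    intro m n hle
    ext t
    obtain ⟨Y, rfl⟩ := AdicCompletion.mk_surjective 𝔪 P t
    rw [RingHom.comp_apply, hfmk, hfmk]
    simp only [Ideal.Quotient.factorPow, Ideal.Quotient.factor_mk]
    rw [Ideal.Quotient.eq, ← map_sub]
    apply hk m
    have := (Y.property hle).symm
    rw [SModEq.sub_mem] at this
    simpa using this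
  refine ⟨AdicCompletion.liftRingHom I f hf, ?_⟩
  intro x
  obtain ⟨X, rfl⟩ := AdicCompletion.mk_surjective I R x
  -- successive differences lift
  have hz : ∀ k : ℕ, ∃ z : P, z ∈ 𝔪 ^ k ∧ φ z = X (k + 1) - X k := by
    intro k
    have h1 : X (k + 1) - X k ∈ I ^ k := by
      have := (X.property (Nat.le_succ k)).symm
      rw [SModEq.sub_mem] at this
      simpa using this
    have h1' : X (k + 1) - X k ∈ (𝔪 ^ k).map φ := by rw [Ideal.map_pow, h]; exact h1
    obtain ⟨z, hz, hz'⟩ := (Ideal.mem_map_iff_of_surjective φ hφ).mp h1'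
    exact ⟨z, hz, hz'⟩
  choose z hz1 hz2 using hz
  obtain ⟨y0, hy0⟩ := hφ (X 0)
  let y : ℕ → P := fun k => y0 + ∑ j ∈ Finset.range k, z j
  have hy : ∀ k, φ (y k) = X k := by
    intro k
    simp only [y, map_add, map_sum, hy0, hz2]
    rw [Finset.sum_range_sub (fun j => X j)]
    abel
  let Y : AdicCauchySequence 𝔪 P := AdicCauchySequence.mk 𝔪 P y (by
    intro n
    rw [SModEq.comm, SModEq.sub_mem]
    simp only [y, Finset.sum_range_succ]
    have : y0 + (∑ j ∈ Finset.range n, z j + z n) - (y0 + ∑ j ∈ Finset.range n, z j) = z n := by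
      abel
    rw [this]
    simpa using hz1 n)
  refine ⟨AdicCompletion.mk 𝔪 P Y, ?_⟩
  apply AdicCompletion.ext_evalₐ
  intro k
  rw [evalₐ_liftRingHom, hfmk, evalₐ_mk]
  congr 1
  exact hy k

/-- The completion of a Noetherian ring with respect to any ideal is Noetherian. -/
theorem result (R : Type u) [CommRing R] [IsNoetherianRing R]
    (I : Ideal R) : IsNoetherianRing (AdicCompletion I R) := by
  obtain ⟨s, hs⟩ : I.FG := (isNoetherianRing_iff_ideal_fg R).mp inferInstance I
  let σ := ↥s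
  let φ : MvPolynomial σ R →ₐ[R] R := MvPolynomial.aeval (fun i : σ => (i : R))
  have hφ : Function.Surjective φ := fun r => ⟨MvPolynomial.C r, by simp [φ]⟩
  have hmap : (MvPolynomial.idealOfVars σ R).map φ.toRingHom = I := by
    rw [MvPolynomial.idealOfVars, Ideal.map_span, ← Set.range_comp, ← hs]
    congr 1
    ext r
    simp [φ, σ]
  obtain ⟨Ψ, hΨ⟩ := exists_surjective φ.toRingHom hφ (MvPolynomial.idealOfVars σ R) I hmap
  have h1 : IsNoetherianRing (MvPowerSeries σ R) := inferInstance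
  have h2 : IsNoetherianRing (AdicCompletion (MvPolynomial.idealOfVars σ R) (MvPolynomial σ R)) :=
    isNoetherianRing_of_ringEquiv _ (MvPowerSeries.toAdicCompletionAlgEquiv σ R).toRingEquiv
  exact isNoetherianRing_of_surjective _ _ Ψ hΨ

end Groth.Agent.S0543
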