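import Groth.Statements.S3869
import Mathlib
import Groth.Agent.Lib.Helper18.AdicUnit

set_option autoImplicit false
universe u
open FCompl

namespace Groth.Agent.S3869

open FSch

section
variable (A : Type u) [CommRing A] (J : Ideal A) (𝔭 : Ideal A) [𝔭.IsPrime]

/-- transition `A_f → A_h` for `f ∣ h`. -/
noncomputable def awayTrans (f h : A) (hd : f ∣ h) : Localization.Away f →+* Localization.Away h :=
  IsLocalization.Away.lift f (g := algebraMap A (Localization.Away h))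
    (IsLocalization.Away.isUnit_of_dvd h hd)

theorem awayTrans_algebraMap (f h : A) (hd : f ∣ h) (a : A) :
    awayTrans A f h hd (algebraMap A _ a) = algebraMap A _ a :=
  IsLocalization.Away.lift_eq ..

theorem map_awayTrans_le (f h : A) (hd : f ∣ h) :
    (J.map (algebraMap A (Localization.Away f))).map (awayTrans A f h hd) ≤
      J.map (algebraMap A (Localization.Away h)) := by
  rw [Ideal.map_map]
  apply le_of_eq
  congr 1
  ext a
  simp [awayTrans]

noncomputable def cTrans (f h : A) (hd : f ∣ h) : cAway A J f →+* cAway A J h :=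
  complMap _ _ (awayTrans A f h hd) (map_awayTrans_le A J f h hd)

theorem awayToAtPrime_comp_awayTrans (f h : A) (hd : f ∣ h) (hf : f ∉ 𝔭) (hh : h ∉ 𝔭) :
    (awayToAtPrime A 𝔭 h hh).comp (awayTrans A f h hd) = awayToAtPrime A 𝔭 f hf := by
  apply IsLocalization.ringHom_ext (Submonoid.powers f)
  ext a
  simp [awayToAtPrime, awayTrans]

theorem cAwayToAtPrime_cTrans (f h : A) (hd : f ∣ h) (hf : f ∉ 𝔭) (hh : h ∉ 𝔭)
    (y : cAway A J f) :
    cAwayToAtPrime A J 𝔭 h hh (cTrans A J f h hd y) = cAwayToAtPrime A J 𝔭 f hf y := by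
  unfold cAwayToAtPrime cTrans
  exact H18U.complMap_comp' _ _ _ _ _ _ (awayToAtPrime_comp_awayTrans A 𝔭 f h hd hf hh) _ _ _ y

theorem range_le_of_dvd (f h : A) (hf : f ∉ 𝔭) (hh : h ∉ 𝔭) (hd : f ∣ h) :
    (cAwayToAtPrime A J 𝔭 f hf).range ≤ (cAwayToAtPrime A J 𝔭 h hh).range := by
  rintro _ ⟨y, rfl⟩
  exact ⟨cTrans A J f h hd y, cAwayToAtPrime_cTrans A J 𝔭 f h hd hf hh y⟩

theorem directed_ranges :
    Directed (· ≤ ·) (fun f : {f : A // f ∉ 𝔭} => (cAwayToAtPrime A J 𝔭 f.1 f.2).range) := by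
  rintro ⟨f, hf⟩ ⟨g, hg⟩
  have hfg : f * g ∉ 𝔭 := fun h => (Ideal.IsPrime.mem_or_mem ‹_› h).elim hf hg
  exact ⟨⟨f * g, hfg⟩, range_le_of_dvd A J 𝔭 f (f * g) hf hfg (Dvd.intro _ rfl),
    range_le_of_dvd A J 𝔭 g (f * g) hg hfg (Dvd.intro_left _ rfl)⟩

theorem mem_stalkSubring_iff (x : cAtPrime A J 𝔭) :
    x ∈ stalkSubring A J 𝔭 ↔ ∃ (f : A) (hf : f ∉ 𝔭), x ∈ (cAwayToAtPrime A J 𝔭 f hf).range := by
  unfold stalkSubring
  have : Nonempty {f : A // f ∉ 𝔭} := ⟨⟨1, fun h => Ideal.IsPrime.ne_top ‹_› ((Ideal.eq_top_iff_one _).mpr h)⟩⟩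
  rw [Subring.mem_iSup_of_directed (directed_ranges A J 𝔭)]
  constructor
  · rintro ⟨⟨f, hf⟩, h⟩; exact ⟨f, hf, h⟩
  · rintro ⟨f, hf, h⟩; exact ⟨⟨f, hf⟩, h⟩


theorem awayToAtPrime_algebraMap (f : A) (hf : f ∉ 𝔭) (a : A) :
    awayToAtPrime A 𝔭 f hf (algebraMap A _ a) = algebraMap A _ a :=
  IsLocalization.Away.lift_eq ..

theorem Jp_le (hJ : J ≤ 𝔭) : J.map (algebraMap A (Localization.AtPrime 𝔭)) ≤
    IsLocalRing.maximalIdeal (Localization.AtPrime 𝔭) := by
  rw [← Localization.AtPrime.map_eq_maximalIdeal]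
  exact Ideal.map_mono hJ

theorem isLocalRing_cAtPrime (hJ : J ≤ 𝔭) : IsLocalRing (cAtPrime A J 𝔭) := by
  set Jp := J.map (algebraMap A (Localization.AtPrime 𝔭)) with hJp
  have hne : Jp ^ 1 ≠ ⊤ := by
    rw [pow_one]
    intro h
    have := Jp_le A J 𝔭 hJ
    rw [← hJp, h] at this
    exact (IsLocalRing.maximalIdeal.isMaximal _).ne_top (top_le_iff.mp this)
  have : Nontrivial (Localization.AtPrime 𝔭 ⧸ Jp ^ 1) := Ideal.Quotient.nontrivial_iff.mpr hne
  have : IsLocalRing (Localization.AtPrime 𝔭 ⧸ Jp ^ 1) :=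
    IsLocalRing.of_surjective' (Ideal.Quotient.mk _) Ideal.Quotient.mk_surjective
  have : IsLocalHom (AdicCompletion.evalₐ Jp 1).toRingHom :=
    ⟨fun x hx => H18U.isUnit_of_evalOne Jp x hx⟩
  exact RingHom.domain_isLocalRing (AdicCompletion.evalₐ Jp 1).toRingHom

theorem isUnit_in_stalk (hJ : J ≤ 𝔭) (f : A) (hf : f ∉ 𝔭) (y : cAway A J f)
    (hu : IsUnit (cAwayToAtPrime A J 𝔭 f hf y)) :
    ∃ (h : A) (hh : h ∉ 𝔭) (w : cAway A J h),
      cAwayToAtPrime A J 𝔭 f hf y * cAwayToAtPrime A J 𝔭 h hh w = 1 := by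
  set Jf := J.map (algebraMap A (Localization.Away f)) with hJf
  set Jp := J.map (algebraMap A (Localization.AtPrime 𝔭)) with hJp
  have h1 := hu.map (AdicCompletion.evalₐ Jp 1)
  rw [cAwayToAtPrime, H18U.evalₐ_complMap] at h1
  obtain ⟨z, hz⟩ := Ideal.Quotient.mk_surjective (AdicCompletion.evalₐ Jf 1 y)
  rw [← hz, Ideal.quotientMap_mk] at h1
  have hloc : IsLocalHom (Ideal.Quotient.mk (Jp ^ 1)) := isLocalHom_of_le_jacobson_bot _ (by
    rw [pow_one, IsLocalRing.jacobson_eq_maximalIdeal _ bot_ne_top]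
    exact Jp_le A J 𝔭 hJ)
  have h2 : IsUnit (awayToAtPrime A 𝔭 f hf z) := hloc.map_nonunit _ h1
  obtain ⟨a, k, hzk⟩ : ∃ (a : A) (k : ℕ), z * algebraMap A _ (f ^ k) = algebraMap A _ a := by
    obtain ⟨⟨a, ⟨_, k, rfl⟩⟩, h⟩ := IsLocalization.surj (Submonoid.powers f) z
    exact ⟨a, k, h⟩
  have hfk : f ^ k ∉ 𝔭 := fun h => hf (Ideal.IsPrime.mem_of_pow_mem ‹_› k h)
  have ha : a ∉ 𝔭 := by
    have := congrArg (awayToAtPrime A 𝔭 f hf) hzk
    rw [map_mul, awayToAtPrime_algebraMap, awayToAtPrime_algebraMap] at this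
    have hu' : IsUnit (algebraMap A (Localization.AtPrime 𝔭) a) := by
      rw [← this]
      exact h2.mul (IsLocalization.map_units (Localization.AtPrime 𝔭)
        (⟨f ^ k, hfk⟩ : 𝔭.primeCompl))
    exact (IsLocalization.AtPrime.isUnit_to_map_iff _ 𝔭 a).mp hu'
  have hfa : f * a ∉ 𝔭 := fun h => (Ideal.IsPrime.mem_or_mem ‹_› h).elim hf ha
  have hd : f ∣ f * a := Dvd.intro _ rfl
  have hunit : IsUnit (cTrans A J f (f * a) hd y) := by
    apply H18U.isUnit_of_evalOne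
    rw [cTrans, H18U.evalₐ_complMap, ← hz, Ideal.quotientMap_mk]
    apply IsUnit.map
    have := congrArg (awayTrans A f (f * a) hd) hzk
    rw [map_mul, awayTrans_algebraMap, awayTrans_algebraMap] at this
    have ua : IsUnit (algebraMap A (Localization.Away (f * a)) a) :=
      IsLocalization.Away.isUnit_of_dvd (f * a) (Dvd.intro_left _ rfl)
    rw [← this] at ua
    exact isUnit_of_mul_isUnit_left ua
  obtain ⟨w, hw⟩ := hunit.exists_right_inv
  refine ⟨f * a, hfa, w, ?_⟩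
  rw [← cAwayToAtPrime_cTrans A J 𝔭 f (f * a) hd hf hfa y, ← map_mul, hw, map_one]

end

/-- For a ring A, an ideal J and a prime ideal 𝔭, let A{S⁻¹}, S = A ∖ 𝔭, be the completion of A_𝔭 for
the topology defined by the extension of J, and for f ∉ 𝔭 let A_{f} be the completion of A_f for the
topology defined by the extension of J. Consider the subring A_{S} of A{S⁻¹} generated by the images
of all the A_{f}, f ∉ 𝔭 (when A is adic Noetherian and 𝔭 is open, this is the inductive limit of the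
A_{f}, i.e. the stalk at 𝔭 of the structure sheaf of Spf(A) as a plain ring). If J ⊆ 𝔭, then A_{S}
is a local ring and its inclusion into A{S⁻¹} is a local homomorphism. -/
theorem result (A : Type u) [CommRing A] (J : Ideal A) (𝔭 : Ideal A) [𝔭.IsPrime]
    (hJ : J ≤ 𝔭) :
    IsLocalRing (FSch.stalkSubring A J 𝔭) ∧ IsLocalHom (FSch.stalkSubring A J 𝔭).subtype := by
  have := isLocalRing_cAtPrime A J 𝔭 hJ
  have hloc : IsLocalHom (stalkSubring A J 𝔭).subtype := by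
    constructor
    rintro ⟨x, hx⟩ hu
    change IsUnit x at hu
    obtain ⟨f, hf, y, rfl⟩ := (mem_stalkSubring_iff A J 𝔭 x).mp hx
    obtain ⟨h, hh, w, hw⟩ := isUnit_in_stalk A J 𝔭 hJ f hf y hu
    have hmem : cAwayToAtPrime A J 𝔭 h hh w ∈ stalkSubring A J 𝔭 :=
      (mem_stalkSubring_iff A J 𝔭 _).mpr ⟨h, hh, w, rfl⟩
    exact IsUnit.of_mul_eq_one ⟨_, hmem⟩ (Subtype.ext hw)
  exact ⟨RingHom.domain_isLocalRing (stalkSubring A J 𝔭).subtype, hloc⟩

end Groth.Agent.S3869
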