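import Groth.Statements.S3871
import Mathlib
import Groth.Agent.Lib.Helper18.AdicUnit
import Groth.Agent.Lib.Helper18.FlatCrit
import Groth.Agent.S0543
import Groth.Agent.S3869

set_option autoImplicit false
universe u
open FCompl

namespace Groth.Agent.S3871

open FSch Groth.Agent.S3869

theorem complMap_of {S T : Type u} [CommRing S] [CommRing T] (I : Ideal S) (K : Ideal T)
    (g : S →+* T) (h : I.map g ≤ K) (s : S) :
    complMap I K g h (AdicCompletion.of I S s) = AdicCompletion.of K T (g s) := by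
  apply AdicCompletion.ext_evalₐ
  intro n
  rw [H18U.evalₐ_complMap, AdicCompletion.evalₐ_of, AdicCompletion.evalₐ_of, Ideal.quotientMap_mk]

theorem exists_sub_mem {R : Type u} [CommRing R] (I : Ideal R) (hfg : I.FG) (k : ℕ)
    (b : AdicCompletion I R) :
    ∃ r : R, b - algebraMap R (AdicCompletion I R) r ∈
      (I ^ k).map (algebraMap R (AdicCompletion I R)) := by
  obtain ⟨r, hr⟩ := Ideal.Quotient.mk_surjective (AdicCompletion.evalₐ I k b)
  refine ⟨r, ?_⟩
  have h0 : AdicCompletion.evalₐ I k (b - algebraMap R (AdicCompletion I R) r) = 0 := by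
    rw [map_sub, ← hr, AdicCompletion.algebraMap_apply, AdicCompletion.evalₐ_of]
    simp
  have h1 : AdicCompletion.eval I R k (b - algebraMap R (AdicCompletion I R) r) = 0 := by
    rw [← AdicCompletion.factor_evalₐ_eq_eval I _ (le_of_eq (by rw [smul_eq_mul, Ideal.mul_top])),
      h0, map_zero]
  have h2 : (b - algebraMap R (AdicCompletion I R) r) ∈
      (I ^ k • ⊤ : Submodule R (AdicCompletion I R)) := by
    rw [AdicCompletion.pow_smul_top_eq_ker_eval hfg]
    exact h1
  rw [← Submodule.restrictScalars_mem R, ← Ideal.smul_top_eq_map]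
  exact h2


section
variable (A : Type u) [CommRing A] [IsNoetherianRing A] (J : Ideal A) (𝔭 : Ideal A) [𝔭.IsPrime]

theorem flat_awayToAtPrime (f : A) (hf : f ∉ 𝔭) : (awayToAtPrime A 𝔭 f hf).Flat := by
  let := (awayToAtPrime A 𝔭 f hf).toAlgebra
  have : IsScalarTower A (Localization.Away f) (Localization.AtPrime 𝔭) :=
    IsScalarTower.of_algebraMap_eq (fun a => (awayToAtPrime_algebraMap A 𝔭 f hf a).symm)
  show Module.Flat (Localization.Away f) (Localization.AtPrime 𝔭)
  rw [Module.flat_iff_of_isLocalization (Localization.Away f) (Submonoid.powers f)]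
  infer_instance

theorem comp_eq (f : A) (hf : f ∉ 𝔭) :
    (cAwayToAtPrime A J 𝔭 f hf).comp (algebraMap (Localization.Away f) (cAway A J f)) =
      (algebraMap (Localization.AtPrime 𝔭) (cAtPrime A J 𝔭)).comp (awayToAtPrime A 𝔭 f hf) := by
  refine RingHom.ext (fun s => ?_)
  show cAwayToAtPrime A J 𝔭 f hf (AdicCompletion.of (J.map (algebraMap A (Localization.Away f)))
      (Localization.Away f) s) = AdicCompletion.of (J.map (algebraMap A (Localization.AtPrime 𝔭)))
      (Localization.AtPrime 𝔭) (awayToAtPrime A 𝔭 f hf s)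
  exact complMap_of _ _ _ _ s

theorem flat_comp (f : A) (hf : f ∉ 𝔭) :
    ((cAwayToAtPrime A J 𝔭 f hf).comp
      (algebraMap (Localization.Away f) (cAway A J f))).Flat := by
  rw [comp_eq]
  exact RingHom.Flat.comp (flat_awayToAtPrime A 𝔭 f hf)
    (RingHom.flat_algebraMap_iff.mpr inferInstance)

theorem map_le_jacobson (f : A) (hf : f ∉ 𝔭) :
    (J.map (algebraMap A (Localization.Away f))).map
      ((cAwayToAtPrime A J 𝔭 f hf).comp (algebraMap (Localization.Away f) (cAway A J f))) ≤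
      Ideal.jacobson ⊥ := by
  rw [comp_eq, ← Ideal.map_map]
  refine (Ideal.map_mono (map_awayToAtPrime_le A J 𝔭 f hf)).trans ?_
  have hfg : (J.map (algebraMap A (Localization.AtPrime 𝔭))).FG :=
    (isNoetherianRing_iff_ideal_fg _).mp inferInstance _
  have := AdicCompletion.isAdicComplete_self (J.map (algebraMap A (Localization.AtPrime 𝔭))) hfg
  exact IsAdicComplete.le_jacobson_bot _

theorem flat_cAwayToAtPrime (f : A) (hf : f ∉ 𝔭) : (cAwayToAtPrime A J 𝔭 f hf).Flat := by
  let : Algebra (cAway A J f) (cAtPrime A J 𝔭) := (cAwayToAtPrime A J 𝔭 f hf).toAlgebra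
  let : Algebra (Localization.Away f) (cAtPrime A J 𝔭) :=
    ((cAwayToAtPrime A J 𝔭 f hf).comp (algebraMap (Localization.Away f) (cAway A J f))).toAlgebra
  have : IsScalarTower (Localization.Away f) (cAway A J f) (cAtPrime A J 𝔭) :=
    IsScalarTower.of_algebraMap_eq (fun _ => rfl)
  have : IsNoetherianRing (cAway A J f) := Groth.Agent.S0543.result _ _
  have : IsNoetherianRing (cAtPrime A J 𝔭) := Groth.Agent.S0543.result _ _
  have : Module.Flat (Localization.Away f) (cAtPrime A J 𝔭) := flat_comp A J 𝔭 f hf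
  have hfg : (J.map (algebraMap A (Localization.Away f))).FG :=
    (isNoetherianRing_iff_ideal_fg _).mp inferInstance _
  exact H18Flat.flat_of_flat_of_adic (R := Localization.Away f) (B := cAway A J f)
    (M := cAtPrime A J 𝔭) (J.map (algebraMap A (Localization.Away f)))
    (map_le_jacobson A J 𝔭 f hf) (fun k b => exists_sub_mem _ hfg k b)


omit [IsNoetherianRing A] in
theorem exists_common (l : ℕ) (c : Fin l → stalkSubring A J 𝔭) :
    ∃ (g : A) (hg : g ∉ 𝔭), ∀ i, ∃ b : cAway A J g,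
      cAwayToAtPrime A J 𝔭 g hg b = (c i : cAtPrime A J 𝔭) := by
  have h1 : ∀ i, ∃ idx : {f : A // f ∉ 𝔭},
      (c i : cAtPrime A J 𝔭) ∈ (cAwayToAtPrime A J 𝔭 idx.1 idx.2).range := by
    intro i
    obtain ⟨f, hf, h⟩ := (mem_stalkSubring_iff A J 𝔭 _).mp (c i).2
    exact ⟨⟨f, hf⟩, h⟩
  choose idx hidx using h1
  classical
  have : Nonempty {f : A // f ∉ 𝔭} :=
    ⟨⟨1, fun h => Ideal.IsPrime.ne_top ‹_› ((Ideal.eq_top_iff_one _).mpr h)⟩⟩
  obtain ⟨z, hz⟩ := (directed_ranges A J 𝔭).finset_le (Finset.univ.image idx)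
  refine ⟨z.1, z.2, fun i => ?_⟩
  have := hz (idx i) (Finset.mem_image_of_mem _ (Finset.mem_univ i)) (hidx i)
  exact this

theorem flat_stalk : Module.Flat (stalkSubring A J 𝔭) (cAtPrime A J 𝔭) := by
  apply Module.Flat.of_forall_isTrivialRelation
  intro l c x hcx
  obtain ⟨g, hg, hmem⟩ := exists_common A J 𝔭 l c
  choose b hb using hmem
  let : Algebra (cAway A J g) (cAtPrime A J 𝔭) := (cAwayToAtPrime A J 𝔭 g hg).toAlgebra
  have : Module.Flat (cAway A J g) (cAtPrime A J 𝔭) := flat_cAwayToAtPrime A J 𝔭 g hg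
  have hsm : ∀ (β : cAway A J g) (m : cAtPrime A J 𝔭),
      β • m = cAwayToAtPrime A J 𝔭 g hg β * m := fun β m => rfl
  have hsm' : ∀ (γ : stalkSubring A J 𝔭) (m : cAtPrime A J 𝔭),
      γ • m = (γ : cAtPrime A J 𝔭) * m := fun γ m => rfl
  have hrel : ∑ i, b i • x i = 0 := by
    rw [← hcx]
    refine Finset.sum_congr rfl (fun i _ => ?_)
    rw [hsm, hsm', hb i]
  have key : Module.IsTrivialRelation b x := by
    apply Module.Flat.isTrivialRelation_of_sum_smul_eq_zero
    exact hrel
  obtain ⟨k, a, y, hxy, hay⟩ := key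
  refine ⟨k, fun i j => ⟨cAwayToAtPrime A J 𝔭 g hg (a i j),
    (mem_stalkSubring_iff A J 𝔭 _).mpr ⟨g, hg, _, rfl⟩⟩, y, ?_, ?_⟩
  · intro i
    rw [hxy i]
    refine Finset.sum_congr rfl (fun j _ => ?_)
    rw [hsm, hsm']
  · intro j
    apply Subtype.ext
    have := congrArg (cAwayToAtPrime A J 𝔭 g hg) (hay j)
    rw [map_sum, map_zero] at this
    rw [Subring.coe_zero, ← this, AddSubmonoidClass.coe_finset_sum]
    refine Finset.sum_congr rfl (fun i _ => ?_)
    rw [Subring.coe_mul, map_mul, hb i]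

end

/-- Let A be a ring, J an ideal of A and 𝔭 a prime ideal of A, S = A ∖ 𝔭. Write A{S⁻¹} for the
completion of A_𝔭 for the J-adic topology, A_{f} for the completion of A_f for the J-adic topology,
and A_{S} for the subring of A{S⁻¹} which is the union of the images of the A_{f}, f ∉ 𝔭. If A is
Noetherian and J ⊆ 𝔭, then A{S⁻¹} is a faithfully flat module over A_{S}. -/
theorem result (A : Type u) [CommRing A] [IsNoetherianRing A]
    (J : Ideal A) (𝔭 : Ideal A) [𝔭.IsPrime] (hJ : J ≤ 𝔭) :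
    Module.FaithfullyFlat (FSch.stalkSubring A J 𝔭) (FSch.cAtPrime A J 𝔭) := by
  obtain ⟨hloc, hhom⟩ := Groth.Agent.S3869.result A J 𝔭 hJ
  have := hloc
  have := isLocalRing_cAtPrime A J 𝔭 hJ
  have : IsLocalHom (algebraMap (stalkSubring A J 𝔭) (cAtPrime A J 𝔭)) := hhom
  have := flat_stalk A J 𝔭
  exact Module.FaithfullyFlat.of_flat_of_isLocalHom

end Groth.Agent.S3871
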