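import Groth.Statements.S4358
import Mathlib
import Groth.Agent.S3871

set_option autoImplicit false
universe u
open FCompl

namespace Groth.Agent.S4358

open FSch TensorProduct

theorem flat_of_faithfullyFlat_of_flat {A C M : Type u} [CommRing A] [CommRing C] [CommRing M]
    [Algebra A C] [Algebra C M] [Algebra A M] [IsScalarTower A C M]
    [Module.FaithfullyFlat C M] [Module.Flat A M] : Module.Flat A C := by
  rw [Module.Flat.iff_lTensor_injective']
  intro I
  let g : C ⊗[A] I →ₗ[C] C ⊗[A] A := TensorProduct.AlgebraTensorModule.lTensor C C I.subtype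
  have hg : Function.Injective g := by
    rw [← Module.FaithfullyFlat.lTensor_injective_iff_injective C M g]
    let e₁ := TensorProduct.AlgebraTensorModule.cancelBaseChange A C C M I
    let e₂ := TensorProduct.AlgebraTensorModule.cancelBaseChange A C C M A
    have hsq : ∀ x, e₂ (g.lTensor M x) = (I.subtype.lTensor M) (e₁ x) := by
      intro x
      induction x with
      | zero => simp
      | add x y hx hy => simp only [map_add, hx, hy]
      | tmul m y =>
        induction y with
        | zero => simp
        | add y z hy hz => simp only [tmul_add, map_add, hy, hz]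
        | tmul c i => simp [g, e₁, e₂]
    have hinj := Module.Flat.lTensor_preserves_injective_linearMap (M := M) I.subtype
      Subtype.val_injective
    intro x y hxy
    apply e₁.injective
    apply hinj
    rw [← hsq, ← hsq, hxy]
  exact hg

/-- Affine content (the completion of X = Spec A along V(J) has as stalk ring at an open prime 𝔭 the
ring A_{S}, S = A ∖ 𝔭, realised here as the union of the images of the completed rings A_{f}, f ∉ 𝔭,
inside the completed local ring A{S⁻¹}; flatness of the canonical morphism of ringed spaces from the
completion to X is flatness of A_{S} over the local ring of X at 𝔭, equivalently over A). For A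
Noetherian and J ⊆ 𝔭, the canonical ring map A → A_{S} is flat; the hypothesis h records that A →
A{S⁻¹} takes values in A_{S}, which always holds. -/
theorem result
    (A : Type u) [CommRing A] [IsNoetherianRing A] (J 𝔭 : Ideal A) [𝔭.IsPrime] (hJ : J ≤ 𝔭)
    (h : ∀ a : A, ((algebraMap (Localization.AtPrime 𝔭) (FSch.cAtPrime A J 𝔭)).comp
      (algebraMap A (Localization.AtPrime 𝔭))) a ∈ FSch.stalkSubring A J 𝔭) :
    (((algebraMap (Localization.AtPrime 𝔭) (FSch.cAtPrime A J 𝔭)).comp
      (algebraMap A (Localization.AtPrime 𝔭))).codRestrict (FSch.stalkSubring A J 𝔭) h).Flat := by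
  let : Algebra A (stalkSubring A J 𝔭) :=
    (((algebraMap (Localization.AtPrime 𝔭) (FSch.cAtPrime A J 𝔭)).comp
      (algebraMap A (Localization.AtPrime 𝔭))).codRestrict (FSch.stalkSubring A J 𝔭) h).toAlgebra
  have : IsScalarTower A (stalkSubring A J 𝔭) (cAtPrime A J 𝔭) :=
    IsScalarTower.of_algebraMap_eq (fun a => rfl)
  have := Groth.Agent.S3871.result A J 𝔭 hJ
  have : Module.Flat A (cAtPrime A J 𝔭) := Module.Flat.trans A (Localization.AtPrime 𝔭) _
  show Module.Flat A (stalkSubring A J 𝔭)
  exact flat_of_faithfullyFlat_of_flat (M := cAtPrime A J 𝔭)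

end Groth.Agent.S4358
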