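import Groth.Statements.S4713
import Groth.Agent.Lib.Helper24.ClosedPoint
-- import your own Groth.Agent.* helpers here

set_option autoImplicit false
universe u
open EGA4

namespace Groth.Agent.S4713

open AlgebraicGeometry in
/-- A point all of whose specializations are equal to it is closed. -/
theorem isClosed_singleton_of_forall_specializes {T : Type*} [TopologicalSpace T] (x : T)
    (h : ∀ y, x ⤳ y → y = x) : IsClosed ({x} : Set T) := by
  rw [← closure_subset_iff_isClosed]
  intro y hy
  rw [← specializes_iff_mem_closure] at hy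
  exact h y hy

open AlgebraicGeometry in
/-- Key step: in a locally Noetherian scheme, if `x` is a closed point of the open `U`, `x ⤳ x'`,
`x' ⤳ x''` with `x ≠ x'` and `x' ≠ x''`, contradiction. -/
theorem key (X : Scheme.{u}) [IsLocallyNoetherian X] (U : X.Opens) (x x' x'' : X) (hxU : x ∈ U)
    (hx : ∀ y ∈ U, x ⤳ y → y = x) (h01 : x ⤳ x') (h12 : x' ⤳ x'') (hne01 : x ≠ x')
    (hne12 : x' ≠ x'') : False := by
  obtain ⟨W, hW, hx''W, -⟩ := exists_isAffineOpen_mem_and_subset (X := X) (x := x'') (U := ⊤) trivial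
  have hx'W : x' ∈ W := h12.mem_open W.2 hx''W
  have hxW : x ∈ W := h01.mem_open W.2 hx'W
  haveI : IsNoetherianRing Γ(X, W) := IsLocallyNoetherian.component_noetherian ⟨W, hW⟩
  have hemb : Topology.IsOpenEmbedding hW.fromSpec := hW.fromSpec.isOpenEmbedding
  have hrange : Set.range hW.fromSpec = W := hW.range_fromSpec
  obtain ⟨p0, hp0⟩ : ∃ p0 : PrimeSpectrum Γ(X, W), hW.fromSpec p0 = x := by
    have : x ∈ Set.range hW.fromSpec := by rw [hrange]; exact hxW
    exact this
  obtain ⟨p1, hp1⟩ : ∃ p1 : PrimeSpectrum Γ(X, W), hW.fromSpec p1 = x' := by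
    have : x' ∈ Set.range hW.fromSpec := by rw [hrange]; exact hx'W
    exact this
  obtain ⟨p2, hp2⟩ : ∃ p2 : PrimeSpectrum Γ(X, W), hW.fromSpec p2 = x'' := by
    have : x'' ∈ Set.range hW.fromSpec := by rw [hrange]; exact hx''W
    exact this
  have h01' : p0 < p1 := by
    refine lt_of_le_of_ne ?_ ?_
    · rw [PrimeSpectrum.le_iff_specializes]
      refine (hemb.toIsInducing.specializes_iff (x := p0) (y := p1)).mp ?_
      rw [hp0, hp1]
      exact h01
    · rintro rfl
      exact hne01 (hp0.symm.trans hp1)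
  have h12' : p1 < p2 := by
    refine lt_of_le_of_ne ?_ ?_
    · rw [PrimeSpectrum.le_iff_specializes]
      refine (hemb.toIsInducing.specializes_iff (x := p1) (y := p2)).mp ?_
      rw [hp1, hp2]
      exact h12
    · rintro rfl
      exact hne12 (hp1.symm.trans hp2)
  refine Groth.Agent.Lib.Helper24.ClosedPoint.no_isolated_generic Γ(X, W) p0 p1 p2 h01' h12'
    (hW.fromSpec ⁻¹' (U : Set X)) (U.2.preimage hemb.continuous) ?_ ?_
  · change hW.fromSpec p0 ∈ U
    rw [hp0]; exact hxU
  · intro q hqU hq
    apply hemb.injective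
    rw [hp0]
    apply hx _ hqU
    rw [← hp0]
    rw [PrimeSpectrum.le_iff_specializes] at hq
    exact Specializes.map (f := hW.fromSpec) hq hemb.continuous

open AlgebraicGeometry in
/-- In a locally Noetherian scheme X, every nonempty closed subset contains a closed point of X. -/
theorem result (X : Scheme.{u}) [IsLocallyNoetherian X]
    (Z : Set X) (hZ : IsClosed Z) (hne : Z.Nonempty) : ∃ x ∈ Z, IsClosed ({x} : Set X) := by
  obtain ⟨z, hz⟩ := hne
  obtain ⟨U, hU, hzU, -⟩ := exists_isAffineOpen_mem_and_subset (X := X) (x := z) (U := ⊤) trivial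
  haveI : CompactSpace (U : Set X) := isCompact_iff_compactSpace.mp hU.isCompact
  haveI : T0Space (U : Set X) := inferInstance
  obtain ⟨x, hxZ, hxcl⟩ := IsClosed.exists_closed_singleton
    (X := (U : Set X)) (S := (Subtype.val ⁻¹' Z : Set (U : Set X))) (hZ.preimage continuous_subtype_val) ⟨⟨z, hzU⟩, hz⟩
  have hx : ∀ y ∈ U, (x : X) ⤳ y → y = x := by
    intro y hy hxy
    have : x ⤳ (⟨y, hy⟩ : (U : Set X)) := by
      rw [← Topology.IsInducing.subtypeVal.specializes_iff]
      exact hxy
    have hmem := this.mem_closed hxcl (Set.mem_singleton x)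
    rw [Set.mem_singleton_iff] at hmem
    exact congrArg Subtype.val hmem
  by_cases hcl : IsClosed ({(x : X)} : Set X)
  · exact ⟨x, hxZ, hcl⟩
  · have : ∃ x' : X, (x : X) ⤳ x' ∧ x' ≠ x := by
      by_contra hcon
      push Not at hcon
      exact hcl (isClosed_singleton_of_forall_specializes _ hcon)
    obtain ⟨x', hxx', hne'⟩ := this
    refine ⟨x', hxx'.mem_closed hZ hxZ, isClosed_singleton_of_forall_specializes _ ?_⟩
    intro x'' hx'x''
    by_contra hne''
    exact key X U x x' x'' x.2 hx hxx' hx'x'' (Ne.symm hne') (Ne.symm hne'')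

end Groth.Agent.S4713
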