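import Groth.Statements.S9808
import Groth.Agent.S4713
import Groth.Agent.Lib.Helper24.HensDepth
import Groth.Agent.Lib.Helper26.CM4
-- import your own Groth.Agent.* helpers here

set_option autoImplicit false
universe u
open CategoryTheory AlgebraicGeometry TopologicalSpace
open Props

namespace Groth.Agent.S9808

/-- Cohen–Macaulayness is invariant under ring isomorphisms. -/
theorem cm_of_ringEquiv {R S : Type u} [CommRing R] [CommRing S] (e : R ≃+* S)
    [h : LocCoh.IsCohenMacaulayLocalRing R] : LocCoh.IsCohenMacaulayLocalRing S := by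
  haveI : IsNoetherianRing S := isNoetherianRing_of_ringEquiv R e
  haveI : IsLocalRing S := e.isLocalRing
  letI : Algebra R S := e.toRingHom.toAlgebra
  have halg : ⇑(algebraMap R S) = e := rfl
  haveI : IsLocalHom (algebraMap R S) := by
    constructor
    intro a ha
    have : IsUnit (e a) := ha
    exact (isUnit_map_iff e a).mp this
  haveI : Module.Flat R S :=
    Module.Flat.of_linearEquiv
      (LinearEquiv.ofBijective (Algebra.linearMap R S) e.bijective).symm
  have hm : (IsLocalRing.maximalIdeal R).map (algebraMap R S) = IsLocalRing.maximalIdeal S := by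
    have hmax : ((IsLocalRing.maximalIdeal R).map (algebraMap R S)).IsMaximal :=
      (Ideal.isMaximal_map_iff_of_bijective (algebraMap R S) e.bijective).2 inferInstance
    exact IsLocalRing.eq_maximalIdeal hmax
  have hdepth := Groth.Agent.Lib.Helper24.DepthFlat.depth_eq_of_flat R S hm
  have hdim : ringKrullDim S = ringKrullDim R := (ringKrullDim_eq_of_ringEquiv e).symm
  exact (Groth.Agent.Lib.Helper24.HensDepth.cm_iff R S hdim hdepth).2 h

/-- Localizations of a Cohen–Macaulay local ring at primes are Cohen–Macaulay. -/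
theorem cm_localization (A : Type u) [CommRing A] [h : LocCoh.IsCohenMacaulayLocalRing A]
    (p : Ideal A) [hp : p.IsPrime] : LocCoh.IsCohenMacaulayLocalRing (Localization.AtPrime p) := by
  have hM : LocCoh.IsCohenMacaulayModule A A := h.supportDim_eq_depth
  have hsupp : (⟨p, hp⟩ : PrimeSpectrum A) ∈ Module.support A A := by
    rw [Module.mem_support_iff]
    change Nontrivial (Localization.AtPrime p)
    infer_instance
  have := (Groth.Agent.Lib.helper26.Depth.isCohenMacaulayModule_localization A hM ⟨p, hp⟩ hsupp).1
  exact { supportDim_eq_depth := this }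

/-- Cohen–Macaulayness of localizations passes to smaller primes. -/
theorem cm_atPrime_of_le (R : Type u) [CommRing R] (p q : Ideal R) [p.IsPrime]
    [q.IsPrime] (hqp : q ≤ p) [LocCoh.IsCohenMacaulayLocalRing (Localization.AtPrime p)] :
    LocCoh.IsCohenMacaulayLocalRing (Localization.AtPrime q) := by
  have hdisj : Disjoint (p.primeCompl : Set R) (q : Set R) := by
    rw [Set.disjoint_left]
    intro a ha hq
    exact ha (hqp hq)
  let q' : Ideal (Localization.AtPrime p) := q.map (algebraMap R (Localization.AtPrime p))
  haveI hq' : q'.IsPrime :=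
    IsLocalization.isPrime_of_isPrime_disjoint _ (Localization.AtPrime p) q inferInstance hdisj
  have hq'c : q'.comap (algebraMap R (Localization.AtPrime p)) = q :=
    IsLocalization.under_map_of_isPrime_disjoint _ (Localization.AtPrime p) inferInstance hdisj
  haveI h1 : IsLocalization.AtPrime (Localization.AtPrime q')
      (q'.comap (algebraMap R (Localization.AtPrime p))) :=
    IsLocalization.isLocalization_isLocalization_atPrime_isLocalization p.primeCompl
      (Localization.AtPrime q') q'
  haveI hreg : LocCoh.IsCohenMacaulayLocalRing (Localization.AtPrime q') :=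
    cm_localization (Localization.AtPrime p) q'
  have aux : ∀ (q₀ : Ideal R) [q₀.IsPrime], q₀ = q →
      IsLocalization.AtPrime (Localization.AtPrime q') q₀ →
      LocCoh.IsCohenMacaulayLocalRing (Localization.AtPrime q) := by
    intro q₀ _ h0 hloc
    subst h0
    let e : Localization.AtPrime q₀ ≃ₐ[R] Localization.AtPrime q' :=
      IsLocalization.algEquiv q₀.primeCompl _ _
    exact cm_of_ringEquiv e.symm.toRingEquiv
  exact aux _ hq'c h1

/-- A locally Noetherian scheme is Cohen-Macaulay (all local rings Cohen-Macaulay) as soon as its local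
rings at closed points are Cohen-Macaulay, and conversely. -/
theorem result (X : Scheme.{u}) [IsLocallyNoetherian X] :
    (∀ x : X, LocCoh.IsCohenMacaulayLocalRing (X.presheaf.stalk x)) ↔
      ∀ x : X, IsClosed ({x} : Set X) → LocCoh.IsCohenMacaulayLocalRing (X.presheaf.stalk x) := by
  constructor
  · intro h x _
    exact h x
  · intro h x
    obtain ⟨x0, hx0, hx0cl⟩ := Groth.Agent.S4713.result X (closure {x}) isClosed_closure
      ⟨x, subset_closure (Set.mem_singleton x)⟩
    have hspec : x ⤳ x0 := specializes_iff_mem_closure.mpr hx0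
    obtain ⟨W, hW, hx0W, -⟩ :=
      exists_isAffineOpen_mem_and_subset (X := X) (x := x0) (U := ⊤) trivial
    have hxW : x ∈ W := hspec.mem_open W.2 hx0W
    let q : Ideal Γ(X, W) := (hW.primeIdealOf ⟨x, hxW⟩).asIdeal
    let p : Ideal Γ(X, W) := (hW.primeIdealOf ⟨x0, hx0W⟩).asIdeal
    have hqp : q ≤ p := by
      change hW.primeIdealOf ⟨x, hxW⟩ ≤ hW.primeIdealOf ⟨x0, hx0W⟩
      rw [PrimeSpectrum.le_iff_specializes]
      have hemb : Topology.IsOpenEmbedding hW.fromSpec := hW.fromSpec.isOpenEmbedding
      refine (hemb.toIsInducing.specializes_iff (x := hW.primeIdealOf ⟨x, hxW⟩)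
        (y := hW.primeIdealOf ⟨x0, hx0W⟩)).mp ?_
      rw [hW.fromSpec_primeIdealOf, hW.fromSpec_primeIdealOf]
      exact hspec
    letI := X.presheaf.algebra_section_stalk (⟨x, hxW⟩ : W)
    letI := X.presheaf.algebra_section_stalk (⟨x0, hx0W⟩ : W)
    haveI iq : IsLocalization.AtPrime (X.presheaf.stalk x) q := hW.isLocalization_stalk ⟨x, hxW⟩
    haveI ip : IsLocalization.AtPrime (X.presheaf.stalk x0) p :=
      hW.isLocalization_stalk ⟨x0, hx0W⟩
    let eq : Localization.AtPrime q ≃ₐ[Γ(X, W)] X.presheaf.stalk x :=
      IsLocalization.algEquiv q.primeCompl _ _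
    let ep : Localization.AtPrime p ≃ₐ[Γ(X, W)] X.presheaf.stalk x0 :=
      IsLocalization.algEquiv p.primeCompl _ _
    haveI : LocCoh.IsCohenMacaulayLocalRing (X.presheaf.stalk x0) := h x0 hx0cl
    haveI : LocCoh.IsCohenMacaulayLocalRing (Localization.AtPrime p) :=
      cm_of_ringEquiv ep.symm.toRingEquiv
    haveI : LocCoh.IsCohenMacaulayLocalRing (Localization.AtPrime q) :=
      cm_atPrime_of_le Γ(X, W) p q hqp
    exact cm_of_ringEquiv eq.toRingEquiv

end Groth.Agent.S9808
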