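import Groth.Statements.S0564
import Mathlib
import Groth.Agent.Lib.Helper26.SerreConverse
import Groth.Agent.Lib.Helper26.ProjDimBaseChange

set_option autoImplicit false
universe u
open CAlg

namespace Groth.Agent.S0564

/-- The localization of a regular local ring at any prime ideal is a regular local ring. -/
theorem result (R : Type u) [CommRing R]
    [IsRegularLocalRing R] (p : Ideal R) [p.IsPrime] :
    IsRegularLocalRing (Localization.AtPrime p) := by
  open CategoryTheory in
  let B := Localization.AtPrime p
  have hpd : HasProjectiveDimensionLE (ModuleCat.of R (R ⧸ p))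
      (IsLocalRing.maximalIdeal R).spanFinrank :=
    Groth.Agent.Lib.helper26.PDReg.hasProjectiveDimensionLE_of_isRegularLocalRing _ R rfl (R ⧸ p)
  have h1 := Groth.Agent.Lib.helper26.PDBC.hasProjectiveDimensionLE_baseChange R B _ (R ⧸ p) hpd
  have e1 : (B ⧸ (p.map (algebraMap R B))) ≃ₗ[B] TensorProduct R B (R ⧸ p) :=
    (Algebra.TensorProduct.quotIdealMapEquivTensorQuot B p).toLinearEquiv
  have hmap : p.map (algebraMap R B) = IsLocalRing.maximalIdeal B :=
    Localization.AtPrime.map_eq_maximalIdeal
  have e2 : (B ⧸ (p.map (algebraMap R B))) ≃ₗ[B] (B ⧸ IsLocalRing.maximalIdeal B) :=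
    Submodule.quotEquivOfEq _ _ hmap
  have e : TensorProduct R B (R ⧸ p) ≃ₗ[B] IsLocalRing.ResidueField B := e1.symm.trans e2
  have h2 : HasProjectiveDimensionLE (ModuleCat.of B (IsLocalRing.ResidueField B))
      (IsLocalRing.maximalIdeal R).spanFinrank :=
    ModuleCat.hasProjectiveDimensionLE_of_linearEquiv
      (M := ModuleCat.of B (TensorProduct R B (R ⧸ p)))
      (N := ModuleCat.of B (IsLocalRing.ResidueField B)) e _
  exact Groth.Agent.Lib.helper26.SerreConv.isRegularLocalRing_of_hasProjectiveDimensionLT B _ h2


end Groth.Agent.S0564
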