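import Groth.Statements.S0602
import Mathlib

set_option autoImplicit false
universe u
open CAlg

namespace Groth.Agent.S0602

section depthlemmas
variable {R : Type*} [CommRing R]

theorem smul_top_iff (I : Ideal R) {M N : Type*} [AddCommGroup M] [Module R M]
    [AddCommGroup N] [Module R N] (e : M ≃ₗ[R] N) :
    I • (⊤ : Submodule R M) = ⊤ → I • (⊤ : Submodule R N) = ⊤ := by
  intro h
  have h1 : Submodule.map e.toLinearMap (I • (⊤ : Submodule R M)) = I • Submodule.map e.toLinearMap ⊤ :=
    Submodule.map_smul'' _ _ _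
  rw [h, Submodule.map_top, LinearEquiv.range] at h1
  exact h1.symm

theorem idealDepth_congr (I : Ideal R) {M N : Type*} [AddCommGroup M] [Module R M]
    [AddCommGroup N] [Module R N] (e : M ≃ₗ[R] N) :
    LocCoh.idealDepth I M = LocCoh.idealDepth I N := by
  unfold LocCoh.idealDepth
  have hc : (I • (⊤ : Submodule R M) = ⊤) ↔ (I • (⊤ : Submodule R N) = ⊤) :=
    ⟨smul_top_iff I e, smul_top_iff I e.symm⟩
  by_cases h : I • (⊤ : Submodule R M) = ⊤
  · rw [if_pos h, if_pos (hc.1 h)]
  · rw [if_neg h, if_neg (fun h' => h (hc.2 h'))]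
    simp only [e.isWeaklyRegular_congr]

/-- a regular element of `I` gives depth ≥ 1 -/
theorem one_le_idealDepth (I : Ideal R) (r : R) (hr : r ∈ I) (hreg : IsSMulRegular R r) :
    1 ≤ LocCoh.idealDepth I R := by
  unfold LocCoh.idealDepth
  split_ifs with h
  · exact le_top
  · refine le_trans ?_ (le_iSup₂ (f := fun (rs : List R) (_ : RingTheory.Sequence.IsWeaklyRegular R rs ∧ ∀ r ∈ rs, r ∈ I) => (rs.length : ℕ∞)) [r] ⟨?_, ?_⟩)
    · simp
    · rw [RingTheory.Sequence.isWeaklyRegular_singleton_iff]; exact hreg
    · simpa using hr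

theorem idealDepth_eq_zero (I : Ideal R) (hI : I ≠ ⊤) (h : ∀ r ∈ I, ¬ IsSMulRegular R r) :
    LocCoh.idealDepth I R = 0 := by
  unfold LocCoh.idealDepth
  rw [if_neg (by simpa using hI)]
  apply le_antisymm _ zero_le
  apply iSup₂_le
  rintro rs ⟨h1, h2⟩
  cases rs with
  | nil => simp
  | cons r rs =>
    exfalso
    rw [RingTheory.Sequence.isWeaklyRegular_cons_iff] at h1
    exact h r (h2 r (by simp)) h1.1

end depthlemmas

section loc
variable (R : Type u) [CommRing R] (p : Ideal R) [p.IsPrime]

noncomputable def eAM :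
    Localization.AtPrime p ≃ₗ[Localization.AtPrime p] LocalizedModule p.primeCompl R :=
  (IsLocalizedModule.linearEquiv p.primeCompl (Algebra.linearMap R (Localization.AtPrime p))
    (LocalizedModule.mkLinearMap p.primeCompl R)).extendScalarsOfIsLocalization p.primeCompl
      (Localization.AtPrime p)

theorem depth_eq : LocCoh.depth (Localization.AtPrime p) (LocalizedModule p.primeCompl R) =
    LocCoh.idealDepth (IsLocalRing.maximalIdeal (Localization.AtPrime p)) (Localization.AtPrime p) :=
  (idealDepth_congr _ (eAM R p)).symm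

theorem supportDim_eq :
    Module.supportDim (Localization.AtPrime p) (LocalizedModule p.primeCompl R) =
      ringKrullDim (Localization.AtPrime p) := by
  rw [← Module.supportDim_eq_of_equiv (eAM R p), Module.supportDim_self_eq_ringKrullDim]

end loc

section localrings
variable {A : Type*} [CommRing A] [IsLocalRing A]

theorem regular_of_maxIdeal_eq_bot [IsNoetherianRing A] (h : IsLocalRing.maximalIdeal A = ⊥) :
    IsRegularLocalRing A := by
  apply IsRegularLocalRing.of_spanFinrank_maximalIdeal_le
  rw [h, Submodule.spanFinrank_bot]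
  have := ringKrullDim_eq_zero_of_isField (IsLocalRing.isField_iff_maximalIdeal_eq.2 h)
  rw [this]
  rfl

theorem krullDim_of_maxIdeal_eq_bot (h : IsLocalRing.maximalIdeal A = ⊥) : ringKrullDim A = 0 :=
  ringKrullDim_eq_zero_of_isField (IsLocalRing.isField_iff_maximalIdeal_eq.2 h)

theorem maxIdeal_eq_bot_of_reduced_of_dim [IsReduced A] (h : ringKrullDim A ≤ 0) :
    IsLocalRing.maximalIdeal A = ⊥ := by
  have : Ring.KrullDimLE 0 A := (Ring.krullDimLE_iff ..).2 (by simpa using h)
  exact IsLocalRing.isField_iff_maximalIdeal_eq.1 Ring.KrullDimLE.isField_of_isReduced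

theorem maxIdeal_eq_bot_of_regular_of_dim [IsRegularLocalRing A] (h : ringKrullDim A ≤ 0) :
    IsLocalRing.maximalIdeal A = ⊥ := by
  have h1 := IsRegularLocalRing.spanFinrank_maximalIdeal (R := A)
  rw [← h1] at h
  have h2 : (IsLocalRing.maximalIdeal A).spanFinrank = 0 := by
    have : ((IsLocalRing.maximalIdeal A).spanFinrank : WithBot ℕ∞) ≤ ((0 : ℕ) : WithBot ℕ∞) := by simpa using h
    exact Nat.le_zero.1 (by exact_mod_cast this)
  exact (Submodule.spanFinrank_eq_zero_iff_eq_bot (IsNoetherian.noetherian _)).1 h2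

theorem maxIdeal_eq_bot_of_no_regular [IsNoetherianRing A] [IsReduced A]
    (h : ∀ r ∈ IsLocalRing.maximalIdeal A, ¬ IsSMulRegular A r) :
    IsLocalRing.maximalIdeal A = ⊥ := by
  have hd : Disjoint (IsLocalRing.maximalIdeal A : Set A) (nonZeroDivisors A) := by
    rw [Set.disjoint_left]
    intro r hr hr'
    apply h r hr
    exact ((isRegular_iff_mem_nonZeroDivisors).2 hr').left.isSMulRegular
  have := Ideal.bot_lt_annihilator_of_disjoint_nonZeroDivisors hd
  obtain ⟨y, hy, hy0⟩ := SetLike.exists_of_lt this
  rw [Module.mem_annihilator] at hy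
  have hy0' : y ≠ 0 := fun h0 => hy0 (by simp [h0])
  have hyu : IsUnit y := by
    by_contra hnu
    have hym : y ∈ IsLocalRing.maximalIdeal A := (IsLocalRing.mem_maximalIdeal y).2 hnu
    have h2 := hy ⟨y, hym⟩
    have h3 : y * y = 0 := by
      have := congrArg Subtype.val h2
      simpa using this
    exact hy0' (IsReduced.eq_zero y ⟨2, by rw [pow_two, h3]⟩)
  rw [eq_bot_iff]
  intro x hx
  have h2 := hy ⟨x, hx⟩
  have h3 : y * x = 0 := by
    have := congrArg Subtype.val h2
    simpa using this
  simpa using (hyu.mul_right_eq_zero).1 h3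

end localrings

section main
variable (R : Type u) [CommRing R] [IsNoetherianRing R]

theorem forward [IsReduced R] : LocCoh.HasRk 0 R ∧ LocCoh.HasSk 1 R R := by
  constructor
  · intro p hp hht
    have hdim : ringKrullDim (Localization.AtPrime p) ≤ 0 := by
      rw [IsLocalization.AtPrime.ringKrullDim_eq_height p (Localization.AtPrime p)]
      exact_mod_cast hht
    exact regular_of_maxIdeal_eq_bot (maxIdeal_eq_bot_of_reduced_of_dim hdim)
  · intro p hp
    rw [depth_eq, supportDim_eq]
    by_cases h : ∃ r ∈ IsLocalRing.maximalIdeal (Localization.AtPrime p),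
        IsSMulRegular (Localization.AtPrime p) r
    · obtain ⟨r, hr, hreg⟩ := h
      have := one_le_idealDepth _ r hr hreg
      refine (min_le_left _ _).trans ?_
      exact_mod_cast this
    · push Not at h
      have := krullDim_of_maxIdeal_eq_bot (maxIdeal_eq_bot_of_no_regular h)
      refine (min_le_right _ _).trans ?_
      rw [this]
      exact_mod_cast zero_le

theorem backward (hR0 : LocCoh.HasRk 0 R) (hS1 : LocCoh.HasSk 1 R R) : IsReduced R := by
  constructor
  intro x hxn
  by_contra hx
  obtain ⟨P, hP, hle⟩ := exists_le_isAssociatedPrime_of_isNoetherianRing R x hx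
  rw [isAssociatedPrime_iff] at hP
  obtain ⟨hPprime, y, hPy⟩ := hP
  have hmemP : ∀ a : R, a ∈ P ↔ a * y = 0 := by
    intro a
    rw [hPy, Submodule.mem_colon_singleton]
    simp
  -- notation
  have hy0 : algebraMap R (Localization.AtPrime P) y ≠ 0 := by
    intro h0
    rw [IsLocalization.map_eq_zero_iff P.primeCompl] at h0
    obtain ⟨s, hs⟩ := h0
    exact s.2 ((hmemP s).2 hs)
  have hmle : IsLocalRing.maximalIdeal (Localization.AtPrime P) ≤
      (⊥ : Submodule (Localization.AtPrime P) (Localization.AtPrime P)).colon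
        {algebraMap R (Localization.AtPrime P) y} := by
    rw [← Localization.AtPrime.map_eq_maximalIdeal, Ideal.map_le_iff_le_comap]
    intro a ha
    rw [Ideal.mem_comap, Submodule.mem_colon_singleton]
    have := (hmemP a).1 ha
    simp only [smul_eq_mul, Submodule.mem_bot]
    rw [← map_mul, this, map_zero]
  have hnoreg : ∀ r ∈ IsLocalRing.maximalIdeal (Localization.AtPrime P),
      ¬ IsSMulRegular (Localization.AtPrime P) r := by
    intro r hr hreg
    have h1 := hmle hr
    rw [Submodule.mem_colon_singleton] at h1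
    simp only [smul_eq_mul, Submodule.mem_bot] at h1
    apply hy0
    apply hreg
    simpa using h1
  have hdepth := idealDepth_eq_zero (IsLocalRing.maximalIdeal (Localization.AtPrime P))
    (Ideal.IsPrime.ne_top inferInstance) hnoreg
  have hS := hS1 P
  rw [depth_eq, supportDim_eq, hdepth] at hS
  have hdim : ringKrullDim (Localization.AtPrime P) ≤ 0 := by
    rcases min_le_iff.1 hS with h | h
    · exfalso
      have : ((1 : ℕ∞) : WithBot ℕ∞) ≤ ((0 : ℕ∞) : WithBot ℕ∞) := by exact_mod_cast h
      have : (1 : ℕ∞) ≤ 0 := by exact_mod_cast this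
      simp at this
    · exact_mod_cast h
  have hht : P.height ≤ (0 : ℕ) := by
    rw [IsLocalization.AtPrime.ringKrullDim_eq_height P (Localization.AtPrime P)] at hdim
    exact_mod_cast hdim
  have hreg := hR0 P hht
  have hm := maxIdeal_eq_bot_of_regular_of_dim hdim
  have hxm : algebraMap R (Localization.AtPrime P) x ∈ IsLocalRing.maximalIdeal (Localization.AtPrime P) := by
    obtain ⟨n, hn⟩ := hxn
    apply Ideal.IsPrime.mem_of_pow_mem inferInstance n
    rw [← map_pow, hn, map_zero]
    exact Ideal.zero_mem _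
  rw [hm, Ideal.mem_bot, IsLocalization.map_eq_zero_iff P.primeCompl] at hxm
  obtain ⟨s, hs⟩ := hxm
  apply s.2
  apply hle
  rw [Submodule.mem_colon_singleton]
  simpa using hs

end main



/-- A Noetherian ring is reduced exactly when it satisfies the conditions R₀ and S₁. -/
theorem result (R : Type u) [CommRing R] [IsNoetherianRing R] :
    IsReduced R ↔ (LocCoh.HasRk 0 R ∧ LocCoh.HasSk 1 R R) := by
  exact ⟨fun _ => forward R, fun h => backward R h.1 h.2⟩

end Groth.Agent.S0602
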