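import Groth.Statements.S9124
import Mathlib
import Groth.Agent.Lib.Helper28.Catenary
-- import your own Groth.Agent.* helpers here

set_option autoImplicit false
universe u
open CAlg

namespace Groth.Agent.S9124

/-- A localization of a catenary ring is catenary. -/
theorem result (A : Type u) [CommRing A] (S : Submonoid A)
    (B : Type u) [CommRing B] [Algebra A B] [IsLocalization S B]
    (hA : CAlg.IsCatenary A) : CAlg.IsCatenary B := by
  rw [Groth.Agent.Lib.helper28.isCatenary_iff_orderCat] at hA ⊢
  let e : PrimeSpectrum B ↪o PrimeSpectrum A :=
    OrderEmbedding.ofMapLEIff (PrimeSpectrum.comap (algebraMap A B)) (by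
      intro p q
      constructor
      · intro h
        have h' : p.asIdeal.comap (algebraMap A B) ≤ q.asIdeal.comap (algebraMap A B) := h
        have := Ideal.map_mono (f := algebraMap A B) h'
        rw [IsLocalization.map_comap S B, IsLocalization.map_comap S B] at this
        exact this
      · intro h
        exact Ideal.comap_mono (f := algebraMap A B) h)
  refine Groth.Agent.Lib.helper28.OrderCat.of_embedding e ?_ hA
  have hrange : Set.range e = {p : PrimeSpectrum A | Disjoint (S : Set A) (p.asIdeal : Set A)} :=
    PrimeSpectrum.localization_comap_range B S
  rw [hrange]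
  apply IsLowerSet.ordConnected
  intro p q hqp hp
  exact Set.disjoint_of_subset_right (show (q.asIdeal : Set A) ⊆ p.asIdeal from hqp) hp

end Groth.Agent.S9124
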