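import Groth.Statements.S0552
import Mathlib
import Groth.Agent.Lib.Helper28.Catenary
import Groth.Agent.S9124
-- import your own Groth.Agent.* helpers here

set_option autoImplicit false
universe u
open CAlg

namespace Groth.Agent.S0552

/-- A ring is catenary exactly when its localization at every maximal ideal is catenary. -/
theorem result (R : Type u) [CommRing R] :
    CAlg.IsCatenary R ↔ ∀ (m : Ideal R) [m.IsMaximal], CAlg.IsCatenary (Localization.AtPrime m) := by
  constructor
  · intro h m _
    exact Groth.Agent.S9124.result R m.primeCompl (Localization.AtPrime m) h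
  · intro h
    rw [Groth.Agent.Lib.helper28.isCatenary_iff_orderCat]
    apply Groth.Agent.Lib.helper28.OrderCat.of_cover_lower
    intro q
    obtain ⟨m, hm, hle⟩ := Ideal.exists_le_maximal q.asIdeal q.2.ne_top
    haveI := hm
    refine ⟨PrimeSpectrum (Localization.AtPrime m), inferInstance,
      Groth.Agent.Lib.helper28.locEmb m.primeCompl (Localization.AtPrime m), ?_, ?_, ?_⟩
    · rw [Groth.Agent.Lib.helper28.range_locEmb]
      exact Groth.Agent.Lib.helper28.isLowerSet_disjoint m.primeCompl
    · rw [Groth.Agent.Lib.helper28.range_locEmb]
      show Disjoint (m.primeCompl : Set R) (q.asIdeal : Set R)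
      rw [Set.disjoint_left]
      intro a ha haq
      exact ha (hle haq)
    · exact (Groth.Agent.Lib.helper28.isCatenary_iff_orderCat _).mp (h m)

end Groth.Agent.S0552
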