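import Groth.Statements.S9125
import Mathlib
import Groth.Agent.Lib.Helper28.Catenary
-- import your own Groth.Agent.* helpers here

set_option autoImplicit false
universe u
open CAlg

namespace Groth.Agent.S9125

/-- A quotient of a catenary ring is catenary. -/
theorem result (A : Type u) [CommRing A] (I : Ideal A)
    (hA : CAlg.IsCatenary A) : CAlg.IsCatenary (A ⧸ I) := by
  rw [Groth.Agent.Lib.helper28.isCatenary_iff_orderCat] at hA ⊢
  let e : PrimeSpectrum (A ⧸ I) ↪o PrimeSpectrum A :=
    (I.primeSpectrumQuotientOrderIsoZeroLocus).toOrderEmbedding.trans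
      (OrderEmbedding.subtype (· ∈ PrimeSpectrum.zeroLocus (I : Set A)))
  refine Groth.Agent.Lib.helper28.OrderCat.of_embedding e ?_ hA
  have hrange : Set.range e = PrimeSpectrum.zeroLocus (I : Set A) := by
    ext p
    constructor
    · rintro ⟨q, rfl⟩
      exact ((I.primeSpectrumQuotientOrderIsoZeroLocus) q).2
    · intro hp
      refine ⟨(I.primeSpectrumQuotientOrderIsoZeroLocus).symm ⟨p, hp⟩, ?_⟩
      show ((I.primeSpectrumQuotientOrderIsoZeroLocus)
        ((I.primeSpectrumQuotientOrderIsoZeroLocus).symm ⟨p, hp⟩)).1 = p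
      rw [OrderIso.apply_symm_apply]
  rw [hrange]
  apply IsUpperSet.ordConnected
  intro p q hpq hp
  exact fun x hx => hpq (hp hx)

end Groth.Agent.S9125
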