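import Groth.Statements.S1619
import Mathlib
import Groth.Agent.Lib.Helper3.FTField

set_option autoImplicit false
universe u
open CategoryTheory CategoryTheory.Limits AlgebraicGeometry
attribute [local instance] Curv2.stalkAlgebra Curv2.resAlgebra
open Variety

namespace Groth.Agent.S1619

open Groth.Agent.Lib.helper3.FTField Groth.Agent.Lib.helper3.DimIneq

/-- irreducible `X` locally of finite type over `k`: `ht q_x + trdeg κ(x) = trdeg κ(ξ)`. -/
theorem height_add_trdeg_of_irreducible (k : Type u) [Field k] (X : Scheme.{u})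
    [X.Over (Spec (CommRingCat.of k))] [LocallyOfFiniteType (X ↘ (Spec (CommRingCat.of k)))]
    [IrreducibleSpace X] {U : X.Opens} (hU : IsAffineOpen U) (x : X) (hxU : x ∈ U) :
    (((hU.primeIdealOf ⟨x, hxU⟩).asIdeal.height : ℕ∞) : Cardinal.{u}) +
      Algebra.trdeg k (X.residueField x) = Algebra.trdeg k (X.residueField (genericPoint X)) := by
  have hsp : genericPoint X ⤳ x := genericPoint_specializes x
  have hξU : genericPoint X ∈ U := hsp.mem_open U.isOpen hxU
  haveI : IsNoetherianRing Γ(X, U) := by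
    letI := (sec k X U).toAlgebra
    haveI : Algebra.FiniteType k Γ(X, U) := sec_finiteType k X hU
    exact Algebra.FiniteType.isNoetherianRing k Γ(X, U)
  obtain ⟨q0, hq0min, hq0le, hht⟩ :=
    exists_minimalPrimes_height_map_eq (hU.primeIdealOf ⟨x, hxU⟩).asIdeal
  haveI hq0p : q0.IsPrime := hq0min.1.1
  obtain ⟨ζ, hζU, hζq⟩ := exists_point_of_prime hU q0
  subst hζq
  have h1 : (hU.primeIdealOf ⟨genericPoint X, hξU⟩).asIdeal ≤ (hU.primeIdealOf ⟨ζ, hζU⟩).asIdeal :=
    (specializes_iff_primeIdealOf_le hU _ _ hξU hζU).mp (genericPoint_specializes ζ)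
  have h2 : (hU.primeIdealOf ⟨ζ, hζU⟩).asIdeal ≤ (hU.primeIdealOf ⟨genericPoint X, hξU⟩).asIdeal :=
    hq0min.2 ⟨(hU.primeIdealOf ⟨genericPoint X, hξU⟩).isPrime, bot_le⟩ h1
  have hζ : ζ = genericPoint X := by
    have a1 : ζ ⤳ genericPoint X := (specializes_iff_primeIdealOf_le hU _ _ hζU hξU).mpr h2
    exact (a1.antisymm (genericPoint_specializes ζ)).eq
  subst hζ
  have key := height_map_add_trdeg_residueField k X hU _ x hζU hxU hq0le
  rw [hht] at key
  exact key

/-- Let X be irreducible and locally of finite type over a field k, with generic point ξ. If the residue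
field of ξ has transcendence degree n over k then X has Krull dimension n. -/
theorem result (k : Type u) [Field k] (X : Scheme.{u}) [X.Over (Spec (CommRingCat.of k))] [LocallyOfFiniteType (X ↘ (Spec (CommRingCat.of k)))] [IrreducibleSpace X]
    (n : ℕ) (hn : Algebra.trdeg k (X.residueField (genericPoint X)) = n) : topologicalKrullDim X = n := by
  rw [dim_eq_iSup_stalk]
  apply le_antisymm
  · refine iSup_le fun x => ?_
    obtain ⟨U, hU, hxU, -⟩ := exists_isAffineOpen_mem_and_subset (x := x) (U := ⊤) trivial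
    rw [ringKrullDim_stalk_eq_height hU x hxU]
    have key := height_add_trdeg_of_irreducible k X hU x hxU
    rw [hn] at key
    have h1 : (((hU.primeIdealOf ⟨x, hxU⟩).asIdeal.height : ℕ∞) : Cardinal.{u}) ≤ (n : Cardinal.{u}) := by
      rw [← key]; exact le_self_add
    have h2 : (hU.primeIdealOf ⟨x, hxU⟩).asIdeal.height ≤ (n : ℕ∞) := by
      rw [← Cardinal.ofENat_le_ofENat.{u}]
      simpa using h1
    exact_mod_cast h2
  · obtain ⟨U, hU, hxU, -⟩ := exists_isAffineOpen_mem_and_subset (x := genericPoint X) (U := ⊤) trivial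
    haveI : Nontrivial Γ(X, U) := by
      haveI : Nonempty U := ⟨⟨genericPoint X, hxU⟩⟩
      infer_instance
    obtain ⟨m, hm⟩ := Ideal.exists_maximal Γ(X, U)
    haveI := hm.isPrime
    obtain ⟨x, hxU', hxm⟩ := exists_point_of_prime hU m
    have h0 := trdeg_residueField_eq_zero_of_isMaximal k X hU x hxU' (hxm ▸ hm)
    have key := height_add_trdeg_of_irreducible k X hU x hxU'
    rw [hn, h0, add_zero] at key
    have h2 : (hU.primeIdealOf ⟨x, hxU'⟩).asIdeal.height = (n : ℕ∞) := by
      rw [← Cardinal.ofENat_inj.{u}]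
      simpa using key
    refine le_trans ?_ (le_iSup _ x)
    rw [ringKrullDim_stalk_eq_height hU x hxU', h2]
    rfl

end Groth.Agent.S1619
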