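import Groth.Statements.S0402
import Mathlib
import Groth.Agent.Lib.Helper3.FibreChev
import Groth.Agent.Lib.Helper3.FibreDimChar
import Groth.Agent.Lib.Helper3.DimFun

set_option autoImplicit false
universe u
open FlatMor

namespace Groth.Agent.S0402
open AlgebraicGeometry CategoryTheory Groth.Agent.Lib.helper3.DimIneq Groth.Agent.Lib.helper3.FTField Groth.Agent.Lib.helper3.FibreParam Groth.Agent.Lib.helper3.DimFibre

open AlgebraicGeometry CategoryTheory Limits in
/-- For a morphism locally of finite type and an integer n, the points of the source at which the fibre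
through them has local dimension at most n form an open set (upper semicontinuity of fibre dimension
on the source). -/
theorem result {X S : Scheme.{u}} (f : X ⟶ S) [LocallyOfFiniteType f] (n : ℕ) :
    IsOpen {x : X | FlatMor.fibreDimAt f x ≤ n} := by
  rw [isOpen_iff_forall_mem_open]
  intro x hx
  obtain ⟨V, hV, hsV, -⟩ := exists_isAffineOpen_mem_and_subset (x := f x) (U := ⊤) trivial
  obtain ⟨U, hU, hxU, hUV⟩ := exists_isAffineOpen_mem_and_subset (x := x) (U := f ⁻¹ᵁ V) hsV
  have hft : (f.appLE V U hUV).hom.FiniteType := LocallyOfFiniteType.finiteType_appLE f hV hU hUV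
  letI := (f.appLE V U hUV).hom.toAlgebra
  haveI : Algebra.FiniteType Γ(S, V) Γ(X, U) := hft
  haveI hqp : (hU.primeIdealOf ⟨x, hxU⟩).asIdeal.IsPrime := (hU.primeIdealOf ⟨x, hxU⟩).isPrime
  have H : ∀ q' : Ideal Γ(X, U), q'.IsPrime → q' ≤ (hU.primeIdealOf ⟨x, hxU⟩).asIdeal →
      q'.comap (algebraMap Γ(S, V) Γ(X, U)) =
        (hU.primeIdealOf ⟨x, hxU⟩).asIdeal.comap (algebraMap Γ(S, V) Γ(X, U)) →
      td (Ideal.quotientMap q' (algebraMap Γ(S, V) Γ(X, U)) le_rfl) ≤ (n : Cardinal.{u}) := by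
    intro q' hq' hle hc
    obtain ⟨x', hx'U, rfl⟩ := exists_point_of_prime hU q'
    have hsp : x' ⤳ x := (specializes_iff_primeIdealOf_le hU x' x hx'U hxU).mpr hle
    have hfx : f x' = f x := by
      apply eq_of_primeIdealOf_eq hV (f x') (f x) (hUV hx'U) (hUV hxU)
      have h1 := IsAffineOpen.comap_primeIdealOf_appLE (f := f) (x := x') V hV U hU hUV hx'U
      have h2 := IsAffineOpen.comap_primeIdealOf_appLE (f := f) (x := x) V hV U hU hUV hxU
      rw [← h1, ← h2]
      exact hc
    have := (fibreDimAt_le_iff f x n).mp hx x' hsp hfx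
    rw [← td_quotientMap_eq f hV hU hUV x' hx'U] at this
    exact this
  obtain ⟨r, hr, Hr⟩ := exists_notMem_forall_td_le (R := Γ(S, V)) (S := Γ(X, U))
    (hU.primeIdealOf ⟨x, hxU⟩).asIdeal n H
  refine ⟨X.basicOpen r, ?_, (X.basicOpen r).isOpen, (mem_basicOpen_iff hU x hxU r).mpr hr⟩
  intro w hw
  rw [Set.mem_ofPred_eq, fibreDimAt_le_iff]
  intro w' hsp hfw
  have hw' : w' ∈ X.basicOpen r := hsp.mem_open (X.basicOpen r).isOpen hw
  have hw'U : w' ∈ U := X.basicOpen_le r hw'
  rw [← td_quotientMap_eq f hV hU hUV w' hw'U]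
  haveI := (hU.primeIdealOf ⟨w', hw'U⟩).isPrime
  exact Hr _ ((mem_basicOpen_iff hU w' hw'U r).mp hw')

end Groth.Agent.S0402
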