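import Groth.Statements.S10183
import Groth.Agent.Lib.Helper11.AlgSpBasic
import Mathlib.AlgebraicGeometry.Morphisms.QuasiFinite
import Mathlib.RingTheory.Unramified.LocalStructure
import Mathlib.RingTheory.RingHom.Etale

set_option autoImplicit false
universe u
open CategoryTheory CategoryTheory.Limits AlgebraicGeometry Topology TopologicalSpace
open AlgSp

namespace Groth.Agent.S10183

theorem locallyQuasiFinite_of_etale {X Y : Scheme.{u}} (f : X ⟶ Y) [Etale f] : LocallyQuasiFinite f := by
  have h : Etale f := inferInstance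
  rw [HasRingHomProperty.eq_affineLocally @Etale] at h
  rw [HasRingHomProperty.eq_affineLocally @LocallyQuasiFinite]
  refine affineLocally_le ?_ f h
  intro R S _ _ f hf
  algebraize [f]
  have : Algebra.Etale R S := hf
  show Algebra.QuasiFinite R S
  infer_instance

/-- Let X be an algebraic space over a scheme S, a : h_U ⟶ X a representable etale map from a scheme U
over S, and R a scheme over S with h_R = h_U ×_X h_U whose two projections s, t : R ⟶ U are
quasi-compact (for instance if a is quasi-compact). Then the maps |U| → |X| and |R| → |X| have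
finite fibres. -/
theorem result {S : Scheme.{u}} (X : AlgSp.Space S) {R U : Over S}
    (a : (AlgSp.yon S).obj U ⟶ X.obj) (ha : AlgSp.RepWith @Etale a) (s t : R ⟶ U)
    (hR : IsPullback ((AlgSp.yon S).map t) ((AlgSp.yon S).map s) a a)
    [QuasiCompact s.left] [QuasiCompact t.left] (x : AlgSp.Points X.obj) :
    (AlgSp.Points.ofPt a ⁻¹' {x}).Finite ∧
      (AlgSp.Points.ofPt ((AlgSp.yon S).map t ≫ a) ⁻¹' {x}).Finite := by
  have hs : Etale s.left := ha.2 a _ s hR
  have ht : Etale t.left := ha.2 a _ t hR.flip
  have hs' : LocallyQuasiFinite s.left := locallyQuasiFinite_of_etale s.left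
  have ht' : LocallyQuasiFinite t.left := locallyQuasiFinite_of_etale t.left
  have h1 : (AlgSp.Points.ofPt a ⁻¹' {x}).Finite := by
    by_cases hx : ∃ u₀, AlgSp.Points.ofPt a u₀ = x
    · obtain ⟨u₀, rfl⟩ := hx
      refine ((s.left.finite_preimage_singleton u₀).image t.left).subset ?_
      intro u hu
      obtain ⟨v, hv1, hv2⟩ := Groth.Agent.Lib.helper11.exists_of_isPullback_schemes hR u u₀ hu
      exact ⟨v, hv2, hv1⟩
    · convert Set.finite_empty
      ext u
      simp only [Set.mem_preimage, Set.mem_singleton_iff, Set.mem_empty_iff_false, iff_false]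
      exact fun h => hx ⟨u, h⟩
  refine ⟨h1, ?_⟩
  have : AlgSp.Points.ofPt ((AlgSp.yon S).map t ≫ a) ⁻¹' {x} =
      t.left ⁻¹' (AlgSp.Points.ofPt a ⁻¹' {x}) := by
    ext r
    simp only [Set.mem_preimage, Set.mem_singleton_iff]
    rw [Groth.Agent.Lib.helper11.ofPt_yon_map_comp]
  rw [this]
  exact t.left.finite_preimage h1

end Groth.Agent.S10183
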