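import Groth.Statements.S9904
import Groth.Agent.Lib.Helper1.Diagonal
import Groth.Agent.Lib.Helper18.AlgSp
import Groth.Agent.Lib.Helper7.AlgSpQC
import Groth.Agent.Lib.Helper5.AlgSpQCFam
import Groth.Agent.S9924

set_option autoImplicit false
universe u
open CategoryTheory CategoryTheory.Limits AlgebraicGeometry
open AlgSp

namespace Groth.Agent.S9904

section cat

variable {C : Type*} [Category C] [HasPullbacks C]

set_option backward.isDefEq.respectTransparency false in
/-- The diagonal of a base change is the base change of the diagonal. -/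
theorem isPullback_diagonal_map {X Y V P : C} {f : X ⟶ Y} {p : V ⟶ Y} {fst : P ⟶ X} {snd : P ⟶ V}
    (sq : IsPullback fst snd f p) :
    IsPullback fst (pullback.diagonal snd) (pullback.diagonal f)
      (pullback.map snd snd f f fst fst p sq.w.symm sq.w.symm) := by
  apply Groth.Agent.Lib.helper5.isPullback_of_exists_lift
  · apply pullback.hom_ext <;> simp
  · intro T a b hab
    have e1 : a = (b ≫ pullback.fst snd snd) ≫ fst := by
      simpa using congrArg (· ≫ pullback.fst f f) hab
    have e2 : a = (b ≫ pullback.snd snd snd) ≫ fst := by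
      simpa using congrArg (· ≫ pullback.snd f f) hab
    have e3 : b ≫ pullback.fst snd snd = b ≫ pullback.snd snd snd := by
      apply sq.hom_ext
      · rw [← e1, ← e2]
      · rw [Category.assoc, Category.assoc, pullback.condition]
    refine ⟨b ≫ pullback.fst snd snd, e1.symm, ?_⟩
    apply pullback.hom_ext
    · simp
    · simp [e3]
  · intro T l l' _ h2
    simpa using congrArg (· ≫ pullback.fst snd snd) h2

set_option backward.isDefEq.respectTransparency false in
/-- `P ×_V P = (X ×_Y X) ×_Y V`. -/
theorem isPullback_map_base {X Y V P : C} {f : X ⟶ Y} {p : V ⟶ Y} {fst : P ⟶ X} {snd : P ⟶ V}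
    (sq : IsPullback fst snd f p) :
    IsPullback (pullback.map snd snd f f fst fst p sq.w.symm sq.w.symm) (pullback.fst snd snd ≫ snd)
      (pullback.fst f f ≫ f) p := by
  apply Groth.Agent.Lib.helper5.isPullback_of_exists_lift
  · simp [sq.w]
  · intro T a v hav
    have h1 : (a ≫ pullback.fst f f) ≫ f = v ≫ p := by simpa using hav
    have h2 : (a ≫ pullback.snd f f) ≫ f = v ≫ p := by
      rw [Category.assoc, ← pullback.condition]; simpa using hav
    refine ⟨pullback.lift (sq.lift _ _ h1) (sq.lift _ _ h2) (by simp), ?_, ?_⟩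
    · apply pullback.hom_ext <;> simp
    · simp
  · intro T l l' h1 h2
    apply pullback.hom_ext
    · apply sq.hom_ext
      · simpa using congrArg (· ≫ pullback.fst f f) h1
      · simpa using h2
    · apply sq.hom_ext
      · simpa using congrArg (· ≫ pullback.snd f f) h1
      · have := h2
        simp only [Category.assoc] at this ⊢
        rw [← pullback.condition, this]

end cat

theorem main {S : Scheme.{u}} {X Y : AlgSp.Space S} (f : X ⟶ Y) (V : Over S)
    (p : (AlgSp.yon S).obj V ⟶ Y.obj) (hp : AlgSp.RepWith @Etale p) (hps : AlgSp.RepWith @Surjective p)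
    {P : AlgSp.Sp S} (fst : P ⟶ X.obj) (snd : P ⟶ (AlgSp.yon S).obj V) (sq : IsPullback fst snd f.hom p) :
    (AlgSp.IsSeparatedMor snd → AlgSp.IsSeparatedMor f.hom) ∧
    (AlgSp.IsQuasiSeparatedMor snd → AlgSp.IsQuasiSeparatedMor f.hom) := by
  have hP : IsAlgSpace P :=
    Groth.Agent.Lib.helper5.isAlgSpace_of_isPullback Y.property.diag X.property (IsAlgSpace.yon_obj V) sq
  have hPP : IsAlgSpace (pullback snd snd) :=
    Groth.Agent.Lib.helper5.isAlgSpace_of_isPullback (IsAlgSpace.yon_obj V).diag hP hP
      (IsPullback.of_hasPullback snd snd)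
  have hXX : IsAlgSpace (pullback f.hom f.hom) :=
    Groth.Agent.Lib.helper5.isAlgSpace_of_isPullback Y.property.diag X.property X.property
      (IsPullback.of_hasPullback f.hom f.hom)
  let m := pullback.map snd snd f.hom f.hom fst fst p sq.w.symm sq.w.symm
  have sqΔ : IsPullback fst (pullback.diagonal snd) (pullback.diagonal f.hom) m := isPullback_diagonal_map sq
  have sqm : IsPullback m (pullback.fst snd snd ≫ snd) (pullback.fst f.hom f.hom ≫ f.hom) p :=
    isPullback_map_base sq
  have hme : RepWith @Etale m := (repWith_isStableUnderBaseChange (S := S) @Etale).of_isPullback sqm.flip hp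
  have hms : RepWith @Surjective m :=
    (repWith_isStableUnderBaseChange (S := S) @Surjective).of_isPullback sqm.flip hps
  obtain ⟨W, c, hce, hcs⟩ := hPP.atlas
  have hce' : RepWith @Etale (c ≫ m) := (repWith_isMultiplicative (S := S) @Etale).comp_mem _ _ hce hme
  have hcs' : RepWith @Surjective (c ≫ m) :=
    (repWith_isMultiplicative (S := S) @Surjective).comp_mem _ _ hcs hms
  have sqQ : IsPullback (pullback.fst (pullback.diagonal snd) c) (pullback.snd (pullback.diagonal snd) c)
      (pullback.diagonal snd) c := IsPullback.of_hasPullback _ _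
  have sqQ' := sqQ.paste_horiz sqΔ
  let XX : AlgSp.Space S := ⟨pullback f.hom f.hom, hXX⟩
  let d : X ⟶ XX := ObjectProperty.homMk (pullback.diagonal f.hom)
  constructor
  · intro h
    have h1 : IsUnivClosedMor (pullback.diagonal snd) :=
      Groth.Agent.Lib.helper18.isUnivClosedMor_of_repWith_isClosedImmersion _ h
    have h2 : IsUnivClosedMor (pullback.snd (pullback.diagonal snd) c) :=
      Groth.Agent.Lib.helper18.univSp_of_isPullback sqQ h1
    have h3 : IsUnivClosedMor (pullback.diagonal f.hom) :=
      Groth.Agent.S9924.result d W (c ≫ m) hce' hcs' _ _ sqQ' h2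
    exact Groth.Agent.H1.Diagonal.repWith_isClosedImmersion_diagonal_of_univClosed X.property Y.property
      f.hom h3
  · intro h
    have h1 : IsQuasiCompactMor (pullback.diagonal snd) := Groth.Agent.Lib.helper7.AlgSpQC.isQuasiCompactMor_of_repWith h
    have h2 : IsQuasiCompactMor (pullback.snd (pullback.diagonal snd) c) :=
      Groth.Agent.Lib.helper5.isQuasiCompactMor_of_isPullback sqQ h1
    have h3 : IsQuasiCompactMor (pullback.diagonal f.hom) :=
      Groth.Agent.Lib.helper5.isQuasiCompactMor_of_etale_cover X.property.atlas hXX.diag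
        (pullback.diagonal f.hom) (c ≫ m) hce' hcs' sqQ' h2
    exact Groth.Agent.Lib.helper7.AlgSpQC.repWith_of_isQuasiCompactMor
      (Groth.Agent.H1.Diagonal.representable_diagonal X.property.diag f.hom) h3

/-- (5) ⇒ (1): separatedness (resp. quasi-separatedness) of a morphism of algebraic spaces descends
along one surjective etale base change from a scheme. -/
theorem result {S : Scheme.{u}} {X Y : AlgSp.Space S} (f : X ⟶ Y) (V : Over S)
    (p : (AlgSp.yon S).obj V ⟶ Y.obj) (hp : AlgSp.RepWith @Etale p) (hps : AlgSp.RepWith @Surjective p)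
    {P : AlgSp.Sp S} (fst : P ⟶ X.obj) (snd : P ⟶ (AlgSp.yon S).obj V) (sq : IsPullback fst snd f.hom p) :
    (AlgSp.IsSeparatedMor snd → AlgSp.IsSeparatedMor f.hom) ∧
    (AlgSp.IsQuasiSeparatedMor snd → AlgSp.IsQuasiSeparatedMor f.hom) := by
  exact main f V p hp hps fst snd sq

end Groth.Agent.S9904
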