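import Groth.Statements.S10289
import Groth.Agent.Lib.Helper7.AlgSpFibre
import Groth.Agent.Lib.Helper5.AlgSpFibreProduct
import Groth.Agent.S10183
import Groth.Agent.S9904
import Mathlib.AlgebraicGeometry.ValuativeCriterion

set_option autoImplicit false
universe u
open CategoryTheory CategoryTheory.Limits AlgebraicGeometry
open AlgSp

namespace Groth.Agent.S10289

open Groth.Agent.Lib.helper11 Groth.Agent.Lib.helper10 IsLocalRing

variable {S : Scheme.{u}}

/-- Over the spectrum of a local ring, a closed map hits the closed point on the closure of any point. -/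
theorem exists_specialization_over_closedPoint {P : Sp S} {A : Type u} [CommRing A] [IsLocalRing A]
    (str : Spec (CommRingCat.of A) ⟶ S) (snd : P ⟶ (yon S).obj (Over.mk str))
    (hcl : IsClosedMap (Points.map snd)) (x : Points P) :
    ∃ x' : Points P, x ⤳ x' ∧ Points.map snd x' = Points.schemeHomeo (Over.mk str) (closedPoint A) := by
  let τ := Points.schemeHomeo (Over.mk str)
  have hD : IsClosed (τ ⁻¹' (Points.map snd '' closure {x})) :=
    (hcl _ isClosed_closure).preimage τ.continuous
  have hy : τ.symm (Points.map snd x) ∈ τ ⁻¹' (Points.map snd '' closure {x}) := by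
    rw [Set.mem_preimage, Homeomorph.apply_symm_apply]
    exact ⟨x, subset_closure rfl, rfl⟩
  have hs : τ.symm (Points.map snd x) ⤳ (closedPoint A : PrimeSpectrum A) := specializes_closedPoint _
  obtain ⟨x', hx', hx'2⟩ := hD.stableUnderSpecialization hs hy
  exact ⟨x', specializes_iff_mem_closure.2 hx', hx'2⟩

/-- Generizations lift along an open map with finite fibres. -/
theorem exists_generization_lift {α β : Type*} [TopologicalSpace α] [TopologicalSpace β] (π : α → β)
    (hπ : IsOpenMap π) (hfin : ∀ b, (π ⁻¹' {b}).Finite) (u' : α) (x : β) (hx : x ⤳ π u') :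
    ∃ u : α, u ⤳ u' ∧ π u = x := by
  by_contra hne
  push Not at hne
  have hcl : IsClosed (⋃ u ∈ π ⁻¹' {x}, closure ({u} : Set α)) :=
    (hfin x).isClosed_biUnion fun _ _ => isClosed_closure
  have hu' : u' ∉ ⋃ u ∈ π ⁻¹' {x}, closure ({u} : Set α) := by
    intro h
    simp only [Set.mem_iUnion] at h
    obtain ⟨u, hu, hu2⟩ := h
    exact hne u (specializes_iff_mem_closure.2 hu2) hu
  have hopen : IsOpen (π '' (⋃ u ∈ π ⁻¹' {x}, closure ({u} : Set α))ᶜ) := hπ _ hcl.isOpen_compl
  have hmem : π u' ∈ π '' (⋃ u ∈ π ⁻¹' {x}, closure ({u} : Set α))ᶜ := ⟨u', hu', rfl⟩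
  obtain ⟨w, hw, hwx⟩ := hx.mem_open hopen hmem
  apply hw
  simp only [Set.mem_iUnion]
  exact ⟨w, hwx, subset_closure rfl⟩

/-- Over an affine base, an affine etale chart of a quasi-separated algebraic space has finite fibres on
points. -/
theorem finite_fibres_of_affine_chart {P : Sp S} (hP : IsAlgSpace P) {Z : Over S} (hZ : IsAffine Z.left)
    (snd : P ⟶ (yon S).obj Z) (hqs : RepWith @QuasiCompact (pullback.diagonal snd)) {U : Over S}
    (hU : IsAffine U.left) (a : (yon S).obj U ⟶ P) (ha : RepWith @Etale a) (x : Points P) :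
    (Points.ofPt a ⁻¹' {x}).Finite := by
  obtain ⟨R, s, t', hR⟩ := ha.1 a
  obtain ⟨t, rfl⟩ := (yon S).map_surjective t'
  obtain ⟨h, hh⟩ := (yon S).map_surjective (a ≫ snd)
  have hth : t ≫ h = s ≫ h := by
    apply (yon S).map_injective
    rw [Functor.map_comp, Functor.map_comp, hh, ← Category.assoc, hR.w, Category.assoc]
  obtain ⟨k, hk1, hk2⟩ : ∃ k : R ⟶ pullback h h, k ≫ pullback.fst h h = t ∧ k ≫ pullback.snd h h = s :=
    ⟨pullback.lift t s hth, pullback.lift_fst _ _ _, pullback.lift_snd _ _ _⟩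
  have sqW : IsPullback ((yon S).map (pullback.fst h h)) ((yon S).map (pullback.snd h h))
      ((yon S).map h) ((yon S).map h) := (IsPullback.of_hasPullback h h).map (yon S)
  obtain ⟨g₂, hg1, hg2⟩ : ∃ g₂ : (yon S).obj (pullback h h) ⟶ pullback snd snd,
      g₂ ≫ pullback.fst snd snd = (yon S).map (pullback.fst h h) ≫ a ∧
      g₂ ≫ pullback.snd snd snd = (yon S).map (pullback.snd h h) ≫ a :=
    ⟨pullback.lift ((yon S).map (pullback.fst h h) ≫ a) ((yon S).map (pullback.snd h h) ≫ a) (by
      rw [Category.assoc, Category.assoc, ← hh, sqW.w]), pullback.lift_fst _ _ _, pullback.lift_snd _ _ _⟩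
  have hd1 : ∀ {T : Sp S} (x : T ⟶ P), x ≫ pullback.diagonal snd ≫ pullback.fst snd snd = x := by
    intro T x
    erw [pullback.diagonal_fst]
    rw [Category.comp_id]
  have hd2 : ∀ {T : Sp S} (x : T ⟶ P), x ≫ pullback.diagonal snd ≫ pullback.snd snd snd = x := by
    intro T x
    erw [pullback.diagonal_snd]
    rw [Category.comp_id]
  have sq' : IsPullback ((yon S).map t ≫ a) ((yon S).map k) (pullback.diagonal snd) g₂ := by
    apply Groth.Agent.Lib.helper5.isPullback_of_exists_lift
    · apply pullback.hom_ext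
      · rw [Category.assoc, hd1, Category.assoc, hg1, ← Category.assoc, ← Functor.map_comp, hk1]
      · rw [Category.assoc, hd2, Category.assoc, hg2, ← Category.assoc, ← Functor.map_comp, hk2, hR.w]
    · intro T x y hxy
      have e1 : x = (y ≫ (yon S).map (pullback.fst h h)) ≫ a := by
        have := congrArg (· ≫ pullback.fst snd snd) hxy
        simp only [Category.assoc] at this
        rw [hd1, hg1] at this
        rw [this, Category.assoc]
      have e2 : x = (y ≫ (yon S).map (pullback.snd h h)) ≫ a := by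
        have := congrArg (· ≫ pullback.snd snd snd) hxy
        simp only [Category.assoc] at this
        rw [hd2, hg2] at this
        rw [this, Category.assoc]
      obtain ⟨l, hl1, hl2⟩ := hR.exists_lift _ _ (e1.symm.trans e2)
      refine ⟨l, ?_, ?_⟩
      · rw [← Category.assoc, hl1, ← e1]
      · apply sqW.hom_ext
        · rw [Category.assoc, ← Functor.map_comp, hk1, hl1]
        · rw [Category.assoc, ← Functor.map_comp, hk2, hl2]
    · intro T l l' _ h2
      apply hR.hom_ext
      · have := congrArg (· ≫ (yon S).map (pullback.fst h h)) h2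
        simpa only [Category.assoc, ← Functor.map_comp, hk1] using this
      · have := congrArg (· ≫ (yon S).map (pullback.snd h h)) h2
        simpa only [Category.assoc, ← Functor.map_comp, hk2] using this
  have hk : QuasiCompact k.left := hqs.2 g₂ _ k sq'
  have hZ' : IsAffine Z.left := hZ
  have hU' : IsAffine U.left := hU
  have hW₂ : IsAffine (pullback h h).left := by
    have e : (pullback h h).left ≅ pullback h.left h.left := PreservesPullback.iso (Over.forget S) h h
    exact IsAffine.of_isIso e.hom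
  have hRc : CompactSpace ↥R.left := QuasiCompact.compactSpace_of_compactSpace k.left
  have hs : QuasiCompact s.left := HasAffineProperty.iff_of_isAffine.mpr hRc
  have ht : QuasiCompact t.left := HasAffineProperty.iff_of_isAffine.mpr hRc
  exact (Groth.Agent.S10183.result ⟨P, hP⟩ a ha s t hR x).1

/-- Every point of an algebraic space lies in the image of an affine etale chart. -/
theorem exists_affine_chart {P : Sp S} (hP : IsAlgSpace P) (x' : Points P) :
    ∃ (U : Over S) (a : (yon S).obj U ⟶ P) (u' : ↥U.left), IsAffine U.left ∧ RepWith @Etale a ∧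
      Points.ofPt a u' = x' := by
  obtain ⟨U₀, a₀, ha₀e, ha₀s⟩ := hP.atlas
  obtain ⟨u₀', rfl⟩ := surjective_ofPt a₀ ha₀s x'
  let 𝒰 := U₀.left.affineCover
  obtain ⟨v, hv⟩ := 𝒰.covers u₀'
  let U : Over S := Over.mk (𝒰.f (𝒰.idx u₀') ≫ U₀.hom)
  let ι : U ⟶ U₀ := Over.homMk (𝒰.f (𝒰.idx u₀')) rfl
  have hU : IsAffine U.left := by
    show IsAffine (𝒰.X (𝒰.idx u₀'))
    infer_instance
  have ha : RepWith @Etale ((yon S).map ι ≫ a₀) :=
    (repWith_isMultiplicative (S := S) @Etale).comp_mem _ _
      ((repWith_yon_map_iff @Etale ι).2 (show Etale (𝒰.f (𝒰.idx u₀')) from inferInstance)) ha₀e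
  refine ⟨U, (yon S).map ι ≫ a₀, v, hU, ha, ?_⟩
  rw [ofPt_yon_map_comp]
  exact congrArg _ hv

/-- Two field-valued points defining the same point agree over a common field extension, as morphisms. -/
theorem exists_common_extension {F : Sp S} {p q : FieldPt F} (h : Points.mk p = Points.mk q) :
    ∃ (Ω : Type u) (_ : Field Ω) (w : Spec (CommRingCat.of Ω) ⟶ S) (α : Over.mk w ⟶ p.pt)
      (β : Over.mk w ⟶ q.pt), (yon S).map α ≫ p.toHom = (yon S).map β ≫ q.toHom := by
  obtain ⟨Ω, _, w, α, β, hab⟩ := Points.mk_eq_mk_iff.mp h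
  refine ⟨Ω, inferInstance, w, α, β, ?_⟩
  apply (AlgSp.J S).uliftYonedaEquiv.injective
  have key : ∀ (r : FieldPt F) (c : Over.mk w ⟶ r.pt),
      (AlgSp.J S).uliftYonedaEquiv ((yon S).map c ≫ r.toHom) = F.obj.map c.op r.val := by
    intro r c
    rw [← GrothendieckTopology.uliftYonedaEquiv_naturality, AlgSp.FieldPt.uliftYonedaEquiv_toHom]
  rw [key, key]
  exact hab

set_option backward.isDefEq.respectTransparency.types false in
set_option maxHeartbeats 800000 in
theorem main {X Y : AlgSp.Space S} (f : X ⟶ Y)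
    (hqs : AlgSp.IsQuasiSeparatedMor f.hom) (hc : AlgSp.IsUnivClosedMor f.hom) : AlgSp.ExistVC f.hom := by
  intro sq
  have sqP : IsPullback (pullback.fst f.hom sq.bot) (pullback.snd f.hom sq.bot) f.hom sq.bot :=
    IsPullback.of_hasPullback _ _
  generalize pullback.fst f.hom sq.bot = fst at sqP
  generalize pullback.snd f.hom sq.bot = snd at sqP
  generalize pullback f.hom sq.bot = P at fst snd sqP
  have hP : IsAlgSpace P :=
    Groth.Agent.Lib.helper5.isAlgSpace_of_isPullback Y.property.diag X.property (IsAlgSpace.yon_obj sq.ptA) sqP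
  have hcl : IsClosedMap (Points.map snd) := hc (IsAlgSpace.yon_obj sq.ptA) sq.bot fst snd sqP
  have hqsP : RepWith @QuasiCompact (pullback.diagonal snd) :=
    (repWith_isStableUnderBaseChange (S := S) @QuasiCompact).of_isPullback
      (Groth.Agent.S9904.isPullback_diagonal_map sqP) hqs
  obtain ⟨x₀, hx₀1, hx₀2⟩ := sqP.exists_lift sq.top ((yon S).map sq.j) sq.comm
  let q : FieldPt P := fieldPtOfHom sq.ptK.hom x₀
  have hq : q.toHom = x₀ := fieldPtOfHom_toHom _ _
  obtain ⟨x', hxx', hx'⟩ := exists_specialization_over_closedPoint sq.str snd hcl (Points.mk q)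
  obtain ⟨U, a, u', hU, ha, hau'⟩ := exists_affine_chart hP x'
  have hAaff : IsAffine sq.ptA.left := by
    show IsAffine (Spec (CommRingCat.of sq.A))
    infer_instance
  have hfin := finite_fibres_of_affine_chart hP hAaff snd hqsP hU a ha
  obtain ⟨u, huu', hau⟩ := exists_generization_lift (Points.ofPt a) (isOpenMap_ofPt a ha) hfin u'
    (Points.mk q) (hau' ▸ hxx')
  obtain ⟨Ω, _, w, α, β, hαβ⟩ := exists_common_extension (p := FieldPt.ofPt a u) (q := q) hau
  rw [FieldPt.toHom_ofPt, hq] at hαβ
  obtain ⟨h, hh⟩ := (yon S).map_surjective (a ≫ snd)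
  -- the ring side
  let αr : U.left.residueField u ⟶ CommRingCat.of Ω := Spec.preimage α.left
  have hαr : Spec.map αr = α.left := Spec.map_preimage _
  let ρ : U.left.presheaf.stalk u' ⟶ CommRingCat.of Ω :=
    U.left.presheaf.stalkSpecializes huu' ≫ U.left.residue u ≫ αr
  obtain ⟨A', hA', hA'loc⟩ := exists_factor_valuationRing ρ.hom
  let ρA' : U.left.presheaf.stalk u' ⟶ .of A' := CommRingCat.ofHom (ρ.hom.codRestrict _ hA')
  let cl : Spec (.of A') ⟶ U.left := Spec.map ρA' ≫ U.left.fromSpecStalk u'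
  have F1 : Spec.map (CommRingCat.ofHom (algebraMap A' Ω)) ≫ cl =
      α.left ≫ U.left.fromSpecResidueField u := by
    have e : ρA' ≫ CommRingCat.ofHom (algebraMap A' Ω) = ρ := rfl
    show Spec.map (CommRingCat.ofHom (algebraMap A' Ω)) ≫ Spec.map ρA' ≫ U.left.fromSpecStalk u' = _
    rw [← Category.assoc, ← Spec.map_comp, e]
    show Spec.map (U.left.presheaf.stalkSpecializes huu' ≫ U.left.residue u ≫ αr) ≫ _ = _
    rw [Spec.map_comp, Spec.map_comp, Category.assoc, Category.assoc,
      Scheme.SpecMap_stalkSpecializes_fromSpecStalk, hαr]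
    rfl
  let κu : (FieldPt.ofPt a u).pt ⟶ U := Over.homMk (U.left.fromSpecResidueField u) rfl
  have hαβ' : (yon S).map α ≫ (yon S).map κu ≫ a = (yon S).map β ≫ x₀ := hαβ
  let β' : Over.mk w ⟶ sq.ptK := β
  have F2' : α ≫ κu ≫ h = β' ≫ sq.j := by
    apply (yon S).map_injective
    calc (yon S).map (α ≫ κu ≫ h) = (yon S).map α ≫ (yon S).map κu ≫ (yon S).map h := by
          rw [Functor.map_comp, Functor.map_comp]
      _ = ((yon S).map α ≫ (yon S).map κu ≫ a) ≫ snd := by rw [hh]; simp only [Category.assoc]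
      _ = ((yon S).map β' ≫ x₀) ≫ snd := by rw [hαβ']; rfl
      _ = (yon S).map β' ≫ (yon S).map sq.j := by rw [Category.assoc, hx₀2]
      _ = (yon S).map (β' ≫ sq.j) := (Functor.map_comp _ _ _).symm
  have F2 : α.left ≫ U.left.fromSpecResidueField u ≫ h.left = β.left ≫ sq.j.left :=
    congrArg (fun m => m.left) F2'
  let φc : CommRingCat.of sq.A ⟶ CommRingCat.of A' := Spec.preimage (cl ≫ h.left)
  have hφ : Spec.map φc = cl ≫ h.left := Spec.map_preimage _
  let ψc : CommRingCat.of sq.K ⟶ CommRingCat.of Ω := Spec.preimage β.left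
  have hψ : Spec.map ψc = β.left := Spec.map_preimage _
  have hcomm : φc ≫ CommRingCat.ofHom (algebraMap A' Ω) =
      CommRingCat.ofHom (algebraMap sq.A sq.K) ≫ ψc := by
    apply Spec.map_injective
    rw [Spec.map_comp, Spec.map_comp, hφ, hψ, ← Category.assoc, F1, Category.assoc, F2]
    rfl
  have hpt : Points.schemeHomeo sq.ptA (h.left u') = Points.schemeHomeo sq.ptA (closedPoint sq.A) := by
    rw [← hx', ← hau', Points.map_ofPt, ← hh]
    show Points.ofPt (𝟙 _) (h.left u') = _
    rw [← ofPt_yon_map_comp, Category.comp_id]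
  have hclosed : (Spec.map φc) (closedPoint A') = closedPoint sq.A := by
    rw [hφ]
    show (Spec.map ρA' ≫ U.left.fromSpecStalk u' ≫ h.left) (closedPoint A') = _
    simp only [Scheme.Hom.comp_base, TopCat.coe_comp, Function.comp_apply]
    have h2 : Spec.map ρA' (closedPoint A') = closedPoint (U.left.presheaf.stalk u') :=
      comap_closedPoint (S := A') (ρ.hom.codRestrict A'.toSubring hA')
    rw [h2, U.left.fromSpecStalk_closedPoint]
    exact (Points.schemeHomeo sq.ptA).injective hpt
  have hloc : IsLocalHom φc.hom := by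
    apply ((IsLocalRing.local_hom_TFAE φc.hom).out 0 4).mpr
    exact congrArg PrimeSpectrum.asIdeal hclosed
  let e : sq.DomExt :=
    { A' := A'
      K' := Ω
      φ := φc.hom
      ψ := ψc.hom
      comm := congrArg CommRingCat.Hom.hom hcomm
      isLocalHom := hloc }
  have hcl_over : cl ≫ U.hom = Spec.map (CommRingCat.ofHom e.φ) ≫ sq.str := by
    rw [← Over.w h]
    show cl ≫ h.left ≫ sq.str = Spec.map φc ≫ sq.str
    rw [← Category.assoc, ← hφ]
  let cA' : e.ptA' ⟶ U := Over.homMk cl hcl_over
  refine ⟨e, (yon S).map cA' ≫ a ≫ fst, ?_, ?_⟩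
  · have hw : w = e.ptK'.hom := by
      have hwα : α.left ≫ U.left.fromSpecResidueField u ≫ U.hom = w := Over.w α
      rw [← hwα]
      show α.left ≫ U.left.fromSpecResidueField u ≫ U.hom =
        Spec.map (CommRingCat.ofHom (algebraMap A' Ω)) ≫ Spec.map φc ≫ sq.str
      rw [hφ, ← Over.w h]
      simp only [Category.assoc]
      rw [reassoc_of% F1]
      rfl
    let θ : e.ptK' ⟶ Over.mk w := Over.homMk (𝟙 _) (by rw [Category.id_comp]; exact hw)
    let jK' : e.ptK' ⟶ e.ptA' := Over.homMk (Spec.map (CommRingCat.ofHom (algebraMap e.A' e.K'))) rfl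
    have e3 : jK' ≫ cA' = θ ≫ α ≫ κu := by
      apply Over.OverMorphism.ext
      show Spec.map (CommRingCat.ofHom (algebraMap A' Ω)) ≫ cl =
        𝟙 _ ≫ α.left ≫ U.left.fromSpecResidueField u
      rw [Category.id_comp, F1]
    have hψ' : Spec.map (CommRingCat.ofHom e.ψ) ≫ sq.ptK.hom = e.ptK'.hom := by
      change Spec.map _ ≫ Spec.map _ ≫ _ = Spec.map _ ≫ Spec.map _ ≫ _
      rw [← Spec.map_comp_assoc, ← Spec.map_comp_assoc, ← CommRingCat.ofHom_comp,
        ← CommRingCat.ofHom_comp, e.comm]
    let ψ' : e.ptK' ⟶ sq.ptK := Over.homMk (Spec.map (CommRingCat.ofHom e.ψ)) hψ'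
    have e4 : ψ' = θ ≫ β' := by
      apply Over.OverMorphism.ext
      show Spec.map ψc = 𝟙 _ ≫ β.left
      rw [Category.id_comp, hψ]
    show (yon S).map jK' ≫ (yon S).map cA' ≫ a ≫ fst = (yon S).map ψ' ≫ sq.top
    calc (yon S).map jK' ≫ (yon S).map cA' ≫ a ≫ fst
        = (yon S).map (jK' ≫ cA') ≫ a ≫ fst := by rw [Functor.map_comp, Category.assoc]
      _ = (yon S).map θ ≫ ((yon S).map α ≫ (yon S).map κu ≫ a) ≫ fst := by
          rw [e3]; simp only [Functor.map_comp, Category.assoc]
      _ = (yon S).map θ ≫ ((yon S).map β' ≫ x₀) ≫ fst := by rw [hαβ']; rfl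
      _ = (yon S).map ψ' ≫ sq.top := by
          rw [e4]
          have hcomp : (yon S).map (θ ≫ β') = (yon S).map θ ≫ (yon S).map β' :=
            Functor.map_comp _ _ _
          rw [hcomp]; simp only [Category.assoc]; rw [hx₀1]
  · rw [Category.assoc, Category.assoc, sqP.w, ← Category.assoc a, ← hh, ← Category.assoc,
      ← Functor.map_comp]
    congr 2
    apply Over.OverMorphism.ext
    show cl ≫ h.left = Spec.map φc
    exact hφ.symm

/-- A quasi-separated universally closed morphism of algebraic spaces meets the existence half of the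
valuative criterion. -/
theorem result {S : Scheme.{u}} {X Y : AlgSp.Space S} (f : X ⟶ Y)
    (hqs : AlgSp.IsQuasiSeparatedMor f.hom) (hc : AlgSp.IsUnivClosedMor f.hom) : AlgSp.ExistVC f.hom := by
  exact main f hqs hc

end Groth.Agent.S10289
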