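import Groth.Statements.S9798
import Mathlib

set_option autoImplicit false
universe u
open CategoryTheory AlgebraicGeometry TopologicalSpace
open Props

namespace Groth.Agent.S9798

lemma topologicalKrullDim_nonneg_of_nonempty (Y : Type*) [TopologicalSpace Y] [Nonempty Y] :
    0 ≤ topologicalKrullDim Y := by
  obtain ⟨y⟩ := ‹Nonempty Y›
  have : Nonempty (IrreducibleCloseds Y) :=
    ⟨⟨closure {y}, isIrreducible_singleton.closure, isClosed_closure⟩⟩
  exact Order.krullDim_nonneg

lemma one_le_of_not_le_zero (d : WithBot ℕ∞) (h : ¬ d ≤ 0) : 1 ≤ d := by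
  induction d using WithBot.recBotCoe with
  | bot => exact absurd bot_le h
  | coe e =>
    have h1 : ¬ e ≤ 0 := fun h' => h (by exact_mod_cast h')
    have h2 : 1 ≤ e := Order.one_le_iff_pos.mpr (pos_iff_ne_zero.mpr (by simpa using h1))
    exact_mod_cast h2

/-- A point of a locally Noetherian scheme has local dimension zero exactly when it is isolated. -/
theorem result (X : Scheme.{u}) [IsLocallyNoetherian X] (x : X) :
    FlatMor.localDim X x = 0 ↔ IsOpen ({x} : Set X) := by
  unfold FlatMor.localDim
  constructor
  · intro h
    -- some open neighbourhood has dimension ≤ 0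
    have hex : ∃ U : {U : TopologicalSpace.Opens X // x ∈ U},
        topologicalKrullDim (U.1 : Set X) ≤ 0 := by
      by_contra hcon
      push Not at hcon
      have h1 : (1 : WithBot ℕ∞) ≤ ⨅ U : {U : TopologicalSpace.Opens X // x ∈ U},
          topologicalKrullDim (U.1 : Set X) := by
        refine le_iInf fun U => ?_
        exact one_le_of_not_le_zero _ (not_le.mpr (hcon U))
      rw [h] at h1
      exact absurd h1 (by decide)
    obtain ⟨⟨U, hxU⟩, hU⟩ := hex
    have : IsLocallyArtinian (U : Scheme) := IsLocallyArtinian.of_topologicalKrullDim_le_zero hU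
    have hdisc : DiscreteTopology (U : Scheme) := inferInstance
    have hopen : IsOpen ({⟨x, hxU⟩} : Set U) := isOpen_discrete _
    have := U.isOpenEmbedding'.isOpenMap _ hopen
    convert this using 1
    ext y
    simp only [Set.mem_singleton_iff, Set.mem_image]
    constructor
    · rintro rfl
      exact ⟨⟨y, hxU⟩, rfl, rfl⟩
    · rintro ⟨z, hz, rfl⟩
      rw [hz]
  · intro h
    apply le_antisymm
    · refine (iInf_le _ ⟨⟨{x}, h⟩, rfl⟩).trans ?_
      have : DiscreteTopology ((⟨{x}, h⟩ : TopologicalSpace.Opens X) : Set X) := by
        have : Subsingleton ((⟨{x}, h⟩ : TopologicalSpace.Opens X) : Set X) := by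
          constructor
          rintro ⟨a, ha⟩ ⟨b, hb⟩
          have ha' : a = x := ha
          have hb' : b = x := hb
          exact Subtype.ext (ha'.trans hb'.symm)
        infer_instance
      exact topologicalKrullDim_zero_of_discreteTopology _
    · refine le_iInf fun U => ?_
      have : Nonempty (U.1 : Set X) := ⟨⟨x, U.2⟩⟩
      exact topologicalKrullDim_nonneg_of_nonempty _

end Groth.Agent.S9798
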