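import Groth.Statements.S10310
import Groth.Agent.S9798
import Groth.Agent.S10289
import Groth.Agent.Lib.Helper5.AlgSpLocPBC
import Groth.Agent.Lib.Helper5.AlgSpLocPInst
import Groth.Agent.Lib.Helper1.SevenProps

set_option autoImplicit false
universe u
open CategoryTheory CategoryTheory.Limits AlgebraicGeometry
open AlgSp

namespace Groth.Agent.S10310

open Groth.Agent.Lib.helper11 Groth.Agent.Lib.helper10 IsLocalRing

/-- `x` is isolated in its fibre -/
def Isol {X Y : Scheme.{u}} (f : X ⟶ Y) (x : X) : Prop :=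
  ∃ O : Set X, IsOpen O ∧ x ∈ O ∧ ∀ y ∈ O, f y = f x → y = x

theorem isOpen_asFiber_iff {X Y : Scheme.{u}} (f : X ⟶ Y) (x : X) :
    IsOpen ({f.asFiber x} : Set (f.fiber (f x))) ↔ Isol f x := by
  rw [← (f.fiberHomeo (f x)).isOpen_image]
  simp only [Set.image_singleton, Scheme.Hom.asFiber, Homeomorph.apply_symm_apply]
  rw [isOpen_induced_iff]
  constructor
  · rintro ⟨O, hO, hOe⟩
    refine ⟨O, hO, ?_, fun y hy hfy => ?_⟩
    · have : (⟨x, rfl⟩ : f ⁻¹' {f x}) ∈ Subtype.val ⁻¹' O := by rw [hOe]; rfl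
      exact this
    · have : (⟨y, hfy⟩ : f ⁻¹' {f x}) ∈ Subtype.val ⁻¹' O := hy
      rw [hOe] at this
      exact congrArg Subtype.val this
  · rintro ⟨O, hO, hxO, h⟩
    refine ⟨O, hO, ?_⟩
    ext ⟨y, hy⟩
    constructor
    · intro hyO
      exact Subtype.ext (h y hyO hy)
    · intro hyx
      have : y = x := congrArg Subtype.val hyx
      subst this
      exact hxO

theorem fibreDimAt_eq_zero_iff {X Y : Scheme.{u}} (f : X ⟶ Y) [LocallyOfFiniteType f] (x : X) :
    FlatMor.fibreDimAt f x = 0 ↔ Isol f x := by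
  unfold FlatMor.fibreDimAt
  have hp : LocallyOfFiniteType (f.fiberToSpecResidueField (f x)) := by
    unfold Scheme.Hom.fiberToSpecResidueField
    exact MorphismProperty.pullback_snd (P := @LocallyOfFiniteType) _ _ inferInstance
  have hN0 : IsLocallyNoetherian (Spec (Y.residueField (f x))) := inferInstance
  have hN : IsLocallyNoetherian (f.fiber (f x)) :=
    @LocallyOfFiniteType.isLocallyNoetherian _ _ (f.fiberToSpecResidueField (f x)) hp hN0
  rw [Groth.Agent.S9798.result, isOpen_asFiber_iff]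

theorem isol_comp {A B C : Scheme.{u}} (e : A ⟶ B) (g : B ⟶ C) (x : A) (he : Isol e x)
    (hg : Isol g (e x)) : Isol (e ≫ g) x := by
  obtain ⟨O₁, hO₁, hx₁, h₁⟩ := he
  obtain ⟨O₂, hO₂, hx₂, h₂⟩ := hg
  refine ⟨O₁ ∩ e ⁻¹' O₂, hO₁.inter (hO₂.preimage e.continuous), ⟨hx₁, hx₂⟩, fun y hy hfy => ?_⟩
  have h3 : e y = e x := h₂ (e y) hy.2 (by simpa using hfy)
  exact h₁ y hy.1 h3

theorem isol_of_comp {A B C : Scheme.{u}} (k : A ⟶ B) (b : B ⟶ C) (x : A) (h : Isol (k ≫ b) x) :
    Isol k x := by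
  obtain ⟨O, hO, hx, h⟩ := h
  refine ⟨O, hO, hx, fun y hy hfy => h y hy ?_⟩
  simp only [Scheme.Hom.comp_apply, hfy]

theorem isol_descend {A B C : Scheme.{u}} (r : A ⟶ B) (g : B ⟶ C) (x : A) (hr : IsOpenMap r)
    (h : Isol (r ≫ g) x) : Isol g (r x) := by
  obtain ⟨O, hO, hx, h⟩ := h
  refine ⟨r '' O, hr O hO, ⟨x, hx, rfl⟩, ?_⟩
  rintro _ ⟨y, hy, rfl⟩ hfy
  rw [h y hy (by simpa using hfy)]

theorem isol_of_lqf {A B : Scheme.{u}} (e : A ⟶ B) [LocallyQuasiFinite e] (x : A) : Isol e x := by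
  have h1 := e.isDiscrete_preimage_singleton (e x)
  rw [isDiscrete_iff_forall_mem_exists_isOpen] at h1
  obtain ⟨O, hO, hOe⟩ := h1 x rfl
  have hxO : x ∈ O := by
    have : x ∈ O ∩ e ⁻¹' {e x} := by rw [hOe]; rfl
    exact this.1
  refine ⟨O, hO, hxO, fun y hy hfy => ?_⟩
  have : y ∈ O ∩ e ⁻¹' {e x} := ⟨hy, hfy⟩
  rw [hOe] at this
  exact this

theorem lqf_of_isol {A B : Scheme.{u}} (f : A ⟶ B) [LocallyOfFiniteType f] (h : ∀ x, Isol f x) :
    LocallyQuasiFinite f := by
  rw [locallyQuasiFinite_iff_isDiscrete_preimage_singleton]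
  intro v
  rw [isDiscrete_iff_forall_mem_exists_isOpen]
  intro x hx
  obtain ⟨O, hO, hxO, hO'⟩ := h x
  refine ⟨O, hO, ?_⟩
  ext y
  constructor
  · rintro ⟨hyO, hyv⟩
    have hx' : f x = v := hx
    have hyv' : f y = v := hyv
    exact hO' y hyO (hyv'.trans hx'.symm)
  · intro hyx
    have : y = x := hyx
    subst this
    exact ⟨hxO, hx⟩

variable {S : Scheme.{u}}

set_option backward.isDefEq.respectTransparency.types false in
set_option maxHeartbeats 800000 in
theorem forward {X Y : AlgSp.Space S} (f : X ⟶ Y)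
    (h : AlgSp.LocP ((@LocallyQuasiFinite : MorphismProperty Scheme.{u}) ⊓ @LocallyOfFiniteType) f.hom)
    (x : AlgSp.Points X.obj) :
    AlgSp.HasAtMor (fun _ _ h u => FlatMor.fibreDimAt h u = 0) f.hom x := by
  obtain ⟨V, b, hbe, hbs⟩ := Y.property.atlas
  have sqXV : IsPullback (pullback.fst f.hom b) (pullback.snd f.hom b) f.hom b :=
    IsPullback.of_hasPullback _ _
  generalize pullback.fst f.hom b = fstV at sqXV
  generalize pullback.snd f.hom b = sndV at sqXV
  generalize pullback f.hom b = XV at fstV sndV sqXV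
  have hXV : IsAlgSpace XV :=
    Groth.Agent.Lib.helper5.isAlgSpace_of_isPullback Y.property.diag X.property (IsAlgSpace.yon_obj V) sqXV
  obtain ⟨U, a₀, ha₀e, ha₀s⟩ := hXV.atlas
  obtain ⟨k, hk⟩ := (yon S).map_surjective (a₀ ≫ sndV)
  have hfstV : RepWith @Etale fstV := (RepWith (S := S) @Etale).of_isPullback sqXV.flip hbe
  have hfstVs : RepWith @Surjective fstV := (RepWith (S := S) @Surjective).of_isPullback sqXV.flip hbs
  have ha : RepWith @Etale (a₀ ≫ fstV) := (repWith_isMultiplicative (S := S) @Etale).comp_mem _ _ ha₀e hfstV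
  have has : RepWith @Surjective (a₀ ≫ fstV) :=
    (repWith_isMultiplicative (S := S) @Surjective).comp_mem _ _ ha₀s hfstVs
  have comm : (a₀ ≫ fstV) ≫ f.hom = (yon S).map k ≫ b := by
    rw [Category.assoc, sqXV.w, ← Category.assoc, hk]
  have hk' := h _ b k ha hbe comm
  have hkq : LocallyQuasiFinite k.left := hk'.1
  have hkt : LocallyOfFiniteType k.left := hk'.2
  obtain ⟨u, hu⟩ := surjective_ofPt _ has x
  exact ⟨U, V, a₀ ≫ fstV, b, k, u, ha, hbe, comm, hu,
    (fibreDimAt_eq_zero_iff k.left u).mpr (isol_of_lqf k.left u)⟩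

set_option backward.isDefEq.respectTransparency.types false in
set_option maxHeartbeats 800000 in
theorem backward {X Y : AlgSp.Space S} (f : X ⟶ Y)
    (hf : AlgSp.LocP @LocallyOfFiniteType f.hom)
    (hloc : ∀ x : AlgSp.Points X.obj, AlgSp.HasAtMor (fun _ _ h u => FlatMor.fibreDimAt h u = 0) f.hom x) :
    AlgSp.LocP ((@LocallyQuasiFinite : MorphismProperty Scheme.{u}) ⊓ @LocallyOfFiniteType) f.hom := by
  intro U' V' a' b' h' ha' hb' hsq'
  have hh'lft : LocallyOfFiniteType h'.left := hf a' b' h' ha' hb' hsq'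
  refine ⟨?_, hh'lft⟩
  refine lqf_of_isol h'.left fun u' => ?_
  obtain ⟨U, V, a, b, h, u, ha, hb, hsq, hux, hQ⟩ := hloc (Points.ofPt a' u')
  have hhlft : LocallyOfFiniteType h.left := hf a b h ha hb hsq
  have hisol : Isol h.left u := (fibreDimAt_eq_zero_iff h.left u).mp hQ
  obtain ⟨U'', r, s', sqU⟩ := ha.1 a'
  obtain ⟨s, rfl⟩ := (yon S).map_surjective s'
  have hr : Etale r.left := ha.2 _ _ _ sqU
  have hs : Etale s.left := ha'.2 _ _ _ sqU.flip
  obtain ⟨u'', hsu, hru⟩ := exists_of_isPullback_schemes sqU u u' hux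
  obtain ⟨V'', v', v0, sqV⟩ := hb.1 b'
  obtain ⟨v, rfl⟩ := (yon S).map_surjective v0
  have hv' : Etale v'.left := hb.2 _ _ _ sqV
  have hv : Etale v.left := hb'.2 _ _ _ sqV.flip
  obtain ⟨k0, hk1, hk2⟩ := sqV.exists_lift ((yon S).map (s ≫ h)) ((yon S).map (r ≫ h')) (by
    rw [Functor.map_comp, Category.assoc, ← hsq, ← Category.assoc, sqU.w, Category.assoc, hsq',
      Functor.map_comp, Category.assoc])
  obtain ⟨k, rfl⟩ := (yon S).map_surjective k0
  have hk1' : k ≫ v = s ≫ h := (yon S).map_injective (by rw [Functor.map_comp, hk1])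
  have hk2' : k ≫ v' = r ≫ h' := (yon S).map_injective (by rw [Functor.map_comp, hk2])
  have hsq1 : LocallyQuasiFinite s.left := Groth.Agent.S10265.lqf_of_etale s.left
  have hvq : LocallyQuasiFinite v'.left := Groth.Agent.S10265.lqf_of_etale v'.left
  have h1 : Isol (s.left ≫ h.left) u'' := isol_comp s.left h.left u'' (isol_of_lqf s.left u'') (by rw [hsu]; exact hisol)
  have h2 : Isol (k.left ≫ v.left) u'' := by
    rw [← Over.comp_left, hk1', Over.comp_left]
    exact h1
  have h3 : Isol k.left u'' := isol_of_comp k.left v.left u'' h2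
  have h4 : Isol (k.left ≫ v'.left) u'' := isol_comp k.left v'.left u'' h3 (isol_of_lqf v'.left _)
  have h5 : Isol (r.left ≫ h'.left) u'' := by
    rw [← Over.comp_left, ← hk2', Over.comp_left]
    exact h4
  have h6 := isol_descend r.left h'.left u'' r.left.isOpenMap h5
  rw [hru] at h6
  exact h6

theorem main {X Y : AlgSp.Space S} (f : X ⟶ Y)
    (hf : AlgSp.LocP @LocallyOfFiniteType f.hom) :
    AlgSp.LocP (@LocallyQuasiFinite ⊓ @LocallyOfFiniteType) f.hom ↔
      ∀ x : AlgSp.Points X.obj, AlgSp.HasAtMor (fun _ _ h u => FlatMor.fibreDimAt h u = 0) f.hom x :=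
  ⟨fun h x => forward f h x, backward f hf⟩

/-- A morphism locally of finite type is locally quasi-finite if and only if it has relative dimension 0
at every point. -/
theorem result {S : Scheme.{u}} {X Y : AlgSp.Space S} (f : X ⟶ Y)
    (hf : AlgSp.LocP @LocallyOfFiniteType f.hom) :
    AlgSp.LocP (@LocallyQuasiFinite ⊓ @LocallyOfFiniteType) f.hom ↔
      ∀ x : AlgSp.Points X.obj, AlgSp.HasAtMor (fun _ _ h u => FlatMor.fibreDimAt h u = 0) f.hom x := by
  exact main f hf

end Groth.Agent.S10310
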