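import Groth.Statements.S9877
import Groth.Agent.Lib.Helper5.ZarRepBasis
import Groth.Agent.Lib.Helper5.AlgSpCoprod7
import Groth.Agent.Lib.Helper5.AlgSpOpenSub

set_option autoImplicit false
universe u
open CategoryTheory CategoryTheory.Limits AlgebraicGeometry
open AlgSp

namespace Groth.Agent.S9877

/-- Let `F` be an fppf sheaf of sets over `S` and `F_i ⟶ F` a family of maps of sheaves such that each
`F_i` is an algebraic space over `S`, each `F_i ⟶ F` is representable by open immersions, the
induced map from the coproduct `∐ F_i` (in sheaves) to `F` is a surjective map of sheaves, and `∐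
F_i` is an algebraic space. Then `F` is an algebraic space over `S`. -/
theorem result (S : Scheme.{u}) (F : AlgSp.Sp S) {ι : Type u} (Fi : ι → AlgSp.Sp S)
    (f : ∀ i, Fi i ⟶ F) (halg : ∀ i, AlgSp.IsAlgSpace (Fi i))
    (hopen : ∀ i, AlgSp.RepWith @IsOpenImmersion (f i)) (c : Cofan Fi) (hc : IsColimit c)
    (hsurj : Sheaf.IsLocallySurjective (Cofan.IsColimit.desc hc f)) (hcop : AlgSp.IsAlgSpace c.pt) :
    AlgSp.IsAlgSpace F := by
  classical
  let desc : c.pt ⟶ F := Cofan.IsColimit.desc hc f
  have hdesc : ∀ k, c.inj k ≫ desc = f k := fun k => Cofan.IsColimit.fac hc f k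
  -- Step 1: decomposition of any `g : h_T ⟶ F`
  have key : ∀ (T : Over S) (g : (yon S).obj T ⟶ F),
      ∃ (Tk : ι → Over S) (t : ∀ k, Tk k ⟶ T) (fb : ∀ k, (yon S).obj (Tk k) ⟶ Fi k),
        (∀ k, IsPullback (fb k) ((yon S).map (t k)) (f k) g) ∧ (∀ k, IsOpenImmersion (t k).left) ∧
        (∀ x : T.left, ∃ k, x ∈ Set.range (t k).left) := by
    intro T g
    choose Tk t fb sq using fun k => (hopen k).1 g
    have hoi : ∀ k, IsOpenImmersion (t k).left := fun k => (hopen k).2 g (fb k) (t k) (sq k)
    refine ⟨Tk, t, fb, sq, hoi, ?_⟩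
    intro x
    have hR := (Groth.Agent.Lib.helper5.Epi.isLocallySurjective_iff desc).1 hsurj T g
    obtain ⟨T', φ, t', ⟨σ, hσ⟩, rfl⟩ := Groth.Agent.Lib.helper5.OpenSub.exists_mem_of_mem_J _ hR x
    obtain ⟨T'k, s, fa, sqA, -, hcov⟩ := Groth.Agent.Lib.helper5.Coprod.exists_decomposition Fi c hc σ
    obtain ⟨k, t'', rfl⟩ := hcov t'
    obtain ⟨l, -, hl2⟩ := (sq k).exists_lift (fa k) ((yon S).map (s k ≫ φ)) (by
      rw [← hdesc k, ← Category.assoc, (sqA k).w, Category.assoc, hσ, Functor.map_comp, Category.assoc])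
    obtain ⟨m, rfl⟩ := (yon S).map_surjective l
    have hm : m ≫ t k = s k ≫ φ := by
      apply (yon S).map_injective
      rw [Functor.map_comp, hl2]
    refine ⟨k, m.left t'', ?_⟩
    have := congrArg (fun q => q.left t'') hm
    simpa using this
  -- Step 2: `desc` is representable, etale and surjective
  have hdescrep : ∀ (P : MorphismProperty Scheme.{u}) [P.RespectsIso],
      (∀ (T : Over S) (Tk : ι → Over S) (t : ∀ k, Tk k ⟶ T), (∀ k, IsOpenImmersion (t k).left) →
        (∀ x : T.left, ∃ k, x ∈ Set.range (t k).left) →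
          P (Groth.Agent.Lib.helper5.Coprod.sigmaOverDesc Tk t).left) → RepWith P desc := by
    intro P _ hP
    refine Groth.Agent.Lib.helper5.Coprod.repWith_of_forall_exists P desc (fun T g => ?_)
    obtain ⟨Tk, t, fb, sq, hoi, hcov⟩ := key T g
    let a : ∀ k, (yon S).obj (Tk k) ⟶ pullback desc g := fun k =>
      pullback.lift (fb k ≫ c.inj k) ((yon S).map (t k)) (by rw [Category.assoc, hdesc, (sq k).w])
    have sqa : ∀ k, IsPullback (a k) (fb k) (pullback.fst desc g) (c.inj k) := by
      intro k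
      have outer : IsPullback (a k ≫ pullback.snd desc g) (fb k) g (c.inj k ≫ desc) := by
        rw [pullback.lift_snd, hdesc]
        exact (sq k).flip
      exact IsPullback.of_right outer (pullback.lift_fst _ _ _) (IsPullback.of_hasPullback desc g).flip
    obtain ⟨hQ⟩ := Groth.Agent.Lib.helper5.Coprod.nonempty_isColimit_of_isPullback' Fi c hc
      (pullback.fst desc g) (fun k => (yon S).obj (Tk k)) a fb sqa
    let hYon := Groth.Agent.Lib.helper5.Coprod.isColimitYonSigma Tk
    let e := hYon.coconePointUniqueUpToIso hQ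
    have he : ∀ k, (yon S).map (Groth.Agent.Lib.helper5.Coprod.sigmaOverι Tk k) ≫ e.hom = a k :=
      fun k => hYon.comp_coconePointUniqueUpToIso_hom hQ ⟨k⟩
    have h2 : e.hom ≫ pullback.snd desc g =
        (yon S).map (Groth.Agent.Lib.helper5.Coprod.sigmaOverDesc Tk t) := by
      apply hYon.hom_ext
      rintro ⟨k⟩
      simp only [Cofan.mk_pt, Cofan.mk_ι_app]
      rw [← Category.assoc, he k, ← Functor.map_comp, Groth.Agent.Lib.helper5.Coprod.sigmaOverι_desc]
      exact pullback.lift_snd _ _ _
    refine ⟨_, Groth.Agent.Lib.helper5.Coprod.sigmaOverDesc Tk t, e.hom ≫ pullback.fst desc g, ?_,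
      hP T Tk t hoi hcov⟩
    refine IsPullback.of_iso_pullback ⟨?_⟩ e rfl h2
    rw [← h2, Category.assoc, Category.assoc, pullback.condition]
  have hdesc_et : RepWith @Etale desc := by
    refine hdescrep @Etale (fun T Tk t hoi hcov => ?_)
    show Etale (Sigma.desc (fun k => (t k).left))
    refine IsZariskiLocalAtSource.sigmaDesc (P := @Etale) (fun k => ?_)
    have := hoi k
    infer_instance
  have hdesc_surj : RepWith @Surjective desc := by
    refine hdescrep @Surjective (fun T Tk t hoi hcov => ?_)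
    show Surjective (Sigma.desc (fun k => (t k).left))
    apply Surjective.sigmaDesc_of_union_range_eq_univ
    rw [Set.eq_univ_iff_forall]
    intro x
    obtain ⟨k, hk⟩ := hcov x
    exact Set.mem_iUnion.2 ⟨k, hk⟩
  refine ⟨?_, ?_⟩
  · -- the diagonal is representable
    refine Functor.relativelyRepresentable.diag_of_map_from_obj (fun T a => ?_)
    intro T' b
    obtain ⟨Tk, t, fa, sqA, -, -⟩ := key T a
    obtain ⟨T'k, t', fb, sqB, hoi', hcov'⟩ := key T' b
    obtain ⟨W, w, fst, sq, -⟩ := Groth.Agent.Lib.helper5.ZarRepB.exists_isPullback_of_cover a b T'k t' hoi' hcov' ⊤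
      (fun k => by
        obtain ⟨Wk, v', fst', sqP⟩ := (halg k).representable_from_yon (fa k) (fb k)
        obtain ⟨v, rfl⟩ := (yon S).map_surjective fst'
        have h1 := sqP.paste_horiz (sqA k).flip
        rw [(sqB k).w, ← Functor.map_comp] at h1
        exact ⟨Wk, v', (yon S).map (v ≫ t k), h1, trivial⟩)
    exact ⟨W, w, fst, sq⟩
  · obtain ⟨U, p, hpe, hps⟩ := hcop.atlas
    exact ⟨U, p ≫ desc, (RepWith @Etale).comp_mem _ _ hpe hdesc_et,
      (RepWith @Surjective).comp_mem _ _ hps hdesc_surj⟩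

end Groth.Agent.S9877
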