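import Mathlib
import Groth.Agent.LibFibReg5_29
import Groth.Agent.Lib.Helper24.FibreRegular

/-!
# Fibrewise regular sequences: abstract form of the fibre local ring (helper29)

`exists_away_regFlat_of_surjective`: the form of `exists_away_regFlat` in which the local ring of
the fibre is given abstractly, as a quotient `L` of a localization `Sr` of `S` at the prime `r` by
the ideal generated by `p = r ∩ R`.  This is the shape in which the local rings of scheme-theoretic
fibres appear (`O_{X,x} → O_{X_s,x}` surjective with kernel `m_s O_{X,x}`).
-/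

set_option autoImplicit false
set_option linter.style.haveILetI false
universe u
open TensorProduct IsLocalRing RingTheory.Sequence
open scoped Pointwise

namespace Groth.Agent.LibFibReg29

open Groth.Agent.Lib.helper17.RegNear

/-- `R → S` flat of finite presentation, `r` a prime of `S` over `p`, `Sr` the localization of `S` at
`r`, `ψ : Sr → L` surjective with kernel `p Sr`.  If the images of `ys` in `L` form a weakly regular
sequence then there is `g ∉ r` such that `ys` is weakly regular on `S_g` with all the successive
quotients flat over `R`. -/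
theorem exists_away_regFlat_of_surjective {R S : Type u} [CommRing R] [CommRing S] [Algebra R S]
    [Module.Flat R S] [Algebra.FinitePresentation R S] (p : Ideal R) [p.IsPrime]
    (r : Ideal S) [r.IsPrime] [r.LiesOver p]
    (Sr : Type u) [CommRing Sr] [Algebra S Sr] [IsLocalization.AtPrime Sr r]
    (L : Type u) [CommRing L] (ψ : Sr →+* L) (hψ : Function.Surjective ψ)
    (hker : RingHom.ker ψ = (p.map (algebraMap R S)).map (algebraMap S Sr))
    (ys : List S) (h : IsWeaklyRegular L (ys.map (ψ.comp (algebraMap S Sr)))) :
    ∃ g : S, g ∉ r ∧ ∀ (B : Type u) [CommRing B] [Algebra S B] [Algebra R B]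
      [IsScalarTower R S B] [IsLocalization.Away g B], RegFlat R B (ys.map (algebraMap S B)) := by
  obtain ⟨q, hq, hqr⟩ := Groth.Agent.Lib.Helper24.FibreRegular.exists_fiber_prime R S p r
  subst hqr
  set r := fibPrime p q with hr
  let e1 : Sr ≃ₐ[S] Localization.AtPrime r := IsLocalization.algEquiv r.primeCompl _ _
  let I : Ideal (Localization.AtPrime r) :=
    (p.map (algebraMap R S)).map (algebraMap S (Localization.AtPrime r))
  have hI : I = (RingHom.ker ψ).map (e1.toRingEquiv : Sr →+* Localization.AtPrime r) := by
    rw [hker, Ideal.map_map]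
    have : (algebraMap S (Localization.AtPrime r)) =
        (e1.toRingEquiv : Sr →+* Localization.AtPrime r).comp (algebraMap S Sr) := by
      ext a
      exact (e1.commutes a).symm
    rw [← this]
  let e2 : L ≃+* Sr ⧸ RingHom.ker ψ := (RingHom.quotientKerEquivOfSurjective hψ).symm
  let e3 : (Sr ⧸ RingHom.ker ψ) ≃+* (Localization.AtPrime r ⧸ I) :=
    Ideal.quotientEquiv _ _ e1.toRingEquiv hI
  let e4 : (Localization.AtPrime r ⧸ I) ≃+* Localization.AtPrime q :=
    (Ideal.Fiber.algEquivAux₂ p q).symm.toRingEquiv
  let E : L ≃+* Localization.AtPrime q := (e2.trans e3).trans e4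
  have hE : ∀ s : S, E (ψ (algebraMap S Sr s)) = fibMap p q s := by
    intro s
    change e4 (e3 (e2 (ψ (algebraMap S Sr s)))) = _
    have h2 : e2 (ψ (algebraMap S Sr s)) = Ideal.Quotient.mk _ (algebraMap S Sr s) := by
      apply (RingHom.quotientKerEquivOfSurjective hψ).injective
      rw [RingEquiv.apply_symm_apply]
      rfl
    rw [h2]
    have h3 : e3 (Ideal.Quotient.mk _ (algebraMap S Sr s)) =
        Ideal.Quotient.mk _ (algebraMap S (Localization.AtPrime r) s) := by
      change Ideal.Quotient.mk _ (e1 (algebraMap S Sr s)) = _
      rw [e1.commutes]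
    rw [h3]
    change (Ideal.Fiber.algEquivAux₂ p q).symm _ = _
    rw [AlgEquiv.symm_apply_eq]
    exact (algEquivAux₂_fibMap p q s).symm
  have h' : IsWeaklyRegular (Localization.AtPrime q) (ys.map (fibMap p q)) := by
    have h1 := (isWeaklyRegular_map_ringEquiv (A := L) (B := Localization.AtPrime q) E _).mp h
    rw [List.map_map] at h1
    have h2 : ((E : L → Localization.AtPrime q) ∘ (ψ.comp (algebraMap S Sr) : S → L)) =
        (fibMap p q : S → Localization.AtPrime q) := by
      funext s
      exact hE s
    rw [h2] at h1
    exact h1
  exact exists_away_regFlat p q ys h'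

end Groth.Agent.LibFibReg29
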