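import Groth.Statements.S10855
import Mathlib
import Groth.Agent.Lib.Helper6.IdealSheaf

set_option autoImplicit false
universe u
open BlowUp

namespace Groth.Agent.S10855


theorem nzd_map_of_flat {R A : Type*} [CommRing R] [CommRing A] [Algebra R A] [Module.Flat R A]
    {r : R} (hr : r ∈ nonZeroDivisors R) : algebraMap R A r ∈ nonZeroDivisors A := by
  have h : IsSMulRegular A r := Module.Flat.isSMulRegular_of_nonZeroDivisors hr
  rw [mem_nonZeroDivisors_iff_right]
  intro a ha
  apply h
  simp only [smul_zero]
  rw [Algebra.smul_def, mul_comm]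
  exact ha


open AlgebraicGeometry CategoryTheory in
/-- Let f : X → Y be a flat morphism of schemes and 𝓘 the quasi-coherent ideal sheaf of an effective
Cartier divisor on Y (near every point generated on an affine open by one non-zero-divisor). Then
the inverse image ideal sheaf of 𝓘 on X is again the ideal of an effective Cartier divisor: the
subscheme f⁻¹(Z) is an effective Cartier divisor on X. (The published corollary also identifies this
divisor with the pullback of Z as a divisor; that clause is not included here.) -/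
theorem result {X Y : Scheme.{u}} (f : X ⟶ Y) [Flat f]
    (𝓘 : Y.IdealSheafData) (hD : BlowUp.IsEffCartierIdeal 𝓘) :
    BlowUp.IsEffCartierIdeal (𝓘.comap f) := by
  intro x
  obtain ⟨U, hxU, g, hg, hI⟩ := hD (f x)
  obtain ⟨_, ⟨W, hW, rfl⟩, hxW, hWU⟩ :=
    X.isBasis_affineOpens.exists_subset_of_mem_open (show x ∈ (f ⁻¹ᵁ U.1 : Set X) from hxU)
      (f ⁻¹ᵁ U.1).2
  refine ⟨⟨W, hW⟩, hxW, (f.appLE U.1 W hWU).hom g, ?_, ?_⟩
  · have hflat := HasRingHomProperty.appLE (P := @Flat) f inferInstance U ⟨W, hW⟩ hWU
    algebraize [(f.appLE U.1 W hWU).hom]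
    have : Module.Flat Γ(Y, U.1) Γ(X, W) := hflat
    exact nzd_map_of_flat hg
  · rw [Groth.Agent.Lib.helper6.ideal_comap f 𝓘 U ⟨W, hW⟩ hWU, hI, Ideal.map_span, Set.image_singleton]

end Groth.Agent.S10855
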