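import Groth.Statements.S1682
import Mathlib
import Groth.Agent.S10855

set_option autoImplicit false
universe u
open CategoryTheory CategoryTheory.Limits AlgebraicGeometry TopologicalSpace
open SDiv

namespace Groth.Agent.S1682


theorem isEffCartierIdeal_top (X : Scheme.{u}) : BlowUp.IsEffCartierIdeal (⊤ : X.IdealSheafData) := by
  intro x
  obtain ⟨_, ⟨W, hW, rfl⟩, hxW, -⟩ :=
    X.isBasis_affineOpens.exists_subset_of_mem_open (Set.mem_univ x) isOpen_univ
  refine ⟨⟨W, hW⟩, hxW, 1, one_mem _, ?_⟩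
  simp

theorem comap_eq_top_of_disjoint {X Y : Scheme.{u}} (𝓘 : X.IdealSheafData) (g : Y ⟶ X)
    (h : ∀ y : Y, g y ∉ 𝓘.support) : 𝓘.comap g = ⊤ := by
  rw [← Scheme.IdealSheafData.support_eq_bot_iff, Scheme.IdealSheafData.support_comap]
  ext y
  simp only [TopologicalSpace.Closeds.coe_preimage, Set.mem_preimage, SetLike.mem_coe,
    TopologicalSpace.Closeds.coe_bot, Set.mem_empty_iff_false, iff_false]
  exact h y

theorem isIso_off_center {X X' : Scheme.{u}} (𝓘 : X.IdealSheafData) (b : X' ⟶ X) (hb : BlowUp.IsBlowUp b 𝓘) :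
    IsIso (b ∣_ 𝓘.support.compl) := by
  set U : X.Opens := 𝓘.support.compl with hU
  have hmem : ∀ x : X, x ∈ U ↔ x ∉ 𝓘.support := fun x => Iff.rfl
  have h1 : 𝓘.comap U.ι = ⊤ := by
    apply comap_eq_top_of_disjoint
    intro y
    have : U.ι y ∈ U := by simpa using y.2
    exact (hmem _).1 this
  obtain ⟨h, hh, -⟩ := hb.2 U U.ι (h1 ▸ isEffCartierIdeal_top _)
  have hrange : Set.range h ⊆ Set.range (b ⁻¹ᵁ U).ι := by
    rintro _ ⟨y, rfl⟩
    simp only [Scheme.Opens.range_ι, TopologicalSpace.Opens.map_coe, Set.mem_preimage, SetLike.mem_coe]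
    rw [← Scheme.Hom.comp_apply, hh]
    simpa using y.2
  let k : (U : Scheme) ⟶ (b ⁻¹ᵁ U : Scheme) := IsOpenImmersion.lift (b ⁻¹ᵁ U).ι h hrange
  have hk : k ≫ (b ⁻¹ᵁ U).ι = h := IsOpenImmersion.lift_fac _ _ _
  have h2 : 𝓘.comap ((b ⁻¹ᵁ U).ι ≫ b) = ⊤ := by
    apply comap_eq_top_of_disjoint
    intro y
    have : ((b ⁻¹ᵁ U).ι ≫ b) y ∈ U := by
      rw [Scheme.Hom.comp_apply]
      exact y.2
    exact (hmem _).1 this
  obtain ⟨h', -, huniq⟩ := hb.2 _ ((b ⁻¹ᵁ U).ι ≫ b) (h2 ▸ isEffCartierIdeal_top _)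
  refine ⟨k, ?_, ?_⟩
  · rw [← cancel_mono (b ⁻¹ᵁ U).ι, Category.assoc, hk, Category.id_comp]
    have e1 := huniq ((b ∣_ U) ≫ h) (by
      show ((b ∣_ U) ≫ h) ≫ b = _
      rw [Category.assoc, hh, morphismRestrict_ι])
    have e2 := huniq (b ⁻¹ᵁ U).ι rfl
    rw [e1, e2]
  · rw [← cancel_mono U.ι, Category.assoc, morphismRestrict_ι, ← Category.assoc, hk, hh,
      Category.id_comp]


/-- Let b : X' ⟶ X be a blowing-up of X along the quasi-coherent ideal sheaf 𝓘, with centre Z = support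
of 𝓘. Then b restricted over the open complement of Z is an isomorphism. -/
theorem result {X X' : Scheme.{u}} (𝓘 : X.IdealSheafData) (b : X' ⟶ X) (hb : BlowUp.IsBlowUp b 𝓘) :
    IsIso (b ∣_ 𝓘.support.compl) := by
  exact isIso_off_center 𝓘 b hb

end Groth.Agent.S1682
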