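import Groth.Statements.S8851
import Mathlib
import Groth.Agent.S1682

set_option autoImplicit false
universe u
open CategoryTheory CategoryTheory.Limits AlgebraicGeometry TopologicalSpace
open SDiv

namespace Groth.Agent.S8851


theorem isReduced_sections_of_nzd {X : Scheme.{u}} {W : X.Opens} (hW : IsAffineOpen W)
    (f : Γ(X, W)) (hf : f ∈ nonZeroDivisors Γ(X, W))
    (hred : _root_.IsReduced Γ(X, X.basicOpen f)) : _root_.IsReduced Γ(X, W) := by
  haveI := hW.isLocalization_basicOpen f
  refine ⟨fun s hs => ?_⟩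
  have h1 : IsNilpotent (algebraMap Γ(X, W) Γ(X, X.basicOpen f) s) := hs.map _
  have h2 : algebraMap Γ(X, W) Γ(X, X.basicOpen f) s = 0 := h1.eq_zero
  rw [IsLocalization.map_eq_zero_iff (Submonoid.powers f)] at h2
  obtain ⟨⟨_, n, rfl⟩, hn⟩ := h2
  have : f ^ n ∈ nonZeroDivisors Γ(X, W) := pow_mem hf n
  exact (mem_nonZeroDivisors_iff.1 this).1 s hn

/-- the complement of the support of an ideal sheaf generated by `f` on affine `W`, inside `W`. -/
theorem basicOpen_le_compl_support {X : Scheme.{u}} (𝓙 : X.IdealSheafData) (W : X.affineOpens)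
    (f : Γ(X, W.1)) (hf : 𝓙.ideal W = Ideal.span {f}) (y : X) (hy : y ∈ X.basicOpen f) :
    y ∉ 𝓙.support := by
  have hyW : y ∈ W.1 := X.basicOpen_le f hy
  rw [Scheme.IdealSheafData.mem_support_iff_of_mem hyW, hf, Scheme.zeroLocus_span,
    Scheme.zeroLocus_singleton]
  simpa using hy


theorem isReduced_of_isBlowUp {X X' : Scheme.{u}} [IsReduced X] (𝓘 : X.IdealSheafData) (b : X' ⟶ X)
    (hb : BlowUp.IsBlowUp b 𝓘) : IsReduced X' := by
  set U : X.Opens := 𝓘.support.compl with hU
  haveI : IsIso (b ∣_ U) := Groth.Agent.S1682.isIso_off_center 𝓘 b hb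
  haveI : IsReduced (b ⁻¹ᵁ U).toScheme := isReduced_of_isOpenImmersion (b ∣_ U)
  -- choose the affine charts
  choose W hxW f hf hI using hb.1
  have hcov : TopologicalSpace.IsOpenCover (fun x : X' => (W x).1) := by
    rw [TopologicalSpace.IsOpenCover, eq_top_iff]
    intro x _
    exact TopologicalSpace.Opens.mem_iSup.mpr ⟨x, hxW x⟩
  let 𝒰 := X'.openCoverOfIsOpenCover _ hcov
  refine @IsReduced.of_openCover _ 𝒰 fun x => ?_
  show IsReduced (W x).1.toScheme
  haveI : IsAffine (W x).1.toScheme := (W x).2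
  have hle : X'.basicOpen (f x) ≤ b ⁻¹ᵁ U := by
    intro y hy
    have := basicOpen_le_compl_support _ (W x) (f x) (hI x) y hy
    rw [Scheme.IdealSheafData.support_comap] at this
    exact this
  haveI : IsReduced (X'.basicOpen (f x)).toScheme :=
    isReduced_of_isOpenImmersion (X'.homOfLE hle)
  have h1 : _root_.IsReduced Γ(X', X'.basicOpen (f x)) :=
    isReduced_of_injective (X'.basicOpen (f x)).topIso.inv.hom
      (X'.basicOpen (f x)).topIso.symm.commRingCatIsoToRingEquiv.injective
  have h2 : _root_.IsReduced Γ(X', (W x).1) :=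
    isReduced_sections_of_nzd (W x).2 (f x) (hf x) h1
  haveI : _root_.IsReduced Γ((W x).1.toScheme, ⊤) :=
    isReduced_of_injective (W x).1.topIso.hom.hom
      (W x).1.topIso.commRingCatIsoToRingEquiv.injective
  exact isReduced_of_isAffine_isReduced _


/-- Let X be a reduced scheme, 𝓘 a quasi-coherent ideal sheaf on X and b : X' ⟶ X a blowing up of X in
𝓘. Then X' is reduced. -/
theorem result {X X' : Scheme.{u}} [IsReduced X] (𝓘 : X.IdealSheafData) (b : X' ⟶ X)
    (hb : BlowUp.IsBlowUp b 𝓘) : IsReduced X' := by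
  exact isReduced_of_isBlowUp 𝓘 b hb

end Groth.Agent.S8851
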