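import Groth.Statements.S8852
import Mathlib
-- import your own Groth.Agent.* helpers here

set_option autoImplicit false
universe u
open CategoryTheory CategoryTheory.Limits AlgebraicGeometry TopologicalSpace
open SDiv

namespace Groth.Agent.S8852

section helpers

theorem alg_key {A : Type u} [CommRing A] (I J : Ideal A) (f : A) (hf : f ∈ nonZeroDivisors A)
    (h : I * J = Ideal.span {f}) :
    ∃ s : Set A, Ideal.span s = ⊤ ∧ ∀ a ∈ s, ∃ x ∈ I,
      ∀ (B : Type u) [CommRing B] [Algebra A B] [IsLocalization.Away a B],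
        I.map (algebraMap A B) = Ideal.span {algebraMap A B x} ∧
          algebraMap A B x ∈ nonZeroDivisors B := by
  have hnzd : ∀ r : A, r * f = 0 → r = 0 := fun r hr => (mem_nonZeroDivisors_iff.1 hf).2 r hr
  refine ⟨{a : A | ∃ x ∈ I, ∃ y ∈ J, x * y = a * f}, ?_, ?_⟩
  · -- span = ⊤
    have key : ∀ r ∈ I * J, ∃ c ∈ Ideal.span {a : A | ∃ x ∈ I, ∃ y ∈ J, x * y = a * f},
        r = c * f := by
      intro r hr
      induction hr using Submodule.mul_induction_on' with
      | mem_mul_mem m hm n hn =>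
        have : m * n ∈ Ideal.span {f} := h ▸ Ideal.mul_mem_mul hm hn
        obtain ⟨a, ha⟩ := Ideal.mem_span_singleton'.1 this
        exact ⟨a, Ideal.subset_span ⟨m, hm, n, hn, ha.symm⟩, ha.symm⟩
      | add x hx y hy ihx ihy =>
        obtain ⟨c, hc, rfl⟩ := ihx
        obtain ⟨d, hd, rfl⟩ := ihy
        exact ⟨c + d, Ideal.add_mem _ hc hd, by ring⟩
    have hfm : f ∈ I * J := h ▸ Ideal.mem_span_singleton_self f
    obtain ⟨c, hc, hcf⟩ := key f hfm
    have : c = 1 := by
      have : (c - 1) * f = 0 := by rw [sub_mul, ← hcf]; ring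
      have := hnzd _ this
      exact sub_eq_zero.1 this
    rw [Ideal.eq_top_iff_one, ← this]
    exact hc
  · rintro a ⟨x, hx, y, hy, hxy⟩
    refine ⟨x, hx, ?_⟩
    intro B _ _ _
    have hau : IsUnit (algebraMap A B a) := IsLocalization.Away.algebraMap_isUnit a
    constructor
    · apply le_antisymm
      · rw [Ideal.map_le_iff_le_comap]
        intro z hz
        have : z * y ∈ Ideal.span {f} := h ▸ Ideal.mul_mem_mul hz hy
        obtain ⟨c, hc⟩ := Ideal.mem_span_singleton'.1 this
        have h1 : a * z = c * x := by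
          have : (a * z - c * x) * f = 0 := by
            have e1 : a * z * f = z * (x * y) := by rw [hxy]; ring
            have e2 : c * x * f = x * (z * y) := by rw [← hc]; ring
            rw [sub_mul, e1, e2]; ring
          exact sub_eq_zero.1 (hnzd _ this)
        rw [Ideal.mem_comap, Ideal.mem_span_singleton']
        obtain ⟨u, hu⟩ := hau
        refine ⟨↑u⁻¹ * algebraMap A B c, ?_⟩
        have h2 : algebraMap A B a * algebraMap A B z = algebraMap A B c * algebraMap A B x := by
          rw [← map_mul, ← map_mul, h1]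
        rw [← hu] at h2
        calc ↑u⁻¹ * algebraMap A B c * algebraMap A B x
            = ↑u⁻¹ * (algebraMap A B c * algebraMap A B x) := by ring
          _ = ↑u⁻¹ * (↑u * algebraMap A B z) := by rw [h2]
          _ = algebraMap A B z := by rw [← mul_assoc, Units.inv_mul, one_mul]
      · rw [Ideal.span_singleton_le_iff_mem]
        exact Ideal.mem_map_of_mem _ hx
    · have hfB : algebraMap A B f ∈ nonZeroDivisors B :=
        IsLocalization.map_nonZeroDivisors_le (Submonoid.powers a) B
          (Submonoid.mem_map_of_mem _ hf)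
      have hprod : algebraMap A B x * algebraMap A B y ∈ nonZeroDivisors B := by
        rw [← map_mul, hxy, map_mul]
        exact Submonoid.mul_mem _ hau.mem_nonZeroDivisors hfB
      exact (mul_mem_nonZeroDivisors.1 hprod).1

theorem left {X : Scheme.{u}} (𝓘 𝓙 : X.IdealSheafData)
    (h : BlowUp.IsEffCartierIdeal (𝓘 * 𝓙)) : BlowUp.IsEffCartierIdeal 𝓘 := by
  intro x
  obtain ⟨U, hxU, f, hf, hI⟩ := h x
  have hI' : 𝓘.ideal U * 𝓙.ideal U = Ideal.span {f} := hI
  obtain ⟨s, hs, hsa⟩ := alg_key (𝓘.ideal U) (𝓙.ideal U) f hf hI'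
  have hcover := (U.2.self_le_iSup_basicOpen_iff (s := s)).2 hs
  have hx' := hcover hxU
  rw [Opens.mem_iSup] at hx'
  obtain ⟨⟨a, has⟩, hxa⟩ := hx'
  obtain ⟨g, hgI, hB⟩ := hsa a has
  refine ⟨X.affineBasicOpen a, hxa, ?_⟩
  have hmap : (X.presheaf.map (homOfLE (X.basicOpen_le a)).op).hom = algebraMap _ _ := rfl
  have inst := U.2.isLocalization_basicOpen a
  obtain ⟨h1, h2⟩ := hB Γ(X, X.basicOpen a)
  refine ⟨algebraMap Γ(X, U.1) Γ(X, X.basicOpen a) g, h2, ?_⟩
  rw [← 𝓘.map_ideal_basicOpen U a, hmap]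
  exact h1

end helpers

/-- Let 𝓘, 𝓙 be quasi-coherent ideal sheaves on a scheme X (closed subschemes Z, Y). If the product 𝓘𝓙
is the ideal sheaf of an effective Cartier divisor D, then 𝓘 and 𝓙 are ideal sheaves of effective
Cartier divisors (and D is their sum, D having ideal 𝓘𝓙 by assumption). -/
theorem result {X : Scheme.{u}} (𝓘 𝓙 : X.IdealSheafData)
    (h : BlowUp.IsEffCartierIdeal (𝓘 * 𝓙)) : BlowUp.IsEffCartierIdeal 𝓘 ∧ BlowUp.IsEffCartierIdeal 𝓙 := by
  refine ⟨left 𝓘 𝓙 h, left 𝓙 𝓘 ?_⟩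
  rw [mul_comm]
  exact h

end Groth.Agent.S8852
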