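import Groth.Statements.S1683
import Mathlib
import Groth.Agent.S8851
import Groth.Agent.S8852

set_option autoImplicit false
universe u
open CategoryTheory CategoryTheory.Limits AlgebraicGeometry TopologicalSpace
open SDiv

namespace Groth.Agent.S1683


/-- R: restriction of a nonzerodivisor to a smaller affine open is a nonzerodivisor. -/
theorem nzd_restrict {X : Scheme.{u}} (U D : X.affineOpens) (h : D.1 ≤ U.1)
    (f : Γ(X, U.1)) (hf : f ∈ nonZeroDivisors Γ(X, U.1)) :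
    (X.presheaf.map (homOfLE h).op).hom f ∈ nonZeroDivisors Γ(X, D.1) := by
  have hflat := HasRingHomProperty.appLE (P := @Flat) (𝟙 X) inferInstance U D h
  have e : (𝟙 X : X ⟶ X).appLE U.1 D.1 h = X.presheaf.map (homOfLE h).op := by
    simp only [Scheme.Hom.appLE, Scheme.Hom.id_app]
    exact Category.id_comp _
  rw [e] at hflat
  algebraize [(X.presheaf.map (homOfLE h).op).hom]
  have : Module.Flat Γ(X, U.1) Γ(X, D.1) := hflat
  exact Groth.Agent.S10855.nzd_map_of_flat hf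

/-- L: algebra: if `g` is a nonzerodivisor and `a` becomes a nonzerodivisor in `A_g`, then `a` is
a nonzerodivisor. -/
theorem nzd_of_nzd_away {A B : Type*} [CommRing A] [CommRing B] [Algebra A B] (g : A)
    [IsLocalization.Away g B] (hg : g ∈ nonZeroDivisors A) (a : A)
    (ha : algebraMap A B a ∈ nonZeroDivisors B) : a ∈ nonZeroDivisors A := by
  rw [mem_nonZeroDivisors_iff_right]
  intro s hs
  have h1 : algebraMap A B s * algebraMap A B a = 0 := by rw [← map_mul, hs, map_zero]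
  have h2 : algebraMap A B s = 0 := (mem_nonZeroDivisors_iff_right.1 ha) _ h1
  rw [IsLocalization.map_eq_zero_iff (Submonoid.powers g)] at h2
  obtain ⟨⟨_, n, rfl⟩, hn⟩ := h2
  have : g ^ n ∈ nonZeroDivisors A := pow_mem hg n
  exact (mem_nonZeroDivisors_iff.1 this).1 s hn

/-- P: a product of effective Cartier ideals is effective Cartier. -/
theorem isEffCartierIdeal_mul {X : Scheme.{u}} (𝓐 𝓑 : X.IdealSheafData)
    (hA : BlowUp.IsEffCartierIdeal 𝓐) (hB : BlowUp.IsEffCartierIdeal 𝓑) :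
    BlowUp.IsEffCartierIdeal (𝓐 * 𝓑) := by
  intro x
  obtain ⟨U₁, hx₁, f₁, hf₁, hI₁⟩ := hA x
  obtain ⟨U₂, hx₂, f₂, hf₂, hI₂⟩ := hB x
  obtain ⟨_, ⟨D, hD, rfl⟩, hxD, hDU⟩ :=
    X.isBasis_affineOpens.exists_subset_of_mem_open (show x ∈ ((U₁.1 ⊓ U₂.1 : X.Opens) : Set X) from
      ⟨hx₁, hx₂⟩) (U₁.1 ⊓ U₂.1).2
  have h1 : D ≤ U₁.1 := fun y hy => (hDU hy).1
  have h2 : D ≤ U₂.1 := fun y hy => (hDU hy).2
  refine ⟨⟨D, hD⟩, hxD, (X.presheaf.map (homOfLE h1).op).hom f₁ * (X.presheaf.map (homOfLE h2).op).hom f₂,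
    mul_mem (nzd_restrict U₁ ⟨D, hD⟩ h1 f₁ hf₁) (nzd_restrict U₂ ⟨D, hD⟩ h2 f₂ hf₂), ?_⟩
  have e1 := 𝓐.map_ideal (U := ⟨D, hD⟩) (V := U₁) h1
  have e2 := 𝓑.map_ideal (U := ⟨D, hD⟩) (V := U₂) h2
  rw [hI₁, Ideal.map_span, Set.image_singleton] at e1
  rw [hI₂, Ideal.map_span, Set.image_singleton] at e2
  rw [Scheme.IdealSheafData.ideal_mul, Pi.mul_apply, ← e1, ← e2, Ideal.span_singleton_mul_span_singleton]
  rfl


/-- Q: the inverse image of an effective Cartier ideal under a blowing-up is effective Cartier. -/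
theorem isEffCartierIdeal_comap_of_isBlowUp {X' X'' : Scheme.{u}} (𝓙' : X'.IdealSheafData)
    (b' : X'' ⟶ X') (hb' : BlowUp.IsBlowUp b' 𝓙') (𝓔 : X'.IdealSheafData)
    (hE : BlowUp.IsEffCartierIdeal 𝓔) : BlowUp.IsEffCartierIdeal (𝓔.comap b') := by
  intro x
  set V' : X'.Opens := 𝓙'.support.compl with hV'
  haveI : IsIso (b' ∣_ V') := Groth.Agent.S1682.isIso_off_center 𝓙' b' hb'
  obtain ⟨W', hxW', e, he, hIe⟩ := hE (b' x)
  obtain ⟨W₀, hxW₀, g₀, hg₀, hIg₀⟩ := hb'.1 x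
  obtain ⟨_, ⟨W, hW, rfl⟩, hxW, hWle⟩ :=
    X''.isBasis_affineOpens.exists_subset_of_mem_open
      (show x ∈ ((W₀.1 ⊓ b' ⁻¹ᵁ W'.1 : X''.Opens) : Set X'') from ⟨hxW₀, hxW'⟩) (W₀.1 ⊓ b' ⁻¹ᵁ W'.1).2
  have h1 : W ≤ W₀.1 := fun y hy => (hWle hy).1
  have h2 : W ≤ b' ⁻¹ᵁ W'.1 := fun y hy => (hWle hy).2
  -- generator of the exceptional ideal on W
  set g := (X''.presheaf.map (homOfLE h1).op).hom g₀ with hg_def
  have hg : g ∈ nonZeroDivisors Γ(X'', W) := nzd_restrict W₀ ⟨W, hW⟩ h1 g₀ hg₀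
  have hIg : (𝓙'.comap b').ideal ⟨W, hW⟩ = Ideal.span {g} := by
    have e1 := (𝓙'.comap b').map_ideal (U := ⟨W, hW⟩) (V := W₀) h1
    rw [hIg₀, Ideal.map_span, Set.image_singleton] at e1
    exact e1.symm
  refine ⟨⟨W, hW⟩, hxW, (b'.appLE W'.1 W h2).hom e, ?_, ?_⟩
  swap
  · rw [Groth.Agent.Lib.helper6.ideal_comap b' 𝓔 W' ⟨W, hW⟩ h2, hIe, Ideal.map_span,
      Set.image_singleton]
  -- nonzerodivisor
  set D : X''.Opens := X''.basicOpen g with hD
  have hDaff : IsAffineOpen D := hW.basicOpen g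
  have hDW : D ≤ W := X''.basicOpen_le g
  have hDV : D ≤ b' ⁻¹ᵁ V' := by
    intro y hy
    have := Groth.Agent.S8851.basicOpen_le_compl_support _ ⟨W, hW⟩ g hIg y hy
    rw [Scheme.IdealSheafData.support_comap] at this
    exact this
  -- the flat morphism D → X'
  have hfac : D.ι ≫ b' = X''.homOfLE hDV ≫ (b' ∣_ V') ≫ V'.ι := by
    rw [morphismRestrict_ι, ← Category.assoc, Scheme.homOfLE_ι]
  haveI : IsOpenImmersion (D.ι ≫ b') := by rw [hfac]; infer_instance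
  have hle : D ≤ b' ⁻¹ᵁ W'.1 := hDW.trans h2
  have hflat : (b'.appLE W'.1 D hle).hom.Flat := by
    haveI : IsAffine D.toScheme := hDaff
    have hle' : (⊤ : D.toScheme.Opens) ≤ (D.ι ≫ b') ⁻¹ᵁ W'.1 := by
      intro y _
      show b' (D.ι y) ∈ W'.1
      exact hle y.2
    have := HasRingHomProperty.appLE (P := @Flat) (D.ι ≫ b') inferInstance W'
      ⟨⊤, isAffineOpen_top _⟩ hle'
    have e2 : (D.ι ≫ b').appLE W'.1 ⊤ hle' = b'.appLE W'.1 D hle ≫ D.topIso.inv := by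
      have e0 : D.ι.appLE D ⊤ (by simp) = D.topIso.inv := by
        rw [Scheme.Opens.ι_appLE]
        rfl
      rw [← e0, Scheme.Hom.appLE_comp_appLE]
    rw [e2] at this
    simpa using (RingHom.Flat.respectsIso.cancel_right_isIso (b'.appLE W'.1 D hle) D.topIso.inv).1 this
  haveI := hW.isLocalization_basicOpen g
  apply nzd_of_nzd_away (B := Γ(X'', D)) g hg
  have e3 : algebraMap Γ(X'', W) Γ(X'', D) ((b'.appLE W'.1 W h2).hom e) = (b'.appLE W'.1 D hle).hom e := by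
    have := Scheme.Hom.appLE_map b' h2 (homOfLE hDW).op
    rw [← this]
    rfl
  rw [e3]
  algebraize [(b'.appLE W'.1 D hle).hom]
  have : Module.Flat Γ(X', W'.1) Γ(X'', D) := hflat
  exact Groth.Agent.S10855.nzd_map_of_flat he


theorem main {X X' X'' : Scheme.{u}} (𝓘 𝓙 : X.IdealSheafData) (b : X' ⟶ X) (hb : BlowUp.IsBlowUp b 𝓘)
    (b' : X'' ⟶ X') (hb' : BlowUp.IsBlowUp b' (𝓙.comap b)) : BlowUp.IsBlowUp (b' ≫ b) (𝓘 * 𝓙) := by
  refine ⟨?_, ?_⟩
  · rw [Groth.Agent.Lib.helper6.comap_mul, Scheme.IdealSheafData.comap_comp,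
      Scheme.IdealSheafData.comap_comp]
    exact isEffCartierIdeal_mul _ _
      (isEffCartierIdeal_comap_of_isBlowUp (𝓙.comap b) b' hb' (𝓘.comap b) hb.1) hb'.1
  · intro Y g hg
    rw [Groth.Agent.Lib.helper6.comap_mul] at hg
    obtain ⟨hg1, hg2⟩ := Groth.Agent.S8852.result _ _ hg
    obtain ⟨h, hh, huniq⟩ := hb.2 Y g hg1
    have hg2' : BlowUp.IsEffCartierIdeal ((𝓙.comap b).comap h) := by
      rw [← Scheme.IdealSheafData.comap_comp, hh]
      exact hg2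
    obtain ⟨h', hh', huniq'⟩ := hb'.2 Y h hg2'
    refine ⟨h', ?_, ?_⟩
    · show h' ≫ b' ≫ b = g
      rw [← Category.assoc, hh', hh]
    · intro k hk
      apply huniq'
      apply huniq
      show (k ≫ b') ≫ b = g
      rw [Category.assoc]
      exact hk


/-- Let 𝓘, 𝓙 be quasi-coherent ideal sheaves on X, b : X' ⟶ X a blowing-up along 𝓘 and b' : X'' ⟶ X' a
blowing-up along the inverse image ideal of 𝓙. Then b' ≫ b : X'' ⟶ X is a blowing-up of X along the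
product ideal 𝓘𝓙. -/
theorem result {X X' X'' : Scheme.{u}} (𝓘 𝓙 : X.IdealSheafData) (b : X' ⟶ X) (hb : BlowUp.IsBlowUp b 𝓘)
    (b' : X'' ⟶ X') (hb' : BlowUp.IsBlowUp b' (𝓙.comap b)) : BlowUp.IsBlowUp (b' ≫ b) (𝓘 * 𝓙) := by
  exact main 𝓘 𝓙 b hb b' hb'

end Groth.Agent.S1683
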