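import Mathlib
import Groth.Agent.LibFibReg2_29
import Groth.Agent.Lib.Helper16.RelCartier

/-!
# Local principality of an ideal with flat quotient from the fibre (helper29)

`exists_away_principal`: `A → B`, `I ⊆ B` a finitely generated ideal with `B/I` flat over `A`, `r` a
prime of `B` over `p`, `L = B_r / p B_r` the local ring of the fibre.  If `I L` is principal then
`I B_g` is principal for some `g ∉ r` (Nakayama).
-/

set_option autoImplicit false
set_option linter.style.haveILetI false
universe u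
open IsLocalRing

namespace Groth.Agent.LibRelCartier29

open Groth.Agent.LibFibReg29

/-- spreading out the inclusion of a finitely generated ideal into a principal one. -/
theorem exists_notMem_forall_mul_mem {B : Type u} [CommRing B] (r : Ideal B) [r.IsPrime]
    (Bx : Type u) [CommRing Bx] [Algebra B Bx] [IsLocalization.AtPrime Bx r] (f : B)
    (N : Submodule B B) (hN : N.FG)
    (h : ∀ y ∈ N, algebraMap B Bx y ∈ Ideal.span {algebraMap B Bx f}) :
    ∃ g : B, g ∉ r ∧ ∀ y ∈ N, g * y ∈ Ideal.span {f} := by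
  revert h
  refine Submodule.fg_induction (R := B) (M := B)
    (motive := fun N _ => (∀ y ∈ N, algebraMap B Bx y ∈ Ideal.span {algebraMap B Bx f}) →
      ∃ g : B, g ∉ r ∧ ∀ y ∈ N, g * y ∈ Ideal.span {f}) ?_ ?_ N hN
  · intro y h
    have hy := h y (Submodule.mem_span_singleton_self y)
    obtain ⟨c, hc⟩ := Ideal.mem_span_singleton'.mp hy
    obtain ⟨b, s, rfl⟩ := IsLocalization.exists_mk'_eq r.primeCompl c
    have h1 : algebraMap B Bx (b * f) = algebraMap B Bx (s * y) := by
      rw [map_mul, map_mul, ← hc, ← mul_assoc, mul_comm (algebraMap B Bx s),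
        IsLocalization.mk'_spec]
    obtain ⟨u, hu⟩ := (IsLocalization.eq_iff_exists r.primeCompl Bx).mp h1
    refine ⟨u * s, ?_, ?_⟩
    · exact (r.primeCompl.mul_mem u.2 s.2)
    · intro y' hy'
      obtain ⟨a, rfl⟩ := Submodule.mem_span_singleton.mp hy'
      rw [Ideal.mem_span_singleton']
      refine ⟨a * u * b, ?_⟩
      have : (u : B) * (s * y) = u * (b * f) := hu.symm
      rw [smul_eq_mul]
      calc a * u * b * f = a * (u * (b * f)) := by ring
        _ = a * (u * (s * y)) := by rw [this]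
        _ = u * s * (a * y) := by ring
  · intro N₁ N₂ _ _ h₁ h₂ h
    obtain ⟨g₁, hg₁, k₁⟩ := h₁ (fun y hy => h y (Submodule.mem_sup_left hy))
    obtain ⟨g₂, hg₂, k₂⟩ := h₂ (fun y hy => h y (Submodule.mem_sup_right hy))
    refine ⟨g₁ * g₂, r.primeCompl.mul_mem hg₁ hg₂, ?_⟩
    intro y hy
    obtain ⟨y₁, hy₁, y₂, hy₂, rfl⟩ := Submodule.mem_sup.mp hy
    have e : g₁ * g₂ * (y₁ + y₂) = g₂ * (g₁ * y₁) + g₁ * (g₂ * y₂) := by ring
    rw [e]
    exact Ideal.add_mem _ (Ideal.mul_mem_left _ _ (k₁ y₁ hy₁)) (Ideal.mul_mem_left _ _ (k₂ y₂ hy₂))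

theorem exists_away_principal {A B : Type u} [CommRing A] [CommRing B] [Algebra A B]
    (I : Ideal B) (hI : I.FG) [Module.Flat A (B ⧸ I)]
    (p : Ideal A) (r : Ideal B) [r.IsPrime] (hpr : p.map (algebraMap A B) ≤ r)
    (Bx : Type u) [CommRing Bx] [Algebra B Bx] [Algebra A Bx] [IsScalarTower A B Bx]
    [IsLocalization.AtPrime Bx r]
    (L : Type u) [CommRing L] (ψ : Bx →+* L) (hψ : Function.Surjective ψ)
    (hker : RingHom.ker ψ = (p.map (algebraMap A B)).map (algebraMap B Bx))
    (t : L) (ht : ((I.map (algebraMap B Bx)).map ψ) = Ideal.span {t}) :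
    ∃ f ∈ I, ∃ g : B, g ∉ r ∧ ∀ (B' : Type u) [CommRing B'] [Algebra B B']
      [IsLocalization.Away g B'], I.map (algebraMap B B') = Ideal.span {algebraMap B B' f} := by
  haveI : IsLocalRing Bx := IsLocalization.AtPrime.isLocalRing Bx r
  set Ix : Ideal Bx := I.map (algebraMap B Bx) with hIx
  -- a lift of `t`
  obtain ⟨f', hf'I, hf't⟩ : ∃ f' ∈ Ix, ψ f' = t := by
    have : t ∈ Ix.map ψ := ht ▸ Ideal.mem_span_singleton_self t
    exact (Ideal.mem_map_iff_of_surjective ψ hψ).mp this
  -- flatness of `Bx / Ix`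
  haveI hfl : Module.Flat A (Bx ⧸ Ix) := by
    haveI : Module.Flat A (LocalizedModule r.primeCompl (B ⧸ I)) :=
      Groth.Agent.Lib.helper16.RelCartier.flat_of_isLocalizedModule (A := A) (C := B) r.primeCompl
        (LocalizedModule.mkLinearMap r.primeCompl (B ⧸ I))
    exact flat_quotient_of_flat_localizedModule r.primeCompl Bx I inferInstance
  -- the maximal ideal contains `p Bx`
  have hpm : ∀ a ∈ p, algebraMap A Bx a ∈ maximalIdeal Bx := by
    intro a ha
    rw [IsScalarTower.algebraMap_apply A B Bx,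
      ← IsLocalization.AtPrime.map_eq_maximalIdeal r Bx]
    exact Ideal.mem_map_of_mem _ (hpr (Ideal.mem_map_of_mem _ ha))
  -- Nakayama
  have hle : Ix ≤ Ideal.span {f'} := by
    refine Submodule.le_of_le_smul_of_le_jacobson_bot (I := maximalIdeal Bx) (hI.map _)
      (IsLocalRing.maximalIdeal_le_jacobson _) ?_
    intro y hy
    have hy' : ψ y ∈ Ideal.span {t} := ht ▸ Ideal.mem_map_of_mem ψ hy
    obtain ⟨c', hc'⟩ := Ideal.mem_span_singleton'.mp hy'
    obtain ⟨c, rfl⟩ := hψ c'
    have hk : y - c * f' ∈ RingHom.ker ψ := by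
      rw [RingHom.mem_ker, map_sub, map_mul, hf't, hc', sub_self]
    have hk2 : y - c * f' ∈ Ix := Ideal.sub_mem _ hy (Ideal.mul_mem_left _ _ hf'I)
    -- flatness: `Ix ∩ p Bx = p Ix`
    let q : Bx →ₗ[A] (Bx ⧸ Ix) := (Ideal.Quotient.mkₐ A Ix).toLinearMap
    have hq : Function.Surjective q := Ideal.Quotient.mk_surjective
    have key := LinearMap.ker_inf_smul_top_eq_smul_of_flat p q hq
    have hmem : y - c * f' ∈ LinearMap.ker q ⊓ p • (⊤ : Submodule A Bx) := by
      refine ⟨?_, ?_⟩
      · change y - c * f' ∈ LinearMap.ker q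
        rw [LinearMap.mem_ker]
        exact Ideal.Quotient.eq_zero_iff_mem.mpr hk2
      · change y - c * f' ∈ p • (⊤ : Submodule A Bx)
        rw [Ideal.smul_top_eq_map, Submodule.restrictScalars_mem, IsScalarTower.algebraMap_eq A B Bx,
          ← Ideal.map_map, ← hker]
        exact hk
    rw [key] at hmem
    have h2 : y - c * f' ∈ maximalIdeal Bx • Ix := by
      refine Submodule.smul_induction_on hmem ?_ ?_
      · intro a ha k hk
        rw [LinearMap.mem_ker] at hk
        have hk' : k ∈ Ix := Ideal.Quotient.eq_zero_iff_mem.mp hk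
        have e1 : a • k = algebraMap A Bx a • k := by rw [Algebra.smul_def, smul_eq_mul]
        rw [e1]
        exact Submodule.smul_mem_smul (hpm a ha) hk'
      · intro u v hu hv
        exact Submodule.add_mem _ hu hv
    have : y = c * f' + (y - c * f') := by ring
    rw [this]
    exact Submodule.add_mem_sup (Ideal.mem_span_singleton'.mpr ⟨c, rfl⟩) h2
  have hIxf : Ix = Ideal.span {f'} :=
    le_antisymm hle ((Ideal.span_singleton_le_iff_mem _).mpr hf'I)
  -- `f'` comes from an element of `I` up to a unit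
  obtain ⟨⟨⟨a, haI⟩, s⟩, has⟩ := (IsLocalization.mem_map_algebraMap_iff r.primeCompl Bx).mp hf'I
  simp only at has
  have hsu : IsUnit (algebraMap B Bx s) := IsLocalization.map_units Bx s
  have hIxa : Ix = Ideal.span {algebraMap B Bx a} := by
    rw [hIxf, ← has]
    exact (Ideal.span_singleton_mul_right_unit hsu f').symm
  refine ⟨a, haI, ?_⟩
  obtain ⟨g, hg, hgI⟩ := exists_notMem_forall_mul_mem r Bx a I hI (fun y hy => by
    rw [← hIxa]
    exact Ideal.mem_map_of_mem _ hy)
  refine ⟨g, hg, ?_⟩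
  intro B' _ _ _
  apply le_antisymm
  · rw [Ideal.map_le_iff_le_comap]
    intro y hy
    rw [Ideal.mem_comap]
    have h1 := hgI y hy
    obtain ⟨b, hb⟩ := Ideal.mem_span_singleton'.mp h1
    have hgu : IsUnit (algebraMap B B' g) := IsLocalization.Away.algebraMap_isUnit g
    obtain ⟨gi, hgi⟩ := hgu.exists_left_inv
    rw [Ideal.mem_span_singleton']
    refine ⟨gi * algebraMap B B' b, ?_⟩
    calc gi * algebraMap B B' b * algebraMap B B' a = gi * algebraMap B B' (b * a) := by
          rw [map_mul]; ring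
      _ = gi * (algebraMap B B' g * algebraMap B B' y) := by rw [hb, map_mul]
      _ = (gi * algebraMap B B' g) * algebraMap B B' y := by ring
      _ = algebraMap B B' y := by rw [hgi, one_mul]
  · rw [Ideal.span_singleton_le_iff_mem]
    exact Ideal.mem_map_of_mem _ haI

end Groth.Agent.LibRelCartier29
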