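import Mathlib
import Groth.Agent.LibRelCartier2_29
import Groth.Agent.LibFibReg6_29

/-!
# Lifting generators of an ideal with flat quotient from the fibre (helper29)

* `isWeaklyRegular_of_forall₂_unit`: unit multiples of a weakly regular sequence.
* `exists_away_map_eq_of_fibre`: `K ≤ I` ideals of `B`, `I` finitely generated with `B/I` flat
  over `A`; if `K` and `I` have the same image in the local ring `L = B_r/pB_r` of the fibre, then
  `K B_g = I B_g` for some `g ∉ r` (Nakayama).
* `exists_lift_of_fibre`: lifting a generating sequence `ts` of `I L` to elements of `I`, up to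
  units.
* `exists_away_regFlat_of_fibre_gens`: if `I L` is generated by a weakly regular sequence, then
  `I B_g` is generated by a sequence which is weakly regular with flat successive quotients
  (`A → B` flat of finite presentation).
-/

set_option autoImplicit false
set_option linter.style.haveILetI false
universe u
open IsLocalRing RingTheory.Sequence

namespace Groth.Agent.LibFibReg29

open Groth.Agent.LibRelCartier29

section Unit

variable {R : Type*} [CommRing R]

/-- the relation "unit multiple". -/
def UnitMul (r r' : R) : Prop := ∃ u : Rˣ, r' = u * r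

theorem ofList_eq_of_forall₂ {l l' : List R} (h : List.Forall₂ UnitMul l l') :
    Ideal.ofList l' = Ideal.ofList l := by
  induction h with
  | nil => rfl
  | cons hab _ ih =>
    obtain ⟨u, rfl⟩ := hab
    rw [Ideal.ofList_cons, Ideal.ofList_cons, ih, Ideal.span_singleton_mul_left_unit u.isUnit]

theorem isWeaklyRegular_of_forall₂_unit {M : Type*} [AddCommGroup M] [Module R M]
    {rs rs' : List R} (h : List.Forall₂ UnitMul rs rs') (hw : IsWeaklyRegular M rs) :
    IsWeaklyRegular M rs' := by
  rw [isWeaklyRegular_iff_Fin] at hw ⊢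
  intro i
  have hlen := h.length_eq
  have hi : (i : ℕ) < rs.length := by rw [hlen]; exact i.2
  have h1 := hw ⟨i, hi⟩
  have hI : Ideal.ofList (rs'.take i) = Ideal.ofList (rs.take i) :=
    ofList_eq_of_forall₂ (List.forall₂_take i h)
  obtain ⟨u, hu⟩ := h.get hi i.2
  rw [hI]
  have h2 : rs'[i] = u * rs[(i : ℕ)] := hu
  rw [h2]
  exact (u.isUnit.isSMulRegular _).mul h1

end Unit

section Loc

/-- `RegFlat` passes to localizations of the algebra. -/
theorem RegFlat.of_isLocalization {R S : Type u} [CommRing R] [CommRing S] [Algebra R S]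
    (T : Submonoid S) (S' : Type u) [CommRing S'] [Algebra S S'] [Algebra R S']
    [IsScalarTower R S S'] [IsLocalization T S'] {ys : List S} (h : RegFlat R S ys) :
    RegFlat R S' (ys.map (algebraMap S S')) := by
  haveI : Module.Flat S S' := IsLocalization.flat S' T
  refine ⟨h.1.of_flat, fun i => ?_⟩
  rw [← List.map_take, ← Ideal.map_ofList]
  haveI := h.2 i
  haveI : Module.Flat R (LocalizedModule T (S ⧸ Ideal.ofList (ys.take i))) :=
    Groth.Agent.Lib.helper16.RelCartier.flat_of_isLocalizedModule (A := R) (C := S) T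
      (LocalizedModule.mkLinearMap T _)
  exact flat_quotient_of_flat_localizedModule T S' _ inferInstance

end Loc

section Nak

variable {A B : Type u} [CommRing A] [CommRing B] [Algebra A B]
  (I : Ideal B) (p : Ideal A) (r : Ideal B) [r.IsPrime]
  (Bx : Type u) [CommRing Bx] [Algebra B Bx] [Algebra A Bx] [IsScalarTower A B Bx]
  [IsLocalization.AtPrime Bx r]
  (L : Type u) [CommRing L] (ψ : Bx →+* L)

/-- spreading out an inclusion of a finitely generated ideal into an ideal. -/
theorem exists_notMem_forall_mul_mem' (K : Ideal B)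
    (N : Submodule B B) (hN : N.FG)
    (h : ∀ y ∈ N, algebraMap B Bx y ∈ K.map (algebraMap B Bx)) :
    ∃ g : B, g ∉ r ∧ ∀ y ∈ N, g * y ∈ K := by
  revert h
  refine Submodule.fg_induction (R := B) (M := B)
    (motive := fun N _ => (∀ y ∈ N, algebraMap B Bx y ∈ K.map (algebraMap B Bx)) →
      ∃ g : B, g ∉ r ∧ ∀ y ∈ N, g * y ∈ K) ?_ ?_ N hN
  · intro y h
    have hy := h y (Submodule.mem_span_singleton_self y)
    obtain ⟨⟨⟨k, hk⟩, s⟩, hks⟩ := (IsLocalization.mem_map_algebraMap_iff r.primeCompl Bx).mp hy
    simp only at hks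
    rw [← map_mul] at hks
    obtain ⟨u, hu⟩ := (IsLocalization.eq_iff_exists r.primeCompl Bx).mp hks
    refine ⟨u * s, r.primeCompl.mul_mem u.2 s.2, ?_⟩
    intro y' hy'
    obtain ⟨a, rfl⟩ := Submodule.mem_span_singleton.mp hy'
    have e : (u : B) * s * (a • y) = a * (u * (y * s)) := by
      rw [smul_eq_mul]; ring
    rw [e, hu]
    exact Ideal.mul_mem_left _ _ (Ideal.mul_mem_left _ _ hk)
  · intro N₁ N₂ _ _ h₁ h₂ h
    obtain ⟨g₁, hg₁, k₁⟩ := h₁ (fun y hy => h y (Submodule.mem_sup_left hy))
    obtain ⟨g₂, hg₂, k₂⟩ := h₂ (fun y hy => h y (Submodule.mem_sup_right hy))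
    refine ⟨g₁ * g₂, r.primeCompl.mul_mem hg₁ hg₂, ?_⟩
    intro y hy
    obtain ⟨y₁, hy₁, y₂, hy₂, rfl⟩ := Submodule.mem_sup.mp hy
    have e : g₁ * g₂ * (y₁ + y₂) = g₂ * (g₁ * y₁) + g₁ * (g₂ * y₂) := by ring
    rw [e]
    exact Ideal.add_mem _ (Ideal.mul_mem_left _ _ (k₁ y₁ hy₁)) (Ideal.mul_mem_left _ _ (k₂ y₂ hy₂))

/-- **Nakayama**: a subideal `K ≤ I` with the same image in the local ring of the fibre equals `I`
near `r`, if `I` is finitely generated and `B/I` is flat over `A`. -/
theorem exists_away_map_eq_of_fibre (hI : I.FG) [Module.Flat A (B ⧸ I)]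
    (hpr : p.map (algebraMap A B) ≤ r) (hψ : Function.Surjective ψ)
    (hker : RingHom.ker ψ = (p.map (algebraMap A B)).map (algebraMap B Bx))
    (K : Ideal B) (hKI : K ≤ I)
    (hK : (K.map (algebraMap B Bx)).map ψ = (I.map (algebraMap B Bx)).map ψ) :
    ∃ g : B, g ∉ r ∧ ∀ (B' : Type u) [CommRing B'] [Algebra B B']
      [IsLocalization.Away g B'], I.map (algebraMap B B') = K.map (algebraMap B B') := by
  haveI : IsLocalRing Bx := IsLocalization.AtPrime.isLocalRing Bx r
  set Ix : Ideal Bx := I.map (algebraMap B Bx) with hIx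
  set Kx : Ideal Bx := K.map (algebraMap B Bx) with hKx
  haveI hfl : Module.Flat A (Bx ⧸ Ix) := by
    haveI : Module.Flat A (LocalizedModule r.primeCompl (B ⧸ I)) :=
      Groth.Agent.Lib.helper16.RelCartier.flat_of_isLocalizedModule (A := A) (C := B) r.primeCompl
        (LocalizedModule.mkLinearMap r.primeCompl (B ⧸ I))
    exact flat_quotient_of_flat_localizedModule r.primeCompl Bx I inferInstance
  have hpm : ∀ a ∈ p, algebraMap A Bx a ∈ maximalIdeal Bx := by
    intro a ha
    rw [IsScalarTower.algebraMap_apply A B Bx,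
      ← IsLocalization.AtPrime.map_eq_maximalIdeal r Bx]
    exact Ideal.mem_map_of_mem _ (hpr (Ideal.mem_map_of_mem _ ha))
  have hle : Ix ≤ Kx := by
    refine Submodule.le_of_le_smul_of_le_jacobson_bot (I := maximalIdeal Bx) (hI.map _)
      (IsLocalRing.maximalIdeal_le_jacobson _) ?_
    intro y hy
    have hy' : ψ y ∈ Kx.map ψ := hK ▸ Ideal.mem_map_of_mem ψ hy
    obtain ⟨k, hk, hky⟩ := (Ideal.mem_map_iff_of_surjective ψ hψ).mp hy'
    have hk0 : y - k ∈ RingHom.ker ψ := by
      rw [RingHom.mem_ker, map_sub, hky, sub_self]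
    have hk2 : y - k ∈ Ix := Ideal.sub_mem _ hy (Ideal.map_mono hKI hk)
    let q : Bx →ₗ[A] (Bx ⧸ Ix) := (Ideal.Quotient.mkₐ A Ix).toLinearMap
    have hq : Function.Surjective q := Ideal.Quotient.mk_surjective
    have key := LinearMap.ker_inf_smul_top_eq_smul_of_flat p q hq
    have hmem : y - k ∈ LinearMap.ker q ⊓ p • (⊤ : Submodule A Bx) := by
      refine ⟨?_, ?_⟩
      · change y - k ∈ LinearMap.ker q
        rw [LinearMap.mem_ker]
        exact Ideal.Quotient.eq_zero_iff_mem.mpr hk2
      · change y - k ∈ p • (⊤ : Submodule A Bx)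
        rw [Ideal.smul_top_eq_map, Submodule.restrictScalars_mem, IsScalarTower.algebraMap_eq A B Bx,
          ← Ideal.map_map, ← hker]
        exact hk0
    rw [key] at hmem
    have h2 : y - k ∈ maximalIdeal Bx • Ix := by
      refine Submodule.smul_induction_on hmem ?_ ?_
      · intro a ha k' hk'
        rw [LinearMap.mem_ker] at hk'
        have hk'' : k' ∈ Ix := Ideal.Quotient.eq_zero_iff_mem.mp hk'
        have e1 : a • k' = algebraMap A Bx a • k' := by rw [Algebra.smul_def, smul_eq_mul]
        rw [e1]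
        exact Submodule.smul_mem_smul (hpm a ha) hk''
      · intro u v hu hv
        exact Submodule.add_mem _ hu hv
    have : y = k + (y - k) := by ring
    rw [this]
    exact Submodule.add_mem_sup hk h2
  obtain ⟨g, hg, hgI⟩ := exists_notMem_forall_mul_mem' r Bx K I hI (fun y hy =>
    hle (Ideal.mem_map_of_mem _ hy))
  refine ⟨g, hg, ?_⟩
  intro B' _ _ _
  apply le_antisymm
  · rw [Ideal.map_le_iff_le_comap]
    intro y hy
    rw [Ideal.mem_comap]
    have h1 := hgI y hy
    have hgu : IsUnit (algebraMap B B' g) := IsLocalization.Away.algebraMap_isUnit g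
    obtain ⟨gi, hgi⟩ := hgu.exists_left_inv
    have h2 : algebraMap B B' y = gi * algebraMap B B' (g * y) := by
      rw [map_mul, ← mul_assoc, hgi, one_mul]
    rw [h2]
    exact Ideal.mul_mem_left _ _ (Ideal.mem_map_of_mem _ h1)
  · exact Ideal.map_mono hKI

include r in
/-- lifting generators of `I L` to elements of `I`, up to units. -/
theorem exists_lift_of_fibre (hψ : Function.Surjective ψ) :
    ∀ ts : List L, (∀ t ∈ ts, t ∈ (I.map (algebraMap B Bx)).map ψ) →
      ∃ as : List B, (∀ a ∈ as, a ∈ I) ∧
        List.Forall₂ UnitMul ts (as.map (fun a => ψ (algebraMap B Bx a))) := by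
  intro ts
  induction ts with
  | nil => exact fun _ => ⟨[], by simp, by simp⟩
  | cons t ts ih =>
    intro h
    obtain ⟨as, has, hfa⟩ := ih (fun t' ht' => h t' (List.mem_cons_of_mem _ ht'))
    obtain ⟨f', hf'I, hf't⟩ := (Ideal.mem_map_iff_of_surjective ψ hψ).mp (h t List.mem_cons_self)
    obtain ⟨⟨⟨a, haI⟩, s⟩, has'⟩ := (IsLocalization.mem_map_algebraMap_iff r.primeCompl Bx).mp hf'I
    simp only at has'
    have hsu : IsUnit (ψ (algebraMap B Bx s)) := (IsLocalization.map_units Bx s).map ψ
    refine ⟨a :: as, ?_, ?_⟩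
    · intro a' ha'
      rcases List.mem_cons.mp ha' with rfl | ha'
      · exact haI
      · exact has a' ha'
    · rw [List.map_cons]
      refine List.Forall₂.cons ⟨hsu.unit, ?_⟩ hfa
      rw [← has', map_mul, hf't, IsUnit.unit_spec, mul_comm]

end Nak

/-- **fibrewise criterion**: `A → B` flat of finite presentation, `I ⊆ B` finitely generated with
`B/I` flat over `A`, `r ⊇ I` a prime over `p`, `L = B_r/pB_r`.  If `I L` is generated by a weakly
regular sequence `ts` then there are `as` in `I` and `g ∉ r` such that `I B_g = (as)` and `as` is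
weakly regular on `B_g` with successive quotients flat over `A`. -/
theorem exists_away_regFlat_of_fibre_gens {A B : Type u} [CommRing A] [CommRing B] [Algebra A B]
    [Module.Flat A B] [Algebra.FinitePresentation A B]
    (I : Ideal B) (hI : I.FG) [Module.Flat A (B ⧸ I)]
    (p : Ideal A) [p.IsPrime] (r : Ideal B) [r.IsPrime] [r.LiesOver p]
    (Bx : Type u) [CommRing Bx] [Algebra B Bx] [Algebra A Bx] [IsScalarTower A B Bx]
    [IsLocalization.AtPrime Bx r]
    (L : Type u) [CommRing L] (ψ : Bx →+* L) (hψ : Function.Surjective ψ)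
    (hker : RingHom.ker ψ = (p.map (algebraMap A B)).map (algebraMap B Bx))
    (ts : List L) (hts : IsWeaklyRegular L ts)
    (hgen : (I.map (algebraMap B Bx)).map ψ = Ideal.ofList ts) :
    ∃ as : List B, as.length = ts.length ∧ (∀ a ∈ as, a ∈ I) ∧ ∃ g : B, g ∉ r ∧
      ∀ (B' : Type u) [CommRing B'] [Algebra B B'] [Algebra A B'] [IsScalarTower A B B']
        [IsLocalization.Away g B'],
        I.map (algebraMap B B') = Ideal.ofList (as.map (algebraMap B B')) ∧
        RegFlat A B' (as.map (algebraMap B B')) := by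
  have hpr : p.map (algebraMap A B) ≤ r := by
    rw [Ideal.LiesOver.over (p := p) (P := r)]
    exact Ideal.map_comap_le
  obtain ⟨as, hasI, hfa⟩ := exists_lift_of_fibre I r Bx L ψ hψ ts (fun t ht => by
    rw [hgen]
    exact Ideal.subset_span ht)
  have hwr : IsWeaklyRegular L (as.map (ψ.comp (algebraMap B Bx))) :=
    isWeaklyRegular_of_forall₂_unit hfa hts
  have hK : ((Ideal.ofList as).map (algebraMap B Bx)).map ψ =
      (I.map (algebraMap B Bx)).map ψ := by
    rw [hgen, Ideal.map_ofList, Ideal.map_ofList, List.map_map]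
    exact ofList_eq_of_forall₂ hfa
  have hKI : Ideal.ofList as ≤ I := Ideal.span_le.mpr (fun a ha => hasI a ha)
  obtain ⟨g₁, hg₁, H₁⟩ := exists_away_map_eq_of_fibre I p r Bx L ψ hI hpr hψ hker
    (Ideal.ofList as) hKI hK
  obtain ⟨g₂, hg₂, H₂⟩ := exists_away_regFlat_of_surjective p r Bx L ψ hψ hker as hwr
  refine ⟨as, ?_, hasI, g₂ * g₁, r.primeCompl.mul_mem hg₂ hg₁, ?_⟩
  · have := hfa.length_eq
    rw [List.length_map] at this
    exact this.symm
  intro B' _ _ _ _ _
  -- `B'` is a localization of `B_{g₁}` and of `B_{g₂}`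
  have hu₁ : IsUnit (algebraMap B B' g₁) :=
    isUnit_of_mul_isUnit_right (by
      rw [← map_mul]; exact IsLocalization.Away.algebraMap_isUnit (g₂ * g₁))
  constructor
  · -- ideal equality: through `Localization.Away g₁`
    have h1 := H₁ (Localization.Away g₁)
    let φ₁ : Localization.Away g₁ →+* B' := IsLocalization.Away.lift g₁ hu₁
    have hφ₁ : φ₁.comp (algebraMap B (Localization.Away g₁)) = algebraMap B B' :=
      IsLocalization.Away.lift_comp g₁ hu₁
    rw [← Ideal.map_ofList, ← hφ₁, ← Ideal.map_map, h1, Ideal.map_map]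
  · -- regularity: `B'` is the localization of `B_{g₂}` at `g₁`
    have h2 := H₂ (Localization.Away g₂)
    have h3 := RegFlat.of_isLocalization (R := A)
      (Submonoid.powers (algebraMap B (Localization.Away g₂) g₁))
      (Localization.Away (algebraMap B (Localization.Away g₂) g₁)) h2
    rw [List.map_map] at h3
    have h4 : ((algebraMap (Localization.Away g₂)
        (Localization.Away (algebraMap B (Localization.Away g₂) g₁))) ∘
        (algebraMap B (Localization.Away g₂))) =
        algebraMap B (Localization.Away (algebraMap B (Localization.Away g₂) g₁)) := by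
      funext b
      exact (IsScalarTower.algebraMap_apply B (Localization.Away g₂) _ b).symm
    rw [h4] at h3
    let e : Localization.Away (algebraMap B (Localization.Away g₂) g₁) ≃ₐ[B] B' :=
      IsLocalization.algEquiv (Submonoid.powers (g₂ * g₁)) _ _
    exact RegFlat.of_algEquiv e as h3

end Groth.Agent.LibFibReg29
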