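import Mathlib
import Groth.Agent.LibFibReg6_29
import Groth.Agent.Lib.Helper17.FibreStalk

/-!
# Fibrewise regular sequences: scheme form (helper29)

`exists_basicOpen_regFlat`: `φ : X ⟶ S` flat, locally of finite presentation, `U ⊆ φ⁻¹ V` affine
opens, `z` a point of the fibre `X_s` with image `x ∈ U`, `ys` sections over `U` whose images in
the local ring `O_{X_s, z}` of the fibre form a weakly regular sequence.  Then there is a principal
open `D(g) ⊆ U` containing `x` on which `ys` is weakly regular with all successive quotients flat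
over `Γ(S, V)`.
-/

set_option autoImplicit false
set_option linter.style.haveILetI false
universe u
open CategoryTheory AlgebraicGeometry IsLocalRing RingTheory.Sequence

namespace Groth.Agent.LibFibReg29

theorem appLE_germ {X S : Scheme.{u}} (φ : X ⟶ S) (U : X.Opens) (V : S.Opens) (e : U ≤ φ ⁻¹ᵁ V)
    (x : X) (hx : x ∈ U) :
    φ.appLE V U e ≫ X.presheaf.germ U x hx =
      S.presheaf.germ V (φ x) (e hx) ≫ φ.stalkMap x := by
  rw [Scheme.Hom.germ_stalkMap, Scheme.Hom.appLE, Category.assoc, X.presheaf.germ_res]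

theorem exists_basicOpen_regFlat {X S : Scheme.{u}} (φ : X ⟶ S) [Flat φ]
    [LocallyOfFinitePresentation φ] (s : S) (z : φ.fiber s) {U : X.Opens} (hU : IsAffineOpen U)
    {V : S.Opens} (hV : IsAffineOpen V) (e : U ≤ φ ⁻¹ᵁ V) (hz : φ.fiberι s z ∈ U)
    (ys : List Γ(X, U))
    (h : IsWeaklyRegular ((φ.fiber s).presheaf.stalk z)
      (ys.map (fun y => ((φ.fiberι s).stalkMap z).hom
        ((X.presheaf.germ U (φ.fiberι s z) hz).hom y)))) :
    ∃ g : Γ(X, U), φ.fiberι s z ∈ X.basicOpen g ∧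
      letI := (φ.appLE V (X.basicOpen g) ((X.basicOpen_le g).trans e)).hom.toAlgebra
      RegFlat Γ(S, V) Γ(X, X.basicOpen g)
        (ys.map (X.presheaf.map (homOfLE (X.basicOpen_le g)).op).hom) := by
  set x := φ.fiberι s z with hx
  letI algAB : Algebra Γ(S, V) Γ(X, U) := (φ.appLE V U e).hom.toAlgebra
  haveI hflat : Module.Flat Γ(S, V) Γ(X, U) :=
    HasRingHomProperty.appLE (P := @Flat) φ inferInstance ⟨V, hV⟩ ⟨U, hU⟩ e
  haveI hfp : Algebra.FinitePresentation Γ(S, V) Γ(X, U) :=
    HasRingHomProperty.appLE (P := @LocallyOfFinitePresentation) φ inferInstance ⟨V, hV⟩ ⟨U, hU⟩ e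
  let r : Ideal Γ(X, U) := (hU.primeIdealOf ⟨x, hz⟩).asIdeal
  let p : Ideal Γ(S, V) := (hV.primeIdealOf ⟨φ x, e hz⟩).asIdeal
  haveI : r.LiesOver p := ⟨by
    have := IsAffineOpen.comap_primeIdealOf_appLE (f := φ) (x := x) V hV U hU e hz
    exact (congrArg PrimeSpectrum.asIdeal this).symm⟩
  letI a1 : Algebra Γ(X, U) (X.presheaf.stalk x) := X.presheaf.algebra_section_stalk (⟨x, hz⟩ : U)
  haveI l1 : IsLocalization.AtPrime (X.presheaf.stalk x) r := hU.isLocalization_stalk ⟨x, hz⟩
  letI a2 : Algebra Γ(S, V) (S.presheaf.stalk (φ x)) :=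
    S.presheaf.algebra_section_stalk (⟨φ x, e hz⟩ : V)
  haveI l2 : IsLocalization.AtPrime (S.presheaf.stalk (φ x)) p :=
    hV.isLocalization_stalk ⟨φ x, e hz⟩
  have hker : RingHom.ker ((φ.fiberι s).stalkMap z).hom =
      (p.map (algebraMap Γ(S, V) Γ(X, U))).map (algebraMap Γ(X, U) (X.presheaf.stalk x)) := by
    rw [Groth.Agent.Lib.helper17.FibreStalk.ker_fiberι_stalkMap φ s z,
      ← IsLocalization.AtPrime.map_eq_maximalIdeal p (S.presheaf.stalk (φ x)),
      Ideal.map_map, Ideal.map_map]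
    congr 1
    have := appLE_germ φ U V e x hz
    exact (congrArg CommRingCat.Hom.hom this).symm
  obtain ⟨g, hg, H⟩ := exists_away_regFlat_of_surjective p r (X.presheaf.stalk x)
    ((φ.fiber s).presheaf.stalk z) ((φ.fiberι s).stalkMap z).hom
    ((φ.fiberι s).stalkMap_surjective z) hker ys h
  have hxg : x ∈ X.basicOpen g := by
    rw [Scheme.mem_basicOpen _ _ x hz]
    have h1 : (algebraMap Γ(X, U) (X.presheaf.stalk x)) g ∉ maximalIdeal (X.presheaf.stalk x) := by
      intro hm
      apply hg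
      rw [← IsLocalization.AtPrime.comap_maximalIdeal (X.presheaf.stalk x) r]
      exact hm
    have h2 := (IsLocalRing.notMem_maximalIdeal).mp h1
    exact h2
  refine ⟨g, hxg, ?_⟩
  letI algAB' : Algebra Γ(S, V) Γ(X, X.basicOpen g) :=
    (φ.appLE V (X.basicOpen g) ((X.basicOpen_le g).trans e)).hom.toAlgebra
  haveI : IsScalarTower Γ(S, V) Γ(X, U) Γ(X, X.basicOpen g) := by
    apply IsScalarTower.of_algebraMap_eq'
    have := Scheme.Hom.appLE_map φ e (homOfLE (X.basicOpen_le g)).op
    exact (congrArg CommRingCat.Hom.hom this).symm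
  haveI : IsLocalization.Away g Γ(X, X.basicOpen g) := hU.isLocalization_basicOpen g
  exact H Γ(X, X.basicOpen g)

end Groth.Agent.LibFibReg29
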