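import Groth.Statements.S1883
import Groth.Agent.Lib.Helper5.GrpdStabDim

set_option autoImplicit false
universe u
open CategoryTheory CategoryTheory.Limits AlgebraicGeometry
open Grpd

namespace Groth.Agent.S1883

/-- Let (U, R, s, t, c) be a groupoid scheme over S with U the spectrum of a field and s, t locally of
finite type. Then R and its stabilizer group scheme G have equal dimension (G is the base change of
(t, s) along the diagonal of U). (A groupoid scheme carries U, R, s, t, c, e, i over S with the
groupoid axioms on T-points; 'finite locally free' is finite, flat and locally of finite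
presentation; C ⊂ Γ(U) is the ring of functions a with s♯(a) = t♯(a) and M = Spec C.) -/
theorem result (S : Scheme.{u}) (G : Grpd.GroupoidScheme S) (k : Type u) [Field k] (eU : G.U ≅ Spec (CommRingCat.of k)) [LocallyOfFiniteType G.s] [LocallyOfFiniteType G.t] : topologicalKrullDim G.R = topologicalKrullDim G.stabilizer := by
  classical
  -- the stabilizer is a closed subscheme of `R`
  haveI : IsAffine G.U := .of_isIso eU.hom
  haveI : IsSeparated (G.pU ≫ terminal.from S) := by
    rw [Subsingleton.elim (G.pU ≫ terminal.from S) (terminal.from G.U)]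
    infer_instance
  haveI : IsSeparated G.pU := IsSeparated.of_comp G.pU (terminal.from S)
  haveI : IsClosedImmersion G.diag :=
    inferInstanceAs (IsClosedImmersion (pullback.diagonal G.pU))
  haveI : IsClosedImmersion (pullback.fst G.j G.diag) :=
    MorphismProperty.pullback_fst _ _ inferInstance
  have hemb := (pullback.fst G.j G.diag).isClosedEmbedding
  apply le_antisymm
  · -- `dim R ≤ dim G`
    set τ : G.R ⟶ Spec (CommRingCat.of k) := G.t ≫ eU.hom with hτdef
    set σ : G.R ⟶ Spec (CommRingCat.of k) := G.s ≫ eU.hom with hσdef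
    set ε : Spec (CommRingCat.of k) ⟶ G.R := eU.inv ≫ G.e with hεdef
    have hτ : ε ≫ τ = 𝟙 _ := by
      rw [hεdef, hτdef, Category.assoc, ← Category.assoc G.e, G.e_t, Category.id_comp,
        eU.inv_hom_id]
    have hσ : ε ≫ σ = 𝟙 _ := by
      rw [hεdef, hσdef, Category.assoc, ← Category.assoc G.e, G.e_s, Category.id_comp,
        eU.inv_hom_id]
    letI : G.R.Over (Spec (CommRingCat.of k)) := ⟨τ⟩
    haveI : LocallyOfFiniteType (G.R ↘ Spec (CommRingCat.of k)) :=
      inferInstanceAs (LocallyOfFiniteType (G.t ≫ eU.hom))
    let pt : Spec (CommRingCat.of k) := IsLocalRing.closedPoint k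
    obtain ⟨ξ, m, hξ, hm, hloc⟩ :=
      Groth.Agent.Lib.helper5.GrpdStabDim.exists_trdeg_eq_localDim_specializes k G.R (ε pt)
    obtain ⟨Z, ι, hξι, hι⟩ :=
      Groth.Agent.Lib.helper5.GrpdStabDim.exists_equalizing_of_specializes k τ σ ε hτ hσ pt ξ hξ
    -- `ι` factors through the stabilizer
    have hι' : ι ≫ G.s = ι ≫ G.t := by
      have := congrArg (fun f => f ≫ eU.inv) hι
      simpa [hτdef, hσdef, Category.assoc] using this
    have hlift : ι ≫ G.j = (ι ≫ G.t) ≫ G.diag := by
      apply pullback.hom_ext
      · rw [Category.assoc, Grpd.GroupoidScheme.j, pullback.lift_fst, Category.assoc,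
          Grpd.GroupoidScheme.diag, pullback.lift_fst, Category.comp_id]
      · rw [Category.assoc, Grpd.GroupoidScheme.j, pullback.lift_snd, Category.assoc,
          Grpd.GroupoidScheme.diag, pullback.lift_snd, Category.comp_id, hι']
    have hξG : ξ ∈ Set.range (pullback.fst G.j G.diag) := by
      obtain ⟨z, hz⟩ := hξι
      refine ⟨(pullback.lift ι (ι ≫ G.t) hlift) z, ?_⟩
      change (pullback.lift ι (ι ≫ G.t) hlift ≫ pullback.fst G.j G.diag) z = ξ
      rw [pullback.lift_fst]
      exact hz
    -- dimension count
    have h1 : topologicalKrullDim G.R = (m : WithBot ℕ∞) := by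
      rw [← Groth.Agent.Lib.helper5.GrpdHomog.localDim_eq_dim G k eU (ε pt)]
      exact hloc
    have h2 := Groth.Agent.Lib.helper3.FTField.dim_closure_eq_trdeg k G.R ξ m hm
    have h3 : closure ({ξ} : Set G.R) ⊆ Set.range (pullback.fst G.j G.diag) :=
      hemb.isClosed_range.closure_subset_iff.mpr (Set.singleton_subset_iff.mpr hξG)
    have h4 := Groth.Agent.Lib.helper3.TopDim.dim_mono h3
    have h5 : topologicalKrullDim ↥(Set.range (pullback.fst G.j G.diag)) =
        topologicalKrullDim G.stabilizer :=
      ((hemb.isEmbedding.toHomeomorph).isHomeomorph.topologicalKrullDim_eq).symm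
    rw [h1, ← h2]
    exact le_trans h4 h5.le
  · -- `dim G ≤ dim R`
    exact hemb.isEmbedding.isInducing.topologicalKrullDim_le

end Groth.Agent.S1883
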