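import Groth.Statements.S0403
import Mathlib
import Groth.Agent.S0402
import Groth.Agent.Lib.Helper3.TopDim
import Groth.Agent.Lib.Helper3.QFinTop

set_option autoImplicit false
universe u
open FlatMor

namespace Groth.Agent.S0403

open AlgebraicGeometry CategoryTheory in
theorem localDim_fiber_eq {X S : Scheme.{u}} (f : X ⟶ S) (s : S) (x : X) (hx : f x = s)
    (z : f.fiber s) (hz : f.fiberι s z = x) :
    FlatMor.localDim (f.fiber s) z = FlatMor.fibreDimAt f x := by
  subst hx
  have : z = f.asFiber x :=
    Groth.Agent.Lib.helper3.QFinTop.fiberι_injective f (f x) (hz.trans (f.fiberι_asFiber x).symm)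
  subst this
  rfl

theorem dim_le_iff_localDim {T : Type u} [TopologicalSpace T] (c : WithBot ℕ∞) :
    topologicalKrullDim T ≤ c ↔ ∀ z : T, FlatMor.localDim T z ≤ c := by
  constructor
  · intro h z
    exact (Groth.Agent.Lib.helper3.TopDim.localDim_le_dim z).trans h
  · intro h
    choose U hzU hU using fun z : T => Groth.Agent.Lib.helper3.TopDim.exists_open_dim_eq_localDim z
    rw [Groth.Agent.Lib.helper3.TopDim.dim_eq_iSup_of_open_cover (fun z => (U z : Set T))
      (fun z => (U z).isOpen) ?_]
    · exact iSup_le fun z => (hU z).le.trans (h z)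
    · ext z
      simp only [Set.mem_iUnion, Set.mem_univ, iff_true]
      exact ⟨z, hzU z⟩

open AlgebraicGeometry CategoryTheory Limits in
/-- For a proper morphism the dimension of the fibre is an upper semicontinuous function on the target:
for every bound the set of points whose fibre has dimension at most that bound is open. -/
theorem result {X S : Scheme.{u}} (f : X ⟶ S) [IsProper f] (c : WithBot ℕ∞) :
    IsOpen {s : S | topologicalKrullDim (f.fiber s) ≤ c} := by
  have hopen : IsOpen {x : X | FlatMor.fibreDimAt f x ≤ c} := by
    induction c using WithBot.recBotCoe with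
    | bot =>
      convert isOpen_empty
      ext x
      simp only [Set.mem_ofPred_eq, Set.mem_empty_iff_false, iff_false, le_bot_iff]
      intro h
      obtain ⟨U, hxU, hU⟩ :=
        Groth.Agent.Lib.helper3.TopDim.exists_open_dim_eq_localDim (f.asFiber x)
      have h0 : FlatMor.fibreDimAt f x = FlatMor.localDim (f.fiber (f x)) (f.asFiber x) := rfl
      rw [h0, ← hU] at h
      haveI : Nonempty (U.1 : Set _) := ⟨⟨_, hxU⟩⟩
      have := Groth.Agent.Lib.helper3.TopDim.dim_nonneg (X := (U.1 : Set _))
      rw [h] at this
      exact absurd this (by decide)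
    | coe n =>
      induction n using ENat.recTopCoe with
      | top =>
        convert isOpen_univ
        ext x
        simp only [Set.mem_ofPred_eq, Set.mem_univ, iff_true]
        exact le_top
      | coe n => exact Groth.Agent.S0402.result f n
  have hcl := f.isClosedMap _ hopen.isClosed_compl
  convert hcl.isOpen_compl using 1
  ext s
  simp only [Set.mem_ofPred_eq, Set.mem_compl_iff, Set.mem_image, not_exists, not_and]
  rw [dim_le_iff_localDim]
  constructor
  · intro h x hx hxs
    apply hx
    rw [← localDim_fiber_eq f s x hxs ((f.fiberHomeo s).symm ⟨x, hxs⟩)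
      (f.fiberι_fiberHomeo_symm s ⟨x, hxs⟩)]
    exact h _
  · intro h z
    by_contra hz
    refine h (f.fiberι s z) ?_ (Groth.Agent.Lib.helper3.QFinTop.fiberι_mem f s z)
    rw [← localDim_fiber_eq f s _ (Groth.Agent.Lib.helper3.QFinTop.fiberι_mem f s z) z rfl]
    exact hz

end Groth.Agent.S0403
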