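import Groth.Statements.S2101
import Mathlib
-- import your own Groth.Agent.* helpers here

set_option autoImplicit false
universe u
open CAlg

namespace Groth.Agent.S2101

open RingTheory.Sequence

section general
variable {A : Type*} [CommRing A]

/-- ideal generated by `f` on a finset of indices -/
def II {r : ℕ} (f : Fin r → A) (S : Finset (Fin r)) : Ideal A :=
  Ideal.span (f '' (S : Set (Fin r)))

def NZD {r : ℕ} (f : Fin r → A) (S : Finset (Fin r)) (j : Fin r) : Prop :=
  ∀ c : A, f j * c ∈ II f S → c ∈ II f S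

lemma II_insert {r : ℕ} (f : Fin r → A) (S : Finset (Fin r)) (m : Fin r) :
    II f (insert m S) = II f S ⊔ Ideal.span {f m} := by
  unfold II
  rw [Finset.coe_insert, Set.image_insert_eq, Ideal.span_insert, sup_comm]

lemma II_mono {r : ℕ} (f : Fin r → A) {S T : Finset (Fin r)} (h : S ⊆ T) : II f S ≤ II f T :=
  Ideal.span_mono (Set.image_mono (Finset.coe_subset.2 h))

lemma II_empty {r : ℕ} (f : Fin r → A) : II f ∅ = ⊥ := by
  unfold II; simp

lemma mem_II {r : ℕ} (f : Fin r → A) {S : Finset (Fin r)} {k : Fin r} (hk : k ∈ S) :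
    f k ∈ II f S :=
  Ideal.subset_span ⟨k, hk, rfl⟩

lemma II_comp {r : ℕ} (f : Fin r → A) (σ : Equiv.Perm (Fin r)) (S : Finset (Fin r)) :
    II (f ∘ σ) S = II f (S.map σ.toEmbedding) := by
  unfold II
  rw [Finset.coe_map, Set.image_comp]
  rfl

lemma isWeaklyRegular_self_iff (rs : List A) :
    IsWeaklyRegular A rs ↔ ∀ i (h : i < rs.length), ∀ c : A,
      rs[i] * c ∈ Ideal.ofList (rs.take i) → c ∈ Ideal.ofList (rs.take i) := by
  rw [RingTheory.Sequence.isWeaklyRegular_iff]
  refine forall_congr' fun i => forall_congr' fun h => ?_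
  rw [isSMulRegular_quotient_iff_mem_of_smul_mem]
  have : (Ideal.ofList (rs.take i) • (⊤ : Submodule A A)) = Ideal.ofList (rs.take i) := by
    rw [smul_eq_mul, Ideal.mul_top]
  rw [this]
  rfl

lemma ofList_take_ofFn {n : ℕ} (g : Fin n → A) (i : Fin n) :
    Ideal.ofList ((List.ofFn g).take i) = II g (Finset.Iio i) := by
  unfold II Ideal.ofList
  congr 1
  ext x
  simp only [Set.mem_setOf_eq, Set.mem_image, List.mem_take_iff_getElem, List.length_ofFn,
    List.getElem_ofFn, Finset.coe_Iio, Set.mem_Iio]
  constructor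
  · rintro ⟨j, hj, rfl⟩
    exact ⟨⟨j, (lt_min_iff.1 hj).2⟩, (lt_min_iff.1 hj).1, rfl⟩
  · rintro ⟨k, hk, rfl⟩
    exact ⟨k.val, lt_min_iff.2 ⟨hk, k.2⟩, rfl⟩

lemma ofList_ofFn {n : ℕ} (g : Fin n → A) :
    Ideal.ofList (List.ofFn g) = Ideal.span (Set.range g) := by
  unfold Ideal.ofList
  congr 1
  ext x
  simp [List.mem_ofFn]

lemma isWeaklyRegular_ofFn_iff {n : ℕ} (g : Fin n → A) :
    IsWeaklyRegular A (List.ofFn g) ↔ ∀ i : Fin n, NZD g (Finset.Iio i) i := by
  rw [isWeaklyRegular_self_iff]
  constructor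
  · intro H i c hc
    have := H i.val (by simp) c
    rw [List.getElem_ofFn, ofList_take_ofFn g i] at this
    exact this hc
  · intro H i hi c hc
    have hi' : i < n := by simpa using hi
    have := H ⟨i, hi'⟩ c
    have e : Ideal.ofList ((List.ofFn g).take i) = II g (Finset.Iio ⟨i, hi'⟩) :=
      ofList_take_ofFn g ⟨i, hi'⟩
    rw [List.getElem_ofFn, e] at hc
    rw [e]
    exact this hc

lemma isRegular_ofFn_iff {n : ℕ} (g : Fin n → A) :
    IsRegular A (List.ofFn g) ↔
      (∀ i : Fin n, NZD g (Finset.Iio i) i) ∧ Ideal.span (Set.range g) ≠ ⊤ := by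
  rw [RingTheory.Sequence.isRegular_iff, isWeaklyRegular_ofFn_iff, ofList_ofFn]
  have : (Ideal.span (Set.range g) • (⊤ : Submodule A A)) = Ideal.span (Set.range g) := by
    rw [smul_eq_mul, Ideal.mul_top]
  rw [this]
  constructor
  · rintro ⟨h1, h2⟩; exact ⟨h1, fun h => h2 h.symm⟩
  · rintro ⟨h1, h2⟩; exact ⟨h1, fun h => h2 h.symm⟩

/-- the swap lemma -/
lemma swap_lemma (I : Ideal A) (a b : A) (h1 : ∀ c, a * c ∈ I → c ∈ I)
    (h3 : ∀ c, b * c ∈ I ⊔ Ideal.span {a} → c ∈ I ⊔ Ideal.span {a}) :
    ∀ c, a * c ∈ I ⊔ Ideal.span {b} → c ∈ I ⊔ Ideal.span {b} := by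
  intro c hc
  obtain ⟨u, hu, v, hv, huv⟩ := Submodule.mem_sup.1 hc
  obtain ⟨t, rfl⟩ := Ideal.mem_span_singleton'.1 hv
  have h4 : b * t ∈ I ⊔ Ideal.span {a} := by
    have : b * t = (-u) + c * a := by linear_combination huv
    rw [this]
    exact Submodule.add_mem_sup (I.neg_mem hu) (Ideal.mem_span_singleton'.2 ⟨c, rfl⟩)
  obtain ⟨u', hu', v', hv', huv'⟩ := Submodule.mem_sup.1 (h3 t h4)
  obtain ⟨s, rfl⟩ := Ideal.mem_span_singleton'.1 hv'
  have h5 : a * (c - b * s) ∈ I := by
    have : a * (c - b * s) = u + b * u' := by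
      have e1 : t = u' + s * a := huv'.symm
      rw [e1] at huv
      linear_combination -huv
    rw [this]
    exact I.add_mem hu (I.mul_mem_left _ hu')
  have h6 := h1 _ h5
  have : c = (c - b * s) + s * b := by ring
  rw [this]
  exact Submodule.add_mem_sup h6 (Ideal.mem_span_singleton'.2 ⟨s, rfl⟩)

/-- (C): ordered non-zero-divisor conditions imply all of them. -/
lemma all_of_ordered {r : ℕ} (f : Fin r → A)
    (H : ∀ i : Fin r, ∀ S : Finset (Fin r), (∀ k ∈ S, k < i) → NZD f S i) :
    ∀ S : Finset (Fin r), ∀ j, j ∉ S → NZD f S j := by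
  intro S
  induction S using Finset.induction_on_max with
  | empty => intro j _; exact H j ∅ (by simp)
  | insert m S' hm ih =>
    intro j hj
    rw [Finset.mem_insert, not_or] at hj
    rcases lt_or_gt_of_ne hj.1 with hlt | hgt
    · have h1 := ih j hj.2
      have h3 := H m (insert j S') (by
        intro k hk
        rcases Finset.mem_insert.1 hk with rfl | hk
        · exact hlt
        · exact hm k hk)
      unfold NZD at h1 h3 ⊢
      rw [II_insert] at h3 ⊢
      exact swap_lemma _ _ _ h1 h3
    · apply H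
      intro k hk
      rcases Finset.mem_insert.1 hk with rfl | hk
      · exact hgt
      · exact (hm k hk).trans hgt

/-- existence of a permutation listing `S` first and then `j`. -/
lemma exists_perm {r : ℕ} (S : Finset (Fin r)) (j : Fin r) (hj : j ∉ S) :
    ∃ (σ : Equiv.Perm (Fin r)) (i : Fin r), (Finset.Iio i).map σ.toEmbedding = S ∧ σ i = j := by
  have hcard : S.card < r := by
    have := Finset.card_le_univ (insert j S)
    rw [Finset.card_insert_of_notMem hj, Fintype.card_fin] at this
    omega
  set i : Fin r := ⟨S.card, hcard⟩ with hi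
  obtain ⟨σ₁, hσ₁⟩ := Equiv.Perm.exists_map_finset_eq (Finset.Iio i) S (by simp [hi])
  set k₀ := σ₁.symm j with hk₀
  have hk₀' : ¬ k₀ < i := by
    intro hlt
    apply hj
    rw [← hσ₁]
    exact Finset.mem_map.2 ⟨k₀, Finset.mem_Iio.2 hlt, by simp [hk₀]⟩
  refine ⟨(Equiv.swap i k₀).trans σ₁, i, ?_, by simp [hk₀]⟩
  rw [← hσ₁]
  ext x
  simp only [Finset.mem_map, Finset.mem_Iio, Equiv.toEmbedding_apply, Equiv.trans_apply]
  constructor
  · rintro ⟨k, hk, rfl⟩
    refine ⟨k, hk, ?_⟩
    rw [Equiv.swap_apply_of_ne_of_ne (ne_of_lt hk) (fun h => hk₀' (by rw [← h]; exact hk))]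
  · rintro ⟨k, hk, rfl⟩
    refine ⟨k, hk, ?_⟩
    rw [Equiv.swap_apply_of_ne_of_ne (ne_of_lt hk) (fun h => hk₀' (by rw [← h]; exact hk))]

/-- (A): all permutations regular iff all NZD conditions. -/
lemma perm_regular_iff {r : ℕ} (f : Fin r → A) (hf : Ideal.span (Set.range f) ≠ ⊤) :
    (∀ σ : Equiv.Perm (Fin r), IsRegular A (List.ofFn (f ∘ σ))) ↔
      ∀ S : Finset (Fin r), ∀ j, j ∉ S → NZD f S j := by
  constructor
  · intro H S j hj
    obtain ⟨σ, i, hS, hi⟩ := exists_perm S j hj
    have := ((isRegular_ofFn_iff (f ∘ σ)).1 (H σ)).1 i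
    unfold NZD at this ⊢
    rw [II_comp, hS, Function.comp_apply, hi] at this
    exact this
  · intro H σ
    rw [isRegular_ofFn_iff]
    constructor
    · intro i
      have := H ((Finset.Iio i).map σ.toEmbedding) (σ i) (by
        simp only [Finset.mem_map, Finset.mem_Iio, Equiv.toEmbedding_apply, not_exists, not_and]
        intro k hk hke
        exact (ne_of_lt hk) (σ.injective hke))
      unfold NZD at this ⊢
      rw [II_comp, Function.comp_apply]
      exact this
    · rw [σ.surjective.range_comp f]; exact hf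

end general

section poly
variable {R : Type*} [CommRing R] {r : ℕ}

open MvPolynomial

/-- the products `f_i x_i`. -/
noncomputable def gg (f : Fin r → R) (i : Fin r) : MvPolynomial (Fin r) R := C (f i) * X i

/-- support filter -/
def sf (T : Finset (Fin r)) (a : Fin r →₀ ℕ) : Finset (Fin r) := T.filter (fun k => a k ≠ 0)

lemma monomial_mem (f : Fin r → R) (T : Finset (Fin r)) (a : Fin r →₀ ℕ) (c : R)
    (hc : c ∈ II f (sf T a)) : monomial a c ∈ II (gg f) T := by
  unfold II at hc
  induction hc using Submodule.span_induction with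
  | mem x hx =>
    obtain ⟨k, hk, rfl⟩ := hx
    have hk' := Finset.mem_filter.1 (Finset.mem_coe.1 hk)
    have e : monomial a (f k) = gg f k * monomial (a - Finsupp.single k 1) 1 := by
      have ea : a = Finsupp.single k 1 + (a - Finsupp.single k 1) := by
        ext j
        rw [Finsupp.add_apply, Finsupp.tsub_apply]
        by_cases hj : j = k
        · subst hj
          have := hk'.2
          rw [Finsupp.single_eq_same]
          omega
        · rw [Finsupp.single_eq_of_ne hj]; omega
      unfold gg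
      rw [C_mul_X_eq_monomial, monomial_mul, mul_one, ← ea]
    rw [e]
    exact Ideal.mul_mem_right _ _ (mem_II (gg f) hk'.1)
  | zero => simp
  | add x y _ _ hx hy => rw [map_add]; exact Ideal.add_mem _ hx hy
  | smul t x _ hx =>
    rw [smul_eq_mul, ← C_mul_monomial]
    exact Ideal.mul_mem_left _ _ hx

lemma sf_mono_of_le (T : Finset (Fin r)) {a b : Fin r →₀ ℕ} (h : a ≤ b) : sf T a ⊆ sf T b := by
  intro k hk
  rw [sf, Finset.mem_filter] at hk ⊢
  refine ⟨hk.1, ?_⟩
  have := h k
  omega

/-- coefficient characterization of the ideal generated by some of the `f_i x_i`. -/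
lemma mem_II_gg_iff (f : Fin r → R) (T : Finset (Fin r)) (p : MvPolynomial (Fin r) R) :
    p ∈ II (gg f) T ↔ ∀ a, coeff a p ∈ II f (sf T a) := by
  classical
  constructor
  · intro hp
    unfold II at hp
    induction hp using Submodule.span_induction with
    | mem x hx =>
      obtain ⟨k, hk, rfl⟩ := hx
      intro a
      unfold gg
      rw [coeff_C_mul, coeff_X']
      split_ifs with h
      · rw [mul_one]
        apply mem_II f
        rw [sf, Finset.mem_filter]
        refine ⟨Finset.mem_coe.1 hk, ?_⟩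
        rw [← h]; simp
      · simp
    | zero => intro a; simp
    | add x y _ _ hx hy => intro a; rw [coeff_add]; exact Ideal.add_mem _ (hx a) (hy a)
    | smul q x _ hx =>
      intro a
      rw [smul_eq_mul, coeff_mul]
      apply Ideal.sum_mem
      intro y hy
      apply Ideal.mul_mem_left
      have hle : y.2 ≤ a := by
        rw [← Finset.HasAntidiagonal.mem_antidiagonal.1 hy]
        exact le_add_self
      exact II_mono f (sf_mono_of_le T hle) (hx y.2)
  · intro H
    rw [← support_sum_monomial_coeff p]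
    apply Ideal.sum_mem
    intro a _
    exact monomial_mem f T a _ (H a)

/-- indicator exponent -/
noncomputable def ind (S : Finset (Fin r)) : Fin r →₀ ℕ :=
  Finsupp.equivFunOnFinite.symm (fun k => if k ∈ S then 1 else 0)

lemma ind_apply (S : Finset (Fin r)) (k : Fin r) : ind S k = if k ∈ S then 1 else 0 := rfl

/-- (B) -/
lemma NZD_gg_iff (f : Fin r → R) (i : Fin r) :
    NZD (gg f) (Finset.Iio i) i ↔ ∀ S : Finset (Fin r), (∀ k ∈ S, k < i) → NZD f S i := by
  classical
  constructor
  · intro H S hS c hc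
    have h1 : gg f i * monomial (ind S) c ∈ II (gg f) (Finset.Iio i) := by
      have e : gg f i * monomial (ind S) c = monomial (Finsupp.single i 1 + ind S) (f i * c) := by
        unfold gg
        rw [C_mul_X_eq_monomial, monomial_mul]
      rw [e]
      apply monomial_mem
      have : sf (Finset.Iio i) (Finsupp.single i 1 + ind S) = S := by
        ext k
        rw [sf, Finset.mem_filter, Finset.mem_Iio, Finsupp.add_apply, ind_apply]
        constructor
        · rintro ⟨hk, hne⟩
          rw [Finsupp.single_eq_of_ne (ne_of_lt hk)] at hne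
          by_contra hkS
          rw [if_neg hkS] at hne
          exact hne rfl
        · intro hkS
          refine ⟨hS k hkS, ?_⟩
          rw [if_pos hkS]; omega
      rw [this]
      exact hc
    have h2 := H _ h1
    have h3 := (mem_II_gg_iff f _ _).1 h2 (ind S)
    rw [coeff_monomial, if_pos rfl] at h3
    have : sf (Finset.Iio i) (ind S) = S := by
      ext k
      rw [sf, Finset.mem_filter, Finset.mem_Iio, ind_apply]
      constructor
      · rintro ⟨_, hne⟩
        by_contra hkS
        rw [if_neg hkS] at hne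
        exact hne rfl
      · intro hkS
        refine ⟨hS k hkS, ?_⟩
        rw [if_pos hkS]; omega
    rw [this] at h3
    exact h3
  · intro H p hp
    rw [mem_II_gg_iff] at hp ⊢
    intro b
    have h1 := hp (Finsupp.single i 1 + b)
    have e : coeff (Finsupp.single i 1 + b) (gg f i * p) = f i * coeff b p := by
      unfold gg
      rw [mul_assoc, coeff_C_mul, coeff_X_mul]
    rw [e] at h1
    have : sf (Finset.Iio i) (Finsupp.single i 1 + b) = sf (Finset.Iio i) b := by
      ext k
      rw [sf, sf, Finset.mem_filter, Finset.mem_filter, Finset.mem_Iio, Finsupp.add_apply]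
      constructor
      · rintro ⟨hk, hne⟩
        rw [Finsupp.single_eq_of_ne (ne_of_lt hk), zero_add] at hne
        exact ⟨hk, hne⟩
      · rintro ⟨hk, hne⟩
        rw [Finsupp.single_eq_of_ne (ne_of_lt hk), zero_add]
        exact ⟨hk, hne⟩
    rw [this] at h1
    refine H (sf (Finset.Iio i) b) ?_ _ h1
    intro k hk
    exact Finset.mem_Iio.1 (Finset.mem_filter.1 hk).1

lemma span_range_gg_ne_top (f : Fin r → R) (hf : Ideal.span (Set.range f) ≠ ⊤) :
    Ideal.span (Set.range (gg f)) ≠ ⊤ := by
  intro h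
  have h1 : (1 : MvPolynomial (Fin r) R) ∈ II (gg f) Finset.univ := by
    unfold II
    rw [Finset.coe_univ, Set.image_univ, h]
    trivial
  have h2 := (mem_II_gg_iff f _ _).1 h1 0
  have : sf (Finset.univ : Finset (Fin r)) 0 = ∅ := by
    ext k; simp [sf]
  rw [this, II_empty, Ideal.mem_bot, coeff_one, if_pos rfl] at h2
  apply hf
  rw [Ideal.eq_top_iff_one, h2]
  exact Ideal.zero_mem _

end poly


/-- For elements `f_1, …, f_r` generating a proper ideal, all reorderings are regular sequences in `R`
if and only if the products `f_i x_i` form a regular sequence in `R[x_1, …, x_r]`. -/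
theorem result {R : Type u} [CommRing R] {r : ℕ} (f : Fin r → R)
    (hf : Ideal.span (Set.range f) ≠ ⊤) :
    (∀ σ : Equiv.Perm (Fin r), RingTheory.Sequence.IsRegular R (List.ofFn (f ∘ σ))) ↔
      RingTheory.Sequence.IsRegular (MvPolynomial (Fin r) R)
        (List.ofFn fun i => MvPolynomial.C (f i) * MvPolynomial.X i) := by
  rw [perm_regular_iff f hf]
  have e : (List.ofFn fun i => MvPolynomial.C (f i) * MvPolynomial.X i) = List.ofFn (gg f) := rfl
  rw [e, isRegular_ofFn_iff]
  constructor
  · intro H
    refine ⟨fun i => (NZD_gg_iff f i).2 fun S hS => H S i (fun hi => lt_irrefl _ (hS i hi)),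
      span_range_gg_ne_top f hf⟩
  · rintro ⟨H, _⟩
    exact all_of_ordered f (fun i S hS => (NZD_gg_iff f i).1 (H i) S hS)

end Groth.Agent.S2101
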