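import Groth.Statements.S5777
import Mathlib
import Groth.Agent.Lib.Helper8.LocalFlat

set_option autoImplicit false
universe u
open EGA41

namespace Groth.Agent.S5777

open TensorProduct Function RingTheory.Sequence Submodule Groth.Agent.Lib.helper8.LocalFlat
section
variable {A : Type u} [CommRing A] (M : Type u) [AddCommGroup M] [Module A M]

/-- `φ_I : I ⊗ M → M` -/
noncomputable def phi (I : Ideal A) : I ⊗[A] M →ₗ[A] M :=
  (TensorProduct.lid A M).toLinearMap ∘ₗ (I.subtype.rTensor M)

@[simp] theorem phi_tmul (I : Ideal A) (i : I) (m : M) : phi M I (i ⊗ₜ m) = (i : A) • m := by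
  simp [phi]

theorem phi_mem (I : Ideal A) (y : I ⊗[A] M) : phi M I y ∈ (I • ⊤ : Submodule A M) := by
  induction y using TensorProduct.induction_on with
  | zero => simp
  | add a b ha hb => rw [map_add]; exact Submodule.add_mem _ ha hb
  | tmul i m => rw [phi_tmul]; exact Submodule.smul_mem_smul i.2 trivial

theorem exists_phi_eq (I : Ideal A) (m : M) (hm : m ∈ (I • ⊤ : Submodule A M)) :
    ∃ y, phi M I y = m := by
  refine Submodule.smul_induction_on hm ?_ ?_
  · intro r hr n _
    exact ⟨(⟨r, hr⟩ : I) ⊗ₜ n, by simp⟩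
  · rintro x y ⟨a, rfl⟩ ⟨b, rfl⟩
    exact ⟨a + b, map_add _ _ _⟩

theorem phi_injective_iff (I : Ideal A) : Injective (phi M I) ↔ Injective (I.subtype.rTensor M) := by
  unfold phi
  rw [LinearMap.coe_comp, LinearEquiv.coe_coe, EquivLike.comp_injective]

theorem T_step (I : Ideal A) (f : A) (hT : Injective (phi M I))
    (hf : IsSMulRegular (M ⧸ (I • ⊤ : Submodule A M)) f) :
    Injective (phi M (I ⊔ Ideal.span {f})) := by
  have hfmem : f ∈ I ⊔ Ideal.span {f} := Ideal.mem_sup_right (Ideal.mem_span_singleton_self f)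
  -- decomposition
  have hdec : ∀ x : (↥(I ⊔ Ideal.span {f})) ⊗[A] M, ∃ (y : I ⊗[A] M) (m' : M),
      x = ((Submodule.inclusion (le_sup_left : I ≤ I ⊔ Ideal.span {f})).rTensor M) y +
        (⟨f, hfmem⟩ : ↥(I ⊔ Ideal.span {f})) ⊗ₜ m' := by
    intro x
    induction x using TensorProduct.induction_on with
    | zero => exact ⟨0, 0, by simp⟩
    | add a b ha hb =>
      obtain ⟨y1, m1, rfl⟩ := ha
      obtain ⟨y2, m2, rfl⟩ := hb
      refine ⟨y1 + y2, m1 + m2, ?_⟩
      rw [map_add, tmul_add]; abel
    | tmul a m =>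
      obtain ⟨a, ha⟩ := a
      obtain ⟨i, hi, c', hc', rfl⟩ := Submodule.mem_sup.mp ha
      obtain ⟨c, rfl⟩ := Ideal.mem_span_singleton'.mp hc'
      refine ⟨(⟨i, hi⟩ : I) ⊗ₜ m, c • m, ?_⟩
      rw [LinearMap.rTensor_tmul, tmul_smul, smul_tmul', ← add_tmul]
      rfl
  -- key identity
  have hkey : ∀ y' : I ⊗[A] M, (⟨f, hfmem⟩ : ↥(I ⊔ Ideal.span {f})) ⊗ₜ[A] (phi M I y') =
      ((Submodule.inclusion (le_sup_left : I ≤ I ⊔ Ideal.span {f})).rTensor M) (f • y') := by
    intro y'
    induction y' using TensorProduct.induction_on with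
    | zero => simp
    | add a b ha hb => rw [map_add, tmul_add, ha, hb, smul_add, map_add]
    | tmul i m =>
      rw [phi_tmul, tmul_smul, smul_tmul', smul_tmul', LinearMap.rTensor_tmul]
      congr 1
      apply Subtype.ext
      simp [mul_comm]
  have hcomp : ∀ y : I ⊗[A] M, phi M (I ⊔ Ideal.span {f})
      (((Submodule.inclusion (le_sup_left : I ≤ I ⊔ Ideal.span {f})).rTensor M) y) = phi M I y := by
    intro y
    induction y using TensorProduct.induction_on with
    | zero => simp
    | add a b ha hb => rw [map_add, map_add, ha, hb, map_add]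
    | tmul i m => simp
  rw [injective_iff_map_eq_zero]
  intro x hx
  obtain ⟨y, m', rfl⟩ := hdec x
  rw [map_add, hcomp, phi_tmul] at hx
  have h1 : f • m' ∈ (I • ⊤ : Submodule A M) := by
    have : f • m' = - phi M I y := by
      rw [eq_neg_iff_add_eq_zero, add_comm]; exact hx
    rw [this]
    exact Submodule.neg_mem _ (phi_mem M I y)
  have h2 : m' ∈ (I • ⊤ : Submodule A M) := by
    rw [← Submodule.Quotient.mk_eq_zero] at h1 ⊢
    rw [Submodule.Quotient.mk_smul] at h1
    exact hf (by show f • _ = f • 0; rw [h1, smul_zero])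
  obtain ⟨y', rfl⟩ := exists_phi_eq M I m' h2
  rw [hkey, ← map_add]
  have h3 : phi M I (y + f • y') = 0 := by
    rw [map_add, map_smul]; exact hx
  rw [hT (h3.trans (map_zero _).symm), map_zero]


theorem T_ofList (fs : List A) (hreg : IsWeaklyRegular M fs) :
    Injective ((Ideal.ofList fs).subtype.rTensor M) := by
  rw [← phi_injective_iff]
  have key : ∀ i, i ≤ fs.length → Injective (phi M (Ideal.ofList (fs.take i))) := by
    intro i
    induction i with
    | zero =>
      intro _
      rw [List.take_zero, Ideal.ofList_nil]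
      intro x y _
      have : Subsingleton ((⊥ : Ideal A) ⊗[A] M) := by
        have : Subsingleton (⊥ : Ideal A) := Submodule.subsingleton_iff_eq_bot.mpr rfl
        infer_instance
      exact Subsingleton.elim _ _
    | succ j ih =>
      intro hj
      have hj' : j < fs.length := hj
      have h1 := ih (Nat.le_of_succ_le hj)
      have h2 := hreg.regular_mod_prev j hj'
      have h3 := T_step M (Ideal.ofList (fs.take j)) fs[j] h1 h2
      have h4 : Ideal.ofList (fs.take (j + 1)) = Ideal.ofList (fs.take j) ⊔ Ideal.span {fs[j]} := by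
        rw [List.take_succ_eq_append_getElem hj', Ideal.ofList_append, Ideal.ofList_singleton]
      rw [h4]
      exact h3
  have := key fs.length le_rfl
  rwa [List.take_length] at this

end



/-- Let φ : A → B be a local homomorphism of Noetherian local rings, M a finitely generated B-module and
(f_i)_{1 ≤ i ≤ n} an A-regular sequence of elements of the maximal ideal of A, generating the ideal
J. Then M is flat over A if and only if M/JM is flat over A/J and (f_i) is an M-regular sequence. -/
theorem result (A B : Type u) [CommRing A] [CommRing B]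
    [IsLocalRing A] [IsLocalRing B] [IsNoetherianRing A] [IsNoetherianRing B] [Algebra A B]
    [IsLocalHom (algebraMap A B)] (M : Type u) [AddCommGroup M] [Module B M] [Module A M]
    [IsScalarTower A B M] [Module.Finite B M] (fs : List A) (hfs : ∀ f ∈ fs, f ∈ IsLocalRing.maximalIdeal A)
    (hA : RingTheory.Sequence.IsWeaklyRegular A fs) :
    Module.Flat A M ↔
      Module.Flat (A ⧸ Ideal.ofList fs) (M ⧸ (Ideal.ofList fs • (⊤ : Submodule A M))) ∧
        RingTheory.Sequence.IsWeaklyRegular M fs := by
  constructor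
  · intro hM
    constructor
    · exact flat_of_linearEquiv_of_surjective (R := A) (R₁ := A ⧸ Ideal.ofList fs)
        (R₂ := A ⧸ Ideal.ofList fs) Ideal.Quotient.mk_surjective Ideal.Quotient.mk_surjective le_rfl
        (TensorProduct.quotTensorEquivQuotSMul M (Ideal.ofList fs))
    · exact ((TensorProduct.rid A M).isWeaklyRegular_congr fs).mp
        (hA.isWeaklyRegular_lTensor (M₂ := M))
  · rintro ⟨h1, h2⟩
    haveI : Module.Flat (A ⧸ Ideal.ofList fs) ((A ⧸ Ideal.ofList fs) ⊗[A] M) :=
      flat_of_linearEquiv_of_surjective (R := A) (R₁ := A ⧸ Ideal.ofList fs)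
        (R₂ := A ⧸ Ideal.ofList fs) Ideal.Quotient.mk_surjective Ideal.Quotient.mk_surjective le_rfl
        (TensorProduct.quotTensorEquivQuotSMul M (Ideal.ofList fs)).symm
    have hT := T_ofList M fs h2
    have hJ : (Ideal.ofList fs).map (algebraMap A B) ≤ Ideal.jacobson ⊥ := by
      rw [IsLocalRing.jacobson_eq_maximalIdeal ⊥ bot_ne_top]
      refine (Ideal.map_mono ?_).trans (IsLocalRing.map_maximalIdeal_le (algebraMap A B))
      rw [Ideal.span_le]
      exact fun f hf => hfs f hf
    exact flat_of_forall_flat_quotient_pow (R := A) (S := B) (M := M) (Ideal.ofList fs) hJ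
      (fun k _ => flat_quotient_pow (Ideal.ofList fs) M hT k)

end Groth.Agent.S5777
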