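import Groth.Statements.S0542
import Mathlib
import Groth.Agent.Lib.Helper8.CompleteNoeth

set_option autoImplicit false
universe u
open CAlg

namespace Groth.Agent.S0542

/-- If `I` is a finitely generated ideal of a ring `R` and `R/I` is Noetherian, then the `I`-adic
completion of `R` is a Noetherian ring. (The source also states completeness of the completion along
the extended ideal, which Mathlib already has; only Noetherianity is stated here.) -/
theorem result (R : Type u) [CommRing R] (I : Ideal R)
    (hI : I.FG) [IsNoetherianRing (R ⧸ I)] : IsNoetherianRing (AdicCompletion I R) := by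
  have hc : IsAdicComplete (I.map (algebraMap R (AdicCompletion I R))) (AdicCompletion I R) :=
    (IsAdicComplete.map_algebraMap_iff (R := R) (S := AdicCompletion I R) (I := I)
      (M := AdicCompletion I R)).mpr (AdicCompletion.isAdicComplete hI)
  have hJ : (I.map (algebraMap R (AdicCompletion I R))).FG := Ideal.FG.map hI _
  have hN : IsNoetherianRing (AdicCompletion I R ⧸ I.map (algebraMap R (AdicCompletion I R))) := by
    refine isNoetherianRing_of_surjective (R ⧸ I) _
      (Ideal.quotientMap _ (algebraMap R (AdicCompletion I R)) Ideal.le_comap_map) ?_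
    intro y
    obtain ⟨x, rfl⟩ := Ideal.Quotient.mk_surjective y
    obtain ⟨r, hr⟩ := Ideal.Quotient.mk_surjective (AdicCompletion.evalₐ I 1 x)
    refine ⟨Ideal.Quotient.mk I r, ?_⟩
    rw [Ideal.quotientMap_mk]
    apply (Ideal.Quotient.mk_eq_mk_iff_sub_mem _ _).mpr
    rw [← Submodule.restrictScalars_mem R, ← Ideal.smul_top_eq_map]
    have h1 : (algebraMap R (AdicCompletion I R)) r - x ∈
        I ^ 1 • (⊤ : Submodule R (AdicCompletion I R)) := by
      rw [AdicCompletion.algebraMap_apply, AdicCompletion.pow_smul_top_eq_ker_eval hI,
        LinearMap.mem_ker, ← AdicCompletion.factor_evalₐ_eq_eval _ _ (by simp), map_sub,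
        AdicCompletion.evalₐ_of, ← hr, Algebra.algebraMap_self, RingHom.id_apply, sub_self,
        map_zero]
    simpa using h1
  exact Groth.Agent.Lib.Helper8.CompleteNoeth.isNoetherianRing_of_fg _ hJ

end Groth.Agent.S0542
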