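import Groth.Statements.S0547
import Groth.Agent.S0542
import Groth.Agent.Lib.Helper24.HensDepth
-- import your own Groth.Agent.* helpers here

set_option autoImplicit false
universe u
open CAlg

namespace Groth.Agent.S0547

/-- The completion of a Noetherian local ring at its maximal ideal has the same Krull dimension as the
ring. -/
theorem result (A : Type u) [CommRing A] [IsLocalRing A]
    [IsNoetherianRing A] :
    ringKrullDim (AdicCompletion (IsLocalRing.maximalIdeal A) A) = ringKrullDim A := by
  haveI hN : IsNoetherianRing (AdicCompletion (IsLocalRing.maximalIdeal A) A) :=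
    Groth.Agent.S0542.result A (IsLocalRing.maximalIdeal A)
      (IsLocalRing.maximalIdeal A).fg_of_isNoetherianRing
  have hm : (IsLocalRing.maximalIdeal A).map
      (algebraMap A (AdicCompletion (IsLocalRing.maximalIdeal A) A)) =
      IsLocalRing.maximalIdeal (AdicCompletion (IsLocalRing.maximalIdeal A) A) :=
    AdicCompletion.maximalIdeal_eq_map.symm
  have hdim := Groth.Agent.Lib.Helper24.FlatLocalFibre.ringKrullDim_eq_of_flat A
    (AdicCompletion (IsLocalRing.maximalIdeal A) A) hm
  exact hdim

end Groth.Agent.S0547
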