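import Groth.Statements.S12714
import Mathlib
-- import your own Groth.Agent.* helpers here

set_option autoImplicit false
universe u v
open CategoryTheory
open ArtFun ArtFun.CRing

namespace Groth.Agent.S12714

section
variable {Λ : Type u} {k : Type u} [CommRing Λ] [Field k] [Algebra Λ k]

theorem mem_max_iff (R : ArtFun.CRing Λ k) (a : R.carrier) :
    a ∈ IsLocalRing.maximalIdeal R.carrier ↔ R.res a = 0 := by
  have hmax : (RingHom.ker (R.res : R.carrier →+* k)).IsMaximal :=
    RingHom.ker_isMaximal_of_surjective (R.res : R.carrier →+* k) R.res_surjective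
  rw [← IsLocalRing.eq_maximalIdeal hmax, RingHom.mem_ker]
  rfl

variable (R S : ArtFun.CRing Λ k) (f : R.carrier →ₐ[Λ] S.carrier) (hf : S.res.comp f = R.res)
include hf

theorem res_app (a : R.carrier) : S.res (f a) = R.res a := by
  rw [← hf]; rfl

theorem map_le_maximalIdeal :
    Ideal.map f (IsLocalRing.maximalIdeal R.carrier) ≤ IsLocalRing.maximalIdeal S.carrier := by
  rw [Ideal.map_le_iff_le_comap]
  intro a ha
  rw [Ideal.mem_comap, mem_max_iff, res_app R S f hf, ← mem_max_iff]
  exact ha

omit hf in
theorem mapΛ_le_map :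
    Ideal.map (algebraMap Λ S.carrier) (RingHom.ker (algebraMap Λ k)) ≤
      Ideal.map f (IsLocalRing.maximalIdeal R.carrier) := by
  rw [Ideal.map_le_iff_le_comap]
  intro l hl
  rw [Ideal.mem_comap]
  have h1 : algebraMap Λ S.carrier l = f (algebraMap Λ R.carrier l) := (f.commutes l).symm
  rw [h1]
  apply Ideal.mem_map_of_mem
  rw [mem_max_iff, AlgHom.commutes]
  exact hl

theorem surjective_of_map_eq
    (h : Ideal.map f (IsLocalRing.maximalIdeal R.carrier) = IsLocalRing.maximalIdeal S.carrier) :
    Function.Surjective f := by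
  classical
  have h0 : ∀ b : S.carrier, ∃ a : R.carrier, b - f a ∈ IsLocalRing.maximalIdeal S.carrier := by
    intro b
    obtain ⟨a, ha⟩ := R.res_surjective (S.res b)
    refine ⟨a, ?_⟩
    rw [mem_max_iff, map_sub, res_app R S f hf, ha, sub_self]
  have hpow : ∀ n : ℕ, Ideal.map f (IsLocalRing.maximalIdeal R.carrier ^ n) =
      IsLocalRing.maximalIdeal S.carrier ^ n := by
    intro n
    rw [Ideal.map_pow, h]
  have hstep : ∀ (n : ℕ) (c : S.carrier), c ∈ IsLocalRing.maximalIdeal S.carrier ^ n →
      ∃ a ∈ IsLocalRing.maximalIdeal R.carrier ^ n,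
        c - f a ∈ IsLocalRing.maximalIdeal S.carrier ^ (n + 1) := by
    intro n c hc
    rw [← hpow n] at hc
    have key : c ∈ IsLocalRing.maximalIdeal S.carrier ^ n ∧
        ∃ a ∈ IsLocalRing.maximalIdeal R.carrier ^ n,
          c - f a ∈ IsLocalRing.maximalIdeal S.carrier ^ (n + 1) := by
      refine Submodule.span_induction (p := fun c _ => c ∈ IsLocalRing.maximalIdeal S.carrier ^ n ∧
        ∃ a ∈ IsLocalRing.maximalIdeal R.carrier ^ n,
          c - f a ∈ IsLocalRing.maximalIdeal S.carrier ^ (n + 1)) ?_ ?_ ?_ ?_ hc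
      · rintro x ⟨a, ha, rfl⟩
        refine ⟨?_, a, ha, ?_⟩
        · rw [← hpow n]
          exact Ideal.mem_map_of_mem _ ha
        · rw [sub_self]
          exact Ideal.zero_mem _
      · exact ⟨Ideal.zero_mem _, 0, Ideal.zero_mem _, by
          rw [map_zero, sub_zero]; exact Ideal.zero_mem _⟩
      · rintro x y _ _ ⟨hx, a, haR, ha⟩ ⟨hy, a', haR', ha'⟩
        refine ⟨Ideal.add_mem _ hx hy, a + a', Ideal.add_mem _ haR haR', ?_⟩
        have : x + y - f (a + a') = (x - f a) + (y - f a') := by
          rw [map_add]; ring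
        rw [this]
        exact Ideal.add_mem _ ha ha'
      · rintro b x _ ⟨hx, a, haR, ha⟩
        obtain ⟨α, hα⟩ := h0 b
        refine ⟨Ideal.mul_mem_left _ _ hx, α * a, Ideal.mul_mem_left _ _ haR, ?_⟩
        have : b • x - f (α * a) = (b - f α) * x + f α * (x - f a) := by
          rw [map_mul, smul_eq_mul]; ring
        rw [this]
        apply Ideal.add_mem
        · rw [pow_succ']
          exact Ideal.mul_mem_mul hα hx
        · exact Ideal.mul_mem_left _ _ ha
    exact key.2
  intro b
  -- build the approximating sequence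
  let g : (n : ℕ) → {x : R.carrier // b - f x ∈ IsLocalRing.maximalIdeal S.carrier ^ n} :=
    fun n => Nat.rec ⟨0, by rw [pow_zero, Ideal.one_eq_top]; trivial⟩
      (fun n x => ⟨x.1 + Classical.choose (hstep n _ x.2), by
        have := (Classical.choose_spec (hstep n _ x.2)).2
        have e : b - f (x.1 + Classical.choose (hstep n _ x.2)) =
            b - f x.1 - f (Classical.choose (hstep n _ x.2)) := by
          rw [map_add]; ring
        rw [e]
        exact this⟩) n
  have hg_succ : ∀ n, (g (n + 1)).1 - (g n).1 ∈ IsLocalRing.maximalIdeal R.carrier ^ n := by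
    intro n
    have : (g (n + 1)).1 = (g n).1 + Classical.choose (hstep n _ (g n).2) := rfl
    rw [this, add_sub_cancel_left]
    exact (Classical.choose_spec (hstep n _ (g n).2)).1
  have hg_le : ∀ m n, m ≤ n → (g n).1 - (g m).1 ∈ IsLocalRing.maximalIdeal R.carrier ^ m := by
    intro m n hmn
    induction n, hmn using Nat.le_induction with
    | base => rw [sub_self]; exact Ideal.zero_mem _
    | succ n hmn ih =>
      have : (g (n + 1)).1 - (g m).1 = ((g (n + 1)).1 - (g n).1) + ((g n).1 - (g m).1) := by ring
      rw [this]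
      exact Ideal.add_mem _ (Ideal.pow_le_pow_right hmn (hg_succ n)) ih
  have hcomplete : IsAdicComplete (IsLocalRing.maximalIdeal R.carrier) R.carrier := R.isAdicComplete
  obtain ⟨L, hL⟩ := hcomplete.toIsPrecomplete.prec (f := fun n => (g n).1) (by
    intro m n hmn
    rw [SModEq.sub_mem, smul_eq_mul, Ideal.mul_top]
    have := hg_le m n hmn
    rw [← neg_sub]
    exact Ideal.neg_mem_iff _ |>.mpr this)
  refine ⟨L, ?_⟩
  have hSH : IsHausdorff (IsLocalRing.maximalIdeal S.carrier) S.carrier :=
    S.isAdicComplete.toIsHausdorff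
  have : b - f L = 0 := by
    apply hSH.haus
    intro n
    rw [SModEq.sub_mem, sub_zero, smul_eq_mul, Ideal.mul_top]
    have h1 := hL n
    rw [SModEq.sub_mem, smul_eq_mul, Ideal.mul_top] at h1
    have h2 : f ((g n).1 - L) ∈ IsLocalRing.maximalIdeal S.carrier ^ n := by
      have := Ideal.mem_map_of_mem f h1
      rw [hpow n] at this
      exact this
    have h3 : b - f L = (b - f (g n).1) + f ((g n).1 - L) := by
      rw [map_sub]; ring
    rw [h3]
    exact Ideal.add_mem _ (g n).2 h2
  exact (sub_eq_zero.mp this).symm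

end

/-- For a morphism f : R → S of complete local Noetherian Λ-algebras with residue field k (compatible
with the augmentations to k), the following are equivalent: (1) f is surjective; (2) m_R/m_R² →
m_S/m_S² is surjective, written as f(m_R)S + m_S² = m_S; (3) the map of cotangent spaces relative to
Λ is surjective, written as m_Λ S + f(m_R)S + m_S² = m_S with m_Λ the kernel of Λ → k. -/
theorem result {Λ : Type u} {k : Type u} [CommRing Λ] [Field k] [Algebra Λ k]
    [IsNoetherianRing Λ] [Module.Finite Λ k]
    (R S : ArtFun.CRing Λ k) (f : R.carrier →ₐ[Λ] S.carrier) (hf : S.res.comp f = R.res) :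
    List.TFAE [Function.Surjective f,
      Ideal.map f (IsLocalRing.maximalIdeal R.carrier) ⊔ IsLocalRing.maximalIdeal S.carrier ^ 2 =
        IsLocalRing.maximalIdeal S.carrier,
      Ideal.map (algebraMap Λ S.carrier) (RingHom.ker (algebraMap Λ k)) ⊔
        Ideal.map f (IsLocalRing.maximalIdeal R.carrier) ⊔ IsLocalRing.maximalIdeal S.carrier ^ 2 =
        IsLocalRing.maximalIdeal S.carrier] := by
  have hle := map_le_maximalIdeal R S f hf
  have hΛ := mapΛ_le_map R S f
  have hsq : IsLocalRing.maximalIdeal S.carrier ^ 2 ≤ IsLocalRing.maximalIdeal S.carrier :=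
    Ideal.pow_le_self two_ne_zero
  tfae_have 1 → 2 := by
    intro hfs
    apply le_antisymm (sup_le hle hsq)
    refine le_trans ?_ le_sup_left
    intro b hb
    obtain ⟨a, rfl⟩ := hfs b
    apply Ideal.mem_map_of_mem
    rw [mem_max_iff] at hb ⊢
    rw [← res_app R S f hf]
    exact hb
  tfae_have 2 → 3 := by
    intro h2
    rw [sup_assoc, h2]
    exact sup_eq_right.mpr (hΛ.trans hle)
  tfae_have 3 → 1 := by
    intro h3
    have h2 : Ideal.map f (IsLocalRing.maximalIdeal R.carrier) ⊔ IsLocalRing.maximalIdeal S.carrier ^ 2 =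
        IsLocalRing.maximalIdeal S.carrier := by
      have h3' := h3
      rw [sup_eq_right.mpr hΛ] at h3'
      exact h3'
    apply surjective_of_map_eq R S f hf
    apply le_antisymm hle
    have hfg : (IsLocalRing.maximalIdeal S.carrier).FG := IsNoetherian.noetherian _
    apply Submodule.le_of_le_smul_of_le_jacobson_bot hfg
      (IsLocalRing.jacobson_eq_maximalIdeal ⊥ bot_ne_top).ge
    rw [Ideal.smul_eq_mul, ← pow_two, h2]
  tfae_finish

end Groth.Agent.S12714
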