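import Groth.Agent.LibCR29g
import Groth.Agent.S12714
import Mathlib.RingTheory.RegularLocalRing.Defs
import Mathlib.RingTheory.KrullDimension.NonZeroDivisors

/-!
# Power series rings over a field are regular; presentations of complete local algebras

* `isRegularLocalRing_mvPowerSeries`: `k[[x₁, …, xₙ]]` is a regular local ring.
* `exists_ps_presentation`: a complete local Noetherian `k`-algebra with residue field `k` is a quotient of a power series
  ring by an ideal inside the square of the maximal ideal.
-/

set_option autoImplicit false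
universe u

namespace Groth.Agent.LibObs29

open IsLocalRing ArtFun Groth.Agent.LibCR29

section regular

variable (k : Type u) [Field k]

lemma le_ringKrullDim_mvPowerSeries (n : ℕ) :
    (n : WithBot ℕ∞) ≤ ringKrullDim (MvPowerSeries (Fin n) k) := by
  induction n with
  | zero => exact_mod_cast ringKrullDim_nonneg_of_nontrivial
  | succ n ih =>
    rw [ringKrullDim_eq_of_ringEquiv (MvPowerSeries.finSuccEquiv k n).toRingEquiv]
    refine le_trans ?_ ringKrullDim_succ_le_ringKrullDim_powerseries
    push_cast
    gcongr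

theorem isRegularLocalRing_mvPowerSeries (n : ℕ) :
    IsRegularLocalRing (MvPowerSeries (Fin n) k) := by
  apply IsRegularLocalRing.of_spanFinrank_maximalIdeal_le
  refine le_trans ?_ (le_ringKrullDim_mvPowerSeries k n)
  have h1 : maximalIdeal (MvPowerSeries (Fin n) k) =
      Ideal.span (Set.range (MvPowerSeries.X : Fin n → MvPowerSeries (Fin n) k)) := by
    rw [maximalIdeal_ps, IsLocalRing.maximalIdeal_eq_bot, Ideal.map_bot, bot_sup_eq]
  rw [h1]
  have h2 : (Ideal.span (Set.range (MvPowerSeries.X : Fin n → MvPowerSeries (Fin n) k))).spanFinrank ≤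
      (Set.range (MvPowerSeries.X : Fin n → MvPowerSeries (Fin n) k)).ncard :=
    Submodule.spanFinrank_span_le_ncard_of_finite (Set.finite_range _)
  have h3 : (Set.range (MvPowerSeries.X : Fin n → MvPowerSeries (Fin n) k)).ncard ≤ n := by
    classical
    have : Set.range (MvPowerSeries.X : Fin n → MvPowerSeries (Fin n) k) =
        ((Finset.univ.image (MvPowerSeries.X : Fin n → MvPowerSeries (Fin n) k) :
          Finset (MvPowerSeries (Fin n) k)) : Set (MvPowerSeries (Fin n) k)) := by simp
    rw [this, Set.ncard_coe_finset]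
    exact Finset.card_image_le.trans (by simp)
  exact_mod_cast h2.trans h3

end regular

section presentation

variable (k : Type u) [Field k]

/-- the field `k` as a complete local augmented `k`-algebra. -/
noncomputable def kCRing : CRing k k :=
  { carrier := k
    res := AlgHom.id k k
    res_surjective := fun c => ⟨c, rfl⟩
    isAdicComplete := by
      rw [IsLocalRing.maximalIdeal_eq_bot]
      exact IsAdicComplete.bot k }

variable {k}

theorem exists_ps_presentation (S : CRing k k) :
    ∃ (n : ℕ) (φ₀ : MvPowerSeries (Fin n) k →ₐ[k] S.carrier), Function.Surjective φ₀ ∧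
      RingHom.ker φ₀ ≤ maximalIdeal (MvPowerSeries (Fin n) k) ^ 2 := by
  classical
  -- Step A: a minimal system of generators of the cotangent space
  let cI : Finset S.carrier → Ideal S.carrier := fun t =>
    Ideal.span (t : Set S.carrier) ⊔ maximalIdeal S.carrier ^ 2
  have hex : ∃ n, ∃ t : Finset S.carrier, t.card = n ∧
      (∀ a ∈ t, a ∈ maximalIdeal S.carrier) ∧ cI t = maximalIdeal S.carrier := by
    obtain ⟨t, ht⟩ := (isNoetherianRing_iff_ideal_fg _).1 inferInstance (maximalIdeal S.carrier)
    refine ⟨t.card, t, rfl, fun a ha => ?_, ?_⟩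
    · rw [← ht]; exact Ideal.subset_span ha
    · apply le_antisymm
      · exact sup_le (le_of_eq ht) (Ideal.pow_le_self two_ne_zero)
      · exact le_sup_of_le_left (le_of_eq ht.symm)
  obtain ⟨t, htcard, htm, htc⟩ := Nat.find_spec hex
  have hmin : ∀ t' : Finset S.carrier, t'.card < t.card →
      (∀ a ∈ t', a ∈ maximalIdeal S.carrier) → cI t' ≠ maximalIdeal S.carrier := by
    intro t' hlt ht'm ht'c
    rw [htcard] at hlt
    exact Nat.find_min hex hlt ⟨t', rfl, ht'm, ht'c⟩
  let n := t.card
  let x : Fin n → S.carrier := fun i => ((t.equivFin.symm i : t) : S.carrier)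
  have hxinj : Function.Injective x := fun i j hij =>
    t.equivFin.symm.injective (Subtype.ext hij)
  have hxt : ∀ i, x i ∈ t := fun i => (t.equivFin.symm i).2
  have hxm : ∀ i, x i ∈ maximalIdeal S.carrier := fun i => htm _ (hxt i)
  have hrange : Set.range x = (t : Set S.carrier) := by
    ext a
    constructor
    · rintro ⟨i, rfl⟩; exact hxt i
    · intro ha
      exact ⟨t.equivFin ⟨a, ha⟩, by simp [x]⟩
  -- Step B: the map from the power series ring
  obtain ⟨φ₀, hφ₀⟩ : ∃ φ₀ : MvPowerSeries (Fin n) k →ₐ[k] S.carrier,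
      ∀ i, φ₀ (MvPowerSeries.X i) = x i := exists_ps_algHom S n x hxm
  let P := psCRing (kCRing k) n
  have hφ₀C : ∀ r : k, φ₀ (MvPowerSeries.C r) = algebraMap k S.carrier r := by
    intro r
    rw [← φ₀.commutes]; rfl
  have hfpt : ∀ s : MvPowerSeries (Fin n) k,
      S.res (φ₀ s) = MvPowerSeries.constantCoeff s := by
    intro s
    have h1 : s = MvPowerSeries.C (MvPowerSeries.constantCoeff s) +
        (s - MvPowerSeries.C (MvPowerSeries.constantCoeff s)) := by ring
    have h2 : φ₀ (s - MvPowerSeries.C (MvPowerSeries.constantCoeff s)) ∈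
        maximalIdeal S.carrier := by
      have h3 := Ideal.mem_map_of_mem φ₀.toRingHom (sub_C_mem_span_X s)
      rw [Ideal.map_span] at h3
      refine (Ideal.span_le.2 ?_) h3
      rintro _ ⟨_, ⟨i, rfl⟩, rfl⟩
      change φ₀ (MvPowerSeries.X i) ∈ maximalIdeal S.carrier
      rw [hφ₀]; exact hxm i
    rw [ArtFun.CRing.mem_maximalIdeal_iff] at h2
    conv_lhs => rw [h1, map_add, map_add, h2, add_zero, hφ₀C, AlgHom.commutes]
    rfl
  let f : P.carrier →ₐ[k] S.carrier := φ₀
  have hf : S.res.comp f = P.res := AlgHom.ext hfpt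
  -- Step C: surjectivity
  have hfsurj : Function.Surjective f := by
    have htfae := Groth.Agent.S12714.result P S f hf
    refine (htfae.out 0 1).2 ?_
    apply le_antisymm
    · refine sup_le ?_ (Ideal.pow_le_self (by norm_num))
      rw [Ideal.map_le_iff_le_comap]
      intro s hs
      rw [Ideal.mem_comap, ArtFun.CRing.mem_maximalIdeal_iff]
      have := congrArg (fun g : P.carrier →ₐ[k] k => g s) hf
      simp only [AlgHom.comp_apply] at this
      rw [this, ← ArtFun.CRing.mem_maximalIdeal_iff]
      exact hs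
    · refine le_trans (le_of_eq htc.symm) ?_
      refine sup_le ?_ le_sup_right
      rw [← hrange, Ideal.span_le]
      rintro _ ⟨i, rfl⟩
      refine Ideal.mem_sup_left ?_
      rw [← hφ₀ i]
      apply Ideal.mem_map_of_mem f
      exact X_mem_maximalIdeal_ps i
  refine ⟨n, φ₀, hfsurj, ?_⟩
  -- Step D: the kernel lies in `𝔪_P ^ 2`
  have hI𝔪 : RingHom.ker φ₀ ≤ maximalIdeal (MvPowerSeries (Fin n) k) := by
    intro s hs
    rw [mem_maximalIdeal_ps_iff, IsLocalRing.maximalIdeal_eq_bot, Ideal.mem_bot, ← hfpt,
      show φ₀ s = 0 from hs, map_zero]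
  intro g hg
  have hg0 : MvPowerSeries.constantCoeff g = 0 := by
    have := (mem_maximalIdeal_ps_iff g).1 (hI𝔪 hg)
    rwa [IsLocalRing.maximalIdeal_eq_bot, Ideal.mem_bot] at this
  obtain ⟨q, hq⟩ := (Ideal.mem_span_range_iff_exists_fun).1 (sub_C_mem_span_X g)
  have hgeq : g = ∑ i, q i * MvPowerSeries.X i := by
    rw [hq, hg0, map_zero, sub_zero]
  by_cases hall : ∀ i, MvPowerSeries.constantCoeff (q i) = 0
  · rw [hgeq]
    refine Ideal.sum_mem _ fun i _ => ?_
    rw [pow_two]
    refine Ideal.mul_mem_mul ((mem_maximalIdeal_ps_iff _).2 ?_) (X_mem_maximalIdeal_ps i)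
    rw [hall i]; exact Ideal.zero_mem _
  · exfalso
    push Not at hall
    obtain ⟨i₀, hi₀⟩ := hall
    have hu : IsUnit (φ₀ (q i₀)) := by
      apply IsUnit.map
      rw [MvPowerSeries.isUnit_iff_constantCoeff]
      exact isUnit_iff_ne_zero.2 hi₀
    have hrel : φ₀ (q i₀) * x i₀ = - ∑ i ∈ Finset.univ.erase i₀, φ₀ (q i) * x i := by
      have h0 : φ₀ g = 0 := hg
      rw [hgeq, map_sum] at h0
      simp only [map_mul, hφ₀] at h0
      rw [← Finset.add_sum_erase _ _ (Finset.mem_univ i₀)] at h0
      linear_combination h0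
    let t' := t.erase (x i₀)
    have hlt : t'.card < t.card := Finset.card_erase_lt_of_mem (hxt i₀)
    have ht'm : ∀ a ∈ t', a ∈ maximalIdeal S.carrier := fun a ha =>
      htm a (Finset.mem_of_mem_erase ha)
    have hx₀ : x i₀ ∈ Ideal.span (t' : Set S.carrier) := by
      obtain ⟨v, hv⟩ := hu.exists_left_inv
      have e1 : x i₀ = v * (φ₀ (q i₀) * x i₀) := by rw [← mul_assoc, hv, one_mul]
      rw [e1, hrel]
      refine Ideal.mul_mem_left _ _ ((Ideal.neg_mem_iff _).2 ?_)
      refine Ideal.sum_mem _ fun i hi => Ideal.mul_mem_left _ _ (Ideal.subset_span ?_)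
      rw [Finset.mem_coe, Finset.mem_erase]
      exact ⟨fun h => (Finset.mem_erase.1 hi).1 (hxinj h), hxt i⟩
    apply hmin t' hlt ht'm
    apply le_antisymm
    · refine sup_le ?_ (Ideal.pow_le_self two_ne_zero)
      rw [Ideal.span_le]; exact fun a ha => ht'm a ha
    · refine le_trans (le_of_eq htc.symm) ?_
      refine sup_le ?_ le_sup_right
      rw [Ideal.span_le]
      intro a ha
      by_cases hax : a = x i₀
      · rw [hax]; exact Ideal.mem_sup_left hx₀
      · exact Ideal.mem_sup_left (Ideal.subset_span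
          (Finset.mem_coe.2 (Finset.mem_erase.2 ⟨hax, ha⟩)))

end presentation

end Groth.Agent.LibObs29
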