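import Groth.Statements.S17393
import Mathlib
import Groth.Agent.S1683

set_option autoImplicit false
universe u
open BlowUp

namespace Groth.Agent.S17393

section helpers
open CategoryTheory CategoryTheory.Limits AlgebraicGeometry


theorem appLE_eq_of_eq {X Y : Scheme.{u}} {f g : X ⟶ Y} (h : f = g) (U : Y.Opens) (V : X.Opens)
    (e : V ≤ f ⁻¹ᵁ U) : f.appLE U V e = g.appLE U V (h ▸ e) := by
  subst h; rfl

/-- an affine open with a zero nonzerodivisor has no points -/
theorem not_mem_of_zero_mem_nzd {X : Scheme.{u}} (T : X.Opens)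
    (h0 : (0 : Γ(X, T)) ∈ nonZeroDivisors Γ(X, T)) (y : X) : y ∉ T := by
  intro hy
  have hsub : Subsingleton Γ(X, T) := by
    by_contra hne
    rw [not_subsingleton_iff_nontrivial] at hne
    exact zero_notMem_nonZeroDivisors h0
  have h1 : X.basicOpen (1 : Γ(X, T)) = T := X.basicOpen_of_isUnit isUnit_one
  have h2 : (1 : Γ(X, T)) = 0 := Subsingleton.elim _ _
  rw [h2, Scheme.basicOpen_zero] at h1
  rw [← h1] at hy
  exact hy

/-- General lemma: the strict transform of `V(𝓙)` misses the locus where a section of `𝓙`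
generates the inverse image ideal. -/
theorem key {X X' Yt : Scheme.{u}} (𝓙 𝓚 : X.IdealSheafData) (b : X' ⟶ X)
    (b' : Yt ⟶ 𝓙.subscheme) (hb' : BlowUp.IsEffCartierIdeal ((𝓚.comap 𝓙.subschemeι).comap b'))
    (k : Yt ⟶ X') (hk : k ≫ b = b' ≫ 𝓙.subschemeι)
    (V : X.affineOpens) (s : Γ(X, V.1)) (hs : s ∈ 𝓙.ideal V)
    (V' : X'.affineOpens) (hV' : V'.1 ≤ b ⁻¹ᵁ V.1)
    (y : Yt) (hy : k y ∈ V'.1) :
    (𝓚.comap b).ideal V' ≠ Ideal.span {(b.appLE V.1 V'.1 hV').hom s} := by
  intro heq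
  have hL : (𝓚.comap b).comap k = (𝓚.comap 𝓙.subschemeι).comap b' := by
    rw [← Scheme.IdealSheafData.comap_comp, ← Scheme.IdealSheafData.comap_comp, hk]
  rw [← hL] at hb'
  obtain ⟨T₀, hyT₀, t, ht, hIt⟩ := hb' y
  obtain ⟨_, ⟨T, hT, rfl⟩, hyT, hTle⟩ :=
    Yt.isBasis_affineOpens.exists_subset_of_mem_open
      (show y ∈ ((T₀.1 ⊓ k ⁻¹ᵁ V'.1 : Yt.Opens) : Set Yt) from ⟨hyT₀, hy⟩) (T₀.1 ⊓ k ⁻¹ᵁ V'.1).2
  have h1 : T ≤ T₀.1 := fun z hz => (hTle hz).1
  have h2 : T ≤ k ⁻¹ᵁ V'.1 := fun z hz => (hTle hz).2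
  set t' := (Yt.presheaf.map (homOfLE h1).op).hom t with ht'_def
  have ht' : t' ∈ nonZeroDivisors Γ(Yt, T) := Groth.Agent.S1683.nzd_restrict T₀ ⟨T, hT⟩ h1 t ht
  have hIt' : ((𝓚.comap b).comap k).ideal ⟨T, hT⟩ = Ideal.span {t'} := by
    have e1 := ((𝓚.comap b).comap k).map_ideal (U := ⟨T, hT⟩) (V := T₀) h1
    rw [hIt, Ideal.map_span, Set.image_singleton] at e1
    exact e1.symm
  have hI2 : ((𝓚.comap b).comap k).ideal ⟨T, hT⟩ = ⊥ := by
    rw [Groth.Agent.Lib.helper6.ideal_comap k _ V' ⟨T, hT⟩ h2, heq, Ideal.map_span,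
      Set.image_singleton]
    have hz : (k.appLE V'.1 T h2).hom ((b.appLE V.1 V'.1 hV').hom s) = 0 := by
      rw [← CommRingCat.comp_apply, Scheme.Hom.appLE_comp_appLE, appLE_eq_of_eq hk,
        Scheme.Hom.comp_appLE, CommRingCat.comp_apply]
      have : (𝓙.subschemeι.app V.1).hom s = 0 := by
        have := 𝓙.ker_subschemeι_app V
        rw [← RingHom.mem_ker, this]
        exact hs
      rw [this, map_zero]
    rw [hz]
    simp
  rw [hI2] at hIt'
  have ht0 : t' = 0 := by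
    have : t' ∈ (⊥ : Ideal Γ(Yt, T)) := by rw [hIt']; exact Ideal.mem_span_singleton_self _
    simpa using this
  rw [ht0] at ht'
  exact not_mem_of_zero_mem_nzd T ht' y hyT


end helpers


open AlgebraicGeometry CategoryTheory Limits in
/-- Let X be any scheme, I and I' quasi-coherent ideals on X (of closed subschemes Y and Y'), b : X' → X
a blowing up of X in I + I' (the ideal of Y ∩ Y'), b' : Ỹ → Y a blowing up of Y = V(I) in the
inverse image of I + I' and k : Ỹ → X' the morphism with k ≫ b = b' ≫ (Y → X), whose image is the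
strict transform of Y. For an affine open V of X, a section s of I over V, and an affine open V' ⊆
b⁻¹(V) of X' which meets the image of k, the ideal of the inverse image ideal sheaf (I + I')·O_X' on
V' is not the principal ideal generated by the pullback of s. Equivalently the strict transform of Y
does not meet the open locus U(s) where s generates the (invertible) inverse image ideal; since the
U(s) for s ranging over local sections of I and of I' cover X', the strict transform of Y lies in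
the union of the U(s) with s a local section of I'. -/
theorem result
    {X X' Yt : Scheme.{u}} (𝓘 𝓘' : X.IdealSheafData) (b : X' ⟶ X) (hb : BlowUp.IsBlowUp b (𝓘 ⊔ 𝓘'))
    (b' : Yt ⟶ 𝓘.subscheme) (hb' : BlowUp.IsBlowUp b' ((𝓘 ⊔ 𝓘').comap 𝓘.subschemeι))
    (k : Yt ⟶ X') (hk : k ≫ b = b' ≫ 𝓘.subschemeι)
    (V : X.affineOpens) (s : Γ(X, V.1)) (hs : s ∈ 𝓘.ideal V)
    (V' : X'.affineOpens) (hV' : V'.1 ≤ b ⁻¹ᵁ V.1)
    (hmeet : (Set.range (fun y => k y) ∩ (V'.1 : Set X')).Nonempty) :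
    ((𝓘 ⊔ 𝓘').comap b).ideal V' ≠ Ideal.span {(b.appLE V.1 V'.1 hV').hom s} := by
  obtain ⟨_, ⟨y, rfl⟩, hy⟩ := hmeet
  exact key 𝓘 (𝓘 ⊔ 𝓘') b b' hb'.1 k hk V s hs V' hV' y hy

end Groth.Agent.S17393
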