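import Groth.Statements.S17386
import Mathlib
import Groth.Agent.S17393

set_option autoImplicit false
universe u
open BlowUp

namespace Groth.Agent.S17386

section helpers
open CategoryTheory CategoryTheory.Limits AlgebraicGeometry


/-- algebra: if `span G = (t)` with `t` a nonzerodivisor and `p` is a prime, some `g ∈ G` is
`d * t` with `d ∉ p`. -/
theorem exists_gen_local {A : Type*} [CommRing A] (G : Set A) (t : A) (ht : t ∈ nonZeroDivisors A)
    (hG : Ideal.span G = Ideal.span {t}) (p : Ideal A) [p.IsPrime] :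
    ∃ g ∈ G, ∃ d, d ∉ p ∧ g = d * t := by
  by_contra hcon
  simp only [not_exists, not_and] at hcon
  have h1 : Ideal.span G ≤ Ideal.span {t} * p := by
    rw [Ideal.span_le]
    intro g hg
    have hgt : g ∈ Ideal.span {t} := hG ▸ Ideal.subset_span hg
    obtain ⟨d, hd⟩ := Ideal.mem_span_singleton'.1 hgt
    have hdp : d ∈ p := by
      by_contra hdp
      exact hcon g hg d hdp hd.symm
    rw [← hd, show d * t = t * d from mul_comm d t]
    exact Ideal.mul_mem_mul (Ideal.mem_span_singleton_self t) hdp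
  have h2 : t ∈ Ideal.span {t} * p := h1 (hG ▸ Ideal.mem_span_singleton_self t)
  obtain ⟨d, hdp, hd⟩ := Ideal.mem_span_singleton_mul.1 h2
  have h3 : (1 - d) * t = 0 := by rw [sub_mul, one_mul, mul_comm d t, hd, sub_self]
  have h4 : 1 - d = 0 := (mem_nonZeroDivisors_iff_right.1 ht) _ h3
  have h5 : d = 1 := by rw [sub_eq_zero] at h4; exact h4.symm
  rw [h5] at hdp
  exact (Ideal.IsPrime.ne_top inferInstance) ((Ideal.eq_top_iff_one p).2 hdp)

theorem mem_basicOpen_iff_notMem_primeIdealOf {X : Scheme.{u}} {W : X.Opens} (hW : IsAffineOpen W)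
    (x : X) (hxW : x ∈ W) (d : Γ(X, W)) :
    x ∈ X.basicOpen d ↔ d ∉ (hW.primeIdealOf ⟨x, hxW⟩).asIdeal := by
  have hpx : hW.fromSpec (hW.primeIdealOf ⟨x, hxW⟩) = x := hW.fromSpec_primeIdealOf ⟨x, hxW⟩
  have : (hW.primeIdealOf ⟨x, hxW⟩) ∈ hW.fromSpec ⁻¹ᵁ X.basicOpen d ↔
      d ∉ (hW.primeIdealOf ⟨x, hxW⟩).asIdeal := by
    rw [hW.fromSpec_preimage_basicOpen]
    rfl
  rw [← this]
  show x ∈ X.basicOpen d ↔ hW.fromSpec (hW.primeIdealOf ⟨x, hxW⟩) ∈ X.basicOpen d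
  rw [hpx]


theorem main
    {X X' : Scheme.{u}} {n : ℕ} (𝓙 : Fin n → X.IdealSheafData) (b : X' ⟶ X)
    (hb : BlowUp.IsBlowUp b (⨆ i, 𝓙 i))
    (Y' : Fin n → Scheme.{u}) (b' : ∀ i, Y' i ⟶ (𝓙 i).subscheme)
    (hb' : ∀ i, BlowUp.IsBlowUp (b' i) ((⨆ j, 𝓙 j).comap (𝓙 i).subschemeι))
    (k : ∀ i, Y' i ⟶ X') (hk : ∀ i, k i ≫ b = b' i ≫ (𝓙 i).subschemeι) :
    (⋂ i, Set.range (fun y => k i y)) = (∅ : Set X') := by
  rw [Set.eq_empty_iff_forall_notMem]
  intro x' hx'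
  rw [Set.mem_iInter] at hx'
  set 𝓚 : X.IdealSheafData := ⨆ i, 𝓙 i with h𝓚
  -- charts
  obtain ⟨W₀, hxW₀, t₀, ht₀, hI₀⟩ := hb.1 x'
  obtain ⟨_, ⟨V, hV, rfl⟩, hxV, -⟩ :=
    X.isBasis_affineOpens.exists_subset_of_mem_open (Set.mem_univ (b x')) isOpen_univ
  obtain ⟨_, ⟨V', hV', rfl⟩, hxV', hV'le⟩ :=
    X'.isBasis_affineOpens.exists_subset_of_mem_open
      (show x' ∈ ((W₀.1 ⊓ b ⁻¹ᵁ V : X'.Opens) : Set X') from ⟨hxW₀, hxV⟩) (W₀.1 ⊓ b ⁻¹ᵁ V).2
  have h1 : V' ≤ W₀.1 := fun z hz => (hV'le hz).1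
  have h2 : V' ≤ b ⁻¹ᵁ V := fun z hz => (hV'le hz).2
  set t := (X'.presheaf.map (homOfLE h1).op).hom t₀ with ht_def
  have ht : t ∈ nonZeroDivisors Γ(X', V') := Groth.Agent.S1683.nzd_restrict W₀ ⟨V', hV'⟩ h1 t₀ ht₀
  have hIt : (𝓚.comap b).ideal ⟨V', hV'⟩ = Ideal.span {t} := by
    have e1 := (𝓚.comap b).map_ideal (U := ⟨V', hV'⟩) (V := W₀) h1
    rw [hI₀, Ideal.map_span, Set.image_singleton] at e1
    exact e1.symm
  set φ := (b.appLE V V' h2).hom with hφ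
  -- the generating set
  let G : Set Γ(X', V') := {g | ∃ i, ∃ s ∈ (𝓙 i).ideal ⟨V, hV⟩, g = φ s}
  have hG : Ideal.span G = Ideal.span {t} := by
    rw [← hIt, Groth.Agent.Lib.helper6.ideal_comap b 𝓚 ⟨V, hV⟩ ⟨V', hV'⟩ h2, h𝓚,
      Scheme.IdealSheafData.ideal_iSup, iSup_apply, Ideal.map_iSup]
    apply le_antisymm
    · rw [Ideal.span_le]
      rintro _ ⟨i, s, hs, rfl⟩
      exact (le_iSup (fun i => ((𝓙 i).ideal ⟨V, hV⟩).map (b.appLE V V' h2).hom) i)
        (Ideal.mem_map_of_mem _ hs)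
    · rw [iSup_le_iff]
      intro i
      rw [Ideal.map_le_iff_le_comap]
      intro s hs
      exact Ideal.subset_span ⟨i, s, hs, rfl⟩
  set p := hV'.primeIdealOf ⟨x', hxV'⟩ with hp
  obtain ⟨_, ⟨i, s, hs, rfl⟩, d, hdp, hgd⟩ := exists_gen_local G t ht hG p.asIdeal
  have hxd : x' ∈ X'.basicOpen d := (mem_basicOpen_iff_notMem_primeIdealOf hV' x' hxV' d).2 hdp
  -- the smaller chart
  let V'' : X'.affineOpens := X'.affineBasicOpen (U := ⟨V', hV'⟩) d
  have hle : V''.1 ≤ V' := X'.basicOpen_le d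
  have hle2 : V''.1 ≤ b ⁻¹ᵁ V := hle.trans h2
  obtain ⟨y, hy⟩ := hx' i
  have hyV : k i y ∈ V''.1 := by
    have : k i y = x' := hy
    rw [this]; exact hxd
  refine Groth.Agent.S17393.key (𝓙 i) 𝓚 b (b' i) (hb' i).1 (k i) (hk i) ⟨V, hV⟩ s hs V'' hle2 y hyV ?_
  -- compute the ideal on V''
  have e2 := (𝓚.comap b).map_ideal (U := V'') (V := ⟨V', hV'⟩) hle
  rw [hIt, Ideal.map_span, Set.image_singleton] at e2
  rw [← e2]
  have e3 : (b.appLE V V''.1 hle2).hom s =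
      (X'.presheaf.map (homOfLE hle).op).hom d * (X'.presheaf.map (homOfLE hle).op).hom t := by
    rw [← map_mul, ← hgd]
    have := Scheme.Hom.appLE_map b h2 (homOfLE hle).op
    rw [← this]
    rfl
  rw [e3]
  have hunit : IsUnit ((X'.presheaf.map (homOfLE hle).op).hom d) :=
    X'.toRingedSpace.isUnit_res_basicOpen d
  exact (Ideal.span_singleton_mul_left_unit hunit _).symm


end helpers


open AlgebraicGeometry CategoryTheory Limits in
/-- Let X be any scheme, J_1, …, J_n quasi-coherent ideals on X with closed subschemes Y_i, and b : X' →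
X a blowing up of X in the ideal J_1 + ⋯ + J_n of the intersection of the Y_i. For each i let b_i' :
Y_i' → Y_i be a blowing up of Y_i in the inverse image of J_1 + ⋯ + J_n and k_i : Y_i' → X' the
morphism with k_i ≫ b = b_i' ≫ (Y_i → X), so that the image of k_i is the strict transform of Y_i.
Then the strict transforms have empty common intersection: no point of X' lies in the image of every
k_i. -/
theorem result
    {X X' : Scheme.{u}} {n : ℕ} (𝓙 : Fin n → X.IdealSheafData) (b : X' ⟶ X)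
    (hb : BlowUp.IsBlowUp b (⨆ i, 𝓙 i))
    (Y' : Fin n → Scheme.{u}) (b' : ∀ i, Y' i ⟶ (𝓙 i).subscheme)
    (hb' : ∀ i, BlowUp.IsBlowUp (b' i) ((⨆ j, 𝓙 j).comap (𝓙 i).subschemeι))
    (k : ∀ i, Y' i ⟶ X') (hk : ∀ i, k i ≫ b = b' i ≫ (𝓙 i).subschemeι) :
    (⋂ i, Set.range (fun y => k i y)) = (∅ : Set X') := by
  exact main 𝓙 b hb Y' b' hb' k hk

end Groth.Agent.S17386
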