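import Groth.Statements.S1567
import Mathlib
import Groth.Agent.S17386

set_option autoImplicit false
universe u
open CategoryTheory CategoryTheory.Limits AlgebraicGeometry
open Divisors

namespace Groth.Agent.S1567

section helpers
open CategoryTheory CategoryTheory.Limits AlgebraicGeometry


/-- Common core: at a maximal point `ξ` of the support of `D`, with `D.ideal U = (f)` on an affine
open `U ∋ ξ`, the prime of `ξ` is minimal over `(f)`; the stalk has dimension the height. -/
theorem core (X : Scheme.{u}) [IsLocallyNoetherian X]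
    (D : X.IdealSheafData) (ξ : X)
    (hξ : ξ ∈ (D.support : Set X)) (hgen : ∀ y ∈ (D.support : Set X), y ⤳ ξ → y = ξ)
    (U : X.affineOpens) (hξU : ξ ∈ U.1) (f : Γ(X, U.1)) (hI : D.ideal U = Ideal.span {f}) :
    (U.2.primeIdealOf ⟨ξ, hξU⟩).asIdeal ∈ (Ideal.span {f}).minimalPrimes ∧
    ringKrullDim (X.presheaf.stalk ξ) = (U.2.primeIdealOf ⟨ξ, hξU⟩).asIdeal.height := by
  set p := U.2.primeIdealOf ⟨ξ, hξU⟩ with hp
  have hpx : U.2.fromSpec p = ξ := U.2.fromSpec_primeIdealOf ⟨ξ, hξU⟩
  have hmem : ∀ (y : X) (hyU : y ∈ U.1), y ∈ D.support ↔ f ∈ (U.2.primeIdealOf ⟨y, hyU⟩).asIdeal := by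
    intro y hyU
    rw [Scheme.IdealSheafData.mem_support_iff_of_mem hyU, hI, Scheme.zeroLocus_span,
      Scheme.zeroLocus_singleton]
    simp only [Set.mem_compl_iff, SetLike.mem_coe]
    rw [Groth.Agent.S17386.mem_basicOpen_iff_notMem_primeIdealOf U.2 y hyU f, not_not]
  constructor
  · refine ⟨⟨p.2, ?_⟩, ?_⟩
    · rw [Ideal.span_le, Set.singleton_subset_iff]
      exact (hmem ξ hξU).1 hξ
    · rintro q ⟨hqprime, hfq⟩ hqp
      haveI := hqprime
      let Q : PrimeSpectrum Γ(X, U.1) := ⟨q, hqprime⟩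
      have hspec : Q ⤳ p := (PrimeSpectrum.le_iff_specializes Q p).1 hqp
      have h1 : U.2.fromSpec Q ⤳ U.2.fromSpec p := hspec.map U.2.fromSpec.continuous
      rw [hpx] at h1
      set y := U.2.fromSpec Q with hy
      have hyU : y ∈ U.1 := by
        have : y ∈ Set.range U.2.fromSpec := ⟨Q, rfl⟩
        rw [U.2.range_fromSpec] at this
        exact this
      have hQ : U.2.primeIdealOf ⟨y, hyU⟩ = Q := by
        apply U.2.fromSpec.isOpenEmbedding.injective
        rw [U.2.fromSpec_primeIdealOf ⟨y, hyU⟩]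
      have hyD : y ∈ D.support := by
        rw [hmem y hyU, hQ]
        exact hfq (Ideal.mem_span_singleton_self f)
      have hyξ : y = ξ := hgen y hyD h1
      have : Q = p := by
        apply U.2.fromSpec.isOpenEmbedding.injective
        rw [hpx]; exact hyξ
      rw [← this]
  · letI := TopCat.Presheaf.algebra_section_stalk X.presheaf (⟨ξ, hξU⟩ : U.1)
    haveI : IsLocalization.AtPrime (X.presheaf.stalk ξ) p.asIdeal := U.2.isLocalization_stalk ⟨ξ, hξU⟩
    exact IsLocalization.AtPrime.ringKrullDim_eq_height p.asIdeal (X.presheaf.stalk ξ)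


theorem main67 (X : Scheme.{u}) [IsLocallyNoetherian X]
    (D : X.IdealSheafData) (hD : Curv2.IsLocPrincipal D) (ξ : X)
    (hξ : ξ ∈ (D.support : Set X)) (hgen : ∀ y ∈ (D.support : Set X), y ⤳ ξ → y = ξ) :
    ringKrullDim (X.presheaf.stalk ξ) ≤ 1 := by
  obtain ⟨U, hξU, f, hI⟩ := hD ξ hξ
  obtain ⟨hmin, hdim⟩ := core X D ξ hξ hgen U hξU f hI
  haveI : IsNoetherianRing Γ(X, U.1) := IsLocallyNoetherian.component_noetherian U
  rw [hdim]
  have := Ideal.height_le_one_of_isPrincipal_of_mem_minimalPrimes (Ideal.span {f}) _ hmin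
  exact_mod_cast this

theorem main68 (X : Scheme.{u}) [IsLocallyNoetherian X]
    (D : X.IdealSheafData) (hD : BlowUp.IsEffCartierIdeal D) (ξ : X)
    (hξ : ξ ∈ (D.support : Set X)) (hgen : ∀ y ∈ (D.support : Set X), y ⤳ ξ → y = ξ) :
    ringKrullDim (X.presheaf.stalk ξ) = 1 := by
  obtain ⟨U, hξU, f, hf, hI⟩ := hD ξ
  obtain ⟨hmin, hdim⟩ := core X D ξ hξ hgen U hξU f hI
  haveI : IsNoetherianRing Γ(X, U.1) := IsLocallyNoetherian.component_noetherian U
  rw [hdim]
  have h1 := Ideal.height_le_one_of_isPrincipal_of_mem_minimalPrimes (Ideal.span {f}) _ hmin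
  set p := (U.2.primeIdealOf ⟨ξ, hξU⟩).asIdeal with hp
  have h2 : p.height ≠ 0 := by
    intro h0
    rw [Ideal.height_eq_zero_iff] at h0
    have hfp : f ∈ p := hmin.1.2 (Ideal.mem_span_singleton_self f)
    exact Set.disjoint_left.1 (Ideal.disjoint_nonZeroDivisors_of_mem_minimalPrimes h0) hfp hf
  have h3 : p.height = 1 := le_antisymm h1 (Order.one_le_iff_ne_zero.2 h2)
  rw [h3]
  rfl


end helpers


/-- Let X be locally Noetherian and D a locally principal closed subscheme. At a point ξ of D that is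
maximal in D under generisation (a generic point of a component of D), the local ring of X has
dimension at most one. -/
theorem result (X : Scheme.{u}) [IsLocallyNoetherian X]
    (D : X.IdealSheafData) (hD : Curv2.IsLocPrincipal D) (ξ : X)
    (hξ : ξ ∈ (D.support : Set X)) (hgen : ∀ y ∈ (D.support : Set X), y ⤳ ξ → y = ξ) :
    ringKrullDim (X.presheaf.stalk ξ) ≤ 1 := by
  exact main67 X D hD ξ hξ hgen

end Groth.Agent.S1567
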