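import Groth.Statements.S14271
import Mathlib

set_option autoImplicit false
universe u
open FlatPur

namespace Groth.Agent.S14271

section Helpers

open AlgebraicGeometry CategoryTheory CategoryTheory.Limits

/-- Commutative algebra core: if `p` is a minimal prime over `Ann(a)`, then no element of the
maximal ideal of `A_p` is regular. -/
lemma false_of_regular_of_minimal {A S : Type u} [CommRing A] [CommRing S] [Algebra A S]
    (p : Ideal A) [p.IsPrime] [IsLocalization.AtPrime S p] [IsLocalRing S] (a : A)
    (hp : p ∈ ((Ideal.span {a}).annihilator : Ideal A).minimalPrimes)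
    (r : S) (hr : r ∈ IsLocalRing.maximalIdeal S) (hreg : IsSMulRegular S r) : False := by
  set I : Ideal A := (Ideal.span {a}).annihilator with hI
  have ha : algebraMap A S a ≠ 0 := by
    intro h0
    obtain ⟨t, ht⟩ := (IsLocalization.map_eq_zero_iff p.primeCompl S a).1 h0
    have : (t : A) ∈ I := by
      rw [hI, Submodule.mem_annihilator_span_singleton]
      simpa using ht
    exact t.2 (hp.1.2 this)
  have hrad := IsLocalization.AtPrime.radical_map_of_mem_minimalPrimes S p I hp
  rw [IsLocalization.AtPrime.map_eq_maximalIdeal p S] at hrad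
  rw [← hrad] at hr
  obtain ⟨n, hn⟩ := hr
  have hle : I.map (algebraMap A S) ≤ (Ideal.span {algebraMap A S a}).annihilator := by
    rw [Ideal.map_le_iff_le_comap]
    intro t ht
    rw [hI, Submodule.mem_annihilator_span_singleton] at ht
    rw [Ideal.mem_comap, Submodule.mem_annihilator_span_singleton, smul_eq_mul, ← map_mul]
    rw [smul_eq_mul] at ht
    rw [ht, map_zero]
  have h1 := hle hn
  rw [Submodule.mem_annihilator_span_singleton] at h1
  have h2 : r ^ n • algebraMap A S a = r ^ n • (0 : S) := by rw [h1, smul_zero]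
  exact ha ((hreg.pow n) h2)

lemma ker_ι_eq_bot (X : Scheme.{u}) (U : X.Opens) [QuasiCompact U.ι]
    (hZ : ∀ z : X, z ∉ U → ∃ a ∈ IsLocalRing.maximalIdeal (X.presheaf.stalk z),
      IsSMulRegular (X.presheaf.stalk z) a) : U.ι.ker = ⊥ := by
  ext W : 2
  rw [Scheme.Hom.ker_apply, Scheme.IdealSheafData.ideal_bot]
  rw [Pi.bot_apply, eq_bot_iff]
  intro a ha
  rw [RingHom.mem_ker] at ha
  rw [Ideal.mem_bot]
  by_contra hane
  set I : Ideal Γ(X, W.1) := (Ideal.span {a}).annihilator with hI
  have hItop : I ≠ ⊤ := by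
    intro h
    have : (1 : Γ(X, W.1)) ∈ I := h ▸ Submodule.mem_top
    rw [hI, Submodule.mem_annihilator_span_singleton, one_smul] at this
    exact hane this
  obtain ⟨p, hp⟩ := Ideal.nonempty_minimalPrimes hItop
  have : p.IsPrime := hp.1.1
  let y : PrimeSpectrum Γ(X, W.1) := ⟨p, inferInstance⟩
  have hW : IsAffineOpen W.1 := W.2
  have hzW : hW.fromSpec y ∈ W.1 := by
    have : hW.fromSpec y ∈ hW.fromSpec.opensRange := ⟨y, rfl⟩
    rwa [hW.opensRange_fromSpec] at this
  set z : X := hW.fromSpec y with hz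
  letI : Algebra Γ(X, W.1) (X.presheaf.stalk z) :=
    TopCat.Presheaf.algebra_section_stalk X.presheaf ⟨z, hzW⟩
  haveI hloc : IsLocalization.AtPrime (X.presheaf.stalk z) p := hW.isLocalization_stalk' y hzW
  have hzU : z ∉ U := by
    intro hzU
    -- the germ of `a` at `z` vanishes
    have h0 : X.presheaf.germ W.1 z hzW a = 0 := by
      have hiso : IsIso (U.ι.stalkMap ⟨z, hzU⟩) :=
        (IsOpenImmersion.iff_isIso_stalkMap.1 (inferInstance : IsOpenImmersion U.ι)).2 _
      have hinj : Function.Injective (U.ι.stalkMap ⟨z, hzU⟩).hom :=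
        (ConcreteCategory.bijective_of_isIso (U.ι.stalkMap ⟨z, hzU⟩)).1
      apply hinj
      have h3 := Scheme.Hom.germ_stalkMap_apply U.ι W.1 ⟨z, hzU⟩ hzW a
      rw [ha, map_zero] at h3
      exact h3.trans (map_zero _).symm
    have : algebraMap Γ(X, W.1) (X.presheaf.stalk z) a = 0 := h0
    obtain ⟨t, ht⟩ := (IsLocalization.map_eq_zero_iff p.primeCompl (X.presheaf.stalk z) a).1 this
    have : (t : Γ(X, W.1)) ∈ I := by
      rw [hI, Submodule.mem_annihilator_span_singleton]
      simpa using ht
    exact t.2 (hp.1.2 this)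
  obtain ⟨r, hr, hreg⟩ := hZ z hzU
  exact false_of_regular_of_minimal (S := X.presheaf.stalk z) p a hp r hr hreg

end Helpers

open AlgebraicGeometry CategoryTheory CategoryTheory.Limits in
/-- Let X be a scheme and U an open subscheme whose inclusion is quasi-compact, such that for every
point z of X outside U the maximal ideal of O_{X,z} contains an element that is regular (a
nonzerodivisor) on that local ring. Then for every separated X-scheme Y the restriction map from
X-sections of Y to U-sections of Y is injective: two sections of Y -> X that agree on U are equal. -/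
theorem result (X : Scheme.{u}) (U : X.Opens) [QuasiCompact U.ι]
    (hZ : ∀ z : X, z ∉ U → ∃ a ∈ IsLocalRing.maximalIdeal (X.presheaf.stalk z), IsSMulRegular (X.presheaf.stalk z) a)
    (Y : Scheme.{u}) (f : Y ⟶ X) [IsSeparated f] (s₁ s₂ : X ⟶ Y) (h₁ : s₁ ≫ f = 𝟙 X) (h₂ : s₂ ≫ f = 𝟙 X)
    (hU : U.ι ≫ s₁ = U.ι ≫ s₂) : s₁ = s₂ := by
  have hker := ker_ι_eq_bot X U hZ
  let X' : Over X := Over.mk (𝟙 X)
  let Y' : Over X := Over.mk f
  let U' : Over X := Over.mk U.ι
  let f' : X' ⟶ Y' := Over.homMk s₁ h₁
  let g' : X' ⟶ Y' := Over.homMk s₂ h₂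
  let ι' : U' ⟶ X' := Over.homMk U.ι (by simp [X', U'])
  have : IsSeparated Y'.hom := ‹_›
  have hcond : ι' ≫ f' = ι' ≫ g' := by ext1; exact hU
  have hlift : (equalizer.lift ι' hcond).left ≫ (equalizer.ι f' g').left = U.ι := by
    rw [← Over.comp_left, equalizer.lift_ι]; rfl
  have hker' : (equalizer.ι f' g').left.ker = ⊥ := by
    have := Scheme.Hom.le_ker_comp (equalizer.lift ι' hcond).left (equalizer.ι f' g').left
    rw [hlift, hker] at this
    exact le_bot_iff.1 this
  have hiso : IsIso (equalizer.ι f' g').left := IsClosedImmersion.isIso_iff_ker_eq_bot.2 hker'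
  have hc : (equalizer.ι f' g').left ≫ s₁ = (equalizer.ι f' g').left ≫ s₂ :=
    congr($(equalizer.condition f' g').left)
  exact (cancel_epi (equalizer.ι f' g').left).1 hc

end Groth.Agent.S14271
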