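import Groth.Statements.S1571
import Mathlib
import Groth.Agent.S8853
import Groth.Agent.S14271
import Groth.Agent.S8851

set_option autoImplicit false
universe u
open CategoryTheory CategoryTheory.Limits AlgebraicGeometry
open Divisors

namespace Groth.Agent.S1571

section helpers
open CategoryTheory CategoryTheory.Limits AlgebraicGeometry


theorem isLocPrincipal_of_isEffCartierIdeal {S : Scheme.{u}} (D : S.IdealSheafData)
    (hD : BlowUp.IsEffCartierIdeal D) : Curv2.IsLocPrincipal D := by
  intro x _
  obtain ⟨U, hxU, f, -, hI⟩ := hD x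
  exact ⟨U, hxU, f, hI⟩

/-- germ of a nonzerodivisor on an affine open is a nonzerodivisor in the stalk -/
theorem germ_nzd {X : Scheme.{u}} {W : X.Opens} (hW : IsAffineOpen W) (f : Γ(X, W))
    (hf : f ∈ nonZeroDivisors Γ(X, W)) (x : X) (hxW : x ∈ W) :
    (X.presheaf.germ W x hxW).hom f ∈ nonZeroDivisors (X.presheaf.stalk x) := by
  haveI := hW.isLocalization_stalk ⟨x, hxW⟩
  algebraize [(X.presheaf.germ W x hxW).hom]
  haveI : IsLocalization.AtPrime (X.presheaf.stalk x) (hW.primeIdealOf ⟨x, hxW⟩).asIdeal :=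
    hW.isLocalization_stalk ⟨x, hxW⟩
  haveI : Module.Flat Γ(X, W) (X.presheaf.stalk x) :=
    IsLocalization.flat _ (hW.primeIdealOf ⟨x, hxW⟩).asIdeal.primeCompl
  exact Groth.Agent.S10855.nzd_map_of_flat hf

theorem main (S : Scheme.{u}) (D : S.IdealSheafData) (hD : BlowUp.IsEffCartierIdeal D) :
    IsAffineHom (Scheme.Opens.ι (X := S) D.support.compl) ∧
      IsSchemeTheoreticallyDominant (Scheme.Opens.ι (X := S) D.support.compl) := by
  have h1 : IsAffineHom (Scheme.Opens.ι (X := S) D.support.compl) :=
    Groth.Agent.S8853.result D (isLocPrincipal_of_isEffCartierIdeal D hD)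
  refine ⟨h1, ⟨?_⟩⟩
  apply Groth.Agent.S14271.ker_ι_eq_bot
  intro z hz
  have hzs : z ∈ D.support := by
    by_contra h
    exact hz h
  obtain ⟨W, hzW, f, hf, hI⟩ := hD z
  refine ⟨(S.presheaf.germ W.1 z hzW).hom f, ?_, ?_⟩
  · -- f vanishes at z
    have hnot : z ∉ S.basicOpen f := fun h =>
      Groth.Agent.S8851.basicOpen_le_compl_support D W f hI z h hzs
    rw [Scheme.mem_basicOpen _ _ _ hzW] at hnot
    exact (IsLocalRing.mem_maximalIdeal _).2 hnot
  · have := germ_nzd W.2 f hf z hzW
    exact (isRegular_iff_mem_nonZeroDivisors.2 this).left.isSMulRegular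


end helpers


/-- The open complement of an effective Cartier divisor is an affine open immersion and is
scheme-theoretically dense. -/
theorem result (S : Scheme.{u}) (D : S.IdealSheafData) (hD : BlowUp.IsEffCartierIdeal D) :
    IsAffineHom (Scheme.Opens.ι (X := S) D.support.compl) ∧ IsSchemeTheoreticallyDominant (Scheme.Opens.ι (X := S) D.support.compl) := by
  exact main S D hD

end Groth.Agent.S1571
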