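import Groth.Statements.S1569
import Mathlib
import Groth.Agent.S1567
import Groth.Agent.S1571

set_option autoImplicit false
universe u
open CategoryTheory CategoryTheory.Limits AlgebraicGeometry
open Divisors

namespace Groth.Agent.S1569

section helpers
open CategoryTheory CategoryTheory.Limits AlgebraicGeometry


/-- A Noetherian local ring whose maximal ideal is generated by a nonzerodivisor is a domain. -/
theorem isDomain_of_maximalIdeal_eq_span {R : Type*} [CommRing R] [IsNoetherianRing R] [IsLocalRing R]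
    (f : R) (hf : f ∈ nonZeroDivisors R) (hm : IsLocalRing.maximalIdeal R = Ideal.span {f}) :
    IsDomain R := by
  have hpow : ∀ n : ℕ, IsLocalRing.maximalIdeal R ^ n = Ideal.span {f ^ n} := by
    intro n; rw [hm, Ideal.span_singleton_pow]
  -- every nonzero element is f^n * unit
  have key : ∀ x : R, x ≠ 0 → ∃ (n : ℕ) (u : R), IsUnit u ∧ x = f ^ n * u := by
    intro x hx
    have hinf : (⨅ n : ℕ, IsLocalRing.maximalIdeal R ^ n) = ⊥ :=
      Ideal.iInf_pow_eq_bot_of_isLocalRing _ (IsLocalRing.maximalIdeal.isMaximal R).ne_top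
    have hex : ∃ n : ℕ, x ∉ IsLocalRing.maximalIdeal R ^ n := by
      by_contra hcon
      simp only [not_exists, not_not] at hcon
      have : x ∈ (⨅ n : ℕ, IsLocalRing.maximalIdeal R ^ n) := by
        rw [Ideal.mem_iInf]; exact hcon
      rw [hinf] at this
      exact hx (by simpa using this)
    classical
    let N := Nat.find hex
    have hN : x ∉ IsLocalRing.maximalIdeal R ^ N := Nat.find_spec hex
    have hNpos : N ≠ 0 := by
      intro h0
      rw [h0, pow_zero, Ideal.one_eq_top] at hN
      exact hN trivial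
    obtain ⟨n, hn⟩ := Nat.exists_eq_succ_of_ne_zero hNpos
    have hxn : x ∈ IsLocalRing.maximalIdeal R ^ n := by
      by_contra h
      have := Nat.find_min' hex h
      omega
    rw [hpow n, Ideal.mem_span_singleton'] at hxn
    obtain ⟨u, hu⟩ := hxn
    refine ⟨n, u, ?_, by rw [← hu, mul_comm]⟩
    by_contra hnu
    have hum : u ∈ IsLocalRing.maximalIdeal R := (IsLocalRing.mem_maximalIdeal u).2 hnu
    rw [hm, Ideal.mem_span_singleton'] at hum
    obtain ⟨v, hv⟩ := hum
    apply hN
    rw [hn, hpow, Ideal.mem_span_singleton']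
    refine ⟨v, ?_⟩
    rw [← hu, ← hv, pow_succ]; ring
  haveI : Nontrivial R := inferInstance
  have hfn : ∀ n : ℕ, f ^ n ≠ 0 := by
    intro n h0
    have : f ^ n ∈ nonZeroDivisors R := pow_mem hf n
    rw [h0] at this
    exact zero_notMem_nonZeroDivisors this
  haveI : NoZeroDivisors R := by
    refine ⟨fun {a b} hab => ?_⟩
    by_contra hcon
    simp only [not_or] at hcon
    obtain ⟨n, u, hu, rfl⟩ := key a hcon.1
    obtain ⟨k, v, hv, rfl⟩ := key b hcon.2
    have h1 : f ^ (n + k) * (u * v) = 0 := by rw [← hab, pow_add]; ring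
    have h2 : f ^ (n + k) = 0 := by
      have := (hu.mul hv).mul_left_eq_zero.1 h1
      exact this
    exact hfn _ h2
  exact NoZeroDivisors.to_isDomain R

theorem isDVR_of_maximalIdeal_eq_span {R : Type*} [CommRing R] [IsNoetherianRing R] [IsLocalRing R]
    (f : R) (hf : f ∈ nonZeroDivisors R) (hm : IsLocalRing.maximalIdeal R = Ideal.span {f}) :
    ∃ _ : IsDomain R, IsDiscreteValuationRing R := by
  haveI hdom := isDomain_of_maximalIdeal_eq_span f hf hm
  refine ⟨hdom, ?_⟩
  have hnf : ¬ IsField R := by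
    rw [IsLocalRing.isField_iff_maximalIdeal_eq, hm]
    intro h
    have : f ∈ (⊥ : Ideal R) := h ▸ Ideal.mem_span_singleton_self f
    have hf0 : f = 0 := by simpa using this
    rw [hf0] at hf
    exact zero_notMem_nonZeroDivisors hf
  refine ((IsDiscreteValuationRing.TFAE R hnf).out 0 4).2 ?_
  rw [hm]
  exact ⟨⟨f, rfl⟩⟩


theorem main (X : Scheme.{u}) [IsNoetherian X]
    (D : X.IdealSheafData) (hD : BlowUp.IsEffCartierIdeal D) [IsIntegral D.subscheme]
    (ξ : X) (hξ : IsGenericPoint ξ (D.support : Set X)) :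
    ∃ _ : IsDomain (X.presheaf.stalk ξ), IsDiscreteValuationRing (X.presheaf.stalk ξ) := by
  have hξD : ξ ∈ (D.support : Set X) := hξ.mem
  have hgen : ∀ y ∈ (D.support : Set X), y ⤳ ξ → y = ξ := by
    intro y hy hyξ
    have h1 : ξ ⤳ y := hξ.specializes hy
    exact (hyξ.antisymm h1).eq
  obtain ⟨U, hξU, f, hf, hI⟩ := hD ξ
  obtain ⟨hmin, -⟩ := Groth.Agent.S1567.core X D ξ hξD hgen U hξU f hI
  set p := U.2.primeIdealOf ⟨ξ, hξU⟩ with hp
  haveI : IsNoetherianRing Γ(X, U.1) := IsLocallyNoetherian.component_noetherian U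
  -- (f) is prime
  have hprime : (Ideal.span {f}).IsPrime := by
    rw [← hI, ← Ideal.Quotient.isDomain_iff_prime]
    have hne : Nonempty (D.subschemeι ⁻¹ᵁ U.1) := by
      have : ξ ∈ Set.range D.subschemeι := by
        rw [D.range_subschemeι]; exact hξD
      obtain ⟨z, hz⟩ := this
      exact ⟨⟨z, by show D.subschemeι z ∈ U.1; rw [hz]; exact hξU⟩⟩
    haveI : IsDomain Γ(D.subscheme, D.subschemeι ⁻¹ᵁ U.1) := inferInstance
    exact (D.subschemeObjIso U).commRingCatIsoToRingEquiv.symm.toMulEquiv.isDomain _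
  have hpf : p.asIdeal = Ideal.span {f} := by
    have := Ideal.minimalPrimes_eq_subsingleton_self (I := Ideal.span {f})
    rw [this] at hmin
    exact hmin
  -- the stalk
  letI := TopCat.Presheaf.algebra_section_stalk X.presheaf (⟨ξ, hξU⟩ : U.1)
  haveI hloc : IsLocalization.AtPrime (X.presheaf.stalk ξ) p.asIdeal := U.2.isLocalization_stalk ⟨ξ, hξU⟩
  haveI : IsNoetherianRing (X.presheaf.stalk ξ) :=
    IsLocalization.isNoetherianRing p.asIdeal.primeCompl _ inferInstance
  have hm : IsLocalRing.maximalIdeal (X.presheaf.stalk ξ) =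
      Ideal.span {(X.presheaf.germ U.1 ξ hξU).hom f} := by
    rw [← IsLocalization.AtPrime.map_eq_maximalIdeal p.asIdeal (X.presheaf.stalk ξ), hpf,
      Ideal.map_span, Set.image_singleton]
    rfl
  exact isDVR_of_maximalIdeal_eq_span _ (Groth.Agent.S1571.germ_nzd U.2 f hf ξ hξU) hm


end helpers


/-- On a Noetherian scheme, an effective Cartier divisor which is integral as a closed subscheme has a
discrete valuation ring as the local ring of the ambient scheme at its generic point. -/
theorem result (X : Scheme.{u}) [IsNoetherian X]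
    (D : X.IdealSheafData) (hD : BlowUp.IsEffCartierIdeal D) [IsIntegral D.subscheme]
    (ξ : X) (hξ : IsGenericPoint ξ (D.support : Set X)) :
    ∃ _ : IsDomain (X.presheaf.stalk ξ), IsDiscreteValuationRing (X.presheaf.stalk ξ) := by
  exact main X D hD ξ hξ

end Groth.Agent.S1569
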