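import Groth.Statements.S0578
import Groth.Agent.Lib.Helper24.Tower7
import Groth.Agent.S1569

set_option autoImplicit false
universe u
open CAlg

namespace Groth.Agent.S0578

/-- For every prime `p` and every field `k` of characteristic `p` there is a Cohen ring (a complete
discrete valuation ring with uniformizer `p`) whose residue field is isomorphic to `k`. -/
theorem result (p : ℕ) [Fact p.Prime] (k : Type u) [Field k] [CharP k p] :
    ∃ (Λ : Type u) (_ : CommRing Λ) (_ : IsLocalRing Λ), CAlg.IsCohenRing Λ ∧
      Nonempty (IsLocalRing.ResidueField Λ ≃+* k) := by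
  classical
  have hp : p.Prime := Fact.out
  let Z := ULift.{u} ℤ
  let eZ : Z ≃+* ℤ := ULift.ringEquiv
  let f : Z →+* k := (Int.castRingHom k).comp eZ.toRingHom
  have hf : ∀ x : Z, f x = ((x.down : ℤ) : k) := fun x => rfl
  haveI : IsDomain Z := Function.Injective.isDomain eZ.toRingHom eZ.injective
  haveI : IsNoetherianRing Z := isNoetherianRing_of_ringEquiv ℤ eZ.symm
  let P : Ideal Z := RingHom.ker f
  haveI hPprime : P.IsPrime := RingHom.ker_isPrime f
  have hpdown : ((p : Z)).down = (p : ℤ) := rfl
  have hP : P = Ideal.span {(p : Z)} := by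
    ext x
    rw [RingHom.mem_ker, hf, CharP.intCast_eq_zero_iff k p, Ideal.mem_span_singleton]
    constructor
    · rintro ⟨c, hc⟩
      refine ⟨ULift.up c, ?_⟩
      apply ULift.ext
      rw [hc]
      rfl
    · rintro ⟨c, hc⟩
      refine ⟨c.down, ?_⟩
      rw [hc]
      rfl
  let A := Localization.AtPrime P
  have hunit : ∀ y : P.primeCompl, IsUnit (f y) := fun y =>
    isUnit_iff_ne_zero.2 (fun h => y.2 (RingHom.mem_ker.2 h))
  let g : A →+* k := IsLocalization.lift (M := P.primeCompl) (g := f) hunit
  have hg : ∀ z : Z, g (algebraMap Z A z) = f z := fun z => IsLocalization.lift_eq hunit z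
  have hmaxA : IsLocalRing.maximalIdeal A = Ideal.span {(p : A)} := by
    have h1 : Ideal.map (algebraMap Z A) P = Ideal.map (algebraMap Z A) (Ideal.span {(p : Z)}) :=
      congrArg (Ideal.map (algebraMap Z A)) hP
    rw [← Localization.AtPrime.map_eq_maximalIdeal (I := P), h1, Ideal.map_span,
      Set.image_singleton, map_natCast]
  have hkerg : RingHom.ker g = IsLocalRing.maximalIdeal A := by
    apply le_antisymm
    · exact IsLocalRing.le_maximalIdeal (RingHom.ker_ne_top g)
    · rw [hmaxA, Ideal.span_le, Set.singleton_subset_iff, SetLike.mem_coe, RingHom.mem_ker,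
        map_natCast]
      exact CharP.cast_eq_zero k p
  haveI : IsLocalHom g := by
    constructor
    intro a ha
    by_contra hna
    have h1 : a ∈ IsLocalRing.maximalIdeal A := hna
    rw [← hkerg, RingHom.mem_ker] at h1
    rw [h1] at ha
    exact not_isUnit_zero ha
  letI : Algebra (IsLocalRing.ResidueField A) k := (IsLocalRing.ResidueField.lift g).toAlgebra
  haveI : IsDomain A :=
    IsLocalization.isDomain_localization (Ideal.primeCompl_le_nonZeroDivisors P)
  have hpA : (p : A) ≠ 0 := by
    have hinj : Function.Injective (algebraMap Z A) :=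
      IsLocalization.injective A (Ideal.primeCompl_le_nonZeroDivisors P)
    have : (p : A) = algebraMap Z A (p : Z) := (map_natCast _ _).symm
    rw [this, Ne, map_eq_zero_iff _ hinj]
    intro h0
    have h1 : ((p : Z)).down = (0 : Z).down := congrArg ULift.down h0
    rw [hpdown] at h1
    have h2 : ((p : ℕ) : ℤ) = 0 := h1
    exact hp.ne_zero (by exact_mod_cast h2)
  obtain ⟨B, _, _, _, hnoeth, hloc, hflat, hmax, hcomplete, e, -⟩ :=
    Groth.Agent.Lib.Helper24.Tower.exists_flat_complete_local A k
  have hmaxB : IsLocalRing.maximalIdeal B = Ideal.span {(p : B)} := by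
    rw [← hmax, hmaxA, Ideal.map_span, Set.image_singleton, map_natCast]
  have hreg : (p : B) ∈ nonZeroDivisors B := by
    have h1 : IsSMulRegular A (p : A) := (IsRegular.of_ne_zero hpA).left.isSMulRegular
    have h2 : IsSMulRegular B (algebraMap A B (p : A)) := IsSMulRegular.of_flat h1
    rw [map_natCast] at h2
    rw [mem_nonZeroDivisors_iff_right]
    intro x hx
    apply h2
    simp only [smul_eq_mul, mul_zero]
    rw [mul_comm]
    exact hx
  obtain ⟨hdom, hdvr⟩ := Groth.Agent.S1569.isDVR_of_maximalIdeal_eq_span (p : B) hreg hmaxB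
  exact ⟨B, inferInstance, inferInstance, ⟨hdom, hdvr, hcomplete, p, hp, hmaxB⟩, ⟨e⟩⟩

end Groth.Agent.S0578
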