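import Groth.Statements.S0580
import Groth.Agent.Lib.Helper24.CohenCoeff
import Groth.Agent.Lib.Helper24.CohenPS
import Groth.Agent.S0542

set_option autoImplicit false
universe u
open CAlg

namespace Groth.Agent.S0580

/-- A local ring complete with respect to a finitely generated maximal ideal is a quotient of a power
series ring in finitely many variables over a ring which is either a field or a Cohen ring. -/
theorem result (R : Type u) [CommRing R]
    [IsLocalRing R] [IsAdicComplete (IsLocalRing.maximalIdeal R) R]
    (hfg : (IsLocalRing.maximalIdeal R).FG) :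
    ∃ (Λ : Type u) (_ : CommRing Λ) (n : ℕ) (f : MvPowerSeries (Fin n) Λ →+* R),
      (IsField Λ ∨ CAlg.IsCohenRing Λ) ∧ Function.Surjective f := by
  classical
  haveI : IsNoetherianRing (R ⧸ IsLocalRing.maximalIdeal R) :=
    inferInstanceAs (IsNoetherianRing (IsLocalRing.ResidueField R))
  haveI hN : IsNoetherianRing R := by
    have h1 := Groth.Agent.S0542.result R (IsLocalRing.maximalIdeal R) hfg
    exact isNoetherianRing_of_ringEquiv _
      (AdicCompletion.ofAlgEquiv (IsLocalRing.maximalIdeal R)).symm.toRingEquiv
  obtain ⟨W, _, _, hW, hWN, hWc, v, e, hvloc, hve⟩ :=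
    Groth.Agent.Lib.Helper24.CohenCoeff.exists_coeff_ring R
  obtain ⟨n, x, hx⟩ := Submodule.fg_iff_exists_fin_generating_family.1 hfg
  have hvm : (IsLocalRing.maximalIdeal W).map v ≤ IsLocalRing.maximalIdeal R := by
    rw [Ideal.map_le_iff_le_comap]
    intro a ha
    rw [Ideal.mem_comap, IsLocalRing.mem_maximalIdeal]
    intro h
    exact (IsLocalRing.mem_maximalIdeal _).1 ha (isUnit_of_map_unit v a h)
  have hres : Function.Surjective ((IsLocalRing.residue R).comp v) := by
    intro y
    obtain ⟨z, rfl⟩ := e.surjective y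
    obtain ⟨a, rfl⟩ := IsLocalRing.residue_surjective z
    exact ⟨a, hve a⟩
  obtain ⟨f, -, -, hf, -⟩ := Groth.Agent.Lib.Helper24.CohenPS.exists_ps_surjective v hres n x
    (by
      have h2 : Ideal.span (Set.range x) = IsLocalRing.maximalIdeal R := hx
      rw [h2]
      exact (sup_eq_right.2 hvm).symm)
  exact ⟨W, inferInstance, n, f, hW.imp (fun h => h.1) id, hf⟩

end Groth.Agent.S0580
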