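import Groth.Statements.S2086
import Groth.Agent.Lib.Helper24.FlatDepth5
-- import your own Groth.Agent.* helpers here

set_option autoImplicit false
universe u
open CAlg

namespace Groth.Agent.S2086

/-- Let `R → S` be a flat map of Noetherian rings such that `R` and all fibre rings `S ⊗ κ(𝔭)` satisfy
Serre's condition `(S_k)`. Then `S` satisfies `(S_k)`. -/
theorem result {R S : Type u} [CommRing R] [CommRing S] [IsNoetherianRing R] [IsNoetherianRing S]
    [Algebra R S] [Module.Flat R S] (k : ℕ) (hR : LocCoh.HasSk k R R)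
    (hfib : ∀ (p : Ideal R) [p.IsPrime], LocCoh.HasSk k (p.Fiber S) (p.Fiber S)) :
    LocCoh.HasSk k S S := by
  rw [Groth.Agent.Lib.Helper24.HensDepth.hasSk_iff_skAt] at hR ⊢
  intro Q hQ
  have hfib' : ∀ (p : Ideal R) [p.IsPrime] (q : Ideal (p.Fiber S)) [q.IsPrime],
      Groth.Agent.Lib.Helper24.HensDepth.SkAt k (p.Fiber S) q := by
    intro p _ q _
    exact (Groth.Agent.Lib.Helper24.HensDepth.hasSk_iff_skAt k (p.Fiber S)).mp (hfib p) q
  exact Groth.Agent.Lib.Helper24.FlatDepth.skAt_of_flat R S (Q.under R) Q k (hR (Q.under R))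
    (fun q _ => hfib' (Q.under R) q)

end Groth.Agent.S2086
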