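import Groth.Statements.S14359
import Mathlib
-- import your own Groth.Agent.* helpers here

set_option autoImplicit false
universe u
open CAlg

namespace Groth.Agent.S14359

/-- Let A be a Noetherian integrally closed integral domain and b a nonzero element of A. Then every
associated prime of the A-module A/(b) has height one, so that A/(b) has no embedded associated
primes. -/
theorem result
    (A : Type u) [CommRing A] [IsDomain A] [IsNoetherianRing A] [IsIntegrallyClosed A]
    (b : A) (hb : b ≠ 0) (p : Ideal A) (hp : p ∈ associatedPrimes A (A ⧸ Ideal.span {b})) :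
    p.height = 1 := by
  classical
  obtain ⟨hprime, m, hm⟩ := (isAssociatedPrime_iff (M := A ⧸ Ideal.span {b})).1 hp
  haveI := hprime
  obtain ⟨c, rfl⟩ := Ideal.Quotient.mk_surjective m
  -- membership in `p`
  have hmem : ∀ y : A, y ∈ p ↔ ∃ a : A, y * c = b * a := by
    intro y
    rw [hm, Submodule.mem_colon_singleton, Submodule.mem_bot]
    have : y • (Ideal.Quotient.mk (Ideal.span {b}) c) =
        Ideal.Quotient.mk (Ideal.span {b}) (y * c) := by
      rw [map_mul]; rfl
    rw [this, Ideal.Quotient.eq_zero_iff_mem, Ideal.mem_span_singleton']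
    constructor
    · rintro ⟨a, ha⟩
      exact ⟨a, by rw [← ha, mul_comm]⟩
    · rintro ⟨a, ha⟩
      exact ⟨a, by rw [ha, mul_comm]⟩
  have hbp : b ∈ p := (hmem b).2 ⟨c, rfl⟩
  have hpbot : p ≠ ⊥ := fun h => hb (by rw [h] at hbp; exact hbp)
  have hge : (1 : ℕ∞) ≤ p.height := by
    rw [Order.one_le_iff_pos, pos_iff_ne_zero, Ne, Ideal.height_eq_zero_iff_eq_bot]
    exact hpbot
  refine le_antisymm ?_ hge
  -- the two cases
  by_cases hcase : ∀ y ∈ p, ∀ a : A, y * c = b * a → a ∈ p
  · -- `c / b` is integral, contradiction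
    exfalso
    let K := FractionRing A
    have hbK : algebraMap A K b ≠ 0 := by
      rw [Ne, map_eq_zero_iff _ (IsFractionRing.injective A K)]; exact hb
    let x : K := algebraMap A K c / algebraMap A K b
    let N : Submodule A K := Submodule.map (Algebra.linearMap A K) p
    have hN : N ≠ ⊥ := by
      intro h
      have : algebraMap A K b ∈ N := ⟨b, hbp, rfl⟩
      rw [h, Submodule.mem_bot] at this
      exact hbK this
    have hNfg : N.FG := Submodule.FG.map _ (IsNoetherian.noetherian p)
    have hx : ∀ n ∈ N, x • n ∈ N := by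
      rintro _ ⟨y, hy, rfl⟩
      obtain ⟨a, ha⟩ := (hmem y).1 hy
      refine ⟨a, hcase y hy a ha, ?_⟩
      show algebraMap A K a = algebraMap A K c / algebraMap A K b * algebraMap A K y
      have h1 : algebraMap A K y * algebraMap A K c = algebraMap A K b * algebraMap A K a := by
        rw [← map_mul, ← map_mul, ha]
      rw [div_mul_eq_mul_div, eq_div_iff hbK, mul_comm (algebraMap A K c), h1, mul_comm]
    have hint : IsIntegral A x := isIntegral_of_smul_mem_submodule N hN hNfg x hx
    obtain ⟨a, ha⟩ := (IsIntegrallyClosed.isIntegral_iff (R := A) (K := K)).1 hint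
    have hc : c = b * a := by
      apply IsFractionRing.injective A K
      rw [map_mul, ha]
      show algebraMap A K c = algebraMap A K b * (algebraMap A K c / algebraMap A K b)
      rw [← mul_div_assoc, mul_div_cancel_left₀ _ hbK]
    have h1 : (1 : A) ∈ p := (hmem 1).2 ⟨a, by rw [one_mul, hc]⟩
    exact hprime.ne_top ((Ideal.eq_top_iff_one p).2 h1)
  · push Not at hcase
    obtain ⟨t, htp, s, hts, hsp⟩ := hcase
    -- `s • p ⊆ (t)`
    have hsp' : ∀ y ∈ p, s * y ∈ Ideal.span {t} := by
      intro y hy
      obtain ⟨a, ha⟩ := (hmem y).1 hy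
      rw [Ideal.mem_span_singleton']
      refine ⟨a, ?_⟩
      -- `a * t = s * y` from `t c = b s`, `y c = b a`
      have hc0 : c ≠ 0 := by
        rintro rfl
        apply hprime.ne_top
        rw [Ideal.eq_top_iff_one, hmem]
        exact ⟨0, by simp⟩
      have h2 : b * c * (a * t) = b * c * (s * y) := by
        calc b * c * (a * t) = (b * a) * (t * c) := by ring
          _ = (y * c) * (b * s) := by rw [← ha, hts]
          _ = b * c * (s * y) := by ring
      exact mul_left_cancel₀ (mul_ne_zero hb hc0) h2
    have hmin : p ∈ (Ideal.span {t}).minimalPrimes := by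
      refine ⟨⟨hprime, (Ideal.span_singleton_le_iff_mem p).2 htp⟩, fun q hq hqp => ?_⟩
      intro y hy
      have h1 : s * y ∈ q := hq.2 (hsp' y hy)
      exact (hq.1.mem_or_mem h1).resolve_left (fun hs => hsp (hqp hs))
    exact Ideal.height_le_one_of_isPrincipal_of_mem_minimalPrimes _ p hmin

end Groth.Agent.S14359
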