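import Groth.Statements.S4756
import Groth.Agent.Lib.Helper24.FibLoc
-- import your own Groth.Agent.* helpers here

set_option autoImplicit false
universe u
open EGA4

namespace Groth.Agent.S4756

open Groth.Agent.Lib.Helper24.FibLoc in
theorem locStable_isNormalRing : LocStable (fun R _ => EGA4.IsNormalRing R) :=
  locStable_of_local (fun R _ => IsDomain R ∧ IsIntegrallyClosed R) (by
    intro R R' _ _ e h
    obtain ⟨h1, h2⟩ := h
    exact ⟨e.symm.toMulEquiv.isDomain, IsIntegrallyClosed.of_equiv e⟩)

/-- Let A → B be a normal homomorphism of Noetherian rings (flat, with geometrically normal fibres) and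
S a multiplicative subset of A. Then the induced homomorphism S⁻¹A → S⁻¹B (arbitrary localizations
at S and at its image) is normal. -/
theorem result (A B : Type u) [CommRing A] [CommRing B] [IsNoetherianRing A] [IsNoetherianRing B]
    [Algebra A B] (h : EGA4.IsNormalHom A B) (S : Submonoid A)
    (A' B' : Type u) [CommRing A'] [CommRing B'] [Algebra A A'] [Algebra B B'] [Algebra A' B'] [Algebra A B']
    [IsScalarTower A A' B'] [IsScalarTower A B B'] [IsLocalization S A']
    [IsLocalization (Algebra.algebraMapSubmonoid B S) B'] :
    EGA4.IsNormalHom A' B' := by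
  obtain ⟨hflat, hfib⟩ := h
  haveI := hflat
  refine ⟨Groth.Agent.Lib.Helper24.FibLoc.flat_localization A B S A' B', fun p' hp' => ?_⟩
  intro K _ _ hfin
  obtain ⟨inst, hfin', -, htr⟩ := Groth.Agent.Lib.Helper24.FibLoc.transfer' A B S A' B'
    locStable_isNormalRing p' K
  letI := inst
  exact htr (hfib (p'.comap (algebraMap A A')) K (hfin' hfin))

end Groth.Agent.S4756
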