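import Groth.Statements.S9128
import Groth.Agent.Lib.Helper24.CatEquidim
-- import your own Groth.Agent.* helpers here

set_option autoImplicit false
universe u
open CAlg

namespace Groth.Agent.S9128

open Groth.Agent.Lib.Helper24.CatEquidim in
/-- Telescoping along a saturated chain for a function dropping by one along coverings. -/
theorem telescope {A : Type u} [CommRing A]
    (hcov : ∀ p q : PrimeSpectrum A, p ⋖ q → Order.coheight p = Order.coheight q + 1)
    (s : LTSeries (PrimeSpectrum A))
    (hs : ∀ i : Fin s.length, s (Fin.castSucc i) ⋖ s (Fin.succ i)) :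
    ∀ i : Fin (s.length + 1), Order.coheight (s 0) = Order.coheight (s i) + (i : ℕ) := by
  intro i
  induction i using Fin.induction with
  | zero => simp
  | succ i ih =>
    rw [ih, hcov _ _ (hs i)]
    simp only [Fin.val_succ, Fin.val_castSucc, Nat.cast_add, Nat.cast_one]
    ring

open Groth.Agent.Lib.Helper24.CatEquidim in
theorem isCatenary_of_cov (A : Type u) [CommRing A] [IsNoetherianRing A] [IsLocalRing A]
    (hcov : ∀ p q : PrimeSpectrum A, p ⋖ q → Order.coheight p = Order.coheight q + 1) :
    CAlg.IsCatenary A := by
  constructor
  · intro p q _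
    obtain ⟨N, hN⟩ : ∃ N : ℕ, ringKrullDim A = N := by
      have h1 : ringKrullDim A ≠ ⊥ := ringKrullDim_ne_bot
      have h2 : ringKrullDim A ≠ ⊤ := ringKrullDim_ne_top
      induction hd : ringKrullDim A using WithBot.recBotCoe with
      | bot => exact absurd hd h1
      | coe a =>
        induction a using ENat.recTopCoe with
        | top => exact absurd hd h2
        | coe n => exact ⟨n, rfl⟩
    refine ⟨N, fun s _ _ => ?_⟩
    have h : ((s.length : ℕ∞) : WithBot ℕ∞) ≤ ringKrullDim A := Order.LTSeries.length_le_krullDim s
    rw [hN] at h
    exact_mod_cast h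
  · intro s t hhead hlast hs ht
    have h1 := telescope hcov s hs (Fin.last _)
    have h2 := telescope hcov t ht (Fin.last _)
    have hs0 : s 0 = s.head := rfl
    have ht0 : t 0 = t.head := rfl
    have hsl : s (Fin.last _) = s.last := rfl
    have htl : t (Fin.last _) = t.last := rfl
    rw [hs0, hsl] at h1
    rw [ht0, htl, ← hhead, ← hlast] at h2
    rw [h1] at h2
    have hfin : Order.coheight s.last ≠ ⊤ := (Order.coheight_lt_top _).ne
    have h3 := ENat.add_right_injective_of_ne_top hfin h2
    simp only [Fin.val_last] at h3
    exact_mod_cast h3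

/-- A Noetherian local ring A is catenary if and only if the assignment sending a prime p to the Krull
dimension of A/p is a dimension function on Spec A, i.e. it decreases strictly along strict
inclusions of primes and drops by exactly one along inclusions with no prime strictly in between. -/
theorem result (A : Type u) [CommRing A] [IsNoetherianRing A]
    [IsLocalRing A] :
    CAlg.IsCatenary A ↔
      ∀ p q : PrimeSpectrum A, p < q →
        ringKrullDim (A ⧸ q.asIdeal) < ringKrullDim (A ⧸ p.asIdeal) ∧
          (p ⋖ q → ringKrullDim (A ⧸ p.asIdeal) = ringKrullDim (A ⧸ q.asIdeal) + 1) := by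
  constructor
  · intro hA p q hpq
    have hcp := Groth.Agent.Lib.Helper24.CatEquidim.coheight_eq_ringKrullDim_quotient p
    have hcq := Groth.Agent.Lib.Helper24.CatEquidim.coheight_eq_ringKrullDim_quotient q
    rw [← hcp, ← hcq]
    constructor
    · have h1 := Order.coheight_add_one_le hpq
      have hfin : Order.coheight q ≠ ⊤ := (Order.coheight_lt_top _).ne
      have h2 : Order.coheight q < Order.coheight p :=
        lt_of_lt_of_le ((ENat.lt_add_one_iff hfin).mpr le_rfl) h1
      exact_mod_cast h2
    · intro hcov
      rw [Groth.Agent.Lib.Helper24.CatEquidim.coheight_covBy hA hcov]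
      push_cast
      rfl
  · intro H
    apply isCatenary_of_cov
    intro p q hcov
    have h := (H p q hcov.lt).2 hcov
    have hcp := Groth.Agent.Lib.Helper24.CatEquidim.coheight_eq_ringKrullDim_quotient p
    have hcq := Groth.Agent.Lib.Helper24.CatEquidim.coheight_eq_ringKrullDim_quotient q
    rw [← hcp, ← hcq] at h
    exact_mod_cast h

end Groth.Agent.S9128
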