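import Groth.Statements.S9297
import Groth.Agent.Lib.Helper24.CatEquidim
import Groth.Agent.Lib.Helper24.RkDescent
-- import your own Groth.Agent.* helpers here

set_option autoImplicit false
universe u
open EGA4

namespace Groth.Agent.S9297

theorem add_left_cancel_nat (n : ℕ) (x y : WithBot ℕ∞)
    (h : ((n : ℕ∞) : WithBot ℕ∞) + x = ((n : ℕ∞) : WithBot ℕ∞) + y) : x = y := by
  induction x using WithBot.recBotCoe with
  | bot =>
    rw [WithBot.add_bot] at h
    have := (WithBot.add_eq_bot.mp h.symm)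
    rcases this with h1 | h1
    · exact absurd h1 (WithBot.coe_ne_bot)
    · exact h1.symm
  | coe a =>
    induction y using WithBot.recBotCoe with
    | bot =>
      rw [WithBot.add_bot] at h
      rcases WithBot.add_eq_bot.mp h with h1 | h1
      · exact absurd h1 (WithBot.coe_ne_bot)
      · exact absurd h1 (WithBot.coe_ne_bot)
    | coe b =>
      rw [← WithBot.coe_add, ← WithBot.coe_add, WithBot.coe_inj] at h
      have : a = b := ENat.add_right_injective_of_ne_top (ENat.natCast_ne_top n) h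
      rw [this]

/-- Let A → B be a flat local homomorphism of Noetherian local rings with B catenary and Spec(B)
equidimensional. Then Spec(B/pB) is equidimensional for every prime p of A. -/
theorem result (A B : Type u) [CommRing A] [CommRing B]
    [IsNoetherianRing A] [IsNoetherianRing B] [IsLocalRing A] [IsLocalRing B] [Algebra A B]
    [IsLocalHom (algebraMap A B)] [Module.Flat A B] (hcat : CAlg.IsCatenary B) (heq : EGA4.IsEquidim B)
    (p : Ideal A) [p.IsPrime] : EGA4.IsEquidim (B ⧸ Ideal.map (algebraMap A B) p) := by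
  set I := p.map (algebraMap A B) with hI
  have key : ∀ Q ∈ I.minimalPrimes,
      ((p.height : ℕ∞) : WithBot ℕ∞) + ringKrullDim (B ⧸ Q) = ringKrullDim B := by
    intro Q hQ
    haveI : Q.IsPrime := hQ.1.1
    have hc := Groth.Agent.Lib.Helper24.CatEquidim.comap_eq_of_mem_minimalPrimes_map A B p Q hQ
    have hht := Groth.Agent.Lib.Helper24.RkDescent.height_eq_of_minimalPrimes A B p Q hQ hc
    rw [← hht]
    exact Groth.Agent.Lib.Helper24.CatEquidim.height_add_dim_quotient_eq B hcat heq Q
  obtain ⟨n, hn⟩ := ENat.ne_top_iff_exists.mp (Ideal.height_ne_top_of_isPrime (I := p))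
  have hsame : ∀ Q ∈ I.minimalPrimes, ∀ Q' ∈ I.minimalPrimes,
      ringKrullDim (B ⧸ Q) = ringKrullDim (B ⧸ Q') := by
    intro Q hQ Q' hQ'
    have h1 := key Q hQ
    have h2 := key Q' hQ'
    rw [← hn] at h1 h2
    exact add_left_cancel_nat n _ _ (h1.trans h2.symm)
  let π := Ideal.Quotient.mk I
  have hπ : Function.Surjective π := Ideal.Quotient.mk_surjective
  have hdimP : ∀ P ∈ minimalPrimes (B ⧸ I),
      P.comap π ∈ I.minimalPrimes ∧ ringKrullDim ((B ⧸ I) ⧸ P) = ringKrullDim (B ⧸ P.comap π) := by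
    intro P hP
    have hQ : P.comap π ∈ I.minimalPrimes := by
      rw [Ideal.minimalPrimes_eq_comap]; exact ⟨P, hP, rfl⟩
    refine ⟨hQ, ?_⟩
    have hPeq : P = (P.comap π).map π := (Ideal.map_comap_of_surjective π hπ P).symm
    have e1 : ((B ⧸ I) ⧸ P) ≃+* ((B ⧸ I) ⧸ (P.comap π).map π) := Ideal.quotEquivOfEq hPeq
    have e2 : ((B ⧸ I) ⧸ (P.comap π).map π) ≃+* B ⧸ P.comap π :=
      DoubleQuot.quotQuotEquivQuotOfLE hQ.1.2
    exact ringKrullDim_eq_of_ringEquiv (e1.trans e2)
  intro P hP
  obtain ⟨hQ, hdP⟩ := hdimP P hP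
  refine le_antisymm ?_ ?_
  · exact ringKrullDim_quotient_le P
  · apply Groth.Agent.Lib.Helper24.CatEquidim.ringKrullDim_le_of_forall_minimalPrimes
    intro P' hP'
    obtain ⟨hQ', hdP'⟩ := hdimP P' hP'
    rw [hdP, hdP', hsame _ hQ' _ hQ]

end Groth.Agent.S9297
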