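import Groth.Statements.S1661
import Mathlib

set_option autoImplicit false
universe u
open CategoryTheory CategoryTheory.Limits AlgebraicGeometry
open Divisors

namespace Groth.Agent.S1661

open RingTheory.Sequence

/-- lifting a weakly regular sequence along a surjection with kernel generated by a weakly regular
sequence -/
theorem weaklyRegular_append_of_surjective {R S : Type u} [CommRing R] [CommRing S] (φ : R →+* S)
    (hφ : Function.Surjective φ) (gs : List R) (hgs : IsWeaklyRegular R gs)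
    (hker : RingHom.ker φ = Ideal.ofList gs) (fs : List R)
    (hfs : IsWeaklyRegular S (fs.map φ)) :
    IsWeaklyRegular R (gs ++ fs) ∧
      Ideal.ofList (gs ++ fs) = Ideal.comap φ (Ideal.ofList (fs.map φ)) := by
  let _ := φ.toAlgebra
  constructor
  · rw [isWeaklyRegular_append_iff]
    refine ⟨hgs, ?_⟩
    have hsurj : Function.Surjective (Algebra.linearMap R S) := hφ
    have hk : LinearMap.ker (Algebra.linearMap R S) = (Ideal.ofList gs • ⊤ : Submodule R R) := by
      rw [smul_eq_mul, Ideal.mul_top, ← hker]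
      rfl
    let e : (R ⧸ (Ideal.ofList gs • ⊤ : Submodule R R)) ≃ₗ[R] S :=
      (Submodule.quotEquivOfEq _ _ hk.symm).trans
        ((Algebra.linearMap R S).quotKerEquivOfSurjective hsurj)
    rw [e.isWeaklyRegular_congr]
    exact (isWeaklyRegular_map_algebraMap_iff S S fs).mp hfs
  · rw [Ideal.ofList_append, ← Ideal.map_ofList, Ideal.comap_map_of_surjective φ hφ, ← hker,
      sup_comm]
    rfl

theorem restrict_basicOpen {Z Y : Scheme.{u}} (i : Z ⟶ Y) [QuasiCompact i]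
    (V : Y.Opens) (hV : IsAffineOpen V) (fs : List Γ(Y, V)) (hfs : IsWeaklyRegular Γ(Y, V) fs)
    (hker : i.ker.ideal ⟨V, hV⟩ = Ideal.ofList fs)
    (D : Y.Opens) (hD : IsAffineOpen D) (c : Γ(Y, V)) (hDc : D = Y.basicOpen c) (hDV : D ≤ V) :
    IsWeaklyRegular Γ(Y, D) (fs.map (Y.presheaf.map (homOfLE hDV).op).hom) ∧
      i.ker.ideal ⟨D, hD⟩ = Ideal.ofList (fs.map (Y.presheaf.map (homOfLE hDV).op).hom) := by
  subst hDc
  have hloc := hV.isLocalization_basicOpen c
  constructor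
  · exact IsWeaklyRegular.of_isLocalization (S := Γ(Y, Y.basicOpen c)) (Submonoid.powers c) hfs
  · have h1 := i.ker.map_ideal_basicOpen ⟨V, hV⟩ c
    rw [hker, Ideal.map_ofList] at h1
    exact h1.symm

/-- If i : Z → Y and j : Y → X are regular closed immersions then so is their composite Z → X. This is
the closed-immersion case of the published statement. -/
theorem result {Z Y X : Scheme.{u}} (i : Z ⟶ Y) (j : Y ⟶ X)
    (hi : Mor2.IsRegularClosedImmersion i) (hj : Mor2.IsRegularClosedImmersion j) : Mor2.IsRegularClosedImmersion (i ≫ j) := by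
  obtain ⟨hci, hi⟩ := hi
  obtain ⟨hcj, hj⟩ := hj
  have := hci
  have := hcj
  refine ⟨inferInstance, fun z => ?_⟩
  obtain ⟨U, hU, hxU, gs, hgs, hkerj⟩ := hj (i z)
  obtain ⟨V, hV, hyV, fs, hfs, hkeri⟩ := hi z
  have hU' : IsAffineOpen (j ⁻¹ᵁ U) := hU.preimage j
  have hyU' : i z ∈ j ⁻¹ᵁ U := hxU
  obtain ⟨b, c, hbc, hyb⟩ := exists_basicOpen_le_affine_inter hU' hV (i z) ⟨hyU', hyV⟩
  obtain ⟨a, ha⟩ := j.app_surjective U hU b
  have hW : IsAffineOpen (X.basicOpen a) := hU.basicOpen a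
  have hWU : X.basicOpen a ≤ U := X.basicOpen_le a
  have hpre : j ⁻¹ᵁ (X.basicOpen a) = Y.basicOpen c := by
    rw [Scheme.preimage_basicOpen, ha, hbc]
  obtain ⟨hgs', hkerj'⟩ := restrict_basicOpen j U hU gs hgs.toIsWeaklyRegular hkerj
    (X.basicOpen a) hW a rfl hWU
  have hD : IsAffineOpen (j ⁻¹ᵁ (X.basicOpen a)) := hW.preimage j
  have hDV : j ⁻¹ᵁ (X.basicOpen a) ≤ V := hpre ▸ Y.basicOpen_le c
  obtain ⟨hfs', hkeri'⟩ := restrict_basicOpen i V hV fs hfs.toIsWeaklyRegular hkeri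
    (j ⁻¹ᵁ (X.basicOpen a)) hD c hpre hDV
  have hφ : Function.Surjective (j.app (X.basicOpen a)).hom := j.app_surjective _ hW
  have hkerφ : RingHom.ker (j.app (X.basicOpen a)).hom =
      Ideal.ofList (gs.map (X.presheaf.map (homOfLE hWU).op).hom) := by
    rw [← Scheme.Hom.ker_apply j ⟨X.basicOpen a, hW⟩]
    exact hkerj'
  obtain ⟨ft, hft⟩ := (List.map_surjective_iff.mpr hφ) (fs.map (Y.presheaf.map (homOfLE hDV).op).hom)
  obtain ⟨hreg, hideal⟩ := weaklyRegular_append_of_surjective (j.app (X.basicOpen a)).hom hφ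
    _ hgs' hkerφ ft (hft ▸ hfs')
  have hxW : (i ≫ j) z ∈ X.basicOpen a := by
    change i z ∈ j ⁻¹ᵁ (X.basicOpen a)
    rw [hpre, ← hbc]
    exact hyb
  have hidealW : (i ≫ j).ker.ideal ⟨X.basicOpen a, hW⟩ =
      Ideal.ofList (gs.map (X.presheaf.map (homOfLE hWU).op).hom ++ ft) := by
    rw [hideal, hft, ← hkeri', Scheme.Hom.ker_apply, Scheme.Hom.ker_apply]
    ext r
    simp only [RingHom.mem_ker, Ideal.mem_comap, Scheme.Hom.comp_app, CommRingCat.hom_comp,
      RingHom.comp_apply]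
    rfl
  refine ⟨X.basicOpen a, hW, hxW, _, ⟨hreg, ?_⟩, hidealW⟩
  rw [← hidealW, smul_eq_mul, Ideal.mul_top, Scheme.Hom.ker_apply]
  intro h
  have h1 : (1 : Γ(X, X.basicOpen a)) ∈ RingHom.ker ((i ≫ j).app (X.basicOpen a)).hom := by
    rw [← h]; trivial
  rw [RingHom.mem_ker, map_one] at h1
  haveI : Nonempty ((i ≫ j) ⁻¹ᵁ (X.basicOpen a) : Z.Opens) := ⟨⟨z, hxW⟩⟩
  exact one_ne_zero h1

end Groth.Agent.S1661
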