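import Mathlib
import Groth.Prelude.Def_RegImm
/-!
# Regular immersions: the kernel of the stalk map (helper29)

* `affine_and_app_surjective_of_restrict`: if `i ∣_ U` is a closed immersion over an affine open `U`,
  then `i ⁻¹ᵁ U` is affine and `Γ(X, U) → Γ(Z, i⁻¹U)` is surjective.
* `ker_stalkMap_eq_map`: under these conditions the kernel of the stalk map at `z ∈ i⁻¹U` is the
  extension of `ker (Γ(X, U) → Γ(Z, i⁻¹U))` to the stalk.
* `exists_isRegular_ker_stalkMap`: a regular immersion at `z` has `ker (stalkMap)` generated by a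
  regular sequence.
-/

set_option autoImplicit false
universe u
open CategoryTheory AlgebraicGeometry

namespace Groth.Agent.LibRegImmStalk29

variable {Z X : Scheme.{u}}

theorem affine_and_app_surjective_of_restrict (i : Z ⟶ X) (U : X.Opens) (hU : IsAffineOpen U)
    [IsClosedImmersion (i ∣_ U)] :
    IsAffineOpen (i ⁻¹ᵁ U) ∧ Function.Surjective (i.app U).hom := by
  have : IsAffine U.toScheme := hU
  obtain ⟨h1, h2⟩ := IsClosedImmersion.isAffine_surjective_of_isAffine (f := i ∣_ U)
  refine ⟨h1, ?_⟩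
  rw [morphismRestrict_appTop] at h2
  have h3 : Function.Surjective (i.app (U.ι ''ᵁ ⊤)).hom := by
    intro b
    obtain ⟨a, ha⟩ := h2 ((Z.presheaf.map
      (eqToHom (image_morphismRestrict_preimage i U ⊤)).op).hom b)
    refine ⟨a, ?_⟩
    have hinj : Function.Injective (Z.presheaf.map
      (eqToHom (image_morphismRestrict_preimage i U ⊤)).op).hom :=
      (ConcreteCategory.bijective_of_isIso _).1
    apply hinj
    rw [← ha]
    rfl
  have key : ∀ W : X.Opens, W = U → Function.Surjective (i.app W).hom →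
      Function.Surjective (i.app U).hom := by
    rintro W rfl h
    exact h
  exact key _ (Scheme.Opens.ι_image_top U) h3

theorem ker_stalkMap_eq_map (i : Z ⟶ X) (U : X.Opens) (hU : IsAffineOpen U)
    (hV : IsAffineOpen (i ⁻¹ᵁ U)) (hs : Function.Surjective (i.app U).hom) (z : Z)
    (hz : i z ∈ U) :
    RingHom.ker (i.stalkMap z).hom =
      (RingHom.ker (i.app U).hom).map (X.presheaf.germ U (i z) hz).hom := by
  let a1 := X.presheaf.algebra_section_stalk (⟨i z, hz⟩ : U)
  have l1 := hU.isLocalization_stalk ⟨i z, hz⟩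
  let a2 := Z.presheaf.algebra_section_stalk (⟨z, hz⟩ : (i ⁻¹ᵁ U : Z.Opens))
  have l2 := hV.isLocalization_stalk ⟨z, hz⟩
  have hcomap : (hV.primeIdealOf ⟨z, hz⟩).asIdeal.comap (i.app U).hom =
      (hU.primeIdealOf ⟨i z, hz⟩).asIdeal := by
    have := IsAffineOpen.comap_primeIdealOf_appLE (f := i) (x := z) U hU (i ⁻¹ᵁ U) hV le_rfl hz
    rw [Scheme.Hom.appLE_eq_app] at this
    exact congrArg PrimeSpectrum.asIdeal this
  have hT : Submonoid.map (i.app U).hom (hU.primeIdealOf ⟨i z, hz⟩).asIdeal.primeCompl =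
      (hV.primeIdealOf ⟨z, hz⟩).asIdeal.primeCompl := by
    ext b
    constructor
    · rintro ⟨a, ha, rfl⟩
      intro hb
      apply ha
      rw [← hcomap]
      exact hb
    · intro hb
      obtain ⟨a, rfl⟩ := hs b
      refine ⟨a, fun ha => hb ?_, rfl⟩
      rw [← hcomap] at ha
      exact ha
  have hmap : (i.stalkMap z).hom =
      IsLocalization.map (Z.presheaf.stalk z) (i.app U).hom
        (hT.symm ▸ Submonoid.le_comap_map _) := by
    apply IsLocalization.ringHom_ext (hU.primeIdealOf ⟨i z, hz⟩).asIdeal.primeCompl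
    ext a
    simp only [RingHom.comp_apply, IsLocalization.map_eq]
    simp only [RingHom.algebraMap_toAlgebra]
    exact Scheme.Hom.germ_stalkMap_apply i U z hz a
  rw [hmap, IsLocalization.ker_map _ _ hT]
  rfl

theorem exists_isRegular_ker_stalkMap (i : Z ⟶ X) (z : Z)
    (h : RegImm.IsRegularImmersionAt RegImm.Kind.regular i z) :
    ∃ (U : X.affineOpens) (hz : i z ∈ U.1) (rs : List Γ(X, U.1)),
      RingTheory.Sequence.IsRegular Γ(X, U.1) rs ∧
      RingHom.ker (i.app U.1).hom = Ideal.ofList rs ∧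
      RingTheory.Sequence.IsRegular (X.presheaf.stalk (i z))
        (rs.map (X.presheaf.germ U.1 (i z) hz).hom) ∧
      RingHom.ker (i.stalkMap z).hom =
        Ideal.ofList (rs.map (X.presheaf.germ U.1 (i z) hz).hom) := by
  obtain ⟨U, hzU, hcl, rs, hrs, hker⟩ := h
  have := hcl
  obtain ⟨hV, hs⟩ := affine_and_app_surjective_of_restrict i U.1 U.2
  have hk := ker_stalkMap_eq_map i U.1 U.2 hV hs z hzU
  refine ⟨U, hzU, rs, hrs, hker, ?_, ?_⟩
  · let a1 := X.presheaf.algebra_section_stalk (⟨i z, hzU⟩ : U.1)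
    have l1 := U.2.isLocalization_stalk ⟨i z, hzU⟩
    have hcomap : (hV.primeIdealOf ⟨z, hzU⟩).asIdeal.comap (i.app U.1).hom =
        (U.2.primeIdealOf ⟨i z, hzU⟩).asIdeal := by
      have := IsAffineOpen.comap_primeIdealOf_appLE (f := i) (x := z) U.1 U.2 (i ⁻¹ᵁ U.1) hV
        le_rfl hzU
      rw [Scheme.Hom.appLE_eq_app] at this
      exact congrArg PrimeSpectrum.asIdeal this
    refine RingTheory.Sequence.IsWeaklyRegular.isRegular_of_isLocalization_of_mem
      (X.presheaf.stalk (i z)) (U.2.primeIdealOf ⟨i z, hzU⟩).asIdeal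
      hrs.toIsWeaklyRegular ?_
    intro r hr
    rw [← hcomap, Ideal.mem_comap]
    have : r ∈ RingHom.ker (i.app U.1).hom := by
      rw [hker]
      exact Ideal.subset_span hr
    rw [RingHom.mem_ker.mp this]
    exact Ideal.zero_mem _
  · rw [hk, hker, Ideal.map_ofList]

end Groth.Agent.LibRegImmStalk29
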