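import Mathlib
import Groth.Prelude.Def_RegImm
import Groth.Agent.LibRegImmStalk29
/-!
# Base change of a closed immersion over affine opens (helper29)

* `ker_of_isPushout`: in a pushout square of commutative rings with one leg surjective, the kernel of
  the opposite leg is the extension of the kernel.
* `restrict_pullback_snd`: for `i : Z ⟶ X` restricting to a closed immersion over the affine open
  `U`, `g : X' ⟶ X` and an affine open `U' ≤ g⁻¹U`, the base change `i' = pullback.snd i g`
  restricts to a closed immersion over `U'` and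
  `ker (Γ(X', U') → Γ(Z', i'⁻¹U')) = ker (Γ(X, U) → Γ(Z, i⁻¹U)) · Γ(X', U')`.
-/

set_option autoImplicit false
universe u
open CategoryTheory CategoryTheory.Limits AlgebraicGeometry

namespace Groth.Agent.LibRegImmBC29

theorem ker_of_isPushout {A B A' B' : CommRingCat.{u}} {f : A ⟶ B} {g : A ⟶ A'} {f' : B ⟶ B'}
    {g' : A' ⟶ B'} (h : IsPushout f g f' g') (hf : Function.Surjective f.hom) :
    RingHom.ker g'.hom = (RingHom.ker f.hom).map g.hom := by
  apply le_antisymm
  · set K := (RingHom.ker f.hom).map g.hom with hK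
    have hle : RingHom.ker f.hom ≤ RingHom.ker ((Ideal.Quotient.mk K).comp g.hom) := by
      intro a ha
      rw [RingHom.mem_ker, RingHom.comp_apply, Ideal.Quotient.eq_zero_iff_mem]
      exact Ideal.mem_map_of_mem _ ha
    let β : B →+* A' ⧸ K := RingHom.liftOfSurjective f.hom hf ⟨_, hle⟩
    have hβ : β.comp f.hom = (Ideal.Quotient.mk K).comp g.hom :=
      RingHom.liftOfRightInverse_comp _ _ _ _
    let d : B' ⟶ CommRingCat.of (A' ⧸ K) :=
      h.desc (CommRingCat.ofHom β) (CommRingCat.ofHom (Ideal.Quotient.mk K)) (by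
        ext a
        exact congrFun (congrArg DFunLike.coe hβ) a)
    have hd : g' ≫ d = CommRingCat.ofHom (Ideal.Quotient.mk K) := h.inr_desc _ _ _
    intro x hx
    rw [RingHom.mem_ker] at hx
    have h1 : (g' ≫ d).hom x = 0 := by
      change d.hom (g'.hom x) = 0
      rw [hx, map_zero]
    rw [hd] at h1
    exact Ideal.Quotient.eq_zero_iff_mem.mp h1
  · rw [Ideal.map_le_iff_le_comap]
    intro a ha
    rw [Ideal.mem_comap, RingHom.mem_ker]
    have : (g ≫ g').hom a = (f ≫ f').hom a := by rw [h.w]
    change g'.hom (g.hom a) = f'.hom (f.hom a) at this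
    rw [this, RingHom.mem_ker.mp ha, map_zero]

variable {Z X X' : Scheme.{u}}

theorem restrict_pullback_snd (i : Z ⟶ X) (g : X' ⟶ X) (U : X.Opens) (hU : IsAffineOpen U)
    [IsClosedImmersion (i ∣_ U)] (U' : X'.Opens) (hU' : IsAffineOpen U') (e : U' ≤ g ⁻¹ᵁ U) :
    IsClosedImmersion (pullback.snd i g ∣_ U') ∧
      RingHom.ker ((pullback.snd i g).app U').hom =
        (RingHom.ker (i.app U).hom).map (g.appLE U U' e).hom := by
  have H : IsPullback (pullback.fst i g) (pullback.snd i g) i g := IsPullback.of_hasPullback i g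
  have hUY : (pullback.snd i g) ⁻¹ᵁ U' =
      (pullback.fst i g) ⁻¹ᵁ (i ⁻¹ᵁ U) ⊓ (pullback.snd i g) ⁻¹ᵁ U' := by
    refine le_antisymm (le_inf ?_ le_rfl) inf_le_right
    rw [← Scheme.Hom.comp_preimage, H.w, Scheme.Hom.comp_preimage]
    exact (pullback.snd i g).preimage_mono e
  have hUSX : i ⁻¹ᵁ U ≤ i ⁻¹ᵁ U := le_rfl
  have hpb := Scheme.Hom.isPullback_resLE H e hUSX hUY
  obtain ⟨hV, hs⟩ := Groth.Agent.LibRegImmStalk29.affine_and_app_surjective_of_restrict i U hU
  constructor
  · have h1 : IsClosedImmersion (i.resLE U (i ⁻¹ᵁ U) hUSX) := by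
      rw [Scheme.Hom.resLE_eq_morphismRestrict]
      infer_instance
    have h2 := MorphismProperty.of_isPullback (P := @IsClosedImmersion) hpb h1
    rw [Scheme.Hom.resLE_eq_morphismRestrict] at h2
    exact h2
  · have hiso := isIso_pushoutSection_of_isAffineOpen H e hUSX hUY hU hU' hV
    have hpo := (isIso_pushoutSection_iff H e hUSX hUY).mp hiso
    have := ker_of_isPushout hpo (by rw [Scheme.Hom.appLE_eq_app]; exact hs)
    rw [Scheme.Hom.appLE_eq_app] at this
    rw [this, Scheme.Hom.appLE_eq_app]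

end Groth.Agent.LibRegImmBC29
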