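import Groth.Statements.S4961
import Groth.Agent.Lib.Helper5.CMQF11
import Groth.Agent.Lib.Helper18.LfpCancel

set_option autoImplicit false
open CategoryTheory AlgebraicGeometry
universe u v w
open EGA43

namespace Groth.Agent.S4961

/-- Let f : X ⟶ Y be a morphism locally of finite presentation. The set of points x of X at which f is
Cohen–Macaulay (f flat at x and the local ring at x of the fibre through x Cohen–Macaulay) is open
in X. -/
theorem result {X Y : Scheme.{u}} (f : X ⟶ Y)
    [LocallyOfFinitePresentation f] : IsOpen {x : X | MoreMor.IsCMAt f x} := by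
  rw [isOpen_iff_forall_mem_open]
  intro x hcm
  obtain ⟨r, d, U, hx, g, h1, h2, h3, -, -⟩ :=
    Groth.Agent.Lib.helper5.CMQF.exists_quasiFinite_flat_of_isCMAt f x hcm
  haveI := h2
  haveI : LocallyOfFinitePresentation (g ≫ (𝔸(ULift.{u} (Fin (r + d)); Y) ↘ Y)) := by
    rw [h1]
    infer_instance
  haveI : LocallyOfFinitePresentation g :=
    Groth.Agent.Lib.Helper18.RelSmoothFiber.locallyOfFinitePresentation_of_comp g
      (𝔸(ULift.{u} (Fin (r + d)); Y) ↘ Y) inferInstance inferInstance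
  have hopen := Groth.Agent.Lib.helper3.FlatDesc.isOpen_flatLocus_of_locallyOfFinitePresentation g
  let V' : (U : Scheme.{u}).Opens := ⟨_, hopen⟩
  refine ⟨U.ι ''ᵁ V', ?_, (U.ι ''ᵁ V').isOpen, ⟨⟨x, hx⟩, h3, rfl⟩⟩
  rintro _ ⟨x', hx', rfl⟩
  have h4 := Groth.Agent.Lib.helper5.CMQF.isCMAt_of_quasiFinite_flat (U.ι ≫ f)
    (ULift.{u} (Fin (r + d))) g h1 x' hx'
  exact (Groth.Agent.Lib.helper5.CMQF.isCMAt_comp_iff_of_isOpenImmersion U.ι f x').mp h4

end Groth.Agent.S4961
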