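import Groth.Statements.S1341
import Groth.Agent.S4961
import Groth.Agent.Lib.Helper5.CMDense

set_option autoImplicit false
universe u
open FlatMor

namespace Groth.Agent.S1341

open AlgebraicGeometry CategoryTheory Limits in
/-- Let f : X ⟶ S be flat and locally of finite presentation. Then the set of points of X at which f is
Cohen–Macaulay is open in X, and its intersection with every fibre of f is dense in that fibre. -/
theorem result {X S : Scheme.{u}} (f : X ⟶ S) [Flat f] [LocallyOfFinitePresentation f] :
    IsOpen {x : ↑X | MoreMor.IsCMAt f x} ∧ ∀ s : S, Dense ((f.fiberι s) ⁻¹' {x : ↑X | MoreMor.IsCMAt f x}) := by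
  refine ⟨Groth.Agent.S4961.result f, fun s => ?_⟩
  refine (Groth.Agent.Lib.helper5.CMDense.dense_cm_in_fibre f s).mono ?_
  intro z hz
  exact (Groth.Agent.Lib.helper5.CMDense.isCMAt_fiberι_iff f s z).mpr
    ⟨AlgebraicGeometry.Flat.stalkMap f _, hz⟩

end Groth.Agent.S1341
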