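import Groth.Statements.S1342
import Mathlib
import Groth.Agent.Lib.Helper17.CMBaseChange

set_option autoImplicit false
set_option linter.style.haveILetI false
universe u
open FlatMor

namespace Groth.Agent.S1342

open AlgebraicGeometry CategoryTheory Limits in
/-- For a flat morphism locally of finite presentation, the formation of the Cohen–Macaulay locus
commutes with arbitrary base change: in a cartesian square the Cohen–Macaulay locus of the
base-changed morphism is the preimage of the Cohen–Macaulay locus of f. -/
theorem result {X S X' S' : Scheme.{u}} (f : X ⟶ S) [Flat f] [LocallyOfFinitePresentation f]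
    (f' : X' ⟶ S') (g' : X' ⟶ X) (g : S' ⟶ S) (hc : IsPullback g' f' f g) :
    {x' : ↑X' | MoreMor.IsCMAt f' x'} = g' ⁻¹' {x : ↑X | MoreMor.IsCMAt f x} := by
  haveI hf' : LocallyOfFinitePresentation f' :=
    MorphismProperty.of_isPullback hc inferInstance
  have hNoeth : ∀ {A B : Scheme.{u}} (p : A ⟶ B) [LocallyOfFiniteType p] (b : B),
      IsLocallyNoetherian (p.fiber b) := by
    intro A B p _ b
    haveI : LocallyOfFiniteType (p.fiberToSpecResidueField b) :=
      MorphismProperty.pullback_snd _ _ inferInstance
    exact LocallyOfFiniteType.isLocallyNoetherian (p.fiberToSpecResidueField b)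
  ext x'
  simp only [Set.mem_ofPred_eq, Set.mem_preimage]
  constructor
  · intro h
    obtain ⟨ψ, hψ, hloc⟩ := Groth.Agent.Lib.helper17.FibreBC.exists_flat_local_hom hc x'
    obtain ⟨-, hCM⟩ := h
    haveI := hNoeth f (f (g' x'))
    haveI : IsNoetherianRing ((f.fiber (f (g' x'))).presheaf.stalk (f.asFiber (g' x'))) :=
      inferInstance
    algebraize [ψ]
    haveI : IsLocalHom (algebraMap ((f.fiber (f (g' x'))).presheaf.stalk (f.asFiber (g' x')))
        ((f'.fiber (f' x')).presheaf.stalk (f'.asFiber x'))) := hloc
    exact ⟨Flat.stalkMap f (g' x'), ((Groth.Agent.Lib.Helper24.FlatDepth.cm_iff_of_flat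
      ((f.fiber (f (g' x'))).presheaf.stalk (f.asFiber (g' x')))
      ((f'.fiber (f' x')).presheaf.stalk (f'.asFiber x'))).mp hCM).1⟩
  · intro h
    haveI := hNoeth f (g (f' x'))
    haveI := hNoeth f' (f' x')
    haveI : IsNoetherianRing ((f'.fiber (f' x')).presheaf.stalk (f'.asFiber x')) := inferInstance
    haveI : LocallyOfFiniteType (f.fiberToSpecResidueField (g (f' x'))) :=
      MorphismProperty.pullback_snd _ _ inferInstance
    let ψ : S.residueField (g (f' x')) ⟶ (f.fiber (g (f' x'))).residueField
        (Groth.Agent.Lib.helper17.FibreBC.fibreMap hc (f' x') (f'.asFiber x')) :=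
      Spec.preimage ((f.fiber (g (f' x'))).fromSpecResidueField
        (Groth.Agent.Lib.helper17.FibreBC.fibreMap hc (f' x') (f'.asFiber x')) ≫
        f.fiberToSpecResidueField (g (f' x')))
    have hψ : (f.fiber (g (f' x'))).fromSpecResidueField
        (Groth.Agent.Lib.helper17.FibreBC.fibreMap hc (f' x') (f'.asFiber x')) ≫
        f.fiberToSpecResidueField (g (f' x')) = Spec.map ψ := (Spec.map_preimage _).symm
    have hψe := Groth.Agent.Lib.helper17.FieldBC.essFiniteType_of_locallyOfFiniteType _ _ ψ hψ
    exact Groth.Agent.Lib.helper17.CMBaseChange.isCMAt_of_isPullback hc x' ψ hψ (Or.inl hψe) h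

end Groth.Agent.S1342
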