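import Groth.Statements.S1936
import Groth.Agent.Lib.Helper5.GrpdCM
import Groth.Agent.S4961

set_option autoImplicit false
universe u
open CategoryTheory CategoryTheory.Limits AlgebraicGeometry
open Grpd

namespace Groth.Agent.S1936

/-- Let (U, R, s, t, c) be a groupoid scheme over S with s, t flat and locally of finite presentation.
There is an open U' ⊆ U such that t⁻¹(U') is exactly the set of points of R at which s is
Cohen–Macaulay, s⁻¹(U') is exactly the set of points at which t is Cohen–Macaulay, and both t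
restricted to s⁻¹(U') and s restricted to t⁻¹(U') are surjective onto U. (Part (5), that the
restriction of R to U' is a groupoid with Cohen–Macaulay s', t', then follows and is not restated.)
Cohen–Macaulay at a point: flat there with Cohen–Macaulay fibre local ring (Grpd.IsCMAt). (A
groupoid scheme carries U, R, s, t, c, e, i over S with the groupoid axioms on T-points; 'finite
locally free' is finite, flat and locally of finite presentation; C ⊂ Γ(U) is the ring of functions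
a with s♯(a) = t♯(a) and M = Spec C.) -/
theorem result (S : Scheme.{u}) (G : Grpd.GroupoidScheme S) [Flat G.s] [LocallyOfFinitePresentation G.s] [Flat G.t] [LocallyOfFinitePresentation G.t] : ∃ U' : G.U.Opens, (G.t ⁻¹ᵁ U' : Set G.R) = {r | Grpd.IsCMAt G.s r} ∧ (G.s ⁻¹ᵁ U' : Set G.R) = {r | Grpd.IsCMAt G.t r} ∧ ⇑G.t '' (G.s ⁻¹ᵁ U' : Set G.R) = Set.univ ∧ ⇑G.s '' (G.t ⁻¹ᵁ U' : Set G.R) = Set.univ := by
  classical
  let Ws : G.R.Opens := ⟨{r | MoreMor.IsCMAt G.s r}, Groth.Agent.S4961.result G.s⟩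
  have h1 : ∀ r : G.R, G.t r ∈ G.e ⁻¹ᵁ Ws ↔ Grpd.IsCMAt G.s r := by
    intro r
    rw [Groth.Agent.Lib.helper5.GrpdCM.grpd_isCMAt_iff,
      Groth.Agent.Lib.helper5.GrpdCM.isCMAt_s_iff G r]
    rfl
  have h2 : ∀ r : G.R, G.s r ∈ G.e ⁻¹ᵁ Ws ↔ Grpd.IsCMAt G.t r := by
    intro r
    rw [Groth.Agent.Lib.helper5.GrpdCM.grpd_isCMAt_iff,
      Groth.Agent.Lib.helper5.GrpdCM.isCMAt_t_iff G r,
      Groth.Agent.Lib.helper5.GrpdCM.isCMAt_s_iff G (G.i r)]
    have : G.t (G.i r) = G.s r := by rw [← Scheme.Hom.comp_apply, G.i_t]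
    rw [this]
    rfl
  have hdense : ∀ {X Y : Scheme.{u}} (f : X ⟶ Y) [Flat f] [LocallyOfFinitePresentation f]
      (σ : Y ⟶ X) (_ : σ ≫ f = 𝟙 Y) (y : Y), ∃ x : X, MoreMor.IsCMAt f x ∧ f x = y := by
    intro X Y f _ _ σ hσ y
    have hd := (Groth.Agent.S1341.result f).2 y
    have hmem : σ y ∈ Set.range (f.fiberι y) := by
      rw [Scheme.Hom.range_fiberι]
      change f (σ y) = y
      rw [← Scheme.Hom.comp_apply, hσ]
      rfl
    obtain ⟨z₀, -⟩ := hmem
    haveI : Nonempty ↥(f.fiber y) := ⟨z₀⟩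
    obtain ⟨z, hz⟩ := hd.nonempty
    refine ⟨f.fiberι y z, hz, ?_⟩
    have : f.fiberι y z ∈ Set.range (f.fiberι y) := ⟨z, rfl⟩
    rw [Scheme.Hom.range_fiberι] at this
    exact this
  refine ⟨G.e ⁻¹ᵁ Ws, ?_, ?_, ?_, ?_⟩
  · ext r
    exact h1 r
  · ext r
    exact h2 r
  · rw [Set.eq_univ_iff_forall]
    intro u
    obtain ⟨r, hr, hru⟩ := hdense G.t G.e G.e_t u
    refine ⟨r, ?_, hru⟩
    exact (h2 r).mpr ((Groth.Agent.Lib.helper5.GrpdCM.grpd_isCMAt_iff G.t r).mpr hr)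
  · rw [Set.eq_univ_iff_forall]
    intro u
    obtain ⟨r, hr, hru⟩ := hdense G.s G.e G.e_s u
    refine ⟨r, ?_, hru⟩
    exact (h1 r).mpr ((Groth.Agent.Lib.helper5.GrpdCM.grpd_isCMAt_iff G.s r).mpr hr)

end Groth.Agent.S1936
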