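import Groth.Statements.S10343
import Groth.Agent.S10265
import Groth.Agent.Lib.Helper11.AlgSpBasic

set_option autoImplicit false
universe u
open CategoryTheory CategoryTheory.Limits AlgebraicGeometry Topology TopologicalSpace
open AlgSp

namespace Groth.Agent.S10343

open Groth.Agent.Lib.helper11

variable {S : Scheme.{u}}

/-- For a field-valued point `p` of a sheaf whose morphism is representable quasi-compact, the fibre
over the class of `p` of an etale chart from a quasi-compact scheme is finite. -/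
theorem finite_fibre_of_qc_point {F : Sp S} (p : FieldPt F) (hp : RepWith @QuasiCompact p.toHom)
    {U : Over S} [CompactSpace ↥U.left] (a : (yon S).obj U ⟶ F) (ha : RepWith @Etale a) :
    (Points.ofPt a ⁻¹' {Points.mk p}).Finite := by
  obtain ⟨W, snd, fst, sq⟩ := hp.1 a
  have hqc : QuasiCompact snd.left := hp.2 _ _ _ sq
  obtain ⟨t, rfl⟩ := (yon S).map_surjective fst
  have het : Etale t.left := ha.2 _ _ _ sq.flip
  have hcW : CompactSpace ↥W.left := QuasiCompact.compactSpace_of_compactSpace snd.left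
  have hlqf : LocallyQuasiFinite t.left := Groth.Agent.S10265.lqf_of_etale t.left
  have hqct : QuasiCompact t.left := by
    have : IsAffine p.pt.left := by
      change IsAffine (Spec (CommRingCat.of p.K)); infer_instance
    exact HasAffineProperty.iff_of_isAffine.mpr hcW
  have hsub : Subsingleton ↥p.pt.left := by
    change Subsingleton ↥(Spec (CommRingCat.of p.K))
    exact inferInstanceAs (Subsingleton (PrimeSpectrum p.K))
  let s0 : ↥p.pt.left := (IsLocalRing.closedPoint p.K : ↥(Spec (CommRingCat.of p.K)))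
  have hfinW : (Set.univ : Set ↥W.left).Finite := by
    have h1 := Scheme.Hom.finite_preimage_singleton t.left s0
    have h2 : t.left ⁻¹' {s0} = Set.univ := by
      ext w
      simp only [Set.mem_preimage, Set.mem_singleton_iff, Set.mem_univ, iff_true]
      exact Subsingleton.elim _ _
    rwa [h2] at h1
  refine (hfinW.image snd.left).subset ?_
  intro u hu
  have hu' : Points.ofPt a u = Points.mk p := hu
  have hx : Points.map p.toHom (Points.ofScheme p.pt s0) = Points.ofPt a u := by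
    rw [← Points.ofPt_eq_map_ofScheme, hu']
    exact Points.ofPt_toHom p s0
  obtain ⟨w, -, hw⟩ := exists_of_isPullback_scheme sq (Points.ofScheme p.pt s0) u hx
  exact ⟨w, Set.mem_univ _, hw⟩

/-- Topological core: if `a : A → B` is open, `x' ⤳ a u` and the fibre of `a` over `x'` is finite,
then some point of this fibre specializes to `u`. -/
theorem exists_specializes_of_finite_fibre {A B : Type*} [TopologicalSpace A] [TopologicalSpace B]
    (a : A → B) (ha : IsOpenMap a) (u : A) (x' : B) (h : x' ⤳ a u) (hfin : (a ⁻¹' {x'}).Finite) :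
    ∃ u' : A, u' ⤳ u ∧ a u' = x' := by
  by_contra hcon
  push Not at hcon
  have hN : ∀ u₁ ∈ a ⁻¹' {x'}, ∃ N : Set A, IsOpen N ∧ u ∈ N ∧ u₁ ∉ N := by
    intro u₁ hu₁
    have := hcon u₁
    by_contra hc
    push Not at hc
    exact this (specializes_iff_forall_open.2 fun N hN huN => hc N hN huN) hu₁
  choose! N hNo hNu hNn using hN
  have hopen : IsOpen (⋂ u₁ ∈ a ⁻¹' {x'}, N u₁) := hfin.isOpen_biInter fun u₁ hu₁ => hNo u₁ hu₁
  have hmem : u ∈ ⋂ u₁ ∈ a ⁻¹' {x'}, N u₁ := Set.mem_iInter₂.2 fun u₁ hu₁ => hNu u₁ hu₁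
  have hx' : x' ∈ a '' (⋂ u₁ ∈ a ⁻¹' {x'}, N u₁) :=
    h.mem_open (ha _ hopen) ⟨u, hmem, rfl⟩
  obtain ⟨u₁, hu₁, hu₁x⟩ := hx'
  exact hNn u₁ hu₁x (Set.mem_iInter₂.1 hu₁ u₁ hu₁x)

theorem main (X : AlgSp.Space S) (x x' : AlgSp.Points X.obj) (h : x' ⤳ x)
    (hx' : ∃ p : AlgSp.FieldPt X.obj, AlgSp.Points.mk p = x' ∧ AlgSp.RepWith @QuasiCompact p.toHom)
    {U : Over S} (a : (AlgSp.yon S).obj U ⟶ X.obj) (ha : AlgSp.RepWith @Etale a) (u : ↥U.left)
    (hu : AlgSp.Points.ofPt a u = x) :
    ∃ u' : ↥U.left, u' ⤳ u ∧ AlgSp.Points.ofPt a u' = x' := by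
  obtain ⟨p, rfl, hp⟩ := hx'
  obtain ⟨Z, hZ, huZ, -⟩ := exists_isAffineOpen_mem_and_subset (x := u) (U := ⊤) trivial
  have hZa : IsAffine (Z : Scheme.{u}) := hZ
  have hcomp : CompactSpace ↥(Z : Scheme.{u}) := inferInstance
  obtain ⟨hae, hpt⟩ := chart_comp a ha Z.ι
  let U₀ : Over S := Over.mk (Z.ι ≫ U.hom)
  have : CompactSpace ↥U₀.left := hcomp
  have hfin := finite_fibre_of_qc_point p hp (U := U₀) _ hae
  have hu0 : Points.ofPt ((yon S).map (Over.homMk (U := U₀) Z.ι rfl) ≫ a) ⟨u, huZ⟩ = x := by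
    rw [hpt]; exact hu
  obtain ⟨u₁, hu₁s, hu₁x⟩ := exists_specializes_of_finite_fibre _ (isOpenMap_ofPt _ hae)
    (⟨u, huZ⟩ : ↥U₀.left) (Points.mk p) (hu0 ▸ h) hfin
  refine ⟨Z.ι u₁, ?_, ?_⟩
  · exact hu₁s.map Z.ι.continuous
  · rw [← hpt]; exact hu₁x

/-- Let X be an algebraic space over a scheme S and x' ⤳ x a specialization in |X|, where x' is
represented by a monomorphism Spec k ⟶ X which is representable quasi-compact. Then for every
representable etale a : h_U ⟶ X from a scheme U and every point u of U over x there is a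
generization u' of u in U mapping to x'. -/
theorem result {S : Scheme.{u}} (X : AlgSp.Space S) (x x' : AlgSp.Points X.obj)
    (h : x' ⤳ x)
    (hx' : ∃ p : AlgSp.FieldPt X.obj, AlgSp.Points.mk p = x' ∧ Mono p.toHom ∧ AlgSp.RepWith @QuasiCompact p.toHom)
    {U : Over S} (a : (AlgSp.yon S).obj U ⟶ X.obj) (ha : AlgSp.RepWith @Etale a) (u : ↥U.left)
    (hu : AlgSp.Points.ofPt a u = x) :
    ∃ u' : ↥U.left, u' ⤳ u ∧ AlgSp.Points.ofPt a u' = x' := by
  obtain ⟨p, h1, _, h3⟩ := hx'
  exact main X x x' h ⟨p, h1, h3⟩ a ha u hu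

end Groth.Agent.S10343
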