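import Groth.Statements.S3207
import Mathlib
import Groth.Agent.Lib.Helper1.ZSplitC

set_option autoImplicit false
universe u
open CategoryTheory CategoryTheory.Limits AlgebraicGeometry
open SGA7

namespace Groth.Agent.S3207

/-- Every point of a scheme has a maximal generization. -/
theorem exists_maximal_generization {X : Scheme.{u}} (x : X) :
    ∃ η : X, η ⤳ x ∧ ∀ η' : X, η' ⤳ η → η' = η := by
  have hirr : IsIrreducible (irreducibleComponent x) := isIrreducible_irreducibleComponent
  have hcl : IsClosed (irreducibleComponent x) := isClosed_irreducibleComponent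
  obtain ⟨η, hη⟩ := QuasiSober.sober hirr hcl
  refine ⟨η, hη.specializes mem_irreducibleComponent, fun η' h' => ?_⟩
  have h1 : irreducibleComponent x ⊆ closure {η'} := by
    rw [← hη.def]
    exact specializes_iff_closure_subset.1 h'
  have h2 : closure {η'} = irreducibleComponent x :=
    eq_irreducibleComponent isIrreducible_singleton.closure.isPreirreducible h1
  have h3 : IsGenericPoint η' (irreducibleComponent x) := h2
  exact h3.eq hη

/-- A flat morphism maps maximal points to maximal points. -/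
theorem maximal_map_of_flat {U S : Scheme.{u}} (p : U ⟶ S) [Flat p] (η : U)
    (hη : ∀ η' : U, η' ⤳ η → η' = η) : ∀ t : S, t ⤳ p η → t = p η := by
  intro t ht
  obtain ⟨η', h1, h2⟩ := Flat.generalizingMap p ht
  rw [← h2, hη η' h1]

theorem isOpenImmersion_fibre_of_h {T S : Scheme.{u}} (g : T ⟶ S) (s : S)
    (h : IsEmpty ↑(pullback g (S.fromSpecResidueField s)) ∨
      IsIso (pullback.snd g (S.fromSpecResidueField s))) :
    IsOpenImmersion (pullback.snd g (S.fromSpecResidueField s)) := by
  rcases h with h | h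
  · infer_instance
  · infer_instance

/-- Base change of the fibre statement along `gU : U ⟶ S`. -/
theorem isOpenImmersion_fibre_baseChange {T S U : Scheme.{u}} (g : T ⟶ S) (gU : U ⟶ S) (η : U)
    (hξ : IsOpenImmersion (pullback.snd g (S.fromSpecResidueField (gU η)))) :
    IsOpenImmersion (pullback.snd (pullback.snd g gU) (U.fromSpecResidueField η)) := by
  have sq0 : IsPullback (pullback.fst g gU) (pullback.snd g gU) g gU := IsPullback.of_hasPullback _ _
  have sq2 := IsPullback.of_hasPullback (pullback.snd g gU) (U.fromSpecResidueField η)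
  have sq1 := IsPullback.of_hasPullback g (S.fromSpecResidueField (gU η))
  have big := sq2.paste_horiz sq0
  have e : U.fromSpecResidueField η ≫ gU =
      Spec.map (gU.residueFieldMap η) ≫ S.fromSpecResidueField (gU η) :=
    (Scheme.Hom.SpecMap_residueFieldMap_fromSpecResidueField gU η).symm
  rw [e] at big
  let m : pullback (pullback.snd g gU) (U.fromSpecResidueField η) ⟶
      pullback g (S.fromSpecResidueField (gU η)) :=
    pullback.lift (pullback.fst _ _ ≫ pullback.fst g gU)
      (pullback.snd _ _ ≫ Spec.map (gU.residueFieldMap η)) big.w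
  have hm1 : m ≫ pullback.fst g (S.fromSpecResidueField (gU η)) =
      pullback.fst _ _ ≫ pullback.fst g gU := pullback.lift_fst _ _ _
  have hm2 : m ≫ pullback.snd g (S.fromSpecResidueField (gU η)) =
      pullback.snd _ _ ≫ Spec.map (gU.residueFieldMap η) := pullback.lift_snd _ _ _
  rw [← hm1] at big
  have left := IsPullback.of_right big hm2 sq1
  exact MorphismProperty.of_isPullback (P := @IsOpenImmersion) left hξ

/-- Rank of the finite part at a point whose fibre is an open subscheme of the point. -/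
theorem rank_at_maximal {P U : Scheme.{u}} (π : P ⟶ U) [Flat π] [LocallyOfFinitePresentation π]
    (V : P.Opens) [IsFinite (V.ι ≫ π)] (η : U)
    (hη : IsOpenImmersion (pullback.snd π (U.fromSpecResidueField η)))
    (h1 : 1 ≤ Scheme.Hom.finrank (V.ι ≫ π) η) :
    Scheme.Hom.finrank (V.ι ≫ π) η = 1 ∧ ∃ v ∈ V, π v = η := by
  set c := U.fromSpecResidueField η with hc
  have s := IsPullback.of_hasPullback (V.ι ≫ π) c
  have t := IsPullback.of_hasPullback π c
  have top := IsPullback.of_bot' s t
  set m' := t.lift (pullback.fst (V.ι ≫ π) c ≫ V.ι) (pullback.snd (V.ι ≫ π) c)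
    (by rw [Category.assoc, s.w]) with hm'
  have hm'2 : m' ≫ pullback.snd π c = pullback.snd (V.ι ≫ π) c := t.lift_snd _ _ _
  haveI : IsOpenImmersion m' :=
    MorphismProperty.of_isPullback (P := @IsOpenImmersion) top inferInstance
  haveI : IsOpenImmersion (pullback.snd (V.ι ≫ π) c) := by
    rw [← hm'2]; infer_instance
  have hfr : ∀ y, Scheme.Hom.finrank (pullback.snd (V.ι ≫ π) c) y =
      Scheme.Hom.finrank (V.ι ≫ π) η := by
    intro y
    rw [Scheme.Hom.finrank_pullback_snd, hc, Scheme.fromSpecResidueField_apply]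
  have hsurj : Surjective (pullback.snd (V.ι ≫ π) c) := by
    rw [← Scheme.Hom.one_le_finrank_iff_surjective]
    intro y
    rw [hfr y]
    exact h1
  haveI : IsIso (pullback.snd (V.ι ≫ π) c) :=
    (isIso_iff_isOpenImmersion_and_surjective _).2 ⟨inferInstance, hsurj⟩
  obtain ⟨pt⟩ : Nonempty ↥(Spec (U.residueField η)) := inferInstance
  refine ⟨?_, ?_⟩
  · rw [← hfr pt, Scheme.Hom.finrank_eq_one_of_isIso]
    rfl
  · obtain ⟨w, hw⟩ := hsurj.surj pt
    refine ⟨(pullback.fst (V.ι ≫ π) c w).1, (pullback.fst (V.ι ≫ π) c w).2, ?_⟩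
    have e1 : π ((pullback.fst (V.ι ≫ π) c w).1) = (pullback.fst (V.ι ≫ π) c ≫ (V.ι ≫ π)) w := by
      rw [Scheme.Hom.comp_apply, Scheme.Hom.comp_apply]
      rfl
    rw [e1, s.w, Scheme.Hom.comp_apply]
    exact Scheme.fromSpecResidueField_apply _ _

/-- Rank-one criterion: near a point of the image of the finite part, everything is in the finite
part, which has rank one. -/
theorem rank_one_nbhd {P U : Scheme.{u}} (π : P ⟶ U) [Flat π] [LocallyOfFinitePresentation π]
    [IsSeparated π] (V : P.Opens) [IsFinite (V.ι ≫ π)]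
    (hmax : ∀ η : U, (∀ η' : U, η' ⤳ η → η' = η) →
      IsOpenImmersion (pullback.snd π (U.fromSpecResidueField η)))
    (u : U) (hu : ∃ v ∈ V, π v = u) :
    ∃ U₁ : U.Opens, u ∈ U₁ ∧ (∀ z : P, π z ∈ U₁ → z ∈ V) ∧
      ∀ y ∈ U₁, Scheme.Hom.finrank (V.ι ≫ π) y = 1 := by
  have hlc : IsLocallyConstant (Scheme.Hom.finrank (V.ι ≫ π)) :=
    Scheme.Hom.isLocallyConstant_finrank _
  let U₁ : U.Opens := ⟨Scheme.Hom.finrank (V.ι ≫ π) ⁻¹' {Scheme.Hom.finrank (V.ι ≫ π) u},
    hlc.isOpen_fiber _⟩
  have huU₁ : u ∈ U₁ := rfl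
  have hU₁ : ∀ y ∈ U₁, Scheme.Hom.finrank (V.ι ≫ π) y = Scheme.Hom.finrank (V.ι ≫ π) u :=
    fun y hy => hy
  -- rank at u is at least one
  have h1 : 1 ≤ Scheme.Hom.finrank (V.ι ≫ π) u := by
    obtain ⟨v, hv, hvu⟩ := hu
    have := Scheme.Hom.one_le_finrank_map (V.ι ≫ π) ⟨v, hv⟩
    have e : (V.ι ≫ π) ⟨v, hv⟩ = u := by
      rw [Scheme.Hom.comp_apply]; exact hvu
    rwa [e] at this
  -- rank at u is one
  have hru : Scheme.Hom.finrank (V.ι ≫ π) u = 1 := by
    obtain ⟨η, hηu, hηmax⟩ := exists_maximal_generization u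
    have hηU₁ : η ∈ U₁ := hηu.mem_open U₁.2 huU₁
    have := (rank_at_maximal π V η (hmax η hηmax) (by rw [hU₁ η hηU₁]; exact h1)).1
    rw [← hU₁ η hηU₁]; exact this
  -- V is closed
  haveI : UniversallyClosed V.ι := UniversallyClosed.of_comp_of_isSeparated V.ι π
  have hVcl : IsClosed (V : Set P) := by
    have := V.ι.isClosedMap.isClosed_range
    simpa using this
  refine ⟨U₁, huU₁, ?_, fun y hy => by rw [hU₁ y hy, hru]⟩
  intro z hz
  by_contra hzV
  let W : P.Opens := ⟨(V : Set P)ᶜ, hVcl.isOpen_compl⟩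
  have hWo : IsOpen (π '' (W : Set P)) := π.isOpenMap _ W.2
  obtain ⟨η, hηx, hηmax⟩ := exists_maximal_generization (π z)
  have hηU₁ : η ∈ U₁ := hηx.mem_open U₁.2 hz
  have hηW : η ∈ π '' (W : Set P) := hηx.mem_open hWo ⟨z, hzV, rfl⟩
  obtain ⟨z', hz'W, hz'⟩ := hηW
  have hoi := hmax η hηmax
  obtain ⟨-, v, hvV, hv⟩ := rank_at_maximal π V η hoi (by rw [hU₁ η hηU₁, hru])
  obtain ⟨pt⟩ : Nonempty ↥(Spec (U.residueField η)) := inferInstance
  have hpt : U.fromSpecResidueField η pt = η := Scheme.fromSpecResidueField_apply _ _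
  obtain ⟨w₁, hw₁a, hw₁b⟩ := Scheme.Pullback.exists_preimage_pullback (f := π)
    (g := U.fromSpecResidueField η) z' pt (by rw [hz', hpt])
  obtain ⟨w₂, hw₂a, hw₂b⟩ := Scheme.Pullback.exists_preimage_pullback (f := π)
    (g := U.fromSpecResidueField η) v pt (by rw [hv, hpt])
  have hinj := (pullback.snd π (U.fromSpecResidueField η)).isOpenEmbedding.injective
  have : w₁ = w₂ := hinj (hw₁b.trans hw₂b.symm)
  apply hz'W
  rw [← hw₁a, this, hw₂a]
  exact hvV

/-- Étale-locally around a point of the image, the morphism becomes an isomorphism. -/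
theorem exists_etale_isIso {T S : Scheme.{u}} (g : T ⟶ S) [LocallyQuasiFinite g]
    [LocallyOfFinitePresentation g] [QuasiCompact g] [IsSeparated g] [Flat g]
    (h : ∀ s : S, (∀ t : S, t ⤳ s → t = s) →
      IsEmpty ↑(pullback g (S.fromSpecResidueField s)) ∨
        IsIso (pullback.snd g (S.fromSpecResidueField s)))
    (t₀ : T) :
    ∃ (U : Scheme.{u}) (gU : U ⟶ S) (u : U), Etale gU ∧ gU u = g t₀ ∧
      IsIso (pullback.snd g gU) := by
  classical
  have hfin := g.finite_preimage_singleton (g t₀)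
  obtain ⟨U, gU, u, hét, hu, V, hVfin, hA, hB⟩ :=
    Groth.Agent.H1.ZSplit.exists_etale_split_finset g (g t₀) hfin.toFinset
      (fun e he => by simpa using he)
  haveI := hét
  haveI := hVfin
  have hmax : ∀ η : U, (∀ η' : U, η' ⤳ η → η' = η) →
      IsOpenImmersion (pullback.snd (pullback.snd g gU) (U.fromSpecResidueField η)) := by
    intro η hηmax
    exact isOpenImmersion_fibre_baseChange g gU η
      (isOpenImmersion_fibre_of_h g (gU η) (h (gU η) (maximal_map_of_flat gU η hηmax)))
  have hu' : ∃ v ∈ V, pullback.snd g gU v = u := by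
    obtain ⟨z, hz1, hz2⟩ := Scheme.Pullback.exists_preimage_pullback (f := g) (g := gU) t₀ u hu.symm
    exact ⟨z, hB z hz2 (by rw [hz1]; simp), hz2⟩
  obtain ⟨U₁, hu₁, hall, hrank⟩ := rank_one_nbhd (pullback.snd g gU) V hmax u hu'
  have s := IsPullback.of_hasPullback g (U₁.ι ≫ gU)
  have t := IsPullback.of_hasPullback g gU
  have sq := IsPullback.of_right' s t
  set j := t.lift (pullback.fst g (U₁.ι ≫ gU)) (pullback.snd g (U₁.ι ≫ gU) ≫ U₁.ι)
    (by rw [s.w, Category.assoc]) with hj
  have s1 := isPullback_morphismRestrict j V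
  have s3 := (s1.flip.paste_horiz sq.flip).flip
  haveI : IsFinite ((j ⁻¹ᵁ V).ι ≫ pullback.snd g (U₁.ι ≫ gU)) :=
    MorphismProperty.of_isPullback (P := @IsFinite) s3 hVfin
  have hfr : Scheme.Hom.finrank ((j ⁻¹ᵁ V).ι ≫ pullback.snd g (U₁.ι ≫ gU)) = 1 := by
    funext y
    rw [Scheme.Hom.finrank_of_isPullback _ _ _ _ s3 y]
    exact hrank _ y.2
  haveI : IsIso ((j ⁻¹ᵁ V).ι ≫ pullback.snd g (U₁.ι ≫ gU)) :=
    (Scheme.Hom.isIso_iff_finrank_eq _).2 hfr
  have hV₁ : j ⁻¹ᵁ V = ⊤ := by
    ext z₁
    simp only [Scheme.Hom.coe_preimage, Set.mem_preimage, SetLike.mem_coe,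
      TopologicalSpace.Opens.coe_top, Set.mem_univ, iff_true]
    apply hall
    have e : pullback.snd g gU (j z₁) = (j ≫ pullback.snd g gU) z₁ := by
      rw [Scheme.Hom.comp_apply]
    rw [e, sq.w, Scheme.Hom.comp_apply]
    exact (pullback.snd g (U₁.ι ≫ gU) z₁).2
  haveI : IsIso (j ⁻¹ᵁ V).ι := by
    rw [hV₁]; exact inferInstanceAs (IsIso (Scheme.topIso _).hom)
  have hiso : IsIso (pullback.snd g (U₁.ι ≫ gU)) :=
    IsIso.of_isIso_comp_left (j ⁻¹ᵁ V).ι _
  refine ⟨U₁.toScheme, U₁.ι ≫ gU, ⟨u, hu₁⟩, inferInstance, ?_, hiso⟩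
  rw [Scheme.Hom.comp_apply]
  exact hu

/-- Pointwise fppf-local descent for isomorphisms. -/
theorem isIso_of_local_covers {K T : Scheme.{u}} (q : K ⟶ T)
    (H : ∀ t : T, ∃ (P : Scheme.{u}) (e : P ⟶ T), Flat e ∧ LocallyOfFinitePresentation e ∧
      t ∈ Set.range e ∧ IsIso (pullback.snd q e)) : IsIso q := by
  choose P e hfl hfp hmem hiso using H
  let O : T → T.Opens := fun t =>
    haveI := hfl t
    haveI := hfp t
    ⟨Set.range (e t), (e t).isOpenMap.isOpen_range⟩
  have hO : iSup O = ⊤ := by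
    rw [eq_top_iff]
    intro t _
    exact TopologicalSpace.Opens.mem_iSup.2 ⟨t, hmem t⟩
  rw [← MorphismProperty.isomorphisms.iff,
    IsZariskiLocalAtTarget.iff_of_iSup_eq_top (P := MorphismProperty.isomorphisms Scheme) O hO]
  intro t
  haveI := hfl t
  haveI := hfp t
  have hU : IsOpenImmersion (O t).ι := inferInstance
  let e' : P t ⟶ (O t).toScheme := IsOpenImmersion.lift (O t).ι (e t) (by simp [O])
  have he' : e' ≫ (O t).ι = e t := IsOpenImmersion.lift_fac _ _ _
  have hflat : Flat e' :=
    MorphismProperty.of_postcomp (W := @Flat) e' (O t).ι hU (by rw [he']; infer_instance)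
  have hfinpres : LocallyOfFinitePresentation e' :=
    MorphismProperty.of_postcomp (W := @LocallyOfFinitePresentation) e' (O t).ι hU
      (by rw [he']; infer_instance)
  have hsurj : Surjective e' := ⟨fun ⟨x, ⟨y, hy⟩⟩ =>
    ⟨y, by apply (O t).ι.injective; simp [← Scheme.Hom.comp_apply, e', hy]⟩⟩
  have outer : IsPullback (pullback.fst q (e t)) (pullback.snd q (e t)) q (e' ≫ (O t).ι) := by
    rw [he']; exact IsPullback.of_hasPullback _ _
  have right : IsPullback (q ⁻¹ᵁ O t).ι (q ∣_ O t) q (O t).ι :=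
    (isPullback_morphismRestrict q (O t)).flip
  have left := IsPullback.of_right' outer right
  exact MorphismProperty.of_isPullback_of_descendsAlong
    (P := MorphismProperty.isomorphisms Scheme)
    (Q := (@Surjective ⊓ @Flat ⊓ @LocallyOfFinitePresentation : MorphismProperty Scheme))
    left.flip ⟨⟨hsurj, hflat⟩, hfinpres⟩ (hiso t)

theorem main {T S : Scheme.{u}} (g : T ⟶ S) [LocallyQuasiFinite g]
    [LocallyOfFinitePresentation g] [QuasiCompact g] [IsSeparated g] [Flat g]
    (h : ∀ s : S, (∀ t : S, t ⤳ s → t = s) →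
      IsEmpty ↑(pullback g (S.fromSpecResidueField s)) ∨
        IsIso (pullback.snd g (S.fromSpecResidueField s))) :
    IsOpenImmersion g := by
  haveI : Mono g := by
    have kp : IsKernelPair g (pullback.fst g g) (pullback.snd g g) := IsPullback.of_hasPullback g g
    haveI : IsIso (pullback.fst g g) := by
      apply isIso_of_local_covers
      intro t
      obtain ⟨U, gU, u, hét, hu, hiso⟩ := exists_etale_isIso g h t
      haveI := hét
      refine ⟨pullback g gU, pullback.fst g gU, inferInstance, inferInstance, ?_, ?_⟩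
      · obtain ⟨z, hz, -⟩ := Scheme.Pullback.exists_preimage_pullback (f := g) (g := gU) t u hu.symm
        exact ⟨z, hz⟩
      · have B := IsPullback.of_hasPullback (pullback.fst g g) (pullback.fst g gU)
        have A : IsPullback (pullback.fst g g) (pullback.snd g g) g g := IsPullback.of_hasPullback g g
        have BA := B.paste_horiz A.flip
        rw [pullback.condition] at BA
        have tt := IsPullback.of_hasPullback g gU
        have L := IsPullback.of_right' BA tt
        exact L.isIso_snd_of_isIso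
    exact kp.mono_of_isIso_fst
  exact IsOpenImmersion.of_flat_of_mono g

/-- Let g : T -> S be locally quasi-finite, of finite presentation, separated and flat. If for every
maximal point s of S (a point with no proper generization) the fibre of g over s is either empty or
mapped isomorphically onto Spec κ(s) (rank at most 1), then g is an open immersion. -/
theorem result {T S : Scheme.{u}} (g : T ⟶ S) [LocallyQuasiFinite g]
    [LocallyOfFinitePresentation g] [QuasiCompact g] [IsSeparated g] [Flat g]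
    (h : ∀ s : S, (∀ t : S, t ⤳ s → t = s) →
      IsEmpty ↑(pullback g (S.fromSpecResidueField s)) ∨ IsIso (pullback.snd g (S.fromSpecResidueField s))) :
    IsOpenImmersion g := by
  exact main g h

end Groth.Agent.S3207
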