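import Groth.Statements.S4989
import Groth.Agent.Lib.Helper24.SmoothLocalIff
-- import your own Groth.Agent.* helpers here

set_option autoImplicit false
universe u
open CategoryTheory CategoryTheory.Limits AlgebraicGeometry TopologicalSpace
open Unram17

namespace Groth.Agent.S4989

theorem red_iff (A B : Type u) [CommRing A] [CommRing B] [Algebra A B] [Algebra.Smooth A B]
    (q : Ideal B) [q.IsPrime] (p : Ideal A) [p.IsPrime] (hpq : p = q.comap (algebraMap A B)) :
    _root_.IsReduced (Localization.AtPrime p) ↔ _root_.IsReduced (Localization.AtPrime q) := by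
  subst hpq
  exact Groth.Agent.Lib.Helper24.SmoothLocalIff.isReduced_atPrime_iff_of_smooth A B q

theorem nor_iff (A B : Type u) [CommRing A] [CommRing B] [Algebra A B] [Algebra.Smooth A B]
    (q : Ideal B) [q.IsPrime] (p : Ideal A) [p.IsPrime] (hpq : p = q.comap (algebraMap A B)) :
    (IsDomain (Localization.AtPrime p) ∧ IsIntegrallyClosed (Localization.AtPrime p)) ↔
      (IsDomain (Localization.AtPrime q) ∧ IsIntegrallyClosed (Localization.AtPrime q)) := by
  subst hpq
  exact Groth.Agent.Lib.Helper24.SmoothLocalIff.isNormalDomain_atPrime_iff_of_smooth A B q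

/-- Let f : X ⟶ Y be locally of finite presentation and smooth at a point x with image y. Then the local
ring of X at x is reduced if and only if the local ring of Y at y is reduced, and it is an
integrally closed domain if and only if the local ring of Y at y is one. (The published statement
also covers geometrically unibranch local rings; this row states only the reduced and the integrally
closed cases.) -/
theorem result {X Y : Scheme.{u}} (f : X ⟶ Y)
    [LocallyOfFinitePresentation f] (x : ↥X) (hx : x ∈ f.smoothLocus) :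
    (IsReduced ↑(X.presheaf.stalk x) ↔ IsReduced ↑(Y.presheaf.stalk (f.base x))) ∧
    ((IsDomain ↑(X.presheaf.stalk x) ∧ IsIntegrallyClosed ↑(X.presheaf.stalk x)) ↔
      (IsDomain ↑(Y.presheaf.stalk (f.base x)) ∧ IsIntegrallyClosed ↑(Y.presheaf.stalk (f.base x)))) := by
  obtain ⟨U, hU, V, hV, hVU, hxV, hφ⟩ := exists_smooth_of_formallySmooth_stalk f x
    (Scheme.Hom.mem_smoothLocus.1 hx)
  algebraize [(f.appLE U V hVU).hom]
  haveI : Algebra.Smooth Γ(Y, U) Γ(X, V) := inferInstance
  let q : Ideal Γ(X, V) := (hV.primeIdealOf ⟨x, hxV⟩).asIdeal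
  let p : Ideal Γ(Y, U) := (hU.primeIdealOf ⟨f x, hVU hxV⟩).asIdeal
  have hpq : p = q.comap (algebraMap Γ(Y, U) Γ(X, V)) :=
    (congrArg PrimeSpectrum.asIdeal
      (IsAffineOpen.comap_primeIdealOf_appLE U hU V hV hVU hxV)).symm
  letI := X.presheaf.algebra_section_stalk (⟨x, hxV⟩ : V)
  letI := Y.presheaf.algebra_section_stalk (⟨f x, hVU hxV⟩ : U)
  haveI iX : IsLocalization.AtPrime (X.presheaf.stalk x) q := hV.isLocalization_stalk ⟨x, hxV⟩
  haveI iY : IsLocalization.AtPrime (Y.presheaf.stalk (f x)) p :=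
    hU.isLocalization_stalk ⟨f x, hVU hxV⟩
  let eX : Localization.AtPrime q ≃ₐ[Γ(X, V)] X.presheaf.stalk x :=
    IsLocalization.algEquiv q.primeCompl _ _
  let eY : Localization.AtPrime p ≃ₐ[Γ(Y, U)] Y.presheaf.stalk (f x) :=
    IsLocalization.algEquiv p.primeCompl _ _
  have hred := red_iff Γ(Y, U) Γ(X, V) q p hpq
  have hnor := nor_iff Γ(Y, U) Γ(X, V) q p hpq
  have tr : ∀ {R S : Type u} [CommRing R] [CommRing S] (e : R ≃+* S),
      IsReduced R → IsReduced S := fun e h =>
    isReduced_of_injective e.symm.toRingHom e.symm.injective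
  have tn : ∀ {R S : Type u} [CommRing R] [CommRing S] (e : R ≃+* S),
      (IsDomain R ∧ IsIntegrallyClosed R) → (IsDomain S ∧ IsIntegrallyClosed S) := by
    intro R S _ _ e h
    obtain ⟨hd, hic⟩ := h
    have hdS : IsDomain S := e.symm.injective.isDomain e.symm.toRingHom
    exact ⟨hdS, IsIntegrallyClosed.of_equiv e⟩
  refine ⟨⟨fun h => ?_, fun h => ?_⟩, ⟨fun h => ?_, fun h => ?_⟩⟩
  · exact tr eY.toRingEquiv (hred.2 (tr eX.symm.toRingEquiv h))
  · exact tr eX.toRingEquiv (hred.1 (tr eY.symm.toRingEquiv h))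
  · exact tn eY.toRingEquiv (hnor.2 (tn eX.symm.toRingEquiv h))
  · exact tn eX.toRingEquiv (hnor.1 (tn eY.symm.toRingEquiv h))

end Groth.Agent.S4989
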