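import Groth.Statements.S1414
import Mathlib

set_option autoImplicit false
universe u
open FlatMor

namespace Groth.Agent.S1414

open AlgebraicGeometry CategoryTheory Limits in
theorem smooth_hasOfPostcomp : MorphismProperty.HasOfPostcompProperty
    @Smooth.{u} (@LocallyOfFiniteType ⊓ @FormallyUnramified) := by
  have : MorphismProperty.IsMultiplicative @Smooth.{u} :=
    { id_mem := fun X => inferInstanceAs (Smooth (𝟙 X)) }
  rw [MorphismProperty.hasOfPostcompProperty_iff_le_diagonal]
  intro X Y f ⟨hft, hfu⟩
  have : Etale (pullback.diagonal f) := inferInstance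
  exact inferInstanceAs <| Smooth (pullback.diagonal f)

open AlgebraicGeometry CategoryTheory Limits in
/-- Let f : X → Y and g : Y → Z with f ≫ g smooth and g étale. Then f is smooth. -/
theorem result {X Y Z : Scheme.{u}} (f : X ⟶ Y) (g : Y ⟶ Z) [Smooth (f ≫ g)] [Etale g] : Smooth f := by
  have := smooth_hasOfPostcomp.{u}
  exact MorphismProperty.of_postcomp _ (W' := @LocallyOfFiniteType ⊓ @FormallyUnramified) f g
    ⟨inferInstance, inferInstance⟩ ‹_›

end Groth.Agent.S1414
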