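import Groth.Statements.S9995
import Groth.Agent.Lib.Helper5.AlgSpLqfLocus
import Groth.Agent.Lib.Helper10.AlgSpPoints

set_option autoImplicit false
universe u
open CategoryTheory CategoryTheory.Limits AlgebraicGeometry
open AlgSp

namespace Groth.Agent.S9995

open Groth.Agent.Lib.helper5 Groth.Agent.Lib.helper5.NearLocus Groth.Agent.Lib.helper5.LqfLocus

theorem isOpen_singleton_of_nearAt {U V : Scheme.{u}} (h : U ⟶ V) [LocallyOfFiniteType h] (v : V) (u : U)
    (huv : h u = v) (hu : NearAt Plqf U V h u) :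
    IsOpen ({(h.fiberHomeo v).symm ⟨u, huv⟩} : Set (h.fiber v)) := by
  subst huv
  obtain ⟨W, huW, hW⟩ := hu
  haveI : LocallyQuasiFinite (W.ι ≫ h) := hW.1
  have h1 : (W.ι ≫ h).QuasiFiniteAt ⟨u, huW⟩ := (W.ι ≫ h).quasiFiniteAt _
  have h2 : h.QuasiFiniteAt u := Scheme.Hom.quasiFiniteAt_comp_iff_of_isOpenImmersion.1 h1
  exact Scheme.Hom.quasiFiniteAt_iff_isOpen_singleton_asFiber.1 h2

theorem finite_nearLqf {U V : Scheme.{u}} (h : U ⟶ V) [LocallyOfFiniteType h] [QuasiCompact h] (v : V) :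
    {u : U | h u = v ∧ NearAt Plqf U V h u}.Finite := by
  haveI : IsLocallyNoetherian (h.fiber v) :=
    inferInstanceAs (IsLocallyNoetherian (pullback h (V.fromSpecResidueField v)))
  haveI : IsNoetherian (h.fiber v) := {}
  let I : Set (h.fiber v) := {z | IsOpen ({z} : Set (h.fiber v))}
  have hI : I.Finite := by
    have hc : IsCompact I := TopologicalSpace.NoetherianSpace.isCompact I
    have hd : DiscreteTopology I := by
      rw [discreteTopology_iff_isOpen_singleton]
      intro z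
      have : ({z} : Set I) = Subtype.val ⁻¹' ({z.1} : Set (h.fiber v)) := by
        ext w
        simp [Subtype.ext_iff]
      rw [this]
      exact z.2.preimage continuous_subtype_val
    exact hc.finite (isDiscrete_iff_discreteTopology.2 hd)
  refine (hI.image (h.fiberι v)).subset ?_
  rintro u ⟨huv, hu⟩
  exact ⟨(h.fiberHomeo v).symm ⟨u, huv⟩, isOpen_singleton_of_nearAt h v u huv hu,
    h.fiberι_fiberHomeo_symm v _⟩

theorem isQuasiCompactSp_yon {S : Scheme.{u}} (V : Over S) [CompactSpace V.left] :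
    IsQuasiCompactSp ((yon S).obj V) :=
  ⟨V, 𝟙 _, repWith_id @Etale V, repWith_id @Surjective V, inferInstance⟩

theorem main {S : Scheme.{u}} {X Y : AlgSp.Space S} (f : X ⟶ Y)
    (hf : AlgSp.IsFiniteTypeMor f.hom) (y : AlgSp.Points Y.obj) :
    {x : AlgSp.Points X.obj | AlgSp.Points.map f.hom x = y ∧
      HasAtMor (NearAt Plqf) f.hom x}.Finite := by
  obtain ⟨hlft, hqc⟩ := hf
  obtain ⟨V₀, b₀, hb₀e, hb₀s⟩ := Y.property.atlas
  obtain ⟨v₀, rfl⟩ := Groth.Agent.Lib.helper11.surjective_ofPt b₀ hb₀s y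
  obtain ⟨_, ⟨O, hO, rfl⟩, hvO, -⟩ := V₀.left.isBasis_affineOpens.exists_subset_of_mem_open
    (Set.mem_univ v₀) isOpen_univ
  let V : Over S := OpenSub.subOver V₀ O
  haveI : IsAffine V.left := hO
  let b : (yon S).obj V ⟶ Y.obj := (yon S).map (OpenSub.subOverι V₀ O) ≫ b₀
  have hbe : RepWith @Etale b :=
    (RepWith (S := S) @Etale).comp_mem _ _
      ((repWith_yon_map_iff @Etale _).2 (inferInstanceAs (Etale (Scheme.Opens.ι O)))) hb₀e
  let v : V.left := ⟨v₀, hvO⟩
  have hv : Points.ofPt b v = Points.ofPt b₀ v₀ := by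
    show Points.ofPt ((yon S).map (OpenSub.subOverι V₀ O) ≫ b₀) v = _
    rw [Groth.Agent.Lib.helper11.ofPt_yon_map_comp]
    rfl
  have sq : IsPullback (pullback.fst f.hom b) (pullback.snd f.hom b) f.hom b :=
    IsPullback.of_hasPullback _ _
  have hXV : IsAlgSpace (pullback f.hom b) :=
    isAlgSpace_of_isPullback Y.property.diag X.property (IsAlgSpace.yon_obj V) sq
  have hqcV : IsQuasiCompactSp (pullback f.hom b) :=
    hqc (IsAlgSpace.yon_obj V) (isQuasiCompactSp_yon V) b _ _ sq
  obtain ⟨U, c, hce, hcs, hUc⟩ := hqcV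
  obtain ⟨h, hh⟩ := (yon S).map_surjective (c ≫ pullback.snd f.hom b)
  have hlftV : LocP @LocallyOfFiniteType (pullback.snd f.hom b) :=
    LocPBC.locP_of_isPullback LocPBC.locPData_lft X.property Y.property (IsAlgSpace.yon_obj V) sq hlft
  have hcomm : c ≫ pullback.snd f.hom b = (yon S).map h ≫ 𝟙 _ := by rw [Category.comp_id, hh]
  haveI : LocallyOfFiniteType h.left := hlftV c (𝟙 _) h hce (repWith_id @Etale V) hcomm
  haveI : CompactSpace U.left := hUc
  haveI : QuasiCompact h.left :=
    (HasAffineProperty.iff_of_isAffine (P := @QuasiCompact)).2 (inferInstance : CompactSpace U.left)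
  have hB := finite_nearLqf h.left v
  refine (hB.image (fun u => Points.map (pullback.fst f.hom b) (Points.ofPt c u))).subset ?_
  rintro x ⟨hxy, hx⟩
  obtain ⟨x', hx'1, hx'2⟩ := Groth.Agent.Lib.helper10.exists_point_of_isPullback sq x
    (Points.ofScheme V v) (by rw [hxy, ← Points.ofPt_eq_map_ofScheme, hv])
  obtain ⟨u, rfl⟩ := Groth.Agent.Lib.helper11.surjective_ofPt c hcs x'
  refine ⟨u, ⟨?_, ?_⟩, hx'1⟩
  · have h1 : Points.ofScheme V (h.left u) = Points.ofScheme V v := by
      rw [← Groth.Agent.Lib.helper11.ofPt_yon_map, hh, ← Points.map_ofPt]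
      exact hx'2
    exact (Points.schemeEquiv V).injective h1
  · have h1 : HasAtMor (NearAt Plqf) (pullback.snd f.hom b) (Points.ofPt c u) :=
      (lqfLocus_baseChange X.property Y.property (IsAlgSpace.yon_obj V) sq hlft _).2 (by
        rw [hx'1]; exact hx)
    exact locPAt_nearAt_of_hasAtMor etLocal_lqf _ _ h1 c (𝟙 _) h u hce (repWith_id @Etale V) hcomm rfl

/-- For a morphism f : X ⟶ Y of algebraic spaces of finite type and a point y of |Y|, the set of points
of |X| over y where f is quasi-finite is finite (in the neighbourhood sense, through some chart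
diagram). -/
theorem result {S : Scheme.{u}} {X Y : AlgSp.Space S} (f : X ⟶ Y)
    (hf : AlgSp.IsFiniteTypeMor f.hom) (y : AlgSp.Points Y.obj) :
    {x : AlgSp.Points X.obj | AlgSp.Points.map f.hom x = y ∧
      AlgSp.HasAtMor (fun U _ h u => ∃ W : U.Opens, u ∈ W ∧ LocallyQuasiFinite (W.ι ≫ h) ∧
        LocallyOfFiniteType (W.ι ≫ h)) f.hom x}.Finite := by
  exact main f hf y

end Groth.Agent.S9995
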