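import Groth.Statements.S10399
import Groth.Agent.Lib.Helper1.GenFinF
import Groth.Agent.S9995
import Groth.Agent.S3207

set_option autoImplicit false
universe u
open CategoryTheory CategoryTheory.Limits AlgebraicGeometry Topology TopologicalSpace
open AlgSp

namespace Groth.Agent.S10399

open Groth.Agent.Lib.helper5 Groth.Agent.Lib.helper5.NearLocus Groth.Agent.Lib.helper5.LqfLocus
open Groth.Agent.H1.GenFin

/-- Codimension zero at a point can be tested on any étale chart through the point. -/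
theorem hasAt_dimZero_iff_chart {S : Scheme.{u}} {X : Sp S} (hX : IsAlgSpace X) {U : Over S}
    (a : (yon S).obj U ⟶ X) (hae : RepWith @Etale a) (u : ↥U.left) :
    HasAt (fun U u => ringKrullDim ↥(U.presheaf.stalk u) = 0) X (Points.ofPt a u) ↔
      ringKrullDim ↥(U.left.presheaf.stalk u) = 0 := by
  constructor
  · rintro ⟨U₁, a₁, u₁, ha₁e, hpt, hP⟩
    obtain ⟨E, snd, fst', sqE⟩ := hX.representable_from_yon a a₁
    obtain ⟨φ, rfl⟩ := (yon S).map_surjective fst'
    obtain ⟨e, he1, he2⟩ := Groth.Agent.Lib.helper11.exists_of_isPullback_schemes sqE u u₁ hpt.symm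
    haveI : Etale snd.left := hae.2 a₁ _ snd sqE
    haveI : Etale φ.left := ha₁e.2 a _ φ sqE.flip
    rw [← he1, ← dim_zero_iff_of_etale φ.left e, dim_zero_iff_of_etale snd.left e, he2]
    exact hP
  · intro h
    exact ⟨U, a, u, hae, rfl, h⟩

theorem main {S : Scheme.{u}} {X Y : AlgSp.Space S} (f : X ⟶ Y)
    (hf : AlgSp.LocP @LocallyOfFiniteType f.hom) (y : AlgSp.Points Y.obj)
    (hy : AlgSp.HasAt (fun U u => ringKrullDim ↥(U.presheaf.stalk u) = 0) Y.obj y) :
    ((∀ x : AlgSp.Points X.obj, AlgSp.Points.map f.hom x = y →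
        AlgSp.HasAt (fun U u => ringKrullDim ↥(U.presheaf.stalk u) = 0) X.obj x) ↔
        (∀ x : AlgSp.Points X.obj, AlgSp.Points.map f.hom x = y →
          HasAtMor (NearAt Plqf) f.hom x)) ∧
      ((∀ x : AlgSp.Points X.obj, AlgSp.Points.map f.hom x = y →
          AlgSp.HasAt (fun U u => ringKrullDim ↥(U.presheaf.stalk u) = 0) X.obj x →
          HasAtMor (NearAt Plqf) f.hom x) →
        ∀ x : AlgSp.Points X.obj, AlgSp.Points.map f.hom x = y →
          AlgSp.HasAt (fun U u => ringKrullDim ↥(U.presheaf.stalk u) = 0) X.obj x) := by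
  obtain ⟨V, b, v, hbe, rfl, hdim⟩ := hy
  have hvmax := maximal_of_dim_zero v hdim
  have sq : IsPullback (pullback.fst f.hom b) (pullback.snd f.hom b) f.hom b :=
    IsPullback.of_hasPullback _ _
  have hZ : IsAlgSpace (pullback f.hom b) :=
    isAlgSpace_of_isPullback Y.property.diag X.property (IsAlgSpace.yon_obj V) sq
  have hlftV : LocP @LocallyOfFiniteType (pullback.snd f.hom b) :=
    LocPBC.locP_of_isPullback LocPBC.locPData_lft X.property Y.property (IsAlgSpace.yon_obj V) sq hf
  have hfste : RepWith @Etale (pullback.fst f.hom b) :=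
    (repWith_isStableUnderBaseChange (S := S) @Etale).of_isPullback sq.flip hbe
  -- properties of a chart of `Z`
  have key : ∀ (U : Over S) (c : (yon S).obj U ⟶ pullback f.hom b) (h : U ⟶ V),
      RepWith @Etale c → (yon S).map h = c ≫ pullback.snd f.hom b →
      LocallyOfFiniteType h.left ∧
      (∀ u : ↥U.left, HasAt (fun U u => ringKrullDim ↥(U.presheaf.stalk u) = 0) X.obj
        (Points.ofPt (c ≫ pullback.fst f.hom b) u) ↔ ringKrullDim ↥(U.left.presheaf.stalk u) = 0) ∧
      (∀ u : ↥U.left, Points.map f.hom (Points.ofPt (c ≫ pullback.fst f.hom b) u) =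
        Points.ofPt b (h.left u)) ∧
      (∀ u : ↥U.left, HasAtMor (NearAt Plqf) f.hom (Points.ofPt (c ≫ pullback.fst f.hom b) u) ↔
        h.left.QuasiFiniteAt u) := by
    intro U c h hce hh
    have hcomm : c ≫ pullback.snd f.hom b = (yon S).map h ≫ 𝟙 _ := by rw [Category.comp_id, hh]
    haveI hlft : LocallyOfFiniteType h.left := hlftV c (𝟙 _) h hce (repWith_id @Etale V) hcomm
    have hae : RepWith @Etale (c ≫ pullback.fst f.hom b) :=
      (RepWith (S := S) @Etale).comp_mem _ _ hce hfste
    have hw : (c ≫ pullback.fst f.hom b) ≫ f.hom = (yon S).map h ≫ b := by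
      rw [Category.assoc, sq.w, ← Category.assoc, hh]
    refine ⟨hlft, fun u => hasAt_dimZero_iff_chart X.property _ hae u, fun u => ?_, fun u => ?_⟩
    · rw [Points.map_ofPt, hw, Groth.Agent.Lib.helper11.ofPt_yon_map_comp]
    · constructor
      · intro hx
        have h1 : HasAtMor (NearAt Plqf) (pullback.snd f.hom b) (Points.ofPt c u) :=
          (lqfLocus_baseChange X.property Y.property (IsAlgSpace.yon_obj V) sq hf _).2 hx
        have h2 : NearAt Plqf U.left V.left h.left u :=
          locPAt_nearAt_of_hasAtMor etLocal_lqf _ _ h1 c (𝟙 _) h u hce (repWith_id @Etale V)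
            hcomm rfl
        obtain ⟨O', hwO', hO'⟩ := h2
        haveI : LocallyQuasiFinite (O'.ι ≫ h.left) := hO'.1
        have h3 : (O'.ι ≫ h.left).QuasiFiniteAt ⟨u, hwO'⟩ := (O'.ι ≫ h.left).quasiFiniteAt _
        exact Scheme.Hom.quasiFiniteAt_comp_iff_of_isOpenImmersion.1 h3
      · intro hq
        refine ⟨U, V, c ≫ pullback.fst f.hom b, b, h, u, hae, hbe, hw, rfl, ?_⟩
        exact ⟨h.left.quasiFiniteLocus, hq, inferInstance, inferInstance⟩
  -- existence of a chart through a point over `y`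
  have chart : ∀ x : Points X.obj, Points.map f.hom x = Points.ofPt b v →
      ∃ (U : Over S) (c : (yon S).obj U ⟶ pullback f.hom b) (h : U ⟶ V) (u : ↥U.left),
        RepWith @Etale c ∧ (yon S).map h = c ≫ pullback.snd f.hom b ∧
        Points.ofPt (c ≫ pullback.fst f.hom b) u = x ∧ h.left u = v := by
    intro x hx
    obtain ⟨z, hz1, hz2⟩ := Groth.Agent.Lib.helper10.exists_point_of_isPullback sq x
      (Points.ofScheme V v) (by rw [hx, ← Points.ofPt_eq_map_ofScheme])
    obtain ⟨U, c, u, hce, -, hu⟩ := Groth.Agent.Lib.helper11.exists_chart_ofPt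
      (⟨pullback f.hom b, hZ⟩ : Space S) z
    obtain ⟨h, hh⟩ := (yon S).map_surjective (c ≫ pullback.snd f.hom b)
    refine ⟨U, c, h, u, hce, hh, ?_, ?_⟩
    · rw [← Points.map_ofPt, hu, hz1]
    · have h1 : Points.ofScheme V (h.left u) = Points.ofScheme V v := by
        rw [← Groth.Agent.Lib.helper11.ofPt_yon_map, hh, ← Points.map_ofPt, hu]
        exact hz2
      exact (Points.schemeEquiv V).injective h1
  refine ⟨⟨fun H1 x hx => ?_, fun H2 x hx => ?_⟩, fun H3 x hx => ?_⟩
  · obtain ⟨U, c, h, u, hce, hh, rfl, hu⟩ := chart x hx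
    obtain ⟨hlft, k1, k2, k3⟩ := key U c h hce hh
    rw [k3]
    apply quasiFiniteAt_of_fibre_t1
    intro z z' hz hz' hs
    have hz'v : h.left z' = v := by rw [hz', hu]
    have hmax : ringKrullDim ↥(U.left.presheaf.stalk z') = 0 :=
      (k1 z').1 (H1 _ (by rw [k2, hz'v]))
    exact maximal_of_dim_zero z' hmax z hs
  · obtain ⟨U, c, h, u, hce, hh, rfl, hu⟩ := chart x hx
    obtain ⟨hlft, k1, k2, k3⟩ := key U c h hce hh
    rw [k1, dim_zero_iff_maximal]
    have hq := (k3 u).1 (H2 _ hx)
    intro u' hs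
    have hu' : h.left u' = h.left u := by
      rw [hu]; exact hvmax _ (hu ▸ hs.map h.left.continuous)
    exact eq_of_specializes_of_quasiFiniteAt h.left u u' hq hs hu'
  · obtain ⟨U, c, h, u, hce, hh, rfl, hu⟩ := chart x hx
    obtain ⟨hlft, k1, k2, k3⟩ := key U c h hce hh
    rw [k1]
    obtain ⟨u', hs, hmax⟩ := Groth.Agent.S3207.exists_maximal_generization u
    have hu' : h.left u' = v := hvmax _ (hu ▸ hs.map h.left.continuous)
    have hx' : Points.map f.hom (Points.ofPt (c ≫ pullback.fst f.hom b) u') = Points.ofPt b v := by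
      rw [k2, hu']
    have hd' : ringKrullDim ↥(U.left.presheaf.stalk u') = 0 := dim_zero_of_maximal u' hmax
    have hq' := (k3 u').1 (H3 _ hx' ((k1 u').2 hd'))
    have : u = u' := eq_of_specializes_of_quasiFiniteAt' h.left u u' hq' hs (by rw [hu, hu'])
    rw [this]; exact hd'

/-- Let f : X ⟶ Y be a morphism locally of finite type of algebraic spaces over a scheme S and y a
codimension 0 point of Y. The following are equivalent: (1) every point of |X| over y has
codimension 0 on X; (2) f is quasi-finite at all points over y; (3) f is quasi-finite at all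
codimension 0 points of X over y. Stated as (1) ⇔ (2) together with (3) ⇒ (1). -/
theorem result {S : Scheme.{u}} {X Y : AlgSp.Space S} (f : X ⟶ Y)
    (hf : AlgSp.LocP @LocallyOfFiniteType f.hom) (y : AlgSp.Points Y.obj) (hy : AlgSp.HasAt (fun U u => ringKrullDim ↥(U.presheaf.stalk u) = 0) Y.obj y) :
    ((∀ x : AlgSp.Points X.obj, AlgSp.Points.map f.hom x = y → AlgSp.HasAt (fun U u => ringKrullDim ↥(U.presheaf.stalk u) = 0) X.obj x) ↔
        (∀ x : AlgSp.Points X.obj, AlgSp.Points.map f.hom x = y → AlgSp.HasAtMor (fun U _ h u => ∃ W : U.Opens, u ∈ W ∧ LocallyQuasiFinite (W.ι ≫ h) ∧ LocallyOfFiniteType (W.ι ≫ h)) f.hom x)) ∧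
      ((∀ x : AlgSp.Points X.obj, AlgSp.Points.map f.hom x = y → AlgSp.HasAt (fun U u => ringKrullDim ↥(U.presheaf.stalk u) = 0) X.obj x → AlgSp.HasAtMor (fun U _ h u => ∃ W : U.Opens, u ∈ W ∧ LocallyQuasiFinite (W.ι ≫ h) ∧ LocallyOfFiniteType (W.ι ≫ h)) f.hom x) →
        ∀ x : AlgSp.Points X.obj, AlgSp.Points.map f.hom x = y → AlgSp.HasAt (fun U u => ringKrullDim ↥(U.presheaf.stalk u) = 0) X.obj x) := by
  exact main f hf y hy

end Groth.Agent.S10399
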