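import Groth.Statements.S10197
import Groth.Agent.Lib.Helper1.QGlue
import Groth.Agent.Lib.Helper11.AlgSpBasic

set_option autoImplicit false
universe u
open CategoryTheory CategoryTheory.Limits AlgebraicGeometry Topology TopologicalSpace
open AlgSp

namespace Groth.Agent.S10197

open Groth.Agent.H1.QGlue Groth.Agent.Lib.helper5 Groth.Agent.Lib.helper11

variable {S : Scheme.{u}}

/-- The schematic locus: a representable open subspace containing (the points of) every representable
open subspace. -/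
theorem exists_schematicLocus (X : Space S) :
    ∃ (G₀ : Over S) (α : (yon S).obj G₀ ⟶ X.obj), RepWith @IsOpenImmersion α ∧
      ∀ (W : Over S) (b : (yon S).obj W ⟶ X.obj), RepWith @IsOpenImmersion b →
        Set.range (Points.map b) ⊆ Set.range (Points.map α) := by
  obtain ⟨U₀, p, hpe, hps⟩ := X.property.atlas
  let Good : ↥U₀.left → Prop := fun u => ∃ (W : Over S) (b : (yon S).obj W ⟶ X.obj),
    RepWith @IsOpenImmersion b ∧ Points.ofPt p u ∈ Set.range (Points.map b)
  have hch : ∀ i : {u // Good u}, ∃ (W : Over S) (b : (yon S).obj W ⟶ X.obj),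
    RepWith @IsOpenImmersion b ∧ Points.ofPt p i.1 ∈ Set.range (Points.map b) := fun i => i.2
  choose W b hb hub using hch
  obtain ⟨G₀, α, g, hα, hgα, -, -, hrange⟩ := exists_rep_union X.property b hb
  refine ⟨G₀, α, hα, ?_⟩
  intro W' b' hb'
  rintro _ ⟨x', rfl⟩
  obtain ⟨u, hu⟩ := surjective_ofPt p hps (Points.map b' x')
  have hgood : Good u := ⟨W', b', hb', by rw [hu]; exact ⟨x', rfl⟩⟩
  rw [hrange, ← hu]
  exact Set.mem_iUnion.2 ⟨⟨u, hgood⟩, hub ⟨u, hgood⟩⟩

theorem main (X : AlgSp.Space S) :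
    ∃ (X' : AlgSp.Space S) (j : X' ⟶ X), AlgSp.RepWith @IsOpenImmersion j.hom ∧ X'.obj.obj.IsRepresentable ∧
      ∀ (X'' : AlgSp.Space S) (j'' : X'' ⟶ X), AlgSp.RepWith @IsOpenImmersion j''.hom →
        X''.obj.obj.IsRepresentable → ∃ k : X'' ⟶ X', k ≫ j = j'' := by
  obtain ⟨G₀, α, hα, hmax⟩ := exists_schematicLocus X
  refine ⟨⟨(yon S).obj G₀, IsAlgSpace.yon_obj G₀⟩, ObjectProperty.homMk α, hα,
    (representableByOfIso (Iso.refl _)).isRepresentable, ?_⟩
  intro X'' j'' hj'' hrep''
  obtain ⟨M, ⟨r⟩⟩ := hrep''.has_representation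
  have h1 : Set.range (Points.map j''.hom) ⊆ Set.range (Points.map α) := by
    have h2 := hmax M ((isoOfRepresentableBy r).hom ≫ j''.hom)
      (MorphismProperty.RespectsIso.precomp _ _ _ hj'')
    rintro _ ⟨x'', rfl⟩
    apply h2
    refine ⟨Points.map (isoOfRepresentableBy r).inv x'', ?_⟩
    rw [← Points.map_comp, Iso.inv_hom_id_assoc]
  obtain ⟨k, hk⟩ := (OpenSub.factors_iff α hα j''.hom).2 h1
  exact ⟨ObjectProperty.homMk k, ObjectProperty.hom_ext _ hk⟩

/-- An algebraic space X over a scheme S has a largest open subspace which is a scheme: there is an open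
subspace X' ⟶ X whose underlying sheaf is representable by a scheme over S, through which every open
subspace of X with representable underlying sheaf factors. -/
theorem result {S : Scheme.{u}} (X : AlgSp.Space S) :
    ∃ (X' : AlgSp.Space S) (j : X' ⟶ X), AlgSp.RepWith @IsOpenImmersion j.hom ∧ X'.obj.obj.IsRepresentable ∧
      ∀ (X'' : AlgSp.Space S) (j'' : X'' ⟶ X), AlgSp.RepWith @IsOpenImmersion j''.hom →
        X''.obj.obj.IsRepresentable → ∃ k : X'' ⟶ X', k ≫ j = j'' := by
  exact main X

end Groth.Agent.S10197
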