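import Groth.Statements.S10204
import Groth.Agent.S10197
import Groth.Agent.Lib.Helper1.QuotFin
import Groth.Agent.Lib.Helper1.DimZeroAffine
import Groth.Agent.Lib.Helper1.GenFinJ

set_option autoImplicit false
universe u
open CategoryTheory CategoryTheory.Limits AlgebraicGeometry Topology TopologicalSpace
open AlgSp

namespace Groth.Agent.S10204

open Groth.Agent.H1.QuotFin Groth.Agent.H1.GenFin Groth.Agent.H1.DimZeroAffine
  Groth.Agent.Lib.helper5 Groth.Agent.Lib.helper11

variable {S : Scheme.{u}}

/-- The schematic locus contains every point with a representable open neighbourhood. -/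
theorem exists_schematicLocus' (X : Space S) :
    ∃ (X' : Space S) (j : X' ⟶ X), RepWith @IsOpenImmersion j.hom ∧ X'.obj.obj.IsRepresentable ∧
      ∀ (X'' : Space S) (j'' : X'' ⟶ X), RepWith @IsOpenImmersion j''.hom →
        X''.obj.obj.IsRepresentable →
        Set.range (Points.map j''.hom) ⊆ Set.range (Points.map j.hom) := by
  obtain ⟨X', j, hj, hrep, hmax⟩ := Groth.Agent.S10197.main X
  refine ⟨X', j, hj, hrep, ?_⟩
  intro X'' j'' hj'' hrep''
  obtain ⟨k, hk⟩ := hmax X'' j'' hj'' hrep''
  rintro _ ⟨x, rfl⟩
  refine ⟨Points.map k.hom x, ?_⟩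
  rw [← Points.map_comp]
  exact congrArg (fun φ => Points.map φ x) (congrArg (fun φ => φ.hom) hk)

/-- If every codimension zero point has a representable open neighbourhood, the schematic locus is
dense and contains all codimension zero points. -/
theorem exists_dense_of_dimZero (X : Space S)
    (h : ∀ x : Points X.obj, HasAt D0 X.obj x → ∃ (X'' : Space S) (j'' : X'' ⟶ X),
      RepWith @IsOpenImmersion j''.hom ∧ X''.obj.obj.IsRepresentable ∧
        x ∈ Set.range (Points.map j''.hom)) :
    ∃ (X' : Space S) (j : X' ⟶ X), RepWith @IsOpenImmersion j.hom ∧ X'.obj.obj.IsRepresentable ∧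
      Dense (Set.range (Points.map j.hom)) ∧
      ∀ x : Points X.obj, HasAt D0 X.obj x → x ∈ Set.range (Points.map j.hom) := by
  obtain ⟨X', j, hj, hrep, hmax⟩ := exists_schematicLocus' X
  have h0 : ∀ x : Points X.obj, HasAt D0 X.obj x → x ∈ Set.range (Points.map j.hom) := by
    intro x hx
    obtain ⟨X'', j'', hj'', hrep'', hx''⟩ := h x hx
    exact hmax X'' j'' hj'' hrep'' hx''
  exact ⟨X', j, hj, hrep, (dense_dimZero X.property).mono h0, h0⟩

theorem main (X : AlgSp.Space S) {U : Over S}
    (a : (AlgSp.yon S).obj U ⟶ X.obj) (hf : AlgSp.RepWith @IsFinite a) (he : AlgSp.RepWith @Etale a)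
    (hs : AlgSp.RepWith @Surjective a) [QuasiSeparatedSpace ↥U.left] :
    ∃ (X' : AlgSp.Space S) (j : X' ⟶ X), AlgSp.RepWith @IsOpenImmersion j.hom ∧ X'.obj.obj.IsRepresentable ∧
      Dense (Set.range (AlgSp.Points.map j.hom)) ∧
      ∀ x : AlgSp.Points X.obj, AlgSp.HasAt (fun U u => ringKrullDim ↥(U.presheaf.stalk u) = 0) X.obj x →
        x ∈ Set.range (AlgSp.Points.map j.hom) := by
  have hfl : RepWith finLocFree a := ⟨hf.rep, fun _ _ g fst snd h => by
    have h1 : IsFinite snd.left := hf.property g fst snd h
    have h2 : Etale snd.left := he.property g fst snd h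
    exact ⟨h1, (inferInstance : Flat snd.left), (inferInstance : LocallyOfFinitePresentation snd.left)⟩⟩
  refine exists_dense_of_dimZero X ?_
  intro x hx
  have hF : {u : ↥U.left | Points.ofPt a u = x}.Finite := by
    obtain ⟨u₀, rfl⟩ := surjective_ofPt a hs x
    exact finite_fibre_ofPt a hf u₀
  obtain ⟨W, hW, hFW⟩ := exists_affineOpen_of_finite_dimZero _ hF (by
    rintro u rfl
    exact (Groth.Agent.S10399.hasAt_dimZero_iff_chart X.property a he u).1 hx)
  exact exists_open_representable X a hfl hs x W hW (fun u hu => hFW hu)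

/-- Let X be an algebraic space over a scheme S that admits a map h_U ⟶ X from a quasi-separated scheme
U which is representable finite, etale and surjective. Then X contains an open subspace X' ⟶ X that
is a scheme (its underlying sheaf is representable), whose points form a dense subset of |X| that
includes every codimension 0 point of X (every point x of |X| such that some etale chart h_V ⟶ X and
some point v of V over x have a zero-dimensional local ring O_{V,v}). -/
theorem result {S : Scheme.{u}} (X : AlgSp.Space S) {U : Over S}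
    (a : (AlgSp.yon S).obj U ⟶ X.obj) (hf : AlgSp.RepWith @IsFinite a) (he : AlgSp.RepWith @Etale a)
    (hs : AlgSp.RepWith @Surjective a) [QuasiSeparatedSpace ↥U.left] :
    ∃ (X' : AlgSp.Space S) (j : X' ⟶ X), AlgSp.RepWith @IsOpenImmersion j.hom ∧ X'.obj.obj.IsRepresentable ∧
      Dense (Set.range (AlgSp.Points.map j.hom)) ∧
      ∀ x : AlgSp.Points X.obj, AlgSp.HasAt (fun U u => ringKrullDim ↥(U.presheaf.stalk u) = 0) X.obj x →
        x ∈ Set.range (AlgSp.Points.map j.hom) := by
  exact main X a hf he hs

end Groth.Agent.S10204
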