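import Groth.Statements.S10267
import Groth.Agent.Lib.Helper1.ZarRep
import Mathlib.AlgebraicGeometry.Morphisms.Integral
import Mathlib.AlgebraicGeometry.Morphisms.Finite

set_option autoImplicit false
universe u
open CategoryTheory CategoryTheory.Limits AlgebraicGeometry
open AlgSp

namespace Groth.Agent.S10267

variable {S : Scheme.{u}}

theorem integral_iff {F G : Sp S} (f : F ⟶ G) :
    AlgSp.IsIntegralMor f ↔ AlgSp.RepWith @IsIntegralHom f := by
  constructor
  · intro hf
    apply Groth.Agent.H1.ZarRep.repWith_of_affine f @IsIntegralHom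
    intro Z hZ g
    obtain ⟨W, i, fst, sq, -, hi⟩ := hf hZ g
    exact ⟨W, i, fst, sq, hi⟩
  · intro hf Z hZ g
    obtain ⟨W, i, fst, sq⟩ := hf.1 g
    have hi : IsIntegralHom i.left := hf.2 _ _ _ sq
    have : IsAffine Z.left := hZ
    exact ⟨W, i, fst, sq, isAffine_of_isAffineHom i.left, hi⟩

theorem finite_iff {F G : Sp S} (f : F ⟶ G) :
    AlgSp.IsFiniteMor f ↔ AlgSp.RepWith @IsFinite f := by
  constructor
  · intro hf
    apply Groth.Agent.H1.ZarRep.repWith_of_affine f @IsFinite
    intro Z hZ g
    obtain ⟨W, i, fst, sq, -, hi⟩ := hf hZ g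
    exact ⟨W, i, fst, sq, hi⟩
  · intro hf Z hZ g
    obtain ⟨W, i, fst, sq⟩ := hf.1 g
    have hi : IsFinite i.left := hf.2 _ _ _ sq
    have : IsAffine Z.left := hZ
    exact ⟨W, i, fst, sq, isAffine_of_isAffineHom i.left, hi⟩

/-- (1) ⇔ (2): a morphism of algebraic spaces is integral (resp. finite), tested on affine schemes over
the target, if and only if it is representable with integral (resp. finite) base changes to all
schemes. -/
theorem result {S : Scheme.{u}} {X Y : AlgSp.Space S} (f : X ⟶ Y) :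
    (AlgSp.IsIntegralMor f.hom ↔ AlgSp.RepWith @IsIntegralHom f.hom) ∧
    (AlgSp.IsFiniteMor f.hom ↔ AlgSp.RepWith @IsFinite f.hom) := by
  exact ⟨integral_iff f.hom, finite_iff f.hom⟩

end Groth.Agent.S10267
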