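import Groth.Statements.S9889
import Mathlib

set_option autoImplicit false
universe u
open CategoryTheory CategoryTheory.Limits AlgebraicGeometry
open AlgSp

namespace Groth.Agent.S9889

section sch

variable {S : Scheme.{u}} {U : Over S} {G : Type u} (c : Cofan (fun _ : G => U)) (hc : IsColimit c)

/-- the underlying scheme of the coproduct is the coproduct of the underlying schemes -/
noncomputable def hcL : IsColimit (Cofan.mk c.pt.left (fun g => (c.inj g).left) : Cofan (fun _ : G => U.left)) := by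
  have hc' : IsColimit (Cofan.mk c.pt c.inj) :=
    IsColimit.ofIsoColimit hc (Cofan.ext (Iso.refl _) (by intro g; simp))
  exact isColimitCofanMkObjOfIsColimit (Over.forget S) _ _ hc'

noncomputable def eL : c.pt.left ≅ ∐ (fun _ : G => U.left) :=
  (hcL c hc).coconePointUniqueUpToIso (coproductIsCoproduct _)

theorem inj_eL (g : G) : (c.inj g).left ≫ (eL c hc).hom = Sigma.ι (fun _ : G => U.left) g :=
  (hcL c hc).comp_coconePointUniqueUpToIso_hom (coproductIsCoproduct _) ⟨g⟩

include hc in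
theorem isOpenImmersion_inj (g : G) : IsOpenImmersion (c.inj g).left := by
  have h : (c.inj g).left = Sigma.ι (fun _ : G => U.left) g ≫ (eL c hc).inv := by
    rw [← inj_eL c hc g, Category.assoc, Iso.hom_inv_id, Category.comp_id]
  rw [h]
  infer_instance

include hc in
theorem exists_mem_range_inj (x : ↥c.pt.left) : ∃ g, x ∈ Set.range (c.inj g).left := by
  obtain ⟨g', y', hy'⟩ := (sigmaOpenCover (fun _ : G => U.left)).exists_eq ((eL c hc).hom x)
  let g : G := g'
  let y : ↥U.left := y'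
  have hy : (Sigma.ι (fun _ : G => U.left) g) y = (eL c hc).hom x := hy'
  refine ⟨g, y, ?_⟩
  have h1 : ((c.inj g).left ≫ (eL c hc).hom ≫ (eL c hc).inv) y = ((eL c hc).hom ≫ (eL c hc).inv) x := by
    rw [← Category.assoc, inj_eL, Scheme.Hom.comp_apply, Scheme.Hom.comp_apply, hy]
  rw [Iso.hom_inv_id, Category.comp_id] at h1
  exact h1

end sch

section free

variable {S : Scheme.{u}} {U : Over S} {G : Type u} [Group G] (ρ : G →* Aut U)

theorem rho_mul_hom (g h : G) : (ρ (g * h)).hom = (ρ h).hom ≫ (ρ g).hom := by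
  rw [map_mul]; rfl

theorem rho_one_hom : (ρ 1).hom = 𝟙 U := by
  rw [map_one]; rfl

theorem epi_SpecMap_field {K L : Type u} [Field K] [Field L] (φ : CommRingCat.of K ⟶ CommRingCat.of L) :
    Epi (Spec.map φ) := by
  have h1 : Flat (Spec.map φ) := by
    rw [HasRingHomProperty.Spec_iff (P := @Flat)]
    algebraize [φ.hom]
    show Module.Flat K L
    infer_instance
  have h2 : Surjective (Spec.map φ) := by
    constructor
    intro y
    have : Nonempty ↥(Spec (CommRingCat.of L)) := inferInstanceAs (Nonempty (PrimeSpectrum L))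
    obtain ⟨x⟩ := this
    have : Subsingleton ↥(Spec (CommRingCat.of K)) := inferInstanceAs (Subsingleton (PrimeSpectrum K))
    exact ⟨x, Subsingleton.elim _ _⟩
  exact Flat.epi_of_flat_of_surjective _

variable (hfree : ∀ (g : G) (x : U.left), g ≠ 1 →
      U.left.fromSpecResidueField x ≫ (ρ g).hom.left ≠ U.left.fromSpecResidueField x)

include hfree in
theorem eq_of_comp_eq {T : Scheme.{u}} (b : T ⟶ U.left) (x : T) (g h : G)
    (hb : b ≫ (ρ g).hom.left = b ≫ (ρ h).hom.left) : g = h := by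
  by_contra hne
  have hk : h⁻¹ * g ≠ 1 := by
    intro h1
    apply hne
    have := congrArg (h * ·) h1
    simpa using this
  have h1 : b ≫ (ρ (h⁻¹ * g)).hom.left = b := by
    rw [rho_mul_hom, Over.comp_left, ← Category.assoc, hb, Category.assoc, ← Over.comp_left, ← rho_mul_hom,
      inv_mul_cancel, rho_one_hom]
    exact Category.comp_id _
  apply hfree (h⁻¹ * g) (b x) hk
  have hres := b.SpecMap_residueFieldMap_fromSpecResidueField x
  have := epi_SpecMap_field (b.residueFieldMap x)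
  rw [← cancel_epi (Spec.map (b.residueFieldMap x)), ← Category.assoc, hres, Category.assoc, h1]

end free


section main

variable {S : Scheme.{u}} {U : Over S} {G : Type u} [Group G] (ρ : G →* Aut U)
  (hfree : ∀ (g : G) (x : U.left), g ≠ 1 →
      U.left.fromSpecResidueField x ≫ (ρ g).hom.left ≠ U.left.fromSpecResidueField x)
  (c : Cofan (fun _ : G => U)) (hc : IsColimit c) (s t : c.pt ⟶ U)
  (hs : ∀ g, c.inj g ≫ s = 𝟙 U) (ht : ∀ g, c.inj g ≫ t = (ρ g).hom)

include hc hs ht in
/-- Local structure of a `T`-point of the coproduct over the preimage of a summand. -/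
theorem local_structure {T : Over S} (r : T ⟶ c.pt) (g : G) (N : T.left.Opens)
    (hN : ∀ x ∈ N, r.left x ∈ Set.range (c.inj g).left) :
    N.ι ≫ r.left = (N.ι ≫ r.left ≫ s.left) ≫ (c.inj g).left ∧
      N.ι ≫ r.left ≫ t.left = (N.ι ≫ r.left ≫ s.left) ≫ (ρ g).hom.left := by
  have := isOpenImmersion_inj c hc g
  have hr : Set.range (N.ι ≫ r.left) ⊆ Set.range (c.inj g).left := by
    rintro _ ⟨y, rfl⟩
    rw [Scheme.Hom.comp_apply]
    apply hN
    have := Scheme.Opens.range_ι N
    rw [← SetLike.mem_coe, ← this]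
    exact ⟨y, rfl⟩
  let ℓ := IsOpenImmersion.lift (c.inj g).left (N.ι ≫ r.left) hr
  have hℓ : ℓ ≫ (c.inj g).left = N.ι ≫ r.left := IsOpenImmersion.lift_fac _ _ _
  have h1 : N.ι ≫ r.left ≫ s.left = ℓ := by
    rw [← Category.assoc, ← hℓ, Category.assoc, ← Over.comp_left, hs g]
    exact Category.comp_id _
  have h2 : N.ι ≫ r.left ≫ t.left = ℓ ≫ (ρ g).hom.left := by
    rw [← Category.assoc, ← hℓ, Category.assoc, ← Over.comp_left, ht g]
  exact ⟨by rw [h1, hℓ], by rw [h2, h1]⟩

include hc hs ht in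
/-- From a `T`-point of the coproduct to a labelled open cover. -/
theorem cover_of_rel {T : Over S} (r : T ⟶ c.pt) :
    ∃ W : G → T.left.Opens, (∀ x : T.left, ∃ g, x ∈ W g) ∧
      ∀ g, (W g).ι ≫ (r ≫ t).left = (W g).ι ≫ (r ≫ s).left ≫ (ρ g).hom.left := by
  have := fun g => isOpenImmersion_inj c hc g
  refine ⟨fun g => r.left ⁻¹ᵁ (c.inj g).left.opensRange, fun x => ?_, fun g => ?_⟩
  · obtain ⟨g, hg⟩ := exists_mem_range_inj c hc (r.left x)
    exact ⟨g, hg⟩
  · have := (local_structure ρ c hc s t hs ht r g (r.left ⁻¹ᵁ (c.inj g).left.opensRange) (fun x hx => hx)).2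
    rw [Over.comp_left, Over.comp_left, this, Category.assoc, Category.assoc]

include hfree hc hs ht in
/-- From a labelled open cover to a `T`-point of the coproduct. -/
theorem exists_of_cover {T : Over S} (a b : T ⟶ U) {I : Type u} (W : I → T.left.Opens) (γ : I → G)
    (hcov : ∀ x : T.left, ∃ i, x ∈ W i)
    (hW : ∀ i, (W i).ι ≫ a.left = (W i).ι ≫ b.left ≫ (ρ (γ i)).hom.left) :
    ∃ r : T ⟶ c.pt, r ≫ t = a ∧ r ≫ s = b := by
  let 𝒰 : T.left.OpenCover := {
    I₀ := I, X i := (W i), f i := (W i).ι,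
    mem₀ := by
      rw [Scheme.presieve₀_mem_precoverage_iff]
      refine ⟨fun x => ?_, inferInstance⟩
      obtain ⟨i, hi⟩ := hcov x
      exact ⟨i, by simpa using hi⟩ }
  have hf : ∀ i j, pullback.fst (𝒰.f i) (𝒰.f j) ≫ ((W i).ι ≫ b.left ≫ (c.inj (γ i)).left) =
      pullback.snd (𝒰.f i) (𝒰.f j) ≫ ((W j).ι ≫ b.left ≫ (c.inj (γ j)).left) := by
    intro i j
    have hcond : pullback.fst (𝒰.f i) (𝒰.f j) ≫ (W i).ι = pullback.snd (𝒰.f i) (𝒰.f j) ≫ (W j).ι :=
      pullback.condition
    by_cases hemp : IsEmpty ↥(pullback (𝒰.f i) (𝒰.f j))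
    · exact (isInitialOfIsEmpty (X := pullback (𝒰.f i) (𝒰.f j))).hom_ext _ _
    · rw [not_isEmpty_iff] at hemp
      obtain ⟨z⟩ := hemp
      have hγ : γ i = γ j := by
        refine eq_of_comp_eq ρ hfree (pullback.fst (𝒰.f i) (𝒰.f j) ≫ (W i).ι ≫ b.left) z _ _ ?_
        have e1 : (pullback.fst (𝒰.f i) (𝒰.f j) ≫ (W i).ι ≫ b.left) ≫ (ρ (γ i)).hom.left =
            (pullback.fst (𝒰.f i) (𝒰.f j) ≫ (W i).ι) ≫ a.left := by
          rw [Category.assoc, Category.assoc, Category.assoc, ← hW i]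
        have e2 : (pullback.fst (𝒰.f i) (𝒰.f j) ≫ (W i).ι ≫ b.left) ≫ (ρ (γ j)).hom.left =
            (pullback.fst (𝒰.f i) (𝒰.f j) ≫ (W i).ι) ≫ a.left := by
          rw [← Category.assoc (pullback.fst (𝒰.f i) (𝒰.f j)), hcond, Category.assoc, Category.assoc,
            Category.assoc, ← hW j]
        exact e1.trans e2.symm
      rw [hγ, ← Category.assoc, hcond, Category.assoc]
  let r₀ : T.left ⟶ c.pt.left := 𝒰.glueMorphisms (fun i => (W i).ι ≫ b.left ≫ (c.inj (γ i)).left) hf
  have hr₀ : ∀ i, (W i).ι ≫ r₀ = (W i).ι ≫ b.left ≫ (c.inj (γ i)).left := fun i =>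
    𝒰.ι_glueMorphisms _ hf i
  have hw : r₀ ≫ c.pt.hom = T.hom := by
    apply 𝒰.hom_ext
    intro i
    show (W i).ι ≫ r₀ ≫ c.pt.hom = (W i).ι ≫ T.hom
    rw [← Category.assoc, hr₀, Category.assoc, Category.assoc, Over.w, Over.w]
  refine ⟨Over.homMk r₀ hw, ?_, ?_⟩
  · apply Over.OverMorphism.ext
    apply 𝒰.hom_ext
    intro i
    show (W i).ι ≫ r₀ ≫ t.left = (W i).ι ≫ a.left
    rw [← Category.assoc, hr₀, Category.assoc, Category.assoc, ← Over.comp_left, ht, hW i]
  · apply Over.OverMorphism.ext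
    apply 𝒰.hom_ext
    intro i
    show (W i).ι ≫ r₀ ≫ s.left = (W i).ι ≫ b.left
    rw [← Category.assoc, hr₀, Category.assoc, Category.assoc, ← Over.comp_left, hs]
    simp

end main

theorem restrict_eq {X Y : Scheme.{u}} {N V : X.Opens} (h : N ≤ V) {f g : X ⟶ Y}
    (hfg : V.ι ≫ f = V.ι ≫ g) : N.ι ≫ f = N.ι ≫ g := by
  rw [← Scheme.homOfLE_ι _ h, Category.assoc, Category.assoc, hfg]

/-- Let `U` be a scheme over `S` and `G` a group acting on `U` by automorphisms over `S`, freely: no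
non-identity element of `G` fixes a point `x` of `U` while inducing the identity on its residue
field (equivalently, composing `Spec κ(x) ⟶ U` with the automorphism changes it). Let `R = ∐_{g ∈ G}
U` (coproduct in schemes over `S`) with `s` the identity and `t` the action of `g` on the `g`-th
copy. Then `s, t : R ⟶ U` is an etale equivalence relation on `U` over `S` (so that `U/R` is an
algebraic space). -/
theorem result (S : Scheme.{u}) (U : Over S) (G : Type u) [Group G] (ρ : G →* Aut U)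
    (hfree : ∀ (g : G) (x : U.left), g ≠ 1 →
      U.left.fromSpecResidueField x ≫ (ρ g).hom.left ≠ U.left.fromSpecResidueField x)
    (c : Cofan (fun _ : G => U)) (hc : IsColimit c) (s t : c.pt ⟶ U)
    (hs : ∀ g, c.inj g ≫ s = 𝟙 U) (ht : ∀ g, c.inj g ≫ t = (ρ g).hom) :
    AlgSp.IsEtaleEqvRel s t := by
  have hoi := fun g => isOpenImmersion_inj c hc g
  refine ⟨⟨?_, ?_⟩, ?_, ?_⟩
  · -- injectivity
    intro T r r' h1 h2
    apply Over.OverMorphism.ext
    apply Scheme.hom_ext_of_forall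
    intro x
    obtain ⟨g, hg⟩ := exists_mem_range_inj c hc (r.left x)
    obtain ⟨h, hh⟩ := exists_mem_range_inj c hc (r'.left x)
    let N : T.left.Opens := (r.left ⁻¹ᵁ (c.inj g).left.opensRange) ⊓ (r'.left ⁻¹ᵁ (c.inj h).left.opensRange)
    have hxN : x ∈ N := ⟨hg, hh⟩
    refine ⟨N, hxN, ?_⟩
    obtain ⟨L1, L2⟩ := local_structure ρ c hc s t hs ht r g N (fun y hy => hy.1)
    obtain ⟨L1', L2'⟩ := local_structure ρ c hc s t hs ht r' h N (fun y hy => hy.2)
    have hb : N.ι ≫ r.left ≫ s.left = N.ι ≫ r'.left ≫ s.left := by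
      rw [← Over.comp_left, ← Over.comp_left, h2]
    have ht' : N.ι ≫ r.left ≫ t.left = N.ι ≫ r'.left ≫ t.left := by
      rw [← Over.comp_left, ← Over.comp_left, h1]
    have hgh : g = h := by
      refine eq_of_comp_eq ρ hfree (N.ι ≫ r.left ≫ s.left) ⟨x, hxN⟩ g h ?_
      rw [← L2, ht', L2', hb]
    rw [L1, L1', hb, hgh]
  · -- equivalence relation
    intro T
    refine ⟨fun a => ?_, ?_, ?_⟩
    · exact ⟨a ≫ c.inj 1, by rw [Category.assoc, ht, rho_one_hom, Category.comp_id],
        by rw [Category.assoc, hs, Category.comp_id]⟩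
    · rintro a b ⟨r, rfl, rfl⟩
      obtain ⟨W, hcov, hW⟩ := cover_of_rel ρ c hc s t hs ht r
      refine exists_of_cover ρ hfree c hc s t hs ht (r ≫ s) (r ≫ t) W (fun g => g⁻¹) hcov (fun g => ?_)
      rw [← Category.assoc, hW g, Category.assoc, Category.assoc, ← Over.comp_left, ← rho_mul_hom,
        inv_mul_cancel, rho_one_hom]
      simp
    · rintro a b d ⟨r1, rfl, rfl⟩ ⟨r2, hb2, rfl⟩
      obtain ⟨W, hcov, hW⟩ := cover_of_rel ρ c hc s t hs ht r1
      obtain ⟨W', hcov', hW'⟩ := cover_of_rel ρ c hc s t hs ht r2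
      refine exists_of_cover ρ hfree c hc s t hs ht (r1 ≫ t) (r2 ≫ s) (I := G × G)
        (fun p => W p.1 ⊓ W' p.2) (fun p => p.1 * p.2) (fun x => ?_) (fun p => ?_)
      · obtain ⟨g, hg⟩ := hcov x
        obtain ⟨h, hh⟩ := hcov' x
        exact ⟨(g, h), hg, hh⟩
      · have e1 := restrict_eq (inf_le_left : W p.1 ⊓ W' p.2 ≤ W p.1) (hW p.1)
        have e2 := restrict_eq (inf_le_right : W p.1 ⊓ W' p.2 ≤ W' p.2) (hW' p.2)
        rw [e1, ← hb2, ← Category.assoc, e2, Category.assoc, Category.assoc, ← Over.comp_left, ← rho_mul_hom]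
  · -- `s` is etale
    have h : s.left = (eL c hc).hom ≫ Sigma.desc (fun _ : G => 𝟙 U.left) := by
      refine Cofan.IsColimit.hom_ext (hcL c hc) _ _ (fun g => ?_)
      show (c.inj g).left ≫ s.left = (c.inj g).left ≫ (eL c hc).hom ≫ Sigma.desc (fun _ : G => 𝟙 U.left)
      rw [← Category.assoc, inj_eL, Sigma.ι_desc, ← Over.comp_left, hs]
      rfl
    rw [h]
    have : Etale (Sigma.desc (fun _ : G => 𝟙 U.left)) :=
      IsZariskiLocalAtSource.sigmaDesc (P := @Etale) (fun g => inferInstance)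
    infer_instance
  · -- `t` is etale
    have h : t.left = (eL c hc).hom ≫ Sigma.desc (fun g : G => (ρ g).hom.left) := by
      refine Cofan.IsColimit.hom_ext (hcL c hc) _ _ (fun g => ?_)
      show (c.inj g).left ≫ t.left = (c.inj g).left ≫ (eL c hc).hom ≫ Sigma.desc (fun g : G => (ρ g).hom.left)
      rw [← Category.assoc, inj_eL, Sigma.ι_desc, ← Over.comp_left, ht]
    rw [h]
    have : Etale (Sigma.desc (fun g : G => (ρ g).hom.left)) :=
      IsZariskiLocalAtSource.sigmaDesc (P := @Etale) (fun g => inferInstance)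
    infer_instance

end Groth.Agent.S9889
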