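import Groth.Statements.S10365
import Groth.Agent.Lib.Helper1.LocPFlatBC
import Groth.Agent.Lib.Helper1.LocPFlatComp
import Groth.Agent.Lib.Helper22.FlatSrc
import Groth.Agent.Lib.Helper10.AlgSpPoints
import Groth.Agent.Lib.Helper11.AlgSpBasic

set_option autoImplicit false
universe u
open CategoryTheory CategoryTheory.Limits AlgebraicGeometry Topology TopologicalSpace
open AlgSp

namespace Groth.Agent.S10365

variable {S : Scheme.{u}}

/-- The field-valued point attached to a morphism from the spectrum of a field. -/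
noncomputable def fieldPtOfHom {F : Sp S} (k : Type u) [Field k] (str : Spec (CommRingCat.of k) ⟶ S)
    (p : (yon S).obj (Over.mk str) ⟶ F) : FieldPt F :=
  ⟨k, str, (J S).uliftYonedaEquiv p⟩

theorem toHom_fieldPtOfHom {F : Sp S} (k : Type u) [Field k] (str : Spec (CommRingCat.of k) ⟶ S)
    (p : (yon S).obj (Over.mk str) ⟶ F) : (fieldPtOfHom k str p).toHom = p :=
  (J S).uliftYonedaEquiv.symm_apply_apply p

/-- Two morphisms from spectra of fields defining the same point agree over a common field. -/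
theorem exists_common_of_mk_eq {F : Sp S} (k : Type u) [Field k] (str : Spec (CommRingCat.of k) ⟶ S)
    (p : (yon S).obj (Over.mk str) ⟶ F) (k' : Type u) [Field k']
    (str' : Spec (CommRingCat.of k') ⟶ S) (q : (yon S).obj (Over.mk str') ⟶ F)
    (h : Points.mk (fieldPtOfHom k str p) = Points.mk (fieldPtOfHom k' str' q)) :
    ∃ (Ω : Type u) (_ : Field Ω) (w : Spec (CommRingCat.of Ω) ⟶ S)
      (a : Over.mk w ⟶ Over.mk str) (b : Over.mk w ⟶ Over.mk str'),
      (yon S).map a ≫ p = (yon S).map b ≫ q := by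
  obtain ⟨Ω, hΩ, w, a, b, hab⟩ := Points.mk_eq_mk_iff.mp h
  refine ⟨Ω, hΩ, w, a, b, ?_⟩
  have e : (yon S).map a ≫ (fieldPtOfHom k str p).toHom =
      (yon S).map b ≫ (fieldPtOfHom k' str' q).toHom := by
    apply (AlgSp.J S).uliftYonedaEquiv.injective
    rw [← GrothendieckTopology.uliftYonedaEquiv_naturality,
      ← GrothendieckTopology.uliftYonedaEquiv_naturality, FieldPt.uliftYonedaEquiv_toHom,
      FieldPt.uliftYonedaEquiv_toHom]
    exact hab
  rwa [toHom_fieldPtOfHom, toHom_fieldPtOfHom] at e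

theorem flat_of_fields {k' Ω : Type u} [Field k'] [Field Ω]
    (f : Spec (CommRingCat.of Ω) ⟶ Spec (CommRingCat.of k')) : Flat f := by
  obtain ⟨φ, rfl⟩ := Spec.map_surjective f
  rw [HasRingHomProperty.Spec_iff (P := @Flat)]
  let _ : Algebra k' Ω := φ.hom.toAlgebra
  exact (inferInstance : Module.Flat k' Ω)

theorem surjective_of_fields {k' Ω : Type u} [Field k'] [Field Ω]
    (f : Spec (CommRingCat.of Ω) ⟶ Spec (CommRingCat.of k')) : Surjective f := by
  have : Subsingleton ↥(Spec (CommRingCat.of k')) :=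
    inferInstanceAs (Subsingleton (PrimeSpectrum k'))
  exact ⟨fun y => ⟨(IsLocalRing.closedPoint Ω : ↥(Spec (CommRingCat.of Ω))),
    @Subsingleton.elim ↥(Spec (CommRingCat.of k')) this _ _⟩⟩

/-- Source descent of flatness along a field extension. -/
theorem locP_flat_of_field_ext {F : Sp S} {k' Ω : Type u} [Field k'] [Field Ω]
    {str' : Spec (CommRingCat.of k') ⟶ S} {w : Spec (CommRingCat.of Ω) ⟶ S}
    (b : Over.mk w ⟶ Over.mk str') (q : (yon S).obj (Over.mk str') ⟶ F)
    (H : LocP @Flat ((yon S).map b ≫ q)) : LocP @Flat q := by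
  intro A V α β h hα hβ hsq
  obtain ⟨α₀, rfl⟩ := (yon S).map_surjective α
  have hα₀ : Etale α₀.left := (repWith_yon_map_iff @Etale α₀).1 hα
  have sq0 : IsPullback (pullback.fst α₀ b) (pullback.snd α₀ b) α₀ b :=
    IsPullback.of_hasPullback _ _
  have sqs := sq0.map (Over.forget S)
  have hsnd : Etale (pullback.snd α₀ b).left := MorphismProperty.of_isPullback sqs hα₀
  have hbflat : Flat b.left := flat_of_fields (k' := k') (Ω := Ω) b.left
  have hbsurj : Surjective b.left := surjective_of_fields (k' := k') (Ω := Ω) b.left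
  have hfst_flat : Flat (pullback.fst α₀ b).left :=
    MorphismProperty.of_isPullback sqs.flip hbflat
  have hfst_surj : Surjective (pullback.fst α₀ b).left :=
    MorphismProperty.of_isPullback sqs.flip hbsurj
  have hcomp : Flat (pullback.fst α₀ b ≫ h).left := by
    refine H ((yon S).map (pullback.snd α₀ b)) β (pullback.fst α₀ b ≫ h)
      ((repWith_yon_map_iff @Etale _).2 hsnd) hβ ?_
    rw [← Category.assoc, ← Functor.map_comp, ← sq0.w, Functor.map_comp, Category.assoc, hsq,
      Functor.map_comp, Category.assoc]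
  rw [Over.comp_left] at hcomp
  exact Groth.Agent.Lib.helper22.flat_of_flat_comp (pullback.fst α₀ b).left h.left

theorem main (Z : AlgSp.Space S)
    (k : Type u) [Field k] (str : Spec (CommRingCat.of k) ⟶ S)
    (p : (AlgSp.yon S).obj (Over.mk str) ⟶ Z.obj)
    (hpf : AlgSp.LocP @Flat p) (hps : AlgSp.IsSurjectiveMor p)
    (k' : Type u) [Field k'] (str' : Spec (CommRingCat.of k') ⟶ S)
    (q : (AlgSp.yon S).obj (Over.mk str') ⟶ Z.obj) :
    AlgSp.LocP @Flat q ∧ AlgSp.IsSurjectiveMor q := by
  -- every point of `Z` is the class of `p`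
  have hall : ∀ z : Points Z.obj, z = Points.mk (fieldPtOfHom k str p) := by
    intro z
    obtain ⟨x, rfl⟩ := hps z
    rw [Groth.Agent.Lib.helper10.map_eq_ofPt_toScheme]
    have := Points.ofPt_toHom (fieldPtOfHom k str p) (Points.toScheme (Over.mk str) x)
    rw [toHom_fieldPtOfHom] at this
    exact this
  have hmk : Points.mk (fieldPtOfHom k str p) = Points.mk (fieldPtOfHom k' str' q) :=
    (hall _).symm
  obtain ⟨Ω, hΩ, w, a, b, hab⟩ := exists_common_of_mk_eq k str p k' str' q hmk
  constructor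
  · apply locP_flat_of_field_ext b q
    rw [← hab]
    have : Flat a.left := flat_of_fields (k' := k) (Ω := Ω) a.left
    exact Groth.Agent.H1.LocPFlatComp.locP_flat_comp (IsAlgSpace.yon_obj _) _ _
      (Groth.Agent.H1.LocPFlatBC.locP_flat_yon_map a) hpf
  · intro z
    refine ⟨Points.ofScheme _ (IsLocalRing.closedPoint k' : ↥(Spec (CommRingCat.of k'))), ?_⟩
    rw [hall z, hmk, ← Points.ofPt_eq_map_ofScheme]
    have := Points.ofPt_toHom (fieldPtOfHom k' str' q)
      (IsLocalRing.closedPoint k' : ↥(Spec (CommRingCat.of k')))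
    rw [toHom_fieldPtOfHom] at this
    exact this

/-- Let Z be an algebraic space over a scheme S admitting a surjective flat morphism Spec k ⟶ Z from the
spectrum of a field. Then every morphism Spec k' ⟶ Z from the spectrum of a field is surjective and
flat. -/
theorem result {S : Scheme.{u}} (Z : AlgSp.Space S)
    (k : Type u) [Field k] (str : Spec (CommRingCat.of k) ⟶ S) (p : (AlgSp.yon S).obj (Over.mk str) ⟶ Z.obj)
    (hpf : AlgSp.LocP @Flat p) (hps : AlgSp.IsSurjectiveMor p)
    (k' : Type u) [Field k'] (str' : Spec (CommRingCat.of k') ⟶ S) (q : (AlgSp.yon S).obj (Over.mk str') ⟶ Z.obj) :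
    AlgSp.LocP @Flat q ∧ AlgSp.IsSurjectiveMor q := by
  exact main Z k str p hpf hps k' str' q

end Groth.Agent.S10365
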