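import Groth.Statements.S10366
import Groth.Agent.S10365
import Groth.Agent.Lib.Helper1.LocPFlatBC
import Groth.Agent.Lib.Helper1.LocPFlatComp
import Groth.Agent.Lib.Helper11.AlgSpBasic

set_option autoImplicit false
universe u
open CategoryTheory CategoryTheory.Limits AlgebraicGeometry Topology TopologicalSpace
open AlgSp

namespace Groth.Agent.S10366

open Groth.Agent.Lib.helper11

/-- The localization of a reduced ring at a minimal prime is a field. -/
theorem isField_localization_of_minimal {A : Type u} [CommRing A] [IsReduced A] (𝔭 : Ideal A)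
    [𝔭.IsPrime] (h𝔭 : 𝔭 ∈ (⊥ : Ideal A).minimalPrimes) : IsField (Localization.AtPrime 𝔭) := by
  rw [IsLocalRing.isField_iff_maximalIdeal_eq]
  have h1 := IsLocalization.AtPrime.radical_map_of_mem_minimalPrimes (Localization.AtPrime 𝔭) 𝔭 ⊥ h𝔭
  rw [IsLocalization.AtPrime.map_eq_maximalIdeal 𝔭 (Localization.AtPrime 𝔭), Ideal.map_bot] at h1
  rw [← h1]
  exact Ideal.radical_bot_of_isReduced

/-- A scheme etale over the spectrum of a field is reduced. -/
theorem isReduced_of_etale_field {k : Type u} [Field k] {T : Scheme.{u}}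
    (c : T ⟶ Spec (CommRingCat.of k)) [Etale c] : IsReduced T := by
  have : ∀ i, IsReduced (T.affineOpenCover.openCover.X i) := by
    intro i
    have he : Etale (T.affineOpenCover.f i ≫ c) := inferInstance
    obtain ⟨φ, hφ⟩ := Spec.map_surjective (T.affineOpenCover.f i ≫ c)
    rw [← hφ, HasRingHomProperty.Spec_iff (P := @Etale)] at he
    let _ : Algebra k (T.affineOpenCover.X i) := φ.hom.toAlgebra
    have h1 : Algebra.Etale k (T.affineOpenCover.X i) := he
    have h2 : _root_.IsReduced (T.affineOpenCover.X i) :=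
      Algebra.FormallyUnramified.isReduced_of_field k (T.affineOpenCover.X i)
    change IsReduced (Spec (T.affineOpenCover.X i))
    infer_instance
  exact IsReduced.of_openCover T T.affineOpenCover.openCover

/-- Reducedness descends along flat surjective morphisms. -/
theorem isReduced_of_flat_surjective {T U : Scheme.{u}} (h : T ⟶ U) [Flat h] [Surjective h]
    [IsReduced T] : IsReduced U := by
  have : ∀ x : U, _root_.IsReduced (U.presheaf.stalk x) := by
    intro x
    obtain ⟨t, rfl⟩ := h.surjective x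
    have hfl : (h.stalkMap t).hom.Flat := Flat.stalkMap h t
    algebraize [(h.stalkMap t).hom]
    have hff : Module.FaithfullyFlat (U.presheaf.stalk (h t)) (T.presheaf.stalk t) :=
      @Module.FaithfullyFlat.of_flat_of_isLocalHom _ _ _ _ _ _ _ hfl (h.toLRSHom.prop t)
    have hinj : Function.Injective (algebraMap (U.presheaf.stalk (h t)) (T.presheaf.stalk t)) :=
      FaithfulSMul.algebraMap_injective _ _
    exact isReduced_of_injective _ hinj
  exact isReduced_of_isReduced_stalk U

variable {S : Scheme.{u}}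

open Groth.Agent.S10365 in
theorem eq_mk_of_surjective {F : Sp S} (k : Type u) [Field k] (str : Spec (CommRingCat.of k) ⟶ S)
    (p : (yon S).obj (Over.mk str) ⟶ F) (hps : IsSurjectiveMor p) (z : Points F) :
    z = Points.ofPt p (IsLocalRing.closedPoint k : ↥(Spec (CommRingCat.of k))) := by
  obtain ⟨x, rfl⟩ := hps z
  rw [Groth.Agent.Lib.helper10.map_eq_ofPt_toScheme]
  have h1 := Points.ofPt_toHom (fieldPtOfHom k str p) (Points.toScheme (Over.mk str) x)
  have h2 := Points.ofPt_toHom (fieldPtOfHom k str p)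
    (IsLocalRing.closedPoint k : ↥(Spec (CommRingCat.of k)))
  rw [toHom_fieldPtOfHom] at h1 h2
  exact h1.trans h2.symm

theorem backward (Z : AlgSp.Space S) (k : Type u) [Field k] (str : Spec (CommRingCat.of k) ⟶ S)
    (p : (AlgSp.yon S).obj (Over.mk str) ⟶ Z.obj) (hpf : AlgSp.LocP @Flat p)
    (hps : AlgSp.IsSurjectiveMor p) :
    AlgSp.EtaleLocally (fun U => IsReduced U) Z.obj ∧ Nonempty (AlgSp.Points Z.obj) ∧
      Subsingleton (AlgSp.Points Z.obj) := by
  let s0 : ↥(Over.mk str).left := (IsLocalRing.closedPoint k : ↥(Spec (CommRingCat.of k)))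
  refine ⟨?_, ⟨Points.ofPt p s0⟩, ⟨fun z z' => ?_⟩⟩
  · obtain ⟨U, a, hae, has⟩ := Z.property.atlas
    refine ⟨U, a, hae, has, ?_⟩
    obtain ⟨T, c, h', sq⟩ := hae.1 p
    obtain ⟨h, rfl⟩ := (yon S).map_surjective h'
    have hc : Etale c.left := hae.2 _ _ _ sq
    have hflat : Flat h.left :=
      hpf ((yon S).map c) a h ((repWith_yon_map_iff @Etale c).2 hc) hae sq.w.symm
    have hsurj : Surjective h.left := by
      refine ⟨fun u => ?_⟩
      have hu : Points.ofPt a u = Points.ofPt p s0 := eq_mk_of_surjective k str p hps _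
      obtain ⟨τ, hτ, -⟩ := exists_of_isPullback_schemes sq u s0 hu
      exact ⟨τ, hτ⟩
    have hT : IsReduced T.left := isReduced_of_etale_field (k := k) c.left
    exact isReduced_of_flat_surjective h.left
  · rw [eq_mk_of_surjective k str p hps z, eq_mk_of_surjective k str p hps z']

open Groth.Agent.H1.LocPFlatBC Groth.Agent.H1.LocPFlatComp in
theorem forward (Z : AlgSp.Space S)
    (hR : AlgSp.EtaleLocally (fun U => IsReduced U) Z.obj) (hne : Nonempty (AlgSp.Points Z.obj))
    (hsub : Subsingleton (AlgSp.Points Z.obj)) :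
    ∃ (k : Type u) (_ : Field k) (str : Spec (CommRingCat.of k) ⟶ S)
      (p : (AlgSp.yon S).obj (Over.mk str) ⟶ Z.obj),
      AlgSp.LocP @Flat p ∧ AlgSp.IsSurjectiveMor p := by
  obtain ⟨U, a, hae, has, hred⟩ := hR
  have hredU : IsReduced U.left := hred
  obtain ⟨z⟩ := hne
  obtain ⟨u₀, -⟩ := surjective_ofPt a has z
  obtain ⟨V, hV, hu₀V, -⟩ := exists_isAffineOpen_mem_and_subset (x := u₀) (U := ⊤) trivial
  obtain ⟨𝔭, h𝔭, -⟩ := Ideal.exists_minimalPrimes_le
    (bot_le : (⊥ : Ideal Γ(U.left, V)) ≤ (hV.primeIdealOf ⟨u₀, hu₀V⟩).asIdeal)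
  have h𝔭p : 𝔭.IsPrime := h𝔭.1.1
  have hfield := isField_localization_of_minimal 𝔭 h𝔭
  let _ : Field (Localization.AtPrime 𝔭) := hfield.toField
  let g : Spec (CommRingCat.of (Localization.AtPrime 𝔭)) ⟶ U.left :=
    Spec.map (CommRingCat.ofHom (algebraMap Γ(U.left, V) (Localization.AtPrime 𝔭))) ≫ hV.fromSpec
  have hg : Flat g := by
    have : Flat (Spec.map (CommRingCat.ofHom
        (algebraMap Γ(U.left, V) (Localization.AtPrime 𝔭)))) := by
      rw [HasRingHomProperty.Spec_iff (P := @Flat), CommRingCat.hom_ofHom,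
        RingHom.flat_algebraMap_iff]
      infer_instance
    infer_instance
  let T : Over S := Over.mk (g ≫ U.hom)
  let g' : T ⟶ U := Over.homMk g rfl
  refine ⟨Localization.AtPrime 𝔭, inferInstance, g ≫ U.hom, (yon S).map g' ≫ a, ?_, ?_⟩
  · have : Flat g'.left := hg
    exact locP_flat_comp (IsAlgSpace.yon_obj U) _ _ (locP_flat_yon_map g')
      (locP_flat_of_repWith_etale a hae)
  · intro z
    exact ⟨Points.ofScheme T (IsLocalRing.closedPoint (Localization.AtPrime 𝔭) :
      ↥(Spec (CommRingCat.of (Localization.AtPrime 𝔭)))), Subsingleton.elim _ _⟩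

theorem main (Z : AlgSp.Space S) :
    (AlgSp.EtaleLocally (fun U => IsReduced U) Z.obj ∧ Nonempty (AlgSp.Points Z.obj) ∧ Subsingleton (AlgSp.Points Z.obj)) ↔
      ∃ (k : Type u) (_ : Field k) (str : Spec (CommRingCat.of k) ⟶ S) (p : (AlgSp.yon S).obj (Over.mk str) ⟶ Z.obj),
        AlgSp.LocP @Flat p ∧ AlgSp.IsSurjectiveMor p := by
  constructor
  · rintro ⟨h1, h2, h3⟩
    exact forward Z h1 h2 h3
  · rintro ⟨k, hk, str, p, hpf, hps⟩
    exact backward Z k str p hpf hps

/-- (1) ⇔ (2): an algebraic space Z over a scheme S is reduced with |Z| a single point if and only if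
there is a surjective flat morphism Spec k ⟶ Z from the spectrum of a field. -/
theorem result {S : Scheme.{u}} (Z : AlgSp.Space S) :
    (AlgSp.EtaleLocally (fun U => IsReduced U) Z.obj ∧ Nonempty (AlgSp.Points Z.obj) ∧ Subsingleton (AlgSp.Points Z.obj)) ↔
      ∃ (k : Type u) (_ : Field k) (str : Spec (CommRingCat.of k) ⟶ S) (p : (AlgSp.yon S).obj (Over.mk str) ⟶ Z.obj),
        AlgSp.LocP @Flat p ∧ AlgSp.IsSurjectiveMor p := by
  exact main Z

end Groth.Agent.S10366
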