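import Groth.Statements.S10193
import Groth.Agent.S9928
import Groth.Agent.S9885
import Groth.Agent.S10194
import Groth.Agent.Lib.Helper11.AlgSpBasic

set_option autoImplicit false
universe u
open CategoryTheory CategoryTheory.Limits AlgebraicGeometry Topology TopologicalSpace
open AlgSp

namespace Groth.Agent.S10193

variable {S : Scheme.{u}}

/-- An etale surjective chart is an epimorphism of sheaves. -/
theorem epi_of_chart {F : Sp S} {V : Over S} (b : (yon S).obj V ⟶ F) (hbe : RepWith @Etale b)
    (hbs : RepWith @Surjective b) : Epi b := by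
  have h2 : Sheaf.IsLocallySurjective b := Groth.Agent.S9885.result S _ _ b
    (Groth.Agent.S10194.repWith_mono (fun _ _ f hf => by
      have : Etale f := hf
      exact inferInstanceAs (Flat f)) hbe)
    (Groth.Agent.S10194.repWith_mono (fun _ _ f hf => by
      have : Etale f := hf
      exact inferInstanceAs (LocallyOfFinitePresentation f)) hbe) hbs
  infer_instance

/-- A morphism `f : Y ⟶ X` of sheaves factors through a monomorphism `i : Z ⟶ X` as soon as its
restriction to an epimorphic chart does. -/
theorem exists_factor_of_chart {X Y Z : Sp S} (i : Z ⟶ X) [Mono i] (f : Y ⟶ X) {V : Sp S}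
    (b : V ⟶ Y) [Epi b] (gV : V ⟶ Z) (h : gV ≫ i = b ≫ f) : ∃ g : Y ⟶ Z, g ≫ i = f := by
  have sq : IsPullback (pullback.fst f i) (pullback.snd f i) f i := IsPullback.of_hasPullback _ _
  have hm : Mono (pullback.fst f i) := inferInstance
  obtain ⟨l, hl1, hl2⟩ := sq.exists_lift b gV h.symm
  have : Epi (l ≫ pullback.fst f i) := by rw [hl1]; infer_instance
  have : Epi (pullback.fst f i) := epi_of_epi l _
  have : IsIso (pullback.fst f i) := isIso_of_mono_of_epi _
  exact ⟨inv (pullback.fst f i) ≫ pullback.snd f i, by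
    rw [Category.assoc, ← sq.w, IsIso.inv_hom_id_assoc]⟩

open Groth.Agent.Lib.helper11 in
theorem main {X Y Z : AlgSp.Space S}
    (i : Z ⟶ X) (hi : AlgSp.RepWith @IsClosedImmersion i.hom) (hY : AlgSp.IsReducedSp Y.obj)
    (f : Y ⟶ X) :
    (∃ g : Y ⟶ Z, g ≫ i = f) ↔
      Set.range (AlgSp.Points.map f.hom) ⊆ Set.range (AlgSp.Points.map i.hom) := by
  constructor
  · rintro ⟨g, rfl⟩ x ⟨y, rfl⟩
    exact ⟨Points.map g.hom y, (Points.map_comp g.hom i.hom y).symm⟩
  · intro hsub
    have himm : RepWith @IsImmersion i.hom :=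
      Groth.Agent.S10194.repWith_mono (fun _ _ f hf => by
        have : IsClosedImmersion f := hf
        exact inferInstanceAs (IsImmersion f)) hi
    have hmono : Mono i.hom := Groth.Agent.S9928.mono_of_repWith_mono i.hom himm
    obtain ⟨V, b, hbe, hbs, hVR⟩ := hY
    have hVR' : IsReduced V.left := hVR
    obtain ⟨V', j, fst, sq⟩ := hi.rep (b ≫ f.hom)
    have hj : IsClosedImmersion j.left := hi.property _ _ _ sq
    have hsurj : Surjective j.left := by
      refine ⟨fun v => ?_⟩
      obtain ⟨z, hz⟩ := hsub ⟨Points.ofPt b v, rfl⟩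
      have hzv : Points.map i.hom z = Points.ofPt (b ≫ f.hom) v := by
        rw [hz, Points.map_ofPt]
      obtain ⟨v', -, hv'⟩ := exists_of_isPullback_scheme sq z v hzv
      exact ⟨v', hv'⟩
    have hiso : IsIso j.left := isIso_of_isClosedImmersion_of_surjective j.left
    have hiso' : IsIso j := by
      have : IsIso ((Over.forget S).map j) := hiso
      exact isIso_of_reflects_iso j (Over.forget S)
    have hepi : Epi b := epi_of_chart b hbe hbs
    have hgV : ((yon S).map (inv j) ≫ fst) ≫ i.hom = b ≫ f.hom := by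
      rw [Category.assoc, sq.w, ← Category.assoc, ← Functor.map_comp, IsIso.inv_hom_id]
      erw [(yon S).map_id V]
      rw [Category.id_comp]
    obtain ⟨g, hg⟩ := exists_factor_of_chart i.hom f.hom b _ hgV
    exact ⟨ObjectProperty.homMk g, ObjectProperty.hom_ext _ hg⟩

/-- Let X, Y be algebraic spaces over a scheme S, i : Z ⟶ X a closed subspace (a morphism representable
by closed immersions) and assume Y is reduced. Then a morphism f : Y ⟶ X factors through Z if and
only if |f|(|Y|) is contained in |Z|. -/
theorem result {S : Scheme.{u}} {X Y Z : AlgSp.Space S}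
    (i : Z ⟶ X) (hi : AlgSp.RepWith @IsClosedImmersion i.hom) (hY : AlgSp.IsReducedSp Y.obj) (f : Y ⟶ X) :
    (∃ g : Y ⟶ Z, g ≫ i = f) ↔
      Set.range (AlgSp.Points.map f.hom) ⊆ Set.range (AlgSp.Points.map i.hom) := by
  exact main i hi hY f

end Groth.Agent.S10193
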