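import Groth.Statements.S10341
import Groth.Agent.S10265
import Groth.Agent.Lib.Helper11.AlgSpBasic

set_option autoImplicit false
universe u
open CategoryTheory CategoryTheory.Limits AlgebraicGeometry Topology TopologicalSpace
open AlgSp

namespace Groth.Agent.S10341

open Groth.Agent.Lib.helper11

/-- Topological core. -/
theorem eq_of_specializes_of_transitive {R U : Type*} [TopologicalSpace R] [TopologicalSpace U]
    [T0Space U] (s t : R → U) (hs : GeneralizingMap s) (ht : Continuous t)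
    (htd : ∀ w, IsDiscrete (t ⁻¹' {w})) (Φ : Set U) (hΦ : Φ.Finite)
    (htrans : ∀ u₁ ∈ Φ, ∀ u₂ ∈ Φ, ∃ r, t r = u₁ ∧ s r = u₂) (hstab : ∀ r, s r ∈ Φ → t r ∈ Φ)
    (u u' : U) (hu : u ∈ Φ) (hu' : u' ∈ Φ) (h : u' ⤳ u) : u = u' := by
  let _ : Preorder U := specializationPreorder U
  obtain ⟨w, hwΦ, hwmax⟩ := hΦ.exists_maximal ⟨u, hu⟩
  obtain ⟨r, hrt, hrs⟩ := htrans w hwΦ u hu
  obtain ⟨r', hr's, hr'u⟩ := hs (hrs ▸ h : u' ⤳ s r)
  have h1 : t r' ⤳ t r := hr's.map ht
  rw [hrt] at h1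
  have h2 : t r' ∈ Φ := hstab r' (hr'u ▸ hu')
  have h3 : w ⤳ t r' := hwmax h2 h1
  have h4 : t r' = w := (h1.antisymm h3).eq
  -- `r` and `r'` lie in the discrete fibre of `t` over `w`
  obtain ⟨N, hNo, hN⟩ := (isDiscrete_iff_forall_mem_exists_isOpen.1 (htd w)) r hrt
  have hrN : r ∈ N := by
    have : r ∈ N ∩ t ⁻¹' {w} := by rw [hN]; rfl
    exact this.1
  have hr'N : r' ∈ N := hr's.mem_open hNo hrN
  have : r' ∈ N ∩ t ⁻¹' {w} := ⟨hr'N, h4⟩
  rw [hN] at this
  have hrr : r' = r := this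
  rw [← hrs, ← hr'u, hrr]

variable {S : Scheme.{u}}

/-- The case of a chart whose fibre over `x` is finite. -/
theorem main_aux {F : Sp S} (x : Points F) {U : Over S} (a : (yon S).obj U ⟶ F)
    (ha : RepWith @Etale a) (hfin : (Points.ofPt a ⁻¹' {x}).Finite) (u u' : ↥U.left)
    (hu : Points.ofPt a u = x) (hu' : Points.ofPt a u' = x) (hs : u' ⤳ u) : u = u' := by
  obtain ⟨R, s, t', sq⟩ := ha.1 a
  have hse : Etale s.left := ha.2 _ _ _ sq
  obtain ⟨t, rfl⟩ := (yon S).map_surjective t'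
  have hte : Etale t.left := ha.2 _ _ _ sq.flip
  have hlqf : LocallyQuasiFinite t.left := Groth.Agent.S10265.lqf_of_etale t.left
  refine eq_of_specializes_of_transitive (fun r => s.left r) (fun r => t.left r)
    (Flat.generalizingMap s.left) t.left.continuous
    (fun w => Scheme.Hom.isDiscrete_preimage_singleton t.left w) _ hfin ?_ ?_ u u' hu hu' hs
  · intro u₁ h₁ u₂ h₂
    exact exists_of_isPullback_schemes sq u₁ u₂ (h₁.trans h₂.symm)
  · intro r hr
    have := ofPt_comm sq.w r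
    exact this.trans hr

theorem main (X : AlgSp.Space S) (x : AlgSp.Points X.obj)
    (hx : ∀ (V : Over S) (b : (AlgSp.yon S).obj V ⟶ X.obj), IsAffine V.left → AlgSp.RepWith @Etale b →
      (AlgSp.Points.ofPt b ⁻¹' {x}).Finite)
    {U : Over S} (a : (AlgSp.yon S).obj U ⟶ X.obj) (ha : AlgSp.RepWith @Etale a) (u u' : ↥U.left)
    (hu : AlgSp.Points.ofPt a u = x) (hu' : AlgSp.Points.ofPt a u' = x) (hs : u' ⤳ u) : u = u' := by
  obtain ⟨Z, hZ, huZ, -⟩ := exists_isAffineOpen_mem_and_subset (x := u) (U := ⊤) trivial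
  have hu'Z : u' ∈ Z := hs.mem_open Z.isOpen huZ
  obtain ⟨hae, hpt⟩ := chart_comp a ha Z.ι
  let U₀ : Over S := Over.mk (Z.ι ≫ U.hom)
  have hZa : IsAffine U₀.left := hZ
  have hfin := hx U₀ _ hZa hae
  have hs0 : (⟨u', hu'Z⟩ : ↥U₀.left) ⤳ (⟨u, huZ⟩ : ↥U₀.left) := by
    have hind : Topology.IsInducing (Z.ι : ↥(Z : Scheme.{u}) → ↥U.left) :=
      Z.ι.isEmbedding.toIsInducing
    exact hind.specializes_iff.1 hs
  have := main_aux x _ hae hfin (⟨u, huZ⟩ : ↥U₀.left) ⟨u', hu'Z⟩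
    (by rw [hpt]; exact hu) (by rw [hpt]; exact hu') hs0
  exact congrArg (fun z : ↥U₀.left => Z.ι z) this

/-- Let X be an algebraic space over a scheme S and x a point of |X| such that for every affine scheme V
and every representable etale h_V ⟶ X the fibre of |V| → |X| over x is finite. If a : h_U ⟶ X is
representable etale from a scheme U and u, u' are points of U over x with u' specializing to u, then
u = u'. -/
theorem result {S : Scheme.{u}} (X : AlgSp.Space S) (x : AlgSp.Points X.obj)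
    (hx : ∀ (V : Over S) (b : (AlgSp.yon S).obj V ⟶ X.obj), IsAffine V.left → AlgSp.RepWith @Etale b →
      (AlgSp.Points.ofPt b ⁻¹' {x}).Finite)
    {U : Over S} (a : (AlgSp.yon S).obj U ⟶ X.obj) (ha : AlgSp.RepWith @Etale a) (u u' : ↥U.left)
    (hu : AlgSp.Points.ofPt a u = x) (hu' : AlgSp.Points.ofPt a u' = x) (hs : u' ⤳ u) : u = u' := by
  exact main X x hx a ha u u' hu hu' hs

end Groth.Agent.S10341
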