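import Groth.Statements.S10362
import Mathlib

set_option autoImplicit false
universe u
open CategoryTheory CategoryTheory.Limits AlgebraicGeometry Topology TopologicalSpace
open AlgSp

namespace Groth.Agent.S10362

theorem isIso_of_mono_to_field {Z : Scheme.{u}} {K : Type u} [Field K]
    (f : Z ⟶ Spec (CommRingCat.of K)) [Mono f] [Nonempty Z] : IsIso f := by
  have : Subsingleton ↥(Spec (CommRingCat.of K)) :=
    inferInstanceAs (Subsingleton (PrimeSpectrum K))
  have hflat : Flat f := inferInstance
  have hsurj : Surjective f := ⟨fun y => ⟨Classical.arbitrary Z, Subsingleton.elim _ _⟩⟩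
  have hinj : Function.Injective f := f.injective
  have : Subsingleton Z := hinj.subsingleton
  have : QuasiCompact f := ⟨fun U hU hc => (Set.toFinite _).isCompact⟩
  exact Flat.isIso_of_surjective_of_mono f

open Opposite in
theorem main {S : Scheme.{u}} (X : AlgSp.Space S)
    (p q : AlgSp.FieldPt X.obj) (hm : Mono p.toHom) (hp : AlgSp.RepWith @QuasiCompact p.toHom)
    (h : AlgSp.Points.mk q = AlgSp.Points.mk p) : AlgSp.RepWith @QuasiCompact q.toHom := by
  obtain ⟨Ω, _, w, a, b, hab⟩ := Points.mk_eq_mk_iff.mp h
  obtain ⟨V, v, fst, sq⟩ := hp.rep q.toHom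
  have hmono : Mono ((yon S).map v) := sq.mono_snd_of_mono
  have hv : Mono v := (yon S).mono_of_mono_map hmono
  have hvl : Mono v.left := inferInstance
  have e : (yon S).map b ≫ p.toHom = (yon S).map a ≫ q.toHom := by
    apply (AlgSp.J S).uliftYonedaEquiv.injective
    rw [← GrothendieckTopology.uliftYonedaEquiv_naturality,
      ← GrothendieckTopology.uliftYonedaEquiv_naturality, FieldPt.uliftYonedaEquiv_toHom,
      FieldPt.uliftYonedaEquiv_toHom]
    exact hab.symm
  obtain ⟨c, hc⟩ := (yon S).map_surjective (sq.lift _ _ e)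
  have hne : Nonempty V.left := by
    have : Nonempty (PrimeSpectrum Ω) := inferInstance
    obtain ⟨x⟩ := this
    exact ⟨c.left x⟩
  have hiso : IsIso v.left := isIso_of_mono_to_field (K := q.K) v.left
  have hiso2 : IsIso ((Over.forget S).map v) := hiso
  have hiso' : IsIso v := isIso_of_reflects_iso v (Over.forget S)
  let φ : q.pt ⟶ p.pt := inv v ≫ (yon S).preimage fst
  have hφ : (yon S).map φ ≫ p.toHom = q.toHom := by
    simp only [φ, Functor.map_comp, Functor.map_preimage, Category.assoc, sq.w]
    rw [← Category.assoc, ← Functor.map_comp, IsIso.inv_hom_id, CategoryTheory.Functor.map_id,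
      Category.id_comp]
  rw [← hφ]
  refine (AlgSp.RepWith @QuasiCompact).comp_mem _ _ ?_ hp
  rw [repWith_yon_map_iff]
  have h1 : IsAffine q.pt.left := inferInstanceAs (IsAffine (Spec (CommRingCat.of q.K)))
  have h2 : IsAffine p.pt.left := inferInstanceAs (IsAffine (Spec (CommRingCat.of p.K)))
  infer_instance

/-- (4) ⇒ (6): let X be an algebraic space over a scheme S and x ∈ |X| a point represented by a
monomorphism Spec k ⟶ X which is representable quasi-compact. Then every morphism Spec k' ⟶ X in the
class of x, where k' is a field, is representable quasi-compact. -/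
theorem result {S : Scheme.{u}} (X : AlgSp.Space S)
    (p q : AlgSp.FieldPt X.obj) (hm : Mono p.toHom) (hp : AlgSp.RepWith @QuasiCompact p.toHom)
    (h : AlgSp.Points.mk q = AlgSp.Points.mk p) : AlgSp.RepWith @QuasiCompact q.toHom := by
  exact main X p q hm hp h

end Groth.Agent.S10362
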