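import Groth.Statements.S10373
import Groth.Agent.S10362
import Groth.Agent.S10341
import Groth.Agent.S10343
import Groth.Agent.S10193
import Groth.Agent.Lib.Helper1.EtaleReducedScheme

set_option autoImplicit false
universe u
open CategoryTheory CategoryTheory.Limits AlgebraicGeometry Topology TopologicalSpace
open AlgSp

namespace Groth.Agent.S10373

/-- Ring-level factorization: a map to a reduced ring all of whose primes contract to `q` factors
through the residue field of `q`. -/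
theorem exists_lift_residueField {A B : CommRingCat.{u}} [_root_.IsReduced B] (φ : A ⟶ B)
    (q : Spec A) (h : ∀ P : Spec B, Spec.map φ P = q) :
    ∃ θ : Spec B ⟶ Spec ((Spec A).residueField q),
      θ ≫ (Spec A).fromSpecResidueField q = Spec.map φ := by
  have hcomap : ∀ P : Ideal B, P.IsPrime → P.comap φ.hom = q.asIdeal := by
    intro P hP
    have := h ⟨P, hP⟩
    exact congrArg PrimeSpectrum.asIdeal this
  have h₁ : q.asIdeal ≤ RingHom.ker φ.hom := by
    intro a ha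
    rw [RingHom.mem_ker]
    apply IsNilpotent.eq_zero
    rw [nilpotent_iff_mem_prime]
    intro P hP
    have : a ∈ P.comap φ.hom := by rw [hcomap P hP]; exact ha
    exact this
  have h₂ : q.asIdeal.primeCompl ≤ (IsUnit.submonoid B).comap φ.hom := by
    intro a ha
    show IsUnit (φ.hom a)
    by_contra hnu
    obtain ⟨M, hM, haM⟩ := exists_max_ideal_of_mem_nonunits hnu
    have : a ∈ M.comap φ.hom := haM
    rw [hcomap M hM.isPrime] at this
    exact ha this
  let χ : q.asIdeal.ResidueField →+* B := Ideal.ResidueField.lift q.asIdeal φ.hom h₁ h₂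
  refine ⟨Spec.map (CommRingCat.ofHom χ) ≫ Spec.map (Scheme.Spec.residueFieldIso A q).hom, ?_⟩
  have e : CommRingCat.ofHom (algebraMap A q.asIdeal.ResidueField) ≫
      (Scheme.Spec.residueFieldIso A q).inv ≫ (Scheme.Spec.residueFieldIso A q).hom ≫
        CommRingCat.ofHom χ = φ := by
    rw [Iso.inv_hom_id_assoc]
    ext a
    exact Ideal.ResidueField.lift_algebraMap q.asIdeal φ.hom h₁ h₂ a
  rw [← Scheme.Spec.map_residueFieldIso_inv_eq_fromSpecResidueField]
  simp only [← Spec.map_comp, Category.assoc]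
  rw [e]

/-- A field-valued point of `U` whose image lies in the image of a monomorphism `j` lifts through `j`. -/
theorem exists_section_of_mono {U' U : Scheme.{u}} (j : U' ⟶ U) [Mono j] {K : Type u} [Field K]
    (ρ : Spec (CommRingCat.of K) ⟶ U) (s : ↥(Spec (CommRingCat.of K))) (u' : U')
    (h : j u' = ρ s) : ∃ σ : Spec (CommRingCat.of K) ⟶ U', σ ≫ j = ρ := by
  obtain ⟨z, -, -⟩ := Scheme.Pullback.exists_preimage_pullback u' s h
  have : Nonempty ↥(pullback j ρ) := ⟨z⟩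
  have : IsIso (pullback.snd j ρ) := Groth.Agent.S10362.isIso_of_mono_to_field (pullback.snd j ρ)
  exact ⟨inv (pullback.snd j ρ) ≫ pullback.fst j ρ, by
    rw [Category.assoc, pullback.condition, IsIso.inv_hom_id_assoc]⟩

/-- Local lifts through a monomorphism glue. -/
theorem exists_lift_of_local {U' U V : Scheme.{u}} (j : U' ⟶ U) [Mono j] (ψ : V ⟶ U)
    (H : ∀ v : V, ∃ V₀ : V.Opens, v ∈ V₀ ∧ ∃ l : (V₀ : Scheme.{u}) ⟶ U', l ≫ j = V₀.ι ≫ ψ) :
    ∃ ψ' : V ⟶ U', ψ' ≫ j = ψ := by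
  choose V₀ hv l hl using H
  let 𝒰 : V.OpenCover := {
    I₀ := V, X i := (V₀ i), f i := (V₀ i).ι,
    mem₀ := by
      rw [Scheme.presieve₀_mem_precoverage_iff]
      refine ⟨fun x ↦ ⟨x, by simpa using hv x⟩, inferInstance⟩ }
  have hf : ∀ x y : V, pullback.fst (𝒰.f x) (𝒰.f y) ≫ l x = pullback.snd _ _ ≫ l y := by
    intro x y
    rw [← cancel_mono j, Category.assoc, Category.assoc, hl x, hl y]
    exact pullback.condition_assoc _
  refine ⟨𝒰.glueMorphisms l hf, ?_⟩
  apply 𝒰.hom_ext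
  intro x
  rw [Scheme.Cover.ι_glueMorphisms_assoc]
  exact hl x

/-- A morphism from a reduced scheme which is locally constant onto points in the image of a
monomorphism `j` factors through `j`. -/
theorem exists_lift_of_locally_constant {U' U V : Scheme.{u}} (j : U' ⟶ U) [Mono j] (ψ : V ⟶ U)
    [IsReduced V]
    (hloc : ∀ v : V, ∃ N : U.Opens, ψ v ∈ N ∧ ∀ v' : V, ψ v' ∈ N → ψ v' = ψ v)
    (hrange : ∀ v : V, ψ v ∈ Set.range j) : ∃ ψ' : V ⟶ U', ψ' ≫ j = ψ := by
  apply exists_lift_of_local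
  intro v
  obtain ⟨N, huN, hN⟩ := hloc v
  obtain ⟨U₀, hU₀, huU₀, hU₀N⟩ := exists_isAffineOpen_mem_and_subset (x := ψ v) (U := N) huN
  obtain ⟨V₀, hV₀, hvV₀, hV₀U₀⟩ :=
    exists_isAffineOpen_mem_and_subset (x := v) (U := ψ ⁻¹ᵁ U₀) huU₀
  refine ⟨V₀, hvV₀, ?_⟩
  let φ := ψ.appLE U₀ V₀ hV₀U₀
  let q : Spec Γ(U, U₀) := hU₀.primeIdealOf ⟨ψ v, huU₀⟩
  have hq : hU₀.fromSpec q = ψ v := hU₀.fromSpec_primeIdealOf ⟨ψ v, huU₀⟩
  have hcomm := IsAffineOpen.SpecMap_appLE_fromSpec ψ hU₀ hV₀ hV₀U₀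
  have hP : ∀ P : Spec Γ(V, V₀), Spec.map φ P = q := by
    intro P
    apply hU₀.fromSpec.injective
    have h1 : hU₀.fromSpec (Spec.map φ P) = ψ (hV₀.fromSpec P) := by
      rw [← Scheme.Hom.comp_apply, hcomm, Scheme.Hom.comp_apply]
    have h2 : hV₀.fromSpec P ∈ (V₀ : Set V) := by
      rw [← hV₀.range_fromSpec]; exact ⟨P, rfl⟩
    have h3 : ψ (hV₀.fromSpec P) ∈ N := hU₀N (hV₀U₀ h2)
    rw [h1, hN _ h3, hq]
  obtain ⟨θ, hθ⟩ := exists_lift_residueField φ q hP
  let ρ := (Spec Γ(U, U₀)).fromSpecResidueField q ≫ hU₀.fromSpec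
  obtain ⟨u', hu'⟩ := hrange v
  let s : ↥(Spec ((Spec Γ(U, U₀)).residueField q)) := default
  have hρ : j u' = ρ s := by
    rw [hu', Scheme.Hom.comp_apply, Scheme.fromSpecResidueField_apply, hq]
  obtain ⟨σ, hσ⟩ : ∃ σ : Spec ((Spec Γ(U, U₀)).residueField q) ⟶ U', σ ≫ j = ρ :=
    exists_section_of_mono j ρ s u' hρ
  refine ⟨hV₀.isoSpec.hom ≫ θ ≫ σ, ?_⟩
  rw [Category.assoc, Category.assoc, hσ]
  show hV₀.isoSpec.hom ≫ θ ≫ (Spec Γ(U, U₀)).fromSpecResidueField q ≫ hU₀.fromSpec = _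
  rw [reassoc_of% hθ, hcomm, hV₀.isoSpec_hom_fromSpec_assoc]


/-- In a space where the points of `Φ` in the open `U₀` are finitely many and pairwise unrelated by
specialization, each such point has an open neighbourhood meeting `Φ` only in that point. -/
theorem exists_open_separating {α : Type*} [TopologicalSpace α] (Φ : Set α) (U₀ : Opens α)
    (hfin : (Φ ∩ (U₀ : Set α)).Finite)
    (hsp : ∀ u ∈ Φ, ∀ w ∈ Φ, w ⤳ u → u = w) (u : α) (hu : u ∈ Φ) (huU : u ∈ U₀) :
    ∃ N : Opens α, u ∈ N ∧ ∀ w ∈ Φ, w ∈ N → w = u := by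
  let C : Set α := ⋃ w ∈ (Φ ∩ (U₀ : Set α)) \ {u}, closure {w}
  have hC : IsClosed C := (hfin.subset Set.sdiff_subset).isClosed_biUnion fun _ _ => isClosed_closure
  refine ⟨U₀ ⊓ ⟨Cᶜ, hC.isOpen_compl⟩, ⟨huU, ?_⟩, ?_⟩
  · intro huC
    simp only [C, Set.mem_iUnion] at huC
    obtain ⟨w, ⟨⟨hwΦ, -⟩, hwu⟩, hw⟩ := huC
    have : w ⤳ u := specializes_iff_mem_closure.2 hw
    exact hwu (hsp u hu w hwΦ this).symm
  · rintro w hwΦ ⟨hwU, hwC⟩
    by_contra hne
    apply hwC
    simp only [C, Set.mem_iUnion]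
    exact ⟨w, ⟨⟨hwΦ, hwU⟩, hne⟩, subset_closure rfl⟩

variable {S : Scheme.{u}}

open Groth.Agent.Lib.helper11 in
theorem main {Y X : AlgSp.Space S} (f : Y ⟶ X)
    (x : AlgSp.Points X.obj) (p : AlgSp.FieldPt X.obj) (hp : AlgSp.Points.mk p = x)
    (hm : Mono p.toHom)
    (hq : AlgSp.RepWith @QuasiCompact p.toHom)
    (hY : AlgSp.EtaleLocally (fun U => IsReduced U) Y.obj)
    (hf : ∀ y : AlgSp.Points Y.obj, AlgSp.Points.map f.hom y = x) :
    ∃ g : Y.obj ⟶ (AlgSp.yon S).obj p.pt, g ≫ p.toHom = f.hom := by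
  subst hp
  obtain ⟨V, b, hbe, hbs, hVR⟩ := hY
  have hVR' : IsReduced V.left := hVR
  obtain ⟨U, a, hae, has⟩ := X.property.atlas
  -- refine the chart of `Y` so that it maps to `U`
  obtain ⟨V', snd, fst, sq⟩ := hae.rep (b ≫ f.hom)
  obtain ⟨ψ, rfl⟩ := (yon S).map_surjective fst
  have hsnd_et : Etale snd.left := hae.property _ _ snd sq
  have hsnd_surj : Surjective snd.left := has.property _ _ snd sq
  have hV'R : IsReduced V'.left := Groth.Agent.H1.EtaleReduced.isReduced_of_etale snd.left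
  have hb'e : RepWith @Etale ((yon S).map snd ≫ b) :=
    (repWith_isMultiplicative (S := S) @Etale).comp_mem _ _
      ((repWith_yon_map_iff @Etale snd).2 hsnd_et) hbe
  have hb's : RepWith @Surjective ((yon S).map snd ≫ b) :=
    (repWith_isMultiplicative (S := S) @Surjective).comp_mem _ _
      ((repWith_yon_map_iff @Surjective snd).2 hsnd_surj) hbs
  have hsq : ((yon S).map snd ≫ b) ≫ f.hom = (yon S).map ψ ≫ a := by
    rw [Category.assoc]; exact sq.w.symm
  -- the base change of the point to `U`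
  obtain ⟨U', j, c, sq'⟩ := hq.rep a
  obtain ⟨c₀, rfl⟩ := (yon S).map_surjective c
  have hjm : Mono ((yon S).map j) := sq'.mono_snd_of_mono
  have hjm' : Mono j := (yon S).mono_of_mono_map hjm
  have hjl : Mono j.left := inferInstance
  -- the fibre over `x`
  let Φ : Set ↥U.left := Points.ofPt a ⁻¹' {Points.mk p}
  have hψΦ : ∀ v : ↥V'.left, ψ.left v ∈ Φ := by
    intro v
    show Points.ofPt a (ψ.left v) = Points.mk p
    rw [← ofPt_yon_map_comp, ← hsq, ← Points.map_ofPt]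
    exact hf _
  have hΦrange : ∀ u ∈ Φ, u ∈ Set.range j.left := by
    intro u hu
    let s0 : ↥p.pt.left := (IsLocalRing.closedPoint p.K : ↥(Spec (CommRingCat.of p.K)))
    have hut : Points.ofPt p.toHom s0 = Points.ofPt a u := by
      rw [Points.ofPt_toHom]; exact hu.symm
    obtain ⟨w, -, hw⟩ := exists_of_isPullback_schemes sq' s0 u hut
    exact ⟨w, hw⟩
  have hfin : ∀ (W : Over S) (d : (yon S).obj W ⟶ X.obj), IsAffine W.left → RepWith @Etale d →
      (Points.ofPt d ⁻¹' {Points.mk p}).Finite := by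
    intro W d hW hd
    have : CompactSpace ↥W.left := inferInstance
    exact Groth.Agent.S10343.finite_fibre_of_qc_point p hq d hd
  have hsp : ∀ u ∈ Φ, ∀ w ∈ Φ, w ⤳ u → u = w := fun u hu w hw h =>
    Groth.Agent.S10341.main X (Points.mk p) hfin a hae u w hu hw h
  have hloc : ∀ v : ↥V'.left, ∃ N : U.left.Opens, ψ.left v ∈ N ∧
      ∀ v' : ↥V'.left, ψ.left v' ∈ N → ψ.left v' = ψ.left v := by
    intro v
    obtain ⟨U₀, hU₀, huU₀, -⟩ :=
      exists_isAffineOpen_mem_and_subset (x := ψ.left v) (U := ⊤) trivial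
    obtain ⟨hae₀, hpt⟩ := chart_comp a hae U₀.ι
    have hU₀a : IsAffine (Over.mk (U₀.ι ≫ U.hom)).left := hU₀
    have hfin₀ := hfin _ _ hU₀a hae₀
    have hfinΦ : (Φ ∩ (U₀ : Set ↥U.left)).Finite := by
      refine (hfin₀.image (fun w => U₀.ι w)).subset ?_
      rintro u ⟨huΦ, huU⟩
      refine ⟨⟨u, huU⟩, ?_, rfl⟩
      show Points.ofPt _ _ = Points.mk p
      rw [hpt]
      exact huΦ
    obtain ⟨N, huN, hN⟩ := exists_open_separating Φ U₀ hfinΦ hsp (ψ.left v) (hψΦ v) huU₀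
    exact ⟨N, huN, fun v' hv' => hN _ (hψΦ v') hv'⟩
  obtain ⟨ψ', hψ'⟩ := exists_lift_of_locally_constant j.left ψ.left hloc
    (fun v => hΦrange _ (hψΦ v))
  let ψ'' : V' ⟶ U' := Over.homMk ψ' (by
    rw [← Over.w j, ← Category.assoc, hψ', Over.w ψ])
  have hψ'' : ψ'' ≫ j = ψ := by
    apply Over.OverMorphism.ext
    exact hψ'
  have hgV : ((yon S).map ψ'' ≫ (yon S).map c₀) ≫ p.toHom = ((yon S).map snd ≫ b) ≫ f.hom := by
    rw [Category.assoc, sq'.w, ← Category.assoc, ← Functor.map_comp, hψ'', hsq]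
  have hepi : Epi ((yon S).map snd ≫ b) := Groth.Agent.S10193.epi_of_chart _ hb'e hb's
  exact Groth.Agent.S10193.exists_factor_of_chart p.toHom f.hom ((yon S).map snd ≫ b) _ hgV

/-- Let S be a scheme, Y and X algebraic spaces over S, and f : Y ⟶ X a morphism with Y reduced and
|f|(|Y|) ⊆ {x}, where x ∈ |X| is represented by a monomorphism Spec k ⟶ X which is representable
quasi-compact (for instance X decent). Then f factors through Spec k ⟶ X. -/
theorem result {S : Scheme.{u}} {Y X : AlgSp.Space S} (f : Y ⟶ X)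
    (x : AlgSp.Points X.obj) (p : AlgSp.FieldPt X.obj) (hp : AlgSp.Points.mk p = x) (hm : Mono p.toHom)
    (hq : AlgSp.RepWith @QuasiCompact p.toHom) (hY : AlgSp.EtaleLocally (fun U => IsReduced U) Y.obj)
    (hf : ∀ y : AlgSp.Points Y.obj, AlgSp.Points.map f.hom y = x) :
    ∃ g : Y.obj ⟶ (AlgSp.yon S).obj p.pt, g ≫ p.toHom = f.hom := by
  exact main f x p hp hm hq hY hf

end Groth.Agent.S10373
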