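import Groth.Statements.S10546
import Groth.Agent.Lib.Helper5.AlgSpFpqcIso

set_option autoImplicit false
universe u
open CategoryTheory CategoryTheory.Limits AlgebraicGeometry
open AlgSp

namespace Groth.Agent.S10546

open Groth.Agent.Lib.helper5 Groth.Agent.Lib.helper5.FpqcIso in
/-- A morphism of algebraic spaces whose base changes along an fpqc covering are monomorphisms is a monomorphism. -/
theorem mono_of_fpqc {S : Scheme.{u}} {ι : Type u} {Y : Sp S} (Yi : ι → Sp S) (g : ∀ i, Yi i ⟶ Y)
    (hY : IsAlgSpace Y) (hg : IsFpqcCover Yi g) {X : Sp S} (f : X ⟶ Y) (hX : IsAlgSpace X)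
    (Xi : ι → Sp S) (p : ∀ i, Xi i ⟶ Yi i) (q : ∀ i, Xi i ⟶ X)
    (sq : ∀ i, IsPullback (q i) (p i) f (g i)) (hp : ∀ i, Mono (p i)) : Mono f := by
  have sqD : IsPullback (pullback.fst f f) (pullback.snd f f) f f := IsPullback.of_hasPullback f f
  have hD : IsAlgSpace (pullback f f) := isAlgSpace_of_isPullback hY.diag hX hX sqD
  have hlift : FpqcLocallyLifts (pullback.diagonal f) := by
    intro Z hZ h
    obtain ⟨m, W, c, hWa, hcf, hcs, hl⟩ := hg.2 Z hZ (h ≫ pullback.fst f f ≫ f)
    refine ⟨m, W, c, hWa, hcf, hcs, fun j => ?_⟩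
    obtain ⟨i, l, hli⟩ := hl j
    have e1 : ((yon S).map (c j) ≫ h ≫ pullback.fst f f) ≫ f = l ≫ g i := by
      rw [hli]; simp only [Category.assoc]
    have e2 : ((yon S).map (c j) ≫ h ≫ pullback.snd f f) ≫ f = l ≫ g i := by
      rw [hli]; simp only [Category.assoc]; rw [pullback.condition]
    have := hp i
    have hu : (sq i).lift _ _ e1 = (sq i).lift _ _ e2 := by
      rw [← cancel_mono (p i), (sq i).lift_snd, (sq i).lift_snd]
    have heq : (yon S).map (c j) ≫ h ≫ pullback.fst f f =
        (yon S).map (c j) ≫ h ≫ pullback.snd f f := by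
      rw [← (sq i).lift_fst _ _ e1, hu, (sq i).lift_fst]
    refine ⟨(yon S).map (c j) ≫ h ≫ pullback.fst f f, ?_⟩
    apply pullback.hom_ext
    · simp
    · simp only [Category.assoc, pullback.diagonal_snd, Category.comp_id]
      exact heq
  have : IsIso (pullback.diagonal f) :=
    isIso_of_mono_of_fpqcLocallyLifts hX hD (pullback.diagonal f) hlift
  have hfs : pullback.fst f f = pullback.snd f f := by
    rw [← cancel_epi (pullback.diagonal f)]
    simp
  constructor
  intro T a b hab
  rw [← pullback.lift_fst a b hab, hfs, pullback.lift_snd]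

/-- The property of morphisms of algebraic spaces over S given by f is a monomorphism (of fppf sheaves,
equivalently of algebraic spaces) is fpqc local on the base: for an fpqc covering of an algebraic
space Y by algebraic spaces Y_i, a morphism f : X ⟶ Y of algebraic spaces and cartesian squares X_i
= Y_i ×_Y X, f has the property if and only if every X_i ⟶ Y_i has it. -/
theorem result (S : Scheme.{u}) :
    AlgSp.IsLocalOnBase (AlgSp.IsFpqcCover (S := S)) (MorphismProperty.monomorphisms (AlgSp.Sp S)) := by
  intro ι Y Yi g hY hYi hg X f hX Xi p q hXi sq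
  simp only [MorphismProperty.monomorphisms.iff]
  refine ⟨fun hf i => (sq i).mono_snd_of_mono, fun hp => ?_⟩
  exact mono_of_fpqc Yi g hY hg f hX Xi p q sq hp

end Groth.Agent.S10546
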