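import Groth.Statements.S10531
import Groth.Agent.S10546
import Groth.Agent.S10522
import Groth.Agent.Lib.Helper5.AlgSpOpenSub

set_option autoImplicit false
universe u
open CategoryTheory CategoryTheory.Limits AlgebraicGeometry
open AlgSp

namespace Groth.Agent.S10531

open Groth.Agent.Lib.helper5 in
theorem map_ι_mem {S : Scheme.{u}} {Y : Sp S} (Ω : Set (Points Y)) (w : Points (OpenSub.sub Y Ω)) :
    Points.map (OpenSub.ι Y Ω) w ∈ Ω := by
  have h : Points.map (OpenSub.ι Y Ω) w ∈ Set.range (Points.map (OpenSub.ι Y Ω)) := ⟨w, rfl⟩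
  rwa [OpenSub.range_map_ι] at h

open Groth.Agent.Lib.helper5 Groth.Agent.Lib.helper5.FpqcIso in
theorem main {S : Scheme.{u}} {ι : Type u} {Y : Sp S} (Yi : ι → Sp S) (g : ∀ i, Yi i ⟶ Y)
    (hY : IsAlgSpace Y) (hYi : ∀ i, IsAlgSpace (Yi i)) (hg : IsFpqcCover Yi g) {X : Sp S} (f : X ⟶ Y)
    (hX : IsAlgSpace X) (Xi : ι → Sp S) (p : ∀ i, Xi i ⟶ Yi i) (q : ∀ i, Xi i ⟶ X)
    (hXi : ∀ i, IsAlgSpace (Xi i))
    (sq : ∀ i, IsPullback (q i) (p i) f (g i)) (hp : ∀ i, RepWith @IsOpenImmersion (p i)) :
    RepWith @IsOpenImmersion f := by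
  -- `f` is a monomorphism
  have hpm : ∀ i, Mono (p i) := fun i => Groth.Agent.S9928.mono_of_repWith_mono (p i)
    (Groth.Agent.S10194.repWith_mono
      (fun _ _ k hk => by have : IsOpenImmersion k := hk; infer_instance) (hp i))
  have hmono : Mono f := Groth.Agent.S10546.mono_of_fpqc Yi g hY hg f hX Xi p q sq hpm
  -- `f` is universally open
  have hpo : ∀ i, IsUnivOpenMor (p i) := by
    intro i Z Z' hZ k fst snd sqZ
    have h1 : RepWith @IsOpenImmersion snd :=
      (AlgSp.repWith_isStableUnderBaseChange (S := S) @IsOpenImmersion).of_isPullback sqZ (hp i)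
    exact isOpenMap_map_of_repWith_etale snd (Groth.Agent.S10194.repWith_mono
      (fun _ _ k hk => by have : IsOpenImmersion k := hk; infer_instance) h1)
  have hfo : IsUnivOpenMor f :=
    ((Groth.Agent.S10522.result S) Yi g hY hYi hg f hX Xi p q hXi sq).2 hpo
  have hopen : IsOpenMap (Points.map f) := hfo hY (𝟙 Y) (𝟙 X) f IsPullback.of_id_fst
  have hΩ : IsOpen (Set.range (Points.map f)) := hopen.isOpen_range
  -- the open subspace
  have hj : RepWith @IsOpenImmersion (OpenSub.ι Y (Set.range (Points.map f))) :=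
    OpenSub.repWith_ι Y hΩ
  have hY' : IsAlgSpace (OpenSub.sub Y (Set.range (Points.map f))) := OpenSub.isAlgSpace_sub hY hΩ
  obtain ⟨f', hf'⟩ := (OpenSub.factors_iff (OpenSub.ι Y (Set.range (Points.map f))) hj f).2
    (by rw [OpenSub.range_map_ι])
  have hmono' : Mono f' := by
    have : Mono (f' ≫ OpenSub.ι Y (Set.range (Points.map f))) := by rw [hf']; exact hmono
    exact mono_of_mono f' (OpenSub.ι Y (Set.range (Points.map f)))
  have hiso : IsIso f' := by
    refine isIso_of_mono_of_fpqcLocallyLifts hX hY' f' ?_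
    intro Z hZ h
    obtain ⟨m, W, c, hWa, hcf, hcs, hl⟩ :=
      hg.2 Z hZ (h ≫ OpenSub.ι Y (Set.range (Points.map f)))
    refine ⟨m, W, c, hWa, hcf, hcs, fun j => ?_⟩
    obtain ⟨i, l, hli⟩ := hl j
    have sqP : IsPullback (pullback.fst (p i) l) (pullback.snd (p i) l) (p i) l :=
      IsPullback.of_hasPullback _ _
    have sqP' := sqP.paste_horiz (sq i)
    have h1 : RepWith @IsOpenImmersion (pullback.snd (p i) l) :=
      (AlgSp.repWith_isStableUnderBaseChange (S := S) @IsOpenImmersion).of_isPullback sqP (hp i)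
    have h2 : IsSurjectiveMor (pullback.snd (p i) l) := by
      intro z
      have hz : Points.map (l ≫ g i) z ∈ Set.range (Points.map f) := by
        rw [hli, ← Category.assoc, Points.map_comp]
        exact map_ι_mem _ _
      obtain ⟨x₀, hx₀⟩ := hz
      obtain ⟨w, _, hw⟩ := Groth.Agent.Lib.helper10.exists_point_of_isPullback sqP' x₀ z hx₀
      exact ⟨w, hw⟩
    have : IsIso (pullback.snd (p i) l) :=
      Groth.Agent.S10194.isIso_of_openImmersion_of_surjective _ h1 h2
    refine ⟨inv (pullback.snd (p i) l) ≫ pullback.fst (p i) l ≫ q i, ?_⟩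
    rw [← cancel_mono (OpenSub.ι Y (Set.range (Points.map f)))]
    simp only [Category.assoc]
    have hw := sqP'.w
    rw [Category.assoc] at hw
    rw [hf', hw, IsIso.inv_hom_id_assoc, hli]
  rw [← hf']
  exact ((RepWith (S := S) @IsOpenImmersion).cancel_left_of_respectsIso f' _).2 hj

/-- The property of morphisms of algebraic spaces over S given by f is an open immersion (representable
by open immersions of schemes) is fpqc local on the base: for an fpqc covering of an algebraic space
Y by algebraic spaces Y_i, a morphism f : X ⟶ Y of algebraic spaces and cartesian squares X_i = Y_i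
×_Y X, f has the property if and only if every X_i ⟶ Y_i has it. -/
theorem result (S : Scheme.{u}) :
    AlgSp.IsLocalOnBase (AlgSp.IsFpqcCover (S := S)) (AlgSp.RepWith @IsOpenImmersion) := by
  intro ι Y Yi g hY hYi hg X f hX Xi p q hXi sq
  refine ⟨fun hf i =>
    (AlgSp.repWith_isStableUnderBaseChange (S := S) @IsOpenImmersion).of_isPullback (sq i) hf,
    fun hp => main Yi g hY hYi hg f hX Xi p q hXi sq hp⟩

end Groth.Agent.S10531
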