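import Groth.Statements.S10505
import Groth.Agent.Lib.Helper11.AlgSpBasic

set_option autoImplicit false
universe u
open CategoryTheory CategoryTheory.Limits AlgebraicGeometry
open AlgSp

namespace Groth.Agent.S10505

/-- An fppf covering `{X_i ⟶ X}` of an algebraic space: every `h_T ⟶ X` lifts through members of the family
along a jointly surjective family of flat, locally finitely presented morphisms to `T`. -/
theorem exists_family {S : Scheme.{u}} (X : AlgSp.Space S) {ι : Type u}
    (Xi : ι → AlgSp.Space S) (g : ∀ i, Xi i ⟶ X)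
    (h : AlgSp.IsFppfCover (fun i => (Xi i).obj) (fun i => (g i).hom))
    (T : Over S) (t : (AlgSp.yon S).obj T ⟶ X.obj) :
    ∃ (κ : Type u) (Tk : κ → Over S) (c : ∀ k, Tk k ⟶ T),
      (∀ k, Flat (c k).left) ∧ (∀ k, LocallyOfFinitePresentation (c k).left) ∧
      (∀ x : ↥T.left, ∃ k, x ∈ Set.range (c k).left) ∧
      ∀ k, ∃ (i : ι) (l : (AlgSp.yon S).obj (Tk k) ⟶ (Xi i).obj),
        l ≫ (g i).hom = (AlgSp.yon S).map (c k) ≫ t := by
  obtain ⟨hP, hsurj⟩ := h
  -- an atlas of `X`
  obtain ⟨V, b, hbe, hbs⟩ := X.property.atlas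
  -- pull back the atlas along `t`
  obtain ⟨T', p, β₀, sqT⟩ := hbe.rep t
  obtain ⟨β, rfl⟩ := (AlgSp.yon S).map_surjective β₀
  have hpe : Etale p.left := hbe.2 _ _ p sqT
  have hps : Surjective p.left := hbs.2 _ _ p sqT
  -- atlases of the `X_i` and their pullbacks to `V`
  have hat : ∀ i, ∃ (U : Over S) (a : (AlgSp.yon S).obj U ⟶ (Xi i).obj),
      AlgSp.RepWith @Etale a ∧ AlgSp.RepWith @Surjective a := fun i => (Xi i).property.atlas
  choose U a hae has using hat
  have hW : ∀ i, ∃ (W : Over S) (π : W ⟶ U i) (hh : W ⟶ V),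
      IsPullback ((AlgSp.yon S).map hh) ((AlgSp.yon S).map π) b (a i ≫ (g i).hom) := by
    intro i
    obtain ⟨W, π, h₀, sq⟩ := hbe.rep (a i ≫ (g i).hom)
    obtain ⟨hh, rfl⟩ := (AlgSp.yon S).map_surjective h₀
    exact ⟨W, π, hh, sq⟩
  choose W π hh sqW using hW
  have hπe : ∀ i, Etale (π i).left := fun i => hbe.2 _ _ (π i) (sqW i)
  have hflat : ∀ i, Flat (hh i).left := by
    intro i
    refine (hP i).1 ((AlgSp.yon S).map (π i) ≫ a i) b (hh i) ?_ hbe ?_
    · exact (AlgSp.repWith_isMultiplicative (S := S) @Etale).comp_mem _ _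
        ((AlgSp.repWith_yon_map_iff _ (π i)).2 (hπe i)) (hae i)
    · rw [Category.assoc]; exact (sqW i).w.symm
  have hlfp : ∀ i, LocallyOfFinitePresentation (hh i).left := by
    intro i
    refine (hP i).2 ((AlgSp.yon S).map (π i) ≫ a i) b (hh i) ?_ hbe ?_
    · exact (AlgSp.repWith_isMultiplicative (S := S) @Etale).comp_mem _ _
        ((AlgSp.repWith_yon_map_iff _ (π i)).2 (hπe i)) (hae i)
    · rw [Category.assoc]; exact (sqW i).w.symm
  -- the covering family
  have sq1 : ∀ i, IsPullback (pullback.fst (hh i) β) (pullback.snd (hh i) β) (hh i) β :=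
    fun i => IsPullback.of_hasPullback _ _
  have sq1' : ∀ i, IsPullback (pullback.fst (hh i) β).left (pullback.snd (hh i) β).left (hh i).left β.left :=
    fun i => (sq1 i).map (Over.forget S)
  refine ⟨ι, fun i => pullback (hh i) β, fun i => pullback.snd (hh i) β ≫ p, ?_, ?_, ?_, ?_⟩
  · intro i
    have : Flat (pullback.snd (hh i) β).left :=
      MorphismProperty.of_isPullback (P := @Flat) (sq1' i) (hflat i)
    have : Flat p.left := inferInstance
    change Flat ((pullback.snd (hh i) β).left ≫ p.left)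
    infer_instance
  · intro i
    have : LocallyOfFinitePresentation (pullback.snd (hh i) β).left :=
      MorphismProperty.of_isPullback (P := @LocallyOfFinitePresentation) (sq1' i) (hlfp i)
    have : LocallyOfFinitePresentation p.left := inferInstance
    change LocallyOfFinitePresentation ((pullback.snd (hh i) β).left ≫ p.left)
    infer_instance
  · intro τ
    obtain ⟨τ', hτ'⟩ := hps.surj τ
    obtain ⟨i, xi, hxi⟩ := hsurj (AlgSp.Points.ofPt b (β.left τ'))
    obtain ⟨u, hu⟩ := Groth.Agent.Lib.helper11.surjective_ofPt (a i) (has i) xi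
    have e : AlgSp.Points.ofPt b (β.left τ') = AlgSp.Points.ofPt (a i ≫ (g i).hom) u := by
      rw [← AlgSp.Points.map_ofPt, hu, hxi]
    obtain ⟨w, hw1, hw2⟩ := Groth.Agent.Lib.helper11.exists_of_isPullback_schemes (sqW i) (β.left τ') u e
    obtain ⟨z, hz1, hz2⟩ := Scheme.Pullback.exists_preimage_pullback
      (f := (hh i).left) (g := β.left) w τ' hw1
    refine ⟨i, (sq1' i).isoPullback.inv z, ?_⟩
    change ((pullback.snd (hh i) β).left ≫ p.left) ((sq1' i).isoPullback.inv z) = τ
    rw [Scheme.Hom.comp_apply, ← Scheme.Hom.comp_apply (sq1' i).isoPullback.inv,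
      (sq1' i).isoPullback_inv_snd, hz2, hτ']
  · intro i
    refine ⟨i, (AlgSp.yon S).map (pullback.fst (hh i) β ≫ π i) ≫ a i, ?_⟩
    rw [Functor.map_comp, Functor.map_comp, Category.assoc, Category.assoc, Category.assoc,
      ← (sqW i).w, ← sqT.w, ← Functor.map_comp_assoc, ← Functor.map_comp_assoc,
      (sq1 i).w]

/-- An fppf covering of an algebraic space `X` over `S` by algebraic spaces (each member flat and
locally of finite presentation etale locally on source and target, the family jointly surjective on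
points) is an fpqc covering of `X` (each member flat, and every morphism from an affine scheme to
`X` admits a standard fpqc covering of the affine scheme whose members lift through members of the
family). -/
theorem result {S : Scheme.{u}} (X : AlgSp.Space S) {ι : Type u}
    (Xi : ι → AlgSp.Space S) (g : ∀ i, Xi i ⟶ X)
    (h : AlgSp.IsFppfCover (fun i => (Xi i).obj) (fun i => (g i).hom)) :
    AlgSp.IsFpqcCover (fun i => (Xi i).obj) (fun i => (g i).hom) := by
  refine ⟨fun i => (h.1 i).1, ?_⟩
  intro Z hZ t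
  obtain ⟨κ, Tk, c, hc1, hc2, hc3, hc4⟩ := exists_family X Xi g h Z t
  -- for each point of `Z` choose a member, a preimage and an affine open neighbourhood of it
  choose k τ hτ using hc3
  have hA : ∀ z : ↥Z.left, ∃ A : (Tk (k z)).left.Opens, IsAffineOpen A ∧ τ z ∈ A := by
    intro z
    obtain ⟨_, ⟨A, hA, rfl⟩, hxA, -⟩ :=
      ((Tk (k z)).left.isBasis_affineOpens).exists_subset_of_mem_open (Set.mem_univ (τ z)) isOpen_univ
    exact ⟨A, hA, hxA⟩
  choose A hAaff hAmem using hA
  have hopen : ∀ z : ↥Z.left, IsOpen ((c (k z)).left '' (A z : Set (Tk (k z)).left)) := by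
    intro z
    have i1 : Flat (c (k z)).left := hc1 _
    have i2 : LocallyOfFinitePresentation (c (k z)).left := hc2 _
    exact (c (k z)).left.isOpenMap _ (A z).isOpen
  have hcompact : IsCompact (Set.univ : Set ↥Z.left) := isCompact_univ
  obtain ⟨F, hF⟩ := hcompact.elim_finite_subcover
    (fun z : ↥Z.left => (c (k z)).left '' (A z : Set (Tk (k z)).left)) hopen
    (fun z _ => Set.mem_iUnion.2 ⟨z, τ z, hAmem z, hτ z⟩)
  let e := F.equivFin
  let zz : Fin F.card → ↥Z.left := fun j => (e.symm j : ↥Z.left)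
  let m : ∀ j : Fin F.card, Over.mk ((A (zz j)).ι ≫ (Tk (k (zz j))).hom) ⟶ Tk (k (zz j)) :=
    fun j => Over.homMk (A (zz j)).ι rfl
  refine ⟨F.card, fun j => Over.mk ((A (zz j)).ι ≫ (Tk (k (zz j))).hom),
    fun j => m j ≫ c (k (zz j)), ?_, ?_, ?_, ?_⟩
  · intro j
    exact hAaff (zz j)
  · intro j
    have i1 : Flat (c (k (zz j))).left := hc1 _
    change Flat ((A (zz j)).ι ≫ (c (k (zz j))).left)
    infer_instance
  · intro z
    have hz := hF (Set.mem_univ z)
    simp only [Set.mem_iUnion] at hz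
    obtain ⟨z', hz'F, y, hyA, hy⟩ := hz
    refine ⟨e ⟨z', hz'F⟩, ?_⟩
    have ez : zz (e ⟨z', hz'F⟩) = z' := by simp [zz]
    change z ∈ Set.range ((A (zz (e ⟨z', hz'F⟩))).ι ≫ (c (k (zz (e ⟨z', hz'F⟩)))).left)
    rw [ez]
    exact ⟨⟨y, hyA⟩, hy⟩
  · intro j
    obtain ⟨i, l, hl⟩ := hc4 (k (zz j))
    refine ⟨i, (AlgSp.yon S).map (m j) ≫ l, ?_⟩
    rw [Category.assoc, hl, Functor.map_comp, Category.assoc]

end Groth.Agent.S10505
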