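import Groth.Statements.S10506
import Groth.Agent.Lib.Helper1.LocPFlatBC

set_option autoImplicit false
universe u
open CategoryTheory CategoryTheory.Limits AlgebraicGeometry
open AlgSp

namespace Groth.Agent.S10506

/-- Base change of an fpqc covering of algebraic spaces (sheaf-level version). -/
theorem isFpqcCover_of_isPullback {S : Scheme.{u}} {X X' : Sp S} (hX : IsAlgSpace X)
    (hX' : IsAlgSpace X') (a : X' ⟶ X) {ι : Type u}
    (Xi : ι → Sp S) (hXi : ∀ i, IsAlgSpace (Xi i)) (g : ∀ i, Xi i ⟶ X) (Xi' : ι → Sp S)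
    (q : ∀ i, Xi' i ⟶ X') (p : ∀ i, Xi' i ⟶ Xi i) (sq : ∀ i, IsPullback (q i) (p i) a (g i))
    (h : AlgSp.IsFpqcCover Xi g) : AlgSp.IsFpqcCover Xi' q := by
  refine ⟨fun i => ?_, fun Z hZ hh => ?_⟩
  · exact Groth.Agent.H1.LocPFlatBC.locP_flat_of_isPullback (hXi i) hX hX' (sq i).flip (h.1 i)
  · obtain ⟨m, W, c, h1, h2, h3, h4⟩ := h.2 Z hZ (hh ≫ a)
    refine ⟨m, W, c, h1, h2, h3, fun j => ?_⟩
    obtain ⟨i, l, hl⟩ := h4 j
    exact ⟨i, (sq i).lift ((yon S).map (c j) ≫ hh) l (by rw [Category.assoc, hl]),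
      (sq i).lift_fst _ _ _⟩

/-- The base change of an fpqc covering of an algebraic space `X` by algebraic spaces along a morphism
of algebraic spaces `X' ⟶ X` is an fpqc covering of `X'`; the base changes `X' ×_X X_i ⟶ X'` are
given as pullback squares of sheaves whose corners `X'_i` are algebraic spaces. -/
theorem result {S : Scheme.{u}} {X X' : AlgSp.Space S} (a : X' ⟶ X) {ι : Type u}
    (Xi : ι → AlgSp.Space S) (g : ∀ i, Xi i ⟶ X) (Xi' : ι → AlgSp.Space S) (q : ∀ i, Xi' i ⟶ X')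
    (p : ∀ i, Xi' i ⟶ Xi i) (sq : ∀ i, IsPullback (q i).hom (p i).hom a.hom (g i).hom)
    (h : AlgSp.IsFpqcCover (fun i => (Xi i).obj) (fun i => (g i).hom)) :
    AlgSp.IsFpqcCover (fun i => (Xi' i).obj) (fun i => (q i).hom) := by
  exact isFpqcCover_of_isPullback X.property X'.property a.hom _ (fun i => (Xi i).property) _ _ _ _ sq h

end Groth.Agent.S10506
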