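import Groth.Statements.S10233
import Groth.Agent.S10547
import Groth.Agent.S10534
import Groth.Agent.S10531
import Groth.Agent.S9888
import Groth.Agent.Lib.Helper5.AlgSpEpi
import Groth.Agent.Lib.Helper5.AlgSpEtFpqc

set_option autoImplicit false
universe u
open CategoryTheory CategoryTheory.Limits AlgebraicGeometry Topology TopologicalSpace
open AlgSp

namespace Groth.Agent.S10233

open Groth.Agent.Lib.helper5

variable {S : Scheme.{u}}

/-- A map to the target of a monomorphism of sheaves factors through it as soon as it does so locally. -/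
theorem exists_factor_of_liftSieve {A B : Sp S} (f : A ⟶ B) [Mono f] {T : Over S}
    (η : (yon S).obj T ⟶ B) (h : Epi.liftSieve f η ∈ (AlgSp.J S) T) :
    ∃ x : (yon S).obj T ⟶ A, x ≫ f = η := by
  have sq : IsPullback (pullback.fst η f) (pullback.snd η f) η f := IsPullback.of_hasPullback _ _
  have hm : Mono (pullback.fst η f) := inferInstance
  have hiso : IsIso (pullback.fst η f) := by
    apply Epi.isIso_of_mono_of_liftSieve
    intro T' η'
    obtain ⟨c, rfl⟩ := (yon S).map_surjective η'
    refine (AlgSp.J S).superset_covering ?_ ((AlgSp.J S).pullback_stable c h)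
    rintro T'' d ⟨x, hx⟩
    refine ⟨sq.lift ((yon S).map (d ≫ c)) x hx.symm, ?_⟩
    rw [sq.lift_fst, Functor.map_comp]
  exact ⟨inv (pullback.fst η f) ≫ pullback.snd η f, by
    rw [Category.assoc, ← sq.w, IsIso.inv_hom_id_assoc]⟩

section Construction

variable {X : Sp S} {R U : Over S} {s t : R ⟶ U} {p : (yon S).obj U ⟶ X}
  (hp : IsPresentation s t p) {Z' R' : Scheme.{u}} (i' : Z' ⟶ U.left) {k : R' ⟶ R.left} {s' t' : R' ⟶ Z'}
  (hs : IsPullback k s' s.left i') (ht : IsPullback k t' t.left i')

/-- The source of the immersion, over `S`. -/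
abbrev Zo : Over S := Over.mk (i' ≫ U.hom)

/-- The immersion, over `S`. -/
abbrev ιo : Zo i' ⟶ U := Over.homMk i' rfl

include hp hs ht in
/-- If two `T`-points of `U` have the same image in `X` and one factors through `Z'`, so does the other. -/
theorem factor_of_equiv {T : Over S} (b : T ⟶ U) (z : T ⟶ Zo i')
    (h : (yon S).map (z ≫ ιo i') ≫ p = (yon S).map b ≫ p) : ∃ z' : T ⟶ Zo i', z' ≫ ιo i' = b := by
  obtain ⟨r, hr⟩ := (yon S).map_surjective
    (hp.isPullback.lift ((yon S).map b) ((yon S).map (z ≫ ιo i')) h.symm)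
  have h1 : r ≫ t = b := (yon S).map_injective (by rw [Functor.map_comp, hr, IsPullback.lift_fst])
  have h2 : r ≫ s = z ≫ ιo i' :=
    (yon S).map_injective (by rw [Functor.map_comp, hr, IsPullback.lift_snd])
  have h3 : r.left ≫ s.left = z.left ≫ i' := by
    have := congrArg (fun m => m.left) h2
    simpa using this
  obtain ⟨r', hr'1, hr'2⟩ := hs.exists_lift r.left z.left h3
  have h4 : (r' ≫ t') ≫ i' = b.left := by
    rw [Category.assoc, ← ht.w, ← Category.assoc, hr'1, ← Over.comp_left, h1]
  refine ⟨Over.homMk (r' ≫ t') ?_, ?_⟩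
  · show (r' ≫ t') ≫ i' ≫ U.hom = T.hom
    rw [← Category.assoc, h4, Over.w b]
  · apply Over.OverMorphism.ext
    exact h4

variable (p) in
/-- The composite `h_{Z'} ⟶ h_U ⟶ X`. -/
noncomputable abbrev φ : (yon S).obj (Zo i') ⟶ X := (yon S).map (ιo i') ≫ p

instance [Mono i'] : Mono (ιo (S := S) (U := U) i') := by
  have : Mono ((Over.forget S).map (ιo (S := S) (U := U) i')) := by
    show Mono i'
    infer_instance
  exact (Over.forget S).mono_of_mono_map this

local notation "qq" => Sheaf.toImage (φ p i')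
local notation "ii" => Sheaf.imageι (φ p i')

include hp hs ht in
/-- `h_{Z'}` is the fibre product of the image sheaf with `h_U` over `X`. -/
theorem isPullback_image [Mono i'] :
    IsPullback (Sheaf.toImage (φ p i')) ((yon S).map (ιo i')) (Sheaf.imageι (φ p i')) p := by
  have hqi : qq ≫ ii = (yon S).map (ιo i') ≫ p := Sheaf.toImage_ι _
  have hmι : Mono ((yon S).map (ιo (S := S) (U := U) i')) := inferInstance
  have sqP : IsPullback (pullback.fst ii p) (pullback.snd ii p) ii p := IsPullback.of_hasPullback _ _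
  have hc1 : sqP.lift qq ((yon S).map (ιo i')) hqi ≫ pullback.fst ii p = qq := sqP.lift_fst _ _ _
  have hc2 : sqP.lift qq ((yon S).map (ιo i')) hqi ≫ pullback.snd ii p = (yon S).map (ιo i') :=
    sqP.lift_snd _ _ _
  have hcm : Mono (sqP.lift qq ((yon S).map (ιo i')) hqi) := mono_of_mono_fac hc2
  have hciso : IsIso (sqP.lift qq ((yon S).map (ιo i')) hqi) := by
    apply Epi.isIso_of_mono_of_liftSieve
    intro T η
    obtain ⟨b, hb⟩ := (yon S).map_surjective (η ≫ pullback.snd ii p)
    have hzb : (η ≫ pullback.fst ii p) ≫ ii = (yon S).map b ≫ p := by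
      rw [Category.assoc, sqP.w, ← Category.assoc, hb]
    have hloc : Epi.liftSieve qq (η ≫ pullback.fst ii p) ∈ (AlgSp.J S) T :=
      (Epi.isLocallySurjective_iff qq).1 inferInstance T _
    have hloc2 : Epi.liftSieve ((yon S).map (ιo i')) ((yon S).map b) ∈ (AlgSp.J S) T := by
      refine (AlgSp.J S).superset_covering ?_ hloc
      rintro T' d ⟨x, hx⟩
      obtain ⟨zd, rfl⟩ := (yon S).map_surjective x
      have h5 : (yon S).map (zd ≫ ιo i') ≫ p = (yon S).map (d ≫ b) ≫ p := by
        rw [Functor.map_comp, Category.assoc, ← hqi, ← Category.assoc, hx, Category.assoc, hzb,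
          Functor.map_comp, Category.assoc]
      obtain ⟨z', hz'⟩ := factor_of_equiv hp i' hs ht (d ≫ b) zd h5
      exact ⟨(yon S).map z', by rw [← Functor.map_comp, hz', Functor.map_comp]⟩
    obtain ⟨x0, hx0⟩ := exists_factor_of_liftSieve ((yon S).map (ιo i')) ((yon S).map b) hloc2
    have hx0c : x0 ≫ sqP.lift qq ((yon S).map (ιo i')) hqi = η := by
      apply sqP.hom_ext
      · rw [Category.assoc, hc1, ← cancel_mono ii, Category.assoc, hqi, ← Category.assoc, hx0, hzb]
      · rw [Category.assoc, hc2, hx0, hb]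
    have htop : Epi.liftSieve (sqP.lift qq ((yon S).map (ιo i')) hqi) η = ⊤ := by
      rw [← Sieve.id_mem_iff_eq_top]
      refine ⟨x0, ?_⟩
      rw [hx0c]
      erw [(yon S).map_id]
      rw [Category.id_comp]
    rw [htop]
    exact (AlgSp.J S).top_mem T
  exact IsPullback.of_iso_pullback ⟨hqi⟩ (asIso (sqP.lift qq ((yon S).map (ιo i')) hqi)) hc1 hc2


include hp hs ht in
/-- The image sheaf is an algebraic space. -/
theorem isAlgSpace_image (hX : IsAlgSpace X) [Mono i'] : IsAlgSpace (Sheaf.image (φ p i')) where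
  diag := by
    refine Functor.relativelyRepresentable.diag_of_map_from_obj (fun T a => ?_)
    intro T' b
    obtain ⟨W, snd, fst, sq⟩ := hX.representable_from_yon (a ≫ ii) (b ≫ ii)
    exact ⟨W, snd, fst, (Groth.Agent.S9888.isPullback_comp_mono_iff ii).1 sq⟩
  atlas := by
    have sq := isPullback_image hp i' hs ht
    exact ⟨Zo i', qq,
      (repWith_isStableUnderBaseChange (S := S) @Etale).of_isPullback sq.flip hp.etale,
      (repWith_isStableUnderBaseChange (S := S) @Surjective).of_isPullback sq.flip hp.surjective⟩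

include hp in
theorem isFppfCover_chart :
    IsFppfCover (S := S) (ι := PUnit.{u + 1}) (fun _ => (yon S).obj U) (fun _ => p) := by
  have h1 : IsEtaleMor p := fun U φ hφ => (RepWith (S := S) @Etale).comp_mem _ _ hφ hp.etale
  have h2 : LocP @Etale p := Groth.Agent.S10265.locP_etale_of_isEtaleMor p h1
  have hfl : LocP @Flat p := Groth.Agent.S10265.locP_mono (fun X Y f hf => by
    have : Etale f := hf
    exact inferInstanceAs (Flat f)) h2
  have hlfp : LocP @LocallyOfFinitePresentation p := Groth.Agent.S10265.locP_mono (fun X Y f hf => by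
    have : Etale f := hf
    exact inferInstanceAs (LocallyOfFinitePresentation f)) h2
  have hsurj := surjective_map_of_repWith_surjective p hp.surjective
  exact ⟨fun _ => ⟨hfl, hlfp⟩, fun x => ⟨PUnit.unit, hsurj x⟩⟩

include hp hs ht in
theorem repWith_image (hX : IsAlgSpace X) [IsImmersion i'] :
    RepWith @IsImmersion (Sheaf.imageι (φ p i')) ∧
    (IsClosedImmersion i' → RepWith @IsClosedImmersion (Sheaf.imageι (φ p i'))) ∧
    (IsOpenImmersion i' → RepWith @IsOpenImmersion (Sheaf.imageι (φ p i'))) := by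
  have hZ := isAlgSpace_image hp i' hs ht hX
  have sq := isPullback_image hp i' hs ht
  have hU : IsAlgSpace ((yon S).obj U) := IsAlgSpace.yon_obj U
  have hZo : IsAlgSpace ((yon S).obj (Zo i')) := IsAlgSpace.yon_obj _
  refine ⟨?_, ?_, ?_⟩
  · refine (Groth.Agent.S10547.result S (fun _ : PUnit.{u + 1} => (yon S).obj U) (fun _ => p) hX
      (fun _ => hU) (isFppfCover_chart hp) ii hZ (fun _ => (yon S).obj (Zo i'))
      (fun _ => (yon S).map (ιo i')) (fun _ => qq) (fun _ => hZo) (fun _ => sq)).2 (fun _ => ?_)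
    exact (repWith_yon_map_iff @IsImmersion (ιo i')).2 (by show IsImmersion i'; infer_instance)
  · intro hci
    refine (Groth.Agent.S10534.result S (fun _ : PUnit.{u + 1} => (yon S).obj U) (fun _ => p) hX
      (fun _ => hU) (EtFpqc.isFpqcCover_of_chart hX U p hp.etale hp.surjective) ii hZ
      (fun _ => (yon S).obj (Zo i'))
      (fun _ => (yon S).map (ιo i')) (fun _ => qq) (fun _ => hZo) (fun _ => sq)).2 (fun _ => ?_)
    exact (repWith_yon_map_iff @IsClosedImmersion (ιo i')).2 (by show IsClosedImmersion i'; exact hci)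
  · intro hoi
    refine (Groth.Agent.S10531.result S (fun _ : PUnit.{u + 1} => (yon S).obj U) (fun _ => p) hX
      (fun _ => hU) (EtFpqc.isFpqcCover_of_chart hX U p hp.etale hp.surjective) ii hZ
      (fun _ => (yon S).obj (Zo i'))
      (fun _ => (yon S).map (ιo i')) (fun _ => qq) (fun _ => hZo) (fun _ => sq)).2 (fun _ => ?_)
    exact (repWith_yon_map_iff @IsOpenImmersion (ιo i')).2 (by show IsOpenImmersion i'; exact hoi)

end Construction

theorem main (X : AlgSp.Space S) {R U : Over S} (s t : R ⟶ U)
    (p : (AlgSp.yon S).obj U ⟶ X.obj) (hp : AlgSp.IsPresentation s t p)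
    {Z' R' : Scheme.{u}} (i' : Z' ⟶ U.left) [IsImmersion i'] (k : R' ⟶ R.left) (s' t' : R' ⟶ Z')
    (hs : IsPullback k s' s.left i') (ht : IsPullback k t' t.left i') :
    ∃ (Z : AlgSp.Space S) (i : Z ⟶ X) (q : (AlgSp.yon S).obj (Over.mk (i' ≫ U.hom)) ⟶ Z.obj),
      AlgSp.RepWith @IsImmersion i.hom ∧
      IsPullback q ((AlgSp.yon S).map (Over.homMk i' rfl : Over.mk (i' ≫ U.hom) ⟶ U)) i.hom p ∧
      (IsClosedImmersion i' → AlgSp.RepWith @IsClosedImmersion i.hom) ∧
      (IsOpenImmersion i' → AlgSp.RepWith @IsOpenImmersion i.hom) := by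
  have hmono : Mono i' := inferInstance
  obtain ⟨h1, h2, h3⟩ := repWith_image hp i' hs ht X.property
  exact ⟨⟨Sheaf.image (φ p i'), isAlgSpace_image hp i' hs ht X.property⟩,
    ObjectProperty.homMk (Sheaf.imageι (φ p i')), Sheaf.toImage (φ p i'), h1,
    isPullback_image hp i' hs ht, h2, h3⟩

/-- Let X be an algebraic space over a scheme S with a presentation (U, R, s, t, p), and let i' : Z' ⟶ U
be an immersion of schemes that is R-invariant, meaning that one locally closed subscheme R' of R is
at the same time the inverse image of Z' under s and under t. Then Z' descends to a locally closed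
subspace of X: there is a morphism of algebraic spaces i : Z ⟶ X representable by immersions
together with a map h_{Z'} ⟶ Z making h_{Z'} the fibre product Z ×_X h_U; moreover i is a closed
(resp. open) immersion when i' is. -/
theorem result {S : Scheme.{u}} (X : AlgSp.Space S) {R U : Over S} (s t : R ⟶ U)
    (p : (AlgSp.yon S).obj U ⟶ X.obj) (hp : AlgSp.IsPresentation s t p)
    {Z' R' : Scheme.{u}} (i' : Z' ⟶ U.left) [IsImmersion i'] (k : R' ⟶ R.left) (s' t' : R' ⟶ Z')
    (hs : IsPullback k s' s.left i') (ht : IsPullback k t' t.left i') :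
    ∃ (Z : AlgSp.Space S) (i : Z ⟶ X) (q : (AlgSp.yon S).obj (Over.mk (i' ≫ U.hom)) ⟶ Z.obj),
      AlgSp.RepWith @IsImmersion i.hom ∧
      IsPullback q ((AlgSp.yon S).map (Over.homMk i' rfl : Over.mk (i' ≫ U.hom) ⟶ U)) i.hom p ∧
      (IsClosedImmersion i' → AlgSp.RepWith @IsClosedImmersion i.hom) ∧
      (IsOpenImmersion i' → AlgSp.RepWith @IsOpenImmersion i.hom) := by
  exact main X s t p hp i' k s' t' hs ht

end Groth.Agent.S10233
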