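import Groth.Statements.S10192
import Groth.Agent.S10233
import Groth.Agent.S10196
import Groth.Agent.S2285
import Groth.Agent.Lib.Helper1.EtaleReducedScheme
import Groth.Agent.Lib.Helper11.AlgSpBasic

set_option autoImplicit false
universe u
open CategoryTheory CategoryTheory.Limits AlgebraicGeometry Topology TopologicalSpace
open AlgSp

namespace Groth.Agent.S10192

open Groth.Agent.Lib.helper5 Groth.Agent.Lib.helper11

variable {S : Scheme.{u}}

/-- A morphism from a reduced scheme whose image lies in the range of a closed immersion factors through it. -/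
theorem exists_factor_of_isReduced {A B C : Scheme.{u}} [IsReduced A] (g : A ⟶ B) (j : C ⟶ B)
    [IsClosedImmersion j] (h : ∀ a : A, g a ∈ Set.range j) : ∃ l : A ⟶ C, l ≫ j = g := by
  have hs : Surjective (pullback.fst g j) := by
    refine ⟨fun a => ?_⟩
    obtain ⟨c, hc⟩ := h a
    obtain ⟨z, hz1, -⟩ := Scheme.Pullback.exists_preimage_pullback a c hc.symm
    exact ⟨z, hz1⟩
  have hiso : IsIso (pullback.fst g j) := isIso_of_isClosedImmersion_of_surjective _
  exact ⟨inv (pullback.fst g j) ≫ pullback.snd g j, by
    rw [Category.assoc, ← pullback.condition, IsIso.inv_hom_id_assoc]⟩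

/-- Two reduced closed subschemes, each set-theoretically containing the image of the other under an etale pair:
the pullbacks of a reduced closed subscheme `Z'` of `U` under two etale maps `s t : R ⟶ U` agree as soon as they have
the same support. -/
theorem isPullback_of_same_support {R U Z' : Scheme.{u}} (s t : R ⟶ U) [Etale s] [Etale t] (i' : Z' ⟶ U)
    [IsClosedImmersion i'] [IsReduced Z']
    (h : ∀ r : R, s r ∈ Set.range i' ↔ t r ∈ Set.range i') :
    ∃ t' : pullback s i' ⟶ Z', IsPullback (pullback.fst s i') t' t i' := by
  have hR' : IsReduced (pullback s i') :=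
    Groth.Agent.H1.EtaleReduced.isReduced_of_etale (pullback.snd s i')
  have hR'' : IsReduced (pullback t i') :=
    Groth.Agent.H1.EtaleReduced.isReduced_of_etale (pullback.snd t i')
  obtain ⟨t', ht'⟩ := exists_factor_of_isReduced (pullback.fst s i' ≫ t) i' (by
    intro a
    rw [Scheme.Hom.comp_apply]
    refine (h _).1 ⟨pullback.snd s i' a, ?_⟩
    rw [← Scheme.Hom.comp_apply, ← pullback.condition, Scheme.Hom.comp_apply])
  obtain ⟨s'', hs''⟩ := exists_factor_of_isReduced (pullback.fst t i' ≫ s) i' (by
    intro a
    rw [Scheme.Hom.comp_apply]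
    refine (h _).2 ⟨pullback.snd t i' a, ?_⟩
    rw [← Scheme.Hom.comp_apply, ← pullback.condition, Scheme.Hom.comp_apply])
  refine ⟨t', isPullback_of_exists_lift ht'.symm ?_ ?_⟩
  · intro W a b hab
    refine ⟨pullback.lift a b hab ≫ pullback.lift (pullback.fst t i') s'' hs''.symm, ?_, ?_⟩
    · rw [Category.assoc, pullback.lift_fst, pullback.lift_fst]
    · rw [← cancel_mono i', Category.assoc, Category.assoc, ht', pullback.lift_fst_assoc,
        pullback.lift_fst_assoc, hab]
  · intro W l l' h1 _
    rwa [cancel_mono] at h1

theorem main (X : AlgSp.Space S) (T : Set (AlgSp.Points X.obj)) (hT : IsClosed T) :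
    ∃ (Z : AlgSp.Space S) (i : Z ⟶ X), AlgSp.IsRedInduced T i.hom := by
  obtain ⟨U, p, hpe, hps⟩ := X.property.atlas
  obtain ⟨R, s, fst, sq0⟩ := X.property.representable_from_yon p p
  obtain ⟨t, rfl⟩ := (yon S).map_surjective fst
  have hpres : IsPresentation s t p :=
    ⟨Groth.Agent.S10196.isEtaleEqvRel_of_isPullback p hpe s t sq0, hpe, hps, sq0⟩
  have hse : Etale s.left := hpres.eqvRel.etale_left
  have hte : Etale t.left := hpres.eqvRel.etale_right
  -- the closed preimage of `T` in `U`
  let C : Closeds U.left := ⟨Points.ofPt p ⁻¹' T, hT.preimage (Points.continuous_ofPt p)⟩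
  let I := Scheme.IdealSheafData.vanishingIdeal C
  have hred : IsReduced I.subscheme := Groth.Agent.S2285.isReduced_subscheme_vanishingIdeal C
  have hrange : Set.range I.subschemeι = Points.ofPt p ⁻¹' T := by
    rw [I.range_subschemeι, Scheme.IdealSheafData.coe_support_vanishingIdeal]
    rfl
  have hst : ∀ r : R.left, Points.ofPt p (s.left r) = Points.ofPt p (t.left r) := by
    intro r
    rw [← ofPt_yon_map_comp, ← ofPt_yon_map_comp, sq0.w]
  obtain ⟨t', ht'⟩ := isPullback_of_same_support s.left t.left I.subschemeι (by
    intro r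
    rw [hrange, Set.mem_preimage, Set.mem_preimage, hst])
  have hs' : IsPullback (pullback.fst s.left I.subschemeι) (pullback.snd s.left I.subschemeι) s.left
      I.subschemeι := IsPullback.of_hasPullback _ _
  obtain ⟨Z, i, q, -, sq, hcl, -⟩ := Groth.Agent.S10233.main X s t p hpres I.subschemeι _ _ t' hs' ht'
  refine ⟨Z, i, hcl inferInstance, ?_, ?_⟩
  · -- the points
    have hqs : RepWith @Surjective q :=
      (repWith_isStableUnderBaseChange (S := S) @Surjective).of_isPullback sq.flip hps
    apply Set.eq_of_subset_of_subset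
    · rintro _ ⟨z, rfl⟩
      obtain ⟨z', rfl⟩ := surjective_ofPt q hqs z
      rw [Points.map_ofPt, sq.w, ofPt_yon_map_comp]
      have : I.subschemeι z' ∈ Points.ofPt p ⁻¹' T := hrange ▸ Set.mem_range_self z'
      exact this
    · intro x hx
      obtain ⟨u, rfl⟩ := surjective_ofPt p hps x
      have hu : u ∈ Set.range I.subschemeι := by rw [hrange]; exact hx
      obtain ⟨z', rfl⟩ := hu
      refine ⟨Points.ofPt q z', ?_⟩
      rw [Points.map_ofPt, sq.w, ofPt_yon_map_comp]
      rfl
  · exact ⟨_, q, (repWith_isStableUnderBaseChange (S := S) @Etale).of_isPullback sq.flip hpe,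
      (repWith_isStableUnderBaseChange (S := S) @Surjective).of_isPullback sq.flip hps, hred⟩

/-- For an algebraic space X over a scheme S and a closed subset T of |X| there is a reduced closed
subspace Z of X with |Z| = T, that is, an algebraic space Z with a morphism Z ⟶ X representable by
closed immersions whose image in |X| is T and such that Z is reduced. (Only existence is asserted;
uniqueness is not part of this row.) -/
theorem result {S : Scheme.{u}} (X : AlgSp.Space S) (T : Set (AlgSp.Points X.obj))
    (hT : IsClosed T) :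
    ∃ (Z : AlgSp.Space S) (i : Z ⟶ X), AlgSp.IsRedInduced T i.hom := by
  exact main X T hT

end Groth.Agent.S10192
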