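import Groth.Statements.S0101
import Groth.Agent.Lib.Helper3.LanFlat
import Mathlib.Algebra.Category.Grp.FilteredColimits
import Mathlib.Algebra.Category.Grp.Limits
import Mathlib.Algebra.Category.Grp.Colimits

set_option autoImplicit false
open CategoryTheory CategoryTheory.Limits AlgebraicGeometry Opposite
universe u
open EtBase

namespace Groth.Agent.S0101

instance hasColimitsOfShape_costructuredArrow {X Y : Scheme.{u}} (f : X ⟶ Y) (K : (X.Etale)ᵒᵖ) :
    HasColimitsOfShape (CostructuredArrow (EtCoh.bc f).op K) AddCommGrpCat.{u + 1} := by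
  have : HasColimitsOfSize.{u, u + 1} AddCommGrpCat.{u + 1} :=
    hasColimitsOfSizeShrink.{u, u + 1, u + 1, u + 1} _
  infer_instance

/-- Part (1) — pullback of abelian étale sheaves along a morphism of schemes is exact (it is a left
adjoint and preserves finite limits). -/
theorem result {X Y : Scheme.{u}} (f : X ⟶ Y) [EtCoh.BCCont f] :
    PreservesFiniteLimits (EtCoh.pull f) := by
  have hfilt : ∀ K : (X.Etale)ᵒᵖ, IsFiltered (CostructuredArrow (EtCoh.bc f).op K) := fun K ↦
    IsFiltered.of_equivalence (structuredArrowOpEquivalence (EtCoh.bc f) (unop K))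
  have hcolim : ∀ K : (X.Etale)ᵒᵖ, PreservesFiniteLimits
      (colim : (CostructuredArrow (EtCoh.bc f).op K ⥤ AddCommGrpCat.{u + 1}) ⥤ _) := by
    intro K
    have := hfilt K
    have : PreservesColimitsOfShape (CostructuredArrow (EtCoh.bc f).op K)
        (forget AddCommGrpCat.{u + 1}) := by
      have h1 : PreservesFilteredColimitsOfSize.{u, u + 1} (forget AddCommGrpCat.{u + 1}) :=
        preservesFilteredColimitsOfSize_shrink.{u + 1, u + 1, u, u + 1} _
      exact h1.preserves_filtered_colimits _
    infer_instance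
  have hlan : PreservesFiniteLimits ((EtCoh.bc f).op.lan :
      ((Y.Etale)ᵒᵖ ⥤ AddCommGrpCat.{u + 1}) ⥤ (X.Etale)ᵒᵖ ⥤ AddCommGrpCat.{u + 1}) :=
    Groth.Agent.Lib.helper3.lan_preservesFiniteLimits_of_flat_gen _ (EtCoh.bc f)
  exact Functor.sheafPullbackConstruction.preservesFiniteLimits (EtCoh.bc f)
    AddCommGrpCat.{u + 1} Y.smallEtaleTopology X.smallEtaleTopology

end Groth.Agent.S0101
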