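import Groth.Statements.S10191
import Groth.Agent.Lib.Helper11.AlgSpBasic
import Mathlib.Topology.LocallyClosed
import Mathlib.AlgebraicGeometry.Morphisms.Immersion

set_option autoImplicit false
universe u
open CategoryTheory CategoryTheory.Limits AlgebraicGeometry Topology TopologicalSpace
open AlgSp

namespace Groth.Agent.S10191

theorem topo_aux {V U Z X : Type*} [TopologicalSpace V] [TopologicalSpace U] [TopologicalSpace Z]
    [TopologicalSpace X] (πV : V → Z) (πU : U → X) (j : V → U) (i : Z → X)
    (hcomm : ∀ v, i (πV v) = πU (j v))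
    (hkey : ∀ z u, i z = πU u → ∃ v, πV v = z ∧ j v = u)
    (hπV : IsQuotientMap πV) (hπUo : IsOpenMap πU) (hπU : IsQuotientMap πU)
    (hi : Continuous i) (hj : IsEmbedding j) (hjr : IsLocallyClosed (Set.range j)) :
    IsEmbedding i ∧ IsLocallyClosed (Set.range i) := by
  have hinj : Function.Injective i := by
    intro z1 z2 h
    obtain ⟨v1, rfl⟩ := hπV.surjective z1
    obtain ⟨v2, hv2, hv2'⟩ := hkey z2 (j v1) (by rw [← h, hcomm])
    rw [← hv2, hj.injective hv2']
  have hind : IsInducing i := by
    rw [isInducing_iff]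
    apply le_antisymm hi.le_induced
    intro W hW
    have hW' : IsOpen (πV ⁻¹' W) := hW.preimage hπV.continuous
    rw [hj.isInducing.isOpen_iff] at hW'
    obtain ⟨O', hO', hO'eq⟩ := hW'
    refine ⟨πU '' O', hπUo _ hO', ?_⟩
    ext z
    constructor
    · rintro ⟨u, hu, huz⟩
      obtain ⟨v, rfl, rfl⟩ := hkey z u huz.symm
      have : v ∈ j ⁻¹' O' := hu
      rw [hO'eq] at this
      exact this
    · intro hz
      obtain ⟨v, rfl⟩ := hπV.surjective z
      have : v ∈ j ⁻¹' O' := by rw [hO'eq]; exact hz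
      exact ⟨j v, this, (hcomm v).symm⟩
  refine ⟨⟨hind, hinj⟩, ?_⟩
  have hpre : πU ⁻¹' (Set.range i) = Set.range j := by
    ext u
    constructor
    · rintro ⟨z, hz⟩
      obtain ⟨v, -, rfl⟩ := hkey z u hz
      exact ⟨v, rfl⟩
    · rintro ⟨v, rfl⟩
      exact ⟨πV v, hcomm v⟩
  rw [isLocallyClosed_iff_isOpen_coborder, ← hπU.isOpen_preimage,
    ← coborder_preimage hπUo hπU.continuous, hpre, ← isLocallyClosed_iff_isOpen_coborder]
  exact hjr

/-- Let i : Z ⟶ X be an immersion of algebraic spaces over a scheme S (a morphism representable by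
immersions of schemes). Then |i| : |Z| → |X| is a homeomorphism onto its image, and this image is a
locally closed subset of |X|. -/
theorem result {S : Scheme.{u}} {Z X : AlgSp.Space S} (i : Z ⟶ X)
    (hi : AlgSp.RepWith @IsImmersion i.hom) :
    IsEmbedding (AlgSp.Points.map i.hom) ∧ IsLocallyClosed (Set.range (AlgSp.Points.map i.hom)) := by
  obtain ⟨U, p, hpe, hps⟩ := X.property.atlas
  obtain ⟨V, snd, fst, hpb⟩ := hi.rep p
  have himm : IsImmersion snd.left := hi.2 p fst snd hpb
  have hfe : AlgSp.RepWith @Etale fst :=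
    (AlgSp.repWith_isStableUnderBaseChange (S := S) @Etale).of_isPullback hpb.flip hpe
  have hfs : AlgSp.RepWith @Surjective fst :=
    (AlgSp.repWith_isStableUnderBaseChange (S := S) @Surjective).of_isPullback hpb.flip hps
  refine topo_aux (AlgSp.Points.ofPt fst) (AlgSp.Points.ofPt p) snd.left (AlgSp.Points.map i.hom)
    ?_ ?_ (Groth.Agent.Lib.helper11.isQuotientMap_ofPt fst hfe hfs)
    (Groth.Agent.Lib.helper11.isOpenMap_ofPt p hpe)
    (Groth.Agent.Lib.helper11.isQuotientMap_ofPt p hpe hps)
    (AlgSp.Points.continuous_map i.hom) snd.left.isEmbedding snd.left.isLocallyClosed_range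
  · intro v
    rw [AlgSp.Points.map_ofPt, hpb.w, Groth.Agent.Lib.helper11.ofPt_yon_map_comp]
  · intro z u h
    exact Groth.Agent.Lib.helper11.exists_of_isPullback_scheme hpb z u h

end Groth.Agent.S10191
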