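import Groth.Statements.S10339
import Groth.Agent.Lib.Helper1.DecentOpen
import Groth.Agent.S10192
import Groth.Agent.S10191

set_option autoImplicit false
universe u
open CategoryTheory CategoryTheory.Limits AlgebraicGeometry Topology TopologicalSpace
open AlgSp

namespace Groth.Agent.S10339

open Groth.Agent.Lib.helper5 Groth.Agent.Lib.helper10 Groth.Agent.Lib.helper11

variable {S : Scheme.{u}}

/-- A closed subspace of a decent space is decent. -/
theorem isDecent_of_closedImmersion {Z X : Sp S} (i : Z ⟶ X) (hi : RepWith @IsClosedImmersion i)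
    (hX : IsDecent X) : IsDecent Z := by
  haveI hmono : Mono i := Groth.Agent.S9928.mono_of_repWith_mono i
    (Groth.Agent.S10194.repWith_mono (fun X Y g hg => by
      have : IsClosedImmersion g := hg; infer_instance) hi)
  intro z
  obtain ⟨p, hp, hm, hq⟩ := hX (Points.map i z)
  obtain ⟨V, snd, fst, sq⟩ := hi.rep p.toHom
  haveI hci : IsClosedImmersion snd.left := hi.2 _ _ _ sq
  let s0 : ↥p.pt.left := (IsLocalRing.closedPoint p.K : ↥(Spec (CommRingCat.of p.K)))
  have hsub : Subsingleton ↥p.pt.left := by
    change Subsingleton ↥(Spec (CommRingCat.of p.K))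
    exact inferInstanceAs (Subsingleton (PrimeSpectrum p.K))
  obtain ⟨w, -, -⟩ := exists_point_of_isPullback sq z (Points.ofScheme p.pt s0) (by
    rw [map_toHom_ofScheme, hp])
  haveI hsurj : Surjective snd.left := ⟨fun y => ⟨Points.toScheme V w, Subsingleton.elim _ _⟩⟩
  haveI hred : IsReduced p.pt.left := by
    change IsReduced (Spec (CommRingCat.of p.K)); infer_instance
  haveI hiso : IsIso snd.left := isIso_of_isClosedImmersion_of_surjective snd.left
  haveI hiso' : IsIso snd := by
    haveI : IsIso ((Over.forget S).map snd) := hiso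
    exact isIso_of_reflects_iso snd (Over.forget S)
  let p' : (yon S).obj p.pt ⟶ Z := inv ((yon S).map snd) ≫ fst
  have hp' : p' ≫ i = p.toHom := by
    rw [Category.assoc, sq.w, IsIso.inv_hom_id_assoc]
  refine ⟨fieldPtOfHom p.str p', ?_, ?_, ?_⟩
  · apply FpqcIso.injective_map_of_mono i
    rw [Points.map_mk, fieldPtOfHom_map, hp', ← hp]
    have h3 := mk_fieldPtOfHom_comp p p.str (𝟙 p.pt)
    rwa [CategoryTheory.Functor.map_id, Category.id_comp] at h3
  · rw [fieldPtOfHom_toHom]
    haveI : Mono (p' ≫ i) := by rw [hp']; exact hm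
    exact mono_of_mono p' i
  · rw [fieldPtOfHom_toHom]
    refine ⟨fun T g => ?_, fun T W g fst' snd' sq' => ?_⟩
    · obtain ⟨W, snd', fst', sq'⟩ := hq.rep (g ≫ i)
      rw [← hp'] at sq'
      exact ⟨W, snd', fst', (Groth.Agent.S9888.isPullback_comp_mono_iff i).1 sq'⟩
    · have h2 : IsPullback fst' ((yon S).map snd') p.toHom (g ≫ i) := by
        rw [← hp']
        exact (Groth.Agent.S9888.isPullback_comp_mono_iff i).2 sq'
      exact hq.2 _ _ _ h2


theorem preirreducibleSpace_of_isInducing {Y X : Type*} [TopologicalSpace Y] [TopologicalSpace X]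
    {f : Y → X} (hf : IsInducing f) (h : IsPreirreducible (Set.range f)) :
    PreirreducibleSpace Y := by
  constructor
  intro U V hU hV hUne hVne
  rw [hf.isOpen_iff] at hU hV
  obtain ⟨U', hU', rfl⟩ := hU
  obtain ⟨V', hV', rfl⟩ := hV
  obtain ⟨y1, hy1⟩ := hUne
  obtain ⟨y2, hy2⟩ := hVne
  obtain ⟨_, ⟨y, rfl⟩, hyU, hyV⟩ := h U' V' hU' hV' ⟨f y1, ⟨y1, rfl⟩, hy1.2⟩
    ⟨f y2, ⟨y2, rfl⟩, hy2.2⟩
  exact ⟨y, trivial, hyU, hyV⟩

theorem main (X : Space S) (hX : IsDecent X.obj) : QuasiSober (Points X.obj) := by
  constructor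
  intro T hTirr hTcl
  obtain ⟨Z, i, hci, hrange, -⟩ := Groth.Agent.S10192.main X T hTcl
  have hZdec : IsDecent Z.obj := isDecent_of_closedImmersion i.hom hci hX
  have himm : RepWith @IsImmersion i.hom := Groth.Agent.S10194.repWith_mono (fun _ _ g hg => by
    have : IsClosedImmersion g := hg; infer_instance) hci
  obtain ⟨hemb, -⟩ := Groth.Agent.S10191.result i himm
  obtain ⟨Z', j, hj, hrep, hdense⟩ := Groth.Agent.H1.DecentOpen.main Z hZdec
  obtain ⟨M, ⟨r⟩⟩ := hrep.has_representation
  let ε : (yon S).obj M ≅ Z'.obj := isoOfRepresentableBy r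
  let M' : Space S := ⟨(yon S).obj M, IsAlgSpace.yon_obj M⟩
  let j' : M' ⟶ Z := ObjectProperty.homMk (ε.hom ≫ j.hom)
  have hj' : RepWith @IsOpenImmersion j'.hom :=
    (RepWith (S := S) @IsOpenImmersion).comp_mem _ _
      (Groth.Agent.Lib.helper7.repWith_of_isIso _ _) hj
  have hdense' : Dense (Set.range (Points.map j'.hom)) := by
    refine hdense.mono ?_
    rintro _ ⟨z', rfl⟩
    refine ⟨Points.map ε.inv z', ?_⟩
    change Points.map (ε.hom ≫ j.hom) (Points.map ε.inv z') = _
    rw [← Points.map_comp, Iso.inv_hom_id_assoc]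
  have himmj : RepWith @IsImmersion j'.hom := Groth.Agent.S10194.repWith_mono (fun _ _ g hg => by
    have : IsOpenImmersion g := hg; infer_instance) hj'
  obtain ⟨hembj, -⟩ := Groth.Agent.S10191.result j' himmj
  have hopen : IsOpen (Set.range (Points.map j'.hom)) :=
    Groth.Agent.Lib.helper5.AlgSpWhereIso.isOpen_range_of_oi j' hj'
  haveI hZirr : PreirreducibleSpace (Points Z.obj) :=
    preirreducibleSpace_of_isInducing hemb.isInducing (by rw [hrange]; exact hTirr.2)
  haveI hMirr : PreirreducibleSpace (Points M'.obj) :=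
    preirreducibleSpace_of_isInducing hembj.isInducing
      ((PreirreducibleSpace.isPreirreducible_univ).open_subset hopen (Set.subset_univ _))
  obtain ⟨x₀, hx₀⟩ := hTirr.1
  rw [← hrange] at hx₀
  obtain ⟨z₀, -⟩ := hx₀
  haveI : Nonempty (Points Z.obj) := ⟨z₀⟩
  obtain ⟨_, ⟨m₀, -⟩⟩ := hdense'.nonempty
  haveI : Nonempty (Points M'.obj) := ⟨m₀⟩
  haveI : IrreducibleSpace (Points M'.obj) := { toPreirreducibleSpace := hMirr, toNonempty := inferInstance }
  haveI : QuasiSober (Points M'.obj) :=
    (Points.schemeHomeo M).symm.isClosedEmbedding.quasiSober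
  have hgen := (genericPoint_spec (Points M'.obj)).image
    ((Points.continuous_map i.hom).comp (Points.continuous_map j'.hom))
  refine ⟨(Points.map i.hom ∘ Points.map j'.hom) (genericPoint (Points M'.obj)), ?_⟩
  have hT : T = closure (Points.map i.hom ∘ Points.map j'.hom '' Set.univ) := by
    apply Set.Subset.antisymm
    · have h1 : T = Points.map i.hom '' closure (Set.range (Points.map j'.hom)) := by
        rw [hdense'.closure_eq, Set.image_univ, hrange]
      rw [h1]
      refine (image_closure_subset_closure_image (Points.continuous_map i.hom)).trans ?_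
      apply closure_mono
      rintro _ ⟨_, ⟨m, rfl⟩, rfl⟩
      exact ⟨m, trivial, rfl⟩
    · apply closure_minimal _ hTcl
      rintro _ ⟨m, -, rfl⟩
      rw [← hrange]
      exact ⟨_, rfl⟩
  rw [hT]
  exact hgen

/-- For a scheme S and a decent algebraic space X over S, every irreducible closed subset of |X| is the
closure of some point. (The published statement says that |X| is sober; this row states only the
existence of generic points, their uniqueness being the Kolmogorov property of |X|, a separate
statement.) -/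
theorem result {S : Scheme.{u}} (X : AlgSp.Space S) (hX : AlgSp.IsDecent X.obj) :
    QuasiSober (AlgSp.Points X.obj) := by
  exact main X hX

end Groth.Agent.S10339
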