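import Groth.Statements.S10340
import Groth.Agent.S10341
import Groth.Agent.S10343

set_option autoImplicit false
universe u
open CategoryTheory CategoryTheory.Limits AlgebraicGeometry Topology TopologicalSpace
open AlgSp

namespace Groth.Agent.S10340

variable {S : Scheme.{u}}

theorem main (X : AlgSp.Space S) (hX : AlgSp.IsDecent X.obj)
    {U : Over S} (a : (AlgSp.yon S).obj U ⟶ X.obj) (ha : AlgSp.RepWith @Etale a) (u u' : ↥U.left)
    (he : AlgSp.Points.ofPt a u = AlgSp.Points.ofPt a u') (hs : u' ⤳ u) : u = u' := by
  obtain ⟨p, hp, -, hpq⟩ := hX (Points.ofPt a u)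
  have hfin : ∀ (V : Over S) (b : (AlgSp.yon S).obj V ⟶ X.obj), IsAffine V.left →
      AlgSp.RepWith @Etale b → (AlgSp.Points.ofPt b ⁻¹' {Points.ofPt a u}).Finite := by
    intro V b hV hb
    have : CompactSpace ↥V.left := inferInstance
    rw [← hp]
    exact Groth.Agent.S10343.finite_fibre_of_qc_point p hpq b hb
  exact Groth.Agent.S10341.main X _ hfin a ha u u' rfl he.symm hs

/-- Let S be a scheme, X a decent algebraic space over S, and a : h_U ⟶ X a representable etale map from
a scheme U. If two points u, u' of U have the same image in |X| and u' specializes to u, then u =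
u'. -/
theorem result {S : Scheme.{u}} (X : AlgSp.Space S) (hX : AlgSp.IsDecent X.obj)
    {U : Over S} (a : (AlgSp.yon S).obj U ⟶ X.obj) (ha : AlgSp.RepWith @Etale a) (u u' : ↥U.left)
    (he : AlgSp.Points.ofPt a u = AlgSp.Points.ofPt a u') (hs : u' ⤳ u) : u = u' := by
  exact main X hX a ha u u' he hs

end Groth.Agent.S10340
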