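import Groth.Statements.S10182
import Groth.Agent.Lib.Helper15.AlgSpDiag
import Groth.Agent.Lib.Helper5.AlgSpFibreProduct

set_option autoImplicit false
universe u
open CategoryTheory CategoryTheory.Limits AlgebraicGeometry Topology TopologicalSpace
open AlgSp

namespace Groth.Agent.S10182

/-- Quasi-compactness descends along surjective open base changes. -/
theorem quasiCompact_descends {A X Y Z : Scheme.{u}} {fst : A ⟶ X} {snd : A ⟶ Y} {f : X ⟶ Z}
    {g : Y ⟶ Z} (h : IsPullback fst snd f g) (hfo : IsOpenMap f) (hfs : Function.Surjective f)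
    (hq : QuasiCompact fst) : QuasiCompact g := by
  constructor
  intro K hKo hKc
  have hbasis := X.isBasis_affineOpens
  have key : ∀ i : {x : X // f x ∈ K}, ∃ V : X.Opens, IsAffineOpen V ∧ i.1 ∈ V ∧
      (V : Set X) ⊆ f ⁻¹' K := by
    rintro ⟨x, hx⟩
    obtain ⟨V, hV, hxV, hVK⟩ := TopologicalSpace.Opens.isBasis_iff_nbhd.mp hbasis
      (U := ⟨f ⁻¹' K, hKo.preimage f.continuous⟩) (x := x) hx
    exact ⟨V, hV, hxV, hVK⟩
  choose V hV hxV hVK using key
  obtain ⟨t, ht⟩ := hKc.elim_finite_subcover (fun i => f '' (V i : Set X))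
    (fun i => hfo _ (V i).isOpen) (by
      intro z hz
      obtain ⟨x, rfl⟩ := hfs z
      exact Set.mem_iUnion.mpr ⟨⟨x, hz⟩, ⟨x, hxV ⟨x, hz⟩, rfl⟩⟩)
  set K' : Set X := ⋃ i ∈ t, (V i : Set X) with hK'
  have hK'c : IsCompact K' := t.isCompact_biUnion (fun i _ => (hV i).isCompact)
  have hK'o : IsOpen K' := isOpen_biUnion (fun i _ => (V i).isOpen)
  have hfK : f '' K' = K := by
    apply subset_antisymm
    · rintro _ ⟨x, hx, rfl⟩
      obtain ⟨i, hi, hxi⟩ := Set.mem_iUnion₂.mp hx
      exact hVK i hxi
    · intro z hz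
      obtain ⟨i, hi, x, hx, rfl⟩ := Set.mem_iUnion₂.mp (ht hz)
      exact ⟨x, Set.mem_iUnion₂.mpr ⟨i, hi, hx⟩, rfl⟩
  have h1 : IsCompact (fst ⁻¹' K') := hq.isCompact_preimage K' hK'o hK'c
  have h2 := Scheme.image_preimage_eq_of_isPullback h K'
  rw [← hfK]
  change IsCompact (g.base ⁻¹' (f.base '' K'))
  rw [← h2]
  exact h1.image snd.continuous

instance : MorphismProperty.DescendsAlong @QuasiCompact
    (@Surjective ⊓ @Flat ⊓ @LocallyOfFinitePresentation) where
  of_isPullback {A X Y Z fst snd f g} h hf hfst := by
    have h1 : Surjective f := hf.1.1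
    have h2 : Flat f := hf.1.2
    have h3 : LocallyOfFinitePresentation f := hf.2
    have h4 : UniversallyOpen f := inferInstance
    exact quasiCompact_descends h f.isOpenMap f.surjective hfst

section cat

variable {C : Type*} [Category C] [HasBinaryProducts C]

set_option backward.isDefEq.respectTransparency false in
theorem isPullback_diag_of_isPullback {P U V X : C} {fst : P ⟶ U} {snd : P ⟶ V} {a : U ⟶ X}
    {b : V ⟶ X} (h : IsPullback fst snd a b) :
    IsPullback (fst ≫ a) (prod.lift fst snd) (Limits.diag X) (prod.map a b) := by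
  apply Groth.Agent.Lib.helper5.isPullback_of_exists_lift
  · apply Limits.prod.hom_ext
    · simp
    · simp [h.w]
  · intro T x w hxw
    have h1 : x = (w ≫ prod.fst) ≫ a := by simpa using congrArg (· ≫ prod.fst) hxw
    have h2 : x = (w ≫ prod.snd) ≫ b := by simpa using congrArg (· ≫ prod.snd) hxw
    obtain ⟨l, hl1, hl2⟩ := h.exists_lift (w ≫ prod.fst) (w ≫ prod.snd) (by rw [← h1, ← h2])
    refine ⟨l, by rw [← Category.assoc, hl1, ← h1], ?_⟩
    apply Limits.prod.hom_ext
    · simp [hl1]
    · simp [hl2]
  · intro T l l' _ h2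
    apply h.hom_ext
    · simpa using congrArg (· ≫ prod.fst) h2
    · simpa using congrArg (· ≫ prod.snd) h2

end cat

set_option backward.isDefEq.respectTransparency false in
theorem main {S : Scheme.{u}} (X : AlgSp.Space S) {R U : Over S}
    (p : (AlgSp.yon S).obj U ⟶ X.obj) (hp : AlgSp.RepWith @Etale p) (hs : AlgSp.RepWith @Surjective p)
    [QuasiSeparatedSpace ↥U.left] (s t : R ⟶ U)
    (hR : IsPullback ((AlgSp.yon S).map t) ((AlgSp.yon S).map s) p p) [QuasiCompact t.left] :
    AlgSp.IsQuasiSeparatedSp X.obj := by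
  have i1 : (RepWith (S := S) @Etale).IsStableUnderBaseChange := repWith_isStableUnderBaseChange _
  have i2 : (RepWith (S := S) @Surjective).IsStableUnderBaseChange := repWith_isStableUnderBaseChange _
  have hqe : RepWith @Etale (prodComparison (yon S) U U ≫ prod.map p p) :=
    MorphismProperty.RespectsIso.precomp _ _ _
      (Groth.Agent.Lib.helper15.AlgSpDiag.prod_map_mem (RepWith (S := S) @Etale) p p hp hp)
  have hqs : RepWith @Surjective (prodComparison (yon S) U U ≫ prod.map p p) :=
    MorphismProperty.RespectsIso.precomp _ _ _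
      (Groth.Agent.Lib.helper15.AlgSpDiag.prod_map_mem (RepWith (S := S) @Surjective) p p hs hs)
  have sq0 := isPullback_diag_of_isPullback hR
  have hlift : prod.lift ((yon S).map t) ((yon S).map s) =
      (yon S).map (prod.lift t s) ≫ prodComparison (yon S) U U := by
    apply Limits.prod.hom_ext
    · simp [← Functor.map_comp]
    · simp [← Functor.map_comp]
  rw [hlift] at sq0
  have sq : IsPullback ((yon S).map t ≫ p) ((yon S).map (prod.lift t s)) (Limits.diag X.obj)
      (prodComparison (yon S) U U ≫ prod.map p p) :=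
    sq0.of_iso (Iso.refl _) (Iso.refl _) (asIso (prodComparison (yon S) U U)).symm (Iso.refl _)
      (by simp) (by simp) (by simp) (by simp)
  have hg : QuasiCompact (prod.lift t s).left := by
    have e1 : (prod.lift t s).left ≫ (prod.fst : U ⨯ U ⟶ U).left = t.left := by
      rw [← Over.comp_left, prod.lift_fst]
    have h1 : QuasiCompact ((prod.lift t s).left ≫ (prod.fst : U ⨯ U ⟶ U).left) := by
      rw [e1]; infer_instance
    have h2 : QuasiSeparated U.hom := inferInstance
    have h3 : QuasiSeparated (prod.fst : U ⨯ U ⟶ U).left := by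
      rw [← Over.prodLeftIsoPullback_hom_fst]
      infer_instance
    exact QuasiCompact.of_comp _ (prod.fst : U ⨯ U ⟶ U).left
  exact Groth.Agent.Lib.helper15.AlgSpDiag.repWith_of_chart (Limits.diag X.obj) X.property.diag _ hqe hqs
    _ _ sq @QuasiCompact hg

/-- Let X be an algebraic space over a scheme S, U a scheme over S whose underlying scheme is
quasi-separated, p : h_U ⟶ X representable etale and surjective, and R a scheme over S with h_R =
h_U ×_X h_U. If one of the two projections R ⟶ U is quasi-compact, then X is quasi-separated over S.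
(The published statement concludes absolute quasi-separatedness, i.e. over the integers; this row
concludes quasi-separatedness of the diagonal over S, which the same argument gives and which the
absolute notion implies.) -/
theorem result {S : Scheme.{u}} (X : AlgSp.Space S) {R U : Over S}
    (p : (AlgSp.yon S).obj U ⟶ X.obj) (hp : AlgSp.RepWith @Etale p) (hs : AlgSp.RepWith @Surjective p)
    [QuasiSeparatedSpace ↥U.left] (s t : R ⟶ U)
    (hR : IsPullback ((AlgSp.yon S).map t) ((AlgSp.yon S).map s) p p) [QuasiCompact t.left] :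
    AlgSp.IsQuasiSeparatedSp X.obj := by
  exact main X p hp hs s t hR

end Groth.Agent.S10182
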