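import Groth.Statements.S10408
import Groth.Agent.S10265
import Groth.Agent.S10343
import Groth.Agent.Lib.Helper11.AlgSpBasic

set_option autoImplicit false
universe u
open CategoryTheory CategoryTheory.Limits AlgebraicGeometry Topology TopologicalSpace
open AlgSp

namespace Groth.Agent.S10408

open Groth.Agent.Lib.helper11

variable {S : Scheme.{u}}

/-- Finiteness of the set of points of `T ×_k T` over a pair of points, for `T` etale over the
spectrum of a field. -/
theorem finite_pair_fibre {M T K : Scheme.{u}} [IsAffine K] (π₁ π₂ : M ⟶ T) (c : T ⟶ K) [Etale c]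
    (sq : IsPullback π₁ π₂ c c) (τ τ' : T) : {m : M | π₁ m = τ ∧ π₂ m = τ'}.Finite := by
  obtain ⟨T₂, hT₂, hτ'T₂, -⟩ := exists_isAffineOpen_mem_and_subset (x := τ') (U := ⊤) trivial
  have hT₂a : IsAffine (T₂ : Scheme.{u}) := hT₂
  have sq1 := isPullback_morphismRestrict π₂ T₂
  -- sq1 : IsPullback (π₂ ∣_ T₂) (π₂ ⁻¹ᵁ T₂).ι T₂.ι π₂
  have sq2 : IsPullback (π₂ ∣_ T₂) ((π₂ ⁻¹ᵁ T₂).ι ≫ π₁) (T₂.ι ≫ c) c :=
    sq1.paste_vert sq.flip
  have hqc : QuasiCompact ((π₂ ⁻¹ᵁ T₂).ι ≫ π₁) :=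
    MorphismProperty.of_isPullback sq2 (inferInstance : QuasiCompact (T₂.ι ≫ c))
  have het : Etale π₁ := MorphismProperty.of_isPullback sq.flip ‹Etale c›
  have hlqf : LocallyQuasiFinite ((π₂ ⁻¹ᵁ T₂).ι ≫ π₁) := Groth.Agent.S10265.lqf_of_etale _
  have hfin := Scheme.Hom.finite_preimage_singleton ((π₂ ⁻¹ᵁ T₂).ι ≫ π₁) τ
  refine (hfin.image (π₂ ⁻¹ᵁ T₂).ι).subset ?_
  rintro m ⟨hm1, hm2⟩
  have hmem : m ∈ π₂ ⁻¹ᵁ T₂ := by
    change π₂ m ∈ T₂
    rw [hm2]; exact hτ'T₂
  exact ⟨⟨m, hmem⟩, by simpa using hm1, rfl⟩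

theorem main (X : AlgSp.Space S) (x : AlgSp.Points X.obj)
    (hx : ∃ p : AlgSp.FieldPt X.obj, AlgSp.Points.mk p = x ∧ Mono p.toHom) {U : Over S}
    (φ : (AlgSp.yon S).obj U ⟶ X.obj) (hφ : AlgSp.RepWith @Etale φ) (u u' : ↥U.left)
    (hu : AlgSp.Points.ofPt φ u = x) (hu' : AlgSp.Points.ofPt φ u' = x)
    (R : Over S) (s t : R ⟶ U)
    (sqB : IsPullback ((AlgSp.yon S).map t) ((AlgSp.yon S).map s) φ φ) :
    {r : ↥R.left | s.left r = u ∧ t.left r = u'}.Finite := by
  obtain ⟨p, rfl, hp⟩ := hx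
  obtain ⟨T, c, g', sqA⟩ := hφ.1 p.toHom
  obtain ⟨g, rfl⟩ := (yon S).map_surjective g'
  have hc : Etale c.left := hφ.2 _ _ _ sqA
  have hgm : Mono ((yon S).map g) := sqA.mono_fst_of_mono
  have hgm' : Mono g := (yon S).mono_of_mono_map hgm
  have hgl : Mono g.left := inferInstance
  have hginj : Function.Injective g.left := Scheme.Hom.injective g.left
  have hKa : IsAffine p.pt.left := by
    change IsAffine (Spec (CommRingCat.of p.K)); infer_instance
  have sqM0 : IsPullback (pullback.fst c c) (pullback.snd c c) c c := IsPullback.of_hasPullback c c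
  have sqM := sqM0.map (yon S)
  have sqMs := sqM0.map (Over.forget S)
  have hw : (yon S).map (pullback.snd c c ≫ g) ≫ φ = (yon S).map (pullback.fst c c ≫ g) ≫ φ := by
    rw [Functor.map_comp, Functor.map_comp, Category.assoc, Category.assoc, sqA.w,
      ← Category.assoc, ← Category.assoc, ← Functor.map_comp, ← Functor.map_comp, sqM0.w]
  obtain ⟨b, hb⟩ := (yon S).map_surjective (sqB.lift _ _ hw)
  have hb1 : (yon S).map b ≫ (yon S).map t = (yon S).map (pullback.snd c c ≫ g) := by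
    rw [hb]; exact sqB.lift_fst _ _ hw
  have hb2 : (yon S).map b ≫ (yon S).map s = (yon S).map (pullback.fst c c ≫ g) := by
    rw [hb]; exact sqB.lift_snd _ _ hw
  have big : IsPullback ((yon S).map b ≫ (yon S).map t) ((yon S).map (pullback.fst c c)) φ
      ((yon S).map g ≫ φ) := by
    rw [hb1, sqA.w, Functor.map_comp]
    exact sqM.flip.paste_horiz sqA
  have sqC := IsPullback.of_right big (by rw [hb2, Functor.map_comp]) sqB
  have hbt : b ≫ t = pullback.snd c c ≫ g :=
    (yon S).map_injective (by rw [Functor.map_comp]; exact hb1)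
  have hsub : Subsingleton ↥p.pt.left := by
    change Subsingleton ↥(Spec (CommRingCat.of p.K))
    exact inferInstanceAs (Subsingleton (PrimeSpectrum p.K))
  let s0 : ↥p.pt.left := (IsLocalRing.closedPoint p.K : ↥(Spec (CommRingCat.of p.K)))
  have hxu : Points.ofPt φ u = Points.ofPt p.toHom s0 := by
    rw [hu]; exact (Points.ofPt_toHom p s0).symm
  obtain ⟨τ, hτu, -⟩ := exists_of_isPullback_schemes sqA u s0 hxu
  have key : ∀ r : ↥R.left, s.left r = u → t.left r = u' →
      ∃ m : ↥(pullback c c).left, b.left m = r ∧ (pullback.fst c c).left m = τ ∧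
        g.left ((pullback.snd c c).left m) = u' := by
    intro r hr1 hr2
    have hut : Points.ofPt ((yon S).map s) r = Points.ofPt ((yon S).map g) τ := by
      rw [ofPt_yon_map, ofPt_yon_map, hr1, hτu]
    obtain ⟨m, hm1, hm2⟩ := exists_of_isPullback_schemes sqC r τ hut
    refine ⟨m, hm1, hm2, ?_⟩
    have h0 : b.left ≫ t.left = (pullback.snd c c).left ≫ g.left := by
      rw [← Over.comp_left, ← Over.comp_left, hbt]
    have h1 : t.left (b.left m) = g.left ((pullback.snd c c).left m) := by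
      rw [← Scheme.Hom.comp_apply, ← Scheme.Hom.comp_apply, h0]
    rw [← h1, hm1, hr2]
  by_cases hex : ∃ τ' : ↥T.left, g.left τ' = u'
  · obtain ⟨τ', hτ'⟩ := hex
    have hfin := finite_pair_fibre (pullback.fst c c).left (pullback.snd c c).left c.left sqMs τ τ'
    refine (hfin.image b.left).subset ?_
    rintro r ⟨hr1, hr2⟩
    obtain ⟨m, hm1, hm2, hm3⟩ := key r hr1 hr2
    exact ⟨m, ⟨hm2, hginj (hm3.trans hτ'.symm)⟩, hm1⟩
  · refine Set.Finite.subset Set.finite_empty ?_
    rintro r ⟨hr1, hr2⟩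
    obtain ⟨m, hm1, hm2, hm3⟩ := key r hr1 hr2
    exact (hex ⟨_, hm3⟩).elim

/-- (4) ⇒ (2): let S be a scheme and X an algebraic space over S. Suppose x ∈ |X| is a point represented
by a monomorphism Spec k ⟶ X, where k is a field. Then for every etale φ : U ⟶ X with U a scheme and
all u, u' ∈ U over x, the map |U ×_X U| → |U| ×_{|X|} |U| has finite fibre over the point (u, u'). -/
theorem result {S : Scheme.{u}} (X : AlgSp.Space S) (x : AlgSp.Points X.obj)
    (hx : ∃ p : AlgSp.FieldPt X.obj, AlgSp.Points.mk p = x ∧ Mono p.toHom) {U : Over S}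
    (φ : (AlgSp.yon S).obj U ⟶ X.obj) (hφ : AlgSp.RepWith @Etale φ) (u u' : ↥U.left)
    (hu : AlgSp.Points.ofPt φ u = x) (hu' : AlgSp.Points.ofPt φ u' = x) :
    ∀ (R : Over S) (s t : R ⟶ U), IsPullback ((AlgSp.yon S).map t) ((AlgSp.yon S).map s) φ φ →
          {r : ↥R.left | s.left r = u ∧ t.left r = u'}.Finite := by
  intro R s t sq
  exact main X x hx φ hφ u u' hu hu' R s t sq

end Groth.Agent.S10408
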