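import Groth.Statements.S10360
import Groth.Agent.Lib.Helper5.FieldQuotFinite
import Groth.Agent.S10343
import Groth.Agent.S10408

set_option autoImplicit false
universe u
open CategoryTheory CategoryTheory.Limits AlgebraicGeometry Topology TopologicalSpace
open AlgSp

namespace Groth.Agent.S10360

/-- (1) ⇔ (4): for an algebraic space X over a scheme S and x ∈ |X|, the fibres over x of |U| → |X| and
|U ×_X U| → |X| are finite for every etale h_U ⟶ X with U affine, if and only if x is represented by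
a monomorphism Spec k ⟶ X which is representable quasi-compact. -/
theorem result {S : Scheme.{u}} (X : AlgSp.Space S)
    (x : AlgSp.Points X.obj) :
    (∀ (U : Over S) (φ : (AlgSp.yon S).obj U ⟶ X.obj), IsAffine U.left → AlgSp.RepWith @Etale φ →
        ∀ (R : Over S) (s t : R ⟶ U), IsPullback ((AlgSp.yon S).map t) ((AlgSp.yon S).map s) φ φ →
          (AlgSp.Points.ofPt φ ⁻¹' {x}).Finite ∧ (AlgSp.Points.ofPt ((AlgSp.yon S).map t ≫ φ) ⁻¹' {x}).Finite) ↔
      ∃ p : AlgSp.FieldPt X.obj, AlgSp.Points.mk p = x ∧ Mono p.toHom ∧ AlgSp.RepWith @QuasiCompact p.toHom := by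
  open Groth.Agent.Lib.helper5.FieldQuot in
  constructor
  · intro H
    obtain ⟨U, φ, u, hU, hφ, hu⟩ := exists_affine_chart X.property x
    obtain ⟨R, s, t', sq⟩ := hφ.1 φ
    obtain ⟨t, rfl⟩ := (yon S).map_surjective t'
    have hfinR := (H U φ hU hφ R s t sq).2
    have hfin : {r : ↥R.left | s.left r = u ∧ t.left r = u}.Finite := by
      refine hfinR.subset ?_
      rintro r ⟨-, hr⟩
      change Points.ofPt ((yon S).map t ≫ φ) r = x
      rw [Groth.Agent.Lib.helper11.ofPt_yon_map_comp, hr, hu]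
    obtain ⟨p, c, hfac, hm, -⟩ := exists_mono_point_of_finite_pair φ hφ u s t sq hfin
    have hp : Points.mk p = x := (mk_eq_of_factor c hfac).trans hu
    refine ⟨p, hp, hm, ?_⟩
    refine repWith_qc_of_finite_fibres X.property p hm (fun U' φ' hU' hφ' => ?_)
    obtain ⟨R', s', t'', sq'⟩ := hφ'.1 φ'
    obtain ⟨t', rfl⟩ := (yon S).map_surjective t''
    rw [hp]
    exact (H U' φ' hU' hφ' R' s' t' sq').1
  · rintro ⟨p, hp, hm, hqc⟩ U φ hU hφ R s t sq
    have hcomp : CompactSpace ↥U.left := inferInstance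
    have hF : (Points.ofPt φ ⁻¹' {x}).Finite := by
      rw [← hp]
      exact Groth.Agent.S10343.finite_fibre_of_qc_point p hqc φ hφ
    refine ⟨hF, ?_⟩
    have hpair : ∀ u ∈ Points.ofPt φ ⁻¹' {x}, ∀ u' ∈ Points.ofPt φ ⁻¹' {x},
        {r : ↥R.left | s.left r = u ∧ t.left r = u'}.Finite := fun u hu u' hu' =>
      Groth.Agent.S10408.result X x ⟨p, hp, hm⟩ φ hφ u u' hu hu' R s t sq
    refine ((hF.biUnion (fun u hu => hF.biUnion (fun u' hu' => hpair u hu u' hu')))).subset ?_
    intro r hr
    have hr' : Points.ofPt ((yon S).map t ≫ φ) r = x := hr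
    have h1 : Points.ofPt φ (t.left r) = x := by
      rw [← Groth.Agent.Lib.helper11.ofPt_yon_map_comp]; exact hr'
    have h2 : Points.ofPt φ (s.left r) = x := by
      rw [← Groth.Agent.Lib.helper11.ofPt_yon_map_comp, ← sq.w]; exact hr'
    simp only [Set.mem_iUnion]
    exact ⟨s.left r, h2, t.left r, h1, rfl, rfl⟩

end Groth.Agent.S10360
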