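import Groth.Statements.S9906
import Groth.Agent.Lib.Helper5.AlgSpUniv

set_option autoImplicit false
universe u
open CategoryTheory CategoryTheory.Limits AlgebraicGeometry
open AlgSp

namespace Groth.Agent.S9906

/-- For a morphism of algebraic spaces representable by schemes, representable surjectivity is
equivalent to surjectivity of the induced map on points. -/
theorem result {S : Scheme.{u}} {X Y : AlgSp.Space S} (f : X ⟶ Y)
    (hf : AlgSp.Representable f.hom) :
    AlgSp.RepWith @Surjective f.hom ↔ AlgSp.IsSurjectiveMor f.hom := by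
  constructor
  · intro hf'
    have sq : IsPullback (𝟙 X.obj) f.hom f.hom (𝟙 Y.obj) := IsPullback.of_horiz_isIso ⟨by simp⟩
    obtain ⟨U, V, q, fst', s, hs, csq⟩ :=
      Groth.Agent.Lib.helper5.exists_chartSq hf' Y.property sq
    exact csq.surjective hs.surj
  · intro hsurj
    refine ⟨hf, ?_⟩
    intro U V g fst snd sq
    refine ⟨fun u => ?_⟩
    obtain ⟨x, hx⟩ := hsurj (AlgSp.Points.ofPt g u)
    obtain ⟨v, _, hv⟩ := Groth.Agent.Lib.helper11.exists_of_isPullback_scheme sq x u hx
    exact ⟨v, hv⟩

end Groth.Agent.S9906
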