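import Groth.Statements.S10096
import Groth.Agent.S9906
import Mathlib

set_option autoImplicit false
universe u
open CategoryTheory CategoryTheory.Limits AlgebraicGeometry
open AlgSp

namespace Groth.Agent.S10096

/-- The sieve generated by a flat, lfp, surjective morphism over `S` is covering for the fppf
topology. -/
theorem cover_mem {S : Scheme.{u}} {W T : Over S} (w : W ⟶ T) [Flat w.left]
    [LocallyOfFinitePresentation w.left] [Surjective w.left] :
    Sieve.ofArrows (fun _ : PUnit.{1} => W) (fun _ => w) ∈ (AlgSp.J S) T := by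
  rw [GrothendieckTopology.mem_over_iff, Sieve.overEquiv_ofArrows]
  have h := Precoverage.generate_mem_toGrothendieck (w.left.singleton_mem_fppfPrecoverage)
  have e : Presieve.singleton w.left = Presieve.ofArrows (fun _ : PUnit.{1} => W.left)
      (fun _ => w.left) := (Presieve.ofArrows_pUnit.{0} w.left).symm
  rw [e] at h
  exact h

theorem main (S : Scheme.{u}) (F G : AlgSp.Sp S) (a : F ⟶ G)
    (ha : AlgSp.RepBySpWith (AlgSp.IsSurjectiveMor ⊓ AlgSp.LocP @Flat ⊓ AlgSp.LocP @LocallyOfFinitePresentation) a.hom) :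
    Sheaf.IsLocallySurjective a := by
  rw [repBySpWith_hom_iff] at ha
  refine ⟨fun {U} s => ?_⟩
  let ξ : (yon S).obj U ⟶ G := (AlgSp.J S).uliftYonedaEquiv.symm s
  obtain ⟨hP, ⟨hsurj, hflat⟩, hlfp⟩ := ha ξ _ _ (IsPullback.of_hasPullback a ξ)
  obtain ⟨V, q, hq1, hq2⟩ := hP.atlas
  obtain ⟨g, hg⟩ := (yon S).map_surjective (q ≫ pullback.snd a ξ)
  have hgflat : Flat g.left :=
    hflat q (𝟙 _) g hq1 (repWith_id _ U) (by rw [hg, Category.comp_id])
  have hglfp : LocallyOfFinitePresentation g.left :=
    hlfp q (𝟙 _) g hq1 (repWith_id _ U) (by rw [hg, Category.comp_id])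
  have hqs : IsSurjectiveMor q := by
    let q' : (⟨(yon S).obj V, IsAlgSpace.yon_obj V⟩ : Space S) ⟶ ⟨pullback a ξ, hP⟩ :=
      ObjectProperty.homMk q
    exact (Groth.Agent.S9906.result q' hq2.rep).1 hq2
  have hgs : Surjective g.left := by
    have h1 : Function.Surjective (Points.map ((yon S).map g)) := by
      rw [hg]
      have : Points.map (q ≫ pullback.snd a ξ) = Points.map (pullback.snd a ξ) ∘ Points.map q := by
        funext x; exact Points.map_comp _ _ x
      rw [this]
      exact hsurj.comp hqs
    rw [Points.map_yon_map_eq] at h1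
    constructor
    intro y
    obtain ⟨x, hx⟩ := h1 (Points.schemeHomeo U y)
    refine ⟨(Points.schemeHomeo V).symm x, ?_⟩
    exact (Points.schemeHomeo U).injective hx
  refine (AlgSp.J S).superset_covering ?_ (cover_mem g)
  rintro Y f ⟨Z, k, _, ⟨⟨⟩⟩, rfl⟩
  apply Sieve.downward_closed
  refine ⟨(AlgSp.J S).uliftYonedaEquiv (q ≫ pullback.fst a ξ), ?_⟩
  rw [← GrothendieckTopology.uliftYonedaEquiv_comp, Category.assoc, pullback.condition,
    ← Category.assoc, ← hg]
  rw [← GrothendieckTopology.uliftYonedaEquiv_naturality]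
  simp [ξ]

/-- Let `a : F ⟶ G` be a map of fppf sheaves of sets over `S` that is flat, surjective, locally of
finite presentation and representable by algebraic spaces (every base change `h_U ×_G F ⟶ h_U` to a
scheme is such a morphism of algebraic spaces). Then `a` is surjective as a map of sheaves (an
epimorphism of fppf sheaves). -/
theorem result (S : Scheme.{u}) (F G : AlgSp.Sp S) (a : F ⟶ G)
    (ha : AlgSp.RepBySpWith (AlgSp.IsSurjectiveMor ⊓ AlgSp.LocP @Flat ⊓ AlgSp.LocP @LocallyOfFinitePresentation) a.hom) :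
    Epi a := by
  have := main S F G a ha
  infer_instance

end Groth.Agent.S10096
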