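import Groth.Statements.S9929
import Groth.Agent.S10096
import Groth.Agent.Lib.Helper11.AlgSpBasic

set_option autoImplicit false
universe u
open CategoryTheory CategoryTheory.Limits AlgebraicGeometry
open AlgSp

namespace Groth.Agent.S9929

variable {S : Scheme.{u}}

theorem isPullback_cancel_mono {C : Type*} [Category C] {P X Y Z W : C} {fst : P ⟶ X} {snd : P ⟶ Y}
    {a : X ⟶ Z} {b : Y ⟶ Z} (f : Z ⟶ W) [Mono f] (h : IsPullback fst snd (a ≫ f) (b ≫ f)) :
    IsPullback fst snd a b := by
  have hw : fst ≫ a = snd ≫ b := by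
    rw [← cancel_mono f, Category.assoc, Category.assoc, h.w]
  refine ⟨⟨hw⟩, ⟨PullbackCone.IsLimit.mk _
    (fun s => h.lift s.fst s.snd (by rw [← Category.assoc, s.condition, Category.assoc]))
    (fun s => h.lift_fst _ _ _) (fun s => h.lift_snd _ _ _) ?_⟩⟩
  intro s m h1 h2
  apply h.hom_ext
  · rw [h1, h.lift_fst]
  · rw [h2, h.lift_snd]

theorem isLocallySurjective_yon_map {W T : Over S} (w : W ⟶ T) [Flat w.left]
    [LocallyOfFinitePresentation w.left] [Surjective w.left] :
    Sheaf.IsLocallySurjective ((yon S).map w) := by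
  refine ⟨fun {Y} s => ?_⟩
  have h := (AlgSp.J S).pullback_stable s.down (Groth.Agent.S10096.cover_mem w)
  refine (AlgSp.J S).superset_covering ?_ h
  rintro Y' g ⟨Z, k, _, ⟨⟨⟩⟩, hk⟩
  refine ⟨⟨k⟩, ?_⟩
  apply ULift.ext
  exact hk

theorem main {k : Type u} [Field k] (str : Spec (CommRingCat.of k) ⟶ S)
    (Z : AlgSp.Space S) (f : Z ⟶ (AlgSp.ofScheme S).obj (Over.mk str)) [Mono f.hom]
    (hne : Nonempty (AlgSp.Points Z.obj)) : IsIso f := by
  obtain ⟨x⟩ := hne
  obtain ⟨U, a, u, hae, -, -⟩ := Groth.Agent.Lib.helper11.exists_chart_ofPt Z x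
  obtain ⟨V, hV, huV, -⟩ := exists_isAffineOpen_mem_and_subset (x := u) (U := ⊤) trivial
  let U' : Over S := Over.mk (V.ι ≫ U.hom)
  let j : U' ⟶ U := Over.homMk V.ι rfl
  have : IsAffine U'.left := hV
  let K : Over S := Over.mk str
  let fh : Z.obj ⟶ (yon S).obj K := f.hom
  have : Mono fh := inferInstanceAs (Mono f.hom)
  have hj : RepWith @Etale ((yon S).map j) := (repWith_yon_map_iff @Etale j).2
    (by change Etale V.ι; infer_instance)
  have ha' : RepWith @Etale ((yon S).map j ≫ a) :=
    (RepWith (S := S) @Etale).comp_mem _ _ hj hae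
  obtain ⟨p, hp⟩ := (yon S).map_surjective (((yon S).map j ≫ a) ≫ fh)
  have sq0 := IsPullback.of_hasPullback p p
  have sq1 := sq0.map (yon S)
  rw [hp] at sq1
  have sq2 := isPullback_cancel_mono fh sq1
  have het : Etale (pullback.snd p p).left := ha'.2 _ _ _ sq2
  have sq3 := sq0.map (Over.forget S)
  have hne' : Nonempty U'.left := ⟨⟨u, huV⟩⟩
  have hsurj : Surjective p.left := by
    constructor
    intro y
    obtain ⟨z⟩ := hne'
    refine ⟨z, ?_⟩
    have : Subsingleton K.left := by
      change Subsingleton (Spec (CommRingCat.of k)); infer_instance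
    exact Subsingleton.elim _ _
  have hflat : Flat p.left := by
    have : Subsingleton K.left := by
      change Subsingleton (Spec (CommRingCat.of k)); infer_instance
    have : IsIntegral K.left := by
      change IsIntegral (Spec (CommRingCat.of k)); infer_instance
    infer_instance
  have hqc : QuasiCompact p.left := by
    have : IsAffine K.left := by
      change IsAffine (Spec (CommRingCat.of k)); infer_instance
    infer_instance
  have hpet : Etale p.left :=
    MorphismProperty.of_isPullback_of_descendsAlong (P := @Etale)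
      (Q := @Surjective ⊓ @Flat ⊓ @QuasiCompact) sq3.flip ⟨⟨hsurj, hflat⟩, hqc⟩ het
  have : LocallyOfFinitePresentation p.left := inferInstance
  have hls := isLocallySurjective_yon_map p
  have : Epi ((yon S).map p) := inferInstance
  have : Epi fh := epi_of_epi_fac hp.symm
  have : IsIso fh := isIso_of_mono_of_epi fh
  have : IsIso ((ObjectProperty.ι (IsAlgSpace (S := S))).map f) := ‹IsIso fh›
  exact isIso_of_reflects_iso f (ObjectProperty.ι (IsAlgSpace (S := S)))

/-- A monomorphism from an algebraic space to the spectrum of a field is either the empty space or an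
isomorphism. -/
theorem result {S : Scheme.{u}} {k : Type u} [Field k] (str : Spec (CommRingCat.of k) ⟶ S)
    (Z : AlgSp.Space S) (f : Z ⟶ (AlgSp.ofScheme S).obj (Over.mk str)) [Mono f.hom] :
    IsEmpty (AlgSp.Points Z.obj) ∨ IsIso f := by
  by_cases h : Nonempty (AlgSp.Points Z.obj)
  · exact Or.inr (main str Z f h)
  · exact Or.inl (not_nonempty_iff.mp h)

end Groth.Agent.S9929
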