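import Groth.Statements.S10122
import Groth.Agent.S9904
import Groth.Agent.Lib.Helper1.Diagonal
import Groth.Agent.Lib.Helper7.AlgSpQC

set_option autoImplicit false
universe u
open CategoryTheory CategoryTheory.Limits AlgebraicGeometry
open AlgSp AlgSp.GroupoidSp

namespace Groth.Agent.S10122

section cat

variable {C : Type*} [Category C] [HasPullbacks C]

set_option backward.isDefEq.respectTransparency false in
/-- A section `σ` of `p` is a base change of the diagonal of `p`. -/
theorem isPullback_section {G U : C} (p : G ⟶ U) (σ : U ⟶ G) (h : σ ≫ p = 𝟙 U) :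
    IsPullback σ σ (pullback.diagonal p)
      (pullback.lift (𝟙 G) (p ≫ σ) (by rw [Category.assoc, h, Category.comp_id, Category.id_comp])) := by
  apply Groth.Agent.Lib.helper5.isPullback_of_exists_lift
  · apply pullback.hom_ext
    · simp
    · simp [reassoc_of% h]
  · intro T a b hab
    have e1 : a = b := by simpa using congrArg (· ≫ pullback.fst p p) hab
    have e2 : a = b ≫ p ≫ σ := by simpa using congrArg (· ≫ pullback.snd p p) hab
    refine ⟨b ≫ p, ?_, ?_⟩
    · rw [Category.assoc, ← e2]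
    · rw [Category.assoc, ← e2, e1]
  · intro T l l' h1 _
    have := congrArg (· ≫ p) h1
    simpa [h] using this

set_option backward.isDefEq.respectTransparency false in
theorem comp_lift' {X Y Z T T' : C} {f : X ⟶ Z} {g : Y ⟶ Z} (k : T' ⟶ T) (a : T ⟶ X) (b : T ⟶ Y)
    (h : a ≫ f = b ≫ g) :
    k ≫ pullback.lift a b h = pullback.lift (k ≫ a) (k ≫ b)
      (by rw [Category.assoc, Category.assoc, h]) := by
  apply pullback.hom_ext <;> simp

end cat

variable {S : Scheme.{u}} {B : AlgSp.Sp S} (G : AlgSp.GroupoidSp B)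

theorem comp_congr {T : Sp S} {α α' β β' : T ⟶ G.R} (hα : α = α') (hβ : β = β')
    (h : α ≫ G.s = β ≫ G.t) :
    pullback.lift α β h ≫ G.c = pullback.lift α' β' (by rw [← hα, ← hβ]; exact h) ≫ G.c := by
  subst hα hβ; rfl

theorem sqStab : IsPullback G.stabilizerι G.stabilizerToU G.j G.diag :=
  IsPullback.of_hasPullback G.j G.diag

theorem jj_t : pullback.fst G.j G.j ≫ G.t = pullback.snd G.j G.j ≫ G.t := by
  rw [← G.j_fst, ← Category.assoc, pullback.condition, Category.assoc]

theorem jj_s : pullback.fst G.j G.j ≫ G.s = pullback.snd G.j G.j ≫ G.s := by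
  rw [← G.j_snd, ← Category.assoc, pullback.condition, Category.assoc]

theorem hψ : (pullback.fst G.j G.j ≫ G.i) ≫ G.s = pullback.snd G.j G.j ≫ G.t := by
  rw [Category.assoc, G.i_s, jj_t]

/-- `(r, r') ↦ r⁻¹ ∘ r'`. -/
noncomputable def ψ : pullback G.j G.j ⟶ G.R :=
  pullback.lift (pullback.fst G.j G.j ≫ G.i) (pullback.snd G.j G.j) (hψ G) ≫ G.c

theorem ψ_t : ψ G ≫ G.t = pullback.fst G.j G.j ≫ G.s := by
  unfold ψ
  rw [G.comp_t, Category.assoc, G.i_t]

theorem ψ_s : ψ G ≫ G.s = pullback.fst G.j G.j ≫ G.s := by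
  unfold ψ
  rw [G.comp_s, jj_s]

theorem hφ : ψ G ≫ G.j = (pullback.fst G.j G.j ≫ G.s) ≫ G.diag := by
  apply pullback.hom_ext
  · rw [Category.assoc, G.j_fst, ψ_t, Category.assoc]
    unfold GroupoidSp.diag
    rw [pullback.lift_fst, Category.comp_id]
  · rw [Category.assoc, G.j_snd, ψ_s, Category.assoc]
    unfold GroupoidSp.diag
    rw [pullback.lift_snd, Category.comp_id]

noncomputable def φ : pullback G.j G.j ⟶ G.stabilizer :=
  pullback.lift (ψ G) (pullback.fst G.j G.j ≫ G.s) (hφ G)

theorem φ_ι : φ G ≫ G.stabilizerι = ψ G := pullback.lift_fst _ _ _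

theorem φ_toU : φ G ≫ G.stabilizerToU = pullback.fst G.j G.j ≫ G.s := pullback.lift_snd _ _ _

theorem eG_toU (eG : G.U ⟶ G.stabilizer) (heG : eG ≫ G.stabilizerι = G.e) :
    eG ≫ G.stabilizerToU = 𝟙 G.U := by
  have h1 : eG ≫ G.stabilizerToU ≫ G.diag = G.e ≫ G.j := by
    rw [← heG, Category.assoc, (sqStab G).w]
  have h2 := congrArg (· ≫ pullback.fst G.pU G.pU) h1
  simp only [Category.assoc, G.j_fst, G.e_t] at h2
  unfold GroupoidSp.diag at h2
  rw [pullback.lift_fst, Category.comp_id] at h2
  exact h2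

theorem stab_ext {T : Sp S} (a b : T ⟶ G.stabilizer) (h1 : a ≫ G.stabilizerι = b ≫ G.stabilizerι)
    (h2 : a ≫ G.stabilizerToU = b ≫ G.stabilizerToU) : a = b :=
  (sqStab G).hom_ext h1 h2

set_option backward.isDefEq.respectTransparency false in
theorem sqUnit (eG : G.U ⟶ G.stabilizer) (heG : eG ≫ G.stabilizerι = G.e) :
    IsPullback G.s (pullback.diagonal G.j) eG (φ G) := by
  have hU := eG_toU G eG heG
  apply Groth.Agent.Lib.helper5.isPullback_of_exists_lift
  · apply stab_ext
    · rw [Category.assoc, heG, Category.assoc, φ_ι]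
      unfold ψ
      rw [← Category.assoc, comp_lift']
      have := G.i_comp (𝟙 G.R)
      simp only [Category.id_comp] at this
      rw [← this]
      exact (comp_congr G (by simp) (by simp) _).symm
    · rw [Category.assoc, hU, Category.assoc, φ_toU, pullback.diagonal_fst_assoc, Category.comp_id]
  · intro T a b hab
    have ha : a = (b ≫ pullback.fst G.j G.j) ≫ G.s := by
      have := congrArg (· ≫ G.stabilizerToU) hab
      simpa [hU, φ_toU] using this
    have hc : a ≫ G.e = pullback.lift ((b ≫ pullback.fst G.j G.j) ≫ G.i) (b ≫ pullback.snd G.j G.j)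
        (by rw [Category.assoc, Category.assoc, Category.assoc, G.i_s, jj_t]) ≫ G.c := by
      have := congrArg (· ≫ G.stabilizerι) hab
      simp only [Category.assoc, heG, φ_ι] at this
      rw [this]
      unfold ψ
      rw [← Category.assoc, comp_lift']
      exact comp_congr G (by simp) rfl _
    have htt : (b ≫ pullback.fst G.j G.j) ≫ G.t = (b ≫ pullback.snd G.j G.j) ≫ G.t := by
      rw [Category.assoc, Category.assoc, jj_t]
    have key : b ≫ pullback.snd G.j G.j = b ≫ pullback.fst G.j G.j := by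
      have h1 := G.e_comp (b ≫ pullback.snd G.j G.j)
      have h2 := G.comp_i (b ≫ pullback.fst G.j G.j)
      have h3 := G.assoc (b ≫ pullback.fst G.j G.j) ((b ≫ pullback.fst G.j G.j) ≫ G.i)
        (b ≫ pullback.snd G.j G.j) (by rw [Category.assoc _ G.i, G.i_t])
        (by rw [Category.assoc _ G.i, G.i_s]; exact htt)
      have h4 := G.comp_e (b ≫ pullback.fst G.j G.j)
      refine h1.symm.trans ((comp_congr G ?_ rfl _).trans (h3.trans ((comp_congr G rfl ?_ _).trans h4)))
      · rw [h2]; simp only [← Category.assoc]; rw [htt]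
      · rw [← hc, ha, Category.assoc]
    refine ⟨b ≫ pullback.fst G.j G.j, ha.symm, ?_⟩
    apply pullback.hom_ext
    · simp
    · simp [key]
  · intro T l l' _ h2
    simpa using congrArg (· ≫ pullback.fst G.j G.j) h2

variable (P : MorphismProperty Scheme.{u})

theorem step1 (h : RepWith P (pullback.diagonal G.j)) :
    RepWith P (pullback.diagonal G.stabilizerToU) :=
  (repWith_isStableUnderBaseChange (S := S) P).of_isPullback
    (Groth.Agent.S9904.isPullback_diagonal_map (sqStab G)) h

theorem step2 (eG : G.U ⟶ G.stabilizer) (heG : eG ≫ G.stabilizerι = G.e)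
    (h : RepWith P (pullback.diagonal G.stabilizerToU)) : RepWith P eG :=
  (repWith_isStableUnderBaseChange (S := S) P).of_isPullback
    (isPullback_section G.stabilizerToU eG (eG_toU G eG heG)) h

theorem step3 (eG : G.U ⟶ G.stabilizer) (heG : eG ≫ G.stabilizerι = G.e)
    (h : RepWith P eG) : RepWith P (pullback.diagonal G.j) :=
  (repWith_isStableUnderBaseChange (S := S) P).of_isPullback (sqUnit G eG heG) h

theorem main (S : Scheme.{u}) (B : AlgSp.Sp S) (hB : AlgSp.IsAlgSpace B)
    (G : AlgSp.GroupoidSp B) (hU : AlgSp.IsAlgSpace G.U) (hR : AlgSp.IsAlgSpace G.R)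
    (eG : G.U ⟶ G.stabilizer) (heG : eG ≫ G.stabilizerι = G.e) :
    ((AlgSp.IsSeparatedMor G.j ↔ AlgSp.IsSeparatedMor G.stabilizerToU) ∧
        (AlgSp.IsSeparatedMor G.j ↔ AlgSp.RepWith @IsClosedImmersion eG)) ∧
      ((AlgSp.IsQuasiSeparatedMor G.j ↔ AlgSp.IsQuasiSeparatedMor G.stabilizerToU) ∧
        (AlgSp.IsQuasiSeparatedMor G.j ↔ AlgSp.IsQuasiCompactMor eG)) ∧
      ((AlgSp.IsLocallySeparatedMor G.j → AlgSp.RepWith @IsImmersion eG) ∧
        (AlgSp.IsLocallySeparatedMor G.stabilizerToU → AlgSp.RepWith @IsImmersion eG)) := by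
  have hUU : IsAlgSpace (pullback G.pU G.pU) :=
    Groth.Agent.Lib.helper5.isAlgSpace_of_isPullback hB.diag hU hU (IsPullback.of_hasPullback _ _)
  have hStab : IsAlgSpace G.stabilizer :=
    Groth.Agent.Lib.helper5.isAlgSpace_of_isPullback hUU.diag hR hU (sqStab G)
  have hrep : Representable eG :=
    Groth.Agent.Lib.helper5.representable_of_isPullback
      (Groth.Agent.H1.Diagonal.representable_diagonal hStab.diag G.stabilizerToU)
      (isPullback_section G.stabilizerToU eG (eG_toU G eG heG))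
  refine ⟨⟨⟨step1 G _, fun h => step3 G _ eG heG (step2 G _ eG heG h)⟩,
    ⟨fun h => step2 G _ eG heG (step1 G _ h), step3 G _ eG heG⟩⟩,
    ⟨⟨step1 G _, fun h => step3 G _ eG heG (step2 G _ eG heG h)⟩,
    ⟨fun h => Groth.Agent.Lib.helper7.AlgSpQC.isQuasiCompactMor_of_repWith
      (step2 G _ eG heG (step1 G _ h)),
     fun h => step3 G _ eG heG (Groth.Agent.Lib.helper7.AlgSpQC.repWith_of_isQuasiCompactMor hrep h)⟩⟩,
    ⟨fun h => step2 G _ eG heG (step1 G _ h), step2 G _ eG heG⟩⟩

/-- Let `(U, R, s, t, c)` be a groupoid in algebraic spaces over `B` with stabilizer `G ⟶ U` and unit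
section `e : U ⟶ G`. Then (1) `j : R ⟶ U ×_B U` is separated iff `G ⟶ U` is separated iff `e` is a
closed immersion; (3) `j` is quasi-separated iff `G ⟶ U` is quasi-separated iff `e` is
quasi-compact; (2) if `j` or `G ⟶ U` is locally separated then `e` is an immersion. The unit section
is written as any morphism `U ⟶ G` lifting the identity `e : U ⟶ R` of the groupoid. (The published
part (2) is a three-way equivalence; this row states only that `j` locally separated, or `G ⟶ U`
locally separated, implies that `e` is an immersion.) -/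
theorem result (S : Scheme.{u}) (B : AlgSp.Sp S) (hB : AlgSp.IsAlgSpace B)
    (G : AlgSp.GroupoidSp B) (hU : AlgSp.IsAlgSpace G.U) (hR : AlgSp.IsAlgSpace G.R)
    (eG : G.U ⟶ G.stabilizer) (heG : eG ≫ G.stabilizerι = G.e) :
    ((AlgSp.IsSeparatedMor G.j ↔ AlgSp.IsSeparatedMor G.stabilizerToU) ∧
        (AlgSp.IsSeparatedMor G.j ↔ AlgSp.RepWith @IsClosedImmersion eG)) ∧
      ((AlgSp.IsQuasiSeparatedMor G.j ↔ AlgSp.IsQuasiSeparatedMor G.stabilizerToU) ∧
        (AlgSp.IsQuasiSeparatedMor G.j ↔ AlgSp.IsQuasiCompactMor eG)) ∧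
      ((AlgSp.IsLocallySeparatedMor G.j → AlgSp.RepWith @IsImmersion eG) ∧
        (AlgSp.IsLocallySeparatedMor G.stabilizerToU → AlgSp.RepWith @IsImmersion eG)) := by
  exact main S B hB G hU hR eG heG

end Groth.Agent.S10122
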