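import Groth.Statements.S10262
import Groth.Agent.Lib.Helper5.AlgSpDiagUnram

set_option autoImplicit false
universe u
open CategoryTheory CategoryTheory.Limits AlgebraicGeometry
open AlgSp

namespace Groth.Agent.S10262

/-- (1) an unramified morphism of algebraic spaces has diagonal an open immersion; (2) a morphism
locally of finite type whose diagonal is an open immersion is unramified. -/
theorem result {S : Scheme.{u}} {X Y : AlgSp.Space S} (f : X ⟶ Y) :
    (AlgSp.LocP (@LocallyOfFiniteType ⊓ @FormallyUnramified) f.hom →
      AlgSp.RepWith @IsOpenImmersion (pullback.diagonal f.hom)) ∧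
    (AlgSp.LocP @LocallyOfFiniteType f.hom → AlgSp.RepWith @IsOpenImmersion (pullback.diagonal f.hom) →
      AlgSp.LocP (@LocallyOfFiniteType ⊓ @FormallyUnramified) f.hom) := by
  refine ⟨fun hf => ?_, fun hft hΔ => ?_⟩
  · exact Groth.Agent.Lib.helper5.DiagUnram.repWith_oi_diagonal_of_unramified X.2 Y.2 f.hom hf
  · intro U V a b h ha hb hsq
    exact ⟨hft a b h ha hb hsq,
      Groth.Agent.Lib.helper5.DiagUnram.formallyUnramified_chart_of_oi_diagonal f.hom hΔ a b h ha hb
        hsq⟩

end Groth.Agent.S10262
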