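import Groth.Statements.S10118
import Groth.Agent.S10310
import Groth.Agent.S10262
import Groth.Agent.S10122
import Groth.Agent.S10265
import Groth.Agent.Lib.Helper5.AlgSpLocPBC
import Groth.Agent.Lib.Helper5.AlgSpLocPInst

set_option autoImplicit false
universe u
open CategoryTheory CategoryTheory.Limits AlgebraicGeometry MonoidalCategory MonObj
open AlgSp AlgSp.GAction

namespace Groth.Agent.S10118

open Groth.Agent.S10310 CartesianMonoidalCategory

set_option backward.isDefEq.respectTransparency false in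
theorem lqf_of_snd {U V W : Scheme.{u}} (f : U ⟶ V) [LocallyOfFiniteType f] {p1 p2 : W ⟶ U}
    (sq : IsPullback p1 p2 f f) (h : LocallyQuasiFinite p2) : LocallyQuasiFinite f := by
  refine lqf_of_isol f (fun u => ?_)
  set ιu := U.fromSpecResidueField u with hιu
  set ρ := Spec.map (f.residueFieldMap u) with hρ
  have hρι : ρ ≫ V.fromSpecResidueField (f u) = ιu ≫ f := by simp [hρ, hιu]
  set a1 := pullback.fst f (ιu ≫ f) with ha1
  set a2 := pullback.snd f (ιu ≫ f) with ha2
  have hcond : a1 ≫ f = a2 ≫ ιu ≫ f := pullback.condition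
  -- square 1
  have hl : a1 ≫ f = (a2 ≫ ιu) ≫ f := by rw [Category.assoc]; exact hcond
  have sq1 : IsPullback (sq.lift a1 (a2 ≫ ιu) hl) a2 p2 ιu := by
    refine IsPullback.of_right ?_ (sq.lift_snd _ _ _) sq
    rw [sq.lift_fst]
    exact IsPullback.of_hasPullback f (ιu ≫ f)
  have ha2lqf : LocallyQuasiFinite a2 := MorphismProperty.of_isPullback (P := @LocallyQuasiFinite) sq1 h
  -- square 2
  have hr : a1 ≫ f = (a2 ≫ ρ) ≫ V.fromSpecResidueField (f u) := by
    rw [Category.assoc, hρι]; exact hcond
  let r : pullback f (ιu ≫ f) ⟶ f.fiber (f u) := pullback.lift a1 (a2 ≫ ρ) hr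
  have hr1 : r ≫ f.fiberι (f u) = a1 := pullback.lift_fst _ _ _
  have hr2 : r ≫ f.fiberToSpecResidueField (f u) = a2 ≫ ρ := pullback.lift_snd _ _ _
  have sq2 : IsPullback r a2 (f.fiberToSpecResidueField (f u)) ρ := by
    refine IsPullback.of_right ?_ hr2 (IsPullback.of_hasPullback f (V.fromSpecResidueField (f u)))
    rw [hρι]
    have : r ≫ pullback.fst f (V.fromSpecResidueField (f u)) = a1 := hr1
    rw [this]
    exact IsPullback.of_hasPullback f (ιu ≫ f)
  have h1 : IsIntegral (Spec (V.residueField (f u))) := inferInstance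
  have h2 : Subsingleton ↥(Spec (V.residueField (f u))) :=
    inferInstanceAs (Subsingleton (PrimeSpectrum (V.residueField (f u))))
  have hρo : UniversallyOpen ρ := inferInstance
  have hro : UniversallyOpen r := MorphismProperty.of_isPullback (P := @UniversallyOpen) sq2.flip hρo
  -- the point
  let s : Spec (U.residueField u) ⟶ pullback f (ιu ≫ f) := pullback.lift ιu (𝟙 _) (by simp)
  let x := s (IsLocalRing.closedPoint (U.residueField u))
  have hx1 : Isol a2 x := isol_of_lqf a2 x
  have hx2 : Isol (a2 ≫ ρ) x := by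
    refine isol_comp a2 ρ x hx1 ⟨Set.univ, isOpen_univ, trivial, fun y _ _ => ?_⟩
    have : Subsingleton ↥(Spec (U.residueField u)) :=
      inferInstanceAs (Subsingleton (PrimeSpectrum (U.residueField u)))
    exact Subsingleton.elim _ _
  rw [← hr2] at hx2
  obtain ⟨O, hO, hxO, hO'⟩ := isol_descend r (f.fiberToSpecResidueField (f u)) x r.isOpenMap hx2
  have hOeq : O = {r x} := by
    ext y
    constructor
    · intro hy
      exact hO' y hy (Subsingleton.elim _ _)
    · rintro rfl
      exact hxO
  have hrx : r x = f.asFiber u := by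
    apply (f.fiberι (f u)).isEmbedding.injective
    rw [Scheme.Hom.fiberι_asFiber, ← Scheme.Hom.comp_apply, hr1]
    show a1 (s _) = u
    rw [← Scheme.Hom.comp_apply]
    have : s ≫ a1 = ιu := pullback.lift_fst _ _ _
    rw [this]
    exact Scheme.fromSpecResidueField_apply _ _
  rw [← isOpen_asFiber_iff, ← hrx, ← hOeq]
  exact hO

variable {S : Scheme.{u}}

theorem repWith_mono {P Q : MorphismProperty Scheme.{u}} (hPQ : ∀ {A B : Scheme.{u}} (g : A ⟶ B), P g → Q g)
    {F G : Sp S} {f : F ⟶ G} (h : RepWith P f) : RepWith Q f :=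
  ⟨h.1, fun _ _ g fst snd sq => hPQ _ (h.2 g fst snd sq)⟩

theorem locP_of_repWith_etale {P : MorphismProperty Scheme.{u}}
    (hP : ∀ {A B : Scheme.{u}} (g : A ⟶ B), Etale g → P g) {F G : Sp S} (b : F ⟶ G)
    (hb : RepWith @Etale b) : LocP P b := by
  intro U' V' a' b' k ha' hb' hsq
  apply hP
  exact Groth.Agent.H1.LocPStable.etale_of_charts (a' ≫ b) b'
    ((RepWith (S := S) @Etale).comp_mem _ _ ha' hb) hb' k hsq.symm

theorem locP_iso_comp {P : MorphismProperty Scheme.{u}} {F F' G : Sp S} (e : F' ≅ F) (g : F ⟶ G)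
    (hg : LocP P g) : LocP P (e.hom ≫ g) := by
  intro U V a b k ha hb hsq
  refine hg (a ≫ e.hom) b k (MorphismProperty.RespectsIso.postcomp _ _ _ ha) hb ?_
  rw [Category.assoc]; exact hsq

set_option backward.isDefEq.respectTransparency false in
theorem chart_snd {F B : Sp S} (hB : IsAlgSpace B) (f : F ⟶ B)
    {P : MorphismProperty Scheme.{u}} (hq : LocP P (pullback.snd f f)) {U V : Over S}
    (a : (yon S).obj U ⟶ F) (b : (yon S).obj V ⟶ B) (h : U ⟶ V)
    (ha : RepWith @Etale a) (hb : RepWith @Etale b) (hsq : (yon S).map h ≫ b = a ≫ f) :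
    P (pullback.snd h h).left := by
  have hbun : LocP (@LocallyOfFiniteType ⊓ @FormallyUnramified) b :=
    locP_of_repWith_etale (fun g hg => by
      have := hg
      exact ⟨inferInstance, inferInstance⟩) b hb
  have hΔ : RepWith @Etale (pullback.diagonal b) :=
    repWith_mono (fun g hg => by have := hg; infer_instance)
      (Groth.Agent.Lib.helper5.DiagUnram.repWith_oi_diagonal_of_unramified (IsAlgSpace.yon_obj V) hB b hbun)
  have hd1 := (repWith_isStableUnderBaseChange (S := S) @Etale).of_isPullback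
    (pullback_map_diagonal_isPullback ((yon S).map h) ((yon S).map h) b) hΔ
  have hd2 := MorphismProperty.pullbackMap (P := RepWith (S := S) @Etale) ha ha hsq hsq
  let e := PreservesPullback.iso (yon S) h h
  have hc := MorphismProperty.RespectsIso.precomp (RepWith (S := S) @Etale) e.hom _
    ((RepWith (S := S) @Etale).comp_mem _ _ hd1 hd2)
  refine hq _ a (pullback.snd h h) hc ha ?_
  simp [e]

open Groth.Agent.Lib.helper5.LocPBC in
theorem locP_snd_of_pseudoTorsor {P : MorphismProperty Scheme.{u}} (hP : LocPData P)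
    {B : AlgSp.Sp S} (hB : AlgSp.IsAlgSpace B)
    (G X : Over B) [GrpObj G] (hG : AlgSp.IsAlgSpace G.left) (hX : AlgSp.IsAlgSpace X.left)
    (a : AlgSp.GAction G X) (ha : a.IsPseudoTorsor) (hGP : LocP P G.hom) :
    LocP P (pullback.snd X.hom X.hom) := by
  have h1 : LocP P (pullback.snd G.hom X.hom) :=
    locP_of_isPullback hP hG hB hX (IsPullback.of_hasPullback G.hom X.hom) hGP
  have hiso : IsIso (lift a.act (snd G X)) := ha
  let e : G ⊗ X ≅ X ⊗ X := asIso (lift a.act (snd G X))
  have he : e.inv ≫ snd G X = snd X X := by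
    rw [Iso.inv_comp_eq]
    exact (lift_snd _ _).symm
  have he' : ((Over.forget B).mapIso e.symm).hom ≫ pullback.snd G.hom X.hom = pullback.snd X.hom X.hom := by
    have := congrArg (fun m => m.left) he
    exact this
  rw [← he']
  exact locP_iso_comp _ _ h1

open Groth.Agent.Lib.helper5.LocPBC in
theorem main (S : Scheme.{u}) (B : AlgSp.Sp S) (hB : AlgSp.IsAlgSpace B)
    (G X : Over B) [GrpObj G] (hG : AlgSp.IsAlgSpace G.left) (hX : AlgSp.IsAlgSpace X.left)
    (a : AlgSp.GAction G X) (ha : a.IsPseudoTorsor)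
    (hGt : AlgSp.LocP @LocallyOfFiniteType G.hom) (hXt : AlgSp.LocP @LocallyOfFiniteType X.hom) :
    (AlgSp.LocP (@LocallyOfFiniteType ⊓ @FormallyUnramified) G.hom →
        AlgSp.LocP (@LocallyOfFiniteType ⊓ @FormallyUnramified) X.hom) ∧
      (AlgSp.LocP (@LocallyQuasiFinite ⊓ @LocallyOfFiniteType) G.hom →
        AlgSp.LocP (@LocallyQuasiFinite ⊓ @LocallyOfFiniteType) X.hom) := by
  have hQ : IsAlgSpace (pullback X.hom X.hom) :=
    Groth.Agent.Lib.helper5.isAlgSpace_of_isPullback hB.diag hX hX (IsPullback.of_hasPullback _ _)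
  constructor
  · intro hGu
    have h1 := locP_snd_of_pseudoTorsor locPData_unramified hB G X hG hX a ha hGu
    have h2 : RepWith @IsOpenImmersion (pullback.diagonal (pullback.snd X.hom X.hom)) :=
      Groth.Agent.Lib.helper5.DiagUnram.repWith_oi_diagonal_of_unramified hQ hX _ h1
    have h3 : RepWith @IsOpenImmersion (pullback.diagonal X.hom) :=
      (repWith_isStableUnderBaseChange (S := S) @IsOpenImmersion).of_isPullback
        (Groth.Agent.S10122.isPullback_section (pullback.snd X.hom X.hom) (pullback.diagonal X.hom)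
          (pullback.diagonal_snd _)) h2
    exact (Groth.Agent.S10262.result (X := ⟨X.left, hX⟩) (Y := ⟨B, hB⟩)
      (ObjectProperty.homMk X.hom)).2 hXt h3
  · intro hGq
    have h1 := locP_snd_of_pseudoTorsor locPData_lqf hB G X hG hX a ha hGq
    intro U V a' b' h ha' hb' hsq
    have hlft : LocallyOfFiniteType h.left := hXt a' b' h ha' hb' hsq
    refine ⟨?_, hlft⟩
    have h2 := chart_snd hB X.hom h1 a' b' h ha' hb' hsq.symm
    have sq := (IsPullback.of_hasPullback h h).map (Over.forget S)
    exact lqf_of_snd h.left sq h2.1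

/-- Let `X` be a pseudo-torsor under a group algebraic space `G` over an algebraic space `B`, where both
`G` and `X` are locally of finite type over `B`. Whenever `G ⟶ B` is unramified, `X ⟶ B` is
unramified too; likewise, local quasi-finiteness passes from `G ⟶ B` to `X ⟶ B`. -/
theorem result (S : Scheme.{u}) (B : AlgSp.Sp S) (hB : AlgSp.IsAlgSpace B)
    (G X : Over B) [GrpObj G] (hG : AlgSp.IsAlgSpace G.left) (hX : AlgSp.IsAlgSpace X.left)
    (a : AlgSp.GAction G X) (ha : a.IsPseudoTorsor)
    (hGt : AlgSp.LocP @LocallyOfFiniteType G.hom) (hXt : AlgSp.LocP @LocallyOfFiniteType X.hom) :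
    (AlgSp.LocP (@LocallyOfFiniteType ⊓ @FormallyUnramified) G.hom →
        AlgSp.LocP (@LocallyOfFiniteType ⊓ @FormallyUnramified) X.hom) ∧
      (AlgSp.LocP (@LocallyQuasiFinite ⊓ @LocallyOfFiniteType) G.hom →
        AlgSp.LocP (@LocallyQuasiFinite ⊓ @LocallyOfFiniteType) X.hom) := by
  exact main S B hB G X hG hX a ha hGt hXt

end Groth.Agent.S10118
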