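import Groth.Statements.S9563
import Mathlib

set_option autoImplicit false
universe u
open EtLocal

namespace Groth.Agent.S9563

open TensorProduct IsLocalRing Algebra

/-- A local ring which is a localization is the localization at the preimage of the maximal
ideal. -/
theorem atPrime_of_isLocalization {R S : Type*} [CommRing R] [CommRing S] [Algebra R S]
    [IsLocalRing S] (M : Submonoid R) [IsLocalization M S] :
    IsLocalization.AtPrime S ((maximalIdeal S).comap (algebraMap R S)) := by
  refine IsLocalization.of_le M _ ?_ ?_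
  · intro m hm
    have hu : IsUnit (algebraMap R S m) := IsLocalization.map_units S ⟨m, hm⟩
    show m ∉ (maximalIdeal S).comap (algebraMap R S)
    rw [Ideal.mem_comap]
    intro h
    exact (IsLocalRing.mem_maximalIdeal _).mp h hu
  · intro r hr
    have : r ∉ (maximalIdeal S).comap (algebraMap R S) := hr
    rw [Ideal.mem_comap, IsLocalRing.mem_maximalIdeal, mem_nonunits_iff, not_not] at this
    exact this

/-- A local localization `B` of `C` in which `f` becomes a unit is the localization of `C_f`
at a prime. -/
theorem exists_equiv_away {A C B : Type u} [CommRing A] [CommRing C] [CommRing B]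
    [Algebra A C] [Algebra C B] [Algebra A B] [IsScalarTower A C B] [IsLocalRing B]
    (M : Submonoid C) [IsLocalization M B] (f : C) (hf : IsUnit (algebraMap C B f)) :
    ∃ (𝔮' : Ideal (Localization.Away f)) (_ : 𝔮'.IsPrime),
      Nonempty (B ≃ₐ[A] Localization.AtPrime 𝔮') := by
  let Cf := Localization.Away f
  let q : Ideal C := (maximalIdeal B).comap (algebraMap C B)
  have hq : IsLocalization.AtPrime B q := atPrime_of_isLocalization M
  let g : Cf →ₐ[C] B := IsLocalization.liftAlgHom (M := Submonoid.powers f)
    (f := Algebra.ofId C B) (by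
      rintro ⟨_, n, rfl⟩
      simpa using hf.pow n)
  algebraize [g.toRingHom]
  have : IsScalarTower A Cf B := .to₁₃₄ _ C _ _
  have hfq : f ∈ q.primeCompl := by
    show f ∉ (maximalIdeal B).comap (algebraMap C B)
    rw [Ideal.mem_comap]
    intro h
    exact (IsLocalRing.mem_maximalIdeal _).mp h hf
  have : IsLocalization (algebraMapSubmonoid Cf q.primeCompl) B :=
    .isLocalization_of_submonoid_le _ _ (Submonoid.powers f) _ (by
      rintro _ ⟨n, rfl⟩; exact q.primeCompl.pow_mem hfq n)
  let 𝔮' : Ideal Cf := (maximalIdeal B).comap (algebraMap Cf B)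
  have : IsLocalization.AtPrime B 𝔮' :=
    atPrime_of_isLocalization (algebraMapSubmonoid Cf q.primeCompl)
  let e₂ : B ≃ₐ[Cf] Localization.AtPrime 𝔮' := IsLocalization.algEquiv 𝔮'.primeCompl _ _
  exact ⟨𝔮', inferInstance, ⟨e₂.restrictScalars A⟩⟩

theorem localAlgHom_surjective {A R' S' : Type*} [CommRing A] [CommRing R'] [CommRing S']
    [Algebra A R'] [Algebra A S'] (φ : R' →ₐ[A] S') (hφ : Function.Surjective φ)
    (𝔮' : Ideal S') [𝔮'.IsPrime] :
    Function.Surjective (Localization.localAlgHom (𝔮'.comap φ) 𝔮' φ rfl) := by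
  intro y
  obtain ⟨c, ⟨s, hs⟩, rfl⟩ := IsLocalization.exists_mk'_eq 𝔮'.primeCompl y
  obtain ⟨x, rfl⟩ := hφ c
  obtain ⟨t, rfl⟩ := hφ s
  refine ⟨IsLocalization.mk' _ x (⟨t, hs⟩ : (𝔮'.comap φ).primeCompl), ?_⟩
  rw [Localization.localAlgHom_apply, Localization.localRingHom_mk']
  rfl

/-- The hypotheses of S9563/S9564 imply `B` is formally unramified over `A`. -/
theorem formallyUnramified_of (A B : Type u) [CommRing A] [CommRing B]
    [IsLocalRing A] [IsLocalRing B] [Algebra A B]
    [IsLocalHom (algebraMap A B)] [Algebra.EssFiniteType A B]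
    (hm : (IsLocalRing.maximalIdeal A).map (algebraMap A B) = IsLocalRing.maximalIdeal B)
    [Algebra.IsSeparable (IsLocalRing.ResidueField A) (IsLocalRing.ResidueField B)] :
    Algebra.FormallyUnramified A B :=
  FormallyUnramified.iff_map_maximalIdeal_eq.mpr ⟨inferInstance, hm⟩

/-- Let A → B be an étale homomorphism of Noetherian local rings, i.e. a local homomorphism with B
essentially of finite type and flat over A, m_A B = m_B, and residue field of B finite separable
over that of A. Then there are a standard étale A-algebra B' = A[t]_g/(f) (f monic and f' invertible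
in B') and a prime 𝔮 of B' such that B is isomorphic as an A-algebra to the localization of B' at 𝔮
(existence of an isomorphism). -/
theorem result (A B : Type u) [CommRing A] [CommRing B]
    [IsLocalRing A] [IsLocalRing B] [IsNoetherianRing A] [IsNoetherianRing B] [Algebra A B]
    [IsLocalHom (algebraMap A B)] [Algebra.EssFiniteType A B] [Module.Flat A B]
    (hm : (IsLocalRing.maximalIdeal A).map (algebraMap A B) = IsLocalRing.maximalIdeal B)
    [Module.Finite (IsLocalRing.ResidueField A) (IsLocalRing.ResidueField B)]
    [Algebra.IsSeparable (IsLocalRing.ResidueField A) (IsLocalRing.ResidueField B)] :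
    ∃ (P : StandardEtalePair A) (𝔮 : Ideal P.Ring) (_ : 𝔮.IsPrime),
      Nonempty (B ≃ₐ[A] Localization.AtPrime 𝔮) := by
  let C := EssFiniteType.subalgebra A B
  let M := EssFiniteType.submonoid A B
  have : IsLocalization M B := EssFiniteType.isLocalization A B
  have : FinitePresentation A C := Algebra.FinitePresentation.of_finiteType.mp inferInstance
  have hU : FormallyUnramified A B := formallyUnramified_of A B hm
  have : FormallyEtale (ResidueField A) ((ResidueField A) ⊗[A] B) :=
    .of_formallyUnramified_of_field _ _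
  have hS : FormallySmooth A B :=
    FormallySmooth.of_formallySmooth_residueField_tensor (R := A) (S := B) (P := C) M
  have hE : FormallyEtale A B :=
    FormallyEtale.iff_formallyUnramified_and_formallySmooth.mpr ⟨hU, hS⟩
  let q : Ideal C := (maximalIdeal B).comap (algebraMap C B)
  have hq : IsLocalization.AtPrime B q := atPrime_of_isLocalization M
  let e₁ : B ≃ₐ[C] Localization.AtPrime q := IsLocalization.algEquiv q.primeCompl _ _
  have : IsEtaleAt A q := FormallyEtale.of_equiv (e₁.restrictScalars A)
  obtain ⟨f, hf, ⟨⟨PP⟩⟩⟩ := IsEtaleAt.exists_isStandardEtale (R := A) q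
  have hfu : IsUnit (algebraMap C B f) := IsLocalization.map_units (M := q.primeCompl) B ⟨f, hf⟩
  obtain ⟨𝔮', h𝔮', ⟨e₂⟩⟩ := exists_equiv_away (A := A) M f hfu
  let e : PP.P.Ring ≃ₐ[A] Localization.Away f := PP.equivRing.symm
  let 𝔮 : Ideal PP.P.Ring := 𝔮'.comap e
  have : 𝔮.IsPrime := Ideal.comap_isPrime _ _
  exact ⟨PP.P, 𝔮, inferInstance, ⟨e₂.trans (Localization.localAlgEquiv 𝔮 𝔮' e rfl).symm⟩⟩

end Groth.Agent.S9563
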