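import Groth.Statements.S0100
import Mathlib.CategoryTheory.Sites.Point.Comap
import Mathlib.CategoryTheory.Sites.Point.Category
-- import your own Groth.Agent.* helpers here

set_option autoImplicit false
open CategoryTheory CategoryTheory.Limits AlgebraicGeometry Opposite
universe u
open EtBase

namespace Groth.Agent.S0100

/-- Isomorphic fibre functors give isomorphic sheaf fibre functors. -/
theorem sheafFiber_iso_of_fiber_iso {C : Type*} [Category C] {J : GrothendieckTopology C}
    (Φ₁ Φ₂ : GrothendieckTopology.Point.{u} J) (e : Φ₁.fiber ≅ Φ₂.fiber)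
    (A : Type*) [Category A] [HasColimitsOfSize.{u, u} A] :
    Nonempty (Φ₁.sheafFiber (A := A) ≅ Φ₂.sheafFiber) := by
  let a : Φ₁ ⟶ Φ₂ := ⟨e.inv⟩
  let b : Φ₂ ⟶ Φ₁ := ⟨e.hom⟩
  have hab : a ≫ b = 𝟙 _ := by ext : 1; simp [a, b]
  have hba : b ≫ a = 𝟙 _ := by ext : 1; simp [a, b]
  refine ⟨⟨GrothendieckTopology.Point.Hom.sheafFiber b, GrothendieckTopology.Point.Hom.sheafFiber a, ?_, ?_⟩⟩
  · rw [← GrothendieckTopology.Point.Hom.sheafFiber_comp, hab,
      GrothendieckTopology.Point.Hom.sheafFiber_id]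
  · rw [← GrothendieckTopology.Point.Hom.sheafFiber_comp, hba,
      GrothendieckTopology.Point.Hom.sheafFiber_id]

/-- The fibre functor of the geometric point `ξ ≫ f` of `Y` is the base change functor followed by
the fibre functor of `ξ`. -/
noncomputable def fiberIso {X Y : Scheme.{u}} (f : X ⟶ Y)
    {Ω : Type u} [Field Ω] [IsSepClosed Ω] (ξ : Spec (CommRingCat.of Ω) ⟶ X) :
    EtCoh.bc f ⋙ (Scheme.pointSmallEtale ξ).fiber ≅ (Scheme.pointSmallEtale (ξ ≫ f)).fiber :=
  (Functor.associator _ _ _).symm ≪≫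
    Functor.isoWhiskerRight
      (MorphismProperty.Over.pullbackCompForgetIso (P := EtCoh.etaleMP) (Q := ⊤) f) _ ≪≫
    Functor.associator _ _ _ ≪≫
    Functor.isoWhiskerLeft (Scheme.Etale.forget Y)
      ((Over.mapPullbackAdj f).corepresentableBy (Over.mk ξ)).toIso.symm

/-- Let f : X ⟶ Y be a morphism of schemes, G an abelian sheaf on the small étale site of Y and ξ : Spec
Ω ⟶ X a geometric point of X (Ω a separably closed field). Then the stalk of the inverse image f⁻¹G
at ξ is isomorphic to the stalk of G at the image geometric point ξ ≫ f of Y. Only the existence of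
an isomorphism is asserted; the published identification is canonical. -/
theorem result {X Y : Scheme.{u}} (f : X ⟶ Y) [EtCoh.BCCont f] (G : EtCoh.Ab Y)
    {Ω : Type u} [Field Ω] [IsSepClosed Ω] (ξ : Spec (CommRingCat.of Ω) ⟶ X) :
    Nonempty ((EtCoh.stalk ξ).obj ((EtCoh.pull f).obj G) ≅ (EtCoh.stalk (ξ ≫ f)).obj G) := by
  let Φ := Scheme.pointSmallEtale ξ
  let Ψ := Scheme.pointSmallEtale (ξ ≫ f)
  let e := fiberIso f ξ
  have : InitiallySmall.{u} (EtCoh.bc f ⋙ Φ.fiber).Elements := by
    have : InitiallySmall.{u} Ψ.fiber.Elements := Ψ.initiallySmall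
    let E := Cat.equivOfIso (Functor.elementsFunctor.mapIso e.symm)
    let F : Ψ.fiber.Elements ⥤ (EtCoh.bc f ⋙ Φ.fiber).Elements := E.functor
    have : F.IsEquivalence := E.isEquivalence_functor
    exact initiallySmall_of_initial_of_initiallySmall F
  have : HasColimitsOfSize.{u, u} AddCommGrpCat.{u + 1} :=
    hasColimitsOfSizeShrink.{u, u, u + 1, u + 1} _
  have : HasProducts.{u} AddCommGrpCat.{u + 1} := fun J =>
    hasLimitsOfShape_of_equivalence (Discrete.equivalence (Equiv.ulift.{u + 1, u} (α := J)))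
  let Φ' := Φ.comap (EtCoh.bc f) (EtCoh.coverPreserving_bc f)
  have i1 := GrothendieckTopology.Point.sheafFiberComapIso Φ (EtCoh.bc f)
    (EtCoh.coverPreserving_bc f) AddCommGrpCat.{u + 1}
  obtain ⟨i2⟩ := sheafFiber_iso_of_fiber_iso Φ' Ψ e AddCommGrpCat.{u + 1}
  exact ⟨(i1.app G).symm ≪≫ i2.app G⟩

end Groth.Agent.S0100
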