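import Groth.Statements.S0651
import Mathlib.CategoryTheory.Adjunction.Triple
import Mathlib.CategoryTheory.Monad.Adjunction

set_option autoImplicit false
open CategoryTheory CategoryTheory.Limits AlgebraicGeometry Opposite
universe u
open EtCore

namespace Groth.Agent.S0651

theorem isIso_lift {U X : Scheme.{u}} (j : U ⟶ X) [Mono j] {V : Scheme.{u}} (a : V ⟶ U) :
    IsIso (pullback.lift (𝟙 V) a (by simp) : V ⟶ pullback (a ≫ j) j) := by
  refine ⟨pullback.fst _ _, pullback.lift_fst _ _ _, ?_⟩
  apply pullback.hom_ext
  · rw [Category.assoc, pullback.lift_fst, Category.comp_id, Category.id_comp]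
  · rw [Category.assoc, pullback.lift_snd, Category.id_comp, ← cancel_mono j, Category.assoc]
    exact pullback.condition

/-- the adjunction `compEtale j ⊣ bc j` of small etale sites -/
noncomputable def adj0 {U X : Scheme.{u}} (j : U ⟶ X) [hj : AlgebraicGeometry.Etale j] :
    EtShriek.compEtale j ⊣ EtCoh.bc j :=
  MorphismProperty.Over.mapPullbackAdj (@AlgebraicGeometry.Etale) ⊤ j hj trivial

theorem isIso_adj0_unit {U X : Scheme.{u}} (j : U ⟶ X) [AlgebraicGeometry.Etale j] [Mono j]
    (A : U.Etale) : IsIso ((adj0 j).unit.app A) := by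
  have h1 : IsIso ((Scheme.Etale.forget U ⋙ CategoryTheory.Over.forget U).map
      ((adj0 j).unit.app A)) := by
    change IsIso (pullback.lift (𝟙 A.left) A.hom (by simp) :
      A.left ⟶ pullback (A.hom ≫ j) j)
    exact isIso_lift j A.hom
  exact isIso_of_reflects_iso _ (Scheme.Etale.forget U ⋙ CategoryTheory.Over.forget U)

/-- the adjunction `j^{-1} ⊣ j_*` with `j^{-1}` restriction -/
noncomputable def adj3 {U X : Scheme.{u}} (j : U ⟶ X) [AlgebraicGeometry.Etale j]
    [EtShriek.JCont j] : EtShriek.restrAlong j ⊣ EtCoh.push j :=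
  (adj0 j).sheafPushforwardContinuous (E := AddCommGrpCat.{u + 1}) U.smallEtaleTopology
    X.smallEtaleTopology

theorem isIso_adj3_counit {U X : Scheme.{u}} (j : U ⟶ X) [AlgebraicGeometry.Etale j] [Mono j]
    [EtShriek.JCont j] : IsIso (adj3 j).counit := by
  have h : ∀ P, IsIso ((adj3 j).counit.app P) := by
    intro P
    have h2 : IsIso ((sheafToPresheaf _ _).map ((adj3 j).counit.app P)) := by
      have h3 : ∀ V, IsIso (((sheafToPresheaf _ _).map ((adj3 j).counit.app P)).app V) := by
        intro V
        change IsIso ((((adj0 j).op.whiskerLeft _).counit.app P.obj).app V)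
        rw [Adjunction.whiskerLeft_counit_app_app]
        have : IsIso ((adj0 j).op.counit.app V) := by
          change IsIso ((adj0 j).unit.app V.unop).op
          have := isIso_adj0_unit j V.unop
          infer_instance
        infer_instance
      exact NatIso.isIso_of_isIso_app _
    exact isIso_of_reflects_iso _ (sheafToPresheaf _ _)
  exact NatIso.isIso_of_isIso_app _

theorem main {U X : Scheme.{u}} (j : U ⟶ X) [IsOpenImmersion j]
    [AlgebraicGeometry.Etale j] [EtShriek.JCont j] (F : EtCoh.Ab U) :
    IsIso ((EtCoh.pullPushAdj j).counit.app F) ∧ IsIso ((EtShriek.extZeroAdj j).unit.app F) := by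
  have hcounit := isIso_adj3_counit j
  constructor
  · let e : EtCoh.push j ⋙ EtCoh.pull j ≅ 𝟭 _ :=
      Functor.isoWhiskerLeft (EtCoh.push j) ((adj3 j).leftAdjointUniq (EtCoh.pullPushAdj j)).symm ≪≫
        asIso (adj3 j).counit
    have : IsIso (EtCoh.pullPushAdj j).counit := (EtCoh.pullPushAdj j).isIso_counit_of_iso e
    infer_instance
  · have : IsIso (EtShriek.extZeroAdj j).unit :=
      (Adjunction.Triple.mk (EtShriek.extZeroAdj j) (adj3 j)).isIso_unit_iff_isIso_counit.mpr hcounit
    infer_instance

/-- For an open immersion j : U -> X and an abelian sheaf F on the small etale site of U, the counit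
j^{-1} j_* F -> F of the pullback/direct image adjunction and the unit F -> j^{-1} j_! F of the
extension-by-zero/restriction adjunction are isomorphisms. (Continuity of the composition functor of
etale sites, which always holds, is carried as an instance hypothesis.) -/
theorem result {U X : Scheme.{u}} (j : U ⟶ X) [IsOpenImmersion j]
    [AlgebraicGeometry.Etale j] [EtShriek.JCont j] (F : EtCoh.Ab U) :
    IsIso ((EtCoh.pullPushAdj j).counit.app F) ∧ IsIso ((EtShriek.extZeroAdj j).unit.app F) := by
  exact main j F

end Groth.Agent.S0651
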