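import Groth.Statements.S0079
-- import your own Groth.Agent.* helpers here

set_option autoImplicit false
open CategoryTheory CategoryTheory.Limits AlgebraicGeometry Opposite
universe u
open EtBase

namespace Groth.Agent.S0079

/-- Quasi-compactness of a morphism descends along a quasi-compact flat surjective base change: if the
base change of a morphism g along a quasi-compact, flat, surjective morphism to its target is
quasi-compact, then g is quasi-compact. (Stated for a single quasi-compact faithfully flat cover;
combined with Zariski-locality on the target this gives the fpqc-local form.) -/
theorem result :
    MorphismProperty.DescendsAlong @QuasiCompact (@Surjective ⊓ @Flat ⊓ @QuasiCompact : MorphismProperty Scheme.{u}) := by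
  apply IsZariskiLocalAtTarget.descendsAlong
  intro R X Y f g hf h
  have hfqc : QuasiCompact f := hf.2
  have hfs : Surjective f := hf.1.1
  have : CompactSpace X := by
    rwa [← quasiCompact_iff_compactSpace f]
  have : CompactSpace ↑(pullback f g) := by
    have : QuasiCompact (pullback.fst f g) := h
    exact QuasiCompact.compactSpace_of_compactSpace (pullback.fst f g)
  rw [quasiCompact_iff_compactSpace]
  have hs : Surjective (pullback.snd f g) := inferInstance
  have := hs.surj
  exact Function.Surjective.compactSpace (f := (pullback.snd f g)) (pullback.snd f g).continuous hs.surj
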