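import Groth.Statements.S0082
import Groth.Agent.S0079
import Groth.Agent.S0080

set_option autoImplicit false
open CategoryTheory CategoryTheory.Limits AlgebraicGeometry Opposite
universe u
open EtBase

namespace Groth.Agent.S0082

/-- Key step: if `Y ⟶ Spec R` becomes affine after a faithfully flat affine base change, then `Y` is affine. -/
theorem isAffine_of_isAffine_pullback {R S : CommRingCat.{u}} {Y : Scheme.{u}} (φ : R ⟶ S)
    (g : Y ⟶ Spec R) (hφ : (@Surjective ⊓ @Flat : MorphismProperty Scheme.{u}) (Spec.map φ))
    (hfst : IsAffineHom (pullback.fst (Spec.map φ) g)) : IsAffine Y := by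
  obtain ⟨hsurj, hflat⟩ := hφ
  have hsurj' : Surjective (Spec.map φ) := hsurj
  have hflat' : Flat (Spec.map φ) := hflat
  have hQ : (@Surjective ⊓ @Flat ⊓ @QuasiCompact : MorphismProperty Scheme.{u}) (Spec.map φ) :=
    ⟨⟨hsurj, hflat⟩, inferInstance⟩
  -- P is affine
  have hP : IsAffine (pullback (Spec.map φ) g) := isAffine_of_isAffineHom (pullback.fst (Spec.map φ) g)
  -- g is quasi-compact and quasi-separated
  have hqc : QuasiCompact g := by
    have := Groth.Agent.S0079.result.{u}
    exact MorphismProperty.of_pullback_fst_of_descendsAlong (P := @QuasiCompact)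
      (Q := (@Surjective ⊓ @Flat ⊓ @QuasiCompact : MorphismProperty Scheme.{u})) hQ inferInstance
  have hqs : QuasiSeparated g := by
    have := Groth.Agent.S0080.result.{u}
    exact MorphismProperty.of_pullback_fst_of_descendsAlong (P := @QuasiSeparated)
      (Q := (@Surjective ⊓ @Flat ⊓ @QuasiCompact : MorphismProperty Scheme.{u})) hQ inferInstance
  have hYc : CompactSpace Y := QuasiCompact.compactSpace_of_compactSpace g
  have hYqs : QuasiSeparatedSpace Y := quasiSeparatedSpace_of_quasiSeparated g
  -- the pullback square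
  set f := Spec.map φ with hf
  have H : IsPullback (pullback.snd f g) (pullback.fst f g) g f :=
    (IsPullback.of_hasPullback f g).flip
  -- flat base change for global sections
  have hiso : IsIso (pushoutSection H (US := ⊤) (UT := ⊤) (UX := ⊤) (UY := ⊤) (by simp) (by simp)
      (by simp)) :=
    isIso_pushoutSection_of_isQuasiSeparated_of_flat_right H _ _ _ (isAffineOpen_top _)
      (isAffineOpen_top _) isCompact_univ isQuasiSeparated_univ
  have hpo := (isIso_pushoutSection_iff H (US := ⊤) (UT := ⊤) (UX := ⊤) (UY := ⊤) (by simp) (by simp)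
      (by simp)).mp hiso
  -- apply Spec to get a pullback square of affine schemes
  have happ : ∀ {X Y : Scheme.{u}} (h : X ⟶ Y) (e : (⊤ : X.Opens) ≤ h ⁻¹ᵁ ⊤),
      h.appLE ⊤ ⊤ e = h.appTop := by
    intro X Y h e
    simp [Scheme.Hom.appLE, Scheme.Hom.appTop]
  have hpb : IsPullback (Spec.map (pullback.fst f g).appTop)
      (Spec.map (pullback.snd f g).appTop)
      (Spec.map f.appTop) (Spec.map g.appTop) := by
    have := hpo.op.map Scheme.Spec
    simp only [happ] at this
    exact this
  -- outer rectangle
  have hSiso : IsIso (Spec S).toSpecΓ := inferInstance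
  have hRiso : IsIso (Spec R).toSpecΓ := inferInstance
  have houter : IsPullback ((pullback f g).toSpecΓ ≫ Spec.map (pullback.fst f g).appTop)
      (pullback.snd f g) (Spec.map f.appTop) (Y.toSpecΓ ≫ Spec.map g.appTop) := by
    rw [← Scheme.toSpecΓ_naturality, ← Scheme.toSpecΓ_naturality]
    refine IsPullback.of_iso H.flip (Iso.refl _) (asIso (Spec S).toSpecΓ) (Iso.refl _)
      (asIso (Spec R).toSpecΓ) (by simp) (by simp) ?_ (by simp)
    simp [Scheme.toSpecΓ_naturality]
  have hleft : IsPullback (pullback f g).toSpecΓ (pullback.snd f g)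
      (Spec.map (pullback.snd f g).appTop) Y.toSpecΓ :=
    IsPullback.of_right houter (Scheme.toSpecΓ_naturality _).symm hpb
  -- `Spec.map snd.appTop` is fpqc
  have hQ' : (@Surjective ⊓ @Flat ⊓ @QuasiCompact : MorphismProperty Scheme.{u})
      (Spec.map (pullback.snd f g).appTop) := by
    refine MorphismProperty.of_isPullback hpb ?_
    have : Spec.map f.appTop = inv (Spec S).toSpecΓ ≫ f ≫ (Spec R).toSpecΓ := by
      rw [IsIso.eq_inv_comp, Scheme.toSpecΓ_naturality]
    rw [this]
    exact ((@Surjective ⊓ @Flat ⊓ @QuasiCompact : MorphismProperty Scheme.{u}).cancel_left_of_respectsIso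
      _ _).mpr (((@Surjective ⊓ @Flat ⊓ @QuasiCompact :
        MorphismProperty Scheme.{u}).cancel_right_of_respectsIso _ _).mpr hQ)
  have hisoY : IsIso Y.toSpecΓ :=
    MorphismProperty.of_isPullback_of_descendsAlong (P := MorphismProperty.isomorphisms Scheme.{u})
      (Q := (@Surjective ⊓ @Flat ⊓ @QuasiCompact : MorphismProperty Scheme.{u})) hleft hQ'
      (inferInstanceAs (IsIso (pullback f g).toSpecΓ))
  exact ⟨hisoY⟩

/-- If the base change of a morphism of schemes along a quasi-compact, flat, surjective morphism is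
affine, then the morphism itself is affine. (Stated for a single quasi-compact flat surjective base
change; together with Zariski-locality on the target this is fpqc descent for affineness.) -/
theorem result :
    MorphismProperty.DescendsAlong @IsAffineHom (@Surjective ⊓ @Flat ⊓ @QuasiCompact : MorphismProperty Scheme.{u}) := by
  refine IsZariskiLocalAtTarget.descendsAlong_inf_quasiCompact _ _ ?_ ?_
  · rw [inf_comm]
    exact inf_le_inf le_rfl (IsLocalIso.le_of_isZariskiLocalAtSource _)
  · intro R S Y φ g hφ hfst
    have : IsAffine Y := isAffine_of_isAffine_pullback φ g hφ hfst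
    infer_instance

open MorphismProperty in
/-- Variant of `HasAffineProperty.descendsAlong_of_affineAnd` for fpqc morphisms, using the
descent of affineness proven above. -/
theorem descendsAlong_of_affineAnd_fpqc {P : MorphismProperty Scheme.{u}}
    {Q : ∀ {R S : Type u} [CommRing R] [CommRing S], (R →+* S) → Prop}
    [P.IsStableUnderBaseChange]
    (hP : HasAffineProperty P (affineAnd Q))
    (hQ : RingHom.RespectsIso Q) (hQQ' : RingHom.CodescendsAlong Q RingHom.FaithfullyFlat) :
    P.DescendsAlong (@Surjective ⊓ @Flat ⊓ @QuasiCompact : MorphismProperty Scheme.{u}) := by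
  refine IsZariskiLocalAtTarget.descendsAlong_inf_quasiCompact _ _ ?_ ?_
  · rw [inf_comm]
    exact inf_le_inf le_rfl (IsLocalIso.le_of_isZariskiLocalAtSource _)
  introv h hf
  have : IsAffine Y := isAffine_of_isAffine_pullback φ g h
    (AlgebraicGeometry.HasAffineProperty.affineAnd_le_isAffineHom P inferInstance _ hf)
  wlog hY : ∃ S, Y = Spec S generalizing Y
  · rw [← P.cancel_left_of_respectsIso Y.isoSpec.inv]
    have heq : pullback.fst (Spec.map φ) (Y.isoSpec.inv ≫ g) =
        pullback.map _ _ _ _ (𝟙 _) (Y.isoSpec.inv) (𝟙 _) (by simp) (by simp) ≫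
          pullback.fst (Spec.map φ) g := (pullback.lift_fst _ _ _).symm
    refine this _ ?_ inferInstance ⟨_, rfl⟩
    rwa [heq, P.cancel_left_of_respectsIso]
  obtain ⟨Y, rfl⟩ := hY
  refine of_pullback_fst_Spec_of_codescendsAlong (P := P) (Q := Q)
    (P' := (@Surjective ⊓ @Flat : MorphismProperty Scheme.{u})) (Q' := RingHom.FaithfullyFlat)
    hQQ' ?_ ?_ h hf
  · intro _ _ f hf
    rwa [← flat_and_surjective_SpecMap_iff, and_comm]
  · simp [HasAffineProperty.SpecMap_iff_of_affineAnd hP hQ]

end Groth.Agent.S0082
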