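import Groth.Statements.S10318
import Mathlib
import Groth.Agent.Lib.Helper11.AlgSpBasic

set_option autoImplicit false
universe u
open CategoryTheory CategoryTheory.Limits AlgebraicGeometry
open AlgSp

namespace Groth.Agent.S10318

theorem locallyQuasiFinite_of_etale {X Y : Scheme.{u}} (f : X ⟶ Y) [Etale f] :
    LocallyQuasiFinite f := by
  rw [HasRingHomProperty.iff_appLE (P := @LocallyQuasiFinite)]
  intro U V e
  have h : (f.appLE U.1 V.1 e).hom.Etale :=
    HasRingHomProperty.appLE (P := @Etale) f inferInstance U V e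
  algebraize [(f.appLE U.1 V.1 e).hom]
  change Algebra.QuasiFinite _ _
  have : Algebra.Etale Γ(Y, U.1) Γ(X, V.1) := h
  infer_instance

theorem isClosed_singleton_of_etale {W U : Scheme.{u}} (φ : W ⟶ U) [Etale φ] (w : W)
    (hu : IsClosed ({φ w} : Set U)) : IsClosed ({w} : Set W) := by
  have := locallyQuasiFinite_of_etale φ
  have hd : _root_.IsDiscrete (φ ⁻¹' {φ w}) := φ.isDiscrete_preimage_singleton (φ w)
  have hcl : IsClosed (φ ⁻¹' {φ w}) := hu.preimage φ.continuous
  have hw : w ∈ φ ⁻¹' {φ w} := rfl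
  have h1 : IsClosed ({⟨w, hw⟩} : Set (φ ⁻¹' {φ w})) := by
    have : DiscreteTopology (φ ⁻¹' {φ w}) := hd.to_subtype
    exact isClosed_discrete _
  have h2 := hcl.isClosedEmbedding_subtypeVal.isClosedMap _ h1
  simpa using h2

theorem resTrdeg_eq_zero_of_isClosed {W V : Scheme.{u}} (h : W ⟶ V) [JacobsonSpace V]
    [LocallyOfFiniteType h] (w : W) (hw : IsClosed ({w} : Set W)) : Dual3.resTrdeg h w = 0 := by
  have := isClosed_singleton_iff_isClosedImmersion.mp hw
  have hfin : IsFinite (W.fromSpecResidueField w ≫ h) :=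
    (isFinite_iff_locallyOfFiniteType_of_jacobsonSpace
      (f := W.fromSpecResidueField w ≫ h)).mpr inferInstance
  rw [← Scheme.Hom.SpecMap_residueFieldMap_fromSpecResidueField] at hfin
  have h2 : IsFinite (Spec.map (h.residueFieldMap w)) :=
    IsFinite.of_comp _ (V.fromSpecResidueField (h w))
  rw [IsFinite.SpecMap_iff] at h2
  unfold Dual3.resTrdeg
  let _ := (h.residueFieldMap w).hom.toAlgebra
  have h3 : Module.Finite (V.residueField (h w)) (W.residueField w) := h2
  have : Algebra.IsAlgebraic (V.residueField (h w)) (W.residueField w) := inferInstance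
  exact trdeg_eq_zero


/-- Over a Jacobson algebraic space, a finite type point of a space locally of finite type over it has
transcendence degree 0 over its image. -/
theorem result {S : Scheme.{u}} {X Y : AlgSp.Space S} (f : X ⟶ Y)
    (hf : AlgSp.LocP @LocallyOfFiniteType f.hom) (hY : AlgSp.EtaleLocally (fun U => JacobsonSpace ↥U) Y.obj)
    (x : AlgSp.Points X.obj) (hx : AlgSp.HasAt (fun U u => IsClosed ({u} : Set ↥U)) X.obj x) :
    AlgSp.HasAtMor (fun _ _ h u => Dual3.resTrdeg h u = 0) f.hom x := by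
  obtain ⟨U, a, u, hae, hau, hu⟩ := hx
  obtain ⟨V, q, hqe, hqs, hV⟩ := hY
  obtain ⟨W, snd, fst, hpb⟩ := hqe.rep (a ≫ f.hom)
  obtain ⟨h, rfl⟩ := (yon S).map_surjective fst
  have he : RepWith @Etale ((yon S).map snd) :=
    (repWith_isStableUnderBaseChange (S := S) @Etale).of_isPullback hpb hqe
  have hs : RepWith @Surjective ((yon S).map snd) :=
    (repWith_isStableUnderBaseChange (S := S) @Surjective).of_isPullback hpb hqs
  have hae' : RepWith @Etale ((yon S).map snd ≫ a) :=
    (repWith_isMultiplicative (S := S) @Etale).comp_mem _ _ he hae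
  have het : Etale snd.left := (repWith_yon_map_iff @Etale snd).1 he
  have hsur : Surjective snd.left := (repWith_yon_map_iff @Surjective snd).1 hs
  obtain ⟨w, hw⟩ := hsur.surj u
  have hcomm : ((yon S).map snd ≫ a) ≫ f.hom = (yon S).map h ≫ q := by
    rw [Category.assoc]; exact hpb.w.symm
  have hlft : LocallyOfFiniteType h.left :=
    hf ((yon S).map snd ≫ a) q h hae' hqe hcomm
  have : JacobsonSpace ↥V.left := hV
  refine ⟨W, V, (yon S).map snd ≫ a, q, h, w, hae', hqe, hcomm, ?_, ?_⟩
  · rw [Groth.Agent.Lib.helper11.ofPt_yon_map_comp, hw, hau]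
  · refine resTrdeg_eq_zero_of_isClosed h.left w ?_
    exact isClosed_singleton_of_etale snd.left w (by rw [hw]; exact hu)

end Groth.Agent.S10318
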