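import Groth.Statements.S10338
import Groth.Agent.S10343
import Groth.Agent.S10341

set_option autoImplicit false
universe u
open CategoryTheory CategoryTheory.Limits AlgebraicGeometry Topology TopologicalSpace
open AlgSp

namespace Groth.Agent.S10338

open Groth.Agent.Lib.helper11

variable {S : Scheme.{u}}

theorem main (X : AlgSp.Space S) (hX : AlgSp.IsDecent X.obj) :
    T0Space (AlgSp.Points X.obj) := by
  refine ⟨fun x x' hxx' => ?_⟩
  have h1 : x ⤳ x' := hxx'.specializes
  have h2 : x' ⤳ x := hxx'.specializes'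
  obtain ⟨p, hp, -, hpq⟩ := hX x
  obtain ⟨p', hp', -, hpq'⟩ := hX x'
  obtain ⟨U, a, hae, has⟩ := X.property.atlas
  obtain ⟨u, hu⟩ := surjective_ofPt a has x
  obtain ⟨u', hu's, hu'x⟩ := Groth.Agent.S10343.main X x x' h2 ⟨p', hp', hpq'⟩ a hae u hu
  obtain ⟨u'', hu''s, hu''x⟩ := Groth.Agent.S10343.main X x' x h1 ⟨p, hp, hpq⟩ a hae u' hu'x
  have hfin : ∀ (V : Over S) (b : (AlgSp.yon S).obj V ⟶ X.obj), IsAffine V.left →
      AlgSp.RepWith @Etale b → (AlgSp.Points.ofPt b ⁻¹' {x}).Finite := by
    intro V b hV hb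
    have : CompactSpace ↥V.left := inferInstance
    rw [← hp]
    exact Groth.Agent.S10343.finite_fibre_of_qc_point p hpq b hb
  have huu'' : u = u'' := Groth.Agent.S10341.main X x hfin a hae u u'' hu hu''x (hu''s.trans hu's)
  have huu' : u = u' := ((huu'' ▸ hu''s : u ⤳ u').antisymm hu's).eq
  rw [← hu, ← hu'x, huu']

/-- For a decent algebraic space X over a scheme S the topological space |X| is Kolmogorov (T0). -/
theorem result {S : Scheme.{u}} (X : AlgSp.Space S) (hX : AlgSp.IsDecent X.obj) :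
    T0Space (AlgSp.Points X.obj) := by
  exact main X hX

end Groth.Agent.S10338
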