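import Groth.Statements.S10269
import Groth.Agent.Lib.Helper5.AlgSpLocPInst

set_option autoImplicit false
universe u
open CategoryTheory CategoryTheory.Limits AlgebraicGeometry
open AlgSp

namespace Groth.Agent.S10269

open Groth.Agent.Lib.helper5.LocPBC

/-- the projection of a represented pullback of a morphism with `LocP P` has `P` -/
theorem prop_of_isPullback {S : Scheme.{u}} {P : MorphismProperty Scheme.{u}} (hP : LocPData P) {F G : Sp S}
    (hF : IsAlgSpace F) (hG : IsAlgSpace G) (f : F ⟶ G) (h : LocP P f)
    {T T' : Over S} (g : (yon S).obj T ⟶ G) (fst : (yon S).obj T' ⟶ F) (snd : T' ⟶ T)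
    (sq : IsPullback fst ((yon S).map snd) f g) : P snd.left := by
  have w : fst ≫ f = (yon S).map snd ≫ g := sq.w
  refine locP_of_chart hP hF hG h fst g snd w ?_
  have hiso : IsIso (pullback.lift fst ((yon S).map snd) w) := by
    have : pullback.lift fst ((yon S).map snd) w = (sq.isoPullback).hom := by
      apply pullback.hom_ext
      · rw [pullback.lift_fst, IsPullback.isoPullback_hom_fst]
      · rw [pullback.lift_snd, IsPullback.isoPullback_hom_snd]
    rw [this]
    infer_instance
  exact MorphismProperty.of_isIso (RepWith (S := S) @Etale) _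

theorem main {S : Scheme.{u}} {X Y : AlgSp.Space S} (f : X ⟶ Y) :
    (AlgSp.IsFiniteMor f.hom → AlgSp.IsIntegralMor f.hom) ∧
    (AlgSp.IsIntegralMor f.hom → AlgSp.LocP @LocallyOfFiniteType f.hom → AlgSp.IsFiniteMor f.hom) := by
  constructor
  · intro h Z hZ g
    obtain ⟨W, i, fst, sq, hW, hi⟩ := h hZ g
    exact ⟨W, i, fst, sq, hW, inferInstance⟩
  · intro h hlft Z hZ g
    obtain ⟨W, i, fst, sq, hW, hi⟩ := h hZ g
    have h1 : LocallyOfFiniteType i.left :=
      prop_of_isPullback locPData_lft X.property Y.property f.hom hlft g fst i sq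
    exact ⟨W, i, fst, sq, hW, (IsFinite.iff_isIntegralHom_and_locallyOfFiniteType _).2 ⟨hi, h1⟩⟩

/-- A finite morphism of algebraic spaces is integral; an integral morphism locally of finite type is
finite. -/
theorem result {S : Scheme.{u}} {X Y : AlgSp.Space S} (f : X ⟶ Y) :
    (AlgSp.IsFiniteMor f.hom → AlgSp.IsIntegralMor f.hom) ∧
    (AlgSp.IsIntegralMor f.hom → AlgSp.LocP @LocallyOfFiniteType f.hom → AlgSp.IsFiniteMor f.hom) := by
  exact main f

end Groth.Agent.S10269
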