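import Groth.Statements.S10270
import Groth.Agent.Lib.Helper11.AlgSpBasic
import Mathlib.AlgebraicGeometry.Morphisms.Integral

set_option autoImplicit false
universe u
open CategoryTheory CategoryTheory.Limits AlgebraicGeometry
open AlgSp

namespace Groth.Agent.S10270

open Groth.Agent.Lib.helper11

/-- openness in the space of points can be tested on affine schemes -/
theorem isOpen_iff_affine {S : Scheme.{u}} {F : Sp S} {W : Set (Points F)} :
    IsOpen W ↔ ∀ (T : Over S), IsAffine T.left → ∀ g : (yon S).obj T ⟶ F, IsOpen (Points.ofPt g ⁻¹' W) := by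
  constructor
  · intro h T _ g
    exact Points.isOpen_iff.1 h T g
  · intro h
    rw [Points.isOpen_iff]
    intro T g
    rw [isOpen_iff_forall_mem_open]
    intro t ht
    obtain ⟨U, hU, htU, -⟩ := TopologicalSpace.Opens.isBasis_iff_nbhd.mp T.left.isBasis_affineOpens
      (show t ∈ (⊤ : T.left.Opens) from trivial)
    let TU : Over S := Over.mk ((Scheme.Opens.ι U) ≫ T.hom)
    let j : TU ⟶ T := Over.homMk (Scheme.Opens.ι U) rfl
    have hTU : IsAffine TU.left := hU
    have h1 : IsOpen (Points.ofPt ((yon S).map j ≫ g) ⁻¹' W) := h TU hTU _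
    have h2 : Points.ofPt ((yon S).map j ≫ g) ⁻¹' W = (Scheme.Opens.ι U) ⁻¹' (Points.ofPt g ⁻¹' W) := by
      ext x
      simp only [Set.mem_preimage]
      rw [ofPt_yon_map_comp]
      rfl
    rw [h2] at h1
    refine ⟨(Scheme.Opens.ι U) '' ((Scheme.Opens.ι U) ⁻¹' (Points.ofPt g ⁻¹' W)), ?_, (Scheme.Opens.ι U).isOpenEmbedding.isOpenMap _ h1, ?_⟩
    · rintro _ ⟨x, hx, rfl⟩
      exact hx
    · exact ⟨⟨t, htU⟩, ht, rfl⟩

/-- closedness of the map on points tested on affine schemes -/
theorem isClosedMap_of_affine {S : Scheme.{u}} {F G : Sp S} (j : F ⟶ G)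
    (H : ∀ (T : Over S), IsAffine T.left → ∀ g : (yon S).obj T ⟶ G,
      ∃ (V : Over S) (snd : V ⟶ T) (fst : (yon S).obj V ⟶ F),
        IsPullback fst ((yon S).map snd) j g ∧ IsClosedMap snd.left) :
    IsClosedMap (Points.map j) := by
  intro C hC
  rw [← isOpen_compl_iff, isOpen_iff_affine]
  intro T hT g
  obtain ⟨V, snd, fst, hpb, hcl⟩ := H T hT g
  have key : Points.ofPt g ⁻¹' (Points.map j '' C) = snd.left '' (Points.ofPt fst ⁻¹' C) := by
    ext t
    constructor
    · rintro ⟨c, hc, hct⟩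
      obtain ⟨v, hv1, hv2⟩ := exists_of_isPullback_scheme hpb c t hct
      exact ⟨v, by simpa [hv1] using hc, hv2⟩
    · rintro ⟨v, hv, rfl⟩
      refine ⟨Points.ofPt fst v, hv, ?_⟩
      rw [Points.map_ofPt, hpb.w, ofPt_yon_map_comp]
  rw [Set.preimage_compl, key, isOpen_compl_iff]
  exact hcl _ (hC.preimage (Points.continuous_ofPt fst))

theorem forward {S : Scheme.{u}} {F G : Sp S} (f : F ⟶ G) (h : IsIntegralMor f) : IsUnivClosedMor f := by
  intro Z Z' hZ g fst snd sq
  show IsClosedMap (Points.map snd)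
  apply isClosedMap_of_affine
  intro T hT t
  obtain ⟨W, i, fst', sqW, hW, hi⟩ := h hT (t ≫ g)
  obtain ⟨l, hl1, hl2⟩ := sq.exists_lift fst' ((yon S).map i ≫ t) (by rw [sqW.w, Category.assoc])
  refine ⟨W, i, l, ?_, i.left.isClosedMap⟩
  refine IsPullback.of_right ?_ hl2 sq
  rw [hl1]
  exact sqW

theorem backward {S : Scheme.{u}} {F G : Sp S} (f : F ⟶ G) (ha : IsAffineMor f) (hc : IsUnivClosedMor f) :
    IsIntegralMor f := by
  intro Z hZ g
  obtain ⟨W, i, fst, sq, hW⟩ := ha hZ g
  refine ⟨W, i, fst, sq, hW, ?_⟩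
  rw [IsIntegralHom.iff_universallyClosed_and_isAffineHom]
  refine ⟨?_, ?_⟩
  · constructor
    intro T' T fst' t snd' sqT
    -- `fst' : T' ⟶ W.left`, `t : T ⟶ Z.left`, `snd' : T' ⟶ T`
    let TS : Over S := Over.mk (t ≫ Z.hom)
    let TS' : Over S := Over.mk (snd' ≫ t ≫ Z.hom)
    let t₀ : TS ⟶ Z := Over.homMk t rfl
    let s₀ : TS' ⟶ TS := Over.homMk snd' rfl
    let f₀ : TS' ⟶ W := Over.homMk fst' (by
      show fst' ≫ W.hom = snd' ≫ t ≫ Z.hom
      rw [← Over.w i, ← Category.assoc, ← sqT.w, Category.assoc])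
    have sq0 : IsPullback f₀ s₀ i t₀ := by
      apply IsPullback.of_map (Over.forget S)
      · apply (Over.forget S).map_injective
        simp only [Functor.map_comp]
        exact sqT.w.symm
      · exact sqT.flip
    have sq1 := sq0.map (yon S)
    have sq2 : IsPullback ((yon S).map f₀ ≫ fst) ((yon S).map s₀) f ((yon S).map t₀ ≫ g) :=
      sq1.paste_horiz sq
    have h1 : IsClosedMap (Points.map ((yon S).map s₀)) := hc (IsAlgSpace.yon_obj TS) _ _ _ sq2
    rw [Points.map_yon_map_eq] at h1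
    have h2 : IsClosedMap ((Points.schemeHomeo TS).symm ∘ (Points.schemeHomeo TS ∘ (fun x => s₀.left x) ∘
        (Points.schemeHomeo TS').symm) ∘ (Points.schemeHomeo TS')) :=
      ((Points.schemeHomeo TS).symm.isClosedMap.comp h1).comp (Points.schemeHomeo TS').isClosedMap
    have h3 : ((Points.schemeHomeo TS).symm ∘ (Points.schemeHomeo TS ∘ (fun x => s₀.left x) ∘
        (Points.schemeHomeo TS').symm) ∘ (Points.schemeHomeo TS')) = fun x => snd' x := by
      funext x
      simp
      rfl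
    rw [h3] at h2
    exact h2
  · have : IsAffine W.left := hW
    have : IsAffine Z.left := hZ
    infer_instance

theorem main {S : Scheme.{u}} {X Y : AlgSp.Space S} (f : X ⟶ Y) :
    AlgSp.IsIntegralMor f.hom ↔ (AlgSp.IsAffineMor f.hom ∧ AlgSp.IsUnivClosedMor f.hom) := by
  constructor
  · intro h
    refine ⟨?_, forward f.hom h⟩
    intro Z hZ g
    obtain ⟨W, i, fst, sq, hW, -⟩ := h hZ g
    exact ⟨W, i, fst, sq, hW⟩
  · rintro ⟨ha, hc⟩
    exact backward f.hom ha hc

/-- A morphism of algebraic spaces is integral if and only if it is affine and universally closed. -/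
theorem result {S : Scheme.{u}} {X Y : AlgSp.Space S} (f : X ⟶ Y) :
    AlgSp.IsIntegralMor f.hom ↔ (AlgSp.IsAffineMor f.hom ∧ AlgSp.IsUnivClosedMor f.hom) := by
  exact main f

end Groth.Agent.S10270
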