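import Groth.Statements.S9917
import Groth.Agent.Lib.Helper7.AlgSpQC
import Groth.Agent.Lib.Helper5.AlgSpUniv2

set_option autoImplicit false
universe u
open CategoryTheory CategoryTheory.Limits AlgebraicGeometry
open AlgSp

namespace Groth.Agent.S9917

/-- (1) ⇔ (3): a morphism of algebraic spaces is quasi-compact if and only if its base change to every
affine scheme over the target is a quasi-compact algebraic space. -/
theorem result {S : Scheme.{u}} {X Y : AlgSp.Space S} (f : X ⟶ Y) :
    AlgSp.IsQuasiCompactMor f.hom ↔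
      ∀ (Z : Over S), IsAffine Z.left → ∀ (g : (AlgSp.yon S).obj Z ⟶ Y.obj) (P : AlgSp.Sp S)
        (fst : P ⟶ X.obj) (snd : P ⟶ (AlgSp.yon S).obj Z), IsPullback fst snd f.hom g →
        AlgSp.IsQuasiCompactSp P := by
  constructor
  · intro h Z hZ g P fst snd sq
    have : CompactSpace ↥Z.left := by
      have : IsAffine Z.left := hZ
      infer_instance
    exact h (AlgSp.IsAlgSpace.yon_obj Z) (Groth.Agent.Lib.helper7.AlgSpQC.isQuasiCompactSp_yon Z) g fst snd sq
  · intro h W W' hW hWc g fstW sndW sqW
    obtain ⟨U, q, hqe, hqs, hU⟩ := hWc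
    have hU' : CompactSpace ↥U.left := hU
    have hat : Groth.Agent.Lib.helper7.AlgSpFibre.HasAtlas W' :=
      Groth.Agent.Lib.helper7.AlgSpFibre.hasAtlas_of_isPullback Y.property.diag X.property.atlas hW.atlas sqW
    -- finitely many affine charts
    have hcov : (Set.univ : Set ↥U.left) ⊆
        ⋃ i : U.left.affineOpens, ((i : U.left.Opens) : Set ↥U.left) := by
      intro u _
      obtain ⟨_, ⟨U₀, hU₀, rfl⟩, hu, -⟩ :=
        (U.left.isBasis_affineOpens).exists_subset_of_mem_open (Set.mem_univ u) isOpen_univ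
      exact Set.mem_iUnion.mpr ⟨⟨U₀, hU₀⟩, hu⟩
    obtain ⟨s, hs⟩ := isCompact_univ.elim_finite_subcover
      (fun i : U.left.affineOpens => ((i : U.left.Opens) : Set ↥U.left))
      (fun i => (i : U.left.Opens).2) hcov
    let Zi : U.left.affineOpens → Over S := fun i => Over.mk ((i : U.left.Opens).ι ≫ U.hom)
    let qi : ∀ i, (AlgSp.yon S).obj (Zi i) ⟶ W := fun i =>
      (AlgSp.yon S).map (Over.homMk (U := Zi i) (V := U) (i : U.left.Opens).ι rfl) ≫ q
    have hqi : ∀ i, AlgSp.RepWith @Etale (qi i) ∧ ∀ v : (i : U.left.Opens),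
        AlgSp.Points.ofPt (qi i) v = AlgSp.Points.ofPt q ((i : U.left.Opens).ι v) :=
      fun i => Groth.Agent.Lib.helper11.chart_comp q hqe (i : U.left.Opens).ι
    have sqT : ∀ i, IsPullback (pullback.fst sndW (qi i)) (pullback.snd sndW (qi i)) sndW (qi i) :=
      fun i => IsPullback.of_hasPullback _ _
    have hQ : ∀ i, AlgSp.IsQuasiCompactSp (pullback sndW (qi i)) := fun i =>
      h (Zi i) (i.2 : IsAffineOpen _) (qi i ≫ g) _ _ _ ((sqT i).paste_horiz sqW)
    have hcomp : ∀ i, IsCompact (Set.range (AlgSp.Points.map (pullback.fst sndW (qi i)))) := by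
      intro i
      have := Groth.Agent.Lib.helper7.AlgSpFibre.compactSpace_of_isQuasiCompactSp (hQ i)
      exact isCompact_range (AlgSp.Points.continuous_map _)
    have hc : CompactSpace (AlgSp.Points W') := by
      constructor
      have : (Set.univ : Set (AlgSp.Points W')) =
          ⋃ i ∈ s, Set.range (AlgSp.Points.map (pullback.fst sndW (qi i))) := by
        symm
        rw [Set.eq_univ_iff_forall]
        intro w'
        obtain ⟨u, hu⟩ := Groth.Agent.Lib.helper11.surjective_ofPt q hqs (AlgSp.Points.map sndW w')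
        have := hs (Set.mem_univ u)
        simp only [Set.mem_iUnion] at this
        obtain ⟨i, hi, hui⟩ := this
        have e : AlgSp.Points.map sndW w' =
            AlgSp.Points.map (qi i) (AlgSp.Points.ofScheme (Zi i) ⟨u, hui⟩) := by
          rw [← AlgSp.Points.ofPt_eq_map_ofScheme, (hqi i).2 ⟨u, hui⟩, ← hu]
          rfl
        obtain ⟨x, hx, _⟩ :=
          Groth.Agent.Lib.helper10.exists_point_of_isPullback (sqT i) w' _ e
        exact Set.mem_iUnion₂.mpr ⟨i, hi, x, hx⟩
      rw [this]
      exact s.isCompact_biUnion fun i _ => hcomp i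
    exact Groth.Agent.Lib.helper7.AlgSpFibre.isQuasiCompactSp_of_compactSpace hat

end Groth.Agent.S9917
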