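import Groth.Statements.S10271
import Groth.Agent.Lib.Helper1.Diagonal
import Groth.Agent.S10270
import Groth.Agent.S10269
import Groth.Agent.S9917

set_option autoImplicit false
universe u
open CategoryTheory CategoryTheory.Limits AlgebraicGeometry
open AlgSp

namespace Groth.Agent.S10271

variable {S : Scheme.{u}}

/-- Affine case: the base change of the diagonal of an affine morphism to an affine scheme is a closed
immersion. -/
theorem isClosedImmersion_of_affine {F G : Sp S} (f : F ⟶ G) (h : IsAffineMor f) {T T' : Over S}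
    (hT : IsAffine T.left) (g : (yon S).obj T ⟶ pullback f f) (fst : (yon S).obj T' ⟶ F) (snd : T' ⟶ T)
    (sq : IsPullback fst ((yon S).map snd) (pullback.diagonal f) g) : IsClosedImmersion snd.left := by
  have hx : fst = (yon S).map snd ≫ g ≫ pullback.fst f f := by
    have := congrArg (· ≫ pullback.fst f f) sq.w
    simpa using this
  have hy : fst = (yon S).map snd ≫ g ≫ pullback.snd f f := by
    have := congrArg (· ≫ pullback.snd f f) sq.w
    simpa using this
  obtain ⟨V, i, fstV, sqV, hV⟩ := h hT ((g ≫ pullback.fst f f) ≫ f)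
  obtain ⟨x'', hx1, hx2⟩ := sqV.exists_lift (g ≫ pullback.fst f f) (𝟙 _) (by rw [Category.id_comp])
  obtain ⟨y'', hy1, hy2⟩ := sqV.exists_lift (g ≫ pullback.snd f f) (𝟙 _) (by
    rw [Category.id_comp, Category.assoc, Category.assoc, pullback.condition])
  obtain ⟨x', rfl⟩ := (yon S).map_surjective x''
  obtain ⟨y', rfl⟩ := (yon S).map_surjective y''
  have hxi : x' ≫ i = 𝟙 T := (yon S).map_injective (by rw [Functor.map_comp, hx2, CategoryTheory.Functor.map_id])
  have hyi : y' ≫ i = 𝟙 T := (yon S).map_injective (by rw [Functor.map_comp, hy2, CategoryTheory.Functor.map_id])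
  have hmono : Mono ((yon S).map snd) := sq.mono_snd_of_mono
  have w0 : (yon S).map snd ≫ (yon S).map x' = (yon S).map snd ≫ (yon S).map y' := by
    apply sqV.hom_ext
    · rw [Category.assoc, Category.assoc, hx1, hy1, ← hx, ← hy]
    · rw [Category.assoc, Category.assoc, hx2, hy2]
  have sq1 : IsPullback ((yon S).map snd) ((yon S).map snd) ((yon S).map x') ((yon S).map y') := by
    apply Groth.Agent.Lib.helper5.isPullback_of_exists_lift w0
    · intro Z a b hab
      have hab' : a = b := by
        have := congrArg (· ≫ (yon S).map i) hab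
        simpa [hx2, hy2] using this
      subst hab'
      have e : a ≫ g ≫ pullback.fst f f = a ≫ g ≫ pullback.snd f f := by
        rw [← hx1, ← hy1, ← Category.assoc, ← Category.assoc, hab]
      refine ⟨sq.lift (a ≫ g ≫ pullback.fst f f) a ?_, sq.lift_snd _ _ _, sq.lift_snd _ _ _⟩
      apply pullback.hom_ext
      · simp
      · simp [e]
    · intro Z l l' h1 _
      exact (cancel_mono ((yon S).map snd)).1 h1
  have sq2 : IsPullback snd snd x' y' := IsPullback.of_map (yon S) ((yon S).map_injective (by
    simpa only [Functor.map_comp] using w0)) sq1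
  have sq3 := sq2.map (Over.forget S)
  have hci : IsClosedImmersion x'.left := by
    have h1 : x'.left ≫ i.left = 𝟙 T.left := congrArg CommaMorphism.left hxi
    have : IsAffine V.left := hV
    have : IsAffine T.left := hT
    have : IsClosedImmersion (x'.left ≫ i.left) := by rw [h1]; infer_instance
    exact IsClosedImmersion.of_comp x'.left i.left
  exact MorphismProperty.of_isPullback (P := @IsClosedImmersion) sq3 hci

/-- An affine morphism of algebraic spaces is separated. -/
theorem isSeparatedMor_of_isAffineMor {F G : Sp S} (hF : IsAlgSpace F) (f : F ⟶ G) (h : IsAffineMor f) :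
    IsSeparatedMor f := by
  refine ⟨Groth.Agent.H1.Diagonal.representable_diagonal hF.diag f, ?_⟩
  intro T T' g fst snd sq
  show IsClosedImmersion snd.left
  apply IsZariskiLocalAtTarget.of_openCover (P := @IsClosedImmersion) T.left.affineCover
  intro j
  let ι := T.left.affineCover.f j
  let Tj : Over S := Over.mk (ι ≫ T.hom)
  let ιj : Tj ⟶ T := Over.homMk ι rfl
  let Tj' : Over S := Over.mk (pullback.snd snd.left ι ≫ ι ≫ T.hom)
  let sj : Tj' ⟶ Tj := Over.homMk (pullback.snd snd.left ι) rfl
  let fj : Tj' ⟶ T' := Over.homMk (pullback.fst snd.left ι) (by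
    show pullback.fst snd.left ι ≫ T'.hom = pullback.snd snd.left ι ≫ ι ≫ T.hom
    rw [← Over.w snd, ← Category.assoc, pullback.condition, Category.assoc])
  have sq0 : IsPullback fj sj snd ιj := by
    apply IsPullback.of_map (Over.forget S)
    · apply (Over.forget S).map_injective
      simp only [Functor.map_comp]
      exact pullback.condition
    · exact IsPullback.of_hasPullback snd.left ι
  have sq1 := sq0.map (yon S)
  have sq2 := sq1.paste_horiz sq
  exact isClosedImmersion_of_affine f h (inferInstance : IsAffine (T.left.affineCover.X j)) _ _ sj sq2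

/-- If every base change of `f` to an affine scheme is represented by a morphism of schemes with `P`, then
`f` has `P` etale locally. -/
theorem locP_of_affine_base_change {P : MorphismProperty Scheme.{u}} [IsZariskiLocalAtTarget P]
    [P.IsStableUnderComposition] (hPet : ∀ {A B : Scheme.{u}} (m : A ⟶ B), Etale m → P m)
    {F G : Sp S} (f : F ⟶ G)
    (h : ∀ ⦃Z : Over S⦄, IsAffine Z.left → ∀ (g : (yon S).obj Z ⟶ G),
      ∃ (W : Over S) (i : W ⟶ Z) (fst : (yon S).obj W ⟶ F), IsPullback fst ((yon S).map i) f g ∧ P i.left) :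
    LocP P f := by
  intro U V a b k ha hb hsq
  apply IsZariskiLocalAtTarget.of_openCover (P := P) V.left.affineCover
  intro j
  let ι := V.left.affineCover.f j
  let Vj : Over S := Over.mk (ι ≫ V.hom)
  let ιj : Vj ⟶ V := Over.homMk ι rfl
  let Uj : Over S := Over.mk (pullback.snd k.left ι ≫ ι ≫ V.hom)
  let sj : Uj ⟶ Vj := Over.homMk (pullback.snd k.left ι) rfl
  let fj : Uj ⟶ U := Over.homMk (pullback.fst k.left ι) (by
    show pullback.fst k.left ι ≫ U.hom = pullback.snd k.left ι ≫ ι ≫ V.hom
    rw [← Over.w k, ← Category.assoc, pullback.condition, Category.assoc])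
  have hcomm : fj ≫ k = sj ≫ ιj := by
    apply (Over.forget S).map_injective
    simp only [Functor.map_comp]
    exact pullback.condition
  obtain ⟨W, i, fstW, sqW, hPi⟩ := h (inferInstance : IsAffine (V.left.affineCover.X j)) ((yon S).map ιj ≫ b)
  obtain ⟨m', hm1, hm2⟩ := sqW.exists_lift ((yon S).map fj ≫ a) ((yon S).map sj) (by
    rw [Category.assoc, hsq, ← Category.assoc, ← Functor.map_comp, hcomm, Functor.map_comp, Category.assoc])
  obtain ⟨m, rfl⟩ := (yon S).map_surjective m'
  have hfj : Etale fj.left := by
    show Etale (pullback.fst k.left ι)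
    infer_instance
  have hα : RepWith @Etale ((yon S).map fj ≫ a) :=
    (repWith_isMultiplicative (S := S) @Etale).comp_mem _ _ ((repWith_yon_map_iff @Etale fj).2 hfj) ha
  have hιj : Etale ιj.left := by
    show Etale ι
    infer_instance
  have hβ0 : RepWith @Etale ((yon S).map ιj ≫ b) :=
    (repWith_isMultiplicative (S := S) @Etale).comp_mem _ _ ((repWith_yon_map_iff @Etale ιj).2 hιj) hb
  have hβ : RepWith @Etale fstW :=
    (repWith_isStableUnderBaseChange (S := S) @Etale).of_isPullback sqW.flip hβ0
  have hm : Etale m.left := Groth.Agent.H1.LocPStable.etale_of_charts _ _ hα hβ m hm1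
  have e : sj = m ≫ i := (yon S).map_injective (by rw [Functor.map_comp, hm2])
  have e' : pullback.snd k.left ι = m.left ≫ i.left := congrArg CommaMorphism.left e
  show P (pullback.snd k.left ι)
  rw [e']
  exact P.comp_mem _ _ (hPet _ hm) hPi

theorem locP_lft_of_isFiniteMor {F G : Sp S} (f : F ⟶ G) (h : IsFiniteMor f) :
    LocP @LocallyOfFiniteType f := by
  refine locP_of_affine_base_change (P := @LocallyOfFiniteType)
    (fun m hm => by have := hm; infer_instance) f ?_
  intro Z hZ g
  obtain ⟨W, i, fst, sq, hW, hi⟩ := h hZ g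
  exact ⟨W, i, fst, sq, by have := hi; infer_instance⟩

theorem isQuasiCompactMor_of_isAffineMor {X Y : AlgSp.Space S} (f : X ⟶ Y) (h : IsAffineMor f.hom) :
    IsQuasiCompactMor f.hom := by
  rw [Groth.Agent.S9917.result]
  intro Z hZ g P fst snd sq
  obtain ⟨W, i, fstW, sqW, hW⟩ := h hZ g
  let e : P ≅ (yon S).obj W := sq.isoIsPullback _ _ sqW
  have hW' : IsAffine W.left := hW
  refine ⟨W, e.inv, ?_, ?_, (inferInstance : CompactSpace W.left)⟩
  · have h1 : RepWith @Etale (𝟙 ((yon S).obj W)) := repWith_id @Etale W
    have := MorphismProperty.RespectsIso.postcomp (RepWith (S := S) @Etale) e.inv (𝟙 _) h1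
    rwa [Category.id_comp] at this
  · have h1 : RepWith @Surjective (𝟙 ((yon S).obj W)) := repWith_id @Surjective W
    have := MorphismProperty.RespectsIso.postcomp (RepWith (S := S) @Surjective) e.inv (𝟙 _) h1
    rwa [Category.id_comp] at this

theorem main {X Y : AlgSp.Space S} (f : X ⟶ Y) :
    AlgSp.IsFiniteMor f.hom ↔ (AlgSp.IsAffineMor f.hom ∧ AlgSp.IsProperMor f.hom) := by
  constructor
  · intro h
    have ha : IsAffineMor f.hom := by
      intro Z hZ g
      obtain ⟨W, i, fst, sq, hW, -⟩ := h hZ g
      exact ⟨W, i, fst, sq, hW⟩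
    have hint : IsIntegralMor f.hom := by
      intro Z hZ g
      obtain ⟨W, i, fst, sq, hW, hi⟩ := h hZ g
      exact ⟨W, i, fst, sq, hW, by have := hi; infer_instance⟩
    exact ⟨ha, isSeparatedMor_of_isAffineMor X.property f.hom ha,
      ⟨locP_lft_of_isFiniteMor f.hom h, isQuasiCompactMor_of_isAffineMor f ha⟩,
      Groth.Agent.S10270.forward f.hom hint⟩
  · rintro ⟨ha, -, ⟨hlft, -⟩, hc⟩
    intro Z hZ g
    obtain ⟨W, i, fst, sq, hW⟩ := ha hZ g
    refine ⟨W, i, fst, sq, hW, ?_⟩
    have h1 : UniversallyClosed i.left :=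
      Groth.Agent.H1.Diagonal.universallyClosed_of_isPullback f.hom hc g i fst sq
    have h2 : LocallyOfFiniteType i.left :=
      Groth.Agent.S10269.prop_of_isPullback Groth.Agent.Lib.helper5.LocPBC.locPData_lft X.property Y.property
        f.hom hlft g fst i sq
    have hW' : IsAffine W.left := hW
    have hZ' : IsAffine Z.left := hZ
    have h3 : IsAffineHom i.left := inferInstance
    have h4 : IsIntegralHom i.left := (IsIntegralHom.iff_universallyClosed_and_isAffineHom).2 ⟨h1, h3⟩
    exact (IsFinite.iff_isIntegralHom_and_locallyOfFiniteType _).2 ⟨h4, h2⟩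

/-- A morphism of algebraic spaces is finite if and only if it is affine and proper. -/
theorem result {S : Scheme.{u}} {X Y : AlgSp.Space S} (f : X ⟶ Y) :
    AlgSp.IsFiniteMor f.hom ↔ (AlgSp.IsAffineMor f.hom ∧ AlgSp.IsProperMor f.hom) := by
  exact main f

end Groth.Agent.S10271
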