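import Groth.Statements.S10279
import Groth.Agent.Lib.Helper18.AlgSp

set_option autoImplicit false
universe u
open CategoryTheory CategoryTheory.Limits AlgebraicGeometry
open AlgSp

namespace Groth.Agent.S10279

open AlgSp

/-- The target of a surjective morphism over B from a space universally closed over B is universally
closed over B (hence proper over B as soon as it is also separated and of finite type over B, by
definition). -/
theorem result {S : Scheme.{u}} {X Y B : AlgSp.Space S} (f : X ⟶ Y) (p : X ⟶ B)
    (q : Y ⟶ B) (comm : f ≫ q = p) (hp : AlgSp.IsUnivClosedMor p.hom) (hf : AlgSp.IsSurjectiveMor f.hom) :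
    AlgSp.IsUnivClosedMor q.hom := by
  intro Z Z' hZ g fst snd hpb
  -- pull back `f` along `fst`
  have sq1 : IsPullback (pullback.fst f.hom fst) (pullback.snd f.hom fst) f.hom fst :=
    IsPullback.of_hasPullback f.hom fst
  have hcomm : p.hom = f.hom ≫ q.hom := by rw [← comm]; rfl
  have sq2 : IsPullback (pullback.fst f.hom fst) (pullback.snd f.hom fst ≫ snd) p.hom g := by
    rw [hcomm]
    exact sq1.paste_vert hpb
  have hcl := hp hZ g _ _ sq2
  have hsurj : Function.Surjective (Points.map (pullback.snd f.hom fst)) := by
    intro z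
    obtain ⟨x, hx⟩ := hf (Points.map fst z)
    obtain ⟨w, _, hw⟩ := Groth.Agent.Lib.helper10.exists_point_of_isPullback sq1 x z hx
    exact ⟨w, hw⟩
  intro C hC
  have : Points.map snd '' C =
      Points.map (pullback.snd f.hom fst ≫ snd) '' (Points.map (pullback.snd f.hom fst) ⁻¹' C) := by
    ext t
    constructor
    · rintro ⟨c, hc, rfl⟩
      obtain ⟨w, rfl⟩ := hsurj c
      exact ⟨w, hc, Points.map_comp _ _ _⟩
    · rintro ⟨w, hw, rfl⟩
      exact ⟨_, hw, (Points.map_comp _ _ _).symm⟩
  rw [this]
  exact hcl _ (hC.preimage (Points.continuous_map _))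

end Groth.Agent.S10279
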