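import Groth.Statements.S16833
import Groth.Agent.Lib.Helper1.QFin
import Groth.Agent.Lib.Helper5.AlgSpLqfLocus
import Groth.Agent.S10271
import Groth.Agent.S10279

set_option autoImplicit false
universe u
open AlgSp

namespace Groth.Agent.S16833

open CategoryTheory CategoryTheory.Limits AlgebraicGeometry
open Groth.Agent.Lib.helper5 Groth.Agent.Lib.helper5.NearLocus Groth.Agent.Lib.helper5.LqfLocus

variable {S : Scheme.{u}}

/-- A finite morphism is locally quasi-finite, étale locally. -/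
theorem locP_lqf_of_isFiniteMor {F G : Sp S} (f : F ⟶ G) (h : IsFiniteMor f) :
    LocP (@LocallyQuasiFinite ⊓ @LocallyOfFiniteType) f := by
  refine Groth.Agent.S10271.locP_of_affine_base_change (P := @LocallyQuasiFinite ⊓ @LocallyOfFiniteType)
    (fun m hm => by
      have := hm
      exact ⟨Groth.Agent.S10265.lqf_of_etale m, inferInstance⟩) f ?_
  intro Z hZ g
  obtain ⟨W, i, fst, sq, hW, hi⟩ := h hZ g
  exact ⟨W, i, fst, sq, by have := hi; exact ⟨inferInstance, inferInstance⟩⟩

/-- `LocP` for locally quasi-finite descends along an étale surjective morphism on the source. -/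
theorem locP_lqf_of_comp_etale_surjective {U X Y : Sp S} (hU : IsAlgSpace U) (hY : IsAlgSpace Y)
    (p : U ⟶ X) (f : X ⟶ Y) (hp : IsEtaleMor p) (hps : IsSurjectiveMor p)
    (h : LocP (@LocallyQuasiFinite ⊓ @LocallyOfFiniteType) (p ≫ f)) :
    LocP (@LocallyQuasiFinite ⊓ @LocallyOfFiniteType) f := by
  apply locP_of_forall_hasAtMor etLocal_lqf
  intro x
  obtain ⟨u', rfl⟩ := hps x
  obtain ⟨U₁, V₁, a, b, k, u₁, hae, hbe, hc, hu, hQ⟩ := hasAtMor_of_locP etLocal_lqf hU hY (p ≫ f) h u'
  refine ⟨U₁, V₁, a ≫ p, b, k, u₁, hp a hae, hbe, by rw [Category.assoc, hc], ?_, hQ⟩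
  rw [← hu, Points.map_ofPt]

theorem main {U X Y : AlgSp.Space S} (p : U ⟶ X) (f : X ⟶ Y)
    (hp : AlgSp.IsEtaleMor p.hom) (hps : AlgSp.IsSurjectiveMor p.hom)
    (hf : AlgSp.IsSeparatedMor f.hom) (h : AlgSp.IsFiniteMor (p ≫ f).hom) :
    AlgSp.IsFiniteMor f.hom := by
  have h1 : LocP (@LocallyQuasiFinite ⊓ @LocallyOfFiniteType) (p.hom ≫ f.hom) :=
    locP_lqf_of_isFiniteMor _ h
  have h2 : LocP (@LocallyQuasiFinite ⊓ @LocallyOfFiniteType) f.hom :=
    locP_lqf_of_comp_etale_surjective U.property Y.property p.hom f.hom hp hps h1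
  have h3 : IsUnivClosedMor (p ≫ f).hom := ((Groth.Agent.S10271.result (p ≫ f)).1 h).2.2.2
  have h4 : IsUnivClosedMor f.hom := Groth.Agent.S10279.result p (p ≫ f) f rfl h3 hps
  exact Groth.Agent.H1.QFin.isFiniteMor_of_sep_lqf_univClosed X.property Y.property f.hom hf h2 h4

open CategoryTheory AlgebraicGeometry in
/-- Let p : U → X and f : X → Y be morphisms of algebraic spaces over a scheme S with p etale and
surjective and f separated. If the composite U → Y is finite, then f is finite. -/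
theorem result {S : Scheme.{u}}
    {U X Y : AlgSp.Space S} (p : U ⟶ X) (f : X ⟶ Y)
    (hp : AlgSp.IsEtaleMor p.hom) (hps : AlgSp.IsSurjectiveMor p.hom)
    (hf : AlgSp.IsSeparatedMor f.hom) (h : AlgSp.IsFiniteMor (p ≫ f).hom) :
    AlgSp.IsFiniteMor f.hom := by
  exact main p f hp hps hf h

end Groth.Agent.S16833
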