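import Groth.Statements.S10185
import Groth.Agent.Lib.Helper15.AlgSpDiag

set_option autoImplicit false
universe u
open CategoryTheory CategoryTheory.Limits AlgebraicGeometry Topology TopologicalSpace
open AlgSp

namespace Groth.Agent.S10185

open Groth.Agent.Lib.helper15.AlgSpDiag in
/-- Over a quasi-separated base, for a sheaf `X` with quasi-compact diagonal and compact schemes `U`, `V` mapping to `X`,
every scheme representing `h_U ×_X h_V` is compact. -/
theorem compact_of_qs {S : Scheme.{u}} [QuasiSeparatedSpace ↥S] {X : Sp S}
    (hX : RepWith @QuasiCompact (Limits.diag X)) (U V P : Over S)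
    (a : (yon S).obj U ⟶ X) (b : (yon S).obj V ⟶ X) (fst : P ⟶ U) (snd : P ⟶ V)
    [CompactSpace ↥U.left] [CompactSpace ↥V.left]
    (h : IsPullback ((yon S).map fst) ((yon S).map snd) a b) : CompactSpace ↥P.left := by
  obtain ⟨E, g, fstE, sq⟩ := hX.rep (prodComparison (yon S) U V ≫ prod.map a b)
  have hqc : QuasiCompact g.left := hX.2 _ fstE g sq
  have sq' : IsPullback fstE ((yon S).map g ≫ prodComparison (yon S) U V) (Limits.diag X)
      (prod.map a b) :=
    sq.of_iso (Iso.refl _) (Iso.refl _) (asIso (prodComparison (yon S) U V)) (Iso.refl _)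
      (by simp) (by simp) (by simp) (by simp)
  have sq'' := isPullback_of_isPullback_diag sq'
  have e1 : ((yon S).map g ≫ prodComparison (yon S) U V) ≫ prod.fst =
      (yon S).map (g ≫ prod.fst) := by
    rw [Category.assoc, prodComparison_fst, Functor.map_comp]
  have e2 : ((yon S).map g ≫ prodComparison (yon S) U V) ≫ prod.snd =
      (yon S).map (g ≫ prod.snd) := by
    rw [Category.assoc, prodComparison_snd, Functor.map_comp]
  rw [e1, e2] at sq''
  -- `E ≅ P`
  let e : (yon S).obj E ≅ (yon S).obj P := sq''.isoIsPullback _ _ h
  let e' : E ≅ P := (yon S).preimageIso e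
  -- compactness of `U ⨯ V`
  have hUqc : QuasiCompact U.hom := inferInstance
  have h1 : CompactSpace ↥(pullback U.hom V.hom) := inferInstance
  have h2 : CompactSpace ↥(U ⨯ V).left :=
    (Scheme.homeoOfIso (Over.prodLeftIsoPullback U V)).symm.compactSpace
  have h3 : CompactSpace ↥E.left := QuasiCompact.compactSpace_of_compactSpace g.left
  have h4 : CompactSpace ↥((Over.forget S).obj E) := h3
  exact (Scheme.homeoOfIso ((Over.forget S).mapIso e')).compactSpace

/-- Let S be a quasi-separated scheme and X an algebraic space over S whose diagonal over S is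
quasi-compact. Then for all quasi-compact schemes U, V over S mapping to X, every scheme P over S
representing the fibre product h_U ×_X h_V is quasi-compact. (The published statement uses absolute
quasi-separatedness of X; over a quasi-separated base this is the same as quasi-separatedness over
S, and without a hypothesis on S the relative notion does not suffice: take X = h_S for S
quasi-compact and not quasi-separated.) -/
theorem result {S : Scheme.{u}} [QuasiSeparatedSpace ↥S]
    (X : AlgSp.Space S) (hX : AlgSp.IsQuasiSeparatedSp X.obj) (U V P : Over S) (a : (AlgSp.yon S).obj U ⟶ X.obj) (b : (AlgSp.yon S).obj V ⟶ X.obj)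
      (fst : P ⟶ U) (snd : P ⟶ V)
    [CompactSpace ↥U.left] [CompactSpace ↥V.left]
    (h : IsPullback ((AlgSp.yon S).map fst) ((AlgSp.yon S).map snd) a b) :
    CompactSpace ↥P.left := by
  exact compact_of_qs hX U V P a b fst snd h

end Groth.Agent.S10185
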