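import Groth.Statements.S9920
import Groth.Agent.S10185
import Groth.Agent.Lib.Helper5.AlgSpUniv3
import Groth.Agent.Lib.Helper7.AlgSpFibre

set_option autoImplicit false
universe u
open CategoryTheory CategoryTheory.Limits AlgebraicGeometry
open AlgSp

namespace Groth.Agent.S9920

open Groth.Agent.Lib.helper5 Groth.Agent.Lib.helper7.AlgSpFibre in
/-- affine étale surjective chart of a quasi-compact algebraic space -/
theorem exists_affine_chart {S : Scheme.{u}} {F : Sp S} (hF : IsAlgSpace F) (hq : IsQuasiCompactSp F) :
    ∃ (V : Over S) (q : (yon S).obj V ⟶ F), IsAffine V.left ∧ RepWith @Etale q ∧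
      RepWith @Surjective q := by
  have : CompactSpace (Points F) := compactSpace_of_isQuasiCompactSp hq
  obtain ⟨U, a, hae, has⟩ := hF.atlas
  exact Groth.Agent.Lib.helper11.exists_affine_chart_of_compactSpace a hae has

/-- an isomorphism of sheaves is surjective on points -/
theorem surjective_map_of_iso {S : Scheme.{u}} {F G : Sp S} (e : F ≅ G) :
    Function.Surjective (Points.map e.hom) := by
  intro x
  refine ⟨Points.map e.inv x, ?_⟩
  rw [← Points.map_comp, e.inv_hom_id, Points.map_id]

open Groth.Agent.Lib.helper5 Groth.Agent.Lib.helper7.AlgSpFibre in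
theorem main {S : Scheme.{u}} [QuasiSeparatedSpace ↥S] {X Y : Sp S} (hXa : IsAlgSpace X)
    (hYa : IsAlgSpace Y) (f : X ⟶ Y) (hX : IsQuasiCompactSp X) (hY : IsQuasiSeparatedSp Y) :
    IsQuasiCompactMor f := by
  intro Z Z' hZ hZq g fstZ sndZ sqZ
  have hZ' : IsAlgSpace Z' := isAlgSpace_of_isPullback hYa.diag hXa hZ sqZ
  obtain ⟨U, a, hU, hae, has⟩ := exists_affine_chart hXa hX
  obtain ⟨V, b, hV, hbe, hbs⟩ := exists_affine_chart hZ hZq
  -- `A = Z' ×_X h_U`
  have sqA : IsPullback (pullback.fst fstZ a) (pullback.snd fstZ a) fstZ a :=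
    IsPullback.of_hasPullback _ _
  have hAs : IsSurjectiveMor (pullback.fst fstZ a) :=
    isSurjectiveMor_of_isPullback sqA (surjective_map_of_repWith_surjective a has)
  have sqA' : IsPullback (pullback.snd fstZ a) (pullback.fst fstZ a ≫ sndZ) (a ≫ f) g :=
    sqA.flip.paste_vert sqZ
  -- `B = A ×_Z h_V`
  have sqB : IsPullback (pullback.fst (pullback.fst fstZ a ≫ sndZ) b)
      (pullback.snd (pullback.fst fstZ a ≫ sndZ) b) (pullback.fst fstZ a ≫ sndZ) b :=
    IsPullback.of_hasPullback _ _
  have hBs : IsSurjectiveMor (pullback.fst (pullback.fst fstZ a ≫ sndZ) b) :=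
    isSurjectiveMor_of_isPullback sqB (surjective_map_of_repWith_surjective b hbs)
  have sqBig := sqB.paste_horiz sqA'
  -- the representing scheme
  obtain ⟨P, snd, fst', sqP⟩ := hYa.representable_from_yon (a ≫ f) (b ≫ g)
  obtain ⟨fstP, rfl⟩ := (yon S).map_surjective fst'
  have : CompactSpace ↥U.left := by have := hU; infer_instance
  have : CompactSpace ↥V.left := by have := hV; infer_instance
  have hPc : CompactSpace ↥P.left :=
    Groth.Agent.S10185.compact_of_qs hY U V P (a ≫ f) (b ≫ g) fstP snd sqP
  have hPc' : CompactSpace (Points ((yon S).obj P)) := (Points.schemeHomeo P).compactSpace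
  let e := sqP.isoIsPullback _ _ sqBig
  have hB : CompactSpace (Points (pullback (pullback.fst fstZ a ≫ sndZ) b)) :=
    compactSpace_of_surjective e.hom (surjective_map_of_iso e)
  have hA : CompactSpace (Points (pullback fstZ a)) := compactSpace_of_surjective _ hBs
  have hZc : CompactSpace (Points Z') := compactSpace_of_surjective _ hAs
  exact isQuasiCompactSp_of_compactSpace hZ'.atlas

/-- Over a base scheme S with quasi-separated underlying space, a morphism from a quasi-compact
algebraic space to an algebraic space quasi-separated over S is quasi-compact. (The published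
statement takes the target quasi-separated in the absolute sense; this row takes it quasi-separated
over S and S quasi-separated. With quasi-separatedness over S the hypothesis on S is needed: for S
quasi-compact but not quasi-separated, an affine chart of h_S is not quasi-compact over h_S.) -/
theorem result {S : Scheme.{u}} [QuasiSeparatedSpace ↥S]
    {X Y : AlgSp.Space S} (f : X ⟶ Y) (hX : AlgSp.IsQuasiCompactSp X.obj) (hY : AlgSp.IsQuasiSeparatedSp Y.obj) :
    AlgSp.IsQuasiCompactMor f.hom := by
  exact main X.property Y.property f.hom hX hY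

end Groth.Agent.S9920
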