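import Groth.Statements.S10676
import Groth.Agent.Lib.Helper1.ZSplitC
import Groth.Agent.Lib.Helper1.ZSplitD
import Groth.Agent.Lib.Helper1.QFib

set_option autoImplicit false
universe u
open CategoryTheory CategoryTheory.Limits AlgebraicGeometry
open AlgSp

namespace Groth.Agent.S10676

open Groth.Agent.Lib.helper5 Groth.Agent.Lib.helper5.NearLocus Groth.Agent.Lib.helper5.LqfLocus
  Groth.Agent.Lib.helper11 Groth.Agent.H1

set_option maxHeartbeats 1600000 in
theorem main {S : Scheme.{u}} {X Y : AlgSp.Space S} (f : X ⟶ Y) (y : AlgSp.Points Y.obj)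
    (xs : Finset (AlgSp.Points X.obj)) (hxs : ∀ x ∈ xs, AlgSp.Points.map f.hom x = y)
    (hf1 : AlgSp.LocP @LocallyOfFiniteType f.hom) (hf2 : AlgSp.IsSeparatedMor f.hom)
    (hf3 : ∀ x ∈ xs, AlgSp.HasAtMor (fun U _ h u => ∃ W : U.Opens, u ∈ W ∧ LocallyQuasiFinite (W.ι ≫ h) ∧ LocallyOfFiniteType (W.ι ≫ h)) f.hom x)
    (hf4 : AlgSp.IsQuasiCompactMor f.hom ∨ AlgSp.IsDecent Y.obj) :
    ∃ (U : AlgSp.Space S) (a : U ⟶ Y) (u : AlgSp.Points U.obj), AlgSp.IsEtaleMor a.hom ∧ AlgSp.Points.map a.hom u = y ∧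
      ∀ (P : AlgSp.Space S) (prX : P ⟶ X) (prU : P ⟶ U), IsPullback prX.hom prU.hom f.hom a.hom →
        ∃ (V : AlgSp.Space S) (jV : V ⟶ P), AlgSp.RepWith @IsOpenImmersion jV.hom ∧ AlgSp.RepWith @IsClosedImmersion jV.hom ∧
          AlgSp.IsFiniteMor (jV ≫ prU).hom ∧
          (∀ v : AlgSp.Points V.obj, AlgSp.Points.map (jV ≫ prU).hom v = u → AlgSp.Points.map (jV ≫ prX).hom v ∈ xs) ∧
          ∀ w : AlgSp.Points P.obj, w ∉ Set.range (AlgSp.Points.map jV.hom) → AlgSp.Points.map prU.hom w = u →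
            AlgSp.Points.map prX.hom w ∉ xs := by
  classical
  obtain ⟨T, b₀, t₀, hb₀, -, ht₀⟩ := exists_chart_ofPt Y y
  obtain ⟨X', j, W', w', c', hj, hmono, hr, hsepq, hq, hsep, hlqf, hlft, sq⟩ :=
    ZSplit.exists_lqf_scheme' f hf2 b₀
  haveI := hmono
  have hloc : ∀ x ∈ xs, x ∈ Set.range (Points.map j.hom) := by
    intro x hx
    rw [hr]
    exact hf3 x hx
  have hEfin : {w : W'.left | w'.left w = t₀ ∧ Points.ofPt (c' ≫ j.hom) w ∈ xs}.Finite := by
    rcases hf4 with hqc | hdec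
    · exact (ZSplit.finite_fibre_of_qc f hf1 hqc j hr b₀ w' c' sq t₀).subset (fun w hw => hw.1)
    · obtain ⟨p, hp, hpm, -⟩ := hdec y
      haveI := hpm
      refine (Set.Finite.biUnion (s := (xs : Set (Points X.obj))) xs.finite_toSet
        (t := fun x => {w : W'.left | w'.left w = t₀ ∧ Points.ofPt (c' ≫ j.hom) w = x}) ?_).subset ?_
      · intro x hx
        obtain ⟨x', hx'⟩ := hloc x hx
        refine (ZSplit.finite_fibre_of_mono X'.property Y.property _ hsepq hq b₀ hb₀ w' c' sq t₀ p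
          (ht₀.trans hp.symm) x').subset ?_
        rintro w ⟨hw1, hw2⟩
        refine ⟨hw1, ?_⟩
        apply MonoSp.points_map_injective_of_mono j.hom
        rw [Points.map_ofPt, hw2, hx']
      · rintro w ⟨hw1, hw2⟩
        exact Set.mem_biUnion hw2 ⟨hw1, rfl⟩
  haveI := hsep
  haveI := hlqf
  haveI := hlft
  obtain ⟨U₁, g, u₁, hg, hgu, V, hfin, hA, hB⟩ :=
    ZSplit.exists_etale_split_finset w'.left t₀ hEfin.toFinset
      (fun e he => ((Set.Finite.mem_toFinset _).1 he).1)
  let U : Over S := Over.mk (g ≫ T.hom)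
  let gO : U ⟶ T := Over.homMk g rfl
  have hgO : RepWith @Etale ((yon S).map gO) := (repWith_yon_map_iff _ gO).2 hg
  have ha : RepWith @Etale ((yon S).map gO ≫ b₀) :=
    (RepWith (S := S) @Etale).comp_mem _ _ hgO hb₀
  refine ⟨⟨(yon S).obj U, IsAlgSpace.yon_obj U⟩, ObjectProperty.homMk ((yon S).map gO ≫ b₀),
    Points.ofScheme U u₁, QFib.isEtaleMor_of_repWith _ ha, ?_, ?_⟩
  · show Points.map ((yon S).map gO ≫ b₀) _ = _
    rw [← Points.ofPt_eq_map_ofScheme, ofPt_yon_map_comp, ← ht₀]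
    exact congrArg _ hgu
  · intro P prX prU hP
    obtain ⟨Vsp, jV, hOI, hCI, hF, hPa, -, hPc⟩ :=
      ZSplit.assemble f hf2 j hj b₀ w' c' sq g V hfin P prX prU.hom hP
    refine ⟨Vsp, jV, hOI, hCI, hF, ?_, ?_⟩
    · intro v hv
      obtain ⟨z, hzV, hz1, hz2⟩ := hPa v
      have hzu : pullback.snd w'.left g z = u₁ :=
        (Points.schemeEquiv U).injective (hz2.symm.trans hv)
      have h1 := hA z hzV hzu
      have h2 := ((Set.Finite.mem_toFinset _).1 h1).2
      show Points.map (jV.hom ≫ prX.hom) v ∈ xs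
      rw [hz1]
      exact h2
    · intro w hw hwu hwx
      obtain ⟨z, hzV, hz1, hz2⟩ := hPc w hw (hloc _ hwx)
      have hzu : pullback.snd w'.left g z = u₁ :=
        (Points.schemeEquiv U).injective (hz2.symm.trans hwu)
      apply hzV
      apply hB z hzu
      rw [Set.Finite.mem_toFinset]
      refine ⟨?_, ?_⟩
      · have h3 : (pullback.fst w'.left g ≫ w'.left) z = (pullback.snd w'.left g ≫ g) z := by
          rw [pullback.condition]
        rw [Scheme.Hom.comp_apply, Scheme.Hom.comp_apply] at h3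
        rw [h3, hzu, hgu]
      · rw [← hz1]
        exact hwx

/-- For a separated morphism f : X ⟶ Y of algebraic spaces over S which is locally of finite type, a
point y of |Y| and a finite set xs of points of |X| mapping to y at each of which f is quasi-finite
(some etale chart diagram through the point has top arrow locally quasi-finite and locally of finite
type on an open neighbourhood), assuming moreover that f is quasi-compact or Y is decent: there are
an etale morphism of algebraic spaces a : U ⟶ Y and a point u of |U| over y such that for the base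
change P = U ×_Y X there is an open and closed subspace V ⊂ P, finite over U, such that every point
of |V| over u maps into xs and no point of |P| outside |V| lying over u maps into xs. -/
theorem result {S : Scheme.{u}} {X Y : AlgSp.Space S} (f : X ⟶ Y) (y : AlgSp.Points Y.obj)
    (xs : Finset (AlgSp.Points X.obj)) (hxs : ∀ x ∈ xs, AlgSp.Points.map f.hom x = y)
    (hf1 : AlgSp.LocP @LocallyOfFiniteType f.hom) (hf2 : AlgSp.IsSeparatedMor f.hom)
    (hf3 : ∀ x ∈ xs, AlgSp.HasAtMor (fun U _ h u => ∃ W : U.Opens, u ∈ W ∧ LocallyQuasiFinite (W.ι ≫ h) ∧ LocallyOfFiniteType (W.ι ≫ h)) f.hom x)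
    (hf4 : AlgSp.IsQuasiCompactMor f.hom ∨ AlgSp.IsDecent Y.obj) :
    ∃ (U : AlgSp.Space S) (a : U ⟶ Y) (u : AlgSp.Points U.obj), AlgSp.IsEtaleMor a.hom ∧ AlgSp.Points.map a.hom u = y ∧
      ∀ (P : AlgSp.Space S) (prX : P ⟶ X) (prU : P ⟶ U), IsPullback prX.hom prU.hom f.hom a.hom →
        ∃ (V : AlgSp.Space S) (jV : V ⟶ P), AlgSp.RepWith @IsOpenImmersion jV.hom ∧ AlgSp.RepWith @IsClosedImmersion jV.hom ∧
          AlgSp.IsFiniteMor (jV ≫ prU).hom ∧
          (∀ v : AlgSp.Points V.obj, AlgSp.Points.map (jV ≫ prU).hom v = u → AlgSp.Points.map (jV ≫ prX).hom v ∈ xs) ∧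
          ∀ w : AlgSp.Points P.obj, w ∉ Set.range (AlgSp.Points.map jV.hom) → AlgSp.Points.map prU.hom w = u →
            AlgSp.Points.map prX.hom w ∉ xs := by
  exact main f y xs hxs hf1 hf2 hf3 hf4

end Groth.Agent.S10676
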