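import Groth.Statements.S9687
import Mathlib
import Groth.Agent.Lib.Helper3.DimIneqSch

set_option autoImplicit false
universe u
open CategoryTheory CategoryTheory.Limits AlgebraicGeometry
open Mor

namespace Groth.Agent.S9687

/-- Let S be locally Noetherian, f : X ⟶ S locally of finite type and x a point of X with image s. Let n
be the transcendence degree of κ(x) over κ(s) and let E bound the transcendence degree of κ(ξ) over
κ(f ξ) for every generic point ξ of an irreducible component of X passing through x. Then dim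
O_{X,x} + n ≤ dim O_{S,s} + E. (The published statement takes E to be the maximum of these
transcendence degrees; the statement with any upper bound E is equivalent.) -/
theorem result {X S : Scheme.{u}} [IsLocallyNoetherian S]
    (f : X ⟶ S) [LocallyOfFiniteType f] (x : X) (n E : ℕ)
    (hn : letI := (f.residueFieldMap x).hom.toAlgebra
      Algebra.trdeg (S.residueField (f.base x)) (X.residueField x) = n)
    (hE : ∀ ξ : X, closure {ξ} ∈ irreducibleComponents ↥X → ξ ⤳ x →
      letI := (f.residueFieldMap ξ).hom.toAlgebra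
      Algebra.trdeg (S.residueField (f.base ξ)) (X.residueField ξ) ≤ E) :
    ringKrullDim (X.presheaf.stalk x) + n ≤ ringKrullDim (S.presheaf.stalk (f.base x)) + E := by
  obtain ⟨V, hV, hsV, -⟩ := exists_isAffineOpen_mem_and_subset (x := f.base x) (U := ⊤) trivial
  obtain ⟨U, hU, hxU, hUV⟩ := exists_isAffineOpen_mem_and_subset (x := x) (U := f ⁻¹ᵁ V) hsV
  haveI : IsNoetherianRing Γ(S, V) := IsLocallyNoetherian.component_noetherian ⟨V, hV⟩
  have hft : (f.appLE V U hUV).hom.FiniteType := LocallyOfFiniteType.finiteType_appLE f hV hU hUV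
  have hI : (hU.primeIdealOf ⟨x, hxU⟩).asIdeal.comap (f.appLE V U hUV).hom =
      (hV.primeIdealOf ⟨f.base x, hUV hxU⟩).asIdeal :=
    congrArg PrimeSpectrum.asIdeal
      (IsAffineOpen.comap_primeIdealOf_appLE (f := f) (x := x) V hV U hU hUV hxU)
  have hRL := Groth.Agent.Lib.helper3.DimIneq.height_add_le' (f.appLE V U hUV).hom hft
    (hU.primeIdealOf ⟨x, hxU⟩).asIdeal n E
    ((Groth.Agent.Lib.helper3.DimIneq.td_quotientMap_eq f hV hU hUV x hxU).trans hn) ?_
  · rw [Groth.Agent.Lib.helper3.DimIneq.ringKrullDim_stalk_eq_height hU x hxU,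
      Groth.Agent.Lib.helper3.DimIneq.ringKrullDim_stalk_eq_height hV (f.base x) (hUV hxU), ← hI]
    exact_mod_cast hRL
  · intro q0 hq0 hq0q
    haveI : q0.IsPrime := hq0.1.1
    obtain ⟨ξ, hξU, rfl⟩ := Groth.Agent.Lib.helper3.DimIneq.exists_point_of_prime hU q0
    rw [Groth.Agent.Lib.helper3.DimIneq.td_quotientMap_eq f hV hU hUV ξ hξU]
    refine hE ξ (Groth.Agent.Lib.helper3.DimIneq.closure_mem_irreducibleComponents hU ξ hξU hq0)
      ((Groth.Agent.Lib.helper3.DimIneq.specializes_iff_primeIdealOf_le hU ξ x hξU hxU).mpr hq0q)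

end Groth.Agent.S9687
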