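import Groth.Statements.S2145
import Mathlib

set_option autoImplicit false
universe u
open CAlg

namespace Groth.Agent.S2145


section Loc

variable (R : Type u) [CommRing R] {T : Type u} [CommRing T] [Algebra R T] (Q : Ideal T) [Q.IsPrime]

/-- canonical map `T_x → T_Q` -/
noncomputable def ι (x : T) (hx : x ∉ Q) : Localization.Away x →ₐ[R] Localization.AtPrime Q :=
  IsLocalization.Away.liftAlgHom x (f := IsScalarTower.toAlgHom R T (Localization.AtPrime Q))
    (IsLocalization.map_units (Localization.AtPrime Q) (⟨x, hx⟩ : Q.primeCompl))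

lemma ι_alg (x : T) (hx : x ∉ Q) (t : T) :
    ι R Q x hx (algebraMap T (Localization.Away x) t) = algebraMap T (Localization.AtPrime Q) t := by
  unfold ι
  rw [IsLocalization.Away.liftAlgHom_apply, IsLocalization.Away.lift_eq]
  rfl

/-- canonical map `T_x → T_{xy}` -/
noncomputable def can (x y : T) : Localization.Away x →ₐ[R] Localization.Away (x * y) :=
  IsLocalization.Away.liftAlgHom x (f := IsScalarTower.toAlgHom R T (Localization.Away (x * y)))
    (IsLocalization.Away.isUnit_of_dvd (x := x * y) (S := Localization.Away (x * y))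
      (dvd_mul_right x y))

lemma can_alg (x y : T) (t : T) :
    can R x y (algebraMap T (Localization.Away x) t) = algebraMap T (Localization.Away (x * y)) t := by
  unfold can
  rw [IsLocalization.Away.liftAlgHom_apply, IsLocalization.Away.lift_eq]
  rfl

/-- two algebra maps out of `T_x` agreeing on `T` are equal -/
lemma away_ext {P : Type u} [CommRing P] [Algebra R P] (x : T) (j k : Localization.Away x →ₐ[R] P)
    (h : ∀ t : T, j (algebraMap T _ t) = k (algebraMap T _ t)) : j = k := by
  apply AlgHom.coe_ringHom_injective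
  apply IsLocalization.ringHom_ext (Submonoid.powers x)
  exact RingHom.ext h

lemma liftAlgHom_alg {P : Type u} [CommRing P] [Algebra R P] (x : T) (f : T →ₐ[R] P)
    (hf : IsUnit (f x)) (t : T) :
    IsLocalization.Away.liftAlgHom (S := Localization.Away x) x (f := f) hf
      (algebraMap T (Localization.Away x) t) = f t := by
  rw [IsLocalization.Away.liftAlgHom_apply, IsLocalization.Away.lift_eq]
  rfl

lemma ι_can (x y : T) (hx : x ∉ Q) (hxy : x * y ∉ Q) (z : Localization.Away x) :
    ι R Q (x * y) hxy (can R x y z) = ι R Q x hx z := by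
  have : (ι R Q (x * y) hxy).comp (can R x y) = ι R Q x hx := by
    apply away_ext
    intro t
    rw [AlgHom.comp_apply, can_alg, ι_alg, ι_alg]
  exact AlgHom.congr_fun this z

lemma ι_eq_zero (x : T) (hx : x ∉ Q) (z : Localization.Away x) (h : ι R Q x hx z = 0) :
    ∃ y, y ∉ Q ∧ algebraMap T (Localization.Away x) y * z = 0 := by
  obtain ⟨k, t, ht⟩ := IsLocalization.Away.surj x z
  have h1 : algebraMap T (Localization.AtPrime Q) t = 0 := by
    rw [← ι_alg R Q x hx, ← ht, map_mul, h, zero_mul]
  obtain ⟨y, hy⟩ := (IsLocalization.map_eq_zero_iff Q.primeCompl (Localization.AtPrime Q) t).mp h1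
  refine ⟨y, y.2, ?_⟩
  have hunit : IsUnit (algebraMap T (Localization.Away x) x) :=
    IsLocalization.Away.algebraMap_isUnit x
  have h2 : algebraMap T (Localization.Away x) y * z * algebraMap T (Localization.Away x) x ^ k = 0 := by
    rw [mul_assoc, ht, ← map_mul, hy, map_zero]
  exact ((hunit.pow k).mul_left_eq_zero).mp h2

lemma ι_isUnit (x : T) (hx : x ∉ Q) (z : Localization.Away x) (h : IsUnit (ι R Q x hx z)) :
    ∃ t, t ∉ Q ∧ ∃ k : ℕ, z * algebraMap T (Localization.Away x) x ^ k =
      algebraMap T (Localization.Away x) t := by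
  obtain ⟨k, t, ht⟩ := IsLocalization.Away.surj x z
  refine ⟨t, ?_, k, ht⟩
  have h1 : IsUnit (algebraMap T (Localization.AtPrime Q) t) := by
    rw [← ι_alg R Q x hx, ← ht, map_mul, map_pow, ι_alg]
    exact h.mul ((IsLocalization.map_units (Localization.AtPrime Q) (⟨x, hx⟩ : Q.primeCompl)).pow k)
  exact (IsLocalization.AtPrime.isUnit_to_map_iff (Localization.AtPrime Q) Q t).mp h1

lemma can_isUnit (x : T) (hx : x ∉ Q) (z : Localization.Away x) (h : IsUnit (ι R Q x hx z)) :
    ∃ y, y ∉ Q ∧ IsUnit (can R x y z) := by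
  obtain ⟨t, ht, k, hk⟩ := ι_isUnit R Q x hx z h
  refine ⟨t, ht, ?_⟩
  have h1 := congrArg (can R x t) hk
  rw [map_mul, map_pow, can_alg, can_alg] at h1
  have h2 : IsUnit (algebraMap T (Localization.Away (x * t)) t) :=
    IsLocalization.Away.isUnit_of_dvd (x := x * t) (S := Localization.Away (x * t))
      (dvd_mul_left t x)
  rw [← h1] at h2
  exact isUnit_of_mul_isUnit_left h2

lemma exists_can_eq {S : Type u} [CommRing S] [Algebra R S] [Algebra.FiniteType R S]
    (x : T) (hx : x ∉ Q) (α β : S →ₐ[R] Localization.Away x)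
    (h : ∀ s, ι R Q x hx (α s) = ι R Q x hx (β s)) :
    ∃ y, y ∉ Q ∧ (can R x y).comp α = (can R x y).comp β := by
  classical
  obtain ⟨s, hs⟩ := (Algebra.FiniteType.out : (⊤ : Subalgebra R S).FG)
  have key : ∀ g : S, ∃ y, y ∉ Q ∧ algebraMap T (Localization.Away x) y * (α g - β g) = 0 := by
    intro g
    apply ι_eq_zero R Q x hx
    rw [map_sub, h, sub_self]
  choose yf hyQ hy using key
  refine ⟨∏ g ∈ s, yf g, ?_, ?_⟩
  · have : (∏ g ∈ s, yf g) ∈ Q.primeCompl := prod_mem fun g _ => hyQ g
    exact this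
  · apply AlgHom.ext_of_adjoin_eq_top hs
    intro g hg
    rw [AlgHom.comp_apply, AlgHom.comp_apply]
    have h1 := congrArg (can R x (∏ g ∈ s, yf g)) (hy g)
    rw [map_mul, map_zero, can_alg, map_sub] at h1
    have h2 : IsUnit (algebraMap T (Localization.Away (x * ∏ g ∈ s, yf g)) (yf g)) :=
      IsLocalization.Away.isUnit_of_dvd (x := x * ∏ g ∈ s, yf g)
        (S := Localization.Away (x * ∏ g ∈ s, yf g))
        ((Finset.dvd_prod_of_mem yf hg).trans (dvd_mul_left _ x))
    have h3 := (h2.mul_right_eq_zero).mp h1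
    exact sub_eq_zero.mp h3

open MvPolynomial in
lemma exists_lift {S : Type u} [CommRing S] [Algebra R S] [Algebra.FinitePresentation R S]
    (φ : S →ₐ[R] Localization.AtPrime Q) :
    ∃ (x : T) (hx : x ∉ Q) (φ' : S →ₐ[R] Localization.Away x), ∀ s, ι R Q x hx (φ' s) = φ s := by
  classical
  obtain ⟨n, π, hπ, G, hG⟩ := Algebra.FinitePresentation.out (R := R) (A := S)
  obtain ⟨b, hb⟩ := IsLocalization.exist_integer_multiples_of_finite Q.primeCompl
    (fun i : Fin n => φ (π (X i)))
  choose a ha using hb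
  have hbQ : (b : T) ∉ Q := b.2
  have hbu : IsUnit (algebraMap T (Localization.Away (b : T)) b) :=
    IsLocalization.Away.algebraMap_isUnit (b : T)
  let τ : MvPolynomial (Fin n) R →ₐ[R] Localization.Away (b : T) :=
    MvPolynomial.aeval (fun i => algebraMap T (Localization.Away (b : T)) (a i) * ↑hbu.unit⁻¹)
  have hbuQ : IsUnit (algebraMap T (Localization.AtPrime Q) b) :=
    IsLocalization.map_units (Localization.AtPrime Q) b
  have hιτ : (ι R Q b hbQ).comp τ = φ.comp π := by
    apply MvPolynomial.algHom_ext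
    intro i
    rw [AlgHom.comp_apply, AlgHom.comp_apply]
    simp only [τ, MvPolynomial.aeval_X]
    rw [map_mul, ι_alg]
    have h1 : ι R Q b hbQ (↑hbu.unit⁻¹ : Localization.Away (b : T)) *
        algebraMap T (Localization.AtPrime Q) b = 1 := by
      rw [← ι_alg R Q b hbQ, ← map_mul, IsUnit.val_inv_mul, map_one]
    have h2 : algebraMap T (Localization.AtPrime Q) (a i) =
        algebraMap T (Localization.AtPrime Q) b * φ (π (X i)) := by
      rw [ha i, Algebra.smul_def]
    rw [h2]
    calc algebraMap T (Localization.AtPrime Q) b * φ (π (X i)) *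
          ι R Q b hbQ (↑hbu.unit⁻¹ : Localization.Away (b : T))
        = (ι R Q b hbQ (↑hbu.unit⁻¹ : Localization.Away (b : T)) *
            algebraMap T (Localization.AtPrime Q) b) * φ (π (X i)) := by ring
      _ = φ (π (X i)) := by rw [h1, one_mul]
  have key : ∀ P : MvPolynomial (Fin n) R, ∃ y, y ∉ Q ∧ (P ∈ G →
      algebraMap T (Localization.Away (b : T)) y * τ P = 0) := by
    intro P
    by_cases hP : P ∈ G
    · have hπP : π P = 0 := by
        have : P ∈ RingHom.ker π.toRingHom := by rw [← hG]; exact Ideal.subset_span hP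
        exact this
      have h0 : ι R Q b hbQ (τ P) = 0 := by
        have := AlgHom.congr_fun hιτ P
        rw [AlgHom.comp_apply, AlgHom.comp_apply, hπP, map_zero] at this
        exact this
      obtain ⟨y, hy, hy0⟩ := ι_eq_zero R Q b hbQ (τ P) h0
      exact ⟨y, hy, fun _ => hy0⟩
    · exact ⟨1, fun h => Q.ne_top_iff_one.mp (Ideal.IsPrime.ne_top inferInstance) h,
        fun h => absurd h hP⟩
  choose yf hyQ hy using key
  have hwQ : (∏ P ∈ G, yf P) ∉ Q := by
    have : (∏ P ∈ G, yf P) ∈ Q.primeCompl := prod_mem fun g _ => hyQ g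
    exact this
  have hxQ : (b : T) * ∏ P ∈ G, yf P ∉ Q := by
    have : (b : T) * ∏ P ∈ G, yf P ∈ Q.primeCompl := mul_mem b.2 hwQ
    exact this
  let τ' : MvPolynomial (Fin n) R →ₐ[R] Localization.Away ((b : T) * ∏ P ∈ G, yf P) :=
    (can R (b : T) (∏ P ∈ G, yf P)).comp τ
  have hker : RingHom.ker π.toRingHom ≤ RingHom.ker τ'.toRingHom := by
    rw [← hG, Ideal.span_le]
    intro P hP
    show τ' P = 0
    have h1 := congrArg (can R (b : T) (∏ P ∈ G, yf P)) (hy P hP)
    rw [map_mul, map_zero, can_alg] at h1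
    have h2 : IsUnit (algebraMap T (Localization.Away ((b : T) * ∏ P ∈ G, yf P)) (yf P)) :=
      IsLocalization.Away.isUnit_of_dvd (x := (b : T) * ∏ P ∈ G, yf P)
        (S := Localization.Away ((b : T) * ∏ P ∈ G, yf P))
        ((Finset.dvd_prod_of_mem yf hP).trans (dvd_mul_left _ _))
    exact (h2.mul_right_eq_zero).mp h1
  refine ⟨(b : T) * ∏ P ∈ G, yf P, hxQ, AlgHom.liftOfSurjective π hπ τ' hker, ?_⟩
  intro s
  obtain ⟨p, rfl⟩ := hπ s
  rw [AlgHom.liftOfSurjective_apply]
  show ι R Q _ hxQ (can R (b : T) (∏ P ∈ G, yf P) (τ p)) = _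
  rw [ι_can R Q (b : T) _ hbQ hxQ]
  exact AlgHom.congr_fun hιτ p

end Loc


/-- Let `S`, `S'` be finitely presented `R`-algebras and `𝔮 ⊆ S`, `𝔮' ⊆ S'` primes with `S_𝔮 ≅ S'_{𝔮'}`
as `R`-algebras. Then `S_g ≅ S'_{g'}` as `R`-algebras for some `g ∉ 𝔮`, `g' ∉ 𝔮'`. -/
theorem result {R S S' : Type u} [CommRing R] [CommRing S] [CommRing S'] [Algebra R S]
    [Algebra R S'] [Algebra.FinitePresentation R S] [Algebra.FinitePresentation R S'] (q : Ideal S) [q.IsPrime]
    (q' : Ideal S') [q'.IsPrime] (e : Localization.AtPrime q ≃ₐ[R] Localization.AtPrime q') :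
    ∃ (g : S) (g' : S'), g ∉ q ∧ g' ∉ q' ∧ Nonempty (Localization.Away g ≃ₐ[R] Localization.Away g') := by
  classical
  have hfp : Algebra.FinitePresentation R S := inferInstance
  have hfp' : Algebra.FinitePresentation R S' := inferInstance
  have hft : Algebra.FiniteType R S := inferInstance
  have hft' : Algebra.FiniteType R S' := inferInstance
  -- Step 1, 2: lifts of `e` and `e⁻¹`
  obtain ⟨a', ha', φ, hφ⟩ := exists_lift R q'
    ((e : Localization.AtPrime q →ₐ[R] Localization.AtPrime q').comp
      (IsScalarTower.toAlgHom R S (Localization.AtPrime q)))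
  obtain ⟨a, ha, ψ, hψ⟩ := exists_lift R q
    ((e.symm : Localization.AtPrime q' →ₐ[R] Localization.AtPrime q).comp
      (IsScalarTower.toAlgHom R S' (Localization.AtPrime q')))
  have hφ' : ∀ s, ι R q' a' ha' (φ s) = e (algebraMap S (Localization.AtPrime q) s) := hφ
  have hψ' : ∀ s, ι R q a ha (ψ s) = e.symm (algebraMap S' (Localization.AtPrime q') s) := hψ
  have hunitq : ∀ s : S, s ∉ q → IsUnit (algebraMap S (Localization.AtPrime q) s) := fun s hs =>
    IsLocalization.map_units (Localization.AtPrime q) (⟨s, hs⟩ : q.primeCompl)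
  have hunitq' : ∀ s : S', s ∉ q' → IsUnit (algebraMap S' (Localization.AtPrime q') s) := fun s hs =>
    IsLocalization.map_units (Localization.AtPrime q') (⟨s, hs⟩ : q'.primeCompl)
  -- Step 3
  have h3 : IsUnit (ι R q' a' ha' (φ a)) := by
    rw [hφ']
    exact (hunitq a ha).map e
  obtain ⟨c', hc', hc'u⟩ := can_isUnit R q' a' ha' (φ a) h3
  have hb' : a' * c' ∉ q' := fun h => (Ideal.IsPrime.mem_or_mem inferInstance h).elim ha' hc'
  let φ₁ : Localization.Away a →ₐ[R] Localization.Away (a' * c') :=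
    IsLocalization.Away.liftAlgHom a (f := (can R a' c').comp φ) hc'u
  have hφ₁ : ∀ s : S, φ₁ (algebraMap S (Localization.Away a) s) = can R a' c' (φ s) := fun s =>
    liftAlgHom_alg R a _ hc'u s
  have hP3 : ∀ z, ι R q' (a' * c') hb' (φ₁ z) = e (ι R q a ha z) := by
    have : (ι R q' (a' * c') hb').comp φ₁ =
        (e : Localization.AtPrime q →ₐ[R] Localization.AtPrime q').comp (ι R q a ha) := by
      apply away_ext
      intro s
      rw [AlgHom.comp_apply, AlgHom.comp_apply, hφ₁, ι_can R q' a' c' ha' hb', hφ', ι_alg]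
      rfl
    exact fun z => AlgHom.congr_fun this z
  -- Step 4
  obtain ⟨d', hd', hd'eq⟩ := exists_can_eq R q' (a' * c') hb' (φ₁.comp ψ)
    (IsScalarTower.toAlgHom R S' (Localization.Away (a' * c'))) (by
      intro s
      rw [AlgHom.comp_apply, hP3, hψ', IsScalarTower.coe_toAlgHom', ι_alg]
      exact e.apply_symm_apply _)
  have hg' : a' * c' * d' ∉ q' := fun h => (Ideal.IsPrime.mem_or_mem inferInstance h).elim hb' hd'
  let φ₂ : Localization.Away a →ₐ[R] Localization.Away (a' * c' * d') :=
    (can R (a' * c') d').comp φ₁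
  have hP4a : ∀ s' : S', φ₂ (ψ s') = algebraMap S' (Localization.Away (a' * c' * d')) s' := by
    intro s'
    have := AlgHom.congr_fun hd'eq s'
    rw [AlgHom.comp_apply, AlgHom.comp_apply, AlgHom.comp_apply, IsScalarTower.coe_toAlgHom',
      can_alg] at this
    exact this
  have hP4b : ∀ z, ι R q' (a' * c' * d') hg' (φ₂ z) = e (ι R q a ha z) := by
    intro z
    show ι R q' (a' * c' * d') hg' (can R (a' * c') d' (φ₁ z)) = _
    rw [ι_can R q' (a' * c') d' hb' hg', hP3]
  -- Step 5
  have h5 : IsUnit (ι R q a ha (ψ (a' * c' * d'))) := by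
    rw [hψ']
    exact (hunitq' _ hg').map e.symm
  obtain ⟨c, hc, hcu⟩ := can_isUnit R q a ha (ψ (a' * c' * d')) h5
  have hac : a * c ∉ q := fun h => (Ideal.IsPrime.mem_or_mem inferInstance h).elim ha hc
  let ψ₁ : Localization.Away (a' * c' * d') →ₐ[R] Localization.Away (a * c) :=
    IsLocalization.Away.liftAlgHom (a' * c' * d') (f := (can R a c).comp ψ) hcu
  have hψ₁ : ∀ s' : S', ψ₁ (algebraMap S' (Localization.Away (a' * c' * d')) s') =
      can R a c (ψ s') := fun s' => liftAlgHom_alg R (a' * c' * d') _ hcu s'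
  have hP5 : ∀ z, ι R q (a * c) hac (ψ₁ z) = e.symm (ι R q' (a' * c' * d') hg' z) := by
    have : (ι R q (a * c) hac).comp ψ₁ =
        (e.symm : Localization.AtPrime q' →ₐ[R] Localization.AtPrime q).comp
          (ι R q' (a' * c' * d') hg') := by
      apply away_ext
      intro s
      rw [AlgHom.comp_apply, AlgHom.comp_apply, hψ₁, ι_can R q a c ha hac, hψ', ι_alg]
      rfl
    exact fun z => AlgHom.congr_fun this z
  -- Step 6
  obtain ⟨d, hd, hdeq⟩ := exists_can_eq R q (a * c) hac
    (ψ₁.comp (φ₂.comp (IsScalarTower.toAlgHom R S (Localization.Away a))))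
    (IsScalarTower.toAlgHom R S (Localization.Away (a * c))) (by
      intro s
      rw [AlgHom.comp_apply, AlgHom.comp_apply, hP5, hP4b, IsScalarTower.coe_toAlgHom',
        IsScalarTower.coe_toAlgHom', ι_alg, ι_alg]
      exact e.symm_apply_apply _)
  have hg : a * c * d ∉ q := fun h => (Ideal.IsPrime.mem_or_mem inferInstance h).elim hac hd
  let ψ₂ : Localization.Away (a' * c' * d') →ₐ[R] Localization.Away (a * c * d) :=
    (can R (a * c) d).comp ψ₁
  have hP6 : ∀ s : S, ψ₂ (φ₂ (algebraMap S (Localization.Away a) s)) =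
      algebraMap S (Localization.Away (a * c * d)) s := by
    intro s
    have := AlgHom.congr_fun hdeq s
    simp only [AlgHom.comp_apply, IsScalarTower.coe_toAlgHom', can_alg] at this
    exact this
  have hP6b : ∀ s' : S', ψ₂ (algebraMap S' (Localization.Away (a' * c' * d')) s') =
      can R (a * c) d (can R a c (ψ s')) := by
    intro s'
    show can R (a * c) d (ψ₁ _) = _
    rw [hψ₁]
  -- Step 7
  obtain ⟨k, b'', hb''⟩ := IsLocalization.Away.surj (a' * c' * d')
    (φ₂ (algebraMap S (Localization.Away a) (a * c * d)))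
  have hg'u : IsUnit (algebraMap S' (Localization.Away (a' * c' * d')) (a' * c' * d')) :=
    IsLocalization.Away.algebraMap_isUnit _
  have hb''q : b'' ∉ q' := by
    refine (IsLocalization.AtPrime.isUnit_to_map_iff (Localization.AtPrime q') q' b'').mp ?_
    rw [← ι_alg R q' (a' * c' * d') hg', ← hb'', map_mul, map_pow, hP4b, ι_alg, ι_alg]
    exact ((hunitq _ hg).map e).mul ((hunitq' _ hg').pow k)
  have hg'' : a' * c' * d' * b'' ∉ q' :=
    fun h => (Ideal.IsPrime.mem_or_mem inferInstance h).elim hg' hb''q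
  have hu3 : IsUnit (((can R (a' * c' * d') b'').comp
      (φ₂.comp (IsScalarTower.toAlgHom R S (Localization.Away a)))) (a * c * d)) := by
    rw [AlgHom.comp_apply, AlgHom.comp_apply, IsScalarTower.coe_toAlgHom']
    have h1 := congrArg (can R (a' * c' * d') b'') hb''
    rw [map_mul, map_pow, can_alg, can_alg] at h1
    have h2 : IsUnit (algebraMap S' (Localization.Away (a' * c' * d' * b'')) b'') :=
      IsLocalization.Away.isUnit_of_dvd (x := a' * c' * d' * b'')
        (S := Localization.Away (a' * c' * d' * b'')) (dvd_mul_left _ _)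
    rw [← h1] at h2
    exact isUnit_of_mul_isUnit_left h2
  let φ₃ : Localization.Away (a * c * d) →ₐ[R] Localization.Away (a' * c' * d' * b'') :=
    IsLocalization.Away.liftAlgHom (a * c * d)
      (f := (can R (a' * c' * d') b'').comp
        (φ₂.comp (IsScalarTower.toAlgHom R S (Localization.Away a)))) hu3
  have hφ₃ : ∀ s : S, φ₃ (algebraMap S (Localization.Away (a * c * d)) s) =
      can R (a' * c' * d') b'' (φ₂ (algebraMap S (Localization.Away a) s)) := fun s =>
    liftAlgHom_alg R (a * c * d) _ hu3 s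
  have hu4 : IsUnit ((ψ₂.comp (IsScalarTower.toAlgHom R S' (Localization.Away (a' * c' * d'))))
      (a' * c' * d' * b'')) := by
    rw [AlgHom.comp_apply, IsScalarTower.coe_toAlgHom', map_mul, map_mul]
    have h1 : IsUnit (ψ₂ (algebraMap S' (Localization.Away (a' * c' * d')) (a' * c' * d'))) :=
      hg'u.map ψ₂
    refine h1.mul ?_
    have h2 := congrArg ψ₂ hb''
    rw [map_mul, map_pow, hP6] at h2
    have h3 : IsUnit (algebraMap S (Localization.Away (a * c * d)) (a * c * d)) :=
      IsLocalization.Away.algebraMap_isUnit _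
    rw [← h2]
    exact h3.mul (h1.pow k)
  let ψ₃ : Localization.Away (a' * c' * d' * b'') →ₐ[R] Localization.Away (a * c * d) :=
    IsLocalization.Away.liftAlgHom (a' * c' * d' * b'')
      (f := ψ₂.comp (IsScalarTower.toAlgHom R S' (Localization.Away (a' * c' * d')))) hu4
  have hψ₃ : ∀ s' : S', ψ₃ (algebraMap S' (Localization.Away (a' * c' * d' * b'')) s') =
      ψ₂ (algebraMap S' (Localization.Away (a' * c' * d')) s') := fun s' =>
    liftAlgHom_alg R (a' * c' * d' * b'') _ hu4 s'
  -- compatibilities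
  have hA : ψ₃.comp (can R (a' * c' * d') b'') = ψ₂ := by
    apply away_ext
    intro s'
    rw [AlgHom.comp_apply, can_alg, hψ₃]
  have hB : φ₃.comp ((can R (a * c) d).comp (can R a c)) = (can R (a' * c' * d') b'').comp φ₂ := by
    apply away_ext
    intro s
    rw [AlgHom.comp_apply, AlgHom.comp_apply, AlgHom.comp_apply, can_alg, can_alg, hφ₃]
  have h12 : ψ₃.comp φ₃ = AlgHom.id R _ := by
    apply away_ext
    intro s
    rw [AlgHom.comp_apply, hφ₃, AlgHom.id_apply]
    have := AlgHom.congr_fun hA (φ₂ (algebraMap S (Localization.Away a) s))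
    rw [AlgHom.comp_apply] at this
    rw [this, hP6]
  have h21 : φ₃.comp ψ₃ = AlgHom.id R _ := by
    apply away_ext
    intro s'
    rw [AlgHom.comp_apply, hψ₃, AlgHom.id_apply, hP6b]
    have := AlgHom.congr_fun hB (ψ s')
    rw [AlgHom.comp_apply, AlgHom.comp_apply, AlgHom.comp_apply] at this
    rw [this, hP4a, can_alg]
  exact ⟨a * c * d, a' * c' * d' * b'', hg, hg'', ⟨AlgEquiv.ofAlgHom φ₃ ψ₃ h21 h12⟩⟩


end Groth.Agent.S2145
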