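import Groth.Statements.S0898
import Mathlib

set_option autoImplicit false
universe u
open CategoryTheory
open Hyper

namespace Groth.Agent.S0898

open CategoryTheory.Limits FormalCoproduct

variable {C : Type u} [SmallCategory C]

/-- The sieve on `L.obj j` of those arrows which, viewed as maps from a representable formal
coproduct, lift along `f`. -/
def liftSieve {K L : FormalCoproduct.{u} C} (f : K ⟶ L) (j : L.I) : Sieve (L.obj j) where
  arrows Y h := ∃ t : (incl C).obj Y ⟶ K, t ≫ f = Hom.fromIncl j h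
  downward_closed := by
    rintro Y Z h ⟨t, ht⟩ b
    refine ⟨(incl C).map b ≫ t, ?_⟩
    rw [Category.assoc, ht]
    rfl

theorem ofArrows_eq_liftSieve {K L : FormalCoproduct.{u} C} (f : K ⟶ L) (j : L.I) :
    Sieve.ofArrows (fun i : {i : K.I // f.f i = j} => K.obj i.1)
      (fun i => f.φ i.1 ≫ eqToHom (congrArg L.obj i.2)) = liftSieve f j := by
  ext Y h
  rw [Sieve.mem_ofArrows_iff]
  constructor
  · rintro ⟨⟨i, hi⟩, a, rfl⟩
    subst hi
    refine ⟨Hom.fromIncl i a, ?_⟩
    simp only [eqToHom_refl, Category.comp_id]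
    rfl
  · rintro ⟨t, ht⟩
    obtain ⟨h₁, h₂⟩ := (FormalCoproduct.hom_ext_iff' _ _).mp ht PUnit.unit
    refine ⟨⟨t.f PUnit.unit, h₁⟩, t.φ PUnit.unit, ?_⟩
    exact h₂.symm.trans (Category.assoc _ _ _)

theorem isSRCovering_iff (J : GrothendieckTopology C) {K L : FormalCoproduct.{u} C} (f : K ⟶ L) :
    Hyper.IsSRCovering J f ↔ ∀ j : L.I, liftSieve f j ∈ J (L.obj j) := by
  unfold Hyper.IsSRCovering
  simp only [ofArrows_eq_liftSieve]

theorem fromIncl_comp {K L : FormalCoproduct.{u} C} (g : K ⟶ L) {Y : C} (j : K.I)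
    (h : Y ⟶ K.obj j) :
    Hom.fromIncl j h ≫ g = Hom.fromIncl (g.f j) (h ≫ g.φ j) := rfl

theorem map_comp_fromIncl {L : FormalCoproduct.{u} C} {Y Z : C} (b : Z ⟶ Y) (j : L.I)
    (h : Y ⟶ L.obj j) :
    (incl C).map b ≫ Hom.fromIncl j h = Hom.fromIncl j (b ≫ h) := rfl

theorem comp_covering (J : GrothendieckTopology C) {K L M : FormalCoproduct.{u} C} (f : K ⟶ L)
    (g : L ⟶ M) (hf : Hyper.IsSRCovering J f) (hg : Hyper.IsSRCovering J g) :
    Hyper.IsSRCovering J (f ≫ g) := by
  rw [isSRCovering_iff] at hf hg ⊢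
  intro m
  refine J.transitive (hg m) _ ?_
  rintro Y h ⟨t, ht⟩
  -- rewrite t as fromIncl l a
  have ht' : t = Hom.fromIncl t.asSigma.fst t.asSigma.snd := (Hom.fromIncl_asSigma t).symm
  set l := t.asSigma.fst
  set a := t.asSigma.snd
  refine J.superset_covering ?_ (J.pullback_stable a (hf l))
  rintro Z b ⟨s, hs⟩
  refine ⟨s, ?_⟩
  rw [← Category.assoc, hs, ← map_comp_fromIncl, Category.assoc, ← ht', ht, map_comp_fromIncl]

theorem pullback_covering (J : GrothendieckTopology C) [HasPullbacks C]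
    {K L L' : FormalCoproduct.{u} C} (f : K ⟶ L) (g : L' ⟶ L) (hf : Hyper.IsSRCovering J f)
    [HasPullback g f] : Hyper.IsSRCovering J (pullback.fst g f) := by
  rw [isSRCovering_iff] at hf ⊢
  intro j'
  refine J.superset_covering ?_ (J.pullback_stable (g.φ j') (hf (g.f j')))
  rintro Y h ⟨s, hs⟩
  -- s : incl Y ⟶ K with s ≫ f = fromIncl (g.f j') (h ≫ g.φ j')
  have hcomm : Hom.fromIncl j' h ≫ g = s ≫ f := by
    rw [hs, fromIncl_comp]
  exact ⟨pullback.lift (Hom.fromIncl j' h) s hcomm, pullback.lift_fst _ _ _⟩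

/-- Parts (1) and (2), about covering morphisms between semi-representable objects (formal coproducts)
of a site: (1) the composite of two covering morphisms is a covering, and (2) for a site with fibre
products, the base change of a covering K -> L along any L' -> L (which exists) is a covering L' x_L
K -> L'. -/
theorem result {C : Type u} [SmallCategory C] (J : GrothendieckTopology C) :
    (∀ {K L M : FormalCoproduct.{u} C} (f : K ⟶ L) (g : L ⟶ M),
      Hyper.IsSRCovering J f → Hyper.IsSRCovering J g → Hyper.IsSRCovering J (f ≫ g)) ∧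
    (∀ [HasPullbacks C] {K L L' : FormalCoproduct.{u} C} (f : K ⟶ L) (g : L' ⟶ L),
      Hyper.IsSRCovering J f → HasPullback g f ∧ ∀ [HasPullback g f], Hyper.IsSRCovering J (pullback.fst g f)) := by
  refine ⟨fun f g hf hg => comp_covering J f g hf hg, ?_⟩
  intro _ K L L' f g hf
  exact ⟨inferInstance, fun {_} => pullback_covering J f g hf⟩

end Groth.Agent.S0898
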