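import Groth.Statements.S5067
import Mathlib

set_option autoImplicit false
open CategoryTheory AlgebraicGeometry
universe u
open Unram

namespace Groth.Agent.S5067

open CategoryTheory.Limits IsLocalRing

/-- Unramified morphisms locally of finite type are locally quasi-finite. -/
theorem locallyQuasiFinite_of_unramified {X Y : Scheme.{u}} (f : X ⟶ Y) [LocallyOfFiniteType f]
    [FormallyUnramified f] : LocallyQuasiFinite f := by
  rw [HasRingHomProperty.iff_appLE (P := @LocallyQuasiFinite)]
  intro U V e
  have h1 := f.finiteType_appLE U.2 V.2 e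
  have h2 : (f.appLE U V e).hom.FormallyUnramified :=
    HasRingHomProperty.appLE (P := @FormallyUnramified) f inferInstance U V e
  algebraize [(f.appLE U.1 V.1 e).hom]
  exact (inferInstance : Algebra.QuasiFinite Γ(Y, U.1) Γ(X, V.1))

set_option backward.isDefEq.respectTransparency.types false in
set_option backward.defeqAttrib.useBackward true in
/-- Two `K`-points with the same image point, equalized by `f`, where the residue field map of `f`
at that point is surjective, are equal. -/
theorem spec_hom_ext {X Y : Scheme.{u}} (f : X ⟶ Y) (K : Type u) [Field K]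
    (g₁ g₂ : Spec (.of K) ⟶ X) (hg : g₁ ≫ f = g₂ ≫ f)
    (e : g₁ (closedPoint K) = g₂ (closedPoint K))
    (hb : Function.Surjective (f.residueFieldMap (g₁ (closedPoint K))).hom) : g₁ = g₂ := by
  obtain ⟨e', h⟩ := Scheme.SpecToEquivOfField_eq_iff.mp congr((Y.SpecToEquivOfField K) $(hg))
  apply (X.SpecToEquivOfField K).injective
  dsimp at e' h
  simp only [Scheme.descResidueField_stalkClosedPointTo_comp] at e' h
  rw [← f.residueFieldMap_congr'_assoc e, CommRingCat.hom_ext_iff] at h
  rw [Scheme.SpecToEquivOfField_eq_iff]
  refine ⟨e, CommRingCat.hom_ext ?_⟩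
  ext a
  obtain ⟨b, rfl⟩ := hb a
  exact congr($h b)

/-- A point of `X ×_Y X` whose two projections coincide, at which the residue field map of `f`
is surjective, lies on the diagonal. -/
theorem mem_range_diagonal {X Y : Scheme.{u}} (f : X ⟶ Y) (z : ↥(pullback f f))
    (h12 : pullback.fst f f z = pullback.snd f f z)
    (hb : Function.Surjective (f.residueFieldMap (pullback.fst f f z)).hom) :
    z ∈ Set.range (pullback.diagonal f) := by
  let K : Type u := (pullback f f).residueField z
  let φ : Spec (.of K) ⟶ pullback f f := (pullback f f).fromSpecResidueField z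
  have hpt : ∀ s, φ s = z := fun s => Scheme.fromSpecResidueField_apply _ _
  have e1 : (φ ≫ pullback.fst f f) (closedPoint K) = pullback.fst f f z := by
    rw [Scheme.Hom.comp_apply, hpt]
  have e2 : (φ ≫ pullback.snd f f) (closedPoint K) = pullback.snd f f z := by
    rw [Scheme.Hom.comp_apply, hpt]
  have hφ : φ ≫ pullback.fst f f = φ ≫ pullback.snd f f := by
    refine spec_hom_ext f K _ _ ?_ (e1.trans (h12.trans e2.symm)) ?_
    · rw [Category.assoc, Category.assoc, pullback.condition]
    · rw [e1]; exact hb
  have hφ2 : φ = (φ ≫ pullback.fst f f) ≫ pullback.diagonal f := by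
    apply pullback.hom_ext
    · simp
    · simp [hφ]
  refine ⟨(φ ≫ pullback.fst f f) (closedPoint K), ?_⟩
  rw [← Scheme.Hom.comp_apply, ← hφ2, hpt]

/-- Let f : X ⟶ Y be an étale separated morphism of integral schemes which maps the generic point of X
to the generic point of Y and induces a bijection between the residue fields of the generic points
(f is birational). Then f is an open immersion. -/
theorem result {X Y : Scheme.{u}} [IsIntegral X] [IsIntegral Y]
    (f : X ⟶ Y) [Etale f] [IsSeparated f] (hgen : f.base (genericPoint X) = genericPoint Y)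
    (hbir : Function.Bijective (f.residueFieldMap (genericPoint X)).hom) : IsOpenImmersion f := by
  have hqf : LocallyQuasiFinite f := locallyQuasiFinite_of_unramified f
  -- the fibre over the generic point is the generic point
  have hfib : ∀ x : X, f x = genericPoint Y → x = genericPoint X := by
    intro x hx
    have hdisc := (f.isDiscrete_preimage_singleton (genericPoint Y)).to_subtype
    have hxm : x ∈ f ⁻¹' {genericPoint Y} := hx
    have hηm : genericPoint X ∈ f ⁻¹' {genericPoint Y} := hgen
    have hopen : IsOpen ({⟨x, hxm⟩} : Set (f ⁻¹' {genericPoint Y})) := isOpen_discrete _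
    obtain ⟨U, hU, hUeq⟩ := isOpen_induced_iff.mp hopen
    have hxU : x ∈ U := by
      have : (⟨x, hxm⟩ : f ⁻¹' {genericPoint Y}) ∈ Subtype.val ⁻¹' U := by rw [hUeq]; rfl
      exact this
    have hηU : genericPoint X ∈ U :=
      ((genericPoint_spec X).specializes (Set.mem_univ x)).mem_open hU hxU
    have : (⟨genericPoint X, hηm⟩ : f ⁻¹' {genericPoint Y}) ∈ Subtype.val ⁻¹' U := hηU
    rw [hUeq] at this
    exact (congrArg Subtype.val this).symm
  have hΔo : IsOpenImmersion (pullback.diagonal f) := inferInstance
  have hΔc : IsClosedImmersion (pullback.diagonal f) := inferInstance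
  have hsurj : Function.Surjective (pullback.diagonal f) := by
    by_contra hns
    have hZo : IsOpen (Set.range (pullback.diagonal f))ᶜ :=
      (pullback.diagonal f).isClosedEmbedding.isClosed_range.isOpen_compl
    have hZne : ((Set.range (pullback.diagonal f))ᶜ).Nonempty := by
      rw [Set.nonempty_compl]
      intro h
      exact hns (Set.range_eq_univ.mp h)
    have hq : IsOpenMap (pullback.fst f f ≫ f) := (pullback.fst f f ≫ f).isOpenMap
    have hio : IsOpen ((pullback.fst f f ≫ f) '' (Set.range (pullback.diagonal f))ᶜ) := hq _ hZo
    have hine : ((pullback.fst f f ≫ f) '' (Set.range (pullback.diagonal f))ᶜ).Nonempty :=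
      hZne.image _
    obtain ⟨y, hy⟩ := hine
    have hη : genericPoint Y ∈ (pullback.fst f f ≫ f) '' (Set.range (pullback.diagonal f))ᶜ :=
      ((genericPoint_spec Y).specializes (Set.mem_univ y)).mem_open hio hy
    obtain ⟨z, hzZ, hz⟩ := hη
    have h1 : pullback.fst f f z = genericPoint X := hfib _ hz
    have h2 : pullback.snd f f z = genericPoint X := by
      refine hfib _ ?_
      rw [← Scheme.Hom.comp_apply, ← pullback.condition]
      exact hz
    apply hzZ
    refine mem_range_diagonal f z (h1.trans h2.symm) ?_
    rw [h1]
    exact hbir.2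
  have hiso : IsIso (pullback.diagonal f) := by
    rw [isIso_iff_isOpenImmersion_and_surjective]
    exact ⟨hΔo, ⟨hsurj⟩⟩
  have : Mono f := (pullback.isIso_diagonal_iff f).mp hiso
  exact IsOpenImmersion.of_flat_of_mono f

end Groth.Agent.S5067
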