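import Groth.Statements.S15542
import Groth.Agent.Lib.Helper9.ProConsScheme

set_option autoImplicit false
open CategoryTheory AlgebraicGeometry
universe u
open ProCons

namespace Groth.Agent.S15542

/-- The pro-constructible case. Let f : X ⟶ Y be any morphism of schemes and T a pro-constructible
subset of Y (locally on Y an intersection of locally constructible subsets). Then the preimage of T
under f is pro-constructible in X. -/
theorem result {X Y : Scheme.{u}} (f : X ⟶ Y) (T : Set Y)
    (hT : ProCons.IsProConstructible T) :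
    ProCons.IsProConstructible (f.base ⁻¹' T) := by
  classical
  refine Groth.Agent.Lib.helper9.isProConstructible_of_consClosedOn fun x => ?_
  obtain ⟨_, ⟨W, hW, rfl⟩, hxW, -⟩ :=
    Y.isBasis_affineOpens.exists_subset_of_mem_open (Set.mem_univ (f.base x)) isOpen_univ
  have hW' : IsAffineOpen W := hW
  have hWs : Groth.Agent.Lib.helper9.IsSpectralOpen (W : Set Y) :=
    ⟨W.2, hW'.isCompact, hW'.isQuasiSeparated⟩
  obtain ⟨_, ⟨V, hV, rfl⟩, hxV, hVW⟩ :=
    X.isBasis_affineOpens.exists_subset_of_mem_open (show x ∈ f.base ⁻¹' (W : Set Y) from hxW)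
      (W.2.preimage f.continuous)
  have hV' : IsAffineOpen V := hV
  have hVs : Groth.Agent.Lib.helper9.IsSpectralOpen (V : Set X) :=
    ⟨V.2, hV'.isCompact, hV'.isQuasiSeparated⟩
  refine ⟨V, hVs, hxV, ?_⟩
  have e : V ≤ f ⁻¹ᵁ W := hVW
  have : IsAffine (Scheme.Opens.toScheme V) := hV'
  have : IsAffine (Scheme.Opens.toScheme (X := Y) W) := hW'
  have hg0 : @IsSpectralMap ↥(V : Set X) ↥(W : Set Y) _ _
      (fun w => (f.resLE W V e).base w) := (f.resLE W V e).isSpectralMap
  have hfun : (fun w : ↥(V : Set X) => ((f.resLE W V e).base w : ↥(W : Set Y))) =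
      fun w => ⟨f.base w.1, e w.2⟩ :=
    funext fun w => Subtype.ext (Scheme.Hom.coe_resLE_apply f e w)
  rw [hfun] at hg0
  have hcl : Groth.Agent.Lib.helper9.ConsClosedOn T (W : Set Y) :=
    Groth.Agent.Lib.helper9.consClosedOn_of_isProConstructible hT hWs
  have hcont := Groth.Agent.Lib.helper9.continuous_constructibleTopology_of_isSpectralMap hg0
  unfold Groth.Agent.Lib.helper9.ConsClosedOn at hcl ⊢
  have hset : (Subtype.val ⁻¹' (f.base ⁻¹' T) : Set ↥(V : Set X)) =
      (fun w : ↥(V : Set X) => (⟨f.base w.1, e w.2⟩ : ↥(W : Set Y))) ⁻¹'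
        (Subtype.val ⁻¹' T) := rfl
  rw [hset]
  exact @IsClosed.preimage ↥(V : Set X) ↥(W : Set Y) (constructibleTopology _)
    (constructibleTopology _) _ hcont _ hcl

end Groth.Agent.S15542
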