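import Groth.Statements.S3398
import Groth.Agent.Lib.Helper9.ProConsScheme

set_option autoImplicit false
open CategoryTheory AlgebraicGeometry
universe u
open EGA41

namespace Groth.Agent.S3398

/-- Let f : X' ⟶ X be a quasi-compact morphism of schemes and E' a pro-constructible subset of X'. Then
f(E') is pro-constructible in X; in particular f(X') is pro-constructible. -/
theorem result {X' X : Scheme.{u}} (f : X' ⟶ X) [QuasiCompact f]
    (E' : Set X') (hE' : ProCons.IsProConstructible E') :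
    ProCons.IsProConstructible (f.base '' E') := by
  classical
  refine Groth.Agent.Lib.helper9.isProConstructible_of_consClosedOn fun x => ?_
  obtain ⟨_, ⟨V, hV, rfl⟩, hxV, -⟩ :=
    X.isBasis_affineOpens.exists_subset_of_mem_open (Set.mem_univ x) isOpen_univ
  have hV' : IsAffineOpen V := hV
  have hVs : Groth.Agent.Lib.helper9.IsSpectralOpen (V : Set X) :=
    ⟨V.2, hV'.isCompact, hV'.isQuasiSeparated⟩
  refine ⟨V, hVs, hxV, ?_⟩
  have hpre : IsCompact (f.base ⁻¹' (V : Set X)) :=
    QuasiCompact.isCompact_preimage _ V.2 hV'.isCompact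
  have hcov : ∀ x' ∈ f.base ⁻¹' (V : Set X), ∃ W : X'.Opens, IsAffineOpen W ∧ x' ∈ W ∧
      (W : Set X') ⊆ f.base ⁻¹' (V : Set X) := by
    intro x' hx'
    obtain ⟨_, ⟨W, hW, rfl⟩, hxW, hWV⟩ :=
      X'.isBasis_affineOpens.exists_subset_of_mem_open hx' (V.2.preimage f.continuous)
    exact ⟨W, hW, hxW, hWV⟩
  choose! W hW hxW hWV using hcov
  obtain ⟨t, htV, hcovt⟩ := hpre.elim_nhds_subcover (fun x' => (W x' : Set X'))
    (fun x' hx' => (W x').2.mem_nhds (hxW x' hx'))
  haveI := hVs.spectralSpace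
  have hpiece : ∀ j ∈ t, @IsClosed ↥(V : Set X) (constructibleTopology ↥(V : Set X))
      (Subtype.val ⁻¹' (f.base '' (E' ∩ (W j : Set X')))) := by
    intro j hj
    have hWj : IsAffineOpen (W j) := hW j (htV j hj)
    have e : W j ≤ f ⁻¹ᵁ V := hWV j (htV j hj)
    haveI : IsAffine (Scheme.Opens.toScheme (W j)) := hWj
    haveI : IsAffine (Scheme.Opens.toScheme (X := X) V) := hV'
    have hg0 : @IsSpectralMap ↥(W j : Set X') ↥(V : Set X) _ _
        (fun w => (f.resLE V (W j) e).base w) := (f.resLE V (W j) e).isSpectralMap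
    have hfun : (fun w : ↥(W j : Set X') => ((f.resLE V (W j) e).base w : ↥(V : Set X))) =
        fun w => ⟨f.base w.1, e w.2⟩ :=
      funext fun w => Subtype.ext (Scheme.Hom.coe_resLE_apply f e w)
    rw [hfun] at hg0
    have hWs : Groth.Agent.Lib.helper9.IsSpectralOpen (W j : Set X') :=
      ⟨(W j).2, hWj.isCompact, hWj.isQuasiSeparated⟩
    have hcl := Groth.Agent.Lib.helper9.consClosedOn_of_isProConstructible hE' hWs
    haveI := hWs.spectralSpace
    have := Groth.Agent.Lib.helper9.isClosed_constructibleTopology_image_of_isSpectralMap hg0 hcl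
    have hset : (Subtype.val ⁻¹' (f.base '' (E' ∩ (W j : Set X'))) : Set ↥(V : Set X)) =
        (fun w : ↥(W j : Set X') => (⟨f.base w.1, e w.2⟩ : ↥(V : Set X))) ''
          (Subtype.val ⁻¹' E') := by
      ext v
      constructor
      · rintro ⟨x', ⟨hx'E, hx'W⟩, hfx⟩
        exact ⟨⟨x', hx'W⟩, hx'E, Subtype.ext hfx⟩
      · rintro ⟨w, hw, rfl⟩
        exact ⟨w.1, ⟨hw, w.2⟩, rfl⟩
    rw [hset]
    exact this
  have heq : (Subtype.val ⁻¹' (f.base '' E') : Set ↥(V : Set X)) =
      ⋃ j ∈ t, Subtype.val ⁻¹' (f.base '' (E' ∩ (W j : Set X'))) := by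
    ext v
    simp only [Set.mem_preimage, Set.mem_image, Set.mem_iUnion, Set.mem_inter_iff]
    constructor
    · rintro ⟨x', hx'E, hfx⟩
      have hx'V : x' ∈ f.base ⁻¹' (V : Set X) := by
        show f.base x' ∈ (V : Set X)
        rw [hfx]
        exact v.2
      have := hcovt hx'V
      simp only [Set.mem_iUnion] at this
      obtain ⟨j, hj, hx'j⟩ := this
      exact ⟨j, hj, x', ⟨hx'E, hx'j⟩, hfx⟩
    · rintro ⟨j, hj, x', ⟨hx'E, -⟩, hfx⟩
      exact ⟨x', hx'E, hfx⟩
  unfold Groth.Agent.Lib.helper9.ConsClosedOn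
  rw [heq]
  exact @Set.Finite.isClosed_biUnion ↥(V : Set X) _ (constructibleTopology ↥(V : Set X)) _ _
    t.finite_toSet hpiece

end Groth.Agent.S3398
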