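import Groth.Statements.S3439
import Groth.Agent.Lib.Helper9.ProConsScheme

set_option autoImplicit false
open CategoryTheory AlgebraicGeometry
universe u
open EGA41

namespace Groth.Agent.S3439

/-- Let X be a quasi-compact scheme, E an ind-constructible subset of X and (F_i) a family of
pro-constructible subsets of X whose intersection is contained in E. Then there is a finite set J of
indices such that the intersection of the F_i for i in J is already contained in E. (Taking E = ∅: a
family of pro-constructible subsets with empty intersection has a finite subfamily with empty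
intersection.) -/
theorem result (X : Scheme.{u}) [CompactSpace X] (E : Set X)
    (hE : ProCons.IsIndConstructible E) {ι : Type u} (F : ι → Set X) (hF : ∀ i, ProCons.IsProConstructible (F i))
    (h : ⋂ i, F i ⊆ E) :
    ∃ J : Finset ι, ⋂ i ∈ J, F i ⊆ E := by
  classical
  -- cover `X` by finitely many spectral opens
  have hcov : ∀ x : X, ∃ V : Set X, Groth.Agent.Lib.helper9.IsSpectralOpen V ∧ x ∈ V := by
    intro x
    obtain ⟨V, hV, hxV, -⟩ := Groth.Agent.Lib.helper9.LocallySpectral.basis x Set.univ
      isOpen_univ (Set.mem_univ x)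
    exact ⟨V, hV, hxV⟩
  choose V hV hxV using hcov
  obtain ⟨t, ht⟩ := isCompact_univ.elim_nhds_subcover V
    (fun x _ => (hV x).1.mem_nhds (hxV x))
  -- on each of them, a finite subfamily suffices
  have hloc : ∀ k : X, ∃ J : Finset ι, ∀ x ∈ V k, (∀ i ∈ J, x ∈ F i) → x ∈ E := by
    intro k
    haveI := (hV k).spectralSpace
    have hc : @CompactSpace ↥(V k) (constructibleTopology ↥(V k)) :=
      Groth.Agent.Lib.helper9.compactSpace_constructibleTopology
    have hO := Groth.Agent.Lib.helper9.consOpenOn_of_isIndConstructible hE (hV k)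
    have hC := fun i => Groth.Agent.Lib.helper9.consClosedOn_of_isProConstructible (hF i) (hV k)
    have hcompl : @IsCompact ↥(V k) (constructibleTopology ↥(V k))
        (Subtype.val ⁻¹' E : Set ↥(V k))ᶜ :=
      @IsClosed.isCompact ↥(V k) (constructibleTopology ↥(V k)) _ hc
        (@IsOpen.isClosed_compl ↥(V k) (constructibleTopology ↥(V k)) _ hO)
    obtain ⟨J, hJ⟩ := @IsCompact.elim_finite_subfamily_closed ↥(V k)
      (constructibleTopology ↥(V k)) _ ι hcompl
      (fun i => (Subtype.val ⁻¹' F i : Set ↥(V k))) hC (by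
        rw [Set.eq_empty_iff_forall_notMem]
        rintro y ⟨hy1, hy2⟩
        apply hy1
        apply h
        simp only [Set.mem_iInter] at hy2 ⊢
        exact hy2)
    refine ⟨J, fun x hx hxJ => ?_⟩
    by_contra hxE
    have : (⟨x, hx⟩ : ↥(V k)) ∈ (Subtype.val ⁻¹' E : Set ↥(V k))ᶜ ∩
        ⋂ i ∈ J, (Subtype.val ⁻¹' F i : Set ↥(V k)) := by
      refine ⟨hxE, ?_⟩
      simp only [Set.mem_iInter]
      exact fun i hi => hxJ i hi
    rw [hJ] at this
    exact this
  choose J hJ using hloc
  refine ⟨t.biUnion J, ?_⟩
  intro x hx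
  simp only [Set.mem_iInter] at hx
  have hxt := ht.2 (Set.mem_univ x)
  simp only [Set.mem_iUnion] at hxt
  obtain ⟨k, hk, hxk⟩ := hxt
  exact hJ k x hxk fun i hi => hx i (Finset.mem_biUnion.mpr ⟨k, hk, hi⟩)

end Groth.Agent.S3439
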