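import Groth.Statements.S14454
import Groth.Agent.Lib.Helper1.SuppSect
import Groth.Agent.Lib.Helper27.DeltaFPre
import Groth.Agent.S0101
import Groth.Agent.Lib.Helper1.ExtZeroStalk

set_option autoImplicit false
universe u
open CategoryTheory CategoryTheory.Limits AlgebraicGeometry
open EtDual

namespace Groth.Agent.S14454

open Opposite
open Groth.Agent.H1.SuppSect Groth.Agent.Lib.Helper18.JCont Groth.Agent.H1.EtGerm

/-- the comparison `f^* ≅ restriction` for an etale morphism -/
noncomputable def pullIsoRestr' {X' X : Scheme.{u}} (f : X' ⟶ X) [AlgebraicGeometry.Etale f] :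
    EtCoh.pull f ≅ EtShriek.restrAlong f :=
  (EtCoh.pullPushAdj f).leftAdjointUniq (Groth.Agent.S0651.adj3 f)

theorem injective_restrAlong {X' X : Scheme.{u}} (f : X' ⟶ X) [AlgebraicGeometry.Etale f]
    (I : EtCoh.Ab X) [Injective I] : Injective ((EtShriek.restrAlong f).obj I) := by
  have : (EtShriek.extZero f).PreservesMonomorphisms :=
    ⟨fun a _ => Groth.Agent.H1.ExtZeroStalk.mono_extZero (j := f) a⟩
  exact Injective.injective_of_adjoint (EtShriek.extZeroAdj f) I

theorem gammaSupp_preservesFiniteLimits {U X : Scheme.{u}} (j : U ⟶ X) [IsOpenImmersion j] :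
    PreservesFiniteLimits (EtDual.gammaSupp j) := by
  have := K_preservesFiniteLimits (EtCoh.top X) j.opensRange
  exact preservesFiniteLimits_of_natIso (aIso j).symm

/-- natural isomorphisms of additive functors induce isomorphisms of right derived functors -/
noncomputable def rightDerivedIso {C D : Type*} [Category C] [Category D] [Abelian C] [Abelian D]
    [HasInjectiveResolutions C] {F G : C ⥤ D} [F.Additive] [G.Additive] (e : F ≅ G) (n : ℕ) :
    F.rightDerived n ≅ G.rightDerived n where
  hom := NatTrans.rightDerived e.hom n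
  inv := NatTrans.rightDerived e.inv n
  hom_inv_id := by rw [← NatTrans.rightDerived_comp, e.hom_inv_id, NatTrans.rightDerived_id]
  inv_hom_id := by rw [← NatTrans.rightDerived_comp, e.inv_hom_id, NatTrans.rightDerived_id]

theorem main {X X' U U' : Scheme.{u}}
    (f : X' ⟶ X) [AlgebraicGeometry.Etale f] (j : U ⟶ X) [IsOpenImmersion j]
    (j' : U' ⟶ X') [IsOpenImmersion j']
    (hU' : Set.range j'.base = f.base ⁻¹' Set.range j.base)
    (hZ : Set.BijOn f.base (Set.range j'.base)ᶜ (Set.range j.base)ᶜ)
    (hκ : ∀ x' : ↥X', x' ∉ Set.range j'.base → Function.Surjective (f.residueFieldMap x'))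
    (F : EtCoh.Ab X) (r : ℕ) :
    Nonempty ((EtDual.HY j r).obj F ≅ (EtDual.HY j' r).obj ((EtCoh.pull f).obj F)) := by
  have hV' : ∀ x : X', x ∈ j'.opensRange ↔ f.base x ∈ j.opensRange := by
    intro x
    change x ∈ Set.range j'.base ↔ f.base x ∈ Set.range j.base
    rw [hU']
    rfl
  have hinj : ∀ a b : X', f.base a ∉ j.opensRange → f.base a = f.base b → a = b := by
    intro a b ha hab
    have ha' : a ∈ (Set.range j'.base)ᶜ := fun h => ha ((hV' a).1 h)
    have hb' : b ∈ (Set.range j'.base)ᶜ := fun h => ha (hab ▸ (hV' b).1 h)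
    exact hZ.injOn ha' hb' hab
  have hsurj : ∀ x : X, x ∉ j.opensRange → x ∈ Set.range f.base := by
    intro x hx
    obtain ⟨y, -, hy⟩ := hZ.surjOn (show x ∈ (Set.range j.base)ᶜ from hx)
    exact ⟨y, hy⟩
  have hres : ∀ x : X', f.base x ∉ j.opensRange → Function.Bijective (f.residueFieldMap x) := by
    intro x hx
    exact ⟨(f.residueFieldMap x).hom.injective, hκ x (fun h => hx ((hV' x).1 h))⟩
  have e0 : EtDual.gammaSupp j ≅ EtCoh.pull f ⋙ EtDual.gammaSupp j' :=
    aIso j ≪≫ bIso f j.opensRange j'.opensRange hV' hinj hsurj hres ≪≫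
      Functor.isoWhiskerRight (pullIsoRestr' f).symm _ ≪≫
      Functor.isoWhiskerLeft (EtCoh.pull f) (aIso j').symm
  have hadd : (EtCoh.pull f).Additive := (EtCoh.pullPushAdj f).left_adjoint_additive
  have hlim : PreservesFiniteLimits (EtCoh.pull f) := Groth.Agent.S0101.result f
  have hcolim : PreservesFiniteColimits (EtCoh.pull f) := by
    have := (EtCoh.pullPushAdj f).leftAdjoint_preservesColimits
    infer_instance
  have hG := gammaSupp_preservesFiniteLimits j'
  have hE : ∀ (I : EtCoh.Ab X), Injective I → ∀ q : ℕ,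
      IsZero (((EtDual.gammaSupp j').rightDerived (q + 1)).obj ((EtCoh.pull f).obj I)) := by
    intro I hI q
    have h1 := injective_restrAlong f I
    have h2 : Injective ((EtCoh.pull f).obj I) :=
      Injective.of_iso ((pullIsoRestr' f).symm.app I) h1
    exact Functor.isZero_rightDerived_obj_injective_succ _ q _
  obtain ⟨h2⟩ := Groth.Agent.Lib.helper27.DeltaFPre.rightDerived_comp_exact_iso
    (EtCoh.pull f) (EtDual.gammaSupp j') hE r
  exact ⟨((rightDerivedIso e0 r) ≪≫ h2).app F⟩

/-- Let X be a scheme, j : U ⟶ X an open immersion with closed complement Z, f : X' ⟶ X an étale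
morphism and j' : U' ⟶ X' an open immersion with image f⁻¹(U), such that f maps Z' = X' − U'
bijectively onto Z with trivial residue field extensions at the points of Z' (f restricts to an
isomorphism from (f⁻¹Z)_red onto Z_red). Then for every abelian sheaf F on the small étale site of X
and every r, the groups H^r_Z(X, F) and H^r_{Z'}(X', f⁻¹F) are isomorphic; existence of an
isomorphism only, the canonical one being restriction along f. No Noetherian hypothesis on X is
made. -/
theorem result {X X' U U' : Scheme.{u}}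
    (f : X' ⟶ X) [AlgebraicGeometry.Etale f] (j : U ⟶ X) [IsOpenImmersion j]
    (j' : U' ⟶ X') [IsOpenImmersion j']
    (hU' : Set.range j'.base = f.base ⁻¹' Set.range j.base)
    (hZ : Set.BijOn f.base (Set.range j'.base)ᶜ (Set.range j.base)ᶜ)
    (hκ : ∀ x' : ↥X', x' ∉ Set.range j'.base → Function.Surjective (f.residueFieldMap x'))
    (F : EtCoh.Ab X) (r : ℕ) :
    Nonempty ((EtDual.HY j r).obj F ≅ (EtDual.HY j' r).obj ((EtCoh.pull f).obj F)) := by
  exact main f j j' hU' hZ hκ F r

end Groth.Agent.S14454
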