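import Groth.Statements.S14452
import Groth.Agent.Lib.Helper1.CechInjU
import Groth.Agent.S14454
import Groth.Prelude.Def_EtCore

set_option autoImplicit false
universe u
open CategoryTheory CategoryTheory.Limits AlgebraicGeometry Opposite
open EtCore

namespace Groth.Agent.S14452

section glue

variable {X : Scheme.{u}} {U V : X.Etale} (g : V ⟶ U) [IsOpenImmersion g.left]

/-- the scheme `U ∪_V U` -/
noncomputable abbrev W₀ : Scheme.{u} := pushout g.left g.left

/-- the structure morphism of `U ∪_V U` -/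
noncomputable def wHom : W₀ g ⟶ X := pushout.desc U.hom U.hom rfl

theorem inl_wHom : pushout.inl g.left g.left ≫ wHom g = U.hom := pushout.inl_desc _ _ _

theorem inr_wHom : pushout.inr g.left g.left ≫ wHom g = U.hom := pushout.inr_desc _ _ _

theorem jointly_surjective₀ (w : W₀ g) :
    (∃ x : U.left, (pushout.inl g.left g.left).base x = w) ∨
      ∃ x : U.left, (pushout.inr g.left g.left).base x = w := by
  obtain ⟨i, xi, h⟩ := Scheme.IsLocallyDirected.ι_jointly_surjective (span g.left g.left) w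
  match i, xi, h with
  | WalkingSpan.left, xi, h => exact Or.inl ⟨xi, h⟩
  | WalkingSpan.right, xi, h => exact Or.inr ⟨xi, h⟩
  | WalkingSpan.zero, xi, h =>
    refine Or.inl ⟨g.left.base xi, ?_⟩
    rw [← h]
    have e : (span g.left g.left).map WalkingSpan.Hom.fst ≫ colimit.ι (span g.left g.left) WalkingSpan.left =
      colimit.ι (span g.left g.left) WalkingSpan.zero := colimit.w _ _
    rw [← e]
    rfl

theorem eq_of_inl_eq_inr (x y : U.left)
    (h : (pushout.inl g.left g.left).base x = (pushout.inr g.left g.left).base y) :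
    ∃ v : V.left, g.left.base v = x ∧ g.left.base v = y := by
  obtain ⟨k, fi, fj, z, hz1, hz2⟩ :=
    (Scheme.IsLocallyDirected.ι_eq_ι_iff (span g.left g.left) (i := WalkingSpan.left)
      (j := WalkingSpan.right) (xi := x) (xj := y)).1 h
  match k, fi, fj, z, hz1, hz2 with
  | WalkingSpan.zero, WidePushoutShape.Hom.init _, WidePushoutShape.Hom.init _, z, hz1, hz2 =>
    exact ⟨z, hz1, hz2⟩

instance etale_wHom : Etale (wHom g) := by
  rw [IsZariskiLocalAtSource.iff_of_openCover (P := @Etale)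
    (Scheme.IsLocallyDirected.openCover (span g.left g.left))]
  intro i
  match i with
  | WalkingSpan.left =>
    change Etale (pushout.inl g.left g.left ≫ wHom g)
    rw [inl_wHom]
    infer_instance
  | WalkingSpan.right =>
    change Etale (pushout.inr g.left g.left ≫ wHom g)
    rw [inr_wHom]
    infer_instance
  | WalkingSpan.zero =>
    have e : (span g.left g.left).map WalkingSpan.Hom.fst ≫ colimit.ι (span g.left g.left) WalkingSpan.left =
      colimit.ι (span g.left g.left) WalkingSpan.zero := colimit.w _ _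
    change Etale (colimit.ι (span g.left g.left) WalkingSpan.zero ≫ wHom g)
    rw [← e, Category.assoc]
    change Etale (g.left ≫ pushout.inl g.left g.left ≫ wHom g)
    rw [inl_wHom]
    have : g.left ≫ U.hom = V.hom := MorphismProperty.Over.w g
    rw [this]
    infer_instance

/-- `U ∪_V U` as an object of the small etale site -/
noncomputable def W : X.Etale := Scheme.Etale.mk (wHom g)

/-- the first inclusion -/
noncomputable def ι₁ : U ⟶ W g := MorphismProperty.Over.homMk (pushout.inl g.left g.left) (inl_wHom g) trivial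

/-- the second inclusion -/
noncomputable def ι₂ : U ⟶ W g := MorphismProperty.Over.homMk (pushout.inr g.left g.left) (inr_wHom g) trivial

theorem ι_w : g ≫ ι₁ g = g ≫ ι₂ g := by
  apply MorphismProperty.Over.Hom.ext
  exact pushout.condition

instance : IsOpenImmersion (ι₁ g).left := by
  change IsOpenImmersion (colimit.ι (span g.left g.left) WalkingSpan.left)
  infer_instance

instance : IsOpenImmersion (ι₂ g).left := by
  change IsOpenImmersion (colimit.ι (span g.left g.left) WalkingSpan.right)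
  infer_instance

theorem jointly_surjective (w : (W g).left) :
    (∃ x : U.left, (ι₁ g).left.base x = w) ∨ ∃ x : U.left, (ι₂ g).left.base x = w :=
  jointly_surjective₀ g w

theorem eq_of_ι₁_eq_ι₂ (x y : U.left) (h : (ι₁ g).left.base x = (ι₂ g).left.base y) :
    ∃ v : V.left, g.left.base v = x ∧ g.left.base v = y :=
  eq_of_inl_eq_inr g x y h

end glue

section gluing

open Groth.Agent.S0728 Groth.Agent.S0687

variable {X : Scheme.{u}} {U V : X.Etale} (g : V ⟶ U) [IsOpenImmersion g.left]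

theorem eq_of_comp_left_mono {A B C : X.Etale} (m : B ⟶ C) [Mono m.left] (a b : A ⟶ B)
    (h : a ≫ m = b ≫ m) : a = b := by
  apply MorphismProperty.Over.Hom.ext
  have h' : a.left ≫ m.left = b.left ≫ m.left := congrArg (fun k => k.left) h
  exact (cancel_mono m.left).1 h'

/-- the two-member family `U ⊔ U → W` -/
noncomputable def fam : Bool → X.Etale := fun _ => U

/-- the two-member family `U ⊔ U → W` -/
noncomputable def famι : ∀ i, fam (U := U) i ⟶ W g
  | true => ι₁ g
  | false => ι₂ g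

theorem generate_mem :
    Sieve.generate (Presieve.ofArrows (fam (U := U)) (famι g)) ∈ X.smallEtaleTopology (W g) := by
  apply Groth.Agent.H1.ClosedDense.mem_smallEtaleTopology
  intro w
  rcases jointly_surjective g w with ⟨x, hx⟩ | ⟨x, hx⟩
  · exact ⟨U, ι₁ g, x, ⟨_, 𝟙 _, famι g true, Presieve.ofArrows.mk (ι := Bool) true,
      Category.id_comp _⟩, hx⟩
  · exact ⟨U, ι₂ g, x, ⟨_, 𝟙 _, famι g false, Presieve.ofArrows.mk (ι := Bool) false,
      Category.id_comp _⟩, hx⟩

/-- a pair of maps to `U` which agree after the two inclusions factor through `V` -/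
theorem exists_fac_of_ι₁_eq_ι₂ {Z : X.Etale} (a b : Z ⟶ U) (h : a ≫ ι₁ g = b ≫ ι₂ g) :
    ∃ c : Z ⟶ V, c ≫ g = a ∧ c ≫ g = b := by
  have hpt : ∀ z : Z.left, ∃ v : V.left, g.left.base v = a.left.base z ∧
      g.left.base v = b.left.base z := by
    intro z
    apply eq_of_ι₁_eq_ι₂ g
    have h' : (a ≫ ι₁ g).left.base z = (b ≫ ι₂ g).left.base z := by rw [h]
    exact h'
  obtain ⟨c, hc⟩ := exists_fac_openImm g a (fun z => by
    obtain ⟨v, hv, -⟩ := hpt z
    exact ⟨v, hv⟩)
  obtain ⟨c', hc'⟩ := exists_fac_openImm g b (fun z => by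
    obtain ⟨v, -, hv⟩ := hpt z
    exact ⟨v, hv⟩)
  have hm : Mono (g ≫ ι₁ g).left := by
    change Mono (g.left ≫ (ι₁ g).left)
    infer_instance
  have e : c = c' := by
    apply eq_of_comp_left_mono (g ≫ ι₁ g)
    calc c ≫ g ≫ ι₁ g = a ≫ ι₁ g := by rw [← Category.assoc, hc]
      _ = b ≫ ι₂ g := h
      _ = c' ≫ g ≫ ι₂ g := by rw [← Category.assoc, hc']
      _ = c' ≫ g ≫ ι₁ g := by rw [ι_w]
  exact ⟨c, hc, e ▸ hc'⟩

variable (Q : EtCoh.Ab X)

theorem exists_glue (a b : Q.obj.obj (op U)) (h : Q.obj.map g.op a = Q.obj.map g.op b) :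
    ∃ σ : Q.obj.obj (op (W g)), Q.obj.map (ι₁ g).op σ = a ∧ Q.obj.map (ι₂ g).op σ = b := by
  have hsh : Presieve.IsSheafFor (Q.obj ⋙ forget AddCommGrpCat)
      (Presieve.ofArrows (fam (U := U)) (famι g)) := by
    rw [Presieve.isSheafFor_iff_generate]
    exact ((isSheaf_iff_isSheaf_of_type _ _).1
      ((Presheaf.isSheaf_iff_isSheaf_forget _ Q.obj (forget _)).1 Q.property)) _ (generate_mem g)
  rw [Presieve.isSheafFor_arrows_iff] at hsh
  let x : ∀ i, (Q.obj ⋙ forget AddCommGrpCat).obj (op (fam (U := U) i)) := fun i =>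
    match i with
    | true => a
    | false => b
  have key : ∀ {Z : X.Etale} (gi gj : Z ⟶ U), gi ≫ ι₁ g = gj ≫ ι₂ g →
      Q.obj.map gi.op a = Q.obj.map gj.op b := by
    intro Z gi gj hg
    obtain ⟨c, hc1, hc2⟩ := exists_fac_of_ι₁_eq_ι₂ g gi gj hg
    rw [← hc1, ← map_map, h, map_map, hc2]
  have hx : Presieve.Arrows.Compatible (Q.obj ⋙ forget AddCommGrpCat) (famι g) x := by
    intro i j Z gi gj hg
    match i, j, gi, gj, hg with
    | true, true, gi, gj, hg => rw [eq_of_comp_left_mono (ι₁ g) gi gj hg]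
    | false, false, gi, gj, hg => rw [eq_of_comp_left_mono (ι₂ g) gi gj hg]
    | true, false, gi, gj, hg =>
      exact key gi gj hg
    | false, true, gi, gj, hg =>
      exact (key gj gi hg.symm).symm
  obtain ⟨t, ht, -⟩ := hsh x hx
  exact ⟨t, ht true, ht false⟩

end gluing

section injective

open Groth.Agent.H1.CechInjU

universe w v

variable {D : Type w} [Category.{v} D]

open Classical in
theorem surjective_R_map (M : D → AddCommGrpCat.{max w v}) {A B : D} (m : A ⟶ B) [Mono m] :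
    Function.Surjective ((Cech.R M).map m.op) := by
  intro y
  let y' : (V : D) → (V ⟶ A) → M V := y
  let x' : (V : D) → (V ⟶ B) → M V := fun V f' =>
    if h : ∃ f : V ⟶ A, f ≫ m = f' then y' V h.choose else 0
  refine ⟨(x' : (Cech.R M).obj (op B)), ?_⟩
  funext V f
  rw [Cech.R_map_apply]
  have h : ∃ f₀ : V ⟶ A, f₀ ≫ m = f ≫ m := ⟨f, rfl⟩
  change x' V (f ≫ m) = y' V f
  have e : x' V (f ≫ m) = y' V h.choose := dif_pos h
  rw [e, (cancel_mono m).1 h.choose_spec]

theorem surjective_of_injective_presheaf (P : Dᵒᵖ ⥤ AddCommGrpCat.{max w v}) [Injective P]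
    {A B : D} (m : A ⟶ B) [Mono m] : Function.Surjective (P.map m.op) := by
  intro s
  let r := Injective.factorThru (𝟙 P) (Cech.η P)
  have hr : Cech.η P ≫ r = 𝟙 P := Injective.comp_factorThru _ _
  obtain ⟨x, hx⟩ := surjective_R_map (fun V => P.obj (op V)) m ((Cech.η P).app (op A) s)
  refine ⟨r.app (op B) x, ?_⟩
  have n1 := ConcreteCategory.congr_hom (r.naturality m.op) x
  rw [ConcreteCategory.comp_apply, ConcreteCategory.comp_apply] at n1
  rw [← n1, hx]
  have n2 := ConcreteCategory.congr_hom (congrArg (fun t => t.app (op A)) hr) s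
  exact n2

end injective

section

variable {X : Scheme.{u}}

theorem injective_presheaf (J : EtCoh.Ab X) [Injective J] : Injective J.obj :=
  Injective.injective_of_adjoint
    (sheafificationAdjunction X.smallEtaleTopology AddCommGrpCat.{u+1}) J

theorem surjective_map_of_injective (I : EtCoh.Ab X) [Injective I] {U V : X.Etale} (g : V ⟶ U)
    [IsOpenImmersion g.left] : Function.Surjective (I.obj.map g.op) := by
  have := injective_presheaf I
  have : Mono g := ⟨fun a b h => eq_of_comp_left_mono g a b h⟩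
  exact surjective_of_injective_presheaf I.obj g

end

section les

theorem surjective_top_of_H1 {Y : Scheme.{u}} (S : ShortComplex (EtCoh.Ab Y)) (hS : S.ShortExact)
    (h : Subsingleton (EtCoh.H Y S.X₁ 1)) :
    Function.Surjective (S.g.hom.app (op (EtCoh.top Y))) := by
  intro c
  have hT := EtCore.topIsTerminal Y
  obtain ⟨x₃, hx₃⟩ : ∃ x₃ : EtCoh.H Y S.X₃ 0, x₃ = (Sheaf.H.equiv₀ S.X₃ hT).symm c := ⟨_, rfl⟩
  obtain ⟨x₂, hx₂⟩ := Abelian.Ext.covariant_sequence_exact₃ _ hS x₃ (zero_add 1)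
    (Subsingleton.elim _ _)
  refine ⟨Sheaf.H.equiv₀ S.X₂ hT x₂, ?_⟩
  rw [Sheaf.H.equiv₀_naturality]
  have e : Sheaf.H.map S.g 0 x₂ = x₃ := hx₂
  rw [e, hx₃, AddEquiv.apply_symm_apply]

open Groth.Agent.H1.SuppSect Groth.Agent.Lib.Helper18.JCont Groth.Agent.H1.EtGerm in
theorem surjective_app_of_H1 {X : Scheme.{u}} (S : ShortComplex (EtCoh.Ab X)) (hS : S.ShortExact)
    (W : X.Etale)
    (h : Subsingleton (EtCoh.H W.left ((EtCoh.pull W.hom).obj S.X₁) 1)) :
    Function.Surjective (S.g.hom.app (op W)) := by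
  obtain ⟨w, hw⟩ : ∃ w : W.left ⟶ X, w = W.hom := ⟨_, rfl⟩
  have h' : Subsingleton (EtCoh.H W.left ((EtCoh.pull w).obj S.X₁) 1) := hw ▸ h
  have hwe : AlgebraicGeometry.Etale w := hw ▸ W.prop
  have hlim : PreservesFiniteLimits (EtCoh.pull w) := Groth.Agent.S0101.result w
  have hcolim : PreservesFiniteColimits (EtCoh.pull w) := by
    have : PreservesColimitsOfSize.{0, 0} (EtCoh.pull w) :=
      (EtCoh.pullPushAdj w).leftAdjoint_preservesColimits
    infer_instance
  have hadd : (EtCoh.pull w).Additive := (EtCoh.pullPushAdj w).left_adjoint_additive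
  have hS' : (S.map (EtCoh.pull w)).ShortExact := hS.map_of_exact (EtCoh.pull w)
  have h1 := surjective_top_of_H1 (S.map (EtCoh.pull w)) hS' h'
  obtain ⟨θ, hθ⟩ : ∃ θ : EtCoh.pull w ≅ EtShriek.restrAlong w,
      θ = Groth.Agent.S14454.pullIsoRestr' w := ⟨_, rfl⟩
  obtain ⟨T, hT⟩ : ∃ T : W.left.Etale, T = EtCoh.top W.left := ⟨_, rfl⟩
  obtain ⟨C, hC⟩ : ∃ C : X.Etale, C = (EtShriek.compEtale w).obj T := ⟨_, rfl⟩
  have eW : C ≅ W := by
    subst hC hT
    exact MorphismProperty.Over.isoMk (Iso.refl _) (by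
      change 𝟙 W.left ≫ W.hom = 𝟙 W.left ≫ w
      rw [hw])
  intro q
  subst hC hT
  obtain ⟨a₂, ha₂⟩ : ∃ a₂ : ((EtCoh.pull w).obj S.X₂).obj.obj (op (EtCoh.top W.left)) ⟶
      S.X₂.obj.obj (op ((EtShriek.compEtale w).obj (EtCoh.top W.left))),
      a₂ = (θ.hom.app S.X₂).hom.app (op (EtCoh.top W.left)) := ⟨_, rfl⟩
  obtain ⟨a₃, ha₃⟩ : ∃ a₃ : ((EtCoh.pull w).obj S.X₃).obj.obj (op (EtCoh.top W.left)) ⟶
      S.X₃.obj.obj (op ((EtShriek.compEtale w).obj (EtCoh.top W.left))),
      a₃ = (θ.hom.app S.X₃).hom.app (op (EtCoh.top W.left)) := ⟨_, rfl⟩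
  obtain ⟨b₃, hb₃⟩ : ∃ b₃ : S.X₃.obj.obj (op ((EtShriek.compEtale w).obj (EtCoh.top W.left))) ⟶
      ((EtCoh.pull w).obj S.X₃).obj.obj (op (EtCoh.top W.left)),
      b₃ = (θ.inv.app S.X₃).hom.app (op (EtCoh.top W.left)) := ⟨_, rfl⟩
  have hba : b₃ ≫ a₃ = 𝟙 _ := by
    subst ha₃ hb₃
    exact congrArg (fun φ => φ.hom.app (op (EtCoh.top W.left))) (θ.inv_hom_id_app S.X₃)
  have hnat : ((EtCoh.pull w).map S.g).hom.app (op (EtCoh.top W.left)) ≫ a₃ =
      a₂ ≫ S.g.hom.app (op ((EtShriek.compEtale w).obj (EtCoh.top W.left))) := by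
    subst ha₂ ha₃
    exact congrArg (fun φ => φ.hom.app (op (EtCoh.top W.left))) (θ.hom.naturality S.g)
  obtain ⟨b'', hb''⟩ := h1 (b₃ (S.X₃.obj.map eW.hom.op q))
  refine ⟨S.X₂.obj.map eW.inv.op (a₂ b''), ?_⟩
  have n2 := ConcreteCategory.congr_hom (S.g.hom.naturality eW.inv.op) (a₂ b'')
  rw [ConcreteCategory.comp_apply, ConcreteCategory.comp_apply] at n2
  have n3 := ConcreteCategory.congr_hom hnat b''
  rw [ConcreteCategory.comp_apply, ConcreteCategory.comp_apply] at n3
  have n4 : a₃ (b₃ (S.X₃.obj.map eW.hom.op q)) = S.X₃.obj.map eW.hom.op q := by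
    have := ConcreteCategory.congr_hom hba (S.X₃.obj.map eW.hom.op q)
    rw [ConcreteCategory.comp_apply] at this
    exact this
  have hb3 : ((EtCoh.pull w).map S.g).hom.app (op (EtCoh.top W.left)) b'' =
      b₃ (S.X₃.obj.map eW.hom.op q) := hb''
  refine n2.trans ?_
  rw [← n3, hb3, n4, Groth.Agent.S0728.map_map, Iso.inv_hom_id]
  change S.X₃.obj.map (𝟙 (op W)) q = q
  rw [CategoryTheory.Functor.map_id]
  rfl

end les

section final

open Groth.Agent.H1.SuppSect Groth.Agent.S0728

theorem main {X : Scheme.{u}} (F : EtCoh.Ab X)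
    (hF : ∀ (W : X.Etale) (q : ℕ), 0 < q →
      Subsingleton (EtCoh.H W.left ((EtCoh.pull W.hom).obj F) q))
    {U V : X.Etale} (g : V ⟶ U) [IsOpenImmersion g.left] :
    Function.Surjective (F.obj.map g.op).hom := by
  obtain ⟨I, hI⟩ : ∃ I : EtCoh.Ab X, I = Injective.under F := ⟨_, rfl⟩
  obtain ⟨ι, hι⟩ : ∃ ι : F ⟶ I, Mono ι := ⟨hI ▸ Injective.ι F, by subst hI; infer_instance⟩
  have hIinj : Injective I := by subst hI; infer_instance
  obtain ⟨S, hS1, hS2, hS3, hS⟩ : ∃ S : ShortComplex (EtCoh.Ab X), S.X₁ = F ∧ S.X₂ = I ∧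
      HEq S.f ι ∧ S.ShortExact := by
    refine ⟨ShortComplex.mk ι (cokernel.π ι) (cokernel.condition ι), rfl, rfl, HEq.rfl, ?_⟩
    exact ShortComplex.ShortExact.mk' (ShortComplex.exact_cokernel ι) hι inferInstance
  subst hS1 hS2
  have hS3' : S.f = ι := eq_of_heq hS3
  subst hS3'
  have hmono : Mono S.f := hι
  have hH1 : Subsingleton (EtCoh.H (W g).left ((EtCoh.pull (W g).hom).obj S.X₁) 1) :=
    hF (W g) 1 Nat.one_pos
  intro t
  obtain ⟨s', hs'⟩ := surjective_map_of_injective S.X₂ g (S.f.hom.app (op V) t)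
  have h0 : S.X₃.obj.map g.op (S.g.hom.app (op U) s') = S.X₃.obj.map g.op 0 := by
    have n1 := ConcreteCategory.congr_hom (S.g.hom.naturality g.op) s'
    rw [ConcreteCategory.comp_apply, ConcreteCategory.comp_apply] at n1
    rw [← n1, hs', map_zero]
    have z := ConcreteCategory.congr_hom (congrArg (fun φ => φ.hom.app (op V)) S.zero) t
    exact z
  obtain ⟨σ, hσ1, hσ2⟩ := exists_glue g S.X₃ (S.g.hom.app (op U) s') 0 h0
  obtain ⟨τ, hτ⟩ := surjective_app_of_H1 S hS (W g) hH1 σ
  -- the two restrictions of τ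
  have k2 : S.g.hom.app (op U) (S.X₂.obj.map (ι₂ g).op τ) = 0 := by
    have n1 := ConcreteCategory.congr_hom (S.g.hom.naturality (ι₂ g).op) τ
    rw [ConcreteCategory.comp_apply, ConcreteCategory.comp_apply] at n1
    rw [n1, hτ, hσ2]
  have k1 : S.g.hom.app (op U) (S.X₂.obj.map (ι₁ g).op τ - s') = 0 := by
    have n1 := ConcreteCategory.congr_hom (S.g.hom.naturality (ι₁ g).op) τ
    rw [ConcreteCategory.comp_apply, ConcreteCategory.comp_apply] at n1
    rw [map_sub, n1, hτ, hσ1, sub_self]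
  obtain ⟨f2, hf2⟩ := exists_app_eq_of_exact S hS.exact U _ k2
  obtain ⟨f1, hf1⟩ := exists_app_eq_of_exact S hS.exact U _ k1
  refine ⟨f2 - f1, ?_⟩
  apply injective_app_of_mono S.f V
  have n1 := ConcreteCategory.congr_hom (S.f.hom.naturality g.op) (f2 - f1)
  rw [ConcreteCategory.comp_apply, ConcreteCategory.comp_apply] at n1
  refine n1.trans ?_
  rw [map_sub, hf2, hf1, map_sub, map_sub, map_map, map_map, ι_w, hs']
  abel

end final

/-- Let X be a scheme and F an abelian sheaf on the small étale site of X such that H^q(W, F|_W) = 0 for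
every étale X-scheme W and every q > 0 (F|_W the pullback of F along the structure morphism of W).
Then for every morphism g : V ⟶ U of étale X-schemes which is an open immersion, the restriction map
F(U) → F(V) is surjective. -/
theorem result {X : Scheme.{u}}
    (F : EtCoh.Ab X)
    (hF : ∀ (W : X.Etale) (q : ℕ), 0 < q → Subsingleton (EtCoh.H W.left ((EtCoh.pull W.hom).obj F) q))
    {U V : X.Etale} (g : V ⟶ U) [IsOpenImmersion g.left] :
    Function.Surjective (F.obj.map g.op).hom := by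
  exact main F hF g

end Groth.Agent.S14452
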