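import Groth.Statements.S6707
import Mathlib

set_option autoImplicit false
universe w v u
open CategoryTheory
open DEquiv

namespace Groth.Agent.S6707

open CategoryTheory.Limits HomologicalComplex CochainComplex DerivedCategory

variable {A : Type u} [Category.{v} A] [Abelian A]

/-- the tautological map from the top term of a complex which is strictly `≤ i`. -/
noncomputable def topMap (K : CochainComplex A ℤ) (i : ℤ) [K.IsStrictlyLE i] :
    (CochainComplex.singleFunctor A i).obj (K.X i) ⟶ K :=
  mkHomFromSingle (𝟙 (K.X i)) (by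
    rintro _ rfl
    apply (K.isZero_of_isStrictlyLE i (i + 1) (by simp)).eq_of_tgt)

lemma epi_f_aux {K S : CochainComplex A ℤ} {i : ℤ} (π : K ⟶ S)
    [K.IsStrictlyLE i] [QuasiIsoAt π i] (hS1 : IsIso (S.iCycles i)) (hS2 : IsIso (S.homologyπ i)) :
    Epi (π.f i) := by
  have hK : IsIso (K.iCycles i) :=
    (K.iCyclesIso i (i + 1) (by simp)
      ((K.isZero_of_isStrictlyLE i (i + 1) (by simp)).eq_of_tgt _ _)).isIso_hom
  have hq : IsIso (homologyMap π i) := (quasiIsoAt_iff_isIso_homologyMap π i).1 inferInstance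
  have e1 : K.homologyπ i ≫ homologyMap π i = cyclesMap π i ≫ S.homologyπ i :=
    homologyπ_naturality π i
  have e2 : cyclesMap π i ≫ S.iCycles i = K.iCycles i ≫ π.f i := cyclesMap_i π i
  have h3 : Epi (cyclesMap π i) := by
    have : Epi (cyclesMap π i ≫ S.homologyπ i) := by
      rw [← e1]
      infer_instance
    have e : cyclesMap π i = (cyclesMap π i ≫ S.homologyπ i) ≫ inv (S.homologyπ i) := by simp
    rw [e]
    infer_instance
  have e4 : π.f i = inv (K.iCycles i) ≫ cyclesMap π i ≫ S.iCycles i := by
    rw [e2, IsIso.inv_hom_id_assoc]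
  rw [e4]
  infer_instance

lemma epi_f_of_quasiIsoAt {M : A} {K : CochainComplex A ℤ} {i : ℤ}
    (π : K ⟶ (CochainComplex.singleFunctor A i).obj M)
    [K.IsStrictlyLE i] [QuasiIsoAt π i] :
    Epi (π.f i) := by
  apply epi_f_aux π
  · exact (((HomologicalComplex.single A (ComplexShape.up ℤ) i).obj M).iCyclesIso i (i + 1)
      (by simp) (by simp)).isIso_hom
  · exact (((HomologicalComplex.single A (ComplexShape.up ℤ) i).obj M).isoHomologyπ (i - 1) i
      (by simp) (by simp)).isIso_hom

variable [HasDerivedCategory.{w} A]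

/-- effaceability of morphisms from a single object to a complex in lower degrees. -/
lemma efface_Q {M : A} {L : CochainComplex A ℤ} {i : ℤ}
    (φ : Q.obj ((CochainComplex.singleFunctor A i).obj M) ⟶ Q.obj L)
    (n : ℤ) (hn : n < i) [L.IsStrictlyLE n] :
    ∃ (M' : A) (p : M' ⟶ M), Epi p ∧ Q.map ((CochainComplex.singleFunctor A i).map p) ≫ φ = 0 := by
  obtain ⟨K, _, π, h, g, rfl⟩ := right_fac_of_isStrictlyLE φ i
  rw [isIso_Q_map_iff_quasiIso] at h
  have hπ : Epi (π.f i) := epi_f_of_quasiIsoAt π
  refine ⟨K.X i, π.f i ≫ (singleObjXSelf (ComplexShape.up ℤ) i M).hom, inferInstance, ?_⟩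
  have h₁ : (CochainComplex.singleFunctor A i).map
      (π.f i ≫ (singleObjXSelf (ComplexShape.up ℤ) i M).hom) = topMap K i ≫ π := by
    apply HomologicalComplex.from_single_hom_ext
    rw [HomologicalComplex.comp_f]
    refine (HomologicalComplex.single_map_f_self (c := ComplexShape.up ℤ) i _).trans ?_
    have e : (topMap K i).f i = (singleObjXSelf (ComplexShape.up ℤ) i (K.X i)).hom := by
      dsimp only [topMap]
      rw [mkHomFromSingle_f, Category.comp_id]
    rw [e]
    congr 1
    exact (Category.assoc _ _ _).trans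
      ((congrArg (fun t => π.f i ≫ t) (Iso.hom_inv_id _)).trans (Category.comp_id _))
  have h₂ : topMap K i ≫ g = 0 := by
    apply HomologicalComplex.from_single_hom_ext
    apply (L.isZero_of_isStrictlyLE n i hn).eq_of_tgt
  have : IsIso (Q.map π) := by rw [isIso_Q_map_iff_quasiIso]; exact h
  rw [h₁, Q.map_comp, Category.assoc, IsIso.hom_inv_id_assoc, ← Q.map_comp, h₂, Q.map_zero]

/-- effaceability in the derived category. -/
lemma efface {M : A} {Y : DerivedCategory A} (i : ℤ) [Y.IsLE (i - 1)]
    (ξ : (DerivedCategory.singleFunctor A i).obj M ⟶ Y) :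
    ∃ (M' : A) (p : M' ⟶ M), Epi p ∧ (DerivedCategory.singleFunctor A i).map p ≫ ξ = 0 := by
  obtain ⟨L, hL, ⟨e⟩⟩ := Y.exists_iso_Q_obj_of_isLE (i - 1)
  obtain ⟨M', p, hp, h⟩ := efface_Q (((singleFunctorIsoCompQ A i).inv.app M) ≫ ξ ≫ e.hom) (i - 1)
    (by omega)
  refine ⟨M', p, hp, ?_⟩
  have nat := (singleFunctorIsoCompQ A i).inv.naturality p
  dsimp only [Functor.comp_map] at nat
  rw [reassoc_of% nat] at h
  have h' : ((singleFunctorIsoCompQ A i).inv.app M' ≫
      ((DerivedCategory.singleFunctor A i).map p ≫ ξ)) ≫ e.hom = 0 := by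
    simpa only [Category.assoc] using h
  have h'' := (cancel_mono e.hom).1 (h'.trans zero_comp.symm)
  exact (cancel_epi ((singleFunctorIsoCompQ A i).inv.app M')).1 (h''.trans comp_zero.symm)

lemma epi_homologyMap_topMap (K : CochainComplex A ℤ) (b : ℤ) [K.IsStrictlyLE b] :
    Epi (homologyMap (topMap K b) b) := by
  set S := (CochainComplex.singleFunctor A b).obj (K.X b) with hS
  have hK : IsIso (K.iCycles b) :=
    (K.iCyclesIso b (b + 1) (by simp)
      ((K.isZero_of_isStrictlyLE b (b + 1) (by simp)).eq_of_tgt _ _)).isIso_hom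
  have hS1 : IsIso (S.iCycles b) :=
    (((HomologicalComplex.single A (ComplexShape.up ℤ) b).obj (K.X b)).iCyclesIso b (b + 1)
      (by simp) (by simp)).isIso_hom
  have e1 : S.homologyπ b ≫ homologyMap (topMap K b) b =
      cyclesMap (topMap K b) b ≫ K.homologyπ b := homologyπ_naturality _ b
  have e2 : cyclesMap (topMap K b) b ≫ K.iCycles b = S.iCycles b ≫ (topMap K b).f b :=
    cyclesMap_i _ b
  have e3 : (topMap K b).f b = (singleObjXSelf (ComplexShape.up ℤ) b (K.X b)).hom := by
    dsimp only [topMap]
    rw [mkHomFromSingle_f, Category.comp_id]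
  have h4 : IsIso (cyclesMap (topMap K b) b) := by
    have : IsIso (cyclesMap (topMap K b) b ≫ K.iCycles b) := by
      rw [e2, e3]
      infer_instance
    exact IsIso.of_isIso_comp_right _ (K.iCycles b)
  have : Epi (S.homologyπ b ≫ homologyMap (topMap K b) b) := by
    rw [e1]
    infer_instance
  exact epi_of_epi (S.homologyπ b) _

lemma epi_homology_single_map {M M' : A} (q : M' ⟶ M) [Epi q] (b : ℤ) :
    Epi ((DerivedCategory.homologyFunctor A b).map ((DerivedCategory.singleFunctor A b).map q)) := by
  have nat := (singleFunctorCompHomologyFunctorIso A b).hom.naturality q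
  dsimp only [Functor.comp_map, Functor.id_map] at nat
  have e : (DerivedCategory.homologyFunctor A b).map ((DerivedCategory.singleFunctor A b).map q) =
      ((singleFunctorCompHomologyFunctorIso A b).hom.app M' ≫ q) ≫
        (singleFunctorCompHomologyFunctorIso A b).inv.app M := by
    rw [← nat, Category.assoc, Iso.hom_inv_id_app]
    exact (Category.comp_id _).symm
  rw [e]
  infer_instance

theorem main (hneg : ∀ X : A, ∃ (N : A) (p : N ⟶ X), Epi p ∧ ∀ f : X ⟶ N, f = 0)
    (X X' : DerivedCategory A) (f : X ⟶ X') (b : ℤ) [X.IsLE b] [X'.IsLE (b - 1)] :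
    ∃ (N : A) (g : (DerivedCategory.singleFunctor A b).obj N ⟶ X),
      Epi ((DerivedCategory.homologyFunctor A b).map g) ∧
        (∀ φ : (DerivedCategory.homologyFunctor A b).obj X ⟶ N, φ = 0) ∧ g ≫ f = 0 := by
  obtain ⟨K, hK, ⟨e⟩⟩ := X.exists_iso_Q_obj_of_isLE b
  let g₀ : (DerivedCategory.singleFunctor A b).obj (K.X b) ⟶ X :=
    (singleFunctorIsoCompQ A b).hom.app (K.X b) ≫ Q.map (topMap K b) ≫ e.inv
  have hg₀ : Epi ((DerivedCategory.homologyFunctor A b).map g₀) := by
    have hmid : Epi ((DerivedCategory.homologyFunctor A b).map (Q.map (topMap K b))) := by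
      have nat := (homologyFunctorFactors A b).hom.naturality (topMap K b)
      dsimp only [Functor.comp_map] at nat
      have := epi_homologyMap_topMap K b
      have e' : (DerivedCategory.homologyFunctor A b).map (Q.map (topMap K b)) =
          ((homologyFunctorFactors A b).hom.app _ ≫
            (HomologicalComplex.homologyFunctor A (ComplexShape.up ℤ) b).map (topMap K b)) ≫
            (homologyFunctorFactors A b).inv.app _ := by
        rw [← nat, Category.assoc, Iso.hom_inv_id_app]
        exact (Category.comp_id _).symm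
      rw [e']
      have : Epi ((HomologicalComplex.homologyFunctor A (ComplexShape.up ℤ) b).map (topMap K b)) :=
        this
      infer_instance
    dsimp only [g₀]
    rw [Functor.map_comp, Functor.map_comp]
    infer_instance
  obtain ⟨N₁, p₁, hp₁, h₁⟩ := efface b (g₀ ≫ f)
  obtain ⟨N₂, p₂, hp₂, h₂⟩ := hneg N₁
  have hε : Epi ((DerivedCategory.homologyFunctor A b).map
      ((DerivedCategory.singleFunctor A b).map p₁ ≫ g₀)) := by
    rw [Functor.map_comp]
    have := epi_homology_single_map p₁ b
    infer_instance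
  refine ⟨N₂, (DerivedCategory.singleFunctor A b).map p₂ ≫
    (DerivedCategory.singleFunctor A b).map p₁ ≫ g₀, ?_, ?_, ?_⟩
  · rw [Functor.map_comp]
    have := epi_homology_single_map p₂ b
    infer_instance
  · intro φ
    have h0 := h₂ (((singleFunctorCompHomologyFunctorIso A b).inv.app N₁ ≫
      (DerivedCategory.homologyFunctor A b).map
        ((DerivedCategory.singleFunctor A b).map p₁ ≫ g₀)) ≫ φ)
    have : Epi ((singleFunctorCompHomologyFunctorIso A b).inv.app N₁ ≫
      (DerivedCategory.homologyFunctor A b).map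
        ((DerivedCategory.singleFunctor A b).map p₁ ≫ g₀)) := inferInstance
    exact (cancel_epi _).1 (h0.trans comp_zero.symm)
  · rw [Category.assoc, Category.assoc, h₁, comp_zero]

open CategoryTheory.Limits in
/-- Let A be an abelian category in which every object X is the target of an epimorphism N ⟶ X with
Hom(X, N) = 0. Let f : X ⟶ X' be a morphism between bounded objects of D(A) and b an integer with
H^i(X) = 0 for i > b and H^i(X') = 0 for i ≥ b. Then there exist an object N of A and a morphism
N⟦-b⟧ ⟶ X (N placed in degree b) inducing an epimorphism N ⟶ H^b(X), with Hom(H^b(X), N) = 0, and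
whose composite with f is zero. -/
theorem result
    {A : Type u} [Category.{v} A] [Abelian A] [HasDerivedCategory.{w} A]
    (hneg : ∀ X : A, ∃ (N : A) (p : N ⟶ X), Epi p ∧ ∀ f : X ⟶ N, f = 0)
    (X X' : DerivedCategory A) (f : X ⟶ X') (a b a' : ℤ) [X.IsGE a] [X.IsLE b] [X'.IsGE a']
    [X'.IsLE (b - 1)] :
    ∃ (N : A) (g : (DerivedCategory.singleFunctor A b).obj N ⟶ X),
      Epi ((DerivedCategory.homologyFunctor A b).map g) ∧
        (∀ φ : (DerivedCategory.homologyFunctor A b).obj X ⟶ N, φ = 0) ∧ g ≫ f = 0 := by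
  exact main hneg X X' f b

end Groth.Agent.S6707
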