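import Groth.Statements.S0412
import Groth.Agent.Lib.Helper5.SmoothSection

set_option autoImplicit false
universe u
open FlatMor

namespace Groth.Agent.S0412

open AlgebraicGeometry CategoryTheory Limits in
/-- A smooth morphism admits sections étale-locally on the target: every point in the image has an étale
neighbourhood over which the morphism has a section. -/
theorem result {X S : Scheme.{u}} (f : X ⟶ S) [Smooth f] (s : S) (hs : s ∈ Set.range f) :
    ∃ (S' : Scheme.{u}) (g : S' ⟶ S) (s' : S'), Etale g ∧ g s' = s ∧ ∃ h : S' ⟶ X, h ≫ f = g := by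
  obtain ⟨x, rfl⟩ := hs
  obtain ⟨_, ⟨W, hW : IsAffineOpen W, rfl⟩, hsW, -⟩ := S.isBasis_affineOpens.exists_subset_of_mem_open
    (Set.mem_univ (f x)) isOpen_univ
  obtain ⟨_, ⟨V, hV : IsAffineOpen V, rfl⟩, hxV, hVW⟩ := X.isBasis_affineOpens.exists_subset_of_mem_open
    (show x ∈ (f ⁻¹ᵁ W : Set X) from hsW) (f ⁻¹ᵁ W).isOpen
  have e : V ≤ f ⁻¹ᵁ W := hVW
  have hsm : (f.appLE W V e).hom.Smooth := Smooth.smooth_appLE f hW hV e
  algebraize [(f.appLE W V e).hom]
  let q : Ideal Γ(X, V) := (hV.primeIdealOf ⟨x, hxV⟩).asIdeal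
  obtain ⟨A', _, _, hA', τ, p', hp', hcomap⟩ :=
    Groth.Agent.Lib.helper5.SmoothSection.exists_etale_section (A := Γ(S, W)) (B := Γ(X, V)) q
  let φ : Γ(S, W) ⟶ .of A' := CommRingCat.ofHom (algebraMap Γ(S, W) A')
  have hφ : φ.hom.Etale := RingHom.etale_algebraMap.mpr hA'
  have : Etale (Spec.map φ) := HasRingHomProperty.Spec_iff.mpr hφ
  let τ' : Γ(X, V) ⟶ .of A' := CommRingCat.ofHom τ.toRingHom
  have hτ : f.appLE W V e ≫ τ' = φ := by
    ext a
    exact τ.commutes a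
  refine ⟨Spec (.of A'), Spec.map φ ≫ hW.fromSpec, ⟨p', hp'⟩, inferInstance, ?_,
    Spec.map τ' ≫ hV.fromSpec, ?_⟩
  · have h1 : Spec.map φ ⟨p', hp'⟩ = Spec.map (f.appLE W V e) (hV.primeIdealOf ⟨x, hxV⟩) := by
      apply PrimeSpectrum.ext
      exact hcomap
    rw [Scheme.Hom.comp_apply, h1, ← Scheme.Hom.comp_apply,
      IsAffineOpen.SpecMap_appLE_fromSpec f hW hV e, Scheme.Hom.comp_apply,
      IsAffineOpen.fromSpec_primeIdealOf]
  · rw [Category.assoc, ← IsAffineOpen.SpecMap_appLE_fromSpec f hW hV e, ← Category.assoc,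
      ← Spec.map_comp, hτ]

end Groth.Agent.S0412
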