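import Groth.Statements.S0074
import Groth.Agent.Lib.Helper5.HensSection
import Mathlib.AlgebraicGeometry.Sites.EtalePoint

set_option autoImplicit false
open CategoryTheory CategoryTheory.Limits AlgebraicGeometry Opposite
universe u
open EtBase

namespace Groth.Agent.S0074

/-- On the spectrum of a strictly henselian local ring, global sections of an abelian étale sheaf map
bijectively onto the stalk at the geometric closed point. -/
theorem result (R : Type u) [CommRing R] [HenselianLocalRing R]
    [IsSepClosed (IsLocalRing.ResidueField R)] (F : EtCoh.Ab (Spec (CommRingCat.of R))) :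
    Function.Bijective ((Scheme.pointSmallEtale
      (Spec.map (CommRingCat.ofHom (IsLocalRing.residue R)))).toPresheafFiber
        (EtCoh.top (Spec (CommRingCat.of R)))
        (Over.homMk (Spec.map (CommRingCat.ofHom (IsLocalRing.residue R))) (Category.comp_id _)) F.obj) := by
  let X := Spec (CommRingCat.of R)
  let ξ : Spec (CommRingCat.of (IsLocalRing.ResidueField R)) ⟶ X :=
    Spec.map (CommRingCat.ofHom (IsLocalRing.residue R))
  let Φ := Scheme.pointSmallEtale ξ
  let U₀ : X.Etale := EtCoh.top X
  let x₀ : Φ.fiber.obj U₀ := Over.homMk ξ (Category.comp_id _)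
  have : PreservesFilteredColimitsOfSize.{u, u} (forget AddCommGrpCat.{u + 1}) :=
    preservesFilteredColimitsOfSize_shrink.{u, u + 1, u, u + 1} _
  have key : ∀ (V : X.Etale) (y : Φ.fiber.obj V), ∃ σ : U₀ ⟶ V, Φ.fiber.map σ x₀ = y := by
    intro V y
    have hV : Etale V.hom := V.prop
    obtain ⟨σ, hσ1, hσ2⟩ := Groth.Agent.Lib.helper5.HensSection.exists_section_of_etale R V.hom y.left
      (Over.w y)
    refine ⟨MorphismProperty.Over.homMk σ hσ1, ?_⟩
    apply Over.OverMorphism.ext
    exact hσ2
  have hterm : ∀ (f : U₀ ⟶ U₀), f = 𝟙 U₀ := by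
    intro f
    apply MorphismProperty.Over.Hom.ext
    have h := MorphismProperty.Over.w f
    have h' : f.left ≫ 𝟙 X = 𝟙 X := h
    exact (Category.comp_id f.left).symm.trans h'
  change Function.Bijective (Φ.toPresheafFiber U₀ x₀ F.obj)
  constructor
  · intro s s' h
    obtain ⟨V, g, y, hy, hs⟩ := (Φ.toPresheafFiber_eq_iff' U₀ x₀ s s').1 h
    obtain ⟨σ, hσ⟩ := key V y
    have h1 : σ ≫ g = 𝟙 U₀ := hterm _
    have h2 := congrArg (F.obj.map σ.op) hs
    rw [← ConcreteCategory.comp_apply, ← ConcreteCategory.comp_apply, ← F.obj.map_comp, ← op_comp, h1,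
      op_id, F.obj.map_id] at h2
    exact h2
  · intro z
    obtain ⟨V, y, t, rfl⟩ := Φ.toPresheafFiber_jointly_surjective z
    obtain ⟨σ, hσ⟩ := key V y
    refine ⟨F.obj.map σ.op t, ?_⟩
    rw [← hσ]
    exact Φ.toPresheafFiber_w_apply σ x₀ F.obj t

end Groth.Agent.S0074
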