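import Groth.Statements.S6153
import Mathlib
import Groth.Agent.Lib.Helper21.ModFree
-- import your own Groth.Agent.* helpers here

set_option autoImplicit false
universe u
open CategoryTheory
open ModSite

namespace Groth.Agent.S6153


section helpers

open Groth.Agent.Lib.Helper21.ModFree Opposite

/-- co-Yoneda: objects with naturally isomorphic covariant hom functors are isomorphic -/
def isoOfHomEquiv {E : Type*} [Category* E] {A B : E} (Ψ : ∀ M : E, (A ⟶ M) ≃ (B ⟶ M))
    (nat : ∀ (M N : E) (h : A ⟶ M) (g : M ⟶ N), Ψ N (h ≫ g) = Ψ M h ≫ g) : A ≅ B where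
  hom := (Ψ B).symm (𝟙 B)
  inv := Ψ A (𝟙 A)
  hom_inv_id := by
    apply (Ψ A).injective
    rw [nat, Equiv.apply_symm_apply, Category.id_comp]
  inv_hom_id := by
    have := nat A B (𝟙 A) ((Ψ B).symm (𝟙 B))
    rw [Category.id_comp, Equiv.apply_symm_apply] at this
    exact this.symm

variable {C D : Type u} [SmallCategory C] [SmallCategory D] {J : GrothendieckTopology C}
    {K : GrothendieckTopology D} {O_C : Sheaf J CommRingCat.{u}} {O_D : Sheaf K CommRingCat.{u}}

lemma freeOnHomEquiv_symm_comp (X : C) {M N : ModSite.Mod O_C} (t : M.val.obj (op X)) (g : M ⟶ N) :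
    (freeOnHomEquiv O_C X M).symm t ≫ g = (freeOnHomEquiv O_C X N).symm (g.val.app (op X) t) := by
  apply (freeOnHomEquiv O_C X N).injective
  rw [freeOnHomEquiv_comp, Equiv.apply_symm_apply, Equiv.apply_symm_apply]

/-- sections of the direct image -/
def pushSect (f : ModSite.RMor O_C O_D) (X : D) (M : ModSite.Mod O_C) :
    (f.push.obj M).val.obj (op X) ≃ M.val.obj (op (f.fn.obj X)) := Equiv.refl _

lemma pushSect_nat (f : ModSite.RMor O_C O_D) (X : D) {M N : ModSite.Mod O_C} (g : M ⟶ N)
    (t : (f.push.obj M).val.obj (op X)) :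
    pushSect f X N ((f.push.map g).val.app (op X) t) = g.val.app (op (f.fn.obj X)) (pushSect f X M t) :=
  rfl

end helpers

/-- Morphisms of ringed sites between small sites with commutative structure sheaves: for a morphism of
ringed sites f : (C, O_C) -> (D, O_D) given by a functor u : D -> C and every object X of D, the
inverse image f^*(A'_X) of the free O_D-module on X is isomorphic to the free O_C-module A_{u(X)} on
u(X). Existence of an isomorphism of modules only (the source's isomorphism is the canonical one). -/
theorem result {C D : Type u} [SmallCategory C] [SmallCategory D] {J : GrothendieckTopology C}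
    {K : GrothendieckTopology D} {O_C : Sheaf J CommRingCat.{u}} {O_D : Sheaf K CommRingCat.{u}}
    (f : ModSite.RMor O_C O_D) (X : D) :
    Nonempty (f.pull.obj (ModSite.freeOn O_D X) ≅ ModSite.freeOn O_C (f.fn.obj X)) := by
  refine ⟨isoOfHomEquiv (fun M => (f.adj.homEquiv _ M).trans
    ((Groth.Agent.Lib.Helper21.ModFree.freeOnHomEquiv O_D X (f.push.obj M)).trans
      ((pushSect f X M).trans
        (Groth.Agent.Lib.Helper21.ModFree.freeOnHomEquiv O_C (f.fn.obj X) M).symm))) ?_⟩
  intro M N h g
  simp only [Equiv.trans_apply]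
  rw [Adjunction.homEquiv_naturality_right, Groth.Agent.Lib.Helper21.ModFree.freeOnHomEquiv_comp,
    pushSect_nat, freeOnHomEquiv_symm_comp]

end Groth.Agent.S6153
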