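import Groth.Statements.S1996
import Mathlib

set_option autoImplicit false
universe u
open EtAlg

namespace Groth.Agent.S1996

open TensorProduct in
lemma flat_of_comp (R S T : Type u) [CommRing R] [CommRing S] [CommRing T] [Algebra R S]
    [Algebra S T] [Algebra R T] [IsScalarTower R S T] [Module.Flat R T]
    [Module.FaithfullyFlat S T] : Module.Flat R S := by
  rw [Module.Flat.iff_lTensor_preserves_injective_linearMap]
  intro N P _ _ _ _ f hf
  have h1 : Function.Injective (f.lTensor T) :=
    Module.Flat.lTensor_preserves_injective_linearMap f hf
  have h2 : Function.Injective ((f.baseChange S).lTensor T) := by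
    have : (f.baseChange S).lTensor T =
        (AlgebraTensorModule.cancelBaseChange R S S T P).symm.toLinearMap ∘ₗ
          ((f.baseChange T).restrictScalars S) ∘ₗ
            (AlgebraTensorModule.cancelBaseChange R S S T N).toLinearMap := by
      ext t s
      simp
    rw [this]
    simp only [LinearMap.coe_comp, LinearEquiv.coe_coe, LinearMap.coe_restrictScalars]
    refine (LinearEquiv.injective _).comp (Function.Injective.comp ?_ (LinearEquiv.injective _))
    exact h1
  exact (Module.FaithfullyFlat.lTensor_injective_iff_injective S T (f.baseChange S)).1 h2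

lemma ringHom_flat_of_comp {R S T : Type u} [CommRing R] [CommRing S] [CommRing T]
    (f : R →+* S) (g : S →+* T) (hg : g.FaithfullyFlat) (h : (g.comp f).Flat) : f.Flat := by
  algebraize [f, g, g.comp f]
  have : Module.Flat R S := flat_of_comp R S T
  exact RingHom.flat_algebraMap_iff.2 this

/-- Let A -> B -> C be ring maps with B -> C faithfully flat. Weak etaleness of A -> C then implies weak
etaleness of A -> B. -/
theorem result (A B C : Type u) [CommRing A] [CommRing B] [CommRing C] [Algebra A B]
    [Algebra B C] [Algebra A C] [IsScalarTower A B C] [Module.FaithfullyFlat B C] [Algebra.WeaklyEtale A C] :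
    Algebra.WeaklyEtale A B := by
  have hAB : Module.Flat A B := flat_of_comp A B C
  refine ⟨hAB, ?_⟩
  have hBC : (IsScalarTower.toAlgHom A B C).Flat := by
    change (algebraMap B C).Flat
    exact RingHom.flat_algebraMap_iff.2 inferInstance
  have hm : (Algebra.TensorProduct.map (IsScalarTower.toAlgHom A B C)
      (IsScalarTower.toAlgHom A B C)).Flat := RingHom.Flat.tensorProductMap hBC hBC
  have hC := Algebra.WeaklyEtale.flat_lmul' A C
  have hcomp : ((Algebra.TensorProduct.lmul' A (S := C)).comp
      (Algebra.TensorProduct.map (IsScalarTower.toAlgHom A B C)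
        (IsScalarTower.toAlgHom A B C))).Flat := RingHom.Flat.comp hm hC
  have heq : (Algebra.TensorProduct.lmul' A (S := C)).comp
      (Algebra.TensorProduct.map (IsScalarTower.toAlgHom A B C)
        (IsScalarTower.toAlgHom A B C)) =
      (IsScalarTower.toAlgHom A B C).comp (Algebra.TensorProduct.lmul' A (S := B)) := by
    ext <;> simp
  rw [heq] at hcomp
  refine ringHom_flat_of_comp _ (algebraMap B C) ?_ hcomp
  exact RingHom.faithfullyFlat_algebraMap_iff.2 inferInstance

end Groth.Agent.S1996
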