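import Groth.Statements.S0426
import Mathlib
import Groth.Agent.S1996
import Groth.Agent.Lib.Helper3.WEtale

set_option autoImplicit false
universe u
open FlatMor

namespace Groth.Agent.S0426

/-- A field extension L/K such that L is weakly étale over K (equivalently the multiplication map of L
⊗_K L is flat) is algebraic and separable. -/
theorem result {K L : Type u} [Field K] [Field L] [Algebra K L] [Algebra.WeaklyEtale K L] : Algebra.IsSeparable K L := by
  refine ⟨fun x => ?_⟩
  let F := IntermediateField.adjoin K {x}
  have hff : Module.FaithfullyFlat F L := inferInstance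
  have hwe : Algebra.WeaklyEtale K F := Groth.Agent.S1996.result K F L
  have hfu : Algebra.FormallyUnramified K F :=
    Groth.Agent.Lib.helper3.WEtale.formallyUnramified K F
  have hess : Algebra.EssFiniteType K F :=
    IntermediateField.essFiniteType_iff.mpr ⟨{x}, by simp [F]⟩
  have hsep : Algebra.IsSeparable K F := Algebra.FormallyUnramified.isSeparable K F
  have h1 := hsep.isSeparable' ⟨x, IntermediateField.mem_adjoin_simple_self K x⟩
  have h2 : minpoly K (⟨x, IntermediateField.mem_adjoin_simple_self K x⟩ : F) = minpoly K x :=
    (minpoly.algebraMap_eq (algebraMap F L).injective _).symm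
  unfold IsSeparable at h1 ⊢
  rwa [h2] at h1

end Groth.Agent.S0426
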