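import Groth.Statements.S7130
import Mathlib

set_option autoImplicit false
universe u
open EtAlg

namespace Groth.Agent.S7130

/-- (2) ⇔ (3) ⇔ (4): for a ring A the following are equivalent: every A-module is flat; A is reduced of
Krull dimension zero, in the sense that every prime ideal of A is maximal; the local ring A_p is a
field for every prime p. (The further equivalent condition 'A has weak dimension at most zero'
coincides with the first condition by definition and is not listed separately.) -/
theorem result (A : Type u) [CommRing A] :
    List.TFAE [∀ (M : Type u) [AddCommGroup M] [Module A M], Module.Flat A M,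
      IsReduced A ∧ ∀ p : Ideal A, p.IsPrime → p.IsMaximal,
      ∀ (p : Ideal A) [p.IsPrime], IsField (Localization.AtPrime p)] := by
  tfae_have 1 → 2 := by
    intro h
    have key : ∀ a : A, ∃ b : A, a = a * a * b := by
      intro a
      have : (Ideal.span {a}).Pure := h _
      obtain ⟨y, hy, hxy⟩ := Ideal.exists_eq_mul_of_pure (Ideal.mem_span_singleton_self a)
      obtain ⟨b, rfl⟩ := Ideal.mem_span_singleton'.mp hy
      exact ⟨b, hxy.trans (by ring)⟩
    refine ⟨?_, ?_⟩
    · rw [isReduced_iff_pow_one_lt 2 (by norm_num)]
      intro x hx
      obtain ⟨b, hb⟩ := key x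
      rw [hb, ← pow_two, hx, zero_mul]
    · intro p hp
      rw [Ideal.isMaximal_iff]
      refine ⟨hp.one_notMem, fun J x hpJ hxp hxJ => ?_⟩
      obtain ⟨b, hb⟩ := key x
      have h0 : x * (1 - x * b) = 0 := by
        rw [mul_sub, mul_one, ← mul_assoc, ← hb, sub_self]
      have h1 : 1 - x * b ∈ p := by
        have : x * (1 - x * b) ∈ p := by rw [h0]; exact p.zero_mem
        exact (hp.mem_or_mem this).resolve_left hxp
      have h2 : (1 : A) = (1 - x * b) + x * b := by ring
      rw [h2]
      exact J.add_mem (hpJ h1) (J.mul_mem_right _ hxJ)
  tfae_have 2 → 3 := by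
    rintro ⟨hred, hmax⟩ p hp
    have hK : Ring.KrullDimLE 0 A := Ring.krullDimLE_zero_iff.mpr hmax
    have hpmin : p ∈ minimalPrimes A := by
      rw [Ring.KrullDimLE.minimalPrimes_eq_setOfPred_isPrime]
      exact hp
    have : Ring.KrullDimLE 0 (Localization.AtPrime p) :=
      Ring.KrullDimLE.of_isLocalization p hpmin _
    exact Ring.KrullDimLE.isField_of_isReduced
  tfae_have 3 → 1 := by
    intro h M _ _
    apply Module.flat_of_localized_maximal
    intro P hP
    let := (h P).toField
    have h1 : Module.Flat (Localization.AtPrime P) (LocalizedModule P.primeCompl M) :=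
      inferInstance
    exact Module.Flat.trans A (Localization.AtPrime P) _
  tfae_finish

end Groth.Agent.S7130
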