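import Groth.Statements.S5602
import Mathlib
-- import your own Groth.Agent.* helpers here

set_option autoImplicit false
universe w v u
open CategoryTheory CategoryTheory.Limits
open PCoh

namespace Groth.Agent.S5602

section Aux

variable {C : Type u} [Category.{v} C] [Abelian C] (E : CochainComplex C ℤ) (n : ℤ)

/-- terms of the auxiliary `ℕ`-indexed complex `Z^n → E^n → E^{n+1} → ⋯`. -/
noncomputable def auxX : ℕ → C
  | 0 => E.cycles n
  | (j + 1) => E.X (n + j)

/-- differentials of the auxiliary complex. -/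
noncomputable def auxD : ∀ j : ℕ, auxX E n j ⟶ auxX E n (j + 1)
  | 0 => E.iCycles n ≫ (E.XIsoOfEq (by simp : n = n + ((0 : ℕ) : ℤ))).hom
  | (j + 1) => E.d (n + j) (n + ((j + 1 : ℕ) : ℤ))

lemma auxD_sq (j : ℕ) : auxD E n j ≫ auxD E n (j + 1) = 0 := by
  cases j with
  | zero =>
    show (E.iCycles n ≫ (E.XIsoOfEq _).hom) ≫ E.d (n + ((0 : ℕ) : ℤ)) (n + ((0 + 1 : ℕ) : ℤ)) = 0
    rw [Category.assoc, HomologicalComplex.XIsoOfEq_hom_comp_d, HomologicalComplex.iCycles_d]
  | succ j =>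
    show E.d (n + j) (n + ((j + 1 : ℕ) : ℤ)) ≫ E.d (n + ((j + 1 : ℕ) : ℤ)) _ = 0
    exact E.d_comp_d _ _ _

/-- the auxiliary complex. -/
noncomputable def aux : CochainComplex C ℕ := CochainComplex.of (auxX E n) (auxD E n) (auxD_sq E n)

lemma aux_d (j : ℕ) : (aux E n).d j (j + 1) = auxD E n j := CochainComplex.of_d _ _ j

lemma aux_exactAt_zero : (aux E n).ExactAt 0 := by
  rw [HomologicalComplex.exactAt_iff' _ 0 0 1 (by simp) (by simp)]
  rw [ShortComplex.exact_iff_mono _ ((aux E n).shape 0 0 (by simp))]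
  show Mono ((aux E n).d 0 1)
  rw [aux_d]
  show Mono (E.iCycles n ≫ (E.XIsoOfEq _).hom)
  infer_instance

lemma aux_exactAt_one : (aux E n).ExactAt 1 := by
  rw [HomologicalComplex.exactAt_iff' _ 0 1 2 (by simp) (by simp)]
  have hT : (ShortComplex.mk (E.iCycles n) (E.d n (n + 1)) (by simp)).Exact :=
    ShortComplex.exact_of_f_is_kernel _ (E.cyclesIsKernel n (n + 1) (by simp))
  refine ShortComplex.exact_of_iso ?_ hT
  refine ShortComplex.isoMk (Iso.refl _) (E.XIsoOfEq (by simp : n = n + ((0 : ℕ) : ℤ)))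
    (E.XIsoOfEq (by simp : n + 1 = n + ((0 + 1 : ℕ) : ℤ))) ?_ ?_
  · show 𝟙 _ ≫ (aux E n).d 0 1 = E.iCycles n ≫ (E.XIsoOfEq _).hom
    rw [aux_d, Category.id_comp]
    rfl
  · show (E.XIsoOfEq _).hom ≫ (aux E n).d 1 2 = E.d n (n + 1) ≫ (E.XIsoOfEq _).hom
    rw [aux_d]
    show (E.XIsoOfEq _).hom ≫ E.d (n + ((0 : ℕ) : ℤ)) (n + ((0 + 1 : ℕ) : ℤ)) = _
    rw [HomologicalComplex.XIsoOfEq_hom_comp_d, HomologicalComplex.d_comp_XIsoOfEq_hom]

lemma aux_exactAt_succ_succ (j : ℕ) (h : E.ExactAt (n + ((j + 1 : ℕ) : ℤ))) :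
    (aux E n).ExactAt (j + 2) := by
  rw [HomologicalComplex.exactAt_iff' _ (j + 1) (j + 2) (j + 3) (by simp) (by simp)]
  rw [HomologicalComplex.exactAt_iff' _ (n + (j : ℤ)) (n + ((j + 1 : ℕ) : ℤ))
    (n + ((j + 1 + 1 : ℕ) : ℤ)) (by simp; omega) (by simp; omega)] at h
  refine ShortComplex.exact_of_iso ?_ h
  refine ShortComplex.isoMk (Iso.refl _) (Iso.refl _) (Iso.refl _) ?_ ?_
  · show 𝟙 _ ≫ (aux E n).d (j + 1) (j + 2) = E.d _ _ ≫ 𝟙 _
    rw [aux_d, Category.id_comp, Category.comp_id]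
    rfl
  · show 𝟙 _ ≫ (aux E n).d (j + 2) (j + 3) = E.d _ _ ≫ 𝟙 _
    rw [aux_d, Category.id_comp, Category.comp_id]
    rfl

end Aux

/-- Let C be an abelian category and C₀ a class of objects, closed under isomorphisms and quasi-stable
under kernels of epimorphisms. If E is strictly n-pseudo-coherent (bounded above, terms in C₀ from
degree n on) and H^i(E) = 0 for i > n, then H^n(E) is of C₀-finite type. -/
theorem result {C : Type u} [Category.{v} C] [Abelian C]
    (P : ObjectProperty C) [P.IsClosedUnderIsomorphisms] (hqs : PCoh.IsQuasiStableUnderKernels P)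
    (n : ℤ) (E : CochainComplex C ℤ) (hE : PCoh.IsStrictPC P n E)
    (hac : ∀ i : ℤ, n < i → IsZero (E.homology i)) :
    PCoh.IsOfFiniteType P (E.homology n) := by
  obtain ⟨⟨b, hb⟩, hP⟩ := hE
  have hfin : PCoh.IsOfFiniteType P ((aux E n).X 0) := by
    refine hqs (aux E n) ?_ ?_ ?_
    · intro j
      rcases j with _ | _ | j
      · exact aux_exactAt_zero E n
      · exact aux_exactAt_one E n
      · refine aux_exactAt_succ_succ E n j ?_
        rw [HomologicalComplex.exactAt_iff_isZero_homology]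
        exact hac _ (by push_cast; omega)
    · refine ⟨(b - n).toNat + 1, ?_⟩
      intro j hj
      rcases j with _ | j
      · omega
      · show IsZero (E.X (n + j))
        exact hb _ (by omega)
    · intro j hj
      rcases j with _ | j
      · omega
      · show P (E.X (n + j))
        exact hP _ (by omega)
  obtain ⟨L, π, hL, hπ⟩ := hfin
  haveI := hπ
  change L ⟶ E.cycles n at π
  haveI : Epi π := hπ
  exact ⟨L, π ≫ E.homologyπ n, hL, epi_comp _ _⟩

end Groth.Agent.S5602
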