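import Groth.Statements.S12583
import Mathlib
import Groth.Agent.Lib.Helper13.LaurentTaylor
import Groth.Agent.Lib.Helper10.FunFld1
-- import your own Groth.Agent.* helpers here

set_option autoImplicit false
universe u v w
open FunFld

namespace Groth.Agent.S12583

open Polynomial in
/-- Uniqueness of Hensel lifts in a power series ring over a domain. -/
theorem hensel_unique {S K L : Type*} [CommRing S] [CommRing K] [Algebra S K] [CommRing L]
    [IsDomain L] (A B : K →+* PowerSeries L)
    (hAB : ∀ s : S, A (algebraMap S K s) = B (algebraMap S K s)) (z : K)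
    (h0 : PowerSeries.constantCoeff (A z) = PowerSeries.constantCoeff (B z))
    (g : S[X]) (hg : aeval z g = 0)
    (hg' : PowerSeries.constantCoeff (A (aeval z (derivative g))) ≠ 0) : A z = B z := by
  set G : (PowerSeries L)[X] := g.map (A.comp (algebraMap S K)) with hG
  have hG2 : G = g.map (B.comp (algebraMap S K)) := by
    rw [hG]
    congr 1
    ext1 s
    exact hAB s
  have hA : G.eval (A z) = 0 := by
    rw [hG, Polynomial.eval_map, ← Polynomial.hom_eval₂, ← Polynomial.aeval_def, hg, map_zero]
  have hB : G.eval (B z) = 0 := by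
    rw [hG2, Polynomial.eval_map, ← Polynomial.hom_eval₂, ← Polynomial.aeval_def, hg, map_zero]
  have hA' : (derivative G).eval (A z) = A (aeval z (derivative g)) := by
    rw [hG, Polynomial.derivative_map, Polynomial.eval_map, ← Polynomial.hom_eval₂,
      ← Polynomial.aeval_def]
  obtain ⟨c, hc⟩ := G.binomExpansion (A z) (B z - A z)
  rw [add_sub_cancel, hA, hB, zero_add] at hc
  have hc2 : (B z - A z) * ((derivative G).eval (A z) + c * (B z - A z)) = 0 := by
    rw [hc]; ring
  rcases mul_eq_zero.mp hc2 with h | h
  · exact (sub_eq_zero.mp h).symm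
  · exfalso
    apply hg'
    have := congrArg PowerSeries.constantCoeff h
    rw [map_add, map_mul, map_sub, h0, sub_self, mul_zero, add_zero, map_zero, hA'] at this
    exact this


/-- At a separable place `P` of a geometric function field of one variable `K/k` with local parameter
`t`, if `x ∈ O_P` has expansion `∑ a_m t^m` then the Hasse derivative `D_t^{(n)}(x)` expands as the
series with coefficients `C(m,n) a_m` in degree `m - n`; in particular `D_t^{(n)}(O_P) ⊆ O_P`. Here
`φ` is a Laurent expansion over `k` at `P` with `φ t = X` and `H` is the total Hasse derivative with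
respect to `t`. -/
theorem result (k : Type u) (K : Type v) [Field k] [Field K] [Algebra k K] (hK : FunFld.IsFunctionField k K) (hg : FunFld.IsGeometric k K)
    (P : FunFld.Place k K) (F : Type w) [Field F] [Algebra k F]
    (φ : K →ₐ[k] LaurentSeries F) (hφ : LocRes.IsExpansionAt P.1 φ)
    (t : K) (ht : φ t = HahnSeries.single 1 1)
    (H : K →ₐ[k] PowerSeries K) (hH : LocRes.IsHasseFamily t H)
    (x : K) (hx : P.1 x ≤ 1) (n : ℕ) :
    φ (LocRes.hasseD H n x) = LaurentSeries.hasseDeriv F n (φ x) := by
  classical
  let A : K →+* PowerSeries (LaurentSeries F) :=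
    (PowerSeries.map φ.toRingHom).comp H.toRingHom
  let B : K →+* PowerSeries (LaurentSeries F) :=
    Groth.Agent.Lib.helper13.LaurentTaylor.taylor.comp φ.toRingHom
  suffices h : ∀ y : K, A y = B y by
    have h1 := congrArg (PowerSeries.coeff n) (h x)
    simpa [A, B, LocRes.hasseD] using h1
  have hccA : ∀ y : K, PowerSeries.constantCoeff (A y) = φ y := by
    intro y
    simp only [A, RingHom.comp_apply]
    rw [← PowerSeries.coeff_zero_eq_constantCoeff_apply, PowerSeries.coeff_map,
      PowerSeries.coeff_zero_eq_constantCoeff_apply]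
    change φ (PowerSeries.constantCoeff (H y)) = φ y
    rw [hH.2 y]
  have hccB : ∀ y : K, PowerSeries.constantCoeff (B y) = φ y := by
    intro y
    simp only [B, RingHom.comp_apply]
    rw [← PowerSeries.coeff_zero_eq_constantCoeff_apply,
      Groth.Agent.Lib.helper13.LaurentTaylor.coeff_taylor, LaurentSeries.hasseDeriv_zero]
    rfl
  have hAk : ∀ c : k, A (algebraMap k K c) = B (algebraMap k K c) := by
    intro c
    simp only [A, B, RingHom.comp_apply]
    change PowerSeries.map φ.toRingHom (H (algebraMap k K c)) =
      Groth.Agent.Lib.helper13.LaurentTaylor.taylor (φ (algebraMap k K c))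
    rw [H.commutes, LocRes.map_algebraMap, Groth.Agent.Lib.helper13.LaurentTaylor.taylor_C,
      PowerSeries.algebraMap_apply, PowerSeries.map_C]
    congr 1
    exact LocRes.map_algebraMap φ c
  have hAt : A t = B t := by
    simp only [A, B, RingHom.comp_apply]
    change PowerSeries.map φ.toRingHom (H t) =
      Groth.Agent.Lib.helper13.LaurentTaylor.taylor (φ t)
    rw [hH.1, ht, Groth.Agent.Lib.helper13.LaurentTaylor.taylor_X, map_add, PowerSeries.map_C,
      PowerSeries.map_X]
    congr 2
  -- the equaliser subfield
  let E : Subfield K :=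
    { carrier := {y | A y = B y}
      mul_mem' := fun {a b} ha hb => by
        simp only [Set.mem_ofPred_eq] at ha hb ⊢
        rw [map_mul, map_mul, ha, hb]
      one_mem' := by simp
      add_mem' := fun {a b} ha hb => by
        simp only [Set.mem_ofPred_eq] at ha hb ⊢
        rw [map_add, map_add, ha, hb]
      zero_mem' := by simp
      neg_mem' := fun {a} ha => by
        simp only [Set.mem_ofPred_eq] at ha ⊢
        rw [map_neg, map_neg, ha]
      inv_mem' := fun y hy => by
        simp only [Set.mem_ofPred_eq] at hy ⊢
        by_cases h : y = 0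
        · rw [h, inv_zero, map_zero, map_zero]
        · have h1 : A y⁻¹ * A y = 1 := by rw [← map_mul, inv_mul_cancel₀ h, map_one]
          have h2 : A y * B y⁻¹ = 1 := by rw [hy, ← map_mul, mul_inv_cancel₀ h, map_one]
          exact left_inv_eq_right_inv h1 h2 }
  let E' : IntermediateField k K := E.toIntermediateField (fun c => hAk c)
  have hmemE : ∀ y : K, y ∈ E' ↔ A y = B y := fun y => Iff.rfl
  have htE : t ∈ E' := hAt
  have ht_tr : Transcendental k t := by
    intro halg
    obtain ⟨c, hc⟩ := hK.2 t halg
    have h1 := ht
    rw [← hc, LocRes.map_algebraMap] at h1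
    have h2 := congrArg (fun s => HahnSeries.coeff s (1 : ℤ)) h1
    simp at h2
  have halg : Algebra.IsAlgebraic (IntermediateField.adjoin k ({t} : Set K)) K :=
    Groth.Agent.Lib.helper10.FF.isAlgebraic_adjoin hK ht_tr
  have hle : IntermediateField.adjoin k ({t} : Set K) ≤ E' :=
    IntermediateField.adjoin_simple_le_iff.mpr htE
  intro y
  have hy : IsAlgebraic E' y :=
    IsAlgebraic.tower_top_of_subalgebra_le
      (A := (IntermediateField.adjoin k ({t} : Set K)).toSubalgebra) (B := E'.toSubalgebra) hle
      (halg.isAlgebraic y)
  have hq : ExpChar E' (ringExpChar k) :=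
    expChar_of_injective_ringHom (algebraMap k E').injective (ringExpChar k)
  have hirr : Irreducible (minpoly E' y) := minpoly.irreducible hy.isIntegral
  obtain ⟨g, hgsep, m, hgm⟩ := Irreducible.hasSeparableContraction (ringExpChar k) hirr
  have hz0 : Polynomial.aeval (y ^ (ringExpChar k) ^ m) g = 0 := by
    rw [← Polynomial.expand_aeval, hgm, minpoly.aeval]
  have hder := hgsep.aeval_derivative_ne_zero hz0
  have hz : A (y ^ (ringExpChar k) ^ m) = B (y ^ (ringExpChar k) ^ m) := by
    apply hensel_unique (S := E') A B (fun s => s.2) _ _ g hz0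
    · rw [hccA]
      exact (map_ne_zero φ).mpr hder
    · rw [hccA, hccB]
  rw [map_pow, map_pow] at hz
  have hqR : ExpChar (PowerSeries (LaurentSeries F)) (ringExpChar k) :=
    expChar_of_injective_ringHom (A.comp (algebraMap k K)).injective (ringExpChar k)
  exact iterateFrobenius_inj (PowerSeries (LaurentSeries F)) (ringExpChar k) m hz

end Groth.Agent.S12583
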