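import Groth.Statements.S12620
import Mathlib

set_option autoImplicit false
universe u v w
open LocRes

namespace Groth.Agent.S12620

/-- Let `K` be a field with a valuation `w` into `ℤ ∪ {0}` and `φ : K → F((X))` a `k`-algebra expansion
at `w` in a local parameter (valuation-compatible, valuation ring onto the coefficient field `F`,
`w` normalised). Then for every nonzero `f` the residue of the logarithmic differential `f⁻¹ df`
read through `φ` — the `X⁻¹`-coefficient of `φ(f)⁻¹ · (φ f)′` — is the order of `f` at `w` (the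
integer `n` with `w f = exp (-n)`), viewed in `F`. (The published statement is for a complete field
with a perfect coefficient field and its intrinsic residue; read through an expansion neither
completeness nor perfectness plays a role.) -/
theorem result {k : Type u} {K : Type v} {F : Type w} [CommRing k] [Field K] [Field F]
    [Algebra k K] [Algebra k F]
    (w : Valuation K (WithZero (Multiplicative ℤ))) (φ : K →ₐ[k] LaurentSeries F)
    (hφ : LocRes.IsExpansionAt w φ) (f : K) (hf : f ≠ 0) :
    LocRes.resExp φ f⁻¹ f = ((-WithZero.log (w f) : ℤ) : F) := by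
  classical
  obtain ⟨hv, -, -⟩ := hφ
  set g : LaurentSeries F := φ f with hg
  have hg0 : g ≠ 0 := by
    rw [hg]
    exact (map_ne_zero φ).2 hf
  have hinv : φ f⁻¹ = g⁻¹ := by rw [hg, map_inv₀]
  set m : ℤ := g.order with hm
  set G : PowerSeries F := g.powerSeriesPart with hG
  set a : LaurentSeries F := HahnSeries.single m (1 : F) with ha
  set b : LaurentSeries F := ((G : PowerSeries F) : LaurentSeries F) with hb
  have hab : g = a * b := (LaurentSeries.single_order_mul_powerSeriesPart g).symm
  have ha0 : a ≠ 0 := by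
    intro h
    rw [hab, h, zero_mul] at hg0
    exact hg0 rfl
  have hb0 : b ≠ 0 := by
    intro h
    rw [hab, h, mul_zero] at hg0
    exact hg0 rfl
  -- the constant coefficient of `G` is non-zero
  have hG0 : PowerSeries.constantCoeff G ≠ 0 := by
    rw [← PowerSeries.coeff_zero_eq_constantCoeff_apply, hG, LaurentSeries.powerSeriesPart_coeff]
    have := (HahnSeries.coeff_order_eq_zero (x := g)).not.2 hg0
    simpa using this
  have hGinv : G * G⁻¹ = 1 := PowerSeries.mul_inv_cancel G hG0
  have hbinv : b⁻¹ = ((G⁻¹ : PowerSeries F) : LaurentSeries F) := by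
    symm
    apply eq_inv_of_mul_eq_one_right
    rw [hb, ← PowerSeries.coe_mul, hGinv, PowerSeries.coe_one]
  -- valuation of `g`
  have hvb : Valued.v b = (1 : WithZero (Multiplicative ℤ)) := by
    have h1 : Valued.v b ≤ (1 : WithZero (Multiplicative ℤ)) :=
      (LaurentSeries.val_le_one_iff_eq_coe F b).2 ⟨G, rfl⟩
    have h2 : Valued.v b⁻¹ ≤ (1 : WithZero (Multiplicative ℤ)) :=
      (LaurentSeries.val_le_one_iff_eq_coe F b⁻¹).2 ⟨G⁻¹, hbinv.symm⟩
    have h3 : Valued.v b * Valued.v b⁻¹ = (1 : WithZero (Multiplicative ℤ)) := by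
      rw [← map_mul, mul_inv_cancel₀ hb0, map_one]
    apply le_antisymm h1
    calc (1 : WithZero (Multiplicative ℤ)) = Valued.v b * Valued.v b⁻¹ := h3.symm
      _ ≤ Valued.v b * 1 := mul_le_mul_right h2 _
      _ = Valued.v b := mul_one _
  have hvg : w f = WithZero.exp (-m) := by
    rw [← hv, ← hg, hab, map_mul, hvb, mul_one, ha, LaurentSeries.valuation_single_zpow]
  -- the logarithmic derivative
  have hD : LocRes.D F g = a * LocRes.D F b + b * LocRes.D F a := by
    rw [hab, Derivation.leibniz, smul_eq_mul, smul_eq_mul]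
  have hlog : g⁻¹ * LocRes.D F g = b⁻¹ * LocRes.D F b + a⁻¹ * LocRes.D F a := by
    rw [hD, hab]
    field_simp
  have hainv : a⁻¹ = HahnSeries.single (-m) (1 : F) := by
    symm
    apply eq_inv_of_mul_eq_one_right
    rw [ha, HahnSeries.single_mul_single, add_neg_cancel, mul_one]
    rfl
  rw [LocRes.resExp, hinv, ← hg, hlog, map_add, LocRes.res_apply, LocRes.res_apply]
  have h1 : (b⁻¹ * LocRes.D F b).coeff (-1) = 0 := by
    rw [hbinv, hb, LocRes.D_coe, ← PowerSeries.coe_mul, PowerSeries.coeff_coe, if_pos (by norm_num)]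
  have h2 : (a⁻¹ * LocRes.D F a).coeff (-1) = (m : F) := by
    rw [hainv, HahnSeries.coeff_single_mul, one_mul, LocRes.D_coeff, ha]
    have : (-1 : ℤ) - -m + 1 = m := by ring
    rw [this, HahnSeries.coeff_single_same, zsmul_eq_mul, mul_one]
  rw [h1, h2, zero_add, hvg, WithZero.log_exp, neg_neg]

end Groth.Agent.S12620
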