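import Groth.Statements.S12621
import Mathlib.RingTheory.MvPolynomial.Basic
import Mathlib.RingTheory.Derivation.Basic
import Mathlib.Tactic.Ring
import Mathlib.RingTheory.Polynomial.Basic

set_option autoImplicit false
universe u v w
open LocRes

namespace Groth.Agent.S12621

open LaurentSeries HahnSeries

section general
variable (A : Type*) [CommRing A]

/-- coefficient of a power series at an integer index (zero for negative indices). -/
noncomputable def cz (P : PowerSeries A) (i : ℤ) : A := if i < 0 then 0 else PowerSeries.coeff i.toNat P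

/-- the universal expression. -/
noncomputable def Psi (m : ℤ) (n : ℕ) (G : PowerSeries A) : A :=
  cz A (G ^ (n - 1) * PowerSeries.derivative A G) (-1 - m * n) + m • cz A (G ^ n) (-(m * n))

lemma coeff_coe' (P : PowerSeries A) (i : ℤ) : (P : A⸨X⸩).coeff i = cz A P i := by
  rw [PowerSeries.coeff_coe, cz]
  split_ifs with h
  · rfl
  · have : i.natAbs = i.toNat := by omega
    rw [this]

lemma res_eq_Psi (m : ℤ) (n : ℕ) (hn : 1 ≤ n) (G : PowerSeries A) :
    res A ((single m (1 : A) * (G : A⸨X⸩)) ^ (n - 1) * D A (single m (1 : A) * (G : A⸨X⸩))) = Psi A m n G := by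
  have h1 : (single m (1 : A) * (G : A⸨X⸩)) ^ (n - 1) =
      single (((n - 1 : ℕ) : ℤ) * m) (1 : A) * ((G ^ (n - 1) : PowerSeries A) : A⸨X⸩) := by
    rw [mul_pow, single_pow, one_pow, PowerSeries.coe_pow, nsmul_eq_mul]
  have h2 : D A (single m (1 : A) * (G : A⸨X⸩)) =
      single m (1 : A) * ((PowerSeries.derivative A G : PowerSeries A) : A⸨X⸩) +
        single (m - 1) (m • (1 : A)) * (G : A⸨X⸩) := by
    rw [D_apply, derivative_single_mul, ← D_apply, D_coe]
  have h3 : (single m (1 : A) * (G : A⸨X⸩)) ^ (n - 1) * D A (single m (1 : A) * (G : A⸨X⸩)) =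
      single (m * n) (1 : A) * ((G ^ (n - 1) * PowerSeries.derivative A G : PowerSeries A) : A⸨X⸩) +
      single (m * n - 1) (m • (1 : A)) * ((G ^ n : PowerSeries A) : A⸨X⸩) := by
    rw [h1, h2]
    have e1 : (((n - 1 : ℕ) : ℤ) * m) + m = m * n := by
      have : ((n - 1 : ℕ) : ℤ) = (n : ℤ) - 1 := by omega
      rw [this]; ring
    have e2 : (((n - 1 : ℕ) : ℤ) * m) + (m - 1) = m * n - 1 := by
      have : ((n - 1 : ℕ) : ℤ) = (n : ℤ) - 1 := by omega
      rw [this]; ring
    have e3 : G ^ n = G ^ (n - 1) * G := by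
      rw [← pow_succ]; congr 1; omega
    rw [e3, PowerSeries.coe_mul, PowerSeries.coe_mul]
    calc single (((n - 1 : ℕ) : ℤ) * m) (1 : A) * ((G ^ (n - 1) : PowerSeries A) : A⸨X⸩) *
          (single m (1 : A) * ((PowerSeries.derivative A G : PowerSeries A) : A⸨X⸩) +
            single (m - 1) (m • (1 : A)) * (G : A⸨X⸩))
        = (single (((n - 1 : ℕ) : ℤ) * m) (1 : A) * single m (1 : A)) *
            (((G ^ (n - 1) : PowerSeries A) : A⸨X⸩) * ((PowerSeries.derivative A G : PowerSeries A) : A⸨X⸩)) +
          (single (((n - 1 : ℕ) : ℤ) * m) (1 : A) * single (m - 1) (m • (1 : A))) *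
            (((G ^ (n - 1) : PowerSeries A) : A⸨X⸩) * (G : A⸨X⸩)) := by ring
      _ = _ := by
        rw [single_mul_single, single_mul_single, e1, e2, one_mul, one_mul]
  rw [h3, res_apply, HahnSeries.coeff_add, HahnSeries.coeff_single_mul, HahnSeries.coeff_single_mul,
    coeff_coe', coeff_coe', Psi, one_mul, smul_mul_assoc, one_mul]
  congr 2
  ring_nf

lemma nsmul_res (g : A⸨X⸩) (n : ℕ) : n • res A (g ^ (n - 1) * D A g) = 0 := by
  have h := (D A).leibniz_pow g n
  have h0 : res A (D A (g ^ n)) = 0 := by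
    rw [res_apply, D_coeff]
    simp
  rw [h, map_nsmul, smul_eq_mul] at h0
  exact h0

end general

section nat
variable {A B : Type*} [CommRing A] [CommRing B] (ρ : A →+* B)

lemma cz_map (P : PowerSeries A) (i : ℤ) : ρ (cz A P i) = cz B (PowerSeries.map ρ P) i := by
  unfold cz
  split_ifs
  · exact map_zero ρ
  · rw [PowerSeries.coeff_map]

lemma derivative_map (G : PowerSeries A) :
    PowerSeries.map ρ (PowerSeries.derivative A G) = PowerSeries.derivative B (PowerSeries.map ρ G) := by
  ext k
  simp [PowerSeries.coeff_derivative]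

lemma Psi_map (m : ℤ) (n : ℕ) (G : PowerSeries A) :
    ρ (Psi A m n G) = Psi B m n (PowerSeries.map ρ G) := by
  unfold Psi
  rw [map_add, map_zsmul, cz_map, cz_map, map_mul, map_pow, map_pow, derivative_map]

end nat

section field
variable (F : Type*) [Field F]

lemma res_pos (g : F⸨X⸩) (k : ℕ) (hk : 1 ≤ k) : res F (g ^ (k - 1) * D F g) = 0 := by
  classical
  rw [← single_order_mul_powerSeriesPart g]
  set m := g.order
  set G := g.powerSeriesPart
  rw [res_eq_Psi F m k hk G]
  let Z := MvPolynomial F ℤ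
  let ev : Z →+* F := MvPolynomial.eval₂Hom (Int.castRingHom F) id
  let Gt : PowerSeries Z := PowerSeries.mk (fun i => MvPolynomial.X (PowerSeries.coeff i G))
  have hG : PowerSeries.map ev Gt = G := by
    ext i
    simp only [Gt, ev, PowerSeries.coeff_map, PowerSeries.coeff_mk]
    exact MvPolynomial.eval₂_X _ _ _
  have hZ : Psi Z m k Gt = 0 := by
    rw [← res_eq_Psi Z m k hk Gt]
    have h := nsmul_res Z (single m (1 : Z) * (Gt : Z⸨X⸩)) k
    rw [nsmul_eq_mul] at h
    have hk0 : ((k : ℕ) : Z) ≠ 0 := Nat.cast_ne_zero.2 (by omega)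
    exact (mul_eq_zero.1 h).resolve_left hk0
  rw [← hG, ← Psi_map ev, hZ, map_zero]

lemma res_all (g : F⸨X⸩) (n : ℤ) (hn : n ≠ 0) : res F (g ^ (n - 1) * D F g) = 0 := by
  rcases lt_or_gt_of_ne hn with h | h
  · -- negative
    by_cases hg : g = 0
    · rw [hg, map_zero, mul_zero, map_zero]
    obtain ⟨k, hk⟩ : ∃ k : ℕ, n = -(k : ℤ) := ⟨n.natAbs, by omega⟩
    have hk1 : 1 ≤ k := by omega
    have h1 := res_pos F g⁻¹ k hk1
    have e : g⁻¹ ^ (k - 1) * D F g⁻¹ = -(g ^ (n - 1) * D F g) := by
      rw [Derivation.leibniz_inv, smul_eq_mul]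
      have e1 : g ^ (n - 1) = g⁻¹ ^ (k - 1) * g⁻¹ ^ 2 := by
        rw [← pow_add, inv_pow, ← zpow_natCast, ← zpow_neg]
        congr 1
        push_cast
        omega
      rw [e1]
      ring
    rw [e, map_neg, neg_eq_zero] at h1
    exact h1
  · obtain ⟨k, hk⟩ : ∃ k : ℕ, n = (k : ℤ) := ⟨n.toNat, by omega⟩
    have hk1 : 1 ≤ k := by omega
    have h1 := res_pos F g k hk1
    have e1 : g ^ (n - 1) = g ^ (k - 1) := by
      rw [← zpow_natCast]
      congr 1
      omega
    rw [e1]
    exact h1

end field


/-- For a `k`-algebra homomorphism `φ : K → F((X))` from a field into formal Laurent series over a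
field, an element `f` of `K` and a nonzero integer `n`, the residue of `f^(n-1) df` read through `φ`
— the `X⁻¹`-coefficient of `φ(f)^(n-1) · (φ f)′` — vanishes, in every characteristic (also when the
characteristic divides `n`). (The published statement is for the intrinsic residue of a complete
field with a perfect coefficient field; read through an expansion it is this identity of Laurent
series, and no property of `φ` is needed.) -/
theorem result {k : Type u} {K : Type v} {F : Type w} [CommRing k] [Field K] [Field F]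
    [Algebra k K] [Algebra k F]
    (φ : K →ₐ[k] LaurentSeries F) (f : K) (n : ℤ) (hn : n ≠ 0) :
    LocRes.resExp φ (f ^ (n - 1)) f = 0 := by
  unfold LocRes.resExp
  rw [map_zpow₀]
  exact res_all F (φ f) n hn

end Groth.Agent.S12621
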