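import Groth.Statements.S12622
import Mathlib

set_option autoImplicit false
universe u v w
open LocRes

namespace Groth.Agent.S12622

/-- Let `K` be a field with a valuation `w` into `ℤ ∪ {0}` and `φ : K → F((X))` a `k`-algebra expansion
at `w` in a local parameter (valuation-compatible, valuation ring onto the coefficient field `F`,
`w` normalised). If `y` and `x` lie in the valuation ring of `w` then the residue of `y dx` read
through `φ` — the `X⁻¹`-coefficient of `φ(y) · (φ x)′` — is `0`; since such `y dx` span the image of
the Kähler differentials of the valuation ring, this says that every differential coming from the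
valuation ring has residue zero. (The published statement is for a complete field with a perfect
coefficient field; read through an expansion neither completeness nor perfectness plays a role.) -/
theorem result {k : Type u} {K : Type v} {F : Type w} [CommRing k] [Field K] [Field F]
    [Algebra k K] [Algebra k F]
    (w : Valuation K (WithZero (Multiplicative ℤ))) (φ : K →ₐ[k] LaurentSeries F)
    (hφ : LocRes.IsExpansionAt w φ) (y x : K) (hy : w y ≤ 1) (hx : w x ≤ 1) :
    LocRes.resExp φ y x = 0 := by
  obtain ⟨hv, -, -⟩ := hφ
  have hy' : Valued.v (φ y) ≤ (1 : WithZero (Multiplicative ℤ)) := by rw [hv]; exact hy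
  have hx' : Valued.v (φ x) ≤ (1 : WithZero (Multiplicative ℤ)) := by rw [hv]; exact hx
  obtain ⟨Y, hY⟩ := (LaurentSeries.val_le_one_iff_eq_coe F (φ y)).1 hy'
  obtain ⟨X', hX⟩ := (LaurentSeries.val_le_one_iff_eq_coe F (φ x)).1 hx'
  rw [LocRes.resExp, ← hY, ← hX, LocRes.D_coe, ← PowerSeries.coe_mul, LocRes.res_apply,
    PowerSeries.coeff_coe, if_pos (by norm_num)]

end Groth.Agent.S12622
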