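import Groth.Statements.S12612
import Mathlib
-- import your own Groth.Agent.* helpers here

set_option autoImplicit false
open FunFld

namespace Groth.Agent.S12612

open MvPolynomial in
/-- Chain rule: a derivation applied to a polynomial expression. -/
theorem deriv_aeval {k B M σ : Type*} [CommRing k] [CommRing B] [Algebra k B] [AddCommGroup M]
    [Module k M] [Module B M] [IsScalarTower k B M] [Fintype σ] [DecidableEq σ]
    (Dd : Derivation k B M) (φ : σ → B) (g : MvPolynomial σ k) :
    Dd (aeval φ g) = ∑ i, aeval φ (pderiv i g) • Dd (φ i) := by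
  induction g using MvPolynomial.induction_on with
  | C a => simp
  | add p q hp hq => simp [hp, hq, add_smul, Finset.sum_add_distrib]
  | mul_X p l hp =>
    rw [map_mul, aeval_X, Derivation.leibniz, hp]
    simp only [Derivation.leibniz, pderiv_X, map_add, map_mul, aeval_X, add_smul, smul_eq_mul,
      Finset.sum_add_distrib, Finset.smul_sum]
    congr 1
    · rw [Finset.sum_eq_single l]
      · simp
      · intro i _ hne
        simp [hne]
      · simp
    · apply Finset.sum_congr rfl
      intro i _
      rw [smul_smul]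

open MvPolynomial in
theorem aeval_smul_of_homogeneous {k K σ : Type*} [CommRing k] [CommRing K] [Algebra k K]
    {g : MvPolynomial σ k} {n : ℕ} (hg : g.IsHomogeneous n) (c : K) (v : σ → K) :
    aeval (c • v) g = c ^ n * aeval v g := by
  rw [g.as_sum, map_sum, map_sum, Finset.mul_sum]
  apply Finset.sum_congr rfl
  intro d hd
  rw [aeval_monomial, aeval_monomial]
  have hdeg : (Finsupp.weight 1) d = n := hg (mem_support_iff.mp hd)
  simp only [Pi.smul_apply, smul_eq_mul, mul_pow, Finsupp.prod]
  rw [Finset.prod_mul_distrib, Finset.prod_pow_eq_pow_sum]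
  have : ∑ i ∈ d.support, d i = n := by
    rw [← hdeg]
    simp [Finsupp.weight_apply, Finsupp.sum]
  rw [this]
  ring


/-- For a plane curve given by a homogeneous `f` of degree `e` with `f(1, x, y) = 0` and a change of
projective coordinates `X = AX'` (`A` invertible over `k`), with new affine coordinates `x' =
u₁/u₀`, `y' = u₂/u₀`, `z = 1/u₀ = X₀/X₀'` where `u = A⁻¹(1, x, y)ᵗ`, and `f'(X') = f(AX')`, the
differentials satisfy `dx/f̂_y = det(A) z^(e-3) dx'/f̂'_{y'}`, where `f̂_y = (∂f/∂X₂)(1, x, y)` and
`f̂'_{y'} = (∂f'/∂X₂')(1, x', y')` are assumed nonzero. (Stated for any field `K` over `k`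
containing such `x`, `y`; the published setting is a plane model of a function field over an
algebraically closed field, and the computation uses only the relation `f(1, x, y) = 0`.) -/
theorem result
    (k K : Type*) [Field k] [Field K] [Algebra k K]
    (f : MvPolynomial (Fin 3) k) (e : ℕ) (hf : f.IsHomogeneous e)
    (x y : K) (hfxy : MvPolynomial.aeval ![(1 : K), x, y] f = 0)
    (A : Matrix (Fin 3) (Fin 3) k) (hA : A.det ≠ 0)
    (u : Fin 3 → K) (hu : ∀ i, ∑ j, algebraMap k K (A i j) * u j = ![(1 : K), x, y] i)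
    (hu0 : u 0 ≠ 0)
    (hfy : MvPolynomial.aeval ![(1 : K), x, y] (MvPolynomial.pderiv 2 f) ≠ 0)
    (hfy' : MvPolynomial.aeval ![(1 : K), u 1 / u 0, u 2 / u 0]
      (MvPolynomial.pderiv 2
        (MvPolynomial.aeval (fun i : Fin 3 => ∑ j, MvPolynomial.C (A i j) * MvPolynomial.X j) f)) ≠ 0) :
    (MvPolynomial.aeval ![(1 : K), x, y] (MvPolynomial.pderiv 2 f))⁻¹ • KaehlerDifferential.D k K x =
      (algebraMap k K A.det * (u 0)⁻¹ ^ ((e : ℤ) - 3) *
        (MvPolynomial.aeval ![(1 : K), u 1 / u 0, u 2 / u 0]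
          (MvPolynomial.pderiv 2
            (MvPolynomial.aeval (fun i : Fin 3 => ∑ j, MvPolynomial.C (A i j) * MvPolynomial.X j) f)))⁻¹) •
        KaehlerDifferential.D k K (u 1 / u 0) := by
  classical
  set Xv : Fin 3 → K := ![(1 : K), x, y] with hXv
  set φ : Fin 3 → MvPolynomial (Fin 3) k :=
    fun i => ∑ j, MvPolynomial.C (A i j) * MvPolynomial.X j with hφ
  set G : Fin 3 → K := fun i => MvPolynomial.aeval Xv (MvPolynomial.pderiv i f) with hG
  -- evaluation of the linear forms
  have hφw : ∀ (w : Fin 3 → K) (i : Fin 3),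
      MvPolynomial.aeval w (φ i) = ∑ j, algebraMap k K (A i j) * w j := by
    intro w i
    simp only [hφ, map_sum, map_mul, MvPolynomial.aeval_C, MvPolynomial.aeval_X]
  have hφd : ∀ i j : Fin 3, MvPolynomial.pderiv j (φ i) = MvPolynomial.C (A i j) := by
    intro i j
    simp only [hφ, map_sum, MvPolynomial.pderiv_C_mul, MvPolynomial.pderiv_X]
    rw [Finset.sum_eq_single j]
    · simp
    · intro l _ hne
      simp [hne]
    · simp
  -- chain rule for f'
  have hchain : ∀ j : Fin 3, MvPolynomial.pderiv j (MvPolynomial.aeval φ f) =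
      ∑ i, MvPolynomial.aeval φ (MvPolynomial.pderiv i f) * MvPolynomial.C (A i j) := by
    intro j
    rw [deriv_aeval (MvPolynomial.pderiv j) φ f]
    apply Finset.sum_congr rfl
    intro i _
    rw [hφd, smul_eq_mul]
  have hcomp : ∀ (w : Fin 3 → K) (g : MvPolynomial (Fin 3) k),
      MvPolynomial.aeval w (MvPolynomial.aeval φ g) =
        MvPolynomial.aeval (fun i => ∑ j, algebraMap k K (A i j) * w j) g := by
    intro w g
    rw [MvPolynomial.aeval_eq_bind₁, MvPolynomial.aeval_bind₁]
    congr 2
    funext i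
    exact hφw w i
  have hAu : (fun i => ∑ j, algebraMap k K (A i j) * u j) = Xv := funext hu
  set G' : Fin 3 → K := fun j => ∑ i, G i * algebraMap k K (A i j) with hG'
  have hG'w : ∀ j, MvPolynomial.aeval u (MvPolynomial.pderiv j (MvPolynomial.aeval φ f)) = G' j := by
    intro j
    rw [hchain, map_sum]
    apply Finset.sum_congr rfl
    intro i _
    rw [map_mul, hcomp, hAu, MvPolynomial.aeval_C]
  set v : Fin 3 → K := ![(1 : K), u 1 / u 0, u 2 / u 0] with hv
  have hvu : v = (u 0)⁻¹ • u := by
    funext i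
    fin_cases i <;> simp [hv, hu0, div_eq_inv_mul]
  have hAv : (fun i => ∑ j, algebraMap k K (A i j) * v j) = (u 0)⁻¹ • Xv := by
    funext i
    rw [hvu, Pi.smul_apply, ← hu i, smul_eq_mul, Finset.mul_sum]
    apply Finset.sum_congr rfl
    intro j _
    simp only [Pi.smul_apply, smul_eq_mul]
    ring
  have he1 : 1 ≤ e := by
    by_contra hcon
    have he0 : e = 0 := by omega
    subst he0
    have h1 := hf.totalDegree_le
    have h2 : f.totalDegree = 0 := by omega
    rw [MvPolynomial.totalDegree_eq_zero_iff_eq_C] at h2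
    apply hfy
    rw [h2, MvPolynomial.pderiv_C, map_zero]
  have hGv : MvPolynomial.aeval v (MvPolynomial.pderiv 2 (MvPolynomial.aeval φ f)) =
      ((u 0)⁻¹) ^ (e - 1) * G' 2 := by
    rw [hchain, map_sum, hG', Finset.mul_sum]
    apply Finset.sum_congr rfl
    intro i _
    rw [map_mul, hcomp, hAv, MvPolynomial.aeval_C, aeval_smul_of_homogeneous hf.pderiv]
    ring
  -- Euler's identity
  have hE : ∑ i, Xv i * G i = 0 := by
    have h1 := congrArg (MvPolynomial.aeval Xv) hf.sum_X_mul_pderiv
    rw [map_sum, map_nsmul, hfxy, smul_zero] at h1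
    rw [← h1]
    apply Finset.sum_congr rfl
    intro i _
    rw [map_mul, MvPolynomial.aeval_X]
  have hE' : ∑ j, u j * G' j = 0 := by
    simp only [hG', Finset.mul_sum]
    rw [Finset.sum_comm, ← hE]
    apply Finset.sum_congr rfl
    intro i _
    rw [← hu i, Finset.sum_mul]
    apply Finset.sum_congr rfl
    intro j _
    ring
  -- differentials
  have hD : ∑ i, G i • KaehlerDifferential.D k K (Xv i) = 0 := by
    have h1 := deriv_aeval (KaehlerDifferential.D k K) Xv f
    rw [hfxy, map_zero] at h1
    exact h1.symm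
  have hDX : ∀ i, KaehlerDifferential.D k K (Xv i) =
      ∑ j, algebraMap k K (A i j) • KaehlerDifferential.D k K (u j) := by
    intro i
    rw [← hu i, map_sum]
    apply Finset.sum_congr rfl
    intro j _
    rw [Derivation.leibniz, Derivation.map_algebraMap, smul_zero, add_zero]
  have hD' : ∑ j, G' j • KaehlerDifferential.D k K (u j) = 0 := by
    rw [← hD]
    simp only [hDX, hG', Finset.sum_smul, Finset.smul_sum, smul_smul]
    rw [Finset.sum_comm]
  have hX0 : Xv 0 = 1 := by simp [hXv]
  have hX1 : Xv 1 = x := by simp [hXv]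
  have e1 := hu 0
  have h0 := hDX 0
  have h1 := hDX 1
  rw [hX0, Derivation.map_one_eq_zero] at h0
  rw [hX1] at h1
  change _ = Xv 0 at e1
  rw [hX0] at e1
  rw [Fin.sum_univ_three] at e1 h0 h1
  simp only [hG', Fin.sum_univ_three] at hE' hD'
  have key : G' 2 • KaehlerDifferential.D k K x = (algebraMap k K A.det * G 2) •
      (u 0 • KaehlerDifferential.D k K (u 1) - u 1 • KaehlerDifferential.D k K (u 0)) := by
    rw [Matrix.det_fin_three]
    simp only [map_sub, map_add, map_mul, hG', Fin.sum_univ_three]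
    generalize algebraMap k K (A 0 0) = a00 at *
    generalize algebraMap k K (A 0 1) = a01 at *
    generalize algebraMap k K (A 0 2) = a02 at *
    generalize algebraMap k K (A 1 0) = a10 at *
    generalize algebraMap k K (A 1 1) = a11 at *
    generalize algebraMap k K (A 1 2) = a12 at *
    generalize algebraMap k K (A 2 0) = a20 at *
    generalize algebraMap k K (A 2 1) = a21 at *
    generalize algebraMap k K (A 2 2) = a22 at *
    generalize KaehlerDifferential.D k K (u 0) = dw0 at *
    generalize KaehlerDifferential.D k K (u 1) = dw1 at *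
    generalize KaehlerDifferential.D k K (u 2) = dw2 at *
    generalize KaehlerDifferential.D k K x = dx at *
    generalize G 0 = G0 at *
    generalize G 1 = G1 at *
    generalize G 2 = G2 at *
    generalize u 0 = w0 at *
    generalize u 1 = w1 at *
    generalize u 2 = w2 at *
    linear_combination (norm := module)
      ((a01 * a12 - a02 * a11) * w1 - (a02 * a10 - a00 * a12) * w0) • hD' +
      hE' • ((a02 * a10 - a00 * a12) • dw0 - (a01 * a12 - a02 * a11) • dw1) +
      (G0 * a02 + G1 * a12 + G2 * a22) •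
        (-(e1 • (a10 • dw0 + a11 • dw1 + a12 • dw2)) - (a10 * w0 + a11 * w1 + a12 * w2) • h0 + h1)
  have hz : (u 0)⁻¹ ≠ 0 := inv_ne_zero hu0
  have hG'2 : G' 2 ≠ 0 := by
    intro h
    apply hfy'
    rw [hGv, h, mul_zero]
  have hDx : KaehlerDifferential.D k K x = (G' 2)⁻¹ • (algebraMap k K A.det * G 2) •
      (u 0 • KaehlerDifferential.D k K (u 1) - u 1 • KaehlerDifferential.D k K (u 0)) := by
    rw [← key, inv_smul_smul₀ hG'2]
  have hzp : (u 0)⁻¹ ^ ((e : ℤ) - 3) = (u 0)⁻¹ ^ (e - 1) * (u 0) ^ 2 := by
    rw [show ((e : ℤ) - 3) = ((e - 1 : ℕ) : ℤ) + (-2) by omega, zpow_add₀ hz, zpow_natCast]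
    congr 1
    rw [zpow_neg, inv_zpow, inv_inv]
    norm_cast
  change (G 2)⁻¹ • KaehlerDifferential.D k K x = _
  rw [hGv, hzp, Derivation.leibniz_div, hDx]
  simp only [smul_smul]
  congr 1
  have hG2 : G 2 ≠ 0 := hfy
  have hzn : (u 0)⁻¹ ^ (e - 1) ≠ 0 := pow_ne_zero _ hz
  field_simp

end Groth.Agent.S12612
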