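import Groth.Statements.S12616
import Mathlib
import Groth.Agent.S12612
import Groth.Agent.Lib.Helper10.Tate10
import Groth.Agent.Lib.Helper10.HasseExp16
import Groth.Agent.Lib.Helper10.LocRes6

set_option autoImplicit false
open FunFld

namespace Groth.Agent.S12616

set_option linter.style.haveILetI false

open Groth.Agent.Lib.helper10 Groth.Agent.Lib.helper10.Tate Groth.Agent.Lib.helper10.FF
open Groth.Agent.Lib.helper10.HasseExp WithZero

universe u v
variable {k : Type u} {K : Type v} [Field k] [Field K] [Algebra k K]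

/-- A relation between Kähler differentials is seen by every expansion (two-sided form). -/
theorem D_mul_eq_of_kaehler {F : Type*} [Field F] [Algebra k F] {x x' a b : K}
    (h : a • KaehlerDifferential.D k K x = b • KaehlerDifferential.D k K x')
    (χ : K →ₐ[k] LaurentSeries F) :
    χ a * LocRes.D F (χ x) = χ b * LocRes.D F (χ x') := by
  letI := χ.toRingHom.toAlgebra
  haveI := LocRes.isScalarTower_exp χ
  have h1 := congrArg (LocRes.dExp χ).liftKaehlerDifferential h
  rw [map_smul, map_smul, Derivation.liftKaehlerDifferential_comp_D,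
    Derivation.liftKaehlerDifferential_comp_D] at h1
  exact h1

theorem divDiff_apply_of_finite (Φ : Place k K → (K →ₐ[k] LaurentSeries k)) (a x : K)
    (h : (Function.support fun P : Place k K => LocRes.ordDiff (Φ P) a x).Finite) (P : Place k K) :
    divDiff Φ a x P = LocRes.ordDiff (Φ P) a x := by
  unfold divDiff
  rw [dif_pos h]
  rfl

theorem divDiff_apply_gen (hK : IsFunctionField k K) [IsAlgClosed k]
    (Φ : Place k K → (K →ₐ[k] LaurentSeries k))
    (hΦ : ∀ P : Place k K, LocRes.IsExpansionAt P.1 (Φ P)) {a x : K} (ha : a ≠ 0)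
    (hx : KaehlerDifferential.D k K x ≠ 0) (P : Place k K) :
    divDiff Φ a x P = LocRes.ordDiff (Φ P) a x := by
  have hg : IsGeometric k K := HasseExp.isGeometric_of_isAlgClosed (k := k) (K := K)
  obtain ⟨W, -, hWP⟩ := exists_divisor_eq_ordDiff (fun _ => k) Φ hΦ hK hg ha hx
  apply divDiff_apply_of_finite
  refine (W.support.finite_toSet).subset ?_
  intro Q hQ
  rw [Function.mem_support, ← hWP Q] at hQ
  exact Finsupp.mem_support_iff.2 hQ

/-- `mapDiv` of a triple with first entry `1`, pointwise characterisation (zero entries allowed). -/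
theorem mapDiv_eq_iff_of_one (hK : IsFunctionField k K) (ψ : Fin 3 → K) (h1 : ψ 0 = 1)
    (Q : Place k K) (m : ℤ) :
    mapDiv k ψ Q = m ↔ (∀ i, Q.1 (ψ i) ≤ exp m) ∧ ∃ i, Q.1 (ψ i) = exp m := by
  classical
  set ψ' : Fin 3 → K := fun i => if ψ i = 0 then 1 else ψ i with hψ'
  have h0 : ∀ i, ψ' i ≠ 0 := by
    intro i
    rw [hψ']
    show (if ψ i = 0 then (1 : K) else ψ i) ≠ 0
    split_ifs with h
    · exact one_ne_zero
    · exact h
  have e1 : mapDiv k ψ Q = mapDiv k ψ' Q := by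
    rw [mapDiv_apply hK, mapDiv_apply hK]
    congr 2
    funext i
    show Q.ord (ψ i) = Q.ord (if ψ i = 0 then (1 : K) else ψ i)
    split_ifs with h
    · rw [h, Place.ord_zero, Place.ord_one]
    · rfl
  rw [e1, mapDiv_eq_iff hK ψ' h0 Q m]
  have hval : ∀ i, Q.1 (ψ' i) = if ψ i = 0 then 1 else Q.1 (ψ i) := by
    intro i
    show Q.1 (if ψ i = 0 then (1 : K) else ψ i) = _
    split_ifs with h
    · rw [map_one]
    · rfl
  constructor
  · rintro ⟨ha, j, hj⟩
    refine ⟨fun i => ?_, ?_⟩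
    · have := ha i
      rw [hval] at this
      split_ifs at this with h
      · rw [h, map_zero]; exact zero_le
      · exact this
    · rw [hval] at hj
      split_ifs at hj with h
      · exact ⟨0, by rw [h1, map_one]; exact hj⟩
      · exact ⟨j, hj⟩
  · rintro ⟨ha, j, hj⟩
    refine ⟨fun i => ?_, ?_⟩
    · rw [hval]
      split_ifs with h
      · have := ha 0
        rwa [h1, map_one] at this
      · exact ha i
    · refine ⟨j, ?_⟩
      rw [hval, if_neg]
      · exact hj
      · intro h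
        rw [h, map_zero] at hj
        exact exp_ne_zero hj.symm

theorem val_sum_le (Q : Place k K) (c : Fin 3 → k) (w : Fin 3 → K) (g : WithZero (Multiplicative ℤ))
    (h : ∀ j, Q.1 (w j) ≤ g) : Q.1 (∑ j, algebraMap k K (c j) * w j) ≤ g := by
  apply Valuation.map_sum_le
  intro j _
  rw [map_mul]
  calc Q.1 (algebraMap k K (c j)) * Q.1 (w j) ≤ 1 * g := mul_le_mul' (Q.2.1 (c j)) (h j)
    _ = g := one_mul g

theorem val_sum_lt (Q : Place k K) (c : Fin 3 → k) (w : Fin 3 → K) (g : WithZero (Multiplicative ℤ))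
    (hg : g ≠ 0) (h : ∀ j, Q.1 (w j) < g) : Q.1 (∑ j, algebraMap k K (c j) * w j) < g := by
  apply Valuation.map_sum_lt _ hg
  intro j _
  rw [map_mul]
  calc Q.1 (algebraMap k K (c j)) * Q.1 (w j) ≤ 1 * Q.1 (w j) := mul_le_mul' (Q.2.1 (c j)) le_rfl
    _ = Q.1 (w j) := one_mul _
    _ < g := h j

theorem u_eq_inv (A : Matrix (Fin 3) (Fin 3) k) (hA : A.det ≠ 0) (u φ : Fin 3 → K)
    (hu : ∀ i, ∑ j, algebraMap k K (A i j) * u j = φ i) (i : Fin 3) :
    u i = ∑ j, algebraMap k K (A⁻¹ i j) * φ j := by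
  have h1 : A⁻¹ * A = 1 := Matrix.nonsing_inv_mul A (isUnit_iff_ne_zero.2 hA)
  have e1 : ∑ j, algebraMap k K (A⁻¹ i j) * φ j =
      ∑ l, (∑ j, algebraMap k K (A⁻¹ i j) * algebraMap k K (A j l)) * u l := by
    simp only [← hu, Finset.mul_sum, Finset.sum_mul]
    rw [Finset.sum_comm]
    refine Finset.sum_congr rfl fun l _ => Finset.sum_congr rfl fun j _ => ?_
    ring
  have e2 : ∀ l, ∑ j, algebraMap k K (A⁻¹ i j) * algebraMap k K (A j l) =
      algebraMap k K ((1 : Matrix (Fin 3) (Fin 3) k) i l) := by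
    intro l
    rw [← h1, Matrix.mul_apply, map_sum]
    refine Finset.sum_congr rfl fun j _ => ?_
    rw [map_mul]
  rw [e1]
  simp only [e2, Matrix.one_apply]
  rw [Finset.sum_eq_single i]
  · rw [if_pos rfl, map_one, one_mul]
  · intro l _ hl
    rw [if_neg (Ne.symm hl), map_zero, zero_mul]
  · intro h; exact absurd (Finset.mem_univ i) h

theorem mapDiv_coord_change (hK : IsFunctionField k K) (x y : K)
    (A : Matrix (Fin 3) (Fin 3) k) (hA : A.det ≠ 0)
    (u : Fin 3 → K) (hu : ∀ i, ∑ j, algebraMap k K (A i j) * u j = ![(1 : K), x, y] i)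
    (hu0 : u 0 ≠ 0) :
    mapDiv k ![(1 : K), u 1 / u 0, u 2 / u 0] = mapDiv k ![(1 : K), x, y] + FunFld.div k (u 0) := by
  ext Q
  set φ : Fin 3 → K := ![(1 : K), x, y] with hφ
  have hφ' : ![(1 : K), u 1 / u 0, u 2 / u 0] = fun i => u i / u 0 := by
    funext i
    fin_cases i
    · show (1 : K) = u 0 / u 0
      rw [div_self hu0]
    · rfl
    · rfl
  rw [Finsupp.add_apply, div_apply hK]
  set m := mapDiv k φ Q with hm
  obtain ⟨hle, i₀, hi₀⟩ := (mapDiv_eq_iff_of_one hK φ rfl Q m).1 rfl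
  have huv : Q.1 (u 0) = exp (-Q.ord (u 0)) := Place.val_eq_exp_neg_ord Q hu0
  have hule : ∀ i, Q.1 (u i) ≤ exp m := by
    intro i
    rw [u_eq_inv A hA u φ hu i]
    exact val_sum_le Q _ _ _ hle
  have hueq : ∃ j, Q.1 (u j) = exp m := by
    by_contra hcon
    push Not at hcon
    have hlt : ∀ j, Q.1 (u j) < exp m := fun j => lt_of_le_of_ne (hule j) (hcon j)
    have := val_sum_lt Q (fun j => A i₀ j) u (exp m) exp_ne_zero hlt
    rw [hu i₀, hi₀] at this
    exact lt_irrefl _ this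
  rw [mapDiv_eq_iff_of_one hK _ rfl Q (m + Q.ord (u 0)), hφ']
  have hexp : exp (m + Q.ord (u 0)) = exp m / Q.1 (u 0) := by
    rw [huv, exp_add, exp_neg, div_eq_mul_inv, inv_inv]
  have hu0v : Q.1 (u 0) ≠ 0 := (Valuation.ne_zero_iff _).2 hu0
  constructor
  · intro i
    show Q.1 (u i / u 0) ≤ _
    rw [map_div₀, hexp]
    exact div_le_div_of_nonneg_right (hule i) zero_le
  · obtain ⟨j, hj⟩ := hueq
    refine ⟨j, ?_⟩
    show Q.1 (u j / u 0) = _
    rw [map_div₀, hexp, hj]

theorem main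
    (k K : Type*) [Field k] [IsAlgClosed k] [Field K] [Algebra k K]
    (hK : FunFld.IsFunctionField k K) (f : MvPolynomial (Fin 3) k) (e : ℕ) (hf : f.IsHomogeneous e)
    (x y : K) (hfxy : MvPolynomial.aeval ![(1 : K), x, y] f = 0)
    (hdx : KaehlerDifferential.D k K x ≠ 0)
    (he : (FunFld.mapDiv k ![(1 : K), x, y]).deg = e)
    (A : Matrix (Fin 3) (Fin 3) k) (hA : A.det ≠ 0)
    (u : Fin 3 → K) (hu : ∀ i, ∑ j, algebraMap k K (A i j) * u j = ![(1 : K), x, y] i)
    (hu0 : u 0 ≠ 0)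
    (hfy : (MvPolynomial.aeval ![(1 : K), x, y] (MvPolynomial.pderiv 2 f)) ≠ 0)
    (hfy' : (MvPolynomial.aeval ![(1 : K), u 1 / u 0, u 2 / u 0] (MvPolynomial.pderiv 2 (MvPolynomial.aeval (fun i : Fin 3 => ∑ j, MvPolynomial.C (A i j) * MvPolynomial.X j) f))) ≠ 0)
    (Φ : FunFld.Place k K → (K →ₐ[k] LaurentSeries k))
    (hΦ : ∀ P : FunFld.Place k K, LocRes.IsExpansionAt P.1 (Φ P)) :
    ((FunFld.mapDiv k ![(1 : K), x, y]).deg - 3) • FunFld.mapDiv k ![(1 : K), x, y] -
        FunFld.divDiff Φ (MvPolynomial.aeval ![(1 : K), x, y] (MvPolynomial.pderiv 2 f))⁻¹ x =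
      ((FunFld.mapDiv k ![(1 : K), u 1 / u 0, u 2 / u 0]).deg - 3) •
          FunFld.mapDiv k ![(1 : K), u 1 / u 0, u 2 / u 0] -
        FunFld.divDiff Φ (MvPolynomial.aeval ![(1 : K), u 1 / u 0, u 2 / u 0] (MvPolynomial.pderiv 2 (MvPolynomial.aeval (fun i : Fin 3 => ∑ j, MvPolynomial.C (A i j) * MvPolynomial.X j) f)))⁻¹ (u 1 / u 0) := by
  have hg : IsGeometric k K := HasseExp.isGeometric_of_isAlgClosed (k := k) (K := K)
  have hkey := Groth.Agent.S12612.result k K f e hf x y hfxy A hA u hu hu0 hfy hfy'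
  set g := MvPolynomial.aeval ![(1 : K), x, y] (MvPolynomial.pderiv 2 f) with hgdef
  set g' := MvPolynomial.aeval ![(1 : K), u 1 / u 0, u 2 / u 0] (MvPolynomial.pderiv 2
    (MvPolynomial.aeval (fun i : Fin 3 => ∑ j, MvPolynomial.C (A i j) * MvPolynomial.X j) f))
    with hg'def
  set x' := u 1 / u 0 with hx'def
  set c : K := algebraMap k K A.det * (u 0)⁻¹ ^ ((e : ℤ) - 3) with hc
  have hc0 : c ≠ 0 := by
    rw [hc]
    refine mul_ne_zero ?_ (zpow_ne_zero _ (inv_ne_zero hu0))
    rw [Ne, map_eq_zero_iff _ (algebraMap k K).injective]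
    exact hA
  have hkey' : g⁻¹ • KaehlerDifferential.D k K x = (c * g'⁻¹) • KaehlerDifferential.D k K x' := hkey
  have hdx' : KaehlerDifferential.D k K x' ≠ 0 := by
    intro h0
    rw [h0, smul_zero] at hkey'
    exact (smul_ne_zero (inv_ne_zero hfy) hdx) hkey'
  have hmap := mapDiv_coord_change hK x y A hA u hu hu0
  have hdeg : (mapDiv k ![(1 : K), u 1 / u 0, u 2 / u 0]).deg = (mapDiv k ![(1 : K), x, y]).deg := by
    rw [hmap, deg_add, deg_div hK, add_zero]
  rw [hdeg, he]
  ext P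
  rw [Finsupp.sub_apply, Finsupp.sub_apply, Finsupp.smul_apply, Finsupp.smul_apply,
    divDiff_apply_gen hK Φ hΦ (inv_ne_zero hfy) hdx P,
    divDiff_apply_gen hK Φ hΦ (inv_ne_zero hfy') hdx' P, hmap, Finsupp.add_apply, div_apply hK]
  -- local comparison of the orders of the differentials
  have hloc := D_mul_eq_of_kaehler hkey' (Φ P)
  have hD' : LocRes.D k (Φ P x') ≠ 0 := D_exp_ne_zero hK hg (hΦ P) hdx'
  have hne2 : Φ P g'⁻¹ * LocRes.D k (Φ P x') ≠ 0 :=
    mul_ne_zero ((map_ne_zero (Φ P)).2 (inv_ne_zero hfy')) hD'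
  have hord : LocRes.ordDiff (Φ P) g⁻¹ x = P.ord c + LocRes.ordDiff (Φ P) g'⁻¹ x' := by
    show ordL (Φ P g⁻¹ * LocRes.D k (Φ P x)) = P.ord c + ordL (Φ P g'⁻¹ * LocRes.D k (Φ P x'))
    rw [hloc, map_mul, mul_assoc, ordL_mul ((map_ne_zero (Φ P)).2 hc0) hne2,
      ordL_eq_ord (hΦ P)]
  have hordc : P.ord c = -(((e : ℤ) - 3) * P.ord (u 0)) := by
    rw [hc, Place.ord_mul P _ (zpow_ne_zero _ (inv_ne_zero hu0)), Place.ord_algebraMap,
      Place.ord_zpow', Place.ord_inv, zero_add]
    · ring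
    · rw [Ne, map_eq_zero_iff _ (algebraMap k K).injective]
      exact hA
  rw [hord, hordc]
  simp only [smul_eq_mul]
  ring



/-- Over an algebraically closed constant field, the adjoint divisor `Δ(φ) = (e - 3)[φ] - [dx/f̂_y]` of
an effective plane map `φ = (1 : x : y)` of degree `e`, with a homogeneous relation `f` of the same
degree `e` satisfying `f(1, x, y) = 0`, depends only on the equivalence class of `φ`: it is
unchanged under a change of projective coordinates `X = AX'`, with `x' = u₁/u₀`, `y' = u₂/u₀`, `u =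
A⁻¹(1, x, y)ᵗ`, `f'(X') = f(AX')`. Here `dx ≠ 0`, both `f̂_y` and `f̂'_{y'}` are nonzero, and
divisors of differentials are read through a family of Laurent expansions. (The published statement
takes `f` to be the minimal relation of `x` and `y` for a plane model `K = k(x, y)`, where the
degree of the map equals the degree of `f`; this row assumes only that `f` is homogeneous of degree
equal to the degree of the map, which is all the change-of-coordinates computation uses — when the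
two degrees differ the two sides differ by a multiple of the divisor of `u₀`.) -/
theorem result
    (k K : Type*) [Field k] [IsAlgClosed k] [Field K] [Algebra k K]
    (hK : FunFld.IsFunctionField k K) (f : MvPolynomial (Fin 3) k) (e : ℕ) (hf : f.IsHomogeneous e)
    (x y : K) (hfxy : MvPolynomial.aeval ![(1 : K), x, y] f = 0)
    (hdx : KaehlerDifferential.D k K x ≠ 0)
    (he : (FunFld.mapDiv k ![(1 : K), x, y]).deg = e)
    (A : Matrix (Fin 3) (Fin 3) k) (hA : A.det ≠ 0)
    (u : Fin 3 → K) (hu : ∀ i, ∑ j, algebraMap k K (A i j) * u j = ![(1 : K), x, y] i)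
    (hu0 : u 0 ≠ 0)
    (hfy : (MvPolynomial.aeval ![(1 : K), x, y] (MvPolynomial.pderiv 2 f)) ≠ 0)
    (hfy' : (MvPolynomial.aeval ![(1 : K), u 1 / u 0, u 2 / u 0] (MvPolynomial.pderiv 2 (MvPolynomial.aeval (fun i : Fin 3 => ∑ j, MvPolynomial.C (A i j) * MvPolynomial.X j) f))) ≠ 0)
    (Φ : FunFld.Place k K → (K →ₐ[k] LaurentSeries k))
    (hΦ : ∀ P : FunFld.Place k K, LocRes.IsExpansionAt P.1 (Φ P)) :
    ((FunFld.mapDiv k ![(1 : K), x, y]).deg - 3) • FunFld.mapDiv k ![(1 : K), x, y] -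
        FunFld.divDiff Φ (MvPolynomial.aeval ![(1 : K), x, y] (MvPolynomial.pderiv 2 f))⁻¹ x =
      ((FunFld.mapDiv k ![(1 : K), u 1 / u 0, u 2 / u 0]).deg - 3) •
          FunFld.mapDiv k ![(1 : K), u 1 / u 0, u 2 / u 0] -
        FunFld.divDiff Φ (MvPolynomial.aeval ![(1 : K), u 1 / u 0, u 2 / u 0] (MvPolynomial.pderiv 2 (MvPolynomial.aeval (fun i : Fin 3 => ∑ j, MvPolynomial.C (A i j) * MvPolynomial.X j) f)))⁻¹ (u 1 / u 0) := by
  exact main k K hK f e hf x y hfxy hdx he A hA u hu hu0 hfy hfy' Φ hΦ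

end Groth.Agent.S12616
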