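import Groth.Statements.S5713
import Mathlib
import Groth.Agent.Lib.Helper10.RegularCSA

set_option autoImplicit false
universe u v
open TensorProduct
open Dix

namespace Groth.Agent.S5713

set_option linter.style.haveILetI false
open Groth.Agent.Lib.Helper10.RegularCSA Groth.Agent.Lib.helper8.Az IsLocalRing Polynomial

theorem main (R : Type u) [CommRing R] [IsLocalRing R] (A : Type u) [Ring A] [Algebra R A]
    [IsAzumaya R A] (r : ℕ) (hA : Module.finrank R A = r ^ 2) (ξ : A)
    (hsep : Algebra.IsSeparable (IsLocalRing.ResidueField R) (Algebra.adjoin (IsLocalRing.ResidueField R) ({(1 : IsLocalRing.ResidueField R) ⊗ₜ[R] ξ} : Set (IsLocalRing.ResidueField R ⊗[R] A))))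
    (hrk : Module.finrank (IsLocalRing.ResidueField R) (Algebra.adjoin (IsLocalRing.ResidueField R) ({(1 : IsLocalRing.ResidueField R) ⊗ₜ[R] ξ} : Set (IsLocalRing.ResidueField R ⊗[R] A))) = r) :
    LinearIndependent R (fun i : Fin r => ξ ^ (i : ℕ)) ∧
      ξ ^ r ∈ Submodule.span R (Set.range (fun i : Fin r => ξ ^ (i : ℕ))) := by
  classical
  let k := ResidueField R
  haveI : Module.Free R A := Module.free_of_flat_of_isLocalRing
  haveI : IsAzumaya k (k ⊗[R] A) := isAzumaya_baseChange R k A
  obtain ⟨hc, hs⟩ := (isAzumaya_field_iff k (k ⊗[R] A)).mp inferInstance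
  have hfr : Module.finrank k (k ⊗[R] A) = r ^ 2 := by rw [Module.finrank_baseChange, hA]
  set x : k ⊗[R] A := (1 : k) ⊗ₜ[R] ξ with hx
  have hint : IsIntegral k x := Algebra.IsIntegral.isIntegral x
  have hsepx : (minpoly k x).Separable := by
    let g : Algebra.adjoin k ({x} : Set (k ⊗[R] A)) := ⟨x, Algebra.subset_adjoin rfl⟩
    have h1 : (minpoly k g).Separable := Algebra.IsSeparable.isSeparable k g
    have h2 : minpoly k ((Algebra.adjoin k ({x} : Set (k ⊗[R] A))).val g) = minpoly k g :=
      minpoly.algHom_eq _ Subtype.val_injective g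
    rw [← h2] at h1
    exact h1
  have hdegx : (minpoly k x).natDegree = r := by
    rw [← finrank_adjoin_singleton k (k ⊗[R] A) x hint]; exact hrk
  let v : Fin r → A := fun i => ξ ^ (i : ℕ)
  have hvk : LinearIndependent k (fun i : Fin r => x ^ (i : ℕ)) := by
    have := linearIndependent_pow (K := k) x
    rw [hdegx] at this
    exact this
  have hv_eq : ∀ i : Fin r, (TensorProduct.mk R k A 1) (v i) = x ^ (i : ℕ) := by
    intro i
    simp [v, hx, Algebra.TensorProduct.tmul_pow]
  have hli : LinearIndependent R v :=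
    Module.IsLocalRing.linearIndependent_of_flat v (by
      convert hvk using 1
      funext i
      exact hv_eq i)
  refine ⟨hli, ?_⟩
  let l : (Fin r → R) →ₗ[R] A := Fintype.linearCombination R v
  have key : ∀ w, l.lTensor k w = Fintype.linearCombination k (fun i : Fin r => x ^ (i : ℕ))
      (TensorProduct.piScalarRight R k k (Fin r) w) := by
    intro w
    induction w using TensorProduct.induction_on with
    | zero => simp
    | add a b ha hb => simp only [map_add, ha, hb]
    | tmul c f =>
      simp only [LinearMap.lTensor_tmul, piScalarRight_apply, piScalarRightHom_tmul, l,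
        Fintype.linearCombination_apply, tmul_sum]
      refine Finset.sum_congr rfl fun i _ => ?_
      rw [← hv_eq i, tmul_smul, TensorProduct.mk_apply, TensorProduct.smul_tmul',
        TensorProduct.smul_tmul', smul_eq_mul, mul_one]
  have hlk : Function.Injective (l.lTensor k) := by
    intro w w' h
    rw [key, key] at h
    exact (TensorProduct.piScalarRight R k k (Fin r)).injective
      (hvk.fintypeLinearCombination_injective h)
  obtain ⟨l', hl'⟩ := (IsLocalRing.split_injective_iff_lTensor_residueField_injective l).mpr hlk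
  let Φ : A →ₗ[R] A := LinearMap.mulLeft R ξ - LinearMap.mulRight R ξ
  let Ψ : A →ₗ[R] A × (Fin r → R) := Φ.prod l'
  have h3 : ∀ z, Φ.lTensor k z = x * z - z * x := by
    intro z
    induction z using TensorProduct.induction_on with
    | zero => simp
    | add a b ha hb => simp only [map_add, ha, hb, mul_add, add_mul]; abel
    | tmul c a => simp [Φ, hx, Algebra.TensorProduct.tmul_mul_tmul]
  have hΨk : Function.Injective (Ψ.lTensor k) := by
    rw [injective_iff_map_eq_zero]
    intro z hz
    have h1 : Φ.lTensor k z = 0 := by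
      have := congrArg ((LinearMap.fst R A (Fin r → R)).lTensor k) hz
      rwa [map_zero, ← LinearMap.comp_apply, ← LinearMap.lTensor_comp, LinearMap.fst_prod] at this
    have h2 : l'.lTensor k z = 0 := by
      have := congrArg ((LinearMap.snd R A (Fin r → R)).lTensor k) hz
      rwa [map_zero, ← LinearMap.comp_apply, ← LinearMap.lTensor_comp, LinearMap.snd_prod] at this
    have h4 : x * z = z * x := sub_eq_zero.mp (by rw [← h3]; exact h1)
    have h5 := mem_span_pow_of_commute k (k ⊗[R] A) r hfr x hsepx hdegx z h4
    obtain ⟨c, hc⟩ := (Submodule.mem_span_range_iff_exists_fun k).mp h5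
    let w := (TensorProduct.piScalarRight R k k (Fin r)).symm c
    have hw : l.lTensor k w = z := by
      rw [key, LinearEquiv.apply_symm_apply, Fintype.linearCombination_apply]
      exact hc
    have hw0 : w = 0 := by
      have := h2
      rw [← hw, ← LinearMap.comp_apply, ← LinearMap.lTensor_comp, hl', LinearMap.lTensor_id] at this
      simpa using this
    rw [← hw, hw0, map_zero]
  obtain ⟨Ψ', hΨ'⟩ := (IsLocalRing.split_injective_iff_lTensor_residueField_injective Ψ).mpr hΨk
  have hΨinj : Function.Injective Ψ :=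
    Function.HasLeftInverse.injective ⟨Ψ', LinearMap.congr_fun hΨ'⟩
  have hΦv : ∀ i : Fin r, Φ (v i) = 0 := by
    intro i
    simp only [Φ, v, LinearMap.sub_apply, LinearMap.mulLeft_apply, LinearMap.mulRight_apply]
    rw [← pow_succ', pow_succ, sub_self]
  have hΦl : ∀ c, Φ (l c) = 0 := by
    intro c
    simp only [l, Fintype.linearCombination_apply, map_sum, map_smul, hΦv, smul_zero,
      Finset.sum_const_zero]
  have hΦr : Φ (ξ ^ r) = 0 := by
    simp only [Φ, LinearMap.sub_apply, LinearMap.mulLeft_apply, LinearMap.mulRight_apply]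
    rw [← pow_succ', pow_succ, sub_self]
  have hδ : Ψ (ξ ^ r - l (l' (ξ ^ r))) = 0 := by
    have e1 : Φ (ξ ^ r - l (l' (ξ ^ r))) = 0 := by rw [map_sub, hΦr, hΦl, sub_self]
    have e2 : l' (ξ ^ r - l (l' (ξ ^ r))) = 0 := by
      have : l' (l (l' (ξ ^ r))) = l' (ξ ^ r) := LinearMap.congr_fun hl' _
      rw [map_sub, this, sub_self]
    change (Φ (ξ ^ r - l (l' (ξ ^ r))), l' (ξ ^ r - l (l' (ξ ^ r)))) = 0
    rw [e1, e2]
    rfl
  have h0 : ξ ^ r - l (l' (ξ ^ r)) = 0 := hΨinj (by rw [hδ, map_zero])
  rw [sub_eq_zero.mp h0]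
  exact (Submodule.mem_span_range_iff_exists_fun R).mpr ⟨l' (ξ ^ r), rfl⟩



/-- Over a local base. Let R be a local ring with residue field k, A an Azumaya algebra over R of rank
r², and ξ ∈ A an element whose image ξ̄ = 1 ⊗ ξ in k ⊗_R A is regular, i.e. generates a commutative
subalgebra k[ξ̄] which is étale over k (all elements separable) of dimension r. Then the powers 1,
ξ, …, ξ^{r-1} are linearly independent over R and ξ^r lies in their R-linear span; thus R[ξ] is a
free R-module of rank r closed under multiplication, and ξ is a regular section over all of Spec R. -/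
theorem result (R : Type u) [CommRing R] [IsLocalRing R] (A : Type u) [Ring A] [Algebra R A] [IsAzumaya R A] (r : ℕ) (hA : Module.finrank R A = r ^ 2) (ξ : A) (hsep : Algebra.IsSeparable (IsLocalRing.ResidueField R) (Algebra.adjoin (IsLocalRing.ResidueField R) ({(1 : IsLocalRing.ResidueField R) ⊗ₜ[R] ξ} : Set (IsLocalRing.ResidueField R ⊗[R] A)))) (hrk : Module.finrank (IsLocalRing.ResidueField R) (Algebra.adjoin (IsLocalRing.ResidueField R) ({(1 : IsLocalRing.ResidueField R) ⊗ₜ[R] ξ} : Set (IsLocalRing.ResidueField R ⊗[R] A))) = r) : LinearIndependent R (fun i : Fin r => ξ ^ (i : ℕ)) ∧ ξ ^ r ∈ Submodule.span R (Set.range (fun i : Fin r => ξ ^ (i : ℕ))) := by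
  exact main R A r hA ξ hsep hrk

end Groth.Agent.S5713
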