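import Groth.Statements.S5720
import Mathlib
import Groth.Agent.Lib.Helper10.AzHom
import Groth.Agent.Lib.Helper10.SpreadOut
import Groth.Agent.Lib.Helper10.LocalSplit

set_option autoImplicit false
universe u v
open TensorProduct
open Dix

namespace Groth.Agent.S5720

set_option linter.style.haveILetI false
set_option linter.unusedSectionVars false
open Polynomial Groth.Agent.Lib.Helper10.AzHom Groth.Agent.Lib.Helper10.SpreadOut
  Groth.Agent.Lib.Helper10.LocalSplit Groth.Agent.Lib.Helper10.EtaleAdjoinRoot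
  Groth.Agent.Lib.helper8.Az

theorem main (R : Type u) [CommRing R] (A : Type u) [Ring A] [Algebra R A] [IsAzumaya R A] (p : Ideal R) [p.IsPrime] : ∃ f : R, f ∉ p ∧ ∃ (R' : Type u) (_ : CommRing R') (_ : Algebra R R') (_ : Algebra (Localization.Away f) R') (_ : IsScalarTower R (Localization.Away f) R'), Module.Finite (Localization.Away f) R' ∧ Algebra.Etale (Localization.Away f) R' ∧ Module.FaithfullyFlat (Localization.Away f) R' ∧ ∃ r : ℕ, 1 ≤ r ∧ Nonempty ((R' ⊗[R] A) ≃ₐ[R'] Matrix (Fin r) (Fin r) R') := by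
  classical
  obtain ⟨r, F, ξ, y, hr1, hF, hFdeg, ha, hb, hc⟩ := exists_local_data R A p
  let ι := Fin r × Fin r
  let γ : (ι → R) →ₗ[R] A := Fintype.linearCombination R
    (fun ij : Fin r × Fin r => y ij.1 * ξ ^ (ij.2 : ℕ))
  haveI : Module.FinitePresentation R A := Module.finitePresentation_of_projective R A
  obtain ⟨t1, ht1, H1⟩ := tmul_eq_zero_away R p A (aeval ξ F) ha
  obtain ⟨t2, ht2, H2⟩ := separable_map_away R p F hF (by omega) hb
  obtain ⟨t3, ht3, H3⟩ := bijective_baseChange_away R p (ι → R) A γ hc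
  let h := t1 * t2 * t3
  have hh : h ∉ p := fun hmem => by
    rcases (Ideal.IsPrime.mem_or_mem ‹_› hmem) with h12 | h3
    · rcases (Ideal.IsPrime.mem_or_mem ‹_› h12) with h1 | h2
      exacts [ht1 h1, ht2 h2]
    · exact ht3 h3
  have hd1 : t1 ∣ h := ⟨t2 * t3, by ring⟩
  have hd2 : t2 ∣ h := ⟨t1 * t3, by ring⟩
  have hd3 : t3 ∣ h := ⟨t1 * t2, by ring⟩
  let Rh := Localization.Away h
  let ψ := algebraMap R Rh
  haveI : Nontrivial Rh := by
    have hu : IsUnit (algebraMap R (Localization.AtPrime p) h) :=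
      IsLocalization.map_units (Localization.AtPrime p) (⟨h, hh⟩ : p.primeCompl)
    exact (IsLocalization.Away.lift h hu : Rh →+* Localization.AtPrime p).domain_nontrivial
  let B := Rh ⊗[R] A
  haveI : IsAzumaya Rh B := isAzumaya_baseChange R Rh A
  let G := F.map ψ
  have hG : G.Monic := hF.map ψ
  have hGdeg : G.natDegree = r := by rw [hF.natDegree_map ψ, hFdeg]
  let ξh : B := (1 : Rh) ⊗ₜ[R] ξ
  have hξh : aeval ξh G = 0 := by
    rw [aeval_map_algebraMap Rh ξh F]
    have h2 : (Algebra.TensorProduct.includeRight : A →ₐ[R] Rh ⊗[R] A) ξ = ξh := rfl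
    rw [← h2, aeval_algHom_apply]
    exact H1 h hd1
  let yh : Fin r → B := fun i => (1 : Rh) ⊗ₜ[R] y i
  let b0 : Module.Basis ι Rh (Rh ⊗[R] (ι → R)) := (Pi.basisFun R ι).baseChange Rh
  let bh : Module.Basis ι Rh B :=
    b0.map (LinearEquiv.ofBijective (γ.baseChange Rh) (H3 h hd3))
  have hbh : ∀ i j, bh (i, j) = yh i * ξh ^ (j : ℕ) := by
    intro i j
    rw [Module.Basis.map_apply, LinearEquiv.ofBijective_apply, Module.Basis.baseChange_apply,
      LinearMap.baseChange_tmul, Pi.basisFun_apply, Fintype.linearCombination_apply_single,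
      one_smul, Algebra.TensorProduct.tmul_pow, one_pow, Algebra.TensorProduct.tmul_mul_tmul,
      one_mul]
  obtain ⟨e⟩ := nonempty_algEquiv_matrix' Rh B G hG r hGdeg hr1 ξh hξh yh bh hbh
  have hGsep : G.Separable := H2 h hd2
  haveI : Algebra.Etale Rh (AdjoinRoot G) := etale_adjoinRoot G hG hGsep
  let pb := AdjoinRoot.powerBasis' hG
  haveI : Module.Finite Rh (AdjoinRoot G) := pb.finite
  haveI : Module.Free Rh (AdjoinRoot G) := .of_basis pb.basis
  haveI : Nontrivial (AdjoinRoot G) := Module.nontrivial_of_finrank_pos (R := Rh) (by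
    rw [pb.finrank]
    change 0 < G.natDegree
    omega)
  refine ⟨h, hh, AdjoinRoot G, inferInstance, inferInstance, inferInstance, inferInstance,
    inferInstance, inferInstance, inferInstance, r, hr1,
    ⟨(cancelBaseChangeAlg R Rh (AdjoinRoot G) A).symm.trans e⟩⟩



/-- (ii) ⇒ (iii), over an affine base X = Spec R. Let A be an Azumaya algebra over the commutative ring
R and p a prime ideal of R. Then there exist f ∈ R with f ∉ p, a finite étale and faithfully flat
R_f-algebra R' (a finite étale surjective cover of the neighbourhood D(f) of p) and an integer r ≥ 1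
such that R' ⊗_R A is isomorphic as an R'-algebra to the matrix algebra M_r(R'). (Existence of the
isomorphism only.) -/
theorem result (R : Type u) [CommRing R] (A : Type u) [Ring A] [Algebra R A] [IsAzumaya R A] (p : Ideal R) [p.IsPrime] : ∃ f : R, f ∉ p ∧ ∃ (R' : Type u) (_ : CommRing R') (_ : Algebra R R') (_ : Algebra (Localization.Away f) R') (_ : IsScalarTower R (Localization.Away f) R'), Module.Finite (Localization.Away f) R' ∧ Algebra.Etale (Localization.Away f) R' ∧ Module.FaithfullyFlat (Localization.Away f) R' ∧ ∃ r : ℕ, 1 ≤ r ∧ Nonempty ((R' ⊗[R] A) ≃ₐ[R'] Matrix (Fin r) (Fin r) R') := by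
  exact main R A p

end Groth.Agent.S5720
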