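import Groth.Statements.S2041
import Mathlib
import Groth.Agent.Lib.Helper26.EtaleLiftIdem

set_option autoImplicit false
universe u
open CAlg

namespace Groth.Agent.S2041

open TensorProduct in
/-- Let `I ⊆ A` be an ideal, `A → B` integral and `ē` an idempotent of `B/IB`. Then there is an étale
`A`-algebra `A'` with `A/I → A'/IA'` bijective and an idempotent of `A' ⊗ B` whose class modulo `I`
agrees with that of any lift of `ē`. -/
theorem result {A B : Type u} [CommRing A] [CommRing B] [Algebra A B]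
    [Algebra.IsIntegral A B] (I : Ideal A) (e : B ⧸ I.map (algebraMap A B)) (he : IsIdempotentElem e) :
    ∃ (A' : Type u) (_ : CommRing A') (_ : Algebra A A'), Algebra.Etale A A' ∧
      Function.Bijective (algebraMap (A ⧸ I) (A' ⧸ I.map (algebraMap A A'))) ∧
      ∃ e' : A' ⊗[A] B, IsIdempotentElem e' ∧
        ∀ b : B, Ideal.Quotient.mk (I.map (algebraMap A B)) b = e →
          e' - 1 ⊗ₜ b ∈ I.map (algebraMap A (A' ⊗[A] B)) := by
  classical
  obtain ⟨b, hb⟩ := Ideal.Quotient.mk_surjective e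
  have hz : b ^ 2 - b ∈ I.map (algebraMap A B) := by
    rw [← Ideal.Quotient.eq_zero_iff_mem, map_sub, map_pow, hb, pow_two, he.eq, sub_self]
  obtain ⟨p₀, hp₀, hp₀z, hp₀I⟩ := Polynomial.exists_monic_aeval_eq_zero_forall_mem_of_mem_map hz
  set f : Polynomial A := (p₀ * Polynomial.X).comp (Polynomial.X ^ 2 - Polynomial.X) with hf
  have hfmonic : f.Monic := Groth.Agent.Lib.helper26.EtaleLift.monic_comp_aux p₀ hp₀
  have hfmap := Groth.Agent.Lib.helper26.EtaleLift.map_comp_aux I p₀ hp₀ hp₀I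
  have hfb : Polynomial.aeval b f = 0 := by
    rw [hf, Groth.Agent.Lib.helper26.EtaleLift.aeval_comp_aux, hp₀z, zero_mul]
  obtain ⟨A', i1, i2, hét, hbij, Q, R, S, ⟨T, hT⟩, hQ, hS⟩ :=
    Groth.Agent.Lib.helper26.EtaleLift.exists_idempotent_polynomial I f hfmonic p₀.natDegree hfmap
  refine ⟨A', i1, i2, hét, hbij, Polynomial.aeval ((1 : A') ⊗ₜ[A] b) Q, ?_, ?_⟩
  · -- idempotent
    have h1 : Polynomial.aeval ((1 : A') ⊗ₜ[A] b) (f.map (algebraMap A A')) = 0 := by
      rw [Polynomial.aeval_map_algebraMap]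
      have : ((1 : A') ⊗ₜ[A] b) = (Algebra.TensorProduct.includeRight : B →ₐ[A] A' ⊗[A] B) b := rfl
      rw [this, Polynomial.aeval_algHom_apply, hfb, map_zero]
    have h2 := congrArg (Polynomial.aeval ((1 : A') ⊗ₜ[A] b)) hT
    rw [map_mul, h1, zero_mul, map_sub, map_pow, sub_eq_zero, pow_two] at h2
    exact h2
  · intro b' hb'
    -- the ideal
    set J := I.map (algebraMap A (A' ⊗[A] B)) with hJ
    have hinc : ∀ x ∈ I.map (algebraMap A B), (1 : A') ⊗ₜ[A] x ∈ J := by
      intro x hx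
      have : ((1 : A') ⊗ₜ[A] x) = (Algebra.TensorProduct.includeRight : B →ₐ[A] A' ⊗[A] B) x := rfl
      rw [this]
      have h3 : (I.map (algebraMap A B)).map
          ((Algebra.TensorProduct.includeRight : B →ₐ[A] A' ⊗[A] B) : B →+* A' ⊗[A] B) = J := by
        rw [Ideal.map_map, hJ]
        congr 1
        exact (Algebra.TensorProduct.includeRight : B →ₐ[A] A' ⊗[A] B).comp_algebraMap
      rw [← h3]
      exact Ideal.mem_map_of_mem _ hx
    have hA' : ∀ s ∈ I.map (algebraMap A A'), algebraMap A' (A' ⊗[A] B) s ∈ J := by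
      intro s hs
      have h3 : (I.map (algebraMap A A')).map (algebraMap A' (A' ⊗[A] B)) = J := by
        rw [Ideal.map_map, hJ, ← IsScalarTower.algebraMap_eq]
      rw [← h3]
      exact Ideal.mem_map_of_mem _ hs
    have hbb' : b - b' ∈ I.map (algebraMap A B) := by
      rw [← Ideal.Quotient.eq, hb, hb']
    have h4 : Polynomial.aeval ((1 : A') ⊗ₜ[A] b) Q - (1 : A') ⊗ₜ[A] b ∈ J := by
      have h5 := congrArg (Polynomial.aeval ((1 : A') ⊗ₜ[A] b)) hQ
      rw [map_sub, Polynomial.aeval_X, map_add, map_mul, map_sub, map_pow, Polynomial.aeval_X] at h5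
      rw [h5]
      apply Ideal.add_mem
      · apply Ideal.mul_mem_right
        have : ((1 : A') ⊗ₜ[A] b) ^ 2 - (1 : A') ⊗ₜ[A] b = (1 : A') ⊗ₜ[A] (b ^ 2 - b) := by
          rw [TensorProduct.tmul_sub, Algebra.TensorProduct.tmul_pow, one_pow]
        rw [this]
        exact hinc _ hz
      · rw [Polynomial.aeval_eq_sum_range]
        apply Ideal.sum_mem
        intro i _
        rw [Algebra.smul_def]
        exact Ideal.mul_mem_right _ _ (hA' _ (hS i))
    have h6 : Polynomial.aeval ((1 : A') ⊗ₜ[A] b) Q - (1 : A') ⊗ₜ[A] b' =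
        (Polynomial.aeval ((1 : A') ⊗ₜ[A] b) Q - (1 : A') ⊗ₜ[A] b) + (1 : A') ⊗ₜ[A] (b - b') := by
      rw [TensorProduct.tmul_sub]; ring
    rw [h6]
    exact Ideal.add_mem _ h4 (hinc _ hbb')


end Groth.Agent.S2041
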