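import Groth.Statements.S16605
import Mathlib

set_option autoImplicit false
universe u v
open LGRing TensorProduct Matrix

namespace Groth.Agent.S16605

/-- LG property for an arbitrary finite type of variables. -/
theorem representsUnit_of_fintype {R : Type u} [CommRing R] (hR : LGRing.IsLGRing R) {σ : Type}
    [Fintype σ] (f : MvPolynomial σ R)
    (h : ∀ (m : Ideal R) [m.IsMaximal], LGRing.RepresentsUnit f (R ⧸ m)) :
    LGRing.RepresentsUnit f R := by
  classical
  let ε : σ ≃ Fin (Fintype.card σ) := Fintype.equivFin σ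
  have key : ∀ {S : Type u} [CommRing S] [Algebra R S],
      LGRing.RepresentsUnit (MvPolynomial.rename ε f) S ↔ LGRing.RepresentsUnit f S := by
    intro S _ _
    constructor
    · rintro ⟨s, hs⟩
      exact ⟨s ∘ ε, by rwa [MvPolynomial.aeval_rename] at hs⟩
    · rintro ⟨s, hs⟩
      refine ⟨s ∘ ε.symm, ?_⟩
      rw [MvPolynomial.aeval_rename]
      have : (s ∘ ε.symm) ∘ ε = s := by
        funext x; simp
      rwa [this]
  exact key.mp (hR _ _ fun m hm => key.mpr (h m))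

section mat

variable {R : Type u} [CommRing R] {a b : ℕ}

/-- The block matrix whose invertibility expresses that `X`, `Y` induce mutually "inverse"
maps between the images of the idempotents. -/
noncomputable def Tmat (E₁ : Matrix (Fin a) (Fin a) R) (E₂ : Matrix (Fin b) (Fin b) R)
    (S : Type*) [CommRing S] [Algebra R S]
    (X : Matrix (Fin b) (Fin a) S) (Y : Matrix (Fin a) (Fin b) S) :
    Matrix (Fin a ⊕ Fin b) (Fin a ⊕ Fin b) S :=
  Matrix.fromBlocks (1 - E₁.map (algebraMap R S))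
    (E₁.map (algebraMap R S) * Y * E₂.map (algebraMap R S))
    (E₂.map (algebraMap R S) * X * E₁.map (algebraMap R S)) (1 - E₂.map (algebraMap R S))

/-- the variables -/
abbrev Var (a b : ℕ) : Type := (Fin b × Fin a) ⊕ (Fin a × Fin b)

noncomputable def Xof {S : Type*} (s : Var a b → S) : Matrix (Fin b) (Fin a) S :=
  Matrix.of fun i j => s (Sum.inl (i, j))

noncomputable def Yof {S : Type*} (s : Var a b → S) : Matrix (Fin a) (Fin b) S :=
  Matrix.of fun i j => s (Sum.inr (i, j))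

/-- the polynomial -/
noncomputable def Gpoly (E₁ : Matrix (Fin a) (Fin a) R) (E₂ : Matrix (Fin b) (Fin b) R) :
    MvPolynomial (Var a b) R :=
  (Tmat E₁ E₂ (MvPolynomial (Var a b) R) (Xof MvPolynomial.X) (Yof MvPolynomial.X)).det

theorem aeval_Gpoly (E₁ : Matrix (Fin a) (Fin a) R) (E₂ : Matrix (Fin b) (Fin b) R)
    {S : Type*} [CommRing S] [Algebra R S] (s : Var a b → S) :
    MvPolynomial.aeval s (Gpoly E₁ E₂) = (Tmat E₁ E₂ S (Xof s) (Yof s)).det := by
  unfold Gpoly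
  rw [AlgHom.map_det, AlgHom.mapMatrix_apply]
  congr 1
  unfold Tmat
  have h1 : ∀ {k : ℕ} (E : Matrix (Fin k) (Fin k) R),
      (E.map (algebraMap R (MvPolynomial (Var a b) R))).map (MvPolynomial.aeval s) =
        E.map (algebraMap R S) := by
    intro k E
    ext i j
    simp
  have h2 : (Xof (MvPolynomial.X : Var a b → MvPolynomial (Var a b) R)).map (MvPolynomial.aeval s) =
      Xof s := by
    ext i j
    simp [Xof]
  have h3 : (Yof (MvPolynomial.X : Var a b → MvPolynomial (Var a b) R)).map (MvPolynomial.aeval s) =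
      Yof s := by
    ext i j
    simp [Yof]
  rw [Matrix.fromBlocks_map, Matrix.map_sub, Matrix.map_sub, Matrix.map_mul, Matrix.map_mul,
    Matrix.map_mul, Matrix.map_mul, h1, h1, h2, h3, Matrix.map_one]
  all_goals simp

end mat


section main

theorem mem_smul_top_of_one_tmul_eq_zero {R : Type u} [CommRing R] (m : Ideal R) {M : Type v}
    [AddCommGroup M] [Module R M] (z : M)
    (h : (1 : R ⧸ m) ⊗ₜ[R] z = 0) : z ∈ m • (⊤ : Submodule R M) := by
  have := congrArg (TensorProduct.quotTensorEquivQuotSMul M m) h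
  rw [← map_one (Ideal.Quotient.mk m), TensorProduct.quotTensorEquivQuotSMul_mk_tmul, map_zero,
    one_smul] at this
  exact (Submodule.Quotient.mk_eq_zero _).mp this

theorem apply_mem_of_mem_smul_top {R : Type u} [CommRing R] (m : Ideal R) {M : Type v}
    [AddCommGroup M] [Module R M] (ℓ : M →ₗ[R] R) {z : M}
    (hz : z ∈ m • (⊤ : Submodule R M)) : ℓ z ∈ m := by
  refine Submodule.smul_induction_on hz ?_ ?_
  · intro r hr x _
    rw [map_smul, smul_eq_mul]
    exact Ideal.mul_mem_right _ _ hr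
  · intro x y hx hy
    rw [map_add]
    exact Ideal.add_mem _ hx hy

theorem tmul_one_surjective {R : Type u} [CommRing R] (m : Ideal R) (M : Type v)
    [AddCommGroup M] [Module R M] :
    Function.Surjective (TensorProduct.mk R (R ⧸ m) M 1) := by
  intro t
  induction t using TensorProduct.induction_on with
  | zero => exact ⟨0, map_zero _⟩
  | tmul c y =>
    obtain ⟨r, rfl⟩ := Ideal.Quotient.mk_surjective c
    refine ⟨r • y, ?_⟩
    simp only [TensorProduct.mk_apply]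
    rw [TensorProduct.tmul_smul, TensorProduct.smul_tmul']
    congr 1
    rw [Algebra.smul_def, mul_one]
    rfl
  | add x y hx hy =>
    obtain ⟨x', rfl⟩ := hx
    obtain ⟨y', rfl⟩ := hy
    exact ⟨x' + y', map_add _ _ _⟩

/-- Over an LG-ring, two finite projective modules whose fibres at all maximal ideals are
isomorphic are isomorphic. -/
theorem nonempty_linearEquiv_of_fibres {R : Type u} [CommRing R] (hR : LGRing.IsLGRing R)
    (M₁ M₂ : Type v) [AddCommGroup M₁] [Module R M₁] [Module.Finite R M₁] [Module.Projective R M₁]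
    [AddCommGroup M₂] [Module R M₂] [Module.Finite R M₂] [Module.Projective R M₂]
    (h : ∀ (m : Ideal R) [m.IsMaximal], Nonempty ((R ⧸ m) ⊗[R] M₁ ≃ₗ[R] (R ⧸ m) ⊗[R] M₂)) :
    Nonempty (M₁ ≃ₗ[R] M₂) := by
  classical
  obtain ⟨a, f₁, g₁, -, -, hfg₁⟩ := Module.Finite.exists_comp_eq_id_of_projective R M₁
  obtain ⟨b, f₂, g₂, -, -, hfg₂⟩ := Module.Finite.exists_comp_eq_id_of_projective R M₂
  have h₁ : ∀ x, f₁ (g₁ x) = x := fun x => LinearMap.congr_fun hfg₁ x
  have h₂ : ∀ x, f₂ (g₂ x) = x := fun x => LinearMap.congr_fun hfg₂ x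
  let E₁ : Matrix (Fin a) (Fin a) R := LinearMap.toMatrix' (g₁ ∘ₗ f₁)
  let E₂ : Matrix (Fin b) (Fin b) R := LinearMap.toMatrix' (g₂ ∘ₗ f₂)
  have hmapid : ∀ {k l : ℕ} (E : Matrix (Fin k) (Fin l) R), E.map (algebraMap R R) = E := by
    intro k l E
    ext i j
    simp
  have hrep : LGRing.RepresentsUnit (Gpoly E₁ E₂) R := by
    apply representsUnit_of_fintype hR
    intro m hm
    obtain ⟨θ⟩ := h m
    -- lifts
    obtain ⟨φ, hφ⟩ := Module.projective_lifting_property (TensorProduct.mk R (R ⧸ m) M₂ 1)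
      (θ.toLinearMap ∘ₗ TensorProduct.mk R (R ⧸ m) M₁ 1) (tmul_one_surjective m M₂)
    obtain ⟨ψ, hψ⟩ := Module.projective_lifting_property (TensorProduct.mk R (R ⧸ m) M₁ 1)
      (θ.symm.toLinearMap ∘ₗ TensorProduct.mk R (R ⧸ m) M₂ 1) (tmul_one_surjective m M₁)
    have hφ' : ∀ x, (1 : R ⧸ m) ⊗ₜ[R] φ x = θ (1 ⊗ₜ x) := fun x => LinearMap.congr_fun hφ x
    have hψ' : ∀ y, (1 : R ⧸ m) ⊗ₜ[R] ψ y = θ.symm (1 ⊗ₜ y) := fun y => LinearMap.congr_fun hψ y
    have hδ₁ : ∀ x, ψ (φ x) - x ∈ m • (⊤ : Submodule R M₁) := by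
      intro x
      apply mem_smul_top_of_one_tmul_eq_zero
      rw [TensorProduct.tmul_sub, hψ', hφ', θ.symm_apply_apply, sub_self]
    have hδ₂ : ∀ y, φ (ψ y) - y ∈ m • (⊤ : Submodule R M₂) := by
      intro y
      apply mem_smul_top_of_one_tmul_eq_zero
      rw [TensorProduct.tmul_sub, hφ', hψ', θ.apply_symm_apply, sub_self]
    let X₀ : Matrix (Fin b) (Fin a) R := LinearMap.toMatrix' (g₂ ∘ₗ φ ∘ₗ f₁)
    let Y₀ : Matrix (Fin a) (Fin b) R := LinearMap.toMatrix' (g₁ ∘ₗ ψ ∘ₗ f₂)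
    let s₀ : Var a b → R := Sum.elim (fun ij => X₀ ij.1 ij.2) (fun ij => Y₀ ij.1 ij.2)
    refine ⟨algebraMap R (R ⧸ m) ∘ s₀, ?_⟩
    rw [MvPolynomial.aeval_algebraMap_apply, aeval_Gpoly]
    have hX : Xof s₀ = X₀ := by ext i j; rfl
    have hY : Yof s₀ = Y₀ := by ext i j; rfl
    rw [hX, hY]
    -- matrix identities
    have hE₁ : E₁ * E₁ = E₁ := by
      rw [← LinearMap.toMatrix'_comp]
      congr 1
      refine LinearMap.ext fun x => ?_
      simp [h₁]
    have hE₂ : E₂ * E₂ = E₂ := by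
      rw [← LinearMap.toMatrix'_comp]
      congr 1
      refine LinearMap.ext fun x => ?_
      simp [h₂]
    have hEY : E₁ * Y₀ = Y₀ := by
      rw [← LinearMap.toMatrix'_comp]
      congr 1
      refine LinearMap.ext fun x => ?_
      simp [h₁]
    have hYE : Y₀ * E₂ = Y₀ := by
      rw [← LinearMap.toMatrix'_comp]
      congr 1
      refine LinearMap.ext fun x => ?_
      simp [h₂]
    have hEX : E₂ * X₀ = X₀ := by
      rw [← LinearMap.toMatrix'_comp]
      congr 1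
      refine LinearMap.ext fun x => ?_
      simp [h₂]
    have hXE : X₀ * E₁ = X₀ := by
      rw [← LinearMap.toMatrix'_comp]
      congr 1
      refine LinearMap.ext fun x => ?_
      simp [h₁]
    let D₁ : Matrix (Fin a) (Fin a) R :=
      LinearMap.toMatrix' (g₁ ∘ₗ (ψ ∘ₗ φ - LinearMap.id) ∘ₗ f₁)
    let D₂ : Matrix (Fin b) (Fin b) R :=
      LinearMap.toMatrix' (g₂ ∘ₗ (φ ∘ₗ ψ - LinearMap.id) ∘ₗ f₂)
    have hYX : Y₀ * X₀ = E₁ + D₁ := by
      rw [← LinearMap.toMatrix'_comp, ← map_add]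
      congr 1
      refine LinearMap.ext fun x => ?_
      simp [h₂]
    have hXY : X₀ * Y₀ = E₂ + D₂ := by
      rw [← LinearMap.toMatrix'_comp, ← map_add]
      congr 1
      refine LinearMap.ext fun x => ?_
      simp [h₁]
    have hD₁ : D₁.map (Ideal.Quotient.mk m) = 0 := by
      ext i j
      rw [Matrix.map_apply, Matrix.zero_apply, Ideal.Quotient.eq_zero_iff_mem]
      have e : D₁ i j = _ := LinearMap.toMatrix'_apply _ i j
      rw [e]
      exact apply_mem_of_mem_smul_top m ((LinearMap.proj i) ∘ₗ g₁) (hδ₁ _)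
    have hD₂ : D₂.map (Ideal.Quotient.mk m) = 0 := by
      ext i j
      rw [Matrix.map_apply, Matrix.zero_apply, Ideal.Quotient.eq_zero_iff_mem]
      have e : D₂ i j = _ := LinearMap.toMatrix'_apply _ i j
      rw [e]
      exact apply_mem_of_mem_smul_top m ((LinearMap.proj i) ∘ₗ g₂) (hδ₂ _)
    have hT : Tmat E₁ E₂ R X₀ Y₀ = Matrix.fromBlocks (1 - E₁) Y₀ X₀ (1 - E₂) := by
      unfold Tmat
      rw [hmapid, hmapid, hEY, hYE, hEX, hXE]
    have hsq : (Tmat E₁ E₂ R X₀ Y₀ * Tmat E₁ E₂ R X₀ Y₀).map (Ideal.Quotient.mk m) = 1 := by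
      rw [hT, Matrix.fromBlocks_multiply]
      have e11 : (1 - E₁) * (1 - E₁) + Y₀ * X₀ = 1 + D₁ := by
        simp only [hYX, sub_mul, mul_sub, hE₁, mul_one, one_mul]
        abel
      have e12 : (1 - E₁) * Y₀ + Y₀ * (1 - E₂) = 0 := by
        rw [Matrix.sub_mul, Matrix.mul_sub, hEY, hYE, Matrix.one_mul, Matrix.mul_one]
        abel
      have e21 : X₀ * (1 - E₁) + (1 - E₂) * X₀ = 0 := by
        rw [Matrix.sub_mul, Matrix.mul_sub, hEX, hXE, Matrix.one_mul, Matrix.mul_one]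
        abel
      have e22 : X₀ * Y₀ + (1 - E₂) * (1 - E₂) = 1 + D₂ := by
        simp only [hXY, sub_mul, mul_sub, hE₂, mul_one, one_mul]
        abel
      rw [e11, e12, e21, e22, Matrix.fromBlocks_map, Matrix.map_add _ (map_add _),
        Matrix.map_add _ (map_add _), hD₁, hD₂, Matrix.map_one _ (map_zero _) (map_one _),
        Matrix.map_one _ (map_zero _) (map_one _), Matrix.map_zero _ (map_zero _),
        Matrix.map_zero _ (map_zero _), add_zero, add_zero, Matrix.fromBlocks_one]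
    have hmul : algebraMap R (R ⧸ m) (Tmat E₁ E₂ R X₀ Y₀).det *
        algebraMap R (R ⧸ m) (Tmat E₁ E₂ R X₀ Y₀).det = 1 := by
      rw [← map_mul, ← Matrix.det_mul]
      change Ideal.Quotient.mk m _ = 1
      rw [RingHom.map_det, RingHom.mapMatrix_apply, hsq, Matrix.det_one]
    exact IsUnit.of_mul_eq_one _ hmul
  obtain ⟨s, hs⟩ := hrep
  rw [aeval_Gpoly] at hs
  set X := Xof s with hXdef
  set Y := Yof s with hYdef
  have hT : Tmat E₁ E₂ R X Y =
      Matrix.fromBlocks (1 - E₁) (E₁ * Y * E₂) (E₂ * X * E₁) (1 - E₂) := by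
    unfold Tmat
    rw [hmapid, hmapid]
  have hunit : IsUnit (Tmat E₁ E₂ R X Y) := (Matrix.isUnit_iff_isUnit_det _).mpr hs
  have hE₁v : ∀ v, E₁ *ᵥ v = g₁ (f₁ v) := fun v => LinearMap.toMatrix'_mulVec _ v
  have hE₂v : ∀ v, E₂ *ᵥ v = g₂ (f₂ v) := fun v => LinearMap.toMatrix'_mulVec _ v
  let φ : M₁ →ₗ[R] M₂ := f₂ ∘ₗ Matrix.toLin' X ∘ₗ g₁
  have hφ : ∀ x, φ x = f₂ (X *ᵥ g₁ x) := fun x => rfl
  have hC : ∀ u : Fin a → R, (E₂ * X * E₁) *ᵥ u = g₂ (φ (f₁ u)) := by
    intro u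
    rw [← Matrix.mulVec_mulVec, ← Matrix.mulVec_mulVec, hE₁v, hE₂v, hφ]
  have hinj : Function.Injective φ := by
    rw [injective_iff_map_eq_zero]
    intro x hx
    have hv : Tmat E₁ E₂ R X Y *ᵥ (Sum.elim (g₁ x) 0) = Tmat E₁ E₂ R X Y *ᵥ 0 := by
      rw [hT, Matrix.fromBlocks_mulVec, Matrix.mulVec_zero]
      simp only [Sum.elim_comp_inl, Sum.elim_comp_inr, Matrix.mulVec_zero, add_zero]
      rw [hC, h₁, hx, map_zero, Matrix.sub_mulVec, Matrix.one_mulVec, hE₁v, h₁, sub_self]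
      simp
    have := Matrix.mulVec_injective_of_isUnit hunit hv
    have hg : g₁ x = 0 := by
      have := congrArg (fun w => w ∘ Sum.inl) this
      simpa using this
    rw [← h₁ x, hg, map_zero]
  have hsurj : Function.Surjective φ := by
    intro y
    obtain ⟨v, hv⟩ := Matrix.mulVec_surjective_iff_isUnit.mpr hunit (Sum.elim 0 (g₂ y))
    rw [hT, Matrix.fromBlocks_mulVec] at hv
    have h2 := congrArg (fun w => w ∘ Sum.inr) hv
    simp only [Sum.elim_comp_inr] at h2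
    refine ⟨f₁ (v ∘ Sum.inl), ?_⟩
    have h3 := congrArg f₂ h2
    rw [map_add, hC, h₂, h₂, Matrix.sub_mulVec, Matrix.one_mulVec, hE₂v, map_sub, h₂, sub_self,
      add_zero] at h3
    exact h3
  exact ⟨LinearEquiv.ofBijective φ ⟨hinj, hsurj⟩⟩

end main
/-- Let R be an LG-ring, M₁ and M₂ finite projective R-modules and n ≥ 1 an integer. If M₁ⁿ ≅ M₂ⁿ as
R-modules then M₁ ≅ M₂ (cancellation of modules). -/
theorem result {R : Type u} [CommRing R] (hR : LGRing.IsLGRing R)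
    (M₁ M₂ : Type v) [AddCommGroup M₁] [Module R M₁] [Module.Finite R M₁] [Module.Projective R M₁]
    [AddCommGroup M₂] [Module R M₂] [Module.Finite R M₂] [Module.Projective R M₂] (n : ℕ) (hn : 0 < n)
    (e : (Fin n → M₁) ≃ₗ[R] (Fin n → M₂)) : Nonempty (M₁ ≃ₗ[R] M₂) := by
  classical
  apply nonempty_linearEquiv_of_fibres hR M₁ M₂
  intro m hm
  letI : Field (R ⧸ m) := Ideal.Quotient.field m
  have e1 : Module.finrank (R ⧸ m) ((R ⧸ m) ⊗[R] (Fin n → M₁)) = Module.finrank (R ⧸ m) ((R ⧸ m) ⊗[R] (Fin n → M₂)) :=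
    LinearEquiv.finrank_eq (LinearEquiv.baseChange R (R ⧸ m) (Fin n → M₁) (Fin n → M₂) e)
  have e2 : ∀ (M : Type v) [AddCommGroup M] [Module R M] [Module.Finite R M],
      Module.finrank (R ⧸ m) ((R ⧸ m) ⊗[R] (Fin n → M)) = n * Module.finrank (R ⧸ m) ((R ⧸ m) ⊗[R] M) := by
    intro M _ _ _
    rw [LinearEquiv.finrank_eq (TensorProduct.piRight R (R ⧸ m) (R ⧸ m) (fun _ : Fin n => M)),
      Module.finrank_pi_fintype]
    simp
  rw [e2 M₁, e2 M₂] at e1
  have e3 : Module.finrank (R ⧸ m) ((R ⧸ m) ⊗[R] M₁) = Module.finrank (R ⧸ m) ((R ⧸ m) ⊗[R] M₂) :=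
    Nat.eq_of_mul_eq_mul_left hn e1
  exact ⟨(LinearEquiv.ofFinrankEq ((R ⧸ m) ⊗[R] M₁) ((R ⧸ m) ⊗[R] M₂) e3).restrictScalars R⟩

end Groth.Agent.S16605
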