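import Groth.Statements.S0191
import Mathlib
-- import your own Groth.Agent.* helpers here

set_option autoImplicit false
universe u v w
open scoped TensorProduct
open Curves

namespace Groth.Agent.S0191

section helpers
open TensorProduct Module

section coords
variable {k : Type u} [Field k] {A : Type v} [Ring A] [Algebra k A] {B : Type w} [Ring B]
  [Algebra k B] {ι : Type*} [DecidableEq ι] (b : Basis ι k A)

/-- coordinates of `A ⊗ B` with respect to a `k`-basis of `A` -/
noncomputable def Φ : A ⊗[k] B ≃ₗ[k] (ι →₀ B) :=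
  (TensorProduct.congr b.repr (LinearEquiv.refl k B)) ≪≫ₗ TensorProduct.finsuppScalarLeft k B ι

theorem Φ_tmul (a : A) (c : B) (i : ι) : Φ b (a ⊗ₜ[k] c) i = b.repr a i • c := by
  simp [Φ]

theorem Φ_mulL (d : B) (x : A ⊗[k] B) (i : ι) :
    Φ b ((1 ⊗ₜ[k] d) * x) i = d * Φ b x i := by
  induction x using TensorProduct.induction_on with
  | zero => simp
  | tmul a c =>
    rw [Algebra.TensorProduct.tmul_mul_tmul, Φ_tmul, Φ_tmul, one_mul, mul_smul_comm]
  | add x y hx hy =>
    rw [mul_add, map_add, Finsupp.add_apply, hx, hy, map_add, Finsupp.add_apply, mul_add]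

theorem Φ_mulR (d : B) (x : A ⊗[k] B) (i : ι) :
    Φ b (x * (1 ⊗ₜ[k] d)) i = Φ b x i * d := by
  induction x using TensorProduct.induction_on with
  | zero => simp
  | tmul a c =>
    rw [Algebra.TensorProduct.tmul_mul_tmul, Φ_tmul, Φ_tmul, mul_one, smul_mul_assoc]
  | add x y hx hy =>
    rw [add_mul, map_add, Finsupp.add_apply, hx, hy, map_add, Finsupp.add_apply, add_mul]

theorem Φ_symm_single (i : ι) (c : B) : (Φ b).symm (Finsupp.single i c) = b i ⊗ₜ[k] c := by
  rw [LinearEquiv.symm_apply_eq]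
  ext j
  rw [Φ_tmul, Basis.repr_self, Finsupp.single_apply, Finsupp.single_apply]
  split_ifs <;> simp

theorem eq_sum (x : A ⊗[k] B) : x = ∑ i ∈ (Φ b x).support, b i ⊗ₜ[k] (Φ b x i) := by
  conv_lhs => rw [← (Φ b).symm_apply_apply x, ← Finsupp.sum_single (Φ b x)]
  rw [Finsupp.sum, map_sum]
  exact Finset.sum_congr rfl fun i _ => Φ_symm_single b i _

theorem Φ_basis_tmul (i : ι) (c : B) : Φ b (b i ⊗ₜ[k] c) = Finsupp.single i c := by
  rw [← Φ_symm_single, LinearEquiv.apply_symm_apply]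

end coords

section main
variable {k : Type u} [Field k] {A : Type v} [Ring A] [Algebra k A] {B : Type w} [Ring B]
  [Algebra k B]

/-- the `k`-subspace of `A` of those `a` with `a ⊗ 1 ∈ I` -/
def Jk (I : TwoSidedIdeal (A ⊗[k] B)) : Submodule k A where
  carrier := {a | a ⊗ₜ[k] (1 : B) ∈ I}
  add_mem' := by
    intro a a' ha ha'
    simp only [Set.mem_ofPred_eq, add_tmul] at ha ha' ⊢
    exact I.add_mem ha ha'
  zero_mem' := by simp [zero_tmul, I.zero_mem]
  smul_mem' := by
    intro c a ha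
    simp only [Set.mem_ofPred_eq] at ha ⊢
    rw [← smul_tmul', Algebra.smul_def]
    exact I.mul_mem_left _ _ ha

theorem mem_Jk (I : TwoSidedIdeal (A ⊗[k] B)) (a : A) : a ∈ Jk I ↔ a ⊗ₜ[k] (1 : B) ∈ I := Iff.rfl

variable [Algebra.IsCentral k B] [IsSimpleRing B]

theorem key (I : TwoSidedIdeal (A ⊗[k] B)) {ι : Type*} [DecidableEq ι] (b : Basis ι k A)
    (p : ι → Prop)
    (hp : ∀ a : A, a ⊗ₜ[k] (1 : B) ∈ I → (∀ i ∈ (b.repr a).support, p i) → a = 0) :
    ∀ n, ∀ y ∈ I, (∀ i ∈ (Φ b y).support, p i) → (Φ b y).support.card = n → y = 0 := by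
  intro n
  induction n using Nat.strong_induction_on with
  | _ n ih =>
  intro y hyI hyp hcard
  by_contra hy0
  have hne : (Φ b y).support.Nonempty := by
    rw [Finsupp.support_nonempty_iff]
    intro h
    exact hy0 ((Φ b).injective (by rw [h, map_zero]))
  obtain ⟨i0, hi0⟩ := hne
  let T : TwoSidedIdeal B := TwoSidedIdeal.mk'
    {c | ∃ w ∈ I, (Φ b w).support ⊆ (Φ b y).support ∧ Φ b w i0 = c}
    ⟨0, I.zero_mem, by simp, by simp⟩
    (by
      rintro c c' ⟨w, hw, hws, rfl⟩ ⟨w', hw', hws', rfl⟩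
      refine ⟨w + w', I.add_mem hw hw', ?_, by simp⟩
      rw [map_add]
      exact Finsupp.support_add.trans (Finset.union_subset hws hws'))
    (by
      rintro c ⟨w, hw, hws, rfl⟩
      refine ⟨-w, I.neg_mem hw, ?_, by simp⟩
      rw [map_neg, Finsupp.support_neg]
      exact hws)
    (by
      rintro d c ⟨w, hw, hws, rfl⟩
      refine ⟨(1 ⊗ₜ[k] d) * w, I.mul_mem_left _ _ hw, ?_, Φ_mulL b d w i0⟩
      intro j hj
      rw [Finsupp.mem_support_iff, Φ_mulL] at hj
      refine hws (Finsupp.mem_support_iff.mpr fun h0 => hj ?_)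
      rw [h0, mul_zero])
    (by
      rintro c d ⟨w, hw, hws, rfl⟩
      refine ⟨w * (1 ⊗ₜ[k] d), I.mul_mem_right _ _ hw, ?_, Φ_mulR b d w i0⟩
      intro j hj
      rw [Finsupp.mem_support_iff, Φ_mulR] at hj
      refine hws (Finsupp.mem_support_iff.mpr fun h0 => hj ?_)
      rw [h0, zero_mul])
  have hc0 : Φ b y i0 ∈ T := (TwoSidedIdeal.mem_mk' _ _ _ _ _ _ _).mpr ⟨y, hyI, subset_rfl, rfl⟩
  have h1 : (1 : B) ∈ T :=
    IsSimpleRing.one_mem_of_ne_zero_mem T (Finsupp.mem_support_iff.mp hi0) hc0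
  obtain ⟨w, hwI, hwsupp, hw1⟩ := (TwoSidedIdeal.mem_mk' _ _ _ _ _ _ _).mp h1
  have hcomm : ∀ d i, d * Φ b w i = Φ b w i * d := by
    intro d i
    set z := (1 ⊗ₜ[k] d) * w - w * (1 ⊗ₜ[k] d) with hz
    have hzI : z ∈ I := I.sub_mem (I.mul_mem_left _ _ hwI) (I.mul_mem_right _ _ hwI)
    have hzcoord : ∀ j, Φ b z j = d * Φ b w j - Φ b w j * d := by
      intro j
      rw [hz, map_sub, Finsupp.sub_apply, Φ_mulL, Φ_mulR]
    have hzsupp : (Φ b z).support ⊆ (Φ b y).support.erase i0 := by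
      intro j hj
      rw [Finsupp.mem_support_iff, hzcoord] at hj
      rw [Finset.mem_erase]
      refine ⟨?_, hwsupp (Finsupp.mem_support_iff.mpr ?_)⟩
      · rintro rfl
        apply hj
        rw [hw1, mul_one, one_mul, sub_self]
      · intro h0
        apply hj
        rw [h0, mul_zero, zero_mul, sub_self]
    have hlt : (Φ b z).support.card < n := by
      calc _ ≤ ((Φ b y).support.erase i0).card := Finset.card_le_card hzsupp
        _ < (Φ b y).support.card := Finset.card_erase_lt_of_mem hi0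
        _ = n := hcard
    have hz0 : z = 0 := ih _ hlt z hzI
      (fun j hj => hyp j (Finset.mem_of_mem_erase (hzsupp hj))) rfl
    have := hzcoord i
    rw [hz0, map_zero, Finsupp.zero_apply] at this
    exact sub_eq_zero.mp this.symm
  have hcen : ∀ i, ∃ l : k, Φ b w i = algebraMap k B l := by
    intro i
    have h1 : Φ b w i ∈ Subalgebra.center k B :=
      Subalgebra.mem_center_iff.mpr (fun d => hcomm d i)
    have h2 := Algebra.IsCentral.out h1
    obtain ⟨l, hl⟩ := Algebra.mem_bot.mp h2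
    exact ⟨l, hl.symm⟩
  choose l hl using hcen
  let a : A := ∑ i ∈ (Φ b w).support, l i • b i
  have hrepr : ∀ i, b.repr a i = if i ∈ (Φ b w).support then l i else 0 := by
    intro i
    simp only [a, map_sum, map_smul, Basis.repr_self, Finsupp.smul_single, smul_eq_mul, mul_one,
      Finsupp.coe_finsetSum, Finset.sum_apply, Finsupp.single_apply, Finset.sum_ite_eq']
  have hwa : w = a ⊗ₜ[k] (1 : B) := by
    apply (Φ b).injective
    ext i
    rw [Φ_tmul, hrepr]
    split_ifs with h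
    · rw [hl i, Algebra.algebraMap_eq_smul_one]
    · rw [zero_smul]
      exact Finsupp.notMem_support_iff.mp h
  have ha0 : a = 0 := by
    refine hp a (hwa ▸ hwI) (fun i hi => ?_)
    rw [Finsupp.mem_support_iff, hrepr] at hi
    by_cases h : i ∈ (Φ b w).support
    · exact hyp i (hwsupp h)
    · rw [if_neg h] at hi
      exact absurd rfl hi
  rw [ha0, zero_tmul] at hwa
  rw [hwa, map_zero, Finsupp.zero_apply] at hw1
  exact zero_ne_one hw1

theorem general (I : TwoSidedIdeal (A ⊗[k] B)) :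
    I = TwoSidedIdeal.span ((fun a : A => a ⊗ₜ[k] (1 : B)) '' {a : A | a ⊗ₜ[k] (1 : B) ∈ I}) := by
  classical
  apply le_antisymm
  swap
  · rw [TwoSidedIdeal.span_le]
    rintro _ ⟨a, ha, rfl⟩
    exact ha
  intro x hx
  set I' := TwoSidedIdeal.span ((fun a : A => a ⊗ₜ[k] (1 : B)) '' {a : A | a ⊗ₜ[k] (1 : B) ∈ I})
    with hI'
  have hI'I : I' ≤ I := by
    rw [hI', TwoSidedIdeal.span_le]
    rintro _ ⟨a, ha, rfl⟩
    exact ha
  obtain ⟨C, hC⟩ := Submodule.exists_isCompl (Jk I)
  let bJ := Basis.ofVectorSpace k (Jk I)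
  let bC := Basis.ofVectorSpace k C
  let b : Basis (Basis.ofVectorSpaceIndex k (Jk I) ⊕ Basis.ofVectorSpaceIndex k C) k A :=
    (bJ.prod bC).map (Submodule.prodEquivOfIsCompl (Jk I) C hC)
  have hbl : ∀ i, b (Sum.inl i) = (bJ i : A) := by
    intro i
    simp [b]
  have hbr : ∀ i, b (Sum.inr i) = (bC i : A) := by
    intro i
    simp [b]
  have hleft : ∀ i c, b (Sum.inl i) ⊗ₜ[k] c ∈ I' := by
    intro i c
    have h1 : b (Sum.inl i) ⊗ₜ[k] (1 : B) ∈ I' :=
      TwoSidedIdeal.subset_span ⟨_, by rw [hbl]; exact (bJ i).2, rfl⟩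
    have := I'.mul_mem_right _ (1 ⊗ₜ[k] c) h1
    rwa [Algebra.TensorProduct.tmul_mul_tmul, mul_one, one_mul] at this
  have hp : ∀ a : A, a ⊗ₜ[k] (1 : B) ∈ I → (∀ i ∈ (b.repr a).support, i.isRight) → a = 0 := by
    intro a haI hsupp
    have haC : a ∈ C := by
      rw [← b.linearCombination_repr a, Finsupp.linearCombination_apply]
      refine Submodule.sum_mem _ fun i hi => ?_
      have := hsupp i hi
      obtain ⟨j, rfl⟩ := Sum.isRight_iff.mp this
      change (b.repr a) (Sum.inr j) • b (Sum.inr j) ∈ C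
      rw [hbr]
      exact C.smul_mem _ (bC j).2
    have : a ∈ Jk I ⊓ C := ⟨haI, haC⟩
    rw [hC.inf_eq_bot] at this
    exact (Submodule.mem_bot k).mp this
  let xJ : A ⊗[k] B := ∑ i ∈ (Φ b x).support.filter (fun i => i.isLeft), b i ⊗ₜ[k] (Φ b x i)
  let xC : A ⊗[k] B := ∑ i ∈ (Φ b x).support.filter (fun i => ¬ i.isLeft), b i ⊗ₜ[k] (Φ b x i)
  have hsplit : x = xJ + xC := by
    have h1 := eq_sum b x
    have h2 := Finset.sum_filter_add_sum_filter_not (Φ b x).support (fun i => i.isLeft = true)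
      (fun i => b i ⊗ₜ[k] (Φ b x i))
    exact h1.trans h2.symm
  have hxJ : xJ ∈ I' := by
    refine sum_mem fun i hi => ?_
    obtain ⟨j, rfl⟩ := Sum.isLeft_iff.mp (Finset.mem_filter.mp hi).2
    exact hleft j _
  have hxC : xC ∈ I := by
    have : xC = x - xJ := by rw [hsplit]; abel
    rw [this]
    exact I.sub_mem hx (hI'I hxJ)
  have hxCsupp : ∀ i ∈ (Φ b xC).support, i.isRight := by
    intro i hi
    rw [Finsupp.mem_support_iff] at hi
    by_contra hcon
    apply hi
    simp only [xC, map_sum, Φ_basis_tmul, Finsupp.coe_finsetSum, Finset.sum_apply]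
    refine Finset.sum_eq_zero fun j hj => ?_
    rw [Finsupp.single_apply, if_neg]
    rintro rfl
    have := (Finset.mem_filter.mp hj).2
    rw [Sum.not_isLeft] at this
    exact hcon this
  have hxC0 : xC = 0 := key I b (fun i => i.isRight) hp _ xC hxC hxCsupp rfl
  rw [hsplit, hxC0, add_zero]
  exact hxJ

end main

theorem main (k : Type u) [Field k] (A : Type v) [Ring A] [Algebra k A]
    (K : Type w) [DivisionRing K] [Algebra k K] [Algebra.IsCentral k K]
    (I : TwoSidedIdeal (A ⊗[k] K)) :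
    I = TwoSidedIdeal.span ((fun a : A => a ⊗ₜ[k] (1 : K)) '' {a : A | a ⊗ₜ[k] (1 : K) ∈ I}) :=
  general I
end helpers

/-- If K is a skew field with center k, every two-sided ideal of A ⊗ K is generated by the elements a ⊗
1 it contains. -/
theorem result (k : Type u) [Field k] (A : Type v) [Ring A] [Algebra k A]
    (K : Type w) [DivisionRing K] [Algebra k K] [Algebra.IsCentral k K]
    (I : TwoSidedIdeal (A ⊗[k] K)) :
    I = TwoSidedIdeal.span ((fun a : A => a ⊗ₜ[k] (1 : K)) '' {a : A | a ⊗ₜ[k] (1 : K) ∈ I}) := by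
  exact main k A K I

end Groth.Agent.S0191
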