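import Groth.Statements.S0190
import Mathlib
import Groth.Agent.S0191
-- import your own Groth.Agent.* helpers here

set_option autoImplicit false
universe u v w
open scoped TensorProduct
open Curves

namespace Groth.Agent.S0190

section helpers
open TensorProduct

theorem main (k : Type u) [Field k] (A : Type v) [Ring A] [Algebra k A]
    [IsSimpleRing A] (A' : Type w) [Ring A'] [Algebra k A']
    [Algebra.IsCentral k A'] [IsSimpleRing A'] :
    IsSimpleRing (A ⊗[k] A') := by
  have hnt : Nontrivial (A ⊗[k] A') := inferInstance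
  refine IsSimpleRing.of_eq_bot_or_eq_top fun I => ?_
  have hI := Groth.Agent.S0191.general (k := k) (A := A) (B := A') I
  let J : TwoSidedIdeal A := TwoSidedIdeal.mk' {a | a ⊗ₜ[k] (1 : A') ∈ I}
    (by simp [zero_tmul, I.zero_mem])
    (by
      intro a a' ha ha'
      simp only [Set.mem_ofPred_eq, add_tmul] at ha ha' ⊢
      exact I.add_mem ha ha')
    (by
      intro a ha
      simp only [Set.mem_ofPred_eq, neg_tmul] at ha ⊢
      exact I.neg_mem ha)
    (by
      intro x y hy
      simp only [Set.mem_ofPred_eq] at hy ⊢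
      have := I.mul_mem_left (x ⊗ₜ[k] (1 : A')) _ hy
      rwa [Algebra.TensorProduct.tmul_mul_tmul, mul_one] at this)
    (by
      intro x y hx
      simp only [Set.mem_ofPred_eq] at hx ⊢
      have := I.mul_mem_right _ (y ⊗ₜ[k] (1 : A')) hx
      rwa [Algebra.TensorProduct.tmul_mul_tmul, mul_one] at this)
  have hJ : ∀ a, a ∈ J ↔ a ⊗ₜ[k] (1 : A') ∈ I := fun a => TwoSidedIdeal.mem_mk' _ _ _ _ _ _ _
  rcases eq_bot_or_eq_top J with hJb | hJt
  · left
    rw [hI, eq_bot_iff, TwoSidedIdeal.span_le]
    rintro _ ⟨a, ha, rfl⟩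
    have : a ∈ J := (hJ a).mpr ha
    rw [hJb, TwoSidedIdeal.mem_bot] at this
    subst this
    change (0 : A) ⊗ₜ[k] (1 : A') ∈ (⊥ : TwoSidedIdeal (A ⊗[k] A'))
    rw [zero_tmul]
    exact (⊥ : TwoSidedIdeal (A ⊗[k] A')).zero_mem
  · right
    have h1 : (1 : A) ∈ J := hJt ▸ TwoSidedIdeal.mem_top _
    have h2 := (hJ 1).mp h1
    exact (TwoSidedIdeal.one_mem_iff I).mp h2
end helpers

/-- The tensor product of a simple algebra with a finite central simple algebra is simple. -/
theorem result (k : Type u) [Field k] (A : Type v) [Ring A] [Algebra k A]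
    [IsSimpleRing A] (A' : Type w) [Ring A'] [Algebra k A']
    [Algebra.IsCentral k A'] [IsSimpleRing A'] [FiniteDimensional k A'] :
    IsSimpleRing (A ⊗[k] A') := by
  exact main k A A'

end Groth.Agent.S0190
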