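import Groth.Statements.S18646
import Mathlib

set_option autoImplicit false
universe u
open scoped TensorProduct
open GrSegre

namespace Groth.Agent.S18646

section
variable {k : Type u} [Field k] {R : Type u} [CommRing R] [Algebra k R] (𝒜 : ℤ → Submodule k R) [GradedAlgebra 𝒜]
  {S : Type u} [CommRing S] [Algebra k S] (ℬ : ℤ → Submodule k S) [GradedAlgebra ℬ]

/-- component: `a ↦ (b ↦ a ⊗ proj_n b)` -/
noncomputable def comp (n : ℤ) : 𝒜 n →ₗ[k] (S →ₗ[k] R ⊗[k] S) :=
  ((LinearMap.lcomp k (R ⊗[k] S) (GradedAlgebra.proj ℬ n)).comp (TensorProduct.mk k R S)).comp (𝒜 n).subtype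

noncomputable def beta : R →ₗ[k] (S →ₗ[k] R ⊗[k] S) :=
  (DirectSum.toModule k ℤ _ (comp 𝒜 ℬ)).comp (DirectSum.decomposeLinearEquiv 𝒜).toLinearMap

noncomputable def rho : R ⊗[k] S →ₗ[k] R ⊗[k] S := TensorProduct.lift (beta 𝒜 ℬ)

theorem beta_of_mem {m : ℤ} {a : R} (ha : a ∈ 𝒜 m) (b : S) :
    beta 𝒜 ℬ a b = a ⊗ₜ[k] (GradedAlgebra.proj ℬ m b) := by
  simp only [beta, LinearMap.comp_apply, LinearEquiv.coe_coe, DirectSum.decomposeLinearEquiv_apply]
  rw [DirectSum.decompose_of_mem _ ha]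
  erw [DirectSum.toModule_lof]
  rfl

theorem rho_tmul_of_mem {m n : ℤ} {a : R} (ha : a ∈ 𝒜 m) {b : S} (hb : b ∈ ℬ n) :
    rho 𝒜 ℬ (a ⊗ₜ[k] b) = if m = n then a ⊗ₜ[k] b else 0 := by
  rw [rho, TensorProduct.lift.tmul, beta_of_mem 𝒜 ℬ ha, GradedAlgebra.proj_apply]
  split_ifs with h
  · subst h
    rw [DirectSum.decompose_of_mem_same _ hb]
  · rw [DirectSum.decompose_of_mem_ne _ hb (Ne.symm h), TensorProduct.tmul_zero]


def D : Submodule k (R ⊗[k] S) :=
  Submodule.span k {x | ∃ n : ℤ, ∃ a ∈ 𝒜 n, ∃ b ∈ ℬ n, x = a ⊗ₜ[k] b}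

theorem rho_of_mem_D {x : R ⊗[k] S} (hx : x ∈ D 𝒜 ℬ) : rho 𝒜 ℬ x = x := by
  induction hx using Submodule.span_induction with
  | mem x hx =>
    obtain ⟨n, a, ha, b, hb, rfl⟩ := hx
    rw [rho_tmul_of_mem 𝒜 ℬ ha hb, if_pos rfl]
  | zero => simp
  | add x y _ _ hx hy => rw [map_add, hx, hy]
  | smul c x _ hx => rw [map_smul, hx]

theorem rho_mem_D (x : R ⊗[k] S) : rho 𝒜 ℬ x ∈ D 𝒜 ℬ := by
  induction x using TensorProduct.induction_on with
  | zero => simp
  | tmul a b =>
    induction a using DirectSum.Decomposition.inductionOn 𝒜 with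
    | zero => simp
    | @homogeneous m a =>
      induction b using DirectSum.Decomposition.inductionOn ℬ with
      | zero => simp
      | @homogeneous n b =>
        rw [rho_tmul_of_mem 𝒜 ℬ a.2 b.2]
        split_ifs with h
        · subst h
          exact Submodule.subset_span ⟨_, _, a.2, _, b.2, rfl⟩
        · exact zero_mem _
      | add b b' hb hb' => rw [TensorProduct.tmul_add, map_add]; exact add_mem hb hb'
    | add a a' ha ha' => rw [TensorProduct.add_tmul, map_add]; exact add_mem ha ha'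
  | add x y hx hy => rw [map_add]; exact add_mem hx hy

theorem rho_mul_of_mem_D {d : R ⊗[k] S} (hd : d ∈ D 𝒜 ℬ) (x : R ⊗[k] S) :
    rho 𝒜 ℬ (d * x) = d * rho 𝒜 ℬ x := by
  induction hd using Submodule.span_induction with
  | mem d hd =>
    obtain ⟨n, a, ha, b, hb, rfl⟩ := hd
    induction x using TensorProduct.induction_on with
    | zero => simp
    | tmul a' b' =>
      induction a' using DirectSum.Decomposition.inductionOn 𝒜 with
      | zero => simp
      | @homogeneous m' a' =>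
        induction b' using DirectSum.Decomposition.inductionOn ℬ with
        | zero => simp
        | @homogeneous n' b' =>
          rw [Algebra.TensorProduct.tmul_mul_tmul,
            rho_tmul_of_mem 𝒜 ℬ (SetLike.mul_mem_graded ha a'.2) (SetLike.mul_mem_graded hb b'.2),
            rho_tmul_of_mem 𝒜 ℬ a'.2 b'.2]
          by_cases h : m' = n'
          · subst h
            simp
          · have h2 : n + m' ≠ n + n' := by omega
            simp [h, h2]
        | add b b' hb hb' =>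
          rw [TensorProduct.tmul_add, mul_add, map_add, hb, hb', map_add, mul_add]
      | add a a' ha ha' =>
        rw [TensorProduct.add_tmul, mul_add, map_add, ha, ha', map_add, mul_add]
    | add x y hx hy => rw [mul_add, map_add, hx, hy, map_add, mul_add]
  | zero => simp
  | add d d' _ _ hd hd' => rw [add_mul, map_add, hd, hd', add_mul]
  | smul c d _ hd => rw [smul_mul_assoc, map_smul, hd, smul_mul_assoc]

variable {T : Type u} [CommRing T] [Algebra k T] (𝒯 : ℤ → Submodule k T) [GradedAlgebra 𝒯]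
  (ψ : T →ₐ[k] R ⊗[k] S)
  (hdegT : ∀ n : ℤ, (𝒯 n).map ψ.toLinearMap =
    Submodule.span k {x : R ⊗[k] S | ∃ a ∈ 𝒜 n, ∃ b ∈ ℬ n, x = a ⊗ₜ[k] b})

include hdegT in
theorem psi_mem_D (t : T) : ψ t ∈ D 𝒜 ℬ := by
  induction t using DirectSum.Decomposition.inductionOn 𝒯 with
  | zero => simp
  | @homogeneous n t =>
    have h1 : ψ t ∈ (𝒯 n).map ψ.toLinearMap := ⟨t, t.2, rfl⟩
    rw [hdegT] at h1
    refine Submodule.span_mono ?_ h1
    rintro x ⟨a, ha, b, hb, rfl⟩
    exact ⟨n, a, ha, b, hb, rfl⟩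
  | add t t' h h' => rw [map_add]; exact add_mem h h'

include hdegT in
theorem D_le_range (x : R ⊗[k] S) (hx : x ∈ D 𝒜 ℬ) : ∃ t, ψ t = x := by
  induction hx using Submodule.span_induction with
  | mem x hx =>
    obtain ⟨n, a, ha, b, hb, rfl⟩ := hx
    have h1 : a ⊗ₜ[k] b ∈ (𝒯 n).map ψ.toLinearMap := by
      rw [hdegT]; exact Submodule.subset_span ⟨a, ha, b, hb, rfl⟩
    obtain ⟨t, _, ht⟩ := h1
    exact ⟨t, ht⟩
  | zero => exact ⟨0, map_zero _⟩
  | add x y _ _ hx hy =>
    obtain ⟨t, rfl⟩ := hx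
    obtain ⟨t', rfl⟩ := hy
    exact ⟨t + t', map_add _ _ _⟩
  | smul c x _ hx =>
    obtain ⟨t, rfl⟩ := hx
    exact ⟨c • t, map_smul _ _ _⟩

include hdegT in
theorem comap_map (hψ : Function.Injective ψ) (I : Ideal T) :
    (I.map ψ.toRingHom).comap ψ.toRingHom = I := by
  apply le_antisymm _ Ideal.le_comap_map
  intro x hx
  rw [Ideal.mem_comap] at hx
  have key : ∀ y ∈ Ideal.map ψ.toRingHom I, ∀ b : R ⊗[k] S, ∃ i ∈ I, ψ i = rho 𝒜 ℬ (b * y) := by
    intro y hy
    induction hy using Submodule.span_induction with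
    | mem y hy =>
      obtain ⟨i₀, hi₀, rfl⟩ := hy
      intro b
      obtain ⟨t, ht⟩ := D_le_range 𝒜 ℬ 𝒯 ψ hdegT _ (rho_mem_D 𝒜 ℬ b)
      refine ⟨i₀ * t, I.mul_mem_right _ hi₀, ?_⟩
      have h1 : ψ.toRingHom i₀ = ψ i₀ := rfl
      rw [h1, mul_comm b, rho_mul_of_mem_D 𝒜 ℬ (psi_mem_D 𝒜 ℬ 𝒯 ψ hdegT i₀), map_mul, ht]
    | zero => intro b; exact ⟨0, zero_mem _, by simp⟩
    | add y y' _ _ hy hy' =>
      intro b
      obtain ⟨i, hi, e⟩ := hy b
      obtain ⟨i', hi', e'⟩ := hy' b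
      exact ⟨i + i', add_mem hi hi', by rw [map_add, e, e', mul_add, map_add]⟩
    | smul c y _ hy =>
      intro b
      obtain ⟨i, hi, e⟩ := hy (b * c)
      exact ⟨i, hi, by rw [e, smul_eq_mul, mul_assoc]⟩
  obtain ⟨i, hi, e⟩ := key _ hx 1
  rw [one_mul] at e
  have h1 : ψ.toRingHom x = ψ x := rfl
  rw [h1, rho_of_mem_D 𝒜 ℬ (psi_mem_D 𝒜 ℬ 𝒯 ψ hdegT x)] at e
  rw [← hψ e]
  exact hi

include hdegT in
theorem main [Algebra.FiniteType k R] [Algebra.FiniteType k S] (hψ : Function.Injective ψ) :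
    IsNoetherianRing T := by
  haveI : Algebra.FiniteType k (R ⊗[k] S) :=
    Algebra.FiniteType.trans (inferInstance : Algebra.FiniteType k R)
      (inferInstance : Algebra.FiniteType R (R ⊗[k] S))
  haveI : IsNoetherianRing (R ⊗[k] S) := Algebra.FiniteType.isNoetherianRing k _
  have hsm : StrictMono (fun I : Ideal T => I.map ψ.toRingHom) := by
    apply Monotone.strictMono_of_injective (fun I J h => Ideal.map_mono h)
    intro I J h
    rw [← comap_map 𝒜 ℬ 𝒯 ψ hdegT hψ I, ← comap_map 𝒜 ℬ 𝒯 ψ hdegT hψ J]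
    simp only at h
    rw [h]
  rw [isNoetherianRing_iff, isNoetherian_iff']
  exact hsm.wellFoundedGT

end


/-- Let R and S be graded rings defined over a field k. Then their Segre product T = R # S is a
Noetherian ring (hence again a graded ring defined over k). Here a graded ring defined over k is a
commutative k-algebra of finite type, graded in nonnegative degrees by k-subspaces with degree-zero
part k·1; the Segre product T = R # S = ⊕_n R_n ⊗_k S_n (graded by T_n = R_n ⊗_k S_n) is presented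
abstractly as a graded k-algebra T with an injective k-algebra homomorphism ψ : T → R ⊗_k S carrying
T_n onto the k-span of the elementary tensors a ⊗ b with a ∈ R_n, b ∈ S_n, for every n. -/
theorem result (k : Type u) [Field k] (R : Type u) [CommRing R] [Algebra k R] (𝒜 : ℤ → Submodule k R) [GradedAlgebra 𝒜] (hposR : ∀ n : ℤ, n < 0 → 𝒜 n = ⊥) (h0R : 𝒜 0 = Submodule.span k {(1 : R)}) [Algebra.FiniteType k R] (S : Type u) [CommRing S] [Algebra k S] (ℬ : ℤ → Submodule k S) [GradedAlgebra ℬ] (hposS : ∀ n : ℤ, n < 0 → ℬ n = ⊥) (h0S : ℬ 0 = Submodule.span k {(1 : S)}) [Algebra.FiniteType k S] (T : Type u) [CommRing T] [Algebra k T] (𝒯 : ℤ → Submodule k T) [GradedAlgebra 𝒯] (ψ : T →ₐ[k] TensorProduct k R S) (hψ : Function.Injective ψ) (hdegT : ∀ n : ℤ, (𝒯 n).map ψ.toLinearMap = Submodule.span k {x : TensorProduct k R S | ∃ a ∈ 𝒜 n, ∃ b ∈ ℬ n, x = a ⊗ₜ[k] b}) : IsNoetherianRing T := by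
  exact main 𝒜 ℬ 𝒯 ψ hdegT hψ

end Groth.Agent.S18646
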