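import Groth.Statements.S18647
import Groth.Agent.Lib.Helper26.Seg9

set_option autoImplicit false
universe u
open scoped TensorProduct
open GrSegre

namespace Groth.Agent.S18647

/-- Let R and S be graded rings defined over a field k with dim R = r ≥ 1 and dim S = s ≥ 1. Then the
Segre product T = R # S has Krull dimension r + s − 1. Here a graded ring defined over k is a
commutative k-algebra of finite type, graded in nonnegative degrees by k-subspaces with degree-zero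
part k·1; the Segre product T = R # S = ⊕_n R_n ⊗_k S_n (graded by T_n = R_n ⊗_k S_n) is presented
abstractly as a graded k-algebra T with an injective k-algebra homomorphism ψ : T → R ⊗_k S carrying
T_n onto the k-span of the elementary tensors a ⊗ b with a ∈ R_n, b ∈ S_n, for every n. -/
theorem result (k : Type u) [Field k] (R : Type u) [CommRing R] [Algebra k R] (𝒜 : ℤ → Submodule k R) [GradedAlgebra 𝒜] (hposR : ∀ n : ℤ, n < 0 → 𝒜 n = ⊥) (h0R : 𝒜 0 = Submodule.span k {(1 : R)}) [Algebra.FiniteType k R] (S : Type u) [CommRing S] [Algebra k S] (ℬ : ℤ → Submodule k S) [GradedAlgebra ℬ] (hposS : ∀ n : ℤ, n < 0 → ℬ n = ⊥) (h0S : ℬ 0 = Submodule.span k {(1 : S)}) [Algebra.FiniteType k S] (T : Type u) [CommRing T] [Algebra k T] (𝒯 : ℤ → Submodule k T) [GradedAlgebra 𝒯] (ψ : T →ₐ[k] TensorProduct k R S) (hψ : Function.Injective ψ) (hdegT : ∀ n : ℤ, (𝒯 n).map ψ.toLinearMap = Submodule.span k {x : TensorProduct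 k R S | ∃ a ∈ 𝒜 n, ∃ b ∈ ℬ n, x = a ⊗ₜ[k] b}) (r s : ℕ) (hr : ringKrullDim R = r) (hs : ringKrullDim S = s) (h1r : 1 ≤ r) (h1s : 1 ≤ s) : ringKrullDim T = ((r + s - 1 : ℕ) : WithBot ℕ∞) := by
  have hfR : ∃ (d : ℕ) (_ : 0 < d) (x : Fin r → R), (∀ i, x i ∈ 𝒜 (d : ℤ)) ∧
      Module.Finite k (R ⧸ Ideal.span (Set.range x)) :=
    Groth.Agent.Lib.helper26.Seg.exists_homogeneous_sop 𝒜 hposR h0R r hr.le
  have hfS : ∃ (d : ℕ) (_ : 0 < d) (y : Fin s → S), (∀ j, y j ∈ ℬ (d : ℤ)) ∧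
      Module.Finite k (S ⧸ Ideal.span (Set.range y)) :=
    Groth.Agent.Lib.helper26.Seg.exists_homogeneous_sop ℬ hposS h0S s hs.le
  obtain ⟨dR, hdR, x₀, hx₀, hfinR⟩ := hfR
  obtain ⟨dS, hdS, y₀, hy₀, hfinS⟩ := hfS
  -- equalize the degrees
  have hfinR' := Groth.Agent.Lib.helper26.Seg.finite_quotient_pow 𝒜 hposR h0R x₀ hx₀ dS
  have hfinS' := Groth.Agent.Lib.helper26.Seg.finite_quotient_pow ℬ hposS h0S y₀ hy₀ dR
  have hx : ∀ i, (fun i => x₀ i ^ dS) i ∈ 𝒜 ((dR * dS : ℕ) : ℤ) :=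
    Groth.Agent.Lib.helper26.Seg.pow_mem_piece 𝒜 x₀ hx₀ dS
  have hy : ∀ j, (fun j => y₀ j ^ dR) j ∈ ℬ ((dR * dS : ℕ) : ℤ) := by
    intro j
    have := Groth.Agent.Lib.helper26.Seg.pow_mem_piece ℬ y₀ hy₀ dR j
    rwa [mul_comm] at this
  have hd : 0 < dR * dS := Nat.mul_pos hdR hdS
  obtain ⟨t, ht1, ht⟩ := Groth.Agent.Lib.helper26.Seg.exists_t 𝒜 ℬ 𝒯 ψ hdegT
    (fun i => x₀ i ^ dS) (fun j => y₀ j ^ dR) hx hy
  apply le_antisymm
  · exact Groth.Agent.Lib.helper26.Seg.ringKrullDim_le 𝒜 ℬ 𝒯 ψ hdegT hψ hposR h0R hposS h0S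
      _ _ hx hy t ht1 ht hd
  · have hxinj := Groth.Agent.Lib.helper26.Seg.injective_aeval_of_finite_quotient 𝒜 hposR
      _ hx hd hr
    have hyinj := Groth.Agent.Lib.helper26.Seg.injective_aeval_of_finite_quotient ℬ hposS
      _ hy hd hs
    have hfin := Groth.Agent.Lib.helper26.Seg.finite_aeval_t 𝒜 ℬ 𝒯 ψ hdegT hψ hposR h0R hposS h0S
      _ _ hx hy t ht1 ht hd
    exact Groth.Agent.Lib.helper26.Seg.le_ringKrullDim ψ hψ _ _ t ht h1r h1s hxinj hyinj hfin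

end Groth.Agent.S18647
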