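import Groth.Statements.S0301
import Mathlib

set_option autoImplicit false
universe u v
open InjHull

namespace Groth.Agent.S0301

/-- Over a Noetherian ring, the submodule of an injective module consisting of the elements killed by
some power of a given ideal is again injective. -/
theorem result (R : Type u) [CommRing R] [IsNoetherianRing R] (I : Type u) [AddCommGroup I] [Module R I] (hI : Module.Injective R I) (J : Ideal R) : Module.Injective R ↥(⨆ n : ℕ, Submodule.torsionBySet R I ((J ^ n : Ideal R) : Set R)) := by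
  classical
  have hmono : Monotone (fun n : ℕ => Submodule.torsionBySet R I ((J ^ n : Ideal R) : Set R)) :=
    fun a b hab => Submodule.torsionBySet_le_torsionBySet_pow a b hab J
  apply Module.Baer.injective
  intro 𝔞 g
  -- Step 1: a uniform exponent
  have h1 : ∃ n : ℕ, ∀ x : 𝔞,
      ((g x : ↥(⨆ n : ℕ, Submodule.torsionBySet R I ((J ^ n : Ideal R) : Set R))) : I) ∈
        Submodule.torsionBySet R I ((J ^ n : Ideal R) : Set R) := by
    obtain ⟨G, hG⟩ := (isNoetherianRing_iff_ideal_fg R).mp inferInstance 𝔞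
    have hGa : ∀ a ∈ G, a ∈ 𝔞 := fun a ha => hG ▸ Submodule.subset_span ha
    have hex : ∀ y : ↥(⨆ n : ℕ, Submodule.torsionBySet R I ((J ^ n : Ideal R) : Set R)),
        ∃ n : ℕ, (y : I) ∈ Submodule.torsionBySet R I ((J ^ n : Ideal R) : Set R) :=
      fun y => (Submodule.mem_iSup_of_directed _ hmono.directed_le).mp y.2
    choose N hN using hex
    let n : ℕ := G.sup (fun a => if ha : a ∈ 𝔞 then N (g ⟨a, ha⟩) else 0)
    refine ⟨n, fun x => ?_⟩
    let K : Submodule R 𝔞 := (Submodule.torsionBySet R I ((J ^ n : Ideal R) : Set R)).comap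
      ((⨆ n : ℕ, Submodule.torsionBySet R I ((J ^ n : Ideal R) : Set R)).subtype ∘ₗ g)
    have hK : Submodule.span R (G : Set R) ≤ K.map 𝔞.subtype := by
      refine Submodule.span_le.mpr (fun a ha => ⟨⟨a, hGa a ha⟩, ?_, rfl⟩)
      have hle : N (g ⟨a, hGa a ha⟩) ≤ n := by
        have := Finset.le_sup (f := fun a => if ha : a ∈ 𝔞 then N (g ⟨a, ha⟩) else 0) ha
        rw [dif_pos (hGa a ha)] at this
        exact this
      exact hmono hle (hN (g ⟨a, hGa a ha⟩))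
    have hx : x.1 ∈ Submodule.span R (G : Set R) := by
      change x.1 ∈ Ideal.span (G : Set R)
      rw [hG]; exact x.2
    obtain ⟨y, hy, hyx⟩ := hK hx
    have : y = x := Subtype.ext hyx
    rw [← this]
    exact hy
  obtain ⟨n, hn⟩ := h1
  -- Step 2: Artin-Rees
  obtain ⟨k, hk⟩ := Ideal.exists_pow_inf_eq_pow_smul J (𝔞 : Submodule R R)
  have h2 : ∀ (x : R) (hx : x ∈ 𝔞), x ∈ J ^ (n + k) → g ⟨x, hx⟩ = 0 := by
    intro x hx hxJ
    have hmem : x ∈ J ^ (n + k) • (⊤ : Submodule R R) ⊓ (𝔞 : Submodule R R) := by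
      refine ⟨?_, hx⟩
      rw [smul_eq_mul, Ideal.mul_top]
      exact hxJ
    rw [hk (n + k) (Nat.le_add_left k n), Nat.add_sub_cancel] at hmem
    have hle : J ^ n • (J ^ k • (⊤ : Submodule R R) ⊓ (𝔞 : Submodule R R)) ≤
        (LinearMap.ker g).map 𝔞.subtype := by
      rw [Submodule.smul_le]
      intro r hr y hy
      have hy2 : y ∈ 𝔞 := (Submodule.mem_inf.mp hy).2
      refine ⟨r • ⟨y, hy2⟩, ?_, rfl⟩
      change g (r • ⟨y, hy2⟩) = 0
      rw [map_smul]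
      apply Subtype.ext
      have := (Submodule.mem_torsionBySet_iff _ _).mp (hn ⟨y, hy2⟩) ⟨r, hr⟩
      exact this
    obtain ⟨y, hy, hyx⟩ := hle hmem
    have : y = ⟨x, hx⟩ := Subtype.ext hyx
    rw [← this]
    exact hy
  -- Step 3: extend
  let 𝔟 : Ideal R := J ^ (n + k)
  let 𝔠 : Submodule R 𝔞 := Submodule.comap 𝔞.subtype 𝔟
  let i : (𝔞 ⧸ 𝔠) →ₗ[R] (R ⧸ 𝔟) := Submodule.mapQ 𝔠 𝔟 𝔞.subtype le_rfl
  have hi : Function.Injective i := by
    rw [← LinearMap.ker_eq_bot, Submodule.ker_mapQ]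
    exact Submodule.mkQ_map_self 𝔠
  let g₀ : 𝔞 →ₗ[R] I :=
    (⨆ n : ℕ, Submodule.torsionBySet R I ((J ^ n : Ideal R) : Set R)).subtype ∘ₗ g
  have hg₀ : 𝔠 ≤ LinearMap.ker g₀ := by
    intro x hx
    rw [LinearMap.mem_ker]
    have h3 := h2 x.1 x.2 hx
    change ((g ⟨x.1, x.2⟩ : ↥(⨆ n : ℕ, Submodule.torsionBySet R I ((J ^ n : Ideal R) : Set R))) : I) = 0
    rw [h3]
    rfl
  let g₁ : (𝔞 ⧸ 𝔠) →ₗ[R] I := Submodule.liftQ 𝔠 g₀ hg₀
  obtain ⟨h₁, hh₁⟩ := hI.out i hi g₁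
  let h : R →ₗ[R] I := h₁ ∘ₗ 𝔟.mkQ
  have hmemΓ : ∀ r, h r ∈ ⨆ n : ℕ, Submodule.torsionBySet R I ((J ^ n : Ideal R) : Set R) := by
    intro r
    apply Submodule.mem_iSup_of_mem (n + k)
    rw [Submodule.mem_torsionBySet_iff]
    rintro ⟨b, hb⟩
    change b • h₁ (𝔟.mkQ r) = 0
    rw [← map_smul, ← map_smul]
    have h4 : 𝔟.mkQ (b • r) = 0 := by
      rw [Submodule.mkQ_apply, Submodule.Quotient.mk_eq_zero]
      exact 𝔟.mul_mem_right r hb
    rw [h4, map_zero]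
  refine ⟨LinearMap.codRestrict _ h hmemΓ, fun x hx => ?_⟩
  apply Subtype.ext
  change h₁ (𝔟.mkQ x) = _
  have h5 : 𝔟.mkQ x = i (𝔠.mkQ ⟨x, hx⟩) := rfl
  rw [h5, hh₁]
  rfl

end Groth.Agent.S0301
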