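import Groth.Statements.S7039
-- import your own Groth.Agent.* helpers here

set_option autoImplicit false
universe u
open LocCoh

namespace Groth.Agent.S7039

theorem key {R : Type u} [CommRing R] (I : Ideal R) (hI : I.FG)
    {M : Type u} [AddCommGroup M] [Module R M] (m : M)
    (h : ∀ a ∈ I, a • m ∈ DRing.torsionSub I M) : m ∈ DRing.torsionSub I M := by
  classical
  obtain ⟨S, hS⟩ := hI
  have h1 : ∀ s ∈ S, ∃ n : ℕ, ∀ b ∈ I ^ n, b • s • m = 0 :=
    fun s hs => h s (hS ▸ Ideal.subset_span hs)
  choose! n hn using h1
  refine ⟨S.sup n + 1, fun c hc => ?_⟩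
  rw [pow_succ] at hc
  refine Submodule.mul_induction_on hc ?_ ?_
  · intro b hb a ha
    rw [← hS] at ha
    refine Submodule.span_induction (p := fun a _ => (b * a) • m = 0) ?_ ?_ ?_ ?_ ha
    · intro s hs
      rw [mul_smul]
      exact hn s hs b (Ideal.pow_le_pow_right (Finset.le_sup hs) hb)
    · simp
    · intro x y _ _ hx hy
      rw [mul_add, add_smul, hx, hy, add_zero]
    · intro r x _ hx
      rw [smul_eq_mul, mul_left_comm, mul_smul, hx, smul_zero]
  · intro x y hx hy
    rw [add_smul, hx, hy, add_zero]

/-- For a finitely generated ideal I of a commutative ring R and any R-module M, the quotient of M by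
its submodule of I-power torsion elements has no nonzero element annihilated by I. -/
theorem result {R : Type u} [CommRing R] (I : Ideal R) (hI : I.FG)
    (M : Type u) [AddCommGroup M] [Module R M] :
    LocCoh.torsionBy I (M ⧸ DRing.torsionSub I M) = ⊥ := by
  rw [Submodule.eq_bot_iff]
  intro q hq
  obtain ⟨m, rfl⟩ := Submodule.Quotient.mk_surjective _ q
  rw [Submodule.Quotient.mk_eq_zero]
  apply key I hI
  intro a ha
  have := (Submodule.mem_torsionBySet_iff _ _).mp hq ⟨a, ha⟩
  rw [← Submodule.Quotient.mk_eq_zero]
  exact this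

end Groth.Agent.S7039
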