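import Groth.Statements.S0381
import Mathlib
import Groth.Agent.Lib.Helper19.LCBridge
import Groth.Agent.Lib.Helper19.LCZero
import Groth.Agent.Lib.Helper19.LCAcyclic
import Groth.Agent.Lib.Helper19.LCRes

set_option autoImplicit false
universe u v
open LocCoh

namespace Groth.Agent.S0381

-- MARK
section Aux
open CategoryTheory Groth.Agent.Lib.helper19.LCBridge Groth.Agent.Lib.helper19.LCRes
  Groth.Agent.Lib.helper19.LCZero

variable {R : Type u} [CommRing R]

lemma mem_torsionSub_sup_iff (I J : Ideal R) {X : Type u} [AddCommGroup X] [Module R X]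
    (x : X) : x ∈ DRing.torsionSub (I ⊔ J) X ↔
      x ∈ DRing.torsionSub I X ∧ x ∈ DRing.torsionSub J X := by
  constructor
  · rintro ⟨n, hn⟩
    exact ⟨⟨n, fun r hr => hn r (Ideal.pow_right_mono le_sup_left n hr)⟩,
      ⟨n, fun r hr => hn r (Ideal.pow_right_mono le_sup_right n hr)⟩⟩
  · rintro ⟨⟨n, hn⟩, k, hk⟩
    refine ⟨n + k, fun r hr => ?_⟩
    have h1 := Ideal.sup_pow_add_le_pow_sup_pow (I := I) (J := J) (n := n) (m := k) hr
    obtain ⟨u, hu, v, hv, rfl⟩ := Submodule.mem_sup.1 h1
    rw [add_smul, hn u hu, hk v hv, add_zero]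

/-- generic coboundary family -/
noncomputable def cobAux (X : ℕ → Type u) [∀ n, AddCommGroup (X n)] [∀ n, Module R (X n)]
    (d : ∀ n, X n →ₗ[R] X (n + 1)) (Γ : ∀ n, Submodule R (X n)) : (n : ℕ) → Submodule R (X n)
  | 0 => ⊥
  | n + 1 => (Γ n).map (d n)

variable [IsNoetherianRing R]

/-- the `J`-torsion part of the standard resolution, shifted by `b` -/
abbrev TX (J : Ideal R) (M : Type u) [AddCommGroup M] [Module R M] (b n : ℕ) : Type u :=
  ↥(DRing.torsionSub J (resX (ModuleCat.of R M) (b + n)))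

noncomputable def Td (J : Ideal R) (M : Type u) [AddCommGroup M] [Module R M] (b n : ℕ) :
    TX J M b n →ₗ[R] TX J M b (n + 1) :=
  (resD (ModuleCat.of R M) (b + n)).restrict (p := DRing.torsionSub J (resX (ModuleCat.of R M) (b + n)))
    (q := DRing.torsionSub J (resX (ModuleCat.of R M) (b + (n + 1))))
    (fun x hx => Groth.Agent.Lib.helper19.LCAcyclic.map_torsion J _ x hx)

lemma Td_coe (J : Ideal R) (M : Type u) [AddCommGroup M] [Module R M] (b n : ℕ) (x : TX J M b n) :
    ((Td J M b n x : TX J M b (n + 1)) : resX (ModuleCat.of R M) (b + (n + 1))) =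
      resD (ModuleCat.of R M) (b + n) x.1 := rfl

theorem vanish_sup (I J : Ideal R) (a b : ℕ)
    (hI : ∀ (X : Type u) [AddCommGroup X] [Module R X] (q : ℕ), a < q →
      Subsingleton ((localCohomology I q).obj (ModuleCat.of R X) : ModuleCat.{u} R))
    (hJ : ∀ (X : Type u) [AddCommGroup X] [Module R X] (q : ℕ), b < q →
      Subsingleton ((localCohomology J q).obj (ModuleCat.of R X) : ModuleCat.{u} R))
    (M : Type u) [AddCommGroup M] [Module R M] (i : ℕ) (hi : a + b < i) :
    Subsingleton ((localCohomology (I ⊔ J) i).obj (ModuleCat.of R M) : ModuleCat.{u} R) := by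
  obtain ⟨q, rfl⟩ : ∃ q, i = b + q + 1 := ⟨i - b - 1, by lia⟩
  have hq : a < q + 1 := by lia
  apply H_subsingleton_of_coboundary (I ⊔ J) M (b + q)
  intro z hz hdz
  obtain ⟨hzI, hzJ⟩ := (mem_torsionSub_sup_iff I J z).1 hz
  -- exactness of the shifted J-torsion complex
  have hs : ∀ n, LinearMap.ker (Td J M b (n + 1)) = LinearMap.range (Td J M b n) := by
    intro n
    ext x
    constructor
    · intro hx
      have hx' : resD (ModuleCat.of R M) (b + n + 1) x.1 = 0 := congrArg Subtype.val hx
      obtain ⟨y, hy, hyx⟩ := cocycle_is_coboundary J M (b + n) (hJ M (b + n + 1) (by lia)) x.1 x.2 hx'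
      exact ⟨⟨y, hy⟩, Subtype.ext hyx⟩
    · rintro ⟨y, rfl⟩
      apply Subtype.ext
      exact resD_comp (ModuleCat.of R M) (b + n) y.1
  have hacyc : ∀ n j, 1 ≤ j →
      Subsingleton ((localCohomology I j).obj (ModuleCat.of R (TX J M b n)) : ModuleCat.{u} R) := by
    intro n j hj
    have hinj : Module.Injective R (TX J M b n) :=
      torsionSub_injective J _ (resX_injective (ModuleCat.of R M) (b + n))
    have : Injective (ModuleCat.of R (TX J M b n)) := Module.injective_object_of_injective_module R (TX J M b n)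
    exact H_subsingleton_of_injective I _ j hj
  obtain ⟨e⟩ := Groth.Agent.Lib.helper19.LCAcyclic.main I (fun n => TX J M b n) (Td J M b) hs
    (fun n => DRing.torsionSub I (TX J M b n)) (fun _ _ => Iff.rfl) hacyc
    (cobAux (fun n => TX J M b n) (Td J M b) (fun n => DRing.torsionSub I (TX J M b n)))
    rfl (fun _ => rfl) (LinearMap.ker (Td J M b 0)).subtype (Submodule.injective_subtype _)
    (Submodule.range_subtype _).symm (q + 1)
  have hsub := (e.toEquiv.subsingleton_congr).2 (hI _ (q + 1) hq)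
  rw [Submodule.Quotient.subsingleton_iff] at hsub
  let z' : TX J M b (q + 1) := ⟨z, hzJ⟩
  have hz'I : z' ∈ DRing.torsionSub I (TX J M b (q + 1)) := by
    obtain ⟨k, hk⟩ := hzI
    exact ⟨k, fun r hr => Subtype.ext (hk r hr)⟩
  have hz'd : z' ∈ LinearMap.ker (Td J M b (q + 1)) := by
    apply Subtype.ext
    exact hdz
  have hmem : (⟨z', ⟨hz'I, hz'd⟩⟩ : ↥(DRing.torsionSub I (TX J M b (q + 1)) ⊓
      LinearMap.ker (Td J M b (q + 1)))) ∈ (cobAux (fun n => TX J M b n) (Td J M b)
        (fun n => DRing.torsionSub I (TX J M b n)) (q + 1)).comap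
        (DRing.torsionSub I (TX J M b (q + 1)) ⊓ LinearMap.ker (Td J M b (q + 1))).subtype := by
    rw [hsub]; trivial
  rw [Submodule.mem_comap] at hmem
  obtain ⟨y, hy, hyz⟩ := hmem
  refine ⟨y.1, ?_, congrArg Subtype.val hyz⟩
  rw [mem_torsionSub_sup_iff]
  refine ⟨?_, y.2⟩
  obtain ⟨k, hk⟩ := hy
  exact ⟨k, fun r hr => congrArg Subtype.val (hk r hr)⟩

end Aux



/-- If local cohomology with support in I vanishes above degree a and with support in J above degree b
(on all modules), then local cohomology with support in I + J vanishes above degree a + b. -/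
theorem result (R : Type u) [CommRing R] [IsNoetherianRing R] (I J : Ideal R) (a b : ℕ) (hI : LocCoh.CdLE R I a) (hJ : LocCoh.CdLE R J b) : LocCoh.CdLE R (I ⊔ J) (a + b) := by
  intro M _ _ i hi
  exact vanish_sup I J a b (fun X _ _ q hq => hI X q hq) (fun X _ _ q hq => hJ X q hq) M i hi

end Groth.Agent.S0381
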