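import Groth.Statements.S0318
import Mathlib
import Groth.Agent.Lib.Helper19.LCBridge
import Groth.Agent.Lib.Helper19.LCLes
import Groth.Agent.Lib.Helper26.Depth1

set_option autoImplicit false
universe u v
open LocCoh

namespace Groth.Agent.S0318

-- MARK
section Aux
open CategoryTheory Groth.Agent.Lib.helper19.LCBridge Groth.Agent.Lib.helper19.LCLes
  Groth.Agent.Lib.helper26.Depth

variable {R : Type u} [CommRing R] (I : Ideal R)

theorem support_Q_subset (j : ℕ) :
    Module.support R (R ⧸ I ^ j) ⊆ PrimeSpectrum.zeroLocus (I : Set R) := by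
  rw [support_quotient_ideal]
  intro p hp
  rw [PrimeSpectrum.mem_zeroLocus, SetLike.coe_subset_coe] at hp ⊢
  exact Ideal.IsPrime.le_of_pow_le hp

variable [IsNoetherianRing R] (M : Type u) [AddCommGroup M] [Module R M] [Module.Finite R M]

theorem H_vanish_below (i : ℕ) (hi : (i : ℕ∞) < LocCoh.idealDepth I M) :
    Subsingleton ((localCohomology I i).obj (ModuleCat.of R M) : ModuleCat.{u} R) := by
  apply subsingleton_of_stages
  intro j
  have : Module.Finite R (ModuleCat.of R (R ⧸ I ^ j)) := Module.Finite.quotient R _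
  exact subsingleton_ext_of_lt_idealDepth I M (ModuleCat.of R (R ⧸ I ^ j)) (support_Q_subset I j) i hi

theorem toH'_one_injective (k : ℕ) (hk : LocCoh.idealDepth I M = k)
    (z : Abelian.Ext.{u} (Q I 1) (ModuleCat.of R M) k)
    (hz : toH' I k (ModuleCat.of R M) 1 z = 0) : z = 0 := by
  rw [toH'_eq_zero_iff] at hz
  obtain ⟨m, h, hm⟩ := hz
  have hsurj : Function.Surjective (quotMap I h).hom := by
    intro q
    obtain ⟨r, rfl⟩ := Ideal.Quotient.mk_surjective q
    exact ⟨Ideal.Quotient.mk _ r, rfl⟩
  cases k with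
  | zero =>
    obtain ⟨φ, rfl⟩ := (Abelian.Ext.mk₀_bijective _ _).2 z
    rw [Abelian.Ext.mk₀_comp_mk₀] at hm
    have h2 := (Abelian.Ext.mk₀_bijective _ _).1 (hm.trans (Abelian.Ext.mk₀_zero _ _).symm)
    have : Epi (quotMap I h) := (ModuleCat.epi_iff_surjective _).2 hsurj
    have h3 : φ = 0 := by
      rw [← cancel_epi (quotMap I h), h2, Limits.comp_zero]
    rw [h3, Abelian.Ext.mk₀_zero]
  | succ k' =>
    have hS := LinearMap.shortExact_shortComplexKer hsurj
    obtain ⟨x₁, hx₁⟩ := Abelian.Ext.contravariant_sequence_exact₃ hS _ z hm (add_comm 1 k')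
    have hfin : Module.Finite R (ModuleCat.of R (LinearMap.ker (quotMap I h).hom)) := by
      have : Module.Finite R (R ⧸ I ^ m) := Module.Finite.quotient R _
      have : IsNoetherian R (R ⧸ I ^ m) := isNoetherian_of_isNoetherianRing_of_finite R _
      exact Module.Finite.of_injective (LinearMap.ker (quotMap I h).hom).subtype
        (Submodule.injective_subtype _)
    have hsupp : Module.support R (ModuleCat.of R (LinearMap.ker (quotMap I h).hom)) ⊆
        PrimeSpectrum.zeroLocus (I : Set R) :=
      (Module.support_subset_of_injective (LinearMap.ker (quotMap I h).hom).subtype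
        (Submodule.injective_subtype _)).trans (support_Q_subset I m)
    have hlt : ((k' : ℕ) : ℕ∞) < LocCoh.idealDepth I M := by
      rw [hk]; exact_mod_cast Nat.lt_succ_self k'
    have hsub := subsingleton_ext_of_lt_idealDepth I M
      (ModuleCat.of R (LinearMap.ker (quotMap I h).hom)) hsupp k' hlt
    rw [← hx₁, hsub.elim x₁ 0, Abelian.Ext.comp_zero]

theorem H_nontrivial_at (k : ℕ) (hk : LocCoh.idealDepth I M = k) :
    Nontrivial ((localCohomology I k).obj (ModuleCat.of R M) : ModuleCat.{u} R) := by
  have hfin : Module.Finite R (ModuleCat.of R (R ⧸ I ^ 1)) := Module.Finite.quotient R _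
  have hsupp : Module.support R (ModuleCat.of R (R ⧸ I ^ 1)) = PrimeSpectrum.zeroLocus (I : Set R) := by
    rw [pow_one]
    exact support_quotient_ideal I
  have h1 := (idealDepth_eq_iff_ext_of_support_eq I M (ModuleCat.of R (R ⧸ I ^ 1)) hsupp k).1 hk
  have hnt := h1.2
  obtain ⟨z, hz⟩ := exists_ne (0 : Abelian.Ext.{u} (ModuleCat.of R (R ⧸ I ^ 1)) (ModuleCat.of R M) k)
  refine ⟨⟨toH' I k (ModuleCat.of R M) 1 z, 0, fun h0 => hz ?_⟩⟩
  exact toH'_one_injective I M k hk z h0

end Aux



/-- Part (1): =(3): for a finite module M over a Noetherian ring and an ideal I with IM ≠ M, the I-depth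
of M is the least degree in which the local cohomology of M with support in I is nonzero. -/
theorem result (R : Type u) [CommRing R] [IsNoetherianRing R] (I : Ideal R) (M : Type u) [AddCommGroup M] [Module R M] [Module.Finite R M] (hIM : I • (⊤ : Submodule R M) ≠ ⊤) (n : ℕ) : LocCoh.idealDepth I M = n ↔ ((∀ i : ℕ, i < n → Subsingleton (LocCoh.H I i M)) ∧ Nontrivial (LocCoh.H I n M)) := by
  have hne := Groth.Agent.Lib.helper26.Depth.idealDepth_ne_top I M hIM
  obtain ⟨k, hk⟩ := ENat.ne_top_iff_exists.mp hne
  have hk' : LocCoh.idealDepth I M = k := hk.symm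
  constructor
  · intro h
    have hnk : n = k := by
      rw [hk'] at h
      exact_mod_cast h.symm
    subst hnk
    exact ⟨fun i hi => H_vanish_below I M i (by rw [hk']; exact_mod_cast hi),
      H_nontrivial_at I M n hk'⟩
  · rintro ⟨h1, h2⟩
    rw [hk']
    rcases lt_trichotomy n k with hlt | heq | hgt
    · exfalso
      have := H_vanish_below I M n (by rw [hk']; exact_mod_cast hlt)
      exact not_subsingleton _ this
    · rw [heq]
    · exfalso
      have := H_nontrivial_at I M k hk'
      exact not_subsingleton _ (h1 k hgt)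

end Groth.Agent.S0318
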