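import Groth.Statements.S19747
import Mathlib
import Groth.Agent.Lib.Helper19.Segre

set_option autoImplicit false
universe u
open scoped TensorProduct
open GrSegre

namespace Groth.Agent.S19747

-- MARK
section Aux
open Groth.Agent.Lib.helper19.Segre

section Mod
variable (k : Type u) [Field k] (R : Type u) [CommRing R] [Algebra k R]
  (S : Type u) [CommRing S] [Algebra k S]
  (M : Type u) [AddCommGroup M] [Module R M] [Module k M] [IsScalarTower k R M]
  (N : Type u) [AddCommGroup N] [Module S N] [Module k N] [IsScalarTower k S N]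

/-- the action as an algebra homomorphism into endomorphisms -/
noncomputable def actHom : R ⊗[k] S →ₐ[k] Module.End k (M ⊗[k] N) :=
  Algebra.TensorProduct.algHomOfLinearMapTensorProduct (GrSeg.act k R S M N)
    (by
      intro a₁ a₂ b₁ b₂
      apply TensorProduct.ext'
      intro m n
      rw [GrSeg.act_tmul, Module.End.mul_apply, GrSeg.act_tmul, GrSeg.act_tmul, mul_smul, mul_smul])
    (by
      apply TensorProduct.ext'
      intro m n
      rw [GrSeg.act_tmul, one_smul, one_smul]
      rfl)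

theorem actHom_apply (a : R ⊗[k] S) (w : M ⊗[k] N) : actHom k R S M N a w = GrSeg.act k R S M N a w := rfl

/-- `M ⊗ N` as a module over `R ⊗ S` -/
@[reducible] noncomputable def modAW : Module (R ⊗[k] S) (M ⊗[k] N) :=
  Module.compHom (M ⊗[k] N) (actHom k R S M N).toRingHom

end Mod


section Fin
variable {k : Type u} [Field k] {R : Type u} [CommRing R] [Algebra k R]
  {S : Type u} [CommRing S] [Algebra k S]
  {M : Type u} [AddCommGroup M] [Module R M] [Module k M] [IsScalarTower k R M]
  {N : Type u} [AddCommGroup N] [Module S N] [Module k N] [IsScalarTower k S N]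

attribute [local instance] modAW

theorem smul_def (a : R ⊗[k] S) (w : M ⊗[k] N) : a • w = GrSeg.act k R S M N a w := rfl

theorem finite_AW [Module.Finite R M] [Module.Finite S N] : Module.Finite (R ⊗[k] S) (M ⊗[k] N) := by
  classical
  obtain ⟨sM, hsM⟩ := (Module.Finite.fg_top : (⊤ : Submodule R M).FG)
  obtain ⟨sN, hsN⟩ := (Module.Finite.fg_top : (⊤ : Submodule S N).FG)
  refine ⟨⟨(sM ×ˢ sN).image (fun p => p.1 ⊗ₜ[k] p.2), ?_⟩⟩
  rw [eq_top_iff]
  rintro w -
  induction w using TensorProduct.induction_on with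
  | zero => exact zero_mem _
  | tmul m n =>
    have hm : m ∈ Submodule.span R (sM : Set M) := by rw [hsM]; trivial
    have hn : n ∈ Submodule.span S (sN : Set N) := by rw [hsN]; trivial
    induction hm using Submodule.span_induction with
    | mem m hm =>
      induction hn using Submodule.span_induction with
      | mem n hn =>
        exact Submodule.subset_span (Finset.mem_coe.2 (Finset.mem_image.2 ⟨(m, n), Finset.mem_product.2 ⟨hm, hn⟩, rfl⟩))
      | zero => simp
      | add n n' _ _ h h' => rw [TensorProduct.tmul_add]; exact add_mem h h'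
      | smul s n _ h =>
        have : m ⊗ₜ[k] (s • n) = ((1 : R) ⊗ₜ[k] s) • (m ⊗ₜ[k] n) := by
          rw [smul_def, GrSeg.act_tmul, one_smul]
        rw [this]; exact Submodule.smul_mem _ _ h
    | zero => simp
    | add m m' _ _ h h' => rw [TensorProduct.add_tmul]; exact add_mem h h'
    | smul r m _ h =>
      have : (r • m) ⊗ₜ[k] n = (r ⊗ₜ[k] (1 : S)) • (m ⊗ₜ[k] n) := by
        rw [smul_def, GrSeg.act_tmul, one_smul]
      rw [this]; exact Submodule.smul_mem _ _ h
  | add w w' h h' => exact add_mem h h'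

end Fin

section Main
variable {k : Type u} [Field k] {R : Type u} [CommRing R] [Algebra k R] (𝒜 : ℤ → Submodule k R)
  [GradedAlgebra 𝒜] [Algebra.FiniteType k R]
  {S : Type u} [CommRing S] [Algebra k S] (ℬ : ℤ → Submodule k S) [GradedAlgebra ℬ] [Algebra.FiniteType k S]
  {T : Type u} [CommRing T] [Algebra k T] (𝒯 : ℤ → Submodule k T) [GradedAlgebra 𝒯]
  (ψ : T →ₐ[k] R ⊗[k] S) (hT : GrSeg.IsSegreRing 𝒜 ℬ 𝒯 ψ)
  {M : Type u} [AddCommGroup M] [Module R M] [Module k M] [IsScalarTower k R M]
  (ℳ : ℤ → AddSubgroup M) [DirectSum.Decomposition ℳ] [SetLike.GradedSMul 𝒜 ℳ] [Module.Finite R M]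
  {N : Type u} [AddCommGroup N] [Module S N] [Module k N] [IsScalarTower k S N]
  (𝒩 : ℤ → AddSubgroup N) [DirectSum.Decomposition 𝒩] [SetLike.GradedSMul ℬ 𝒩] [Module.Finite S N]
  {P : Type u} [AddCommGroup P] [Module T P] [Module k P] [IsScalarTower k T P]
  (𝒬 : ℤ → AddSubgroup P) [DirectSum.Decomposition 𝒬] (φ : P →ₗ[k] M ⊗[k] N)
  (hP : GrSeg.IsSegreMod ψ ℳ 𝒩 𝒬 φ)

attribute [local instance] modAW

include hT hP in
theorem main : Module.Finite T P := by
  classical
  have hkM : ∀ (c : k) (j : ℤ) (m : M), m ∈ ℳ j → c • m ∈ ℳ j := fun c j m hm => ksmul_mem 𝒜 ℳ c hm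
  have hkN : ∀ (c : k) (j : ℤ) (m : N), m ∈ 𝒩 j → c • m ∈ 𝒩 j := fun c j m hm => ksmul_mem ℬ 𝒩 c hm
  have hM' : ∀ (i j : ℤ) (r : R) (m : M), r ∈ 𝒜 i → m ∈ sub ℳ hkM j → r • m ∈ sub ℳ hkM (i + j) :=
    fun i j r m hr hm => smul_mem_add 𝒜 ℳ hr hm
  have hN' : ∀ (i j : ℤ) (r : S) (m : N), r ∈ ℬ i → m ∈ sub 𝒩 hkN j → r • m ∈ sub 𝒩 hkN (i + j) :=
    fun i j r m hr hm => smul_mem_add ℬ 𝒩 hr hm
  -- φ lands in the diagonal part
  have hφD : ∀ p : P, φ p ∈ D (sub ℳ hkM) (sub 𝒩 hkN) := by
    intro p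
    induction p using DirectSum.Decomposition.inductionOn 𝒬 with
    | zero => simp
    | @homogeneous n p =>
      have h4 : φ p ∈ (GrSeg.segrePiece k ℳ 𝒩 n : Set (M ⊗[k] N)) := by
        rw [← hP.image_piece]
        exact ⟨p, p.2, rfl⟩
      refine Submodule.span_mono ?_ h4
      rintro x ⟨a, ha, b, hb, rfl⟩
      exact ⟨n, a, ha, b, hb, rfl⟩
    | add p p' h h' => rw [map_add]; exact add_mem h h'
  -- the diagonal part of the ring is the image of ψ
  have hρ : ∀ b : R ⊗[k] S, ∃ t : T, ψ t = rho 𝒜 ℬ b := by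
    intro b
    have hb := rho_mem_D 𝒜 ℬ b
    generalize rho 𝒜 ℬ b = x at hb
    induction hb using Submodule.span_induction with
    | mem x hx =>
      obtain ⟨n, a, ha, b, hb, rfl⟩ := hx
      have h1 : a ⊗ₜ[k] b ∈ (𝒯 n).map ψ.toLinearMap := by
        rw [hT.2 n]; exact Submodule.subset_span ⟨a, ha, b, hb, rfl⟩
      obtain ⟨t, _, ht⟩ := h1
      exact ⟨t, ht⟩
    | zero => exact ⟨0, map_zero _⟩
    | add x y _ _ hx hy =>
      obtain ⟨t, e⟩ := hx
      obtain ⟨t', e'⟩ := hy
      exact ⟨t + t', by rw [map_add, e, e']⟩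
    | smul c x _ hx =>
      obtain ⟨t, e⟩ := hx
      exact ⟨c • t, by rw [map_smul, e]⟩
  have : Algebra.FiniteType k (R ⊗[k] S) :=
    Algebra.FiniteType.trans (inferInstance : Algebra.FiniteType k R)
      (inferInstance : Algebra.FiniteType R (R ⊗[k] S))
  have : IsNoetherianRing (R ⊗[k] S) := Algebra.FiniteType.isNoetherianRing k _
  have : Module.Finite (R ⊗[k] S) (M ⊗[k] N) := finite_AW
  have : IsNoetherian (R ⊗[k] S) (M ⊗[k] N) := isNoetherian_of_isNoetherianRing_of_finite _ _
  let Φ : Submodule T P → Submodule (R ⊗[k] S) (M ⊗[k] N) :=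
    fun P' => Submodule.span (R ⊗[k] S) (φ '' (P' : Set P))
  have key : ∀ (P' : Submodule T P), ∀ y ∈ Φ P', ∀ b : R ⊗[k] S,
      ∃ i ∈ P', φ i = rho (sub ℳ hkM) (sub 𝒩 hkN) (b • y) := by
    intro P' y hy
    induction hy using Submodule.span_induction with
    | mem y hy =>
      obtain ⟨p, hp, rfl⟩ := hy
      intro b
      obtain ⟨t, ht⟩ := hρ b
      refine ⟨t • p, P'.smul_mem _ hp, ?_⟩
      rw [smul_def, rho_act 𝒜 ℬ (sub ℳ hkM) (sub 𝒩 hkN) hM' hN' b (hφD p), ← ht, hP.map_smul]
    | zero => intro b; exact ⟨0, zero_mem _, by simp⟩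
    | add y y' _ _ hy hy' =>
      intro b
      obtain ⟨i, hi, e⟩ := hy b
      obtain ⟨i', hi', e'⟩ := hy' b
      exact ⟨i + i', add_mem hi hi', by rw [map_add, e, e', smul_add, map_add]⟩
    | smul c y _ hy =>
      intro b
      obtain ⟨i, hi, e⟩ := hy (b * c)
      exact ⟨i, hi, by rw [e, mul_smul]⟩
  have hcomap : ∀ (P' : Submodule T P) (x : P), φ x ∈ Φ P' → x ∈ P' := by
    intro P' x hx
    obtain ⟨i, hi, e⟩ := key P' _ hx 1
    rw [one_smul, rho_of_mem_D _ _ (hφD x)] at e
    rw [← hP.injective e]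
    exact hi
  have hmono : Monotone Φ := fun P' P'' h => Submodule.span_mono (Set.image_mono h)
  have hinj : Function.Injective Φ := by
    intro P' P'' h
    apply le_antisymm
    · intro x hx
      apply hcomap P'' x
      rw [← h]
      exact Submodule.subset_span ⟨x, hx, rfl⟩
    · intro x hx
      apply hcomap P' x
      rw [h]
      exact Submodule.subset_span ⟨x, hx, rfl⟩
  have hsm : StrictMono Φ := hmono.strictMono_of_injective hinj
  have : IsNoetherian T P := by
    rw [isNoetherian_iff']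
    exact hsm.wellFoundedGT
  infer_instance

end Main

end Aux



/-- Let R and S be graded rings defined over a field k with Segre product T = R # S, and let M be a
finitely generated graded R-module and N a finitely generated graded S-module. Then M # N is a
finitely generated T-module. Here a graded ring defined over k is a commutative k-algebra of finite
type, graded in nonnegative degrees by k-subspaces with degree-zero part k·1; the Segre product T =
R # S = ⊕_n R_n ⊗_k S_n is presented abstractly as a graded k-algebra T with an injective k-algebra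
homomorphism ψ : T → R ⊗_k S carrying T_n onto the k-span of the elementary tensors a ⊗ b with a ∈
R_n, b ∈ S_n; the Segre product M # N = ⊕_n M_n ⊗_k N_n of a graded R-module M and a graded S-module
N is presented abstractly as a graded T-module P with an injective k-linear map φ : P → M ⊗_k N
carrying P_n onto the k-span of the tensors x ⊗ y with x ∈ M_n, y ∈ N_n and turning the action of t
∈ T into that of ψ(t) (acting factorwise on M ⊗_k N). -/
theorem result (k : Type u) [Field k] (R : Type u) [CommRing R] [Algebra k R] (𝒜 : ℤ → Submodule k R) [GradedAlgebra 𝒜] (hposR : ∀ n : ℤ, n < 0 → 𝒜 n = ⊥) (h0R : 𝒜 0 = Submodule.span k {(1 : R)}) [Algebra.FiniteType k R] (S : Type u) [CommRing S] [Algebra k S] (ℬ : ℤ → Submodule k S) [GradedAlgebra ℬ] (hposS : ∀ n : ℤ, n < 0 → ℬ n = ⊥) (h0S : ℬ 0 = Submodule.span k {(1 : S)}) [Algebra.FiniteType k S] (T : Type u) [CommRing T] [Algebra k T] (𝒯 : ℤ → Submodule k T) [GradedAlgebra 𝒯] (ψ : T →ₐ[k] TensorProduct k R S) (hT : GrSeg.IsSegreRing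 𝒜 ℬ 𝒯 ψ) (M : Type u) [AddCommGroup M] [Module R M] [Module k M] [IsScalarTower k R M] (ℳ : ℤ → AddSubgroup M) [DirectSum.Decomposition ℳ] [SetLike.GradedSMul 𝒜 ℳ] [Module.Finite R M] (N : Type u) [AddCommGroup N] [Module S N] [Module k N] [IsScalarTower k S N] (𝒩 : ℤ → AddSubgroup N) [DirectSum.Decomposition 𝒩] [SetLike.GradedSMul ℬ 𝒩] [Module.Finite S N] (P : Type u) [AddCommGroup P] [Module T P] [Module k P] [IsScalarTower k T P] (𝒬 : ℤ → AddSubgroup P) [DirectSum.Decomposition 𝒬] (φ : P →ₗ[k] TensorProduct k M N) (hP : GrSeg.IsSegreMod ψ ℳ 𝒩 𝒬 φ) : Module.Finite T P := by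
  exact main 𝒜 ℬ 𝒯 ψ hT ℳ 𝒩 𝒬 φ hP

end Groth.Agent.S19747
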