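import Groth.Statements.S19754
import Groth.Agent.Lib.Helper26.Seg28

set_option autoImplicit false
universe u
open scoped TensorProduct
open GrSegre

namespace Groth.Agent.S19754

theorem exists_nat_eq {z : WithBot ℕ∞} {a b : ℕ} (h1 : (a : WithBot ℕ∞) ≤ z)
    (h2 : z ≤ (b : WithBot ℕ∞)) : ∃ c : ℕ, z = c ∧ a ≤ c := by
  induction z using WithBot.recBotCoe with
  | bot => simp at h1
  | coe z =>
    induction z using ENat.recTopCoe with
    | top =>
      exfalso
      have : ((⊤ : ℕ∞) : WithBot ℕ∞) ≤ ((b : ℕ∞) : WithBot ℕ∞) := h2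
      rw [WithBot.coe_le_coe] at this
      simp at this
    | coe c =>
      refine ⟨c, rfl, ?_⟩
      have : ((a : ℕ∞) : WithBot ℕ∞) ≤ ((c : ℕ∞) : WithBot ℕ∞) := h1
      rw [WithBot.coe_le_coe] at this
      exact_mod_cast this

/-- Let R and S be graded rings defined over a field k, T = R # S, M a finitely generated graded
Cohen–Macaulay R-module of dimension r ≥ 1 and N a finitely generated graded Cohen–Macaulay S-module
of dimension s ≥ 1. Then either M # N = 0 or dim (M # N) = r + s − 1. The letters r and s stand here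
for the dimensions of the modules M and N themselves and are not assumed to equal dim R and dim S;
the proof by homogeneous parameter systems of M and N establishes this general form. Here a graded
ring defined over k is a commutative k-algebra of finite type, graded in nonnegative degrees by
k-subspaces with degree-zero part k·1; the Segre product T = R # S = ⊕_n R_n ⊗_k S_n is presented
abstractly as a graded k-algebra T with an injective k-algebra homomorphism ψ : T → R ⊗_k S carrying
T_n onto the k-span of the elementary tensors a ⊗ b with a ∈ R_n, b ∈ S_n; the Segre product M # N =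
⊕_n M_n ⊗_k N_n of a graded R-module M and a graded S-module N is presented abstractly as a graded
T-module P with an injective k-linear map φ : P → M ⊗_k N carrying P_n onto the k-span of the
tensors x ⊗ y with x ∈ M_n, y ∈ N_n and turning the action of t ∈ T into that of ψ(t) (acting
factorwise on M ⊗_k N); a module over a ring is called Cohen–Macaulay when each of its localizations
at a prime ideal is zero or a Cohen–Macaulay module over the local ring (dimension of the support
equal to the depth), and the dimension of a module is the Krull dimension of its support. -/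
theorem result (k : Type u) [Field k] (R : Type u) [CommRing R] [Algebra k R] (𝒜 : ℤ → Submodule k R) [GradedAlgebra 𝒜] (hposR : ∀ n : ℤ, n < 0 → 𝒜 n = ⊥) (h0R : 𝒜 0 = Submodule.span k {(1 : R)}) [Algebra.FiniteType k R] (S : Type u) [CommRing S] [Algebra k S] (ℬ : ℤ → Submodule k S) [GradedAlgebra ℬ] (hposS : ∀ n : ℤ, n < 0 → ℬ n = ⊥) (h0S : ℬ 0 = Submodule.span k {(1 : S)}) [Algebra.FiniteType k S] (T : Type u) [CommRing T] [Algebra k T] (𝒯 : ℤ → Submodule k T) [GradedAlgebra 𝒯] (ψ : T →ₐ[k] TensorProduct k R S) (hT : GrSeg.IsSegreRing 𝒜 ℬ 𝒯 ψ) (M : Type u) [AddCommGroup M] [Module R M] [Module k M] [IsScalarTower k R M] (ℳ : ℤ → AddSubgroup M) [DirectSum.Decomposition ℳ] [SetLike.GradedSMul 𝒜 ℳ] [Module.Finite R M] (N : Type u) [AddCommGroup N] [Module S N] [Module k N] [IsScalarTower k S N] (𝒩 : ℤ → AddSubgroup N) [DirectSum.Decomposition 𝒩] [SetLike.GradedSMul ℬ 𝒩] [Module.Finite S N] (P : Type u) [AddCommGroup P] [Module T P] [Module k P] [IsScalarTower k T P] (𝒬 : ℤ → AddSubgroup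 P) [DirectSum.Decomposition 𝒬] (φ : P →ₗ[k] TensorProduct k M N) (hP : GrSeg.IsSegreMod ψ ℳ 𝒩 𝒬 φ) (r s : ℕ) (h1r : 1 ≤ r) (h1s : 1 ≤ s) (hdM : Module.supportDim R M = r) (hdN : Module.supportDim S N = s) (hMcm : (∀ (q : Ideal R) [q.IsPrime], Subsingleton (LocalizedModule q.primeCompl M) ∨ LocCoh.IsCohenMacaulayModule (Localization.AtPrime q) (LocalizedModule q.primeCompl M))) (hNcm : (∀ (q : Ideal S) [q.IsPrime], Subsingleton (LocalizedModule q.primeCompl N) ∨ LocCoh.IsCohenMacaulayModule (Localization.AtPrime q) (LocalizedModule q.primeCompl N))) : Module.supportDim T P = ((r + s - 1 : ℕ) : WithBot ℕ∞) ∨ Subsingleton P := by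
  by_cases hss : Subsingleton P
  · exact Or.inr hss
  left
  have hnoeR : IsNoetherianRing R := Algebra.FiniteType.isNoetherianRing k R
  have hnoeS : IsNoetherianRing S := Algebra.FiniteType.isNoetherianRing k S
  obtain ⟨hψ, hdegT⟩ := hT
  have hdegT' : ∀ n : ℤ, (𝒯 n).map ψ.toLinearMap =
      Submodule.span k {x : TensorProduct k R S | ∃ a ∈ 𝒜 n, ∃ b ∈ ℬ n, x = a ⊗ₜ[k] b} := hdegT
  -- nonzero homogeneous elements of the same degree
  have hex : ∃ (n : ℤ) (x : M), x ∈ ℳ n ∧ ∃ y ∈ 𝒩 n, x ≠ 0 ∧ y ≠ 0 := by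
    by_contra hcon
    push Not at hcon
    apply hss
    refine ⟨fun p₁ p₂ => ?_⟩
    have hz : ∀ p : P, p = 0 := by
      intro p
      induction p using DirectSum.Decomposition.inductionOn 𝒬 with
      | zero => rfl
      | @homogeneous n p =>
        apply hP.injective
        rw [map_zero]
        have h1 : φ (p : P) ∈ (GrSeg.segrePiece k ℳ 𝒩 n : Set (TensorProduct k M N)) := by
          rw [← hP.image_piece n]
          exact ⟨p, p.2, rfl⟩
        have h2 : GrSeg.segrePiece k ℳ 𝒩 n = ⊥ := by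
          unfold GrSeg.segrePiece
          rw [Submodule.span_eq_bot]
          rintro _ ⟨x, hx, y, hy, rfl⟩
          by_cases hx0 : x = 0
          · rw [hx0, TensorProduct.zero_tmul]
          · rw [hcon n x hx y hy hx0, TensorProduct.tmul_zero]
        rw [h2] at h1
        exact (Submodule.mem_bot k).mp h1
      | add a b ha hb => rw [ha, hb, add_zero]
    rw [hz p₁, hz p₂]
  obtain ⟨n, x, hx, y, hy, hx0, hy0⟩ := hex
  have hntM : Nontrivial M := ⟨⟨x, 0, hx0⟩⟩
  have hntN : Nontrivial N := ⟨⟨y, 0, hy0⟩⟩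
  have hntR : Nontrivial R := Module.nontrivial R M
  have hntS : Nontrivial S := Module.nontrivial S N
  have hpR : (Groth.Agent.Lib.helper26.Seg.irr 𝒜).IsPrime :=
    (Groth.Agent.Lib.helper26.Seg.irr_isMaximal 𝒜 hposR h0R).isPrime
  have hpS : (Groth.Agent.Lib.helper26.Seg.irr ℬ).IsPrime :=
    (Groth.Agent.Lib.helper26.Seg.irr_isMaximal ℬ hposS h0S).isPrime
  have hxd := Groth.Agent.Lib.helper26.Seg.le_ringKrullDim_quotient_torsionOf 𝒜 hposR h0R ℳ
    (hMcm (Groth.Agent.Lib.helper26.Seg.irr 𝒜)) r hdM hx hx0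
  have hyd := Groth.Agent.Lib.helper26.Seg.le_ringKrullDim_quotient_torsionOf ℬ hposS h0S 𝒩
    (hNcm (Groth.Agent.Lib.helper26.Seg.irr ℬ)) s hdN hy hy0
  apply le_antisymm
  · refine Groth.Agent.Lib.helper26.Seg.supportDim_le 𝒜 ℬ 𝒯 ψ ℳ 𝒩 𝒬 φ hP hdegT' hposR h0R hposS h0S
      r s ?_ ?_ h1r h1s
    · rw [← Module.supportDim_eq_ringKrullDim_quotient_annihilator]; exact hdM
    · rw [← Module.supportDim_eq_ringKrullDim_quotient_annihilator]; exact hdN
  · obtain ⟨p, -, hp⟩ := Groth.Agent.Lib.helper26.Seg.exists_preimage_tmul ψ ℳ 𝒩 𝒬 φ hP hx hy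
    obtain ⟨a₀, ha₀⟩ := Groth.Agent.Lib.helper26.Seg.exists_nat_ringKrullDim_le k
      (R ⧸ Ideal.torsionOf R M x)
    obtain ⟨b₀, hb₀⟩ := Groth.Agent.Lib.helper26.Seg.exists_nat_ringKrullDim_le k
      (S ⧸ Ideal.torsionOf S N y)
    obtain ⟨a, ha, haM⟩ := exists_nat_eq hxd ha₀
    obtain ⟨b, hb, hbN⟩ := exists_nat_eq hyd hb₀
    have hlow := Groth.Agent.Lib.helper26.Seg.le_supportDim_of_tmul 𝒜 ℬ 𝒯 ψ ℳ 𝒩 𝒬 φ hP hdegT'
      hposR h0R hposS h0S hx hy hp a b ha hb (by omega) (by omega)
    refine le_trans ?_ hlow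
    have : r + s - 1 ≤ a + b - 1 := by omega
    exact_mod_cast this

end Groth.Agent.S19754
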