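import Groth.Statements.S12136
import Mathlib

set_option autoImplicit false
universe u
open TensorProduct KaehlerDifferential
open EGA41

namespace Groth.Agent.S12136



section induction
variable (A : Type u) {C : Type u} [CommRing A] [CommRing C] [Algebra A C] (𝔫 Q : Ideal C)

/-- the lifting property for tests where `Q^M` kills the kernel -/
def LiftProp (M : ℕ) : Prop :=
  ∀ (T : Type u) [CommRing T] [Algebra A T] (N : Ideal T), N ^ 2 = ⊥ →
    ∀ ψ : C →ₐ[A] T ⧸ N, (∃ k : ℕ, ∀ x ∈ 𝔫 ^ k, ψ x = 0) →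
      (∀ c ∈ Q ^ M, ∀ t : T, Ideal.Quotient.mk N t = ψ c → ∀ n ∈ N, t * n = 0) →
      ∃ χ : C →ₐ[A] T, (Ideal.Quotient.mkₐ A N).comp χ = ψ

variable {A} {T : Type u} [CommRing T] [Algebra A T] (N : Ideal T) (ψ : C →ₐ[A] T ⧸ N)

/-- the sub-ideal `Q^M N` -/
def N1 (M : ℕ) : Ideal T :=
  Ideal.span {x | ∃ c ∈ Q ^ M, ∃ t : T, Ideal.Quotient.mk N t = ψ c ∧ ∃ n ∈ N, x = t * n}

lemma N1_le (M : ℕ) : N1 Q N ψ M ≤ N := by
  rw [N1, Ideal.span_le]
  rintro x ⟨c, hc, t, ht, n, hn, rfl⟩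
  exact N.mul_mem_left t hn

/-- `T/N → (T/N₁)/(N/N₁)` -/
def eps (M : ℕ) : (T ⧸ N) →ₐ[A] (T ⧸ N1 Q N ψ M) ⧸ (N.map (Ideal.Quotient.mk (N1 Q N ψ M))) :=
  Ideal.Quotient.liftₐ N ((Ideal.Quotient.mkₐ A _).comp (Ideal.Quotient.mkₐ A _)) (fun x hx => by
    show Ideal.Quotient.mk _ (Ideal.Quotient.mk _ x) = 0
    exact Ideal.Quotient.eq_zero_iff_mem.mpr (Ideal.mem_map_of_mem _ hx))

lemma eps_mk (M : ℕ) (t : T) :
    eps Q N ψ M (Ideal.Quotient.mk N t) = Ideal.Quotient.mk _ (Ideal.Quotient.mk _ t) := rfl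

lemma eps_injective (M : ℕ) : Function.Injective (eps Q N ψ M) := by
  rw [injective_iff_map_eq_zero]
  intro x hx
  obtain ⟨t, rfl⟩ := Ideal.Quotient.mk_surjective x
  rw [eps_mk, Ideal.Quotient.eq_zero_iff_mem] at hx
  obtain ⟨n, hn, hnt⟩ := (Ideal.mem_map_iff_of_surjective _ Ideal.Quotient.mk_surjective).mp hx
  rw [Ideal.Quotient.eq] at hnt
  have : t = n - (n - t) := by ring
  rw [Ideal.Quotient.eq_zero_iff_mem, this]
  exact N.sub_mem hn (N1_le Q N ψ M hnt)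

lemma liftProp_succ (h1 : LiftProp A 𝔫 Q 1) (M : ℕ) (hM : LiftProp A 𝔫 Q M) :
    LiftProp A 𝔫 Q (M + 1) := by
  intro T _ _ N hN ψ hψ hkill
  obtain ⟨k, hk⟩ := hψ
  have hNbar : (N.map (Ideal.Quotient.mk (N1 Q N ψ M))) ^ 2 = ⊥ := by
    rw [← Ideal.map_pow, hN, Ideal.map_bot]
  obtain ⟨χbar, hχbar⟩ := hM (T ⧸ N1 Q N ψ M) (N.map (Ideal.Quotient.mk (N1 Q N ψ M))) hNbar
    ((eps Q N ψ M).comp ψ) ⟨k, fun x hx => by rw [AlgHom.comp_apply, hk x hx, map_zero]⟩ (by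
      intro c hc tbar htbar nbar hnbar
      obtain ⟨t, rfl⟩ := Ideal.Quotient.mk_surjective tbar
      obtain ⟨n, hn, rfl⟩ :=
        (Ideal.mem_map_iff_of_surjective _ Ideal.Quotient.mk_surjective).mp hnbar
      rw [AlgHom.comp_apply, ← eps_mk] at htbar
      have h2 := eps_injective Q N ψ M htbar
      rw [← map_mul, Ideal.Quotient.eq_zero_iff_mem]
      exact Ideal.subset_span ⟨c, hc, t, h2, n, hn, rfl⟩)
  have hχbar' : ∀ c, Ideal.Quotient.mk _ (χbar c) = eps Q N ψ M (ψ c) :=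
    fun c => congrArg (fun f => f c) hχbar
  have hN1sq : (N1 Q N ψ M) ^ 2 = ⊥ := by
    rw [eq_bot_iff, ← hN]; exact Ideal.pow_right_mono (N1_le Q N ψ M) 2
  have key : ∀ c (t : T), Ideal.Quotient.mk (N1 Q N ψ M) t = χbar c →
      Ideal.Quotient.mk N t = ψ c := by
    intro c t ht
    apply eps_injective Q N ψ M
    rw [eps_mk, ht, hχbar']
  have hAA : ∀ x ∈ 𝔫 ^ (k + k), χbar x = 0 := by
    intro x hx
    rw [pow_add] at hx
    refine Submodule.mul_induction_on hx ?_ ?_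
    · intro y hy z hz
      have hy' : χbar y ∈ N.map (Ideal.Quotient.mk (N1 Q N ψ M)) := by
        rw [← Ideal.Quotient.eq_zero_iff_mem, hχbar', hk y hy, map_zero]
      have hz' : χbar z ∈ N.map (Ideal.Quotient.mk (N1 Q N ψ M)) := by
        rw [← Ideal.Quotient.eq_zero_iff_mem, hχbar', hk z hz, map_zero]
      have : χbar y * χbar z ∈ (N.map (Ideal.Quotient.mk (N1 Q N ψ M))) ^ 2 := by
        rw [pow_two]; exact Ideal.mul_mem_mul hy' hz'
      rw [hNbar] at this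
      rw [map_mul]; exact this
    · intro y z hy hz; rw [map_add, hy, hz, add_zero]
  have hBB : ∀ c ∈ Q ^ 1, ∀ t : T, Ideal.Quotient.mk (N1 Q N ψ M) t = χbar c →
      ∀ n ∈ N1 Q N ψ M, t * n = 0 := by
    intro c hc t ht n₁ hn₁
    have ht' := key c t ht
    rw [pow_one] at hc
    refine Submodule.span_induction (p := fun n₁ _ => t * n₁ = 0) ?_ ?_ ?_ ?_ hn₁
    · rintro x ⟨c', hc', t', ht'', n, hn, rfl⟩
      rw [← mul_assoc]
      apply hkill (c * c') ?_ (t * t') ?_ n hn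
      · rw [pow_succ']; exact Ideal.mul_mem_mul hc hc'
      · rw [map_mul, map_mul, ht', ht'']
    · exact mul_zero t
    · intro x y _ _ hx hy; rw [mul_add, hx, hy, add_zero]
    · intro a x _ hx; rw [smul_eq_mul, mul_left_comm, hx, mul_zero]
  obtain ⟨χ, hχ⟩ := h1 T (N1 Q N ψ M) hN1sq χbar ⟨k + k, hAA⟩ hBB
  refine ⟨χ, ?_⟩
  ext c
  exact key c (χ c) (congrArg (fun f => f c) hχ)

lemma liftProp_all (h1 : LiftProp A 𝔫 Q 1) : ∀ M, LiftProp A 𝔫 Q (M + 1) := by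
  intro M
  induction M with
  | zero => exact h1
  | succ M ih => exact liftProp_succ 𝔫 Q h1 (M + 1) ih

lemma formallySmooth_of_liftProp_one (hQ' : ∃ m : ℕ, Q ^ m ≤ 𝔫) (h1 : LiftProp A 𝔫 Q 1) :
    CAlgX.IsAdicFormallySmooth A C 𝔫 := by
  intro T _ _ N hN ψ hψ
  obtain ⟨k, hk⟩ := hψ
  obtain ⟨m, hm⟩ := hQ'
  refine liftProp_all 𝔫 Q h1 (m * k) T N hN ψ ⟨k, hk⟩ ?_
  intro c hc t ht n hn
  have hc' : c ∈ 𝔫 ^ k := by
    have : Q ^ (m * k + 1) ≤ 𝔫 ^ k :=
      calc Q ^ (m * k + 1) ≤ Q ^ (m * k) := Ideal.pow_le_pow_right (Nat.le_succ _)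
        _ = (Q ^ m) ^ k := pow_mul _ _ _
        _ ≤ 𝔫 ^ k := Ideal.pow_right_mono hm k
    exact this hc
  rw [hk c hc', Ideal.Quotient.eq_zero_iff_mem] at ht
  have : t * n ∈ N ^ 2 := by rw [pow_two]; exact Ideal.mul_mem_mul ht hn
  rw [hN] at this
  exact this

end induction



lemma exists_factor {R X Y Z : Type*} [CommRing R] [AddCommGroup X] [AddCommGroup Y]
    [AddCommGroup Z] [Module R X] [Module R Y] [Module R Z]
    (π : X →ₗ[R] Y) (hπ : Function.Surjective π) (F : X →ₗ[R] Z)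
    (h : LinearMap.ker π ≤ LinearMap.ker F) :
    ∃ F' : Y →ₗ[R] Z, F' ∘ₗ π = F := by
  refine ⟨(Submodule.liftQ (LinearMap.ker π) F h) ∘ₗ
    (LinearMap.quotKerEquivOfSurjective π hπ).symm.toLinearMap, ?_⟩
  ext x
  have : (LinearMap.quotKerEquivOfSurjective π hπ).symm (π x) = Submodule.Quotient.mk x := by
    rw [LinearEquiv.symm_apply_eq]; rfl
  simp [this]

section base
open TensorProduct KaehlerDifferential
variable {A B : Type u} [CommRing A] [CommRing B] [Algebra A B] (J : Ideal B) (Q : Ideal (B ⧸ J))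

lemma mem_K_iff (x : B) : x ∈ RingHom.ker (algebraMap B (B ⧸ J)) ↔ x ∈ J := by
  rw [RingHom.mem_ker, Ideal.Quotient.algebraMap_eq, Ideal.Quotient.eq_zero_iff_mem]

lemma base_core
    (g : ((B ⧸ J) ⧸ Q) ⊗[B] ((B ⧸ J) ⊗[B] Ω[B⁄A]) →ₗ[(B ⧸ J) ⧸ Q]
      ((B ⧸ J) ⧸ Q) ⊗[B] (RingHom.ker (algebraMap B (B ⧸ J))).Cotangent)
    (hg : g ∘ₗ LinearMap.baseChange ((B ⧸ J) ⧸ Q)
      (KaehlerDifferential.kerCotangentToTensor A B (B ⧸ J)) = LinearMap.id)
    (T : Type u) [CommRing T] [Algebra A T] [Algebra B T] [IsScalarTower A B T]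
    (N : Ideal T) (hN : N ^ 2 = ⊥)
    (hK : ∀ x ∈ J, algebraMap B T x ∈ N)
    (hq : ∀ b : B, Ideal.Quotient.mk J b ∈ Q → ∀ n ∈ N, algebraMap B T b * n = 0) :
    ∃ χ' : B →ₐ[A] T, (∀ x ∈ J, χ' x = 0) ∧
      ∀ b, Ideal.Quotient.mk N (χ' b) = Ideal.Quotient.mk N (algebraMap B T b) := by
  classical
  -- (b) the restriction of the structure map to K
  have hF₀ : ∃ F₀ : ↥(RingHom.ker (algebraMap B (B ⧸ J))) →ₗ[B] ↥N,
      ∀ x, ((F₀ x : ↥N) : T) = algebraMap B T x.1 :=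
    ⟨LinearMap.codRestrict (N.restrictScalars B)
      ((Algebra.linearMap B T).comp (Submodule.subtype _))
      (fun x => hK x.1 ((mem_K_iff J _).mp x.2)), fun x => rfl⟩
  obtain ⟨F₀, hF₀⟩ := hF₀
  -- (c) descend to the cotangent space
  obtain ⟨φbar, hφbar⟩ := exists_factor (RingHom.ker (algebraMap B (B ⧸ J))).toCotangent
    (Ideal.toCotangent_surjective _) F₀ (by
      intro x hx
      rw [Ideal.mem_toCotangent_ker] at hx
      rw [LinearMap.mem_ker]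
      apply Subtype.ext
      rw [hF₀]
      have h1 : algebraMap B T x.1 ∈ ((RingHom.ker (algebraMap B (B ⧸ J))).map (algebraMap B T)) ^ 2 := by
        rw [← Ideal.map_pow]; exact Ideal.mem_map_of_mem _ hx
      have h2 : (RingHom.ker (algebraMap B (B ⧸ J))).map (algebraMap B T) ≤ N := by
        rw [Ideal.map_le_iff_le_comap]
        intro y hy
        exact hK y ((mem_K_iff J _).mp hy)
      have h3 := Ideal.pow_right_mono h2 2 h1
      rw [hN] at h3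
      exact h3)
  have hφbar' : ∀ x, φbar ((RingHom.ker (algebraMap B (B ⧸ J))).toCotangent x) = F₀ x :=
    fun x => congrArg (fun f => f x) hφbar
  -- (d) the bilinear map
  obtain ⟨β, hβ⟩ := exists_factor (Algebra.linearMap B ((B ⧸ J) ⧸ Q))
    (by
      intro s
      obtain ⟨c, rfl⟩ := Ideal.Quotient.mk_surjective s
      obtain ⟨b, rfl⟩ := Ideal.Quotient.mk_surjective c
      exact ⟨b, rfl⟩)
    ((LinearMap.lsmul B ((RingHom.ker (algebraMap B (B ⧸ J))).Cotangent →ₗ[B] ↥N)).flip φbar) (by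
      intro b hb
      rw [LinearMap.mem_ker] at hb ⊢
      have hb' : Ideal.Quotient.mk J b ∈ Q := by
        rw [← Ideal.Quotient.eq_zero_iff_mem]; exact hb
      ext ξ
      show ((b • φbar ξ : ↥N) : T) = 0
      rw [Submodule.coe_smul_of_tower, Algebra.smul_def]
      exact hq b hb' _ (φbar ξ).2)
  have hβ1 : β 1 = φbar := by
    have := congrArg (fun f => f (1 : B)) hβ
    simp only [LinearMap.comp_apply, Algebra.linearMap_apply, map_one, LinearMap.flip_apply,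
      LinearMap.lsmul_apply, one_smul] at this
    exact this
  -- (f) the map h'
  have hh' : ∃ h' : ((B ⧸ J) ⊗[B] Ω[B⁄A]) →ₗ[B] ↥N,
      ∀ ξ, h' (KaehlerDifferential.kerCotangentToTensor A B (B ⧸ J) ξ) = φbar ξ := by
    refine ⟨(TensorProduct.lift β) ∘ₗ (g.restrictScalars B) ∘ₗ
      (TensorProduct.mk B ((B ⧸ J) ⧸ Q) ((B ⧸ J) ⊗[B] Ω[B⁄A]) 1), fun ξ => ?_⟩
    have h1 := congrArg (fun f => f ((1 : (B ⧸ J) ⧸ Q) ⊗ₜ[B] ξ)) hg
    simp only [LinearMap.comp_apply, LinearMap.baseChange_tmul, LinearMap.id_apply] at h1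
    simp only [LinearMap.comp_apply, TensorProduct.mk_apply, LinearMap.restrictScalars_apply]
    rw [h1, TensorProduct.lift.tmul, hβ1]
  obtain ⟨h', hh'⟩ := hh'
  -- (g),(h) the derivation
  have hD : ∃ Dv : Derivation A B ↥N, ∀ x (hx : x ∈ J), ((Dv x : ↥N) : T) = algebraMap B T x := by
    refine ⟨(h' ∘ₗ (TensorProduct.mk B (B ⧸ J) Ω[B⁄A] 1)).compDer (KaehlerDifferential.D A B), ?_⟩
    intro x hx
    have hxK : x ∈ RingHom.ker (algebraMap B (B ⧸ J)) := (mem_K_iff J x).mpr hx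
    have h1 : ((h' ∘ₗ (TensorProduct.mk B (B ⧸ J) Ω[B⁄A] 1)).compDer (KaehlerDifferential.D A B)) x
        = h' (KaehlerDifferential.kerCotangentToTensor A B (B ⧸ J)
          ((RingHom.ker (algebraMap B (B ⧸ J))).toCotangent ⟨x, hxK⟩)) := rfl
    rw [h1, hh', hφbar', hF₀]
  obtain ⟨Dv, hDv⟩ := hD
  refine ⟨liftOfDerivationToSquareZero N hN (-Dv), ?_, ?_⟩
  · intro x hx
    rw [liftOfDerivationToSquareZero_apply]
    show ((-Dv x : ↥N) : T) + _ = 0
    rw [Submodule.coe_neg, hDv x hx, neg_add_cancel]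
  · intro b
    rw [liftOfDerivationToSquareZero_mk_apply]
    rfl

end base


section base2
open TensorProduct KaehlerDifferential
variable {A B : Type u} [CommRing A] [CommRing B] [Algebra A B] (J : Ideal B) (Q : Ideal (B ⧸ J))

lemma liftProp_one (I : Ideal B) (hB : CAlgX.IsAdicFormallySmooth A B I)
    (g : ((B ⧸ J) ⧸ Q) ⊗[B] ((B ⧸ J) ⊗[B] Ω[B⁄A]) →ₗ[(B ⧸ J) ⧸ Q]
      ((B ⧸ J) ⧸ Q) ⊗[B] (RingHom.ker (algebraMap B (B ⧸ J))).Cotangent)
    (hg : g ∘ₗ LinearMap.baseChange ((B ⧸ J) ⧸ Q)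
      (KaehlerDifferential.kerCotangentToTensor A B (B ⧸ J)) = LinearMap.id) :
    LiftProp A (I.map (Ideal.Quotient.mk J)) Q 1 := by
  intro T _ _ N hN ψ hψ hkill
  obtain ⟨k, hk⟩ := hψ
  obtain ⟨φ, hφ⟩ := hB T N hN (ψ.comp (Ideal.Quotient.mkₐ A J)) ⟨k, fun x hx => by
    rw [AlgHom.comp_apply]
    apply hk
    show Ideal.Quotient.mk J x ∈ _
    rw [← Ideal.map_pow]
    exact Ideal.mem_map_of_mem _ hx⟩
  have hφ' : ∀ b, Ideal.Quotient.mk N (φ b) = ψ (Ideal.Quotient.mk J b) :=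
    fun b => congrArg (fun f => f b) hφ
  letI : Algebra B T := φ.toRingHom.toAlgebra
  haveI : IsScalarTower A B T := IsScalarTower.of_algebraMap_eq (fun a => (φ.commutes a).symm)
  have halg : ∀ b, algebraMap B T b = φ b := fun b => rfl
  obtain ⟨χ', h1, h2⟩ := base_core J Q g hg T N hN (fun x hx => by
      rw [halg, ← Ideal.Quotient.eq_zero_iff_mem, hφ', Ideal.Quotient.eq_zero_iff_mem.mpr hx,
        map_zero])
    (fun b hb n hn => by
      rw [halg]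
      exact hkill _ (by rw [pow_one]; exact hb) (φ b) (hφ' b) n hn)
  refine ⟨Ideal.Quotient.liftₐ J χ' h1, ?_⟩
  ext c
  obtain ⟨b, rfl⟩ := Ideal.Quotient.mk_surjective c
  show Ideal.Quotient.mk N (χ' b) = _
  rw [h2, halg, hφ']

end base2


section fwd
open TensorProduct KaehlerDifferential
variable {A B : Type u} [CommRing A] [CommRing B] [Algebra A B] (J : Ideal B) (Q : Ideal (B ⧸ J))

/-- elements of `𝔮 J` die in `S ⊗ J/J²` -/
lemma tmul_toCotangent_eq_zero (x : B) (hx : x ∈ (Q.comap (Ideal.Quotient.mk J)) * J) :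
    ∃ hxK : x ∈ RingHom.ker (algebraMap B (B ⧸ J)),
      (1 : (B ⧸ J) ⧸ Q) ⊗ₜ[B] (RingHom.ker (algebraMap B (B ⧸ J))).toCotangent ⟨x, hxK⟩ = 0 := by
  refine Submodule.mul_induction_on hx ?_ ?_
  · intro q hq j hj
    have hjK : j ∈ RingHom.ker (algebraMap B (B ⧸ J)) := (mem_K_iff J j).mpr hj
    refine ⟨Ideal.mul_mem_left _ q hjK, ?_⟩
    have h1 : (⟨q * j, Ideal.mul_mem_left _ q hjK⟩ : ↥(RingHom.ker (algebraMap B (B ⧸ J))))
        = q • ⟨j, hjK⟩ := rfl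
    rw [h1, map_smul, ← TensorProduct.smul_tmul, ← Algebra.algebraMap_eq_smul_one]
    have h2 : algebraMap B ((B ⧸ J) ⧸ Q) q = 0 := by
      show Ideal.Quotient.mk Q (Ideal.Quotient.mk J q) = 0
      exact Ideal.Quotient.eq_zero_iff_mem.mpr hq
    rw [h2, TensorProduct.zero_tmul]
  · rintro y z ⟨hy, hy'⟩ ⟨hz, hz'⟩
    refine ⟨Ideal.add_mem _ hy hz, ?_⟩
    have h1 : (⟨y + z, Ideal.add_mem _ hy hz⟩ : ↥(RingHom.ker (algebraMap B (B ⧸ J))))
        = ⟨y, hy⟩ + ⟨z, hz⟩ := rfl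
    rw [h1, map_add, TensorProduct.tmul_add, hy', hz', add_zero]

lemma forward_core (L : Ideal B)
    (hJ2 : (Q.comap (Ideal.Quotient.mk J)) * J ≤ L)
    (hLJ : ∀ x ∈ L, x ∈ J → x ∈ (Q.comap (Ideal.Quotient.mk J)) * J)
    (n : ℕ) (I : Ideal B) (hIL : I ^ n ≤ L)
    (hC : CAlgX.IsAdicFormallySmooth A (B ⧸ J) (I.map (Ideal.Quotient.mk J))) :
    ∃ g : ((B ⧸ J) ⧸ Q) ⊗[B] ((B ⧸ J) ⊗[B] Ω[B⁄A]) →ₗ[(B ⧸ J) ⧸ Q]
          ((B ⧸ J) ⧸ Q) ⊗[B] (RingHom.ker (algebraMap B (B ⧸ J))).Cotangent,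
        g ∘ₗ LinearMap.baseChange ((B ⧸ J) ⧸ Q) (KaehlerDifferential.kerCotangentToTensor A B (B ⧸ J)) =
          LinearMap.id := by
  classical
  have hJ𝔮 : J ≤ Q.comap (Ideal.Quotient.mk J) := by
    intro x hx
    rw [Ideal.mem_comap, Ideal.Quotient.eq_zero_iff_mem.mpr hx]
    exact Q.zero_mem
  have hJJ : J * J ≤ L := le_trans (Ideal.mul_mono_left hJ𝔮) hJ2
  have hN : (J.map (Ideal.Quotient.mk L)) ^ 2 = ⊥ := by
    rw [← Ideal.map_pow, eq_bot_iff, pow_two]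
    calc Ideal.map (Ideal.Quotient.mk L) (J * J) ≤ Ideal.map (Ideal.Quotient.mk L) L :=
          Ideal.map_mono hJJ
      _ = ⊥ := Ideal.map_quotient_self L
  have hψ0 : ∀ x ∈ J, ((Ideal.Quotient.mkₐ A (J.map (Ideal.Quotient.mk L))).comp
      (Ideal.Quotient.mkₐ A L)) x = 0 := fun x hx => by
    show Ideal.Quotient.mk _ (Ideal.Quotient.mk L x) = 0
    exact Ideal.Quotient.eq_zero_iff_mem.mpr (Ideal.mem_map_of_mem _ hx)
  have hψk : ∀ y ∈ (I.map (Ideal.Quotient.mk J)) ^ n, (Ideal.Quotient.liftₐ J _ hψ0) y = 0 := by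
    intro y hy
    rw [← Ideal.map_pow] at hy
    obtain ⟨b, hb, rfl⟩ := (Ideal.mem_map_iff_of_surjective _ Ideal.Quotient.mk_surjective).mp hy
    show Ideal.Quotient.mk _ (Ideal.Quotient.mk L b) = 0
    rw [Ideal.Quotient.eq_zero_iff_mem.mpr (hIL hb), map_zero]
  obtain ⟨χ, hχ⟩ := hC (B ⧸ L) (J.map (Ideal.Quotient.mk L)) hN (Ideal.Quotient.liftₐ J _ hψ0)
    ⟨n, hψk⟩
  have hχ' : ∀ b : B, Ideal.Quotient.mk (J.map (Ideal.Quotient.mk L)) (χ (Ideal.Quotient.mk J b))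
      = Ideal.Quotient.mk _ (Ideal.Quotient.mk L b) := fun b =>
    congrArg (fun f => f (Ideal.Quotient.mk J b)) hχ
  -- the derivation
  have hd : ∃ d : Derivation A B ↥(J.map (Ideal.Quotient.mk L)),
      ∀ x ∈ J, ((d x : ↥(J.map (Ideal.Quotient.mk L))) : B ⧸ L) = - Ideal.Quotient.mk L x := by
    refine ⟨derivationToSquareZeroOfLift (J.map (Ideal.Quotient.mk L)) hN
      (χ.comp (Ideal.Quotient.mkₐ A J)) ?_, ?_⟩
    · ext b
      exact hχ' b
    · intro x hx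
      rw [derivationToSquareZeroOfLift_apply]
      show χ (Ideal.Quotient.mk J x) - Ideal.Quotient.mk L x = _
      rw [Ideal.Quotient.eq_zero_iff_mem.mpr hx, map_zero, zero_sub]
  obtain ⟨d, hd⟩ := hd
  -- the surjection K → N
  have hs : ∃ s : ↥(RingHom.ker (algebraMap B (B ⧸ J))) →ₗ[B] ↥(J.map (Ideal.Quotient.mk L)),
      ∀ x, ((s x : ↥(J.map (Ideal.Quotient.mk L))) : B ⧸ L) = Ideal.Quotient.mk L x.1 :=
    ⟨LinearMap.codRestrict ((J.map (Ideal.Quotient.mk L)).restrictScalars B)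
      ((Algebra.linearMap B (B ⧸ L)).comp (Submodule.subtype _))
      (fun x => Ideal.mem_map_of_mem _ ((mem_K_iff J _).mp x.2)), fun x => rfl⟩
  obtain ⟨s, hs⟩ := hs
  have hsurj : Function.Surjective s := by
    intro y
    obtain ⟨x, hx, hxy⟩ :=
      (Ideal.mem_map_iff_of_surjective _ Ideal.Quotient.mk_surjective).mp y.2
    refine ⟨⟨x, (mem_K_iff J x).mpr hx⟩, ?_⟩
    apply Subtype.ext
    rw [hs]
    exact hxy
  obtain ⟨θ, hθ⟩ := exists_factor s hsurj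
    ((TensorProduct.mk B ((B ⧸ J) ⧸ Q) (RingHom.ker (algebraMap B (B ⧸ J))).Cotangent 1) ∘ₗ
      (RingHom.ker (algebraMap B (B ⧸ J))).toCotangent) (by
      intro x hx
      rw [LinearMap.mem_ker] at hx ⊢
      have h1 : Ideal.Quotient.mk L x.1 = 0 := by
        rw [← hs, hx]; rfl
      rw [Ideal.Quotient.eq_zero_iff_mem] at h1
      obtain ⟨_, h2⟩ := tmul_toCotangent_eq_zero J Q x.1 (hLJ x.1 h1 ((mem_K_iff J _).mp x.2))
      exact h2)
  have hθ' : ∀ x, θ (s x) = (1 : (B ⧸ J) ⧸ Q) ⊗ₜ[B]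
      (RingHom.ker (algebraMap B (B ⧸ J))).toCotangent x := fun x => congrArg (fun f => f x) hθ
  -- key identity
  have hkey : ∀ x : ↥(RingHom.ker (algebraMap B (B ⧸ J))),
      θ (d x.1) = - ((1 : (B ⧸ J) ⧸ Q) ⊗ₜ[B] (RingHom.ker (algebraMap B (B ⧸ J))).toCotangent x) := by
    intro x
    have h1 : d x.1 = - s x := by
      apply Subtype.ext
      rw [hd x.1 ((mem_K_iff J _).mp x.2), Submodule.coe_neg, hs]
    rw [h1, map_neg, hθ']
  refine ⟨-((((θ ∘ₗ d.liftKaehlerDifferential).liftBaseChange (B ⧸ J)).restrictScalars B).liftBaseChange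
    ((B ⧸ J) ⧸ Q)), ?_⟩
  apply TensorProduct.AlgebraTensorModule.ext
  intro r ξ
  obtain ⟨x, rfl⟩ := Ideal.toCotangent_surjective _ ξ
  rw [LinearMap.comp_apply, LinearMap.baseChange_tmul, KaehlerDifferential.kerCotangentToTensor_toCotangent,
    LinearMap.neg_apply, LinearMap.liftBaseChange_tmul, LinearMap.restrictScalars_apply,
    LinearMap.liftBaseChange_tmul, one_smul, LinearMap.comp_apply,
    Derivation.liftKaehlerDifferential_comp_D, hkey, smul_neg, neg_neg, LinearMap.id_apply,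
    TensorProduct.smul_tmul', smul_eq_mul, mul_one]

lemma forward [IsNoetherianRing B] (I : Ideal B)
    (hQ : ∃ n : ℕ, (I.map (Ideal.Quotient.mk J)) ^ n ≤ Q)
    (hC : CAlgX.IsAdicFormallySmooth A (B ⧸ J) (I.map (Ideal.Quotient.mk J))) :
    ∃ g : ((B ⧸ J) ⧸ Q) ⊗[B] ((B ⧸ J) ⊗[B] Ω[B⁄A]) →ₗ[(B ⧸ J) ⧸ Q]
          ((B ⧸ J) ⧸ Q) ⊗[B] (RingHom.ker (algebraMap B (B ⧸ J))).Cotangent,
        g ∘ₗ LinearMap.baseChange ((B ⧸ J) ⧸ Q) (KaehlerDifferential.kerCotangentToTensor A B (B ⧸ J)) =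
          LinearMap.id := by
  classical
  obtain ⟨n₀, hn₀⟩ := hQ
  have hI𝔮 : I ^ n₀ ≤ Q.comap (Ideal.Quotient.mk J) := by
    intro x hx
    rw [Ideal.mem_comap]
    apply hn₀
    rw [← Ideal.map_pow]
    exact Ideal.mem_map_of_mem _ hx
  obtain ⟨c, hc⟩ := Ideal.exists_pow_inf_eq_pow_smul I (J : Submodule B B)
  -- Artin–Rees consequence
  have hAR : ∀ x ∈ I ^ (c + n₀), x ∈ J → x ∈ (Q.comap (Ideal.Quotient.mk J)) * J := by
    intro x hxI hxJ
    have h1 : x ∈ (I ^ (c + n₀) • ⊤ ⊓ J : Submodule B B) := by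
      refine ⟨?_, hxJ⟩
      rw [smul_eq_mul, Ideal.mul_top]
      exact hxI
    rw [hc (c + n₀) (Nat.le_add_right c n₀), Nat.add_sub_cancel_left] at h1
    have h2 : (I ^ n₀ • (I ^ c • ⊤ ⊓ J : Submodule B B) : Submodule B B)
        ≤ (Q.comap (Ideal.Quotient.mk J)) * J := by
      rw [← smul_eq_mul]
      exact Submodule.smul_mono hI𝔮 inf_le_right
    exact h2 h1
  have h𝔮J : (Q.comap (Ideal.Quotient.mk J)) * J ≤ J := Ideal.mul_le_right
  refine forward_core J Q ((Q.comap (Ideal.Quotient.mk J)) * J ⊔ I ^ (c + n₀)) le_sup_left ?_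
    (c + n₀) I le_sup_right hC
  intro x hxL hxJ
  obtain ⟨y, hy, z, hz, rfl⟩ := Submodule.mem_sup.mp hxL
  have hzJ : z ∈ J := by
    have : z = (y + z) - y := by ring
    rw [this]
    exact J.sub_mem hxJ (h𝔮J hy)
  exact Ideal.add_mem _ hy (hAR z hz hzJ)

end fwd

/-- In the Noetherian adic case, which the published statement itself singles out, let A → B be a ring
homomorphism with B Noetherian, I and J ideals of B, and suppose B, with the I-adic topology, is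
formally smooth over the discrete ring A. Put C = B/J with the quotient (IC-adic) topology and let Q
be an ideal of definition of C, i.e. an ideal containing a power of IC and a power of which lies in
IC. Then C is formally smooth over A for the IC-adic topology if and only if the C/Q-linear map
(J/J²) ⊗ (C/Q) → Ω_{B/A} ⊗_B (C/Q), obtained by base change from the conormal map J/J² → Ω_{B/A} ⊗_B
C, x ↦ 1 ⊗ dx, has a C/Q-linear left inverse (is an isomorphism onto a direct summand). Here J is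
written as the kernel of B → C and the tensor products are taken over B, which for these C-modules
is the same as over C. (The published statement allows A to be any topological ring with A → B
continuous; this row takes A discrete.) -/
theorem result {A B : Type u} [CommRing A]
    [CommRing B] [Algebra A B] [IsNoetherianRing B] (I J : Ideal B) (hB : CAlgX.IsAdicFormallySmooth A B I)
    (Q : Ideal (B ⧸ J)) (hQ : ∃ n : ℕ, (I.map (Ideal.Quotient.mk J)) ^ n ≤ Q)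
    (hQ' : ∃ m : ℕ, Q ^ m ≤ I.map (Ideal.Quotient.mk J)) :
    CAlgX.IsAdicFormallySmooth A (B ⧸ J) (I.map (Ideal.Quotient.mk J)) ↔
      ∃ g : ((B ⧸ J) ⧸ Q) ⊗[B] ((B ⧸ J) ⊗[B] Ω[B⁄A]) →ₗ[(B ⧸ J) ⧸ Q]
          ((B ⧸ J) ⧸ Q) ⊗[B] (RingHom.ker (algebraMap B (B ⧸ J))).Cotangent,
        g ∘ₗ LinearMap.baseChange ((B ⧸ J) ⧸ Q) (KaehlerDifferential.kerCotangentToTensor A B (B ⧸ J)) =
          LinearMap.id := by
  constructor
  · intro hC
    exact forward J Q I hQ hC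
  · rintro ⟨g, hg⟩
    exact formallySmooth_of_liftProp_one _ Q hQ' (liftProp_one J Q I hB g hg)

end Groth.Agent.S12136
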