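import Groth.Statements.S0548
import Groth.Agent.S0542
import Groth.Agent.Lib.Helper24.HensDepth
-- import your own Groth.Agent.* helpers here

set_option autoImplicit false
universe u
open CAlg

namespace Groth.Agent.S0548

/-- A Noetherian local ring is regular exactly when its completion at the maximal ideal is a regular
local ring. -/
theorem result (A : Type u) [CommRing A] [IsLocalRing A]
    [IsNoetherianRing A] :
    IsRegularLocalRing A ↔ IsRegularLocalRing (AdicCompletion (IsLocalRing.maximalIdeal A) A) := by
  haveI hN : IsNoetherianRing (AdicCompletion (IsLocalRing.maximalIdeal A) A) :=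
    Groth.Agent.S0542.result A (IsLocalRing.maximalIdeal A)
      (IsLocalRing.maximalIdeal A).fg_of_isNoetherianRing
  have hm : (IsLocalRing.maximalIdeal A).map
      (algebraMap A (AdicCompletion (IsLocalRing.maximalIdeal A) A)) =
      IsLocalRing.maximalIdeal (AdicCompletion (IsLocalRing.maximalIdeal A) A) :=
    AdicCompletion.maximalIdeal_eq_map.symm
  have hdim := Groth.Agent.Lib.Helper24.FlatLocalFibre.ringKrullDim_eq_of_flat A
    (AdicCompletion (IsLocalRing.maximalIdeal A) A) hm
  exact Groth.Agent.Lib.Helper24.FlatCotangent.isRegularLocalRing_iff_of_flat A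
    (AdicCompletion (IsLocalRing.maximalIdeal A) A) hm hdim

end Groth.Agent.S0548
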