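import Groth.Statements.S3874
import Mathlib

set_option autoImplicit false
universe u
open FCompl

namespace Groth.Agent.S3874

theorem ker_evalₐ_eq {L : Type u} [CommRing L] (I : Ideal L) (hI : I.FG) (m : ℕ) :
    RingHom.ker (AdicCompletion.evalₐ I m).toRingHom =
      (I.map (algebraMap L (AdicCompletion I L))) ^ m := by
  ext x
  have eq : (I ^ m • ⊤ : Ideal L) = I ^ m := by simp
  have inj : Function.Injective (Ideal.Quotient.factor (le_of_eq eq)) := by
    simpa [RingHom.injective_iff_ker_eq_bot, Ideal.Quotient.factor_ker]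
      using Ideal.map_mk_eq_bot_of_le (le_of_eq eq.symm)
  have h1 : x ∈ RingHom.ker (AdicCompletion.evalₐ I m).toRingHom ↔
      x ∈ LinearMap.ker (AdicCompletion.eval I L m) := by
    rw [RingHom.mem_ker, LinearMap.mem_ker]
    change AdicCompletion.evalₐ I m x = 0 ↔ _
    rw [← AdicCompletion.factor_eval_eq_evalₐ I x (le_of_eq eq)]
    exact map_eq_zero_iff _ inj
  rw [h1, ← AdicCompletion.pow_smul_top_eq_ker_eval hI, Ideal.smul_top_eq_map,
    Submodule.restrictScalars_mem, Ideal.map_pow]


/-- Let A be a Noetherian ring, J an ideal, f ∈ A and n ≥ 0, and let A_{f} be the completion of the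
localization A_f for the topology defined by the extension of J. There is a ring isomorphism from
the localization of A/J^(n+1) away from the class of f onto A_{f} modulo the (n+1)-st power of the
extension of J to A_{f}, compatible with the canonical maps from A (and hence unique). In terms of
formal spectra: the open D(f) of Spf(A) is Spf(A_{f}), and at level n its ring is the ring
(A/J^(n+1))_f of the open D(f) of Spec(A/J^(n+1)). -/
theorem result (A : Type u) [CommRing A] [IsNoetherianRing A] (J : Ideal A)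
    (f : A) (n : ℕ) :
    ∃ e : Localization.Away (Ideal.Quotient.mk (J ^ (n + 1)) f) ≃+*
        FSch.cAway A J f ⧸ (J.map (algebraMap A (FSch.cAway A J f))) ^ (n + 1),
      ∀ a : A, e (algebraMap (A ⧸ J ^ (n + 1)) _ (Ideal.Quotient.mk (J ^ (n + 1)) a)) =
        Ideal.Quotient.mk _ (algebraMap A (FSch.cAway A J f) a) := by
  classical
  -- notation
  let L := Localization.Away f
  let I : Ideal L := J.map (algebraMap A L)
  have hIfg : I.FG := (isNoetherianRing_iff_ideal_fg L).mp inferInstance I
  have hmapJ : J.map (algebraMap A (FSch.cAway A J f)) =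
      I.map (algebraMap L (AdicCompletion I L)) := by
    rw [Ideal.map_map]
    rfl
  -- e1 : localization of quotient
  have hloc : IsLocalization.Away (Ideal.Quotient.mk (J ^ (n + 1)) f)
      (L ⧸ (J ^ (n + 1)).map (algebraMap A L)) := by
    have h0 : IsLocalization (Algebra.algebraMapSubmonoid (A ⧸ J ^ (n + 1)) (Submonoid.powers f))
        (L ⧸ (J ^ (n + 1)).map (algebraMap A L)) := inferInstance
    have h1 : Algebra.algebraMapSubmonoid (A ⧸ J ^ (n + 1)) (Submonoid.powers f) =
        Submonoid.powers (Ideal.Quotient.mk (J ^ (n + 1)) f) := by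
      rw [Algebra.algebraMapSubmonoid, Submonoid.map_powers]
      rfl
    rw [h1] at h0
    exact h0
  let e1 : Localization.Away (Ideal.Quotient.mk (J ^ (n + 1)) f) ≃ₐ[A ⧸ J ^ (n + 1)]
      (L ⧸ (J ^ (n + 1)).map (algebraMap A L)) :=
    IsLocalization.algEquiv (Submonoid.powers (Ideal.Quotient.mk (J ^ (n + 1)) f)) _ _
  have hpow : (J ^ (n + 1)).map (algebraMap A L) = I ^ (n + 1) := Ideal.map_pow _ _ _
  let e2 : (L ⧸ (J ^ (n + 1)).map (algebraMap A L)) ≃+* (L ⧸ I ^ (n + 1)) :=
    Ideal.quotEquivOfEq hpow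
  have hsurj : Function.Surjective (AdicCompletion.evalₐ I (n + 1)).toRingHom :=
    AdicCompletion.surjective_evalₐ I (n + 1)
  let e3 : (L ⧸ I ^ (n + 1)) ≃+*
      (AdicCompletion I L ⧸ RingHom.ker (AdicCompletion.evalₐ I (n + 1)).toRingHom) :=
    (RingHom.quotientKerEquivOfSurjective hsurj).symm
  have hker : RingHom.ker (AdicCompletion.evalₐ I (n + 1)).toRingHom =
      (J.map (algebraMap A (FSch.cAway A J f))) ^ (n + 1) := by
    rw [hmapJ]
    exact ker_evalₐ_eq I hIfg (n + 1)
  let e4 : (AdicCompletion I L ⧸ RingHom.ker (AdicCompletion.evalₐ I (n + 1)).toRingHom) ≃+*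
      (FSch.cAway A J f ⧸ (J.map (algebraMap A (FSch.cAway A J f))) ^ (n + 1)) :=
    Ideal.quotEquivOfEq hker
  refine ⟨((e1.toRingEquiv.trans e2).trans e3).trans e4, ?_⟩
  intro a
  have h1 : e1 (algebraMap (A ⧸ J ^ (n + 1)) _ (Ideal.Quotient.mk (J ^ (n + 1)) a)) =
      Ideal.Quotient.mk _ (algebraMap A L a) := by
    rw [e1.commutes]
    rfl
  have h3 : e3 (Ideal.Quotient.mk (I ^ (n + 1)) (algebraMap A L a)) =
      Ideal.Quotient.mk _ (AdicCompletion.of I L (algebraMap A L a)) := by
    have : Ideal.Quotient.mk (I ^ (n + 1)) (algebraMap A L a) =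
        (AdicCompletion.evalₐ I (n + 1)).toRingHom (AdicCompletion.of I L (algebraMap A L a)) := by
      change _ = AdicCompletion.evalₐ I (n + 1) (AdicCompletion.of I L (algebraMap A L a))
      rw [AdicCompletion.evalₐ_of]
    rw [this]
    exact RingHom.quotientKerEquivOfSurjective_symm_apply hsurj _
  simp only [RingEquiv.trans_apply, AlgEquiv.coe_ringEquiv]
  rw [h1]
  change e4 (e3 (Ideal.Quotient.mk (I ^ (n + 1)) (algebraMap A L a))) = _
  rw [h3]
  rfl

end Groth.Agent.S3874
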