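import Groth.Statements.S9318
import Mathlib
import Groth.Agent.S3874

set_option autoImplicit false
universe u
open CAlg

namespace Groth.Agent.S9318

/-- Let `R → S` be a ring map and `𝔫 ⊆ S` a finitely generated ideal, and let `S^` be the `𝔫`-adic
completion of `S`. Then `R → S` is formally smooth for the `𝔫`-adic topology if and only if `R → S^`
is formally smooth for the adic topology of the extension of `𝔫` to `S^`. No Noetherian hypothesis
is made on `S`. -/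
theorem result {R S : Type u} [CommRing R] [CommRing S]
    [Algebra R S] (𝔫 : Ideal S) (h𝔫 : 𝔫.FG) :
    CAlgX.IsAdicFormallySmooth R S 𝔫 ↔
      CAlgX.IsAdicFormallySmooth R (AdicCompletion 𝔫 S) (𝔫.map (algebraMap S (AdicCompletion 𝔫 S))) := by
  classical
  -- basic facts about the evaluation maps
  have hker : ∀ m : ℕ, RingHom.ker (AdicCompletion.evalₐ 𝔫 m).toRingHom =
      (𝔫.map (algebraMap S (AdicCompletion 𝔫 S))) ^ m :=
    fun m => Groth.Agent.S3874.ker_evalₐ_eq 𝔫 h𝔫 m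
  have hev_alg : ∀ (m : ℕ) (s : S), AdicCompletion.evalₐ 𝔫 m
      (algebraMap S (AdicCompletion 𝔫 S) s) = Ideal.Quotient.mk (𝔫 ^ m) s := by
    intro m s
    rw [AlgHom.commutes]; rfl
  have hmem_ker : ∀ (m : ℕ) (y : AdicCompletion 𝔫 S),
      y ∈ (𝔫.map (algebraMap S (AdicCompletion 𝔫 S))) ^ m ↔ AdicCompletion.evalₐ 𝔫 m y = 0 := by
    intro m y
    rw [← hker m, RingHom.mem_ker]; rfl
  constructor
  · -- S smooth ⇒ completion smooth
    intro h A _ _ J hJ ψ' hk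
    obtain ⟨k, hk⟩ := hk
    let ι : S →ₐ[R] AdicCompletion 𝔫 S := IsScalarTower.toAlgHom R S (AdicCompletion 𝔫 S)
    have hψ : ∃ k : ℕ, ∀ x ∈ 𝔫 ^ k, (ψ'.comp ι) x = 0 := by
      refine ⟨k, fun x hx => ?_⟩
      apply hk
      rw [← Ideal.map_pow]
      exact Ideal.mem_map_of_mem _ hx
    obtain ⟨χ, hχ⟩ := h A J hJ (ψ'.comp ι) hψ
    -- χ kills 𝔫^(k+k)
    have hχJ : ∀ a ∈ 𝔫 ^ k, χ a ∈ J := by
      intro a ha
      have h1 := DFunLike.congr_fun hχ a
      have h2 : (ψ'.comp ι) a = 0 := by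
        apply hk
        rw [← Ideal.map_pow]
        exact Ideal.mem_map_of_mem _ ha
      rw [h2] at h1
      exact Ideal.Quotient.eq_zero_iff_mem.mp h1
    have hχ0 : ∀ a ∈ 𝔫 ^ (k + k), χ a = 0 := by
      have hle : 𝔫 ^ (k + k) ≤ RingHom.ker (χ : S →+* A) := by
        rw [pow_add, Ideal.mul_le]
        intro a ha b hb
        rw [RingHom.mem_ker, RingHom.coe_coe, map_mul]
        have : χ a * χ b ∈ J ^ 2 := by
          rw [pow_two]; exact Ideal.mul_mem_mul (hχJ a ha) (hχJ b hb)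
        rw [hJ] at this
        exact this
      intro a ha
      exact hle ha
    let χbar : S ⧸ 𝔫 ^ (k + k) →ₐ[R] A := Ideal.Quotient.liftₐ (𝔫 ^ (k + k)) χ hχ0
    let χ' : AdicCompletion 𝔫 S →ₐ[R] A :=
      χbar.comp ((AdicCompletion.evalₐ 𝔫 (k + k)).restrictScalars R)
    refine ⟨χ', ?_⟩
    apply AlgHom.ext
    intro y
    obtain ⟨s, hs⟩ := Ideal.Quotient.mk_surjective (AdicCompletion.evalₐ 𝔫 (k + k) y)
    have hy : y - algebraMap S (AdicCompletion 𝔫 S) s ∈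
        (𝔫.map (algebraMap S (AdicCompletion 𝔫 S))) ^ (k + k) := by
      rw [hmem_ker, map_sub, hev_alg, hs, sub_self]
    have hy' : ψ' (y - algebraMap S (AdicCompletion 𝔫 S) s) = 0 :=
      hk _ (Ideal.pow_le_pow_right (Nat.le_add_left k k) hy)
    have e1 : χ' y = χ s := by
      change χbar (AdicCompletion.evalₐ 𝔫 (k + k) y) = χ s
      rw [← hs]
      rfl
    have e2 : ψ' y = ψ' (algebraMap S (AdicCompletion 𝔫 S) s) := by
      rw [map_sub, sub_eq_zero] at hy'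
      exact hy'
    rw [AlgHom.comp_apply, e1, e2]
    exact DFunLike.congr_fun hχ s
  · -- completion smooth ⇒ S smooth
    intro h A _ _ J hJ ψ hk
    obtain ⟨k, hk⟩ := hk
    let ψbar : S ⧸ 𝔫 ^ k →ₐ[R] A ⧸ J := Ideal.Quotient.liftₐ (𝔫 ^ k) ψ hk
    let ψ' : AdicCompletion 𝔫 S →ₐ[R] A ⧸ J :=
      ψbar.comp ((AdicCompletion.evalₐ 𝔫 k).restrictScalars R)
    have hψ' : ∃ k : ℕ, ∀ x ∈ (𝔫.map (algebraMap S (AdicCompletion 𝔫 S))) ^ k, ψ' x = 0 := by
      refine ⟨k, fun x hx => ?_⟩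
      rw [hmem_ker] at hx
      change ψbar (AdicCompletion.evalₐ 𝔫 k x) = 0
      rw [hx, map_zero]
    obtain ⟨χ', hχ'⟩ := h A J hJ ψ' hψ'
    let ι : S →ₐ[R] AdicCompletion 𝔫 S := IsScalarTower.toAlgHom R S (AdicCompletion 𝔫 S)
    refine ⟨χ'.comp ι, ?_⟩
    apply AlgHom.ext
    intro s
    have h1 := DFunLike.congr_fun hχ' (ι s)
    rw [AlgHom.comp_apply] at h1
    rw [AlgHom.comp_apply, AlgHom.comp_apply, h1]
    change ψbar (AdicCompletion.evalₐ 𝔫 k (algebraMap S (AdicCompletion 𝔫 S) s)) = ψ s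
    rw [hev_alg]
    rfl

end Groth.Agent.S9318
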