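import Groth.Agent.LibSmallExt29
import Mathlib.RingTheory.EssentialFiniteness
import Mathlib.RingTheory.RingHom.Smooth

/-!
# The Artinian lifting criterion for formal smoothness of local rings (helper29)

EGA IV 17.14.2 at the level of rings: for a local homomorphism `A → B` of local rings, `A`
Noetherian and `B` essentially of finite type over `A`, `B` is formally smooth over `A` iff
homomorphisms `B → A'/I` lift to `A'` for the small extensions of Artinian local `A`-algebras `A'`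
with the same residue field as `B`.
-/

set_option autoImplicit false
set_option linter.style.haveILetI false

namespace Groth.Agent.LibArtLift29

open IsLocalRing Groth.Agent.LibSmallExt29

universe u

/-- The Artinian lifting property of EGA IV 17.14.2 for a homomorphism `φ : A → B` to a local
ring. -/
def ArtLift {A B : Type u} [CommRing A] [CommRing B] [IsLocalRing B] (φ : A →+* B) : Prop :=
  ∀ (A' : Type u) [CommRing A'] [IsLocalRing A'] [IsArtinianRing A']
    (h : A →+* A') [IsLocalHom h] (I : Ideal A') (_ : I ≠ ⊤)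
    (_ : I * IsLocalRing.maximalIdeal A' = ⊥) (g₀ : B →+* A' ⧸ I),
    g₀.comp φ = (Ideal.Quotient.mk I).comp h →
    (∀ b ∈ IsLocalRing.maximalIdeal B,
      g₀ b ∈ (IsLocalRing.maximalIdeal A').map (Ideal.Quotient.mk I)) →
    (∀ a' : A', ∃ b : B,
      g₀ b - Ideal.Quotient.mk I a' ∈ (IsLocalRing.maximalIdeal A').map (Ideal.Quotient.mk I)) →
    ∃ g : B →+* A', g.comp φ = h ∧ (Ideal.Quotient.mk I).comp g = g₀

lemma exists_descend' {R P S T : Type*} [CommRing R] [CommRing P] [CommRing S] [CommRing T]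
    [Algebra R P] [Algebra R S] [Algebra R T] [Algebra P S] [IsScalarTower R P S]
    (hsurj : Function.Surjective (algebraMap P S)) (g₀ : P →ₐ[R] T)
    (h : ∀ j, algebraMap P S j = 0 → g₀ j = 0) :
    ∃ g : S →ₐ[R] T, ∀ p, g (algebraMap P S p) = g₀ p := by
  let φ' : P →ₐ[R] S := IsScalarTower.toAlgHom R P S
  have hφ' : Function.Surjective φ' := hsurj
  have hle : RingHom.ker φ'.toRingHom ≤ RingHom.ker g₀.toRingHom := fun j hj => h j hj
  exact ⟨AlgHom.liftOfSurjective φ' hφ' g₀ hle, fun p =>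
    AlgHom.liftOfSurjective_apply φ' hφ' g₀ hle p⟩

theorem artLift_of_formallySmooth {A B : Type u} [CommRing A] [CommRing B] [IsLocalRing B]
    [Algebra A B] [Algebra.FormallySmooth A B] : ArtLift (algebraMap A B) := by
  intro A' _ _ _ h _ I hItop hIm g₀ hcomp _ _
  letI : Algebra A A' := h.toAlgebra
  have hI2 : I ^ 2 = ⊥ := by
    have hle := IsLocalRing.le_maximalIdeal hItop
    have h2 := pow_two I
    rw [h2, eq_bot_iff, ← hIm]
    exact Ideal.mul_mono_right hle
  let g₀' : B →ₐ[A] A' ⧸ I :=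
    { g₀ with
      commutes' := fun a => by
        change g₀ (algebraMap A B a) = _
        exact RingHom.congr_fun hcomp a }
  refine ⟨(Algebra.FormallySmooth.lift I ⟨2, hI2⟩ g₀').toRingHom, ?_, ?_⟩
  · ext a
    exact (Algebra.FormallySmooth.lift I ⟨2, hI2⟩ g₀').commutes a
  · ext b
    exact Algebra.FormallySmooth.mk_lift I ⟨2, hI2⟩ g₀' b

section Lifting

variable {A P S B L : Type u} [CommRing A] [CommRing P] [CommRing S] [CommRing B] [CommRing L]
  [Algebra A P] [Algebra A S] [Algebra P S] [IsScalarTower A P S]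
  [Algebra A B] [Algebra S B] [IsScalarTower A S B]
  [IsLocalRing B] [IsLocalHom (algebraMap A B)]
  (hsurj : Function.Surjective (algebraMap P S))
  (q : Ideal S) [q.IsPrime] [IsLocalization.AtPrime B q]
  (q' : Ideal P) [q'.IsPrime] (hq' : q' = q.comap (algebraMap P S))
  [Algebra P L] [Algebra A L] [IsScalarTower A P L] [IsLocalization.AtPrime L q'] [IsLocalRing L]

include hsurj hq' in
lemma lifting_of_artLift (H : ArtLift (algebraMap A B)) (𝔟 : Ideal L) (t : L) (ht𝔟 : t ∉ 𝔟)
    (hmt : ∀ a ∈ maximalIdeal L, a * t ∈ 𝔟) (hart : IsArtinianRing (L ⧸ 𝔟))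
    (heq : 𝔟 ⊔ (RingHom.ker (algebraMap P S)).map (algebraMap P L) = 𝔟 ⊔ Ideal.span {t}) :
    ∃ ψ : P →ₐ[A] (L ⧸ 𝔟), (∀ j ∈ RingHom.ker (algebraMap P S), ψ j = 0) ∧
      ∀ p, ψ p - Ideal.Quotient.mk 𝔟 (algebraMap P L p) ∈
        Ideal.span {Ideal.Quotient.mk 𝔟 t} := by
  have h𝔟top : 𝔟 ≠ ⊤ := fun h => ht𝔟 (h ▸ Submodule.mem_top)
  haveI := isLocalRing_quotient 𝔟 h𝔟top
  haveI := hart
  have hLmax : ∀ p : P, algebraMap P L p ∈ maximalIdeal L ↔ p ∈ q' := fun p =>
    IsLocalization.AtPrime.to_map_mem_maximal_iff L q' p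
  have hBmax : ∀ s : S, algebraMap S B s ∈ maximalIdeal B ↔ s ∈ q := fun s =>
    IsLocalization.AtPrime.to_map_mem_maximal_iff B q s
  have hJle : (RingHom.ker (algebraMap P S)).map (algebraMap P L) ≤ maximalIdeal L := by
    rw [Ideal.map_le_iff_le_comap]
    intro j hj
    rw [Ideal.mem_comap, hLmax, hq', Ideal.mem_comap, RingHom.mem_ker.mp hj]
    exact Ideal.zero_mem _
  have htmax : t ∈ maximalIdeal L := by
    have : t ∈ 𝔟 ⊔ Ideal.span {t} := Ideal.mem_sup_right (Ideal.mem_span_singleton_self t)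
    rw [← heq] at this
    exact (sup_le (IsLocalRing.le_maximalIdeal h𝔟top) hJle) this
  set I : Ideal (L ⧸ 𝔟) := Ideal.span {Ideal.Quotient.mk 𝔟 t} with hI
  have hImax : I ≤ maximalIdeal (L ⧸ 𝔟) := by
    rw [hI, Ideal.span_le, Set.singleton_subset_iff]
    exact (mk_mem_maximalIdeal_iff 𝔟 h𝔟top t).mpr htmax
  have hItop : I ≠ ⊤ := fun h =>
    (maximalIdeal.isMaximal _).ne_top (top_le_iff.mp (h ▸ hImax))
  have hIm : I * maximalIdeal (L ⧸ 𝔟) = ⊥ := by
    rw [eq_bot_iff, Ideal.mul_le]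
    intro r hr s hs
    obtain ⟨c, rfl⟩ := Ideal.mem_span_singleton'.mp hr
    obtain ⟨s', rfl⟩ := Ideal.Quotient.mk_surjective s
    rw [mk_mem_maximalIdeal_iff 𝔟 h𝔟top] at hs
    have h0 : Ideal.Quotient.mk 𝔟 t * Ideal.Quotient.mk 𝔟 s' = 0 := by
      rw [← map_mul, Ideal.Quotient.eq_zero_iff_mem, mul_comm]
      exact hmt s' hs
    rw [Ideal.mem_bot, mul_assoc, h0, mul_zero]
  -- the local homomorphism `h`
  haveI hloc : IsLocalHom (algebraMap A (L ⧸ 𝔟)) := by
    constructor
    intro a ha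
    by_contra hna
    have h1 : algebraMap A B a ∈ maximalIdeal B := by
      rw [mem_maximalIdeal, mem_nonunits_iff]
      intro hu
      exact hna (isUnit_of_map_unit (algebraMap A B) a hu)
    rw [IsScalarTower.algebraMap_apply A S B, hBmax] at h1
    have h2 : algebraMap A P a ∈ q' := by
      rw [hq', Ideal.mem_comap, ← IsScalarTower.algebraMap_apply]
      exact h1
    have h3 : algebraMap A (L ⧸ 𝔟) a ∈ maximalIdeal (L ⧸ 𝔟) := by
      change Ideal.Quotient.mk 𝔟 (algebraMap A L a) ∈ _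
      rw [mk_mem_maximalIdeal_iff 𝔟 h𝔟top, IsScalarTower.algebraMap_apply A P L, hLmax]
      exact h2
    exact h3 ha
  -- the map `g₀`
  let g₀P : P →ₐ[A] ((L ⧸ 𝔟) ⧸ I) := (Ideal.Quotient.mkₐ A I).comp
    ((Ideal.Quotient.mkₐ A 𝔟).comp (IsScalarTower.toAlgHom A P L))
  have hg₀P : ∀ p, g₀P p = Ideal.Quotient.mk I (Ideal.Quotient.mk 𝔟 (algebraMap P L p)) :=
    fun p => rfl
  have hJI : ∀ j, algebraMap P S j = 0 → Ideal.Quotient.mk 𝔟 (algebraMap P L j) ∈ I := by
    intro j hj
    have hmem : algebraMap P L j ∈ 𝔟 ⊔ Ideal.span {t} := by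
      rw [← heq]
      exact Ideal.mem_sup_right (Ideal.mem_map_of_mem _ (RingHom.mem_ker.mpr hj))
    obtain ⟨b, hb, c, hc, hbc⟩ := Submodule.mem_sup.mp hmem
    obtain ⟨c', rfl⟩ := Ideal.mem_span_singleton'.mp hc
    rw [← hbc, map_add, Ideal.Quotient.eq_zero_iff_mem.mpr hb, zero_add, map_mul]
    exact Ideal.mul_mem_left _ _ (Ideal.subset_span rfl)
  obtain ⟨g₀S, hg₀S⟩ := exists_descend' (R := A) hsurj g₀P (fun j hj => by
    rw [hg₀P, Ideal.Quotient.eq_zero_iff_mem]; exact hJI j hj)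
  have hunits : ∀ y : q.primeCompl, IsUnit (g₀S.toRingHom (y : S)) := by
    intro y
    obtain ⟨p, hp⟩ := hsurj (y : S)
    have hpq : p ∉ q' := by
      rw [hq', Ideal.mem_comap, hp]; exact y.2
    have hu : IsUnit (algebraMap P L p) := by
      by_contra hnu
      exact hpq ((hLmax p).mp hnu)
    change IsUnit (g₀S (y : S))
    rw [← hp, hg₀S, hg₀P]
    exact (hu.map _).map _
  let g₀ : B →+* (L ⧸ 𝔟) ⧸ I := IsLocalization.lift (M := q.primeCompl) hunits
  have hg₀ : ∀ s : S, g₀ (algebraMap S B s) = g₀S s := fun s => IsLocalization.lift_eq hunits s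
  have hcomp : g₀.comp (algebraMap A B) =
      (Ideal.Quotient.mk I).comp (algebraMap A (L ⧸ 𝔟)) := by
    ext a
    rw [RingHom.comp_apply, RingHom.comp_apply, IsScalarTower.algebraMap_apply A S B, hg₀,
      AlgHom.commutes]
    rfl
  have hlocal : ∀ b ∈ maximalIdeal B,
      g₀ b ∈ (maximalIdeal (L ⧸ 𝔟)).map (Ideal.Quotient.mk I) := by
    intro b hb
    obtain ⟨⟨s, u⟩, hsu⟩ := IsLocalization.surj q.primeCompl b
    have hs : s ∈ q := by
      rw [← hBmax, ← hsu]
      exact Ideal.mul_mem_right _ _ hb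
    obtain ⟨p, rfl⟩ := hsurj s
    have hp : p ∈ q' := by rw [hq']; exact hs
    have h1 : g₀ b * g₀ (algebraMap S B u) = g₀S (algebraMap P S p) := by
      rw [← map_mul, hsu, hg₀]
    have hu : IsUnit (g₀ (algebraMap S B (u : S))) := by rw [hg₀]; exact hunits u
    have h2 : g₀S (algebraMap P S p) ∈ (maximalIdeal (L ⧸ 𝔟)).map (Ideal.Quotient.mk I) := by
      rw [hg₀S, hg₀P]
      exact Ideal.mem_map_of_mem _
        ((mk_mem_maximalIdeal_iff 𝔟 h𝔟top _).mpr ((hLmax p).mpr hp))
    rw [← h1] at h2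
    obtain ⟨v, hv⟩ := hu.exists_right_inv
    have h3 : g₀ b = g₀ b * g₀ (algebraMap S B u) * v := by rw [mul_assoc, hv, mul_one]
    rw [h3]
    exact Ideal.mul_mem_right _ _ h2
  have hres : ∀ a' : L ⧸ 𝔟, ∃ b : B, g₀ b - Ideal.Quotient.mk I a' ∈
      (maximalIdeal (L ⧸ 𝔟)).map (Ideal.Quotient.mk I) := by
    intro a'
    obtain ⟨l, rfl⟩ := Ideal.Quotient.mk_surjective a'
    obtain ⟨⟨p, u⟩, hpu⟩ := IsLocalization.surj q'.primeCompl l
    have hu' : algebraMap P S (u : P) ∈ q.primeCompl := by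
      intro hmem
      have hmem' : (u : P) ∈ q.comap (algebraMap P S) := hmem
      rw [← hq'] at hmem'
      exact u.2 hmem'
    refine ⟨IsLocalization.mk' B (algebraMap P S p) ⟨_, hu'⟩, ?_⟩
    have hval : g₀ (IsLocalization.mk' B (algebraMap P S p) ⟨_, hu'⟩) =
        Ideal.Quotient.mk I (Ideal.Quotient.mk 𝔟 l) := by
      have hunit : IsUnit (g₀ (algebraMap S B (algebraMap P S (u : P)))) := by
        rw [hg₀]; exact hunits ⟨_, hu'⟩
      apply hunit.mul_left_inj.mp
      rw [← map_mul, IsLocalization.mk'_spec, hg₀, hg₀, hg₀S, hg₀S, hg₀P, hg₀P, ← map_mul,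
        ← map_mul, hpu]
    rw [hval, sub_self]
    exact Ideal.zero_mem _
  obtain ⟨g, hg1, hg2⟩ := H (L ⧸ 𝔟) (algebraMap A (L ⧸ 𝔟)) I hItop hIm g₀ hcomp hlocal hres
  let ψ : P →ₐ[A] (L ⧸ 𝔟) :=
    { (g.comp (algebraMap S B)).comp (algebraMap P S) with
      commutes' := fun a => by
        change g (algebraMap S B (algebraMap P S (algebraMap A P a))) = _
        rw [← IsScalarTower.algebraMap_apply A P S, ← IsScalarTower.algebraMap_apply A S B]
        exact RingHom.congr_fun hg1 a }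
  have hψ : ∀ p, ψ p = g (algebraMap S B (algebraMap P S p)) := fun p => rfl
  refine ⟨ψ, fun j hj => ?_, fun p => ?_⟩
  · rw [hψ, RingHom.mem_ker.mp hj, map_zero, map_zero]
  · rw [← Ideal.Quotient.eq_zero_iff_mem, map_sub, sub_eq_zero, hψ]
    have h4 := RingHom.congr_fun hg2 (algebraMap S B (algebraMap P S p))
    rw [RingHom.comp_apply] at h4
    rw [h4, hg₀, hg₀S, hg₀P]

end Lifting

theorem formallySmooth_of_artLift {A B : Type u} [CommRing A] [CommRing B] [IsLocalRing A]
    [IsLocalRing B] [IsNoetherianRing A] [Algebra A B] [IsLocalHom (algebraMap A B)]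
    [Algebra.EssFiniteType A B] (H : ArtLift (algebraMap A B)) : Algebra.FormallySmooth A B := by
  let S₀ := Algebra.EssFiniteType.subalgebra A B
  let q : Ideal S₀ := (maximalIdeal B).comap (algebraMap S₀ B)
  haveI : q.IsPrime := Ideal.comap_isPrime _ _
  have hM : Algebra.EssFiniteType.submonoid A B = q.primeCompl := by
    ext x
    simp only [Algebra.EssFiniteType.submonoid, Submonoid.mem_comap, IsUnit.mem_submonoid_iff,
      Ideal.mem_primeCompl_iff, q, Ideal.mem_comap, mem_maximalIdeal, mem_nonunits_iff, not_not]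
    exact Iff.rfl
  haveI : IsLocalization.AtPrime B q := by
    have h0 := Algebra.EssFiniteType.isLocalization (R := A) (S := B)
    rwa [hM] at h0
  obtain ⟨n, φ₀, hφ₀⟩ := Algebra.FiniteType.iff_quotient_mvPolynomial''.mp
    (inferInstance : Algebra.FiniteType A S₀)
  letI : Algebra (MvPolynomial (Fin n) A) S₀ := φ₀.toAlgebra
  haveI : IsScalarTower A (MvPolynomial (Fin n) A) S₀ :=
    IsScalarTower.of_algebraMap_eq' φ₀.comp_algebraMap.symm
  have key : Algebra.FormallySmooth A (Localization.AtPrime q) :=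
    formallySmooth_of_lifting hφ₀ q (fun 𝔟 t ht𝔟 hmt hart heq =>
      lifting_of_artLift (B := B) hφ₀ q (q.comap (algebraMap _ S₀)) rfl H 𝔟 t ht𝔟 hmt hart heq)
  let e : Localization.AtPrime q ≃ₐ[A] B :=
    (IsLocalization.algEquiv q.primeCompl (Localization.AtPrime q) B).restrictScalars A
  exact Algebra.FormallySmooth.of_equiv e

theorem formallySmooth_iff_artLift {A B : Type u} [CommRing A] [CommRing B] [IsLocalRing A]
    [IsLocalRing B] [IsNoetherianRing A] (φ : A →+* B) [IsLocalHom φ] (hφ : φ.EssFiniteType) :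
    φ.FormallySmooth ↔ ArtLift φ := by
  letI : Algebra A B := φ.toAlgebra
  have hφ' : algebraMap A B = φ := RingHom.algebraMap_toAlgebra φ
  haveI : IsLocalHom (algebraMap A B) := by rw [hφ']; infer_instance
  haveI : Algebra.EssFiniteType A B := hφ
  constructor
  · intro h
    haveI : Algebra.FormallySmooth A B := h
    have := artLift_of_formallySmooth (A := A) (B := B)
    rwa [hφ'] at this
  · intro H
    rw [← hφ'] at H
    exact formallySmooth_of_artLift H

end Groth.Agent.LibArtLift29
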