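import Groth.Statements.S4450
import Mathlib
import Groth.Agent.Lib.Helper13.KA6
-- import your own Groth.Agent.* helpers here

set_option autoImplicit false
universe u
open CategoryTheory CategoryTheory.Limits AlgebraicGeometry
open EGA2

namespace Groth.Agent.S4450

/-- Let Y be a locally Noetherian scheme, p : X ⟶ Y a morphism locally of finite type, x a point of X, y
= p(x) and y' a specialization of y distinct from y. Then there are a discrete valuation ring A with
field of fractions the residue field k(x) and a morphism Spec A ⟶ Y mapping the closed point to y'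
and restricting on Spec k(x) to the canonical morphism Spec k(x) ⟶ X ⟶ Y (so the generic point goes
to y, and the rational map from Spec A to X so defined induces the identity of k(x)). -/
theorem result {X Y : Scheme.{u}} [IsLocallyNoetherian Y]
    (p : X ⟶ Y) [LocallyOfFiniteType p] (x : X) (y' : Y) (hsp : p.base x ⤳ y') (hne : y' ≠ p.base x) :
    ∃ (A : ValuationSubring (X.residueField x)) (h : Spec (CommRingCat.of A) ⟶ Y), IsDiscreteValuationRing A ∧
      h.base (IsLocalRing.closedPoint A) = y' ∧
      Spec.map (CommRingCat.ofHom A.subtype) ≫ h = X.fromSpecResidueField x ≫ p := by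
  classical
  -- an affine open neighbourhood of `y'`
  obtain ⟨_, ⟨U, hU : IsAffineOpen U, rfl⟩, hy'U, -⟩ :=
    Y.isBasis_affineOpens.exists_subset_of_mem_open (Set.mem_univ y') isOpen_univ
  have hyU : p.base x ∈ U := hsp.mem_open U.2 hy'U
  have hN : IsNoetherianRing Γ(Y, U) := IsLocallyNoetherian.component_noetherian ⟨U, hU⟩
  -- the ring map `Γ(Y, U) → κ(x)`
  let ψ : Γ(Y, U) ⟶ X.residueField x := Y.evaluation U (p.base x) hyU ≫ p.residueFieldMap x
  let _ : Algebra Γ(Y, U) (X.residueField x) := ψ.hom.toAlgebra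
  let _ : Algebra Γ(Y, U) (Y.presheaf.stalk (p.base x)) :=
    Y.presheaf.algebra_section_stalk ⟨p.base x, hyU⟩
  have hψdef : algebraMap Γ(Y, U) (X.residueField x) = ψ.hom := rfl
  -- essentially of finite type
  have hess : Algebra.EssFiniteType Γ(Y, U) (X.residueField x) := by
    have h1 : ψ = Y.presheaf.germ U (p.base x) hyU ≫ p.stalkMap x ≫ X.residue x := by
      simp only [ψ, Scheme.evaluation, Category.assoc, Scheme.residue_residueFieldMap]
    have e1 : (Y.presheaf.germ U (p.base x) hyU).hom.EssFiniteType := by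
      have := hU.isLocalization_stalk ⟨p.base x, hyU⟩
      have h2 : Algebra.EssFiniteType Γ(Y, U) (Y.presheaf.stalk (p.base x)) :=
        Algebra.EssFiniteType.of_isLocalization _
          (hU.primeIdealOf ⟨p.base x, hyU⟩).asIdeal.primeCompl
      exact h2
    have e2 : (p.stalkMap x).hom.EssFiniteType := LocallyOfFiniteType.stalkMap p x
    have e3 : (X.residue x).hom.EssFiniteType :=
      RingHom.FiniteType.essFiniteType
        (RingHom.FiniteType.of_surjective _ (X.residue_surjective x))
    have : ψ.hom.EssFiniteType := by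
      rw [h1]
      exact (e1.comp e2).comp e3
    exact this
  -- the primes
  let P : Ideal Γ(Y, U) := (hU.primeIdealOf ⟨y', hy'U⟩).asIdeal
  let Q : Ideal Γ(Y, U) := (hU.primeIdealOf ⟨p.base x, hyU⟩).asIdeal
  have hkerQ : RingHom.ker (algebraMap Γ(Y, U) (X.residueField x)) = Q := by
    ext r
    have := hU.isLocalization_stalk ⟨p.base x, hyU⟩
    rw [RingHom.mem_ker, hψdef]
    change (p.residueFieldMap x).hom ((Y.residue (p.base x)).hom
      ((Y.presheaf.germ U (p.base x) hyU).hom r)) = 0 ↔ _
    rw [map_eq_zero_iff _ (p.residueFieldMap x).hom.injective]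
    rw [← IsLocalization.AtPrime.to_map_mem_maximal_iff (Y.presheaf.stalk (p.base x)) Q r]
    exact IsLocalRing.residue_eq_zero_iff _
  have hspec : hU.primeIdealOf ⟨p.base x, hyU⟩ ⤳ hU.primeIdealOf ⟨y', hy'U⟩ := by
    have h1 : (⟨p.base x, hyU⟩ : U) ⤳ ⟨y', hy'U⟩ := (subtype_specializes_iff _ _).mpr hsp
    exact h1.map hU.isoSpec.hom.continuous
  have hQP : Q ≤ P := (PrimeSpectrum.le_iff_specializes _ _).mpr hspec
  have hQneP : Q ≠ P := by
    intro h
    have h1 : hU.primeIdealOf ⟨p.base x, hyU⟩ = hU.primeIdealOf ⟨y', hy'U⟩ := PrimeSpectrum.ext h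
    have h2 := congrArg hU.fromSpec h1
    rw [hU.fromSpec_primeIdealOf, hU.fromSpec_primeIdealOf] at h2
    exact hne h2.symm
  have hPr : ∃ r ∈ P, algebraMap Γ(Y, U) (X.residueField x) r ≠ 0 := by
    obtain ⟨r, hrP, hrQ⟩ := SetLike.exists_of_lt (lt_of_le_of_ne hQP hQneP)
    refine ⟨r, hrP, fun h0 => hrQ ?_⟩
    rw [← hkerQ]
    exact h0
  obtain ⟨O, hO, hmem, hmO⟩ := Groth.Agent.Lib.helper13.KA.exists_dvr_of_essFiniteType
    Γ(Y, U) (X.residueField x) P (hkerQ ▸ hQP) hPr
  let θ : Γ(Y, U) →+* O := ψ.hom.codRestrict O.toSubring hmem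
  refine ⟨O, Spec.map (CommRingCat.ofHom θ) ≫ hU.fromSpec, hO, ?_, ?_⟩
  · rw [Scheme.Hom.comp_apply]
    have h1 : Spec.map (CommRingCat.ofHom θ) (IsLocalRing.closedPoint O) =
        hU.primeIdealOf ⟨y', hy'U⟩ := by
      apply PrimeSpectrum.ext
      ext r
      exact hmO r
    rw [h1, hU.fromSpec_primeIdealOf]
  · rw [← Category.assoc, ← Spec.map_comp]
    have h1 : CommRingCat.ofHom θ ≫ CommRingCat.ofHom O.subtype = ψ := by
      ext r
      rfl
    rw [h1]
    have h2 : Spec.map ψ ≫ hU.fromSpec =
        Spec.map (p.residueFieldMap x) ≫ Y.fromSpecResidueField (p.base x) := by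
      simp only [ψ, Scheme.evaluation, Spec.map_comp, Category.assoc, Scheme.fromSpecResidueField]
      rw [← hU.fromSpecStalk_eq_fromSpecStalk hyU, IsAffineOpen.fromSpecStalk]
    rw [h2, Scheme.Hom.SpecMap_residueFieldMap_fromSpecResidueField]

end Groth.Agent.S4450
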