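import Groth.Statements.S1708
import Mathlib
import Groth.Agent.Lib.Helper16.QCohPush

set_option autoImplicit false
universe u
open CategoryTheory CategoryTheory.Limits AlgebraicGeometry TopologicalSpace
open SDiv

namespace Groth.Agent.S1708

section helpers
open CategoryTheory CategoryTheory.Limits AlgebraicGeometry TopologicalSpace

open Opposite
open Groth.Agent.Lib.helper16.QCohAss Groth.Agent.Lib.helper16.QCohPush

/-- the image of the point of a prime of `Γ(X, f⁻¹V)` -/
theorem map_fromSpec {X S : Scheme.{u}} (f : X ⟶ S) {V : S.Opens} (hV : IsAffineOpen V)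
    (hU : IsAffineOpen (f ⁻¹ᵁ V)) (Q : PrimeSpectrum Γ(X, f ⁻¹ᵁ V)) :
    f (hU.fromSpec Q) = hV.fromSpec (Spec.map (f.app V) Q) := by
  have h := IsAffineOpen.SpecMap_appLE_fromSpec f hV hU le_rfl
  rw [← Scheme.Hom.app_eq_appLE] at h
  have h2 := congrArg (fun g => g Q) h
  simp only [Scheme.Hom.comp_apply] at h2
  exact h2.symm

/-- general form: weakly associated points of a pushforward come from weakly associated points,
over an affine open with affine preimage -/
theorem main_local {X S : Scheme.{u}} (f : X ⟶ S) (F : X.Modules) [F.IsQuasicoherent]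
    {V : S.Opens} (hV : IsAffineOpen V) (hU : IsAffineOpen (f ⁻¹ᵁ V)) (s : S) (hsV : s ∈ V)
    (hs : Curv2.IsWeakAssPoint (push f F) s) :
    ∃ x : ↥X, f x = s ∧ Curv2.IsWeakAssPoint F x := by
  obtain ⟨m, hm⟩ := (isWeakAssPoint_push_iff f F hV hU s hsV).1 hs
  set m' : Γ(F, f ⁻¹ᵁ V) := m with hm'
  have hann : ann Γ(S, V) m = (ann Γ(X, f ⁻¹ᵁ V) m').comap (f.app V).hom := by
    ext a
    rw [Ideal.mem_comap, mem_ann, mem_ann, push_smul]
    exact Iff.rfl
  rw [hann] at hm
  obtain ⟨q, hq, hqp⟩ := Ideal.exists_minimalPrimes_comap_eq (f.app V).hom _ hm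
  haveI := hq.1.1
  set Q : PrimeSpectrum Γ(X, f ⁻¹ᵁ V) := ⟨q, hq.1.1⟩ with hQ
  refine ⟨hU.fromSpec Q, ?_, ?_⟩
  · rw [map_fromSpec f hV hU Q]
    have : Spec.map (f.app V) Q = hV.primeIdealOf ⟨s, hsV⟩ := by
      apply PrimeSpectrum.ext
      exact hqp
    rw [this, hV.fromSpec_primeIdealOf ⟨s, hsV⟩]
  · rw [isWeakAssPoint_iff F hU _ (fromSpec_mem hU Q)]
    refine ⟨m', ?_⟩
    rw [primeIdealOf_fromSpec hU Q]
    exact hq

theorem main {X S : Scheme.{u}} (f : X ⟶ S) [IsAffineHom f] (F : X.Modules) (hF : Coh.IsQCoh F)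
    (s : ↥S) (hs : Curv2.IsWeakAssPoint ((Scheme.Modules.pushforward f).obj F) s) :
    ∃ x : ↥X, f x = s ∧ Curv2.IsWeakAssPoint F x := by
  haveI : F.IsQuasicoherent := hF
  obtain ⟨_, ⟨V, hV, rfl⟩, hsV, -⟩ :=
    S.isBasis_affineOpens.exists_subset_of_mem_open (Set.mem_univ s) isOpen_univ
  exact main_local f F hV (hV.preimage f) s hsV hs


end helpers


/-- Let f : X ⟶ S be an affine morphism and F a quasi-coherent module on X. Then every weakly associated
point of f_* F is the image of a weakly associated point of F. -/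
theorem result {X S : Scheme.{u}} (f : X ⟶ S) [IsAffineHom f] (F : X.Modules) (hF : Coh.IsQCoh F)
    (s : ↥S) (hs : Curv2.IsWeakAssPoint ((Scheme.Modules.pushforward f).obj F) s) :
    ∃ x : ↥X, f x = s ∧ Curv2.IsWeakAssPoint F x := by
  exact main f F hF s hs

end Groth.Agent.S1708
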