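import Groth.Statements.S1580
import Mathlib
import Groth.Agent.Lib.Helper16.QCohPush
import Groth.Agent.S1708

set_option autoImplicit false
universe u
open CategoryTheory CategoryTheory.Limits AlgebraicGeometry
open Divisors

namespace Groth.Agent.S1580

section helpers
open CategoryTheory CategoryTheory.Limits AlgebraicGeometry TopologicalSpace

open Opposite
open Groth.Agent.Lib.helper7 Groth.Agent.Lib.helper28
open Groth.Agent.Lib.helper16.QCohAss Groth.Agent.Lib.helper16.QCohPush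

/-- abstract data: `g` is compatible with scalars and its kernel is `p`-torsion -/
structure PreLocData (A : Type*) [CommRing A] (p : Ideal A) [p.IsPrime] (R : Type*) [CommRing R]
    [IsLocalRing R] [Algebra A R] (M : Type*) [AddCommGroup M] [Module A M] (N : Type*)
    [AddCommGroup N] [Module R N] (g : M →+ N) : Prop where
  smul : ∀ (a : A) (m : M), g (a • m) = algebraMap A R a • g m
  ker : ∀ m : M, g m = 0 → ∃ a : A, a ∉ p ∧ a • m = 0

section

variable {A : Type*} [CommRing A] {p : Ideal A} [p.IsPrime] {R : Type*} [CommRing R]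
    [IsLocalRing R] [Algebra A R] [IsLocalization.AtPrime R p]
    {M : Type*} [AddCommGroup M] [Module A M] {N : Type*}
    [AddCommGroup N] [Module R N] {g : M →+ N}

theorem PreLocData.map_eq_zero_iff (h : PreLocData A p R M N g) (m : M) :
    g m = 0 ↔ ∃ a : A, a ∉ p ∧ a • m = 0 := by
  refine ⟨h.ker m, ?_⟩
  rintro ⟨a, ha, ham⟩
  have := h.smul a m
  rw [ham, map_zero] at this
  exact ((isUnit_of_notMem (R := R) ha).smul_eq_zero).1 this.symm

theorem PreLocData.ann_le (h : PreLocData A p R M N g) (m : M) (hm : g m ≠ 0) : ann A m ≤ p := by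
  intro a ha
  by_contra hap
  exact hm ((h.map_eq_zero_iff m).2 ⟨a, hap, mem_ann.1 ha⟩)

theorem PreLocData.mem_ann_map_iff (h : PreLocData A p R M N g) (m : M) (a : A) :
    algebraMap A R a ∈ ann R (g m) ↔ ∃ c : A, c ∉ p ∧ (c * a) • m = 0 := by
  rw [mem_ann, ← h.smul, h.map_eq_zero_iff]
  constructor
  · rintro ⟨c, hc, hcm⟩
    exact ⟨c, hc, by rw [mul_smul]; exact hcm⟩
  · rintro ⟨c, hc, hcm⟩
    exact ⟨c, hc, by rw [← mul_smul]; exact hcm⟩

theorem PreLocData.minimal_of_radical_ann (h : PreLocData A p R M N g) (m : M)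
    (hr : (ann R (g m)).radical = IsLocalRing.maximalIdeal R) :
    p ∈ (ann A m).minimalPrimes := by
  have hne : g m ≠ 0 := by
    intro h0
    have : (1 : R) ∈ (ann R (g m)).radical := Ideal.le_radical (by rw [mem_ann, h0, smul_zero])
    rw [hr] at this
    exact (IsLocalRing.maximalIdeal.isMaximal R).ne_top ((Ideal.eq_top_iff_one _).2 this)
  refine ⟨⟨inferInstance, h.ann_le m hne⟩, ?_⟩
  rintro q ⟨hq, hmq⟩ hqp b hb
  have hb' : algebraMap A R b ∈ (ann R (g m)).radical := by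
    rw [hr, mem_maximalIdeal_iff (p := p)]; exact hb
  obtain ⟨k, hk⟩ := hb'
  rw [← map_pow, h.mem_ann_map_iff] at hk
  obtain ⟨c, hc, hcm⟩ := hk
  have : c * b ^ k ∈ q := hmq (mem_ann.2 hcm)
  rcases hq.mem_or_mem this with h1 | h1
  · exact absurd (hqp h1) hc
  · exact hq.mem_of_pow_mem k h1

end

variable {X S : Scheme.{u}} (f : X ⟶ S) (F : X.Modules)

/-- kernel of the germ map of a pushforward: quasi-compact preimage suffices -/
theorem ker_germ_push' [F.IsQuasicoherent] {V : S.Opens} (hV : IsAffineOpen V)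
    (hU : IsCompact (f ⁻¹ᵁ V : X.Opens).1) (s : S) (hs : s ∈ V)
    (m : Γ(push f F, V))
    (h : ((push f F).presheaf.germ V s hs).hom m = 0) :
    ∃ a : Γ(S, V), a ∉ (hV.primeIdealOf ⟨s, hs⟩).asIdeal ∧ a • m = 0 := by
  have h0 : ((push f F).presheaf.germ V s hs).hom m = ((push f F).presheaf.germ V s hs).hom 0 := by
    rw [h, map_zero]
  obtain ⟨W, hsW, iU, iV, e⟩ := TopCat.Presheaf.germ_eq (push f F).presheaf s hs hs m 0 h0
  rw [map_zero] at e
  obtain ⟨a, haW, hsa⟩ := hV.exists_basicOpen_le (V := W) ⟨s, hsW⟩ hs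
  have h1 : ((push f F).presheaf.map (homOfLE (S.basicOpen_le a)).op).hom m = 0 := by
    have : ((push f F).presheaf.map (homOfLE haW).op).hom (((push f F).presheaf.map iU.op).hom m)
        = 0 := by
      have e' : ((push f F).presheaf.map iU.op).hom m = 0 := e
      rw [e', map_zero]
    rw [← this]
    exact (map_map (push f F) iU.le haW m).symm
  have heq : f ⁻¹ᵁ S.basicOpen a = X.basicOpen ((f.app V).hom a) := Scheme.preimage_basicOpen f a
  have h2 : (F.presheaf.map (homOfLE (X.basicOpen_le ((f.app V).hom a))).op).hom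
      (show Γ(F, f ⁻¹ᵁ V) from m) = 0 := by
    have h1' : (F.presheaf.map (homOfLE (preimage_mono f (S.basicOpen_le a))).op).hom
        (show Γ(F, f ⁻¹ᵁ V) from m) = 0 := h1
    have := map_map F (preimage_mono f (S.basicOpen_le a)) heq.ge (show Γ(F, f ⁻¹ᵁ V) from m)
    have h3 : (F.presheaf.map (homOfLE (X.basicOpen_le ((f.app V).hom a))).op).hom
        (show Γ(F, f ⁻¹ᵁ V) from m) = (F.presheaf.map (homOfLE heq.ge).op).hom
          ((F.presheaf.map (homOfLE (preimage_mono f (S.basicOpen_le a))).op).hom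
            (show Γ(F, f ⁻¹ᵁ V) from m)) := this.symm
    rw [h3, h1', map_zero]
  obtain ⟨n, hn⟩ := exists_pow_smul_eq_zero_of_isCompact F hU ((f.app V).hom a)
    (show Γ(F, f ⁻¹ᵁ V) from m) h2
  refine ⟨a ^ n, ?_, ?_⟩
  · intro hmem
    have hp : (hV.primeIdealOf ⟨s, hs⟩).asIdeal.IsPrime := inferInstance
    exact (mem_basicOpen_iff hV s hs a).1 hsa (hp.mem_of_pow_mem n hmem)
  · rw [push_smul, map_pow]
    exact hn

theorem preLocData_push [F.IsQuasicoherent] {V : S.Opens} (hV : IsAffineOpen V)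
    (hU : IsCompact (f ⁻¹ᵁ V : X.Opens).1) (s : S) (hs : s ∈ V) :
    letI := TopCat.Presheaf.algebra_section_stalk S.presheaf (⟨s, hs⟩ : V)
    PreLocData Γ(S, V) (hV.primeIdealOf ⟨s, hs⟩).asIdeal (S.presheaf.stalk s) Γ(push f F, V)
      ((push f F).presheaf.stalk s) ((push f F).presheaf.germ V s hs).hom := by
  letI := TopCat.Presheaf.algebra_section_stalk S.presheaf (⟨s, hs⟩ : V)
  exact ⟨fun a m => germ_smul' (push f F) V s hs a m, fun m h => ker_germ_push' f F hV hU s hs m h⟩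

/-- the ring map `Γ(S,V) → Γ(X,W)` for `W ≤ f⁻¹V` -/
noncomputable def psi {V : S.Opens} {W : X.Opens} (h : W ≤ f ⁻¹ᵁ V) : Γ(S, V) →+* Γ(X, W) :=
  (X.presheaf.map (homOfLE h).op).hom.comp (f.app V).hom

theorem map_fromSpec' {V : S.Opens} (hV : IsAffineOpen V) {W : X.Opens} (hW : IsAffineOpen W)
    (h : W ≤ f ⁻¹ᵁ V) (Q : PrimeSpectrum Γ(X, W)) :
    f (hW.fromSpec Q) = hV.fromSpec ⟨Q.asIdeal.comap (psi f h), Ideal.comap_isPrime _ _⟩ := by
  have h1 := IsAffineOpen.SpecMap_appLE_fromSpec f hV hW h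
  have h2 := congrArg (fun g => g Q) h1
  simp only [Scheme.Hom.comp_apply] at h2
  rw [← h2]
  congr 1

theorem main_aux [F.IsQuasicoherent] {V : S.Opens} (hV : IsAffineOpen V)
    (hU : IsCompact (f ⁻¹ᵁ V : X.Opens).1) (s : S) (hs : s ∈ V) (m' : Γ(F, f ⁻¹ᵁ V))
    (hm : (hV.primeIdealOf ⟨s, hs⟩).asIdeal ∈
      ((ann Γ(X, f ⁻¹ᵁ V) m').comap (f.app V).hom).minimalPrimes) :
    s ∈ Set.range f := by
  classical
  obtain ⟨T, hT, e⟩ := isCompact_and_isOpen_iff_finite_and_eq_biUnion_affineOpens.mp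
    ⟨hU, (f ⁻¹ᵁ V).2⟩
  have hle : ∀ W ∈ T, (W : X.Opens) ≤ f ⁻¹ᵁ V := by
    intro W hW x hx
    have : x ∈ ⋃ i ∈ T, ((i : X.Opens) : Set X) := Set.mem_biUnion hW hx
    rw [← e] at this
    exact this
  -- the ideals
  let J : X.affineOpens → Ideal Γ(S, V) := fun W =>
    if h : (W : X.Opens) ≤ f ⁻¹ᵁ V then
      (ann Γ(X, W) ((F.presheaf.map (homOfLE h).op).hom m')).comap (psi f h) else ⊤
  have hJ : ∀ (W : X.affineOpens) (h : (W : X.Opens) ≤ f ⁻¹ᵁ V), J W =
      (ann Γ(X, W) ((F.presheaf.map (homOfLE h).op).hom m')).comap (psi f h) := by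
    intro W h
    simp only [J, dif_pos h]
  have hann : (ann Γ(X, f ⁻¹ᵁ V) m').comap (f.app V).hom = hT.toFinset.inf J := by
    ext a
    rw [Submodule.mem_finsetInf, Ideal.mem_comap, mem_ann]
    constructor
    · intro ha W hW
      rw [Set.Finite.mem_toFinset] at hW
      rw [hJ W (hle W hW), Ideal.mem_comap, mem_ann]
      have := congrArg (F.presheaf.map (homOfLE (hle W hW)).op).hom ha
      rw [Scheme.Modules.map_smul, map_zero] at this
      exact this
    · intro ha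
      apply section_eq_zero_of_germ_eq_zero F (f ⁻¹ᵁ V)
      intro x hx
      have hx' : x ∈ ⋃ i ∈ T, ((i : X.Opens) : Set X) := by rw [← e]; exact hx
      simp only [Set.mem_iUnion] at hx'
      obtain ⟨W, hW, hxW⟩ := hx'
      have h1 := ha W (by rw [Set.Finite.mem_toFinset]; exact hW)
      rw [hJ W (hle W hW), Ideal.mem_comap, mem_ann] at h1
      have h2 : (F.presheaf.map (homOfLE (hle W hW)).op).hom ((f.app V).hom a • m') = 0 := by
        rw [Scheme.Modules.map_smul]; exact h1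
      rw [← TopCat.Presheaf.germ_res_apply F.presheaf (homOfLE (hle W hW)) x hxW]
      have h2' : (F.presheaf.map (homOfLE (hle W hW)).op) ((f.app V).hom a • m') = 0 := h2
      rw [h2', map_zero]
  haveI hpp : (hV.primeIdealOf ⟨s, hs⟩).asIdeal.IsPrime := inferInstance
  have h1 : hT.toFinset.inf J ≤ (hV.primeIdealOf ⟨s, hs⟩).asIdeal := hann ▸ hm.1.2
  obtain ⟨W, hW, hJW⟩ := (Ideal.IsPrime.inf_le' hpp).1 h1
  rw [Set.Finite.mem_toFinset] at hW
  have hmin : (hV.primeIdealOf ⟨s, hs⟩).asIdeal ∈ (J W).minimalPrimes := by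
    refine ⟨⟨hpp, hJW⟩, ?_⟩
    rintro q ⟨hq, hJq⟩ hqp
    apply hm.2 ⟨hq, ?_⟩ hqp
    rw [hann]
    exact (Finset.inf_le (by rw [Set.Finite.mem_toFinset]; exact hW)).trans hJq
  rw [hJ W (hle W hW)] at hmin
  obtain ⟨q, hq, hqp⟩ := Ideal.exists_minimalPrimes_comap_eq (psi f (hle W hW)) _ hmin
  haveI := hq.1.1
  refine ⟨W.2.fromSpec ⟨q, hq.1.1⟩, ?_⟩
  rw [map_fromSpec' f hV W.2 (hle W hW)]
  have : (⟨Ideal.comap (psi f (hle W hW)) q, Ideal.comap_isPrime _ _⟩ : PrimeSpectrum Γ(S, V)) =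
      hV.primeIdealOf ⟨s, hs⟩ := PrimeSpectrum.ext hqp
  rw [this, hV.fromSpec_primeIdealOf ⟨s, hs⟩]

theorem main {X S : Scheme.{u}} (f : X ⟶ S) [QuasiCompact f]
    (F : X.Modules) (hF : Coh.IsQCoh F) (s : S) (hs : s ∉ Set.range f.base) :
    ¬ Curv2.IsWeakAssPoint ((Coh.push f).obj F) s := by
  haveI : F.IsQuasicoherent := hF
  rintro ⟨n, hn⟩
  obtain ⟨W, hsW, t, rfl⟩ := (push f F).presheaf.exists_germ_eq n
  obtain ⟨_, ⟨V, hV, rfl⟩, hsV, hVW⟩ :=
    S.isBasis_affineOpens.exists_subset_of_mem_open (show s ∈ (W : Set S) from hsW) W.2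
  have hVW' : V ≤ W := hVW
  set m : Γ(push f F, V) := ((push f F).presheaf.map (homOfLE hVW').op).hom t with hm
  have hgm : ((push f F).presheaf.germ V s hsV).hom m = ((push f F).presheaf.germ W s hsW).hom t :=
    TopCat.Presheaf.germ_res_apply (push f F).presheaf (homOfLE hVW') s hsV t
  have hU : IsCompact (f ⁻¹ᵁ V : X.Opens).1 := f.isCompact_preimage hV.isCompact
  letI := TopCat.Presheaf.algebra_section_stalk S.presheaf (⟨s, hsV⟩ : V)
  haveI : IsLocalization.AtPrime (S.presheaf.stalk s) (hV.primeIdealOf ⟨s, hsV⟩).asIdeal :=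
    hV.isLocalization_stalk ⟨s, hsV⟩
  have hmin := (preLocData_push f F hV hU s hsV).minimal_of_radical_ann m (by rw [hgm]; exact hn)
  have hann : ann Γ(S, V) m =
      (ann Γ(X, f ⁻¹ᵁ V) (show Γ(F, f ⁻¹ᵁ V) from m)).comap (f.app V).hom := by
    ext a
    rw [Ideal.mem_comap, mem_ann, mem_ann, push_smul]
    exact Iff.rfl
  rw [hann] at hmin
  exact hs (main_aux f F hV hU s hsV _ hmin)


end helpers


/-- Let f : X → S be quasi-compact and quasi-separated and F quasi-coherent on X. A point of S not in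
the image of f is not weakly associated to f_* F. -/
theorem result {X S : Scheme.{u}} (f : X ⟶ S) [QuasiCompact f] [QuasiSeparated f]
    (F : X.Modules) (hF : Coh.IsQCoh F) (s : S) (hs : s ∉ Set.range f.base) :
    ¬ Curv2.IsWeakAssPoint ((Coh.push f).obj F) s := by
  exact main f F hF s hs

end Groth.Agent.S1580
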