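import Groth.Statements.S0046
import Mathlib
import Groth.Agent.Lib.Helper16.CohFinite
import Groth.Agent.S2542

set_option autoImplicit false
universe u
open Coherent

namespace Groth.Agent.S0046

section helpers
open CategoryTheory CategoryTheory.Limits AlgebraicGeometry TopologicalSpace

open Opposite
open Groth.Agent.Lib.helper16.CohFinite

theorem main (X : Scheme.{u}) [IsLocallyNoetherian X]
    (M N : X.Modules) (i : N ⟶ M) [Mono i] (hM : Coh.IsCoh M) (hN : Coh.IsQCoh N) : Coh.IsCoh N := by
  haveI : N.IsQuasicoherent := hN
  refine isCoh_of_finite_sections N (fun U : X.affineOpens => U.1) (fun U => U.2)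
    (iSup_affineOpens_eq_top X) (fun U => ?_)
  haveI : IsNoetherianRing Γ(X, U.1) := IsLocallyNoetherian.component_noetherian U
  haveI : Module.Finite Γ(X, U.1) Γ(M, U.1) := finite_sections_of_isCoh M hM U.2
  let l : Γ(N, U.1) →ₗ[Γ(X, U.1)] Γ(M, U.1) :=
    { toFun := (i.app U.1).hom, map_add' := map_add _, map_smul' := fun r m => i.app_smul r m }
  exact Module.Finite.of_injective l (Groth.Agent.S2542.injective_app_of_mono i U.1)


end helpers


open AlgebraicGeometry CategoryTheory in
/-- On a locally Noetherian scheme, a quasi-coherent submodule of a coherent module is coherent. (The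
statement about quotients is omitted.) -/
theorem result (X : Scheme.{u}) [IsLocallyNoetherian X]
    (M N : X.Modules) (i : N ⟶ M) [Mono i] (hM : Coh.IsCoh M) (hN : Coh.IsQCoh N) : Coh.IsCoh N := by
  exact main X M N i hM hN

end Groth.Agent.S0046
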