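import Groth.Statements.S9497
import Mathlib
-- import your own Groth.Agent.* helpers here

set_option autoImplicit false
universe u
open AffSch

namespace Groth.Agent.S9497

open AlgebraicGeometry CategoryTheory Limits in
theorem isIso_counit (R : CommRingCat.{u}) (M : (Spec R).Modules) [M.IsQuasicoherent] :
    IsIso ((tilde.adjunction (R := R)).counit.app M) := by
  have : IsIso (Scheme.Modules.fromTildeΓ M) := inferInstance
  exact this

open AlgebraicGeometry CategoryTheory Limits in
theorem colim (R : CommRingCat.{u}) {J : Type u} [SmallCategory J]
    (F : J ⥤ (Spec R).Modules) (hF : ∀ j, (F.obj j).IsQuasicoherent) :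
    (colimit F).IsQuasicoherent := by
  let G : J ⥤ ModuleCat.{u} R := F ⋙ moduleSpecΓFunctor (R := R)
  have hiso : ∀ j, IsIso ((tilde.adjunction (R := R)).counit.app (F.obj j)) := fun j => by
    have := hF j
    exact isIso_counit R (F.obj j)
  let α : G ⋙ tilde.functor R ≅ F :=
    NatIso.ofComponents (fun j => asIso ((tilde.adjunction (R := R)).counit.app (F.obj j)))
      (fun f => (tilde.adjunction (R := R)).counit.naturality (F.map f))
  let e : colimit F ≅ (tilde.functor R).obj (colimit G) :=
    (HasColimit.isoOfNatIso α).symm ≪≫ (preservesColimitIso (tilde.functor R) G).symm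
  exact (SheafOfModules.isQuasicoherent (Spec R).ringCatSheaf).prop_of_iso e.symm
    (inferInstanceAs ((tilde.functor R).obj (colimit G)).IsQuasicoherent)


open AlgebraicGeometry in
open CategoryTheory Limits in
/-- Let X = Spec A be an affine scheme and F : J → Mod(O_X) a small diagram of quasi-coherent
O_X-modules. Then the colimit of F, computed in the category of all O_X-modules, is quasi-coherent
(this contains the case of arbitrary direct sums). -/
theorem result
    (A : Type u) [CommRing A] {J : Type u} [SmallCategory J]
    (F : J ⥤ (Spec (CommRingCat.of A)).Modules) (hF : ∀ j, Coh.IsQCoh (F.obj j)) :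
    Coh.IsQCoh (colimit F) := by
  exact colim (CommRingCat.of A) F hF

end Groth.Agent.S9497
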