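import Groth.Statements.S9498
import Mathlib
-- import your own Groth.Agent.* helpers here

set_option autoImplicit false
universe u
open AffSch

namespace Groth.Agent.S9498

open AlgebraicGeometry CategoryTheory Limits in
/-- `M ↦ M~` preserves monomorphisms (localization is exact, checked pointwise). -/
theorem mono_tilde_map {R : CommRingCat.{u}} {M N : ModuleCat.{u} R} (f : M ⟶ N)
    (hf : Function.Injective f.hom) : Mono (tilde.map f) := by
  let G := SheafOfModules.toSheaf (Spec R).ringCatSheaf ⋙ sheafToPresheaf _ _
  have : G.Faithful := inferInstance
  apply G.mono_of_mono_map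
  rw [NatTrans.mono_iff_mono_app]
  intro U
  rw [AddCommGrpCat.mono_iff_injective]
  intro s t hst
  apply Subtype.ext
  funext y
  have := congrArg (fun z => z.1 y) hst
  exact LocalizedModule.map_injective _ _ hf this

open AlgebraicGeometry CategoryTheory Limits in
theorem preservesFiniteColimits_tilde (R : CommRingCat.{u}) :
    PreservesFiniteColimits (tilde.functor R) := inferInstance

open AlgebraicGeometry CategoryTheory Limits in
theorem preservesFiniteLimits_tilde (R : CommRingCat.{u}) :
    PreservesFiniteLimits (tilde.functor R) := by
  have hcolim : PreservesFiniteColimits (tilde.functor R) := inferInstance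
  have h := (Functor.preservesFiniteLimits_tfae (tilde.functor R)).out 0 3
  rw [← h]
  intro S hS
  have h3 := (Functor.preservesFiniteColimits_tfae (tilde.functor R)).out 3 0
  have h2 := h3.mp hcolim S hS
  have hmono : Mono S.f := hS.mono_f
  exact ⟨h2.1, mono_tilde_map S.f ((ModuleCat.mono_iff_injective _).mp hmono)⟩


open AlgebraicGeometry in
open CategoryTheory Limits in
/-- For a commutative ring A, the functor M ↦ M~ from the category of A-modules to the category of
O-modules on Spec A is exact, i.e. it preserves finite limits and finite colimits. -/
theorem result
    (A : Type u) [CommRing A] :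
    PreservesFiniteLimits (tilde.functor (CommRingCat.of A)) ∧
      PreservesFiniteColimits (tilde.functor (CommRingCat.of A)) := by
  exact ⟨preservesFiniteLimits_tilde _, preservesFiniteColimits_tilde _⟩

end Groth.Agent.S9498
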