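import Groth.Statements.S9496
import Mathlib
import Groth.Agent.S9497
import Groth.Agent.S9498
-- import your own Groth.Agent.* helpers here

set_option autoImplicit false
universe u
open AffSch

namespace Groth.Agent.S9496

open AlgebraicGeometry CategoryTheory Limits in
theorem kercoker (R : CommRingCat.{u}) {M N : (Spec R).Modules}
    [M.IsQuasicoherent] [N.IsQuasicoherent] (φ : M ⟶ N) :
    (kernel φ).IsQuasicoherent ∧ (cokernel φ).IsQuasicoherent := by
  let ψ : (moduleSpecΓFunctor (R := R)).obj M ⟶ (moduleSpecΓFunctor (R := R)).obj N :=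
    (moduleSpecΓFunctor (R := R)).map φ
  have hM := Groth.Agent.S9497.isIso_counit R M
  have hN := Groth.Agent.S9497.isIso_counit R N
  let eM := asIso ((tilde.adjunction (R := R)).counit.app M)
  let eN := asIso ((tilde.adjunction (R := R)).counit.app N)
  have hcomm : (tilde.functor R).map ψ ≫ eN.hom = eM.hom ≫ φ :=
    (tilde.adjunction (R := R)).counit.naturality φ
  have := Groth.Agent.S9498.preservesFiniteLimits_tilde R
  have := Groth.Agent.S9498.preservesFiniteColimits_tilde R
  constructor
  · let e1 : kernel ((tilde.functor R).map ψ) ≅ kernel φ := kernel.mapIso _ _ eM eN hcomm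
    let e2 : (tilde.functor R).obj (kernel ψ) ≅ kernel ((tilde.functor R).map ψ) :=
      PreservesKernel.iso (tilde.functor R) ψ
    exact (SheafOfModules.isQuasicoherent (Spec R).ringCatSheaf).prop_of_iso (e2 ≪≫ e1)
      (inferInstanceAs ((tilde.functor R).obj (kernel ψ)).IsQuasicoherent)
  · let e1 : cokernel ((tilde.functor R).map ψ) ≅ cokernel φ := cokernel.mapIso _ _ eM eN hcomm
    let e2 : (tilde.functor R).obj (cokernel ψ) ≅ cokernel ((tilde.functor R).map ψ) :=
      PreservesCokernel.iso (tilde.functor R) ψ
    exact (SheafOfModules.isQuasicoherent (Spec R).ringCatSheaf).prop_of_iso (e2 ≪≫ e1)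
      (inferInstanceAs ((tilde.functor R).obj (cokernel ψ)).IsQuasicoherent)


open AlgebraicGeometry in
open CategoryTheory Limits in
/-- Let X = Spec A be an affine scheme and φ : M → N a morphism of quasi-coherent O_X-modules. Then the
kernel and the cokernel of φ, computed in the category of all O_X-modules, are quasi-coherent. -/
theorem result
    (A : Type u) [CommRing A] {M N : (Spec (CommRingCat.of A)).Modules}
    [Coh.IsQCoh M] [Coh.IsQCoh N] (φ : M ⟶ N) :
    Coh.IsQCoh (kernel φ) ∧ Coh.IsQCoh (cokernel φ) := by
  exact kercoker (CommRingCat.of A) φ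

end Groth.Agent.S9496
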