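import Groth.Statements.S2350
import Groth.Agent.Lib.Helper11.GenLocus

set_option autoImplicit false
universe u
open CategoryTheory CategoryTheory.Limits AlgebraicGeometry
open EGA2

namespace Groth.Agent.S2350

/-- Let X be a scheme, L an invertible O_X-module and s a global section of L. Then the inclusion of the
open X_s (where s generates L) into X is an affine morphism. -/
theorem result (X : Scheme.{u}) (L : X.Modules) (hL : PicF.IsInvertible L) (s : Coh.structureModule X ⟶ L) :
    IsAffineHom (CohB1.genLocus L s).ι := by
  apply isAffineHom_of_forall_exists_isAffineOpen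
  intro x
  obtain ⟨U, hU, hxU, -, hT⟩ :=
    Groth.Agent.Lib.helper11.InvMod.exists_affine_isTrivOn hL x ⊤ trivial
  refine ⟨U, hxU, hU, ?_⟩
  obtain ⟨f, hf⟩ := Groth.Agent.Lib.helper11.GenLocus.exists_genLocus_inf_eq_basicOpen s hT
  rw [← Scheme.Hom.isAffineOpen_iff_of_isOpenImmersion (CohB1.genLocus L s).ι,
    Scheme.Hom.image_preimage_eq_opensRange_inf, Scheme.Opens.opensRange_ι, hf]
  exact hU.basicOpen f

end Groth.Agent.S2350
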