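import Groth.Statements.S7390
import Groth.Agent.S2350

set_option autoImplicit false
universe u
open CategoryTheory AlgebraicGeometry
open Mor

namespace Groth.Agent.S7390

/-- Let `X` be a scheme such that every point lies in some affine open `X_s`, the locus where a global
section `s` generates an invertible `O_X`-module `L` (both depending on the point). Then the
diagonal of `X` is an affine morphism. -/
theorem result (X : Scheme.{u})
    (h : ∀ x : X, ∃ (L : X.Modules) (s : Coh.structureModule X ⟶ L), PicF.IsInvertible L ∧
      x ∈ CohB1.genLocus L s ∧ IsAffineOpen (CohB1.genLocus L s)) :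
    IsAffineHom (Limits.pullback.diagonal (Limits.terminal.from X)) := by
  choose L s hL hx hA using h
  have hcov : TopologicalSpace.IsOpenCover fun x : X => CohB1.genLocus (L x) (s x) := by
    refine TopologicalSpace.IsOpenCover.mk (top_le_iff.mp ?_)
    intro x _
    exact TopologicalSpace.Opens.mem_iSup.mpr ⟨x, hx x⟩
  let 𝒰 : X.OpenCover := X.openCoverOfIsOpenCover _ hcov
  have hAff : ∀ i, IsAffine (𝒰.X i) := fun i => hA i
  have hAffHom : ∀ i, IsAffineHom (𝒰.f i) := fun i =>
    Groth.Agent.S2350.result X (L i) (hL i) (s i)
  have key : AffineTargetMorphismProperty.diagonal (fun X _ _ _ ↦ IsAffine X)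
      (Limits.terminal.from X) := by
    have hloc : AffineTargetMorphismProperty.IsLocal (fun X _ _ _ ↦ IsAffine X) :=
      HasAffineProperty.isLocal_affineProperty @IsAffineHom
    refine AffineTargetMorphismProperty.diagonal_of_openCover_source (Limits.terminal.from X) 𝒰 ?_
    intro i j
    change IsAffine (Limits.pullback (𝒰.f i) (𝒰.f j))
    have : IsAffineHom (Limits.pullback.snd (𝒰.f i) (𝒰.f j)) := inferInstance
    exact isAffine_of_isAffineHom (Limits.pullback.snd (𝒰.f i) (𝒰.f j))
  exact (HasAffineProperty.diagonal_iff @IsAffineHom).mp key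

end Groth.Agent.S7390
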