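import Groth.Statements.S11268
import Mathlib
-- import your own Groth.Agent.* helpers here

set_option autoImplicit false
open W4bk4grassmannian

namespace Groth.Agent.S11268

theorem val_le_of_strictMono {d n : ℕ} (a : Fin d → Fin n) (ha : StrictMono a) :
    ∀ t : Fin d, t.val ≤ (a t).val := by
  intro t
  obtain ⟨t, ht⟩ := t
  induction t with
  | zero => exact Nat.zero_le _
  | succ m ih =>
    have h1 := ih (by omega)
    have h2 : a ⟨m, by omega⟩ < a ⟨m + 1, ht⟩ := ha (by simp [Fin.lt_def])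
    have h3 : (a ⟨m, by omega⟩).val < (a ⟨m + 1, ht⟩).val := h2
    simp only at h1 ⊢
    omega


open W4bk4grassmannian in
/-- Let τ < w in I(d,n), the strictly increasing maps Fin d → Fin n ordered entrywise. Then there is a
Schubert divisor φ of w, i.e. φ < w with Σ_t (φ_t - t) + 1 = Σ_t (w_t - t), such that τ ≤ φ: every
proper Schubert subvariety of X(w) lies in a Schubert divisor of X(w). -/
theorem result (d n : ℕ) (τ w : Idx d n) (h : τ < w) :
    ∃ φ ∈ divisors w, τ ≤ φ := by
  classical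
  obtain ⟨hle, hnle⟩ := lt_iff_le_not_ge.mp h
  have hle' : ∀ t, τ.1 t ≤ w.1 t := hle
  have hex : ∃ t, τ.1 t < w.1 t := by
    by_contra hcon
    push_neg at hcon
    exact hnle (fun t => hcon t)
  -- least such t
  obtain ⟨t₀, ht₀, hmin⟩ : ∃ t₀, τ.1 t₀ < w.1 t₀ ∧ ∀ s, s < t₀ → ¬ τ.1 s < w.1 s := by
    obtain ⟨t, ht⟩ := hex
    let S := Finset.univ.filter (fun t : Fin d => τ.1 t < w.1 t)
    have hS : S.Nonempty := ⟨t, by simp [S, ht]⟩
    refine ⟨S.min' hS, (Finset.mem_filter.mp (S.min'_mem hS)).2, fun s hs hlt => ?_⟩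
    exact absurd (S.min'_le s (by simp [S, hlt])) (not_le.mpr hs)
  have hτs := val_le_of_strictMono τ.1 τ.2
  have hws := val_le_of_strictMono w.1 w.2
  have hlt₀ : (τ.1 t₀).val < (w.1 t₀).val := ht₀
  have hwn : (w.1 t₀).val < n := (w.1 t₀).isLt
  -- equal below t₀
  have heq : ∀ s, s < t₀ → w.1 s = τ.1 s := by
    intro s hs
    exact le_antisymm (not_lt.mp (hmin s hs)) (hle' s)
  -- the divisor
  let φf : Fin d → Fin n := fun t => if t = t₀ then ⟨(w.1 t₀).val - 1, by omega⟩ else w.1 t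
  have hφ_t₀ : (φf t₀).val = (w.1 t₀).val - 1 := by simp [φf]
  have hφ_ne : ∀ t, t ≠ t₀ → φf t = w.1 t := by intro t ht; simp [φf, ht]
  have hφmono : StrictMono φf := by
    intro s t hst
    by_cases hs : s = t₀
    · subst hs
      have htne : t ≠ s := ne_of_gt hst
      rw [hφ_ne t htne, Fin.lt_def, hφ_t₀]
      have : (w.1 s).val < (w.1 t).val := w.2 hst
      omega
    · by_cases ht : t = t₀
      · subst ht
        rw [hφ_ne s hs, Fin.lt_def, hφ_t₀, heq s hst]
        have : (τ.1 s).val < (τ.1 t).val := τ.2 hst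
        omega
      · rw [hφ_ne s hs, hφ_ne t ht]
        exact w.2 hst
  let φ : Idx d n := ⟨φf, hφmono⟩
  have hφle : φ ≤ w := by
    intro t
    show φf t ≤ w.1 t
    by_cases ht : t = t₀
    · subst ht; rw [Fin.le_def, hφ_t₀]; omega
    · rw [hφ_ne t ht]
  have hφlt : φ < w := by
    refine lt_of_le_of_ne hφle ?_
    intro he
    have : φf t₀ = w.1 t₀ := by rw [← he]
    have := congrArg Fin.val this
    rw [hφ_t₀] at this
    omega
  refine ⟨φ, ⟨hφlt, ?_⟩, ?_⟩
  · -- codeg
    unfold codeg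
    rw [← Finset.add_sum_erase _ _ (Finset.mem_univ t₀), ← Finset.add_sum_erase _ _ (Finset.mem_univ t₀)]
    have h1 : ∀ t ∈ Finset.univ.erase t₀, (φ.1 t).val - t.val = (w.1 t).val - t.val := by
      intro t ht
      have : t ≠ t₀ := Finset.ne_of_mem_erase ht
      show (φf t).val - t.val = _
      rw [hφ_ne t this]
    rw [Finset.sum_congr rfl h1]
    show (φf t₀).val - t₀.val + _ + 1 = _
    rw [hφ_t₀]
    have := hτs t₀
    omega
  · intro t
    show τ.1 t ≤ φf t
    by_cases ht : t = t₀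
    · subst ht; rw [Fin.le_def, hφ_t₀]; omega
    · rw [hφ_ne t ht]; exact hle' t

end Groth.Agent.S11268
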