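import Groth.Statements.S9568
import Mathlib

set_option autoImplicit false
universe u
open EtLocal

namespace Groth.Agent.S9568

open KaehlerDifferential TensorProduct

lemma mem_smul_top_of_tmul_eq_zero {P B M : Type*} [CommRing P] [CommRing B] [Algebra P B]
    [AddCommGroup M] [Module P M] (h : Function.Surjective (algebraMap P B)) (z : M)
    (hz : (1 : B) ⊗ₜ[P] z = 0) : z ∈ (RingHom.ker (algebraMap P B)) • (⊤ : Submodule P M) := by
  set J : Ideal P := LinearMap.ker (Algebra.linearMap P B) with hJ
  have hJ' : J = RingHom.ker (algebraMap P B) := by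
    ext x; simp [hJ, RingHom.mem_ker]
  let e : (P ⧸ J) ≃ₗ[P] B := (Algebra.linearMap P B).quotKerEquivOfSurjective h
  have he : e (Submodule.Quotient.mk 1) = 1 := by
    change (Algebra.linearMap P B).quotKerEquivOfSurjective h (Submodule.Quotient.mk 1) = 1
    rw [LinearMap.quotKerEquivOfSurjective_apply_mk]
    simp
  have h1 : (e.symm.rTensor M) ((1 : B) ⊗ₜ[P] z) = (Ideal.Quotient.mk J 1) ⊗ₜ[P] z := by
    rw [LinearEquiv.rTensor_tmul]
    congr 1
    rw [LinearEquiv.symm_apply_eq]
    exact he.symm
  have h2 := congrArg (TensorProduct.quotTensorEquivQuotSMul M J) h1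
  rw [hz, map_zero, map_zero, TensorProduct.quotTensorEquivQuotSMul_mk_tmul, one_smul] at h2
  rw [← hJ']
  exact (Submodule.Quotient.mk_eq_zero _).mp h2.symm

lemma ker_map_le {A P B : Type*} [CommRing A] [CommRing P] [CommRing B] [Algebra A P] [Algebra A B]
    [Algebra P B] [IsScalarTower A P B] (h : Function.Surjective (algebraMap P B))
    (y : Ω[P⁄A]) (hy : KaehlerDifferential.map A A P B y = 0) :
    y ∈ (RingHom.ker (algebraMap P B)) • (⊤ : Submodule P Ω[P⁄A]) ⊔
      Submodule.span P (D A P '' (RingHom.ker (algebraMap P B) : Set P)) := by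
  have h1 : mapBaseChange A P B (1 ⊗ₜ y) = 0 := by
    rw [mapBaseChange_tmul, one_smul, hy]
  obtain ⟨c, hc⟩ := (exact_kerCotangentToTensor_mapBaseChange A P B h (1 ⊗ₜ y)).mp h1
  obtain ⟨g, rfl⟩ := Ideal.toCotangent_surjective _ c
  rw [kerCotangentToTensor_toCotangent] at hc
  have h2 : (1 : B) ⊗ₜ[P] (y - D A P g.1) = 0 := by rw [tmul_sub, ← hc, sub_self]
  have h3 := mem_smul_top_of_tmul_eq_zero h _ h2
  have h4 : y = (y - D A P g.1) + D A P g.1 := by abel
  rw [h4]
  exact Submodule.add_mem_sup h3 (Submodule.subset_span ⟨g.1, g.2, rfl⟩)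

/-- Let A be a ring, φ a surjection from the polynomial ring P = A[x_1, …, x_n] onto an A-algebra B with
kernel I, q a prime of B and 𝔮 its preimage in P. Then the localization at q of the module of
differentials Ω_{B/A} vanishes if and only if the images of the differentials dg, g ∈ I, span the
localization of Ω_{P/A} at 𝔮 over P_𝔮. (Geometrically: for f locally of finite type, the stalk of
Ω_{X/Y} at x vanishes iff near x the scheme X is a closed subscheme of an affine space over the base
cut out by an ideal whose germs at the point have differentials generating the stalk of Ω of the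
affine space; the published statement also lists the equivalence with f being unramified at x and
with the diagonal being a local isomorphism at x, which this row does not restate. The published
statement asks for one such presentation near the point; this row states the equivalence for every
presentation, which is what the published proof shows and which implies the existential form.) -/
theorem result {A B : Type u} [CommRing A] [CommRing B]
    [Algebra A B] (n : ℕ) (φ : MvPolynomial (Fin n) A →ₐ[A] B) (hφ : Function.Surjective φ)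
    (q : Ideal B) [q.IsPrime] :
    Subsingleton (LocalizedModule q.primeCompl (KaehlerDifferential A B)) ↔
      Submodule.span (Localization.AtPrime (q.comap φ.toRingHom))
        ((LocalizedModule.mkLinearMap (q.comap φ.toRingHom).primeCompl
            (KaehlerDifferential A (MvPolynomial (Fin n) A))) ''
          ((KaehlerDifferential.D A (MvPolynomial (Fin n) A)) '' (RingHom.ker φ.toRingHom : Set (MvPolynomial (Fin n) A)))) = ⊤ := by
  classical
  let _ : Algebra (MvPolynomial (Fin n) A) B := φ.toRingHom.toAlgebra
  have : IsScalarTower A (MvPolynomial (Fin n) A) B :=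
    IsScalarTower.of_algebraMap_eq' φ.comp_algebraMap.symm
  have hsurj : Function.Surjective (algebraMap (MvPolynomial (Fin n) A) B) := hφ
  have hφalg : ∀ p : MvPolynomial (Fin n) A, algebraMap (MvPolynomial (Fin n) A) B p = φ p :=
    fun p => rfl
  set 𝔮 : Ideal (MvPolynomial (Fin n) A) := q.comap φ.toRingHom with h𝔮
  have : 𝔮.IsPrime := Ideal.IsPrime.comap _
  set I : Ideal (MvPolynomial (Fin n) A) := RingHom.ker φ.toRingHom with hI
  have hIq : I ≤ 𝔮 := by
    intro x hx
    rw [h𝔮, Ideal.mem_comap]
    have : φ.toRingHom x = 0 := hx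
    rw [this]
    exact zero_mem _
  set f := LocalizedModule.mkLinearMap 𝔮.primeCompl (KaehlerDifferential A (MvPolynomial (Fin n) A))
    with hf
  let m := KaehlerDifferential.map A A (MvPolynomial (Fin n) A) B
  have hm_surj : Function.Surjective m :=
    KaehlerDifferential.map_surjective_of_surjective A A (MvPolynomial (Fin n) A) B hsurj
  have hmD : ∀ g ∈ I, m (KaehlerDifferential.D A _ g) = 0 := by
    intro g hg
    rw [KaehlerDifferential.map_D]
    have : algebraMap (MvPolynomial (Fin n) A) B g = 0 := hg
    rw [this, map_zero]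
  have hspan_ker : Submodule.span (MvPolynomial (Fin n) A)
      ((KaehlerDifferential.D A (MvPolynomial (Fin n) A)) '' (I : Set (MvPolynomial (Fin n) A))) ≤
      LinearMap.ker m := by
    rw [Submodule.span_le]
    rintro _ ⟨g, hg, rfl⟩
    exact hmD g hg
  rw [LocalizedModule.subsingleton_iff]
  constructor
  · intro hsub
    rw [eq_top_iff]
    set T := Submodule.span (Localization.AtPrime 𝔮)
      (f '' ((KaehlerDifferential.D A (MvPolynomial (Fin n) A)) '' (I : Set (MvPolynomial (Fin n) A))))
      with hT
    apply Submodule.le_of_le_smul_of_le_jacobson_bot (I := IsLocalRing.maximalIdeal _)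
      (Module.Finite.fg_top) (IsLocalRing.maximalIdeal_le_jacobson ⊥)
    set U := T ⊔ IsLocalRing.maximalIdeal (Localization.AtPrime 𝔮) •
      (⊤ : Submodule (Localization.AtPrime 𝔮)
        (LocalizedModule 𝔮.primeCompl (KaehlerDifferential A (MvPolynomial (Fin n) A)))) with hU
    -- `f` maps the kernel into `U`
    have hK : I • (⊤ : Submodule (MvPolynomial (Fin n) A) (KaehlerDifferential A (MvPolynomial (Fin n) A))) ⊔
        Submodule.span (MvPolynomial (Fin n) A)
          ((KaehlerDifferential.D A (MvPolynomial (Fin n) A)) '' (I : Set (MvPolynomial (Fin n) A))) ≤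
        Submodule.comap f (U.restrictScalars (MvPolynomial (Fin n) A)) := by
      apply sup_le
      · rw [Submodule.smul_le]
        intro i hi w _
        rw [Submodule.mem_comap, map_smul, Submodule.restrictScalars_mem]
        apply Submodule.mem_sup_right
        rw [← algebraMap_smul (Localization.AtPrime 𝔮) i (f w)]
        apply Submodule.smul_mem_smul _ Submodule.mem_top
        rw [← Localization.AtPrime.map_eq_maximalIdeal]
        exact Ideal.mem_map_of_mem _ (hIq hi)
      · rw [Submodule.span_le]
        rintro _ ⟨g, hg, rfl⟩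
        rw [SetLike.mem_coe, Submodule.mem_comap, Submodule.restrictScalars_mem]
        apply Submodule.mem_sup_left
        exact Submodule.subset_span ⟨_, ⟨g, hg, rfl⟩, rfl⟩
    intro z _
    obtain ⟨⟨y, s⟩, rfl⟩ := IsLocalizedModule.mk'_surjective 𝔮.primeCompl f z
    obtain ⟨r, hr, hr0⟩ := hsub (m y)
    obtain ⟨t, rfl⟩ := hφ r
    have ht : t ∈ 𝔮.primeCompl := by
      intro ht'
      exact hr ht'
    have h0 : m (t • y) = 0 := by
      rw [map_smul]
      exact hr0
    have h1 := hK (ker_map_le hsurj (t • y) h0)
    rw [Submodule.mem_comap, Submodule.restrictScalars_mem] at h1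
    change IsLocalizedModule.mk' f y s ∈ U
    rw [← IsLocalizedModule.mk'_cancel_left (f := f) y ⟨t, ht⟩ s]
    have h2 : IsLocalizedModule.mk' f (t • y) (⟨t, ht⟩ * s) =
        IsLocalization.mk' (Localization.AtPrime 𝔮) (1 : MvPolynomial (Fin n) A) (⟨t, ht⟩ * s) •
          f (t • y) := by
      rw [← IsLocalizedModule.mk'_one 𝔮.primeCompl f (t • y), IsLocalizedModule.mk'_smul_mk',
        one_smul, mul_one]
    change IsLocalizedModule.mk' f (t • y) (⟨t, ht⟩ * s) ∈ U
    rw [h2]
    exact Submodule.smul_mem _ _ h1
  · intro htop x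
    obtain ⟨y, rfl⟩ := hm_surj x
    have h1 : f y ∈ Submodule.span (Localization.AtPrime 𝔮)
        (f '' ((KaehlerDifferential.D A (MvPolynomial (Fin n) A)) '' (I : Set (MvPolynomial (Fin n) A)))) := by
      rw [htop]; exact Submodule.mem_top
    rw [← Submodule.localized'_span (Localization.AtPrime 𝔮) 𝔮.primeCompl f,
      Submodule.mem_localized'] at h1
    obtain ⟨w, hw, s, hws⟩ := h1
    have h2 : f w = f ((s : MvPolynomial (Fin n) A) • y) := by
      rw [map_smul, ← hws, ← Submonoid.smul_def, IsLocalizedModule.mk'_cancel']
    obtain ⟨u, hu⟩ := IsLocalizedModule.exists_of_eq (S := 𝔮.primeCompl) (f := f) h2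
    refine ⟨φ ((u : MvPolynomial (Fin n) A) * s), ?_, ?_⟩
    · intro hmem
      have : (u : MvPolynomial (Fin n) A) * s ∈ 𝔮 := hmem
      exact (u * s).2 this
    · have h3 : m (((u : MvPolynomial (Fin n) A) * s) • y) = 0 := by
        rw [mul_smul]
        rw [Submonoid.smul_def, Submonoid.smul_def] at hu
        rw [← hu, map_smul, hspan_ker hw, smul_zero]
      rw [map_smul] at h3
      exact h3

end Groth.Agent.S9568
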