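import Groth.Statements.S18590
import Mathlib

set_option autoImplicit false
universe u
open CAlg

namespace Groth.Agent.S18590

open WittVector MvPolynomial

section Twist

variable {p : ℕ} [hp : Fact p.Prime]

/-- the twist `(a^(p^n) x_n)_n` of a Witt vector. -/
def tw {R : Type*} [CommRing R] (a : R) (x : WittVector p R) : WittVector p R :=
  WittVector.mk p (fun n => a ^ p ^ n * x.coeff n)

lemma tw_coeff {R : Type*} [CommRing R] (a : R) (x : WittVector p R) (n : ℕ) :
    (tw a x).coeff n = a ^ p ^ n * x.coeff n := rfl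

lemma ghost_tw {R : Type*} [CommRing R] (a : R) (x : WittVector p R) (n : ℕ) :
    ghostComponent n (tw a x) = a ^ p ^ n * ghostComponent n x := by
  rw [ghostComponent_apply, ghostComponent_apply, aeval_wittPolynomial, aeval_wittPolynomial,
    Finset.mul_sum]
  refine Finset.sum_congr rfl (fun i hi => ?_)
  have hi' : i ≤ n := Nat.lt_succ_iff.mp (Finset.mem_range.mp hi)
  have h1 : p ^ n = p ^ i * p ^ (n - i) := by
    rw [← pow_add, Nat.add_sub_cancel' hi']
  rw [tw_coeff, mul_pow, ← pow_mul, ← h1]
  ring

lemma map_tw {R S : Type*} [CommRing R] [CommRing S] (f : R →+* S) (a : R) (x : WittVector p R) :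
    WittVector.map f (tw a x) = tw (f a) (WittVector.map f x) := by
  ext n
  simp [map_coeff, tw_coeff]

lemma teich_mul_aux₁ {σ : Type*} (a : MvPolynomial σ ℚ) (x : WittVector p (MvPolynomial σ ℚ)) :
    teichmuller p a * x = tw a x := by
  apply (ghostMap.bijective_of_invertible p (MvPolynomial σ ℚ)).1
  rw [map_mul]
  ext1 n
  simp only [Pi.mul_apply, ghostMap_apply, ghostComponent_teichmuller, ghost_tw]

lemma teich_mul_aux₂ {σ : Type*} (a : MvPolynomial σ ℤ) (x : WittVector p (MvPolynomial σ ℤ)) :
    teichmuller p a * x = tw a x := by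
  refine map_injective (MvPolynomial.map (Int.castRingHom ℚ))
    (MvPolynomial.map_injective _ Int.cast_injective) ?_
  rw [map_mul, map_teichmuller, map_tw, teich_mul_aux₁]

lemma teich_mul {R : Type*} [CommRing R] (a : R) (x : WittVector p R) :
    teichmuller p a * x = tw a x := by
  rcases counit_surjective R a with ⟨a, rfl⟩
  rcases map_surjective _ (counit_surjective R) x with ⟨x, rfl⟩
  rw [← map_teichmuller, ← map_mul, teich_mul_aux₂, map_tw]

lemma teich_mul_coeff {R : Type*} [CommRing R] (a : R) (x : WittVector p R) (n : ℕ) :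
    (teichmuller p a * x).coeff n = a ^ p ^ n * x.coeff n := by
  rw [teich_mul, tw_coeff]

end Twist

section Graded

variable {A K : Type*} [CommRing A] [CommRing K] [Algebra A K] (M : ℕ → Submodule A K)

/-- the graded subring `A ⊕ ⨁_{k ≥ 1} M_k X^k` of `K[X]`. -/
def G (hmul : ∀ (i j : ℕ) (a b : K), a ∈ M i → b ∈ M j → a * b ∈ M (i + j)) :
    Subring (Polynomial K) where
  carrier := {f | f.coeff 0 ∈ Set.range (algebraMap A K) ∧ ∀ k, 1 ≤ k → f.coeff k ∈ M k}
  mul_mem' := by
    rintro f g ⟨⟨a, ha⟩, hf⟩ ⟨⟨b, hb⟩, hg⟩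
    refine ⟨⟨a * b, ?_⟩, fun k hk => ?_⟩
    · rw [Polynomial.mul_coeff_zero, map_mul, ha, hb]
    · rw [Polynomial.coeff_mul]
      refine Submodule.sum_mem _ (fun x hx => ?_)
      have hx' : x.1 + x.2 = k := Finset.HasAntidiagonal.mem_antidiagonal.mp hx
      by_cases h1 : x.1 = 0
      · have h2 : x.2 = k := by omega
        rw [h1, h2, ← ha, ← Algebra.smul_def]
        exact (M k).smul_mem a (hg k hk)
      · by_cases h2 : x.2 = 0
        · have h3 : x.1 = k := by omega
          rw [h2, h3, ← hb, mul_comm, ← Algebra.smul_def]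
          exact (M k).smul_mem b (hf k hk)
        · rw [← hx']
          exact hmul x.1 x.2 _ _ (hf x.1 (Nat.one_le_iff_ne_zero.mpr h1))
            (hg x.2 (Nat.one_le_iff_ne_zero.mpr h2))
  one_mem' := by
    refine ⟨⟨1, ?_⟩, fun k hk => ?_⟩
    · rw [map_one, Polynomial.coeff_one_zero]
    · rw [Polynomial.coeff_one, if_neg (by omega)]
      exact zero_mem _
  add_mem' := by
    rintro f g ⟨⟨a, ha⟩, hf⟩ ⟨⟨b, hb⟩, hg⟩
    refine ⟨⟨a + b, ?_⟩, fun k hk => ?_⟩
    · rw [Polynomial.coeff_add, map_add, ha, hb]
    · rw [Polynomial.coeff_add]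
      exact add_mem (hf k hk) (hg k hk)
  zero_mem' := by
    refine ⟨⟨0, ?_⟩, fun k hk => ?_⟩
    · rw [map_zero, Polynomial.coeff_zero]
    · rw [Polynomial.coeff_zero]
      exact zero_mem _
  neg_mem' := by
    rintro f ⟨⟨a, ha⟩, hf⟩
    refine ⟨⟨-a, ?_⟩, fun k hk => ?_⟩
    · rw [Polynomial.coeff_neg, map_neg, ha]
    · rw [Polynomial.coeff_neg]
      exact neg_mem (hf k hk)

lemma mem_G_iff (hmul : ∀ (i j : ℕ) (a b : K), a ∈ M i → b ∈ M j → a * b ∈ M (i + j))
    (f : Polynomial K) :
    f ∈ G M hmul ↔ f.coeff 0 ∈ Set.range (algebraMap A K) ∧ ∀ k, 1 ≤ k → f.coeff k ∈ M k :=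
  Iff.rfl

end Graded

section Range

variable {p : ℕ} [hp : Fact p.Prime]

lemma mem_range_map_of_coeff_mem {R : Type*} [CommRing R] (S : Subring R) (z : WittVector p R)
    (h : ∀ n, z.coeff n ∈ S) : z ∈ (WittVector.map (p := p) S.subtype).range :=
  ⟨WittVector.mk p (fun n => ⟨z.coeff n, h n⟩), by ext n; simp [map_coeff]⟩

lemma coeff_mem_of_mem_range {R : Type*} [CommRing R] (S : Subring R) (z : WittVector p R)
    (h : z ∈ (WittVector.map (p := p) S.subtype).range) (n : ℕ) : z.coeff n ∈ S := by
  obtain ⟨y, rfl⟩ := h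
  rw [map_coeff]
  exact (y.coeff n).2

end Range

/-- Let p be a prime, A a commutative ring, K a commutative A-algebra of characteristic p and M_0, M_1,
M_2, … A-submodules of K with M_i · M_j ⊆ M_(i+j) for all i, j. Then the subset of the ring W(K) of
p-typical Witt vectors consisting of the vectors whose n-th coordinate lies in M_(p^n) for every n
is closed under addition and under multiplication by the image of W(A) under W of the structure map;
in other words it is a W(A)-submodule of W(K). (The published statement is the case of an integral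
normal noetherian scheme X of characteristic p with function field K, an affine open subset U with
coordinate ring A, and M_k the module of sections over U of the divisorial sheaf of k·D for a real
Weil divisor D on X; these form such a multiplicative family, and the subset is then the module of
sections over U of the Witt divisorial sheaf of D inside W(K). Only the two stated properties of
that family enter.) -/
theorem result
    (p : ℕ) [Fact p.Prime] (A K : Type u) [CommRing A] [CommRing K] [Algebra A K] [CharP K p]
    (M : ℕ → Submodule A K)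
    (hmul : ∀ (i j : ℕ) (a b : K), a ∈ M i → b ∈ M j → a * b ∈ M (i + j)) :
    (∀ φ ψ : WittVector p K, (∀ n : ℕ, φ.coeff n ∈ M (p ^ n)) → (∀ n : ℕ, ψ.coeff n ∈ M (p ^ n)) →
        ∀ n : ℕ, (φ + ψ).coeff n ∈ M (p ^ n)) ∧
      (∀ (x : WittVector p A) (φ : WittVector p K), (∀ n : ℕ, φ.coeff n ∈ M (p ^ n)) →
        ∀ n : ℕ, (WittVector.map (algebraMap A K) x * φ).coeff n ∈ M (p ^ n)) := by
  classical
  have hp1 : ∀ n : ℕ, 1 ≤ p ^ n := fun n => Nat.one_le_pow _ _ (Fact.out : p.Prime).pos
  -- the twist lands in the Witt vectors of the graded subring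
  have key : ∀ φ : WittVector p K, (∀ n, φ.coeff n ∈ M (p ^ n)) →
      teichmuller p (Polynomial.X : Polynomial K) * WittVector.map Polynomial.C φ ∈
        (WittVector.map (p := p) (G M hmul).subtype).range := by
    intro φ hφ
    apply mem_range_map_of_coeff_mem
    intro n
    rw [teich_mul_coeff, map_coeff, mem_G_iff]
    refine ⟨?_, fun k hk => ?_⟩
    · rw [Polynomial.coeff_X_pow_mul', if_neg (by have := hp1 n; omega)]
      exact ⟨0, map_zero _⟩
    · rw [Polynomial.coeff_X_pow_mul']
      split_ifs with h
      · rw [Polynomial.coeff_C]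
        split_ifs with h'
        · have hk' : k = p ^ n := by omega
          rw [hk']
          exact hφ n
        · exact zero_mem _
      · exact zero_mem _
  -- extraction
  have extract : ∀ z : WittVector p K,
      teichmuller p (Polynomial.X : Polynomial K) * WittVector.map Polynomial.C z ∈
        (WittVector.map (p := p) (G M hmul).subtype).range → ∀ n, z.coeff n ∈ M (p ^ n) := by
    intro z hz n
    have h := coeff_mem_of_mem_range _ _ hz n
    rw [teich_mul_coeff, map_coeff, mem_G_iff] at h
    have h2 := h.2 (p ^ n) (hp1 n)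
    have h3 : ((Polynomial.X : Polynomial K) ^ p ^ n * Polynomial.C (z.coeff n)).coeff (p ^ n) =
        z.coeff n := by
      have := Polynomial.coeff_X_pow_mul (Polynomial.C (z.coeff n)) (p ^ n) 0
      rw [zero_add] at this
      rw [this, Polynomial.coeff_C_zero]
    rwa [h3] at h2
  refine ⟨fun φ ψ hφ hψ => ?_, fun x φ hφ => ?_⟩
  · apply extract
    have h := add_mem (key φ hφ) (key ψ hψ)
    rwa [← mul_add, ← map_add] at h
  · apply extract
    have hx : WittVector.map Polynomial.C (WittVector.map (algebraMap A K) x) ∈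
        (WittVector.map (p := p) (G M hmul).subtype).range := by
      apply mem_range_map_of_coeff_mem
      intro n
      rw [map_coeff, map_coeff, mem_G_iff]
      refine ⟨?_, fun k hk => ?_⟩
      · rw [Polynomial.coeff_C_zero]
        exact ⟨_, rfl⟩
      · rw [Polynomial.coeff_C, if_neg (by omega)]
        exact zero_mem _
    have h := mul_mem hx (key φ hφ)
    have e : WittVector.map Polynomial.C (WittVector.map (algebraMap A K) x) *
        (teichmuller p (Polynomial.X : Polynomial K) * WittVector.map Polynomial.C φ) =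
        teichmuller p (Polynomial.X : Polynomial K) *
          WittVector.map Polynomial.C (WittVector.map (algebraMap A K) x * φ) := by
      rw [map_mul]
      ring
    rwa [e] at h

end Groth.Agent.S18590
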