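import Groth.Statements.S16537
import Mathlib

set_option autoImplicit false
universe u v
open Disp

namespace Groth.Agent.S16537

set_option linter.style.haveILetI false
set_option linter.unusedSectionVars false
set_option linter.unusedVariables false


open Dieu TensorProduct


section General

variable {A : Type u} [CommRing A] {P : Type v} [AddCommGroup P] [Module A P]

/-- `1 ⊗_h T`. -/
noncomputable def tw {g : A →+* A} (h : A →+* A) (T : P →ₗ[A] BC g P) :
    BC h P →ₗ[A] BC (h.comp g) P :=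
  BC.lift h ((BC.push g h).comp T)

theorem tw_tmul {g : A →+* A} (h : A →+* A) (T : P →ₗ[A] BC g P) (w : A) (x : P) :
    tw h T (BC.tmul h w x) = w • BC.push g h (T x) := by
  rw [tw, BC.lift_tmul, LinearMap.comp_apply]

theorem tw_eq {g : A →+* A} (h : A →+* A) (T : P →ₗ[A] BC g P) (s : BC h P) :
    BC.lift h (BC.push g h) (BC.map h T s) = tw h T s := by
  induction s using BC.induction_on h with
  | zero => rw [map_zero, map_zero, map_zero]
  | tmul w x => rw [BC.map_tmul, BC.lift_tmul, tw_tmul]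
  | add z₁ z₂ h₁ h₂ => rw [map_add, map_add, h₁, h₂, map_add]

theorem cast_cast {g g' g'' : A →+* A} (e1 : g = g') (e2 : g' = g'') (r : BC g P) :
    BC.castHom e2 (BC.castHom e1 r) = BC.castHom (e1.trans e2) r := by
  subst e1; subst e2; rfl

theorem tw_castArg {g h h' : A →+* A} (e : h = h') (T : P →ₗ[A] BC g P) (t : BC h P) :
    tw h' T (BC.castHom e t) = BC.castHom (congrArg (fun k => k.comp g) e) (tw h T t) := by
  subst e; rfl

theorem tw_castT {g g' : A →+* A} (h : A →+* A) (e : g = g') (T : P →ₗ[A] BC g P) (t : BC h P) :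
    tw h ((BC.castHom e).comp T) t = BC.castHom (congrArg (fun k => h.comp k) e) (tw h T t) := by
  subst e; rfl

theorem push_push (g h1 h2 : A →+* A) (r : BC g P) :
    BC.push (h1.comp g) h2 (BC.push g h1 r) =
      BC.castHom (RingHom.comp_assoc g h1 h2) (BC.push g (h2.comp h1) r) := by
  induction r using BC.induction_on g with
  | zero => rw [map_zero, map_zero, map_zero, map_zero]
  | tmul c z => rw [BC.push_tmul, BC.push_tmul, BC.push_tmul, BC.castHom_tmul]; rfl
  | add z₁ z₂ h₁ h₂ => rw [map_add, map_add, h₁, h₂, map_add, map_add]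

theorem push_tw (g h1 h2 : A →+* A) (T : P →ₗ[A] BC g P) (t : BC h1 P) :
    BC.push (h1.comp g) h2 (tw h1 T t) =
      BC.castHom (RingHom.comp_assoc g h1 h2) (tw (h2.comp h1) T (BC.push h1 h2 t)) := by
  induction t using BC.induction_on h1 with
  | zero => rw [map_zero, map_zero, map_zero, map_zero, map_zero]
  | tmul u y =>
    rw [tw_tmul, LinearMap.map_smulₛₗ, BC.push_tmul, tw_tmul, map_smul, push_push]
  | add z₁ z₂ h₁ h₂ => rw [map_add, map_add, h₁, h₂, map_add, map_add, map_add]

theorem tw_tw (g h1 h2 : A →+* A) (T : P →ₗ[A] BC g P) (S' : P →ₗ[A] BC h1 P) (s : BC h2 P) :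
    tw h2 ((tw h1 T).comp S') s =
      BC.castHom (RingHom.comp_assoc g h1 h2) (tw (h2.comp h1) T (tw h2 S' s)) := by
  induction s using BC.induction_on h2 with
  | zero => rw [map_zero, map_zero, map_zero, map_zero]
  | tmul w x =>
    rw [tw_tmul, tw_tmul, LinearMap.comp_apply, map_smul, map_smul, push_tw]
  | add z₁ z₂ h₁ h₂ => rw [map_add, map_add, h₁, h₂, map_add, map_add]

theorem cast_mem {g g' : A →+* A} (e : g = g') (𝔞 : Ideal A) (t : BC g P)
    (ht : t ∈ 𝔞 • (⊤ : Submodule A (BC g P))) :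
    BC.castHom e t ∈ 𝔞 • (⊤ : Submodule A (BC g' P)) := by
  subst e; exact ht

theorem push_mem (g h : A →+* A) (J : Ideal A) (hJ : ∀ j ∈ J, h j ∈ J) (r : BC g P)
    (hr : r ∈ J • (⊤ : Submodule A (BC g P))) :
    BC.push g h r ∈ J • (⊤ : Submodule A (BC (h.comp g) P)) := by
  refine Submodule.smul_induction_on
    (p := fun t => BC.push g h t ∈ J • (⊤ : Submodule A (BC (h.comp g) P))) hr ?_ ?_
  · intro j hj m _
    change BC.push g h (j • m) ∈ _
    rw [LinearMap.map_smulₛₗ]
    exact Submodule.smul_mem_smul (hJ j hj) Submodule.mem_top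
  · intro x y hx hy
    rw [map_add]; exact Submodule.add_mem _ hx hy

theorem tw_mem_J {g : A →+* A} (h : A →+* A) (J : Ideal A) (hJ : ∀ j ∈ J, h j ∈ J)
    (T : P →ₗ[A] BC g P) (hT : ∀ y, T y ∈ J • (⊤ : Submodule A (BC g P))) (m : BC h P) :
    tw h T m ∈ J • (⊤ : Submodule A (BC (h.comp g) P)) := by
  induction m using BC.induction_on h with
  | zero => rw [map_zero]; exact Submodule.zero_mem _
  | tmul w x =>
    rw [tw_tmul]
    exact Submodule.smul_mem _ _ (push_mem g h J hJ _ (hT x))
  | add z₁ z₂ h₁ h₂ => rw [map_add]; exact Submodule.add_mem _ h₁ h₂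

theorem tw_mem {g : A →+* A} (h : A →+* A) (J 𝔟 : Ideal A) (hJ : ∀ j ∈ J, h j ∈ J)
    (T : P →ₗ[A] BC g P) (hT : ∀ y, T y ∈ J • (⊤ : Submodule A (BC g P))) (t : BC h P)
    (ht : t ∈ 𝔟 • (⊤ : Submodule A (BC h P))) :
    tw h T t ∈ (𝔟 * J) • (⊤ : Submodule A (BC (h.comp g) P)) := by
  refine Submodule.smul_induction_on
    (p := fun t => tw h T t ∈ (𝔟 * J) • (⊤ : Submodule A (BC (h.comp g) P))) ht ?_ ?_
  · intro c hc m _
    change tw h T (c • m) ∈ _
    rw [map_smul, Submodule.mul_smul]
    exact Submodule.smul_mem_smul hc (tw_mem_J h J hJ T hT m)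
  · intro x y hx hy
    rw [map_add]; exact Submodule.add_mem _ hx hy

end General

section Witt

variable {p : ℕ} [Fact p.Prime] {R : Type u} [CommRing R]
  {P : Type v} [AddCommGroup P] [Module (WittVector p R) P]

set_option hygiene false in
local notation "σ" => (WittVector.frobenius : WittVector p R →+* WittVector p R)

variable (Vs : P →ₗ[WittVector p R] BC σ P)

theorem vsp_succ_eq (n : ℕ) (x : P) :
    vSharpPow Vs (n + 1) x =
      BC.castHom (comp_pow_eq_pow_succ σ (n + 1)) (tw σ (vSharpPow Vs n) (Vs x)) := by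
  rw [vSharpPow_succ_apply, tw_eq]

theorem Eab (a b : ℕ) : RingHom.comp (σ ^ (b + 1)) (σ ^ (a + 1)) = σ ^ (a + b + 1 + 1) := by
  rw [← RingHom.mul_def, ← pow_add]
  congr 1
  ring

theorem vsp_add (b : ℕ) : ∀ (a : ℕ) (x : P),
    vSharpPow Vs (a + b + 1) x =
      BC.castHom (Eab a b) (tw (σ ^ (b + 1)) (vSharpPow Vs a) (vSharpPow Vs b x)) := by
  induction b with
  | zero =>
    intro a x
    change vSharpPow Vs (a + 1) x = _
    rw [vsp_succ_eq]
    rw [vSharpPow_zero_apply]
    have := tw_castArg (pow_one σ).symm (vSharpPow Vs a) (Vs x)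
    have e1 : σ = σ ^ (0 + 1) := (pow_one σ).symm
    have := tw_castArg e1 (vSharpPow Vs a) (Vs x)
    rw [show BC.castHom (pow_one σ).symm (Vs x) = BC.castHom e1 (Vs x) from rfl]
    rw [this, cast_cast]
  | succ b ih =>
    intro a x
    change vSharpPow Vs ((a + b + 1) + 1) x = _
    have h1 : vSharpPow Vs (a + b + 1) = (BC.castHom (Eab a b)).comp
        ((tw (σ ^ (b + 1)) (vSharpPow Vs a)).comp (vSharpPow Vs b)) :=
      LinearMap.ext (ih a)
    rw [vsp_succ_eq, h1, tw_castT, tw_tw]
    rw [vsp_succ_eq Vs b x, tw_castArg, cast_cast, cast_cast, cast_cast]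

/-- all values of `V^{(m+1)#}` lie in `𝔞 • ⊤`. -/
def Good (m : ℕ) (𝔞 : Ideal (WittVector p R)) : Prop :=
  ∀ x, vSharpPow Vs m x ∈ 𝔞 • (⊤ : Submodule (WittVector p R) (BC (σ ^ (m + 1)) P))

theorem good_step (J 𝔟 : Ideal (WittVector p R)) (hJ : ∀ j ∈ J, σ j ∈ J) (N b : ℕ)
    (hN : Good Vs N J) (hb : Good Vs b 𝔟) : Good Vs (N + b + 1) (𝔟 * J) := by
  intro x
  rw [vsp_add]
  apply cast_mem
  apply tw_mem _ J 𝔟 _ _ hN _ (hb x)
  intro j hj
  rw [RingHom.coe_pow]
  generalize b + 1 = m
  induction m generalizing j with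
  | zero => exact hj
  | succ m ih => rw [Function.iterate_succ_apply]; exact ih _ (hJ j hj)

theorem good_iter (J : Ideal (WittVector p R)) (hJ : ∀ j ∈ J, σ j ∈ J) (N : ℕ)
    (hN : Good Vs N J) (k : ℕ) : Good Vs (k * (N + 1) + N) (J ^ (k + 1)) := by
  induction k with
  | zero => rw [zero_mul, zero_add, zero_add, pow_one]; exact hN
  | succ k ih =>
    have h1 : (k + 1) * (N + 1) + N = N + (k * (N + 1) + N) + 1 := by ring
    rw [h1, pow_succ]
    exact good_step Vs J _ hJ N _ hN ih

/-- the ideal `I_R + pW`. -/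
noncomputable def JJ (p : ℕ) [Fact p.Prime] (R : Type u) [CommRing R] : Ideal (WittVector p R) :=
  W4c1extbt610.IV p R ⊔ Ideal.span {(p : WittVector p R)}

theorem JJ_frob (j : WittVector p R) (hj : j ∈ JJ p R) : σ j ∈ JJ p R := by
  have h1 : (JJ p R).map σ ≤ JJ p R := by
    rw [JJ, Ideal.map_sup]
    apply sup_le
    · rw [W4c1extbt610.IV, Ideal.map_span, Ideal.span_le]
      rintro _ ⟨_, ⟨w, rfl⟩, rfl⟩
      apply Ideal.mem_sup_right
      rw [Ideal.mem_span_singleton']
      exact ⟨w, (WittVector.frobenius_verschiebung w).symm⟩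
    · rw [Ideal.map_span, Set.image_singleton, map_natCast]
      exact le_sup_right
  exact h1 (Ideal.mem_map_of_mem _ hj)

theorem JJ_pow_cc (c : ℕ) (hc : (p : R) ^ c = 0) (j : WittVector p R) (hj : j ∈ JJ p R ^ c) :
    j.coeff 0 = 0 := by
  have h1 : (JJ p R).map (WittVector.constantCoeff : WittVector p R →+* R) ≤
      Ideal.span {(p : R)} := by
    rw [JJ, Ideal.map_sup]
    apply sup_le
    · rw [W4c1extbt610.IV, Ideal.map_span, Ideal.span_le]
      rintro _ ⟨_, ⟨w, rfl⟩, rfl⟩
      change (WittVector.verschiebung w).coeff 0 ∈ _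
      rw [WittVector.verschiebung_coeff_zero]
      exact Ideal.zero_mem _
    · rw [Ideal.map_span, Set.image_singleton, map_natCast]
  have h2 : (WittVector.constantCoeff : WittVector p R →+* R) j ∈
      ((JJ p R) ^ c).map (WittVector.constantCoeff : WittVector p R →+* R) :=
    Ideal.mem_map_of_mem _ hj
  rw [Ideal.map_pow] at h2
  have h3 := Ideal.pow_right_mono h1 c h2
  rw [Ideal.span_singleton_pow, hc, Ideal.mem_span_singleton, zero_dvd_iff] at h3
  exact h3

theorem JJ_pow_frob (c m : ℕ) (j : WittVector p R) (hj : j ∈ JJ p R ^ c) :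
    (WittVector.frobenius^[m] j) ∈ JJ p R ^ c := by
  have h1 : (JJ p R ^ c).map σ ≤ JJ p R ^ c := by
    rw [Ideal.map_pow]
    apply Ideal.pow_right_mono
    rw [Ideal.map_le_iff_le_comap]
    intro j hj
    exact JJ_frob j hj
  induction m generalizing j with
  | zero => exact hj
  | succ m ih =>
    rw [Function.iterate_succ_apply]
    exact ih _ (h1 (Ideal.mem_map_of_mem _ hj))

theorem ker_mul_le (c : ℕ) (hc : (p : R) ^ c = 0) (n : ℕ) :
    RingHom.ker (WittVector.truncate (p := p) (R := R) n) * JJ p R ^ c ≤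
      RingHom.ker (WittVector.truncate (p := p) (R := R) (n + 1)) := by
  rw [Ideal.mul_le]
  intro x hx j hj
  rw [WittVector.mem_ker_truncate] at hx ⊢
  intro i hi
  rcases Nat.lt_succ_iff_lt_or_eq.mp hi with hi' | rfl
  · have : x * j ∈ RingHom.ker (WittVector.truncate (p := p) (R := R) n) :=
      Ideal.mul_mem_right _ _ ((WittVector.mem_ker_truncate n x).mpr hx)
    exact (WittVector.mem_ker_truncate n _).mp this i hi'
  · have hx' := WittVector.eq_iterate_verschiebung hx
    rw [hx', WittVector.iterate_verschiebung_mul_left]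
    have := WittVector.iterate_verschiebung_coeff (x.shift i * WittVector.frobenius^[i] j) i 0
    rw [zero_add] at this
    rw [this, WittVector.mul_coeff_zero, JJ_pow_cc c hc _ (JJ_pow_frob c i j hj), mul_zero]

theorem JJ_pow_le (c : ℕ) (hc : (p : R) ^ c = 0) (n : ℕ) :
    JJ p R ^ (c * n) ≤ RingHom.ker (WittVector.truncate (p := p) (R := R) n) := by
  induction n with
  | zero =>
    intro x _
    rw [WittVector.mem_ker_truncate]
    intro i hi
    omega
  | succ n ih =>
    rw [mul_add, mul_one, pow_add]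
    exact (Ideal.mul_mono_left ih).trans (ker_mul_le c hc n)

theorem main (p : ℕ) [Fact p.Prime]
    (R : Type u) [CommRing R] (hp : IsNilpotent (p : R))
    (P : Type v) [AddCommGroup P] [Module (WittVector p R) P]
    (Vs : P →ₗ[WittVector p R] Dieu.BC (WittVector.frobenius : WittVector p R →+* WittVector p R) P)
    (hnil : Dieu.IsVNilpotent Vs) (n : ℕ) :
    ∃ N : ℕ, ∀ x : P, Dieu.vSharpPow Vs N x ∈
      (RingHom.ker (WittVector.truncate (p := p) (R := R) n)) •
        (⊤ : Submodule (WittVector p R) (Dieu.BC ((WittVector.frobenius : WittVector p R →+* WittVector p R) ^ (N + 1)) P)) := by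
  obtain ⟨c, hc⟩ := hp
  obtain ⟨N, hN⟩ := hnil
  have hgood : Good Vs N (JJ p R) := hN
  have h1 := good_iter Vs (JJ p R) JJ_frob N hgood (c * n)
  refine ⟨c * n * (N + 1) + N, fun x => ?_⟩
  refine Submodule.smul_mono_left ?_ (h1 x)
  exact (Ideal.pow_le_pow_right (Nat.le_succ _)).trans (JJ_pow_le c hc n)

end Witt



/-- Let p be a prime and R a commutative ring in which p is nilpotent; write W = W(R) with Frobenius σ
and, for n ≥ 0, I_n ⊆ W for the kernel of the truncation W → W_n(R). Let (P, Q, F, V⁻¹) be a display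
over R: a 3n-display whose operator V# : P → W ⊗_{σ,W} P (the W-linear map with V#(w·F x) = p·(w ⊗
x) and V#(w·V⁻¹ y) = w ⊗ y) satisfies the nilpotence condition. Then for every n there is an N such
that the iterate V^{(N+1)#} : P → W ⊗_{σ^(N+1),W} P has image in I_n·(W ⊗_{σ^(N+1),W} P);
equivalently the map W_n(R) ⊗_W P → W_n(R) ⊗_{σ^(N+1),W} P induced by V^{(N+1)#} is zero. -/
theorem result (p : ℕ) [Fact p.Prime]
    (R : Type u) [CommRing R] (hp : IsNilpotent (p : R))
    (P : Type v) [AddCommGroup P] [Module (WittVector p R) P] (D : W4c1extbt610.Display3n p R P)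
    (Vs : P →ₗ[WittVector p R] Dieu.BC (WittVector.frobenius : WittVector p R →+* WittVector p R) P) (hVs : Dieu.IsVSharp D Vs)
    (hnil : Dieu.IsVNilpotent Vs) (n : ℕ) :
    ∃ N : ℕ, ∀ x : P, Dieu.vSharpPow Vs N x ∈
      (RingHom.ker (WittVector.truncate (p := p) (R := R) n)) •
        (⊤ : Submodule (WittVector p R) (Dieu.BC ((WittVector.frobenius : WittVector p R →+* WittVector p R) ^ (N + 1)) P)) := by
  exact main p R hp P Vs hnil n

end Groth.Agent.S16537
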