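import Groth.Statements.S16540
import Mathlib

set_option autoImplicit false
universe u v
open Disp

namespace Groth.Agent.S16540

set_option linter.style.haveILetI false
set_option linter.unusedSectionVars false
set_option linter.unusedVariables false


open Dieu TensorProduct


section General

variable {A : Type u} {B : Type u} [CommRing A] [CommRing B] (f' : A →+* B)
  (gA : A →+* A) (gB : B →+* B) (hc : gB.comp f' = f'.comp gA)
  {P : Type v} [AddCommGroup P] [Module A P]

/-- `x ↦ 1 ⊗ (1 ⊗ x)`. -/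
def phi : P →ₛₗ[f'.comp gA] BC gB (BC f' P) where
  toFun x := BC.tmul gB 1 (BC.tmul f' 1 x)
  map_add' x y := by rw [BC.tmul_add, BC.tmul_add]
  map_smul' a x := by
    have h1 : gB (f' a) = f' (gA a) := by
      have := congrArg (fun k : A →+* B => k a) hc
      simpa using this
    change BC.tmul gB 1 (BC.tmul f' 1 (a • x)) = (f'.comp gA) a • BC.tmul gB 1 (BC.tmul f' 1 x)
    rw [← BC.tmul_apply_eq f' a x, BC.tmul_eq_smul_tmul_one f' (f' a) x,
      ← BC.tmul_mul_apply gB 1 (f' a), one_mul, BC.smul_tmul, mul_one, RingHom.comp_apply, h1]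

theorem phi_apply (x : P) : phi f' gA gB hc x = BC.tmul gB 1 (BC.tmul f' 1 x) := rfl

/-- `u ⊗ y ↦ f' u ⊗ (1 ⊗ y)`. -/
def Theta : BC gA P →ₛₗ[f'] BC gB (BC f' P) :=
  (BC.lift (f'.comp gA) (phi f' gA gB hc)).comp (BC.push gA f')

theorem Theta_tmul (u : A) (y : P) :
    Theta f' gA gB hc (BC.tmul gA u y) = BC.tmul gB (f' u) (BC.tmul f' 1 y) := by
  rw [Theta, LinearMap.comp_apply, BC.push_tmul, BC.lift_tmul, phi_apply, BC.smul_tmul, mul_one]

theorem Theta_cast {gA' : A →+* A} {gB' : B →+* B} (eA : gA = gA') (eB : gB = gB')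
    (hc' : gB'.comp f' = f'.comp gA') (t : BC gA P) :
    BC.castHom eB (Theta f' gA gB hc t) = Theta f' gA' gB' hc' (BC.castHom eA t) := by
  subst eA; subst eB; rfl

theorem Theta_push (hA : A →+* A) (hB : B →+* B) (hc' : hB.comp f' = f'.comp hA)
    (hc'' : (hB.comp gB).comp f' = f'.comp (hA.comp gA)) (s : BC gA P) :
    BC.push gB hB (Theta f' gA gB hc s) =
      Theta f' (hA.comp gA) (hB.comp gB) hc'' (BC.push gA hA s) := by
  induction s using BC.induction_on gA with
  | zero => rw [map_zero, map_zero, map_zero, map_zero]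
  | tmul a y =>
    have h1 : hB (f' a) = f' (hA a) := by
      have := congrArg (fun k : A →+* B => k a) hc'
      simpa using this
    rw [Theta_tmul, BC.push_tmul, BC.push_tmul, Theta_tmul, h1]
  | add z₁ z₂ h₁ h₂ => rw [map_add, map_add, h₁, h₂, map_add, map_add]

end General

section Gen

variable {A : Type u} {B : Type u} {C : Type u} [CommRing A] [CommRing B] [CommRing C]
  (g : A →+* B) (h : B →+* C)
  {P : Type v} [AddCommGroup P] [Module A P] (Q : Submodule A P)

/-- `b ↦ h b` as an `A`-linear map `Res g → Res (h ∘ g)`. -/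
def dmap : Res g →ₗ[A] Res (h.comp g) where
  toFun t := Res.mk (h.comp g) (h t.val)
  map_add' s t := by
    apply Res.ext
    change h (s.val + t.val) = h s.val + h t.val
    rw [map_add]
  map_smul' a t := by
    apply Res.ext
    change h (g a * t.val) = (h.comp g) a * h t.val
    rw [map_mul]; rfl

theorem push_eq {N : Type v} [AddCommGroup N] [Module A N] (z : Res g ⊗[A] N) :
    BC.push g h (z : BC g N) = ((dmap g h).rTensor N) z := by
  induction z using TensorProduct.induction_on with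
  | zero => rw [map_zero]; exact map_zero (BC.push g h)
  | tmul t x =>
    change BC.push g h (BC.tmul g t.val x) = _
    rw [BC.push_tmul, LinearMap.rTensor_tmul]
    rfl
  | add a b ha hb =>
    rw [map_add, ← ha, ← hb]
    exact map_add (BC.push g h) _ _

theorem map_eq {P' : Type v} [AddCommGroup P'] [Module A P'] (ψ : P →ₗ[A] P') (z : Res g ⊗[A] P) :
    BC.map g ψ (z : BC g P) = (ψ.lTensor (Res g)) z := by
  induction z using TensorProduct.induction_on with
  | zero => rw [map_zero]; exact map_zero (BC.map g ψ)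
  | tmul t x =>
    change BC.map g ψ (BC.tmul g t.val x) = _
    rw [BC.map_tmul, LinearMap.lTensor_tmul]
    rfl
  | add a b ha hb =>
    rw [map_add, ← ha, ← hb]
    exact map_add (BC.map g ψ) _ _

/-- generators of the kernel -/
def Gset : Set (BC g P) :=
  {z | (∃ u : B, ∃ y ∈ Q, z = BC.tmul g u y) ∨ (∃ (b : B) (x : P), h b = 0 ∧ z = BC.tmul g b x)}

theorem ker_le (hsurj : Function.Surjective h) (z : Res g ⊗[A] P)
    (hz : BC.push g h (BC.map g Q.mkQ (z : BC g P)) = 0) :
    (z : BC g P) ∈ AddSubgroup.closure (Gset g h Q) := by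
  classical
  let K : Submodule A (Res g) := LinearMap.ker (dmap g h)
  -- images of `K ⊗ P`
  have hK : ∀ k : K ⊗[A] P, ((K.subtype.rTensor P) k : Res g ⊗[A] P) ∈
      AddSubgroup.closure (Gset g h Q) := by
    intro k
    induction k using TensorProduct.induction_on with
    | zero => rw [map_zero]; exact AddSubgroup.zero_mem _
    | tmul κ x =>
      rw [LinearMap.rTensor_tmul]
      apply AddSubgroup.subset_closure
      right
      refine ⟨(κ : Res g).val, x, ?_, rfl⟩
      have := κ.2
      exact this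
    | add a b ha hb => rw [map_add]; exact AddSubgroup.add_mem _ ha hb
  have hQ : ∀ q : Res g ⊗[A] Q, ((Q.subtype.lTensor (Res g)) q : Res g ⊗[A] P) ∈
      AddSubgroup.closure (Gset g h Q) := by
    intro q
    induction q using TensorProduct.induction_on with
    | zero => rw [map_zero]; exact AddSubgroup.zero_mem _
    | tmul t y =>
      rw [LinearMap.lTensor_tmul]
      apply AddSubgroup.subset_closure
      left
      exact ⟨t.val, y.1, y.2, rfl⟩
    | add a b ha hb => rw [map_add]; exact AddSubgroup.add_mem _ ha hb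
  have hdsurj : Function.Surjective (dmap g h) := by
    intro t
    obtain ⟨b, hb⟩ := hsurj t.val
    exact ⟨Res.mk g b, Res.ext _ hb⟩
  have hex1 : Function.Exact (K.subtype.rTensor (P ⧸ Q)) ((dmap g h).rTensor (P ⧸ Q)) :=
    rTensor_exact (P ⧸ Q) (LinearMap.exact_subtype_ker_map (dmap g h)) hdsurj
  have hex2 : Function.Exact (Q.subtype.lTensor (Res g)) (Q.mkQ.lTensor (Res g)) :=
    lTensor_exact (Res g) (LinearMap.exact_subtype_mkQ Q) Q.mkQ_surjective
  have hz' : ((dmap g h).rTensor (P ⧸ Q)) ((Q.mkQ.lTensor (Res g)) z) = 0 := by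
    rw [← push_eq, ← map_eq]
    exact hz
  obtain ⟨k, hk⟩ := (hex1 _).mp hz'
  obtain ⟨k', rfl⟩ := LinearMap.lTensor_surjective K Q.mkQ_surjective k
  have h3 : (Q.mkQ.lTensor (Res g)) (z - (K.subtype.rTensor P) k') = 0 := by
    rw [map_sub, ← hk, sub_eq_zero]
    rw [← LinearMap.comp_apply, ← LinearMap.comp_apply, LinearMap.rTensor_comp_lTensor,
      LinearMap.lTensor_comp_rTensor]
  obtain ⟨q, hq⟩ := (hex2 _).mp h3
  have : z = (Q.subtype.lTensor (Res g)) q + (K.subtype.rTensor P) k' := by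
    rw [hq]; abel
  rw [this]
  exact AddSubgroup.add_mem _ (hQ q) (hK k')

end Gen

section Witt

variable {p : ℕ} [Fact p.Prime] {S R : Type u} [CommRing S] [CommRing R] (f : S →+* R)
  {P : Type v} [AddCommGroup P] [Module (WittVector p S) P]

set_option hygiene false in
local notation "σS" => (WittVector.frobenius : WittVector p S →+* WittVector p S)
set_option hygiene false in
local notation "σR" => (WittVector.frobenius : WittVector p R →+* WittVector p R)
set_option hygiene false in
local notation "Wf" => (WittVector.map f : WittVector p S →+* WittVector p R)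

theorem hcomm (k : ℕ) : RingHom.comp (σR ^ k) Wf = RingHom.comp Wf (σS ^ k) := by
  refine RingHom.ext fun x => ?_
  rw [RingHom.comp_apply, RingHom.comp_apply, RingHom.coe_pow, RingHom.coe_pow]
  have hsc : Function.Semiconj Wf σS σR := fun y => (WittVector.frobenius_isPoly p).map f y
  exact ((hsc.iterate_right k).eq x).symm

theorem hcomm1 : RingHom.comp σR Wf = RingHom.comp Wf σS := by
  have := hcomm (p := p) f 1
  rwa [pow_one, pow_one] at this

/-- the base change of `V^#` -/
noncomputable def VsR (Vs : P →ₗ[WittVector p S] BC σS P) : BC Wf P →ₗ[WittVector p R] BC σR (BC Wf P) :=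
  BC.lift Wf ((Theta Wf σS σR (hcomm1 f)).comp Vs)

theorem VsR_tmul (Vs : P →ₗ[WittVector p S] BC σS P) (w : WittVector p R) (x : P) :
    VsR f Vs (BC.tmul Wf w x) = w • Theta Wf σS σR (hcomm1 f) (Vs x) := by
  rw [VsR, BC.lift_tmul, LinearMap.comp_apply]

variable (D : W4c1extbt610.Display3n p S P)
  (DR : W4c1extbt610.Display3n p R (BC Wf P)) (hDR : IsDispBaseChange f D DR)
  (Vs : P →ₗ[WittVector p S] BC σS P) (hVs : IsVSharp D Vs)

include hDR hVs in
theorem VsR_F (w : WittVector p R) (z : BC Wf P) :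
    VsR f Vs (w • DR.F z) = (p : WittVector p R) • BC.tmul σR w z := by
  induction z using BC.induction_on Wf with
  | zero => rw [map_zero, smul_zero, map_zero, BC.tmul_zero, smul_zero]
  | tmul u x =>
    rw [hDR.F_tmul, BC.smul_tmul, VsR_tmul]
    have h1 : Vs (D.F x) = (p : WittVector p S) • BC.tmul σS 1 x := by
      have := hVs.app_smul_F 1 x
      rwa [one_smul] at this
    rw [h1, LinearMap.map_smulₛₗ, Theta_tmul, map_natCast, map_one,
      BC.tmul_eq_smul_tmul_one Wf u x, ← BC.tmul_mul_apply σR w u,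
      BC.tmul_eq_smul_tmul_one σR (w * σR u), smul_comm]
  | add z₁ z₂ h₁ h₂ =>
    rw [map_add, smul_add, map_add, h₁, h₂, BC.tmul_add, smul_add]

theorem cc_surj : Function.Surjective (WittVector.constantCoeff : WittVector p R →+* R) := by
  intro s
  exact ⟨WittVector.teichmuller p s, WittVector.teichmuller_coeff_zero p s⟩

theorem eq_versch (b : WittVector p R) (hb : (WittVector.constantCoeff : WittVector p R →+* R) b = 0) :
    WittVector.verschiebung (b.shift 1) = b := by
  have ha0 : b.coeff 0 = 0 := hb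
  have := WittVector.verschiebung_shift b 0 (by
    intro i hi
    have : i = 0 := by omega
    rw [this, ha0])
  rw [this]
  ext n
  rw [WittVector.shift_coeff, zero_add]

include hDR hVs in
theorem VsR_Vinv_aux (z : BC Wf P) (hz : z ∈ DR.Q) :
    ∃ hq : z ∈ DR.Q, ∀ w : WittVector p R,
      VsR f Vs (w • DR.Vinv ⟨z, hq⟩) = BC.tmul σR w z := by
  have hmem : z ∈ AddSubgroup.closure
      (Gset Wf (WittVector.constantCoeff : WittVector p R →+* R) D.Q) := by
    apply ker_le Wf (WittVector.constantCoeff : WittVector p R →+* R) D.Q cc_surj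
    rw [hDR.Q_eq, LinearMap.mem_ker] at hz
    exact hz
  clear hz
  have hF : ∀ x : P, Vs (D.F x) = (p : WittVector p S) • BC.tmul σS 1 x := by
    intro x
    have := hVs.app_smul_F 1 x
    rwa [one_smul] at this
  have hV : ∀ y : D.Q, Vs (D.Vinv y) = BC.tmul σS 1 (y : P) := by
    intro y
    have := hVs.app_smul_Vinv 1 y
    rwa [one_smul] at this
  induction hmem using AddSubgroup.closure_induction with
  | mem z hz =>
    rcases hz with ⟨u, y, hy, rfl⟩ | ⟨b, x, hb, rfl⟩
    · have hq : BC.tmul Wf u y ∈ DR.Q := by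
        rw [hDR.Q_eq, LinearMap.mem_ker, bcQuotMap_tmul, Submodule.mkQ_apply,
          (Submodule.Quotient.mk_eq_zero D.Q).mpr hy]
        exact BC.tmul_zero _ _
      refine ⟨hq, fun w => ?_⟩
      rw [hDR.Vinv_tmul u ⟨y, hy⟩ hq, BC.smul_tmul, VsR_tmul, hV, Theta_tmul, map_one,
        BC.smul_tmul, mul_one, BC.tmul_eq_smul_tmul_one Wf u y, ← BC.tmul_mul_apply σR w u]
    · have hb' := eq_versch b hb
      have hq : BC.tmul Wf (WittVector.verschiebung (b.shift 1)) x ∈ DR.Q := by
        rw [hDR.Q_eq, LinearMap.mem_ker, bcQuotMap_tmul, hb', hb]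
        exact BC.zero_tmul _ _
      have hq' : BC.tmul Wf b x ∈ DR.Q := by rw [← hb']; exact hq
      refine ⟨hq', fun w => ?_⟩
      have h1 : DR.Vinv ⟨BC.tmul Wf b x, hq'⟩ = BC.tmul Wf (b.shift 1) (D.F x) := by
        rw [← hDR.Vinv_verschiebung_tmul (b.shift 1) x hq]
        congr 1
        exact Subtype.ext (show BC.tmul Wf b x = BC.tmul Wf (WittVector.verschiebung (b.shift 1)) x by rw [hb'])
      rw [h1, BC.smul_tmul, VsR_tmul, hF, LinearMap.map_smulₛₗ, Theta_tmul, map_natCast, map_one,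
        smul_smul, BC.tmul_eq_smul_tmul_one Wf b x, ← BC.tmul_mul_apply σR w b,
        BC.tmul_eq_smul_tmul_one σR (w * σR b)]
      congr 1
      rw [mul_assoc]
      congr 1
      conv_rhs => rw [← hb']
      exact (WittVector.frobenius_verschiebung (b.shift 1)).symm
  | zero =>
    refine ⟨DR.Q.zero_mem, fun w => ?_⟩
    have : (⟨0, DR.Q.zero_mem⟩ : DR.Q) = 0 := rfl
    rw [this, map_zero, smul_zero, map_zero, BC.tmul_zero]
  | add z₁ z₂ _ _ h₁ h₂ =>
    obtain ⟨hq₁, h₁⟩ := h₁
    obtain ⟨hq₂, h₂⟩ := h₂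
    refine ⟨DR.Q.add_mem hq₁ hq₂, fun w => ?_⟩
    have : (⟨z₁ + z₂, DR.Q.add_mem hq₁ hq₂⟩ : DR.Q) = ⟨z₁, hq₁⟩ + ⟨z₂, hq₂⟩ := rfl
    rw [this, map_add, smul_add, map_add, h₁, h₂, BC.tmul_add]
  | neg z _ h₁ =>
    obtain ⟨hq₁, h₁⟩ := h₁
    refine ⟨DR.Q.neg_mem hq₁, fun w => ?_⟩
    have : (⟨-z, DR.Q.neg_mem hq₁⟩ : DR.Q) = -⟨z, hq₁⟩ := rfl
    rw [this, map_neg, smul_neg, map_neg, h₁, BC.tmul_neg]

include hDR hVs in
theorem VsR_isVSharp : IsVSharp DR (VsR f Vs) where
  app_smul_F w z := VsR_F f D DR hDR Vs hVs w z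
  app_smul_Vinv w y := by
    obtain ⟨_, h⟩ := VsR_Vinv_aux f D DR hDR Vs hVs (y : BC Wf P) y.2
    exact h w

theorem vsp_tmul (Vs : P →ₗ[WittVector p S] BC σS P) (n : ℕ) (w : WittVector p R) (x : P) :
    vSharpPow (VsR f Vs) n (BC.tmul Wf w x) =
      w • Theta Wf (σS ^ (n + 1)) (σR ^ (n + 1)) (hcomm f (n + 1)) (vSharpPow Vs n x) := by
  induction n generalizing w x with
  | zero =>
    rw [vSharpPow_zero_apply, vSharpPow_zero_apply, VsR_tmul, map_smul]
    rw [Theta_cast Wf σS σR (hcomm1 f) (pow_one σS).symm (pow_one σR).symm (hcomm f (0 + 1))]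
  | succ n ih =>
    rw [vSharpPow_succ_apply, vSharpPow_succ_apply, VsR_tmul, map_smul, map_smul, map_smul]
    congr 1
    have hcc : RingHom.comp (RingHom.comp σR (σR ^ (n + 1))) Wf =
        RingHom.comp Wf (RingHom.comp σS (σS ^ (n + 1))) := by
      rw [comp_pow_eq_pow_succ, comp_pow_eq_pow_succ]
      exact hcomm f (n + 1 + 1)
    have key : ∀ t : BC σS P,
        BC.castHom (comp_pow_eq_pow_succ σR (n + 1))
          (BC.lift σR (BC.push (σR ^ (n + 1)) σR)
            (BC.map σR (vSharpPow (VsR f Vs) n) (Theta Wf σS σR (hcomm1 f) t))) =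
        Theta Wf (σS ^ (n + 1 + 1)) (σR ^ (n + 1 + 1)) (hcomm f (n + 1 + 1))
          (BC.castHom (comp_pow_eq_pow_succ σS (n + 1))
            (BC.lift σS (BC.push (σS ^ (n + 1)) σS) (BC.map σS (vSharpPow Vs n) t))) := by
      intro t
      induction t using BC.induction_on σS with
      | zero => simp only [map_zero]
      | tmul u y =>
        rw [Theta_tmul, BC.map_tmul, BC.map_tmul, ih, one_smul, BC.lift_tmul, BC.lift_tmul,
          map_smul, map_smul, LinearMap.map_smulₛₗ]
        congr 1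
        rw [Theta_push Wf (σS ^ (n + 1)) (σR ^ (n + 1)) (hcomm f (n + 1)) σS σR (hcomm1 f) hcc]
        exact Theta_cast Wf _ _ hcc (comp_pow_eq_pow_succ σS (n + 1))
          (comp_pow_eq_pow_succ σR (n + 1)) (hcomm f (n + 1 + 1)) _
      | add z₁ z₂ h₁ h₂ => simp only [map_add, h₁, h₂]
    exact key (Vs x)

theorem map_J_le :
    (W4c1extbt610.IV p S ⊔ Ideal.span {(p : WittVector p S)}).map Wf ≤
      W4c1extbt610.IV p R ⊔ Ideal.span {(p : WittVector p R)} := by
  rw [Ideal.map_sup]
  apply sup_le_sup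
  · rw [W4c1extbt610.IV, Ideal.map_span, Ideal.span_le]
    rintro _ ⟨_, ⟨w, rfl⟩, rfl⟩
    rw [WittVector.map_verschiebung]
    exact W4c1extbt610.verschiebung_mem_IV p R _
  · rw [Ideal.map_span, Set.image_singleton, map_natCast]

theorem VsR_nilp (Vs : P →ₗ[WittVector p S] BC σS P) (hnil : IsVNilpotent Vs) :
    IsVNilpotent (VsR f Vs) := by
  obtain ⟨n, hn⟩ := hnil
  refine ⟨n, fun z => ?_⟩
  induction z using BC.induction_on Wf with
  | zero => rw [map_zero]; exact Submodule.zero_mem _
  | tmul w x =>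
    rw [vsp_tmul]
    apply Submodule.smul_mem
    refine Submodule.smul_induction_on
      (p := fun t => Theta Wf (σS ^ (n + 1)) (σR ^ (n + 1)) (hcomm f (n + 1)) t ∈
        (W4c1extbt610.IV p R ⊔ Ideal.span {(p : WittVector p R)}) •
          (⊤ : Submodule (WittVector p R) (BC (σR ^ (n + 1)) (BC Wf P)))) (hn x) ?_ ?_
    · intro a ha m _
      change Theta Wf (σS ^ (n + 1)) (σR ^ (n + 1)) (hcomm f (n + 1)) (a • m) ∈ _
      rw [LinearMap.map_smulₛₗ]
      exact Submodule.smul_mem_smul (map_J_le f (Ideal.mem_map_of_mem _ ha)) Submodule.mem_top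
    · intro x y hx hy
      rw [map_add]; exact Submodule.add_mem _ hx hy
  | add z₁ z₂ h₁ h₂ => rw [map_add]; exact Submodule.add_mem _ h₁ h₂

theorem main (p : ℕ) [Fact p.Prime] (S R : Type u) [CommRing S] [CommRing R]
    (f : S →+* R)
    (P : Type v) [AddCommGroup P] [Module (WittVector p S) P] (D : W4c1extbt610.Display3n p S P)
    (hD : Dieu.IsDisplay D)
    (DR : W4c1extbt610.Display3n p R (Dieu.BC (WittVector.map f : WittVector p S →+* WittVector p R) P)) (hDR : Dieu.IsDispBaseChange f D DR) :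
    Dieu.IsDisplay DR := by
  obtain ⟨Vs, hVs, hnil⟩ := hD
  exact ⟨VsR f Vs, VsR_isVSharp f D DR hDR Vs hVs, VsR_nilp f Vs hnil⟩

end Witt



/-- Let p be a prime, S a commutative ring in which p is nilpotent, f : S → R a homomorphism of
commutative rings, and (P, Q, F, V⁻¹) a display over S, that is, a 3n-display whose operator V#
satisfies the nilpotence condition. Let (P_R, Q_R, F_R, V_R⁻¹) be a 3n-display structure on P_R =
W(R) ⊗_{W(S)} P which is the base change of (P, Q, F, V⁻¹) along f (Q_R the kernel of P_R → R ⊗_S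
(P/Q), F_R(w ⊗ x) = σ(w) ⊗ F x, V_R⁻¹(w ⊗ y) = σ(w) ⊗ V⁻¹ y for y ∈ Q, V_R⁻¹(V(w) ⊗ x) = w ⊗ F x).
Then (P_R, Q_R, F_R, V_R⁻¹) is a display over R. -/
theorem result (p : ℕ) [Fact p.Prime] (S R : Type u) [CommRing S] [CommRing R]
    (hp : IsNilpotent (p : S)) (f : S →+* R)
    (P : Type v) [AddCommGroup P] [Module (WittVector p S) P] (D : W4c1extbt610.Display3n p S P)
    (hD : Dieu.IsDisplay D)
    (DR : W4c1extbt610.Display3n p R (Dieu.BC (WittVector.map f : WittVector p S →+* WittVector p R) P)) (hDR : Dieu.IsDispBaseChange f D DR) :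
    Dieu.IsDisplay DR := by
  exact main p S R f P D hD DR hDR

end Groth.Agent.S16540
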