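import Groth.Statements.S16538
import Mathlib
import Groth.Agent.S16540

set_option autoImplicit false
universe u v
open Disp

namespace Groth.Agent.S16538

set_option linter.style.haveILetI false
set_option linter.unusedSectionVars false
set_option linter.unusedVariables false


open Dieu TensorProduct


section General

variable {A : Type u} {B : Type u} [CommRing A] [CommRing B] (g : A →+* B)
  {P : Type v} [AddCommGroup P] [Module A P]

theorem map_id' : BC.map g (LinearMap.id : P →ₗ[A] P) = LinearMap.id := by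
  apply BC.ext g
  intro x
  rw [BC.map_tmul]; rfl

theorem map_comp' {P' P'' : Type v} [AddCommGroup P'] [Module A P'] [AddCommGroup P'']
    [Module A P''] (ψ : P →ₗ[A] P') (ψ' : P' →ₗ[A] P'') :
    BC.map g (ψ'.comp ψ) = (BC.map g ψ').comp (BC.map g ψ) := by
  apply BC.ext g
  intro x
  rw [BC.map_tmul, LinearMap.comp_apply, LinearMap.comp_apply, BC.map_tmul, BC.map_tmul]

theorem map_add' {P' : Type v} [AddCommGroup P'] [Module A P'] (ψ ψ' : P →ₗ[A] P') :
    BC.map g (ψ + ψ') = BC.map g ψ + BC.map g ψ' := by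
  apply BC.ext g
  intro x
  rw [BC.map_tmul, LinearMap.add_apply, LinearMap.add_apply, BC.map_tmul, BC.map_tmul, BC.tmul_add]

theorem map_zero' {P' : Type v} [AddCommGroup P'] [Module A P'] :
    BC.map g (0 : P →ₗ[A] P') = 0 := by
  apply BC.ext g
  intro x
  rw [BC.map_tmul, LinearMap.zero_apply, LinearMap.zero_apply, BC.tmul_zero]

theorem tmul_one_smul (a : A) (x : P) : BC.tmul g 1 (a • x) = g a • BC.tmul g 1 x := by
  rw [← BC.tmul_apply_eq, BC.tmul_eq_smul_tmul_one]

theorem tmul_one_sum {ι : Type*} (s : Finset ι) (a : ι → A) (x : ι → P) :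
    BC.tmul g 1 (∑ i ∈ s, a i • x i) = ∑ i ∈ s, g (a i) • BC.tmul g 1 (x i) := by
  classical
  induction s using Finset.induction_on with
  | empty => simp
  | insert i s hi ih =>
    rw [Finset.sum_insert hi, Finset.sum_insert hi, BC.tmul_add, ih, tmul_one_smul]

theorem span_tmul_one (X : Set P) (hX : Submodule.span A X = ⊤) :
    Submodule.span B ((fun x => BC.tmul g 1 x) '' X) = ⊤ := by
  rw [eq_top_iff]
  intro z hz
  clear hz
  induction z using BC.induction_on g with
  | zero => exact Submodule.zero_mem _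
  | tmul b x =>
    rw [BC.tmul_eq_smul_tmul_one]
    apply Submodule.smul_mem
    have hx : x ∈ Submodule.span A X := hX ▸ Submodule.mem_top
    induction hx using Submodule.span_induction with
    | mem y hy => exact Submodule.subset_span ⟨y, hy, rfl⟩
    | zero => rw [BC.tmul_zero]; exact Submodule.zero_mem _
    | add y z _ _ hy hz => rw [BC.tmul_add]; exact Submodule.add_mem _ hy hz
    | smul a y _ hy => rw [tmul_one_smul]; exact Submodule.smul_mem _ _ hy
  | add z₁ z₂ h₁ h₂ => exact Submodule.add_mem _ h₁ h₂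

theorem finite_BC [Module.Finite A P] : Module.Finite B (BC g P) := by
  classical
  obtain ⟨s, hs⟩ := (Module.finite_def.mp (inferInstance : Module.Finite A P))
  refine ⟨⟨s.image (fun x => BC.tmul g 1 x), ?_⟩⟩
  rw [Finset.coe_image]
  exact span_tmul_one g _ hs

/-- coefficientwise `g` on finitely supported functions. -/
noncomputable def mapRangeSL (ι : Type*) : (ι →₀ A) →ₛₗ[g] (ι →₀ B) where
  toFun c := c.mapRange g (map_zero g)
  map_add' c d := Finsupp.mapRange_add (map_add g) c d
  map_smul' a c := by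
    ext y
    simp [Finsupp.mapRange_apply]

theorem projective_BC [Module.Projective A P] : Module.Projective B (BC g P) := by
  obtain ⟨sA, hsA⟩ := (Module.projective_def'.mp (inferInstance : Module.Projective A P))
  let i : BC g P →ₗ[B] (P →₀ B) := BC.lift g ((mapRangeSL g P).comp sA)
  let s : (P →₀ B) →ₗ[B] BC g P := Finsupp.linearCombination B (fun y => BC.tmul g 1 y)
  refine Module.Projective.of_split i s ?_
  apply BC.ext g
  intro x
  rw [LinearMap.comp_apply, LinearMap.id_apply]
  change s (BC.lift g ((mapRangeSL g P).comp sA) (BC.tmul g 1 x)) = _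
  rw [BC.lift_tmul, one_smul, LinearMap.comp_apply]
  change Finsupp.linearCombination B (fun y => BC.tmul g 1 y) ((sA x).mapRange g (map_zero g)) = _
  rw [Finsupp.linearCombination_apply, Finsupp.sum_mapRange_index (by intro y; rw [zero_smul]),
    Finsupp.sum]
  have hx : x = ∑ y ∈ (sA x).support, (sA x) y • y := by
    have := congrArg (fun φ : P →ₗ[A] P => φ x) hsA
    simp only [LinearMap.comp_apply, LinearMap.id_apply, Finsupp.linearCombination_apply] at this
    rw [Finsupp.sum] at this
    exact this.symm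
  conv_rhs => rw [hx]
  rw [tmul_one_sum]

end General

section Semi

variable {A : Type u} {B : Type u} [CommRing A] [CommRing B] (f' : A →+* B)
  (gA : A →+* A) (gB : B →+* B) (hc : gB.comp f' = f'.comp gA)
  {P P' : Type v} [AddCommGroup P] [Module A P] [AddCommGroup P'] [Module A P']

/-- `x ↦ 1 ⊗ φ x`. -/
noncomputable def phiS (φ : P →ₛₗ[gA] P') : P →ₛₗ[f'.comp gA] BC f' P' where
  toFun x := BC.tmul f' 1 (φ x)
  map_add' x y := by rw [map_add, BC.tmul_add]
  map_smul' a x := by
    rw [LinearMap.map_smulₛₗ, tmul_one_smul, RingHom.comp_apply]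

/-- base change of a semilinear map: `w ⊗ x ↦ gB w ⊗ φ x`. -/
noncomputable def bcSemi (φ : P →ₛₗ[gA] P') : BC f' P →ₛₗ[gB] BC f' P' :=
  ((BC.lift (f'.comp gA) (phiS f' gA φ)).comp (BC.castHom hc)).comp (BC.push f' gB)

theorem bcSemi_tmul (φ : P →ₛₗ[gA] P') (w : B) (x : P) :
    bcSemi f' gA gB hc φ (BC.tmul f' w x) = BC.tmul f' (gB w) (φ x) := by
  rw [bcSemi, LinearMap.comp_apply, LinearMap.comp_apply, BC.push_tmul, BC.castHom_tmul,
    BC.lift_tmul]
  change gB w • BC.tmul f' 1 (φ x) = _
  rw [BC.smul_tmul, mul_one]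

end Semi

section Witt

open W4c1extbt610

variable {p : ℕ} [Fact p.Prime] {S R : Type u} [CommRing S] [CommRing R] (f : S →+* R)
  {P : Type v} [AddCommGroup P] [Module (WittVector p S) P]

set_option hygiene false in
local notation "σS" => (WittVector.frobenius : WittVector p S →+* WittVector p S)
set_option hygiene false in
local notation "σR" => (WittVector.frobenius : WittVector p R →+* WittVector p R)
set_option hygiene false in
local notation "Wf" => (WittVector.map f : WittVector p S →+* WittVector p R)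

theorem IV_coeff_zero (a : WittVector p R) (ha : a ∈ IV p R) : a.coeff 0 = 0 := by
  rw [IV] at ha
  induction ha using Submodule.span_induction with
  | mem x hx =>
    obtain ⟨w, rfl⟩ := hx
    exact WittVector.verschiebung_coeff_zero w
  | zero => exact WittVector.zero_coeff p R 0
  | add x y _ _ hx hy => rw [WittVector.add_coeff_zero, hx, hy, add_zero]
  | smul b x _ hx => rw [smul_eq_mul, WittVector.mul_coeff_zero, hx, mul_zero]

theorem eq_versch (b : WittVector p R) (hb : b.coeff 0 = 0) :
    WittVector.verschiebung (b.shift 1) = b :=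
  Groth.Agent.S16540.eq_versch b hb

theorem mem_IV_iff (a : WittVector p R) : a ∈ IV p R ↔ a.coeff 0 = 0 :=
  ⟨IV_coeff_zero a, fun h => by rw [← eq_versch a h]; exact verschiebung_mem_IV p R _⟩

variable (D : Display3n p S P) (L T : Submodule (WittVector p S) P) (hLT : IsCompl L T)
  (hQ : D.Q = L ⊔ IV p S • T)

include hQ in
theorem hLQ : L ≤ D.Q := hQ ▸ le_sup_left

/-- projection to `L`, as a map into `Q`. -/
noncomputable def pLQ : P →ₗ[WittVector p S] D.Q :=
  (Submodule.inclusion (hLQ D L T hQ)).comp (L.projectionOnto T hLT)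

theorem pLQ_coe (x : P) : (pLQ D L T hLT hQ x : P) = L.projection T hLT x := rfl

/-- `G = V⁻¹ ∘ pr_L + F ∘ pr_T`. -/
noncomputable def GS : P →ₛₗ[σS] P :=
  D.Vinv.comp (pLQ D L T hLT hQ) + D.F.comp (T.projection L hLT.symm)

theorem GS_apply (x : P) : GS D L T hLT hQ x =
    D.Vinv (pLQ D L T hLT hQ x) + D.F (T.projection L hLT.symm x) := rfl

theorem GS_of_mem_T (t : P) (ht : t ∈ T) : GS D L T hLT hQ t = D.F t := by
  rw [GS_apply]
  have h1 : pLQ D L T hLT hQ t = 0 := by
    apply Subtype.ext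
    rw [pLQ_coe]
    exact Submodule.projection_apply_of_mem_right hLT ht
  rw [h1, map_zero, zero_add, Submodule.projection_apply_of_mem_left hLT.symm ht]

theorem GS_of_mem_L (l : P) (hl : l ∈ L) :
    GS D L T hLT hQ l = D.Vinv ⟨l, hLQ D L T hQ hl⟩ := by
  rw [GS_apply, Submodule.projection_apply_of_mem_right hLT.symm hl, map_zero, add_zero]
  congr 1
  apply Subtype.ext
  rw [pLQ_coe]
  exact Submodule.projection_apply_of_mem_left hLT hl

/-- `F y = p • V⁻¹ y` on `Q`. -/
theorem F_eq_p_Vinv (y : D.Q) : D.F (y : P) = (p : WittVector p S) • D.Vinv y := by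
  have h1 := D.Vinv_verschiebung_smul 1 (y : P)
  rw [one_smul] at h1
  rw [← h1]
  have h2 : (⟨WittVector.verschiebung (1 : WittVector p S) • (y : P),
      D.IV_smul_le (Submodule.smul_mem_smul (verschiebung_mem_IV p S 1) Submodule.mem_top)⟩ : D.Q) =
      WittVector.verschiebung (1 : WittVector p S) • y := rfl
  rw [h2, LinearMap.map_smulₛₗ, WittVector.frobenius_verschiebung, one_mul]

include hQ in
theorem pT_mem_of_mem_Q (y : P) (hy : y ∈ D.Q) : T.projection L hLT.symm y ∈ IV p S • T := by
  rw [hQ] at hy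
  obtain ⟨l, hl, t', ht', rfl⟩ := Submodule.mem_sup.mp hy
  have htT : t' ∈ T := Submodule.smul_le_right ht'
  rw [map_add, Submodule.projection_apply_of_mem_right hLT.symm hl, zero_add,
    Submodule.projection_apply_of_mem_left hLT.symm htT]
  exact ht'

end Witt

section Coord

open W4c1extbt610

variable {p : ℕ} [Fact p.Prime] {R : Type u} [CommRing R]
  {M M' : Type v} [AddCommGroup M] [Module (WittVector p R) M] [AddCommGroup M']
  [Module (WittVector p R) M']

set_option hygiene false in
local notation "σR" => (WittVector.frobenius : WittVector p R →+* WittVector p R)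

variable (G : M →ₛₗ[σR] M') (s : M →ₗ[WittVector p R] (M →₀ WittVector p R))
  (hs : (Finsupp.linearCombination (WittVector p R) (id : M → M)).comp s = LinearMap.id)

theorem shift_zero' : (0 : WittVector p R).shift 1 = 0 := by
  ext n
  rw [WittVector.shift_coeff, WittVector.zero_coeff, WittVector.zero_coeff]

/-- coordinates divided by `V`. -/
noncomputable def tt (m : M) : M →₀ WittVector p R :=
  (s m).mapRange (fun c => c.shift 1) shift_zero'

/-- `c ↦ Σ c_y • G y`. -/
noncomputable def LG : (M →₀ WittVector p R) →ₗ[WittVector p R] M' :=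
  Finsupp.linearCombination (WittVector p R) (fun y => G y)

/-- `V⁻¹G`. -/
noncomputable def Psi (m : M) : M' := LG G (tt s m)

/-- all coordinates lie in `I_R`. -/
def VV (m : M) : Prop := ∀ y, (s m y).coeff 0 = 0

theorem VV_add {m m' : M} (hm : VV s m) (hm' : VV s m') : VV s (m + m') := by
  intro y
  rw [map_add, Finsupp.add_apply, WittVector.add_coeff_zero, hm y, hm' y, add_zero]

theorem VV_smul {m : M} (a : WittVector p R) (hm : VV s m) : VV s (a • m) := by
  intro y
  rw [map_smul, Finsupp.smul_apply, smul_eq_mul, WittVector.mul_coeff_zero, hm y, mul_zero]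

theorem VV_zero : VV s 0 := by
  intro y
  rw [map_zero, Finsupp.zero_apply, WittVector.zero_coeff]

theorem VV_of_mem {m : M} (hm : m ∈ IV p R • (⊤ : Submodule (WittVector p R) M)) : VV s m := by
  refine Submodule.smul_induction_on (p := fun m => VV s m) hm ?_ ?_
  · intro a ha z _ y
    change (s (a • z) y).coeff 0 = 0
    rw [map_smul, Finsupp.smul_apply, smul_eq_mul, WittVector.mul_coeff_zero,
      IV_coeff_zero a ha, zero_mul]
  · intro x y hx hy
    exact VV_add s hx hy

theorem versch_tt {m : M} (hm : VV s m) (y : M) :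
    WittVector.verschiebung (tt s m y) = s m y := by
  rw [tt, Finsupp.mapRange_apply]
  exact eq_versch _ (hm y)

theorem tt_add {m m' : M} (hm : VV s m) (hm' : VV s m') :
    tt s (m + m') = tt s m + tt s m' := by
  ext1 y
  apply WittVector.verschiebung_injective p R
  have h1 : WittVector.verschiebung ((tt s m + tt s m') y) =
      WittVector.verschiebung (tt s m y) + WittVector.verschiebung (tt s m' y) := by
    rw [Finsupp.add_apply, map_add]
  rw [h1, versch_tt s hm, versch_tt s hm', versch_tt s (VV_add s hm hm'), map_add,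
    Finsupp.add_apply]

theorem tt_smul {m : M} (hm : VV s m) (a : WittVector p R) :
    tt s (a • m) = σR a • tt s m := by
  ext1 y
  apply WittVector.verschiebung_injective p R
  rw [versch_tt s (VV_smul s a hm), Finsupp.smul_apply, smul_eq_mul, mul_comm,
    WittVector.verschiebung_mul_frobenius, versch_tt s hm, map_smul, Finsupp.smul_apply,
    smul_eq_mul, mul_comm]

theorem Psi_add {m m' : M} (hm : VV s m) (hm' : VV s m') :
    Psi G s (m + m') = Psi G s m + Psi G s m' := by
  rw [Psi, tt_add s hm hm', map_add]; rfl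

theorem Psi_smul {m : M} (hm : VV s m) (a : WittVector p R) :
    Psi G s (a • m) = σR a • Psi G s m := by
  rw [Psi, tt_smul s hm, map_smul]; rfl

theorem LG_mapRange (c : M →₀ WittVector p R) :
    LG G (mapRangeSL σR M c) = G (Finsupp.linearCombination (WittVector p R) (id : M → M) c) := by
  change Finsupp.linearCombination (WittVector p R) (fun y => G y)
    (c.mapRange σR (map_zero σR)) = _
  rw [Finsupp.linearCombination_apply, Finsupp.sum_mapRange_index (by intro y; rw [zero_smul]),
    Finsupp.linearCombination_apply, map_finsuppSum]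
  apply Finsupp.sum_congr
  intro y _
  rw [LinearMap.map_smulₛₗ]; rfl

include hs in
theorem Psi_versch (w : WittVector p R) (z : M) :
    Psi G s (WittVector.verschiebung w • z) = w • G z := by
  have h1 : tt s (WittVector.verschiebung w • z) = w • mapRangeSL σR M (s z) := by
    have hV : VV s (WittVector.verschiebung w • z) := by
      intro y
      rw [map_smul, Finsupp.smul_apply, smul_eq_mul, WittVector.mul_coeff_zero,
        WittVector.verschiebung_coeff_zero, zero_mul]
    ext1 y
    apply WittVector.verschiebung_injective p R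
    rw [versch_tt s hV, map_smul, Finsupp.smul_apply, Finsupp.smul_apply, smul_eq_mul, smul_eq_mul]
    change _ = WittVector.verschiebung (w * ((s z).mapRange σR (map_zero σR)) y)
    rw [Finsupp.mapRange_apply, WittVector.verschiebung_mul_frobenius]
  rw [Psi, h1, map_smul, LG_mapRange]
  have h2 := congrArg (fun φ : M →ₗ[WittVector p R] M => φ z) hs
  simp only [LinearMap.comp_apply, LinearMap.id_apply] at h2
  rw [h2]

end Coord

section Witt2

open W4c1extbt610

variable {p : ℕ} [Fact p.Prime] {S R : Type u} [CommRing S] [CommRing R] (f : S →+* R)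
  {P : Type v} [AddCommGroup P] [Module (WittVector p S) P]

set_option hygiene false in
local notation "σS" => (WittVector.frobenius : WittVector p S →+* WittVector p S)
set_option hygiene false in
local notation "σR" => (WittVector.frobenius : WittVector p R →+* WittVector p R)
set_option hygiene false in
local notation "Wf" => (WittVector.map f : WittVector p S →+* WittVector p R)
set_option hygiene false in
local notation "cc" => (WittVector.constantCoeff : WittVector p R →+* R)

variable (D : Display3n p S P) (L T : Submodule (WittVector p S) P) (hLT : IsCompl L T)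
  (hQ : D.Q = L ⊔ IV p S • T)

/-- `Q_R`. -/
noncomputable def QR : Submodule (WittVector p R) (BC Wf P) := LinearMap.ker (bcQuotMap f D.Q)

/-- `F_R`. -/
noncomputable def FR : BC Wf P →ₛₗ[σR] BC Wf P :=
  bcSemi Wf σS σR (Groth.Agent.S16540.hcomm1 f) D.F

/-- `G_R`. -/
noncomputable def GR : BC Wf P →ₛₗ[σR] BC Wf P :=
  bcSemi Wf σS σR (Groth.Agent.S16540.hcomm1 f) (GS D L T hLT hQ)

/-- projection to `L_R`. -/
noncomputable def piL : BC Wf P →ₗ[WittVector p R] BC Wf P := BC.map Wf (L.projection T hLT)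

/-- projection to `T_R`. -/
noncomputable def piT : BC Wf P →ₗ[WittVector p R] BC Wf P :=
  BC.map Wf (T.projection L hLT.symm)

theorem piL_add_piT (z : BC Wf P) : piL f L T hLT z + piT f L T hLT z = z := by
  rw [piL, piT, ← LinearMap.add_apply, ← map_add', Submodule.projection_add_projection_eq_id,
    map_id']
  rfl

theorem piL_piT (z : BC Wf P) : piL f L T hLT (piT f L T hLT z) = 0 := by
  rw [piL, piT, ← LinearMap.comp_apply, ← map_comp']
  have : (L.projection T hLT).comp (T.projection L hLT.symm) = 0 := by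
    ext x
    rw [LinearMap.comp_apply, LinearMap.zero_apply]
    exact Submodule.projection_apply_of_mem_right hLT (Submodule.projection_apply_mem _ _)
  rw [this, map_zero']
  rfl

theorem piL_piL (z : BC Wf P) : piL f L T hLT (piL f L T hLT z) = piL f L T hLT z := by
  rw [piL, ← LinearMap.comp_apply, ← map_comp']
  have : (L.projection T hLT).comp (L.projection T hLT) = L.projection T hLT := by
    ext x
    rw [LinearMap.comp_apply]
    exact Submodule.projection_apply_of_mem_left hLT (Submodule.projection_apply_mem _ _)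
  rw [this]

theorem piL_tmul (u : WittVector p R) (x : P) :
    piL f L T hLT (BC.tmul Wf u x) = BC.tmul Wf u (L.projection T hLT x) := by
  rw [piL, BC.map_tmul]

theorem piT_tmul (u : WittVector p R) (x : P) :
    piT f L T hLT (BC.tmul Wf u x) = BC.tmul Wf u (T.projection L hLT.symm x) := by
  rw [piT, BC.map_tmul]

theorem tmul_mem_QR (u : WittVector p R) (y : P) (hy : y ∈ D.Q) : BC.tmul Wf u y ∈ QR f D := by
  rw [QR, LinearMap.mem_ker, bcQuotMap_tmul, Submodule.mkQ_apply,
    (Submodule.Quotient.mk_eq_zero D.Q).mpr hy]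
  exact BC.tmul_zero _ _

theorem smul_mem_QR (a : WittVector p R) (ha : a.coeff 0 = 0) (z : BC Wf P) : a • z ∈ QR f D := by
  rw [QR, LinearMap.mem_ker, LinearMap.map_smulₛₗ]
  change a.coeff 0 • _ = 0
  rw [ha, zero_smul]

theorem versch_tmul_mem_QR (b : WittVector p R) (x : P) :
    BC.tmul Wf (WittVector.verschiebung b) x ∈ QR f D := by
  rw [BC.tmul_eq_smul_tmul_one]
  exact smul_mem_QR f D _ (WittVector.verschiebung_coeff_zero b) _

theorem QR_induction {C : BC Wf P → Prop}
    (h1 : ∀ (u : WittVector p R) (y : P), y ∈ D.Q → C (BC.tmul Wf u y))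
    (h2 : ∀ (b : WittVector p R) (x : P), C (BC.tmul Wf (WittVector.verschiebung b) x))
    (h0 : C 0) (hadd : ∀ a b, C a → C b → C (a + b)) (hneg : ∀ a, C a → C (-a))
    (z : BC Wf P) (hz : z ∈ QR f D) : C z := by
  have hmem : z ∈ AddSubgroup.closure (Groth.Agent.S16540.Gset Wf cc D.Q) := by
    apply Groth.Agent.S16540.ker_le Wf cc D.Q Groth.Agent.S16540.cc_surj
    rw [QR, LinearMap.mem_ker] at hz
    exact hz
  clear hz
  induction hmem using AddSubgroup.closure_induction with
  | mem z hz =>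
    rcases hz with ⟨u, y, hy, rfl⟩ | ⟨b, x, hb, rfl⟩
    · exact h1 u y hy
    · rw [← eq_versch b hb]
      exact h2 _ x
  | zero => exact h0
  | add z₁ z₂ _ _ h₁ h₂ => exact hadd _ _ h₁ h₂
  | neg z _ h₁ => exact hneg _ h₁

theorem map_mem_IV (a : WittVector p S) (ha : a ∈ IV p S) : Wf a ∈ IV p R := by
  rw [mem_IV_iff]
  rw [WittVector.map_coeff, IV_coeff_zero a ha, map_zero]

theorem tmul_IVT_mem (u : WittVector p R) (t' : P) (ht' : t' ∈ IV p S • T) :
    BC.tmul Wf u t' ∈ IV p R • LinearMap.range (piT f L T hLT) := by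
  refine Submodule.smul_induction_on
    (p := fun t' => BC.tmul Wf u t' ∈ IV p R • LinearMap.range (piT f L T hLT)) ht' ?_ ?_
  · intro a ha t ht
    change BC.tmul Wf u (a • t) ∈ _
    rw [← BC.tmul_mul_apply, BC.tmul_eq_smul_tmul_one]
    refine Submodule.smul_mem_smul (Ideal.mul_mem_left _ _ (map_mem_IV f a ha)) ⟨BC.tmul Wf 1 t, ?_⟩
    rw [piT_tmul, Submodule.projection_apply_of_mem_left hLT.symm ht]
  · intro x y hx hy
    rw [BC.tmul_add]
    exact Submodule.add_mem _ hx hy

include hQ in
theorem piT_mem (z : BC Wf P) (hz : z ∈ QR f D) :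
    piT f L T hLT z ∈ IV p R • LinearMap.range (piT f L T hLT) := by
  refine QR_induction f D (C := fun z => piT f L T hLT z ∈
    IV p R • LinearMap.range (piT f L T hLT)) ?_ ?_ ?_ ?_ ?_ z hz
  · intro u y hy
    rw [piT_tmul]
    exact tmul_IVT_mem f L T hLT u _ (pT_mem_of_mem_Q D L T hLT hQ y hy)
  · intro b x
    rw [piT_tmul, BC.tmul_eq_smul_tmul_one]
    refine Submodule.smul_mem_smul (verschiebung_mem_IV p R b) ⟨BC.tmul Wf 1 x, ?_⟩
    rw [piT_tmul]
  · rw [map_zero]; exact Submodule.zero_mem _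
  · intro a b ha hb
    rw [map_add]; exact Submodule.add_mem _ ha hb
  · intro a ha
    rw [map_neg]; exact Submodule.neg_mem _ ha

variable (s : BC Wf P →ₗ[WittVector p R] (BC Wf P →₀ WittVector p R))
  (hs : (Finsupp.linearCombination (WittVector p R) (id : BC Wf P → BC Wf P)).comp s =
    LinearMap.id)

/-- `V_R⁻¹` as a function on all of `P_R`. -/
noncomputable def vR (q : BC Wf P) : BC Wf P :=
  GR f D L T hLT hQ (piL f L T hLT q) + Psi (GR f D L T hLT hQ) s (piT f L T hLT q)

include hQ in
theorem VV_piT (z : BC Wf P) (hz : z ∈ QR f D) : VV s (piT f L T hLT z) :=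
  VV_of_mem s (Submodule.smul_mono le_rfl le_top (piT_mem f D L T hLT hQ z hz))

theorem vR_add (z z' : BC Wf P) (hz : z ∈ QR f D) (hz' : z' ∈ QR f D) :
    vR f D L T hLT hQ s (z + z') = vR f D L T hLT hQ s z + vR f D L T hLT hQ s z' := by
  rw [vR, vR, vR, map_add, map_add, map_add,
    Psi_add _ s (VV_piT f D L T hLT hQ s z hz) (VV_piT f D L T hLT hQ s z' hz')]
  abel

theorem vR_smul (a : WittVector p R) (z : BC Wf P) (hz : z ∈ QR f D) :
    vR f D L T hLT hQ s (a • z) = σR a • vR f D L T hLT hQ s z := by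
  rw [vR, vR, (piL f L T hLT).map_smul, (piT f L T hLT).map_smul, LinearMap.map_smulₛₗ,
    Psi_smul _ s (VV_piT f D L T hLT hQ s z hz), smul_add]

theorem GR_tmul (u : WittVector p R) (x : P) :
    GR f D L T hLT hQ (BC.tmul Wf u x) = BC.tmul Wf (σR u) (GS D L T hLT hQ x) :=
  bcSemi_tmul _ _ _ _ _ u x

include hQ in
theorem IVT_le_Q : IV p S • T ≤ D.Q := hQ ▸ le_sup_right

include hs in
theorem Psi_tmul_IVT (u : WittVector p R) (t' : P) (ht' : t' ∈ IV p S • T) :
    ∃ hq : t' ∈ D.Q, VV s (BC.tmul Wf u t') ∧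
      Psi (GR f D L T hLT hQ) s (BC.tmul Wf u t') = BC.tmul Wf (σR u) (D.Vinv ⟨t', hq⟩) := by
  refine Submodule.smul_induction_on
    (p := fun t' => ∃ hq : t' ∈ D.Q, VV s (BC.tmul Wf u t') ∧
      Psi (GR f D L T hLT hQ) s (BC.tmul Wf u t') = BC.tmul Wf (σR u) (D.Vinv ⟨t', hq⟩)) ht' ?_ ?_
  · intro a ha t ht
    have ha' := eq_versch a (IV_coeff_zero a ha)
    have hq : a • t ∈ D.Q := D.IV_smul_le (Submodule.smul_mem_smul ha Submodule.mem_top)
    have h1 : BC.tmul Wf u (a • t) =
        WittVector.verschiebung (Wf (a.shift 1) * σR u) • BC.tmul Wf 1 t := by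
      rw [← BC.tmul_mul_apply, WittVector.verschiebung_mul_frobenius,
        ← WittVector.map_verschiebung]
      rw [ha', BC.smul_tmul, mul_one, mul_comm]
    refine ⟨hq, ?_, ?_⟩
    · rw [h1]
      exact VV_of_mem s (Submodule.smul_mem_smul (verschiebung_mem_IV p R _) Submodule.mem_top)
    · rw [h1, Psi_versch _ s hs, GR_tmul, map_one, GS_of_mem_T D L T hLT hQ t ht, BC.smul_tmul,
        mul_one]
      have h2 : D.Vinv ⟨a • t, hq⟩ = a.shift 1 • D.F t := by
        rw [← D.Vinv_verschiebung_smul (a.shift 1) t]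
        congr 1
        exact Subtype.ext (show a • t = WittVector.verschiebung (a.shift 1) • t by rw [ha'])
      rw [h2, ← BC.tmul_mul_apply, mul_comm]
  · rintro x y ⟨hx, hVx, hPx⟩ ⟨hy, hVy, hPy⟩
    refine ⟨D.Q.add_mem hx hy, ?_, ?_⟩
    · rw [BC.tmul_add]; exact VV_add s hVx hVy
    · rw [BC.tmul_add, Psi_add _ s hVx hVy, hPx, hPy, ← BC.tmul_add, ← map_add]
      rfl

include hs in
theorem vR_tmul (u : WittVector p R) (y : P) (hy : y ∈ D.Q) :
    vR f D L T hLT hQ s (BC.tmul Wf u y) = BC.tmul Wf (σR u) (D.Vinv ⟨y, hy⟩) := by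
  obtain ⟨hq, _, hP⟩ := Psi_tmul_IVT f D L T hLT hQ s hs u _ (pT_mem_of_mem_Q D L T hLT hQ y hy)
  rw [vR, piL_tmul, piT_tmul, hP, GR_tmul,
    GS_of_mem_L D L T hLT hQ _ (Submodule.projection_apply_mem hLT y), ← BC.tmul_add, ← map_add]
  congr 2
  exact Subtype.ext (Submodule.projection_add_projection_eq_self hLT y)

include hs in
theorem vR_versch_tmul (w : WittVector p R) (x : P) :
    vR f D L T hLT hQ s (BC.tmul Wf (WittVector.verschiebung w) x) = BC.tmul Wf w (D.F x) := by
  rw [vR, piL_tmul, piT_tmul, GR_tmul,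
    GS_of_mem_L D L T hLT hQ _ (Submodule.projection_apply_mem hLT x),
    BC.tmul_eq_smul_tmul_one Wf (WittVector.verschiebung w), Psi_versch _ s hs, GR_tmul, map_one,
    GS_of_mem_T D L T hLT hQ _ (Submodule.projection_apply_mem hLT.symm x), BC.smul_tmul, mul_one,
    WittVector.frobenius_verschiebung]
  have h1 : (p : WittVector p R) = Wf (p : WittVector p S) := (map_natCast Wf p).symm
  rw [h1, BC.tmul_mul_apply, ← F_eq_p_Vinv, ← BC.tmul_add, ← map_add]
  change BC.tmul Wf w (D.F (L.projection T hLT x + T.projection L hLT.symm x)) = _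
  rw [Submodule.projection_add_projection_eq_self hLT x]

include hQ in
theorem vR_zero : vR f D L T hLT hQ s 0 = 0 := by
  have := vR_smul f D L T hLT hQ s 0 0 (Submodule.zero_mem _)
  rw [zero_smul, map_zero, zero_smul] at this
  exact this

/-- `V_R⁻¹` as semilinear map on `Q_R`. -/
noncomputable def VinvR : QR f D →ₛₗ[σR] BC Wf P where
  toFun q := vR f D L T hLT hQ s (q : BC Wf P)
  map_add' q q' := vR_add f D L T hLT hQ s _ _ q.2 q'.2
  map_smul' a q := vR_smul f D L T hLT hQ s a _ q.2

theorem IV_smul_le_QR : IV p R • (⊤ : Submodule (WittVector p R) (BC Wf P)) ≤ QR f D :=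
  Submodule.smul_le.mpr (fun a ha z _ => smul_mem_QR f D a (IV_coeff_zero a ha) z)

include hQ in
theorem range_piL_le : LinearMap.range (piL f L T hLT) ≤ QR f D := by
  rintro _ ⟨z, rfl⟩
  induction z using BC.induction_on Wf with
  | zero => rw [map_zero]; exact Submodule.zero_mem _
  | tmul u x =>
    rw [piL_tmul]
    exact tmul_mem_QR f D u _ (hLQ D L T hQ (Submodule.projection_apply_mem hLT x))
  | add z₁ z₂ h₁ h₂ => rw [map_add]; exact Submodule.add_mem _ h₁ h₂

include hQ in
theorem QR_eq : QR f D = LinearMap.range (piL f L T hLT) ⊔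
    IV p R • LinearMap.range (piT f L T hLT) := by
  apply le_antisymm
  · intro z hz
    rw [← piL_add_piT f L T hLT z]
    exact Submodule.add_mem _ (Submodule.mem_sup_left ⟨z, rfl⟩)
      (Submodule.mem_sup_right (piT_mem f D L T hLT hQ z hz))
  · apply sup_le (range_piL_le f D L T hLT hQ)
    exact (Submodule.smul_mono le_rfl le_top).trans (IV_smul_le_QR f D)

theorem isCompl_ranges :
    IsCompl (LinearMap.range (piL f L T hLT)) (LinearMap.range (piT f L T hLT)) := by
  constructor
  · rw [Submodule.disjoint_def]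
    rintro _ ⟨a, rfl⟩ ⟨b, hb⟩
    rw [← piL_piL, ← hb, piL_piT]
  · rw [codisjoint_iff, eq_top_iff]
    intro z _
    rw [← piL_add_piT f L T hLT z]
    exact Submodule.add_mem _ (Submodule.mem_sup_left ⟨z, rfl⟩) (Submodule.mem_sup_right ⟨z, rfl⟩)

include hs in
theorem span_range_VinvR :
    Submodule.span (WittVector p R) (Set.range (VinvR f D L T hLT hQ s)) = ⊤ := by
  have h1 := span_tmul_one Wf (Set.range D.Vinv) D.span_range_Vinv
  rw [eq_top_iff, ← h1]
  apply Submodule.span_mono
  rintro _ ⟨_, ⟨y, rfl⟩, rfl⟩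
  refine ⟨⟨BC.tmul Wf 1 (y : P), tmul_mem_QR f D 1 _ y.2⟩, ?_⟩
  change vR f D L T hLT hQ s (BC.tmul Wf 1 (y : P)) = _
  rw [vR_tmul f D L T hLT hQ s hs 1 _ y.2, map_one]

include hs in
theorem vR_versch_smul (w : WittVector p R) (z : BC Wf P) :
    vR f D L T hLT hQ s (WittVector.verschiebung w • z) = w • FR f D z := by
  induction z using BC.induction_on Wf with
  | zero => rw [smul_zero, map_zero, smul_zero, vR_zero]
  | tmul u x =>
    rw [BC.smul_tmul, ← WittVector.verschiebung_mul_frobenius, vR_versch_tmul f D L T hLT hQ s hs,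
      FR, bcSemi_tmul, BC.smul_tmul]
  | add z₁ z₂ h₁ h₂ =>
    rw [smul_add, vR_add f D L T hLT hQ s _ _
      (smul_mem_QR f D _ (WittVector.verschiebung_coeff_zero w) _)
      (smul_mem_QR f D _ (WittVector.verschiebung_coeff_zero w) _), h₁, h₂, map_add, smul_add]

/-- the base change 3n-display. -/
noncomputable def DRmk : Display3n p R (BC Wf P) where
  Q := QR f D
  F := FR f D
  Vinv := VinvR f D L T hLT hQ s
  finite := haveI := D.finite; finite_BC Wf
  projective := haveI := D.projective; projective_BC Wf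
  IV_smul_le := IV_smul_le_QR f D
  exists_normal := ⟨_, _, isCompl_ranges f L T hLT, QR_eq f D L T hLT hQ⟩
  span_range_Vinv := span_range_VinvR f D L T hLT hQ s hs
  Vinv_verschiebung_smul w z := vR_versch_smul f D L T hLT hQ s hs w z

theorem DRmk_isBC : IsDispBaseChange f D (DRmk f D L T hLT hQ s hs) where
  Q_eq := rfl
  F_tmul w x := bcSemi_tmul _ _ _ _ _ w x
  Vinv_tmul w y h := vR_tmul f D L T hLT hQ s hs w _ y.2
  Vinv_verschiebung_tmul w x h := vR_versch_tmul f D L T hLT hQ s hs w x

theorem disp_ext {M : Type v} [AddCommGroup M] [Module (WittVector p R) M]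
    (D1 D2 : Display3n p R M) (hQ : D1.Q = D2.Q) (hF : D1.F = D2.F)
    (hV : ∀ (x : M) (h1 : x ∈ D1.Q) (h2 : x ∈ D2.Q), D1.Vinv ⟨x, h1⟩ = D2.Vinv ⟨x, h2⟩) :
    D1 = D2 := by
  cases D1 with
  | mk Q1 F1 V1 _ _ _ _ _ _ =>
  cases D2 with
  | mk Q2 F2 V2 _ _ _ _ _ _ =>
  simp only at hQ hF hV
  subst hQ
  subst hF
  have : V1 = V2 := LinearMap.ext (fun ⟨x, hx⟩ => hV x hx hx)
  subst this
  rfl

theorem bc_unique (DR1 DR2 : Display3n p R (BC Wf P)) (h1 : IsDispBaseChange f D DR1)
    (h2 : IsDispBaseChange f D DR2) : DR1 = DR2 := by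
  have hQ1 : DR1.Q = QR f D := h1.Q_eq
  have hQ2 : DR2.Q = QR f D := h2.Q_eq
  apply disp_ext DR1 DR2 (hQ1.trans hQ2.symm)
  · apply LinearMap.ext
    intro z
    induction z using BC.induction_on Wf with
    | zero => rw [map_zero, map_zero]
    | tmul u x => rw [h1.F_tmul, h2.F_tmul]
    | add z₁ z₂ e₁ e₂ => rw [map_add, map_add, e₁, e₂]
  · intro x hx1 hx2
    have hx : x ∈ QR f D := hQ1 ▸ hx1
    have key : ∃ (a1 : x ∈ DR1.Q) (a2 : x ∈ DR2.Q), DR1.Vinv ⟨x, a1⟩ = DR2.Vinv ⟨x, a2⟩ := by
      refine QR_induction f D (C := fun x => ∃ (a1 : x ∈ DR1.Q) (a2 : x ∈ DR2.Q),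
        DR1.Vinv ⟨x, a1⟩ = DR2.Vinv ⟨x, a2⟩) ?_ ?_ ?_ ?_ ?_ x hx
      · intro u y hy
        have a1 : BC.tmul Wf u y ∈ DR1.Q := hQ1 ▸ tmul_mem_QR f D u y hy
        have a2 : BC.tmul Wf u y ∈ DR2.Q := hQ2 ▸ tmul_mem_QR f D u y hy
        exact ⟨a1, a2, (h1.Vinv_tmul u ⟨y, hy⟩ a1).trans (h2.Vinv_tmul u ⟨y, hy⟩ a2).symm⟩
      · intro b y
        have a1 : BC.tmul Wf (WittVector.verschiebung b) y ∈ DR1.Q :=
          hQ1 ▸ versch_tmul_mem_QR f D b y
        have a2 : BC.tmul Wf (WittVector.verschiebung b) y ∈ DR2.Q :=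
          hQ2 ▸ versch_tmul_mem_QR f D b y
        exact ⟨a1, a2, (h1.Vinv_verschiebung_tmul b y a1).trans
          (h2.Vinv_verschiebung_tmul b y a2).symm⟩
      · refine ⟨DR1.Q.zero_mem, DR2.Q.zero_mem, ?_⟩
        have e1 : (⟨0, DR1.Q.zero_mem⟩ : DR1.Q) = 0 := rfl
        have e2 : (⟨0, DR2.Q.zero_mem⟩ : DR2.Q) = 0 := rfl
        rw [e1, e2, map_zero, map_zero]
      · rintro a b ⟨a1, a2, ea⟩ ⟨b1, b2, eb⟩
        refine ⟨DR1.Q.add_mem a1 b1, DR2.Q.add_mem a2 b2, ?_⟩
        have e1 : (⟨a + b, DR1.Q.add_mem a1 b1⟩ : DR1.Q) = ⟨a, a1⟩ + ⟨b, b1⟩ := rfl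
        have e2 : (⟨a + b, DR2.Q.add_mem a2 b2⟩ : DR2.Q) = ⟨a, a2⟩ + ⟨b, b2⟩ := rfl
        rw [e1, e2, map_add, map_add, ea, eb]
      · rintro a ⟨a1, a2, ea⟩
        refine ⟨DR1.Q.neg_mem a1, DR2.Q.neg_mem a2, ?_⟩
        have e1 : (⟨-a, DR1.Q.neg_mem a1⟩ : DR1.Q) = -⟨a, a1⟩ := rfl
        have e2 : (⟨-a, DR2.Q.neg_mem a2⟩ : DR2.Q) = -⟨a, a2⟩ := rfl
        rw [e1, e2, map_neg, map_neg, ea]
    obtain ⟨_, _, e⟩ := key
    exact e

theorem main (p : ℕ) [Fact p.Prime] (S R : Type u) [CommRing S] [CommRing R]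
    (f : S →+* R)
    (P : Type v) [AddCommGroup P] [Module (WittVector p S) P] (D : W4c1extbt610.Display3n p S P) :
    ∃! DR : W4c1extbt610.Display3n p R (Dieu.BC (WittVector.map f : WittVector p S →+* WittVector p R) P),
      Dieu.IsDispBaseChange f D DR := by
  obtain ⟨L, T, hLT, hQ⟩ := D.exists_normal
  haveI := D.projective
  have hproj : Module.Projective (WittVector p R) (BC Wf P) := projective_BC Wf
  obtain ⟨s, hs⟩ := Module.projective_def'.mp hproj
  exact ⟨DRmk f D L T hLT hQ s hs, DRmk_isBC f D L T hLT hQ s hs,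
    fun DR' h' => bc_unique f D DR' _ h' (DRmk_isBC f D L T hLT hQ s hs)⟩

end Witt2



/-- Let p be a prime, S a commutative ring in which every prime number other than p is a unit, f : S → R
a homomorphism of commutative rings, and (P, Q, F, V⁻¹) a 3n-display over S; write σ for the
Frobenius and V for the Verschiebung of the Witt rings. On the W(R)-module P_R = W(R) ⊗_{W(S)} P
there is exactly one 3n-display structure (P_R, Q_R, F_R, V_R⁻¹) over R such that Q_R is the kernel
of P_R → R ⊗_S (P/Q), F_R(w ⊗ x) = σ(w) ⊗ F x, V_R⁻¹(w ⊗ y) = σ(w) ⊗ V⁻¹ y for y ∈ Q and V_R⁻¹(V(w)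
⊗ x) = w ⊗ F x for x ∈ P: the base change of the 3n-display along f is well defined. -/
theorem result (p : ℕ) [Fact p.Prime] (S R : Type u) [CommRing S] [CommRing R]
    (hS : ∀ ℓ : ℕ, ℓ.Prime → ℓ ≠ p → IsUnit (ℓ : S)) (f : S →+* R)
    (P : Type v) [AddCommGroup P] [Module (WittVector p S) P] (D : W4c1extbt610.Display3n p S P) :
    ∃! DR : W4c1extbt610.Display3n p R (Dieu.BC (WittVector.map f : WittVector p S →+* WittVector p R) P),
      Dieu.IsDispBaseChange f D DR := by
  exact main p S R f P D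

end Groth.Agent.S16538
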