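import Groth.Statements.S16546
import Mathlib
import Groth.Agent.S16537
import Groth.Agent.S16538

set_option autoImplicit false
universe u v w
open Disp

namespace Groth.Agent.S16546

set_option linter.style.haveILetI false
set_option linter.unusedSectionVars false
set_option linter.unusedVariables false


open Dieu TensorProduct


section CoordSec

variable {A : Type u} [CommRing A] (g : A →+* A)
  {P : Type v} [AddCommGroup P] [Module A P]
  {ι : Type w} [Fintype ι] [DecidableEq ι] (eB : Module.Basis ι A P)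

/-- `i`-th coordinate on `BC g P`. -/
noncomputable def coord (i : ι) : BC g P →ₗ[A] A :=
  BC.lift g ((semilinearOfRingHom g).comp (eB.coord i))

theorem coord_tmul (i : ι) (b : A) (x : P) :
    coord g eB i (BC.tmul g b x) = b * g (eB.repr x i) := by
  rw [coord, BC.lift_tmul, LinearMap.comp_apply, semilinearOfRingHom_apply, smul_eq_mul,
    Module.Basis.coord_apply]

theorem coord_basis (i j : ι) :
    coord g eB i (BC.tmul g 1 (eB j)) = if i = j then 1 else 0 := by
  rw [coord_tmul, one_mul, Module.Basis.repr_self, Finsupp.single_apply]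
  split_ifs with h1 h2 h2
  · exact map_one g
  · exact absurd h1.symm h2
  · exact absurd h2.symm h1
  · exact map_zero g

theorem expand (z : BC g P) : z = ∑ i, coord g eB i z • BC.tmul g 1 (eB i) := by
  induction z using BC.induction_on g with
  | zero => simp
  | tmul b x =>
    conv_lhs => rw [← eB.sum_repr x, BC.tmul_eq_smul_tmul_one,
      Groth.Agent.S16538.tmul_one_sum, Finset.smul_sum]
    apply Finset.sum_congr rfl
    intro i _
    rw [coord_tmul, smul_smul]
  | add z₁ z₂ h₁ h₂ =>
    conv_lhs => rw [h₁, h₂]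
    rw [← Finset.sum_add_distrib]
    apply Finset.sum_congr rfl
    intro i _
    rw [map_add, add_smul]

theorem mem_smul_top_iff (J : Ideal A) (z : BC g P) :
    z ∈ J • (⊤ : Submodule A (BC g P)) ↔ ∀ i, coord g eB i z ∈ J := by
  constructor
  · intro hz i
    refine Submodule.smul_induction_on (p := fun z => coord g eB i z ∈ J) hz ?_ ?_
    · intro a ha m _
      change coord g eB i (a • m) ∈ J
      rw [map_smul, smul_eq_mul]
      exact Ideal.mul_mem_right _ _ ha
    · intro x y hx hy
      rw [map_add]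
      exact Ideal.add_mem _ hx hy
  · intro h
    rw [expand g eB z]
    exact Submodule.sum_mem _ (fun i _ => Submodule.smul_mem_smul (h i) Submodule.mem_top)

end CoordSec

section Rho

open W4c1extbt610

variable (p : ℕ) [Fact p.Prime] (R : Type u) [CommRing R]

/-- `w ↦ w₀ mod p`. -/
noncomputable def rho : WittVector p R →+* R ⧸ Ideal.span {(p : R)} :=
  (Ideal.Quotient.mk (Ideal.span {(p : R)})).comp
    (WittVector.constantCoeff : WittVector p R →+* R)

theorem rho_apply (w : WittVector p R) :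
    rho p R w = Ideal.Quotient.mk (Ideal.span {(p : R)}) (WittVector.constantCoeff w) := rfl

theorem rho_p : rho p R (p : WittVector p R) = 0 := by
  rw [map_natCast]
  have : ((p : ℕ) : R ⧸ Ideal.span {(p : R)}) = Ideal.Quotient.mk (Ideal.span {(p : R)}) (p : R) :=
    (map_natCast _ p).symm
  rw [this, Ideal.Quotient.eq_zero_iff_mem]
  exact Ideal.subset_span rfl

theorem rho_frob (w : WittVector p R) : rho p R (WittVector.frobenius w) = rho p R w ^ p := by
  rw [rho_apply, rho_apply]
  change Ideal.Quotient.mk _ ((WittVector.frobenius w).coeff 0) = _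
  rw [WittVector.coeff_frobenius, WittVector.frobeniusPoly, map_add, map_mul, map_pow,
    MvPolynomial.aeval_X, MvPolynomial.aeval_C, map_add, map_mul, map_pow]
  have h1 : Ideal.Quotient.mk (Ideal.span {(p : R)}) (algebraMap ℤ R (p : ℤ)) = 0 := by
    rw [Ideal.Quotient.eq_zero_iff_mem]
    apply Ideal.subset_span
    simp
  rw [h1, zero_mul, add_zero]
  rfl

theorem rho_frob_pow (n : ℕ) (w : WittVector p R) :
    rho p R (((WittVector.frobenius : WittVector p R →+* WittVector p R) ^ n) w) =
      rho p R w ^ p ^ n := by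
  induction n generalizing w with
  | zero => simp
  | succ n ih =>
    rw [pow_succ, RingHom.mul_def, RingHom.comp_apply, ih, rho_frob, ← pow_mul, pow_succ, mul_comm]

theorem ker_rho : RingHom.ker (rho p R) = IV p R ⊔ Ideal.span {(p : WittVector p R)} := by
  apply le_antisymm
  · intro w hw
    rw [RingHom.mem_ker, rho_apply, Ideal.Quotient.eq_zero_iff_mem, Ideal.mem_span_singleton'] at hw
    obtain ⟨r, hr⟩ := hw
    have h1 : w - WittVector.teichmuller p r * (p : WittVector p R) ∈ IV p R := by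
      rw [Groth.Agent.S16538.mem_IV_iff]
      change (WittVector.constantCoeff : WittVector p R →+* R)
        (w - WittVector.teichmuller p r * (p : WittVector p R)) = 0
      rw [map_sub, map_mul, map_natCast, ← hr]
      change _ - (WittVector.teichmuller p r).coeff 0 * _ = 0
      rw [WittVector.teichmuller_coeff_zero, sub_self]
    have h2 : w = (w - WittVector.teichmuller p r * (p : WittVector p R)) +
        WittVector.teichmuller p r * (p : WittVector p R) := by ring
    rw [h2]
    exact Ideal.add_mem _ (Ideal.mem_sup_left h1)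
      (Ideal.mem_sup_right (Ideal.mem_span_singleton'.mpr ⟨_, rfl⟩))
  · apply sup_le
    · intro w hw
      rw [RingHom.mem_ker, rho_apply]
      change Ideal.Quotient.mk _ (w.coeff 0) = 0
      rw [Groth.Agent.S16538.IV_coeff_zero w hw, map_zero]
    · rw [Ideal.span_le, Set.singleton_subset_iff]
      exact rho_p p R

end Rho

section Main

open W4c1extbt610

variable {p : ℕ} [Fact p.Prime] {R : Type u} [CommRing R]
  {P : Type v} [AddCommGroup P] [Module (WittVector p R) P] (D : Display3n p R P)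
  (L T : Submodule (WittVector p R) P) (hLT : IsCompl L T)
  (hQ : D.Q = L ⊔ IV p R • T) (hLQ : L ≤ D.Q)
  {ιT ιL : Type w} [Fintype ιT] [Fintype ιL] [DecidableEq ιT] [DecidableEq ιL]
  (bT : Module.Basis ιT (WittVector p R) T) (bL : Module.Basis ιL (WittVector p R) L)
  (α β : Matrix (ιT ⊕ ιL) (ιT ⊕ ιL) (WittVector p R)) (hαβ : α * β = 1) (hβα : β * α = 1)

set_option hygiene false in
local notation "σ" => (WittVector.frobenius : WittVector p R →+* WittVector p R)

/-- the basis vectors `t_j, l_k`. -/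
noncomputable def ee : ιT ⊕ ιL → P := Sum.elim (fun a : ιT => (bT a : P)) (fun a : ιL => (bL a : P))

/-- the basis of `P`. -/
noncomputable def eB : Module.Basis (ιT ⊕ ιL) (WittVector p R) P :=
  (bT.prod bL).map (Submodule.prodEquivOfIsCompl T L hLT.symm)

theorem eB_apply (i : ιT ⊕ ιL) : eB L T hLT bT bL i = ee L T bT bL i := by
  rw [eB, Module.Basis.map_apply, Submodule.coe_prodEquivOfIsCompl']
  cases i with
  | inl j => simp [ee]
  | inr k => simp [ee]

/-- `F t_j`, `V⁻¹ l_k`. -/
noncomputable def fm (m : ιT ⊕ ιL) : P := ∑ i, α i m • ee L T bT bL i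

include hαβ in
theorem ee_eq (i : ιT ⊕ ιL) : ee L T bT bL i = ∑ m, β m i • fm L T bT bL α m := by
  simp_rw [fm, Finset.smul_sum, smul_smul]
  rw [Finset.sum_comm]
  simp_rw [← Finset.sum_smul]
  have h1 : ∀ i' : ιT ⊕ ιL, (∑ m, β m i * α i' m) = if i' = i then 1 else 0 := by
    intro i'
    have := congrFun (congrFun hαβ i') i
    rw [Matrix.mul_apply, Matrix.one_apply] at this
    rw [← this]
    apply Finset.sum_congr rfl
    intro m _
    rw [mul_comm]
  simp_rw [h1, ite_smul, one_smul, zero_smul]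
  rw [Finset.sum_ite_eq' Finset.univ i]
  simp

include hβα in
theorem fm_eq' (m i' : ιT ⊕ ιL) : (∑ i, β i' i * α i m) = if i' = m then 1 else 0 := by
  have := congrFun (congrFun hβα i') m
  rw [Matrix.mul_apply, Matrix.one_apply] at this
  exact this

/-- matrix of `V^#`. -/
noncomputable def Mm : Matrix (ιT ⊕ ιL) (ιT ⊕ ιL) (WittVector p R) :=
  fun i' i => Sum.elim (fun j => β (Sum.inl j) i * (p : WittVector p R)) (fun k => β (Sum.inr k) i) i'

/-- the value `V^#(e_i)`. -/
noncomputable def target (i : ιT ⊕ ιL) : BC σ P :=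
  ∑ i', Mm β i' i • BC.tmul σ 1 (ee L T bT bL i')

/-- `V^#` has the right values on `F t_j`, `V⁻¹ l_k`. -/
def IsOnF (Vs : P →ₗ[WittVector p R] BC σ P) : Prop :=
  (∀ j : ιT, Vs (fm L T bT bL α (Sum.inl j)) = (p : WittVector p R) • BC.tmul σ 1 (bT j : P)) ∧
    (∀ k : ιL, Vs (fm L T bT bL α (Sum.inr k)) = BC.tmul σ 1 (bL k : P))

include hαβ in
theorem isOnF_basis (Vs : P →ₗ[WittVector p R] BC σ P) (h : IsOnF L T bT bL α Vs) (i : ιT ⊕ ιL) :
    Vs (ee L T bT bL i) = target L T bT bL β i := by
  rw [ee_eq L T bT bL α β hαβ i, map_sum, target, Fintype.sum_sum_type, Fintype.sum_sum_type]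
  congr 1
  · apply Finset.sum_congr rfl
    intro j _
    rw [map_smul, h.1 j, smul_smul]
    rfl
  · apply Finset.sum_congr rfl
    intro k _
    rw [map_smul, h.2 k]
    rfl

include hβα in
theorem isOnF_of_basis (Vs : P →ₗ[WittVector p R] BC σ P)
    (h : ∀ i, Vs (ee L T bT bL i) = target L T bT bL β i) : IsOnF L T bT bL α Vs := by
  have key : ∀ m, Vs (fm L T bT bL α m) =
      ∑ i', (Sum.elim (fun j => (if Sum.inl j = m then (1 : WittVector p R) else 0) * p)
        (fun k => if Sum.inr k = m then (1 : WittVector p R) else 0) i') •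
          BC.tmul σ 1 (ee L T bT bL i') := by
    intro m
    rw [fm, map_sum]
    simp_rw [map_smul, h, target, Finset.smul_sum, smul_smul]
    rw [Finset.sum_comm]
    simp_rw [← Finset.sum_smul]
    apply Finset.sum_congr rfl
    intro i' _
    congr 1
    cases i' with
    | inl j =>
      simp only [Mm, Sum.elim_inl]
      rw [← fm_eq' α β hβα m (Sum.inl j), Finset.sum_mul]
      apply Finset.sum_congr rfl
      intro i _
      ring
    | inr k =>
      simp only [Mm, Sum.elim_inr]
      rw [← fm_eq' α β hβα m (Sum.inr k)]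
      apply Finset.sum_congr rfl
      intro i _
      ring
  constructor
  · intro j
    rw [key, Fintype.sum_sum_type]
    simp only [Sum.elim_inl, Sum.elim_inr, Sum.inl.injEq, reduceCtorEq, if_false, zero_smul,
      Finset.sum_const_zero, add_zero, ite_mul, one_mul, zero_mul, ite_smul]
    rw [Finset.sum_ite_eq' Finset.univ j]
    simp [ee]
  · intro k
    rw [key, Fintype.sum_sum_type]
    simp only [Sum.elim_inl, Sum.elim_inr, Sum.inr.injEq, reduceCtorEq, if_false, zero_smul,
      Finset.sum_const_zero, zero_add, zero_mul, ite_smul, one_smul]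
    rw [Finset.sum_ite_eq' Finset.univ k]
    simp [ee]

variable (hF : ∀ j : ιT, D.F (bT j : P) = fm L T bT bL α (Sum.inl j))
  (hV : ∀ k : ιL, D.Vinv ⟨(bL k : P), hLQ (bL k).2⟩ = fm L T bT bL α (Sum.inr k))

include hF hV in
theorem isOnF_of_isVSharp (Vs : P →ₗ[WittVector p R] BC σ P) (hVs : IsVSharp D Vs) :
    IsOnF L T bT bL α Vs := by
  constructor
  · intro j
    have := hVs.app_smul_F 1 (bT j : P)
    rwa [one_smul, hF j] at this
  · intro k
    have := hVs.app_smul_Vinv 1 ⟨(bL k : P), hLQ (bL k).2⟩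
    rwa [one_smul, hV k] at this

include hF hV hQ hLT in
theorem isVSharp_of_isOnF (Vs : P →ₗ[WittVector p R] BC σ P) (h : IsOnF L T bT bL α Vs) :
    IsVSharp D Vs := by
  -- `F` part
  have hFx : ∀ x : P, Vs (D.F x) = (p : WittVector p R) • BC.tmul σ 1 x := by
    have : Vs.comp D.F = (p : WittVector p R) • BC.ι σ P := by
      apply (eB L T hLT bT bL).ext
      intro i
      rw [eB_apply, LinearMap.comp_apply, LinearMap.smul_apply, BC.ι_apply]
      cases i with
      | inl j =>
        change Vs (D.F (bT j : P)) = _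
        rw [hF j, h.1 j]
        rfl
      | inr k =>
        change Vs (D.F (bL k : P)) = _
        have := Groth.Agent.S16538.F_eq_p_Vinv D ⟨(bL k : P), hLQ (bL k).2⟩
        rw [this, hV k, map_smul, h.2 k]
        rfl
    intro x
    have := congrArg (fun φ : P →ₛₗ[σ] BC σ P => φ x) this
    exact this
  -- `L` part
  have hLx : ∀ l : L, Vs (D.Vinv ⟨(l : P), hLQ l.2⟩) = BC.tmul σ 1 (l : P) := by
    have : (Vs.comp D.Vinv).comp (Submodule.inclusion hLQ) = (BC.ι σ P).comp L.subtype := by
      apply bL.ext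
      intro k
      rw [LinearMap.comp_apply, LinearMap.comp_apply, LinearMap.comp_apply, BC.ι_apply]
      change Vs (D.Vinv ⟨(bL k : P), hLQ (bL k).2⟩) = BC.tmul σ 1 (bL k : P)
      rw [hV k, h.2 k]
    intro l
    have := congrArg (fun φ : L →ₛₗ[σ] BC σ P => φ l) this
    exact this
  -- `I_R T` part
  have hTx : ∀ t' : P, t' ∈ IV p R • T → ∃ hq : t' ∈ D.Q,
      Vs (D.Vinv ⟨t', hq⟩) = BC.tmul σ 1 t' := by
    intro t' ht'
    refine Submodule.smul_induction_on
      (p := fun t' => ∃ hq : t' ∈ D.Q, Vs (D.Vinv ⟨t', hq⟩) = BC.tmul σ 1 t') ht' ?_ ?_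
    · intro a ha t _
      have ha' := Groth.Agent.S16538.eq_versch a (Groth.Agent.S16538.IV_coeff_zero a ha)
      have hq : a • t ∈ D.Q := D.IV_smul_le (Submodule.smul_mem_smul ha Submodule.mem_top)
      refine ⟨hq, ?_⟩
      have h2 : D.Vinv ⟨a • t, hq⟩ = a.shift 1 • D.F t := by
        rw [← D.Vinv_verschiebung_smul (a.shift 1) t]
        congr 1
        exact Subtype.ext (show a • t = WittVector.verschiebung (a.shift 1) • t by rw [ha'])
      rw [h2, map_smul, hFx, smul_smul, ← BC.tmul_apply_eq σ a t,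
        BC.tmul_eq_smul_tmul_one σ (σ a) t]
      congr 1
      conv_rhs => rw [← ha']
      exact (WittVector.frobenius_verschiebung _).symm
    · rintro x y ⟨hx, ex⟩ ⟨hy, ey⟩
      refine ⟨D.Q.add_mem hx hy, ?_⟩
      have : (⟨x + y, D.Q.add_mem hx hy⟩ : D.Q) = ⟨x, hx⟩ + ⟨y, hy⟩ := rfl
      rw [this, map_add, map_add, ex, ey, BC.tmul_add]
  have hQx : ∀ y : D.Q, Vs (D.Vinv y) = BC.tmul σ 1 (y : P) := by
    rintro ⟨y, hy⟩
    have hy' : y ∈ L ⊔ IV p R • T := hQ ▸ hy
    obtain ⟨l, hl, t', ht', rfl⟩ := Submodule.mem_sup.mp hy'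
    obtain ⟨hq, e⟩ := hTx t' ht'
    have : (⟨l + t', hy⟩ : D.Q) = ⟨l, hLQ hl⟩ + ⟨t', hq⟩ := rfl
    change Vs (D.Vinv ⟨l + t', hy⟩) = BC.tmul σ 1 (l + t')
    rw [this, map_add, map_add, hLx ⟨l, hl⟩, e, BC.tmul_add]
  constructor
  · intro w x
    rw [map_smul, hFx, smul_comm, BC.smul_tmul, mul_one]
  · intro w y
    rw [map_smul, hQx, BC.smul_tmul, mul_one]

/-- matrix of `V^{(n+1)#}`. -/
noncomputable def Nn : ℕ → Matrix (ιT ⊕ ιL) (ιT ⊕ ιL) (WittVector p R)
  | 0 => Mm β
  | n + 1 => (Nn n).map σ * Mm β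

theorem vsp_basis (Vs : P →ₗ[WittVector p R] BC σ P)
    (hb : ∀ i, Vs (ee L T bT bL i) = target L T bT bL β i) (n : ℕ) (i : ιT ⊕ ιL) :
    vSharpPow Vs n (ee L T bT bL i) =
      ∑ i'', Nn β n i'' i • BC.tmul (σ ^ (n + 1)) 1 (ee L T bT bL i'') := by
  induction n generalizing i with
  | zero =>
    rw [vSharpPow_zero_apply, hb, target, map_sum]
    apply Finset.sum_congr rfl
    intro i' _
    rw [map_smul, BC.castHom_tmul]
    rfl
  | succ n ih =>
    rw [Groth.Agent.S16537.vsp_succ_eq, hb, target, map_sum, map_sum]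
    have h1 : ∀ i', BC.castHom (comp_pow_eq_pow_succ σ (n + 1))
        (Groth.Agent.S16537.tw σ (vSharpPow Vs n) (Mm β i' i • BC.tmul σ 1 (ee L T bT bL i'))) =
        ∑ i'', (Mm β i' i * σ (Nn β n i'' i')) • BC.tmul (σ ^ (n + 1 + 1)) 1 (ee L T bT bL i'') := by
      intro i'
      rw [map_smul, map_smul, Groth.Agent.S16537.tw_tmul, one_smul, ih, map_sum, map_sum,
        Finset.smul_sum]
      apply Finset.sum_congr rfl
      intro i'' _
      rw [LinearMap.map_smulₛₗ, BC.push_tmul, map_smul, BC.castHom_tmul, map_one, smul_smul]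
    rw [Finset.sum_congr rfl (fun i' _ => h1 i'), Finset.sum_comm]
    apply Finset.sum_congr rfl
    intro i'' _
    rw [← Finset.sum_smul]
    congr 1
    rw [Nn, Matrix.mul_apply]
    apply Finset.sum_congr rfl
    intro i' _
    rw [Matrix.map_apply, mul_comm]

include hLT in
theorem good_iff (Vs : P →ₗ[WittVector p R] BC σ P)
    (hb : ∀ i, Vs (ee L T bT bL i) = target L T bT bL β i) (n : ℕ) (J : Ideal (WittVector p R)) :
    (∀ x, vSharpPow Vs n x ∈ J • (⊤ : Submodule (WittVector p R) (BC (σ ^ (n + 1)) P))) ↔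
      ∀ i'' i, Nn β n i'' i ∈ J := by
  constructor
  · intro h i'' i
    have h1 := h (ee L T bT bL i)
    rw [mem_smul_top_iff (σ ^ (n + 1)) (eB L T hLT bT bL)] at h1
    have h2 := h1 i''
    rw [vsp_basis L T bT bL β Vs hb, map_sum] at h2
    have h3 : ∀ j, coord (σ ^ (n + 1)) (eB L T hLT bT bL) i''
        (Nn β n j i • BC.tmul (σ ^ (n + 1)) 1 (ee L T bT bL j)) =
        if i'' = j then Nn β n j i else 0 := by
      intro j
      rw [map_smul, ← eB_apply L T hLT bT bL j, coord_basis, smul_eq_mul, mul_ite, mul_one, mul_zero]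
    rw [Finset.sum_congr rfl (fun j _ => h3 j), Finset.sum_ite_eq Finset.univ i''] at h2
    simpa using h2
  · intro h x
    rw [← (eB L T hLT bT bL).sum_repr x, map_sum]
    apply Submodule.sum_mem
    intro i _
    rw [map_smul, eB_apply, vsp_basis L T bT bL β Vs hb]
    apply Submodule.smul_mem
    apply Submodule.sum_mem
    intro i'' _
    exact Submodule.smul_mem_smul (h i'' i) Submodule.mem_top

end Main

section Mat

variable {K : Type u} [CommRing K] (p : ℕ) (hp0 : p ≠ 0)
  {ιT ιL : Type w} [Fintype ιT] [Fintype ιL] [DecidableEq ιT] [DecidableEq ιL]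
  (X : Matrix (ιT ⊕ ιL) (ιT ⊕ ιL) K) (hX : ∀ j i, X (Sum.inl j) i = 0)
  (B : Matrix ιL ιL K) (hB : ∀ k l, X (Sum.inr k) (Sum.inr l) = B k l)
  (hfm : ∀ A B' : Matrix ιL ιL K, (A * B').map (· ^ p) = A.map (· ^ p) * B'.map (· ^ p))

/-- the twisted product `B^{(p^{n-1})} ⋯ B^{(p)} B`. -/
def BB (n : ℕ) : Matrix ιL ιL K :=
  ((List.range n).reverse.map fun i : ℕ => B.map fun x : K => x ^ p ^ i).prod

theorem BB_zero : BB p B 0 = 1 := by
  simp [BB]

theorem BB_succ (n : ℕ) : BB p B (n + 1) = (B.map fun x : K => x ^ p ^ n) * BB p B n := by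
  simp [BB, List.range_succ]

include hp0 hfm in
theorem BB_frob (n : ℕ) : (BB p B n).map (· ^ p) * B = BB p B (n + 1) := by
  induction n with
  | zero =>
    rw [BB_succ, BB_zero, Matrix.map_one (fun x : K => x ^ p) (zero_pow hp0) (one_pow p), one_mul, mul_one]
    ext k l
    simp
  | succ n ih =>
    rw [BB_succ p B n, hfm, Matrix.mul_assoc, ih, BB_succ p B (n + 1), Matrix.map_map]
    congr 2
    funext x
    change (x ^ p ^ n) ^ p = x ^ p ^ (n + 1)
    rw [← pow_mul, pow_succ]

/-- reduction of the matrix of `V^{(n+1)#}`. -/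
def YY : ℕ → Matrix (ιT ⊕ ιL) (ιT ⊕ ιL) K
  | 0 => X
  | n + 1 => fun i'' i => ∑ i', (YY n i'' i') ^ p * X i' i

include hp0 hX in
theorem YY_inl (n : ℕ) (j : ιT) (i : ιT ⊕ ιL) : YY p X n (Sum.inl j) i = 0 := by
  induction n generalizing i with
  | zero => exact hX j i
  | succ n ih =>
    change ∑ i', (YY p X n (Sum.inl j) i') ^ p * X i' i = 0
    apply Finset.sum_eq_zero
    intro i' _
    rw [ih, zero_pow hp0, zero_mul]

include hp0 hX hB hfm in
theorem YY_inr (n : ℕ) (k l : ιL) : YY p X n (Sum.inr k) (Sum.inr l) = BB p B (n + 1) k l := by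
  induction n generalizing k l with
  | zero =>
    rw [BB_succ, BB_zero, mul_one]
    change X (Sum.inr k) (Sum.inr l) = _
    rw [hB]
    simp
  | succ n ih =>
    change ∑ i', (YY p X n (Sum.inr k) i') ^ p * X i' (Sum.inr l) = _
    rw [Fintype.sum_sum_type, ← BB_frob p hp0 B hfm (n + 1), Matrix.mul_apply]
    have h1 : ∑ j : ιT, (YY p X n (Sum.inr k) (Sum.inl j)) ^ p * X (Sum.inl j) (Sum.inr l) = 0 := by
      apply Finset.sum_eq_zero
      intro j _
      rw [hX, mul_zero]
    rw [h1, zero_add]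
    apply Finset.sum_congr rfl
    intro k' _
    rw [ih, hB, Matrix.map_apply]

include hp0 hX hB hfm in
theorem YY_eq_zero_of_BB (N : ℕ) (hN : 0 < N) (h : BB p B N = 0) : YY p X N = 0 := by
  obtain ⟨m, rfl⟩ : ∃ m, N = m + 1 := ⟨N - 1, by omega⟩
  ext i'' i
  change ∑ i', (YY p X m i'' i') ^ p * X i' i = 0
  apply Finset.sum_eq_zero
  intro i' _
  cases i' with
  | inl j => rw [hX, mul_zero]
  | inr k' =>
    cases i'' with
    | inl j => rw [YY_inl p hp0 X hX, zero_pow hp0, zero_mul]
    | inr k =>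
      rw [YY_inr p hp0 X hX B hB hfm, h]
      simp [zero_pow hp0]

include hp0 hX hB hfm in
theorem BB_eq_zero_of_YY (n : ℕ) (h : YY p X n = 0) : BB p B (n + 1) = 0 := by
  ext k l
  rw [← YY_inr p hp0 X hX B hB hfm, h]
  rfl

end Mat

section Final

open W4c1extbt610

variable {p : ℕ} [Fact p.Prime] {R : Type u} [CommRing R]
  {P : Type v} [AddCommGroup P] [Module (WittVector p R) P] (D : Display3n p R P)
  (L T : Submodule (WittVector p R) P) (hLT : IsCompl L T)
  (hQ : D.Q = L ⊔ IV p R • T) (hLQ : L ≤ D.Q)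
  {ιT ιL : Type w} [Fintype ιT] [Fintype ιL] [DecidableEq ιT] [DecidableEq ιL]
  (bT : Module.Basis ιT (WittVector p R) T) (bL : Module.Basis ιL (WittVector p R) L)
  (α β : Matrix (ιT ⊕ ιL) (ιT ⊕ ιL) (WittVector p R)) (hαβ : α * β = 1) (hβα : β * α = 1)

set_option hygiene false in
local notation "σ" => (WittVector.frobenius : WittVector p R →+* WittVector p R)

theorem Nn_map_rho (n : ℕ) :
    (Nn β n).map (rho p R) = YY p ((Mm β).map (rho p R)) n := by
  induction n with
  | zero => rfl
  | succ n ih =>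
    ext i'' i
    change rho p R (((Nn β n).map σ * Mm β) i'' i) =
      ∑ i', (YY p ((Mm β).map (rho p R)) n i'' i') ^ p * ((Mm β).map (rho p R)) i' i
    rw [Matrix.mul_apply, map_sum]
    apply Finset.sum_congr rfl
    intro i' _
    rw [map_mul, Matrix.map_apply, rho_frob, ← ih]
    rfl

theorem hX_Mm (j : ιT) (i : ιT ⊕ ιL) : ((Mm β).map (rho p R)) (Sum.inl j) i = 0 := by
  change rho p R (β (Sum.inl j) i * (p : WittVector p R)) = 0
  rw [map_mul, rho_p, mul_zero]

theorem hfm_of_nil (hp : IsNilpotent (p : R)) (A B' : Matrix ιL ιL (R ⧸ Ideal.span {(p : R)})) :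
    (A * B').map (· ^ p) = A.map (· ^ p) * B'.map (· ^ p) := by
  rcases subsingleton_or_nontrivial R with hs | hn
  · haveI : Subsingleton (R ⧸ Ideal.span {(p : R)}) :=
      (Ideal.Quotient.mk_surjective).subsingleton
    exact Subsingleton.elim _ _
  · haveI : CharP (R ⧸ Ideal.span {(p : R)}) p := CharP.quotient R p hp.not_isUnit
    exact Matrix.map_mul (f := frobenius (R ⧸ Ideal.span {(p : R)}) p)

include hLT in
theorem nil_iff (Vs : P →ₗ[WittVector p R] BC σ P)
    (hb : ∀ i, Vs (ee L T bT bL i) = target L T bT bL β i) :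
    IsVNilpotent Vs ↔ ∃ n, YY p ((Mm β).map (rho p R)) n = 0 := by
  unfold IsVNilpotent
  apply exists_congr
  intro n
  rw [good_iff L T hLT bT bL β Vs hb n, ← Nn_map_rho, ← ker_rho]
  constructor
  · intro h
    ext i'' i
    exact h i'' i
  · intro h i'' i
    have := congrFun (congrFun h i'') i
    exact this

include hLT hQ hαβ hβα in
theorem main' (hp : IsNilpotent (p : R))
    (hF : ∀ j : ιT, D.F (bT j : P) = fm L T bT bL α (Sum.inl j))
    (hV : ∀ k : ιL, D.Vinv ⟨(bL k : P), hLQ (bL k).2⟩ = fm L T bT bL α (Sum.inr k)) :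
    Dieu.IsDisplay D ↔
      ∃ N : ℕ, 0 < N ∧ BB p (Matrix.of fun k l : ιL =>
        Ideal.Quotient.mk (Ideal.span {(p : R)})
          (WittVector.constantCoeff (β (Sum.inr k) (Sum.inr l)))) N = 0 := by
  have hp0 : p ≠ 0 := (Fact.out : p.Prime).ne_zero
  have hB : ∀ k l : ιL, ((Mm β).map (rho p R)) (Sum.inr k) (Sum.inr l) =
      (Matrix.of fun k l : ιL => Ideal.Quotient.mk (Ideal.span {(p : R)})
        (WittVector.constantCoeff (β (Sum.inr k) (Sum.inr l)))) k l := fun k l => rfl
  constructor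
  · rintro ⟨Vs, hVs, hnil⟩
    have hon := isOnF_of_isVSharp D L T hLQ bT bL α hF hV Vs hVs
    have hb := isOnF_basis L T bT bL α β hαβ Vs hon
    obtain ⟨n, hn⟩ := (nil_iff L T hLT bT bL β Vs hb).mp hnil
    exact ⟨n + 1, Nat.succ_pos n,
      BB_eq_zero_of_YY p hp0 _ (hX_Mm β) _ hB (hfm_of_nil hp) n hn⟩
  · rintro ⟨N, hN, hBB⟩
    let Vs0 : P →ₗ[WittVector p R] BC σ P :=
      (eB L T hLT bT bL).constr (WittVector p R) (target L T bT bL β)
    have hb : ∀ i, Vs0 (ee L T bT bL i) = target L T bT bL β i := by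
      intro i
      rw [← eB_apply L T hLT bT bL i]
      exact Module.Basis.constr_basis _ _ _ i
    have hon := isOnF_of_basis L T bT bL α β hβα Vs0 hb
    refine ⟨Vs0, isVSharp_of_isOnF D L T hLT hQ hLQ bT bL α hF hV Vs0 hon, ?_⟩
    rw [nil_iff L T hLT bT bL β Vs0 hb]
    exact ⟨N, YY_eq_zero_of_BB p hp0 _ (hX_Mm β) _ hB (hfm_of_nil hp) N hN hBB⟩

end Final



/-- Let p be a prime and R a commutative ring in which p is nilpotent (in particular every prime number
other than p is a unit in R); write W = W(R) with Frobenius σ, Verschiebung V, I_R = V(W) and w₀ : W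
→ R for the zeroth Witt component. Let (P, Q, F, V⁻¹) be a 3n-display over R with a normal
decomposition P = L ⊕ T, Q = L + I_R·T in which T and L are free with finite bases (t_j) and (l_k).
Let α be the square matrix over W, indexed by the disjoint union of the two index sets, such that
F(t_j) = Σ_i α_{i,j} e_i and V⁻¹(l_k) = Σ_i α_{i,k} e_i, where (e_i) is the basis of P formed by the
t_j followed by the l_k, and let β be a two-sided inverse of α. Let B be the square block of β on
the L-indices, reduced to R/pR through w₀, and write B^{(p^i)} for the matrix whose entries are the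
p^i-th powers of those of B. Then (P, Q, F, V⁻¹) is a display, i.e. its operator V# satisfies the
nilpotence condition, if and only if B^{(p^{N-1})} ⋯ B^{(p)} · B = 0 for some N ≥ 1. -/
theorem result (p : ℕ) [Fact p.Prime] (R : Type u) [CommRing R]
    (hR : ∀ ℓ : ℕ, ℓ.Prime → ℓ ≠ p → IsUnit (ℓ : R)) (hp : IsNilpotent (p : R))
    (P : Type v) [AddCommGroup P] [Module (WittVector p R) P] (D : W4c1extbt610.Display3n p R P)
    (L T : Submodule (WittVector p R) P) (hLT : IsCompl L T)
    (hQ : D.Q = L ⊔ W4c1extbt610.IV p R • T) (hLQ : L ≤ D.Q)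
    (ιT ιL : Type w) [Fintype ιT] [Fintype ιL] [DecidableEq ιT] [DecidableEq ιL]
    (bT : Module.Basis ιT (WittVector p R) T) (bL : Module.Basis ιL (WittVector p R) L)
    (α β : Matrix (ιT ⊕ ιL) (ιT ⊕ ιL) (WittVector p R)) (hαβ : α * β = 1) (hβα : β * α = 1)
    (hF : ∀ j : ιT, D.F (bT j : P) =
      Finset.univ.sum fun i : ιT ⊕ ιL => α i (Sum.inl j) • Sum.elim (fun a : ιT => (bT a : P)) (fun a : ιL => (bL a : P)) i)
    (hV : ∀ k : ιL, D.Vinv ⟨(bL k : P), hLQ (bL k).2⟩ =
      Finset.univ.sum fun i : ιT ⊕ ιL => α i (Sum.inr k) • Sum.elim (fun a : ιT => (bT a : P)) (fun a : ιL => (bL a : P)) i) :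
    Dieu.IsDisplay D ↔
      ∃ N : ℕ, 0 < N ∧
        (((List.range N).reverse.map fun i : ℕ =>
            (Matrix.of fun k l : ιL =>
                Ideal.Quotient.mk (Ideal.span {(p : R)}) (WittVector.constantCoeff (β (Sum.inr k) (Sum.inr l)))).map
              fun x : R ⧸ Ideal.span {(p : R)} => x ^ p ^ i).prod
          = 0) := by
  exact main' D L T hLT hQ hLQ bT bL α β hαβ hβα hp hF hV

end Groth.Agent.S16546
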