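import Groth.Statements.S16535
import Mathlib
import Groth.Agent.S16537
import Groth.Agent.S16538
import Groth.Agent.S16546

set_option autoImplicit false
universe u v
open Disp

namespace Groth.Agent.S16535

set_option linter.style.haveILetI false
set_option linter.unusedSectionVars false
set_option linter.unusedVariables false


open Dieu TensorProduct


section UnitSec

open W4c1extbt610

variable {p : ℕ} [Fact p.Prime] {R : Type u} [CommRing R] (c : ℕ) (hc : (p : R) ^ c = 0)

/-- partial geometric sums. -/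
noncomputable def Sm (j : WittVector p R) (m : ℕ) : WittVector p R :=
  ∑ k ∈ Finset.range m, (-j) ^ k

theorem geom (j : WittVector p R) (m : ℕ) : (1 + j) * Sm j m = 1 - (-j) ^ m := by
  rw [Sm, mul_comm, ← geom_sum_mul_neg, sub_neg_eq_add]

theorem Sm_sub (j : WittVector p R) (hj : j ∈ Groth.Agent.S16537.JJ p R) (a d : ℕ) :
    Sm j (a + d) - Sm j a ∈ Groth.Agent.S16537.JJ p R ^ a := by
  rw [Sm, Sm, Finset.sum_range_add, add_sub_cancel_left]
  apply Ideal.sum_mem
  intro i _
  rw [pow_add]
  exact Ideal.mul_mem_right _ _ (Ideal.pow_mem_pow (Ideal.neg_mem_iff _ |>.mpr hj) a)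

/-- the inverse of `1 + j`. -/
noncomputable def zz (j : WittVector p R) : WittVector p R :=
  WittVector.mk p (fun i => (Sm j (c * (i + 1))).coeff i)

include hc in
theorem trunc_zz (j : WittVector p R) (hj : j ∈ Groth.Agent.S16537.JJ p R) (n : ℕ) :
    WittVector.truncate n (zz c j) = WittVector.truncate n (Sm j (c * n)) := by
  apply TruncatedWittVector.ext
  intro i
  rw [WittVector.coeff_truncate, WittVector.coeff_truncate, zz, WittVector.coeff_mk]
  have hi : (i : ℕ) + 1 ≤ n := i.2
  obtain ⟨d, hd⟩ : ∃ d, c * n = c * ((i : ℕ) + 1) + d :=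
    ⟨c * n - c * ((i : ℕ) + 1), by have := Nat.mul_le_mul_left c hi; omega⟩
  have h1 := Sm_sub j hj (c * ((i : ℕ) + 1)) d
  rw [← hd] at h1
  have h2 := Groth.Agent.S16537.JJ_pow_le c hc ((i : ℕ) + 1) h1
  rw [RingHom.mem_ker, map_sub, sub_eq_zero] at h2
  have h3 := congrArg (fun t => TruncatedWittVector.coeff (Fin.last (i : ℕ)) t) h2
  simp only [WittVector.coeff_truncate, Fin.val_last] at h3
  exact h3.symm

include hc in
theorem one_add_mul_zz (j : WittVector p R) (hj : j ∈ Groth.Agent.S16537.JJ p R) :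
    (1 + j) * zz c j = 1 := by
  have key : ∀ n, WittVector.truncate n ((1 + j) * zz c j) =
      WittVector.truncate n (1 : WittVector p R) := by
    intro n
    rw [map_mul, trunc_zz c hc j hj, ← map_mul, geom, map_sub, sub_eq_self]
    have : (-j) ^ (c * n) ∈ Groth.Agent.S16537.JJ p R ^ (c * n) :=
      Ideal.pow_mem_pow (Ideal.neg_mem_iff _ |>.mpr hj) _
    exact Groth.Agent.S16537.JJ_pow_le c hc n this
  ext i
  have h3 := congrArg (fun t => TruncatedWittVector.coeff (Fin.last i) t) (key (i + 1))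
  simp only [WittVector.coeff_truncate, Fin.val_last] at h3
  exact h3

include hc in
theorem JJ_le_jacobson :
    Groth.Agent.S16537.JJ p R ≤ Ideal.jacobson (⊥ : Ideal (WittVector p R)) := by
  intro x hx
  rw [Ideal.mem_jacobson_bot]
  intro y
  have hj : x * y ∈ Groth.Agent.S16537.JJ p R := Ideal.mul_mem_right _ _ hx
  rw [isUnit_iff_exists_inv]
  refine ⟨zz c (x * y), ?_⟩
  rw [add_comm]
  exact one_add_mul_zz c hc _ hj

end UnitSec

section DimCount

variable {A : Type u} [CommRing A] (M : Ideal A) [hM : M.IsMaximal] (g : A →+* A)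
  (hg : ∀ a ∈ M, g a ∈ M)
  {P : Type v} [AddCommGroup P] [Module A P] [Module.Finite A P]
  (Φ : BC g P →ₗ[A] P) (hΦ : Function.Surjective Φ)

include hg in
theorem tmul_one_mem (m : P) (hm : m ∈ M • (⊤ : Submodule A P)) :
    BC.tmul g 1 m ∈ M • (⊤ : Submodule A (BC g P)) := by
  refine Submodule.smul_induction_on
    (p := fun m => BC.tmul g 1 m ∈ M • (⊤ : Submodule A (BC g P))) hm ?_ ?_
  · intro a ha y _
    change BC.tmul g 1 (a • y) ∈ _
    rw [Groth.Agent.S16538.tmul_one_smul]
    exact Submodule.smul_mem_smul (hg a ha) Submodule.mem_top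
  · intro x y hx hy
    rw [BC.tmul_add]
    exact Submodule.add_mem _ hx hy

include hg hΦ in
theorem dimCount (z : BC g P) (hz : Φ z ∈ M • (⊤ : Submodule A P)) :
    z ∈ M • (⊤ : Submodule A (BC g P)) := by
  classical
  letI : Field (A ⧸ M) := Ideal.Quotient.field M
  haveI : Module.Finite A (BC g P) := Groth.Agent.S16538.finite_BC g
  let NB := BC g P ⧸ M • (⊤ : Submodule A (BC g P))
  let PB := P ⧸ M • (⊤ : Submodule A P)
  have hle : M • (⊤ : Submodule A (BC g P)) ≤ (M • (⊤ : Submodule A P)).comap Φ := by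
    rw [Submodule.smul_le]
    intro a ha n _
    rw [Submodule.mem_comap, map_smul]
    exact Submodule.smul_mem_smul ha Submodule.mem_top
  let ΦA : NB →ₗ[A] PB := Submodule.mapQ _ _ Φ hle
  have hsurjA : Function.Surjective (algebraMap A (A ⧸ M)) := Ideal.Quotient.mk_surjective
  let Φκ : NB →ₗ[A ⧸ M] PB := LinearMap.extendScalarsOfSurjective hsurjA ΦA
  have hΦκ : ∀ n : BC g P, Φκ (Submodule.Quotient.mk n) = Submodule.Quotient.mk (Φ n) :=
    fun n => rfl
  have hΦκ_surj : Function.Surjective Φκ := by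
    intro y
    obtain ⟨y, rfl⟩ := Submodule.Quotient.mk_surjective _ y
    obtain ⟨n, rfl⟩ := hΦ y
    exact ⟨Submodule.Quotient.mk n, hΦκ n⟩
  -- basis of `PB`
  let b := Module.finBasis (A ⧸ M) PB
  have hx : ∀ i, ∃ x : P, (Submodule.Quotient.mk x : PB) = b i :=
    fun i => Submodule.Quotient.mk_surjective _ (b i)
  choose x hx using hx
  let v : Fin (Module.finrank (A ⧸ M) PB) → NB := fun i => Submodule.Quotient.mk (BC.tmul g 1 (x i))
  have hspan : Submodule.span (A ⧸ M) (Set.range v) = ⊤ := by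
    rw [eq_top_iff]
    intro n _
    obtain ⟨n, rfl⟩ := Submodule.Quotient.mk_surjective _ n
    induction n using BC.induction_on g with
    | zero => exact Submodule.zero_mem _
    | tmul a y =>
      rw [BC.tmul_eq_smul_tmul_one]
      have h1 : (Submodule.Quotient.mk (a • BC.tmul g 1 y) : NB) =
          (Ideal.Quotient.mk M a) • (Submodule.Quotient.mk (BC.tmul g 1 y) : NB) := rfl
      rw [h1]
      apply Submodule.smul_mem
      -- coordinates of `y`
      have hc : ∀ i, ∃ c : A, Ideal.Quotient.mk M c = b.repr (Submodule.Quotient.mk y) i :=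
        fun i => Ideal.Quotient.mk_surjective _
      choose c hc using hc
      have h2' : (Submodule.Quotient.mk (∑ i, c i • x i) : PB) = Submodule.Quotient.mk y := by
        have e1 : (Submodule.Quotient.mk (∑ i, c i • x i) : PB) =
            ∑ i, (Ideal.Quotient.mk M (c i)) • b i := by
          have e0 : (Submodule.Quotient.mk (∑ i, c i • x i) : PB) =
              (M • (⊤ : Submodule A P)).mkQ (∑ i, c i • x i) := rfl
          rw [e0, map_sum]
          apply Finset.sum_congr rfl
          intro i _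
          rw [map_smul, Submodule.mkQ_apply, hx]
          rfl
        rw [e1]
        simp_rw [hc]
        exact b.sum_repr _
      have h2 : y - ∑ i, c i • x i ∈ M • (⊤ : Submodule A P) := by
        rw [← Submodule.Quotient.mk_eq_zero, Submodule.Quotient.mk_sub, sub_eq_zero]
        exact h2'.symm
      have h3 := tmul_one_mem M g hg _ h2
      have h4 : BC.tmul g 1 y = BC.tmul g 1 (y - ∑ i, c i • x i) +
          ∑ i, g (c i) • BC.tmul g 1 (x i) := by
        rw [← Groth.Agent.S16538.tmul_one_sum, ← BC.tmul_add, sub_add_cancel]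
      rw [h4, Submodule.Quotient.mk_add, (Submodule.Quotient.mk_eq_zero _).mpr h3, zero_add,
        ← Submodule.mkQ_apply, map_sum]
      apply Submodule.sum_mem
      intro i _
      rw [map_smul]
      have h5 : (g (c i) • (M • (⊤ : Submodule A (BC g P))).mkQ (BC.tmul g 1 (x i)) : NB) =
          (Ideal.Quotient.mk M (g (c i))) • v i := rfl
      rw [h5]
      exact Submodule.smul_mem _ _ (Submodule.subset_span ⟨i, rfl⟩)
    | add z₁ z₂ h₁ h₂ =>
      rw [Submodule.Quotient.mk_add]
      exact Submodule.add_mem _ (h₁ Submodule.mem_top) (h₂ Submodule.mem_top)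
  have hle1 : Module.finrank (A ⧸ M) NB ≤ Module.finrank (A ⧸ M) PB := by
    have := finrank_le_of_span_eq_top (R := A ⧸ M) hspan
    rwa [Fintype.card_fin] at this
  have hle2 : Module.finrank (A ⧸ M) PB ≤ Module.finrank (A ⧸ M) NB :=
    LinearMap.finrank_le_finrank_of_surjective hΦκ_surj
  have hinj : Function.Injective Φκ :=
    (LinearMap.injective_iff_surjective_of_finrank_eq_finrank (le_antisymm hle1 hle2)).mpr hΦκ_surj
  have h0 : Φκ (Submodule.Quotient.mk z) = 0 := by
    rw [hΦκ]
    exact (Submodule.Quotient.mk_eq_zero _).mpr hz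
  have := hinj (h0.trans (map_zero Φκ).symm)
  exact (Submodule.Quotient.mk_eq_zero _).mp this

end DimCount

section Naka

variable {A : Type u} [CommRing A] {N : Type*} {P : Type v} [AddCommGroup N] [Module A N]
  [AddCommGroup P] [Module A P] [Module.Finite A N] [Module.Projective A P]
  (Φ : N →ₗ[A] P) (hΦ : Function.Surjective Φ)
  (hmax : ∀ (M : Ideal A), M.IsMaximal → ∀ z : N, Φ z ∈ M • (⊤ : Submodule A P) →
    z ∈ M • (⊤ : Submodule A N))

include hΦ hmax in
theorem injective_of_max : Function.Injective Φ := by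
  obtain ⟨s, hs⟩ := Module.projective_lifting_property Φ LinearMap.id hΦ
  have hs' : ∀ x, Φ (s x) = x := fun x => by
    have := congrArg (fun φ : P →ₗ[A] P => φ x) hs
    exact this
  let q : N →ₗ[A] N := LinearMap.id - s.comp Φ
  have hq : ∀ n, q n = n - s (Φ n) := fun n => rfl
  have hK : LinearMap.ker Φ = LinearMap.range q := by
    ext k
    constructor
    · intro hk
      rw [LinearMap.mem_ker] at hk
      exact ⟨k, by rw [hq, hk, map_zero, sub_zero]⟩
    · rintro ⟨n, rfl⟩
      rw [LinearMap.mem_ker, hq, map_sub, hs', sub_self]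
  have hfg : (LinearMap.ker Φ).FG := by
    rw [hK, LinearMap.range_eq_map]
    exact (Module.Finite.fg_top).map q
  have hle : ∀ (M : Ideal A), M.IsMaximal → LinearMap.ker Φ ≤ M • LinearMap.ker Φ := by
    intro M hM k hk
    have h1 : k ∈ M • (⊤ : Submodule A N) := by
      apply hmax M hM
      rw [LinearMap.mem_ker.mp hk]
      exact Submodule.zero_mem _
    have h2 : q k = k := by
      rw [hq, LinearMap.mem_ker.mp hk, map_zero, sub_zero]
    rw [← h2, hK, LinearMap.range_eq_map, ← Submodule.map_smul'']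
    exact Submodule.mem_map_of_mem h1
  rw [← LinearMap.ker_eq_bot]
  by_contra hne
  have hann : (LinearMap.ker Φ).annihilator ≠ ⊤ := by
    intro h
    apply hne
    rw [Submodule.annihilator_eq_top_iff] at h
    exact h
  obtain ⟨M, hM, hMle⟩ := Ideal.exists_le_maximal _ hann
  obtain ⟨r, hr1, hr2⟩ := Submodule.exists_sub_one_mem_and_smul_eq_zero_of_fg_of_le_smul M
    (LinearMap.ker Φ) hfg (hle M hM)
  have hr : r ∈ M := hMle (Submodule.mem_annihilator.mpr hr2)
  have : (1 : A) ∈ M := by
    have := M.sub_mem hr hr1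
    rwa [sub_sub_cancel] at this
  exact hM.ne_top ((Ideal.eq_top_iff_one M).mpr this)

end Naka

section MainSec

open W4c1extbt610

variable {p : ℕ} [Fact p.Prime] {R : Type u} [CommRing R]
  {P : Type v} [AddCommGroup P] [Module (WittVector p R) P] (D : Display3n p R P)
  (L T : Submodule (WittVector p R) P) (hLT : IsCompl L T)
  (hQ : D.Q = L ⊔ IV p R • T)

set_option hygiene false in
local notation "σ" => (WittVector.frobenius : WittVector p R →+* WittVector p R)

/-- `(V⁻¹|_L ⊕ F|_T)^#`. -/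
noncomputable def Phi : BC σ P →ₗ[WittVector p R] P :=
  BC.lift σ (Groth.Agent.S16538.GS D L T hLT hQ)

theorem Phi_tmul (w : WittVector p R) (x : P) :
    Phi D L T hLT hQ (BC.tmul σ w x) = w • Groth.Agent.S16538.GS D L T hLT hQ x := by
  rw [Phi, BC.lift_tmul]

include hQ in
theorem hLQ' : L ≤ D.Q := hQ ▸ le_sup_left

/-- common pattern: a property of `V⁻¹ y` for all `y ∈ Q` from `L` and `I_R T`. -/
theorem Vinv_induction {C : P → Prop}
    (hL : ∀ l (hl : l ∈ L), C (D.Vinv ⟨l, hLQ' D L T hQ hl⟩))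
    (hT : ∀ (a : WittVector p R) (t : P), t ∈ T → C (a • D.F t))
    (hadd : ∀ x y, C x → C y → C (x + y)) (y : D.Q) : C (D.Vinv y) := by
  obtain ⟨y, hy⟩ := y
  have hy' : y ∈ L ⊔ IV p R • T := hQ ▸ hy
  obtain ⟨l, hl, t', ht', rfl⟩ := Submodule.mem_sup.mp hy'
  have hTx : ∃ hq : t' ∈ D.Q, C (D.Vinv ⟨t', hq⟩) := by
    refine Submodule.smul_induction_on
      (p := fun t' => ∃ hq : t' ∈ D.Q, C (D.Vinv ⟨t', hq⟩)) ht' ?_ ?_
    · intro a ha t ht
      have ha' := Groth.Agent.S16538.eq_versch a (Groth.Agent.S16538.IV_coeff_zero a ha)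
      have hq : a • t ∈ D.Q := D.IV_smul_le (Submodule.smul_mem_smul ha Submodule.mem_top)
      refine ⟨hq, ?_⟩
      have h2 : D.Vinv ⟨a • t, hq⟩ = a.shift 1 • D.F t := by
        rw [← D.Vinv_verschiebung_smul (a.shift 1) t]
        congr 1
        exact Subtype.ext (show a • t = WittVector.verschiebung (a.shift 1) • t by rw [ha'])
      rw [h2]
      exact hT _ t ht
    · rintro x y ⟨hx, ex⟩ ⟨hy, ey⟩
      refine ⟨D.Q.add_mem hx hy, ?_⟩
      have : (⟨x + y, D.Q.add_mem hx hy⟩ : D.Q) = ⟨x, hx⟩ + ⟨y, hy⟩ := rfl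
      rw [this, map_add]
      exact hadd _ _ ex ey
  obtain ⟨hq, e⟩ := hTx
  have : (⟨l + t', hy⟩ : D.Q) = ⟨l, hLQ' D L T hQ hl⟩ + ⟨t', hq⟩ := rfl
  rw [this, map_add]
  exact hadd _ _ (hL l hl) e

theorem Phi_surjective : Function.Surjective (Phi D L T hLT hQ) := by
  rw [← LinearMap.range_eq_top, eq_top_iff, ← D.span_range_Vinv, Submodule.span_le]
  rintro _ ⟨y, rfl⟩
  refine Vinv_induction D L T hQ (C := fun x => x ∈ LinearMap.range (Phi D L T hLT hQ)) ?_ ?_ ?_ y
  · intro l hl
    refine ⟨BC.tmul σ 1 l, ?_⟩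
    rw [Phi_tmul, one_smul, Groth.Agent.S16538.GS_of_mem_L D L T hLT hQ l hl]
  · intro a t ht
    refine ⟨BC.tmul σ a t, ?_⟩
    rw [Phi_tmul, Groth.Agent.S16538.GS_of_mem_T D L T hLT hQ t ht]
  · intro x y hx hy
    exact Submodule.add_mem _ hx hy

theorem frob_mem_of_max (c : ℕ) (hc : (p : R) ^ c = 0) (M : Ideal (WittVector p R))
    (hM : M.IsMaximal) (a : WittVector p R) (ha : a ∈ M) : σ a ∈ M := by
  have hJ : Groth.Agent.S16537.JJ p R ≤ M := by
    refine (JJ_le_jacobson c hc).trans ?_
    rw [Ideal.jacobson]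
    exact sInf_le ⟨bot_le, hM⟩
  have h1 : σ a - a ^ p ∈ Groth.Agent.S16537.JJ p R := by
    rw [Groth.Agent.S16537.JJ, ← Groth.Agent.S16546.ker_rho, RingHom.mem_ker, map_sub,
      Groth.Agent.S16546.rho_frob, map_pow, sub_self]
  have h2 : σ a = (σ a - a ^ p) + a ^ p := by ring
  rw [h2]
  exact M.add_mem (hJ h1) (M.pow_mem_of_mem ha p (Fact.out : p.Prime).pos)

theorem Phi_bijective (c : ℕ) (hc : (p : R) ^ c = 0) :
    Function.Bijective (Phi D L T hLT hQ) := by
  haveI := D.finite
  haveI := D.projective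
  haveI : Module.Finite (WittVector p R) (BC σ P) := Groth.Agent.S16538.finite_BC σ
  refine ⟨?_, Phi_surjective D L T hLT hQ⟩
  apply injective_of_max _ (Phi_surjective D L T hLT hQ)
  intro M hM z hz
  haveI := hM
  exact dimCount M σ (frob_mem_of_max c hc M hM) _ (Phi_surjective D L T hLT hQ) z hz

/-- `id` on `L`, `p` on `T`. -/
noncomputable def Pi : BC σ P →ₗ[WittVector p R] BC σ P :=
  BC.map σ (L.projection T hLT + (p : WittVector p R) • T.projection L hLT.symm)

theorem Pi_tmul (w : WittVector p R) (x : P) :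
    Pi L T hLT (BC.tmul σ w x) =
      BC.tmul σ w (L.projection T hLT x + (p : WittVector p R) • T.projection L hLT.symm x) := by
  rw [Pi, BC.map_tmul]; rfl

theorem uniq (Vs Vs' : P →ₗ[WittVector p R] BC σ P) (h : IsVSharp D Vs) (h' : IsVSharp D Vs') :
    Vs = Vs' := by
  apply LinearMap.ext_on D.span_range_Vinv
  rintro _ ⟨y, rfl⟩
  have h1 := h.app_smul_Vinv 1 y
  have h2 := h'.app_smul_Vinv 1 y
  rw [one_smul] at h1 h2
  rw [h1, h2]

include hLT hQ in
theorem exists_vs (c : ℕ) (hc : (p : R) ^ c = 0) :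
    ∃ Vs : P →ₗ[WittVector p R] BC σ P, IsVSharp D Vs := by
  let e := LinearEquiv.ofBijective (Phi D L T hLT hQ) (Phi_bijective D L T hLT hQ c hc)
  have he : ∀ z, e.symm (Phi D L T hLT hQ z) = z := fun z => e.symm_apply_apply z
  let Vs : P →ₗ[WittVector p R] BC σ P := (Pi L T hLT).comp e.symm.toLinearMap
  have hVs : ∀ z, Vs (Phi D L T hLT hQ z) = Pi L T hLT z := by
    intro z
    change Pi L T hLT (e.symm (Phi D L T hLT hQ z)) = _
    rw [he]
  -- `F` part
  have hFx : ∀ x : P, Vs (D.F x) = (p : WittVector p R) • BC.tmul σ 1 x := by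
    intro x
    have hl := Submodule.projection_apply_mem hLT x
    have ht := Submodule.projection_apply_mem hLT.symm x
    have h1 : D.F x = Phi D L T hLT hQ
        (BC.tmul σ 1 ((p : WittVector p R) • L.projection T hLT x + T.projection L hLT.symm x)) := by
      rw [Phi_tmul, one_smul, map_add, LinearMap.map_smulₛₗ, map_natCast,
        Groth.Agent.S16538.GS_of_mem_L D L T hLT hQ _ hl,
        Groth.Agent.S16538.GS_of_mem_T D L T hLT hQ _ ht,
        ← Groth.Agent.S16538.F_eq_p_Vinv D ⟨_, hLQ' D L T hQ hl⟩, ← map_add]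
      change D.F x = D.F (L.projection T hLT x + T.projection L hLT.symm x)
      rw [Submodule.projection_add_projection_eq_self hLT x]
    rw [h1, hVs, Pi_tmul, map_add, map_add, map_smul, map_smul,
      Submodule.projection_apply_of_mem_left hLT hl,
      Submodule.projection_apply_of_mem_right hLT ht,
      Submodule.projection_apply_of_mem_right hLT.symm hl,
      Submodule.projection_apply_of_mem_left hLT.symm ht, smul_zero, add_zero, zero_add,
      ← smul_add, Submodule.projection_add_projection_eq_self hLT x,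
      Groth.Agent.S16538.tmul_one_smul, map_natCast]
  have hQx : ∀ y : D.Q, Vs (D.Vinv y) = BC.tmul σ 1 (y : P) := by
    intro y
    have key : ∀ z : D.Q, ∃ m : BC σ P, D.Vinv z = Phi D L T hLT hQ m := by
      intro z
      obtain ⟨m, hm⟩ := Phi_surjective D L T hLT hQ (D.Vinv z)
      exact ⟨m, hm.symm⟩
    -- prove via the induction principle, with the statement on `V⁻¹ y` carrying `y`
    obtain ⟨y, hy⟩ := y
    have hy' : y ∈ L ⊔ IV p R • T := hQ ▸ hy
    obtain ⟨l, hl, t', ht', rfl⟩ := Submodule.mem_sup.mp hy'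
    have hLx : Vs (D.Vinv ⟨l, hLQ' D L T hQ hl⟩) = BC.tmul σ 1 l := by
      have h1 : D.Vinv ⟨l, hLQ' D L T hQ hl⟩ = Phi D L T hLT hQ (BC.tmul σ 1 l) := by
        rw [Phi_tmul, one_smul, Groth.Agent.S16538.GS_of_mem_L D L T hLT hQ l hl]
      rw [h1, hVs, Pi_tmul, Submodule.projection_apply_of_mem_left hLT hl,
        Submodule.projection_apply_of_mem_right hLT.symm hl, smul_zero, add_zero]
    have hTx : ∃ hq : t' ∈ D.Q, Vs (D.Vinv ⟨t', hq⟩) = BC.tmul σ 1 t' := by
      refine Submodule.smul_induction_on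
        (p := fun t' => ∃ hq : t' ∈ D.Q, Vs (D.Vinv ⟨t', hq⟩) = BC.tmul σ 1 t') ht' ?_ ?_
      · intro a ha t _
        have ha' := Groth.Agent.S16538.eq_versch a (Groth.Agent.S16538.IV_coeff_zero a ha)
        have hq : a • t ∈ D.Q := D.IV_smul_le (Submodule.smul_mem_smul ha Submodule.mem_top)
        refine ⟨hq, ?_⟩
        have h2 : D.Vinv ⟨a • t, hq⟩ = a.shift 1 • D.F t := by
          rw [← D.Vinv_verschiebung_smul (a.shift 1) t]
          congr 1
          exact Subtype.ext (show a • t = WittVector.verschiebung (a.shift 1) • t by rw [ha'])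
        rw [h2, map_smul, hFx, smul_smul, ← BC.tmul_apply_eq σ a t,
          BC.tmul_eq_smul_tmul_one σ (σ a) t]
        congr 1
        conv_rhs => rw [← ha']
        exact (WittVector.frobenius_verschiebung _).symm
      · rintro x y ⟨hx, ex⟩ ⟨hy, ey⟩
        refine ⟨D.Q.add_mem hx hy, ?_⟩
        have : (⟨x + y, D.Q.add_mem hx hy⟩ : D.Q) = ⟨x, hx⟩ + ⟨y, hy⟩ := rfl
        rw [this, map_add, map_add, ex, ey, BC.tmul_add]
    obtain ⟨hq, e2⟩ := hTx
    have : (⟨l + t', hy⟩ : D.Q) = ⟨l, hLQ' D L T hQ hl⟩ + ⟨t', hq⟩ := rfl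
    change Vs (D.Vinv ⟨l + t', hy⟩) = BC.tmul σ 1 (l + t')
    rw [this, map_add, map_add, hLx, e2, BC.tmul_add]
  refine ⟨Vs, ?_, ?_⟩
  · intro w x
    rw [map_smul, hFx, smul_comm, BC.smul_tmul, mul_one]
  · intro w y
    rw [map_smul, hQx, BC.smul_tmul, mul_one]

theorem main (p : ℕ) [Fact p.Prime] (R : Type u) [CommRing R]
    (hp : IsNilpotent (p : R))
    (P : Type v) [AddCommGroup P] [Module (WittVector p R) P] (D : W4c1extbt610.Display3n p R P) :
    ∃! Vs : P →ₗ[WittVector p R] Dieu.BC (WittVector.frobenius : WittVector p R →+* WittVector p R) P,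
      Dieu.IsVSharp D Vs := by
  obtain ⟨c, hc⟩ := hp
  obtain ⟨L, T, hLT, hQ⟩ := D.exists_normal
  obtain ⟨Vs, hVs⟩ := exists_vs D L T hLT hQ c hc
  exact ⟨Vs, hVs, fun Vs' h' => uniq D Vs' Vs h' hVs⟩

end MainSec



/-- Let p be a prime and R a commutative ring in which p is nilpotent (in particular every prime number
other than p is a unit in R); write W = W(R) for the ring of p-typical Witt vectors with Frobenius
σ, and let (P, Q, F, V⁻¹) be a 3n-display over R. Then there is exactly one W-linear map V# : P → W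
⊗_{σ,W} P with V#(w·F x) = p·(w ⊗ x) for all w ∈ W, x ∈ P and V#(w·V⁻¹ y) = w ⊗ y for all w ∈ W, y ∈
Q. (The published statement is made for every ring in which the primes other than p are units. Over
the rationals the ghost map identifies W(ℚ) with ℚ^ℕ and σ with the shift; for the idempotent e =
(1,0,0,…) the module (1−e)W with Q = (1−e)W, F(x) = p·σ(x)(1−e) and V⁻¹(x) = σ(x)(1−e) is a
3n-display, and a W-linear V# would have to send 1−e to 1 ⊗ (1−e), which corresponds to 1 under W
⊗_{σ,W} (1−e)W ≅ W, while e·(1−e) = 0 — impossible. The published proof compares ranks of P and W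
⊗_{σ,W} P, which agree when σ fixes the idempotents of W(R); this holds when p is nilpotent in R,
the case of displays, which is the hypothesis taken here.) -/
theorem result (p : ℕ) [Fact p.Prime] (R : Type u) [CommRing R]
    (hR : ∀ ℓ : ℕ, ℓ.Prime → ℓ ≠ p → IsUnit (ℓ : R)) (hp : IsNilpotent (p : R))
    (P : Type v) [AddCommGroup P] [Module (WittVector p R) P] (D : W4c1extbt610.Display3n p R P) :
    ∃! Vs : P →ₗ[WittVector p R] Dieu.BC (WittVector.frobenius : WittVector p R →+* WittVector p R) P,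
      Dieu.IsVSharp D Vs := by
  exact main p R hp P D

end Groth.Agent.S16535
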