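import Groth.Statements.S7150
import Groth.Agent.Lib.Helper17.SmoothArtin
import Mathlib

set_option autoImplicit false
universe u
open EtAlg

namespace Groth.Agent.S7150

/-- Suppose p is a prime with p·1 = 0 in the local ring A and some power of the maximal ideal of A is
zero. Then the residue map A → κ_A has a section σ : κ_A → A that is a ring map. If moreover A → A'
is a local homomorphism to another local ring whose maximal ideal has a vanishing power, and the
residue field extension κ_{A'}/κ_A is separable (possibly transcendental, i.e. geometrically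
reduced), then for any such σ there is a section σ' : κ_{A'} → A' compatible with σ. -/
theorem result (p : ℕ) (hp : p.Prime) (A : Type u) [CommRing A]
    [IsLocalRing A] [CharP A p] (hnil : ∃ n : ℕ, IsLocalRing.maximalIdeal A ^ n = ⊥) :
    (∃ σ : IsLocalRing.ResidueField A →+* A, (IsLocalRing.residue A).comp σ = RingHom.id _) ∧
    ∀ (A' : Type u) [CommRing A'] [IsLocalRing A'] [Algebra A A'] [IsLocalHom (algebraMap A A')],
      (∃ n : ℕ, IsLocalRing.maximalIdeal A' ^ n = ⊥) →
      Algebra.IsGeometricallyReduced (IsLocalRing.ResidueField A) (IsLocalRing.ResidueField A') →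
      ∀ σ : IsLocalRing.ResidueField A →+* A, (IsLocalRing.residue A).comp σ = RingHom.id _ →
        ∃ σ' : IsLocalRing.ResidueField A' →+* A', (IsLocalRing.residue A').comp σ' = RingHom.id _ ∧
          σ'.comp (IsLocalRing.ResidueField.map (algebraMap A A')) = (algebraMap A A').comp σ := by
  classical
  haveI : Fact p.Prime := ⟨hp⟩
  have hpK : CharP (IsLocalRing.ResidueField A) p := by
    rw [CharP.charP_iff_prime_eq_zero hp, ← map_natCast (IsLocalRing.residue A),
      CharP.cast_eq_zero, map_zero]
  constructor
  · obtain ⟨n, hn⟩ := hnil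
    letI : Algebra (ZMod p) A := ZMod.algebra A p
    haveI : Algebra.FormallySmooth (ZMod p) (IsLocalRing.ResidueField A) :=
      Groth.Agent.Lib.helper17.SmoothArtin.formallySmooth_zmod p _
    let g : IsLocalRing.ResidueField A →ₐ[ZMod p] A ⧸ IsLocalRing.maximalIdeal A :=
      AlgHom.id (ZMod p) (IsLocalRing.ResidueField A)
    refine ⟨(Algebra.FormallySmooth.lift (IsLocalRing.maximalIdeal A) ⟨n, hn⟩ g).toRingHom, ?_⟩
    ext x
    exact Algebra.FormallySmooth.mk_lift (IsLocalRing.maximalIdeal A) ⟨n, hn⟩ g x
  · intro A' _ _ _ _ hnil' hsep σ hσ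
    obtain ⟨n, hn⟩ := hnil'
    haveI hfs : Algebra.FormallySmooth (IsLocalRing.ResidueField A) (IsLocalRing.ResidueField A') :=
      Groth.Agent.Lib.helper17.FieldLift.formallySmooth_of_isGeometricallyReduced
    have hσ' : ∀ x, IsLocalRing.residue A (σ x) = x := fun x => RingHom.congr_fun hσ x
    have hmap : ∀ x : IsLocalRing.ResidueField A,
        algebraMap (IsLocalRing.ResidueField A) (IsLocalRing.ResidueField A') x
          = IsLocalRing.residue A' (algebraMap A A' (σ x)) := by
      intro x
      conv_lhs => rw [← hσ' x]
      exact IsLocalRing.ResidueField.algebraMap_residue (σ x)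
    letI instKA' : Algebra (IsLocalRing.ResidueField A) A' :=
      ((algebraMap A A').comp σ).toAlgebra
    have halg : ∀ x, algebraMap (IsLocalRing.ResidueField A) A' x = algebraMap A A' (σ x) :=
      fun x => rfl
    let g : IsLocalRing.ResidueField A' →ₐ[IsLocalRing.ResidueField A]
        A' ⧸ IsLocalRing.maximalIdeal A' :=
      { toRingHom := RingHom.id (IsLocalRing.ResidueField A')
        commutes' := fun x => by
          show algebraMap (IsLocalRing.ResidueField A) (IsLocalRing.ResidueField A') x = _
          rw [hmap]; rfl }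
    have hg : ∀ y, g y = y := fun y => rfl
    let τ := Algebra.FormallySmooth.lift (IsLocalRing.maximalIdeal A') ⟨n, hn⟩ g
    refine ⟨τ.toRingHom, ?_, ?_⟩
    · ext y
      exact Algebra.FormallySmooth.mk_lift (IsLocalRing.maximalIdeal A') ⟨n, hn⟩ g y
    · ext x
      show τ (IsLocalRing.ResidueField.map (algebraMap A A') x) = algebraMap A A' (σ x)
      have h1 : IsLocalRing.ResidueField.map (algebraMap A A') x
          = algebraMap (IsLocalRing.ResidueField A) (IsLocalRing.ResidueField A') x := rfl
      rw [h1, τ.commutes, halg]

end Groth.Agent.S7150
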