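import Groth.Statements.S1984
import Mathlib
import Groth.Agent.Lib.Helper10.TotRam1

set_option autoImplicit false
universe u
open EtAlg

namespace Groth.Agent.S1984

set_option linter.style.haveILetI false
set_option linter.unusedSectionVars false

open TensorProduct IsLocalRing Groth.Agent.Lib.helper10 Groth.Agent.Lib.helper10.DvrExt

section Gen

variable (K L K₁ M : Type u) [Field K] [Field L] [Algebra K L] [Field K₁] [Algebra K K₁]
  [Field M] [Algebra K M] [Algebra L M] [Algebra K₁ M] [IsScalarTower K L M] [IsScalarTower K K₁ M]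

/-- the canonical map `L ⊗ K₁ → M` -/
noncomputable def phi : L ⊗[K] K₁ →ₐ[L] M :=
  Algebra.TensorProduct.productLeftAlgHom (Algebra.ofId L M) (IsScalarTower.toAlgHom K K₁ M)

theorem phi_surjective (hgen : Algebra.adjoin L (Set.range (algebraMap K₁ M)) = ⊤) :
    Function.Surjective (phi K L K₁ M) := by
  rw [← AlgHom.range_eq_top, eq_top_iff, ← hgen]
  apply Algebra.adjoin_le
  rintro _ ⟨y, rfl⟩
  exact ⟨1 ⊗ₜ y, by simp [phi]⟩

theorem finite_of_gen [FiniteDimensional K K₁]
    (hgen : Algebra.adjoin L (Set.range (algebraMap K₁ M)) = ⊤) :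
    FiniteDimensional L M ∧ Module.finrank L M ≤ Module.finrank K K₁ := by
  have hs := phi_surjective K L K₁ M hgen
  refine ⟨Module.Finite.of_surjective (phi K L K₁ M).toLinearMap hs, ?_⟩
  rw [← Module.finrank_baseChange (R := L) (S := K) (M' := K₁)]
  exact LinearMap.finrank_le_finrank_of_surjective (f := (phi K L K₁ M).toLinearMap) hs

theorem separable_of_gen [FiniteDimensional K K₁] [Algebra.IsSeparable K K₁]
    (hgen : Algebra.adjoin L (Set.range (algebraMap K₁ M)) = ⊤) :
    Algebra.IsSeparable L M := by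
  have h1 : IntermediateField.adjoin L (Set.range (algebraMap K₁ M)) = ⊤ :=
    IntermediateField.adjoin_eq_top_of_algebra L _ hgen
  have h2 : Algebra.IsSeparable L (IntermediateField.adjoin L (Set.range (algebraMap K₁ M))) := by
    rw [IntermediateField.isSeparable_adjoin_iff_isSeparable]
    rintro _ ⟨y, rfl⟩
    have hy : IsSeparable K y := Algebra.IsSeparable.isSeparable K y
    have hy' : IsSeparable K (algebraMap K₁ M y) := by
      unfold IsSeparable at hy ⊢
      rwa [minpoly.algebraMap_eq (algebraMap K₁ M).injective]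
    exact hy'.tower_top L
  rw [h1] at h2
  exact AlgEquiv.Algebra.isSeparable (IntermediateField.topEquiv (F := L) (E := M))

end Gen

section Core

variable (A B K L : Type u) [CommRing A] [IsDomain A] [IsDiscreteValuationRing A]
    [CommRing B] [IsDomain B] [IsDiscreteValuationRing B] [Algebra A B] [IsLocalHom (algebraMap A B)]
    [Field K] [Field L] [Algebra A K] [IsFractionRing A K] [Algebra B L] [IsFractionRing B L]
    [Algebra K L] [Algebra A L] [IsScalarTower A K L] [IsScalarTower A B L]
    (K₁ : Type u) [Field K₁] [Algebra K K₁] [FiniteDimensional K K₁] [Algebra.IsSeparable K K₁]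
    (M : Type u) [Field M] [Algebra K M] [Algebra L M] [Algebra K₁ M] [IsScalarTower K L M]
    [IsScalarTower K K₁ M]

theorem core (hw : EtRam.IsWeaklyUnramified A B)
    (ht : EtRam.IsTotallyRamified A ((algebraMap K K₁).comp (algebraMap A K)))
    (hgen : Algebra.adjoin L (Set.range (algebraMap K₁ M)) = ⊤)
    (W : ValuationSubring M)
    (hW : EtRam.Dominates B ((algebraMap L M).comp (algebraMap B L)) W) :
    Module.finrank L M = Module.finrank K K₁ ∧
    (letI : Algebra (W.comap (algebraMap K₁ M)) W :=
        (EtRam.inclOfComap W (algebraMap K₁ M)).toAlgebra;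
      EtRam.IsWeaklyUnramified (W.comap (algebraMap K₁ M)) W) := by
  obtain ⟨hfd, hle⟩ := finite_of_gen K L K₁ M hgen
  haveI := hfd
  haveI := separable_of_gen K L K₁ M hgen
  letI : Algebra A K₁ := ((algebraMap K K₁).comp (algebraMap A K)).toAlgebra
  haveI : IsScalarTower A K K₁ := IsScalarTower.of_algebraMap_eq (fun _ => rfl)
  letI : Algebra B M := ((algebraMap L M).comp (algebraMap B L)).toAlgebra
  haveI : IsScalarTower B L M := IsScalarTower.of_algebraMap_eq (fun _ => rfl)
  obtain ⟨π, hπirr⟩ := IsDiscreteValuationRing.exists_irreducible A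
  have hπ : maximalIdeal A = Ideal.span {π} := hπirr.maximalIdeal_eq
  have hπB : maximalIdeal B = Ideal.span {algebraMap A B π} := by
    rw [← hw, hπ, Ideal.map_span, Set.image_singleton]
  obtain ⟨V₁, x, u, hV₁, huniq, hx, hu, hxu⟩ := TotRam.exists_unif A K K₁ ht hπ
  -- W ∩ K₁ dominates A
  have hcomp : ∀ a : A, algebraMap K₁ M (algebraMap A K₁ a) = algebraMap B M (algebraMap A B a) := by
    intro a
    show algebraMap K₁ M (algebraMap K K₁ (algebraMap A K a)) =
      algebraMap L M (algebraMap B L (algebraMap A B a))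
    rw [← IsScalarTower.algebraMap_apply K K₁ M, ← IsScalarTower.algebraMap_apply A B L,
      IsScalarTower.algebraMap_apply A K L, ← IsScalarTower.algebraMap_apply K L M]
  have hdom : EtRam.Dominates A (algebraMap A K₁) (W.comap (algebraMap K₁ M)) := by
    refine ⟨fun a => ?_, fun a ha => ?_⟩
    · rw [ValuationSubring.mem_comap, hcomp]
      exact hW.1 _
    · rw [TotRam.comap_val_lt_one_iff, hcomp]
      apply hW.2
      exact (IsLocalRing.mem_maximalIdeal _).mpr (fun hu' =>
        (IsLocalRing.mem_maximalIdeal _).mp ha (isUnit_of_map_unit (algebraMap A B) a hu'))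
  have hV : W.comap (algebraMap K₁ M) = V₁ := huniq _ hdom
  have hx' : W.valuation (algebraMap K₁ M x) < 1 := by
    rw [← TotRam.comap_val_lt_one_iff, hV]; exact hx
  have hu' : W.valuation (algebraMap K₁ M u) = 1 := by
    rw [← TotRam.comap_val_eq_one_iff, hV]; exact hu
  have heq : algebraMap B M (algebraMap A B π) =
      algebraMap K₁ M u * algebraMap K₁ M x ^ Module.finrank K K₁ := by
    rw [← hcomp, hxu, map_mul, map_pow]
  obtain ⟨hfr, hdiv⟩ := TotRam.key B L M W hW hπB _ _ hx' hu' _ hle heq
  refine ⟨hfr, ?_⟩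
  letI : Algebra (W.comap (algebraMap K₁ M)) W :=
    (EtRam.inclOfComap W (algebraMap K₁ M)).toAlgebra
  unfold EtRam.IsWeaklyUnramified
  apply le_antisymm
  · exact IsLocalRing.map_maximalIdeal_le (EtRam.inclOfComap W (algebraMap K₁ M))
  · intro z hz
    rw [ValuationSubring.valuation_lt_one_iff] at hz
    have hxmem : x ∈ W.comap (algebraMap K₁ M) := by
      rw [hV, ← ValuationSubring.valuation_le_one_iff]; exact hx.le
    have hxmax : (⟨x, hxmem⟩ : W.comap (algebraMap K₁ M)) ∈
        maximalIdeal (W.comap (algebraMap K₁ M)) := by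
      rw [ValuationSubring.valuation_lt_one_iff]
      show (W.comap (algebraMap K₁ M)).valuation x < 1
      rw [TotRam.comap_val_lt_one_iff]; exact hx'
    have hz' : z = (⟨(z : M) / algebraMap K₁ M x, hdiv _ hz⟩ : W) *
        algebraMap (W.comap (algebraMap K₁ M)) W ⟨x, hxmem⟩ := by
      apply Subtype.ext
      show (z : M) = (z : M) / algebraMap K₁ M x * algebraMap K₁ M x
      have hx0 : algebraMap K₁ M x ≠ 0 := by
        intro h0
        rw [h0, zero_pow (by have := Module.finrank_pos (R := L) (M := M); omega), mul_zero] at heq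
        have : algebraMap A B π = 0 := by
          have hinj : Function.Injective (algebraMap B M) :=
            (algebraMap L M).injective.comp (IsFractionRing.injective B L)
          exact hinj (by rw [heq, map_zero])
        rw [this, Set.singleton_zero, Ideal.span_zero] at hπB
        exact IsDiscreteValuationRing.not_a_field B hπB
      rw [div_mul_cancel₀ _ hx0]
    rw [hz']
    exact Ideal.mul_mem_left _ _ (Ideal.mem_map_of_mem _ hxmax)

end Core

section Exists

variable (B L M : Type u) [CommRing B] [IsDomain B] [IsDiscreteValuationRing B]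
  [Field L] [Algebra B L] [IsFractionRing B L]
  [Field M] [Algebra L M]
  [FiniteDimensional L M] [Algebra.IsSeparable L M]

open IsDedekindDomain in
theorem exists_dominating : ∃ W : ValuationSubring M,
    EtRam.Dominates B ((algebraMap L M).comp (algebraMap B L)) W := by
  letI : Algebra B M := ((algebraMap L M).comp (algebraMap B L)).toAlgebra
  haveI : IsScalarTower B L M := IsScalarTower.of_algebraMap_eq (fun _ => rfl)
  haveI : Module.IsTorsionFree B M := .trans_faithfulSMul B L M
  haveI : IsDedekindDomain (integralClosure B M) := integralClosure.isDedekindDomain B L M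
  haveI : IsFractionRing (integralClosure B M) M :=
    integralClosure.isFractionRing_of_finite_extension L M
  have hm0 : maximalIdeal B ≠ ⊥ := IsDiscreteValuationRing.not_a_field B
  obtain ⟨⟨P, hP1, hP2⟩⟩ := Ideal.nonempty_primesOver (S := integralClosure B M) (maximalIdeal B)
  let w : HeightOneSpectrum (integralClosure B M) :=
    ⟨P, hP1, Ideal.ne_bot_of_liesOver_of_ne_bot hm0 P⟩
  haveI : w.asIdeal.LiesOver (maximalIdeal B) := hP2
  exact ⟨Vw w, dominates_Vw w⟩

end Exists

section Main

variable (A B K L : Type u) [CommRing A] [IsDomain A] [IsDiscreteValuationRing A]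
    [CommRing B] [IsDomain B] [IsDiscreteValuationRing B] [Algebra A B] [IsLocalHom (algebraMap A B)]
    [Field K] [Field L] [Algebra A K] [IsFractionRing A K] [Algebra B L] [IsFractionRing B L]
    [Algebra K L] [Algebra A L] [IsScalarTower A K L] [IsScalarTower A B L]
    (K₁ : Type u) [Field K₁] [Algebra K K₁] [FiniteDimensional K K₁] [Algebra.IsSeparable K K₁]

theorem isField_tensor (hw : EtRam.IsWeaklyUnramified A B)
    (ht : EtRam.IsTotallyRamified A ((algebraMap K K₁).comp (algebraMap A K))) :
    IsField (L ⊗[K] K₁) := by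
  have hfrT : Module.finrank L (L ⊗[K] K₁) = Module.finrank K K₁ := Module.finrank_baseChange
  haveI : Nontrivial (L ⊗[K] K₁) :=
    Module.nontrivial_of_finrank_pos (R := L) (by rw [hfrT]; exact Module.finrank_pos)
  obtain ⟨𝔪, h𝔪⟩ := Ideal.exists_maximal (L ⊗[K] K₁)
  letI : Field ((L ⊗[K] K₁) ⧸ 𝔪) := Ideal.Quotient.field 𝔪
  letI : Algebra K₁ (L ⊗[K] K₁) := Algebra.TensorProduct.rightAlgebra
  have hgen : Algebra.adjoin L (Set.range (algebraMap K₁ ((L ⊗[K] K₁) ⧸ 𝔪))) = ⊤ := by
    rw [eq_top_iff]
    rintro z -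
    obtain ⟨t, rfl⟩ := Ideal.Quotient.mk_surjective z
    induction t using TensorProduct.induction_on with
    | zero => rw [map_zero]; exact Subalgebra.zero_mem _
    | tmul l y =>
      have h1 : (l ⊗ₜ[K] y : L ⊗[K] K₁) = l • algebraMap K₁ (L ⊗[K] K₁) y := by
        show l ⊗ₜ[K] y = l • ((1 : L) ⊗ₜ[K] y)
        rw [TensorProduct.smul_tmul', smul_eq_mul, mul_one]
      rw [h1, ← Ideal.Quotient.mkₐ_eq_mk L, map_smul]
      apply Subalgebra.smul_mem
      apply Algebra.subset_adjoin
      exact ⟨y, rfl⟩
    | add a b ha hb => rw [map_add]; exact Subalgebra.add_mem _ ha hb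
  obtain ⟨hfd, hle⟩ := finite_of_gen K L K₁ ((L ⊗[K] K₁) ⧸ 𝔪) hgen
  haveI := hfd
  haveI := separable_of_gen K L K₁ ((L ⊗[K] K₁) ⧸ 𝔪) hgen
  obtain ⟨W, hW⟩ := exists_dominating B L ((L ⊗[K] K₁) ⧸ 𝔪)
  obtain ⟨hfr, -⟩ := core A B K L K₁ ((L ⊗[K] K₁) ⧸ 𝔪) hw ht hgen W hW
  have hinj : Function.Injective (Ideal.Quotient.mkₐ L 𝔪).toLinearMap :=
    (LinearMap.injective_iff_surjective_of_finrank_eq_finrank (hfrT.trans hfr.symm)).mpr
      (Ideal.Quotient.mkₐ_surjective L 𝔪)
  exact MulEquiv.isField (Field.toIsField ((L ⊗[K] K₁) ⧸ 𝔪))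
    (RingEquiv.ofBijective (Ideal.Quotient.mk 𝔪) ⟨hinj, Ideal.Quotient.mk_surjective⟩).toMulEquiv

theorem main
    (hw : EtRam.IsWeaklyUnramified A B)
    (ht : EtRam.IsTotallyRamified A ((algebraMap K K₁).comp (algebraMap A K))) :
    IsField (L ⊗[K] K₁) ∧ EtRam.IsWeakSolution B K L K₁ := by
  refine ⟨isField_tensor A B K L K₁ hw ht, ?_⟩
  intro M _ _ _ _ _ _ hgen W hW
  exact (core A B K L K₁ M hw ht hgen W hW).2

end Main



open TensorProduct in
/-- Let A -> B be a weakly unramified extension of discrete valuation rings with fraction fields K ⊂ L,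
and K₁/K a finite separable extension which is totally ramified with respect to A. Then L ⊗_K K₁ is
a field and K₁ is a weak solution for A -> B (the valuation ring of L ⊗_K K₁ over B is weakly
unramified over that of K₁ over A). -/
theorem result (A B K L : Type u) [CommRing A] [IsDomain A] [IsDiscreteValuationRing A]
    [CommRing B] [IsDomain B] [IsDiscreteValuationRing B] [Algebra A B] [IsLocalHom (algebraMap A B)]
    (hinj : Function.Injective (algebraMap A B))
    [Field K] [Field L] [Algebra A K] [IsFractionRing A K] [Algebra B L] [IsFractionRing B L]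
    [Algebra K L] [Algebra A L] [IsScalarTower A K L] [IsScalarTower A B L]
    (hw : EtRam.IsWeaklyUnramified A B) (K₁ : Type u) [Field K₁] [Algebra K K₁] [FiniteDimensional K K₁]
    [Algebra.IsSeparable K K₁] (ht : EtRam.IsTotallyRamified A ((algebraMap K K₁).comp (algebraMap A K))) :
    IsField (L ⊗[K] K₁) ∧ EtRam.IsWeakSolution B K L K₁ := by
  exact main A B K L K₁ hw ht

end Groth.Agent.S1984
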