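import Groth.Statements.S9306
import Mathlib
import Groth.Agent.Lib.Helper10.CompDvr4
import Groth.Agent.S1984

set_option autoImplicit false
universe u
open EtRam

namespace Groth.Agent.S9306

set_option linter.style.haveILetI false
set_option linter.unusedSectionVars false

open TensorProduct IsLocalRing IsDedekindDomain Groth.Agent.Lib.helper10
  Groth.Agent.Lib.helper10.DvrExt

section FinRes

variable (A K K' : Type u) [CommRing A] [IsDomain A] [IsDiscreteValuationRing A]
  [Field K] [Algebra A K] [IsFractionRing A K]
  [Field K'] [Algebra K K'] [Algebra A K'] [IsScalarTower A K K']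
  [FiniteDimensional K K'] [Algebra.IsSeparable K K']

include K in
theorem finite_residue (V : ValuationSubring K') (hV : EtRam.Dominates A (algebraMap A K') V) :
    letI : Algebra A V := (RingHom.codRestrict (algebraMap A K') V hV.1).toAlgebra
    ∀ [IsLocalHom (algebraMap A V)], Module.Finite (ResidueField A) (ResidueField V) := by
  haveI : Module.IsTorsionFree A K' := .trans_faithfulSMul A K K'
  haveI : IsDedekindDomain (integralClosure A K') := integralClosure.isDedekindDomain A K K'
  haveI : IsFractionRing (integralClosure A K') K' :=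
    integralClosure.isFractionRing_of_finite_extension K K'
  haveI : Module.Finite A (integralClosure A K') :=
    IsIntegralClosure.finite A K K' (integralClosure A K')
  obtain ⟨w, hw, rfl⟩ := exists_w (integralClosure A K') V hV
  letI : Algebra A (Vw (L := K') w) :=
    (RingHom.codRestrict (algebraMap A K') (Vw (L := K') w) hV.1).toAlgebra
  intro _
  have h1 := finrank_residue (A := A) (L := K') w hV.1
  haveI := w.isPrime
  have h2 : 0 < w.asIdeal.inertiaDeg A := Ideal.inertiaDeg_pos _ _
  exact Module.finite_of_finrank_pos (by rw [h1]; exact h2)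

end FinRes

section U

variable (A B K L K' : Type u) [CommRing A] [IsDomain A] [IsDiscreteValuationRing A]
  [CommRing B] [IsDomain B] [IsDiscreteValuationRing B] [Algebra A B] [IsLocalHom (algebraMap A B)]
  [Field K] [Field L] [Field K'] [Algebra A K] [IsFractionRing A K] [Algebra B L]
  [IsFractionRing B L]
  [Algebra K L] [Algebra A L] [IsScalarTower A K L] [IsScalarTower A B L]
  [Algebra K K'] [FiniteDimensional K K'] [Algebra.IsSeparable K K']
  (F : Type u) [Field F] [Algebra K F] [Algebra L F] [Algebra K' F] [IsScalarTower K L F]
  [IsScalarTower K K' F]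

theorem vnr_comm (k E E' : Type u) [Field k] [Field E] [Field E'] [Algebra k E] [Algebra k E']
    (h : ∀ t : E ⊗[k] E', ∃ u, t = t * t * u) (t : E' ⊗[k] E) : ∃ u, t = t * t * u := by
  obtain ⟨u, hu⟩ := h (Algebra.TensorProduct.comm k E' E t)
  refine ⟨(Algebra.TensorProduct.comm k E' E).symm u, ?_⟩
  apply (Algebra.TensorProduct.comm k E' E).injective
  rw [map_mul, map_mul, AlgEquiv.apply_symm_apply]
  exact hu

theorem unram_compositum (h : EtRam.IsUnramifiedExt A ((algebraMap K K').comp (algebraMap A K)))
    (hgen : Algebra.adjoin L (Set.range (algebraMap K' F)) = ⊤) :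
    EtRam.IsUnramifiedExt B ((algebraMap L F).comp (algebraMap B L)) := by
  intro V hV
  letI : Algebra B V :=
    (RingHom.codRestrict ((algebraMap L F).comp (algebraMap B L)) V hV.1).toAlgebra
  intro hloc
  obtain ⟨hfd, -⟩ := Groth.Agent.S1984.finite_of_gen K L K' F hgen
  haveI := hfd
  letI : Algebra A K' := ((algebraMap K K').comp (algebraMap A K)).toAlgebra
  haveI : IsScalarTower A K K' := IsScalarTower.of_algebraMap_eq (fun _ => rfl)
  letI : Algebra B F := ((algebraMap L F).comp (algebraMap B L)).toAlgebra
  haveI : IsScalarTower B L F := IsScalarTower.of_algebraMap_eq (fun _ => rfl)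
  obtain ⟨v, hv, hv1, hv2⟩ := CompDvr.exists_discrete_valuation B L F V hV
  have hcomp : ∀ a : A, algebraMap K' F (algebraMap A K' a) =
      algebraMap B F (algebraMap A B a) := by
    intro a
    show algebraMap K' F (algebraMap K K' (algebraMap A K a)) =
      algebraMap L F (algebraMap B L (algebraMap A B a))
    rw [← IsScalarTower.algebraMap_apply K K' F, ← IsScalarTower.algebraMap_apply A B L,
      IsScalarTower.algebraMap_apply A K L, ← IsScalarTower.algebraMap_apply K L F]
  have hdomA : EtRam.Dominates A (algebraMap A K') (V.comap (algebraMap K' F)) := by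
    refine ⟨fun a => ?_, fun a ha => ?_⟩
    · rw [ValuationSubring.mem_comap, hcomp]
      exact hV.1 _
    · rw [TotRam.comap_val_lt_one_iff, hcomp]
      apply hV.2
      exact (IsLocalRing.mem_maximalIdeal _).mpr (fun hu' =>
        (IsLocalRing.mem_maximalIdeal _).mp ha (isUnit_of_map_unit (algebraMap A B) a hu'))
  letI : Algebra A (V.comap (algebraMap K' F)) :=
    (RingHom.codRestrict (algebraMap A K') _ hdomA.1).toAlgebra
  haveI : IsLocalHom (algebraMap A (V.comap (algebraMap K' F))) :=
    CompDvr.isLocalHom_codRestrict _ _ hdomA
  obtain ⟨hwuP, hsepP⟩ := h (V.comap (algebraMap K' F)) hdomA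
  haveI := hsepP
  haveI : Module.Finite (ResidueField A) (ResidueField (V.comap (algebraMap K' F))) :=
    finite_residue A K K' _ hdomA
  obtain ⟨πB, hπBirr⟩ := IsDiscreteValuationRing.exists_irreducible B
  have hπB : maximalIdeal B = Ideal.span {πB} := hπBirr.maximalIdeal_eq
  obtain ⟨jP, hjP⟩ : ∃ jP : V.comap (algebraMap K' F) →+* F,
      jP = (algebraMap K' F).comp (V.comap (algebraMap K' F)).subtype := ⟨_, rfl⟩
  have hjP' : ∀ p : V.comap (algebraMap K' F), jP p = algebraMap K' F (p : K') := by
    intro p; rw [hjP]; rfl
  have hPdom : EtRam.Dominates (V.comap (algebraMap K' F)) jP V := by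
    refine ⟨fun p => ?_, fun p hp => ?_⟩
    · rw [hjP']; exact p.2
    · rw [ValuationSubring.valuation_lt_one_iff] at hp
      rw [hjP']
      exact (TotRam.comap_val_lt_one_iff V (algebraMap K' F) p).mp hp
  have hT : ∀ t : ResidueField (V.comap (algebraMap K' F)) ⊗[ResidueField A] ResidueField B,
      ∃ u, t = t * t * u := by
    haveI : Algebra.FormallyUnramified (ResidueField A)
        (ResidueField (V.comap (algebraMap K' F))) :=
      Algebra.FormallyUnramified.of_isSeparable _ _
    haveI : IsReduced (ResidueField B ⊗[ResidueField A]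
        ResidueField (V.comap (algebraMap K' F))) :=
      Algebra.FormallyUnramified.isReduced_of_field (ResidueField B) _
    haveI : Algebra.IsIntegral (ResidueField A) (ResidueField (V.comap (algebraMap K' F))) :=
      Algebra.IsIntegral.of_finite _ _
    exact vnr_comm _ _ _ (CompDvr.vnr_tensor_right (ResidueField A) (ResidueField B)
      (ResidueField (V.comap (algebraMap K' F))))
  have hinjBF : Function.Injective (algebraMap B F) :=
    (algebraMap L F).injective.comp (IsFractionRing.injective B L)
  have hgenR : ∀ x : F, x ∈ CompDvr.fracField (CompDvr.RR jP (algebraMap B F)) := by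
    apply CompDvr.gen_of_adjoin (L := L) (algebraMap K' F) _ _ _ hgen
    · intro l
      obtain ⟨b₁, b₂, hb₂, rfl⟩ := IsFractionRing.div_surjective (A := B) l
      rw [CompDvr.mem_fracField]
      refine ⟨algebraMap B F b₁, CompDvr.jQ_mem _ _ b₁, algebraMap B F b₂, CompDvr.jQ_mem _ _ b₂,
        ?_, ?_⟩
      · exact fun h0 => nonZeroDivisors.ne_zero hb₂ (hinjBF (by rw [h0, map_zero]))
      · rw [IsScalarTower.algebraMap_apply B L F b₂, IsScalarTower.algebraMap_apply B L F b₁,
          ← map_mul, div_mul_cancel₀]
        exact fun h0 => nonZeroDivisors.ne_zero hb₂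
          (IsFractionRing.injective B L (by rw [h0, map_zero]))
    · intro y
      rcases (V.comap (algebraMap K' F)).mem_or_inv_mem y with hy | hy
      · apply CompDvr.subring_le_fracField
        have := CompDvr.jP_mem jP (algebraMap B F) ⟨y, hy⟩
        rwa [hjP'] at this
      · have h3 := CompDvr.jP_mem jP (algebraMap B F) ⟨y⁻¹, hy⟩
        rw [hjP'] at h3
        have h4 := (CompDvr.fracField (CompDvr.RR jP (algebraMap B F))).inv_mem
          (CompDvr.subring_le_fracField _ h3)
        simpa using h4
  have hπ0 : algebraMap B F πB ≠ 0 := by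
    intro h0
    have : πB = 0 := hinjBF (by rw [h0, map_zero])
    exact hπBirr.ne_zero this
  have hcompat : ∀ a : A, jP (algebraMap A (V.comap (algebraMap K' F)) a) =
      algebraMap B F (algebraMap A B a) := by
    intro a
    rw [hjP']
    exact hcomp a
  obtain ⟨h1, h2⟩ := CompDvr.apply jP (algebraMap B F) V v hv hv1 hPdom hV hcompat hwuP πB hπB
    hπ0 hT hgenR
  constructor
  · -- weakly unramified
    unfold EtRam.IsWeaklyUnramified
    apply le_antisymm
    · exact IsLocalRing.map_maximalIdeal_le (algebraMap B V)
    · intro z hz
      rw [ValuationSubring.valuation_lt_one_iff] at hz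
      obtain ⟨y, hy, hzy⟩ := h1 _ hz
      have hz' : z = (⟨y, hy⟩ : V) * algebraMap B V πB := Subtype.ext hzy
      rw [hz']
      apply Ideal.mul_mem_left
      apply Ideal.mem_map_of_mem
      rw [hπB]; exact Ideal.mem_span_singleton_self _
  · -- separable residue field extension
    letI : Algebra A V := ((algebraMap B V).comp (algebraMap A B)).toAlgebra
    haveI : IsScalarTower A B V := IsScalarTower.of_algebraMap_eq (fun _ => rfl)
    letI : Algebra (V.comap (algebraMap K' F)) V := (RingHom.codRestrict jP V hPdom.1).toAlgebra
    haveI : IsLocalHom (algebraMap (V.comap (algebraMap K' F)) V) :=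
      CompDvr.isLocalHom_codRestrict _ _ hPdom
    haveI : IsScalarTower A (V.comap (algebraMap K' F)) V :=
      IsScalarTower.of_algebraMap_eq (fun a => Subtype.ext (hcompat a).symm)
    haveI : IsLocalHom (algebraMap A V) := by
      show IsLocalHom ((algebraMap B V).comp (algebraMap A B))
      exact RingHom.isLocalHom_comp _ _
    constructor
    intro y
    have hy := CompDvr.residue_mem_closure jP (algebraMap B F) V hPdom.1 hV.1 h2 y
    have hle : Subring.closure
        (Set.range (fun p => residue V (RingHom.codRestrict jP V hPdom.1 p)) ∪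
          Set.range (fun q => residue V (RingHom.codRestrict (algebraMap B F) V hV.1 q))) ≤
        (separableClosure (ResidueField B) (ResidueField V)).toSubring := by
      apply Subring.closure_le.mpr
      rintro _ (⟨p, rfl⟩ | ⟨q, rfl⟩)
      · show residue V (algebraMap (V.comap (algebraMap K' F)) V p) ∈
          separableClosure (ResidueField B) (ResidueField V)
        rw [mem_separableClosure_iff]
        have hp : IsSeparable (ResidueField A) (residue _ p) :=
          Algebra.IsSeparable.isSeparable (ResidueField A) _
        have hp' : IsSeparable (ResidueField A) (residue V (algebraMap (V.comap (algebraMap K' F)) V p)) := by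
          rw [← IsLocalRing.ResidueField.algebraMap_residue]
          unfold IsSeparable at hp ⊢
          rwa [minpoly.algebraMap_eq (algebraMap (ResidueField (V.comap (algebraMap K' F)))
            (ResidueField V)).injective]
        exact hp'.tower_top (ResidueField B)
      · show residue V (algebraMap B V q) ∈ separableClosure (ResidueField B) (ResidueField V)
        rw [← IsLocalRing.ResidueField.algebraMap_residue]
        exact (separableClosure (ResidueField B) (ResidueField V)).algebraMap_mem _
    exact mem_separableClosure_iff.mp (hle hy)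

end U

section Main

variable (A B K L K' : Type u) [CommRing A] [IsDomain A] [IsDiscreteValuationRing A]
  [CommRing B] [IsDomain B] [IsDiscreteValuationRing B] [Algebra A B] [IsLocalHom (algebraMap A B)]
  [Field K] [Field L] [Field K'] [Algebra A K] [IsFractionRing A K] [Algebra B L]
  [IsFractionRing B L]
  [Algebra K L] [Algebra A L] [IsScalarTower A K L] [IsScalarTower A B L]
  [Algebra K K'] [FiniteDimensional K K'] [Algebra.IsSeparable K K']

theorem main (h : EtRam.IsUnramifiedExt A ((algebraMap K K').comp (algebraMap A K)))
    (F : Type u) [Field F] [Algebra (K' ⊗[K] L) F]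
    (hF : Function.Surjective (algebraMap (K' ⊗[K] L) F)) :
    EtRam.IsUnramifiedExt B ((algebraMap (K' ⊗[K] L) F).comp
      ((Algebra.TensorProduct.includeRight : L →ₐ[K] K' ⊗[K] L).toRingHom.comp
        (algebraMap B L))) := by
  letI : Algebra L F := ((algebraMap (K' ⊗[K] L) F).comp
    (Algebra.TensorProduct.includeRight : L →ₐ[K] K' ⊗[K] L).toRingHom).toAlgebra
  letI : Algebra K' F := ((algebraMap (K' ⊗[K] L) F).comp
    (Algebra.TensorProduct.includeLeft : K' →ₐ[K] K' ⊗[K] L).toRingHom).toAlgebra
  letI : Algebra K F := ((algebraMap L F).comp (algebraMap K L)).toAlgebra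
  haveI : IsScalarTower K L F := IsScalarTower.of_algebraMap_eq (fun _ => rfl)
  haveI : IsScalarTower K K' F := IsScalarTower.of_algebraMap_eq (fun k => by
    show algebraMap (K' ⊗[K] L) F ((1 : K') ⊗ₜ[K] algebraMap K L k) =
      algebraMap (K' ⊗[K] L) F (algebraMap K K' k ⊗ₜ[K] (1 : L))
    congr 1
    rw [Algebra.algebraMap_eq_smul_one, Algebra.algebraMap_eq_smul_one, TensorProduct.smul_tmul])
  have hgen : Algebra.adjoin L (Set.range (algebraMap K' F)) = ⊤ := by
    rw [eq_top_iff]
    rintro z -
    obtain ⟨t, rfl⟩ := hF z
    induction t using TensorProduct.induction_on with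
    | zero => rw [map_zero]; exact Subalgebra.zero_mem _
    | tmul y l =>
      have h1 : (y ⊗ₜ[K] l : K' ⊗[K] L) = (y ⊗ₜ[K] (1 : L)) * ((1 : K') ⊗ₜ[K] l) := by
        rw [Algebra.TensorProduct.tmul_mul_tmul, mul_one, one_mul]
      rw [h1, map_mul]
      apply Subalgebra.mul_mem
      · apply Algebra.subset_adjoin
        exact ⟨y, rfl⟩
      · exact Subalgebra.algebraMap_mem _ l
    | add a b ha hb => rw [map_add]; exact Subalgebra.add_mem _ ha hb
  exact unram_compositum A B K L K' F h hgen

end Main



open TensorProduct in
/-- Let A → B be an injective local homomorphism of discrete valuation rings with fraction fields K ⊆ L,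
and let K' be a finite separable extension of K that is unramified relative to A. Then every field F
onto which K' ⊗_K L surjects is, as an extension of L, unramified relative to B. (The published
statement also records that K' ⊗_K L is a finite product of fields, whose factors are these F; this
row does not state that part.) -/
theorem result (A B K L K' : Type u) [CommRing A] [IsDomain A]
    [IsDiscreteValuationRing A] [CommRing B] [IsDomain B] [IsDiscreteValuationRing B] [Algebra A B]
    [IsLocalHom (algebraMap A B)] (hinj : Function.Injective (algebraMap A B))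
    [Field K] [Field L] [Field K'] [Algebra A K] [IsFractionRing A K] [Algebra B L] [IsFractionRing B L]
    [Algebra K L] [Algebra A L] [IsScalarTower A K L] [IsScalarTower A B L]
    [Algebra K K'] [FiniteDimensional K K'] [Algebra.IsSeparable K K']
    (h : EtRam.IsUnramifiedExt A ((algebraMap K K').comp (algebraMap A K)))
    (F : Type u) [Field F] [Algebra (K' ⊗[K] L) F] (hF : Function.Surjective (algebraMap (K' ⊗[K] L) F)) :
    EtRam.IsUnramifiedExt B ((algebraMap (K' ⊗[K] L) F).comp
      ((Algebra.TensorProduct.includeRight : L →ₐ[K] K' ⊗[K] L).toRingHom.comp (algebraMap B L))) := by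
  exact main A B K L K' h F hF

end Groth.Agent.S9306
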