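import Groth.Statements.S9307
import Mathlib
import Groth.Agent.Lib.Helper10.CompDvr12
import Groth.Agent.S9306

set_option autoImplicit false
universe u
open EtRam

namespace Groth.Agent.S9307

set_option linter.style.haveILetI false
set_option linter.unusedSectionVars false

open TensorProduct IsLocalRing IsDedekindDomain Groth.Agent.Lib.helper10
  Groth.Agent.Lib.helper10.DvrExt

section U

variable (A B K L K' : Type u) [CommRing A] [IsDomain A] [IsDiscreteValuationRing A]
  [CommRing B] [IsDomain B] [IsDiscreteValuationRing B] [Algebra A B] [IsLocalHom (algebraMap A B)]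
  [Field K] [Field L] [Field K'] [Algebra A K] [IsFractionRing A K] [Algebra B L]
  [IsFractionRing B L]
  [Algebra K L] [Algebra A L] [IsScalarTower A K L] [IsScalarTower A B L]
  [Algebra K K'] [FiniteDimensional K K'] [Algebra.IsSeparable K K']
  (F : Type u) [Field F] [Algebra K F] [Algebra L F] [Algebra K' F] [IsScalarTower K L F]
  [IsScalarTower K K' F]

theorem tame_compositum (hinj : Function.Injective (algebraMap A B))
    (h : EtRam.IsTamelyRamified A ((algebraMap K K').comp (algebraMap A K)))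
    (hgen : Algebra.adjoin L (Set.range (algebraMap K' F)) = ⊤) :
    EtRam.IsTamelyRamified B ((algebraMap L F).comp (algebraMap B L)) := by
  intro V hV
  letI : Algebra B V :=
    (RingHom.codRestrict ((algebraMap L F).comp (algebraMap B L)) V hV.1).toAlgebra
  intro hloc
  obtain ⟨hfd, -⟩ := Groth.Agent.S1984.finite_of_gen K L K' F hgen
  haveI := hfd
  letI : Algebra A K' := ((algebraMap K K').comp (algebraMap A K)).toAlgebra
  haveI : IsScalarTower A K K' := IsScalarTower.of_algebraMap_eq (fun _ => rfl)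
  letI : Algebra B F := ((algebraMap L F).comp (algebraMap B L)).toAlgebra
  haveI : IsScalarTower B L F := IsScalarTower.of_algebraMap_eq (fun _ => rfl)
  obtain ⟨v, hv, hv1, hv2⟩ := CompDvr.exists_discrete_valuation B L F V hV
  have hcomp : ∀ a : A, algebraMap K' F (algebraMap A K' a) =
      algebraMap B F (algebraMap A B a) := by
    intro a
    show algebraMap K' F (algebraMap K K' (algebraMap A K a)) =
      algebraMap L F (algebraMap B L (algebraMap A B a))
    rw [← IsScalarTower.algebraMap_apply K K' F, ← IsScalarTower.algebraMap_apply A B L,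
      IsScalarTower.algebraMap_apply A K L, ← IsScalarTower.algebraMap_apply K L F]
  have hdomA : EtRam.Dominates A (algebraMap A K') (V.comap (algebraMap K' F)) := by
    refine ⟨fun a => ?_, fun a ha => ?_⟩
    · rw [ValuationSubring.mem_comap, hcomp]
      exact hV.1 _
    · rw [TotRam.comap_val_lt_one_iff, hcomp]
      apply hV.2
      exact (IsLocalRing.mem_maximalIdeal _).mpr (fun hu' =>
        (IsLocalRing.mem_maximalIdeal _).mp ha (isUnit_of_map_unit (algebraMap A B) a hu'))
  letI : Algebra A (V.comap (algebraMap K' F)) :=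
    (RingHom.codRestrict (algebraMap A K') _ hdomA.1).toAlgebra
  haveI : IsLocalHom (algebraMap A (V.comap (algebraMap K' F))) :=
    CompDvr.isLocalHom_codRestrict _ _ hdomA
  obtain ⟨hsepQ, htameQ⟩ := h (V.comap (algebraMap K' F)) hdomA
  haveI := hsepQ
  haveI : Module.Finite (ResidueField A) (ResidueField (V.comap (algebraMap K' F))) :=
    Groth.Agent.S9306.finite_residue A K K' _ hdomA
  haveI hintQ : Algebra.IsIntegral (ResidueField A) (ResidueField (V.comap (algebraMap K' F))) :=
    Algebra.IsIntegral.of_finite _ _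
  obtain ⟨πA, hπAirr⟩ := IsDiscreteValuationRing.exists_irreducible A
  have hπA : maximalIdeal A = Ideal.span {πA} := hπAirr.maximalIdeal_eq
  obtain ⟨πB, hπBirr⟩ := IsDiscreteValuationRing.exists_irreducible B
  have hπB : maximalIdeal B = Ideal.span {πB} := hπBirr.maximalIdeal_eq
  have hinjBF : Function.Injective (algebraMap B F) :=
    (algebraMap L F).injective.comp (IsFractionRing.injective B L)
  have hinjAK' : Function.Injective (algebraMap A K') :=
    (algebraMap K K').injective.comp (IsFractionRing.injective A K)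
  have hne' : ∃ q : K', q ≠ 0 ∧ v (algebraMap K' F q) < 1 := by
    refine ⟨algebraMap A K' πA, fun h0 => hπAirr.ne_zero (hinjAK' (by rw [h0, map_zero])), ?_⟩
    rw [← hv1, ← TotRam.comap_val_lt_one_iff]
    apply hdomA.2
    rw [hπA]; exact Ideal.mem_span_singleton_self _
  obtain ⟨πQ, hπQ, hπQ0, hπQv⟩ :=
    CompDvr.exists_uniformizer_comap V (algebraMap K' F) v hv hv1 hne'
  have hπQ0' : πQ ≠ 0 := fun h => hπQ0 (by rw [h]; rfl)
  -- factorizations
  have hab0 : algebraMap A B πA ≠ 0 := fun h0 => hπAirr.ne_zero (hinj (by rw [h0, map_zero]))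
  obtain ⟨e, w, hw⟩ := IsDiscreteValuationRing.eq_unit_mul_pow_irreducible hab0 hπBirr
  have haq0 : algebraMap A (V.comap (algebraMap K' F)) πA ≠ 0 := by
    intro h0
    apply hπAirr.ne_zero
    apply hinjAK'
    rw [map_zero]
    exact congrArg Subtype.val h0
  obtain ⟨e₁, u₁, hu₁⟩ := CompDvr.factor_comap V (algebraMap K' F) v hv πQ hπQ hπQv _ haq0
  have he₁ : Ideal.ramificationIdx' (maximalIdeal A) (maximalIdeal (V.comap (algebraMap K' F)))
      = e₁ := CompDvr.ramificationIdx'_eq hπA hπQ hπQ0' u₁ e₁ hu₁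
  rw [he₁] at htameQ
  have hπAmem : πA ∈ maximalIdeal A := by rw [hπA]; exact Ideal.mem_span_singleton_self _
  have he0 : e ≠ 0 := by
    rintro rfl
    rw [pow_zero, mul_one] at hw
    have : IsUnit πA := isUnit_of_map_unit (algebraMap A B) πA (hw ▸ w.isUnit)
    exact (IsLocalRing.mem_maximalIdeal _).mp hπAmem this
  have he₁0 : e₁ ≠ 0 := by
    rintro rfl
    rw [pow_zero, mul_one] at hu₁
    have : IsUnit πA :=
      isUnit_of_map_unit (algebraMap A (V.comap (algebraMap K' F))) πA (hu₁ ▸ u₁.isUnit)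
    exact (IsLocalRing.mem_maximalIdeal _).mp hπAmem this
  -- gcd decomposition
  obtain ⟨g, hg⟩ : ∃ g : ℕ, g = Nat.gcd e e₁ := ⟨_, rfl⟩
  have hg0 : g ≠ 0 := by
    rw [hg]; exact Nat.gcd_ne_zero_left he0
  have hgpos : 0 < g := Nat.pos_of_ne_zero hg0
  obtain ⟨m₂, hm₂⟩ : g ∣ e := hg ▸ Nat.gcd_dvd_left e e₁
  obtain ⟨m₁, hm₁⟩ : g ∣ e₁ := hg ▸ Nat.gcd_dvd_right e e₁
  have hm₂0 : m₂ ≠ 0 := by rintro rfl; rw [mul_zero] at hm₂; exact he0 hm₂
  have hm₁0 : m₁ ≠ 0 := by rintro rfl; rw [mul_zero] at hm₁; exact he₁0 hm₁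
  have hcop : Nat.Coprime m₂ m₁ := by
    have h1 : Nat.gcd (g * m₂) (g * m₁) = g := by rw [← hm₂, ← hm₁, ← hg]
    rw [Nat.gcd_mul_left] at h1
    have h2 : g * Nat.gcd m₂ m₁ = g * 1 := by rw [h1, mul_one]
    exact Nat.eq_of_mul_eq_mul_left hgpos h2
  obtain ⟨a, b, hbez⟩ : ∃ a b : ℤ, (m₂ : ℤ) * a + (m₁ : ℤ) * b = 1 := by
    refine ⟨Nat.gcdA m₂ m₁, Nat.gcdB m₂ m₁, ?_⟩
    rw [← Nat.gcd_eq_gcd_ab, hcop]; rfl
  -- g is invertible in the residue field
  have hgA : ((g : ℕ) : ResidueField A) ≠ 0 := by
    obtain ⟨p, hp⟩ := CharP.exists (ResidueField A)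
    rcases CharP.char_is_prime_or_zero (ResidueField A) p with hpp | hp0
    · rw [Ne, CharP.cast_eq_zero_iff (ResidueField A) p]
      intro hpg
      exact htameQ p hpp hp (hpg.trans ⟨m₁, hm₁⟩)
    · subst hp0
      haveI := CharP.charP_to_charZero (ResidueField A)
      exact Nat.cast_ne_zero.mpr hg0
  -- maps
  obtain ⟨jQ, hjQ⟩ : ∃ jQ : V.comap (algebraMap K' F) →+* F,
      jQ = (algebraMap K' F).comp (V.comap (algebraMap K' F)).subtype := ⟨_, rfl⟩
  have hjQ' : ∀ q : V.comap (algebraMap K' F), jQ q = algebraMap K' F (q : K') := by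
    intro q; rw [hjQ]; rfl
  have hQdom : EtRam.Dominates (V.comap (algebraMap K' F)) jQ V := by
    refine ⟨fun q => ?_, fun q hq => ?_⟩
    · rw [hjQ']; exact q.2
    · rw [ValuationSubring.valuation_lt_one_iff] at hq
      rw [hjQ']
      exact (TotRam.comap_val_lt_one_iff V (algebraMap K' F) q).mp hq
  have hcompat : ∀ a : A, algebraMap B F (algebraMap A B a) =
      jQ (algebraMap A (V.comap (algebraMap K' F)) a) := by
    intro a
    rw [hjQ']
    exact (hcomp a).symm
  obtain ⟨x, hx⟩ : ∃ x : F, x = jQ πQ := ⟨_, rfl⟩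
  obtain ⟨y, hy⟩ : ∃ y : F, y = algebraMap B F πB := ⟨_, rfl⟩
  have hx0 : x ≠ 0 := by
    rw [hx, hjQ']; exact (map_ne_zero _).mpr hπQ0
  have hy0 : y ≠ 0 := by
    rw [hy]; exact fun h0 => hπBirr.ne_zero (hinjBF (by rw [h0, map_zero]))
  -- units have valuation one
  have hunitB : ∀ u : Bˣ, v (algebraMap B F u) = 1 := by
    intro u
    have h1 := (hv _).mp (hV.1 (u : B))
    have h2 := (hv _).mp (hV.1 ((u⁻¹ : Bˣ) : B))
    have h3 : algebraMap B F u * algebraMap B F ((u⁻¹ : Bˣ) : B) = 1 := by
      rw [← map_mul, ← Units.val_mul, mul_inv_cancel, Units.val_one, map_one]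
    have h4 := congrArg v h3
    rw [map_mul, map_one] at h4
    refine le_antisymm h1 ?_
    calc (1 : WithZero (Multiplicative ℤ)) = v (algebraMap B F u) * v (algebraMap B F ((u⁻¹ : Bˣ) : B)) := h4.symm
      _ ≤ v (algebraMap B F u) * 1 := mul_le_mul' le_rfl h2
      _ = _ := mul_one _
  have hunitQ : ∀ u : (V.comap (algebraMap K' F))ˣ, v (jQ u) = 1 := by
    intro u
    have h1 := (hv _).mp (hQdom.1 (u : V.comap (algebraMap K' F)))
    have h2 := (hv _).mp (hQdom.1 ((u⁻¹ : (V.comap (algebraMap K' F))ˣ) : V.comap (algebraMap K' F)))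
    have h3 : jQ u * jQ ((u⁻¹ : (V.comap (algebraMap K' F))ˣ) : V.comap (algebraMap K' F)) = 1 := by
      rw [← map_mul, ← Units.val_mul, mul_inv_cancel, Units.val_one, map_one]
    have h4 := congrArg v h3
    rw [map_mul, map_one] at h4
    refine le_antisymm h1 ?_
    calc (1 : WithZero (Multiplicative ℤ)) = v (jQ u) * v (jQ ((u⁻¹ : (V.comap (algebraMap K' F))ˣ) : V.comap (algebraMap K' F))) := h4.symm
      _ ≤ v (jQ u) * 1 := mul_le_mul' le_rfl h2
      _ = _ := mul_one _
  -- the key relation
  have hrel : jQ u₁ * x ^ e₁ = algebraMap B F w * y ^ e := by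
    have h1 := congrArg jQ hu₁
    rw [map_mul, map_pow, ← hcompat, hw, map_mul, map_pow, ← hx, ← hy] at h1
    exact h1.symm
  have hw0 : algebraMap B F w ≠ 0 := by
    intro h0
    have := hunitB w
    rw [h0, map_zero] at this
    exact zero_ne_one this
  -- the elements z, zi, ϖ
  obtain ⟨z, hz⟩ : ∃ z : F, z = CompDvr.mon y x m₂ (-(m₁ : ℤ)) := ⟨_, rfl⟩
  obtain ⟨zi, hzi⟩ : ∃ zi : F, zi = CompDvr.mon y x (-(m₂ : ℤ)) m₁ := ⟨_, rfl⟩
  obtain ⟨ϖ, hϖ⟩ : ∃ ϖ : F, ϖ = CompDvr.mon y x b a := ⟨_, rfl⟩
  have hzz : z * zi = 1 := by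
    rw [hz, hzi, CompDvr.mon_mul hy0 hx0, add_neg_cancel, neg_add_cancel, CompDvr.mon_zero_zero]
  have hzn : z ^ g = algebraMap B F ((w⁻¹ : Bˣ) : B) * jQ u₁ := by
    have h3 : algebraMap B F w * algebraMap B F ((w⁻¹ : Bˣ) : B) = 1 := by
      rw [← map_mul, ← Units.val_mul, mul_inv_cancel, Units.val_one, map_one]
    have h4 : algebraMap B F ((w⁻¹ : Bˣ) : B) = (algebraMap B F w)⁻¹ :=
      eq_inv_of_mul_eq_one_right h3
    have h5 : z ^ g * x ^ e₁ = y ^ e := by
      rw [hz, CompDvr.mon_pow, hm₁, hm₂]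
      have h6 : x ^ (g * m₁) = CompDvr.mon y x 0 ((g * m₁ : ℕ) : ℤ) := by
        rw [← Nat.cast_zero (R := ℤ), CompDvr.mon_natCast, pow_zero, one_mul]
      have h7 : y ^ (g * m₂) = CompDvr.mon y x ((g * m₂ : ℕ) : ℤ) 0 := by
        rw [← Nat.cast_zero (R := ℤ), CompDvr.mon_natCast, pow_zero, mul_one]
      rw [h6, h7, CompDvr.mon_mul hy0 hx0]
      congr 1
      · push_cast; ring
      · push_cast; ring
    rw [h4, eq_inv_mul_iff_mul_eq₀ hw0]
    have h8 : algebraMap B F w * z ^ g * x ^ e₁ = jQ u₁ * x ^ e₁ := by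
      rw [mul_assoc, h5, hrel]
    exact mul_right_cancel₀ (pow_ne_zero _ hx0) h8
  have hvz : v z = 1 := by
    have h1 := congrArg v hzn
    rw [map_pow, map_mul, hunitB, hunitQ, mul_one] at h1
    exact (pow_eq_one_iff_of_nonneg zero_le hg0).mp h1
  have hvzi : v zi = 1 := by
    have h1 := congrArg v hzz
    rw [map_mul, hvz, one_mul, map_one] at h1
    exact h1
  have hzV : z ∈ V := (hv _).mpr hvz.le
  have hziV : zi ∈ V := (hv _).mpr hvzi.le
  have hvzpow : ∀ k : ℤ, v (z ^ k) = 1 := by
    intro k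
    rw [map_zpow₀, hvz, one_zpow]
  -- y = ϖ^{m₁} z^a and x = ϖ^{m₂} z^{-b}
  have hyϖ : y = ϖ ^ m₁ * z ^ a := by
    rw [hϖ, hz, CompDvr.mon_pow, CompDvr.mon_zpow, CompDvr.mon_mul hy0 hx0]
    have h1 : b * (m₁ : ℤ) + (m₂ : ℤ) * a = 1 := by linear_combination hbez
    have h2 : a * (m₁ : ℤ) + -(m₁ : ℤ) * a = 0 := by ring
    rw [h1, h2, CompDvr.mon_one_zero]
  have hxϖ : x = ϖ ^ m₂ * z ^ (-b) := by
    rw [hϖ, hz, CompDvr.mon_pow, CompDvr.mon_zpow, CompDvr.mon_mul hy0 hx0]
    have h1 : b * (m₂ : ℤ) + (m₂ : ℤ) * -b = 0 := by ring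
    have h2 : a * (m₂ : ℤ) + -(m₁ : ℤ) * -b = 1 := by linear_combination hbez
    rw [h1, h2, CompDvr.mon_zero_one]
  have hϖ0 : ϖ ≠ 0 := by rw [hϖ]; exact CompDvr.mon_ne_zero hy0 hx0 _ _
  have hvy : v y < 1 := by
    rw [hy, ← hv1]
    apply hV.2
    rw [hπB]; exact Ideal.mem_span_singleton_self _
  have hvϖ : v ϖ < 1 := by
    by_contra hcon
    rw [not_lt] at hcon
    have h1 : v y = v ϖ ^ m₁ := by
      rw [hyϖ, map_mul, hvzpow, mul_one, map_pow]
    rw [h1] at hvy
    exact absurd (one_le_pow₀ hcon) (not_le.mpr hvy)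
  have hπv : V.valuation ϖ < 1 := (hv1 _).mpr hvϖ
  haveI : Algebra.IsAlgebraic (ResidueField A) (ResidueField (V.comap (algebraMap K' F))) :=
    Algebra.IsIntegral.isAlgebraic
  have hT : ∀ t : ResidueField B ⊗[ResidueField A] ResidueField (V.comap (algebraMap K' F)),
      ∃ u, t = t * t * u := by
    haveI : Algebra.FormallyUnramified (ResidueField A)
        (ResidueField (V.comap (algebraMap K' F))) :=
      Algebra.FormallyUnramified.of_isSeparable _ _
    haveI : IsReduced (ResidueField B ⊗[ResidueField A]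
        ResidueField (V.comap (algebraMap K' F))) :=
      Algebra.FormallyUnramified.isReduced_of_field (ResidueField B) _
    exact CompDvr.vnr_tensor_right (ResidueField A) (ResidueField B)
      (ResidueField (V.comap (algebraMap K' F)))
  have hgenR : ∀ x : F, x ∈ CompDvr.fracField (CompDvr.RR (algebraMap B F) jQ) := by
    apply CompDvr.gen_of_adjoin (L := L) (algebraMap K' F) _ _ _ hgen
    · intro l
      obtain ⟨b₁, b₂, hb₂, rfl⟩ := IsFractionRing.div_surjective (A := B) l
      rw [CompDvr.mem_fracField]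
      refine ⟨algebraMap B F b₁, CompDvr.jP_mem _ _ b₁, algebraMap B F b₂, CompDvr.jP_mem _ _ b₂,
        ?_, ?_⟩
      · exact fun h0 => nonZeroDivisors.ne_zero hb₂ (hinjBF (by rw [h0, map_zero]))
      · rw [IsScalarTower.algebraMap_apply B L F b₂, IsScalarTower.algebraMap_apply B L F b₁,
          ← map_mul, div_mul_cancel₀]
        exact fun h0 => nonZeroDivisors.ne_zero hb₂
          (IsFractionRing.injective B L (by rw [h0, map_zero]))
    · intro y'
      rcases (V.comap (algebraMap K' F)).mem_or_inv_mem y' with hy' | hy'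
      · apply CompDvr.subring_le_fracField
        have := CompDvr.jQ_mem (algebraMap B F) jQ ⟨y', hy'⟩
        rwa [hjQ'] at this
      · have h3 := CompDvr.jQ_mem (algebraMap B F) jQ ⟨y'⁻¹, hy'⟩
        rw [hjQ'] at h3
        have h4 := (CompDvr.fracField (CompDvr.RR (algebraMap B F) jQ)).inv_mem
          (CompDvr.subring_le_fracField _ h3)
        simpa using h4
  have hzpowR : ∀ k : ℤ, z ^ k ∈ CompDvr.RRzp (algebraMap B F) jQ z zi ϖ := fun k =>
    CompDvr.zpow_mem_of_inv_mem _ (CompDvr.z_mem_p _ _ _ _ _) (CompDvr.zi_mem_p _ _ _ _ _) hzz k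
  have hPπ : ∀ p ∈ maximalIdeal B, ∃ t ∈ CompDvr.RRzp (algebraMap B F) jQ z zi ϖ,
      algebraMap B F p = ϖ * t := by
    intro p hp
    rw [hπB, Ideal.mem_span_singleton'] at hp
    obtain ⟨c, rfl⟩ := hp
    refine ⟨algebraMap B F c * ϖ ^ (m₁ - 1) * z ^ a,
      Subring.mul_mem _ (Subring.mul_mem _ (CompDvr.jP_mem_zp _ _ _ _ _ c)
        (Subring.pow_mem _ (CompDvr.pi_mem_p _ _ _ _ _) _)) (hzpowR a), ?_⟩
    rw [map_mul, ← hy]
    obtain ⟨d', rfl⟩ : ∃ d', m₁ = d' + 1 := ⟨m₁ - 1, by omega⟩
    rw [Nat.add_sub_cancel]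
    rw [hyϖ]
    ring
  have hQπ : ∀ q ∈ maximalIdeal (V.comap (algebraMap K' F)),
      ∃ t ∈ CompDvr.RRzp (algebraMap B F) jQ z zi ϖ, jQ q = ϖ * t := by
    intro q hq
    rw [hπQ, Ideal.mem_span_singleton'] at hq
    obtain ⟨c, rfl⟩ := hq
    refine ⟨jQ c * ϖ ^ (m₂ - 1) * z ^ (-b),
      Subring.mul_mem _ (Subring.mul_mem _ (CompDvr.jQ_mem_zp _ _ _ _ _ c)
        (Subring.pow_mem _ (CompDvr.pi_mem_p _ _ _ _ _) _)) (hzpowR (-b)), ?_⟩
    rw [map_mul, ← hx]
    obtain ⟨d', rfl⟩ : ∃ d', m₂ = d' + 1 := ⟨m₂ - 1, by omega⟩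
    rw [Nat.add_sub_cancel]
    rw [hxϖ]
    ring
  obtain ⟨h1, h2⟩ := CompDvr.apply_root_p (algebraMap B F) jQ z zi ϖ V v hv hv1
    hV.1 hQdom.1 hzV hziV hcompat hϖ0 hπv hPπ hQπ hzz g hg0 w⁻¹ u₁ hzn hgA hT hgenR
  have hϖV : ϖ ∈ V := (hv _).mpr hvϖ.le
  have hπV : maximalIdeal V = Ideal.span {(⟨ϖ, hϖV⟩ : V)} := by
    apply le_antisymm
    · intro t ht
      rw [ValuationSubring.valuation_lt_one_iff] at ht
      obtain ⟨y', hy', hty⟩ := h1 _ ht
      rw [Ideal.mem_span_singleton']
      exact ⟨⟨y', hy'⟩, Subtype.ext hty.symm⟩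
    · rw [Ideal.span_singleton_le_iff_mem, ValuationSubring.valuation_lt_one_iff]
      exact hπv
  constructor
  · -- separable residue field extension
    letI : Algebra A V := ((algebraMap B V).comp (algebraMap A B)).toAlgebra
    haveI : IsScalarTower A B V := IsScalarTower.of_algebraMap_eq (fun _ => rfl)
    letI : Algebra (V.comap (algebraMap K' F)) V := (RingHom.codRestrict jQ V hQdom.1).toAlgebra
    haveI : IsLocalHom (algebraMap (V.comap (algebraMap K' F)) V) :=
      CompDvr.isLocalHom_codRestrict _ _ hQdom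
    haveI : IsScalarTower A (V.comap (algebraMap K' F)) V :=
      IsScalarTower.of_algebraMap_eq (fun a => Subtype.ext (hcompat a))
    haveI : IsLocalHom (algebraMap A V) := by
      show IsLocalHom ((algebraMap B V).comp (algebraMap A B))
      exact RingHom.isLocalHom_comp _ _
    constructor
    intro t
    have ht := CompDvr.residue_mem_closure_root_p (algebraMap B F) jQ z zi ϖ V hV.1 hQdom.1
      hzV hziV hπv h2 t
    -- generators are separable
    have hPsep : ∀ p : B, residue V (algebraMap B V p) ∈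
        separableClosure (ResidueField B) (ResidueField V) := by
      intro p
      rw [← IsLocalRing.ResidueField.algebraMap_residue]
      exact (separableClosure (ResidueField B) (ResidueField V)).algebraMap_mem _
    have hQsep : ∀ q : V.comap (algebraMap K' F),
        residue V (algebraMap (V.comap (algebraMap K' F)) V q) ∈
          separableClosure (ResidueField B) (ResidueField V) := by
      intro q
      rw [mem_separableClosure_iff]
      have hp : IsSeparable (ResidueField A) (residue _ q) :=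
        Algebra.IsSeparable.isSeparable (ResidueField A) _
      have hp' : IsSeparable (ResidueField A)
          (residue V (algebraMap (V.comap (algebraMap K' F)) V q)) := by
        rw [← IsLocalRing.ResidueField.algebraMap_residue]
        unfold IsSeparable at hp ⊢
        rwa [minpoly.algebraMap_eq (algebraMap (ResidueField (V.comap (algebraMap K' F)))
          (ResidueField V)).injective]
      exact hp'.tower_top (ResidueField B)
    have hzsep : residue V ⟨z, hzV⟩ ∈ separableClosure (ResidueField B) (ResidueField V) := by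
      rw [mem_separableClosure_iff]
      have hc : residue V (algebraMap B V ((w⁻¹ : Bˣ) : B)) *
          residue V (algebraMap (V.comap (algebraMap K' F)) V u₁) ∈
          separableClosure (ResidueField B) (ResidueField V) :=
        mul_mem (hPsep _) (hQsep _)
      have hzc : residue V ⟨z, hzV⟩ ^ g = residue V (algebraMap B V ((w⁻¹ : Bˣ) : B)) *
          residue V (algebraMap (V.comap (algebraMap K' F)) V u₁) := by
        rw [← map_pow, ← map_mul]
        congr 1
        exact Subtype.ext hzn
      have hc0 : residue V (algebraMap B V ((w⁻¹ : Bˣ) : B)) *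
          residue V (algebraMap (V.comap (algebraMap K' F)) V u₁) ≠ 0 := by
        rw [← hzc]
        apply pow_ne_zero
        rw [Ne, residue_eq_zero_iff, ValuationSubring.valuation_lt_one_iff, hv1]
        show ¬ v z < 1
        rw [hvz]; exact lt_irrefl _
      have hgE : ((g : ℕ) : separableClosure (ResidueField B) (ResidueField V)) ≠ 0 := by
        intro h0
        apply hgA
        have h3 := congrArg (algebraMap (separableClosure (ResidueField B) (ResidueField V))
          (ResidueField V)) h0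
        rw [map_natCast, map_zero] at h3
        have h4 : algebraMap (ResidueField A) (ResidueField V) ((g : ℕ) : ResidueField A) = 0 := by
          rw [map_natCast]; exact h3
        exact (map_eq_zero _).mp h4
      have hsepE : IsSeparable (separableClosure (ResidueField B) (ResidueField V))
          (residue V ⟨z, hzV⟩) := by
        have hpoly := Polynomial.separable_X_pow_sub_C
          (⟨_, hc⟩ : separableClosure (ResidueField B) (ResidueField V)) hgE
          (fun h0 => hc0 (congrArg Subtype.val h0))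
        apply hpoly.of_dvd
        apply minpoly.dvd
        rw [map_sub, map_pow, Polynomial.aeval_X, Polynomial.aeval_C, hzc]
        exact sub_self _
      exact IsSeparable.of_algebra_isSeparable_of_isSeparable (ResidueField B) hsepE
    have hzisep : residue V ⟨zi, hziV⟩ ∈ separableClosure (ResidueField B) (ResidueField V) := by
      have h3 : residue V ⟨z, hzV⟩ * residue V ⟨zi, hziV⟩ = 1 := by
        rw [← map_mul, ← map_one (residue V)]
        congr 1
        exact Subtype.ext hzz
      rw [eq_inv_of_mul_eq_one_right h3]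
      exact inv_mem hzsep
    have hle : Subring.closure
        (Set.range (fun p => residue V (RingHom.codRestrict (algebraMap B F) V hV.1 p)) ∪
          Set.range (fun q => residue V (RingHom.codRestrict jQ V hQdom.1 q)) ∪
          {residue V ⟨z, hzV⟩, residue V ⟨zi, hziV⟩}) ≤
        (separableClosure (ResidueField B) (ResidueField V)).toSubring := by
      apply Subring.closure_le.mpr
      rintro _ ((⟨p, rfl⟩ | ⟨q, rfl⟩) | (rfl | rfl))
      · exact hPsep p
      · exact hQsep q
      · exact hzsep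
      · exact hzisep
    exact mem_separableClosure_iff.mp (hle ht)
  · -- ramification index prime to p
    intro p hpp hpB
    have hpA : CharP (ResidueField A) p :=
      (algebraMap (ResidueField A) (ResidueField B)).charP
        (algebraMap (ResidueField A) (ResidueField B)).injective p
    have hzaV : z ^ a ∈ V := (hv _).mpr (hvzpow a).le
    have hzaiV : z ^ (-a) ∈ V := (hv _).mpr (hvzpow (-a)).le
    have hϖV0 : (⟨ϖ, hϖV⟩ : V) ≠ 0 := fun h0 => hϖ0 (congrArg Subtype.val h0)
    have hram : Ideal.ramificationIdx' (maximalIdeal B) (maximalIdeal V) = m₁ := by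
      refine CompDvr.ramificationIdx'_eq hπB hπV hϖV0
        ⟨⟨z ^ a, hzaV⟩, ⟨z ^ (-a), hzaiV⟩, ?_, ?_⟩ m₁ ?_
      · apply Subtype.ext
        show z ^ a * z ^ (-a) = 1
        rw [← zpow_add₀ (by rintro rfl; rw [map_zero] at hvz; exact zero_ne_one hvz),
          add_neg_cancel, zpow_zero]
      · apply Subtype.ext
        show z ^ (-a) * z ^ a = 1
        rw [← zpow_add₀ (by rintro rfl; rw [map_zero] at hvz; exact zero_ne_one hvz),
          neg_add_cancel, zpow_zero]
      · apply Subtype.ext
        show algebraMap B F πB = z ^ a * ϖ ^ m₁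
        rw [← hy, hyϖ, mul_comm]
    rw [hram]
    intro hpm
    exact htameQ p hpp hpA (hpm.trans ⟨g, by rw [hm₁, mul_comm]⟩)

end U

section Main

variable (A B K L K' : Type u) [CommRing A] [IsDomain A] [IsDiscreteValuationRing A]
  [CommRing B] [IsDomain B] [IsDiscreteValuationRing B] [Algebra A B] [IsLocalHom (algebraMap A B)]
  [Field K] [Field L] [Field K'] [Algebra A K] [IsFractionRing A K] [Algebra B L]
  [IsFractionRing B L]
  [Algebra K L] [Algebra A L] [IsScalarTower A K L] [IsScalarTower A B L]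
  [Algebra K K'] [FiniteDimensional K K'] [Algebra.IsSeparable K K']

theorem main (hinj : Function.Injective (algebraMap A B))
    (h : EtRam.IsTamelyRamified A ((algebraMap K K').comp (algebraMap A K)))
    (F : Type u) [Field F] [Algebra (K' ⊗[K] L) F]
    (hF : Function.Surjective (algebraMap (K' ⊗[K] L) F)) :
    EtRam.IsTamelyRamified B ((algebraMap (K' ⊗[K] L) F).comp
      ((Algebra.TensorProduct.includeRight : L →ₐ[K] K' ⊗[K] L).toRingHom.comp
        (algebraMap B L))) := by
  letI : Algebra L F := ((algebraMap (K' ⊗[K] L) F).comp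
    (Algebra.TensorProduct.includeRight : L →ₐ[K] K' ⊗[K] L).toRingHom).toAlgebra
  letI : Algebra K' F := ((algebraMap (K' ⊗[K] L) F).comp
    (Algebra.TensorProduct.includeLeft : K' →ₐ[K] K' ⊗[K] L).toRingHom).toAlgebra
  letI : Algebra K F := ((algebraMap L F).comp (algebraMap K L)).toAlgebra
  haveI : IsScalarTower K L F := IsScalarTower.of_algebraMap_eq (fun _ => rfl)
  haveI : IsScalarTower K K' F := IsScalarTower.of_algebraMap_eq (fun k => by
    show algebraMap (K' ⊗[K] L) F ((1 : K') ⊗ₜ[K] algebraMap K L k) =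
      algebraMap (K' ⊗[K] L) F (algebraMap K K' k ⊗ₜ[K] (1 : L))
    congr 1
    rw [Algebra.algebraMap_eq_smul_one, Algebra.algebraMap_eq_smul_one, TensorProduct.smul_tmul])
  have hgen : Algebra.adjoin L (Set.range (algebraMap K' F)) = ⊤ := by
    rw [eq_top_iff]
    rintro z -
    obtain ⟨t, rfl⟩ := hF z
    induction t using TensorProduct.induction_on with
    | zero => rw [map_zero]; exact Subalgebra.zero_mem _
    | tmul y l =>
      have h1 : (y ⊗ₜ[K] l : K' ⊗[K] L) = (y ⊗ₜ[K] (1 : L)) * ((1 : K') ⊗ₜ[K] l) := by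
        rw [Algebra.TensorProduct.tmul_mul_tmul, mul_one, one_mul]
      rw [h1, map_mul]
      apply Subalgebra.mul_mem
      · apply Algebra.subset_adjoin
        exact ⟨y, rfl⟩
      · exact Subalgebra.algebraMap_mem _ l
    | add a b ha hb => rw [map_add]; exact Subalgebra.add_mem _ ha hb
  exact tame_compositum A B K L K' F hinj h hgen

end Main



open TensorProduct in
/-- Let A → B be an injective local homomorphism of discrete valuation rings with fraction fields K ⊆ L,
and let K' be a finite separable extension of K that is tamely ramified relative to A. Then every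
field F onto which K' ⊗_K L surjects is, as an extension of L, tamely ramified relative to B. (The
published statement also records that K' ⊗_K L is a finite product of fields, whose factors are
these F; this row does not state that part.) -/
theorem result (A B K L K' : Type u) [CommRing A] [IsDomain A]
    [IsDiscreteValuationRing A] [CommRing B] [IsDomain B] [IsDiscreteValuationRing B] [Algebra A B]
    [IsLocalHom (algebraMap A B)] (hinj : Function.Injective (algebraMap A B))
    [Field K] [Field L] [Field K'] [Algebra A K] [IsFractionRing A K] [Algebra B L] [IsFractionRing B L]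
    [Algebra K L] [Algebra A L] [IsScalarTower A K L] [IsScalarTower A B L]
    [Algebra K K'] [FiniteDimensional K K'] [Algebra.IsSeparable K K']
    (h : EtRam.IsTamelyRamified A ((algebraMap K K').comp (algebraMap A K)))
    (F : Type u) [Field F] [Algebra (K' ⊗[K] L) F] (hF : Function.Surjective (algebraMap (K' ⊗[K] L) F)) :
    EtRam.IsTamelyRamified B ((algebraMap (K' ⊗[K] L) F).comp
      ((Algebra.TensorProduct.includeRight : L →ₐ[K] K' ⊗[K] L).toRingHom.comp (algebraMap B L))) := by
  exact main A B K L K' hinj h F hF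

end Groth.Agent.S9307
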