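import Groth.Statements.S7158
import Mathlib
import Groth.Agent.Lib.Helper10.DvrExt6
import Groth.Agent.Lib.Helper10.ASExt1

set_option autoImplicit false
universe u
open EtAlg

namespace Groth.Agent.S7158

set_option linter.style.haveILetI false
set_option linter.unusedSectionVars false

open Groth.Agent.Lib.helper10 IsLocalRing Polynomial IsDedekindDomain

theorem val_eq_one_of_pow_eq {L B : Type u} [Field L] [CommRing B] [IsDedekindDomain B]
    [Algebra B L] [IsFractionRing B L] (w : HeightOneSpectrum B) {p : ℕ} (hp : p.Prime) {d : L}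
    (hd0 : d ≠ 0) (hd : d ^ p = d) : w.valuation L d = 1 := by
  have h1 : d ^ (p - 1) = 1 := by
    have : d * d ^ (p - 1) = d * 1 := by
      rw [← pow_succ', Nat.sub_add_cancel hp.one_le, hd, mul_one]
    exact mul_left_cancel₀ hd0 this
  have h2 : w.valuation L d ^ (p - 1) = 1 := by rw [← map_pow, h1, map_one]
  exact (pow_eq_one_iff_of_nonneg zero_le (Nat.sub_ne_zero_of_lt hp.one_lt)).mp h2

theorem main (p : ℕ) (hp : p.Prime) (A K L : Type u) [CommRing A] [IsDomain A]
    [IsDiscreteValuationRing A] [Field K] [Algebra A K] [IsFractionRing A K] [Field L] [Algebra K L] [Algebra A L]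
    [IsScalarTower A K L] [CharP K p] (π : A) (hπ : IsLocalRing.maximalIdeal A = Ideal.span {π})
    (ξ : K) (z : L) (hz : z ^ p - z = algebraMap K L ξ) (hgen : IntermediateField.adjoin K {z} = ⊤) :
    let g : A →+* L := algebraMap A L
    let case1 : Prop := Module.finrank K L = 1
    let case2 : Prop := EtRam.IsUnramifiedExt A g ∧ Module.finrank K L = p
    let case3 : Prop := EtRam.IsTotallyRamified A g ∧ Module.finrank K L = p
    let case4 : Prop := (∃ V : ValuationSubring L, EtRam.Dominates A g V) ∧
      (∀ V V' : ValuationSubring L, EtRam.Dominates A g V → EtRam.Dominates A g V' → V = V') ∧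
      ∀ (V : ValuationSubring L) (h : EtRam.Dominates A g V),
        letI : Algebra A V := (RingHom.codRestrict g V h.1).toAlgebra
        ∀ [IsLocalHom (algebraMap A V)],
          EtRam.IsWeaklyUnramified A V ∧
            IsPurelyInseparable (IsLocalRing.ResidueField A) (IsLocalRing.ResidueField V) ∧
            Module.finrank (IsLocalRing.ResidueField A) (IsLocalRing.ResidueField V) = p
    IsGalois K L ∧ (case1 ∨ case2 ∨ case3 ∨ case4) ∧
      ((∃ a : A, algebraMap A K a = ξ) → case1 ∨ case2) ∧
      (∀ (n : ℕ) (a : Aˣ), 0 < n → ¬ p ∣ n → ξ * algebraMap A K π ^ n = algebraMap A K a → case3) ∧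
      (∀ (n : ℕ) (a : A), 0 < n → p ∣ n → (∀ r : A, IsLocalRing.residue A a ≠ IsLocalRing.residue A r ^ p) →
          ξ * algebraMap A K π ^ n = algebraMap A K a → case4) := by
  intro g case1 case2 case3 case4
  haveI : Fact p.Prime := ⟨hp⟩
  haveI := ASExt.as_isGalois hz hgen
  haveI := ASExt.as_finiteDimensional hz hgen
  have hfr := ASExt.as_finrank hz hgen
  haveI : Module.IsTorsionFree A L := .trans_faithfulSMul A K L
  haveI : IsDedekindDomain (integralClosure A L) := integralClosure.isDedekindDomain A K L
  haveI : IsFractionRing (integralClosure A L) L :=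
    integralClosure.isFractionRing_of_finite_extension K L
  haveI : Module.Finite A (integralClosure A L) :=
    IsIntegralClosure.finite A K L (integralClosure A L)
  haveI : CharP A p := (algebraMap A K).charP (IsFractionRing.injective A K) p
  haveI : CharP (ResidueField A) p := (CharP.charP_iff_prime_eq_zero hp).mpr (by
    rw [← map_natCast (residue A), CharP.cast_eq_zero A p, map_zero])
  obtain ⟨hmain, hA, hB, hC⟩ := DvrExt.master A K L (integralClosure A L) hp hfr
  -- the polynomial
  have hPm : (X ^ p - X : A[X]).Monic := by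
    apply (monic_X_pow p).sub_of_left
    rw [degree_X, degree_X_pow]; exact_mod_cast hp.one_lt
  have hPd : (X ^ p - X : A[X]).natDegree = p := by
    rw [natDegree_sub_eq_left_of_natDegree_lt, natDegree_X_pow]
    rw [natDegree_X, natDegree_X_pow]; exact hp.one_lt
  have hPz : aeval z (X ^ p - X : A[X]) = algebraMap K L ξ := by
    rw [map_sub, map_pow, aeval_X, hz]
  have hL : ∀ (n : ℕ) (a : A), ξ * algebraMap A K π ^ n = algebraMap A K a →
      algebraMap K L ξ * algebraMap A L π ^ n = algebraMap A L a := by
    intro n a h
    rw [IsScalarTower.algebraMap_apply A K L, IsScalarTower.algebraMap_apply A K L, ← map_pow,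
      ← map_mul, h]
  refine ⟨inferInstance, hmain, ?_, ?_, ?_⟩
  · rintro ⟨a, rfl⟩
    rcases hfr with h1 | h1
    · exact Or.inl h1
    · obtain ⟨σ, hσ0, hσp⟩ := ASExt.exists_sigma_ne hz hgen h1
      have hzint : IsIntegral A z := by
        refine ⟨X ^ p - X - C a, ?_, ?_⟩
        · apply hPm.sub_of_left
          rw [degree_eq_natDegree hPm.ne_zero, hPd]
          exact degree_C_le.trans_lt (by exact_mod_cast hp.pos)
        · rw [← aeval_def, map_sub, hPz, aeval_C, IsScalarTower.algebraMap_apply A K L, sub_self]
      exact hA ⟨z, σ, hzint, fun w _ => val_eq_one_of_pow_eq w hp hσ0 hσp⟩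
  · intro n a hn hpn hξ
    apply hB
    intro w hw
    have h1 := DvrExt.p_dvd_e_mul w hπ hPm z _ hPz n a (hL n a hξ)
    rw [hPd] at h1
    exact (Nat.Coprime.dvd_of_dvd_mul_right ((Nat.Prime.coprime_iff_not_dvd hp).mpr hpn) h1)
  · intro n a hn hpn ha hξ
    apply hC
    intro w hw
    obtain ⟨m, rfl⟩ := hpn
    have hm : 0 < m := Nat.pos_of_mul_pos_left hn
    have hξ' := hL _ a hξ
    rw [← hPd] at hξ'
    obtain ⟨y, hy1, hy2⟩ := DvrExt.exists_y w hπ hPm (by rw [hPd]; exact hp.pos) z _ hPz m hm a hξ'
    rw [hPd] at hy2
    exact DvrExt.crit_C w hp a ha y hy1 hy2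



/-- Let A be a discrete valuation ring whose fraction field K has characteristic p > 0, let ξ be an
element of K and let L = K(z) be obtained by adjoining a root z of z^p - z = ξ. Then L/K is a Galois
extension, and it falls under one of four cases: (1) L = K; (2) L/K has degree p and is unramified
with respect to A; (3) L/K has degree p and is totally ramified with respect to A (ramification
index p); (4) exactly one valuation ring of L dominates A (so B, the integral closure of A in L, is
itself a discrete valuation ring), the extension A → B is weakly unramified, and its residue field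
extension is purely inseparable of degree p. Moreover, with π a uniformizer of A: (A) if ξ lies in
A, case (1) or (2) holds; (B) if ξ = π⁻ⁿa with n > 0 prime to p and a a unit of A, case (3) holds;
(C) if ξ = π⁻ⁿa with n > 0 divisible by p and the residue class of a not a p-th power, case (4)
holds. -/
theorem result (p : ℕ) (hp : p.Prime) (A K L : Type u) [CommRing A] [IsDomain A]
    [IsDiscreteValuationRing A] [Field K] [Algebra A K] [IsFractionRing A K] [Field L] [Algebra K L] [Algebra A L]
    [IsScalarTower A K L] [CharP K p] (π : A) (hπ : IsLocalRing.maximalIdeal A = Ideal.span {π})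
    (ξ : K) (z : L) (hz : z ^ p - z = algebraMap K L ξ) (hgen : IntermediateField.adjoin K {z} = ⊤) :
    let g : A →+* L := algebraMap A L
    let case1 : Prop := Module.finrank K L = 1
    let case2 : Prop := EtRam.IsUnramifiedExt A g ∧ Module.finrank K L = p
    let case3 : Prop := EtRam.IsTotallyRamified A g ∧ Module.finrank K L = p
    let case4 : Prop := (∃ V : ValuationSubring L, EtRam.Dominates A g V) ∧
      (∀ V V' : ValuationSubring L, EtRam.Dominates A g V → EtRam.Dominates A g V' → V = V') ∧
      ∀ (V : ValuationSubring L) (h : EtRam.Dominates A g V),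
        letI : Algebra A V := (RingHom.codRestrict g V h.1).toAlgebra
        ∀ [IsLocalHom (algebraMap A V)],
          EtRam.IsWeaklyUnramified A V ∧
            IsPurelyInseparable (IsLocalRing.ResidueField A) (IsLocalRing.ResidueField V) ∧
            Module.finrank (IsLocalRing.ResidueField A) (IsLocalRing.ResidueField V) = p
    IsGalois K L ∧ (case1 ∨ case2 ∨ case3 ∨ case4) ∧
      ((∃ a : A, algebraMap A K a = ξ) → case1 ∨ case2) ∧
      (∀ (n : ℕ) (a : Aˣ), 0 < n → ¬ p ∣ n → ξ * algebraMap A K π ^ n = algebraMap A K a → case3) ∧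
      (∀ (n : ℕ) (a : A), 0 < n → p ∣ n → (∀ r : A, IsLocalRing.residue A a ≠ IsLocalRing.residue A r ^ p) →
          ξ * algebraMap A K π ^ n = algebraMap A K a → case4) := by
  exact main p hp A K L π hπ ξ z hz hgen

end Groth.Agent.S7158
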