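import Groth.Statements.S7132
import Mathlib.NumberTheory.RamificationInertia.Basic

set_option autoImplicit false
universe u
open EtAlg

namespace Groth.Agent.S7132


set_option linter.deprecated false

open Ideal in
theorem rank_le_aux (A B K L : Type u) [CommRing A] [IsDomain A]
    [IsDiscreteValuationRing A] [CommRing B] [IsDomain B] [IsDiscreteValuationRing B] [Algebra A B]
    [IsLocalHom (algebraMap A B)]
    [Field K] [Field L] [Algebra A K] [IsFractionRing A K] [Algebra B L] [IsFractionRing B L]
    [Algebra K L] [Algebra A L] [IsScalarTower A K L] [IsScalarTower A B L] [FiniteDimensional K L] :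
    Module.rank (A ⧸ IsLocalRing.maximalIdeal A)
      (B ⧸ IsLocalRing.maximalIdeal B ^ Ideal.ramificationIdx' (IsLocalRing.maximalIdeal A) (IsLocalRing.maximalIdeal B))
      ≤ Module.finrank K L := by
  apply rank_le
  intro s hs
  have hsurj := Ideal.Quotient.mk_surjective (I := IsLocalRing.maximalIdeal B ^ Ideal.ramificationIdx' (IsLocalRing.maximalIdeal A) (IsLocalRing.maximalIdeal B))
  choose b hb using fun i : s => hsurj (i : _)
  have : IsScalarTower A (A ⧸ IsLocalRing.maximalIdeal A) (B ⧸ IsLocalRing.maximalIdeal B ^ Ideal.ramificationIdx' (IsLocalRing.maximalIdeal A) (IsLocalRing.maximalIdeal B)) :=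
    IsScalarTower.of_algebraMap_eq (fun x => rfl)
  have key := Ideal.FinrankQuotientMap.linearIndependent_of_nontrivial (R := A) (S := A ⧸ IsLocalRing.maximalIdeal A) K
    (V := L) (V' := B ⧸ IsLocalRing.maximalIdeal B ^ Ideal.ramificationIdx' (IsLocalRing.maximalIdeal A) (IsLocalRing.maximalIdeal B)) (V'' := B)
    (by rw [Ideal.Quotient.algebraMap_eq, Ideal.mk_ker]; exact (IsLocalRing.maximalIdeal.isMaximal A).ne_top)
    ((Algebra.linearMap B L).restrictScalars A) (IsFractionRing.injective B L)
    ((Submodule.mkQ _).restrictScalars A) (b := b) (by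
      have hfun : (⇑((Submodule.mkQ (IsLocalRing.maximalIdeal B ^ Ideal.ramificationIdx' (IsLocalRing.maximalIdeal A) (IsLocalRing.maximalIdeal B))).restrictScalars A) ∘ b) = fun i : s => (i : B ⧸ IsLocalRing.maximalIdeal B ^ Ideal.ramificationIdx' (IsLocalRing.maximalIdeal A) (IsLocalRing.maximalIdeal B)) := funext hb
      rw [hfun]
      exact hs)
  have := key.fintype_card_le_finrank
  simpa using this

open Ideal in
theorem rank_eq_aux (A B : Type u) [CommRing A] [IsDomain A]
    [IsDiscreteValuationRing A] [CommRing B] [IsDomain B] [IsDiscreteValuationRing B] [Algebra A B]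
    [IsLocalHom (algebraMap A B)]
    (he : Ideal.ramificationIdx' (IsLocalRing.maximalIdeal A) (IsLocalRing.maximalIdeal B) ≠ 0) :
    Module.rank (A ⧸ IsLocalRing.maximalIdeal A)
      (B ⧸ IsLocalRing.maximalIdeal B ^ Ideal.ramificationIdx' (IsLocalRing.maximalIdeal A) (IsLocalRing.maximalIdeal B))
      = Ideal.ramificationIdx' (IsLocalRing.maximalIdeal A) (IsLocalRing.maximalIdeal B) •
        Module.rank (IsLocalRing.ResidueField A) (IsLocalRing.ResidueField B) := by
  have hP0 : IsLocalRing.maximalIdeal B ≠ ⊥ := IsDiscreteValuationRing.not_a_field B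
  have h1 := Ideal.rank_prime_pow_ramificationIdx (IsLocalRing.maximalIdeal A) (IsLocalRing.maximalIdeal B) hP0 he
  rw [h1]
  have : NeZero (Ideal.ramificationIdx' (IsLocalRing.maximalIdeal A) (IsLocalRing.maximalIdeal B)) := ⟨he⟩
  have heq : Ideal.Quotient.algebraQuotientOfRamificationIdxNeZero (IsLocalRing.maximalIdeal A) (IsLocalRing.maximalIdeal B)
      = (inferInstance : Algebra (IsLocalRing.ResidueField A) (IsLocalRing.ResidueField B)) := by
    apply Algebra.algebra_ext
    intro r
    obtain ⟨a, rfl⟩ := Ideal.Quotient.mk_surjective r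
    rfl
  rw [heq]
  rfl

theorem ram_ne_zero (A B : Type u) [CommRing A] [IsDomain A]
    [IsDiscreteValuationRing A] [CommRing B] [IsDomain B] [IsDiscreteValuationRing B] [Algebra A B]
    (hinj : Function.Injective (algebraMap A B)) [IsLocalHom (algebraMap A B)] :
    Ideal.ramificationIdx' (IsLocalRing.maximalIdeal A) (IsLocalRing.maximalIdeal B) ≠ 0 := by
  obtain ⟨ϖA, hA⟩ := IsDiscreteValuationRing.exists_irreducible A
  obtain ⟨ϖB, hB⟩ := IsDiscreteValuationRing.exists_irreducible B
  have hmA : IsLocalRing.maximalIdeal A = Ideal.span {ϖA} := hA.maximalIdeal_eq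
  have hmB : IsLocalRing.maximalIdeal B = Ideal.span {ϖB} := hB.maximalIdeal_eq
  have hϖA0 : algebraMap A B ϖA ≠ 0 := by
    intro h
    exact hA.ne_zero (hinj (by rw [h, map_zero]))
  obtain ⟨e, u, hu⟩ := IsDiscreteValuationRing.eq_unit_mul_pow_irreducible hϖA0 hB
  have hmap : Ideal.map (algebraMap A B) (IsLocalRing.maximalIdeal A) =
      IsLocalRing.maximalIdeal B ^ e := by
    rw [hmA, hmB, Ideal.map_span, Set.image_singleton, hu, Ideal.span_singleton_pow]
    exact Ideal.span_singleton_eq_span_singleton.2 ⟨u⁻¹, by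
      rw [mul_comm, ← mul_assoc]; simp⟩
  have hram : Ideal.ramificationIdx' (IsLocalRing.maximalIdeal A) (IsLocalRing.maximalIdeal B) = e := by
    apply Ideal.ramificationIdx'_spec
    · rw [hmap]
    · rw [hmap, hmB, Ideal.span_singleton_pow, Ideal.span_singleton_pow,
        Ideal.span_singleton_le_span_singleton]
      intro hdvd
      obtain ⟨c, hc⟩ := hdvd
      rw [pow_succ, mul_assoc] at hc
      have h1 : ϖB * c = 1 := by
        have h0 : ϖB ^ e ≠ 0 := pow_ne_zero _ hB.ne_zero
        exact (mul_left_cancel₀ h0 (by rw [mul_one]; exact hc)).symm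
      exact hB.not_isUnit (IsUnit.of_mul_eq_one _ h1)
  rw [hram]
  intro he
  rw [he, pow_zero, mul_one] at hu
  have : IsUnit (algebraMap A B ϖA) := hu ▸ u.isUnit
  exact hA.not_isUnit (isUnit_of_map_unit (algebraMap A B) ϖA this)


/-- For an injective local homomorphism A → B of discrete valuation rings whose fraction fields K ⊆ L
form a finite extension, the residue field of B is finite over that of A, and the ramification index
e times the residue degree f is at most [L : K]. -/
theorem result (A B K L : Type u) [CommRing A] [IsDomain A]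
    [IsDiscreteValuationRing A] [CommRing B] [IsDomain B] [IsDiscreteValuationRing B] [Algebra A B]
    (hinj : Function.Injective (algebraMap A B)) [IsLocalHom (algebraMap A B)]
    [Field K] [Field L] [Algebra A K] [IsFractionRing A K] [Algebra B L] [IsFractionRing B L]
    [Algebra K L] [Algebra A L] [IsScalarTower A K L] [IsScalarTower A B L] [FiniteDimensional K L] :
    Module.Finite (IsLocalRing.ResidueField A) (IsLocalRing.ResidueField B) ∧
      Ideal.ramificationIdx' (IsLocalRing.maximalIdeal A) (IsLocalRing.maximalIdeal B) *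
          Module.finrank (IsLocalRing.ResidueField A) (IsLocalRing.ResidueField B) ≤
        Module.finrank K L := by
  have he := ram_ne_zero A B hinj
  have h1 := rank_le_aux A B K L
  rw [rank_eq_aux A B he] at h1
  have hlt : Module.rank (IsLocalRing.ResidueField A) (IsLocalRing.ResidueField B) < Cardinal.aleph0 := by
    refine lt_of_le_of_lt ?_ (lt_of_le_of_lt h1 (Cardinal.nat_lt_aleph0 _))
    obtain ⟨m, hm⟩ := Nat.exists_eq_succ_of_ne_zero he
    rw [hm, succ_nsmul]
    exact le_add_self
  have hfin : Module.Finite (IsLocalRing.ResidueField A) (IsLocalRing.ResidueField B) :=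
    Module.rank_lt_aleph0_iff.1 hlt
  refine ⟨hfin, ?_⟩
  rw [← Module.finrank_eq_rank (IsLocalRing.ResidueField A) (IsLocalRing.ResidueField B)] at h1
  have h2 : ((Ideal.ramificationIdx' (IsLocalRing.maximalIdeal A) (IsLocalRing.maximalIdeal B) *
      Module.finrank (IsLocalRing.ResidueField A) (IsLocalRing.ResidueField B) : ℕ) : Cardinal) ≤
      (Module.finrank K L : Cardinal) := by
    rw [Nat.cast_mul, ← nsmul_eq_mul]
    exact h1
  exact_mod_cast h2

end Groth.Agent.S7132
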