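import Groth.Statements.S1987
import Mathlib

set_option autoImplicit false
universe u
open Polynomial
open EtAlg

namespace Groth.Agent.S1987

section
variable {A : Type u} [CommRing A] [IsDomain A] [IsDiscreteValuationRing A]

omit [IsDomain A] [IsDiscreteValuationRing A] in
lemma monic_f (π : A) (n : ℕ) (hn : 2 ≤ n) : (X ^ n - C π : A[X]).Monic :=
  monic_X_pow_sub_C π (by omega)

omit [IsDomain A] [IsDiscreteValuationRing A] in
lemma natDegree_f [Nontrivial A] (π : A) (n : ℕ) : (X ^ n - C π : A[X]).natDegree = n :=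
  natDegree_X_pow_sub_C

lemma irr_f (π : A) (hπ : Irreducible π) (n : ℕ) (hn : 2 ≤ n) :
    Irreducible (X ^ n - C π : A[X]) := by
  have hmax : IsLocalRing.maximalIdeal A = Ideal.span {π} := hπ.maximalIdeal_eq
  have hP : (Ideal.span {π} : Ideal A).IsPrime := by
    rw [← hmax]; infer_instance
  have hmon := monic_f π n hn
  have hdeg := natDegree_f π n
  apply irreducible_of_eisenstein_criterion hP
  · rw [hmon.leadingCoeff]
    exact fun h => hP.ne_top ((Ideal.eq_top_iff_one _).mpr h)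
  · intro k hk
    have hk' : k < n := by
      rw [← hdeg]
      exact coe_lt_degree.mp hk
    rw [coeff_sub, coeff_X_pow, if_neg (by omega), coeff_C]
    split_ifs
    · simp
    · simp
  · rw [degree_eq_natDegree hmon.ne_zero, hdeg]
    exact_mod_cast (by omega : 0 < n)
  · rw [coeff_sub, coeff_X_pow, if_neg (by omega), coeff_C_zero, zero_sub, neg_mem_iff,
      Ideal.span_singleton_pow, Ideal.mem_span_singleton]
    intro hdvd
    obtain ⟨c, hc⟩ := hdvd
    have h1 : π * (1 - π * c) = 0 := by rw [mul_sub, mul_one, ← mul_assoc, ← pow_two, ← hc, sub_self]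
    rcases mul_eq_zero.mp h1 with h | h
    · exact hπ.ne_zero h
    · exact hπ.not_isUnit (IsUnit.of_mul_eq_one c (by linear_combination -h))
  · exact hmon.isPrimitive

/-- the root satisfies `x^n = π`. -/
lemma root_pow (π : A) (n : ℕ) :
    (AdjoinRoot.root (X ^ n - C π : A[X])) ^ n = AdjoinRoot.of (X ^ n - C π : A[X]) π := by
  have h := AdjoinRoot.eval₂_root (X ^ n - C π : A[X])
  rw [eval₂_sub, eval₂_pow, eval₂_X, eval₂_C, sub_eq_zero] at h
  exact h

lemma of_inj (π : A) (n : ℕ) (hn : 2 ≤ n) :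
    Function.Injective (AdjoinRoot.of (X ^ n - C π : A[X])) := by
  apply AdjoinRoot.of.injective_of_degree_ne_zero
  rw [degree_eq_natDegree (monic_f π n hn).ne_zero, natDegree_f π n]
  exact_mod_cast (by omega : n ≠ 0)

lemma decomp (π : A) (n : ℕ) (b : AdjoinRoot (X ^ n - C π : A[X])) :
    ∃ (a : A) (c : AdjoinRoot (X ^ n - C π : A[X])),
      b = AdjoinRoot.of _ a + AdjoinRoot.root _ * c := by
  induction b using AdjoinRoot.induction_on with
  | ih g =>
    refine ⟨g.coeff 0, AdjoinRoot.mk _ g.divX, ?_⟩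
    conv_lhs => rw [← divX_mul_X_add g]
    rw [map_add, map_mul, AdjoinRoot.mk_X, AdjoinRoot.mk_C]
    ring

/-- the map `B → A/(π)` killing the root. -/
noncomputable def phi (π : A) (n : ℕ) (hn : 2 ≤ n) :
    AdjoinRoot (X ^ n - C π : A[X]) →+* A ⧸ Ideal.span {π} :=
  AdjoinRoot.lift (Ideal.Quotient.mk _) 0 (by
    rw [eval₂_sub, eval₂_pow, eval₂_X, eval₂_C, zero_pow (by omega), zero_sub, neg_eq_zero,
      Ideal.Quotient.eq_zero_iff_mem]
    exact Ideal.mem_span_singleton_self π)

lemma phi_surj (π : A) (n : ℕ) (hn : 2 ≤ n) : Function.Surjective (phi π n hn) := by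
  intro y
  obtain ⟨a, rfl⟩ := Ideal.Quotient.mk_surjective y
  exact ⟨AdjoinRoot.of _ a, by simp [phi]⟩

lemma ker_phi (π : A) (n : ℕ) (hn : 2 ≤ n) :
    RingHom.ker (phi π n hn) = Ideal.span {AdjoinRoot.root (X ^ n - C π : A[X])} := by
  apply le_antisymm
  · intro b hb
    rw [RingHom.mem_ker] at hb
    obtain ⟨a, c, rfl⟩ := decomp π n b
    have h1 : phi π n hn (AdjoinRoot.of _ a + AdjoinRoot.root _ * c) = Ideal.Quotient.mk _ a := by
      simp [phi]
    rw [h1, Ideal.Quotient.eq_zero_iff_mem, Ideal.mem_span_singleton] at hb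
    obtain ⟨a', rfl⟩ := hb
    rw [Ideal.mem_span_singleton]
    refine ⟨AdjoinRoot.root _ ^ (n - 1) * AdjoinRoot.of _ a' + c, ?_⟩
    have hp : AdjoinRoot.root (X ^ n - C π : A[X]) ^ n =
        AdjoinRoot.root _ * AdjoinRoot.root _ ^ (n - 1) := by
      rw [← pow_succ']
      congr 1
      omega
    rw [map_mul, ← root_pow π n, hp]
    ring
  · rw [Ideal.span_le, Set.singleton_subset_iff, SetLike.mem_coe, RingHom.mem_ker]
    simp [phi]

lemma span_pi_isMaximal (π : A) (hπ : Irreducible π) : (Ideal.span {π} : Ideal A).IsMaximal := by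
  rw [← hπ.maximalIdeal_eq]; infer_instance

lemma span_root_isMaximal (π : A) (hπ : Irreducible π) (n : ℕ) (hn : 2 ≤ n) :
    (Ideal.span {AdjoinRoot.root (X ^ n - C π : A[X])}).IsMaximal := by
  rw [← ker_phi π n hn]
  haveI := span_pi_isMaximal π hπ
  letI := Ideal.Quotient.field (Ideal.span {π} : Ideal A)
  exact RingHom.ker_isMaximal_of_surjective _ (phi_surj π n hn)

lemma root_ne_zero (π : A) (hπ : Irreducible π) (n : ℕ) (hn : 2 ≤ n) :
    AdjoinRoot.root (X ^ n - C π : A[X]) ≠ 0 := by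
  intro h0
  have h1 := root_pow π n
  rw [h0, zero_pow (by omega)] at h1
  have h2 : AdjoinRoot.of (X ^ n - C π : A[X]) π = AdjoinRoot.of _ 0 := by rw [← h1, map_zero]
  exact hπ.ne_zero (of_inj π n hn h2)

lemma isLocalRing_B (π : A) (hπ : Irreducible π) (n : ℕ) (hn : 2 ≤ n) :
    IsLocalRing (AdjoinRoot (X ^ n - C π : A[X])) := by
  apply IsLocalRing.of_unique_max_ideal
  refine ⟨_, span_root_isMaximal π hπ n hn, ?_⟩
  intro M hM
  haveI : Module.Finite A (AdjoinRoot (X ^ n - C π : A[X])) := (monic_f π n hn).finite_adjoinRoot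
  haveI : Algebra.IsIntegral A (AdjoinRoot (X ^ n - C π : A[X])) := Algebra.IsIntegral.of_finite _ _
  have h1 : (M.comap (algebraMap A (AdjoinRoot (X ^ n - C π : A[X])))).IsMaximal :=
    Ideal.isMaximal_comap_of_isIntegral_of_isMaximal M
  have h2 := IsLocalRing.eq_maximalIdeal h1
  have h3 : π ∈ M.comap (algebraMap A (AdjoinRoot (X ^ n - C π : A[X]))) := by
    rw [h2, hπ.maximalIdeal_eq]
    exact Ideal.mem_span_singleton_self π
  rw [Ideal.mem_comap, AdjoinRoot.algebraMap_eq, ← root_pow π n] at h3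
  have h4 : AdjoinRoot.root (X ^ n - C π : A[X]) ∈ M := hM.isPrime.mem_of_pow_mem n h3
  have h5 : Ideal.span {AdjoinRoot.root (X ^ n - C π : A[X])} ≤ M := by
    rw [Ideal.span_le, Set.singleton_subset_iff]; exact h4
  exact ((span_root_isMaximal π hπ n hn).eq_of_le hM.ne_top h5).symm

lemma isDomain_B (π : A) (hπ : Irreducible π) (n : ℕ) (hn : 2 ≤ n) :
    IsDomain (AdjoinRoot (X ^ n - C π : A[X])) :=
  AdjoinRoot.isDomain_of_prime (irr_f π hπ n hn).prime

lemma maximalIdeal_B (π : A) (hπ : Irreducible π) (n : ℕ) (hn : 2 ≤ n)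
    [IsLocalRing (AdjoinRoot (X ^ n - C π : A[X]))] :
    IsLocalRing.maximalIdeal (AdjoinRoot (X ^ n - C π : A[X])) =
      Ideal.span {AdjoinRoot.root (X ^ n - C π : A[X])} :=
  (IsLocalRing.eq_maximalIdeal (span_root_isMaximal π hπ n hn)).symm

lemma isDVR_B (π : A) (hπ : Irreducible π) (n : ℕ) (hn : 2 ≤ n)
    [IsDomain (AdjoinRoot (X ^ n - C π : A[X]))] :
    IsDiscreteValuationRing (AdjoinRoot (X ^ n - C π : A[X])) := by
  haveI := isLocalRing_B π hπ n hn
  have hmax := maximalIdeal_B π hπ n hn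
  have hnf : ¬ IsField (AdjoinRoot (X ^ n - C π : A[X])) := by
    rw [Ring.not_isField_iff_exists_ideal_bot_lt_and_lt_top]
    refine ⟨Ideal.span {AdjoinRoot.root (X ^ n - C π : A[X])}, ?_, ?_⟩
    · rw [bot_lt_iff_ne_bot, Ne, Ideal.span_singleton_eq_bot]
      exact root_ne_zero π hπ n hn
    · exact lt_top_iff_ne_top.mpr (span_root_isMaximal π hπ n hn).ne_top
  have hprinc : (IsLocalRing.maximalIdeal (AdjoinRoot (X ^ n - C π : A[X]))).IsPrincipal := by
    rw [hmax]
    exact ⟨⟨_, rfl⟩⟩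
  exact ((IsDiscreteValuationRing.TFAE (AdjoinRoot (X ^ n - C π : A[X])) hnf).out 0 4).mpr hprinc

lemma map_maximalIdeal (π : A) (hπ : Irreducible π) (n : ℕ) (hn : 2 ≤ n)
    [IsLocalRing (AdjoinRoot (X ^ n - C π : A[X]))] :
    (IsLocalRing.maximalIdeal A).map (algebraMap A (AdjoinRoot (X ^ n - C π : A[X]))) =
      IsLocalRing.maximalIdeal (AdjoinRoot (X ^ n - C π : A[X])) ^ n := by
  rw [maximalIdeal_B π hπ n hn, hπ.maximalIdeal_eq, Ideal.map_span, Set.image_singleton,
    Ideal.span_singleton_pow, AdjoinRoot.algebraMap_eq, root_pow π n]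

section ram

variable (π : A) (n : ℕ)
  [IsDomain (AdjoinRoot (X ^ n - C π : A[X]))]
  [IsDiscreteValuationRing (AdjoinRoot (X ^ n - C π : A[X]))]
  (K₁ : Type u) [Field K₁] [Algebra (AdjoinRoot (X ^ n - C π : A[X])) K₁]
  [IsFractionRing (AdjoinRoot (X ^ n - C π : A[X])) K₁]

/-- the valuation subring of `K₁` given by `B`. -/
noncomputable def V0 : ValuationSubring K₁ :=
  { (algebraMap (AdjoinRoot (X ^ n - C π : A[X])) K₁).range with
    mem_or_inv_mem' := fun y => by
      rcases ValuationRing.isInteger_or_isInteger (AdjoinRoot (X ^ n - C π : A[X])) y with h | h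
      · left
        obtain ⟨b, hb⟩ := h
        exact ⟨b, hb⟩
      · right
        obtain ⟨b, hb⟩ := h
        exact ⟨b, hb⟩ }

lemma mem_V0 (y : K₁) : y ∈ V0 π n K₁ ↔
    ∃ b, algebraMap (AdjoinRoot (X ^ n - C π : A[X])) K₁ b = y := Iff.rfl

/-- notation: the structure map `A → K₁`. -/
noncomputable abbrev gmap : A →+* K₁ :=
  (algebraMap (AdjoinRoot (X ^ n - C π : A[X])) K₁).comp
    (algebraMap A (AdjoinRoot (X ^ n - C π : A[X])))

lemma algebraMap_mem_maximalIdeal (hπ : Irreducible π) (hn : 2 ≤ n)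
    (a : A) (ha : a ∈ IsLocalRing.maximalIdeal A) :
    algebraMap A (AdjoinRoot (X ^ n - C π : A[X])) a ∈
      IsLocalRing.maximalIdeal (AdjoinRoot (X ^ n - C π : A[X])) := by
  rw [hπ.maximalIdeal_eq, Ideal.mem_span_singleton] at ha
  obtain ⟨a', rfl⟩ := ha
  rw [maximalIdeal_B π hπ n hn, Ideal.mem_span_singleton, map_mul, AdjoinRoot.algebraMap_eq,
    ← root_pow π n]
  refine Dvd.dvd.mul_right ?_ _
  exact dvd_pow_self _ (by omega)

lemma dominates_V0 (hπ : Irreducible π) (hn : 2 ≤ n) :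
    EtRam.Dominates A (gmap π n K₁) (V0 π n K₁) := by
  refine ⟨fun a => ⟨_, rfl⟩, fun a ha => ?_⟩
  rw [← ValuationSubring.mem_nonunits_iff, ValuationSubring.mem_nonunits_iff_or]
  by_contra hcon
  push Not at hcon
  obtain ⟨h0, b, hb⟩ := hcon
  have h1 : algebraMap (AdjoinRoot (X ^ n - C π : A[X])) K₁
      (algebraMap A _ a * b) = algebraMap (AdjoinRoot (X ^ n - C π : A[X])) K₁ 1 := by
    rw [map_mul, hb, map_one]
    exact mul_inv_cancel₀ h0
  have h2 := IsFractionRing.injective (AdjoinRoot (X ^ n - C π : A[X])) K₁ h1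
  have h3 := algebraMap_mem_maximalIdeal π n hπ hn a ha
  rw [IsLocalRing.mem_maximalIdeal, mem_nonunits_iff] at h3
  exact h3 (IsUnit.of_mul_eq_one b h2)

variable {K₁} in
lemma val_root_lt_one (hπ : Irreducible π) (V : ValuationSubring K₁)
    (hV : EtRam.Dominates A (gmap π n K₁) V) :
    V.valuation (algebraMap (AdjoinRoot (X ^ n - C π : A[X])) K₁ (AdjoinRoot.root _)) < 1 := by
  have hπm : π ∈ IsLocalRing.maximalIdeal A := by
    rw [hπ.maximalIdeal_eq]; exact Ideal.mem_span_singleton_self π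
  have h1 := hV.2 π hπm
  have h2 : gmap π n K₁ π =
      (algebraMap (AdjoinRoot (X ^ n - C π : A[X])) K₁ (AdjoinRoot.root _)) ^ n := by
    rw [← map_pow, root_pow π n]
    simp [gmap, AdjoinRoot.algebraMap_eq]
  rw [h2, map_pow] at h1
  by_contra hge
  push Not at hge
  exact absurd h1 (not_lt.mpr (one_le_pow₀ hge))

variable {K₁} in
lemma image_mem (hπ : Irreducible π) (V : ValuationSubring K₁)
    (hV : EtRam.Dominates A (gmap π n K₁) V)
    (b : AdjoinRoot (X ^ n - C π : A[X])) :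
    algebraMap (AdjoinRoot (X ^ n - C π : A[X])) K₁ b ∈ V := by
  have hx : algebraMap (AdjoinRoot (X ^ n - C π : A[X])) K₁ (AdjoinRoot.root _) ∈ V :=
    (V.valuation_le_one_iff _).mp (val_root_lt_one π n hπ V hV).le
  induction b using AdjoinRoot.induction_on with
  | ih g =>
    induction g using Polynomial.induction_on' with
    | add p q hp hq =>
      rw [map_add, map_add]
      exact V.add_mem _ _ hp hq
    | monomial k a =>
      rw [← C_mul_X_pow_eq_monomial, map_mul, map_pow, AdjoinRoot.mk_C, AdjoinRoot.mk_X, map_mul,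
        map_pow]
      refine V.mul_mem _ _ ?_ (V.pow_mem hx k)
      have := hV.1 a
      simpa [gmap, AdjoinRoot.algebraMap_eq] using this

variable {K₁} in
lemma eq_V0 (hπ : Irreducible π) (hn : 2 ≤ n) (V : ValuationSubring K₁)
    (hV : EtRam.Dominates A (gmap π n K₁) V) :
    V = V0 π n K₁ := by
  apply le_antisymm
  · intro y hy
    by_contra hy0
    have hinv : y⁻¹ ∈ V0 π n K₁ := ((V0 π n K₁).mem_or_inv_mem y).resolve_left hy0
    obtain ⟨b, hb⟩ := hinv
    have hyne : y ≠ 0 := by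
      rintro rfl
      exact hy0 (V0 π n K₁).zero_mem
    have hbnu : b ∈ IsLocalRing.maximalIdeal (AdjoinRoot (X ^ n - C π : A[X])) := by
      rw [IsLocalRing.mem_maximalIdeal, mem_nonunits_iff]
      intro hu
      obtain ⟨u, rfl⟩ := hu
      apply hy0
      refine ⟨((u⁻¹ : (AdjoinRoot (X ^ n - C π : A[X]))ˣ) : AdjoinRoot (X ^ n - C π : A[X])), ?_⟩
      have h1 : algebraMap _ K₁ ((u⁻¹ : (AdjoinRoot (X ^ n - C π : A[X]))ˣ) :
          AdjoinRoot (X ^ n - C π : A[X])) * algebraMap _ K₁ (u : AdjoinRoot (X ^ n - C π : A[X]))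
          = 1 := by
        rw [← map_mul, Units.inv_mul, map_one]
      rw [hb] at h1
      rw [eq_comm, ← inv_inv y]
      exact (eq_inv_of_mul_eq_one_left h1).symm
    rw [maximalIdeal_B π hπ n hn, Ideal.mem_span_singleton] at hbnu
    obtain ⟨c, rfl⟩ := hbnu
    rw [map_mul] at hb
    have h1 : V.valuation y⁻¹ < 1 := by
      rw [← hb, map_mul]
      have hc : V.valuation (algebraMap (AdjoinRoot (X ^ n - C π : A[X])) K₁ c) ≤ 1 :=
        (V.valuation_le_one_iff _).mpr (image_mem π n hπ V hV c)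
      calc V.valuation (algebraMap _ K₁ (AdjoinRoot.root (X ^ n - C π : A[X]))) *
            V.valuation (algebraMap _ K₁ c)
          ≤ V.valuation (algebraMap _ K₁ (AdjoinRoot.root (X ^ n - C π : A[X]))) * 1 :=
            mul_le_mul_right hc _
        _ = V.valuation (algebraMap _ K₁ (AdjoinRoot.root (X ^ n - C π : A[X]))) := mul_one _
        _ < 1 := val_root_lt_one π n hπ V hV
    have h2 : V.valuation y ≤ 1 := (V.valuation_le_one_iff _).mpr hy
    have h3 : V.valuation y * V.valuation y⁻¹ = 1 := by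
      rw [← map_mul, mul_inv_cancel₀ hyne, map_one]
    have h4 : V.valuation y * V.valuation y⁻¹ < 1 := by
      calc V.valuation y * V.valuation y⁻¹ ≤ 1 * V.valuation y⁻¹ := mul_le_mul_left h2 _
        _ = V.valuation y⁻¹ := one_mul _
        _ < 1 := h1
    rw [h3] at h4
    exact lt_irrefl _ h4
  · rintro y ⟨b, rfl⟩
    exact image_mem π n hπ V hV b

lemma totallyRamified (hπ : Irreducible π) (hn : 2 ≤ n) :
    EtRam.IsTotallyRamified A (gmap π n K₁) := by
  refine ⟨⟨V0 π n K₁, dominates_V0 π n K₁ hπ hn⟩, ?_, ?_⟩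
  · intro V V' hV hV'
    rw [eq_V0 π n hπ hn V hV, eq_V0 π n hπ hn V' hV']
  · intro V hV r
    obtain ⟨w, rfl⟩ := IsLocalRing.residue_surjective r
    have hw : (w : K₁) ∈ V0 π n K₁ := by
      rw [← eq_V0 π n hπ hn V hV]; exact w.2
    obtain ⟨b, hb⟩ := hw
    obtain ⟨a, c, rfl⟩ := decomp π n b
    refine ⟨a, ?_⟩
    show IsLocalRing.residue V _ = IsLocalRing.residue V w
    rw [← sub_eq_zero, ← map_sub, IsLocalRing.residue_eq_zero_iff, ← neg_mem_iff, neg_sub]
    have hdiff : ((w - RingHom.codRestrict (gmap π n K₁) V hV.1 a : V) : K₁) =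
        algebraMap _ K₁ (AdjoinRoot.root (X ^ n - C π : A[X])) * algebraMap _ K₁ c := by
      rw [AddSubgroupClass.coe_sub, ← hb, map_add, map_mul]
      simp [gmap, AdjoinRoot.algebraMap_eq]
    rw [ValuationSubring.valuation_lt_one_iff, hdiff, map_mul]
    have hc : V.valuation (algebraMap (AdjoinRoot (X ^ n - C π : A[X])) K₁ c) ≤ 1 :=
      (V.valuation_le_one_iff _).mpr (image_mem π n hπ V hV c)
    calc V.valuation (algebraMap _ K₁ (AdjoinRoot.root (X ^ n - C π : A[X]))) *
          V.valuation (algebraMap _ K₁ c)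
        ≤ V.valuation (algebraMap _ K₁ (AdjoinRoot.root (X ^ n - C π : A[X]))) * 1 :=
          mul_le_mul_right hc _
      _ = V.valuation (algebraMap _ K₁ (AdjoinRoot.root (X ^ n - C π : A[X]))) := mul_one _
      _ < 1 := val_root_lt_one π n hπ V hV

end ram

end

/-- Let A be a discrete valuation ring with uniformizer π and n ≥ 2, and let A' = A[x]/(x^n - π). Then
x^n - π is irreducible over A, A' is an integrally closed discrete valuation ring (so it is the
integral closure of A in its fraction field K₁ = K(π^{1/n}), of degree n over K), the maximal ideal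
of A generates the n-th power of the maximal ideal of A' (ramification index n), and K₁ is totally
ramified with respect to A. -/
theorem result (A : Type u) [CommRing A] [IsDomain A] [IsDiscreteValuationRing A] (π : A)
    (hπ : Irreducible π) (n : ℕ) (hn : 2 ≤ n) :
    Irreducible (X ^ n - C π : A[X]) ∧
    ∃ (_ : IsDomain (AdjoinRoot (X ^ n - C π : A[X]))) (_ : IsDiscreteValuationRing (AdjoinRoot (X ^ n - C π : A[X]))),
      IsIntegrallyClosed (AdjoinRoot (X ^ n - C π : A[X])) ∧
      (IsLocalRing.maximalIdeal A).map (algebraMap A (AdjoinRoot (X ^ n - C π : A[X]))) = IsLocalRing.maximalIdeal (AdjoinRoot (X ^ n - C π : A[X])) ^ n ∧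
      ∀ (K₁ : Type u) [Field K₁] [Algebra (AdjoinRoot (X ^ n - C π : A[X])) K₁] [IsFractionRing (AdjoinRoot (X ^ n - C π : A[X])) K₁],
        EtRam.IsTotallyRamified A ((algebraMap (AdjoinRoot (X ^ n - C π : A[X])) K₁).comp (algebraMap A (AdjoinRoot (X ^ n - C π : A[X])))) := by
  refine ⟨irr_f π hπ n hn, ?_⟩
  have hd := isDomain_B π hπ n hn
  have hdvr := isDVR_B π hπ n hn
  refine ⟨hd, hdvr, inferInstance, map_maximalIdeal π hπ n hn, ?_⟩
  intro K₁ _ _ _
  exact totallyRamified π n K₁ hπ hn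

end Groth.Agent.S1987
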