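import Groth.Statements.S11254
import Mathlib
import Groth.Agent.Lib.Helper10.SMT10
import Groth.Agent.S11268

set_option autoImplicit false
universe u
open W4bk4grassmannian

namespace Groth.Agent.S11254

set_option linter.style.haveILetI false
open MvPolynomial Groth.Agent.Lib.helper10.SMT

theorem le_dir (K : Type u) [Field K] (d n : ℕ) (τ : Idx d n) :
    schubertVanishing K d n τ ⊔ Ideal.span {MvPolynomial.X τ} ≤
      ⨅ φ ∈ divisors τ, schubertVanishing K d n φ := by
  apply sup_le
  · exact le_iInf₂ fun φ hφ => schubertVanishing_mono K hφ.1.le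
  · rw [Ideal.span_le, Set.singleton_subset_iff]
    show (X τ : PlRing K d n) ∈ ⨅ φ ∈ divisors τ, schubertVanishing K d n φ
    rw [Ideal.mem_iInf]
    intro φ
    rw [Ideal.mem_iInf]
    intro hφ
    exact X_mem_schubertVanishing K φ τ (not_le_of_gt hφ.1)

theorem main (K : Type u) [Field K] [IsAlgClosed K]
    (d n : ℕ) (hd : 0 < d) (hdn : d < n) (τ : Idx d n) (hτ : ∃ φ : Idx d n, φ < τ) :
    schubertVanishing K d n τ ⊔ Ideal.span {MvPolynomial.X τ} =
      ⨅ φ ∈ divisors τ, schubertVanishing K d n φ := by
  haveI : Infinite K := inferInstance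
  apply le_antisymm (le_dir K d n τ)
  intro f hf
  obtain ⟨g, hg, hfg⟩ := std_span_general K
    (schubertVanishing K d n τ ⊔ Ideal.span {MvPolynomial.X τ})
    (le_trans (plIdealTop_le_schubertVanishing K τ) le_sup_left)
    (fun c => ∀ k, c.2.1 k < τ)
    (by
      intro c hc
      obtain ⟨k, hk⟩ := not_forall.1 hc
      apply chainMon_mem_ideal K _ c.2.1 k
      by_cases hle : c.2.1 k ≤ τ
      · have heq : c.2.1 k = τ := eq_of_le_of_not_lt hle hk
        rw [heq]
        exact Ideal.mem_sup_right (Ideal.subset_span rfl)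
      · exact Ideal.mem_sup_left (X_mem_schubertVanishing K τ _ hle)) f
  have hgJ : g ∈ ⨅ φ ∈ divisors τ, schubertVanishing K d n φ := by
    have h1 : g = f - (f - g) := by ring
    rw [h1]
    exact Ideal.sub_mem _ hf (le_dir K d n τ hfg)
  rw [Finsupp.mem_span_image_iff_linearCombination] at hg
  obtain ⟨l, hl, hlg⟩ := hg
  rw [Finsupp.linearCombination_apply, Finsupp.sum] at hlg
  have hzero := std_independent_union K hd (fun φ : divisors τ => φ.1) (fun c : Chains d n => c)
    (fun _ _ h => h) l.support l
    (by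
      intro c hc
      have hQ : ∀ k, c.2.1 k < τ := (Finsupp.mem_supported K l).1 hl hc
      obtain ⟨m, c, hcanti⟩ := c
      cases m with
      | zero =>
        obtain ⟨φ₀, hφ₀⟩ := hτ
        obtain ⟨φ, hφ, -⟩ := Groth.Agent.S11268.result d n φ₀ τ hφ₀
        exact ⟨⟨φ, hφ⟩, fun k => k.elim0⟩
      | succ m =>
        obtain ⟨φ, hφ, hle⟩ := Groth.Agent.S11268.result d n (c 0) τ (hQ 0)
        exact ⟨⟨φ, hφ⟩, fun k => le_trans (hcanti (Fin.zero_le k)) hle⟩)
    (by
      rw [hlg, Ideal.mem_iInf]
      intro φ
      rw [Ideal.mem_iInf] at hgJ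
      have h1 := hgJ φ.1
      rw [Ideal.mem_iInf] at h1
      exact h1 φ.2)
  have hl0 : l = 0 := by
    ext c
    by_cases hc : c ∈ l.support
    · exact hzero c hc
    · exact Finsupp.notMem_support_iff.1 hc
  rw [hl0] at hlg
  simp only [Finsupp.support_zero, Finset.sum_empty] at hlg
  have : f = f - g := by rw [← hlg, sub_zero]
  rw [this]
  exact hfg



open W4bk4grassmannian in
/-- Let K be an algebraically closed field, 0 < d < n, and I(d,n) the strictly increasing maps Fin d →
Fin n ordered entrywise; S = K[X_θ : θ ∈ I(d,n)] is the Plücker polynomial ring and, for τ ∈ I(d,n),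
J(τ) ⊆ S is the ideal of polynomials vanishing at the d × d row-minors of every n × d matrix over K
whose minors on rows φ ≰ τ are zero (the homogeneous ideal of the Schubert variety X(τ) ⊆ G(d,n)).
Let τ ∈ I(d,n) admit some φ < τ (X(τ) has positive dimension). Then J(τ) + (X_τ) = ⋂_φ J(φ), the
intersection over the Schubert divisors φ of τ, i.e. the φ < τ with Σ_t (φ_t - t) + 1 = Σ_t (τ_t -
t). (For the zero-dimensional Schubert variety there is no divisor and the left side is the
irrelevant ideal, so positive dimension is required at the level of ideals.) -/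
theorem result (K : Type u) [Field K] [IsAlgClosed K]
    (d n : ℕ) (hd : 0 < d) (hdn : d < n) (τ : Idx d n) (hτ : ∃ φ : Idx d n, φ < τ) :
    schubertVanishing K d n τ ⊔ Ideal.span {MvPolynomial.X τ} =
      ⨅ φ ∈ divisors τ, schubertVanishing K d n φ := by
  exact main K d n hd hdn τ hτ

end Groth.Agent.S11254
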