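import Groth.Statements.S18675
import Mathlib

set_option autoImplicit false
open GLat

namespace Groth.Agent.S18675

set_option linter.style.haveILetI false

/-- a homomorphism-like map from a finite group to `ℤ` vanishes -/
lemma int_hom_zero {K : Type*} [Group K] [Finite K] (φ : K → ℤ)
    (hφ : ∀ a b, φ (a * b) = φ a + φ b) (k : K) : φ k = 0 := by
  have h1 : φ 1 = 0 := by
    have := hφ 1 1
    rw [mul_one] at this
    linarith
  have hpow : ∀ n : ℕ, φ (k ^ n) = n * φ k := by
    intro n
    induction n with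
    | zero => simp [h1]
    | succ n ih => rw [pow_succ, hφ, ih]; push_cast; ring
  have h2 := hpow (orderOf k)
  rw [pow_orderOf_eq_one, h1] at h2
  have h3 : (orderOf k : ℤ) ≠ 0 := by
    have := orderOf_pos k
    exact_mod_cast this.ne'
  rcases mul_eq_zero.1 h2.symm with h | h
  · exact absurd h h3
  · exact h

/-- `H¹(H, ℤ[I]) = 0` for a finite group acting on a finite set, in coordinates -/
theorem h1_perm_fun {H : Type} [Group H] [Finite H] {I : Type} [MulAction H I]
    (u : H → I → ℤ) (hu : ∀ a b i, u (a * b) i = u a i + u b (a⁻¹ • i)) :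
    ∃ p : I → ℤ, ∀ a i, u a i = p (a⁻¹ • i) - p i := by
  -- orbit representatives
  let r : I → I := fun x => Quotient.out (Quotient.mk (MulAction.orbitRel H I) x)
  have hr : ∀ x, ∃ a : H, a⁻¹ • r x = x := by
    intro x
    have h1 : (MulAction.orbitRel H I).r (r x) x := Quotient.mk_out (s := MulAction.orbitRel H I) x
    have h2 : x ∈ MulAction.orbit H (r x) := by
      have := (MulAction.orbitRel H I).symm h1
      exact (MulAction.orbitRel_apply).1 this
    obtain ⟨b, hb⟩ := h2
    exact ⟨b⁻¹, by rw [inv_inv]; exact hb⟩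
  choose α hα using hr
  have hrsmul : ∀ (g : H) (x : I), r (g • x) = r x := by
    intro g x
    have : Quotient.mk (MulAction.orbitRel H I) (g • x) = Quotient.mk (MulAction.orbitRel H I) x :=
      Quotient.sound (MulAction.mem_orbit x g)
    show Quotient.out (Quotient.mk (MulAction.orbitRel H I) (g • x)) = _
    rw [this]
  -- stabilizer values vanish
  have hstab : ∀ (j : I) (k : H), k • j = j → u k j = 0 := by
    intro j k hk
    let φ : MulAction.stabilizer H j → ℤ := fun k => u k j
    have hφ : ∀ a b, φ (a * b) = φ a + φ b := by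
      intro a b
      show u ((a : H) * (b : H)) j = u a j + u b j
      rw [hu]
      congr 2
      rw [inv_smul_eq_iff]
      exact (MulAction.mem_stabilizer_iff.1 a.2).symm
    exact int_hom_zero φ hφ ⟨k, MulAction.mem_stabilizer_iff.2 hk⟩
  refine ⟨fun i => u (α i) (r i), ?_⟩
  -- key lemma
  have key : ∀ (i : I) (a : H), a⁻¹ • r i = i → u a (r i) = u (α i) (r i) := by
    intro i a ha
    have hk : (a * (α i)⁻¹) • r i = r i := by
      rw [mul_smul, hα i]
      exact (inv_smul_eq_iff.1 ha).symm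
    have h1 : a = (a * (α i)⁻¹) * α i := by group
    conv_lhs => rw [h1]
    rw [hu, hstab _ _ hk, zero_add]
    congr 1
    rw [inv_smul_eq_iff, hk]
  intro a i
  have h1 := hu (α i) a (r i)
  rw [hα i] at h1
  have h2 : (α i * a)⁻¹ • r (a⁻¹ • i) = a⁻¹ • i := by
    rw [hrsmul, mul_inv_rev, mul_smul, hα i]
  have h3 := key (a⁻¹ • i) (α i * a) h2
  rw [hrsmul] at h3
  show u a i = u (α (a⁻¹ • i)) (r (a⁻¹ • i)) - u (α i) (r i)
  rw [hrsmul, ← h3, h1]
  ring

theorem pack (G : Type) [Group G] (A : Type) [AddCommGroup A] (ρ : Representation ℤ G A)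
    (Q : Type) [iQ : AddCommGroup Q] [mQ : Module ℤ Q] (P : Type) [iP : AddCommGroup P]
    [mP : Module ℤ P]
    (fQ : Module.Finite ℤ Q) (frQ : Module.Free ℤ Q) (fP : Module.Finite ℤ P)
    (frP : Module.Free ℤ P)
    (σ : Representation ℤ G Q) (τ : Representation ℤ G P) (i : Q →ₗ[ℤ] P) (π : P →ₗ[ℤ] A)
    (h1 : ∀ g m, i (σ g m) = τ g (i m)) (h2 : ∀ g m, π (τ g m) = ρ g (π m))
    (h3 : Function.Injective i) (h4 : Function.Surjective π)
    (h5 : LinearMap.range i = LinearMap.ker π)
    (h6 : ∃ (ι : Type) (b : Module.Basis ι ℤ P), ∀ (g : G) (i : ι), ∃ j : ι, τ g (b i) = b j)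
    (h7 : ∀ (H : Subgroup G) (f : H → Q), (∀ a b : H, f (a * b) = f a + σ (a : G) (f b)) →
      ∃ m : Q, ∀ a : H, f a = σ (a : G) m - m) :
    ∃ (Q : Type) (_ : AddCommGroup Q) (P : Type) (_ : AddCommGroup P)
      (_ : Module.Finite ℤ Q) (_ : Module.Free ℤ Q) (_ : Module.Finite ℤ P) (_ : Module.Free ℤ P)
      (σ : Representation ℤ G Q) (τ : Representation ℤ G P) (i : Q →ₗ[ℤ] P) (π : P →ₗ[ℤ] A),
      GLat.IsEquivariant σ τ i ∧ GLat.IsEquivariant τ ρ π ∧ Function.Injective i ∧ Function.Surjective π ∧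
      LinearMap.range i = LinearMap.ker π ∧ GLat.IsPermutation τ ∧ GLat.IsCoflasque σ := by
  obtain rfl : mQ = AddCommGroup.toIntModule Q := Subsingleton.elim _ _
  obtain rfl : mP = AddCommGroup.toIntModule P := Subsingleton.elim _ _
  exact ⟨Q, iQ, P, iP, fQ, frQ, fP, frP, σ, τ, i, π, h1, h2, h3, h4, h5, h6, h7⟩

section Core

variable {G : Type} [Group G] [Finite G] {A : Type} [AddCommGroup A] (ρ : Representation ℤ G A)
  {I : Type} [Finite I] [MulAction G I] (v : I → A) (hv : ∀ g i, v (g • i) = ρ g (v i))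

/-- permutation representation on `I →₀ ℤ` -/
noncomputable def tau : Representation ℤ G (I →₀ ℤ) where
  toFun g := Finsupp.lmapDomain ℤ ℤ (g • ·)
  map_one' := by ext i; simp
  map_mul' a b := by ext i; simp [mul_smul]

omit [Finite G] [Finite I] in
lemma tau_single (g : G) (i : I) (n : ℤ) :
    tau (I := I) g (Finsupp.single i n) = Finsupp.single (g • i) n := by
  simp [tau]

omit [Finite G] [Finite I] in
lemma tau_apply (g : G) (x : I →₀ ℤ) (i : I) : tau (I := I) g x i = x (g⁻¹ • i) := by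
  show Finsupp.mapDomain (g • ·) x i = _
  conv_lhs => rw [← smul_inv_smul g i]
  exact Finsupp.mapDomain_apply (MulAction.injective g) x (g⁻¹ • i)

/-- the augmentation-like map -/
noncomputable def piMap : (I →₀ ℤ) →ₗ[ℤ] A := Finsupp.linearCombination ℤ v

include hv in
omit [Finite G] [Finite I] in
lemma piMap_tau (g : G) (p : I →₀ ℤ) : piMap v (tau g p) = ρ g (piMap v p) := by
  have : (piMap v).comp (tau (I := I) g) = (ρ g).comp (piMap v) := by
    ext i
    simp [piMap, tau_single, hv]
  exact LinearMap.congr_fun this p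

omit [Finite G] in
lemma h1P (H : Subgroup G) [Finite H] (c : H → (I →₀ ℤ))
    (hc : ∀ a b : H, c (a * b) = c a + tau (a : G) (c b)) :
    ∃ p : I →₀ ℤ, ∀ a : H, c a = tau (a : G) p - p := by
  obtain ⟨p, hp⟩ := h1_perm_fun (H := H) (I := I) (fun a i => c a i) (fun a b i => by
    show c (a * b) i = c a i + c b (a⁻¹ • i)
    rw [hc, Finsupp.add_apply, tau_apply]
    rfl)
  refine ⟨Finsupp.equivFunOnFinite.symm p, fun a => ?_⟩
  ext i
  rw [Finsupp.sub_apply, tau_apply]
  exact hp a i

include hv in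
theorem core
    (hsurj : ∀ (H : Subgroup G) (a : A), (∀ h ∈ H, ρ h a = a) →
      ∃ p : I →₀ ℤ, (∀ h ∈ H, tau h p = p) ∧ piMap v p = a) :
    ∃ (Q : Type) (_ : AddCommGroup Q) (P : Type) (_ : AddCommGroup P)
      (_ : Module.Finite ℤ Q) (_ : Module.Free ℤ Q) (_ : Module.Finite ℤ P) (_ : Module.Free ℤ P)
      (σ : Representation ℤ G Q) (τ : Representation ℤ G P) (i : Q →ₗ[ℤ] P) (π : P →ₗ[ℤ] A),
      GLat.IsEquivariant σ τ i ∧ GLat.IsEquivariant τ ρ π ∧ Function.Injective i ∧ Function.Surjective π ∧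
      LinearMap.range i = LinearMap.ker π ∧ GLat.IsPermutation τ ∧ GLat.IsCoflasque σ := by
  have hker : ∀ (g : G), ∀ x ∈ LinearMap.ker (piMap v), tau g x ∈ LinearMap.ker (piMap v) := by
    intro g x hx
    rw [LinearMap.mem_ker] at hx ⊢
    rw [piMap_tau ρ v hv, hx, map_zero]
  let σ : Representation ℤ G (LinearMap.ker (piMap v)) :=
    { toFun := fun g => (tau g).restrict (hker g)
      map_one' := by
        ext x
        simp
      map_mul' := fun a b => by
        ext x
        simp }
  have hσ : ∀ (g : G) (x : LinearMap.ker (piMap v)), ((σ g x : LinearMap.ker (piMap v)) : I →₀ ℤ) =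
      tau g (x : I →₀ ℤ) := fun g x => rfl
  refine pack G A ρ (LinearMap.ker (piMap v)) (I →₀ ℤ) inferInstance inferInstance inferInstance
    inferInstance σ tau (LinearMap.ker (piMap v)).subtype (piMap v) (fun g m => rfl)
    (piMap_tau ρ v hv) (Submodule.injective_subtype _) ?_ (Submodule.range_subtype _) ?_ ?_
  · intro a
    obtain ⟨p, -, hp⟩ := hsurj ⊥ a (fun h hh => by
      rw [Subgroup.mem_bot.1 hh, map_one]; rfl)
    exact ⟨p, hp⟩
  · exact ⟨I, Finsupp.basisSingleOne, fun g i => ⟨g • i, by simp [tau_single]⟩⟩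
  · intro H f hf
    obtain ⟨p, hp⟩ := h1P H (fun a => (f a : I →₀ ℤ)) (fun a b => by
      rw [hf a b]; rfl)
    have hinv : ∀ h ∈ H, ρ h (piMap v p) = piMap v p := by
      intro h hh
      have h1 := hp ⟨h, hh⟩
      have h2 : piMap v ((f ⟨h, hh⟩ : LinearMap.ker (piMap v)) : I →₀ ℤ) = 0 :=
        LinearMap.mem_ker.1 (f ⟨h, hh⟩).2
      rw [h1, map_sub, piMap_tau ρ v hv, sub_eq_zero] at h2
      exact h2
    obtain ⟨p', hp'1, hp'2⟩ := hsurj H (piMap v p) hinv
    have hq : p - p' ∈ LinearMap.ker (piMap v) := by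
      rw [LinearMap.mem_ker, map_sub, hp'2, sub_self]
    refine ⟨⟨p - p', hq⟩, fun a => ?_⟩
    apply Subtype.ext
    rw [Submodule.coe_sub, hσ]
    show (f a : I →₀ ℤ) = tau (a : G) (p - p') - (p - p')
    rw [hp a, map_sub, hp'1 a a.2]
    abel

end Core

theorem main (G : Type) [Group G] [Finite G]
    (A : Type) [AddCommGroup A] [Module.Finite ℤ A] (ρ : Representation ℤ G A) :
    ∃ (Q : Type) (_ : AddCommGroup Q) (P : Type) (_ : AddCommGroup P)
      (_ : Module.Finite ℤ Q) (_ : Module.Free ℤ Q) (_ : Module.Finite ℤ P) (_ : Module.Free ℤ P)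
      (σ : Representation ℤ G Q) (τ : Representation ℤ G P) (i : Q →ₗ[ℤ] P) (π : P →ₗ[ℤ] A),
      GLat.IsEquivariant σ τ i ∧ GLat.IsEquivariant τ ρ π ∧ Function.Injective i ∧ Function.Surjective π ∧
      LinearMap.range i = LinearMap.ker π ∧ GLat.IsPermutation τ ∧ GLat.IsCoflasque σ := by
  classical
  -- invariants
  let inv : Subgroup G → Submodule ℤ A := fun H =>
    { carrier := {a | ∀ h ∈ H, ρ h a = a}
      add_mem' := fun {a b} ha hb h hh => by rw [map_add, ha h hh, hb h hh]
      zero_mem' := fun h _ => map_zero _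
      smul_mem' := fun n a ha h hh => by rw [map_smul, ha h hh] }
  have hfg : ∀ H, (inv H).FG := fun H => IsNoetherian.noetherian _
  choose S hS using hfg
  let S' : Set A := ⋃ (H : Subgroup G), ⋃ (g : G), (fun s => ρ g s) '' (S H : Set A)
  have hfin : S'.Finite :=
    Set.finite_iUnion fun H => Set.finite_iUnion fun g => (Finset.finite_toSet _).image _
  have hstable : ∀ (g : G) (x : A), x ∈ S' → ρ g x ∈ S' := by
    intro g x hx
    simp only [S', Set.mem_iUnion, Set.mem_image] at hx ⊢
    obtain ⟨H, g', s, hs, rfl⟩ := hx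
    refine ⟨H, g * g', s, hs, ?_⟩
    rw [map_mul]; rfl
  have hmemS' : ∀ (H : Subgroup G) (s : A), s ∈ (S H : Set A) → s ∈ S' := by
    intro H s hs
    simp only [S', Set.mem_iUnion, Set.mem_image]
    exact ⟨H, 1, s, hs, by rw [map_one]; rfl⟩
  letI : MulAction G S' :=
    { smul := fun g x => ⟨ρ g x.1, hstable g x.1 x.2⟩
      one_smul := fun x => Subtype.ext (by show ρ 1 x.1 = x.1; rw [map_one]; rfl)
      mul_smul := fun a b x => Subtype.ext (by
        show ρ (a * b) x.1 = ρ a (ρ b x.1); rw [map_mul]; rfl) }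
  haveI : Finite S' := hfin.to_subtype
  have hv : ∀ (g : G) (i : S'), ((g • i : S') : A) = ρ g (i : A) := fun g i => rfl
  refine core ρ (fun i : S' => (i : A)) hv ?_
  intro H a ha
  have hmem : a ∈ inv H := ha
  rw [← hS H] at hmem
  clear ha
  induction hmem using Submodule.span_induction with
  | mem s hs =>
    have hsinv : s ∈ inv H := by rw [← hS H]; exact Submodule.subset_span hs
    refine ⟨Finsupp.single ⟨s, hmemS' H s hs⟩ 1, fun h hh => ?_, ?_⟩
    · rw [tau_single]
      congr 1
      exact Subtype.ext (hsinv h hh)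
    · simp [piMap]
  | zero => exact ⟨0, fun h _ => map_zero _, map_zero _⟩
  | add x y _ _ hx hy =>
    obtain ⟨p, hp1, hp2⟩ := hx
    obtain ⟨q, hq1, hq2⟩ := hy
    exact ⟨p + q, fun h hh => by rw [map_add, hp1 h hh, hq1 h hh], by rw [map_add, hp2, hq2]⟩
  | smul n x _ hx =>
    obtain ⟨p, hp1, hp2⟩ := hx
    exact ⟨n • p, fun h hh => by rw [map_smul, hp1 h hh], by rw [map_smul, hp2]⟩



/-- For a finite group G and a finitely generated G-module A there is an exact sequence 0 → Q → P → A →
0 of finitely generated G-modules with P a permutation lattice and Q a coflasque lattice; here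
rendered by equivariant ℤ-linear maps i : Q → P injective, π : P → A surjective, with range i = ker
π. -/
theorem result (G : Type) [Group G] [Finite G]
    (A : Type) [AddCommGroup A] [Module.Finite ℤ A] (ρ : Representation ℤ G A) :
    ∃ (Q : Type) (_ : AddCommGroup Q) (P : Type) (_ : AddCommGroup P)
      (_ : Module.Finite ℤ Q) (_ : Module.Free ℤ Q) (_ : Module.Finite ℤ P) (_ : Module.Free ℤ P)
      (σ : Representation ℤ G Q) (τ : Representation ℤ G P) (i : Q →ₗ[ℤ] P) (π : P →ₗ[ℤ] A),
      GLat.IsEquivariant σ τ i ∧ GLat.IsEquivariant τ ρ π ∧ Function.Injective i ∧ Function.Surjective π ∧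
      LinearMap.range i = LinearMap.ker π ∧ GLat.IsPermutation τ ∧ GLat.IsCoflasque σ := by
  exact main G A ρ

end Groth.Agent.S18675
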