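import Groth.Statements.S18687
import Mathlib
import Groth.Agent.S18675

set_option autoImplicit false
open GLat

namespace Groth.Agent.S18687

set_option linter.style.haveILetI false

/-- `H¹` vanishes for functions on a free `H`-set with values in any abelian group -/
theorem h1_free_fun {H : Type} [Group H] {I : Type} [MulAction H I] {A : Type*} [AddCommGroup A]
    (hfree : ∀ (k : H) (j : I), k • j = j → k = 1)
    (u : H → I → A) (hu : ∀ a b i, u (a * b) i = u a i + u b (a⁻¹ • i)) :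
    ∃ p : I → A, ∀ a i, u a i = p (a⁻¹ • i) - p i := by
  let r : I → I := fun x => Quotient.out (Quotient.mk (MulAction.orbitRel H I) x)
  have hr : ∀ x, ∃ a : H, a⁻¹ • r x = x := by
    intro x
    have h1 : (MulAction.orbitRel H I).r (r x) x := Quotient.mk_out (s := MulAction.orbitRel H I) x
    have h2 : x ∈ MulAction.orbit H (r x) := by
      have := (MulAction.orbitRel H I).symm h1
      exact (MulAction.orbitRel_apply).1 this
    obtain ⟨b, hb⟩ := h2
    exact ⟨b⁻¹, by rw [inv_inv]; exact hb⟩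
  choose α hα using hr
  have hrsmul : ∀ (g : H) (x : I), r (g • x) = r x := by
    intro g x
    have : Quotient.mk (MulAction.orbitRel H I) (g • x) = Quotient.mk (MulAction.orbitRel H I) x :=
      Quotient.sound (MulAction.mem_orbit x g)
    show Quotient.out (Quotient.mk (MulAction.orbitRel H I) (g • x)) = _
    rw [this]
  have hstab : ∀ (j : I) (k : H), k • j = j → u k j = 0 := by
    intro j k hk
    rw [hfree k j hk]
    have := hu 1 1 j
    rw [mul_one, inv_one, one_smul] at this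
    exact (add_eq_left.1 this.symm)
  refine ⟨fun i => u (α i) (r i), ?_⟩
  have key : ∀ (i : I) (a : H), a⁻¹ • r i = i → u a (r i) = u (α i) (r i) := by
    intro i a ha
    have hk : (a * (α i)⁻¹) • r i = r i := by
      rw [mul_smul, hα i]
      exact (inv_smul_eq_iff.1 ha).symm
    have h1 : a = (a * (α i)⁻¹) * α i := by group
    conv_lhs => rw [h1]
    rw [hu, hstab _ _ hk, zero_add]
    congr 1
    rw [inv_smul_eq_iff, hk]
  intro a i
  have h1 := hu (α i) a (r i)
  rw [hα i] at h1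
  have h2 : (α i * a)⁻¹ • r (a⁻¹ • i) = a⁻¹ • i := by
    rw [hrsmul, mul_inv_rev, mul_smul, hα i]
  have h3 := key (a⁻¹ • i) (α i * a) h2
  rw [hrsmul] at h3
  show u a i = u (α (a⁻¹ • i)) (r (a⁻¹ • i)) - u (α i) (r i)
  rw [hrsmul, ← h3, h1]
  abel

/-- generic-instance form of S18675 -/
theorem cover' (G : Type) [Group G] [Finite G] (C : Type) [AddCommGroup C] [mC : Module ℤ C]
    [Module.Finite ℤ C] (ρ : Representation ℤ G C) :
    ∃ (Q : Type) (_ : AddCommGroup Q) (P : Type) (_ : AddCommGroup P)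
      (_ : Module.Finite ℤ Q) (_ : Module.Free ℤ Q) (_ : Module.Finite ℤ P) (_ : Module.Free ℤ P)
      (σ : Representation ℤ G Q) (τ : Representation ℤ G P) (i : Q →ₗ[ℤ] P) (π : P →ₗ[ℤ] C),
      (∀ g m, i (σ g m) = τ g (i m)) ∧ (∀ g m, π (τ g m) = ρ g (π m)) ∧
      Function.Injective i ∧ Function.Surjective π ∧
      LinearMap.range i = LinearMap.ker π ∧ GLat.IsPermutation τ ∧ GLat.IsCoflasque σ := by
  obtain rfl : mC = AddCommGroup.toIntModule C := Subsingleton.elim _ _
  exact Groth.Agent.S18675.result G C ρ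

theorem pack87 (G : Type) [Group G] (A : Type) [AddCommGroup A] (ρ : Representation ℤ G A)
    (Q : Type) [iQ : AddCommGroup Q] [mQ : Module ℤ Q] (P : Type) [iP : AddCommGroup P]
    (fQ : Module.Finite ℤ Q) (frQ : Module.Free ℤ Q) (fP : Module.Finite ℤ P)
    (frP : Module.Free ℤ P)
    (σ : Representation ℤ G Q) (τ : Representation ℤ G P) (i : A →ₗ[ℤ] Q) (π : Q →ₗ[ℤ] P)
    (h1 : ∀ g m, i (ρ g m) = σ g (i m)) (h2 : ∀ g m, π (σ g m) = τ g (π m))
    (h3 : Function.Injective i) (h4 : Function.Surjective π)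
    (h5 : LinearMap.range i = LinearMap.ker π)
    (h6 : ∀ (H : Subgroup G) (f : H → Q), (∀ a b : H, f (a * b) = f a + σ (a : G) (f b)) →
      ∃ m : Q, ∀ a : H, f a = σ (a : G) m - m)
    (h7 : GLat.IsPermutation τ) :
    ∃ (Q : Type) (_ : AddCommGroup Q) (P : Type) (_ : AddCommGroup P)
      (_ : Module.Finite ℤ Q) (_ : Module.Free ℤ Q) (_ : Module.Finite ℤ P) (_ : Module.Free ℤ P)
      (σ : Representation ℤ G Q) (τ : Representation ℤ G P) (i : A →ₗ[ℤ] Q) (π : Q →ₗ[ℤ] P),
      GLat.IsEquivariant ρ σ i ∧ GLat.IsEquivariant σ τ π ∧ Function.Injective i ∧ Function.Surjective π ∧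
      LinearMap.range i = LinearMap.ker π ∧ GLat.IsCoflasque σ ∧ GLat.IsPermutation τ := by
  obtain rfl : mQ = AddCommGroup.toIntModule Q := Subsingleton.elim _ _
  exact ⟨Q, iQ, P, iP, fQ, frQ, fP, frP, σ, τ, i, π, h1, h2, h3, h4, h5, h6, h7⟩

section Main

variable {G : Type} [Group G] [Finite G] {A : Type} [AddCommGroup A] (ρ : Representation ℤ G A)

/-- the coinduced-type representation on functions `G → A` -/
noncomputable def rho0 : Representation ℤ G (G → A) where
  toFun g := LinearMap.pi (fun x => (ρ g).comp (LinearMap.proj (g⁻¹ * x)))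
  map_one' := by
    ext φ x
    simp
  map_mul' a b := by
    ext φ x
    simp [mul_assoc]

omit [Finite G] in
lemma rho0_apply (g : G) (φ : G → A) (x : G) : rho0 ρ g φ x = ρ g (φ (g⁻¹ * x)) := rfl

/-- constant functions -/
def constMap : A →ₗ[ℤ] (G → A) := LinearMap.pi (fun _ => LinearMap.id)

omit [Finite G] in
lemma constMap_apply (a : A) (x : G) : constMap (G := G) (A := A) a x = a := rfl

omit [Finite G] in
lemma rho0_const (g : G) (a : A) : rho0 ρ g (constMap (G := G) (A := A) a) = constMap (G := G) (A := A) (ρ g a) := by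
  ext x
  rfl

omit [Finite G] in
/-- `H¹(H, G → A) = 0` -/
lemma h1_coind (H : Subgroup G) (f : H → (G → A))
    (hf : ∀ a b : H, f (a * b) = f a + rho0 ρ (a : G) (f b)) :
    ∃ m : G → A, ∀ a : H, f a = rho0 ρ (a : G) m - m := by
  obtain ⟨p, hp⟩ := h1_free_fun (H := H) (I := G) (A := A)
    (fun k j hk => by
      have : (k : G) * j = j := hk
      exact Subtype.ext (mul_eq_right.1 this))
    (fun a x => ρ x⁻¹ (f a x))
    (fun a b x => by
      show ρ x⁻¹ (f (a * b) x) = ρ x⁻¹ (f a x) + ρ ((a : G)⁻¹ * x)⁻¹ (f b ((a : G)⁻¹ * x))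
      rw [hf, Pi.add_apply, map_add, rho0_apply]
      congr 1
      rw [← Module.End.mul_apply, ← map_mul]
      congr 2
      group)
  refine ⟨fun x => ρ x (p x), fun a => ?_⟩
  ext x
  rw [Pi.sub_apply, rho0_apply]
  have h1 := hp a x
  have h2 : f a x = ρ x (ρ x⁻¹ (f a x)) := by
    rw [← Module.End.mul_apply, ← map_mul, mul_inv_cancel, map_one]; rfl
  rw [h2, h1, map_sub]
  congr 1
  show ρ x (p ((a : G)⁻¹ * x)) = ρ (a : G) (ρ ((a : G)⁻¹ * x) (p ((a : G)⁻¹ * x)))
  rw [← Module.End.mul_apply, ← map_mul]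
  congr 2
  group

theorem main [Module.Finite ℤ A] [Module.Free ℤ A] :
    ∃ (Q : Type) (_ : AddCommGroup Q) (P : Type) (_ : AddCommGroup P)
      (_ : Module.Finite ℤ Q) (_ : Module.Free ℤ Q) (_ : Module.Finite ℤ P) (_ : Module.Free ℤ P)
      (σ : Representation ℤ G Q) (τ : Representation ℤ G P) (i : A →ₗ[ℤ] Q) (π : Q →ₗ[ℤ] P),
      GLat.IsEquivariant ρ σ i ∧ GLat.IsEquivariant σ τ π ∧ Function.Injective i ∧ Function.Surjective π ∧
      LinearMap.range i = LinearMap.ker π ∧ GLat.IsCoflasque σ ∧ GLat.IsPermutation τ := by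
  classical
  -- the cokernel of the constants
  let W : Submodule ℤ (G → A) := LinearMap.range (constMap (G := G) (A := A))
  have hW : ∀ g, W ≤ W.comap (rho0 ρ g) := by
    rintro g _ ⟨a, rfl⟩
    exact ⟨ρ g a, (rho0_const ρ g a).symm⟩
  let ρC : Representation ℤ G ((G → A) ⧸ W) := (rho0 ρ).quotient W hW
  obtain ⟨Q₁, iQ₁, P, iP, fQ₁, frQ₁, fP, frP, σ₁, τ, i₁, π₁, e1, e2, inj1, surj1, ex1, hperm, hcof⟩ :=
    cover' G ((G → A) ⧸ W) ρC
  -- the pullback
  let D : ((G → A) × P) →ₗ[ℤ] ((G → A) ⧸ W) :=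
    W.mkQ.comp (LinearMap.fst ℤ (G → A) P) - π₁.comp (LinearMap.snd ℤ (G → A) P)
  have hDmem : ∀ z : (G → A) × P, z ∈ LinearMap.ker D ↔ W.mkQ z.1 = π₁ z.2 := by
    intro z
    rw [LinearMap.mem_ker]
    show W.mkQ z.1 - π₁ z.2 = 0 ↔ _
    rw [sub_eq_zero]
  have hQ : ∀ g, LinearMap.ker D ≤ (LinearMap.ker D).comap ((rho0 ρ).prod τ g) := by
    intro g z hz
    rw [Submodule.mem_comap, hDmem]
    rw [hDmem] at hz
    show W.mkQ (rho0 ρ g z.1) = π₁ (τ g z.2)
    rw [e2, ← hz]
    rfl
  let σ : Representation ℤ G (LinearMap.ker D) := ((rho0 ρ).prod τ).subrepresentation _ hQ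
  have hσ1 : ∀ (g : G) (z : LinearMap.ker D), ((σ g z : LinearMap.ker D) : (G → A) × P).1 =
      rho0 ρ g (z : (G → A) × P).1 := fun g z => rfl
  have hσ2 : ∀ (g : G) (z : LinearMap.ker D), ((σ g z : LinearMap.ker D) : (G → A) × P).2 =
      τ g (z : (G → A) × P).2 := fun g z => rfl
  let i : A →ₗ[ℤ] LinearMap.ker D :=
    LinearMap.codRestrict _ (LinearMap.prod (constMap (G := G) (A := A)) 0) (fun a => by
      rw [hDmem]
      show W.mkQ (constMap (G := G) (A := A) a) = π₁ 0
      rw [map_zero, Submodule.mkQ_apply, Submodule.Quotient.mk_eq_zero]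
      exact ⟨a, rfl⟩)
  let π : LinearMap.ker D →ₗ[ℤ] P := (LinearMap.snd ℤ (G → A) P).comp (LinearMap.ker D).subtype
  refine pack87 G A ρ (LinearMap.ker D) P inferInstance inferInstance fP frP σ τ i π ?_ ?_ ?_ ?_ ?_ ?_ hperm
  · intro g a
    apply Subtype.ext
    refine Prod.ext ?_ ?_
    · rw [hσ1]
      exact (rho0_const ρ g a).symm
    · rw [hσ2]
      show (0 : P) = τ g 0
      rw [map_zero]
  · intro g z
    rfl
  · intro a b hab
    have h1 := congrArg (fun z : LinearMap.ker D => (z : (G → A) × P).1 (1 : G)) hab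
    exact h1
  · intro p
    obtain ⟨q, hq⟩ := W.mkQ_surjective (π₁ p)
    exact ⟨⟨(q, p), (hDmem _).2 hq⟩, rfl⟩
  · ext z
    rw [LinearMap.mem_range, LinearMap.mem_ker]
    constructor
    · rintro ⟨a, rfl⟩
      rfl
    · intro hz
      have hz' : (z : (G → A) × P).2 = 0 := hz
      have h1 := (hDmem _).1 z.2
      rw [hz', map_zero, Submodule.mkQ_apply, Submodule.Quotient.mk_eq_zero] at h1
      obtain ⟨a, ha⟩ := h1
      refine ⟨a, Subtype.ext (Prod.ext ha hz'.symm)⟩
  · -- coflasque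
    intro H f hf
    have hf1 : ∀ a b : H, (f (a * b) : (G → A) × P).1 =
        (f a : (G → A) × P).1 + rho0 ρ (a : G) (f b : (G → A) × P).1 := by
      intro a b
      rw [hf a b]
      rfl
    have hf2 : ∀ a b : H, (f (a * b) : (G → A) × P).2 =
        (f a : (G → A) × P).2 + τ (a : G) (f b : (G → A) × P).2 := by
      intro a b
      rw [hf a b]
      rfl
    obtain ⟨m, hm⟩ := h1_coind ρ H (fun a => (f a : (G → A) × P).1) hf1
    obtain ⟨pp, hpp⟩ := surj1 (W.mkQ m)
    -- second components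
    have hs : ∀ a : H, ∃ n : Q₁, i₁ n = (f a : (G → A) × P).2 - (τ (a : G) pp - pp) := by
      intro a
      have : (f a : (G → A) × P).2 - (τ (a : G) pp - pp) ∈ LinearMap.ker π₁ := by
        rw [LinearMap.mem_ker, map_sub, map_sub, e2, hpp, ← (hDmem _).1 (f a).2, hm a]
        show W.mkQ (rho0 ρ (a : G) m - m) - (ρC (a : G) (W.mkQ m) - W.mkQ m) = 0
        rw [map_sub]
        exact sub_self _
      rw [← ex1] at this
      exact this
    choose gg hgg using hs
    have hggc : ∀ a b : H, gg (a * b) = gg a + σ₁ (a : G) (gg b) := by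
      intro a b
      apply inj1
      rw [map_add, e1, hgg, hgg, hgg, hf2, map_sub, map_sub]
      have : τ ((a * b : H) : G) pp = τ (a : G) (τ (b : G) pp) := by
        rw [Subgroup.coe_mul, map_mul]; rfl
      rw [this]
      abel
    obtain ⟨n, hn⟩ := hcof H gg hggc
    have hnt : ((0 : G → A), i₁ n) ∈ LinearMap.ker D := by
      rw [hDmem]
      show W.mkQ 0 = π₁ (i₁ n)
      have : i₁ n ∈ LinearMap.ker π₁ := by rw [← ex1]; exact ⟨n, rfl⟩
      rw [LinearMap.mem_ker.1 this, map_zero]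
    refine ⟨⟨(m, pp), (hDmem _).2 hpp.symm⟩ + ⟨(0, i₁ n), hnt⟩, fun a => ?_⟩
    apply Subtype.ext
    rw [map_add, Submodule.coe_sub, Submodule.coe_add, Submodule.coe_add]
    refine Prod.ext ?_ ?_
    · show (f a : (G → A) × P).1 = (rho0 ρ (a : G) m + rho0 ρ (a : G) 0) - (m + 0)
      rw [hm a, map_zero, add_zero, add_zero]
    · show (f a : (G → A) × P).2 = (τ (a : G) pp + τ (a : G) (i₁ n)) - (pp + i₁ n)
      have h1 := hgg a
      rw [hn a, map_sub, e1] at h1
      have h2 : (f a : (G → A) × P).2 = (τ (a : G) (i₁ n) - i₁ n) + (τ (a : G) pp - pp) := by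
        rw [h1]; abel
      rw [h2]
      abel

end Main



/-- For a finite group G and a G-lattice A (finitely generated and free over ℤ) there is an exact
sequence 0 → A → Q → P → 0 of G-lattices with Q coflasque and P a permutation lattice (a coflasque
resolution of A); rendered by equivariant ℤ-linear maps i : A → Q injective, π : Q → P surjective,
with range i = ker π. -/
theorem result (G : Type) [Group G] [Finite G]
    (A : Type) [AddCommGroup A] [Module.Finite ℤ A] [Module.Free ℤ A] (ρ : Representation ℤ G A) :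
    ∃ (Q : Type) (_ : AddCommGroup Q) (P : Type) (_ : AddCommGroup P)
      (_ : Module.Finite ℤ Q) (_ : Module.Free ℤ Q) (_ : Module.Finite ℤ P) (_ : Module.Free ℤ P)
      (σ : Representation ℤ G Q) (τ : Representation ℤ G P) (i : A →ₗ[ℤ] Q) (π : Q →ₗ[ℤ] P),
      GLat.IsEquivariant ρ σ i ∧ GLat.IsEquivariant σ τ π ∧ Function.Injective i ∧ Function.Surjective π ∧
      LinearMap.range i = LinearMap.ker π ∧ GLat.IsCoflasque σ ∧ GLat.IsPermutation τ := by
  exact main ρ

end Groth.Agent.S18687
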