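import Groth.Statements.S12599
import Mathlib
import Groth.Agent.Lib.Helper10.HasseExp2

set_option autoImplicit false
open FunFld

namespace Groth.Agent.S12599

set_option linter.style.haveILetI false
set_option linter.unusedSectionVars false
set_option linter.unusedVariables false

open Groth.Agent.Lib.helper10 Groth.Agent.Lib.helper10.HasseExp

theorem main
    (k K : Type*) [Field k] [IsAlgClosed k] [Field K] [Algebra k K]
    (hK : FunFld.IsFunctionField k K) {n : ℕ} (φ : Fin (n + 1) → K) (hφ : LinearIndependent k φ)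
    (P : FunFld.Place k K) (hint : ∀ i, P.1 (φ i) ≤ 1) (t : K) (ht : P.1 t = WithZero.exp (-1))
    (Ht : K →ₐ[k] PowerSeries K) (hHt : LocRes.IsHasseFamily t Ht) :
    LinearIndependent (IsLocalRing.ResidueField P.O)
      (fun i : Fin (n + 1) => fun j : ℕ => FunFld.evalP P (LocRes.hasseD Ht j (φ i))) := by
  obtain ⟨Φ, hΦ, hΦt⟩ := exists_expansion hK P t ht
  rw [Fintype.linearIndependent_iff]
  intro g hg i
  -- lift the coefficients to k
  have hsurj := (algebraMap_residue_bijective hK P).2
  choose c hc using fun i => hsurj (g i)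
  have hrel : ∀ j : ℕ, ∑ i, c i * (Φ (φ i)).coeff (j : ℤ) = 0 := by
    intro j
    have h1 := congrFun hg j
    simp only [Finset.sum_apply, Pi.smul_apply, Pi.zero_apply, smul_eq_mul] at h1
    apply (algebraMap k (IsLocalRing.ResidueField P.O)).injective
    rw [map_zero, map_sum, ← h1]
    refine Finset.sum_congr rfl fun i _ => ?_
    rw [map_mul, hc, evalP_hasseD hK hΦ hΦt hHt (hint i) j]
  have hsm : ∀ (c : k) (x : K) (m : ℤ), (Φ (c • x)).coeff m = c * (Φ x).coeff m := by
    intro c x m
    rw [Algebra.smul_def, map_mul, LocRes.map_algebraMap, HahnSeries.C_mul_eq_smul,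
      HahnSeries.coeff_smul, smul_eq_mul]
    rfl
  -- the combination vanishes
  have hz : ∑ i, c i • φ i = 0 := by
    apply Φ.toRingHom.injective
    change Φ (∑ i, c i • φ i) = Φ 0
    rw [map_zero, map_sum]
    ext m
    rw [HahnSeries.coeff_sum, HahnSeries.coeff_zero]
    by_cases hm : m < 0
    · apply Finset.sum_eq_zero
      intro i _
      rw [hsm, coeff_neg_eq_zero hΦ (hint i) hm, mul_zero]
    · obtain ⟨j, rfl⟩ := Int.eq_ofNat_of_zero_le (not_lt.mp hm)
      rw [← hrel j]
      refine Finset.sum_congr rfl fun i _ => ?_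
      rw [hsm]
  have := (Fintype.linearIndependent_iff.mp hφ) c hz i
  rw [← hc i, this, map_zero]



/-- Over an algebraically closed constant field, for a place `P` with local parameter `t`, and a
linearly independent tuple `φ = (φ₀, …, φₙ)` of functions integral at `P`, the matrix of values at
`P` of the Hasse derivatives `D_t^(j)(φᵢ)`, `j = 0, 1, …`, has rank `n + 1`: its rows are linearly
independent over the residue field. -/
theorem result
    (k K : Type*) [Field k] [IsAlgClosed k] [Field K] [Algebra k K]
    (hK : FunFld.IsFunctionField k K) {n : ℕ} (φ : Fin (n + 1) → K) (hφ : LinearIndependent k φ)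
    (P : FunFld.Place k K) (hint : ∀ i, P.1 (φ i) ≤ 1) (t : K) (ht : P.1 t = WithZero.exp (-1))
    (Ht : K →ₐ[k] PowerSeries K) (hHt : LocRes.IsHasseFamily t Ht) :
    LinearIndependent (IsLocalRing.ResidueField P.O)
      (fun i : Fin (n + 1) => fun j : ℕ => FunFld.evalP P (LocRes.hasseD Ht j (φ i))) := by
  exact main k K hK φ hφ P hint t ht Ht hHt

end Groth.Agent.S12599
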