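import Groth.Statements.S11049
import Mathlib

set_option autoImplicit false
open CAlg

namespace Groth.Agent.S11049

/-- For `k`-algebras `S ⊆ R` with `R` an integral domain and a nonzero `x ∈ S`, if `R/S` and `R/Rx` are
finite-dimensional over `k` then `dim_k R/Rx = dim_k S/Sx`. (The published statement allows `x = 0`;
then `R` is a field finite over `k` and the two sides are `dim_k R` and `dim_k S`, which differ for
`S = k ⊊ R`; the published proof multiplies by `x` as an injection, so `x ≠ 0` is assumed here.) -/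
theorem result
    (k R : Type*) [Field k] [CommRing R]
    [IsDomain R] [Algebra k R] (S : Subalgebra k R) (x : S) (hx : (x : R) ≠ 0)
    [Module.Finite k (R ⧸ Subalgebra.toSubmodule S)]
    [Module.Finite k (R ⧸ Ideal.span {(x : R)})] :
    Module.finrank k (R ⧸ Ideal.span {(x : R)}) = Module.finrank k (S ⧸ Ideal.span {x}) := by
  classical
  set A : Submodule k R := Subalgebra.toSubmodule S with hA
  set B : Submodule k R := (Ideal.span {(x : R)}).restrictScalars k with hB
  set C : Submodule k R := Submodule.map (LinearMap.mulLeft k (x : R)) A with hC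
  have hCA : C ≤ A := by
    rintro _ ⟨s, hs, rfl⟩
    exact S.mul_mem x.2 hs
  have hCB : C ≤ B := by
    rintro _ ⟨s, hs, rfl⟩
    exact Ideal.mul_mem_right _ _ (Ideal.subset_span rfl)
  -- R/B finite
  have e0 : (R ⧸ B) ≃ₗ[k] (R ⧸ Ideal.span {(x : R)}) :=
    Submodule.Quotient.restrictScalarsEquiv k (Ideal.span {(x : R)})
  have hfinB : Module.Finite k (R ⧸ B) := Module.Finite.equiv e0.symm
  -- the map f : R → R/C, r ↦ [x r]
  let f : R →ₗ[k] (R ⧸ C) := C.mkQ ∘ₗ LinearMap.mulLeft k (x : R)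
  have hkerf : LinearMap.ker f = A := by
    ext r
    rw [LinearMap.mem_ker]
    show C.mkQ ((x : R) * r) = 0 ↔ r ∈ A
    rw [Submodule.mkQ_apply, Submodule.Quotient.mk_eq_zero]
    constructor
    · rintro ⟨s, hs, hsr⟩
      have : s = r := mul_left_cancel₀ hx hsr
      rw [← this]; exact hs
    · intro hr
      exact ⟨r, hr, rfl⟩
  have hrangef : LinearMap.range f = B.map C.mkQ := by
    ext v
    constructor
    · rintro ⟨r, rfl⟩
      exact ⟨(x : R) * r, Ideal.mul_mem_right _ _ (Ideal.subset_span rfl), rfl⟩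
    · rintro ⟨b, hb, rfl⟩
      obtain ⟨r, rfl⟩ := Ideal.mem_span_singleton'.mp hb
      exact ⟨r, by show C.mkQ ((x : R) * r) = _; rw [mul_comm]⟩
  -- the map g : S → R/C
  let g : S →ₗ[k] (R ⧸ C) := C.mkQ ∘ₗ S.val.toLinearMap
  have hkerg : LinearMap.ker g = (Ideal.span {x}).restrictScalars k := by
    ext s
    rw [LinearMap.mem_ker]
    show C.mkQ (s : R) = 0 ↔ s ∈ Ideal.span {x}
    rw [Submodule.mkQ_apply, Submodule.Quotient.mk_eq_zero, Ideal.mem_span_singleton']
    constructor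
    · rintro ⟨s', hs', hss⟩
      exact ⟨⟨s', hs'⟩, Subtype.ext (by rw [← hss, mul_comm]; rfl)⟩
    · rintro ⟨a, rfl⟩
      exact ⟨(a : R), a.2, by rw [mul_comm]; rfl⟩
  have hrangeg : LinearMap.range g = A.map C.mkQ := by
    ext v
    constructor
    · rintro ⟨s, rfl⟩
      exact ⟨(s : R), s.2, rfl⟩
    · rintro ⟨a, ha, rfl⟩
      exact ⟨⟨a, ha⟩, rfl⟩
  let e1 : (R ⧸ A) ≃ₗ[k] (B.map C.mkQ : Submodule k (R ⧸ C)) :=
    (Submodule.quotEquivOfEq _ _ hkerf.symm).trans
      (f.quotKerEquivRange.trans (LinearEquiv.ofEq _ _ hrangef))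
  let e2 : (S ⧸ Ideal.span {x}) ≃ₗ[k] (A.map C.mkQ : Submodule k (R ⧸ C)) :=
    (Submodule.Quotient.restrictScalarsEquiv k (Ideal.span {x})).symm.trans
      ((Submodule.quotEquivOfEq _ _ hkerg.symm).trans
        (g.quotKerEquivRange.trans (LinearEquiv.ofEq _ _ hrangeg)))
  let e3 : ((R ⧸ C) ⧸ B.map C.mkQ) ≃ₗ[k] R ⧸ B := Submodule.quotientQuotientEquivQuotient C B hCB
  let e4 : ((R ⧸ C) ⧸ A.map C.mkQ) ≃ₗ[k] R ⧸ A := Submodule.quotientQuotientEquivQuotient C A hCA
  have hfinWB : Module.Finite k (B.map C.mkQ : Submodule k (R ⧸ C)) := Module.Finite.equiv e1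
  have hfinQB : Module.Finite k ((R ⧸ C) ⧸ B.map C.mkQ) := Module.Finite.equiv e3.symm
  have hfinV : Module.Finite k (R ⧸ C) := Module.Finite.of_submodule_quotient (B.map C.mkQ)
  have h1 := Submodule.finrank_quotient_add_finrank (B.map C.mkQ : Submodule k (R ⧸ C))
  have h2 := Submodule.finrank_quotient_add_finrank (A.map C.mkQ : Submodule k (R ⧸ C))
  rw [LinearEquiv.finrank_eq e3, ← LinearEquiv.finrank_eq e1, LinearEquiv.finrank_eq e0] at h1
  rw [LinearEquiv.finrank_eq e4, ← LinearEquiv.finrank_eq e2] at h2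
  omega

end Groth.Agent.S11049
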