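import Groth.Statements.S16598
import Mathlib

set_option autoImplicit false
universe u v
open LGRing

namespace Groth.Agent.S16598

/-- Over an LG-ring, a finite projective module with nonzero fibres at all maximal ideals has a
unimodular element. -/
theorem exists_unimodular {R : Type u} [CommRing R] (hR : LGRing.IsLGRing R)
    (M : Type v) [AddCommGroup M] [Module R M] [Module.Finite R M] [Module.Projective R M]
    (hM : ∀ (m : Ideal R) [m.IsMaximal], (m • (⊤ : Submodule R M)) ≠ ⊤) :
    ∃ (x : M) (f : Module.Dual R M), f x = 1 := by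
  classical
  obtain ⟨n, π, hπ⟩ := Module.Finite.exists_fin' R M
  obtain ⟨i, hi⟩ := Module.projective_lifting_property π LinearMap.id hπ
  have hi' : ∀ x, π (i x) = x := fun x => LinearMap.congr_fun hi x
  let e : Fin n → (Fin n → R) := fun k l => if k = l then 1 else 0
  let E : Fin n → Fin n → R := fun j k => i (π (e k)) j
  -- expansion of `i (π a)`
  have hexp : ∀ (a : Fin n → R) (j : Fin n), i (π a) j = ∑ k, a k * E j k := by
    intro a j
    have h1 : π a = ∑ k, a k • π (e k) := LinearMap.pi_apply_eq_sum_univ π a
    rw [h1, map_sum, Finset.sum_apply]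
    refine Finset.sum_congr rfl fun k _ => ?_
    rw [map_smul, Pi.smul_apply, smul_eq_mul]
  -- the polynomial
  let F : MvPolynomial (Fin (n + n)) R :=
    ∑ j, ∑ k, MvPolynomial.C (E j k) * MvPolynomial.X (Fin.castAdd n j) *
      MvPolynomial.X (Fin.natAdd n k)
  have hF : ∀ {S : Type u} [CommRing S] [Algebra R S] (s : Fin (n + n) → S),
      MvPolynomial.aeval s F =
        ∑ j, ∑ k, algebraMap R S (E j k) * s (Fin.castAdd n j) * s (Fin.natAdd n k) := by
    intro S _ _ s
    simp only [F, map_sum, map_mul, MvPolynomial.aeval_C, MvPolynomial.aeval_X]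
  have hrep : LGRing.RepresentsUnit F R := by
    apply hR
    intro m hm
    -- some entry of `E` is not in `m`
    have hex : ∃ j k, E j k ∉ m := by
      by_contra hcon
      push Not at hcon
      apply hM m
      rw [eq_top_iff]
      intro x _
      have hx : x = ∑ j, (i x) j • π (e j) := by
        conv_lhs => rw [← hi' x]
        exact LinearMap.pi_apply_eq_sum_univ π (i x)
      rw [hx]
      refine Submodule.sum_mem _ fun j _ => ?_
      refine Submodule.smul_mem_smul ?_ Submodule.mem_top
      have : i x j = ∑ k, i x k * E j k := by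
        conv_lhs => rw [← hi' x]
        exact hexp (i x) j
      rw [this]
      exact Ideal.sum_mem _ fun k _ => Ideal.mul_mem_left _ _ (hcon j k)
    obtain ⟨j₀, k₀, hjk⟩ := hex
    refine ⟨Fin.addCases (fun j => if j = j₀ then 1 else 0) (fun k => if k = k₀ then 1 else 0), ?_⟩
    rw [hF]
    simp only [Fin.addCases_left, Fin.addCases_right, mul_ite, mul_one, mul_zero,
      Finset.sum_ite_eq', Finset.mem_univ, if_true]
    obtain ⟨y, z, hz, hyz⟩ := hm.exists_inv hjk
    refine IsUnit.of_mul_eq_one (algebraMap R (R ⧸ m) y) ?_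
    rw [mul_comm, ← map_mul]
    have : y * E j₀ k₀ = 1 - z := by rw [← hyz]; ring
    rw [this, map_sub, map_one]
    have hz0 : algebraMap R (R ⧸ m) z = 0 := Ideal.Quotient.eq_zero_iff_mem.mpr hz
    rw [hz0, sub_zero]
  obtain ⟨s, hs⟩ := hrep
  rw [hF] at hs
  obtain ⟨u, hu⟩ := hs
  let a : Fin n → R := fun k => s (Fin.natAdd n k)
  let b : Fin n → R := fun j => s (Fin.castAdd n j)
  let ℓ : (Fin n → R) →ₗ[R] R :=
    { toFun := fun v => ∑ j, b j * v j
      map_add' := fun v w => by simp [mul_add, Finset.sum_add_distrib]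
      map_smul' := fun c v => by simp [Finset.mul_sum, mul_left_comm] }
  refine ⟨π a, (↑u⁻¹ : R) • (ℓ ∘ₗ i), ?_⟩
  change (↑u⁻¹ : R) * ∑ j, b j * i (π a) j = 1
  have : ∑ j, b j * i (π a) j = (u : R) := by
    rw [hu]
    refine Finset.sum_congr rfl fun j _ => ?_
    rw [hexp a j, Finset.mul_sum]
    refine Finset.sum_congr rfl fun k _ => ?_
    simp only [Algebra.algebraMap_self, RingHom.id_apply, a, b]
    ring
  rw [this]
  exact Units.inv_mul u

/-- Let R be an LG-ring and M a faithfully projective R-module (finitely generated projective and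
faithful). Then M contains a unimodular element: there are m ∈ M and a linear form f on M with f(m)
= 1 (so R·m is a free direct summand of M of rank one). -/
theorem result {R : Type u} [CommRing R] (hR : LGRing.IsLGRing R)
    (M : Type v) [AddCommGroup M] [Module R M] [Module.Finite R M] [Module.Projective R M] [FaithfulSMul R M] :
    ∃ (m : M) (f : Module.Dual R M), f m = 1 := by
  apply exists_unimodular hR M
  intro m hm htop
  obtain ⟨r, hr1, hr2⟩ := Submodule.exists_sub_one_mem_and_smul_eq_zero_of_fg_of_le_smul m
    (⊤ : Submodule R M) Module.Finite.fg_top (le_of_eq htop.symm)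
  have hr0 : r = 0 := by
    apply FaithfulSMul.eq_of_smul_eq_smul (α := M)
    intro x
    rw [hr2 x Submodule.mem_top, zero_smul]
  rw [hr0, zero_sub] at hr1
  apply hm.ne_top
  rw [Ideal.eq_top_iff_one]
  simpa using m.neg_mem hr1

end Groth.Agent.S16598
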