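import Groth.Statements.S1983
import Mathlib
import Groth.Agent.Lib.Helper10.CompDvr6
import Groth.Agent.S1984

set_option autoImplicit false
universe u
open EtAlg

namespace Groth.Agent.S1983

set_option linter.style.haveILetI false
set_option linter.unusedSectionVars false

open TensorProduct IsLocalRing IsDedekindDomain Groth.Agent.Lib.helper10
  Groth.Agent.Lib.helper10.DvrExt

section Core

variable (A B K L : Type u) [CommRing A] [IsDomain A] [IsDiscreteValuationRing A]
    [CommRing B] [IsDomain B] [IsDiscreteValuationRing B] [Algebra A B] [IsLocalHom (algebraMap A B)]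
    [Field K] [Field L] [Algebra A K] [IsFractionRing A K] [Algebra B L] [IsFractionRing B L]
    [Algebra K L] [Algebra A L] [IsScalarTower A K L] [IsScalarTower A B L]
    (K₁ : Type u) [Field K₁] [Algebra K K₁] [FiniteDimensional K K₁]
    (M : Type u) [Field M] [Algebra K M] [Algebra L M] [Algebra K₁ M] [IsScalarTower K L M]
    [IsScalarTower K K₁ M]

include K in
theorem core (hw : EtRam.IsWeaklyUnramified A B)
    [Algebra.IsGeometricallyReduced (ResidueField A) (ResidueField B)]
    (hgen : Algebra.adjoin L (Set.range (algebraMap K₁ M)) = ⊤)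
    (W : ValuationSubring M)
    (hW : EtRam.Dominates B ((algebraMap L M).comp (algebraMap B L)) W) :
    letI : Algebra (W.comap (algebraMap K₁ M)) W :=
      (EtRam.inclOfComap W (algebraMap K₁ M)).toAlgebra
    EtRam.IsWeaklyUnramified (W.comap (algebraMap K₁ M)) W ∧
      @Algebra.IsGeometricallyReduced (ResidueField (W.comap (algebraMap K₁ M))) (ResidueField W) _ _
        (IsLocalRing.ResidueField.map (EtRam.inclOfComap W (algebraMap K₁ M))).toAlgebra := by
  obtain ⟨hfd, -⟩ := Groth.Agent.S1984.finite_of_gen K L K₁ M hgen
  haveI := hfd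
  letI : Algebra A K₁ := ((algebraMap K K₁).comp (algebraMap A K)).toAlgebra
  haveI : IsScalarTower A K K₁ := IsScalarTower.of_algebraMap_eq (fun _ => rfl)
  letI : Algebra B M := ((algebraMap L M).comp (algebraMap B L)).toAlgebra
  haveI : IsScalarTower B L M := IsScalarTower.of_algebraMap_eq (fun _ => rfl)
  obtain ⟨v, hv, hv1, hv2⟩ := CompDvr.exists_discrete_valuation B L M W hW
  have hcomp : ∀ a : A, algebraMap K₁ M (algebraMap A K₁ a) =
      algebraMap B M (algebraMap A B a) := by
    intro a
    show algebraMap K₁ M (algebraMap K K₁ (algebraMap A K a)) =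
      algebraMap L M (algebraMap B L (algebraMap A B a))
    rw [← IsScalarTower.algebraMap_apply K K₁ M, ← IsScalarTower.algebraMap_apply A B L,
      IsScalarTower.algebraMap_apply A K L, ← IsScalarTower.algebraMap_apply K L M]
  have hdomA : EtRam.Dominates A (algebraMap A K₁) (W.comap (algebraMap K₁ M)) := by
    refine ⟨fun a => ?_, fun a ha => ?_⟩
    · rw [ValuationSubring.mem_comap, hcomp]
      exact hW.1 _
    · rw [TotRam.comap_val_lt_one_iff, hcomp]
      apply hW.2
      exact (IsLocalRing.mem_maximalIdeal _).mpr (fun hu' =>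
        (IsLocalRing.mem_maximalIdeal _).mp ha (isUnit_of_map_unit (algebraMap A B) a hu'))
  letI : Algebra A (W.comap (algebraMap K₁ M)) :=
    (RingHom.codRestrict (algebraMap A K₁) _ hdomA.1).toAlgebra
  haveI : IsLocalHom (algebraMap A (W.comap (algebraMap K₁ M))) :=
    CompDvr.isLocalHom_codRestrict _ _ hdomA
  haveI hintQ : Algebra.IsIntegral (ResidueField A) (ResidueField (W.comap (algebraMap K₁ M))) :=
    CompDvr.isIntegral_residue A K K₁ _ hdomA
  -- uniformizer of A and of Q
  obtain ⟨πA, hπAirr⟩ := IsDiscreteValuationRing.exists_irreducible A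
  have hinjBM : Function.Injective (algebraMap B M) :=
    (algebraMap L M).injective.comp (IsFractionRing.injective B L)
  have hinjAK₁ : Function.Injective (algebraMap A K₁) :=
    (algebraMap K K₁).injective.comp (IsFractionRing.injective A K)
  have hne : ∃ q : K₁, q ≠ 0 ∧ v (algebraMap K₁ M q) < 1 := by
    refine ⟨algebraMap A K₁ πA, fun h0 => hπAirr.ne_zero (hinjAK₁ (by rw [h0, map_zero])), ?_⟩
    rw [← hv1, ← TotRam.comap_val_lt_one_iff]
    apply hdomA.2
    rw [hπAirr.maximalIdeal_eq]; exact Ideal.mem_span_singleton_self _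
  obtain ⟨πQ, hπQ, hπQ0, hπQv⟩ := CompDvr.exists_uniformizer_comap W (algebraMap K₁ M) v hv hv1 hne
  obtain ⟨jQ, hjQ⟩ : ∃ jQ : W.comap (algebraMap K₁ M) →+* M,
      jQ = (algebraMap K₁ M).comp (W.comap (algebraMap K₁ M)).subtype := ⟨_, rfl⟩
  have hjQ' : ∀ q : W.comap (algebraMap K₁ M), jQ q = algebraMap K₁ M (q : K₁) := by
    intro q; rw [hjQ]; rfl
  have hQdom : EtRam.Dominates (W.comap (algebraMap K₁ M)) jQ W := by
    refine ⟨fun q => ?_, fun q hq => ?_⟩
    · rw [hjQ']; exact q.2
    · rw [ValuationSubring.valuation_lt_one_iff] at hq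
      rw [hjQ']
      exact (TotRam.comap_val_lt_one_iff W (algebraMap K₁ M) q).mp hq
  haveI : Algebra.IsAlgebraic (ResidueField A) (ResidueField (W.comap (algebraMap K₁ M))) :=
    Algebra.IsIntegral.isAlgebraic
  have hT : ∀ t : ResidueField B ⊗[ResidueField A] ResidueField (W.comap (algebraMap K₁ M)),
      ∃ u, t = t * t * u := by
    haveI : IsReduced (ResidueField (W.comap (algebraMap K₁ M)) ⊗[ResidueField A]
        ResidueField B) := inferInstance
    haveI : IsReduced (ResidueField B ⊗[ResidueField A]
        ResidueField (W.comap (algebraMap K₁ M))) :=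
      isReduced_of_injective (Algebra.TensorProduct.comm (ResidueField A) (ResidueField B)
        (ResidueField (W.comap (algebraMap K₁ M)))).toRingEquiv.toRingHom
        (Algebra.TensorProduct.comm (ResidueField A) (ResidueField B)
        (ResidueField (W.comap (algebraMap K₁ M)))).injective
    exact CompDvr.vnr_tensor_right (ResidueField A) (ResidueField B)
      (ResidueField (W.comap (algebraMap K₁ M)))
  have hgenR : ∀ x : M, x ∈ CompDvr.fracField (CompDvr.RR (algebraMap B M) jQ) := by
    apply CompDvr.gen_of_adjoin (L := L) (algebraMap K₁ M) _ _ _ hgen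
    · intro l
      obtain ⟨b₁, b₂, hb₂, rfl⟩ := IsFractionRing.div_surjective (A := B) l
      rw [CompDvr.mem_fracField]
      refine ⟨algebraMap B M b₁, CompDvr.jP_mem _ _ b₁, algebraMap B M b₂, CompDvr.jP_mem _ _ b₂,
        ?_, ?_⟩
      · exact fun h0 => nonZeroDivisors.ne_zero hb₂ (hinjBM (by rw [h0, map_zero]))
      · rw [IsScalarTower.algebraMap_apply B L M b₂, IsScalarTower.algebraMap_apply B L M b₁,
          ← map_mul, div_mul_cancel₀]
        exact fun h0 => nonZeroDivisors.ne_zero hb₂
          (IsFractionRing.injective B L (by rw [h0, map_zero]))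
    · intro y
      rcases (W.comap (algebraMap K₁ M)).mem_or_inv_mem y with hy | hy
      · apply CompDvr.subring_le_fracField
        have := CompDvr.jQ_mem (algebraMap B M) jQ ⟨y, hy⟩
        rwa [hjQ'] at this
      · have h3 := CompDvr.jQ_mem (algebraMap B M) jQ ⟨y⁻¹, hy⟩
        rw [hjQ'] at h3
        have h4 := (CompDvr.fracField (CompDvr.RR (algebraMap B M) jQ)).inv_mem
          (CompDvr.subring_le_fracField _ h3)
        simpa using h4
  have hπ0 : jQ πQ ≠ 0 := by
    rw [hjQ']; exact (map_ne_zero _).mpr hπQ0
  have hcompat : ∀ a : A, algebraMap B M (algebraMap A B a) =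
      jQ (algebraMap A (W.comap (algebraMap K₁ M)) a) := by
    intro a
    rw [hjQ']
    exact (hcomp a).symm
  obtain ⟨h1, h2⟩ := CompDvr.apply (algebraMap B M) jQ W v hv hv1 hW hQdom hcompat hw πQ hπQ
    hπ0 hT hgenR
  letI : Algebra (W.comap (algebraMap K₁ M)) W :=
    (EtRam.inclOfComap W (algebraMap K₁ M)).toAlgebra
  constructor
  · -- weakly unramified
    unfold EtRam.IsWeaklyUnramified
    apply le_antisymm
    · exact IsLocalRing.map_maximalIdeal_le (EtRam.inclOfComap W (algebraMap K₁ M))
    · intro z hz
      rw [ValuationSubring.valuation_lt_one_iff] at hz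
      obtain ⟨y, hy, hzy⟩ := h1 _ hz
      have hz' : z = (⟨y, hy⟩ : W) * algebraMap (W.comap (algebraMap K₁ M)) W πQ := by
        apply Subtype.ext
        rw [hzy, hjQ']; rfl
      rw [hz']
      apply Ideal.mul_mem_left
      apply Ideal.mem_map_of_mem
      rw [hπQ]; exact Ideal.mem_span_singleton_self _
  · letI algQW : Algebra (ResidueField (W.comap (algebraMap K₁ M))) (ResidueField W) :=
      (IsLocalRing.ResidueField.map (EtRam.inclOfComap W (algebraMap K₁ M))).toAlgebra
    letI : Algebra B W := (RingHom.codRestrict (algebraMap B M) W hW.1).toAlgebra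
    haveI : IsLocalHom (algebraMap B W) := CompDvr.isLocalHom_codRestrict _ _ hW
    letI : Algebra A W := ((algebraMap B W).comp (algebraMap A B)).toAlgebra
    haveI : IsScalarTower A B W := IsScalarTower.of_algebraMap_eq (fun _ => rfl)
    haveI : IsLocalHom (algebraMap A W) := by
      show IsLocalHom ((algebraMap B W).comp (algebraMap A B))
      exact RingHom.isLocalHom_comp _ _
    haveI : IsScalarTower (ResidueField A) (ResidueField (W.comap (algebraMap K₁ M)))
        (ResidueField W) := by
      refine IsScalarTower.of_algebraMap_eq (fun abar => ?_)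
      obtain ⟨a, rfl⟩ := residue_surjective abar
      show residue W (algebraMap A W a) =
        IsLocalRing.ResidueField.map (EtRam.inclOfComap W (algebraMap K₁ M))
          (residue _ (algebraMap A (W.comap (algebraMap K₁ M)) a))
      rw [IsLocalRing.ResidueField.map_residue]
      congr 1
      exact Subtype.ext (hcomp a).symm
    apply CompDvr.geomReduced_compositum (ResidueField A) (ResidueField B)
      (ResidueField (W.comap (algebraMap K₁ M))) (ResidueField W)
    intro y
    have hy := CompDvr.residue_mem_closure (algebraMap B M) jQ W hW.1 hQdom.1 h2 y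
    refine Subring.closure_mono ?_ hy
    rintro _ (⟨p, rfl⟩ | ⟨q, rfl⟩)
    · left
      exact ⟨residue B p, rfl⟩
    · right
      refine ⟨residue _ q, ?_⟩
      show IsLocalRing.ResidueField.map (EtRam.inclOfComap W (algebraMap K₁ M)) (residue _ q) = _
      rw [IsLocalRing.ResidueField.map_residue]
      congr 1
      apply Subtype.ext
      show algebraMap K₁ M (q : K₁) = jQ q
      rw [hjQ']

end Core

section Main

variable (A B K L : Type u) [CommRing A] [IsDomain A] [IsDiscreteValuationRing A]
    [CommRing B] [IsDomain B] [IsDiscreteValuationRing B] [Algebra A B] [IsLocalHom (algebraMap A B)]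
    [Field K] [Field L] [Algebra A K] [IsFractionRing A K] [Algebra B L] [IsFractionRing B L]
    [Algebra K L] [Algebra A L] [IsScalarTower A K L] [IsScalarTower A B L]

theorem main (hw : EtRam.IsWeaklyUnramified A B)
    [Algebra.IsGeometricallyReduced (ResidueField A) (ResidueField B)]
    (K₁ : Type u) [Field K₁] [Algebra K K₁] [FiniteDimensional K K₁] :
    EtRam.IsSolution B K L K₁ := by
  intro M _ _ _ _ _ _ hgen W hW
  exact core A B K L K₁ M hw hgen W hW

end Main



/-- Suppose A -> B makes the discrete valuation ring B an extension of the discrete valuation ring A,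
with fraction fields K ⊂ L, and that this extension is weakly unramified with separable, i.e.
geometrically reduced and possibly transcendental, residue field extension (formally smooth for the
adic topology). Then every finite extension K₁/K is a solution for A -> B. -/
theorem result (A B K L : Type u) [CommRing A] [IsDomain A] [IsDiscreteValuationRing A]
    [CommRing B] [IsDomain B] [IsDiscreteValuationRing B] [Algebra A B] [IsLocalHom (algebraMap A B)]
    (hinj : Function.Injective (algebraMap A B))
    [Field K] [Field L] [Algebra A K] [IsFractionRing A K] [Algebra B L] [IsFractionRing B L]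
    [Algebra K L] [Algebra A L] [IsScalarTower A K L] [IsScalarTower A B L]
    (hw : EtRam.IsWeaklyUnramified A B) [Algebra.IsGeometricallyReduced (IsLocalRing.ResidueField A) (IsLocalRing.ResidueField B)]
    (K₁ : Type u) [Field K₁] [Algebra K K₁] [FiniteDimensional K K₁] : EtRam.IsSolution B K L K₁ := by
  exact main A B K L hw K₁

end Groth.Agent.S1983
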