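import Groth.Statements.S11253
import Mathlib
import Groth.Agent.Lib.Helper10.SMT10

set_option autoImplicit false
universe u
open W4bk4grassmannian

namespace Groth.Agent.S11253

set_option linter.style.haveILetI false
open MvPolynomial Groth.Agent.Lib.helper10.SMT

theorem schubertVanishing_isRadical (K : Type u) [Field K] (d n : ℕ) (τ : Idx d n) :
    (schubertVanishing K d n τ).IsRadical := by
  intro x hx
  obtain ⟨k, hk⟩ := hx
  unfold schubertVanishing at hk ⊢
  rw [Ideal.mem_iInf] at hk ⊢
  intro A
  have h1 := hk A
  rw [Ideal.mem_iInf] at h1 ⊢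
  intro hA
  have h2 := h1 hA
  rw [RingHom.mem_ker] at h2 ⊢
  rw [map_pow] at h2
  exact pow_eq_zero_iff (n := k) (by
    rintro rfl
    rw [pow_zero] at h2
    exact one_ne_zero h2) |>.1 h2

theorem sup_eq (K : Type u) [Field K] [Infinite K] (d n : ℕ) (hd : 0 < d) (w₁ w₂ : Idx d n) :
    schubertVanishing K d n w₁ ⊔ schubertVanishing K d n w₂ =
      schubertVanishing K d n (W4bk4grassmannian.inf w₁ w₂) := by
  apply le_antisymm
  · apply sup_le
    · exact schubertVanishing_mono K (fun t => min_le_left _ _)
    · exact schubertVanishing_mono K (fun t => min_le_right _ _)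
  · rw [← plIdeal_eq_schubertVanishing K hd (W4bk4grassmannian.inf w₁ w₂), plIdeal_eq_sup]
    apply sup_le
    · exact le_trans (plIdealTop_le_schubertVanishing K w₁) le_sup_left
    · rw [Ideal.span_le]
      rintro f ⟨φ, hφ, rfl⟩
      by_cases h1 : φ ≤ w₁
      · by_cases h2 : φ ≤ w₂
        · exact absurd (fun t => le_min (h1 t) (h2 t)) hφ
        · exact Ideal.mem_sup_right (X_mem_schubertVanishing K w₂ φ h2)
      · exact Ideal.mem_sup_left (X_mem_schubertVanishing K w₁ φ h1)

theorem main (K : Type u) [Field K] [IsAlgClosed K] (d n : ℕ)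
    (hd : 0 < d) (hdn : d < n) (w₁ w₂ : Idx d n) :
    (schubertVanishing K d n w₁ ⊔ schubertVanishing K d n w₂).IsRadical := by
  haveI : Infinite K := inferInstance
  rw [sup_eq K d n hd]
  exact schubertVanishing_isRadical K d n _



open W4bk4grassmannian in
/-- Intersections of Schubert varieties are reduced: let K be an algebraically closed field, 0 < d < n,
and I(d,n) the strictly increasing maps Fin d → Fin n ordered entrywise; S = K[X_θ : θ ∈ I(d,n)] is
the Plücker polynomial ring and, for τ ∈ I(d,n), J(τ) ⊆ S is the ideal of polynomials vanishing at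
the d × d row-minors of every n × d matrix over K whose minors on rows φ ≰ τ are zero (the
homogeneous ideal of the Schubert variety X(τ) ⊆ G(d,n)). Then for all w₁, w₂ ∈ I(d,n) the ideal
J(w₁) + J(w₂) of S is radical. -/
theorem result (K : Type u) [Field K] [IsAlgClosed K] (d n : ℕ)
    (hd : 0 < d) (hdn : d < n) (w₁ w₂ : Idx d n) :
    (schubertVanishing K d n w₁ ⊔ schubertVanishing K d n w₂).IsRadical := by
  exact main K d n hd hdn w₁ w₂

end Groth.Agent.S11253
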