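import Groth.Statements.S12597
import Mathlib
import Groth.Agent.Lib.Helper19.Jumps

set_option autoImplicit false
open FunFld

namespace Groth.Agent.S12597

open FunFld Groth.Agent.Lib.helper19.Jumps

section
variable {k K : Type*} [Field k] [Field K] [Algebra k K] {n : ℕ}
  (φ : Fin (n + 1) → K) (τ : K →ₐ[k] K) (s : K) (H : K →ₐ[k] PowerSeries K)
  (hH : LocRes.IsHasseFamily s H) (y : K)

theorem hcol_smul_zero : hcol τ H (y • φ) 0 = τ y • hcol τ H φ 0 := by
  funext i
  show τ (y * φ i) = τ y * τ (φ i)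
  rw [map_mul]

theorem hcol_smul_succ (j : ℕ) : hcol τ H (y • φ) (j + 1) =
    ∑ ab ∈ Finset.HasAntidiagonal.antidiagonal j, LocRes.hasseD H ab.1 y • hcol τ H φ (ab.2 + 1) := by
  funext i
  show PowerSeries.coeff j (H (y * φ i)) = _
  rw [map_mul, PowerSeries.coeff_mul, Finset.sum_apply]
  rfl

include hH in
theorem triangular (j : ℕ) :
    hcol τ H (y • φ) j - (Nat.casesOn (motive := fun _ => K) j (τ y) (fun _ => y)) • hcol τ H φ j ∈
      Submodule.span K (hcol τ H φ '' Set.Iio j) := by
  cases j with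
  | zero =>
    rw [hcol_smul_zero]
    simp
  | succ j =>
    rw [hcol_smul_succ]
    have hmem : ((0 : ℕ), j) ∈ Finset.HasAntidiagonal.antidiagonal j := by simp
    rw [← Finset.add_sum_erase _ _ hmem]
    have h0 : LocRes.hasseD H 0 y = y := by
      rw [LocRes.hasseD_apply, PowerSeries.coeff_zero_eq_constantCoeff_apply, hH.2]
    simp only [h0]
    rw [add_sub_cancel_left]
    refine Submodule.sum_mem _ fun ab hab => ?_
    refine Submodule.smul_mem _ _ (Submodule.subset_span ⟨ab.2 + 1, ?_, rfl⟩)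
    rw [Finset.mem_erase, Finset.HasAntidiagonal.mem_antidiagonal] at hab
    simp only [Set.mem_Iio]
    have : ab.1 ≠ 0 := by
      intro h
      apply hab.1
      ext
      · exact h
      · simp only; omega
    omega

end

open FunFld Groth.Agent.Lib.helper19.Jumps

theorem main {k K : Type*} [Field k] [Field K] [Algebra k K] {n : ℕ}
    (φ : Fin (n + 1) → K) (τ : K →ₐ[k] K) (s : K) (H : K →ₐ[k] PowerSeries K)
    (hH : LocRes.IsHasseFamily s H) (y : K) (hy : y ≠ 0) :
    (∀ J : Fin n → ℕ, IsOrders K (hcol τ H (y • φ)) J ↔ IsOrders K (hcol τ H φ) J) ∧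
    ∀ J : Fin n → ℕ, IsOrders K (hcol τ H φ) J →
      (wrMat τ H (y • φ) J).det = τ y * y ^ n * (wrMat τ H φ J).det := by
  set c := hcol τ H φ with hc
  set c' := hcol τ H (y • φ) with hc'
  let u : ℕ → K := fun j => Nat.casesOn (motive := fun _ => K) j (τ y) (fun _ => y)
  have hu : ∀ j, u j ≠ 0 := by
    intro j
    cases j with
    | zero => exact (map_ne_zero_iff τ τ.toRingHom.injective).mpr hy
    | succ j => exact hy
  have htri : ∀ j, c' j - u j • c j ∈ Submodule.span K (c '' Set.Iio j) :=
    fun j => triangular φ τ s H hH y j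
  refine ⟨fun J => isOrders_iff_of_triangular c c' u hu htri J, fun J hJ => ?_⟩
  let uu : Fin (n + 1) → K := Fin.cases (τ y) (fun _ => y)
  have hdet := det_of_triangular_cols (wrMat τ H φ J) (wrMat τ H (y • φ) J) uu ?_
  · rw [hdet, Fin.prod_univ_succ]
    simp only [uu, Fin.cases_zero, Fin.cases_succ, Finset.prod_const, Finset.card_univ,
      Fintype.card_fin]
  · intro l
    refine Fin.cases ?_ (fun a => ?_) l
    · -- column 0
      have h1 : (wrMat τ H (y • φ) J).col 0 = c' 0 := rfl
      have h2 : (wrMat τ H φ J).col 0 = c 0 := rfl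
      rw [h1, h2]
      have := htri 0
      have he : c '' Set.Iio 0 = ∅ := by ext x; simp
      rw [he, Submodule.span_empty, Submodule.mem_bot] at this
      show c' 0 - τ y • c 0 ∈ _
      rw [show c' 0 - τ y • c 0 = 0 from this]
      exact Submodule.zero_mem _
    · have h1 : (wrMat τ H (y • φ) J).col a.succ = c' (J a + 1) := rfl
      have h2 : (wrMat τ H φ J).col a.succ = c (J a + 1) := rfl
      rw [h1, h2]
      have := htri (J a + 1)
      rw [span_jumps] at this
      refine Submodule.span_mono ?_ this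
      rintro _ ⟨j, ⟨hj, hjump⟩, rfl⟩
      cases j with
      | zero => exact ⟨0, Fin.succ_pos a, rfl⟩
      | succ i =>
        obtain ⟨b, rfl⟩ := (hJ.2 i).mpr hjump
        have hba : b < a := by
          rw [← hJ.1.lt_iff_lt]; omega
        exact ⟨b.succ, Fin.succ_lt_succ_iff.mpr hba, rfl⟩



/-- Over an algebraically closed constant field, multiplying a projective map `φ = (φ₀, …, φₙ)` by a
nonzero function `y` does not change its `τ`-order sequence `J`, and multiplies the Wronskian `det
[τ(φ) | D^(j₁) φ | ⋯ | D^(jₙ) φ]` taken at that sequence by `τ(y) yⁿ`. -/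
theorem result
    (k K : Type*) [Field k] [IsAlgClosed k] [Field K] [Algebra k K]
    (hK : FunFld.IsFunctionField k K) {n : ℕ} (φ : Fin (n + 1) → K) (hφ : LinearIndependent k φ)
    (τ : K →ₐ[k] K) (s : K) (H : K →ₐ[k] PowerSeries K) (hH : LocRes.IsHasseFamily s H) (y : K) (hy : y ≠ 0) :
    (∀ J : Fin n → ℕ, FunFld.IsOrders K (FunFld.hcol τ H (y • φ)) J ↔ FunFld.IsOrders K (FunFld.hcol τ H φ) J) ∧
    ∀ J : Fin n → ℕ, FunFld.IsOrders K (FunFld.hcol τ H φ) J →
      (FunFld.wrMat τ H (y • φ) J).det = τ y * y ^ n * (FunFld.wrMat τ H φ J).det := by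
  exact main φ τ s H hH y hy

end Groth.Agent.S12597
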