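import Groth.Statements.S12598
import Mathlib
import Groth.Agent.Lib.Helper10.HasseExp14
import Groth.Agent.Lib.Helper19.Jumps

set_option autoImplicit false
open FunFld

namespace Groth.Agent.S12598

set_option linter.style.haveILetI false
set_option linter.unusedSectionVars false
set_option linter.unusedVariables false

open Groth.Agent.Lib.helper10 Groth.Agent.Lib.helper10.HasseExp Groth.Agent.Lib.helper19.Jumps

theorem main
    (k K : Type*) [Field k] [IsAlgClosed k] [Field K] [Algebra k K]
    (hK : FunFld.IsFunctionField k K) {n : ℕ} (φ : Fin (n + 1) → K) (hφ : LinearIndependent k φ)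
    (τ : K →ₐ[k] K) (s : K) (Hs : K →ₐ[k] PowerSeries K) (hHs : LocRes.IsHasseFamily s Hs)
    (t : K) (Ht : K →ₐ[k] PowerSeries K) (hHt : LocRes.IsHasseFamily t Ht) :
    (∀ J : Fin n → ℕ, FunFld.IsOrders K (FunFld.hcol τ Ht φ) J ↔ FunFld.IsOrders K (FunFld.hcol τ Hs φ) J) ∧
    ∀ J : Fin n → ℕ, FunFld.IsOrders K (FunFld.hcol τ Hs φ) J →
      (FunFld.wrMat τ Ht φ J).det =
        LocRes.hasseD Ht 1 s ^ (∑ l, J l) * (FunFld.wrMat τ Hs φ J).det := by
  set c := hcol τ Hs φ with hc
  set c' := hcol τ Ht φ with hc'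
  set a := LocRes.hasseD Ht 1 s with ha
  have ha0 : a ≠ 0 := hasseD_one_ne_zero hK hHs hHt
  let u : ℕ → K := fun j => Nat.casesOn (motive := fun _ => K) j 1 (fun e => a ^ e)
  have hu : ∀ j, u j ≠ 0 := by
    intro j
    cases j with
    | zero => exact one_ne_zero
    | succ j => exact pow_ne_zero _ ha0
  have htri : ∀ j, c' j - u j • c j ∈ Submodule.span K (c '' Set.Iio j) :=
    fun j => hcol_change_triangular hK hHs hHt τ φ j
  refine ⟨fun J => isOrders_iff_of_triangular c c' u hu htri J, fun J hJ => ?_⟩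
  let uu : Fin (n + 1) → K := Fin.cases 1 (fun l => a ^ (J l))
  have hdet := det_of_triangular_cols (wrMat τ Hs φ J) (wrMat τ Ht φ J) uu ?_
  · rw [hdet, Fin.prod_univ_succ]
    simp only [uu, Fin.cases_zero, Fin.cases_succ, one_mul]
    rw [Finset.prod_pow_eq_pow_sum]
  · intro l
    refine Fin.cases ?_ (fun b => ?_) l
    · have h1 : (wrMat τ Ht φ J).col 0 = c' 0 := rfl
      have h2 : (wrMat τ Hs φ J).col 0 = c 0 := rfl
      rw [h1, h2]
      have := htri 0
      have he : c '' Set.Iio 0 = ∅ := by ext x; simp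
      rw [he, Submodule.span_empty, Submodule.mem_bot] at this
      change c' 0 - (1 : K) • c 0 ∈ _
      rw [show c' 0 - (1 : K) • c 0 = 0 from this]
      exact Submodule.zero_mem _
    · have h1 : (wrMat τ Ht φ J).col b.succ = c' (J b + 1) := rfl
      have h2 : (wrMat τ Hs φ J).col b.succ = c (J b + 1) := rfl
      rw [h1, h2]
      have := htri (J b + 1)
      rw [span_jumps] at this
      refine Submodule.span_mono ?_ this
      rintro _ ⟨j, ⟨hj, hjump⟩, rfl⟩
      cases j with
      | zero => exact ⟨0, Fin.succ_pos b, rfl⟩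
      | succ i =>
        obtain ⟨b', rfl⟩ := (hJ.2 i).mpr hjump
        have hba : b' < b := by
          rw [← hJ.1.lt_iff_lt]; omega
        exact ⟨b'.succ, Fin.succ_lt_succ_iff.mpr hba, rfl⟩



/-- Over an algebraically closed constant field, the `τ`-order sequence `J = (j₁, …, jₙ)` of a
projective map `φ` does not depend on the separating variable used for the Hasse derivatives, and
the Wronskians with respect to `t` and to `s` differ by the factor `(ds/dt)^(j₁ + ⋯ + jₙ)`, where
`ds/dt` is the first Hasse derivative of `s` with respect to `t`. -/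
theorem result
    (k K : Type*) [Field k] [IsAlgClosed k] [Field K] [Algebra k K]
    (hK : FunFld.IsFunctionField k K) {n : ℕ} (φ : Fin (n + 1) → K) (hφ : LinearIndependent k φ)
    (τ : K →ₐ[k] K) (s : K) (Hs : K →ₐ[k] PowerSeries K) (hHs : LocRes.IsHasseFamily s Hs)
    (t : K) (Ht : K →ₐ[k] PowerSeries K) (hHt : LocRes.IsHasseFamily t Ht) :
    (∀ J : Fin n → ℕ, FunFld.IsOrders K (FunFld.hcol τ Ht φ) J ↔ FunFld.IsOrders K (FunFld.hcol τ Hs φ) J) ∧
    ∀ J : Fin n → ℕ, FunFld.IsOrders K (FunFld.hcol τ Hs φ) J →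
      (FunFld.wrMat τ Ht φ J).det =
        LocRes.hasseD Ht 1 s ^ (∑ l, J l) * (FunFld.wrMat τ Hs φ J).det := by
  exact main k K hK φ hφ τ s Hs hHs t Ht hHt

end Groth.Agent.S12598
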