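import Groth.Statements.S12601
import Mathlib

set_option autoImplicit false
open FunFld

namespace Groth.Agent.S12601

open FunFld

section
variable {K M : Type*} [Field K] [AddCommGroup M] [Module K M]

theorem span_jumps (c : ℕ → M) (m : ℕ) :
    Submodule.span K (c '' Set.Iio m) = Submodule.span K (c '' {j | j < m ∧ IsJump K c j}) := by
  induction m with
  | zero =>
    congr 1
    ext x; simp
  | succ m ih =>
    have h1 : Set.Iio (m + 1) = insert m (Set.Iio m) := by
      ext j; simp only [Set.mem_Iio, Set.mem_insert_iff]; omega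
    rw [h1, Set.image_insert_eq, Submodule.span_insert, ih]
    by_cases hm : IsJump K c m
    · have h2 : {j | j < m + 1 ∧ IsJump K c j} = insert m {j | j < m ∧ IsJump K c j} := by
        ext j
        simp only [Set.mem_ofPred_eq, Set.mem_insert_iff]
        constructor
        · rintro ⟨hj, hj'⟩
          rcases Nat.lt_succ_iff_lt_or_eq.mp hj with h | h
          · exact Or.inr ⟨h, hj'⟩
          · exact Or.inl h
        · rintro (rfl | ⟨hj, hj'⟩)
          · exact ⟨Nat.lt_succ_self _, hm⟩
          · exact ⟨Nat.lt_succ_of_lt hj, hj'⟩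
      rw [h2, Set.image_insert_eq, Submodule.span_insert]
    · have h2 : {j | j < m + 1 ∧ IsJump K c j} = {j | j < m ∧ IsJump K c j} := by
        ext j
        simp only [Set.mem_ofPred_eq]
        constructor
        · rintro ⟨hj, hj'⟩
          rcases Nat.lt_succ_iff_lt_or_eq.mp hj with h | h
          · exact ⟨h, hj'⟩
          · exact absurd (h ▸ hj') hm
        · rintro ⟨hj, hj'⟩
          exact ⟨Nat.lt_succ_of_lt hj, hj'⟩
      rw [h2]
      have h3 : c m ∈ Submodule.span K (c '' {j | j < m ∧ IsJump K c j}) := by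
        rw [← ih]
        unfold IsJump at hm
        exact not_not.mp hm
      rw [sup_eq_right, Submodule.span_singleton_le_iff_mem]
      exact h3

end

open FunFld

section
variable {K M : Type*} [Field K] [AddCommGroup M] [Module K M] [FiniteDimensional K M]

/-- the column index function -/
def gidx {n : ℕ} (J' : Fin n → ℕ) : Fin (n + 1) → ℕ := Fin.cases 0 (fun a => J' a + 1)

theorem orders_le (c : ℕ → M) {n : ℕ} (J : Fin n → ℕ) (hJ : IsOrders K c J)
    (J' : Fin n → ℕ) (hJ' : StrictMono J')
    (hli : LinearIndependent K (fun col : Fin (n + 1) => c (gidx J' col))) :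
    ∀ l, J l ≤ J' l := by
  classical
  intro l
  by_contra hlt
  push Not at hlt
  -- S = span of columns with index < J' l + 2
  set m := J' l + 2 with hm
  set S := Submodule.span K (c '' Set.Iio m) with hS
  -- lower bound
  have hle : l.val + 2 ≤ n + 1 := by have := l.2; omega
  let v : Fin (l.val + 2) → M := fun i => c (gidx J' (Fin.castLE hle i))
  have hv : LinearIndependent K v := hli.comp (Fin.castLE hle) (Fin.castLE_injective hle)
  have hvS : Submodule.span K (Set.range v) ≤ S := by
    rw [Submodule.span_le]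
    rintro _ ⟨i, rfl⟩
    apply Submodule.subset_span
    refine ⟨gidx J' (Fin.castLE hle i), ?_, rfl⟩
    simp only [Set.mem_Iio]
    -- gidx < m
    obtain ⟨i, hi⟩ := i
    cases i with
    | zero => simp [gidx, hm]
    | succ a =>
      have ha : a < n := by omega
      have e : Fin.castLE hle ⟨a + 1, hi⟩ = (⟨a, ha⟩ : Fin n).succ := by
        ext; simp
      rw [e]
      show J' ⟨a, ha⟩ + 1 < m
      have : J' ⟨a, ha⟩ ≤ J' l := hJ'.monotone (by
        show (⟨a, ha⟩ : Fin n) ≤ l
        rw [Fin.le_def]; simp only; omega)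
      omega
  have h1 : l.val + 2 ≤ Module.finrank K S := by
    have := Submodule.finrank_mono hvS
    rw [finrank_span_eq_card hv, Fintype.card_fin] at this
    exact this
  -- upper bound
  let Tf : Finset ℕ := insert 0 ((Finset.range l.val).image
    (fun a => if h : a < n then J ⟨a, h⟩ + 1 else 0))
  have hT : {j | j < m ∧ IsJump K c j} ⊆ (Tf : Set ℕ) := by
    rintro j ⟨hjm, hj⟩
    simp only [Tf, Finset.coe_insert, Finset.coe_image, Finset.coe_range, Set.mem_insert_iff,
      Set.mem_image, Set.mem_Iio]
    cases j with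
    | zero => exact Or.inl rfl
    | succ i =>
      right
      obtain ⟨a, rfl⟩ := (hJ.2 i).mpr hj
      have hal : a < l := by
        rw [← hJ.1.lt_iff_lt]
        omega
      exact ⟨a.val, hal, by simp [a.2]⟩
  have h2 : Module.finrank K S ≤ l.val + 1 := by
    rw [hS, span_jumps]
    calc Module.finrank K (Submodule.span K (c '' {j | j < m ∧ IsJump K c j}))
        ≤ Module.finrank K (Submodule.span K ((Tf.image c : Finset M) : Set M)) := by
          apply Submodule.finrank_mono
          apply Submodule.span_mono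
          rw [Finset.coe_image]
          exact Set.image_mono hT
      _ ≤ (Tf.image c).card := finrank_span_finset_le_card _
      _ ≤ Tf.card := Finset.card_image_le
      _ ≤ ((Finset.range l.val).image
            (fun a => if h : a < n then J ⟨a, h⟩ + 1 else 0)).card + 1 := Finset.card_insert_le _ _
      _ ≤ (Finset.range l.val).card + 1 := by
          apply Nat.add_le_add_right Finset.card_image_le
      _ = l.val + 1 := by rw [Finset.card_range]
  omega

end

open FunFld

theorem main {k K : Type*} [Field k] [Field K] [Algebra k K] {n : ℕ}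
    (φ : Fin (n + 1) → K) (τ : K →ₐ[k] K) (H : K →ₐ[k] PowerSeries K)
    (J : Fin n → ℕ) (hJ : IsOrders K (hcol τ H φ) J)
    (J' : Fin n → ℕ) (hJ' : StrictMono J') (hdet : (wrMat τ H φ J').det ≠ 0) :
    ∀ l, J l ≤ J' l := by
  apply orders_le (hcol τ H φ) J hJ J' hJ'
  have hcol_eq : (fun col : Fin (n + 1) => hcol τ H φ (gidx J' col)) = (wrMat τ H φ J').col := by
    funext col i
    refine Fin.cases ?_ (fun a => ?_) col <;> rfl
  rw [hcol_eq, Matrix.linearIndependent_cols_iff_isUnit, Matrix.isUnit_iff_isUnit_det]
  exact IsUnit.mk0 _ hdet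



/-- Over an algebraically closed constant field, if `j'₁ < ⋯ < j'ₙ` is a strictly increasing sequence
with `det [τ(φ) | D^(j'₁) φ | ⋯ | D^(j'ₙ) φ] ≠ 0`, then the `τ`-orders `j₁ < ⋯ < jₙ` of `φ` satisfy
`jₗ ≤ j'ₗ` for all `l`. -/
theorem result
    (k K : Type*) [Field k] [IsAlgClosed k] [Field K] [Algebra k K]
    (hK : FunFld.IsFunctionField k K) {n : ℕ} (φ : Fin (n + 1) → K) (hφ : LinearIndependent k φ)
    (τ : K →ₐ[k] K) (s : K) (H : K →ₐ[k] PowerSeries K) (hH : LocRes.IsHasseFamily s H)
    (J : Fin n → ℕ) (hJ : FunFld.IsOrders K (FunFld.hcol τ H φ) J)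
    (J' : Fin n → ℕ) (hJ' : StrictMono J') (hdet : (FunFld.wrMat τ H φ J').det ≠ 0) :
    ∀ l, J l ≤ J' l := by
  exact main φ τ H J hJ J' hJ' hdet

end Groth.Agent.S12601
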