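import Groth.Statements.S12596
import Mathlib

set_option autoImplicit false
open FunFld

namespace Groth.Agent.S12596


open FunFld

theorem isJump_comp_equiv {R M M' : Type*} [Semiring R] [AddCommMonoid M] [Module R M]
    [AddCommMonoid M'] [Module R M'] (T : M ≃ₗ[R] M') (c : ℕ → M) (j : ℕ) :
    IsJump R (fun m => T (c m)) j ↔ IsJump R c j := by
  unfold IsJump
  have h1 : (fun m => T (c m)) '' Set.Iio j = (T : M →ₗ[R] M') '' (c '' Set.Iio j) := by
    rw [Set.image_image]; rfl
  rw [h1, Submodule.span_image, not_iff_not]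
  constructor
  · rintro ⟨x, hx, hxe⟩
    have : x = c j := T.injective hxe
    rwa [← this]
  · intro h
    exact ⟨c j, h, rfl⟩

section
variable {k K : Type*} [Field k] [Field K] [Algebra k K] {n : ℕ}
  (φ φ' : Fin (n + 1) → K) (A : Matrix (Fin (n + 1)) (Fin (n + 1)) k)
  (hφ' : ∀ i, φ' i = ∑ j, A i j • φ j)

include hφ' in
theorem lin_apply (L : K →ₗ[k] K) (i : Fin (n + 1)) :
    L (φ' i) = ∑ j, (A.map (algebraMap k K)) i j * L (φ j) := by
  rw [hφ' i, map_sum]
  refine Finset.sum_congr rfl fun j _ => ?_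
  rw [map_smul, Algebra.smul_def]
  rfl

/-- the k-linear map `hasseD H m` -/
noncomputable def hD (H : K →ₐ[k] PowerSeries K) (m : ℕ) : K →ₗ[k] K :=
  ((PowerSeries.coeff m : PowerSeries K →ₗ[K] K).restrictScalars k).comp H.toLinearMap

theorem hD_apply (H : K →ₐ[k] PowerSeries K) (m : ℕ) (y : K) : hD H m y = LocRes.hasseD H m y := rfl

include hφ' in
theorem hcol_eq (τ : K →ₐ[k] K) (H : K →ₐ[k] PowerSeries K) (m : ℕ) :
    hcol τ H φ' m = (A.map (algebraMap k K)).mulVec (hcol τ H φ m) := by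
  funext i
  cases m with
  | zero =>
    show τ (φ' i) = _
    have := lin_apply φ φ' A hφ' τ.toLinearMap i
    simpa [Matrix.mulVec, dotProduct, hcol] using this
  | succ m =>
    show LocRes.hasseD H m (φ' i) = _
    have := lin_apply φ φ' A hφ' (hD H m) i
    simpa [Matrix.mulVec, dotProduct, hcol, hD_apply] using this

include hφ' in
theorem wrMat_eq (τ : K →ₐ[k] K) (H : K →ₐ[k] PowerSeries K) (I : Fin n → ℕ) :
    wrMat τ H φ' I = (A.map (algebraMap k K)) * wrMat τ H φ I := by
  ext i c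
  rw [Matrix.mul_apply]
  refine Fin.cases ?_ (fun l => ?_) c
  · show τ (φ' i) = _
    have := lin_apply φ φ' A hφ' τ.toLinearMap i
    simpa [wrMat] using this
  · show LocRes.hasseD H (I l) (φ' i) = _
    have := lin_apply φ φ' A hφ' (hD H (I l)) i
    simpa [wrMat, hD_apply] using this

end

open FunFld

theorem main {k K : Type*} [Field k] [Field K] [Algebra k K] {n : ℕ}
    (φ : Fin (n + 1) → K) (τ : K →ₐ[k] K) (H : K →ₐ[k] PowerSeries K)
    (A : Matrix (Fin (n + 1)) (Fin (n + 1)) k) (hA : A.det ≠ 0)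
    (φ' : Fin (n + 1) → K) (hφ' : ∀ i, φ' i = ∑ j, A i j • φ j) :
    (∀ J : Fin n → ℕ, IsOrders K (hcol τ H φ') J ↔ IsOrders K (hcol τ H φ) J) ∧
    ∀ I : Fin n → ℕ, (wrMat τ H φ' I).det = algebraMap k K A.det * (wrMat τ H φ I).det := by
  have hdet : (A.map (algebraMap k K)).det = algebraMap k K A.det := by
    rw [← RingHom.mapMatrix_apply, ← RingHom.map_det]
  have hunit : IsUnit (A.map (algebraMap k K)).det := by
    rw [hdet]; exact (IsUnit.mk0 _ hA).map _
  let hinv : Invertible (A.map (algebraMap k K)) :=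
    ((Matrix.isUnit_iff_isUnit_det _).mpr hunit).invertible
  let T : (Fin (n + 1) → K) ≃ₗ[K] (Fin (n + 1) → K) :=
    Matrix.toLinearEquiv' (A.map (algebraMap k K)) hinv
  have hc : hcol τ H φ' = fun m => T (hcol τ H φ m) := by
    funext m
    rw [hcol_eq φ φ' A hφ' τ H m]
    rfl
  constructor
  · intro J
    unfold IsOrders
    rw [hc]
    simp only [isJump_comp_equiv T]
  · intro I
    rw [wrMat_eq φ φ' A hφ' τ H I, Matrix.det_mul, hdet]



/-- Over an algebraically closed constant field, replacing a projective map `φ` by `Aφ` for an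
invertible matrix `A` over `k` does not change the `τ`-order sequence, and multiplies every
generalized Wronskian determinant `det [τ(φ) | D^(I₁) φ | ⋯ | D^(Iₙ) φ]` (Hasse derivatives taken
with `H`) by `det A`. -/
theorem result
    (k K : Type*) [Field k] [IsAlgClosed k] [Field K] [Algebra k K]
    (hK : FunFld.IsFunctionField k K) {n : ℕ} (φ : Fin (n + 1) → K) (hφ : LinearIndependent k φ)
    (τ : K →ₐ[k] K) (s : K) (H : K →ₐ[k] PowerSeries K) (hH : LocRes.IsHasseFamily s H)
    (A : Matrix (Fin (n + 1)) (Fin (n + 1)) k) (hA : A.det ≠ 0)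
    (φ' : Fin (n + 1) → K) (hφ' : ∀ i, φ' i = ∑ j, A i j • φ j) :
    (∀ J : Fin n → ℕ, FunFld.IsOrders K (FunFld.hcol τ H φ') J ↔ FunFld.IsOrders K (FunFld.hcol τ H φ) J) ∧
    ∀ I : Fin n → ℕ, (FunFld.wrMat τ H φ' I).det = algebraMap k K A.det * (FunFld.wrMat τ H φ I).det := by
  exact main φ τ H A hA φ' hφ'

end Groth.Agent.S12596
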