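import Groth.Statements.S12611
import Mathlib
import Groth.Agent.Lib.Helper10.HasseExp18
import Groth.Agent.S12597
import Groth.Agent.S12598
import Groth.Agent.S12601
import Groth.Agent.S12605

set_option autoImplicit false
open FunFld

namespace Groth.Agent.S12611

set_option linter.style.haveILetI false
set_option linter.unusedSectionVars false
set_option linter.unusedVariables false

open Groth.Agent.Lib.helper10 Groth.Agent.Lib.helper10.HasseExp WithZero

theorem add_le_of_strictMono {n : ℕ} (J : Fin n → ℕ) (hJ : StrictMono J) (c : ℕ)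
    (hc : ∀ l, c ≤ J l) : ∀ (m : ℕ) (hm : m < n), m + c ≤ J ⟨m, hm⟩ := by
  intro m
  induction m with
  | zero => intro hm; rw [zero_add]; exact hc _
  | succ m ih =>
    intro hm
    have h1 := ih (by omega)
    have h2 : J ⟨m, by omega⟩ < J ⟨m + 1, hm⟩ := hJ (by
      rw [Fin.lt_def]; exact Nat.lt_succ_self m)
    omega

/-- The `τ`-orders are bounded by any `I` whose binomial determinants do not vanish. -/
theorem aux
    (k K : Type*) [Field k] [IsAlgClosed k] [Field K] [Algebra k K]
    (hK : FunFld.IsFunctionField k K) {n : ℕ} (φ : Fin (n + 1) → K) (hφ : LinearIndependent k φ)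
    (hchar : ringChar k = 0 ∨ (FunFld.mapDiv k φ).deg < ringChar k)
    (τ : K →ₐ[k] K) (s : K) (H : K →ₐ[k] PowerSeries K) (hH : LocRes.IsHasseFamily s H)
    (P : FunFld.Place k K) (hfix : FunFld.IsFixedPt τ P) (I : Fin n → ℕ) (hI : StrictMono I)
    (hcond : (∀ l, 0 < I l) ∨ FunFld.IsStrongFixedPt τ P)
    (hbinom : ∀ J' : Fin n → ℕ, StrictMono J' → (∀ l, 1 ≤ J' l) →
      (ringChar k = 0 ∨ ∀ r, J' r < ringChar k) → (FunFld.binomMat k J' I).det ≠ 0)
    (J : Fin n → ℕ) (hJ : FunFld.IsOrders K (FunFld.hcol τ H φ) J) : ∀ l, J l ≤ I l := by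
  classical
  obtain ⟨π, hπ⟩ := FF.Place.exists_uniformizer P
  obtain ⟨Hπ, hHπ⟩ := exists_isHasseFamily_uniformizer hK hH P hπ
  have hφ0 : ∀ i, φ i ≠ 0 := fun i => hφ.ne_zero i
  obtain ⟨j, hj⟩ := FF.exists_argmax_gen φ P
  set y := (φ j)⁻¹ with hy
  have hy0 : y ≠ 0 := inv_ne_zero (hφ0 j)
  set φ' : Fin (n + 1) → K := y • φ with hφ'
  have hφ'li : LinearIndependent k φ' := by
    have := hφ.map' (LinearMap.mulLeft k y) (by
      rw [LinearMap.ker_eq_bot]
      intro a b hab
      exact mul_left_cancel₀ hy0 hab)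
    exact this
  have hnorm : ∀ i, P.1 (φ' i) ≤ 1 := by
    intro i
    change P.1 (y * φ i) ≤ 1
    rw [hy, map_mul, map_inv₀]
    have hne : P.1 (φ j) ≠ 0 := (Valuation.ne_zero_iff _).mpr (hφ0 j)
    rw [inv_mul_le_iff₀ (zero_lt_iff.mpr hne), mul_one]
    exact hj i
  have heff : (1 : K) ∈ Submodule.span k (Set.range φ') := by
    apply Submodule.subset_span
    refine ⟨j, ?_⟩
    change y * φ j = 1
    rw [hy, inv_mul_cancel₀ (hφ0 j)]
  have h97 := Groth.Agent.S12597.result k K hK φ hφ τ s H hH y hy0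
  have hJ1 : IsOrders K (hcol τ H φ') J := (h97.1 J).mpr hJ
  have h98 := Groth.Agent.S12598.result k K hK φ' hφ'li τ s H hH π Hπ hHπ
  have hJ2 : IsOrders K (hcol τ Hπ φ') J := (h98.1 J).mpr hJ1
  obtain ⟨J', hJ'⟩ := exists_isOrdersAt hK P φ' hφ'li heff hnorm π hπ Hπ hHπ
  have hdeg : (mapDiv k φ').deg = (mapDiv k φ).deg := by
    rw [hφ', mapDiv_smul hK φ hφ0 hy0, FF.deg_sub, FF.deg_div hK, sub_zero]
  have hbound : ∀ l, (J' l : ℤ) ≤ (mapDiv k φ).deg := by
    intro l
    rw [← hdeg]
    exact ordersAt_le_deg hK P φ' hφ'li heff hnorm π hπ Hπ hHπ J' hJ' l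
  have hchar' : ringChar k = 0 ∨ ∀ r, J' r < ringChar k := by
    rcases hchar with h | h
    · exact Or.inl h
    · right
      intro r
      have := hbound r
      omega
  obtain ⟨Φ, hΦ, hΦt⟩ := exists_expansion hK P π hπ
  have hJ'1 : ∀ l, 1 ≤ J' l := by
    intro l
    have := (hJ'.2 (J' l)).mp ⟨l, rfl⟩
    exact ((isJump_succ_iff hK hΦ hΦt hHπ φ' hnorm _).mp this).1
  have hb := hbinom J' hJ'.1 hJ'1 hchar'
  have h05 := Groth.Agent.S12605.result k K hK τ P hfix φ' hφ'li heff hnorm π hπ Hπ hHπ J' hJ' I hI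
  have hval := (h05.2 hcond).mpr hb
  have hdet : (FunFld.wrMat τ Hπ φ' I).det ≠ 0 := by
    intro h0
    rw [h0, map_zero] at hval
    exact exp_ne_zero hval.symm
  exact Groth.Agent.S12601.result k K hK φ' hφ'li τ π Hπ hHπ J hJ2 I hI hdet

theorem main
    (k K : Type*) [Field k] [IsAlgClosed k] [Field K] [Algebra k K]
    (hK : FunFld.IsFunctionField k K) {n : ℕ} (φ : Fin (n + 1) → K) (hφ : LinearIndependent k φ)
    (h0 : φ 0 ≠ 0) (hbir : IntermediateField.adjoin k (Set.range fun i => φ i / φ 0) = ⊤)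
    (hchar : ringChar k = 0 ∨ (FunFld.mapDiv k φ).deg < ringChar k)
    (τ : K →ₐ[k] K) (s : K) (H : K →ₐ[k] PowerSeries K) (hH : LocRes.IsHasseFamily s H) :
    (τ = AlgHom.id k K → FunFld.IsOrders K (FunFld.hcol τ H φ) (fun l : Fin n => (l : ℕ) + 1)) ∧
    (τ ≠ AlgHom.id k K → (∃ P : FunFld.Place k K, FunFld.IsStrongFixedPt τ P) →
      FunFld.IsOrders K (FunFld.hcol τ H φ) (fun l : Fin n => (l : ℕ))) := by
  obtain ⟨J, hJ, -⟩ := exists_isOrders hK hH φ hφ τ
  constructor
  · intro hτ
    subst hτ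
    obtain ⟨P⟩ := FF.exists_place hK
    have hI : StrictMono (fun l : Fin n => (l : ℕ) + 1) := by
      intro a b hab
      simp only
      exact Nat.succ_lt_succ hab
    have hle := aux k K hK φ hφ hchar (AlgHom.id k K) s H hH P (fun z hz => hz)
      (fun l : Fin n => (l : ℕ) + 1) hI (Or.inl fun l => Nat.succ_pos _)
      (fun J' hJ' hJ'1 hc => det_binomMat_succ_ne_zero k J' hJ' hJ'1 hc) J hJ
    have hge := add_le_of_strictMono J hJ.1 1 (one_le_of_isOrders_id hH φ J hJ)
    have : J = fun l : Fin n => (l : ℕ) + 1 := by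
      funext l
      have h1 := hle l
      have h2 := hge l.1 l.2
      have h3 : (⟨l.1, l.2⟩ : Fin n) = l := rfl
      rw [h3] at h2
      omega
    rw [← this]
    exact hJ
  · intro hτ ⟨P, hP⟩
    have hfix : FunFld.IsFixedPt τ P := by
      intro z hz
      refine lt_of_le_of_lt (hP z hz) ?_
      rw [← exp_zero, exp_lt_exp]
      norm_num
    have hI : StrictMono (fun l : Fin n => (l : ℕ)) := fun a b hab => hab
    have hle := aux k K hK φ hφ hchar τ s H hH P hfix
      (fun l : Fin n => (l : ℕ)) hI (Or.inr hP)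
      (fun J' hJ' hJ'1 hc => det_binomMat_id_ne_zero k J' hJ' hc) J hJ
    have hge := add_le_of_strictMono J hJ.1 0 (fun l => Nat.zero_le _)
    have : J = fun l : Fin n => (l : ℕ) := by
      funext l
      have h1 := hle l
      have h2 := hge l.1 l.2
      have h3 : (⟨l.1, l.2⟩ : Fin n) = l := rfl
      rw [h3] at h2
      omega
    rw [← this]
    exact hJ



/-- Over an algebraically closed constant field of characteristic `0` or greater than `deg φ`, a
birational projective map `φ = (φ₀, …, φₙ)` is classical: its orders are `(1, 2, …, n)`, and for a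
`k`-endomorphism `τ ≠ 1` its `τ`-orders are `(0, 1, …, n-1)`. (The published statement has no
fixed-point hypothesis for `τ ≠ 1` and is false without one: on a smooth plane cubic in
characteristic `0`, pulling back along multiplication by `-2` gives `τ`-orders `(0, 2)`. This row
assumes `τ` has a strong fixed point — a place whose maximal ideal `τ` maps into its square — which
is what the proof uses, through the equality criterion for Wronskian orders at such a point.) -/
theorem result
    (k K : Type*) [Field k] [IsAlgClosed k] [Field K] [Algebra k K]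
    (hK : FunFld.IsFunctionField k K) {n : ℕ} (φ : Fin (n + 1) → K) (hφ : LinearIndependent k φ)
    (h0 : φ 0 ≠ 0) (hbir : IntermediateField.adjoin k (Set.range fun i => φ i / φ 0) = ⊤)
    (hchar : ringChar k = 0 ∨ (FunFld.mapDiv k φ).deg < ringChar k)
    (τ : K →ₐ[k] K) (s : K) (H : K →ₐ[k] PowerSeries K) (hH : LocRes.IsHasseFamily s H) :
    (τ = AlgHom.id k K → FunFld.IsOrders K (FunFld.hcol τ H φ) (fun l : Fin n => (l : ℕ) + 1)) ∧
    (τ ≠ AlgHom.id k K → (∃ P : FunFld.Place k K, FunFld.IsStrongFixedPt τ P) →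
      FunFld.IsOrders K (FunFld.hcol τ H φ) (fun l : Fin n => (l : ℕ))) := by
  exact main k K hK φ hφ h0 hbir hchar τ s H hH

end Groth.Agent.S12611
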