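import Groth.Statements.S12614
import Mathlib
import Groth.Agent.Lib.Helper10.HasseExp16
import Groth.Agent.S12596
import Groth.Agent.S12597
import Groth.Agent.S12598

set_option autoImplicit false
open FunFld

namespace Groth.Agent.S12614

set_option linter.style.haveILetI false
set_option linter.unusedSectionVars false
set_option linter.unusedVariables false

open Groth.Agent.Lib.helper10 Groth.Agent.Lib.helper10.HasseExp WithZero

theorem main
    (k K : Type*) [Field k] [IsAlgClosed k] [Field K] [Algebra k K]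
    (hK : FunFld.IsFunctionField k K) {n : ℕ} (φ : Fin (n + 1) → K) (hφ : LinearIndependent k φ)
    (τ : K →ₐ[k] K) (s : K) (Hs : K →ₐ[k] PowerSeries K) (hHs : LocRes.IsHasseFamily s Hs)
    (t : K) (Ht : K →ₐ[k] PowerSeries K) (hHt : LocRes.IsHasseFamily t Ht)
    (J : Fin n → ℕ) (hJ : FunFld.IsOrders K (FunFld.hcol τ Hs φ) J)
    (A : Matrix (Fin (n + 1)) (Fin (n + 1)) k) (hA : A.det ≠ 0) (y : K) (hy : y ≠ 0)
    (φ' : Fin (n + 1) → K) (hφ' : ∀ i, φ' i = y * ∑ j, A i j • φ j)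
    (Φ : FunFld.Place k K → (K →ₐ[k] LaurentSeries k))
    (hΦ : ∀ P : FunFld.Place k K, LocRes.IsExpansionAt P.1 (Φ P)) :
    FunFld.wDiv τ Ht Φ t φ' J = FunFld.wDiv τ Hs Φ s φ J := by
  classical
  set ψ : Fin (n + 1) → K := fun i => ∑ j, A i j • φ j with hψ
  have hφ'eq : φ' = y • ψ := by
    funext i
    rw [hφ' i]
    rfl
  subst hφ'eq
  have hψli : LinearIndependent k ψ := linearIndependent_linear φ hφ A hA ψ (fun i => rfl)
  have hφ0 : ∀ i, φ i ≠ 0 := fun i => hφ.ne_zero i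
  have hψ0 : ∀ i, ψ i ≠ 0 := fun i => hψli.ne_zero i
  have hyψli : LinearIndependent k (y • ψ) := by
    have := hψli.map' (LinearMap.mulLeft k y) (by
      rw [LinearMap.ker_eq_bot]
      intro a b hab
      exact mul_left_cancel₀ hy hab)
    exact this
  -- determinants
  have h96 := Groth.Agent.S12596.result k K hK φ hφ τ s Hs hHs A hA ψ (fun i => rfl)
  have hJψ : IsOrders K (hcol τ Hs ψ) J := (h96.1 J).mpr hJ
  have h97 := Groth.Agent.S12597.result k K hK ψ hψli τ s Hs hHs y hy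
  have hJyψ : IsOrders K (hcol τ Hs (y • ψ)) J := (h97.1 J).mpr hJψ
  have h98 := Groth.Agent.S12598.result k K hK (y • ψ) hyψli τ s Hs hHs t Ht hHt
  set a := LocRes.hasseD Ht 1 s with ha
  have ha0 : a ≠ 0 := hasseD_one_ne_zero hK hHs hHt
  set W := (wrMat τ Hs φ J).det with hW
  have hW0 : W ≠ 0 := by
    apply det_wrMat_ne_zero τ Hs φ _ J hJ
    intro h0
    have := congrFun h0 0
    exact (map_ne_zero τ).mpr (hφ0 0) this
  have hdet : (wrMat τ Ht (y • ψ) J).det =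
      a ^ (∑ l, J l) * (τ y * y ^ n * (algebraMap k K A.det * W)) := by
    rw [h98.2 J hJyψ, h97.2 J hJψ, h96.2 J]
  have hτy0 : τ y ≠ 0 := (map_ne_zero τ).mpr hy
  have hAd0 : algebraMap k K A.det ≠ 0 := (map_ne_zero (algebraMap k K)).mpr hA
  have hdivW' : FunFld.div k (wrMat τ Ht (y • ψ) J).det =
      ((∑ l, J l : ℕ) : ℤ) • FunFld.div k a + (FunFld.div k (τ y) + (n : ℤ) • FunFld.div k y +
        FunFld.div k W) := by
    rw [hdet, FF.div_mul hK (pow_ne_zero _ ha0)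
      (mul_ne_zero (mul_ne_zero hτy0 (pow_ne_zero _ hy)) (mul_ne_zero hAd0 hW0)),
      FF.div_mul hK (mul_ne_zero hτy0 (pow_ne_zero _ hy)) (mul_ne_zero hAd0 hW0),
      FF.div_mul hK hτy0 (pow_ne_zero _ hy), FF.div_mul hK hAd0 hW0, FF.div_algebraMap hK,
      div_pow hK, div_pow hK, zero_add]
  -- the divisors of the maps
  have hm1 : mapDiv k (y • ψ) = mapDiv k φ - FunFld.div k y := by
    rw [mapDiv_smul hK ψ hψ0 hy, mapDiv_linear hK φ hφ A hA ψ (fun i => rfl)]
  have hτφli : LinearIndependent k (τ ∘ φ) := by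
    have := hφ.map' τ.toLinearMap (by
      rw [LinearMap.ker_eq_bot]
      exact τ.toRingHom.injective)
    exact this
  have hτψ : ∀ i, (τ ∘ ψ) i = ∑ j, A i j • (τ ∘ φ) j := by
    intro i
    change τ (∑ j, A i j • φ j) = _
    rw [map_sum]
    refine Finset.sum_congr rfl fun j _ => ?_
    rw [map_smul]
    rfl
  have hτψ0 : ∀ i, (τ ∘ ψ) i ≠ 0 := fun i => (map_ne_zero τ).mpr (hψ0 i)
  have hm2 : mapDiv k (τ ∘ (y • ψ)) = mapDiv k (τ ∘ φ) - FunFld.div k (τ y) := by
    have e : τ ∘ (y • ψ) = τ y • (τ ∘ ψ) := by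
      funext i
      change τ (y * ψ i) = τ y * τ (ψ i)
      rw [map_mul]
    rw [e, mapDiv_smul hK (τ ∘ ψ) hτψ0 hτy0, mapDiv_linear hK (τ ∘ φ) hτφli A hA (τ ∘ ψ) hτψ]
  have hd : divDiff Φ 1 s = divDiff Φ 1 t + FunFld.div k a := divDiff_change hHt hK Φ hΦ hHs
  unfold FunFld.wDiv
  rw [hdivW', hm1, hm2, hd]
  have hcast : ((∑ l, J l : ℕ) : ℤ) = ∑ l, (J l : ℤ) := by push_cast; rfl
  rw [hcast]
  simp only [smul_add, smul_sub]
  abel



/-- Over an algebraically closed constant field, the Weierstrass divisor `W_s(φ, τ) = [w_s(φ, τ)] +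
[τ(φ)] + n[φ] + j(φ, τ)[ds]` does not depend on the separating variable `s` and does not change when
`φ` is replaced by an equivalent map `y · Aφ` (`A` invertible over `k`, `y ≠ 0`). Divisors of
differentials are read through a fixed family of Laurent expansions. -/
theorem result
    (k K : Type*) [Field k] [IsAlgClosed k] [Field K] [Algebra k K]
    (hK : FunFld.IsFunctionField k K) {n : ℕ} (φ : Fin (n + 1) → K) (hφ : LinearIndependent k φ)
    (τ : K →ₐ[k] K) (s : K) (Hs : K →ₐ[k] PowerSeries K) (hHs : LocRes.IsHasseFamily s Hs)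
    (t : K) (Ht : K →ₐ[k] PowerSeries K) (hHt : LocRes.IsHasseFamily t Ht)
    (J : Fin n → ℕ) (hJ : FunFld.IsOrders K (FunFld.hcol τ Hs φ) J)
    (A : Matrix (Fin (n + 1)) (Fin (n + 1)) k) (hA : A.det ≠ 0) (y : K) (hy : y ≠ 0)
    (φ' : Fin (n + 1) → K) (hφ' : ∀ i, φ' i = y * ∑ j, A i j • φ j)
    (Φ : FunFld.Place k K → (K →ₐ[k] LaurentSeries k))
    (hΦ : ∀ P : FunFld.Place k K, LocRes.IsExpansionAt P.1 (Φ P)) :
    FunFld.wDiv τ Ht Φ t φ' J = FunFld.wDiv τ Hs Φ s φ J := by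
  exact main k K hK φ hφ τ s Hs hHs t Ht hHt J hJ A hA y hy φ' hφ' Φ hΦ

end Groth.Agent.S12614
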