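import Groth.Statements.S12615
import Mathlib
import Groth.Agent.Lib.Helper10.HasseExp9
import Groth.Agent.S12605

set_option autoImplicit false
open FunFld

namespace Groth.Agent.S12615

set_option linter.style.haveILetI false
set_option linter.unusedSectionVars false
set_option linter.unusedVariables false

open Groth.Agent.Lib.helper10 Groth.Agent.Lib.helper10.HasseExp WithZero

theorem val_tau_le_one {k K : Type*} [Field k] [IsAlgClosed k] [Field K] [Algebra k K]
    (hK : FunFld.IsFunctionField k K) {τ : K →ₐ[k] K} {P : FunFld.Place k K}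
    (hP : FunFld.IsFixedPt τ P) {z : K} (hz : P.1 z ≤ 1) : P.1 (τ z) ≤ 1 := by
  obtain ⟨c, hc⟩ := FF.Place.exists_const_sub_lt hK P hz
  have h1 := hP _ hc
  rw [map_sub, AlgHom.commutes] at h1
  have e : τ z = (τ z - algebraMap k K c) + algebraMap k K c := by ring
  rw [e]
  exact le_trans (P.1.map_add _ _) (max_le h1.le (P.2.1 c))

theorem main
    (k K : Type*) [Field k] [IsAlgClosed k] [Field K] [Algebra k K]
    (hK : FunFld.IsFunctionField k K) (τ : K →ₐ[k] K) (P : FunFld.Place k K) (hP : FunFld.IsFixedPt τ P)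
    {n : ℕ} (φ : Fin (n + 1) → K) (hφ : LinearIndependent k φ)
    (heff : (1 : K) ∈ Submodule.span k (Set.range φ)) (hnorm : ∀ i, P.1 (φ i) ≤ 1)
    (t : K) (ht : P.1 t = WithZero.exp (-1))
    (Ht : K →ₐ[k] PowerSeries K) (hHt : LocRes.IsHasseFamily t Ht)
    (J : Fin n → ℕ) (hJ : FunFld.IsOrders K (FunFld.hcol τ Ht φ) J)
    (J' : Fin n → ℕ) (hJ' : FunFld.IsOrders (IsLocalRing.ResidueField P.O) (FunFld.hcolAt P Ht φ) J')
    (Φ : FunFld.Place k K → (K →ₐ[k] LaurentSeries k))
    (hΦ : ∀ P : FunFld.Place k K, LocRes.IsExpansionAt P.1 (Φ P)) :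
    (∑ l, ((J' l : ℤ) - J l)) ≤ FunFld.wDiv τ Ht Φ t φ J P ∧
    ((τ = AlgHom.id k K ∨ FunFld.IsStrongFixedPt τ P) →
      (FunFld.wDiv τ Ht Φ t φ J P = ∑ l, ((J' l : ℤ) - J l) ↔ (FunFld.binomMat k J' J).det ≠ 0)) := by
  have h05 := Groth.Agent.S12605.result k K hK τ P hP φ hφ heff hnorm t ht Ht hHt J' hJ' J hJ.1
  set W := (FunFld.wrMat τ Ht φ J).det with hW
  have hφ0 : ∀ i, φ i ≠ 0 := fun i => hφ.ne_zero i
  have hτφ0 : ∀ i, (τ ∘ φ) i ≠ 0 := fun i => (map_ne_zero τ).mpr (hφ0 i)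
  have hW0 : W ≠ 0 := by
    apply det_wrMat_ne_zero τ Ht φ _ J hJ
    intro h0
    have := congrFun h0 0
    exact hτφ0 0 this
  have hne : P.1 W ≠ 0 := (Valuation.ne_zero_iff _).mpr hW0
  -- the divisor terms
  have hunit := exists_unit_of_one_mem P φ heff hnorm
  have hm : mapDiv k φ P = 0 := mapDiv_eq_zero hK P φ hφ0 hnorm hunit
  have heffτ : (1 : K) ∈ Submodule.span k (Set.range (τ ∘ φ)) := by
    obtain ⟨c, hc⟩ := (Submodule.mem_span_range_iff_exists_fun k).mp heff
    rw [Submodule.mem_span_range_iff_exists_fun]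
    refine ⟨c, ?_⟩
    have := congrArg τ hc
    rw [map_sum, map_one] at this
    rw [← this]
    refine Finset.sum_congr rfl fun i _ => ?_
    rw [map_smul]
    rfl
  have hnormτ : ∀ i, P.1 ((τ ∘ φ) i) ≤ 1 := fun i => val_tau_le_one hK hP (hnorm i)
  have hunitτ := exists_unit_of_one_mem P (τ ∘ φ) heffτ hnormτ
  have hm' : mapDiv k (τ ∘ φ) P = 0 := mapDiv_eq_zero hK P (τ ∘ φ) hτφ0 hnormτ hunitτ
  have hd : divDiff Φ 1 t P = 0 := divDiff_apply_uniformizer Φ hΦ P ht
  have hwd : FunFld.wDiv τ Ht Φ t φ J P = P.ord W := by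
    unfold FunFld.wDiv
    rw [Finsupp.add_apply, Finsupp.add_apply, Finsupp.add_apply, Finsupp.smul_apply,
      Finsupp.smul_apply, hm, hm', hd, FF.div_apply hK]
    simp [hW]
  rw [hwd]
  unfold FunFld.Place.ord
  have hexp : P.1 W = exp (WithZero.log (P.1 W)) := (WithZero.exp_log hne).symm
  constructor
  · have h1 := h05.1
    rw [hexp, exp_le_exp] at h1
    omega
  · intro hor
    have hcond : (∀ l, 0 < J l) ∨ FunFld.IsStrongFixedPt τ P := by
      rcases hor with h | h
      · left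
        subst h
        exact fun l => one_le_of_isOrders_id hHt φ J hJ l
      · exact Or.inr h
    rw [← h05.2 hcond]
    constructor
    · intro h
      rw [hexp]
      congr 1
      omega
    · intro h
      rw [h, log_exp]
      ring



/-- Over an algebraically closed constant field, let `P` be a fixed point of the `k`-endomorphism `τ`,
`φ` an effective projective map normalized at `P` with `τ`-orders `j₁, …, jₙ` and orders `j'₁, …,
j'ₙ` at `P`. Then the coefficient of the Weierstrass divisor `W(φ, τ)` at `P` is at least `Σ (j'ₗ -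
jₗ)`; if `τ = 1` or `P` is a strong fixed point, it equals `Σ (j'ₗ - jₗ)` exactly when the matrix of
binomial coefficients `(j'_r choose j_s)`, read in `k`, has nonzero determinant. The divisor of `dt`
in `W` is read through a family of Laurent expansions. -/
theorem result
    (k K : Type*) [Field k] [IsAlgClosed k] [Field K] [Algebra k K]
    (hK : FunFld.IsFunctionField k K) (τ : K →ₐ[k] K) (P : FunFld.Place k K) (hP : FunFld.IsFixedPt τ P)
    {n : ℕ} (φ : Fin (n + 1) → K) (hφ : LinearIndependent k φ)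
    (heff : (1 : K) ∈ Submodule.span k (Set.range φ)) (hnorm : ∀ i, P.1 (φ i) ≤ 1)
    (t : K) (ht : P.1 t = WithZero.exp (-1))
    (Ht : K →ₐ[k] PowerSeries K) (hHt : LocRes.IsHasseFamily t Ht)
    (J : Fin n → ℕ) (hJ : FunFld.IsOrders K (FunFld.hcol τ Ht φ) J)
    (J' : Fin n → ℕ) (hJ' : FunFld.IsOrders (IsLocalRing.ResidueField P.O) (FunFld.hcolAt P Ht φ) J')
    (Φ : FunFld.Place k K → (K →ₐ[k] LaurentSeries k))
    (hΦ : ∀ P : FunFld.Place k K, LocRes.IsExpansionAt P.1 (Φ P)) :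
    (∑ l, ((J' l : ℤ) - J l)) ≤ FunFld.wDiv τ Ht Φ t φ J P ∧
    ((τ = AlgHom.id k K ∨ FunFld.IsStrongFixedPt τ P) →
      (FunFld.wDiv τ Ht Φ t φ J P = ∑ l, ((J' l : ℤ) - J l) ↔ (FunFld.binomMat k J' J).det ≠ 0)) := by
  exact main k K hK τ P hP φ hφ heff hnorm t ht Ht hHt J hJ J' hJ' Φ hΦ

end Groth.Agent.S12615
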