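import Groth.Statements.S11044
import Mathlib
import Groth.Agent.Lib.Helper10.FunFld21

set_option autoImplicit false
open FunFld

namespace Groth.Agent.S11044

/-- Over an algebraically closed constant field, if the genus `g` is positive and `D` has degree at
least `2g` or is canonical, then `ℓ(D - P) < ℓ(D)` for every place `P`; that is, `D` is the divisor
of the projective map given by `L(D)`. -/
theorem result
    (k K : Type*) [Field k] [IsAlgClosed k] [Field K] [Algebra k K]
    (hK : FunFld.IsFunctionField k K) (hg : 0 < FunFld.genus k K)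
    (D : FunFld.Divisor k K)
    (hD : 2 * (FunFld.genus k K : ℤ) ≤ D.deg ∨ FunFld.IsCanonical k K D) (P : FunFld.Place k K) :
    FunFld.ell (D - Finsupp.single P 1) < FunFld.ell D := by
  open Groth.Agent.Lib.helper10 in
  have hP : P.deg = 1 := FF.Place.deg_eq_one hK P
  have hdegP : FunFld.Divisor.deg (Finsupp.single P 1 : FunFld.Divisor k K) = 1 := by
    rw [FF.deg_single, hP]; rfl
  have hdeg : (D - Finsupp.single P 1).deg = D.deg - 1 := by
    rw [FF.deg_sub, hdegP]
  rcases hD with hD | hD
  · have h1 := FF.ell_of_deg_ge hK (D := D) (by linarith)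
    have h2 := FF.ell_of_deg_ge hK (D := D - Finsupp.single P 1) (by rw [hdeg]; linarith)
    rw [hdeg] at h2
    have : (FunFld.ell (D - Finsupp.single P 1) : ℤ) < FunFld.ell D := by linarith
    exact_mod_cast this
  · obtain ⟨h1, h2⟩ := FF.ell_canonical hK hD
    have hrr := FF.riemann_roch hK hD (D - Finsupp.single P 1)
    have e : D - (D - Finsupp.single P 1) = Finsupp.single P 1 := by abel
    rw [e, hdeg, h2] at hrr
    have h3 : FunFld.ell (Finsupp.single P 1 : FunFld.Divisor k K) ≤ 1 :=
      FF.ell_le_one_of_deg_one hK hg hdegP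
    have h3' : (FunFld.ell (Finsupp.single P 1 : FunFld.Divisor k K) : ℤ) ≤ 1 := by
      exact_mod_cast h3
    have : (FunFld.ell (D - Finsupp.single P 1) : ℤ) < FunFld.ell D := by
      rw [h1]; linarith
    exact_mod_cast this

end Groth.Agent.S11044
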