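import Groth.Statements.S12609
import Mathlib
import Groth.Agent.Lib.Helper10.HasseExp3
import Groth.Agent.Lib.Helper10.FunFld28
import Groth.Agent.Lib.Helper10.FunFld29

set_option autoImplicit false
open FunFld

namespace Groth.Agent.S12609

set_option linter.style.haveILetI false
set_option linter.unusedSectionVars false
set_option linter.unusedVariables false

open Groth.Agent.Lib.helper10 Groth.Agent.Lib.helper10.HasseExp WithZero
open Groth.Agent.Lib.helper10.FF

theorem exists_val_eq_iff_isGap {k K : Type*} [Field k] [IsAlgClosed k] [Field K] [Algebra k K]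
    (hK : FunFld.IsFunctionField k K) {C : FunFld.Divisor k K} (hC : FunFld.IsCanonical k K C)
    (P : FunFld.Place k K) (j : ℕ) :
    (∃ g ∈ FunFld.L C, P.1 g = exp (C P - (j : ℤ))) ↔ IsGap P (j + 1) := by
  classical
  set F : Divisor k K := C - Finsupp.single P (j : ℤ) with hF
  have hFP : F P = C P - j := by
    rw [hF, Finsupp.sub_apply, Finsupp.single_eq_same]
  have hFC : F ≤ C := by
    intro Q
    rw [hF, Finsupp.sub_apply]
    by_cases hQ : Q = P
    · subst hQ
      rw [Finsupp.single_eq_same]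
      omega
    · rw [Finsupp.single_eq_of_ne hQ, sub_zero]
  have e2 : C - Finsupp.single P ((j : ℤ) + 1) = F - Finsupp.single P 1 := by
    rw [hF, Finsupp.single_add]
    abel
  have hrr1 := riemann_roch hK hC (Finsupp.single P (j : ℤ))
  have hrr2 := riemann_roch hK hC (Finsupp.single P ((j : ℤ) + 1))
  rw [deg_single, Place.deg_eq_one hK P] at hrr1 hrr2
  rw [e2] at hrr2
  rw [← hF] at hrr1
  have hstep := ell_single_step hK P (j + 1)
  have hcast : (((j + 1 : ℕ) : ℤ)) = (j : ℤ) + 1 := by push_cast; ring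
  rw [hcast, add_sub_cancel_right] at hstep
  haveI := finiteDimensional_L hK F
  have hle := L_sub_single_le F P
  constructor
  · rintro ⟨g, hg, hgv⟩
    have hgF : g ∈ L F := by
      intro Q
      by_cases hQ : Q = P
      · subst hQ
        rw [hFP, hgv]
      · rw [hF, Finsupp.sub_apply, Finsupp.single_eq_of_ne hQ, sub_zero]
        exact hg Q
    have hgn : g ∉ L (F - Finsupp.single P 1) := by
      rw [mem_L_sub_single_iff hgF, hFP, hgv]
      exact lt_irrefl _
    have hlt : L (F - Finsupp.single P 1) < L F :=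
      lt_of_le_of_ne hle (fun e => hgn (e ▸ hgF))
    have hfr := Submodule.finrank_lt_finrank_of_lt hlt
    change ell (F - Finsupp.single P 1) < ell F at hfr
    rcases hstep with ⟨h1, _⟩ | ⟨_, h2⟩
    · exact h1
    · exfalso
      push_cast at hrr1 hrr2
      have : (ell (Finsupp.single P ((j : ℤ) + 1) : Divisor k K) : ℤ) =
          ell (Finsupp.single P (j : ℤ) : Divisor k K) + 1 := by exact_mod_cast h2
      have h3 : (ell (F - Finsupp.single P 1) : ℤ) < ell F := by exact_mod_cast hfr
      linarith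
  · intro hgap
    have hell : ell (Finsupp.single P ((j : ℤ) + 1) : Divisor k K) =
        ell (Finsupp.single P (j : ℤ) : Divisor k K) := by
      rcases hstep with ⟨_, h2⟩ | ⟨h1, _⟩
      · exact h2
      · exact absurd hgap h1
    have hne : L (F - Finsupp.single P 1) ≠ L F := by
      intro e
      have : ell (F - Finsupp.single P 1) = ell F := by unfold ell; rw [e]
      have h4 : (ell (Finsupp.single P ((j : ℤ) + 1) : Divisor k K) : ℤ) =
          ell (Finsupp.single P (j : ℤ) : Divisor k K) := by exact_mod_cast hell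
      have h5 : (ell (F - Finsupp.single P 1) : ℤ) = ell F := by exact_mod_cast this
      push_cast at hrr1 hrr2
      linarith
    obtain ⟨g, hg, hgn⟩ := SetLike.exists_of_lt (lt_of_le_of_ne hle hne)
    refine ⟨g, L_mono hFC hg, ?_⟩
    rw [mem_L_sub_single_iff hg, not_lt, hFP] at hgn
    have := hg P
    rw [hFP] at this
    exact le_antisymm this hgn

theorem main
    (k K : Type*) [Field k] [IsAlgClosed k] [Field K] [Algebra k K]
    (hK : FunFld.IsFunctionField k K) (C : FunFld.Divisor k K) (hC : FunFld.IsCanonical k K C)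
    {n : ℕ} (φ : Fin (n + 1) → K) (hφ : LinearIndependent k φ)
    (hspan : Submodule.span k (Set.range φ) = FunFld.L C)
    (P : FunFld.Place k K) (y : K) (hy : y ≠ 0)
    (heff : (1 : K) ∈ Submodule.span k (Set.range (y • φ))) (hnorm : ∀ i, P.1 (y * φ i) ≤ 1)
    (t : K) (ht : P.1 t = WithZero.exp (-1))
    (Ht : K →ₐ[k] PowerSeries K) (hHt : LocRes.IsHasseFamily t Ht) (j : ℕ) (hj : 1 ≤ j) :
    FunFld.IsJump (IsLocalRing.ResidueField P.O) (FunFld.hcolAt P Ht (y • φ)) (j + 1) ↔
      FunFld.L (Finsupp.single P ((j : ℤ) + 1)) = FunFld.L (Finsupp.single P (j : ℤ)) := by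
  classical
  obtain ⟨Φ, hΦ, hΦt⟩ := exists_expansion hK P t ht
  have hint : ∀ i, P.1 ((y • φ) i) ≤ 1 := fun i => hnorm i
  rw [isJump_succ_iff hK hΦ hΦt hHt (y • φ) hint j]
  -- the span of `y • φ`
  have hsp : Submodule.span k (Set.range (y • φ)) = (L C).map (LinearMap.mulLeft k y) := by
    rw [← hspan, Submodule.map_span, ← Set.range_comp]
    rfl
  have hmem : ∀ f, f ∈ Submodule.span k (Set.range (y • φ)) ↔ ∃ g ∈ L C, y * g = f := by
    intro f
    rw [hsp, Submodule.mem_map]
    rfl
  -- genus positive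
  have hg : 0 < genus k K := by
    rw [← (ell_canonical hK hC).1]
    unfold ell
    rw [← hspan, finrank_span_eq_card hφ]
    simp
  -- `P` is not a base point
  have hgap1 : IsGap P (0 + 1) := by
    have := one_not_mem_poleOrders hK P hg
    rw [mem_poleOrders_iff hK, not_not] at this
    exact this
  obtain ⟨g₁, hg₁, hg₁v⟩ := (exists_val_eq_iff_isGap hK hC P 0).mpr hgap1
  rw [Nat.cast_zero, sub_zero] at hg₁v
  -- normalization
  have hnormL : ∀ g ∈ L C, P.1 (y * g) ≤ 1 := by
    intro g hg
    rw [← hspan] at hg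
    obtain ⟨c, rfl⟩ := (Submodule.mem_span_range_iff_exists_fun k).mp hg
    rw [Finset.mul_sum]
    apply Valuation.map_sum_le
    intro i _
    rw [mul_smul_comm, Algebra.smul_def, map_mul]
    calc _ ≤ 1 * 1 := mul_le_mul' (P.2.1 (c i)) (hnorm i)
      _ = 1 := one_mul 1
  obtain ⟨g₀, hg₀, hg₀y⟩ := (hmem 1).mp heff
  have hyv : P.1 y = exp (-(C P)) := by
    apply le_antisymm
    · have h1 := hnormL g₁ hg₁
      rw [map_mul, hg₁v] at h1
      have h2 : P.1 y = P.1 y * exp (C P) * exp (-(C P)) := by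
        rw [mul_assoc, ← exp_add, add_neg_cancel, exp_zero, mul_one]
      rw [h2]
      calc _ ≤ 1 * exp (-(C P)) := mul_le_mul' h1 le_rfl
        _ = _ := one_mul _
    · have h1 := hg₀ P
      have h2 : P.1 y * P.1 g₀ = 1 := by rw [← map_mul, hg₀y, map_one]
      have h3 : exp (-(C P)) = exp (-(C P)) * (P.1 y * P.1 g₀) := by rw [h2, mul_one]
      rw [h3, mul_comm (P.1 y), ← mul_assoc]
      calc _ ≤ exp (-(C P)) * exp (C P) * P.1 y := mul_le_mul' (mul_le_mul' le_rfl h1) le_rfl
        _ = P.1 y := by rw [← exp_add, neg_add_cancel, exp_zero, one_mul]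
  have hiff : (∃ f ∈ Submodule.span k (Set.range (y • φ)), P.1 f = exp (-(j : ℤ))) ↔
      ∃ g ∈ L C, P.1 g = exp (C P - (j : ℤ)) := by
    constructor
    · rintro ⟨f, hf, hfv⟩
      obtain ⟨g, hg, rfl⟩ := (hmem f).mp hf
      refine ⟨g, hg, ?_⟩
      rw [map_mul, hyv] at hfv
      have : P.1 g = exp (C P) * (exp (-(C P)) * P.1 g) := by
        rw [← mul_assoc, ← exp_add, add_neg_cancel, exp_zero, one_mul]
      rw [this, hfv, ← exp_add]
      congr 1
    · rintro ⟨g, hg, hgv⟩
      refine ⟨y * g, (hmem _).mpr ⟨g, hg, rfl⟩, ?_⟩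
      rw [map_mul, hyv, hgv, ← exp_add]
      congr 1
      ring
  rw [hiff, exists_val_eq_iff_isGap hK hC P j]
  unfold IsGap
  have hcast : (((j + 1 : ℕ) : ℤ)) = (j : ℤ) + 1 := by push_cast; ring
  rw [hcast, add_sub_cancel_right]
  exact ⟨fun h => h.2, fun h => ⟨hj, h⟩⟩



/-- Over an algebraically closed constant field, let `φ` be the canonical map (a basis of `L(C)`, `C`
canonical), normalized at the place `P` after multiplication by `y ≠ 0`, and `t` a local parameter
at `P`. For `j ≥ 1`: the canonical orders at `P` include `j` exactly when `j + 1` is a gap number at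
`P`, i.e. `L((j+1)P) = L(jP)`. -/
theorem result
    (k K : Type*) [Field k] [IsAlgClosed k] [Field K] [Algebra k K]
    (hK : FunFld.IsFunctionField k K) (C : FunFld.Divisor k K) (hC : FunFld.IsCanonical k K C)
    {n : ℕ} (φ : Fin (n + 1) → K) (hφ : LinearIndependent k φ)
    (hspan : Submodule.span k (Set.range φ) = FunFld.L C)
    (P : FunFld.Place k K) (y : K) (hy : y ≠ 0)
    (heff : (1 : K) ∈ Submodule.span k (Set.range (y • φ))) (hnorm : ∀ i, P.1 (y * φ i) ≤ 1)
    (t : K) (ht : P.1 t = WithZero.exp (-1))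
    (Ht : K →ₐ[k] PowerSeries K) (hHt : LocRes.IsHasseFamily t Ht) (j : ℕ) (hj : 1 ≤ j) :
    FunFld.IsJump (IsLocalRing.ResidueField P.O) (FunFld.hcolAt P Ht (y • φ)) (j + 1) ↔
      FunFld.L (Finsupp.single P ((j : ℤ) + 1)) = FunFld.L (Finsupp.single P (j : ℤ)) := by
  exact main k K hK C hC φ hφ hspan P y hy heff hnorm t ht Ht hHt j hj

end Groth.Agent.S12609
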