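import Groth.Statements.S11047
import Mathlib
import Groth.Agent.Lib.Helper10.FunFld23

set_option autoImplicit false
open FunFld

namespace Groth.Agent.S11047

open Groth.Agent.Lib.helper10 FunFld

section

variable {k K : Type*} [Field k] [Field K] [Algebra k K]

/-- Pull back a place along a `k`-automorphism. -/
def comapPlace (σ : K ≃ₐ[k] K) (P : Place k K) : Place k K :=
  ⟨P.1.comap (σ : K →+* K), fun c => by
      rw [Valuation.comap_apply]
      have : (σ : K →+* K) (algebraMap k K c) = algebraMap k K c := σ.commutes c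
      rw [this]
      exact P.2.1 c,
    fun γ => by
      obtain ⟨x, hx⟩ := P.2.2 γ
      refine ⟨σ.symm x, ?_⟩
      rw [Valuation.comap_apply]
      have : (σ : K →+* K) (σ.symm x) = x := σ.apply_symm_apply x
      rw [this, hx]⟩

theorem comapPlace_apply (σ : K ≃ₐ[k] K) (P : Place k K) (x : K) :
    (comapPlace σ P).1 x = P.1 (σ x) := rfl

theorem comapPlace_symm (σ : K ≃ₐ[k] K) (P : Place k K) :
    comapPlace σ (comapPlace σ.symm P) = P := by
  apply Subtype.ext
  ext x
  rw [comapPlace_apply, comapPlace_apply, AlgEquiv.symm_apply_apply]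

/-- the fixed places in the sense of the statement -/
def IsFixed (σ : K ≃ₐ[k] K) (P : Place k K) : Prop :=
  ∀ x : K, P.1 x < 1 → P.1 (σ x) < 1

theorem isFixed_iff (σ : K ≃ₐ[k] K) (P : Place k K) : IsFixed σ P ↔ comapPlace σ P = P := by
  constructor
  · intro h
    apply FF.Place.eq_of_O_le
    intro x hx
    change (comapPlace σ P).1 x ≤ 1 at hx
    change P.1 x ≤ 1
    by_contra hlt
    rw [not_le] at hlt
    have hx0 : x ≠ 0 := by
      rintro rfl
      simp at hlt
    have h1 : P.1 x⁻¹ < 1 := by
      rw [map_inv₀]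
      exact inv_lt_one_of_one_lt₀ hlt
    have h2 := h _ h1
    rw [map_inv₀, map_inv₀] at h2
    rw [comapPlace_apply] at hx
    have h3 : P.1 (σ x) ≠ 0 := by
      rw [Valuation.ne_zero_iff]
      exact (map_ne_zero σ).mpr hx0
    have h4 : 1 < P.1 (σ x) := by
      by_contra hle
      rw [not_lt] at hle
      have : 1 ≤ (P.1 (σ x))⁻¹ := (one_le_inv₀ (zero_lt_iff.mpr h3)).mpr hle
      exact absurd h2 (not_lt.mpr this)
    exact absurd hx (not_le.mpr h4)
  · intro h x hx
    rw [← comapPlace_apply, h]
    exact hx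

/-- An automorphism fixing every place is the identity. -/
theorem eq_one_of_forall_fixed (hK : IsFunctionField k K) (σ : K ≃ₐ[k] K)
    (h : ∀ P : Place k K, IsFixed σ P) : σ = 1 := by
  have hval : ∀ (P : Place k K) (x : K), P.1 (σ x) = P.1 x := fun P x => by
    rw [← comapPlace_apply, (isFixed_iff σ P).mp (h P)]
  have hconst : ∀ x : K, x ≠ 0 → ∃ c : k, σ x = algebraMap k K c * x := by
    intro x hx
    have hmem : σ x / x ∈ L (0 : Divisor k K) := by
      rw [FF.mem_L_iff]
      intro P
      rw [map_div₀, hval, div_self ((Valuation.ne_zero_iff _).mpr hx)]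
      simp
    rw [FF.L_zero hK, Submodule.one_eq_range, LinearMap.mem_range] at hmem
    obtain ⟨c, hc⟩ := hmem
    refine ⟨c, ?_⟩
    rw [Algebra.linearMap_apply] at hc
    rw [hc, div_mul_cancel₀ _ hx]
  ext x
  rw [AlgEquiv.one_apply]
  by_cases hxk : x ∈ Set.range (algebraMap k K)
  · obtain ⟨c, rfl⟩ := hxk
    exact σ.commutes c
  · have hx0 : x ≠ 0 := by
      rintro rfl
      exact hxk ⟨0, map_zero _⟩
    have hx1 : x + 1 ≠ 0 := by
      intro h0
      apply hxk
      refine ⟨-1, ?_⟩
      rw [map_neg, map_one]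
      linear_combination -h0
    obtain ⟨c, hc⟩ := hconst x hx0
    obtain ⟨c', hc'⟩ := hconst (x + 1) hx1
    rw [map_add, map_one, hc] at hc'
    by_cases hcc : c = c'
    · subst hcc
      have h1 : algebraMap k K c = 1 := by linear_combination -hc'
      rw [hc, h1, one_mul]
    · exfalso
      apply hxk
      refine ⟨(c' - 1) / (c - c'), ?_⟩
      have hne : algebraMap k K c - algebraMap k K c' ≠ 0 := by
        rw [← map_sub]
        exact (map_ne_zero _).mpr (sub_ne_zero.mpr hcc)
      rw [map_div₀, map_sub, map_sub, map_one, div_eq_iff hne]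
      linear_combination -hc'

end


/-- Over an algebraically closed constant field, a `k`-automorphism of a function field of one variable
of genus `g` that fixes more than `2g + 2` places is the identity. -/
theorem result
    (k K : Type*) [Field k] [IsAlgClosed k] [Field K] [Algebra k K]
    (hK : FunFld.IsFunctionField k K) (σ : K ≃ₐ[k] K)
    (h : ((2 * FunFld.genus k K + 2 : ℕ) : ℕ∞) <
      Set.encard {P : FunFld.Place k K | ∀ x : K, P.1 x < 1 → P.1 (σ x) < 1}) :
    σ = 1 := by
  classical
  by_contra hne
  change ((2 * FunFld.genus k K + 2 : ℕ) : ℕ∞) < Set.encard {P : FunFld.Place k K | IsFixed σ P} at h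
  -- a non-fixed place
  obtain ⟨P, hP⟩ : ∃ P : Place k K, ¬ IsFixed σ P := by
    by_contra hall
    push Not at hall
    exact hne (eq_one_of_forall_fixed hK σ hall)
  set g := FunFld.genus k K with hg
  -- finitely many fixed places, `2g + 3` of them
  obtain ⟨F, hF, hFcard⟩ : ∃ F : Finset (Place k K), (∀ Q ∈ F, IsFixed σ Q) ∧
      F.card = 2 * g + 3 := by
    have h' : ((2 * g + 3 : ℕ) : ℕ∞) ≤ Set.encard {P : FunFld.Place k K | IsFixed σ P} := by
      have := Order.add_one_le_of_lt h
      have e : ((2 * g + 3 : ℕ) : ℕ∞) = ((2 * g + 2 : ℕ) : ℕ∞) + 1 := by push_cast; ring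
      rw [e]
      exact this
    obtain ⟨t, hts, htcard⟩ := Set.exists_subset_encard_eq h'
    have htfin : t.Finite := Set.finite_of_encard_eq_coe htcard
    refine ⟨htfin.toFinset, fun Q hQ => hts (htfin.mem_toFinset.mp hQ), ?_⟩
    have := htfin.encard_eq_coe_toFinset_card
    rw [htcard] at this
    exact_mod_cast this.symm
  have hdegone : ∀ Q : Place k K, Q.deg = 1 := fun Q => FF.Place.deg_eq_one hK Q
  set P' := comapPlace σ.symm P with hP'
  have hσP : comapPlace σ P ≠ P := fun h0 => hP ((isFixed_iff σ P).mpr h0)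
  have hσP' : comapPlace σ P' = P := comapPlace_symm σ P
  set A : Divisor k K := Finsupp.single P ((g : ℤ) + 1) with hA
  set B : Divisor k K := Finsupp.single P' ((g : ℤ) + 1) with hB
  -- a non-constant function in `L(A)`
  have hellA : 2 ≤ ell A := by
    have := FF.delta_le_genus hK A
    rw [hA, FF.deg_single, hdegone P] at this
    push_cast at this
    have h2 : (2 : ℤ) ≤ ell A := by rw [hA]; linarith
    exact_mod_cast h2
  obtain ⟨x, hxA, hxk⟩ : ∃ x : K, x ∈ L A ∧ x ∉ Set.range (algebraMap k K) := by
    by_contra hno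
    push Not at hno
    have hle : L A ≤ L (0 : Divisor k K) := by
      intro x hx
      obtain ⟨c, rfl⟩ := hno x hx
      rw [FF.L_zero hK, Submodule.one_eq_range]
      exact ⟨c, rfl⟩
    have := (FF.finite_L_zero hK).1
    have := Submodule.finrank_mono hle
    rw [(FF.finite_L_zero hK).2] at this
    unfold ell at hellA
    omega
  -- values of `x`
  have hxQ : ∀ Q : Place k K, Q ≠ P → Q.1 x ≤ 1 := by
    intro Q hQ
    have := hxA Q
    rw [hA, Finsupp.single_apply, if_neg (Ne.symm hQ), WithZero.exp_zero] at this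
    exact this
  have hxP : 1 < P.1 x := by
    obtain ⟨Q, hQ⟩ := FF.exists_pole hK hxk
    have hx0 : x ≠ 0 := by
      rintro rfl
      exact hxk ⟨0, map_zero _⟩
    rw [FF.Place.ord_neg_iff Q hx0] at hQ
    by_cases hQP : Q = P
    · rw [← hQP]; exact hQ
    · exact absurd (hxQ Q hQP) (not_le.mpr hQ)
  -- the difference
  set y : K := σ x - x with hy
  set D : Divisor k K := A + B - ∑ Q ∈ F, Finsupp.single Q (1 : ℤ) with hD
  have hsumapply : ∀ Q : Place k K, (∑ Q' ∈ F, (Finsupp.single Q' (1 : ℤ) : Divisor k K)) Q =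
      if Q ∈ F then 1 else 0 := by
    intro Q
    rw [Finsupp.finsetSum_apply]
    simp only [Finsupp.single_apply]
    rw [Finset.sum_ite_eq' F Q]
  have hyD : y ∈ L D := by
    rw [FF.mem_L_iff]
    intro Q
    have hσx : Q.1 (σ x) ≤ WithZero.exp (B Q) := by
      rw [← comapPlace_apply]
      have := hxA (comapPlace σ Q)
      rw [hA, Finsupp.single_apply] at this
      rw [hB, Finsupp.single_apply]
      by_cases hQ : P' = Q
      · rw [if_pos hQ]
        have e : P = comapPlace σ Q := by rw [← hQ, hσP']
        rwa [if_pos e] at this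
      · rw [if_neg hQ]
        have e : ¬ P = comapPlace σ Q := by
          intro e
          apply hQ
          rw [hP', e]
          apply Subtype.ext
          ext z
          rw [comapPlace_apply, comapPlace_apply, AlgEquiv.apply_symm_apply]
        rwa [if_neg e] at this
    by_cases hQF : Q ∈ F
    · -- a fixed place: `y` vanishes there
      have hQfix := hF Q hQF
      have hQP : Q ≠ P := by
        rintro rfl
        exact hP hQfix
      have hQP' : Q ≠ P' := by
        rintro rfl
        apply hP
        intro z hz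
        have h1 : (comapPlace σ.symm P).1 (σ z) < 1 := by
          rw [comapPlace_apply, AlgEquiv.symm_apply_apply]; exact hz
        have h2 := hQfix _ h1
        rw [comapPlace_apply, AlgEquiv.symm_apply_apply] at h2
        exact h2
      have hDQ : D Q = -1 := by
        rw [hD, Finsupp.sub_apply, Finsupp.add_apply, hsumapply, if_pos hQF, hA, hB,
          Finsupp.single_apply, Finsupp.single_apply, if_neg (Ne.symm hQP), if_neg (Ne.symm hQP')]
        norm_num
      rw [hDQ, ← FF.lt_one_iff_le_exp_neg_one]
      obtain ⟨c, hc⟩ := FF.Place.exists_const_sub_lt hK Q (hxQ Q hQP)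
      have hy' : y = σ (x - algebraMap k K c) - (x - algebraMap k K c) := by
        rw [hy, map_sub, σ.commutes c]; ring
      rw [hy']
      exact lt_of_le_of_lt (Valuation.map_sub _ _ _) (max_lt (hQfix _ hc) hc)
    · have hDQ : D Q = A Q + B Q := by
        rw [hD, Finsupp.sub_apply, Finsupp.add_apply, hsumapply, if_neg hQF, sub_zero]
      have hA0 : 0 ≤ A Q := by
        rw [hA, Finsupp.single_apply]; split_ifs <;> omega
      have hB0 : 0 ≤ B Q := by
        rw [hB, Finsupp.single_apply]; split_ifs <;> omega
      rw [hDQ, hy]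
      refine le_trans (Valuation.map_sub _ _ _) (max_le ?_ ?_)
      · exact le_trans hσx (WithZero.exp_le_exp.mpr (by omega))
      · exact le_trans (hxA Q) (WithZero.exp_le_exp.mpr (by omega))
  have hdegD : D.deg < 0 := by
    rw [hD, FF.deg_sub, FF.deg_add, FF.deg_sum, hA, hB, FF.deg_single, FF.deg_single,
      hdegone P, hdegone P']
    have : ∀ Q ∈ F, Divisor.deg (Finsupp.single Q (1 : ℤ) : Divisor k K) = 1 := by
      intro Q _
      rw [FF.deg_single, hdegone Q]; norm_num
    rw [Finset.sum_congr rfl this, Finset.sum_const, hFcard]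
    push_cast
    simp only [nsmul_eq_mul]
    push_cast
    linarith
  rw [FF.L_eq_bot_of_deg_neg hK hdegD, Submodule.mem_bot, hy, sub_eq_zero] at hyD
  have hPP' : P' ≠ P := by
    intro h0
    apply hσP
    rw [← h0] at hσP'
    rw [← h0]
    exact hσP'
  have h1 : P.1 (σ x) ≤ 1 := by
    rw [← comapPlace_apply]
    exact hxQ _ hσP
  rw [hyD] at h1
  exact absurd h1 (not_le.mpr hxP)

end Groth.Agent.S11047
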