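import Groth.Statements.S0454
import Groth.Agent.Lib.Helper7.FreeYoneda

set_option autoImplicit false
universe u
open CategoryTheory
open CohTop

namespace Groth.Agent.S0454


open CategoryTheory Opposite TopologicalSpace Groth.Agent.Lib.helper7

/-- An injective object of the category of abelian sheaves on a topological space is flasque, i.e. all
of its restriction maps are surjective. -/
theorem result {X : TopCat.{u}} (F : CohTop.Ab X) [CategoryTheory.Injective F] :
    TopCat.Sheaf.IsFlasque F := by
  constructor
  intro U V i
  rw [AddCommGrpCat.epi_iff_surjective]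
  intro s
  have hmono : Mono i.unop := ⟨fun _ _ _ => Subsingleton.elim _ _⟩
  let J := Opens.grothendieckTopology X
  let a : (FreeYoneda.freeSheaf J).obj V.unop ⟶ F := (FreeYoneda.homEquiv J V.unop F).symm s
  let b : (FreeYoneda.freeSheaf J).obj U.unop ⟶ F :=
    Injective.factorThru a ((FreeYoneda.freeSheaf J).map i.unop)
  have hb : (FreeYoneda.freeSheaf J).map i.unop ≫ b = a := Injective.comp_factorThru _ _
  refine ⟨FreeYoneda.homEquiv J U.unop F b, ?_⟩
  have := FreeYoneda.homEquiv_naturality_left J i.unop F b
  rw [hb] at this
  simp only [a, Equiv.apply_symm_apply] at this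
  exact this.symm

end Groth.Agent.S0454
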