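import Groth.Statements.S0453
import Groth.Agent.Lib.Helper7.DimShift
import Groth.Agent.S0454

set_option autoImplicit false
universe u
open CategoryTheory
open CohTop

namespace Groth.Agent.S0453


open CategoryTheory Opposite TopologicalSpace Groth.Agent.Lib.helper7

/-- A flasque abelian sheaf F on X has H^(n+1)(X, F) = 0. -/
theorem result {X : TopCat.{u}} (F : CohTop.Ab X) [TopCat.Sheaf.IsFlasque F]
    (n : ℕ) : Subsingleton (CohTop.H F (n + 1)) := by
  let J := Opens.grothendieckTopology X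
  have hT : Limits.IsTerminal (⊤ : Opens X) := Limits.isTerminalTop
  let P : Sheaf J AddCommGrpCat.{u} :=
    (constantSheaf J AddCommGrpCat.{u}).obj (AddCommGrpCat.of (ULift ℤ))
  -- the bijection `Hom(ℤ_X, G) ≃ G(X)` and its naturality
  let e : ∀ G : Sheaf J AddCommGrpCat.{u}, (P ⟶ G) ≃ G.obj.obj (op (⊤ : Opens X)) := fun G =>
    (Abelian.Ext.addEquiv₀ (X := P) (Y := G)).symm.toEquiv.trans (Sheaf.H.equiv₀ G hT).toEquiv
  have he : ∀ {G G' : Sheaf J AddCommGrpCat.{u}} (φ : G ⟶ G') (g : P ⟶ G),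
      e G' (g ≫ φ) = φ.hom.app (op ⊤) (e G g) := by
    intro G G' φ g
    change Sheaf.H.equiv₀ G' hT ((Abelian.Ext.addEquiv₀ (X := P) (Y := G')).symm (g ≫ φ)) =
      φ.hom.app (op ⊤) (Sheaf.H.equiv₀ G hT ((Abelian.Ext.addEquiv₀ (X := P) (Y := G)).symm g))
    rw [Sheaf.H.equiv₀_naturality]
    congr 1
    apply (Abelian.Ext.addEquiv₀ (X := P) (Y := G')).injective
    rw [Sheaf.H.addEquiv₀_map, AddEquiv.apply_symm_apply, AddEquiv.apply_symm_apply]
  have key := DimShift.ext_succ_eq_zero (A := Sheaf J AddCommGrpCat.{u})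
    P (fun G => TopCat.Sheaf.IsFlasque G)
    (fun I hI => Groth.Agent.S0454.result I)
    (fun S hS h₁ h₂ => TopCat.Sheaf.IsFlasque.of_shortExact_of_isFlasque₁₂ hS)
    (fun S hS h₁ g => by
      have hepi : Epi (S.g.1.app (op (⊤ : Opens X))) :=
        TopCat.Sheaf.IsFlasque.epi_of_shortExact hS
      rw [AddCommGrpCat.epi_iff_surjective] at hepi
      obtain ⟨s₂, hs₂⟩ := hepi (e S.X₃ g)
      refine ⟨(e S.X₂).symm s₂, ?_⟩
      apply (e S.X₃).injective
      rw [he, Equiv.apply_symm_apply]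
      exact hs₂)
    n F inferInstance
  exact ⟨fun x y => (key x).trans (key y).symm⟩

end Groth.Agent.S0453
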