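import Groth.Statements.S0493
import Groth.Agent.Lib.Helper27.CechCartan
-- import your own Groth.Agent.* helpers here

set_option autoImplicit false
universe u
open CohTop

namespace Groth.Agent.S0493

open TopologicalSpace CategoryTheory.Limits in
/-- Let B be a basis of opens of X and Cov a class of families of opens such that (1) every family in
Cov has its union, its members and all finite intersections of members in B, (2) for U in B every
open covering of U is refined by a family in Cov with union U, and (3) the Cech cohomology of F in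
positive degrees vanishes for every family in Cov. Then H^(p+1)(U, F) = 0 for every U in B. -/
theorem result {X : TopCat.{u}} (F : CohTop.Ab X)
    (B : Set (Opens X)) (hB : Opens.IsBasis B) (Cov : ∀ (ι : Type u), (ι → Opens X) → Prop)
    (h1 : ∀ (ι : Type u) (V : ι → Opens X), Cov ι V →
      iSup V ∈ B ∧ ∀ (p : ℕ) (a : Fin (p + 1) → ι), (iInf fun k => V (a k)) ∈ B)
    (h2 : ∀ U ∈ B, ∀ (κ : Type u) (W : κ → Opens X), iSup W = U →
      ∃ (ι : Type u) (V : ι → Opens X), Cov ι V ∧ iSup V = U ∧ ∀ i, ∃ k, V i ≤ W k)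
    (h3 : ∀ (ι : Type u) (V : ι → Opens X), Cov ι V → ∀ p : ℕ, IsZero (CohTop.cechH F.obj V (p + 1)))
    (U : Opens X) (hU : U ∈ B) (p : ℕ) : Subsingleton (CohTop.HU F (p + 1) U) := by
  have hprod : ∀ {ι : Type u} (V : ι → Opens X) (n : ℕ) (a : Fin (n + 1) → ι),
      (∏ᶜ (V ∘ a) : Opens X) = iInf fun k => V (a k) := by
    intro ι V n a
    apply le_antisymm
    · exact le_iInf fun k => CategoryTheory.leOfHom (CategoryTheory.Limits.Pi.π (V ∘ a) k)
    · exact CategoryTheory.leOfHom (CategoryTheory.Limits.Pi.lift (fun k => CategoryTheory.homOfLE (iInf_le (fun k => V (a k)) k)))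
  let Cov' : ∀ W : Opens X,
      Set (Groth.Agent.Lib.helper27.CechSite.Datum (Opens.grothendieckTopology X) W) := fun W =>
    {𝒰 | ∃ (ι : Type u) (V : ι → Opens X) (hc : Cov ι V) (hW : iSup V = W),
      𝒰 = Groth.Agent.Lib.helper27.CechSite.datumTop V W hW}
  exact Groth.Agent.Lib.helper27.CechSite.cartan (Opens.grothendieckTopology X) B Cov'
    (by
      rintro W 𝒰 ⟨ι, V, hc, hW, rfl⟩ n a
      show (∏ᶜ (V ∘ a) : Opens X) ∈ B
      rw [hprod]
      exact (h1 ι V hc).2 n a)
    (by
      intro W hW T hT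
      let κ : Type u := {V' : Opens X // ∃ h : V' ≤ W, T.arrows (CategoryTheory.homOfLE h)}
      have hκ : iSup (fun k : κ => k.1) = W := by
        apply le_antisymm
        · exact iSup_le fun k => k.2.choose
        · intro x hx
          obtain ⟨V', f, hf, hxV⟩ := hT x hx
          exact Opens.mem_iSup.2 ⟨⟨V', CategoryTheory.leOfHom f, hf⟩, hxV⟩
      obtain ⟨ι, V, hc, hV, hVW⟩ := h2 W hW κ (fun k => k.1) hκ
      refine ⟨_, ⟨ι, V, hc, hV, rfl⟩, fun i => ?_⟩
      obtain ⟨k, hk⟩ := hVW i
      obtain ⟨hkW, hkT⟩ := k.2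
      have := T.downward_closed hkT (CategoryTheory.homOfLE hk)
      exact this)
    p F
    (by
      rintro W 𝒰 ⟨ι, V, hc, hW, rfl⟩ q
      exact h3 ι V hc q)
    U hU

end Groth.Agent.S0493
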