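import Groth.Statements.S0464
import Groth.Agent.Lib.Helper27.CechSite
-- import your own Groth.Agent.* helpers here

set_option autoImplicit false
universe u
open CategoryTheory
open CohTop

namespace Groth.Agent.S0464

open TopologicalSpace in
/-- Let U_i be a family of opens with union U. If H^(q+1)(U_{i_0} ∩ … ∩ U_{i_p}, F) = 0 for all q and
all finite tuples of indices, then the p-th Cech cohomology of F for this family is isomorphic to
H^p(U, F). -/
theorem result {X : TopCat.{u}} (F : CohTop.Ab X) {ι : Type u}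
    (U : ι → Opens X)
    (h : ∀ (p : ℕ) (a : Fin (p + 1) → ι) (q : ℕ), Subsingleton (CohTop.HU F (q + 1) (iInf fun k => U (a k))))
    (p : ℕ) : Nonempty (CohTop.cechH F.obj U p ≃+ CohTop.HU F p (iSup U)) := by
  have hprod : ∀ (n : ℕ) (a : Fin (n + 1) → ι),
      (∏ᶜ (U ∘ a) : Opens X) = iInf fun k => U (a k) := by
    intro n a
    apply le_antisymm
    · exact le_iInf fun k => leOfHom (Limits.Pi.π (U ∘ a) k)
    · exact leOfHom (Limits.Pi.lift (fun k => homOfLE (iInf_le (fun k => U (a k)) k)))
  obtain ⟨e⟩ := Groth.Agent.Lib.helper27.CechSite.leray (Opens.grothendieckTopology X)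
    (𝟭 (Opens X)) U (W := iSup U) (fun i => homOfLE (le_iSup U i))
    (fun T s s' => Subsingleton.elim _ _)
    (by
      intro x hx
      obtain ⟨i, hi⟩ := Opens.mem_iSup.1 hx
      exact ⟨U i, homOfLE (le_iSup U i), Sieve.ofArrows_mk _ _ i, hi⟩)
    (fun i j Z gi gj hij => ⟨Z, 𝟙 Z, gi, gj, by simp, by simp⟩)
    (fun I hI n => Groth.Agent.Lib.helper27.Cech.exactAt_of_injective U I n)
    F (fun n a q => by
      show Subsingleton (CohTop.HU F (q + 1) (∏ᶜ (U ∘ a)))
      rw [hprod]
      exact h n a q) p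
  exact ⟨e.addCommGroupIsoToAddEquiv⟩

end Groth.Agent.S0464
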