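import Groth.Statements.S16289
import Mathlib
import Groth.Agent.Lib.Helper21.SheafHomExact
import Groth.Agent.Lib.Helper27.FunLES
-- import your own Groth.Agent.* helpers here

set_option autoImplicit false
universe u
open CategoryTheory CategoryTheory.Limits AlgebraicGeometry
open Coherent

namespace Groth.Agent.S16289

open Groth.Agent.Lib.helper21.SheafHomExact Groth.Agent.Lib.helper21.ModElt
  Groth.Agent.Lib.Helper21.TensorW Groth.Agent.Lib.Helper21.TensorAdj in
/-- the contravariance maps of `ℋom` compose to zero on a complex -/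
lemma sheafHomMap_comp_zero {C : Type u} [SmallCategory C] {J : GrothendieckTopology C}
    {O : Sheaf J CommRingCat.{u}} (S : ShortComplex (ModSite.Mod O))
    [ModSite.HasSheafHom S.X₁] [ModSite.HasSheafHom S.X₂] [ModSite.HasSheafHom S.X₃] :
    ExtSupp.sheafHomMap S.g ≫ ExtSupp.sheafHomMap S.f = 0 := by
  unfold ExtSupp.sheafHomMap
  rw [conjugateEquiv_comp, ← Functor.map_comp, S.zero]
  ext N : 2
  rw [conjugateEquiv_apply_app]
  have h0 : ((ModSite.tensorBi O).flip.map (0 : S.X₁ ⟶ S.X₃)).app ((ModSite.sheafHom S.X₃).obj N) = 0 := by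
    haveI : ((ModSite.tensorBi O).obj ((ModSite.sheafHom S.X₃).obj N)).IsLeftAdjoint :=
      Groth.Agent.Lib.Helper21.TensorMon.isLeftAdjoint_tensL O _
    exact ((ModSite.tensorBi O).obj ((ModSite.sheafHom S.X₃).obj N)).map_zero _ _
  rw [h0, Functor.map_zero, zero_comp, comp_zero]
  rfl

open Groth.Agent.Lib.helper21.SheafHomExact Groth.Agent.Lib.helper21.ModElt
  Groth.Agent.Lib.Helper21.TensorW Groth.Agent.Lib.Helper21.TensorAdj in
lemma hexSite {C : Type u} [SmallCategory C] {J : GrothendieckTopology C}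
    {O : Sheaf J CommRingCat.{u}} (S : ShortComplex (ModSite.Mod O)) (hS : S.ShortExact)
    [ModSite.HasSheafHom S.X₁] [ModSite.HasSheafHom S.X₂] [ModSite.HasSheafHom S.X₃]
    (I : ModSite.Mod O) (hI : Injective I) (V : C) :
    Function.Injective (amap (pvMap ((ExtSupp.sheafHomMap S.g).app I)) (Opposite.op V)) ∧
    (∀ y, amap (pvMap ((ExtSupp.sheafHomMap S.f).app I)) (Opposite.op V) y = 0 →
      ∃ x, amap (pvMap ((ExtSupp.sheafHomMap S.g).app I)) (Opposite.op V) x = y) ∧
    Function.Surjective (amap (pvMap ((ExtSupp.sheafHomMap S.f).app I)) (Opposite.op V)) := by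
  haveI := hS.epi_g
  haveI := hS.mono_f
  haveI := hI
  exact ⟨injective_sheafHomMap_of_epi S.g I V, fun y hy => exact_sheafHomMap S hS.exact I V y hy,
    surjective_sheafHomMap_of_mono S.f I V⟩

open Groth.Agent.Lib.helper21.SheafHomExact Groth.Agent.Lib.helper21.ModElt
  Groth.Agent.Lib.Helper21.TensorW Groth.Agent.Lib.Helper21.TensorAdj in
lemma monoSite {C : Type u} [SmallCategory C] {J : GrothendieckTopology C}
    {O : Sheaf J CommRingCat.{u}} (S : ShortComplex (ModSite.Mod O)) (hS : S.ShortExact)
    [ModSite.HasSheafHom S.X₂] [ModSite.HasSheafHom S.X₃]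
    (G : ModSite.Mod O) (V : C) :
    Function.Injective (amap (pvMap ((ExtSupp.sheafHomMap S.g).app G)) (Opposite.op V)) := by
  haveI := hS.epi_g
  exact injective_sheafHomMap_of_epi S.g G V


/-- For relative Ext sheaves in the first variable; let f : X → Y be a morphism of schemes, 0 → F' → F →
F'' → 0 a short exact sequence of O_X-modules (S below, with S.X₁ = F', S.X₂ = F, S.X₃ = F'') and G
an O_X-module. For an O_X-module M write Ext^p_f(M, -) for the p-th right derived functor of the
left exact functor G ↦ f_* Hom_{O_X}(M, G), and for u : M' → M write u^* : Ext^p_f(M, G) →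
Ext^p_f(M', G) for the map induced (right derived natural transformation) by Hom(M, -) → Hom(M', -).
Then Ext^0_f(F'', G) → Ext^0_f(F, G) is a monomorphism, for every p the pair Ext^p_f(F'', G) →
Ext^p_f(F, G) → Ext^p_f(F', G) composes to zero and is exact, and there are connecting morphisms δ_p
: Ext^p_f(F', G) → Ext^{p+1}_f(F'', G) making Ext^p_f(F, G) → Ext^p_f(F', G) → Ext^{p+1}_f(F'', G)
and Ext^p_f(F', G) → Ext^{p+1}_f(F'', G) → Ext^{p+1}_f(F, G) compose to zero and exact. (Stated for
schemes, the published statement being for ringed spaces; the connecting maps are asserted to exist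
only. The internal Hom functors, injective resolutions and additivity of the composite functors are
the stated instance hypotheses, all true.) -/
theorem result (X Y : Scheme.{u}) (f : X ⟶ Y) (S : ShortComplex X.Modules) (hS : S.ShortExact)
    (G : X.Modules)
    [ModSite.HasSheafHom (O := X.sheaf) S.X₁] [ModSite.HasSheafHom (O := X.sheaf) S.X₂] [ModSite.HasSheafHom (O := X.sheaf) S.X₃]
    [HasInjectiveResolutions (ModSite.Mod X.sheaf)]
    [(ModSite.sheafHom (O := X.sheaf) S.X₁ ⋙ Scheme.Modules.pushforward f).Additive]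
    [(ModSite.sheafHom (O := X.sheaf) S.X₂ ⋙ Scheme.Modules.pushforward f).Additive]
    [(ModSite.sheafHom (O := X.sheaf) S.X₃ ⋙ Scheme.Modules.pushforward f).Additive] :
    Mono ((NatTrans.rightDerived (Functor.whiskerRight (ExtSupp.sheafHomMap (O := X.sheaf) S.g) (Scheme.Modules.pushforward f)) 0).app G) ∧
    (∀ p : ℕ, ∃ w : (NatTrans.rightDerived (Functor.whiskerRight (ExtSupp.sheafHomMap (O := X.sheaf) S.g) (Scheme.Modules.pushforward f)) p).app G ≫ (NatTrans.rightDerived (Functor.whiskerRight (ExtSupp.sheafHomMap (O := X.sheaf) S.f) (Scheme.Modules.pushforward f)) p).app G = 0,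
      (ShortComplex.mk _ _ w).Exact) ∧
    ∃ δ : ∀ p : ℕ, ((ModSite.sheafHom (O := X.sheaf) S.X₁ ⋙ Scheme.Modules.pushforward f).rightDerived p).obj G ⟶ ((ModSite.sheafHom (O := X.sheaf) S.X₃ ⋙ Scheme.Modules.pushforward f).rightDerived (p + 1)).obj G,
      ∀ p : ℕ,
        (∃ w : (NatTrans.rightDerived (Functor.whiskerRight (ExtSupp.sheafHomMap (O := X.sheaf) S.f) (Scheme.Modules.pushforward f)) p).app G ≫ δ p = 0, (ShortComplex.mk _ _ w).Exact) ∧
        (∃ w : δ p ≫ (NatTrans.rightDerived (Functor.whiskerRight (ExtSupp.sheafHomMap (O := X.sheaf) S.g) (Scheme.Modules.pushforward f)) (p + 1)).app G = 0, (ShortComplex.mk _ _ w).Exact) := by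
  classical
  haveI : HasInjectiveResolutions X.Modules :=
    inferInstanceAs (HasInjectiveResolutions (ModSite.Mod X.sheaf))
  let P : X.Modules ⥤ Y.Modules := Scheme.Modules.pushforward f
  let α := Functor.whiskerRight (ExtSupp.sheafHomMap (O := X.sheaf) S.g) P
  let β := Functor.whiskerRight (ExtSupp.sheafHomMap (O := X.sheaf) S.f) P
  have w : α ≫ β = 0 := by
    have h := sheafHomMap_comp_zero (O := X.sheaf) S
    refine (Functor.whiskerRight_comp _ _ P).symm.trans ?_
    refine (congrArg (fun t => Functor.whiskerRight t P) h).trans ?_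
    ext N : 2
    exact P.map_zero _ _
  have hex : ∀ (I : X.Modules), Injective I →
      (ShortComplex.mk (α.app I) (β.app I) (by rw [← NatTrans.comp_app, w]; rfl)).ShortExact := by
    intro I hI
    have key := fun V : TopologicalSpace.Opens Y => hexSite (O := X.sheaf) S hS I hI
      ((TopologicalSpace.Opens.map f.base).obj V)
    apply Groth.Agent.Lib.helper21.SheafHomExact.shortExact_of_sections (O := Y.sheaf)
    · intro V
      exact (key V.unop).1
    · intro V y hy
      exact (key V.unop).2.1 y hy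
    · intro V
      exact (key V.unop).2.2
  refine ⟨?_, fun p => ⟨Groth.Agent.Lib.helper27.FunLES.α_comp_β α β w p G,
    Groth.Agent.Lib.helper27.FunLES.exact₂ α β w hex p G⟩,
    ⟨fun p => Groth.Agent.Lib.helper27.FunLES.δApp α β w hex p G, fun p =>
      ⟨⟨Groth.Agent.Lib.helper27.FunLES.β_comp_δApp α β w hex p G,
        Groth.Agent.Lib.helper27.FunLES.exact₃ α β w hex p G⟩,
      ⟨Groth.Agent.Lib.helper27.FunLES.δApp_comp_α α β w hex p G,
        Groth.Agent.Lib.helper27.FunLES.exact₁ α β w hex p G⟩⟩⟩⟩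
  -- the monomorphism in degree zero
  haveI hlimf : PreservesFiniteLimits P := by
    haveI := (Scheme.Modules.pullbackPushforwardAdjunction f).rightAdjoint_preservesLimits
    exact PreservesLimitsOfSize.preservesFiniteLimits.{u, u} _
  haveI hlim3 : PreservesFiniteLimits (ModSite.sheafHom (O := X.sheaf) S.X₃) := by
    haveI := (ModSite.sheafHomAdj (O := X.sheaf) S.X₃).rightAdjoint_preservesLimits
    exact PreservesLimitsOfSize.preservesFiniteLimits.{u, u} _
  haveI hlim2 : PreservesFiniteLimits (ModSite.sheafHom (O := X.sheaf) S.X₂) := by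
    haveI := (ModSite.sheafHomAdj (O := X.sheaf) S.X₂).rightAdjoint_preservesLimits
    exact PreservesLimitsOfSize.preservesFiniteLimits.{u, u} _
  haveI : PreservesFiniteLimits (ModSite.sheafHom (O := X.sheaf) S.X₃ ⋙ P) :=
    @comp_preservesFiniteLimits _ _ _ _ _ _ (ModSite.sheafHom (O := X.sheaf) S.X₃) P hlim3 hlimf
  haveI : PreservesFiniteLimits (ModSite.sheafHom (O := X.sheaf) S.X₂ ⋙ P) :=
    @comp_preservesFiniteLimits _ _ _ _ _ _ (ModSite.sheafHom (O := X.sheaf) S.X₂) P hlim2 hlimf
  have hnat := Groth.Agent.Lib.helper27.FunLES.toRightDerivedZero_naturality α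
  have hnatG := congrArg (fun t => t.app G) hnat
  simp only [NatTrans.comp_app] at hnatG
  haveI : Mono (α.app G) := by
    apply Groth.Agent.Lib.helper21.ModElt.mono_of_injective (O := Y.sheaf)
    intro V
    exact monoSite (O := X.sheaf) S hS G ((TopologicalSpace.Opens.map f.base).obj V.unop)
  haveI : Mono ((ModSite.sheafHom (O := X.sheaf) S.X₃ ⋙ P).toRightDerivedZero.app G ≫
      (NatTrans.rightDerived α 0).app G) := by
    rw [← hnatG]
    infer_instance
  have e : (NatTrans.rightDerived α 0).app G =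
      inv ((ModSite.sheafHom (O := X.sheaf) S.X₃ ⋙ P).toRightDerivedZero.app G) ≫
        ((ModSite.sheafHom (O := X.sheaf) S.X₃ ⋙ P).toRightDerivedZero.app G ≫
          (NatTrans.rightDerived α 0).app G) := by
    rw [IsIso.inv_hom_id_assoc]
  rw [e]
  infer_instance

end Groth.Agent.S16289
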