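import Groth.Statements.S0022
import Groth.Agent.S0010
import Groth.Agent.Lib.Helper19.ProjSpaceProper
import Groth.Agent.Lib.Helper20.ProjGamma

set_option autoImplicit false
universe u
open Coherent

namespace Groth.Agent.S0022

open AlgebraicGeometry in
/-- For any ring R, any quasi-coherent module F on projective space ℙ^n_R and any i > n, H^i(ℙ^n_R, F) =
0. (The published statement is for coherent modules over a Noetherian ring; it is stated here for
quasi-coherent modules over any ring.) -/
theorem result (n : ℕ) (R : Type u) [CommRing R]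
    (M : (CohB1.ProjSpace n R).Modules) [Coh.IsQCoh M] (i : ℕ) (hi : n < i) :
    Subsingleton (Coh.HH (CohB1.ProjSpace n R) M i) := by
  have hsep : IsSeparated (CohB1.ProjSpace.toSpec n R) := inferInstance
  have hdiag : IsAffineHom (CategoryTheory.Limits.pullback.diagonal (CohB1.ProjSpace.toSpec n R)) :=
    inferInstance
  refine Groth.Agent.S0010.result (CohB1.ProjSpace n R) (n + 1)
    (fun k => Proj.basicOpen (CohB1.polyGrading n R) (MvPolynomial.X k)) ?_ ?_ ?_ M i hi
  · intro k
    exact Proj.isAffineOpen_basicOpen _ _ (Groth.Agent.Lib.Helper20.ProjGamma.X_mem n R k) one_pos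
  · exact Proj.iSup_basicOpen_eq_top _ _ (Groth.Agent.Lib.Helper20.ProjGamma.irrelevant_le n R)
  · intro V W hV hW
    exact isAffineHom_diagonal_iff.mp hdiag ⊤ (isAffineOpen_top _) V (by simp) W (by simp) hV hW

end Groth.Agent.S0022
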