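import Groth.Statements.S0844
import Groth.Agent.S0013
import Groth.Agent.S0022
import Groth.Agent.Lib.Helper19.ProjSpaceProper
import Groth.Agent.Lib.Helper20.ProjGamma
import Groth.Agent.Lib.Helper20.ProjCechTw
import Groth.Agent.Lib.Helper28.TwistQCoh

set_option autoImplicit false
universe u
open Coherent

namespace Groth.Agent.S0844

open CategoryTheory AlgebraicGeometry in
/-- For a ring R, n ≥ 0, d ∈ ℤ and q ≥ 0, the group H^q(P^n_R, O(d)) is zero unless q = 0 and d ≥ 0, or
q = n and d ≤ -n-1. -/
theorem result (R : Type u) [CommRing R] (n : ℕ) (d : ℤ) (q : ℕ)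
    (h₀ : ¬ (q = 0 ∧ 0 ≤ d)) (hn : ¬ (q = n ∧ d ≤ -((n : ℤ) + 1))) :
    Subsingleton (Coh.HH (CohB1.ProjSpace n R) (Twist.twistProjSpace n R d) q) := by
  have hqc : Coh.IsQCoh (Twist.twistProjSpace n R d) :=
    Groth.Agent.Lib.helper28.TwistQCoh.twist_isQuasicoherent (CohB1.polyGrading n R) d
  by_cases hqn : n < q
  · exact Groth.Agent.S0022.result n R (Twist.twistProjSpace n R d) q hqn
  have hcov : ⨆ k, Groth.Agent.Lib.Helper20.ProjCechO.U n R k = ⊤ := by
    have h1 := Proj.iSup_basicOpen_eq_top (CohB1.polyGrading n R)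
      (MvPolynomial.X : Fin (n + 1) → MvPolynomial (Fin (n + 1)) R)
      (Groth.Agent.Lib.Helper20.ProjGamma.irrelevant_le n R)
    rw [← h1]
    apply le_antisymm
    · exact iSup_le fun k => le_iSup (fun i : Fin (n + 1) =>
        Proj.basicOpen (CohB1.polyGrading n R) (MvPolynomial.X i)) k.down
    · exact iSup_le fun i => le_iSup (Groth.Agent.Lib.Helper20.ProjCechO.U n R) (ULift.up i)
  have hsep : IsSeparated (CohB1.ProjSpace.toSpec n R) := inferInstance
  have hdiag : IsAffineHom (CategoryTheory.Limits.pullback.diagonal (CohB1.ProjSpace.toSpec n R)) :=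
    inferInstance
  have hU : ∀ s : Finset (Groth.Agent.Lib.Helper20.ProjCechO.ι n), s.Nonempty →
      IsAffineOpen (⨅ i ∈ s, Groth.Agent.Lib.Helper20.ProjCechO.U n R i) := by
    intro s hs
    induction hs using Finset.Nonempty.cons_induction with
    | singleton a =>
      simp only [Finset.mem_singleton, iInf_iInf_eq_left]
      exact Proj.isAffineOpen_basicOpen _ _
        (Groth.Agent.Lib.Helper20.ProjGamma.X_mem n R a.down) one_pos
    | cons a s ha hs ih =>
      rw [Finset.cons_eq_insert, Finset.iInf_insert]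
      exact isAffineHom_diagonal_iff.mp hdiag ⊤ (isAffineOpen_top _) _
        (by rw [Scheme.Hom.preimage_top]; exact le_top) _
        (by rw [Scheme.Hom.preimage_top]; exact le_top)
        (Proj.isAffineOpen_basicOpen _ _
          (Groth.Agent.Lib.Helper20.ProjGamma.X_mem n R a.down) one_pos) ih
  obtain ⟨e⟩ := Groth.Agent.S0013.result (CohB1.ProjSpace n R)
    (Groth.Agent.Lib.Helper20.ProjCechO.U n R) hcov hU (Twist.twistProjSpace n R d) q
  have hex : ((cechComplexFunctor (Groth.Agent.Lib.Helper20.ProjCechO.U n R)).obj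
      (Groth.Agent.Lib.Helper20.ProjCechTw.Fd n R d)).ExactAt q := by
    rcases Nat.eq_zero_or_pos q with hq0 | hqpos
    · subst hq0
      have hd : d < 0 := by
        by_contra hd
        exact h₀ ⟨rfl, by omega⟩
      have hn1 : 1 ≤ n := by
        by_contra hn0
        have hn0' : n = 0 := by omega
        apply hn
        refine ⟨hn0'.symm, ?_⟩
        rw [hn0']
        simp
        omega
      exact Groth.Agent.Lib.Helper20.ProjCechTw.exactAt_zero_cech_tw n R d hd hn1
    · obtain ⟨p, rfl⟩ : ∃ p, q = p + 1 := ⟨q - 1, by omega⟩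
      apply Groth.Agent.Lib.Helper20.ProjCechTw.exactAt_cech_tw n R d p
      by_cases hpn : p + 1 = n
      · right
        by_contra hd
        exact hn ⟨hpn, by omega⟩
      · left
        omega
  rw [HomologicalComplex.exactAt_iff_isZero_homology] at hex
  have hsub : Subsingleton (CohB1.cechH (Groth.Agent.Lib.Helper20.ProjCechO.U n R)
      (Twist.twistProjSpace n R d) q) :=
    AddCommGrpCat.subsingleton_of_isZero hex
  exact @Equiv.subsingleton _ _ e.symm.toEquiv hsub

end Groth.Agent.S0844
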