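import Groth.Statements.S0019
import Mathlib
import Groth.Agent.Lib.Helper16.QCohAffinePush

set_option autoImplicit false
universe u
open Coherent

namespace Groth.Agent.S0019

section helpers
open CategoryTheory CategoryTheory.Limits AlgebraicGeometry TopologicalSpace

open Opposite
open Groth.Agent.Lib.helper16.CohFinite Groth.Agent.Lib.helper16.QCohPush
  Groth.Agent.Lib.helper16.QCohAffinePush

/-- sections of the pushforward along a finite morphism of a module with finite sections -/
theorem finite_push_sections {X Y : Scheme.{u}} (f : X ⟶ Y) [IsFinite f] (F : X.Modules)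
    {V : Y.Opens} (hV : IsAffineOpen V) (h : Module.Finite Γ(X, f ⁻¹ᵁ V) Γ(F, f ⁻¹ᵁ V)) :
    Module.Finite Γ(Y, V) Γ(push f F, V) := by
  have hfin : (f.app V).hom.Finite := IsFinite.finite_app f V hV
  letI : Algebra Γ(Y, V) Γ(X, f ⁻¹ᵁ V) := (f.app V).hom.toAlgebra
  haveI : Module.Finite Γ(Y, V) Γ(X, f ⁻¹ᵁ V) := hfin
  letI : Module Γ(X, f ⁻¹ᵁ V) Γ(push f F, V) := inferInstanceAs (Module Γ(X, f ⁻¹ᵁ V) Γ(F, f ⁻¹ᵁ V))
  haveI : Module.Finite Γ(X, f ⁻¹ᵁ V) Γ(push f F, V) := h
  haveI : IsScalarTower Γ(Y, V) Γ(X, f ⁻¹ᵁ V) Γ(push f F, V) :=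
    ⟨fun a b m => by
      change ((f.app V).hom a * b) • (show Γ(F, f ⁻¹ᵁ V) from m) = (f.app V).hom a • (b • (show Γ(F, f ⁻¹ᵁ V) from m))
      rw [mul_smul]⟩
  exact Module.Finite.trans Γ(X, f ⁻¹ᵁ V) Γ(push f F, V)

theorem main {X Y : Scheme.{u}} (f : X ⟶ Y) [IsFinite f]
    (M : X.Modules) (hM : Coh.IsCoh M) : Coh.IsCoh ((Coh.push f).obj M) := by
  haveI : M.IsQuasicoherent := hM.1
  haveI : (push f M).IsQuasicoherent := isQuasicoherent_push f M
  refine isCoh_of_finite_sections (push f M) (fun V : Y.affineOpens => V.1) (fun V => V.2)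
    (iSup_affineOpens_eq_top Y) (fun V => ?_)
  exact finite_push_sections f M V.2 (finite_sections_of_isCoh M hM (V.2.preimage f))


end helpers


open AlgebraicGeometry in
/-- If f : X → Y is a finite morphism of schemes with Y locally Noetherian and F is a coherent
O_X-module, then the direct image f_*F is a coherent O_Y-module. -/
theorem result {X Y : Scheme.{u}} (f : X ⟶ Y) [IsFinite f] [IsLocallyNoetherian Y]
    (M : X.Modules) (hM : Coh.IsCoh M) : Coh.IsCoh ((Coh.push f).obj M) := by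
  exact main f M hM

end Groth.Agent.S0019
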