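import Groth.Statements.S0820
import Groth.Agent.Lib.Helper8.PushSupp

set_option autoImplicit false
universe u
open Coherent

namespace Groth.Agent.S0820

open CategoryTheory AlgebraicGeometry in
/-- Let f : Y → X be finite and surjective with X locally Noetherian, and let i : Z → X be a closed
immersion from an integral scheme, ξ the image of the generic point of Z. Then some coherent
O_Y-module F has f_* F supported exactly on i(Z), with the stalk of f_* F at ξ killed by every
element of 𝔪_{X,ξ}, the maximal ideal of O_{X,ξ}. -/
theorem result {Y X : Scheme.{u}} (f : Y ⟶ X) [IsFinite f]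
    [Surjective f] [IsLocallyNoetherian X] (Z : Scheme.{u}) (i : Z ⟶ X) [IsClosedImmersion i] [IsIntegral Z] :
    ∃ F : Y.Modules, Coh.IsCoh F ∧ CohB1.support ((Coh.push f).obj F) = Set.range ⇑i ∧
      ∀ a ∈ IsLocalRing.maximalIdeal (X.presheaf.stalk (i (genericPoint Z))),
        ∀ m : ↑(((Coh.push f).obj F).presheaf.stalk (i (genericPoint Z))), a • m = 0 := by
  let i' : CategoryTheory.Limits.pullback f i ⟶ Y := CategoryTheory.Limits.pullback.fst f i
  let f' : CategoryTheory.Limits.pullback f i ⟶ Z := CategoryTheory.Limits.pullback.snd f i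
  haveI : IsClosedImmersion i' := inferInstance
  haveI : IsAffineHom (i' ≫ f) := inferInstance
  let O' : (CategoryTheory.Limits.pullback f i).Modules := Coh.structureModule (CategoryTheory.Limits.pullback f i)
  let F : Y.Modules := (Scheme.Modules.pushforward i').obj O'
  have hFc : Coh.IsCoh F := Groth.Agent.Lib.helper8.Dev.isCoh_push_structureModule i'
  let e1 : (Scheme.Modules.pushforward f).obj F ≅ (Scheme.Modules.pushforward (i' ≫ f)).obj O' :=
    (Scheme.Modules.pushforwardComp i' f).app O'
  let e2 : (Scheme.Modules.pushforward (i' ≫ f)).obj O' ≅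
      (Scheme.Modules.pushforward (f' ≫ i)).obj O' :=
    (Scheme.Modules.pushforwardCongr (CategoryTheory.Limits.pullback.condition : i' ≫ f = f' ≫ i)).app O'
  let e3 : (Scheme.Modules.pushforward (f' ≫ i)).obj O' ≅
      (Scheme.Modules.pushforward i).obj ((Scheme.Modules.pushforward f').obj O') :=
    ((Scheme.Modules.pushforwardComp f' i).app O').symm
  let e : (Scheme.Modules.pushforward f).obj F ≅
      (Scheme.Modules.pushforward i).obj ((Scheme.Modules.pushforward f').obj O') :=
    e1 ≪≫ e2 ≪≫ e3
  refine ⟨F, hFc, ?_, ?_⟩
  · apply Set.Subset.antisymm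
    · exact Groth.Agent.Lib.helper8.SchemeSupport.support_subset_range_of_iso _ i _ e.symm
    · change _ ⊆ CohB1.support ((Scheme.Modules.pushforward f).obj F)
      rw [Groth.Agent.Lib.helper8.StalkLen.support_eq_of_iso e1]
      have hr : Set.range ⇑i = Set.range ⇑(i' ≫ f) := by
        have h1 : Set.range ⇑(i' ≫ f) = ⇑f '' Set.range ⇑i' := by
          rw [← Set.range_comp]
          rfl
        rw [h1, AlgebraicGeometry.Scheme.Pullback.range_fst, Set.image_preimage_eq_of_subset]
        rw [f.surjective.range_eq]
        exact Set.subset_univ _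
      rw [hr]
      exact Groth.Agent.Lib.helper8.StalkLen.range_subset_support_push_structure (i' ≫ f)
  · intro a ha m
    have hk : ClSub.KilledByIdeal i.ker ((Coh.push f).obj F) := by
      intro U a' ha' m'
      have h1 := Groth.Agent.Lib.helper8.Dev.killedByIdeal_ker_push i
        ((Scheme.Modules.pushforward f').obj O') U a' ha' ((e.hom.app U.1).hom m')
      have h2 : (e.hom.app U.1).hom (a' • m') = 0 :=
        (Scheme.Modules.Hom.app_smul e.hom a' m').trans h1
      have h3 : (e.inv.app U.1).hom ((e.hom.app U.1).hom (a' • m')) = a' • m' := by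
        rw [← ConcreteCategory.comp_apply, ← Scheme.Modules.Hom.comp_app, e.hom_inv_id]
        rfl
      rw [← h3, h2]
      exact map_zero _
    exact Groth.Agent.Lib.helper8.StalkLen.smul_stalk_eq_zero_of_killed i _ hk a ha m

end Groth.Agent.S0820
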