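import Groth.Statements.S9523
import Groth.Agent.Lib.Helper8.DevAnn
import Groth.Agent.Lib.Helper7.IdealComap
import Groth.Agent.Lib.Helper16.QCohAffinePush
import Groth.Agent.Lib.Helper16.QCohEpi

set_option autoImplicit false
universe u
open CategoryTheory CategoryTheory.Limits AlgebraicGeometry
attribute [local instance] HasDerivedCategory.standard
open Coherent

namespace Groth.Agent.S9523

section Aux

open Groth.Agent.Lib.helper8.Dev Scheme.Modules

variable {Y X : Scheme.{u}} (f : Y ⟶ X) [IsAffineHom f] (F : Y.Modules) [F.IsQuasicoherent]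
  (I : X.IdealSheafData)

theorem smul_mem_of_mem_map {A B N : Type*} [CommRing A] [CommRing B] [AddCommGroup N]
    [Module A N] [Module B N] (φ : A →+* B) (hcompat : ∀ (a : A) (n : N), a • n = φ a • n)
    (𝔞 : Ideal A) (x : B) (hx : x ∈ 𝔞.map φ) (n : N) :
    x • n ∈ 𝔞 • (⊤ : Submodule A N) := by
  have key : ∀ x ∈ 𝔞.map φ, ∀ n : N, x • n ∈ 𝔞 • (⊤ : Submodule A N) := by
    intro x hx
    refine Submodule.span_induction (p := fun x _ => ∀ n : N, x • n ∈ 𝔞 • (⊤ : Submodule A N))
      ?_ ?_ ?_ ?_ hx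
    · rintro _ ⟨a, ha, rfl⟩ n
      rw [← hcompat]
      exact Submodule.smul_mem_smul ha trivial
    · intro n
      rw [zero_smul]
      exact Submodule.zero_mem _
    · intro x y _ _ hx hy n
      rw [add_smul]
      exact Submodule.add_mem _ (hx n) (hy n)
    · intro b x _ hx n
      rw [smul_eq_mul, mul_comm, mul_smul]
      exact hx (b • n)
  exact key x hx n

/-- the two submodules `I · f_* F` and `f_* ((f⁻¹ I) F)` of `f_* F` have the same sections over
affine opens -/
theorem mem_iff (U : X.Opens) (hU : IsAffineOpen U) (m : Γ((pushforward f).obj F, U)) :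
    m ∈ I.ideal ⟨U, hU⟩ • (⊤ : Submodule Γ(X, U) Γ((pushforward f).obj F, U)) ↔
      (show Γ(F, f ⁻¹ᵁ U) from m) ∈ (I.comap f).ideal ⟨f ⁻¹ᵁ U, hU.preimage f⟩ •
        (⊤ : Submodule Γ(Y, f ⁻¹ᵁ U) Γ(F, f ⁻¹ᵁ U)) := by
  have hideal : (I.comap f).ideal ⟨f ⁻¹ᵁ U, hU.preimage f⟩ =
      (I.ideal ⟨U, hU⟩).map (f.app U).hom := by
    rw [Groth.Agent.Lib.helper7.IdealComap.ideal_comap f I hU (hU.preimage f) le_rfl,
      Scheme.Hom.appLE_eq_app]
  constructor
  · intro hm
    refine Submodule.smul_induction_on hm (fun a ha n _ => ?_) (fun x y hx hy => ?_)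
    · have h1 : (show Γ(F, f ⁻¹ᵁ U) from a • n) =
          ((f.app U).hom a) • (show Γ(F, f ⁻¹ᵁ U) from n) := rfl
      rw [h1]
      refine Submodule.smul_mem_smul ?_ trivial
      rw [hideal]
      exact Ideal.mem_map_of_mem _ ha
    · exact Submodule.add_mem _ hx hy
  · intro hm
    rw [hideal] at hm
    refine Submodule.smul_induction_on hm (fun b hb n _ => ?_) (fun x y hx hy => ?_)
    · exact @smul_mem_of_mem_map Γ(X, U) Γ(Y, f ⁻¹ᵁ U) Γ(F, f ⁻¹ᵁ U) _ _ _
        (inferInstance : Module Γ(X, U) Γ((pushforward f).obj F, U)) _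
        (f.app U).hom (fun a n => rfl) (I.ideal ⟨U, hU⟩) b hb n
    · exact Submodule.add_mem _ hx hy

end Aux

/-- Let f : Y → X be an affine morphism of schemes, F a quasi-coherent O_Y-module and I a quasi-coherent
sheaf of ideals on X. Then I·f_*F = f_*((f⁻¹I O_Y)·F) as submodules of f_*F: there is an isomorphism
I·f_*F ≅ f_*((f⁻¹I O_Y)·F) whose composite with f_* of the inclusion (f⁻¹I O_Y)·F → F is the
inclusion I·f_*F → f_*F. (J·M denotes the submodule sheaf Dual3.idealMul J M; f⁻¹I O_Y is the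
pulled-back ideal sheaf I.comap f.) -/
theorem result {Y X : Scheme.{u}} (f : Y ⟶ X) [IsAffineHom f]
    (F : Y.Modules) (hF : Coh.IsQCoh F) (I : X.IdealSheafData) :
    ∃ e : (Dual3.idealMul I).obj ((Scheme.Modules.pushforward f).obj F) ≅
        (Scheme.Modules.pushforward f).obj ((Dual3.idealMul (I.comap f)).obj F),
      e.hom ≫ (Scheme.Modules.pushforward f).map (Dual3.idealMulι (I.comap f) F) =
        Dual3.idealMulι I ((Scheme.Modules.pushforward f).obj F) := by
  classical
  haveI : F.IsQuasicoherent := hF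
  haveI : ((Scheme.Modules.pushforward f).obj F).IsQuasicoherent :=
    Groth.Agent.Lib.helper16.QCohAffinePush.isQuasicoherent_push f F
  haveI : (Scheme.Modules.pushforward f).IsRightAdjoint :=
    (Scheme.Modules.pullbackPushforwardAdjunction f).isRightAdjoint
  let ιL := Groth.Agent.Lib.helper8.Dev.idealSubι I ((Scheme.Modules.pushforward f).obj F)
  let ιR := (Scheme.Modules.pushforward f).map
    (Groth.Agent.Lib.helper8.Dev.idealSubι (I.comap f) F)
  haveI : Mono ιL := inferInstanceAs (Mono (Groth.Agent.Lib.helper8.Dev.idealSubι _ _))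
  haveI : Mono ιR := inferInstance
  have hLR : ιL ≫ cokernel.π ιR = 0 := by
    refine Groth.Agent.Lib.helper16.QCohEpi.hom_ext_of_basis _ _ {U | IsAffineOpen U}
      X.isBasis_affineOpens (fun U hU t => ?_)
    have hmem := (Groth.Agent.Lib.helper8.Dev.exists_idealSubι_app_eq_iff I
      ((Scheme.Modules.pushforward f).obj F) hU _).mp ⟨t, rfl⟩
    rw [mem_iff f F I U hU] at hmem
    obtain ⟨t', ht'⟩ := (Groth.Agent.Lib.helper8.Dev.exists_idealSubι_app_eq_iff (I.comap f) F
      (hU.preimage f) _).mpr hmem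
    have h1 : ((ιL ≫ cokernel.π ιR).app U).hom t =
        ((cokernel.π ιR).app U).hom ((ιL.app U).hom t) := rfl
    have h2 : (ιL.app U).hom t = (ιR.app U).hom t' := ht'.symm
    rw [h1, h2, ← ConcreteCategory.comp_apply, ← Scheme.Modules.Hom.comp_app, cokernel.condition]
    rfl
  have hRL : ιR ≫ cokernel.π ιL = 0 := by
    refine Groth.Agent.Lib.helper16.QCohEpi.hom_ext_of_basis _ _ {U | IsAffineOpen U}
      X.isBasis_affineOpens (fun U hU t => ?_)
    have hmem := (Groth.Agent.Lib.helper8.Dev.exists_idealSubι_app_eq_iff (I.comap f) F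
      (hU.preimage f) _).mp ⟨t, rfl⟩
    have hmem' := (mem_iff f F I U hU ((ιR.app U).hom t)).mpr hmem
    obtain ⟨t', ht'⟩ := (Groth.Agent.Lib.helper8.Dev.exists_idealSubι_app_eq_iff I
      ((Scheme.Modules.pushforward f).obj F) hU _).mpr hmem'
    have h1 : ((ιR ≫ cokernel.π ιL).app U).hom t =
        ((cokernel.π ιL).app U).hom ((ιR.app U).hom t) := rfl
    have h2 : (ιR.app U).hom t = (ιL.app U).hom t' := ht'.symm
    rw [h1, h2, ← ConcreteCategory.comp_apply, ← Scheme.Modules.Hom.comp_app, cokernel.condition]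
    rfl
  let a := Abelian.monoLift ιR ιL hLR
  let b := Abelian.monoLift ιL ιR hRL
  have ha : a ≫ ιR = ιL := Abelian.monoLift_comp ιR ιL hLR
  have hb : b ≫ ιL = ιR := Abelian.monoLift_comp ιL ιR hRL
  have hab : a ≫ b = 𝟙 _ := by
    rw [← cancel_mono ιL, Category.assoc, hb, ha, Category.id_comp]
  have hba : b ≫ a = 𝟙 _ := by
    rw [← cancel_mono ιR, Category.assoc, ha, hb, Category.id_comp]
  exact ⟨⟨a, b, hab, hba⟩, ha⟩

end Groth.Agent.S9523
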