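import Groth.Statements.S10865
import Groth.Agent.Lib.Helper8.DevAR

set_option autoImplicit false
universe u
open Coherent

namespace Groth.Agent.S10865

open CategoryTheory CategoryTheory.Limits AlgebraicGeometry in
/-- Let X be a nonempty Noetherian scheme and K an isomorphism-closed class of O_X-modules such that (a)
in a short exact sequence of coherent modules, if the middle and right terms lie in K so does the
left one, and if the two outer terms lie in K so does the middle one; (b) if a coherent F has some
d-fold direct sum (d ≥ 1) in K then F lies in K. If for every integral closed subscheme i : Z → X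
there is a coherent O_Z-module with nonzero stalk at the generic point whose direct image under i
lies in K, then every coherent O_X-module lies in K. (For the empty scheme the hypotheses hold for
the empty class, so X is taken nonempty here.) -/
theorem result (X : Scheme.{u}) [IsNoetherian X] [Nonempty X]
    (K : ObjectProperty X.Modules) [K.IsClosedUnderIsomorphisms]
    (ha : ∀ S : ShortComplex X.Modules, S.ShortExact → Coh.IsCoh S.X₁ → Coh.IsCoh S.X₂ → Coh.IsCoh S.X₃ →
      (K S.X₂ → K S.X₃ → K S.X₁) ∧ (K S.X₁ → K S.X₃ → K S.X₂))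
    (hb : ∀ (F : X.Modules) (d : ℕ), 1 ≤ d → Coh.IsCoh F → K (∐ fun _ : Fin d => F) → K F)
    (hgen : ∀ (Z : Scheme.{u}) (i : Z ⟶ X) [IsClosedImmersion i] [IsIntegral Z],
      ∃ H : Z.Modules, Coh.IsCoh H ∧ Nontrivial (H.presheaf.stalk (genericPoint Z)) ∧
        K ((Scheme.Modules.pushforward i).obj H))
    (F : X.Modules) (hF : Coh.IsCoh F) : K F := by
  have hK0 : ∀ N : X.Modules, IsZero N → K N := by
    intro N hN
    obtain ⟨Z, i, hi, hZ⟩ := Groth.Agent.Lib.helper8.Dev.exists_integral_closed_subscheme X
    haveI := hi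
    haveI := hZ
    obtain ⟨H, hH, -, hKH⟩ := hgen Z i
    have hM : Coh.IsCoh ((Scheme.Modules.pushforward i).obj H) :=
      Groth.Agent.Lib.helper8.Dev.isCoh_push_of_isCoh i H hH
    let S : ShortComplex X.Modules :=
      ShortComplex.mk (0 : N ⟶ (Scheme.Modules.pushforward i).obj H) (𝟙 _) zero_comp
    have hsplit : S.Splitting :=
      { r := 0
        s := 𝟙 _
        f_r := hN.eq_of_src _ _
        s_g := Category.comp_id _
        id := by simp [S] }
    exact (ha S hsplit.shortExact (Groth.Agent.Lib.helper7.CohKer.isCoh_of_isZero hN) hM hM).1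
      hKH hKH
  refine Groth.Agent.Lib.helper8.Dev.devissage_master_aux K
    (fun M N ⟨e⟩ hM => K.prop_of_iso e hM) Set.univ hK0
    (fun S hS h1 h2 h3 _ => (ha S hS h1 h2 h3).2) ?_ F hF (Set.subset_univ _)
  intro Z i hi hZ _ hsmall I ι hι hIq hI0
  haveI := hι
  haveI : I.IsQuasicoherent := hIq
  obtain ⟨H, hH, hst, hKH⟩ := hgen Z i
  have hyp : Groth.Agent.Lib.helper8.Dev.HypW i K :=
    { iso := fun M N ⟨e⟩ hM => K.prop_of_iso e hM
      tot := fun S hS h1 h2 h3 _ => ⟨(ha S hS h1 h2 h3).2, (ha S hS h1 h2 h3).1⟩
      small := hsmall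
      dsum := fun F' _ d hd hF' _ hPL => by
        refine hb _ d hd hF' ?_
        haveI : HasFiniteBiproducts Z.Modules := Abelian.hasFiniteBiproducts
        haveI : HasFiniteBiproducts X.Modules := Abelian.hasFiniteBiproducts
        let e := (Scheme.Modules.pushforward i).mapBiproduct (fun _ : Fin d => F') ≪≫
          biproduct.isoCoproduct _
        exact K.prop_of_iso e hPL }
  obtain ⟨U, x₀, hx₀⟩ := Groth.Agent.Lib.helper8.Dev.exists_section_ne_zero i I hI0
  have hιx₀ : (ι.app (i ⁻¹ᵁ U.1)).hom x₀ ≠ 0 := by
    intro h0'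
    apply hx₀
    apply Groth.Agent.S2542.injective_app_of_mono ι (i ⁻¹ᵁ U.1)
    rw [h0', map_zero]
  exact Groth.Agent.Lib.helper8.Dev.coreD_weak hyp H hH hst hKH U I ι x₀ hιx₀

end Groth.Agent.S10865
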