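import Groth.Statements.S16288
import Groth.Agent.S2380
import Mathlib

set_option autoImplicit false
universe u
open CategoryTheory
open FlatCx

namespace Groth.Agent.S16288

section helpers
open TensorProduct CategoryTheory CategoryTheory.Limits
noncomputable section
variable {A : Type u} [CommRing A]

lemma rank_formula' (P : ChainComplex (ModuleCat.{u} A) ℤ) (hfin : ∀ i, Module.Finite A (P.X i))
    (i j k : ℤ) (hij : j + 1 = i) (hjk : k + 1 = j) (y : PrimeSpectrum A) :
      CohIII.dRank P j y +
          Module.finrank y.asIdeal.ResidueField (y.asIdeal.ResidueField ⊗[A] (P.X k)) =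
        Module.finrank y.asIdeal.ResidueField (y.asIdeal.ResidueField ⊗[A]
            (P.X j ⧸ LinearMap.range (P.d i j).hom)) +
          Module.finrank y.asIdeal.ResidueField (y.asIdeal.ResidueField ⊗[A]
            (P.X k ⧸ LinearMap.range (P.d j k).hom)) := by
  have hk : k = j - 1 := by omega
  subst hk
  subst hij
  exact Groth.Agent.S2380.rank_formula P hfin j y

lemma locConst_rank [IsNoetherianRing A] (M : Type u) [AddCommGroup M] [Module A M]
    [Module.Finite A M] [Module.Flat A M] :
    IsLocallyConstant (fun y : PrimeSpectrum A =>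
      Module.finrank y.asIdeal.ResidueField (y.asIdeal.ResidueField ⊗[A] M)) := by
  haveI : Module.FinitePresentation A M := Module.finitePresentation_of_finite A _
  have h := Module.isLocallyConstant_rankAtStalk (R := A) (M := M)
  have e : (fun y : PrimeSpectrum A =>
      Module.finrank y.asIdeal.ResidueField (y.asIdeal.ResidueField ⊗[A] M)) =
      Module.rankAtStalk (R := A) M := by
    funext y
    exact (Module.rankAtStalk_eq y).symm
  rw [e]; exact h

lemma main [IsNoetherianRing A]
    (P : ChainComplex (ModuleCat.{u} A) ℤ) (hP : ∀ i, Module.Finite A (P.X i) ∧ Module.Flat A (P.X i))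
    (p : ℤ) (z : PrimeSpectrum A)
    (hlo : ∀ᶠ x in nhds z, CohIII.dRank P (p - 1) x = CohIII.dRank P (p - 1) z)
    (hhi : ∀ᶠ x in nhds z, CohIII.dRank P (p + 1) x = CohIII.dRank P (p + 1) z) :
    ∀ᶠ x in nhds z, CohIII.dRank P p x = CohIII.dRank P p z := by
  have hfin : ∀ i, Module.Finite A (P.X i) := fun i => (hP i).1
  haveI := hfin
  haveI : ∀ i, Module.Flat A (P.X i) := fun i => (hP i).2
  have usc : ∀ i j : ℤ, ∀ᶠ y in nhds z,
      Module.finrank y.asIdeal.ResidueField (y.asIdeal.ResidueField ⊗[A]
            (P.X j ⧸ LinearMap.range (P.d i j).hom)) <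
      Module.finrank z.asIdeal.ResidueField (z.asIdeal.ResidueField ⊗[A]
            (P.X j ⧸ LinearMap.range (P.d i j).hom)) + 1 := fun i j =>
    Groth.Agent.S2380.fibre_finrank_usc (A := A) (P.X j ⧸ LinearMap.range (P.d i j).hom) z _
      (Nat.lt_succ_self _)
  have lc : ∀ k : ℤ, ∀ᶠ y in nhds z,
      Module.finrank y.asIdeal.ResidueField (y.asIdeal.ResidueField ⊗[A] (P.X k)) =
      Module.finrank z.asIdeal.ResidueField (z.asIdeal.ResidueField ⊗[A] (P.X k)) := fun k =>
    (locConst_rank (A := A) (P.X k)).eventually_eq z
  filter_upwards [hlo, hhi, usc (p + 2) (p + 1), usc (p + 1) p, usc p (p - 1), usc (p - 1) (p - 2),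
    lc p, lc (p - 1), lc (p - 2)] with y h1 h2 u1 u2 u3 u4 l1 l2 l3
  have a1 := rank_formula' P hfin (p + 2) (p + 1) p (by ring) rfl y
  have a1z := rank_formula' P hfin (p + 2) (p + 1) p (by ring) rfl z
  have a2 := rank_formula' P hfin (p + 1) p (p - 1) rfl (by ring) y
  have a2z := rank_formula' P hfin (p + 1) p (p - 1) rfl (by ring) z
  have a3 := rank_formula' P hfin p (p - 1) (p - 2) (by ring) (by ring) y
  have a3z := rank_formula' P hfin p (p - 1) (p - 2) (by ring) (by ring) z
  omega

end
end helpers

/-- Let A be a Noetherian ring and P a chain complex of finitely generated flat A-modules, and for p and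
a point x of Spec A let d_p(x) = dim_{k(x)} H_p(P ⊗_A k(x)). Fix p and a point z. If d_{p-1} and
d_{p+1} are constant on some neighbourhood of z, then d_p is constant on some neighbourhood of z.
(The published assertion concerns the function y ↦ dim H^p(X_y, F_y) for a coherent sheaf F flat
over a projective morphism of Noetherian schemes X → Y: if it is not constant near a point, then the
functions for p - 1 and p + 1 are not both constant near that point. Stated here is the
corresponding property for any chain complex of finitely generated flat modules over a Noetherian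
ring, from which the published form follows by applying it to a finite complex of such modules
computing the cohomology of the fibres.) -/
theorem result {A : Type u} [CommRing A] [IsNoetherianRing A]
    (P : ChainComplex (ModuleCat.{u} A) ℤ) (hP : ∀ i, Module.Finite A (P.X i) ∧ Module.Flat A (P.X i))
    (p : ℤ) (z : PrimeSpectrum A)
    (hlo : ∀ᶠ x in nhds z, CohIII.dRank P (p - 1) x = CohIII.dRank P (p - 1) z)
    (hhi : ∀ᶠ x in nhds z, CohIII.dRank P (p + 1) x = CohIII.dRank P (p + 1) z) :
    ∀ᶠ x in nhds z, CohIII.dRank P p x = CohIII.dRank P p z := by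
  exact main P hP p z hlo hhi

end Groth.Agent.S16288
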