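import Groth.Statements.S0932
import Mathlib
import Groth.Agent.Lib.Helper25.DCohLift

set_option autoImplicit false
universe u
open CategoryTheory
attribute [local instance] HasDerivedCategory.standard
open DCoh

namespace Groth.Agent.S0932

section Helpers

open AlgebraicGeometry CategoryTheory.Limits Scheme.Modules
open Groth.Agent.Lib.helper25.DCohRes Groth.Agent.Lib.helper25.DCohLift

variable {X : Scheme.{u}} {E F : CochainComplex X.Modules ℤ}

/-- a partial null-homotopy over a neighbourhood of `x`, valid in degrees `> c` -/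
def P (α : E ⟶ F) (x : X) (c : ℤ) : Prop :=
  ∃ (V : X.Opens), x ∈ V ∧
    ∃ h : ∀ i j : ℤ, (restrictFunctor V.ι).obj (E.X i) ⟶ (restrictFunctor V.ι).obj (F.X j),
      ∀ i i' i'' : ℤ, i + 1 = i' → i'' + 1 = i → c < i →
        (restrictFunctor V.ι).map (α.f i) =
          (restrictFunctor V.ι).map (E.d i i') ≫ h i' i + h i i'' ≫ (restrictFunctor V.ι).map (F.d i'' i)

lemma step (α : E ⟶ F) (hfree : ∀ i : ℤ, FlatMod.IsFinLocFree (E.X i)) (a : ℤ)
    (hEa : ∀ i : ℤ, i < a → IsZero (E.X i))
    (hF : ∀ i : ℤ, a ≤ i → IsZero (F.homology i)) (x : X) (k : ℤ) (hP : P α x k) : P α x (k - 1) := by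
  obtain ⟨V, hxV, h, H⟩ := hP
  by_cases hk : k < a
  · refine ⟨V, hxV, h, ?_⟩
    intro i i' i'' hi' hi'' hi
    by_cases hik : k < i
    · exact H i i' i'' hi' hi'' hik
    · have : i = k := by omega
      subst this
      exact ((restrictFunctor V.ι).map_isZero (hEa _ hk)).eq_of_src _ _
  · replace hk : a ≤ k := not_lt.mp hk
    have hex : (F.sc' (k - 1) k (k + 1)).Exact :=
      (F.exactAt_iff' (k - 1) k (k + 1) (by simp) (by simp)).1
        ((HomologicalComplex.exactAt_iff_isZero_homology _ _).2 (hF k hk))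
    let p : F.X (k - 1) ⟶ kernel (F.d k (k + 1)) := kernel.lift _ (F.d (k - 1) k) (F.d_comp_d _ _ _)
    have hp : Epi p := (ShortComplex.exact_iff_epi_kernel_lift _).1 hex
    have hpι : p ≫ kernel.ι _ = F.d (k - 1) k := kernel.lift_ι _ _ _
    let φ : (restrictFunctor V.ι).obj (E.X k) ⟶ (restrictFunctor V.ι).obj (F.X k) :=
      (restrictFunctor V.ι).map (α.f k) - (restrictFunctor V.ι).map (E.d k (k + 1)) ≫ h (k + 1) k
    have hφ : φ ≫ (restrictFunctor V.ι).map (F.d k (k + 1)) = 0 := by
      have H1 := H (k + 1) (k + 2) k (by ring) rfl (by omega)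
      have hα : (restrictFunctor V.ι).map (α.f k) ≫ (restrictFunctor V.ι).map (F.d k (k + 1)) =
          (restrictFunctor V.ι).map (E.d k (k + 1)) ≫ (restrictFunctor V.ι).map (α.f (k + 1)) := by
        rw [← Functor.map_comp, ← Functor.map_comp, α.comm]
      have hdd : (restrictFunctor V.ι).map (E.d k (k + 1)) ≫
          (restrictFunctor V.ι).map (E.d (k + 1) (k + 2)) = 0 := by
        rw [← Functor.map_comp, E.d_comp_d, Functor.map_zero]
      simp only [φ, Preadditive.sub_comp, Category.assoc, hα, H1, Preadditive.comp_add,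
        reassoc_of% hdd, zero_comp, zero_add, sub_self]
    obtain ⟨φ', hφ'⟩ := exists_lift_kernel (restrictFunctor V.ι) (F.d k (k + 1)) φ hφ
    obtain ⟨V', hV', hxV', ψ, hψ⟩ := exists_local_lift_on p (hfree k) x hxV φ'
    obtain ⟨h', hh'1, hh'2⟩ := exists_update
      (A := fun i j : ℤ => ((restrictFunctor V'.ι).obj (E.X i) ⟶ (restrictFunctor V'.ι).obj (F.X j)))
      (fun i j => resHom hV' (h i j)) k (k - 1) ψ
    refine ⟨V', hxV', h', ?_⟩
    intro i i' i'' hi' hi'' hi
    by_cases hik : k < i
    · rw [hh'2 i' i (Or.inl (by omega)), hh'2 i i'' (Or.inl (by omega))]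
      have := congrArg (resHom hV') (H i i' i'' hi' hi'' hik)
      rw [resHom_map, resHom_add, resHom_comp, resHom_comp, resHom_map, resHom_map] at this
      exact this
    · have hik' : i = k := by omega
      subst hik'
      subst hi'
      have hj : i'' = i - 1 := by omega
      subst hj
      rw [hh'2 (i + 1) i (Or.inl (by omega)), hh'1]
      have e1 : ψ ≫ (restrictFunctor V'.ι).map (F.d (i - 1) i) = resHom hV' φ := by
        rw [← hpι, Functor.map_comp, reassoc_of% hψ, ← resHom_map hV' (kernel.ι _), ← resHom_comp, hφ']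
      rw [e1]
      simp only [φ, resHom_sub, resHom_map, resHom_comp]
      abel

end Helpers

open AlgebraicGeometry CategoryTheory.Limits in
/-- Let X be a scheme, E and F cochain complexes of O_X-modules with E strictly perfect and zero in
degrees < a, and α : E → F a chain map. Assume the cohomology sheaves H^i(F) vanish for all i ≥ a.
Then every point of X has an open neighbourhood V such that the restriction of α to V is homotopic
to zero. (The case of an acyclic complex F is a special case.) -/
theorem result {X : Scheme.{u}} {E F : CochainComplex X.Modules ℤ}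
    (α : E ⟶ F) (hE : DCoh.IsStrictlyPerfect E) (a : ℤ) (hEa : ∀ i : ℤ, i < a → IsZero (E.X i))
    (hF : ∀ i : ℤ, a ≤ i → IsZero (F.homology i)) (x : X) :
    ∃ V : X.Opens, x ∈ V ∧ Nonempty (Homotopy ((DCoh.restrictCx V).map α) 0) := by
  obtain ⟨⟨a₀, b, hab⟩, hfree⟩ := hE
  have base : P α x b := ⟨⊤, trivial, fun _ _ => 0, fun i i' i'' _ _ hi =>
    ((Scheme.Modules.restrictFunctor _).map_isZero (hab i (Or.inr hi))).eq_of_src _ _⟩
  have all : ∀ n : ℕ, P α x (b - n) := by
    intro n
    induction n with
    | zero => simpa using base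
    | succ n ih =>
      have := step α hfree a hEa hF x _ ih
      have e : b - (n : ℤ) - 1 = b - ((n + 1 : ℕ) : ℤ) := by push_cast; ring
      rwa [e] at this
  obtain ⟨V, hxV, h, H⟩ := all (b - a + 1).toNat
  refine ⟨V, hxV, ⟨Groth.Agent.Lib.helper25.DCohLift.mkHomotopy _ (fun i j => h i j) ?_⟩⟩
  intro i
  by_cases hi : i < a
  · exact ((Scheme.Modules.restrictFunctor V.ι).map_isZero (hEa i hi)).eq_of_src _ _
  · exact H i (i + 1) (i - 1) rfl (by ring) (by have := Int.self_le_toNat (b - a + 1); omega)

end Groth.Agent.S0932
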