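import Groth.Statements.S0933
import Mathlib
import Groth.Agent.S0932
import Groth.Agent.Lib.Helper23.PCohCore

set_option autoImplicit false
universe u
open CategoryTheory
attribute [local instance] HasDerivedCategory.standard
open DCoh

namespace Groth.Agent.S0933

open AlgebraicGeometry CategoryTheory.Limits in
/-- Let E be a strictly perfect complex of O_X-modules with E^j = 0 for j < a, let f : G -> F be a
morphism of complexes inducing isomorphisms on cohomology sheaves in degrees > a and an epimorphism
in degree a, and let α : E -> F. Then every point has an open neighbourhood V over which there is β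
: E|_V -> G|_V with β ≫ f|_V homotopic to α|_V. -/
theorem result {X : Scheme.{u}} {E F G : CochainComplex X.Modules ℤ}
    (α : E ⟶ F) (f : G ⟶ F) (hE : DCoh.IsStrictlyPerfect E) (a : ℤ) (hEa : ∀ j : ℤ, j < a → IsZero (E.X j))
    (hf : ∀ j : ℤ, a < j → IsIso (HomologicalComplex.homologyMap f j))
    (hfa : Epi (HomologicalComplex.homologyMap f a)) (x : X) :
    ∃ (V : X.Opens) (β : (DCoh.restrictCx V).obj E ⟶ (DCoh.restrictCx V).obj G), x ∈ V ∧
      Nonempty (Homotopy (β ≫ (DCoh.restrictCx V).map f) ((DCoh.restrictCx V).map α)) := by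
  have hepi : ∀ i : ℤ, a ≤ i → Epi (HomologicalComplex.homologyMap f i) := by
    intro i hi
    rcases eq_or_lt_of_le hi with rfl | hi'
    · exact hfa
    · have := hf i hi'
      infer_instance
  have hC : ∀ i : ℤ, a ≤ i → IsZero ((CochainComplex.mappingCone f).homology i) := by
    intro i hi
    have := hf (i + 1) (by omega)
    exact Groth.Agent.Lib.helper23.PCohCore.isZero_homology_mappingCone f i (hepi i hi) inferInstance
  obtain ⟨V, hxV, ⟨hh⟩⟩ := Groth.Agent.S0932.result (α ≫ CochainComplex.mappingCone.inr f) hE a hEa hC x
  have h1 : Homotopy ((DCoh.restrictCx V).map α ≫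
      CochainComplex.mappingCone.inr ((DCoh.restrictCx V).map f)) 0 := by
    have e : (DCoh.restrictCx V).map α ≫ CochainComplex.mappingCone.inr ((DCoh.restrictCx V).map f) =
        (DCoh.restrictCx V).map (α ≫ CochainComplex.mappingCone.inr f) ≫
          (CochainComplex.mappingCone.mapHomologicalComplexIso f
            (Scheme.Modules.restrictFunctor V.ι)).hom := by
      rw [Functor.map_comp, Category.assoc, CochainComplex.mappingCone.map_inr]
    rw [e]
    exact (hh.compRight _).trans (Homotopy.ofEq zero_comp)
  have hT := HomotopyCategory.mappingCone_triangleh_distinguished ((DCoh.restrictCx V).map f)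
  have hz : (HomotopyCategory.quotient _ _).map ((DCoh.restrictCx V).map α) ≫
      (CochainComplex.mappingCone.triangleh ((DCoh.restrictCx V).map f)).mor₂ = 0 := by
    show (HomotopyCategory.quotient _ _).map ((DCoh.restrictCx V).map α) ≫
      (HomotopyCategory.quotient _ _).map
        (CochainComplex.mappingCone.inr ((DCoh.restrictCx V).map f)) = 0
    rw [← Functor.map_comp]
    exact (HomotopyCategory.eq_of_homotopy _ _ h1).trans (Functor.map_zero _ _ _)
  obtain ⟨g, hg⟩ := Pretriangulated.Triangle.coyoneda_exact₂ _ hT _ hz
  obtain ⟨β, rfl⟩ := (HomotopyCategory.quotient _ _).map_surjective g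
  have hβ : (HomotopyCategory.quotient _ _).map ((DCoh.restrictCx V).map α) =
      (HomotopyCategory.quotient _ _).map (β ≫ (DCoh.restrictCx V).map f) := by
    rw [hg, Functor.map_comp]
    rfl
  exact ⟨V, β, hxV, ⟨(HomotopyCategory.homotopyOfEq _ _ hβ).symm⟩⟩

end Groth.Agent.S0933
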