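import Groth.Statements.S6516
import Mathlib
import Groth.Agent.Lib.Helper16.FLF5

set_option autoImplicit false
universe u
open CategoryTheory
open DCoh

namespace Groth.Agent.S6516

open AlgebraicGeometry in
/-- Schemes; with the bounded finite-locally-free reading of strictly perfect used throughout this
problem's derived-category definitions: the mapping cone of a morphism between strictly perfect
complexes of O_X-modules is strictly perfect. -/
theorem result {X : Scheme.{u}} {E F : CochainComplex X.Modules ℤ} (φ : E ⟶ F)
    (hE : DCoh.IsStrictlyPerfect E) (hF : DCoh.IsStrictlyPerfect F) :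
    DCoh.IsStrictlyPerfect (CochainComplex.mappingCone φ) := by
  obtain ⟨⟨a, b, hab⟩, hEf⟩ := hE
  obtain ⟨⟨a', b', hab'⟩, hFf⟩ := hF
  refine ⟨⟨min (a - 1) a', max (b - 1) b', ?_⟩, ?_⟩
  · intro i hi
    rw [CochainComplex.mappingCone.isZero_X_iff]
    have h1 := min_le_left (a - 1) a'
    have h2 := min_le_right (a - 1) a'
    have h3 := le_max_left (b - 1) b'
    have h4 := le_max_right (b - 1) b'
    refine ⟨hab _ ?_, hab' _ ?_⟩
    · rcases hi with hi | hi
      · left; omega
      · right; omega
    · rcases hi with hi | hi
      · left; omega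
      · right; omega
  · intro i
    exact Groth.Agent.Lib.helper16.FLF.isFinLocFree_of_iso
      (HomologicalComplex.homotopyCofiber.XIsoBiprod φ i (i + 1) rfl).symm
      (Groth.Agent.Lib.helper16.FLF.isFinLocFree_biprod (hEf (i + 1)) (hFf i))

end Groth.Agent.S6516
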