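import Groth.Statements.S12887
import Mathlib
import Groth.Agent.Lib.Helper21.DerivedComm
import Groth.Agent.Lib.Helper21.PushColim
import Groth.Agent.Lib.Helper21.ExtZeroHom
import Groth.Agent.Lib.Helper21.ExtZeroS
-- import your own Groth.Agent.* helpers here

set_option autoImplicit false
universe u
open CategoryTheory CategoryTheory.Limits
open ModSite

namespace Groth.Agent.S12887

/-- On a small ringed site (C, J, O) with O commutative, let X be an object of C, M an O-module and q ≥
0. The formation of the local Ext sheaves ℰxt^q_O(M, -) (right derived functors of the internal Hom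
ℋom_O(M, -)) commutes with localisation: the functor N ↦ ℰxt^q_O(M, N)|_X is isomorphic to N ↦
ℰxt^q_{O|_X}(M|_X, N|_X). (Existence of an isomorphism of functors only. The internal Hom functors
of M and of M|_X and injective resolutions of modules on C and on C/X are the stated instance
hypotheses, all true.) -/
theorem result {C : Type u} [SmallCategory C] {J : GrothendieckTopology C}
    (O : Sheaf J CommRingCat.{u}) (X : C) (M : ModSite.Mod O)
    [ModSite.HasSheafHom M] [ModSite.HasSheafHom ((ModSite.restr O X).obj M)]
    [HasInjectiveResolutions (ModSite.Mod O)] [HasInjectiveResolutions (ModSite.Mod (O.over X))] (q : ℕ) :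
    Nonempty (ModSite.extSh M q ⋙ ModSite.restr O X ≅
      ModSite.restr O X ⋙ ModSite.extSh ((ModSite.restr O X).obj M) q) := by
  haveI : (ModSite.restr O X).Additive := ⟨rfl⟩
  haveI : PreservesFiniteLimits (ModSite.restr O X) := inferInstance
  haveI : PreservesColimitsOfSize.{u, u} (ModSite.restr O X) :=
    Groth.Agent.Lib.Helper21.PushColim.pushforward_preservesColimits _
  haveI : PreservesFiniteColimits (ModSite.restr O X) :=
    PreservesColimitsOfSize.preservesFiniteColimits _
  haveI : (ModSite.restr O X).PreservesHomology := inferInstance
  haveI : PreservesFiniteLimits (ModSite.extZero O X) :=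
    Groth.Agent.Lib.Helper21.ExtZeroS.preservesFiniteLimits_extZero O X
  haveI : (ModSite.extZero O X).PreservesMonomorphisms := inferInstance
  haveI : (ModSite.restr O X).PreservesInjectiveObjects :=
    Functor.preservesInjectiveObjects_of_adjunction_of_preservesMonomorphisms
      (ModSite.extZeroAdj O X)
  exact ⟨(Groth.Agent.Lib.Helper21.DerivedComm.rightDerivedPostIso (ModSite.restr O X)
      (ModSite.sheafHom M) q).symm ≪≫
    Groth.Agent.Lib.Helper21.DerivedComm.rightDerivedIso
      (Groth.Agent.Lib.Helper21.ExtZeroHom.restrSheafHomIso O X M) q ≪≫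
    Groth.Agent.Lib.Helper21.DerivedComm.rightDerivedPreIso (ModSite.restr O X)
      (ModSite.sheafHom ((ModSite.restr O X).obj M)) q⟩

end Groth.Agent.S12887
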