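import Groth.Statements.S15520
import Mathlib
import Groth.Agent.S12887
import Groth.Agent.Lib.Helper21.AcycRes
import Groth.Agent.Lib.Helper21.ExtShDelta
import Groth.Agent.Lib.Helper21.LocFreeBridge
import Groth.Agent.Lib.Helper21.LocZero
import Groth.Agent.Lib.Helper21.ModGroth
-- import your own Groth.Agent.* helpers here

set_option autoImplicit false
universe u
open CategoryTheory CategoryTheory.Limits AlgebraicGeometry
open Coherent

namespace Groth.Agent.S15520

open Groth.Agent.Lib.helper21.AcycRes Groth.Agent.Lib.helper21.ExtShDelta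

/-- the higher `ℰxt` sheaves out of a finite locally free module vanish -/
lemma isZero_extSh_of_finLocFree (X : Scheme.{u}) (M G : X.Modules) (hM : FlatMod.IsFinLocFree M)
    [HasInjectiveResolutions (ModSite.Mod X.sheaf)] (p : ℕ) (hp : 1 ≤ p) :
    IsZero (T (O := X.sheaf) G p M) := by
  apply Groth.Agent.Lib.helper21.LocZero.isZero_of_restr (O := X.sheaf)
  intro V
  let S : Sieve V :=
    { arrows := fun W _ => ∃ (U : X.Opens) (n : ℕ), W ≤ U ∧
        Nonempty ((ModSite.restr X.sheaf U).obj M ≅ ∐ fun _ : Fin n => ModSite.unit (X.sheaf.over U))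
      downward_closed := by
        rintro W W' g ⟨U, n, hWU, he⟩ g'
        exact ⟨U, n, le_trans (leOfHom g') hWU, he⟩ }
  refine ⟨S, ?_, ?_⟩
  · intro y hy
    obtain ⟨U, n, hyU, he⟩ :=
      Groth.Agent.Lib.helper21.LocFreeBridge.exists_restr_iso_free M hM y
    exact ⟨V ⊓ U, homOfLE inf_le_left, ⟨U, n, inf_le_right, he⟩, ⟨hy, hyU⟩⟩
  · rintro W g ⟨U, n, hWU, ⟨e⟩⟩
    refine ⟨U, homOfLE hWU, ?_⟩
    haveI := hasSheafHom X.sheaf M
    haveI := hasSheafHom (X.sheaf.over U) ((ModSite.restr X.sheaf U).obj M)
    haveI : EnoughInjectives (ModSite.Mod (X.sheaf.over U)) :=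
      Groth.Agent.Lib.Helper21.ModGroth.enoughInjectives_mod (ModSite.ringSh (X.sheaf.over U))
    obtain ⟨φ⟩ := Groth.Agent.S12887.result X.sheaf U M p
    refine IsZero.of_iso ?_ (φ.app G)
    exact isZero_T_of_iso_free (O := X.sheaf.over U) ((ModSite.restr X.sheaf U).obj G) p hp n _ e

/-- Let X be a scheme, F and G O_X-modules, and E_• → F → 0 a resolution of F whose terms E_i are finite
locally free O_X-modules: E is a chain complex indexed by the natural numbers with an augmentation π
: E_0 → F such that E is exact in every positive degree and E_1 → E_0 → F → 0 is exact. Let C be the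
cochain complex Hom_{O_X}(E_•, G), given with identifications C^i ≅ Hom_{O_X}(E_i, G) under which
its differentials are the maps induced by the differentials of E (contravariant functoriality of the
internal Hom). Then for every i the i-th cohomology object of C is isomorphic to the Ext sheaf
Ext^i_{O_X}(F, G), the i-th right derived functor of the internal Hom functor Hom(F, -) evaluated at
G. (Existence of an isomorphism of O_X-modules only; the published statement is for a ringed space.
The internal Hom functors and injective resolutions are the stated instance hypotheses, all true.) -/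
theorem result (X : Scheme.{u}) (F G : X.Modules)
    (E : ChainComplex X.Modules ℕ) (π : E.X 0 ⟶ F) [Epi π] (hπ : E.d 1 0 ≫ π = 0)
    (hex0 : (ShortComplex.mk (E.d 1 0) π hπ).Exact) (hex : ∀ j : ℕ, E.ExactAt (j + 1))
    (hE : ∀ j : ℕ, FlatMod.IsFinLocFree (E.X j))
    [∀ j : ℕ, ModSite.HasSheafHom (O := X.sheaf) (E.X j)] [ModSite.HasSheafHom (O := X.sheaf) F]
    [HasInjectiveResolutions (ModSite.Mod X.sheaf)]
    (C : CochainComplex X.Modules ℕ) (e : ∀ j : ℕ, C.X j ≅ (ModSite.sheafHom (O := X.sheaf) (E.X j)).obj G)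
    (hC : ∀ j : ℕ, C.d j (j + 1) ≫ (e (j + 1)).hom =
      (e j).hom ≫ (ExtSupp.sheafHomMap (O := X.sheaf) (E.d (j + 1) j)).app G)
    (i : ℕ) :
    Nonempty (C.homology i ≅ (ModSite.extSh (O := X.sheaf) F i).obj G) := by
  haveI : ∀ j, PreservesFiniteLimits (ModSite.sheafHom (O := X.sheaf) (E.X j)) :=
    fun j => preservesFiniteLimits_sheafHom X.sheaf (E.X j)
  let e' : ∀ j : ℕ, C.X j ≅ T (O := X.sheaf) G 0 (E.X j) := fun j =>
    e j ≪≫ ((ModSite.sheafHom (O := X.sheaf) (E.X j)).rightDerivedZeroIsoSelf.symm.app G)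
  haveI hπe : Epi (C := ModSite.Mod X.sheaf) π := ‹Epi π›
  refine homology_iso (cd (O := X.sheaf) G) E π hπ hex0 hex
    (fun j p hp => isZero_extSh_of_finLocFree X (E.X j) G (hE j) p hp) C e' ?_ i
  intro j
  have hnat := Groth.Agent.Lib.helper27.FunLES.toRightDerivedZero_naturality
    (ExtSupp.sheafHomMap (O := X.sheaf) (E.d (j + 1) j))
  have hnatG := congrArg (fun t => t.app G) hnat
  simp only [NatTrans.comp_app] at hnatG
  show C.d j (j + 1) ≫ ((e (j + 1)).hom ≫
      (ModSite.sheafHom (O := X.sheaf) (E.X (j + 1))).toRightDerivedZero.app G) =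
    ((e j).hom ≫ (ModSite.sheafHom (O := X.sheaf) (E.X j)).toRightDerivedZero.app G) ≫
      (NatTrans.rightDerived (ExtSupp.sheafHomMap (O := X.sheaf) (E.d (j + 1) j)) 0).app G
  rw [← Category.assoc, hC j, Category.assoc, Category.assoc]
  exact congrArg (fun t => (e j).hom ≫ t) hnatG

end Groth.Agent.S15520
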