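import Groth.Statements.S0020
-- import your own Groth.Agent.* helpers here

set_option autoImplicit false
universe u v' u'
open Coherent

namespace Groth.Agent.S0020

section helpers

open AlgebraicGeometry CategoryTheory TopologicalSpace Opposite Limits

section general

variable {C : Type u'} [Category.{v'} C] {J : GrothendieckTopology C} {R : Sheaf J RingCat.{u}}
  [∀ (X : C), HasSheafify (J.over X) AddCommGrpCat.{u}]
  [∀ (X : C), (J.over X).WEqualsLocallyBijective AddCommGrpCat.{u}]
  [HasPullbacks C]

/-- if all generating sections vanish over `V ⟶ U`, then the restriction to `V` is zero -/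
lemma isZero_overMap_of_generators_vanish {U V : C} (j : V ⟶ U)
    (N : SheafOfModules.{u} (R.over U))
    (G : N.GeneratingSections)
    (hG : ∀ k : G.I, (G.s k).val (op (Over.mk j)) = 0) :
    IsZero ((SheafOfModules.overMap R j).obj N) := by
  have : Epi ((SheafOfModules.overMap R j).map G.π) := inferInstance
  apply IsZero.of_epi_eq_zero ((SheafOfModules.overMap R j).map G.π)
  apply (isColimitOfPreserves (SheafOfModules.overMap R j) (SheafOfModules.isColimitFreeCofan G.I)).hom_ext
  rintro ⟨k⟩
  change (SheafOfModules.overMap R j).map (SheafOfModules.ιFree k) ≫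
    (SheafOfModules.overMap R j).map G.π = (SheafOfModules.overMap R j).map (SheafOfModules.ιFree k) ≫ 0
  rw [← Functor.map_comp, comp_zero]
  have h1 : SheafOfModules.ιFree k ≫ G.π = N.unitHomEquiv.symm (G.s k) := by
    rw [← SheafOfModules.unitHomEquiv_symm_freeHomEquiv_apply G.π k]
    simp [SheafOfModules.GeneratingSections.π]
  rw [h1]
  apply SheafOfModules.hom_ext
  ext Y
  have h2 : (G.s k).val (op ((Over.map j).obj Y.unop)) = 0 := by
    have := PresheafOfModules.sections_property (G.s k)
      (X := op (Over.mk j)) (Y := op ((Over.map j).obj Y.unop))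
      (Over.homMk (U := (Over.map j).obj Y.unop) (V := Over.mk j) Y.unop.hom (by simp)).op
    rw [← this, hG k]
    exact map_zero (N.val.map (Over.homMk (U := (Over.map j).obj Y.unop) (V := Over.mk j) Y.unop.hom (by simp)).op).hom
  have h3 : (N.unitHomEquiv (N.unitHomEquiv.symm (G.s k))).val (op ((Over.map j).obj Y.unop)) = 0 := by
    rw [Equiv.apply_symm_apply]; exact h2
  rw [SheafOfModules.unitHomEquiv_apply_coe] at h3
  exact h3

lemma subsingleton_of_isZero {C : Type u'} [Category.{v'} C] {J : GrothendieckTopology C} {R : Sheaf J RingCat.{u}}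
    (N : SheafOfModules.{u} R) (hN : IsZero N) (Y : Cᵒᵖ) : Subsingleton (N.val.obj Y) := by
  have h : 𝟙 N = 0 := hN.eq_of_src _ _
  refine ⟨fun a b => ?_⟩
  have h2 : ∀ a : N.val.obj Y, a = 0 := by
    intro a
    have := congrArg (fun f : N ⟶ N => (f.val.app Y).hom a) h
    simp only [SheafOfModules.id_val, PresheafOfModules.id_app, ModuleCat.hom_id, LinearMap.id_coe, id_eq] at this
    rw [this]
    rfl
  rw [h2 a, h2 b]

end general

lemma subsingleton_stalk {X : TopCat.{u}} (F : TopCat.Presheaf Ab.{u} X) (V : Opens X) (y : X) (hy : y ∈ V)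
    (h : ∀ W : Opens X, W ≤ V → Subsingleton (F.obj (op W))) : Subsingleton (F.stalk y) := by
  have h0 : ∀ t : F.stalk y, t = 0 := by
    intro t
    obtain ⟨W, hyW, s, rfl⟩ := TopCat.Presheaf.exists_germ_eq F t
    have := TopCat.Presheaf.germ_res_apply F (homOfLE (inf_le_left : W ⊓ V ≤ W)) y ⟨hyW, hy⟩ s
    rw [← this]
    have hs : (F.map (homOfLE (inf_le_left : W ⊓ V ≤ W)).op) s = 0 :=
      (h (W ⊓ V) inf_le_right).elim _ _
    rw [hs, map_zero]
  exact ⟨fun a b => by rw [h0 a, h0 b]⟩


theorem support_closed (X : Scheme.{u}) (M : X.Modules) (hM : CohB1.IsFT M) :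
    IsClosed (CohB1.support M) := by
  rw [← isOpen_compl_iff, isOpen_iff_forall_mem_open]
  intro x hx
  have hx' : Subsingleton (M.presheaf.stalk x) := by simpa [CohB1.support] using hx
  obtain ⟨σ, hσ⟩ := hM.exists_localGeneratorsData
  have hcov := (Opens.coversTop_iff _ _).mp σ.coversTop
  obtain ⟨i, hi⟩ := hcov.exists_mem x
  have hfin : Finite (σ.generators i).I := (hσ.isFiniteType i).finite
  -- each generator vanishes near x
  have hk : ∀ k : (σ.generators i).I, ∃ W : Opens X, x ∈ W ∧ ∃ (h : W ≤ σ.X i),
      ((σ.generators i).s k).val (op (Over.mk (homOfLE h))) = 0 := by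
    intro k
    set U := σ.X i with hU
    let t : M.presheaf.obj (op U) := ((σ.generators i).s k).val (op (Over.mk (𝟙 U)))
    have hgerm : M.presheaf.germ U x hi t = M.presheaf.germ U x hi 0 := Subsingleton.elim _ _
    obtain ⟨W, hxW, iU, iV, hW⟩ := TopCat.Presheaf.germ_eq M.presheaf x hi hi t 0 hgerm
    refine ⟨W, hxW, iU.le, ?_⟩
    have := PresheafOfModules.sections_property ((σ.generators i).s k)
      (X := op (Over.mk (𝟙 U))) (Y := op (Over.mk (homOfLE iU.le)))
      (Over.homMk (U := Over.mk (homOfLE iU.le)) (V := Over.mk (𝟙 U)) (homOfLE iU.le) (by simp)).op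
    rw [← this]
    rw [map_zero] at hW
    exact hW
  choose W hxW hWU hW0 using hk
  let V : Opens X := σ.X i ⊓ ⨅ k, W k
  have hxV : x ∈ V := by
    refine ⟨hi, ?_⟩
    rw [Opens.coe_iInf]
    exact Set.mem_iInter.2 hxW
  have hVU : V ≤ σ.X i := inf_le_left
  have hVW : ∀ k, V ≤ W k := fun k => inf_le_right.trans (iInf_le _ k)
  have hzero := isZero_overMap_of_generators_vanish (R := X.ringCatSheaf) (homOfLE hVU)
    (SheafOfModules.over (R := X.ringCatSheaf) M (σ.X i)) (σ.generators i) (by
      intro k
      have := PresheafOfModules.sections_property ((σ.generators i).s k)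
        (X := op (Over.mk (homOfLE (hWU k)))) (Y := op (Over.mk (homOfLE hVU)))
        (Over.homMk (U := Over.mk (homOfLE hVU)) (V := Over.mk (homOfLE (hWU k))) (homOfLE (hVW k)) (by simp)).op
      rw [← this, hW0 k]
      exact map_zero _)
  refine ⟨V, ?_, V.isOpen, hxV⟩
  intro y hy
  have : Subsingleton (M.presheaf.stalk y) := by
    refine subsingleton_stalk M.presheaf V y hy ?_
    intro W' hW'
    exact subsingleton_of_isZero _ hzero (op (Over.mk (homOfLE hW')))
  simpa [CohB1.support] using this

end helpers

open AlgebraicGeometry in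
/-- On a scheme X, the set of points at which the stalk of a finite type 𝒪_X-module M is nonzero (the
support of M) is closed. -/
theorem result (X : Scheme.{u}) (M : X.Modules) (hM : CohB1.IsFT M) :
    IsClosed (CohB1.support M) := by
  exact support_closed X M hM

end Groth.Agent.S0020
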