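import Groth.Statements.S0015
-- import your own Groth.Agent.* helpers here

set_option autoImplicit false
universe u
open Coherent

namespace Groth.Agent.S0015

open AlgebraicGeometry in
/-- Let X be quasi-compact and quasi-separated and P a property of opens of X. If P holds for affine
opens, and P(U ∪ V) follows from P(U), P(V), P(U ∩ V) whenever U is quasi-compact open and V affine
open, then P holds for every quasi-compact open, in particular for X. -/
theorem result (X : Scheme.{u}) [CompactSpace X] [QuasiSeparatedSpace X]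
    (P : X.Opens → Prop) (h₁ : ∀ U : X.Opens, IsAffineOpen U → P U)
    (h₂ : ∀ U V : X.Opens, IsCompact (U : Set X) → IsAffineOpen V → P U → P V → P (U ⊓ V) →
      P (U ⊔ V))
    (U : X.Opens) (hU : IsCompact (U : Set X)) : P U := by
  classical
  have hinf : ∀ (W V₁ V₂ : X.Opens), IsAffineOpen W → V₁ ≤ W → V₂ ≤ W → IsAffineOpen V₁ →
      IsAffineOpen V₂ → IsAffineOpen (V₁ ⊓ V₂) := by
    intro W V₁ V₂ hW h1 h2 hV₁ hV₂
    have : IsAffineHom (CategoryTheory.Limits.pullback.diagonal (CategoryTheory.CategoryStruct.id X)) := inferInstance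
    exact isAffineHom_diagonal_iff.mp this W hW V₁ (by simpa using h1) V₂ (by simpa using h2)
      hV₁ hV₂
  -- Step 1: P holds for finite unions of affine opens contained in a fixed affine open.
  have key : ∀ (W : X.Opens), IsAffineOpen W → ∀ (n : ℕ) (s : Finset X.Opens), s.card ≤ n →
      (∀ V ∈ s, IsAffineOpen V ∧ V ≤ W) → P (s.sup id) := by
    intro W hW n
    induction n with
    | zero =>
      intro s hs _
      rw [Nat.le_zero, Finset.card_eq_zero] at hs
      subst hs
      simpa using h₁ ⊥ (isAffineOpen_bot X)
    | succ n ih =>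
      intro s hs hsW
      rcases Nat.lt_or_ge s.card (n + 1) with hlt | hge
      · exact ih s (Nat.lt_succ_iff.mp hlt) hsW
      have hs' : s.card = n + 1 := le_antisymm hs hge
      obtain ⟨V, t, hVt, rfl, ht⟩ := Finset.card_eq_succ.mp hs'
      have hV := hsW V (by simp)
      have htW : ∀ V' ∈ t, IsAffineOpen V' ∧ V' ≤ W := fun V' hV' => hsW V' (by simp [hV'])
      rw [Finset.sup_insert, id, sup_comm]
      have hcomp : IsCompact ((t.sup id : X.Opens) : Set X) := by
        have : ((t.sup id : X.Opens) : Set X) = ⋃ V' ∈ t, (V' : Set X) := by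
          rw [Finset.sup_eq_iSup]
          simp
        rw [this]
        exact t.finite_toSet.isCompact_biUnion fun V' hV' => (htW V' hV').1.isCompact
      refine h₂ _ _ hcomp hV.1 (ih t ht.le htW) (h₁ V hV.1) ?_
      -- the intersection
      rw [Finset.sup_inf_distrib_right]
      have : (t.sup fun i => id i ⊓ V) = (t.image (fun i => i ⊓ V)).sup id := by
        rw [Finset.sup_image]; rfl
      rw [this]
      refine ih _ (Finset.card_image_le.trans ht.le) ?_
      intro V' hV'
      obtain ⟨V'', hV'', rfl⟩ := Finset.mem_image.mp hV'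
      exact ⟨hinf W V'' V hW (htW V'' hV'').2 hV.2 (htW V'' hV'').1 hV.1, inf_le_right.trans hV.2⟩
  -- Step 2: P holds for every quasi-compact open contained in an affine open.
  have key2 : ∀ (W : X.Opens), IsAffineOpen W → ∀ S : X.Opens, IsCompact (S : Set X) → S ≤ W →
      P S := by
    intro W hW S hS hSW
    obtain ⟨s, hs, e⟩ := isCompact_and_isOpen_iff_finite_and_eq_biUnion_affineOpens.mp ⟨hS, S.2⟩
    have hS' : S = (hs.toFinset.image (fun V : X.affineOpens => (V : X.Opens))).sup id := by
      apply TopologicalSpace.Opens.ext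
      rw [Finset.sup_image, Finset.sup_eq_iSup]
      simp [e]
    rw [hS']
    refine key W hW _ _ le_rfl ?_
    intro V hV
    obtain ⟨V', hV', rfl⟩ := Finset.mem_image.mp hV
    refine ⟨V'.2, le_trans ?_ hSW⟩
    intro x hx
    have : x ∈ (S : Set X) := by
      rw [e]
      exact Set.mem_biUnion (hs.mem_toFinset.mp hV') hx
    exact this
  -- Step 3: general induction.
  refine compact_open_induction_on (P := P) U hU (h₁ ⊥ (isAffineOpen_bot X)) ?_
  intro S hS V hPS
  refine h₂ S V hS V.2 hPS (h₁ V V.2) ?_
  refine key2 V V.2 _ ?_ inf_le_right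
  exact QuasiSeparatedSpace.inter_isCompact S.1 V.1 S.2 hS V.1.2 V.2.isCompact
end Groth.Agent.S0015
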