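import Groth.Statements.S0016
import Groth.Agent.Lib.Helper27.SerreVan4
import Groth.Agent.S0015
-- import your own Groth.Agent.* helpers here

set_option autoImplicit false
universe u
open Coherent

namespace Groth.Agent.S0016

open AlgebraicGeometry in
/-- For a quasi-compact quasi-separated scheme X there is a natural number d such that H^p(X, F) = 0 for
every quasi-coherent F and every p ≥ d; vanishing is stated as Subsingleton of the cohomology group.
(The published statement gives an explicit d in terms of a covering by quasi-compact separated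
opens; here only existence of some d is asserted.) -/
theorem result (X : Scheme.{u}) [CompactSpace X]
    [QuasiSeparatedSpace X] :
    ∃ d : ℕ, ∀ (M : X.Modules), Coh.IsQCoh M → ∀ p : ℕ, d ≤ p → Subsingleton (Coh.HH X M p) := by
  have key := Groth.Agent.S0015.result X
    (fun U => ∃ d : ℕ, ∀ (M : X.Modules), Coh.IsQCoh M → ∀ p : ℕ, d ≤ p →
      Subsingleton (CohTop.HU (Coh.toAb M) p U))
    (fun U hU => ⟨1, fun M hM p hp => by
      obtain ⟨q, rfl⟩ : ∃ q, p = q + 1 := ⟨p - 1, by omega⟩
      exact Groth.Agent.Lib.helper27.SerreVan.subsingleton_HU_of_isAffineOpen M U hU q⟩)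
    (fun U V hU hV ⟨d₁, h₁⟩ ⟨d₂, h₂⟩ ⟨d₃, h₃⟩ => ⟨max (max d₁ d₂) (d₃ + 1), fun M hM p hp => by
      obtain ⟨q, rfl⟩ : ∃ q, p = q + 1 := ⟨p - 1, by omega⟩
      exact Groth.Agent.Lib.helper27.SerreVan.subsingleton_HU_sup (Coh.toAb M) U V q
        (h₃ M hM q (by omega)) (h₁ M hM (q + 1) (by omega)) (h₂ M hM (q + 1) (by omega))⟩)
    ⊤ isCompact_univ
  obtain ⟨d, hd⟩ := key
  refine ⟨d, fun M hM p hp => ?_⟩
  exact @Equiv.subsingleton _ _
    (Groth.Agent.Lib.helper27.SerreVan.HEquivHU (Coh.toAb M) p).symm.toEquiv (hd M hM p hp)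

end Groth.Agent.S0016
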