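import Groth.Statements.S0460
import Groth.Agent.Lib.Helper7.FreeYoneda
import Groth.Agent.Lib.Helper7.DimShift
import Mathlib.Topology.Sheaves.LocallySurjective

set_option autoImplicit false
universe u
open CategoryTheory
open CohTop

namespace Groth.Agent.S0460


open CategoryTheory Opposite TopologicalSpace Groth.Agent.Lib.helper7 Abelian

lemma res_eq {X : TopCat.{u}} (F : CohTop.Ab X) (m : ℕ) {U V : Opens X} (h : V ≤ U)
    (ξ : CohTop.HU F m U) :
    CohTop.res F m h ξ =
      (Ext.mk₀ ((FreeYoneda.freeSheaf (Opens.grothendieckTopology X)).map (homOfLE h))).comp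
        (ξ : Ext.{u} ((FreeYoneda.freeSheaf (Opens.grothendieckTopology X)).obj U) F m)
        (zero_add m) := rfl

lemma key {X : TopCat.{u}} (n : ℕ) : ∀ (S : ShortComplex (CohTop.Ab X)) (hS : S.ShortExact)
    [Injective S.X₂] (U : Opens X)
    (ξ : Ext.{u} ((FreeYoneda.freeSheaf (Opens.grothendieckTopology X)).obj U) S.X₁ (n + 1))
    (x : X), x ∈ U → ∃ (V : Opens X) (h : V ≤ U), x ∈ V ∧
      (Ext.mk₀ ((FreeYoneda.freeSheaf (Opens.grothendieckTopology X)).map (homOfLE h))).comp ξ
        (zero_add (n + 1)) = 0 := by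
  induction n with
  | zero =>
    intro S hS _ U ξ x hx
    have h1 : ξ.comp (Ext.mk₀ S.f) (add_zero 1) = 0 := Ext.eq_zero_of_injective _
    obtain ⟨η, hη⟩ := Ext.covariant_sequence_exact₁ _ hS ξ h1 (zero_add 1)
    obtain ⟨g, rfl⟩ := (Ext.mk₀_bijective _ S.X₃).2 η
    have hepi : Epi S.g := hS.epi_g
    have hls := (TopCat.Sheaf.isLocallySurjective_iff_epi S.g).mpr hepi
    rw [TopCat.Presheaf.isLocallySurjective_iff] at hls
    obtain ⟨V, hVU, ⟨t, ht⟩, hxV⟩ := hls U
      (FreeYoneda.homEquiv (Opens.grothendieckTopology X) U _ g) x hx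
    refine ⟨V, hVU, hxV, ?_⟩
    have hfac : (FreeYoneda.freeSheaf (Opens.grothendieckTopology X)).map (homOfLE hVU) ≫ g =
        (FreeYoneda.homEquiv (Opens.grothendieckTopology X) V _).symm t ≫ S.g := by
      apply (FreeYoneda.homEquiv (Opens.grothendieckTopology X) V _).injective
      rw [FreeYoneda.homEquiv_naturality_left, FreeYoneda.homEquiv_naturality_right,
        Equiv.apply_symm_apply]
      exact ht.symm
    rw [← hη, ← Ext.comp_assoc_of_second_deg_zero, Ext.mk₀_comp_mk₀, hfac, ← Ext.mk₀_comp_mk₀,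
      Ext.comp_assoc_of_second_deg_zero, hS.comp_extClass, Ext.comp_zero]
  | succ n ih =>
    intro S hS _ U ξ x hx
    have h1 : ξ.comp (Ext.mk₀ S.f) (add_zero (n + 1 + 1)) = 0 := Ext.eq_zero_of_injective _
    obtain ⟨η, hη⟩ := Ext.covariant_sequence_exact₁ _ hS ξ h1
      (rfl : n + 1 + 1 = n + 1 + 1)
    obtain ⟨V, hVU, hxV, hres⟩ := ih (DimShift.injSES S.X₃) (DimShift.injSES_shortExact S.X₃)
      U η x hx
    refine ⟨V, hVU, hxV, ?_⟩
    have hres' : (Ext.mk₀ ((FreeYoneda.freeSheaf (Opens.grothendieckTopology X)).map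
        (homOfLE hVU))).comp η (zero_add (n + 1)) =
        (0 : Ext.{u} ((FreeYoneda.freeSheaf (Opens.grothendieckTopology X)).obj V) S.X₃ (n + 1)) :=
      hres
    rw [← hη, ← Ext.comp_assoc (a₁₂ := n + 1) _ _ _ (by lia) (by lia) (by lia), hres',
      Ext.zero_comp]

open TopologicalSpace in
/-- Given an abelian sheaf F, an open U and a class ξ in H^(n+1)(U, F), there is an open covering of U
on each member of which ξ restricts to zero. -/
theorem result {X : TopCat.{u}} (F : CohTop.Ab X) (U : Opens X) (n : ℕ)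
    (ξ : CohTop.HU F (n + 1) U) :
    ∃ (ι : Type u) (V : ι → Opens X) (hV : ∀ i, V i ≤ U), iSup V = U ∧
      ∀ i, CohTop.res F (n + 1) (hV i) ξ = 0 := by
  classical
  have hk := key.{u} (X := X) n (DimShift.injSES F) (DimShift.injSES_shortExact.{u} F) U ξ
  choose V hV hxV hres using hk
  refine ⟨U, fun x => V x.1 x.2, fun x => hV x.1 x.2, ?_, fun x => ?_⟩
  · apply le_antisymm
    · exact iSup_le fun x => hV x.1 x.2
    · intro y hy
      exact Opens.mem_iSup.mpr ⟨⟨y, hy⟩, hxV y hy⟩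
  · rw [res_eq]
    exact hres x.1 x.2

end Groth.Agent.S0460
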