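import Groth.Statements.S0797
import Mathlib

set_option autoImplicit false
universe u
open Formal2

namespace Groth.Agent.S0797

/-- In an `ℕ`-indexed inverse system of sets with surjective transition maps, every element of every
level extends to a compatible sequence. -/
lemma exists_compatible : ∀ (n : ℕ) (M : ℕ → Type u) (f : ∀ n, M (n + 1) → M n)
    (_ : ∀ n, Function.Surjective (f n)) (y : M n),
    ∃ x : ∀ m, M m, (∀ m, f m (x (m + 1)) = x m) ∧ x n = y := by
  intro n
  induction n with
  | zero =>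
    intro M f hf y
    refine ⟨fun m => Nat.rec (motive := fun m => M m) y (fun k xk => Function.surjInv (hf k) xk) m,
      ?_, rfl⟩
    intro m
    exact Function.surjInv_eq (hf m) _
  | succ n ih =>
    intro M f hf y
    obtain ⟨x', hx', hx'n⟩ := ih (fun k => M (k + 1)) (fun k => f (k + 1)) (fun k => hf (k + 1)) y
    refine ⟨fun m => Nat.casesOn (motive := fun m => M m) m (f 0 (x' 0)) (fun k => x' k), ?_, hx'n⟩
    intro m
    cases m with
    | zero => rfl
    | succ k => exact hx' k

/-- Limits of sequences whose successive differences lie in increasing powers of `I`. -/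
lemma lim_exists {A : Type u} [CommRing A] (I : Ideal A) [IsPrecomplete I A] (N : ℕ) (b : ℕ → A)
    (hb : ∀ k, b (k + 1) - b k ∈ I ^ (N + k)) : ∃ a, ∀ k, a - b k ∈ I ^ (N + k) := by
  have hmono : ∀ k d, b (k + d) - b k ∈ I ^ (N + k) := by
    intro k d
    induction d with
    | zero => simp
    | succ d ih =>
      have h1 : b (k + (d + 1)) - b k = (b (k + d + 1) - b (k + d)) + (b (k + d) - b k) := by
        rw [← add_assoc]; ring
      rw [h1]
      refine add_mem (Ideal.pow_le_pow_right (by omega) (hb (k + d))) ih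
  have hcauchy : ∀ {m n : ℕ}, m ≤ n →
      b (m - N) ≡ b (n - N) [SMOD (I ^ m • ⊤ : Submodule A A)] := by
    intro m n hmn
    rw [SModEq.sub_mem, smul_eq_mul, Ideal.mul_top]
    obtain ⟨d, hd⟩ : ∃ d, n - N = (m - N) + d := ⟨(n - N) - (m - N), by omega⟩
    rw [hd]
    have h2 := hmono (m - N) d
    have h3 : b (m - N) - b (m - N + d) = -(b (m - N + d) - b (m - N)) := by ring
    rw [h3]
    exact neg_mem (Ideal.pow_le_pow_right (by omega) h2)
  obtain ⟨a, ha⟩ := IsPrecomplete.prec ‹IsPrecomplete I A› hcauchy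
  refine ⟨a, fun k => ?_⟩
  have h1 := ha (N + k)
  rw [SModEq.sub_mem, smul_eq_mul, Ideal.mul_top, Nat.add_sub_cancel_left] at h1
  have h3 : a - b k = -(b k - a) := by ring
  rw [h3]
  exact neg_mem h1

section main

variable {A : Type u} [CommRing A] (I : Ideal A)
    (M : ℕ → Type u) [∀ n, AddCommGroup (M n)] [∀ n, Module A (M n)]
    (f : ∀ n, M (n + 1) →ₗ[A] M n)

/-- Spanning at every level, by Nakayama. -/
lemma span_level [∀ n, Module.Finite A (M n)] (hI : I ≤ Ideal.jacobson ⊥)
    (hf : ∀ n, Function.Surjective (f n))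
    (hker : ∀ n, LinearMap.ker (f n) = I ^ (n + 1) • (⊤ : Submodule A (M (n + 1))))
    {r : ℕ} (e : ∀ n, Fin r → M n) (he : ∀ n i, f n (e (n + 1) i) = e n i)
    (h0 : Submodule.span A (Set.range (e 0)) = ⊤) (n : ℕ) :
    Submodule.span A (Set.range (e n)) = ⊤ := by
  have claim : ∀ n, Submodule.span A (Set.range (e n)) ⊔ I • (⊤ : Submodule A (M n)) = ⊤ := by
    intro n
    induction n with
    | zero => rw [h0, top_sup_eq]
    | succ n ih =>
      have hmap : Submodule.map (f n) (Submodule.span A (Set.range (e (n + 1))) ⊔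
          I • (⊤ : Submodule A (M (n + 1)))) = ⊤ := by
        rw [Submodule.map_sup, Submodule.map_span, Submodule.map_smul'', Submodule.map_top,
          LinearMap.range_eq_top.2 (hf n), ← Set.range_comp]
        have : (⇑(f n) ∘ e (n + 1)) = e n := funext (he n)
        rw [this, ih]
      have h1 := Submodule.comap_map_eq (f n) (Submodule.span A (Set.range (e (n + 1))) ⊔
          I • (⊤ : Submodule A (M (n + 1))))
      rw [hmap, Submodule.comap_top, hker] at h1
      have hle : I ^ (n + 1) • (⊤ : Submodule A (M (n + 1))) ≤ I • ⊤ :=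
        Submodule.smul_mono_left (Ideal.pow_le_self (by omega))
      calc Submodule.span A (Set.range (e (n + 1))) ⊔ I • (⊤ : Submodule A (M (n + 1)))
          = Submodule.span A (Set.range (e (n + 1))) ⊔
            (I • (⊤ : Submodule A (M (n + 1))) ⊔ I ^ (n + 1) • (⊤ : Submodule A (M (n + 1)))) := by
            rw [sup_eq_left.2 hle]
        _ = (Submodule.span A (Set.range (e (n + 1))) ⊔ I • (⊤ : Submodule A (M (n + 1)))) ⊔
            I ^ (n + 1) • (⊤ : Submodule A (M (n + 1))) := (sup_assoc _ _ _).symm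
        _ = ⊤ := h1.symm
  rw [eq_top_iff]
  refine Submodule.le_of_le_smul_of_le_jacobson_bot (Module.Finite.fg_top) hI ?_
  rw [claim n]

/-- Successive approximation. -/
lemma approx [IsPrecomplete I A]
    (hk : ∀ n, I ^ (n + 1) • (⊤ : Submodule A (M n)) = ⊥)
    (hker : ∀ n, LinearMap.ker (f n) = I ^ (n + 1) • (⊤ : Submodule A (M (n + 1))))
    {r : ℕ} (e : ∀ n, Fin r → M n) (he : ∀ n i, f n (e (n + 1) i) = e n i)
    (hspan : ∀ n, Submodule.span A (Set.range (e n)) = ⊤)
    (x : ∀ n, M n) (hx : ∀ n, f n (x (n + 1)) = x n)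
    (n₀ : ℕ) (a₀ : Fin r → A) (h₀ : ∑ i, a₀ i • e n₀ i = x n₀) :
    ∃ a : Fin r → A, (∀ i, a i - a₀ i ∈ I ^ (n₀ + 1)) ∧ ∀ m, ∑ i, a i • e m i = x m := by
  classical
  have step : ∀ k (b : Fin r → A), (∑ i, b i • e (n₀ + k) i = x (n₀ + k)) →
      ∃ b' : Fin r → A, (∑ i, b' i • e (n₀ + (k + 1)) i = x (n₀ + (k + 1))) ∧
        ∀ i, b' i - b i ∈ I ^ (n₀ + 1 + k) := by
    intro k b hb
    set δ := x (n₀ + (k + 1)) - ∑ i, b i • e (n₀ + (k + 1)) i with hδ
    have hδker : δ ∈ LinearMap.ker (f (n₀ + k)) := by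
      rw [LinearMap.mem_ker, hδ, map_sub, map_sum]
      have : ∀ i, f (n₀ + k) (b i • e (n₀ + (k + 1)) i) = b i • e (n₀ + k) i := by
        intro i
        rw [map_smul]
        congr 1
        exact he (n₀ + k) i
      simp only [this]
      rw [hb]
      exact sub_eq_zero.2 (hx (n₀ + k))
    rw [hker, ← hspan (n₀ + k + 1), Submodule.mem_ideal_smul_span_iff_exists_sum] at hδker
    obtain ⟨c, hc, hcsum⟩ := hδker
    rw [Finsupp.sum_fintype c (fun i c => c • e (n₀ + k + 1) i) (fun i => zero_smul _ _)] at hcsum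
    refine ⟨fun i => b i + c i, ?_, ?_⟩
    · simp only [add_smul, Finset.sum_add_distrib]
      have hcsum' : ∑ i, c i • e (n₀ + (k + 1)) i = δ := hcsum
      rw [hcsum', hδ]
      abel
    · intro i
      have : n₀ + 1 + k = n₀ + k + 1 := by omega
      rw [this]
      simpa using hc i
  let s : ∀ k, {b : Fin r → A // ∑ i, b i • e (n₀ + k) i = x (n₀ + k)} := fun k =>
    Nat.rec (motive := fun k => {b : Fin r → A // ∑ i, b i • e (n₀ + k) i = x (n₀ + k)})
      ⟨a₀, h₀⟩
      (fun k sk => ⟨Classical.choose (step k sk.1 sk.2),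
        (Classical.choose_spec (step k sk.1 sk.2)).1⟩) k
  have hs : ∀ k i, (s (k + 1)).1 i - (s k).1 i ∈ I ^ (n₀ + 1 + k) := fun k i =>
    (Classical.choose_spec (step k (s k).1 (s k).2)).2 i
  have hs0 : (s 0).1 = a₀ := rfl
  have hlim : ∀ i, ∃ a, ∀ k, a - (s k).1 i ∈ I ^ (n₀ + 1 + k) := fun i =>
    lim_exists I (n₀ + 1) (fun k => (s k).1 i) (fun k => hs k i)
  choose a ha using hlim
  refine ⟨a, ?_, ?_⟩
  · intro i
    have := ha i 0
    rwa [hs0] at this
  · have h2 : ∀ k, ∑ i, a i • e (n₀ + k) i = x (n₀ + k) := by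
      intro k
      have hsplit : ∑ i, a i • e (n₀ + k) i =
          ∑ i, (s k).1 i • e (n₀ + k) i + ∑ i, (a i - (s k).1 i) • e (n₀ + k) i := by
        rw [← Finset.sum_add_distrib]
        refine Finset.sum_congr rfl (fun i _ => ?_)
        rw [← add_smul]
        congr 1
        ring
      have hzero : ∀ i, (a i - (s k).1 i) • e (n₀ + k) i = 0 := by
        intro i
        have hmem : (a i - (s k).1 i) • e (n₀ + k) i ∈
            I ^ (n₀ + k + 1) • (⊤ : Submodule A (M (n₀ + k))) := by
          refine Submodule.smul_mem_smul ?_ Submodule.mem_top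
          have := ha i k
          have h' : n₀ + 1 + k = n₀ + k + 1 := by omega
          rwa [h'] at this
        rw [hk] at hmem
        exact (Submodule.mem_bot A).1 hmem
      rw [hsplit, (s k).2]
      simp only [hzero, Finset.sum_const_zero, add_zero]
    have hdown : ∀ d j, (∑ i, a i • e (j + d) i = x (j + d)) → ∑ i, a i • e j i = x j := by
      intro d
      induction d with
      | zero => intro j h; exact h
      | succ d ih =>
        intro j h
        apply ih j
        have h' := congrArg (f (j + d)) h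
        rw [map_sum] at h'
        have : ∀ i, f (j + d) (a i • e (j + (d + 1)) i) = a i • e (j + d) i := by
          intro i
          rw [map_smul]
          congr 1
          exact he (j + d) i
        simp only [this] at h'
        rw [h']
        exact hx (j + d)
    intro m
    apply hdown n₀ m
    rw [Nat.add_comm]
    exact h2 m

end main

/-- The module-theoretic heart, over a base that is already complete (so that the completion of A is A).
Let A be Noetherian and I-adically complete, and let (M_n, f_n : M_{n+1} → M_n) be an inverse system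
of finite A-modules with M_n annihilated by I^(n+1) and f_n surjective with kernel I^(n+1) M_{n+1}
(indices shifted by one). Then the A-module of compatible sequences is finitely generated, each
projection to M_n is surjective, and its kernel is I^(n+1) times the module of compatible sequences. -/
theorem result (A : Type u) [CommRing A] [IsNoetherianRing A] (I : Ideal A)
    [IsAdicComplete I A] (M : ℕ → Type u) [∀ n, AddCommGroup (M n)] [∀ n, Module A (M n)]
    [∀ n, Module.Finite A (M n)] (f : ∀ n, M (n + 1) →ₗ[A] M n) (hf : ∀ n, Function.Surjective (f n))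
    (hk : ∀ n, I ^ (n + 1) • (⊤ : Submodule A (M n)) = ⊥)
    (hker : ∀ n, LinearMap.ker (f n) = I ^ (n + 1) • (⊤ : Submodule A (M (n + 1))))
    (L : Submodule A (∀ n, M n)) (hL : ∀ x : ∀ n, M n, x ∈ L ↔ ∀ n, f n (x (n + 1)) = x n) :
    Module.Finite A L ∧ ∀ n, Function.Surjective ((LinearMap.proj n).comp L.subtype : L →ₗ[A] M n) ∧
      LinearMap.ker ((LinearMap.proj n).comp L.subtype : L →ₗ[A] M n) = I ^ (n + 1) • (⊤ : Submodule A L) := by
  classical
  have hsurj : ∀ n (y : M n), ∃ x : L, (x : ∀ n, M n) n = y := by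
    intro n y
    obtain ⟨x, hx, hxn⟩ := exists_compatible n M (fun n => f n) hf y
    exact ⟨⟨x, (hL x).2 hx⟩, hxn⟩
  obtain ⟨r, g, hg⟩ := Module.Finite.exists_fin (R := A) (M := M 0)
  choose l hl using fun i => hsurj 0 (g i)
  let e : ∀ n, Fin r → M n := fun n i => (l i : ∀ n, M n) n
  have he : ∀ n i, f n (e (n + 1) i) = e n i := fun n i => (hL _).1 (l i).2 n
  have h0 : Submodule.span A (Set.range (e 0)) = ⊤ := by
    have : e 0 = g := funext hl
    rw [this, hg]
  have hI : I ≤ Ideal.jacobson ⊥ := IsAdicComplete.le_jacobson_bot I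
  have hspan := span_level I M f hI hf hker e he h0
  have key : ∀ (x : L) (n₀ : ℕ) (a₀ : Fin r → A), ∑ i, a₀ i • e n₀ i = (x : ∀ n, M n) n₀ →
      ∃ a : Fin r → A, (∀ i, a i - a₀ i ∈ I ^ (n₀ + 1)) ∧ x = ∑ i, a i • l i := by
    intro x n₀ a₀ h₀
    obtain ⟨a, ha1, ha2⟩ := approx I M f hk hker e he hspan x.1 ((hL _).1 x.2) n₀ a₀ h₀
    refine ⟨a, ha1, ?_⟩
    apply Subtype.ext
    funext m
    rw [← ha2 m]
    simp [e]
  refine ⟨?_, fun n => ⟨?_, ?_⟩⟩
  · apply Module.Finite.of_surjective (Fintype.linearCombination A l)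
    intro x
    obtain ⟨a₀, ha₀⟩ := (Submodule.mem_span_range_iff_exists_fun A).1
      (show (x : ∀ n, M n) 0 ∈ Submodule.span A (Set.range (e 0)) by rw [hspan 0]; trivial)
    obtain ⟨a, -, hax⟩ := key x 0 a₀ ha₀
    exact ⟨a, by rw [Fintype.linearCombination_apply]; exact hax.symm⟩
  · intro y
    obtain ⟨x, hx⟩ := hsurj n y
    exact ⟨x, hx⟩
  · apply le_antisymm
    · intro x hx
      have hxn : (x : ∀ n, M n) n = 0 := hx
      obtain ⟨a, ha, hax⟩ := key x n 0 (by simp [hxn])
      rw [hax]
      refine Submodule.sum_mem _ (fun i _ => Submodule.smul_mem_smul ?_ Submodule.mem_top)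
      simpa using ha i
    · rw [Submodule.smul_le]
      intro c hc x _
      rw [LinearMap.mem_ker]
      have hmem : c • ((x : ∀ n, M n) n) ∈ I ^ (n + 1) • (⊤ : Submodule A (M n)) :=
        Submodule.smul_mem_smul hc Submodule.mem_top
      rw [hk] at hmem
      exact (Submodule.mem_bot A).1 hmem

end Groth.Agent.S0797
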