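import Groth.Statements.S0787
import Mathlib
import Groth.Agent.Lib.Helper8.ProperOver
import Groth.Agent.Lib.Helper8.ProperDescent
-- import your own Groth.Agent.* helpers here

set_option autoImplicit false
universe u
open Coherent

namespace Groth.Agent.S0787


open CategoryTheory AlgebraicGeometry Scheme.IdealSheafData in
/-- If the reduced structure on `Z` is proper over `S`, so is every closed subscheme structure. -/
theorem isProper_of_isProperOver {X S : Scheme.{u}} (f : X ⟶ S) [LocallyOfFiniteType f]
    (Z : Set X) (h : ClSub.IsProperOver f Z) (T : Scheme.{u}) (i : T ⟶ X) [IsClosedImmersion i]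
    (hr : Set.range ⇑i = Z) : IsProper (i ≫ f) := by
  obtain ⟨hcl, hprop⟩ := h
  set I := vanishingIdeal ⟨Z, hcl⟩ with hI
  have H : i.ker ≤ I.subschemeι.ker := by
    rw [ker_subschemeι, hI, ← le_support_iff_le_vanishingIdeal]
    intro x hx
    have hx' : x ∈ Set.range ⇑i := by rw [hr]; exact hx
    exact i.range_subset_ker_support hx'
  let l : I.subscheme ⟶ T := IsClosedImmersion.lift i I.subschemeι H
  have hl : l ≫ i = I.subschemeι := IsClosedImmersion.lift_fac i I.subschemeι H
  have : IsClosedImmersion (l ≫ i) := by rw [hl]; infer_instance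
  have : IsClosedImmersion l := IsClosedImmersion.of_comp l i
  have hsurj : Function.Surjective l := by
    intro t
    have hrI : Set.range I.subschemeι = Z := by
      rw [range_subschemeι, hI, coe_support_vanishingIdeal]; rfl
    have h1 : i t ∈ Set.range I.subschemeι := by rw [hrI, ← hr]; exact ⟨t, rfl⟩
    obtain ⟨s, hs⟩ := h1
    refine ⟨s, ?_⟩
    apply i.isClosedEmbedding.injective
    rw [← Scheme.Hom.comp_apply, hl]
    exact hs
  have : Surjective l := ⟨hsurj⟩
  have hcomp : l ≫ (i ≫ f) = I.subschemeι ≫ f := by rw [← Category.assoc, hl]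
  have : IsProper (l ≫ (i ≫ f)) := by rw [hcomp]; exact hprop
  have : UniversallyClosed (i ≫ f) := UniversallyClosed.of_comp_surjective l _
  have : IsSeparated (i ≫ f) :=
    Groth.Agent.Lib.helper8.isSeparated_of_comp_surjective_universallyClosed l _
  exact { }

open CategoryTheory AlgebraicGeometry in
/-- Let f : X → S be locally of finite type and Z ⊆ X a closed subset. Then Z with its reduced induced
structure is proper over S if and only if some closed subscheme of X with underlying set Z is proper
over S, if and only if every closed subscheme of X with underlying set Z is proper over S. -/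
theorem result {X S : Scheme.{u}} (f : X ⟶ S) [LocallyOfFiniteType f]
    (Z : Set X) (hZ : IsClosed Z) :
    (ClSub.IsProperOver f Z ↔ ∃ (T : Scheme.{u}) (i : T ⟶ X), IsClosedImmersion i ∧
        Set.range ⇑i = Z ∧ IsProper (i ≫ f)) ∧
    (ClSub.IsProperOver f Z ↔ ∀ (T : Scheme.{u}) (i : T ⟶ X), IsClosedImmersion i →
        Set.range ⇑i = Z → IsProper (i ≫ f)) := by
  open Scheme.IdealSheafData in
  have hrI : Set.range (vanishingIdeal ⟨Z, hZ⟩).subschemeι = Z := by
    rw [range_subschemeι, coe_support_vanishingIdeal]; rfl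
  have hb : (∃ (T : Scheme.{u}) (i : T ⟶ X), IsClosedImmersion i ∧
        Set.range ⇑i = Z ∧ IsProper (i ≫ f)) → ClSub.IsProperOver f Z := by
    rintro ⟨T, i, hi, hr, hp⟩
    have := Groth.Agent.Lib.helper8.isProperOver_range_of_isClosedImmersion f i
    rwa [← hr]
  refine ⟨⟨fun h => ?_, hb⟩, ⟨fun h T i hi hr => ?_, fun h => ?_⟩⟩
  · obtain ⟨hcl, hprop⟩ := h
    exact ⟨_, (vanishingIdeal ⟨Z, hcl⟩).subschemeι, inferInstance, hrI, hprop⟩
  · exact isProper_of_isProperOver f Z h T i hr
  · exact ⟨hZ, h _ (vanishingIdeal ⟨Z, hZ⟩).subschemeι inferInstance hrI⟩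

end Groth.Agent.S0787
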