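import Groth.Statements.S0796
import Mathlib
import Groth.Agent.S0020
import Groth.Agent.Lib.Helper28.QCohSupport
import Groth.Agent.Lib.Helper16.QCohEpi
import Groth.Agent.Lib.Helper8.ProperDescent

set_option autoImplicit false
universe u
open Coherent

namespace Groth.Agent.S0796


section helpers

open CategoryTheory CategoryTheory.Limits AlgebraicGeometry TopologicalSpace Opposite
open Groth.Agent.Lib.helper8

/-- sections of a morphism of modules as a linear map -/
noncomputable def appL {X : Scheme.{u}} {M N : X.Modules} (φ : M ⟶ N) (U : X.Opens) :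
    Γ(M, U) →ₗ[Γ(X, U)] Γ(N, U) where
  toFun s := (φ.app U).hom s
  map_add' a b := map_add _ a b
  map_smul' r s := Scheme.Modules.Hom.app_smul φ r s

theorem sections_exact {X : Scheme.{u}} (E : ShortComplex X.Modules) (hE : E.ShortExact)
    (U : X.Opens) :
    Function.Injective (E.f.app U).hom ∧
    (∀ y : Γ(E.X₂, U), (E.g.app U).hom y = 0 → ∃ z, (E.f.app U).hom z = y) := by
  let F' : X.Modules ⥤ Ab.{u} := Scheme.Modules.toPresheaf X ⋙ (evaluation _ _).obj (op U)
  haveI : PreservesLimits (Scheme.Modules.toPresheaf X) := inferInstance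
  haveI : PreservesFiniteLimits ((evaluation (Opens X)ᵒᵖ Ab.{u}).obj (op U)) := inferInstance
  haveI : PreservesFiniteLimits F' := comp_preservesFiniteLimits _ _
  haveI : F'.PreservesZeroMorphisms := inferInstance
  haveI := hE.mono_f
  constructor
  · have : Mono (F'.map E.f) := inferInstance
    exact (AddCommGrpCat.mono_iff_injective _).mp this
  · have hex : (E.map F').Exact :=
      hE.exact.map_of_mono_of_preservesKernel F' hE.mono_f inferInstance
    rw [ShortComplex.ab_exact_iff] at hex
    exact hex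

theorem support_eq_union {X : Scheme.{u}} (E : ShortComplex X.Modules) (hE : E.ShortExact)
    [E.X₁.IsQuasicoherent] [E.X₂.IsQuasicoherent] [E.X₃.IsQuasicoherent] :
    CohB1.support E.X₂ = CohB1.support E.X₁ ∪ CohB1.support E.X₃ := by
  ext x
  obtain ⟨_, ⟨U, hU, rfl⟩, hxU, -⟩ :=
    X.isBasis_affineOpens.exists_subset_of_mem_open (Set.mem_univ x) isOpen_univ
  have k₁ := Groth.Agent.Lib.helper28.primeIdealOf_mem_support_iff E.X₁ hU x hxU
  have k₂ := Groth.Agent.Lib.helper28.primeIdealOf_mem_support_iff E.X₂ hU x hxU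
  have k₃ := Groth.Agent.Lib.helper28.primeIdealOf_mem_support_iff E.X₃ hU x hxU
  haveI := hE.epi_g
  have hsurj := Groth.Agent.Lib.helper16.QCohEpi.surjective_app_of_epi E.g hU
  obtain ⟨hinj, hex⟩ := sections_exact E hE U
  have hexact : Function.Exact (appL E.f U) (appL E.g U) := by
    intro y
    constructor
    · intro hy
      obtain ⟨z, hz⟩ := hex y hy
      exact ⟨z, hz⟩
    · rintro ⟨z, rfl⟩
      have h0 : E.f ≫ E.g = 0 := E.zero
      have h1 : (E.f ≫ E.g).app U = 0 := by rw [h0]; rfl
      exact congr($(h1).hom z)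
  have hsupp := Module.support_of_exact hexact hinj hsurj
  change ¬ Subsingleton _ ↔ ¬ Subsingleton _ ∨ ¬ Subsingleton _
  rw [← k₁, ← k₂, ← k₃, hsupp]
  rfl

theorem isProperOver_of_subset {X S : Scheme.{u}} (f : X ⟶ S) {A Z : Set X} (hA : IsClosed A)
    (hAZ : A ⊆ Z) (hZ : ClSub.IsProperOver f Z) : ClSub.IsProperOver f A := by
  obtain ⟨hZc, hZp⟩ := hZ
  refine ⟨hA, ?_⟩
  have hle : Scheme.IdealSheafData.vanishingIdeal ⟨Z, hZc⟩ ≤
      Scheme.IdealSheafData.vanishingIdeal ⟨A, hA⟩ :=
    Scheme.IdealSheafData.vanishingIdeal_antimono (show (⟨A, hA⟩ : Closeds X) ≤ ⟨Z, hZc⟩ from hAZ)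
  have e := Scheme.IdealSheafData.inclusion_subschemeι hle
  haveI : IsClosedImmersion (Scheme.IdealSheafData.inclusion hle ≫
      (Scheme.IdealSheafData.vanishingIdeal ⟨Z, hZc⟩).subschemeι) := by rw [e]; infer_instance
  haveI : IsClosedImmersion (Scheme.IdealSheafData.inclusion hle) :=
    IsClosedImmersion.of_comp _ (Scheme.IdealSheafData.vanishingIdeal ⟨Z, hZc⟩).subschemeι
  rw [← e, Category.assoc]
  infer_instance

theorem isProper_coprod_desc {A B S : Scheme.{u}} (a : A ⟶ S) (b : B ⟶ S) [IsProper a]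
    [IsProper b] : IsProper (coprod.desc a b) := by
  have : coprod.desc a b = coprod.map a b ≫ coprod.desc (𝟙 S) (𝟙 S) := by
    ext <;> simp
  rw [this]
  haveI : IsProper (coprod.map a b) :=
    IsZariskiLocalAtTarget.coprodMap (P := @IsProper) a b ‹_› ‹_›
  infer_instance

theorem isProperOver_union {X S : Scheme.{u}} (f : X ⟶ S) [LocallyOfFiniteType f] {A B : Set X}
    (hA : ClSub.IsProperOver f A) (hB : ClSub.IsProperOver f B) :
    ClSub.IsProperOver f (A ∪ B) := by
  obtain ⟨hAc, hAp⟩ := hA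
  obtain ⟨hBc, hBp⟩ := hB
  have hc : IsClosed (A ∪ B) := hAc.union hBc
  refine ⟨hc, ?_⟩
  have hleA : Scheme.IdealSheafData.vanishingIdeal ⟨A ∪ B, hc⟩ ≤
      Scheme.IdealSheafData.vanishingIdeal ⟨A, hAc⟩ :=
    Scheme.IdealSheafData.vanishingIdeal_antimono
      (show (⟨A, hAc⟩ : Closeds X) ≤ ⟨A ∪ B, hc⟩ from Set.subset_union_left)
  have hleB : Scheme.IdealSheafData.vanishingIdeal ⟨A ∪ B, hc⟩ ≤
      Scheme.IdealSheafData.vanishingIdeal ⟨B, hBc⟩ :=
    Scheme.IdealSheafData.vanishingIdeal_antimono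
      (show (⟨B, hBc⟩ : Closeds X) ≤ ⟨A ∪ B, hc⟩ from Set.subset_union_right)
  generalize hIA : Scheme.IdealSheafData.vanishingIdeal ⟨A, hAc⟩ = IA at *
  generalize hIB : Scheme.IdealSheafData.vanishingIdeal ⟨B, hBc⟩ = IB at *
  generalize hIZ : Scheme.IdealSheafData.vanishingIdeal ⟨A ∪ B, hc⟩ = IZ at *
  have sA : (IA.support : Set X) = A := by rw [← hIA]; rfl
  have sB : (IB.support : Set X) = B := by rw [← hIB]; rfl
  have sZ : (IZ.support : Set X) = A ∪ B := by rw [← hIZ]; rfl
  let h : IA.subscheme ⨿ IB.subscheme ⟶ IZ.subscheme :=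
    coprod.desc (Scheme.IdealSheafData.inclusion hleA) (Scheme.IdealSheafData.inclusion hleB)
  have hcomp : h ≫ (IZ.subschemeι ≫ f) =
      coprod.desc (IA.subschemeι ≫ f) (IB.subschemeι ≫ f) := by
    apply coprod.hom_ext <;> simp [h]
  haveI : IsProper (IA.subschemeι ≫ f) := hAp
  haveI : IsProper (IB.subschemeι ≫ f) := hBp
  haveI : IsProper (h ≫ (IZ.subschemeι ≫ f)) := by
    rw [hcomp]; exact isProper_coprod_desc _ _
  haveI : IsClosedImmersion (Scheme.IdealSheafData.inclusion hleA) := by
    haveI : IsClosedImmersion (Scheme.IdealSheafData.inclusion hleA ≫ IZ.subschemeι) := by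
      rw [Scheme.IdealSheafData.inclusion_subschemeι]; infer_instance
    exact IsClosedImmersion.of_comp _ IZ.subschemeι
  haveI : IsClosedImmersion (Scheme.IdealSheafData.inclusion hleB) := by
    haveI : IsClosedImmersion (Scheme.IdealSheafData.inclusion hleB ≫ IZ.subschemeι) := by
      rw [Scheme.IdealSheafData.inclusion_subschemeι]; infer_instance
    exact IsClosedImmersion.of_comp _ IZ.subschemeι
  haveI : Surjective h := by
    refine ⟨fun z => ?_⟩
    have hz : IZ.subschemeι z ∈ A ∪ B := by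
      have : IZ.subschemeι z ∈ Set.range IZ.subschemeι := ⟨z, rfl⟩
      rw [IZ.range_subschemeι, sZ] at this
      exact this
    rcases hz with hz | hz
    · have : IZ.subschemeι z ∈ Set.range IA.subschemeι := by
        rw [IA.range_subschemeι, sA]; exact hz
      obtain ⟨a, ha⟩ := this
      refine ⟨(coprod.inl : IA.subscheme ⟶ IA.subscheme ⨿ IB.subscheme) a, ?_⟩
      apply IZ.subschemeι.isEmbedding.injective
      rw [← ha, ← Scheme.Hom.comp_apply, ← Scheme.Hom.comp_apply]
      have : (coprod.inl : IA.subscheme ⟶ IA.subscheme ⨿ IB.subscheme) ≫ h ≫ IZ.subschemeι =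
          IA.subschemeι := by
        simp only [h, coprod.inl_desc_assoc, Scheme.IdealSheafData.inclusion_subschemeι]
      rw [this]
    · have : IZ.subschemeι z ∈ Set.range IB.subschemeι := by
        rw [IB.range_subschemeι, sB]; exact hz
      obtain ⟨b, hb⟩ := this
      refine ⟨(coprod.inr : IB.subscheme ⟶ IA.subscheme ⨿ IB.subscheme) b, ?_⟩
      apply IZ.subschemeι.isEmbedding.injective
      rw [← hb, ← Scheme.Hom.comp_apply, ← Scheme.Hom.comp_apply]
      have : (coprod.inr : IB.subscheme ⟶ IA.subscheme ⨿ IB.subscheme) ≫ h ≫ IZ.subschemeι =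
          IB.subschemeι := by
        simp only [h, coprod.inr_desc_assoc, Scheme.IdealSheafData.inclusion_subschemeι]
      rw [this]
  haveI : UniversallyClosed (IZ.subschemeι ≫ f) :=
    UniversallyClosed.of_comp_surjective h (IZ.subschemeι ≫ f)
  haveI : UniversallyClosed h := inferInstance
  haveI : IsSeparated (IZ.subschemeι ≫ f) :=
    isSeparated_of_comp_surjective_universallyClosed h (IZ.subschemeι ≫ f)
  haveI : LocallyOfFiniteType (IZ.subschemeι ≫ f) := inferInstance
  exact { }

end helpers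

open CategoryTheory AlgebraicGeometry in
/-- Part (2), through the usual criterion for Serre subcategories. Let S be locally Noetherian and f : X
→ S locally of finite type. For a short exact sequence 0 → F₁ → F₂ → F₃ → 0 of coherent O_X-modules,
the support of F₂ is proper over S if and only if the supports of F₁ and F₃ are. -/
theorem result {X S : Scheme.{u}} (f : X ⟶ S) [LocallyOfFiniteType f]
    [IsLocallyNoetherian S] (E : ShortComplex X.Modules) (hE : E.ShortExact)
    (h₁ : Coh.IsCoh E.X₁) (h₂ : Coh.IsCoh E.X₂) (h₃ : Coh.IsCoh E.X₃) :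
    ClSub.IsProperOver f (CohB1.support E.X₂) ↔
      ClSub.IsProperOver f (CohB1.support E.X₁) ∧ ClSub.IsProperOver f (CohB1.support E.X₃) := by
  haveI := h₁.1
  haveI := h₂.1
  haveI := h₃.1
  have hs := support_eq_union E hE
  have c₁ : IsClosed (CohB1.support E.X₁) := Groth.Agent.S0020.result X E.X₁ h₁.2
  have c₃ : IsClosed (CohB1.support E.X₃) := Groth.Agent.S0020.result X E.X₃ h₃.2
  rw [hs]
  constructor
  · intro h
    exact ⟨isProperOver_of_subset f c₁ Set.subset_union_left h,
      isProperOver_of_subset f c₃ Set.subset_union_right h⟩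
  · rintro ⟨hA, hB⟩
    exact isProperOver_union f hA hB

end Groth.Agent.S0796
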