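import Groth.Statements.S0789
import Groth.Agent.Lib.Helper8.ProperOver
import Groth.Agent.Lib.Helper8.ProperDescent

set_option autoImplicit false
universe u
open Coherent

namespace Groth.Agent.S0789

open CategoryTheory AlgebraicGeometry in
/-- Let X and Y be schemes locally of finite type over S and f : X → Y a universally closed morphism
over S. If Z ⊆ X is closed and proper over S, its image f(Z) is again closed in Y and proper over S. -/
theorem result {X Y S : Scheme.{u}} (p : X ⟶ S) (q : Y ⟶ S)
    [LocallyOfFiniteType p] [LocallyOfFiniteType q] (f : X ⟶ Y) [UniversallyClosed f] (w : f ≫ q = p)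
    (Z : Set X) (hZ : ClSub.IsProperOver p Z) : ClSub.IsProperOver q (⇑f '' Z) := by
  open CategoryTheory.Limits Groth.Agent.Lib.helper8 Scheme.IdealSheafData in
  obtain ⟨hcl, hprop⟩ := hZ
  have hcl' : IsClosed (⇑f '' Z) := f.isClosedMap _ hcl
  refine ⟨hcl', ?_⟩
  set I := vanishingIdeal ⟨Z, hcl⟩ with hI
  set I' := vanishingIdeal ⟨⇑f '' Z, hcl'⟩ with hI'
  have H : I' ≤ I.map f := by
    rw [hI, map_vanishingIdeal]
    apply le_of_eq
    rw [hI']
    congr 1
    apply TopologicalSpace.Closeds.ext
    exact hcl'.closure_eq.symm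
  let h : I.subscheme ⟶ I'.subscheme := subschemeMap I I' f H
  have hh : h ≫ I'.subschemeι = I.subschemeι ≫ f := subschemeMap_subschemeι I I' f H
  have hu : h ≫ (I'.subschemeι ≫ q) = I.subschemeι ≫ p := by
    rw [← Category.assoc, hh, Category.assoc, w]
  -- h is surjective
  have hsurj : Function.Surjective h.base := by
    intro t'
    have hr' : Set.range I'.subschemeι.base = ⇑f '' Z := by
      rw [range_subschemeι, hI', coe_support_vanishingIdeal]; rfl
    have hr : Set.range I.subschemeι.base = Z := by
      rw [range_subschemeι, hI, coe_support_vanishingIdeal]; rfl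
    have h1 : I'.subschemeι.base t' ∈ Set.range I'.subschemeι.base := ⟨t', rfl⟩
    rw [hr'] at h1
    obtain ⟨z, hz, hz'⟩ := h1
    have h2 : z ∈ Set.range I.subschemeι.base := by
      rw [hr]; exact hz
    obtain ⟨t, rfl⟩ := h2
    refine ⟨t, ?_⟩
    apply I'.subschemeι.isClosedEmbedding.injective
    have : I'.subschemeι.base (h.base t) = (h ≫ I'.subschemeι).base t := rfl
    rw [this, hh]
    exact hz'
  haveI : Surjective h := ⟨hsurj⟩
  haveI : UniversallyClosed (h ≫ I'.subschemeι) := by rw [hh]; infer_instance
  haveI : UniversallyClosed h := UniversallyClosed.of_comp_of_isSeparated h I'.subschemeι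
  haveI : IsProper (h ≫ (I'.subschemeι ≫ q)) := by rw [hu]; exact hprop
  haveI : UniversallyClosed (I'.subschemeι ≫ q) := UniversallyClosed.of_comp_surjective h _
  haveI : QuasiCompact (I'.subschemeι ≫ q) := quasiCompact_of_comp_surjective h _
  haveI : IsSeparated (I'.subschemeι ≫ q) := isSeparated_of_comp_surjective_universallyClosed h _
  exact { }

end Groth.Agent.S0789
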