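import Groth.Statements.S0788
import Mathlib
import Groth.Agent.S0789
-- import your own Groth.Agent.* helpers here

set_option autoImplicit false
universe u
open Coherent

namespace Groth.Agent.S0788

open CategoryTheory AlgebraicGeometry in
/-- Let X and Y be schemes locally of finite type over S, with Y separated over S, and f : X → Y a
morphism over S. If Z ⊆ X is closed and proper over S (reduced induced structure), its image f(Z) is
again closed in Y and proper over S. -/
theorem result {X Y S : Scheme.{u}} (p : X ⟶ S) (q : Y ⟶ S)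
    [LocallyOfFiniteType p] [LocallyOfFiniteType q] [IsSeparated q] (f : X ⟶ Y) (w : f ≫ q = p)
    (Z : Set X) (hZ : ClSub.IsProperOver p Z) : ClSub.IsProperOver q (⇑f '' Z) := by
  open Scheme.IdealSheafData in
  obtain ⟨hcl, hprop⟩ := hZ
  set I := vanishingIdeal ⟨Z, hcl⟩ with hI
  -- the reduced subscheme `T` on `Z`, with `p' : T ⟶ S` proper
  have hp' : IsProper (I.subschemeι ≫ p) := hprop
  have hfac : (I.subschemeι ≫ f) ≫ q = I.subschemeι ≫ p := by rw [Category.assoc, w]
  have : IsProper ((I.subschemeι ≫ f) ≫ q) := by rw [hfac]; exact hp'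
  have huc : UniversallyClosed (I.subschemeι ≫ f) :=
    UniversallyClosed.of_comp_of_isSeparated (I.subschemeι ≫ f) q
  have hall : ClSub.IsProperOver (I.subschemeι ≫ p) (Set.univ : Set I.subscheme) := by
    refine ⟨isClosed_univ, ?_⟩
    infer_instance
  have key := Groth.Agent.S0789.result (I.subschemeι ≫ p) q (I.subschemeι ≫ f) hfac Set.univ hall
  have himg : ⇑(I.subschemeι ≫ f) '' Set.univ = ⇑f '' Z := by
    have hr : Set.range I.subschemeι = Z := by
      rw [range_subschemeι, hI, coe_support_vanishingIdeal]; rfl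
    rw [Set.image_univ, ← hr]
    ext y
    simp only [Set.mem_range, Set.mem_image]
    constructor
    · rintro ⟨t, rfl⟩
      exact ⟨_, ⟨t, rfl⟩, by rw [Scheme.Hom.comp_apply]⟩
    · rintro ⟨_, ⟨t, rfl⟩, rfl⟩
      exact ⟨t, by rw [Scheme.Hom.comp_apply]⟩
  rw [himg] at key
  exact key

end Groth.Agent.S0788
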