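import Groth.Statements.S0790
import Groth.Agent.Lib.Helper8.ProperOver

set_option autoImplicit false
universe u
open Coherent

namespace Groth.Agent.S0790

open CategoryTheory AlgebraicGeometry in
/-- Let X and Y be schemes locally of finite type over S and f : X → Y a proper morphism over S. If Z ⊆
Y is closed and proper over S, its preimage in X is again closed and proper over S. -/
theorem result {X Y S : Scheme.{u}} (p : X ⟶ S) (q : Y ⟶ S)
    [LocallyOfFiniteType p] [LocallyOfFiniteType q] (f : X ⟶ Y) [IsProper f] (w : f ≫ q = p)
    (Z : Set Y) (hZ : ClSub.IsProperOver q Z) : ClSub.IsProperOver p (⇑f ⁻¹' Z) := by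
  open CategoryTheory.Limits Groth.Agent.Lib.helper8 in
  obtain ⟨hcl, hprop⟩ := hZ
  set I := Scheme.IdealSheafData.vanishingIdeal ⟨Z, hcl⟩ with hI
  have e : pullback.snd I.subschemeι f ≫ p = pullback.fst I.subschemeι f ≫ (I.subschemeι ≫ q) := by
    rw [← w, ← Category.assoc, ← pullback.condition, Category.assoc]
  haveI : IsProper (pullback.snd I.subschemeι f ≫ p) := by
    rw [e]; infer_instance
  have h1 := isProperOver_range_of_isClosedImmersion p (pullback.snd I.subschemeι f)
  have h2 : Set.range (pullback.snd I.subschemeι f).base = ⇑f ⁻¹' Z := by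
    rw [Scheme.Pullback.range_snd, Scheme.IdealSheafData.range_subschemeι, hI,
      Scheme.IdealSheafData.coe_support_vanishingIdeal]
    rfl
  rw [h2] at h1
  exact h1

end Groth.Agent.S0790
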