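import Groth.Statements.S0793
import Groth.Agent.Lib.Helper8.ProperOver

set_option autoImplicit false
universe u
open Coherent

namespace Groth.Agent.S0793

open CategoryTheory AlgebraicGeometry in
/-- Consider a cartesian square with X' = X ×_S S', projections g' : X' → X and f' : X' → S', where f :
X → S is locally of finite type. If Z ⊆ X is closed and proper over S, then its preimage under g' is
closed in X' and proper over S'. -/
theorem result {X S X' S' : Scheme.{u}} (f : X ⟶ S) [LocallyOfFiniteType f]
    (g : S' ⟶ S) (g' : X' ⟶ X) (f' : X' ⟶ S') (sq : IsPullback g' f' f g)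
    (Z : Set X) (hZ : ClSub.IsProperOver f Z) : ClSub.IsProperOver f' (⇑g' ⁻¹' Z) := by
  open CategoryTheory.Limits Groth.Agent.Lib.helper8 in
  obtain ⟨hcl, hprop⟩ := hZ
  set I := Scheme.IdealSheafData.vanishingIdeal ⟨Z, hcl⟩ with hI
  have big : IsPullback (pullback.fst I.subschemeι g') (pullback.snd I.subschemeι g' ≫ f')
      (I.subschemeι ≫ f) g := (IsPullback.of_hasPullback I.subschemeι g').paste_vert sq
  haveI : IsProper (pullback.snd I.subschemeι g' ≫ f') :=
    MorphismProperty.of_isPullback (P := @IsProper) big hprop
  have h1 := isProperOver_range_of_isClosedImmersion f' (pullback.snd I.subschemeι g')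
  have h2 : Set.range (pullback.snd I.subschemeι g').base = ⇑g' ⁻¹' Z := by
    rw [Scheme.Pullback.range_snd, Scheme.IdealSheafData.range_subschemeι, hI,
      Scheme.IdealSheafData.coe_support_vanishingIdeal]
    rfl
  rw [h2] at h1
  exact h1

end Groth.Agent.S0793
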