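import Groth.Statements.S0794
import Mathlib
import Groth.Agent.S0793
import Groth.Agent.Lib.Helper28.QCohSupport
import Groth.Agent.Lib.Helper16.QCohPullback2

set_option autoImplicit false
universe u
open Coherent

namespace Groth.Agent.S0794


section helpers

open CategoryTheory CategoryTheory.Limits AlgebraicGeometry TopologicalSpace Opposite TensorProduct

/-- Support of a base change of a finite module (as in helper18's `PullbackStalk`). -/
theorem mem_support_baseChange_iff (A B M : Type*) [CommRing A] [CommRing B] [Algebra A B]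
    [AddCommGroup M] [Module A M] [Module.Finite A M] (p' : PrimeSpectrum B) :
    p' ∈ Module.support B (B ⊗[A] M) ↔
      PrimeSpectrum.comap (algebraMap A B) p' ∈ Module.support A M := by
  rw [Module.mem_support_iff_nontrivial_residueField_tensorProduct,
    Module.mem_support_iff_nontrivial_residueField_tensorProduct]
  let p : Ideal A := p'.asIdeal.comap (algebraMap A B)
  let K := p'.asIdeal.ResidueField
  let k := p.ResidueField
  let φ : k →ₐ[A] K := Ideal.ResidueField.mapₐ p p'.asIdeal (Algebra.ofId A B) rfl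
  let _ : Algebra k K := φ.toRingHom.toAlgebra
  have : IsScalarTower A k K := IsScalarTower.of_algebraMap_eq fun a => (φ.commutes a).symm
  let e₁ : K ⊗[B] (B ⊗[A] M) ≃ₗ[K] K ⊗[A] M := AlgebraTensorModule.cancelBaseChange A B K K M
  let e₂ : K ⊗[k] (k ⊗[A] M) ≃ₗ[K] K ⊗[A] M := AlgebraTensorModule.cancelBaseChange A k K K M
  rw [← not_iff_not, not_nontrivial_iff_subsingleton, not_nontrivial_iff_subsingleton]
  show Subsingleton (K ⊗[B] (B ⊗[A] M)) ↔ Subsingleton (k ⊗[A] M)
  rw [e₁.subsingleton_congr, ← e₂.subsingleton_congr]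
  exact Module.FaithfullyFlat.subsingleton_tensorProduct_iff_right k K

/-- The support of the pullback of a quasi-coherent module of finite type is the preimage of the
support. -/
theorem support_pullback {X Y : Scheme.{u}} (f : Y ⟶ X) (M : X.Modules) [M.IsQuasicoherent]
    (hft : SheafOfModules.IsFiniteType (R := X.ringCatSheaf) M) :
    CohB1.support ((Scheme.Modules.pullback f).obj M) = ⇑f ⁻¹' CohB1.support M := by
  ext y
  obtain ⟨_, ⟨U, hU, rfl⟩, hxU, -⟩ :=
    X.isBasis_affineOpens.exists_subset_of_mem_open (Set.mem_univ (f y)) isOpen_univ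
  obtain ⟨_, ⟨V, hV, rfl⟩, hyV, hVU⟩ :=
    Y.isBasis_affineOpens.exists_subset_of_mem_open (show y ∈ ((f ⁻¹ᵁ U : Y.Opens) : Set Y) from hxU)
      (f ⁻¹ᵁ U).isOpen
  have e : V ≤ f ⁻¹ᵁ U := hVU
  haveI : ((Scheme.Modules.pullback f).obj M).IsQuasicoherent :=
    Groth.Agent.Lib.helper16.QCohPullback.isQuasicoherent_pullback f M
  haveI : Module.Finite Γ(X, U) Γ(M, U) :=
    Groth.Agent.Lib.helper16.CohFinite.finite_sections_of_isFiniteType M hft hU
  letI : Algebra Γ(X, U) Γ(Y, V) := (f.appLE U V e).hom.toAlgebra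
  have k₁ := Groth.Agent.Lib.helper28.primeIdealOf_mem_support_iff M hU (f y) hxU
  have k₂ := Groth.Agent.Lib.helper28.primeIdealOf_mem_support_iff
    ((Scheme.Modules.pullback f).obj M) hV y hyV
  have eq := Groth.Agent.Lib.helper16.QCohPullback.pullbackSectionsEquiv f M hU hV e
  have k₃ := mem_support_baseChange_iff Γ(X, U) Γ(Y, V) Γ(M, U) (hV.primeIdealOf ⟨y, hyV⟩)
  have hcomap : PrimeSpectrum.comap (algebraMap Γ(X, U) Γ(Y, V)) (hV.primeIdealOf ⟨y, hyV⟩) =
      hU.primeIdealOf ⟨f y, hxU⟩ := by
    apply hU.fromSpec.isOpenEmbedding.injective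
    have h1 := IsAffineOpen.SpecMap_appLE_fromSpec f hU hV e
    have h2 : hU.fromSpec ((Spec.map (f.appLE U V e)) (hV.primeIdealOf ⟨y, hyV⟩)) =
        f (hV.fromSpec (hV.primeIdealOf ⟨y, hyV⟩)) := by
      rw [← Scheme.Hom.comp_apply, ← Scheme.Hom.comp_apply, h1]
    rw [hV.fromSpec_primeIdealOf] at h2
    rw [hU.fromSpec_primeIdealOf]
    exact h2
  change ¬ Subsingleton _ ↔ ¬ Subsingleton _
  rw [← k₂, ← k₁, ← hcomap, ← k₃, eq.support_eq]

end helpers

open CategoryTheory AlgebraicGeometry in
/-- Consider a cartesian square with X' = X ×_S S', projections g' : X' → X and f' : X' → S', where f :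
X → S is locally of finite type. If F is a quasi-coherent O_X-module of finite type whose support is
proper over S, then the support of the pullback (g')^* F is proper over S'. -/
theorem result {X S X' S' : Scheme.{u}} (f : X ⟶ S) [LocallyOfFiniteType f]
    (g : S' ⟶ S) (g' : X' ⟶ X) (f' : X' ⟶ S') (sq : IsPullback g' f' f g)
    (F : X.Modules) (hq : Coh.IsQCoh F) (hft : CohB1.IsFT F)
    (hF : ClSub.IsProperOver f (CohB1.support F)) :
    ClSub.IsProperOver f' (CohB1.support ((Scheme.Modules.pullback g').obj F)) := by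
  haveI : F.IsQuasicoherent := hq
  rw [support_pullback g' F hft]
  exact Groth.Agent.S0793.result f g g' f' sq _ hF

end Groth.Agent.S0794
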