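import Groth.Statements.S3403
import Groth.Agent.Lib.Helper9.ProConsScheme

set_option autoImplicit false
open CategoryTheory AlgebraicGeometry
universe u
open EGA41

namespace Groth.Agent.S3403

/-- Let X be a scheme, E an ind-constructible subset of X and x a point of X. Then x is an interior
point of E if and only if every generization of x belongs to E. -/
theorem result (X : Scheme.{u}) (E : Set X)
    (hE : ProCons.IsIndConstructible E) (x : X) :
    x ∈ interior E ↔ ∀ x' : X, x' ⤳ x → x' ∈ E := by
  constructor
  · intro hx x' hsp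
    exact interior_subset (hsp.mem_open isOpen_interior hx)
  · intro h
    obtain ⟨V, hV, hxV, -⟩ := Groth.Agent.Lib.helper9.LocallySpectral.basis x Set.univ
      isOpen_univ (Set.mem_univ x)
    haveI := hV.spectralSpace
    have hO := Groth.Agent.Lib.helper9.consOpenOn_of_isIndConstructible hE hV
    obtain ⟨U, hUo, -, hxU, hUE⟩ :=
      Groth.Agent.Lib.helper9.exists_isCompact_isOpen_subset_of_generalizations hO
        (y₀ := (⟨x, hxV⟩ : ↥V)) (fun y hy => h y.1 (hy.map continuous_subtype_val))
    have hU'o : IsOpen (Subtype.val '' U : Set X) :=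
      hV.1.isOpenEmbedding_subtypeVal.isOpenMap _ hUo
    refine mem_interior.mpr ⟨Subtype.val '' U, ?_, hU'o, ⟨⟨x, hxV⟩, hxU, rfl⟩⟩
    rintro _ ⟨u, hu, rfl⟩
    exact hUE hu

end Groth.Agent.S3403
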