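import Groth.Statements.S9218
import Mathlib

set_option autoImplicit false
universe u
open CategoryTheory CategoryTheory.Limits AlgebraicGeometry
open Lim

namespace Groth.Agent.S9218

attribute [local instance] IsCofiltered.isConnected

/-- Let S = lim S_i be a cofiltered limit of schemes with affine transition morphisms (the S_i are not
assumed quasi-compact or quasi-separated), i an index, and X_i → S_i, Y_i → S_i morphisms locally of
finite presentation with X_i, Y_i quasi-compact and quasi-separated; let X, Y be their base changes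
to S (pullback squares). Then every S-morphism f : X → Y comes from some stage: for some index j
over i there is an S_j-morphism f_j : X_i ×_{S_i} S_j → Y_i ×_{S_i} S_j whose base change to S is f,
in the sense that the canonical morphisms X → X_i ×_{S_i} S_j and Y → Y_i ×_{S_i} S_j intertwine f
and f_j. This is the fullness part of the equivalence between the colimit of the categories of
quasi-compact quasi-separated schemes locally of finite presentation over the S_i and the
corresponding category over S. -/
theorem result {I : Type u} [SmallCategory I] [IsCofiltered I]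
    (D : I ⥤ Scheme.{u}) (c : Limits.Cone D) (hc : Limits.IsLimit c)
    [∀ (i j : I) (f : i ⟶ j), IsAffineHom (D.map f)] (i : I)
    {Xi Yi : Scheme.{u}} (xi : Xi ⟶ D.obj i) (yi : Yi ⟶ D.obj i)
    [CompactSpace Xi] [QuasiSeparatedSpace Xi] [LocallyOfFinitePresentation xi]
    [CompactSpace Yi] [QuasiSeparatedSpace Yi] [LocallyOfFinitePresentation yi]
    {X Y : Scheme.{u}} (qX : X ⟶ Xi) (pX : X ⟶ c.pt) (hX : IsPullback qX pX xi (c.π.app i))
    (qY : Y ⟶ Yi) (pY : Y ⟶ c.pt) (hY : IsPullback qY pY yi (c.π.app i))
    (f : X ⟶ Y) (hf : f ≫ pY = pX) :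
    ∃ (j : I) (φ : j ⟶ i) (fj : pullback xi (D.map φ) ⟶ pullback yi (D.map φ))
      (sX : X ⟶ pullback xi (D.map φ)) (sY : Y ⟶ pullback yi (D.map φ)),
      fj ≫ pullback.snd yi (D.map φ) = pullback.snd xi (D.map φ) ∧
      sX ≫ pullback.fst xi (D.map φ) = qX ∧ sX ≫ pullback.snd xi (D.map φ) = pX ≫ c.π.app j ∧
      sY ≫ pullback.fst yi (D.map φ) = qY ∧ sY ≫ pullback.snd yi (D.map φ) = pY ≫ c.π.app j ∧
      sX ≫ fj = f ≫ sY := by
  classical
  let D' : Over i ⥤ Scheme.{u} := Over.post D ⋙ Over.pullback xi ⋙ Over.forget _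
  let c' : Cone D' := (Over.pullback xi ⋙ Over.forget _).mapCone ((Over.conePost D i).obj c)
  have hc' : IsLimit c' :=
    isLimitOfPreserves (Over.pullback xi ⋙ Over.forget _) (Over.isLimitConePost i hc)
  have hobj : ∀ j : Over i, D'.obj j = pullback (D.map j.hom) xi := fun j => rfl
  have haff : ∀ j : Over i, IsAffineHom (pullback.snd (D.map j.hom) xi) := by
    intro j
    haveI : IsAffineHom (D.map j.hom) := inferInstance
    exact MorphismProperty.pullback_snd (P := @IsAffineHom) _ _ this
  haveI : ∀ j : Over i, CompactSpace ↥(D'.obj j) := by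
    intro j
    rw [hobj]
    infer_instance
  haveI : ∀ j : Over i, QuasiSeparatedSpace ↥(D'.obj j) := by
    intro j
    rw [hobj]
    haveI := haff j
    exact quasiSeparatedSpace_of_quasiSeparated (pullback.snd (D.map j.hom) xi)
  have hmap_snd : ∀ {j k : Over i} (f : j ⟶ k),
      D'.map f ≫ pullback.snd (D.map k.hom) xi = pullback.snd (D.map j.hom) xi := by
    intro j k f
    exact pullback.lift_snd _ _ _
  haveI : ∀ {j k : Over i} (f : j ⟶ k), IsAffineHom (D'.map f) := by
    intro j k f
    haveI := haff k
    have h1 : IsSeparated (pullback.snd (D.map k.hom) xi) := IsSeparated.of_isAffineHom _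
    have h2 : IsAffineHom (D'.map f ≫ pullback.snd (D.map k.hom) xi) := by
      rw [hmap_snd]; exact haff j
    exact @IsAffineHom.of_comp _ _ _ (D'.map f) (pullback.snd (D.map k.hom) xi) h2 h1
  let t : D' ⟶ (Functor.const (Over i)).obj (D.obj i) :=
    { app := fun j => pullback.snd (D.map j.hom) xi ≫ xi
      naturality := by
        intro j k f
        have := hmap_snd f
        simp only [Functor.const_obj_obj, Functor.const_obj_map, Category.comp_id]
        rw [← Category.assoc, this] }
  have hπsnd : ∀ j : Over i,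
      c'.π.app j ≫ pullback.snd (D.map j.hom) xi = pullback.snd (c.π.app i) xi := by
    intro j
    exact pullback.lift_snd _ _ _
  have hπfst : ∀ j : Over i,
      c'.π.app j ≫ pullback.fst (D.map j.hom) xi = pullback.fst (c.π.app i) xi ≫ c.π.app j.left := by
    intro j
    exact pullback.lift_fst _ _ _
  -- the isomorphism X ≅ pullback (c.π.app i) xi
  let e := hX.flip.isoPullback
  have he_fst : e.hom ≫ pullback.fst (c.π.app i) xi = pX := hX.flip.isoPullback_hom_fst
  have he_snd : e.hom ≫ pullback.snd (c.π.app i) xi = qX := hX.flip.isoPullback_hom_snd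
  let a : c'.pt ⟶ Yi := e.inv ≫ f ≫ qY
  have ha : c'.π ≫ t = (Functor.const _).map (a ≫ yi) := by
    ext j : 2
    have h1 : c'.π.app j ≫ pullback.snd (D.map j.hom) xi ≫ xi =
        pullback.snd (c.π.app i) xi ≫ xi :=
      (Category.assoc _ _ _).symm.trans (congrArg (· ≫ xi) (hπsnd j))
    have h2 : a ≫ yi = pullback.snd (c.π.app i) xi ≫ xi := by
      have : e.inv ≫ f ≫ qY ≫ yi = pullback.snd (c.π.app i) xi ≫ xi := by
        rw [Iso.inv_comp_eq, ← Category.assoc e.hom, he_snd, hY.w, ← Category.assoc f, hf, hX.w]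
      simp only [a, Category.assoc]
      exact this
    simp only [NatTrans.comp_app, Functor.const_map_app]
    exact h1.trans h2.symm
  obtain ⟨j, g, hg1, hg2⟩ :=
    Scheme.exists_π_app_comp_eq_of_locallyOfFinitePresentation D' t yi c' hc' a ha
  obtain ⟨πj, hπsnd', hπfst', g', hg1', hg2'⟩ :
      ∃ πj : pullback (c.π.app i) xi ⟶ pullback (D.map j.hom) xi,
        (πj ≫ pullback.snd (D.map j.hom) xi = pullback.snd (c.π.app i) xi) ∧
        (πj ≫ pullback.fst (D.map j.hom) xi = pullback.fst (c.π.app i) xi ≫ c.π.app j.left) ∧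
        ∃ g' : pullback (D.map j.hom) xi ⟶ Yi, πj ≫ g' = e.inv ≫ f ≫ qY ∧
          g' ≫ yi = pullback.snd (D.map j.hom) xi ≫ xi :=
    ⟨c'.π.app j, hπsnd j, hπfst j, g, hg1, hg2⟩
  have hg1'' : e.hom ≫ πj ≫ g' = f ≫ qY := by
    rw [hg1', Iso.hom_inv_id_assoc]
  refine ⟨j.left, j.hom,
    pullback.lift ((pullbackSymmetry xi (D.map j.hom)).hom ≫ g') (pullback.snd xi (D.map j.hom)) ?_,
    pullback.lift qX (pX ≫ c.π.app j.left) ?_, pullback.lift qY (pY ≫ c.π.app j.left) ?_,
    ?_, ?_, ?_, ?_, ?_, ?_⟩
  · rw [Category.assoc, hg2', ← Category.assoc, pullbackSymmetry_hom_comp_snd,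
      pullback.condition]
  · rw [hX.w, Category.assoc, c.w]
  · rw [hY.w, Category.assoc, c.w]
  · exact pullback.lift_snd _ _ _
  · exact pullback.lift_fst _ _ _
  · exact pullback.lift_snd _ _ _
  · exact pullback.lift_fst _ _ _
  · exact pullback.lift_snd _ _ _
  · -- compatibility
    have hkey : pullback.lift qX (pX ≫ c.π.app j.left) (by rw [hX.w, Category.assoc, c.w]) ≫
        (pullbackSymmetry xi (D.map j.hom)).hom = e.hom ≫ πj := by
      apply pullback.hom_ext
      · rw [Category.assoc, pullbackSymmetry_hom_comp_fst, pullback.lift_snd, Category.assoc, hπfst',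
          ← Category.assoc, he_fst]
      · rw [Category.assoc, pullbackSymmetry_hom_comp_snd, pullback.lift_fst, Category.assoc, hπsnd',
          he_snd]
    apply pullback.hom_ext
    · rw [Category.assoc, pullback.lift_fst, ← Category.assoc, hkey, Category.assoc, hg1'',
        Category.assoc, pullback.lift_fst]
    · rw [Category.assoc, pullback.lift_snd, pullback.lift_snd, Category.assoc, pullback.lift_snd,
        ← Category.assoc, hf]

end Groth.Agent.S9218
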