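import Groth.Statements.S4853
import Mathlib
import Groth.Agent.Lib.Helper19.NilpFlat

set_option autoImplicit false
universe u
open TensorProduct
open EGA43

namespace Groth.Agent.S4853

open Function Groth.Agent.Lib.Helper19.NilpFlat Groth.Agent.Lib.helper8.LocalFlat


/-- Let A be a commutative ring and M an A-module such that (A/J) ⊗_A M is free over A/J for some
nilpotent ideal J of A. Then among the ideals R of A such that (A/R) ⊗_A M is free over A/R there is
a least one, R₀, which is also the least ideal R such that (A/R) ⊗_A M is flat over A/R; and for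
every commutative A-algebra A', the module A' ⊗_A M is free over A' if and only if it is flat over
A', if and only if R₀ generates the zero ideal of A'. -/
theorem result {A : Type u} [CommRing A]
    (M : Type u) [AddCommGroup M] [Module A M]
    (J : Ideal A) (hJ : IsNilpotent J) (hfree : Module.Free (A ⧸ J) ((A ⧸ J) ⊗[A] M)) :
    ∃ R₀ : Ideal A,
      IsLeast {R : Ideal A | Module.Free (A ⧸ R) ((A ⧸ R) ⊗[A] M)} R₀ ∧
      IsLeast {R : Ideal A | Module.Flat (A ⧸ R) ((A ⧸ R) ⊗[A] M)} R₀ ∧
      ∀ (A' : Type u) [CommRing A'] [Algebra A A'],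
        (Module.Free A' (A' ⊗[A] M) ↔ Ideal.map (algebraMap A A') R₀ = ⊥) ∧
        (Module.Flat A' (A' ⊗[A] M) ↔ Ideal.map (algebraMap A A') R₀ = ⊥) := by
  obtain ⟨I, ψ, hψ⟩ := exists_free_lift J hfree
  have hs : Surjective ψ := surjective_of_lTensor_quot_surjective J hJ ψ (by
    have := hψ.2
    rwa [LinearMap.baseChange_eq_ltensor] at this)
  have key : ∀ (A' : Type u) [CommRing A'] [Algebra A A'],
      (Module.Free A' (A' ⊗[A] M) ↔ (coordIdeal ψ).map (algebraMap A A') = ⊥) ∧
      (Module.Flat A' (A' ⊗[A] M) ↔ (coordIdeal ψ).map (algebraMap A A') = ⊥) := by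
    intro A' _ _
    have h1 : Module.Flat A' (A' ⊗[A] M) → (coordIdeal ψ).map (algebraMap A A') = ⊥ :=
      fun hfl => coord_eq_zero_of_injective ψ A' (baseChange_injective_of_flat J hJ ψ hψ hs A')
    have h2 : (coordIdeal ψ).map (algebraMap A A') = ⊥ → Module.Free A' (A' ⊗[A] M) := by
      intro h0
      have hinj := injective_of_coord_eq_zero ψ A' hs h0
      have hsurj : Surjective (ψ.baseChange A') := by
        rw [LinearMap.baseChange_eq_ltensor]
        exact LinearMap.lTensor_surjective A' hs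
      exact Module.Free.of_equiv (LinearEquiv.ofBijective (ψ.baseChange A') ⟨hinj, hsurj⟩)
    exact ⟨⟨fun hfr => h1 inferInstance, h2⟩, ⟨h1, fun h0 => by
      haveI := h2 h0
      infer_instance⟩⟩
  refine ⟨coordIdeal ψ, ⟨?_, ?_⟩, ⟨?_, ?_⟩, key⟩
  · show Module.Free (A ⧸ coordIdeal ψ) ((A ⧸ coordIdeal ψ) ⊗[A] M)
    rw [(key (A ⧸ coordIdeal ψ)).1, Ideal.Quotient.algebraMap_eq, Ideal.map_quotient_self]
  · intro R hR
    have := ((key (A ⧸ R)).1).mp hR
    rw [Ideal.Quotient.algebraMap_eq, Ideal.map_eq_bot_iff_le_ker, Ideal.mk_ker] at this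
    exact this
  · show Module.Flat (A ⧸ coordIdeal ψ) ((A ⧸ coordIdeal ψ) ⊗[A] M)
    rw [(key (A ⧸ coordIdeal ψ)).2, Ideal.Quotient.algebraMap_eq, Ideal.map_quotient_self]
  · intro R hR
    have := ((key (A ⧸ R)).2).mp hR
    rw [Ideal.Quotient.algebraMap_eq, Ideal.map_eq_bot_iff_le_ker, Ideal.mk_ker] at this
    exact this

end Groth.Agent.S4853
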