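import Groth.Statements.S0030
import Mathlib
import Groth.Agent.Lib.Helper21.RpushQCohAffine
import Groth.Agent.Lib.Helper21.ModOpenBC2
import Groth.Agent.Lib.Helper28.RestrictCover
import Groth.Agent.Lib.Helper16.QCohFibre
-- import your own Groth.Agent.* helpers here

set_option autoImplicit false
universe u
open Coherent

namespace Groth.Agent.S0030

open AlgebraicGeometry CategoryTheory in
/-- For a quasi-compact quasi-separated morphism f : X → S and a quasi-coherent O_X-module F, every
higher direct image R^p f_* F is a quasi-coherent O_S-module. (R^p f_* as right derived functor of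
f_* on O-modules; the instance argument recording that X.Modules has injective resolutions is true
but not yet in Mathlib.) -/
theorem result {X S : Scheme.{u}} (f : X ⟶ S) [QuasiCompact f]
    [QuasiSeparated f] [HasInjectiveResolutions X.Modules] (M : X.Modules) [Coh.IsQCoh M] (p : ℕ) :
    Coh.IsQCoh ((Coh.Rpush f p).obj M) := by
  classical
  refine Groth.Agent.Lib.helper28.RestrictCover.isQuasicoherent_of_restrict_cover _
    (ι := S.affineOpens) (fun V => (V.1 : Scheme.{u})) (fun V => V.1.ι) ?_ ?_
  · intro x
    obtain ⟨_, ⟨V, hV, rfl⟩, hx, -⟩ := S.isBasis_affineOpens.exists_subset_of_mem_open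
      (Set.mem_univ x) isOpen_univ
    exact ⟨⟨V, hV⟩, ⟨x, hx⟩, rfl⟩
  · intro V
    haveI : IsAffine (V.1 : Scheme.{u}) := V.2
    obtain ⟨e⟩ := Groth.Agent.Lib.helper21.ModOpenBC.nonempty_restrict_rpush_iso f V.1 M p
    haveI : ((Coh.Rpush (f ∣_ V.1) p).obj
        ((Scheme.Modules.restrictFunctor (f ⁻¹ᵁ V.1).ι).obj M)).IsQuasicoherent :=
      Groth.Agent.Lib.helper21.RpushQCohAffine.isQuasicoherent_rpush (f ∣_ V.1)
        ((Scheme.Modules.restrictFunctor (f ⁻¹ᵁ V.1).ι).obj M) p
    exact Groth.Agent.Lib.helper16.QCohFibre.isQuasicoherent_of_iso e.symm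

end Groth.Agent.S0030
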