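import Groth.Statements.S11319
import Mathlib
import Groth.Agent.Lib.Helper21.InjAcyc2
import Groth.Agent.Lib.Helper27.RpushSheafify
-- import your own Groth.Agent.* helpers here

set_option autoImplicit false
universe u
open CategoryTheory AlgebraicGeometry
open Coherent

namespace Groth.Agent.S11319

/-- Let f : X → Y be a morphism of schemes, M an O_X-module and n ≥ 0. Then the underlying abelian sheaf
of the n-th higher direct image R^n f_* M computed in the category of O-modules (the n-th right
derived functor of f_* : Mod(O_X) → Mod(O_Y), which needs the stated instance that Mod(O_X) has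
injective resolutions — it does) is isomorphic to the n-th higher direct image of the underlying
abelian sheaf of M (the right derived functor of f_* on abelian sheaves). (Stated for schemes; the
published statement is for ringed spaces. Existence of an isomorphism only.) -/
theorem result {X Y : Scheme.{u}} (f : X ⟶ Y)
    [HasInjectiveResolutions X.Modules] (M : X.Modules) (n : ℕ) :
    Nonempty (Coh.toAb ((Coh.Rpush f n).obj M) ≅ (Coh.RpushAb f n).obj (Coh.toAb M)) := by
  classical
  haveI : EnoughInjectives X.Modules :=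
    Groth.Agent.Lib.helper27.SSGroth.enoughInjectives_of_hasInjectiveResolutions _
  haveI : Limits.PreservesFiniteLimits (Coh.pushAb f) := by
    have h : Limits.PreservesLimitsOfSize.{u, u} (Coh.pushAb f) :=
      (TopCat.Sheaf.pullbackPushforwardAdjunction AddCommGrpCat.{u}
        f.base).rightAdjoint_preservesLimits
    exact Limits.PreservesLimitsOfSize.preservesFiniteLimits.{u, u} _
  let ΦX : X.Modules ⥤ Sheaf (Opens.grothendieckTopology X) AddCommGrpCat.{u} :=
    SheafOfModules.toSheaf.{u} X.ringCatSheaf
  let ΦY : Y.Modules ⥤ Sheaf (Opens.grothendieckTopology Y) AddCommGrpCat.{u} :=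
    SheafOfModules.toSheaf.{u} Y.ringCatSheaf
  haveI addX : ΦX.Additive := { map_add := by intros; rfl }
  haveI addY : ΦY.Additive := { map_add := by intros; rfl }
  haveI : Limits.PreservesFiniteLimits ΦX :=
    Groth.Agent.Lib.helper21.InjAcyc.toSheaf_preservesFiniteLimits X.ringCatSheaf
  haveI : Limits.PreservesFiniteLimits ΦY :=
    Groth.Agent.Lib.helper21.InjAcyc.toSheaf_preservesFiniteLimits Y.ringCatSheaf
  haveI : Limits.PreservesFiniteColimits ΦX :=
    Groth.Agent.Lib.helper21.InjAcyc.toSheaf_preservesFiniteColimits X.ringCatSheaf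
  haveI : Limits.PreservesFiniteColimits ΦY :=
    Groth.Agent.Lib.helper21.InjAcyc.toSheaf_preservesFiniteColimits Y.ringCatSheaf
  have hT : Groth.Agent.Lib.helper27.DeltaSeq.IsExSeq
      (fun n => (Scheme.Modules.pushforward f).rightDerived n ⋙ ΦY) :=
    (Groth.Agent.Lib.helper27.DeltaSeq.isExSeq_rightDerived (Scheme.Modules.pushforward f)).comp ΦY
  have hT' : Groth.Agent.Lib.helper27.DeltaSeq.IsExSeq
      (fun n => ΦX ⋙ (Coh.pushAb f).rightDerived n) :=
    (Groth.Agent.Lib.helper27.DeltaSeq.isExSeq_rightDerived (Coh.pushAb f)).precomp ΦX (by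
      intro I hI i
      obtain ⟨e⟩ := Groth.Agent.Lib.helper27.RpushSheafify.rpush_iso_top f.base (ΦX.obj I) (i + 1)
      refine Limits.IsZero.of_iso ?_ e
      refine Functor.map_isZero _ ?_
      refine Functor.isZero _ (fun W => ?_)
      have : Subsingleton (Abelian.Ext.{u}
          ((Groth.Agent.Lib.helper7.FreeYoneda.freeSheaf (Opens.grothendieckTopology X)).obj
            ((TopologicalSpace.Opens.map f.base).obj W.unop)) (ΦX.obj I) (i + 1)) :=
        subsingleton_of_forall_eq 0 fun x =>
          @Groth.Agent.Lib.helper21.InjAcyc.ext_toSheaf_eq_zero _ _ _ X.ringCatSheaf _ I hI _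
            (Groth.Agent.Lib.helper21.InjAcyc.tf_free _) i x
      exact AddCommGrpCat.isZero_of_subsingleton (AddCommGrpCat.of (Abelian.Ext.{u}
          ((Groth.Agent.Lib.helper7.FreeYoneda.freeSheaf (Opens.grothendieckTopology X)).obj
            ((TopologicalSpace.Opens.map f.base).obj W.unop)) (ΦX.obj I) (i + 1))))
  have e₀ : (Scheme.Modules.pushforward f).rightDerived 0 ⋙ ΦY ≅
      ΦX ⋙ (Coh.pushAb f).rightDerived 0 :=
    Functor.isoWhiskerRight (Scheme.Modules.pushforward f).rightDerivedZeroIsoSelf ΦY ≪≫
      (Iso.refl _ : Scheme.Modules.pushforward f ⋙ ΦY ≅ ΦX ⋙ Coh.pushAb f) ≪≫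
      (Functor.isoWhiskerLeft ΦX (Coh.pushAb f).rightDerivedZeroIsoSelf).symm
  exact Groth.Agent.Lib.helper27.DeltaSeq.iso hT hT' e₀ n M

end Groth.Agent.S11319
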