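import Groth.Statements.S2332
import Mathlib
import Groth.Agent.Lib.Helper12.PullAmpleRel
-- import your own Groth.Agent.* helpers here

set_option autoImplicit false
universe u
open CategoryTheory CategoryTheory.Limits AlgebraicGeometry
open EGA2

namespace Groth.Agent.S2332

/-- Core step: over an affine open `A'` of `Y'` mapping into an affine open `V₀` of `Y`. -/
theorem core {X Y Y' : Scheme.{u}} (f : X ⟶ Y) [QuasiCompact f] (g : Y' ⟶ Y) (L : X.Modules)
    (V₀ : Y.Opens) (hV₀ : IsAffineOpen V₀) (hL : CohB1.IsAmple (L.restrict (f ⁻¹ᵁ V₀).ι))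
    (A' : Y'.Opens) (hA' : IsAffineOpen A') (hle : A' ≤ g ⁻¹ᵁ V₀) :
    CohB1.IsAmple (((Scheme.Modules.pullback (pullback.fst f g)).obj L).restrict
      ((pullback.snd f g) ⁻¹ᵁ A').ι) := by
  have : IsAffine (↑V₀ : Scheme.{u}) := hV₀
  have : IsAffine (↑A' : Scheme.{u}) := hA'
  let fV : (↑(f ⁻¹ᵁ V₀) : Scheme.{u}) ⟶ ↑V₀ := f ∣_ V₀
  let gA : (↑A' : Scheme.{u}) ⟶ ↑V₀ := g.resLE V₀ A' hle
  have e₁ : fV ≫ V₀.ι = (f ⁻¹ᵁ V₀).ι ≫ f := morphismRestrict_ι f V₀
  have e₂ : gA ≫ V₀.ι = A'.ι ≫ g := Scheme.Hom.resLE_comp_ι g hle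
  let m : pullback fV gA ⟶ pullback f g :=
    pullback.map fV gA f g (f ⁻¹ᵁ V₀).ι A'.ι V₀.ι e₁ e₂
  have w : m ≫ pullback.fst f g = pullback.fst fV gA ≫ (f ⁻¹ᵁ V₀).ι := by
    exact pullback.lift_fst _ _ _
  have hq : IsAffineHom (pullback.fst fV gA) := MorphismProperty.pullback_fst _ _ inferInstance
  have h1 := Groth.Agent.Lib.helper12.PullAmpleRel.isAmple_restrict_pullback_of_isAffineHom
    m (pullback.fst f g) (pullback.fst fV gA) (f ⁻¹ᵁ V₀).ι w hL
  have hr : Set.range m = Set.range ((pullback.snd f g) ⁻¹ᵁ A').ι := by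
    rw [Scheme.Pullback.range_map, Scheme.Opens.range_ι, Scheme.Opens.range_ι, Scheme.Opens.range_ι]
    ext z
    constructor
    · rintro ⟨-, h2⟩
      exact h2
    · intro h2
      refine ⟨?_, h2⟩
      change f (pullback.fst f g z) ∈ V₀
      have h3 : f (pullback.fst f g z) = g (pullback.snd f g z) := by
        rw [← Scheme.Hom.comp_apply, ← Scheme.Hom.comp_apply, pullback.condition]
      rw [h3]
      exact hle h2
  exact (Groth.Agent.Lib.helper12.AmpleLocal.isAmple_restrict_iff_of_range_eq m _ hr _).mp h1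

/-- Let f : X → Y be quasi-compact, g : Y' → Y any morphism, and L an O_X-module ample relative to f.
Then the pullback of L to X ×_Y Y' is ample relative to the base-changed morphism X ×_Y Y' → Y'. -/
theorem result {X Y Y' : Scheme.{u}} (f : X ⟶ Y) [QuasiCompact f] (g : Y' ⟶ Y) (L : X.Modules)
    (hL : RelAmple.IsRelAmple f L) :
    RelAmple.IsRelAmple (pullback.snd f g) ((Scheme.Modules.pullback (pullback.fst f g)).obj L) := by
  refine ⟨inferInstance, fun V' => ?_⟩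
  refine Groth.Agent.Lib.helper12.AmpleLocal.isAmple_restrict_preimage_of_cover
    (pullback.snd f g) V'.2 fun y' hy' => ?_
  obtain ⟨V₀, hV₀, hyV₀, -⟩ := (TopologicalSpace.Opens.isBasis_iff_nbhd.mp Y.isBasis_affineOpens)
    (show g y' ∈ (⊤ : Y.Opens) from trivial)
  obtain ⟨r, hle, hyr⟩ := V'.2.exists_basicOpen_le (V := g ⁻¹ᵁ V₀) ⟨y', hyV₀⟩ hy'
  exact ⟨r, hyr, core f g L V₀ hV₀ (hL.2 ⟨V₀, hV₀⟩) _ (V'.2.basicOpen r) hle⟩

end Groth.Agent.S2332
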