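import Groth.Statements.S0052
import Groth.Agent.S0051
import Groth.Agent.S0046
import Groth.Agent.Lib.Helper8.Chevalley
import Groth.Agent.Lib.Helper20.TensorEquiv
import Groth.Agent.Lib.Helper11.AmpleVan
import Groth.Agent.Lib.Helper12.PullAmple
import Groth.Agent.Lib.Helper12.InvDual2
import Groth.Agent.Lib.Helper12.TwistExtend
import Groth.Agent.Lib.Lead.ProjFormula

set_option autoImplicit false
set_option linter.style.haveILetI false
universe u
open Coherent

namespace Groth.Agent.S0052

section Helpers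

open AlgebraicGeometry CategoryTheory CategoryTheory.Limits
open Groth.Agent.Lib.Lead.ModTensor Groth.Agent.Lib.helper8.Dev
open Groth.Agent.Lib.helper8.PullbackUnit Scheme.Modules
open Groth.Agent.Lib.helper17.FlatOver7 Groth.Agent.Lib.helper8.StalkLen
open Groth.Agent.Lib.Helper18

variable {X : Scheme.{u}}

/-- eventual vanishing of the higher cohomology of the twists `M ⊗ L^{⊗ n}` -/
def EvVan (L M : X.Modules) : Prop :=
  ∃ n₀ : ℕ, ∀ n : ℕ, n₀ ≤ n → ∀ p : ℕ, 0 < p →
    Subsingleton (Coh.HH X (CohB1.tensorMod M (CohB1.tensorPow L n)) p)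

theorem evVan_of_iso (L : X.Modules) {M N : X.Modules} (e : M ≅ N) (h : EvVan L M) :
    EvVan L N := by
  obtain ⟨n₀, hn₀⟩ := h
  exact ⟨n₀, fun n hn p hp =>
    subsingleton_HH_of_iso (tensorIso e (Iso.refl _)) p (hn₀ n hn p hp)⟩

theorem evVan_of_retract (L : X.Modules) {M N : X.Modules} (s : M ⟶ N) (r : N ⟶ M)
    (hsr : s ≫ r = 𝟙 M) (h : EvVan L N) : EvVan L M := by
  obtain ⟨n₀, hn₀⟩ := h
  refine ⟨n₀, fun n hn p hp => subsingleton_HH_of_retract
    (tensorMap s (𝟙 (CohB1.tensorPow L n))) (tensorMap r (𝟙 (CohB1.tensorPow L n))) ?_ p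
    (hn₀ n hn p hp)⟩
  rw [← tensorMap_comp, hsr, Category.comp_id, tensorMap_id]

theorem evVan_of_isZero {L : X.Modules} (hL : PicF.IsInvertible L) {M : X.Modules}
    (hM : IsZero M) : EvVan L M := by
  refine ⟨0, fun n _ p _ => subsingleton_HH_of_isZero ?_ p⟩
  obtain ⟨L', -, ⟨e⟩, -⟩ := Groth.Agent.Lib.helper12.InvDual.exists_inverse
    (Groth.Agent.Lib.helper12.TensorInv.isInvertible_tensorPow hL n)
  rw [IsZero.iff_id_eq_zero, ← tensorMap_id, (IsZero.iff_id_eq_zero M).mp hM]
  exact Groth.Agent.Lib.Helper20.TensorEquiv.tensorMap_zero e M M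

theorem evVan_of_shortExact {L : X.Modules} (hL : PicF.IsInvertible L)
    {S : ShortComplex X.Modules} (hS : S.ShortExact) (h1 : EvVan L S.X₁) (h3 : EvVan L S.X₃) :
    EvVan L S.X₂ := by
  obtain ⟨n₁, hn₁⟩ := h1
  obtain ⟨n₃, hn₃⟩ := h3
  refine ⟨max n₁ n₃, fun n hn p hp => ?_⟩
  obtain ⟨L', -, ⟨e⟩, -⟩ := Groth.Agent.Lib.helper12.InvDual.exists_inverse
    (Groth.Agent.Lib.helper12.TensorInv.isInvertible_tensorPow hL n)
  exact HH.subsingleton_X₂ (Groth.Agent.Lib.Helper20.TensorEquiv.shortExact_mapSC e hS) p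
    (hn₁ n (le_trans (le_max_left _ _) hn) p hp) (hn₃ n (le_trans (le_max_right _ _) hn) p hp)

end Helpers

section Main

open AlgebraicGeometry CategoryTheory CategoryTheory.Limits
open Groth.Agent.Lib.Lead.ModTensor Groth.Agent.Lib.helper8.Dev
open Groth.Agent.Lib.helper8.PullbackUnit Scheme.Modules
open Groth.Agent.Lib.helper17.FlatOver7 Groth.Agent.Lib.helper8.StalkLen
open Groth.Agent.Lib.Helper18

variable {X Y : Scheme.{u}}

theorem evVan_of_pullback_ample (R : Type u) [CommRing R] [IsNoetherianRing R]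
    (gY : Y ⟶ Spec (CommRingCat.of R)) [IsProper gY] [IsNoetherian X]
    (f : Y ⟶ X) [IsFinite f] [Surjective f] (L : X.Modules)
    (hL : PicF.IsInvertible L) (hamp : CohB1.IsAmple ((Scheme.Modules.pullback f).obj L))
    (F : X.Modules) (hF : Coh.IsCoh F) : EvVan L F := by
  haveI : IsLocallyNoetherian Y := LocallyOfFiniteType.isLocallyNoetherian gY
  refine devissage_witness_global (EvVan L)
    (fun M N ⟨e⟩ h => evVan_of_iso L e h)
    (fun M hM => evVan_of_isZero hL hM)
    (fun S hS _ _ _ p1 p3 => evVan_of_shortExact hL hS p1 p3)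
    (fun F r _ hr h => ?_) (fun Z i _ _ => ?_) F hF
  · -- summands of powers
    exact evVan_of_retract L (Sigma.ι (fun _ : Fin r => F) ⟨0, hr⟩)
      (Sigma.desc (fun _ => 𝟙 F)) (Sigma.ι_desc _ _) h
  · -- the witness
    obtain ⟨FZ, hFZ, hsupp, hann⟩ := Groth.Agent.S0820.result f Z i
    haveI : FZ.IsQuasicoherent := hFZ.1
    let G : X.Modules := (pushforward f).obj FZ
    have hG : Coh.IsCoh G := Groth.Agent.S0019.result f FZ hFZ
    haveI : G.IsQuasicoherent := hG.1
    refine ⟨G, hG, hsupp, hann, fun J hJ => ?_⟩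
    refine ⟨(Dual3.idealMul J).obj G, 𝟙 _, inferInstance,
      (isQuasicoherent_idealSub J G : (idealSub J G).IsQuasicoherent), ?_, ?_⟩
    · -- the stalk map at `ξ`
      rw [Category.id_comp]
      have hQc : Coh.IsCoh (cokernel (idealSubι J G)) :=
        Groth.Agent.Lib.helper7.CohKer.isCoh_cokernel
          (Groth.Agent.S0046.result X G _ (idealSubι J G) hG (isQuasicoherent_idealSub J G)) hG _
      have hsub : Subsingleton ↑((cokernel (idealSubι J G)).presheaf.stalk
          (i (genericPoint Z))) := by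
        by_contra hcon
        exact hJ (support_subset_of_killed J _ hQc (killedByIdeal_cokernel_idealSubι J G) hcon)
      exact (ConcreteCategory.isIso_iff_bijective _).mpr
        (bijective_stalkAdd_of_subsingleton_cokernel (idealSubι J G) _ hsub)
    · -- eventual vanishing for `J G`
      obtain ⟨e, -⟩ := Groth.Agent.S9523.result f FZ hFZ.1 J
      have hNq : (idealSub (J.comap f) FZ).IsQuasicoherent := isQuasicoherent_idealSub (J.comap f) FZ
      have hN : Coh.IsCoh (idealSub (J.comap f) FZ) :=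
        Groth.Agent.S0046.result Y FZ _ (idealSubι (J.comap f) FZ) hFZ hNq
      obtain ⟨n₀, hn₀⟩ := Groth.Agent.Lib.helper11.AmpleVan.serre_vanishing_of_isAmple gY hamp
        _ hN
      refine evVan_of_iso L e.symm ⟨n₀, fun n hn p hp => ?_⟩
      have hLn := Groth.Agent.Lib.helper12.TensorInv.isInvertible_tensorPow hL n
      obtain ⟨L', -, hLL', -⟩ := Groth.Agent.Lib.helper12.InvDual.exists_inverse hLn
      obtain ⟨pf⟩ := Groth.Agent.Lib.Lead.ProjFormula.nonempty_projIso f hLn hLL'
        (idealSub (J.comap f) FZ)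
      refine subsingleton_HH_of_iso pf.symm p ?_
      refine subsingleton_HH_of_iso ((pushforward f).mapIso (tensorIso (Iso.refl _)
        (Groth.Agent.Lib.helper12.PullAmple.pullTensorPowIso f hL n))).symm p ?_
      haveI : Coh.IsQCoh (CohB1.tensorMod (idealSub (J.comap f) FZ)
          (CohB1.tensorPow ((Scheme.Modules.pullback f).obj L) n)) :=
        Groth.Agent.Lib.helper12.TwistExtend.isQuasicoherent_twist _ hamp.1 n
      obtain ⟨eq⟩ := Groth.Agent.S0012.result f (CohB1.tensorMod (idealSub (J.comap f) FZ)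
          (CohB1.tensorPow ((Scheme.Modules.pullback f).obj L) n)) p
      haveI := hn₀ n hn p hp
      exact eq.symm.toEquiv.subsingleton

end Main

open AlgebraicGeometry CategoryTheory in
/-- Let R be Noetherian, f : Y → X a finite surjective morphism of schemes proper over Spec R, and L
invertible on X. Ampleness of L is equivalent to ampleness of its pullback along f. -/
theorem result (R : Type u) [CommRing R] [IsNoetherianRing R]
    {X Y : Scheme.{u}} (gX : X ⟶ Spec (CommRingCat.of R)) (gY : Y ⟶ Spec (CommRingCat.of R)) [IsProper gX]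
    [IsProper gY] (f : Y ⟶ X) (hf : f ≫ gX = gY) [IsFinite f] [Surjective f] (L : X.Modules)
    (hL : PicF.IsInvertible L) :
    CohB1.IsAmple L ↔ CohB1.IsAmple ((Scheme.Modules.pullback f).obj L) := by
  haveI : IsLocallyNoetherian X := LocallyOfFiniteType.isLocallyNoetherian gX
  haveI : CompactSpace X := QuasiCompact.compactSpace_of_compactSpace gX
  haveI : IsNoetherian X := {}
  constructor
  · intro h
    exact Groth.Agent.Lib.helper12.PullAmple.isAmple_pullback_of_isAffineHom f h
  · intro h
    rw [Groth.Agent.S0051.result R X gX L hL]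
    intro M hM
    exact evVan_of_pullback_ample R gY f L hL h M hM

end Groth.Agent.S0052
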