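import Groth.Statements.S9190
-- import your own Groth.Agent.* helpers here
import Groth.Agent.Lib.Helper9.ClosedImmDescend
import Groth.Agent.Lib.Helper9.DiagSquares

set_option autoImplicit false
universe u
open CategoryTheory AlgebraicGeometry
open Lim

namespace Groth.Agent.S9190

/-- Let S = lim S_i be a cofiltered limit of schemes with affine transition morphisms, S_{i₀} a
quasi-compact quasi-separated stage, f₀ : X₀ → Y₀ a morphism of quasi-compact quasi-separated
schemes over S_{i₀}, and f : X → Y its base change along S → S_{i₀} (base changes expressed by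
pullback squares). If f is separated, then for some index i over i₀ the base change f_i : X_i → Y_i
of f₀ along S_i → S_{i₀} is separated. No finiteness hypothesis on f₀ is needed. -/
theorem result {I : Type u} [SmallCategory I] [IsCofiltered I]
    (D : I ⥤ Scheme.{u}) (c : Limits.Cone D) (hc : Limits.IsLimit c)
    [∀ (i j : I) (f : i ⟶ j), IsAffineHom (D.map f)] (i₀ : I) [CompactSpace (D.obj i₀)]
    [QuasiSeparatedSpace (D.obj i₀)] {X₀ Y₀ : Scheme.{u}} (f₀ : X₀ ⟶ Y₀) (g₀ : Y₀ ⟶ D.obj i₀)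
    [CompactSpace X₀] [QuasiSeparatedSpace X₀] [CompactSpace Y₀] [QuasiSeparatedSpace Y₀]
    {X Y : Scheme.{u}} (f : X ⟶ Y) (g : Y ⟶ c.pt) (qY : Y ⟶ Y₀) (qX : X ⟶ X₀)
    (hY : IsPullback qY g g₀ (c.π.app i₀)) (hX : IsPullback qX f f₀ qY) [IsSeparated f] :
    ∃ (i : I) (φ : i ⟶ i₀) (Xi Yi : Scheme.{u}) (fi : Xi ⟶ Yi) (gi : Yi ⟶ D.obj i) (pY : Yi ⟶ Y₀)
      (pX : Xi ⟶ X₀), IsPullback pY gi g₀ (D.map φ) ∧ IsPullback pX fi f₀ pY ∧ IsSeparated fi := by
  have : QuasiCompact f₀ := inferInstance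
  have : QuasiSeparated f₀ := inferInstance
  have : CompactSpace ↥(Limits.pullback f₀ f₀) :=
    QuasiCompact.compactSpace_of_compactSpace (Limits.pullback.fst f₀ f₀)
  have : QuasiSeparatedSpace ↥(Limits.pullback f₀ f₀) :=
    quasiSeparatedSpace_of_quasiSeparated (Limits.pullback.fst f₀ f₀)
  have : LocallyOfFiniteType (Limits.pullback.diagonal f₀) := inferInstance
  have hΔ : IsClosedImmersion (Limits.pullback.diagonal f) := inferInstance
  have : IsClosedImmersion (Groth.Agent.Lib.helper9.stageMap (c.π.app i₀)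
      (Limits.pullback.diagonal f₀) (Groth.Agent.Lib.helper9.diagBase f₀ g₀)) :=
    (Groth.Agent.Lib.helper9.diagonal_iff_stageMap_diagonal @IsClosedImmersion hY hX).mp hΔ
  obtain ⟨l, hl⟩ := Groth.Agent.Lib.helper9.exists_isClosedImmersion_stageMap D c hc i₀
    (Limits.pullback.diagonal f₀) (Groth.Agent.Lib.helper9.diagBase f₀ g₀)
  refine ⟨l.left, l.hom, _, _, Groth.Agent.Lib.helper9.stageMap (D.map l.hom) f₀ g₀, _, _, _,
    Groth.Agent.Lib.helper9.isPullback_stage_base (D.map l.hom) g₀,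
    Groth.Agent.Lib.helper9.isPullback_stageMap (D.map l.hom) f₀ g₀, ⟨?_⟩⟩
  exact (Groth.Agent.Lib.helper9.diagonal_iff_stageMap_diagonal @IsClosedImmersion
    (Groth.Agent.Lib.helper9.isPullback_stage_base (D.map l.hom) g₀)
    (Groth.Agent.Lib.helper9.isPullback_stageMap (D.map l.hom) f₀ g₀)).mpr hl

end Groth.Agent.S9190
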