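import Groth.Statements.S9827
import Mathlib
import Groth.Agent.Lib.Helper16.CohFP

set_option autoImplicit false
universe u
open CategoryTheory CategoryTheory.Limits AlgebraicGeometry TopologicalSpace Opposite
open Props

namespace Groth.Agent.S9827

section helpers
open CategoryTheory CategoryTheory.Limits AlgebraicGeometry TopologicalSpace

open Opposite
open Groth.Agent.Lib.helper16.CohFinite Groth.Agent.Lib.helper16.CohFP

theorem algebraMap_top_bijective (R : CommRingCat.{u}) :
    Function.Bijective (algebraMap R Γ(Spec R, ⊤)) := by
  have : IsIso (Scheme.ΓSpecIso R).inv := inferInstance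
  exact ConcreteCategory.bijective_of_isIso (Scheme.ΓSpecIso R).inv

/-- a module with a finite global presentation is finitely presented -/
theorem isFinitePresentation_of_presentation {X : Scheme.{u}} (N : X.Modules)
    (P : SheafOfModules.Presentation N) [P.IsFinite] :
    SheafOfModules.IsFinitePresentation (R := X.ringCatSheaf) N := by
  have h : P.quasicoherentData.IsFinitePresentation :=
    @SheafOfModules.QuasicoherentData.IsFinitePresentation.mk _ _ _ _ _ _ _ P.quasicoherentData
      (fun x => ⟨⟨inferInstanceAs (Finite P.generators.I)⟩,
        ⟨inferInstanceAs (Finite P.relations.I)⟩⟩)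
  exact @SheafOfModules.IsFinitePresentation.mk _ _ _ _ _ _ N ⟨P.quasicoherentData, h⟩

theorem main (R : CommRingCat.{u}) (M : ModuleCat.{u} R) :
    CohB1.IsFP (tilde M) ↔ Module.FinitePresentation R M := by
  constructor
  · intro h
    have h1 : Module.FinitePresentation Γ(Spec R, ⊤) Γ(tilde M, ⊤) :=
      fp_sections_of_isFinitePresentation (tilde M) h (isAffineOpen_top (Spec R))
    haveI : Module.FinitePresentation R Γ(Spec R, ⊤) :=
      Module.FinitePresentation.of_equiv
        (LinearEquiv.ofBijective (Algebra.linearMap R Γ(Spec R, ⊤)) (algebraMap_top_bijective R))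
    have h2 : Module.FinitePresentation R Γ(tilde M, ⊤) :=
      Module.FinitePresentation.trans R Γ(tilde M, ⊤) Γ(Spec R, ⊤)
    haveI : Module.FinitePresentation R ((modulesSpecToSheaf.obj (tilde M)).presheaf.obj (op ⊤)) := h2
    exact Module.FinitePresentation.of_equiv (tilde.isoTop M).toLinearEquiv.symm
  · intro h
    obtain ⟨P, hP⟩ := exists_presentation_tilde M
    exact isFinitePresentation_of_presentation (tilde M) P


end helpers


/-- The sheaf associated to a module over a ring is of finite presentation on the spectrum if and only
if the module is finitely presented. -/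
theorem result (R : CommRingCat.{u}) (M : ModuleCat.{u} R) :
    CohB1.IsFP (tilde M) ↔ Module.FinitePresentation R M := by
  exact main R M

end Groth.Agent.S9827
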