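import Groth.Statements.S12451
import Mathlib
import Groth.Agent.Lib.Helper16.FLF3
import Groth.Agent.S9827

set_option autoImplicit false
universe u
open CategoryTheory AlgebraicGeometry
open Props

namespace Groth.Agent.S12451

section helpers
open CategoryTheory CategoryTheory.Limits AlgebraicGeometry TopologicalSpace

open Opposite
open Scheme.Modules Groth.Agent.Lib.helper16.FLF

variable {R : CommRingCat.{u}} (M : ModuleCat.{u} R)

/-- the localization map `M → Γ(M^~, D(r))` -/
noncomputable def toOpenLin (r : R) : M →ₗ[R] Γ(tilde M, PrimeSpectrum.basicOpen r) :=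
  (tilde.toOpen M (PrimeSpectrum.basicOpen r)).hom

instance (r : R) : IsLocalizedModule.Away r (toOpenLin M r) :=
  inferInstanceAs (IsLocalizedModule.Away r (tilde.toOpen M (PrimeSpectrum.basicOpen r)).hom)

/-- if the localization `M_r` is free, the sections of `M^~` over `D(r)` are free -/
theorem sections_free_of_free_away (r : R)
    [Module.Free (Localization (Submonoid.powers r)) (LocalizedModule (Submonoid.powers r) M)]
    [Module.Finite (Localization (Submonoid.powers r)) (LocalizedModule (Submonoid.powers r) M)]
    [Nontrivial (Localization (Submonoid.powers r))] :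
    ∃ n : ℕ, Nonempty (Γ(tilde M, PrimeSpectrum.basicOpen r) ≃ₗ[Γ(Spec R, PrimeSpectrum.basicOpen r)]
      (Fin n → Γ(Spec R, PrimeSpectrum.basicOpen r))) :=
  ⟨_, nonempty_equivFun_of_basis_localizedModule (Submonoid.powers r)
    Γ(Spec R, PrimeSpectrum.basicOpen r) (toOpenLin M r)
    (Module.finBasis _ _)⟩

theorem forward (hM : FlatMod.IsFinLocFree (tilde M)) :
    Module.Finite R M ∧ Module.Projective R M := by
  have hfp : Module.FinitePresentation R M :=
    (Groth.Agent.S9827.result R M).1 (isFinitePresentation_of_isFinLocFree _ hM)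
  haveI := hfp
  -- flatness by a cover of basic opens on which the sections are free
  let s : Set R := {r | ∃ n : ℕ, Nonempty (Γ(tilde M, PrimeSpectrum.basicOpen r)
      ≃ₗ[Γ(Spec R, PrimeSpectrum.basicOpen r)] (Fin n → Γ(Spec R, PrimeSpectrum.basicOpen r)))}
  have hs : Ideal.span s = ⊤ := by
    rw [← PrimeSpectrum.iSup_basicOpen_eq_top_iff']
    rw [eq_top_iff]
    intro x _
    obtain ⟨U, n, hxU, ⟨iso⟩⟩ := hM x
    obtain ⟨_, ⟨_, ⟨r, rfl⟩, rfl⟩, hxr, hrU⟩ :=
      PrimeSpectrum.isBasis_basic_opens.exists_subset_of_mem_open hxU U.2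
    have hrU' : (PrimeSpectrum.basicOpen r : (Spec R).Opens) ≤ U := hrU
    obtain ⟨iso'⟩ := restrict_iso_freeMod_of_le (tilde M) hrU' n iso
    have hsec := sections_of_restrict_iso_freeMod (tilde M)
      (IsAffineOpen.Spec_basicOpen r) n iso'
    exact Opens.mem_iSup.mpr ⟨r, Opens.mem_iSup.mpr ⟨⟨n, hsec⟩, hxr⟩⟩
  have hflat : Module.Flat R M := by
    refine Module.flat_of_isLocalized_span (R := R) (S := R) M s hs
      (fun r => Γ(tilde M, PrimeSpectrum.basicOpen r.1))
      (fun r => toOpenLin M r.1) (fun r => ?_)
    obtain ⟨n, ⟨e⟩⟩ := r.2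
    haveI : Module.Free Γ(Spec R, PrimeSpectrum.basicOpen r.1)
        Γ(tilde M, PrimeSpectrum.basicOpen r.1) := Module.Free.of_equiv e.symm
    haveI : Module.Flat Γ(Spec R, PrimeSpectrum.basicOpen r.1)
        Γ(tilde M, PrimeSpectrum.basicOpen r.1) := inferInstance
    exact (Module.flat_iff_of_isLocalization Γ(Spec R, PrimeSpectrum.basicOpen r.1)
      (Submonoid.powers r.1) Γ(tilde M, PrimeSpectrum.basicOpen r.1)).1 inferInstance
  haveI := hflat
  exact ⟨inferInstance, Module.Flat.projective_of_finitePresentation⟩

theorem backward [Module.Finite R M] [Module.Projective R M] :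
    FlatMod.IsFinLocFree (tilde M) := by
  rw [isFinLocFree_iff_sections]
  intro x
  haveI : Module.FinitePresentation R M := Module.finitePresentation_of_projective R M
  haveI : Module.Free (Localization.AtPrime x.asIdeal)
      (LocalizedModule x.asIdeal.primeCompl M) := Module.free_of_flat_of_isLocalRing
  obtain ⟨r, hr, hfr, -⟩ := Module.FinitePresentation.exists_free_localizedModule_powers
    x.asIdeal.primeCompl (LocalizedModule.mkLinearMap x.asIdeal.primeCompl M)
    (Localization.AtPrime x.asIdeal)
  haveI := hfr
  haveI : Nontrivial (Localization (Submonoid.powers r)) := by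
    rw [← not_subsingleton_iff_nontrivial,
      IsLocalization.subsingleton_iff (M := Submonoid.powers r)]
    rintro ⟨k, hk⟩
    have hk' : r ^ k = 0 := hk
    have hp : x.asIdeal.IsPrime := inferInstance
    exact hr (hp.mem_of_pow_mem k (hk' ▸ Ideal.zero_mem _))
  obtain ⟨n, hn⟩ := sections_free_of_free_away M r
  exact ⟨PrimeSpectrum.basicOpen r, n, IsAffineOpen.Spec_basicOpen r, hr, hn⟩

theorem main {R : CommRingCat.{u}} (M : ModuleCat.{u} R) :
    FlatMod.IsFinLocFree (tilde M) ↔ Module.Finite R M ∧ Module.Projective R M := by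
  constructor
  · exact forward M
  · rintro ⟨h1, h2⟩
    exact backward M


end helpers


/-- For a commutative ring R and an R-module M, the associated quasi-coherent module M~ on Spec R is a
finite locally free O-module exactly when M is finitely generated and projective over R
(equivalently, a finite locally free R-module). -/
theorem result {R : CommRingCat.{u}} (M : ModuleCat.{u} R) :
    FlatMod.IsFinLocFree (tilde M) ↔ Module.Finite R M ∧ Module.Projective R M := by
  exact main M

end Groth.Agent.S12451
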