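import Groth.Statements.S9200
import Mathlib
-- import your own Groth.Agent.* helpers here

set_option autoImplicit false
universe u
open CategoryTheory AlgebraicGeometry
open Lim

namespace Groth.Agent.S9200

/-- Let S be a scheme and X = lim X_i a cofiltered limit of S-schemes X_i (a diagram with a compatible
family of structure maps to S) with affine transition morphisms, every X_i quasi-compact and
quasi-separated; the structure map X → S is the composite X → X_{i₀} → S for any index i₀. Assume S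
is quasi-compact and quasi-separated. If X → S is affine, then X_i → S is affine for all i beyond
some index i₁. -/
theorem result {I : Type u} [SmallCategory I] [IsCofiltered I] (S : Scheme.{u}) [CompactSpace S] [QuasiSeparatedSpace S]
    (D : I ⥤ Scheme.{u}) (t : D ⟶ (Functor.const I).obj S) (c : Limits.Cone D) (hc : Limits.IsLimit c)
    [∀ (i j : I) (a : i ⟶ j), IsAffineHom (D.map a)]
    [∀ i, CompactSpace (D.obj i)] [∀ i, QuasiSeparatedSpace (D.obj i)] (i₀ : I)
    [IsAffineHom (c.π.app i₀ ≫ t.app i₀)] :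
    ∃ i₁ : I, ∀ (i : I) (_ : i ⟶ i₁), IsAffineHom (t.app i) := by
  classical
  let tt : ∀ i, D.obj i ⟶ S := fun i => t.app i
  have hnat : ∀ {i j : I} (f : i ⟶ j), D.map f ≫ tt j = tt i := by
    intro i j f
    have := t.naturality f
    simp only [Functor.const_obj_obj, Functor.const_obj_map, Category.comp_id] at this
    exact this
  have hI₀ : IsAffineHom (c.π.app i₀ ≫ tt i₀) := ‹_›
  suffices hmain : ∃ i₁ : I, ∀ (i : I) (_ : i ⟶ i₁), IsAffineHom (tt i) from hmain
  have hqc : ∀ i, QuasiCompact (tt i) := fun i =>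
    (quasiCompact_iff_compactSpace _).mpr inferInstance
  -- for each affine open of `S`, an index where its preimage is affine
  have key : ∀ W : S.affineOpens, ∃ j : Over i₀,
      IsAffineOpen (tt j.left ⁻¹ᵁ (W : S.Opens)) := by
    intro W
    set U : (D.obj i₀).Opens := tt i₀ ⁻¹ᵁ (W : S.Opens) with hUdef
    have hU' : IsCompact (U : Set (D.obj i₀)) :=
      QuasiCompact.isCompact_preimage _ W.1.2 W.2.isCompact
    have hcs : ∀ j : Over i₀, CompactSpace ((opensDiagram D i₀ U).obj j) := fun j =>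
      isCompact_iff_compactSpace.mp (QuasiCompact.isCompact_preimage _ U.2 hU')
    have hqs : ∀ j : Over i₀, QuasiSeparatedSpace ((opensDiagram D i₀ U).obj j) := fun j =>
      (isQuasiSeparated_iff_quasiSeparatedSpace _ (D.map _ ⁻¹ᵁ _).2).mp
        (.of_quasiSeparatedSpace _)
    have haff : IsAffine (opensCone D c i₀ U).pt := by
      show IsAffineOpen (c.π.app i₀ ⁻¹ᵁ U)
      have := IsAffineHom.isAffine_preimage (f := c.π.app i₀ ≫ tt i₀) W.1 W.2
      rwa [Scheme.Hom.comp_preimage] at this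
    obtain ⟨j, hj⟩ := Scheme.exists_isAffine_of_isLimit _ _ (isLimitOpensCone D c hc i₀ U)
    refine ⟨j, ?_⟩
    have e : D.map j.hom ⁻¹ᵁ U = tt j.left ⁻¹ᵁ (W : S.Opens) := by
      rw [hUdef, ← Scheme.Hom.comp_preimage, hnat]
    rw [← e]
    exact hj
  choose j hj using key
  -- finite affine cover of S
  obtain ⟨s, hs⟩ : ∃ s : Finset S.affineOpens,
      (Set.univ : Set S) ⊆ ⋃ W ∈ s, ((W : S.Opens) : Set S) := by
    apply isCompact_univ.elim_finite_subcover (fun W : S.affineOpens => ((W : S.Opens) : Set S))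
      (fun W => W.1.2)
    intro x _
    obtain ⟨_, ⟨W, hW, rfl⟩, hxW, -⟩ :=
      S.isBasis_affineOpens.exists_subset_of_mem_open (Set.mem_univ x) isOpen_univ
    exact Set.mem_iUnion.mpr ⟨⟨W, hW⟩, hxW⟩
  obtain ⟨i₁, fi⟩ := IsCofiltered.inf_objs_exists (s.image (fun W => (j W).left))
  refine ⟨i₁, fun i a => ?_⟩
  have hcover : ⨆ W : s, ((W : S.affineOpens) : S.Opens) = ⊤ := by
    rw [eq_top_iff]
    intro x _
    have := hs (Set.mem_univ x)
    simp only [Set.mem_iUnion] at this
    obtain ⟨W, hWs, hxW⟩ := this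
    exact TopologicalSpace.Opens.mem_iSup.mpr ⟨⟨W, hWs⟩, hxW⟩
  rw [HasAffineProperty.iff_of_iSup_eq_top (P := @IsAffineHom)
    (fun W : s => (W : S.affineOpens)) hcover]
  intro W
  show IsAffineOpen (tt i ⁻¹ᵁ ((W : S.affineOpens) : S.Opens))
  have hmem : (j (W : S.affineOpens)).left ∈ s.image (fun W => (j W).left) :=
    Finset.mem_image.mpr ⟨W.1, W.2, rfl⟩
  obtain ⟨b⟩ := fi hmem
  have e : D.map (a ≫ b) ⁻¹ᵁ (tt (j (W : S.affineOpens)).left ⁻¹ᵁ
      ((W : S.affineOpens) : S.Opens)) = tt i ⁻¹ᵁ ((W : S.affineOpens) : S.Opens) := by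
    rw [← Scheme.Hom.comp_preimage, hnat]
  rw [← e]
  exact IsAffineHom.isAffine_preimage _ (hj W.1)

end Groth.Agent.S9200
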