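import Groth.Statements.S0392
import Mathlib
import Groth.Agent.Lib.Helper8.LocalFlat

set_option autoImplicit false
universe u
open FlatMor

namespace Groth.Agent.S0392

open TensorProduct in
/-- Fibrewise criterion of flatness, Noetherian local form: for local homomorphisms R → S → S' of
Noetherian local rings and a nonzero finite S'-module M that is flat over R and whose reduction
modulo the maximal ideal of R is flat over the corresponding fibre ring of S, the ring S is flat
over R and M is flat over S. -/
theorem result {R S S' M : Type u} [CommRing R] [CommRing S] [CommRing S'] [IsLocalRing R] [IsLocalRing S] [IsLocalRing S']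
    [IsNoetherianRing R] [IsNoetherianRing S] [IsNoetherianRing S'] [Algebra R S] [Algebra S S'] [Algebra R S'] [IsScalarTower R S S']
    [IsLocalHom (algebraMap R S)] [IsLocalHom (algebraMap S S')]
    [AddCommGroup M] [Module S' M] [Module S M] [Module R M] [IsScalarTower S S' M] [IsScalarTower R S M]
    [Module.Finite S' M] [Nontrivial M] [Module.Flat R M]
    (h : Module.Flat (S ⧸ ((IsLocalRing.maximalIdeal R).map (algebraMap R S))) ((S ⧸ ((IsLocalRing.maximalIdeal R).map (algebraMap R S))) ⊗[S] M)) :
    Module.Flat R S ∧ Module.Flat S M := by
  have h0 : Function.Injective ((IsLocalRing.maximalIdeal R).subtype.rTensor M) :=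
    Module.Flat.rTensor_preserves_injective_linearMap _ Subtype.val_injective
  have h1 : Function.Injective
      (((IsLocalRing.maximalIdeal R).map (algebraMap R S)).subtype.rTensor M) :=
    Groth.Agent.Lib.helper8.LocalFlat.map_subtype_rTensor_injective (S := S)
      (IsLocalRing.maximalIdeal R) M h0
  have hJ : ((IsLocalRing.maximalIdeal R).map (algebraMap R S)).map (algebraMap S S') ≤
      Ideal.jacobson ⊥ := by
    refine le_trans ?_ (IsLocalRing.maximalIdeal_le_jacobson ⊥)
    refine le_trans (Ideal.map_mono (IsLocalRing.map_maximalIdeal_le (algebraMap R S))) ?_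
    exact IsLocalRing.map_maximalIdeal_le (algebraMap S S')
  have hSM : Module.Flat S M :=
    Groth.Agent.Lib.helper8.LocalFlat.flat_of_forall_flat_quotient_pow (R := S) (S := S') (M := M)
      ((IsLocalRing.maximalIdeal R).map (algebraMap R S)) hJ
      (fun k _ => Groth.Agent.Lib.helper8.LocalFlat.flat_quotient_pow
        ((IsLocalRing.maximalIdeal R).map (algebraMap R S)) M h1 k)
  haveI : Module.FaithfullyFlat S M :=
    Groth.Agent.Lib.helper8.LocalFlat.faithfullyFlat_of_isLocalHom (S := S) (S' := S') M
  exact ⟨Groth.Agent.Lib.helper8.LocalFlat.flat_of_faithfullyFlat_of_flat (R := R) (S := S) M, hSM⟩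

end Groth.Agent.S0392
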