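import Groth.Statements.S5818
import Mathlib.Tactic.LinearCombination
import Mathlib.Tactic.Ring
-- import your own Groth.Agent.* helpers here

set_option autoImplicit false
universe u v
open EGA41

namespace Groth.Agent.S5818


attribute [local instance] Exal.opModule Exal.isCentralScalar_opModule

section
variable {A : Type u} {B C L : Type v} [CommRing A] [CommRing B] [CommRing C]
    [Algebra A B] [Algebra B C] [Algebra A C] [IsScalarTower A B C]
    [AddCommGroup L] [Module C L] [Module B L] [IsScalarTower B C L] [Module A L] [IsScalarTower A B L]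
    [IsScalarTower A C L]
    (X : Exal.Ext B C L)

theorem proj_incl (z : L) : X.proj (X.incl z) = 0 :=
  (X.isExtension.exact _).mpr ⟨z, rfl⟩

theorem incl_mul_incl (a b : L) : X.incl a * X.incl b = 0 := by
  rw [X.isExtension.mul_incl, proj_incl, zero_smul, map_zero]

theorem incl_mul (a : L) (y : X.E) : X.incl a * y = X.incl (X.proj y • a) := by
  rw [mul_comm, X.isExtension.mul_incl]

/-- the ring hom `C ⊕ L → E` attached to a ring section `s` of the projection -/
noncomputable def gHom (s : C →+* X.E) (hs : ∀ c, X.proj (s c) = c) : TrivSqZeroExt C L →+* X.E where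
  toFun t := s t.fst + X.incl t.snd
  map_one' := by
    rw [TrivSqZeroExt.fst_one, TrivSqZeroExt.snd_one, map_one, map_zero, add_zero]
  map_mul' t t' := by
    rw [TrivSqZeroExt.fst_mul, TrivSqZeroExt.snd_mul, map_mul, map_add, add_mul, mul_add, mul_add,
      incl_mul_incl, incl_mul, X.isExtension.mul_incl, hs, hs, op_smul_eq_smul]
    abel
  map_zero' := by
    rw [TrivSqZeroExt.fst_zero, TrivSqZeroExt.snd_zero, map_zero, map_zero, add_zero]
  map_add' t t' := by
    rw [TrivSqZeroExt.fst_add, TrivSqZeroExt.snd_add, map_add, map_add]
    abel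

theorem gHom_apply (s : C →+* X.E) (hs : ∀ c, X.proj (s c) = c) (t : TrivSqZeroExt C L) :
    gHom X s hs t = s t.fst + X.incl t.snd := rfl

theorem gHom_inl (s : C →+* X.E) (hs : ∀ c, X.proj (s c) = c) (c : C) :
    gHom X s hs (TrivSqZeroExt.inl c) = s c := by
  rw [gHom_apply, TrivSqZeroExt.fst_inl, TrivSqZeroExt.snd_inl, map_zero, add_zero]

theorem gHom_inr (s : C →+* X.E) (hs : ∀ c, X.proj (s c) = c) (z : L) :
    gHom X s hs (TrivSqZeroExt.inr z) = X.incl z := by
  rw [gHom_apply, TrivSqZeroExt.fst_inr, TrivSqZeroExt.snd_inr, map_zero, zero_add]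

theorem proj_gHom (s : C →+* X.E) (hs : ∀ c, X.proj (s c) = c) (t : TrivSqZeroExt C L) :
    X.proj (gHom X s hs t) = t.fst := by
  rw [gHom_apply, map_add, hs, proj_incl, add_zero]

theorem gHom_bijective (s : C →+* X.E) (hs : ∀ c, X.proj (s c) = c) :
    Function.Bijective (gHom X s hs) := by
  constructor
  · intro t t' h
    have h1 : t.fst = t'.fst := by
      have := congrArg X.proj h
      rwa [proj_gHom, proj_gHom] at this
    have h2 : t.snd = t'.snd := by
      rw [gHom_apply, gHom_apply, h1] at h
      exact X.isExtension.incl_injective (add_left_cancel h)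
    exact TrivSqZeroExt.ext h1 h2
  · intro x
    have h0 : X.proj (x - s (X.proj x)) = 0 := by rw [map_sub, hs, sub_self]
    obtain ⟨z, hz⟩ := (X.isExtension.exact _).mp h0
    refine ⟨TrivSqZeroExt.inl (X.proj x) + TrivSqZeroExt.inr z, ?_⟩
    rw [map_add, gHom_inl, gHom_inr, hz]
    abel

end

/-- Commutative rings, exactness at Exalcom_B(C, L) on underlying pointed sets. For ring maps A → B → C
and a C-module L, a B-extension of C by L is A-trivial if and only if it is equivalent to the
extension attached to some A-derivation B → L. -/
theorem result {A : Type u} {B C L : Type v} [CommRing A] [CommRing B] [CommRing C]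
    [Algebra A B] [Algebra B C] [Algebra A C] [IsScalarTower A B C]
    [AddCommGroup L] [Module C L] [Module B L] [IsScalarTower B C L] [Module A L] [IsScalarTower A B L]
    [IsScalarTower A C L]
    (X : Exal.Ext B C L) :
    X.IsTrivialOver A ↔
      ∃ D : Derivation A B L, Nonempty (X.Equiv (Exal.Ext.ofDerivation (C := C) D)) := by
  constructor
  · rintro ⟨s, hs⟩
    let s' : C →+* X.E := (s : C →+* (X.restrictBase A).E)
    have hs' : ∀ c, X.proj (s' c) = c := hs
    have hsA : ∀ a : A, s' (algebraMap A C a) = algebraMap B X.E (algebraMap A B a) :=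
      fun a => s.commutes a
    have hker : ∀ b : B, X.proj (algebraMap B X.E b - s' (algebraMap B C b)) = 0 := by
      intro b
      rw [map_sub, AlgHom.commutes, hs', sub_self]
    let Dfun : B → L := fun b => X.kerLift _ (hker b)
    have hD : ∀ b, X.incl (Dfun b) = algebraMap B X.E b - s' (algebraMap B C b) :=
      fun b => X.incl_kerLift _ _
    have hq : ∀ b, algebraMap B X.E b = s' (algebraMap B C b) + X.incl (Dfun b) := by
      intro b; rw [hD]; abel
    have hsmulB : ∀ (b : B) (z : L), X.incl (b • z) = algebraMap B X.E b * X.incl z := by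
      intro b z
      rw [X.isExtension.mul_incl, AlgHom.commutes, algebraMap_smul]
    let Dlin : B →ₗ[A] L :=
      { toFun := Dfun
        map_add' := fun b b' => by
          apply X.isExtension.incl_injective
          rw [map_add, hD, hD, hD, map_add, map_add, map_add]
          abel
        map_smul' := fun a b => by
          apply X.isExtension.incl_injective
          rw [RingHom.id_apply, ← algebraMap_smul B a (Dfun b), hsmulB, hD, hD, Algebra.smul_def,
            map_mul, map_mul, map_mul, ← IsScalarTower.algebraMap_apply A B C, hsA, mul_sub] }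
    let D : Derivation A B L := Derivation.mk' Dlin (by
      intro b b'
      change Dfun (b * b') = b • Dfun b' + b' • Dfun b
      apply X.isExtension.incl_injective
      rw [map_add, hsmulB, hsmulB, hD (b * b'), map_mul, map_mul, map_mul, hq b, hq b']
      have h0 := incl_mul_incl X (Dfun b) (Dfun b')
      linear_combination (-1 : X.E) * h0)
    have hDapply : ∀ b, D b = Dfun b := fun b => rfl
    refine ⟨D, ⟨?_⟩⟩
    let G := gHom X s' hs'
    let GA : (Exal.Ext.ofDerivation (C := C) D).E →ₐ[B] X.E :=
      { toFun := fun t => G t
        map_one' := map_one G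
        map_mul' := map_mul G
        map_zero' := map_zero G
        map_add' := map_add G
        commutes' := fun b => by
          change G (TrivSqZeroExt.inl (algebraMap B C b) + TrivSqZeroExt.inr (D b)) = _
          rw [map_add, gHom_inl, gHom_inr, hDapply, ← hq] }
    have hGA : Function.Bijective GA := gHom_bijective X s' hs'
    let e : (Exal.Ext.ofDerivation (C := C) D).Equiv X :=
      { toAlgEquiv := AlgEquiv.ofBijective GA hGA
        proj_apply := fun t => proj_gHom X s' hs' t
        apply_incl := fun z => gHom_inr X s' hs' z }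
    exact e.symm
  · rintro ⟨D, ⟨e⟩⟩
    let inlH : C →+* (Exal.Ext.ofDerivation (C := C) D).E := TrivSqZeroExt.inlHom C L
    let r : C →+* X.E := (e.toAlgEquiv.symm : (Exal.Ext.ofDerivation (C := C) D).E →+* X.E).comp inlH
    have hr : ∀ c, r c = e.toAlgEquiv.symm (TrivSqZeroExt.inl c : (Exal.Ext.ofDerivation (C := C) D).E) :=
      fun c => rfl
    have hinl : ∀ a : A, (TrivSqZeroExt.inl (algebraMap A C a) : (Exal.Ext.ofDerivation (C := C) D).E) =
        algebraMap B (Exal.Ext.ofDerivation (C := C) D).E (algebraMap A B a) := by
      intro a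
      change TrivSqZeroExt.inl (algebraMap A C a) =
        TrivSqZeroExt.inl (algebraMap B C (algebraMap A B a)) + TrivSqZeroExt.inr (D (algebraMap A B a))
      rw [Derivation.map_algebraMap, TrivSqZeroExt.inr_zero, add_zero,
        ← IsScalarTower.algebraMap_apply A B C]
    refine ⟨{ toFun := fun c => r c
              map_one' := map_one r
              map_mul' := map_mul r
              map_zero' := map_zero r
              map_add' := map_add r
              commutes' := fun a => ?_ }, ?_⟩
    · change r (algebraMap A C a) = algebraMap B X.E (algebraMap A B a)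
      rw [hr, hinl, AlgEquiv.commutes]
    · intro c
      change X.proj (r c) = c
      rw [hr]
      exact e.symm.proj_apply (TrivSqZeroExt.inl c : (Exal.Ext.ofDerivation (C := C) D).E)

end Groth.Agent.S5818
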