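import Groth.Statements.S5820
import Mathlib

set_option autoImplicit false
universe u v
open EGA41

namespace Groth.Agent.S5820


open TensorProduct Exal

section
variable {A : Type u} {B C L : Type v} [CommRing A] [CommRing B] [CommRing C]
    [Algebra A B] [Algebra B C] [Algebra A C] [IsScalarTower A B C] [AddCommGroup L] [Module C L]
    (X : Exal.Ext B C L)

theorem algebraMap_CharCarrier_C (e : X.CharCarrier A) : algebraMap (X.CharCarrier A) C e = X.proj e :=
  rfl

theorem proj_surj : Function.Surjective (algebraMap (X.CharCarrier A) C) :=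
  X.isExtension.proj_surjective

theorem incl_mem_ker (z : L) : X.inclC A z ∈ RingHom.ker (algebraMap (X.CharCarrier A) C) := by
  rw [RingHom.mem_ker, algebraMap_CharCarrier_C]
  exact (X.isExtension.exact _).mpr ⟨z, rfl⟩

theorem ker_sq : (RingHom.ker (algebraMap (X.CharCarrier A) C)) ^ 2 = ⊥ := by
  rw [eq_bot_iff, pow_two, Ideal.mul_le]
  intro x hx y hy
  rw [RingHom.mem_ker, algebraMap_CharCarrier_C] at hx hy
  obtain ⟨z, rfl⟩ := (X.isExtension.exact _).mp hy
  have h1 : (x * X.inclC A z : X.CharCarrier A) = X.inclC A (X.proj x • z) :=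
    X.isExtension.mul_incl x z
  rw [Ideal.mem_bot]
  change (x * X.inclC A z : X.CharCarrier A) = 0
  rw [h1, hx, zero_smul, map_zero]

theorem deltaL_eq (z : L) : X.deltaL A z =
    KaehlerDifferential.kerToTensor A (X.CharCarrier A) C ⟨X.inclC A z, incl_mem_ker X z⟩ := rfl

theorem deltaL_injective (hX : X.IsTrivialOver A) : Function.Injective (X.deltaL A) := by
  obtain ⟨s, hs⟩ := hX
  let g : C →ₐ[A] X.CharCarrier A :=
    { toFun := fun c => s c
      map_one' := map_one s
      map_mul' := map_mul s
      map_zero' := map_zero s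
      map_add' := map_add s
      commutes' := fun a => s.commutes a }
  have hg : (IsScalarTower.toAlgHom A (X.CharCarrier A) C).comp g = AlgHom.id A C := by
    ext c
    exact hs c
  have hret := retractionOfSectionOfKerSqZero_comp_kerToTensor g (ker_sq X) hg
  intro z z' hzz'
  rw [deltaL_eq, deltaL_eq] at hzz'
  have h1 := congrArg (retractionOfSectionOfKerSqZero g (ker_sq X) hg) hzz'
  have h2 := LinearMap.congr_fun hret ⟨X.inclC A z, incl_mem_ker X z⟩
  have h3 := LinearMap.congr_fun hret ⟨X.inclC A z', incl_mem_ker X z'⟩
  rw [LinearMap.comp_apply, LinearMap.id_apply] at h2 h3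
  rw [h2, h3] at h1
  exact X.isExtension.incl_injective (congrArg Subtype.val h1)

end

section
variable {A : Type u} {B C L : Type v} [CommRing A] [CommRing B] [CommRing C]
    [Algebra A B] [Algebra B C] [Algebra A C] [IsScalarTower A B C] [AddCommGroup L] [Module C L]
    (X : Exal.Ext B C L)

open KaehlerDifferential in
theorem map_map_eq (ω : Ω[B⁄A]) :
    KaehlerDifferential.map A A (X.CharCarrier A) C
        (KaehlerDifferential.map A A B (X.CharCarrier A) ω) =
      KaehlerDifferential.map A A B C ω := by
  obtain ⟨f, rfl⟩ := KaehlerDifferential.linearCombination_surjective _ _ ω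
  induction f using Finsupp.induction_linear with
  | zero => simp
  | add f g hf hg => simp only [map_add, hf, hg]
  | single a b =>
    simp only [Finsupp.linearCombination_single, LinearMap.map_smul_of_tower,
      KaehlerDifferential.map_D]
    rw [← IsScalarTower.algebraMap_apply B (X.CharCarrier A) C]

theorem baseChangeToMiddle_tmul (c : C) (ω : Ω[B⁄A]) :
    X.baseChangeToMiddle A (c ⊗ₜ[B] ω) =
      c ⊗ₜ[X.CharCarrier A] KaehlerDifferential.map A A B (X.CharCarrier A) ω := rfl

theorem mapBaseChange_baseChangeToMiddle (w : C ⊗[B] Ω[B⁄A]) :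
    KaehlerDifferential.mapBaseChange A (X.CharCarrier A) C (X.baseChangeToMiddle A w) =
      KaehlerDifferential.mapBaseChange A B C w := by
  induction w using TensorProduct.induction_on with
  | zero => simp
  | add x y hx hy => simp only [map_add, hx, hy]
  | tmul c ω =>
    rw [baseChangeToMiddle_tmul, KaehlerDifferential.mapBaseChange_tmul,
      KaehlerDifferential.mapBaseChange_tmul, map_map_eq]

theorem baseChangeToMiddle_smul (c : C) (w : C ⊗[B] Ω[B⁄A]) :
    X.baseChangeToMiddle A (c • w) = c • X.baseChangeToMiddle A w := by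
  induction w using TensorProduct.induction_on with
  | zero => simp
  | add x y hx hy => simp only [smul_add, map_add, hx, hy]
  | tmul c' ω =>
    rw [TensorProduct.smul_tmul', baseChangeToMiddle_tmul, baseChangeToMiddle_tmul,
      TensorProduct.smul_tmul']

theorem deltaL_smul (c : C) (z : L) : X.deltaL A (c • z) = c • X.deltaL A z := by
  obtain ⟨e, rfl⟩ := proj_surj (A := A) X c
  have h1 : X.inclC A (algebraMap (X.CharCarrier A) C e • z) = e * X.inclC A z :=
    (X.isExtension.mul_incl e z).symm
  rw [deltaL_eq, deltaL_eq]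
  have h2 : (⟨X.inclC A (algebraMap (X.CharCarrier A) C e • z), incl_mem_ker X _⟩ :
      RingHom.ker (algebraMap (X.CharCarrier A) C)) = e • ⟨X.inclC A z, incl_mem_ker X z⟩ :=
    Subtype.ext h1
  rw [h2, map_smul, IsScalarTower.algebraMap_smul]

theorem exists_deltaL_eq (z : EGA41.imperfection A B C) :
    ∃ ℓ : L, X.deltaL A ℓ = X.baseChangeToMiddle A z.1 := by
  have h0 : KaehlerDifferential.mapBaseChange A (X.CharCarrier A) C
      (X.baseChangeToMiddle A z.1) = 0 := by
    rw [mapBaseChange_baseChangeToMiddle]; exact z.2
  obtain ⟨y, hy⟩ := (KaehlerDifferential.exact_kerCotangentToTensor_mapBaseChange A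
    (X.CharCarrier A) C (proj_surj X) _).mp h0
  obtain ⟨x, rfl⟩ := Ideal.toCotangent_surjective _ y
  have hx : X.proj x.1 = 0 := x.2
  obtain ⟨ℓ, hℓ⟩ := (X.isExtension.exact x.1).mp hx
  refine ⟨ℓ, ?_⟩
  rw [← hy, KaehlerDifferential.kerCotangentToTensor_toCotangent, ← hℓ]
  rfl

end


/-- For ring maps A → B → C, a C-module L and a B-extension X of C by L with middle ring E which is
A-trivial, there is exactly one C-linear map χ from the imperfection module Υ_{C/B/A} = ker(C ⊗_B
Ω_{B/A} → Ω_{C/A}) to L making the defining square commute, i.e. such that z ↦ 1 ⊗ d(χ z) ∈ C ⊗_E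
Ω_{E/A} agrees on Υ_{C/B/A} with the map induced by B → E. This χ is the characteristic homomorphism
of X. (The published statement also asserts that both rows of its diagram are exact; this row states
only the commutativity of the left square and the existence and uniqueness of χ.) -/
theorem result {A : Type u} {B C L : Type v} [CommRing A] [CommRing B] [CommRing C]
    [Algebra A B] [Algebra B C] [Algebra A C] [IsScalarTower A B C] [AddCommGroup L] [Module C L]
    (X : Exal.Ext B C L) (hX : X.IsTrivialOver A) :
    ∃! χ : ↥(EGA41.imperfection A B C) →ₗ[C] L, X.IsCharHom A χ := by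
  have hinj := deltaL_injective X hX
  choose f hf using exists_deltaL_eq (A := A) X
  refine ⟨{ toFun := f, map_add' := ?_, map_smul' := ?_ }, ?_, ?_⟩
  · intro z z'
    apply hinj
    rw [map_add, hf, hf, hf, Submodule.coe_add, map_add]
  · intro c z
    apply hinj
    rw [RingHom.id_apply, deltaL_smul, hf, hf, Submodule.coe_smul, baseChangeToMiddle_smul]
  · intro z
    exact hf z
  · intro χ hχ
    ext z
    apply hinj
    rw [hχ z]
    exact (hf z).symm

end Groth.Agent.S5820
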