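import Groth.Statements.S5833
import Mathlib
import Groth.Agent.S5820

set_option autoImplicit false
universe u v
open scoped TensorProduct
open EGA41

namespace Groth.Agent.S5833

open TensorProduct KaehlerDifferential

section generic
variable {Λ B P C : Type*} [CommRing Λ] [CommRing B] [CommRing P] [CommRing C]
  [Algebra Λ B] [Algebra Λ P] [Algebra B P] [IsScalarTower Λ B P] [Algebra P C] [Algebra B C]
  [IsScalarTower B P C] [Algebra Λ C] [IsScalarTower Λ B C] [IsScalarTower Λ P C]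

omit [CommRing P] [Algebra Λ P] [Algebra B P] [IsScalarTower Λ B P] [Algebra P C]
  [IsScalarTower B P C] [Algebra Λ C] [IsScalarTower Λ B C] [IsScalarTower Λ P C] in
theorem one_tmul_D_eq_zero_of_mem_sq (x : B) (hx : x ∈ (RingHom.ker (algebraMap B C)) ^ 2) :
    (1 : C) ⊗ₜ[B] D Λ B x = 0 := by
  rw [pow_two] at hx
  refine Submodule.mul_induction_on hx ?_ ?_
  · intro y hy z hz
    rw [RingHom.mem_ker] at hy hz
    rw [Derivation.leibniz, TensorProduct.tmul_add, TensorProduct.tmul_smul, TensorProduct.tmul_smul,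
      TensorProduct.smul_tmul', TensorProduct.smul_tmul', Algebra.smul_def, Algebra.smul_def, hy, hz,
      zero_mul, TensorProduct.zero_tmul, TensorProduct.zero_tmul, add_zero]
  · intro y z hy hz
    rw [map_add, TensorProduct.tmul_add, hy, hz, add_zero]

/-- the retraction `C ⊗_P Ω_{P/Λ} → C ⊗_B Ω_{B/Λ}` when `B → P` is onto with kernel in
`ker(B → C)^2`. -/
theorem exists_retraction (hsurj : Function.Surjective (algebraMap B P))
    (hker : RingHom.ker (algebraMap B P) ≤ (RingHom.ker (algebraMap B C)) ^ 2) :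
    ∃ ρ : C ⊗[P] Ω[P⁄Λ] →ₗ[C] C ⊗[B] Ω[B⁄Λ],
      ∀ (c : C) (b : B), ρ (c ⊗ₜ[P] D Λ P (algebraMap B P b)) = c ⊗ₜ[B] D Λ B b := by
  classical
  -- the function `P → M`
  let δ₀ : B → C ⊗[B] Ω[B⁄Λ] := fun b => (1 : C) ⊗ₜ[B] D Λ B b
  have hδ₀ : ∀ b b' : B, algebraMap B P b = algebraMap B P b' → δ₀ b = δ₀ b' := by
    intro b b' h
    have h1 : b - b' ∈ RingHom.ker (algebraMap B P) := by
      rw [RingHom.mem_ker, map_sub, h, sub_self]
    have h2 := one_tmul_D_eq_zero_of_mem_sq (Λ := Λ) (C := C) _ (hker h1)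
    rw [map_sub, TensorProduct.tmul_sub, sub_eq_zero] at h2
    exact h2
  let δf : P → C ⊗[B] Ω[B⁄Λ] := fun p => δ₀ (Function.surjInv hsurj p)
  have hδf : ∀ b : B, δf (algebraMap B P b) = δ₀ b := by
    intro b
    exact hδ₀ _ _ (Function.surjInv_eq hsurj _)
  have hPsmul : ∀ (b : B) (m : C ⊗[B] Ω[B⁄Λ]), (algebraMap B P b) • m = b • m := by
    intro b m
    induction m using TensorProduct.induction_on with
    | zero => rw [smul_zero, smul_zero]
    | add x y hx hy => rw [smul_add, smul_add, hx, hy]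
    | tmul c ω => rw [TensorProduct.smul_tmul', TensorProduct.smul_tmul', IsScalarTower.algebraMap_smul]
  let δl : P →ₗ[Λ] C ⊗[B] Ω[B⁄Λ] :=
    { toFun := δf
      map_add' := by
        intro p p'
        obtain ⟨b, rfl⟩ := hsurj p
        obtain ⟨b', rfl⟩ := hsurj p'
        rw [← map_add, hδf, hδf, hδf]
        change (1 : C) ⊗ₜ[B] D Λ B (b + b') = _
        rw [map_add, TensorProduct.tmul_add]
      map_smul' := by
        intro l p
        obtain ⟨b, rfl⟩ := hsurj p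
        rw [RingHom.id_apply, ← IsScalarTower.algebraMap_smul B l (algebraMap B P b),
          Algebra.smul_def, ← map_mul, hδf, hδf]
        change (1 : C) ⊗ₜ[B] D Λ B (algebraMap Λ B l * b) = l • ((1 : C) ⊗ₜ[B] D Λ B b)
        rw [← Algebra.smul_def, Derivation.map_smul, TensorProduct.tmul_smul] }
  have hδl : ∀ b : B, δl (algebraMap B P b) = (1 : C) ⊗ₜ[B] D Λ B b := hδf
  let δ : Derivation Λ P (C ⊗[B] Ω[B⁄Λ]) :=
    Derivation.mk' δl (by
      intro p p'
      obtain ⟨b, rfl⟩ := hsurj p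
      obtain ⟨b', rfl⟩ := hsurj p'
      rw [← map_mul, hδl, hδl, hδl, hPsmul, hPsmul, Derivation.leibniz, TensorProduct.tmul_add,
        TensorProduct.tmul_smul, TensorProduct.tmul_smul])
  have hδ : ∀ b : B, δ (algebraMap B P b) = (1 : C) ⊗ₜ[B] D Λ B b := hδf
  let φ : Ω[P⁄Λ] →ₗ[P] C ⊗[B] Ω[B⁄Λ] := δ.liftKaehlerDifferential
  refine ⟨φ.liftBaseChange C, ?_⟩
  intro c b
  rw [LinearMap.liftBaseChange_tmul, Derivation.liftKaehlerDifferential_comp_D, hδ,
    TensorProduct.smul_tmul', smul_eq_mul, mul_one]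


omit [Algebra Λ P] [Algebra B P] [IsScalarTower Λ B P] [Algebra P C]
  [IsScalarTower B P C] [Algebra Λ C] [IsScalarTower Λ B C] [IsScalarTower Λ P C] [CommRing P] in
/-- `C ⊗_B Ω_{B/Λ}` is additively generated by the `c ⊗ d b`. -/
theorem tmul_D_induction {motive : C ⊗[B] Ω[B⁄Λ] → Prop} (zero : motive 0)
    (add : ∀ x y, motive x → motive y → motive (x + y))
    (tmul_D : ∀ (c : C) (b : B), motive (c ⊗ₜ[B] D Λ B b)) (w : C ⊗[B] Ω[B⁄Λ]) : motive w := by
  induction w using TensorProduct.induction_on with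
  | zero => exact zero
  | add x y hx hy => exact add x y hx hy
  | tmul c ω =>
    obtain ⟨f, rfl⟩ := KaehlerDifferential.linearCombination_surjective _ _ ω
    induction f using Finsupp.induction_linear with
    | zero => rw [map_zero, TensorProduct.tmul_zero]; exact zero
    | add f g hf hg => rw [map_add, TensorProduct.tmul_add]; exact add _ _ hf hg
    | single a r =>
      rw [Finsupp.linearCombination_single, ← TensorProduct.smul_tmul]
      exact tmul_D _ _

/-- the natural map `C ⊗_B Ω_{B/Λ} → C ⊗_P Ω_{P/Λ}`. -/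
noncomputable def iota : C ⊗[B] Ω[B⁄Λ] →ₗ[C] C ⊗[P] Ω[P⁄Λ] :=
  ((KaehlerDifferential.mapBaseChange Λ B P).baseChange C) ∘ₗ
    (TensorProduct.AlgebraTensorModule.cancelBaseChange B P C C Ω[B⁄Λ]).symm.toLinearMap

omit [Algebra Λ C] [IsScalarTower Λ B C] [IsScalarTower Λ P C] in
theorem iota_tmul_D (c : C) (b : B) :
    iota (Λ := Λ) (P := P) (c ⊗ₜ[B] D Λ B b) = c ⊗ₜ[P] D Λ P (algebraMap B P b) := by
  simp [iota]

theorem retraction_iota {ρ : C ⊗[P] Ω[P⁄Λ] →ₗ[C] C ⊗[B] Ω[B⁄Λ]}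
    (hρ : ∀ (c : C) (b : B), ρ (c ⊗ₜ[P] D Λ P (algebraMap B P b)) = c ⊗ₜ[B] D Λ B b)
    (w : C ⊗[B] Ω[B⁄Λ]) : ρ (iota (Λ := Λ) (P := P) w) = w := by
  induction w using tmul_D_induction with
  | zero => simp
  | add x y hx hy => rw [map_add, map_add, hx, hy]
  | tmul_D c b => rw [iota_tmul_D, hρ]

end generic

section app
variable {Λ : Type u} {A B : Type v} [CommRing Λ]
    [CommRing A] [CommRing B] [Algebra Λ A] [Algebra Λ B] [Algebra A B] [IsScalarTower Λ A B] (K : Ideal B)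

set_option quotPrecheck false in
local notation "XX" => Exal.Ext.restrictBase A (Exal.Ext.infinitesimal K)
set_option quotPrecheck false in
local notation "PP" => Exal.Ext.CharCarrier Λ (Exal.Ext.restrictBase A (Exal.Ext.infinitesimal K))
set_option quotPrecheck false in
local notation "CC" => B ⧸ K

/-- the map `j : C ⊗_A Ω_{A/Λ} → C ⊗_B Ω_{B/Λ}` of the statement. -/
noncomputable def jmap : CC ⊗[A] Ω[A⁄Λ] →ₗ[CC] CC ⊗[B] Ω[B⁄Λ] :=
  ((KaehlerDifferential.mapBaseChange Λ A B).baseChange (B ⧸ K)) ∘ₗ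
    (TensorProduct.AlgebraTensorModule.cancelBaseChange A B (B ⧸ K) (B ⧸ K) Ω[A⁄Λ]).symm.toLinearMap

theorem jmap_tmul_D (c : CC) (a : A) :
    jmap (Λ := Λ) K (c ⊗ₜ[A] D Λ A a) = c ⊗ₜ[B] D Λ B (algebraMap A B a) := by
  simp [jmap]

/-- the key package of maps for the infinitesimal extension. -/
theorem key_package :
    ∃ (ι : CC ⊗[B] Ω[B⁄Λ] →ₗ[CC] CC ⊗[PP] Ω[PP⁄Λ])
      (ρ : CC ⊗[PP] Ω[PP⁄Λ] →ₗ[CC] CC ⊗[B] Ω[B⁄Λ]),
      (∀ w, ρ (ι w) = w) ∧
      (∀ w : CC ⊗[A] Ω[A⁄Λ], (XX).baseChangeToMiddle Λ w = ι (jmap (Λ := Λ) K w)) ∧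
      (∀ (x : B) (hx : x ∈ K), (XX).deltaL Λ (K.toCotangent ⟨x, hx⟩) = ι ((1 : CC) ⊗ₜ[B] D Λ B x)) := by
  letI algBP : Algebra B PP := inferInstanceAs (Algebra B (B ⧸ K ^ 2))
  have st1 : IsScalarTower Λ B PP := IsScalarTower.of_algebraMap_eq (fun l => by
    change Ideal.Quotient.mk (K ^ 2) (algebraMap A B (algebraMap Λ A l)) =
      Ideal.Quotient.mk (K ^ 2) (algebraMap Λ B l)
    rw [← IsScalarTower.algebraMap_apply])
  have st2 : IsScalarTower B PP CC := IsScalarTower.of_algebraMap_eq (fun b => rfl)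
  have hsurj : Function.Surjective (algebraMap B PP) := Ideal.Quotient.mk_surjective
  have hker : RingHom.ker (algebraMap B PP) ≤ (RingHom.ker (algebraMap B CC)) ^ 2 := by
    intro b hb
    have h1 : RingHom.ker (algebraMap B CC) = K := by
      rw [Ideal.Quotient.algebraMap_eq, Ideal.mk_ker]
    rw [h1]
    have h2 : Ideal.Quotient.mk (K ^ 2) b = 0 := hb
    exact Ideal.Quotient.eq_zero_iff_mem.mp h2
  obtain ⟨ρ, hρ⟩ := exists_retraction (Λ := Λ) (B := B) (P := PP) (C := CC) hsurj hker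
  refine ⟨iota (Λ := Λ) (B := B) (P := PP) (C := CC), ρ, retraction_iota hρ, ?_, ?_⟩
  · intro w
    induction w using tmul_D_induction with
    | zero => simp
    | add x y hx hy => rw [map_add, map_add, map_add, hx, hy]
    | tmul_D c a =>
      rw [jmap_tmul_D, iota_tmul_D, Groth.Agent.S5820.baseChangeToMiddle_tmul,
        KaehlerDifferential.map_D]
      rfl
  · intro x hx
    rw [iota_tmul_D]
    rfl

end app

section app2
variable {Λ : Type u} {A B : Type v} [CommRing Λ]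
    [CommRing A] [CommRing B] [Algebra Λ A] [Algebra Λ B] [Algebra A B] [IsScalarTower Λ A B] (K : Ideal B)

/-- `π : C ⊗_B Ω_{B/Λ} → C ⊗_B Ω_{B/A}` -/
noncomputable def pimap : (B ⧸ K) ⊗[B] Ω[B⁄Λ] →ₗ[B ⧸ K] (B ⧸ K) ⊗[B] Ω[B⁄A] :=
  (KaehlerDifferential.map Λ A B B).baseChange (B ⧸ K)

theorem pimap_tmul_D (c : B ⧸ K) (b : B) :
    pimap (Λ := Λ) (A := A) K (c ⊗ₜ[B] D Λ B b) = c ⊗ₜ[B] D A B b := by
  simp [pimap]

theorem pimap_jmap (w : (B ⧸ K) ⊗[A] Ω[A⁄Λ]) :
    pimap (Λ := Λ) (A := A) K (jmap (Λ := Λ) K w) = 0 := by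
  induction w using tmul_D_induction with
  | zero => simp
  | add x y hx hy => rw [map_add, map_add, hx, hy, add_zero]
  | tmul_D c a =>
    rw [jmap_tmul_D, pimap_tmul_D, Derivation.map_algebraMap, TensorProduct.tmul_zero]

theorem exists_jmap_eq (y : (B ⧸ K) ⊗[B] Ω[B⁄Λ]) (hy : pimap (Λ := Λ) (A := A) K y = 0) :
    ∃ w : (B ⧸ K) ⊗[A] Ω[A⁄Λ], jmap (Λ := Λ) K w = y := by
  have hex := lTensor_exact (B ⧸ K) (KaehlerDifferential.exact_mapBaseChange_map Λ A B)
    (KaehlerDifferential.map_surjective Λ A B)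
  have hy' : (KaehlerDifferential.map Λ A B B).lTensor (B ⧸ K) y = 0 := by
    have : pimap (Λ := Λ) (A := A) K y =
        (KaehlerDifferential.map Λ A B B).lTensor (B ⧸ K) y :=
      congrFun (LinearMap.baseChange_eq_ltensor _) y
    rw [← this]; exact hy
  obtain ⟨u, hu⟩ := (hex y).mp hy'
  refine ⟨TensorProduct.AlgebraTensorModule.cancelBaseChange A B (B ⧸ K) (B ⧸ K) Ω[A⁄Λ] u, ?_⟩
  rw [← hu]
  change ((KaehlerDifferential.mapBaseChange Λ A B).baseChange (B ⧸ K))
    ((TensorProduct.AlgebraTensorModule.cancelBaseChange A B (B ⧸ K) (B ⧸ K) Ω[A⁄Λ]).symm _) = _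
  rw [LinearEquiv.symm_apply_apply]
  exact congrFun (LinearMap.baseChange_eq_ltensor _) u

theorem mapBaseChange_jmap (w : (B ⧸ K) ⊗[A] Ω[A⁄Λ]) :
    KaehlerDifferential.mapBaseChange Λ B (B ⧸ K) (jmap (Λ := Λ) K w) =
      KaehlerDifferential.mapBaseChange Λ A (B ⧸ K) w := by
  induction w using tmul_D_induction with
  | zero => simp
  | add x y hx hy => rw [map_add, map_add, map_add, hx, hy]
  | tmul_D c a =>
    rw [jmap_tmul_D, KaehlerDifferential.mapBaseChange_tmul, KaehlerDifferential.mapBaseChange_tmul,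
      KaehlerDifferential.map_D, KaehlerDifferential.map_D, ← IsScalarTower.algebraMap_apply]

end app2


/-- Let Λ → A → B be ring maps, K an ideal of B, C = B ⧸ K, and suppose E = B ⧸ K², as an extension of C
by K/K², is Λ-trivial. Let χ : Υ_{C/A/Λ} → K/K² be the characteristic homomorphism of E as an
A-extension, relative to Λ → A. Then: (a) the kernel of χ consists of the elements of Υ_{C/A/Λ} ⊆ C
⊗_A Ω_{A/Λ} whose image in C ⊗_B Ω_{B/Λ} is zero (that image map is written as the base change to C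
of B ⊗_A Ω_{A/Λ} → Ω_{B/Λ}, through the canonical identification C ⊗_B (B ⊗_A Ω_{A/Λ}) = C ⊗_A
Ω_{A/Λ}); (b) the image of χ is the kernel of the conormal map K/K² → C ⊗_B Ω_{B/A}, x ↦ 1 ⊗ dx.
This is the exact sequence 0 → Υ^C_{B/A/Λ} → Υ_{C/A/Λ} → K/K² → C ⊗_B Ω_{B/A} → Ω_{C/A} → 0 up to
its last two (conormal-sequence) terms. -/
theorem result {Λ : Type u} {A B : Type v} [CommRing Λ]
    [CommRing A] [CommRing B] [Algebra Λ A] [Algebra Λ B] [Algebra A B] [IsScalarTower Λ A B] (K : Ideal B)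
    (htriv : ((Exal.Ext.infinitesimal K).restrictBase A).IsTrivialOver Λ)
    (χ : ↥(EGA41.imperfection Λ A (B ⧸ K)) →ₗ[B ⧸ K] K.Cotangent)
    (hχ : ((Exal.Ext.infinitesimal K).restrictBase A).IsCharHom Λ χ) :
    (∀ z : ↥(EGA41.imperfection Λ A (B ⧸ K)),
        χ z = 0 ↔
          ((KaehlerDifferential.mapBaseChange Λ A B).baseChange (B ⧸ K))
              ((TensorProduct.AlgebraTensorModule.cancelBaseChange A B (B ⧸ K) (B ⧸ K) Ω[A⁄Λ]).symm
                (z : (B ⧸ K) ⊗[A] Ω[A⁄Λ])) = 0) ∧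
      ∀ (x : B) (hx : x ∈ K),
        K.toCotangent ⟨x, hx⟩ ∈ LinearMap.range χ ↔
          (1 : B ⧸ K) ⊗ₜ[B] KaehlerDifferential.D A B x = (0 : (B ⧸ K) ⊗[B] Ω[B⁄A]) := by
  classical
  have hinj := Groth.Agent.S5820.deltaL_injective (A := Λ)
    ((Exal.Ext.infinitesimal K).restrictBase A) htriv
  obtain ⟨ι, ρ, hρι, hbc, hdl⟩ := key_package (Λ := Λ) (A := A) K
  constructor
  · intro z
    change χ z = 0 ↔ jmap (Λ := Λ) K z.1 = 0
    constructor
    · intro hz
      have h1 := hχ z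
      rw [hz, map_zero, hbc] at h1
      have h2 := congrArg ρ h1
      rw [map_zero, hρι] at h2
      exact h2.symm
    · intro hz
      apply hinj
      rw [hχ z, hbc, hz, map_zero, map_zero]
  · intro x hx
    constructor
    · rintro ⟨z, hz⟩
      have h1 := hχ z
      rw [hz, hdl, hbc] at h1
      have h2 := congrArg ρ h1
      rw [hρι, hρι] at h2
      have h3 := congrArg (pimap (Λ := Λ) (A := A) K) h2
      rw [pimap_tmul_D, pimap_jmap] at h3
      exact h3
    · intro h0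
      have hy : pimap (Λ := Λ) (A := A) K ((1 : B ⧸ K) ⊗ₜ[B] KaehlerDifferential.D Λ B x) = 0 := by
        rw [pimap_tmul_D]; exact h0
      obtain ⟨w, hw⟩ := exists_jmap_eq K _ hy
      have hwmem : w ∈ EGA41.imperfection Λ A (B ⧸ K) := by
        change KaehlerDifferential.mapBaseChange Λ A (B ⧸ K) w = 0
        rw [← mapBaseChange_jmap, hw, KaehlerDifferential.mapBaseChange_tmul,
          KaehlerDifferential.map_D, Ideal.Quotient.algebraMap_eq,
          Ideal.Quotient.eq_zero_iff_mem.mpr hx, map_zero, smul_zero]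
      refine ⟨⟨w, hwmem⟩, ?_⟩
      apply hinj
      rw [hχ, hbc, hw, hdl]

end Groth.Agent.S5833
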