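import Groth.Statements.S0800
import Groth.Agent.Lib.Helper27.RpushColim
import Groth.Agent.Lib.Helper27.FiltCohTop
-- import your own Groth.Agent.* helpers here

set_option autoImplicit false
universe u
open Coherent

namespace Groth.Agent.S0800

open CategoryTheory CategoryTheory.Limits AlgebraicGeometry in
/-- Let f : X → S be quasi-compact and quasi-separated. Then for every p the higher direct image functor
R^p f_* on abelian sheaves (on the underlying spaces) preserves filtered colimits. -/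
theorem result {X S : Scheme.{u}} (f : X ⟶ S) [QuasiCompact f]
    [QuasiSeparated f] (p : ℕ) (J : Type u) [SmallCategory J] [IsFiltered J] :
    PreservesColimitsOfShape J (Coh.RpushAb f p) := by
  refine ⟨fun {F} => ?_⟩
  change PreservesColimit F (CohTop.Rpush f.base p)
  refine Groth.Agent.Lib.helper27.RpushColim.preservesColimit_Rpush
    (Opens.grothendieckTopology X) (Opens.grothendieckTopology S)
    (TopologicalSpace.Opens.map f.base) F p (fun V => ?_)
  -- cover `V` by affine opens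
  obtain ⟨Us, hUs, hV⟩ := (TopologicalSpace.Opens.isBasis_iff_cover.1 S.isBasis_affineOpens) V
  have hle : ∀ k : Us, k.1 ≤ V := fun k => hV ▸ le_sSup k.2
  refine ⟨Us, fun k => k.1, fun k => homOfLE (hle k), ?_, fun k => ?_⟩
  · intro x hx
    rw [hV] at hx
    obtain ⟨W, hW, hxW⟩ := TopologicalSpace.Opens.mem_sSup.1 hx
    exact ⟨W, homOfLE (hle ⟨W, hW⟩), Sieve.ofArrows_mk _ _ (⟨W, hW⟩ : Us), hxW⟩
  · have hW : IsAffineOpen k.1 := hUs k.2
    have hqs : IsQuasiSeparated ((f ⁻¹ᵁ k.1 : X.Opens) : Set X) :=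
      f.isQuasiSeparated_preimage hW.isQuasiSeparated
    have hqc : IsCompact ((f ⁻¹ᵁ k.1 : X.Opens) : Set X) := f.isCompact_preimage hW.isCompact
    refine Groth.Agent.Lib.helper27.FiltCoh.preservesColimit_H_top
      {W' : X.Opens | IsCompact (W' : Set X) ∧ W' ≤ f ⁻¹ᵁ k.1} (fun W' h => h.1)
      (fun W₁ h₁ W₂ h₂ => ⟨?_, inf_le_left.trans h₁.2⟩) (fun W' h' V' hV' x hx => ?_)
      (f ⁻¹ᵁ k.1) ⟨hqc, le_rfl⟩ p F
    · exact hqs _ _ h₁.2 W₁.isOpen h₁.1 h₂.2 W₂.isOpen h₂.1
    · obtain ⟨A, hA, hxA, hAV⟩ :=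
        (TopologicalSpace.Opens.isBasis_iff_nbhd.1 X.isBasis_affineOpens) hx
      exact ⟨A, ⟨IsAffineOpen.isCompact hA, hAV.trans (hV'.trans h'.2)⟩, hxA, hAV⟩

end Groth.Agent.S0800
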