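import Groth.Statements.S4787
import Groth.Agent.Lib.Helper9.LimProCons
import Groth.Agent.S15543

set_option autoImplicit false
universe u
open CategoryTheory AlgebraicGeometry
open Lim8

namespace Groth.Agent.S4787

/-- Let S = lim S_i be a cofiltered limit of schemes with affine transition maps, some stage S_{i₀}
being quasi-compact. For every index let E_i be a pro-constructible and F_i an ind-constructible
subset of S_i such that, for every transition map S_i ⟶ S_j, E_i lies in the preimage of E_j and F_i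
contains the preimage of F_j. Put E = ⋂ (preimage of E_i in S) and F = ⋃ (preimage of F_i in S).
Then E ⊆ F if and only if there is an index i over i₀ such that E_j ⊆ F_j for every j over i. -/
theorem result {I : Type u} [SmallCategory I] [IsCofiltered I]
    (D : I ⥤ Scheme.{u}) (c : Limits.Cone D) (hc : Limits.IsLimit c)
    [∀ (i j : I) (f : i ⟶ j), IsAffineHom (D.map f)] (i₀ : I)
    [CompactSpace (D.obj i₀)] (E F : ∀ i : I, Set (D.obj i))
    (hE : ∀ i, ProCons.IsProConstructible (E i)) (hF : ∀ i, ProCons.IsIndConstructible (F i))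
    (hEm : ∀ (i j : I) (φ : i ⟶ j), E i ⊆ ⇑(D.map φ) ⁻¹' E j)
    (hFm : ∀ (i j : I) (φ : i ⟶ j), ⇑(D.map φ) ⁻¹' F j ⊆ F i) :
    (⋂ i, ⇑(c.π.app i) ⁻¹' E i : Set c.pt) ⊆ (⋃ i, ⇑(c.π.app i) ⁻¹' F i : Set c.pt) ↔
      ∃ (i : I) (_ : i ⟶ i₀), ∀ (j : I) (_ : j ⟶ i), E j ⊆ F j := by
  classical
  constructor
  · intro hsub
    have : IsAffineHom (c.π.app i₀) := isAffineHom_π_app D c hc i₀
    have : CompactSpace c.pt := QuasiCompact.compactSpace_of_compactSpace (c.π.app i₀)
    -- a family of pro-constructible subsets of the limit with empty intersection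
    let Fam : I ⊕ I → Set c.pt := fun o =>
      match o with
      | .inl i => ⇑(c.π.app i) ⁻¹' E i
      | .inr i => (⇑(c.π.app i) ⁻¹' F i)ᶜ
    have hFam : ∀ o, ProCons.IsProConstructible (Fam o) := by
      intro o
      match o with
      | .inl i => exact Groth.Agent.S15542.result (c.π.app i) (E i) (hE i)
      | .inr i =>
        have := Groth.Agent.S15543.result (c.π.app i) (F i) (hF i)
        exact Groth.Agent.Lib.helper9.isIndConstructible_iff_compl.mp this
    have hInter : ⋂ o, Fam o ⊆ (∅ : Set c.pt) := by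
      intro s hs
      rw [Set.mem_iInter] at hs
      have h1 : s ∈ ⋂ i, ⇑(c.π.app i) ⁻¹' E i := Set.mem_iInter.mpr fun i => hs (.inl i)
      obtain ⟨i, hi⟩ := Set.mem_iUnion.mp (hsub h1)
      exact hs (.inr i) hi
    obtain ⟨J, hJ⟩ := Groth.Agent.S3439.result c.pt ∅
      (Groth.Agent.Lib.helper9.isIndConstructible_of_isOpen isOpen_empty) Fam hFam hInter
    -- a common index
    obtain ⟨k, hk⟩ := IsCofiltered.inf_objs_exists (insert i₀ (J.image (Sum.elim id id)))
    obtain ⟨ψ₀⟩ : Nonempty (k ⟶ i₀) := hk (Finset.mem_insert_self _ _)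
    have : CompactSpace (D.obj k) := QuasiCompact.compactSpace_of_compactSpace (D.map ψ₀)
    have hπ : ∀ (i : I) (φ : k ⟶ i) (s : c.pt), c.π.app i s = D.map φ (c.π.app k s) := by
      intro i φ s
      have h := Scheme.Hom.comp_apply (c.π.app k) (D.map φ) s
      rw [c.w] at h
      exact h
    have hempty : ⇑(c.π.app k) ⁻¹' (E k ∩ (F k)ᶜ) = ∅ := by
      rw [Set.eq_empty_iff_forall_notMem]
      intro (s : c.pt) hs
      obtain ⟨hsE, hsF⟩ := hs
      suffices hmem : s ∈ ⋂ o ∈ J, Fam o from hJ hmem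
      refine Set.mem_iInter₂.mpr fun o ho => ?_
      match o with
      | .inl i =>
        obtain ⟨φ⟩ : Nonempty (k ⟶ i) :=
          hk (Finset.mem_insert_of_mem (Finset.mem_image.mpr ⟨.inl i, ho, rfl⟩))
        show c.π.app i s ∈ E i
        rw [hπ i φ s]
        exact hEm k i φ hsE
      | .inr i =>
        obtain ⟨φ⟩ : Nonempty (k ⟶ i) :=
          hk (Finset.mem_insert_of_mem (Finset.mem_image.mpr ⟨.inr i, ho, rfl⟩))
        show c.π.app i s ∉ F i
        intro hcon
        apply hsF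
        apply hFm k i φ
        show D.map φ (c.π.app k s) ∈ F i
        rw [← hπ i φ s]
        exact hcon
    have hZ : ProCons.IsProConstructible (E k ∩ (F k)ᶜ) :=
      Groth.Agent.Lib.helper9.isProConstructible_inter (hE k)
        (Groth.Agent.Lib.helper9.isIndConstructible_iff_compl.mp (hF k))
    obtain ⟨l, ψ, hl⟩ :=
      Groth.Agent.Lib.helper9.exists_preimage_map_eq_empty D c hc k _ hZ hempty
    refine ⟨l, ψ ≫ ψ₀, fun j χ => ?_⟩
    intro x hxE
    by_contra hxF
    have h1 : D.map (χ ≫ ψ) x ∈ E k ∩ (F k)ᶜ :=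
      ⟨hEm j k (χ ≫ ψ) hxE, fun h => hxF (hFm j k (χ ≫ ψ) h)⟩
    have h2 : D.map χ x ∈ ⇑(D.map ψ) ⁻¹' (E k ∩ (F k)ᶜ) := by
      show D.map ψ (D.map χ x) ∈ E k ∩ (F k)ᶜ
      have h := Scheme.Hom.comp_apply (D.map χ) (D.map ψ) x
      rw [← D.map_comp] at h
      rw [← h]
      exact h1
    rw [hl] at h2
    exact h2
  · rintro ⟨i, _, h⟩ s hs
    rw [Set.mem_iInter] at hs
    exact Set.mem_iUnion.mpr ⟨i, h i (𝟙 i) (hs i)⟩

end Groth.Agent.S4787
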