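import Groth.Statements.S2079
-- import your own Groth.Agent.* helpers here
import Groth.Agent.Lib.Helper9.AbsApprox32
import Groth.Agent.Lib.Helper9.AbsApprox23

set_option autoImplicit false
universe u
open CategoryTheory AlgebraicGeometry
open Lim

namespace Groth.Agent.S2079

/-- Let `f : X → S` be proper with `S` quasi-compact and quasi-separated. Then `X` is the limit of a
cofiltered diagram of `S`-schemes which are proper and of finite presentation over `S`, with all
transition morphisms and all projections `X → X_i` closed immersions. -/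
theorem result {X S : Scheme.{u}} (f : X ⟶ S) [IsProper f] [CompactSpace S]
    [QuasiSeparatedSpace S] :
    ∃ (I : Type u) (_ : SmallCategory I) (_ : IsCofiltered I) (D : I ⥤ Over S) (c : Limits.Cone D)
      (_ : Limits.IsLimit c) (e : c.pt ≅ Over.mk f),
      (∀ (i j : I) (a : i ⟶ j), IsClosedImmersion (D.map a).left) ∧
      (∀ i, IsClosedImmersion (c.π.app i).left ∧ IsProper (D.obj i).hom ∧
        LocallyOfFinitePresentation (D.obj i).hom) := by
  obtain ⟨I, hI1, hI2, hI3, D, t, c, hc, e, h1, h2, h3, h4⟩ :=
    Groth.Agent.Lib.helper9.AbsApprox.exists_proper_approx f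
  have : IsConnected Iᵒᵖ := IsCofiltered.isConnected Iᵒᵖ
  refine ⟨Iᵒᵖ, inferInstance, inferInstance, Groth.Agent.Lib.helper9.AbsApprox.overFunctor D t,
    Groth.Agent.Lib.helper9.AbsApprox.overCone D t c (e.hom ≫ f) h1,
    Groth.Agent.Lib.helper9.AbsApprox.isLimitOverCone D t c hc (e.hom ≫ f) h1,
    Over.isoMk e (by simp [Groth.Agent.Lib.helper9.AbsApprox.overCone]), ?_, ?_⟩
  · intro i j a
    exact h3 i j a
  · intro i
    exact ⟨h4 i, (h2 i).1, (h2 i).2⟩

end Groth.Agent.S2079
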