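import Groth.Statements.S9216
-- import your own Groth.Agent.* helpers here
import Groth.Agent.Lib.Helper9.FibreDimLim3
import Groth.Agent.Lib.Helper9.AbsApprox28

set_option autoImplicit false
set_option linter.style.haveILetI false
universe u
open CategoryTheory CategoryTheory.Limits AlgebraicGeometry
open Lim

namespace Groth.Agent.S9216

/-- Let S be a quasi-compact quasi-separated scheme, f : X → S a morphism of finite presentation and d a
natural number. Let Z be a closed subscheme of X such that every fibre of Z → S has dimension at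
most d. Then there is a closed subscheme Z' of X containing Z such that Z' → X is of finite
presentation and every fibre of Z' → S has dimension at most d. -/
theorem result {X S Z : Scheme.{u}} [CompactSpace S]
    [QuasiSeparatedSpace S] (f : X ⟶ S) [LocallyOfFinitePresentation f] [QuasiCompact f] [QuasiSeparated f]
    (d : ℕ) (ι : Z ⟶ X) [IsClosedImmersion ι] (hZ : ∀ s : S, topologicalKrullDim ↥((ι ≫ f).fiber s) ≤ d) :
    ∃ (Z' : Scheme.{u}) (ι' : Z' ⟶ X) (k : Z ⟶ Z'), IsClosedImmersion ι' ∧ LocallyOfFinitePresentation ι' ∧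
      k ≫ ι' = ι ∧ ∀ s : S, topologicalKrullDim ↥((ι' ≫ f).fiber s) ≤ d := by
  haveI : CompactSpace X := QuasiCompact.compactSpace_of_compactSpace f
  haveI : QuasiSeparatedSpace X := quasiSeparatedSpace_of_quasiSeparated f
  obtain ⟨I, _, _, _, D, t, c, hc, e, hct, ht, hD, -⟩ :=
    Groth.Agent.Lib.helper9.AbsApprox.exists_closed_approx ι
  haveI : IsCofiltered Iᵒᵖ := inferInstance
  haveI : IsConnected Iᵒᵖ := IsCofiltered.isConnected Iᵒᵖ
  -- the transported cone with vertex `Z`
  let c' : Limits.Cone D :=
    { pt := Z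
      π :=
        { app := fun i => e.inv ≫ c.π.app i
          naturality := fun i j a => by
            simp only [Functor.const_obj_obj, Functor.const_obj_map, Category.id_comp,
              Category.assoc, Limits.Cone.w] } }
  have hc' : Limits.IsLimit c' :=
    Limits.IsLimit.ofIsoLimit hc (Limits.Cone.ext e (fun i => by simp [c']))
  let φ : D ⟶ (Functor.const Iᵒᵖ).obj S :=
    { app := fun i => t.app i ≫ f
      naturality := fun i j a => by
        have h1 := t.naturality a
        simp only [Functor.const_obj_obj, Functor.const_obj_map, Category.comp_id] at h1 ⊢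
        rw [← Category.assoc, h1] }
  haveI : ∀ i, LocallyOfFiniteType (φ.app i) := fun i => by
    haveI := (ht i).1
    haveI := (ht i).2
    show LocallyOfFiniteType (t.app i ≫ f)
    infer_instance
  haveI : ∀ i, QuasiCompact (φ.app i) := fun i => by
    haveI := (ht i).1
    show QuasiCompact (t.app i ≫ f)
    infer_instance
  haveI : ∀ (i j : Iᵒᵖ) (a : i ⟶ j), IsAffineHom (((Functor.const Iᵒᵖ).obj S).map a) :=
    fun i j a => by
      show IsAffineHom (𝟙 S)
      infer_instance
  haveI : ∀ i : Iᵒᵖ, CompactSpace (((Functor.const Iᵒᵖ).obj S).obj i) := fun i => by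
    show CompactSpace S
    infer_instance
  have hcl : ∀ (i j : Iᵒᵖ) (a : i ⟶ j),
      IsClosedImmersion (Limits.pullback.lift (D.map a) (φ.app i) (φ.naturality a)) := by
    intro i j a
    haveI : IsIso (((Functor.const Iᵒᵖ).obj S).map a) := by
      show IsIso (𝟙 S)
      infer_instance
    haveI : IsIso (Limits.pullback.fst (φ.app j) (((Functor.const Iᵒᵖ).obj S).map a)) :=
      (IsPullback.of_hasPullback (φ.app j)
        (((Functor.const Iᵒᵖ).obj S).map a)).isIso_fst_of_isIso
    have h1 : Limits.pullback.lift (D.map a) (φ.app i) (φ.naturality a) ≫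
        Limits.pullback.fst (φ.app j) (((Functor.const Iᵒᵖ).obj S).map a) = D.map a :=
      Limits.pullback.lift_fst _ _ _
    haveI : IsClosedImmersion (Limits.pullback.lift (D.map a) (φ.app i) (φ.naturality a) ≫
        Limits.pullback.fst (φ.app j) (((Functor.const Iᵒᵖ).obj S).map a)) := by
      rw [h1]
      exact hD i j a
    exact IsClosedImmersion.of_comp _
      (Limits.pullback.fst (φ.app j) (((Functor.const Iᵒᵖ).obj S).map a))
  have hf : ∀ i, (ι ≫ f) ≫ (Limits.constCone Iᵒᵖ S).π.app i = c'.π.app i ≫ φ.app i := by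
    intro i
    show (ι ≫ f) ≫ 𝟙 S = (e.inv ≫ c.π.app i) ≫ t.app i ≫ f
    rw [Category.comp_id, Category.assoc, ← Category.assoc (c.π.app i), hct, Category.assoc,
      Iso.inv_hom_id_assoc]
  obtain ⟨i, hi⟩ := Groth.Agent.Lib.helper9.FibreDimLim.exists_fibre_dim_le φ hc'
    (Limits.isLimitConstCone Iᵒᵖ S) hcl (ι ≫ f) hf d hZ
  refine ⟨D.obj i, t.app i, e.inv ≫ c.π.app i, (ht i).1, (ht i).2, ?_, hi⟩
  rw [Category.assoc, hct, Iso.inv_hom_id_assoc]

end Groth.Agent.S9216
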