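import Groth.Statements.S0393
import Mathlib
import Groth.Agent.Lib.Helper19.FlatIndep

set_option autoImplicit false
universe u
open FlatMor

namespace Groth.Agent.S0393

open TensorProduct IsLocalRing Groth.Agent.Lib.Helper19.FlatIndep

section Main
variable {R S M N : Type u} [CommRing R] [CommRing S] [IsLocalRing R] [IsLocalRing S]
    [IsNoetherianRing S] [Algebra R S] [IsLocalHom (algebraMap R S)]
    [AddCommGroup M] [Module R M] [Module.Flat R M]
    [AddCommGroup N] [Module R N] [Module S N] [IsScalarTower R S N] [Module.Finite S N]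
    (u : N →ₗ[R] M)

omit [Module.Flat R M] in
lemma indep_map
    (H : ∀ n, u n ∈ maximalIdeal R • (⊤ : Submodule R M) → n ∈ maximalIdeal R • (⊤ : Submodule R N))
    {r : ℕ} (y : Fin r → N) (hy : IndepMod R y) : IndepMod R (u ∘ y) := by
  intro c hc
  apply hy c
  apply H
  simpa [map_sum] using hc

omit [IsLocalRing R] [Module.Flat R M] in
lemma map_smul_top_le (I : Ideal R) {x : N} (hx : x ∈ I • (⊤ : Submodule R N)) :
    u x ∈ I • (⊤ : Submodule R M) := by
  have : Submodule.map u (I • (⊤ : Submodule R N)) ≤ I • (⊤ : Submodule R M) := by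
    rw [Submodule.map_smul'']
    exact Submodule.smul_mono le_rfl le_top
  exact this ⟨x, hx, rfl⟩

lemma step
    (H : ∀ n, u n ∈ maximalIdeal R • (⊤ : Submodule R M) → n ∈ maximalIdeal R • (⊤ : Submodule R N))
    (I : Ideal R) (n : N) (hn : u n ∈ I • (⊤ : Submodule R M)) :
    ∀ j : ℕ, n ∈ I • (⊤ : Submodule R N) ⊔ (maximalIdeal R) ^ j • (⊤ : Submodule R N) := by
  intro j
  induction j with
  | zero => simp
  | succ j ih =>
    obtain ⟨n', hn', n'', hn'', hnn⟩ := Submodule.mem_sup.mp ih
    obtain ⟨r, a, y, ha, hsum⟩ := exists_fin_rep _ n'' hn''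
    set K := I • (⊤ : Submodule R N) ⊔ (maximalIdeal R) ^ (j + 1) • (⊤ : Submodule R N) with hK
    obtain ⟨r', a', y', ha', hy', hx'⟩ := reduce K j le_sup_right r n a y ha (by
      rw [hsum, ← hnn, add_sub_cancel_right]
      exact (le_sup_left : _ ≤ K) hn')
    set J := I ⊔ (maximalIdeal R) ^ (j + 1) with hJ
    have hKJ : K = J • (⊤ : Submodule R N) := by rw [hK, hJ, Submodule.sup_smul]
    have hM : ∑ t, a' t • u (y' t) ∈ J • (⊤ : Submodule R M) := by
      have h1 : ∑ t, a' t • u (y' t) = u n - u (n - ∑ t, a' t • y' t) := by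
        simp [map_sub, map_sum]
      rw [h1]
      refine Submodule.sub_mem _ ?_ ?_
      · exact (Submodule.smul_mono_left le_sup_left) hn
      · exact map_smul_top_le u J (hKJ ▸ hx')
    have hq := key r' (u ∘ y') (fun t => Ideal.Quotient.mk J (a' t)) (indep_map u H y' hy')
      ((sum_mk_tmul_eq_zero_iff J a' (u ∘ y')).mpr hM)
    have haJ : ∀ t, a' t ∈ J := fun t => Ideal.Quotient.eq_zero_iff_mem.mp (hq t)
    have h2 : ∑ t, a' t • y' t ∈ K := by
      rw [hKJ]
      exact Submodule.sum_mem _ fun t _ => Submodule.smul_mem_smul (haJ t) trivial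
    have : n = (n - ∑ t, a' t • y' t) + ∑ t, a' t • y' t := by abel
    rw [this]
    exact K.add_mem hx' h2

omit [IsLocalRing R] [IsLocalHom (algebraMap R S)] [IsLocalRing S] [IsNoetherianRing S]
  [Module.Finite S N] in
lemma smul_top_coe (I : Ideal R) (x : N) :
    x ∈ I • (⊤ : Submodule R N) ↔ x ∈ (I.map (algebraMap R S)) • (⊤ : Submodule S N) := by
  have := Ideal.smul_restrictScalars (R := R) (S := S) (M := N) I (⊤ : Submodule S N)
  rw [Submodule.restrictScalars_top] at this
  rw [← this, Submodule.restrictScalars_mem]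

include S in
lemma krull (I : Ideal R) (hI : I ≠ ⊤) (n : N)
    (hn : ∀ j : ℕ, n ∈ I • (⊤ : Submodule R N) ⊔ (maximalIdeal R) ^ j • (⊤ : Submodule R N)) :
    n ∈ I • (⊤ : Submodule R N) := by
  rw [smul_top_coe (S := S)]
  set KS : Submodule S N := (I.map (algebraMap R S)) • (⊤ : Submodule S N) with hKS
  have hloc : IsLocalHom (algebraMap R S) := inferInstance
  have hmS : (maximalIdeal R).map (algebraMap R S) ≤ maximalIdeal S :=
    ((IsLocalRing.local_hom_TFAE (algebraMap R S)).out 0 2).mp hloc
  have hkrull := Ideal.iInf_pow_smul_eq_bot_of_isLocalRing (R := S) (M := N ⧸ KS)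
    (maximalIdeal S) (maximalIdeal.isMaximal S).ne_top
  have hmem : KS.mkQ n ∈ (⨅ i : ℕ, (maximalIdeal S) ^ i • ⊤ : Submodule S (N ⧸ KS)) := by
    rw [Submodule.mem_iInf]
    intro j
    obtain ⟨n', hn', n'', hn'', hnn⟩ := Submodule.mem_sup.mp (hn j)
    rw [smul_top_coe (S := S)] at hn' hn''
    have h0 : KS.mkQ n' = 0 := (Submodule.Quotient.mk_eq_zero KS).mpr hn'
    have h1 : KS.mkQ n = KS.mkQ n'' := by
      rw [← hnn, map_add, h0, zero_add]
    rw [h1]
    have h2 : n'' ∈ (maximalIdeal S) ^ j • (⊤ : Submodule S N) := by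
      refine (Submodule.smul_mono_left ?_) hn''
      rw [Ideal.map_pow]
      exact Ideal.pow_right_mono hmS j
    have h3 : Submodule.map KS.mkQ ((maximalIdeal S) ^ j • (⊤ : Submodule S N)) ≤
        (maximalIdeal S) ^ j • ⊤ := by
      rw [Submodule.map_smul'']
      exact Submodule.smul_mono le_rfl le_top
    exact h3 ⟨n'', h2, rfl⟩
  rw [hkrull, Submodule.mem_bot] at hmem
  exact (Submodule.Quotient.mk_eq_zero KS).mp hmem

include S in
theorem main (h : Function.Injective (LinearMap.lTensor (IsLocalRing.ResidueField R) u)) :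
    Function.Injective u ∧ Module.Flat R (M ⧸ LinearMap.range u) := by
  have H := P_of_inj u (maximalIdeal R) h
  have P : ∀ I : Ideal R, ∀ n, u n ∈ I • (⊤ : Submodule R M) → n ∈ I • (⊤ : Submodule R N) := by
    intro I n hn
    by_cases hI : I = ⊤
    · subst hI; simp
    · exact krull (S := S) I hI n (step u H I n hn)
  have hinj : Function.Injective u := by
    rw [injective_iff_map_eq_zero]
    intro n hn
    have := P ⊥ n (by rw [hn]; exact Submodule.zero_mem _)
    simpa using this
  refine ⟨hinj, ?_⟩
  rw [Module.Flat.iff_lTensor_injective']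
  intro I
  refine lTensor_injective_of_exact_of_exact_of_rTensor_injective
    (f₁ := u) (f₂ := (LinearMap.range u).mkQ) (g₁ := I.subtype) (g₂ := Submodule.mkQ I)
    (LinearMap.exact_map_mkQ_range u) (Submodule.mkQ_surjective _)
    (LinearMap.exact_subtype_mkQ I) (Submodule.mkQ_surjective _) ?_ ?_
  · exact (LinearMap.lTensor_inj_iff_rTensor_inj _ _).mp (inj_of_P u I (P I))
  · exact Module.Flat.lTensor_preserves_injective_linearMap _ Subtype.val_injective

end Main


open TensorProduct in
/-- For a local homomorphism of local rings R → S with S Noetherian, an R-linear map u from a finite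
S-module N to a flat R-module M whose reduction modulo the maximal ideal of R is injective is itself
injective, and its cokernel is flat over R. -/
theorem result {R S M N : Type u} [CommRing R] [CommRing S] [IsLocalRing R] [IsLocalRing S] [IsNoetherianRing S] [Algebra R S] [IsLocalHom (algebraMap R S)]
    [AddCommGroup M] [Module R M] [Module.Flat R M]
    [AddCommGroup N] [Module R N] [Module S N] [IsScalarTower R S N] [Module.Finite S N]
    (u : N →ₗ[R] M) (h : Function.Injective (LinearMap.lTensor (IsLocalRing.ResidueField R) u)) :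
    Function.Injective u ∧ Module.Flat R (M ⧸ LinearMap.range u) := by
    exact main (S := S) u h

end Groth.Agent.S0393
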