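import Groth.Statements.S3401
import Groth.Agent.Lib.Helper9.ProConsScheme
import Groth.Agent.Lib.Helper9.ConsNhd
import Groth.Agent.Lib.Helper9.NoethInd

set_option autoImplicit false
open CategoryTheory AlgebraicGeometry
universe u
open EGA41

namespace Groth.Agent.S3401

/-- Let X be a scheme and E a subset of X. If E is ind-constructible then for every point x of E the set
E ∩ cl{x} is a neighbourhood of x in cl{x}; when X is locally Noetherian the converse holds. (As
published, the necessity clause quantifies over all points x of X; for x outside E the condition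
cannot hold, and the argument uses x ∈ E, so it is stated here for x ∈ E.) Stated as an equivalence
for X locally Noetherian. -/
theorem result (X : Scheme.{u}) [IsLocallyNoetherian X]
    (E : Set X) :
    ProCons.IsIndConstructible E ↔
      ∀ x ∈ E, (Subtype.val ⁻¹' E : Set ↥(closure ({x} : Set X))) ∈ nhds (⟨x, subset_closure rfl⟩ : ↥(closure ({x} : Set X))) := by
  constructor
  · intro hE x hxE
    obtain ⟨_, ⟨V, hV, rfl⟩, hxV, -⟩ :=
      X.isBasis_affineOpens.exists_subset_of_mem_open (Set.mem_univ x) isOpen_univ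
    have hV' : IsAffineOpen V := hV
    have hVs : Groth.Agent.Lib.helper9.IsSpectralOpen (V : Set X) :=
      ⟨V.2, hV'.isCompact, hV'.isQuasiSeparated⟩
    have hO := Groth.Agent.Lib.helper9.consOpenOn_of_isIndConstructible hE hVs
    obtain ⟨W, hWo, hxW, hWsub⟩ := Groth.Agent.Lib.helper9.exists_isOpen_inter_closure_subset hO
      (ξ := (⟨x, hxV⟩ : ↥(V : Set X))) hxE
    have hW'o : IsOpen (Subtype.val '' W : Set X) :=
      V.2.isOpenEmbedding_subtypeVal.isOpenMap _ hWo
    have hmem : (Subtype.val ⁻¹' (Subtype.val '' W : Set X) : Set ↥(closure ({x} : Set X))) ∈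
        nhds (⟨x, subset_closure rfl⟩ : ↥(closure ({x} : Set X))) :=
      (hW'o.preimage continuous_subtype_val).mem_nhds ⟨⟨x, hxV⟩, hxW, rfl⟩
    refine Filter.mem_of_superset hmem ?_
    rintro y ⟨w, hw, hwy⟩
    have hwcl : w ∈ closure ({⟨x, hxV⟩} : Set ↥(V : Set X)) := by
      rw [closure_subtype, Set.image_singleton, hwy]
      exact y.2
    have := hWsub ⟨hw, hwcl⟩
    show y.1 ∈ E
    rw [← hwy]
    exact this
  · intro H x₁
    obtain ⟨_, ⟨V, hV, rfl⟩, hx₁V, -⟩ :=
      X.isBasis_affineOpens.exists_subset_of_mem_open (Set.mem_univ x₁) isOpen_univ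
    have hV' : IsAffineOpen V := hV
    haveI : IsNoetherianRing Γ(X, V) := IsLocallyNoetherian.component_noetherian ⟨V, hV'⟩
    haveI : TopologicalSpace.NoetherianSpace ↥(V : Set X) :=
      noetherianSpace_of_isAffineOpen V hV'
    refine ⟨V, V.2, hx₁V, {T | Topology.IsLocallyConstructible T ∧
      T ⊆ (Subtype.val ⁻¹' E : Set ↥(V : Set X))}, fun T hT => hT.1, ?_⟩
    apply subset_antisymm
    · intro v hv
      have hvE : v.1 ∈ E := hv
      have hn := H v.1 hvE
      obtain ⟨N, hNsub, hNo, hvN⟩ := mem_nhds_iff.mp hn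
      obtain ⟨U, hU, rfl⟩ := isOpen_induced_iff.mp hNo
      have hUsub : U ∩ closure ({v.1} : Set X) ⊆ E := by
        rintro z ⟨hzU, hzcl⟩
        exact hNsub (show (⟨z, hzcl⟩ : ↥(closure ({v.1} : Set X))) ∈ Subtype.val ⁻¹' U from hzU)
      refine Set.mem_sUnion.mpr ⟨Subtype.val ⁻¹' (U ∩ closure ({v.1} : Set X)), ⟨?_, ?_⟩, ?_⟩
      · refine (Groth.Agent.Lib.helper9.isConstructible_of_isLocallyClosed ?_).isLocallyConstructible
        exact (hU.isLocallyClosed.inter isClosed_closure.isLocallyClosed).preimage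
          continuous_subtype_val
      · exact Set.preimage_mono hUsub
      · exact ⟨hvN, subset_closure rfl⟩
    · exact Set.sUnion_subset fun T hT => hT.2

end Groth.Agent.S3401
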