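import Groth.Statements.S3402
import Groth.Agent.Lib.Helper9.ProConsScheme

set_option autoImplicit false
open CategoryTheory AlgebraicGeometry
universe u
open EGA41

namespace Groth.Agent.S3402

/-- A subset E of a scheme X is locally constructible if and only if it is both ind-constructible and
pro-constructible. -/
theorem result (X : Scheme.{u}) (E : Set X) :
    Topology.IsLocallyConstructible E ↔ ProCons.IsIndConstructible E ∧ ProCons.IsProConstructible E := by
  constructor
  · intro hE
    have hloc : Topology.IsLocallyConstructible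
        ((Subtype.val : ↥(Set.univ : Set X) → X) ⁻¹' E) :=
      hE.preimage_of_isOpenEmbedding isOpen_univ.isOpenEmbedding_subtypeVal
    refine ⟨fun x => ⟨Set.univ, isOpen_univ, Set.mem_univ x, {Subtype.val ⁻¹' E}, ?_, ?_⟩,
      fun x => ⟨Set.univ, isOpen_univ, Set.mem_univ x, {Subtype.val ⁻¹' E}, ?_, ?_⟩⟩
    · intro T hT
      rw [Set.mem_singleton_iff.mp hT]
      exact hloc
    · rw [Set.sUnion_singleton]
    · intro T hT
      rw [Set.mem_singleton_iff.mp hT]
      exact hloc
    · rw [Set.sInter_singleton]
  · rintro ⟨hind, hpro⟩ x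
    obtain ⟨V, hV, hxV, -⟩ := Groth.Agent.Lib.helper9.LocallySpectral.basis x Set.univ
      isOpen_univ (Set.mem_univ x)
    haveI := hV.spectralSpace
    have h1 := Groth.Agent.Lib.helper9.consClosedOn_of_isProConstructible hpro hV
    have h2 := Groth.Agent.Lib.helper9.consOpenOn_of_isIndConstructible hind hV
    exact ⟨V, hV.1.mem_nhds hxV, hV.1,
      Groth.Agent.Lib.helper9.isConstructible_of_isClopen_constructibleTopology ⟨h1, h2⟩⟩

end Groth.Agent.S3402
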