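import Groth.Statements.S1680
import Mathlib
import Groth.Agent.S10855

set_option autoImplicit false
universe u
open CategoryTheory CategoryTheory.Limits AlgebraicGeometry TopologicalSpace
open SDiv

namespace Groth.Agent.S1680


theorem main {X₁ X₂ X₂' : Scheme.{u}} (g : X₁ ⟶ X₂) [Flat g] (𝓘 : X₂.IdealSheafData) (b : X₂' ⟶ X₂)
    (hb : BlowUp.IsBlowUp b 𝓘) : BlowUp.IsBlowUp (pullback.fst g b) (𝓘.comap g) := by
  refine ⟨?_, ?_⟩
  · rw [← Scheme.IdealSheafData.comap_comp, pullback.condition, Scheme.IdealSheafData.comap_comp]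
    exact Groth.Agent.S10855.result (pullback.snd g b) _ hb.1
  · intro Y g' hg'
    rw [← Scheme.IdealSheafData.comap_comp] at hg'
    obtain ⟨h, hh, huniq⟩ := hb.2 Y (g' ≫ g) hg'
    refine ⟨pullback.lift g' h hh.symm, pullback.lift_fst _ _ _, ?_⟩
    intro k hk
    apply pullback.hom_ext
    · rw [pullback.lift_fst]; exact hk
    · rw [pullback.lift_snd]
      apply huniq
      show (k ≫ pullback.snd g b) ≫ b = g' ≫ g
      rw [Category.assoc, ← pullback.condition, ← Category.assoc]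
      congr 1


/-- Let g : X₁ ⟶ X₂ be a flat morphism, 𝓘 a quasi-coherent ideal sheaf on X₂ and b : X₂' ⟶ X₂ a
blowing-up of X₂ along 𝓘. Then the base change X₁ ×_{X₂} X₂' ⟶ X₁ is a blowing-up of X₁ along the
inverse image ideal of 𝓘. -/
theorem result {X₁ X₂ X₂' : Scheme.{u}} (g : X₁ ⟶ X₂) [Flat g] (𝓘 : X₂.IdealSheafData) (b : X₂' ⟶ X₂)
    (hb : BlowUp.IsBlowUp b 𝓘) : BlowUp.IsBlowUp (pullback.fst g b) (𝓘.comap g) := by
  exact main g 𝓘 b hb

end Groth.Agent.S1680
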