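import Groth.Statements.S17083
import Mathlib
import Groth.Agent.S1683

set_option autoImplicit false
universe u
open CategoryTheory CategoryTheory.Limits AlgebraicGeometry
open MorSch

namespace Groth.Agent.S17083

section helpers
open CategoryTheory CategoryTheory.Limits AlgebraicGeometry


theorem inf_eq_mul_of_sup_eq_top {X : Scheme.{u}} (I₁ I₂ : X.IdealSheafData) (h : I₁ ⊔ I₂ = ⊤) :
    I₁ ⊓ I₂ = I₁ * I₂ := by
  ext U : 2
  rw [Scheme.IdealSheafData.ideal_inf, Scheme.IdealSheafData.ideal_mul, Pi.inf_apply, Pi.mul_apply]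
  symm
  apply Ideal.mul_eq_inf_of_isCoprime
  rw [Ideal.isCoprime_iff_sup_eq]
  have := congrArg (fun J : X.IdealSheafData => J.ideal U) h
  simpa using this

/-- effective Cartier is local on an open cover -/
theorem isEffCartierIdeal_of_cover {X : Scheme.{u}} (𝓘 : X.IdealSheafData) {ι : Type*}
    (𝒰 : ι → X.Opens) (hcov : ∀ x : X, ∃ i, x ∈ 𝒰 i)
    (h : ∀ i, BlowUp.IsEffCartierIdeal (𝓘.comap (𝒰 i).ι)) : BlowUp.IsEffCartierIdeal 𝓘 := by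
  intro x
  obtain ⟨i, hxi⟩ := hcov x
  obtain ⟨W, hxW, f, hf, hI⟩ := h i ⟨x, hxi⟩
  have e := Scheme.IdealSheafData.ideal_comap_of_isOpenImmersion 𝓘 (𝒰 i).ι W
  simp only [Scheme.Opens.ι_appIso, Iso.refl_inv] at e
  erw [Ideal.comap_id] at e
  refine ⟨⟨(𝒰 i).ι ''ᵁ W.1, W.2.image_of_isOpenImmersion (𝒰 i).ι⟩, ⟨⟨x, hxi⟩, hxW, rfl⟩, f, hf, ?_⟩
  rw [← e]
  exact hI

/-- base change of a morphism which is an isomorphism over an open -/
theorem isIso_morphismRestrict_snd {P A B X : Scheme.{u}} {fst : P ⟶ A} {snd : P ⟶ B} {f : A ⟶ X}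
    {g : B ⟶ X} (sq : IsPullback fst snd f g) (U : X.Opens) [IsIso (f ∣_ U)] :
    IsIso (snd ∣_ (g ⁻¹ᵁ U)) := by
  set W : B.Opens := g ⁻¹ᵁ U with hW
  have t : IsPullback (f ⁻¹ᵁ U).ι (f ∣_ U) f U.ι := (isPullback_morphismRestrict f U).flip
  have l : IsPullback (snd ⁻¹ᵁ W).ι (snd ∣_ W) snd W.ι := (isPullback_morphismRestrict snd W).flip
  have s := l.paste_horiz sq
  have e : W.ι ≫ g = (g ∣_ U) ≫ U.ι := (morphismRestrict_ι g U).symm
  rw [e] at s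
  have := IsPullback.of_right' s t
  exact this.isIso_snd_of_isIso


/-- Sub-claim: if `I₁ ⊔ I₂ = ⊤`, the base change of the blowup of `I₂` along the blowup of `I₁`
is a blowup of the inverse image of `I₂`. -/
theorem isBlowUp_fst {X B₁ B₂ : Scheme.{u}} (I₁ I₂ : X.IdealSheafData) (hdisj : I₁ ⊔ I₂ = ⊤)
    (σ₁ : B₁ ⟶ X) (hσ₁ : BlowUp.IsBlowUp σ₁ I₁) (σ₂ : B₂ ⟶ X) (hσ₂ : BlowUp.IsBlowUp σ₂ I₂) :
    BlowUp.IsBlowUp (pullback.fst σ₁ σ₂) (I₂.comap σ₁) := by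
  refine ⟨?_, ?_⟩
  · rw [← Scheme.IdealSheafData.comap_comp, pullback.condition, Scheme.IdealSheafData.comap_comp]
    set E₂ := I₂.comap σ₂ with hE₂
    set snd := pullback.snd σ₁ σ₂ with hsnd
    set X₁ : X.Opens := I₁.support.compl with hX₁
    set X₂ : X.Opens := I₂.support.compl with hX₂
    haveI : IsIso (σ₁ ∣_ X₁) := Groth.Agent.S1682.isIso_off_center I₁ σ₁ hσ₁
    have hcovX : ∀ x : X, x ∈ X₁ ∨ x ∈ X₂ := by
      intro x
      by_contra hcon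
      simp only [not_or] at hcon
      have h1 : x ∈ I₁.support := by by_contra h; exact hcon.1 h
      have h2 : x ∈ I₂.support := by by_contra h; exact hcon.2 h
      have h3 : x ∈ (I₁ ⊔ I₂).support := by
        rw [Scheme.IdealSheafData.support_sup]
        exact ⟨h1, h2⟩
      rw [hdisj, Scheme.IdealSheafData.support_top] at h3
      exact h3
    let 𝒰 : Bool → (pullback σ₁ σ₂).Opens := fun b =>
      if b then snd ⁻¹ᵁ (σ₂ ⁻¹ᵁ X₁) else snd ⁻¹ᵁ (σ₂ ⁻¹ᵁ X₂)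
    apply isEffCartierIdeal_of_cover _ 𝒰
    · intro p
      rcases hcovX (σ₂ (snd p)) with h | h
      · exact ⟨true, h⟩
      · exact ⟨false, h⟩
    · rintro (_ | _)
      · -- over X₂ the ideal E₂ is trivial
        show BlowUp.IsEffCartierIdeal ((E₂.comap snd).comap (snd ⁻¹ᵁ (σ₂ ⁻¹ᵁ X₂)).ι)
        rw [← Scheme.IdealSheafData.comap_comp, hE₂, ← Scheme.IdealSheafData.comap_comp]
        rw [Groth.Agent.S1682.comap_eq_top_of_disjoint]
        · exact Groth.Agent.S1682.isEffCartierIdeal_top _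
        · intro y
          exact y.2
      · -- over X₁ the projection is an isomorphism
        show BlowUp.IsEffCartierIdeal ((E₂.comap snd).comap (snd ⁻¹ᵁ (σ₂ ⁻¹ᵁ X₁)).ι)
        haveI : IsIso (snd ∣_ (σ₂ ⁻¹ᵁ X₁)) :=
          isIso_morphismRestrict_snd (IsPullback.of_hasPullback σ₁ σ₂) X₁
        rw [← Scheme.IdealSheafData.comap_comp, ← morphismRestrict_ι]
        haveI : Flat ((snd ∣_ (σ₂ ⁻¹ᵁ X₁)) ≫ (σ₂ ⁻¹ᵁ X₁).ι) := inferInstance
        exact Groth.Agent.S10855.result _ _ hσ₂.1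
  · intro Y g hg
    rw [← Scheme.IdealSheafData.comap_comp] at hg
    obtain ⟨h, hh, huniq⟩ := hσ₂.2 Y (g ≫ σ₁) hg
    refine ⟨pullback.lift g h hh.symm, pullback.lift_fst _ _ _, ?_⟩
    intro k hk
    apply pullback.hom_ext
    · rw [pullback.lift_fst]; exact hk
    · rw [pullback.lift_snd]
      apply huniq
      show (k ≫ pullback.snd σ₁ σ₂) ≫ σ₂ = g ≫ σ₁
      rw [Category.assoc, ← pullback.condition, ← Category.assoc]
      congr 1


theorem isIso_of_isBlowUp {X B B' : Scheme.{u}} (𝓘 : X.IdealSheafData) (b : B ⟶ X) (b' : B' ⟶ X)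
    (hb : BlowUp.IsBlowUp b 𝓘) (hb' : BlowUp.IsBlowUp b' 𝓘) (φ : B ⟶ B') (hφ : φ ≫ b' = b) :
    IsIso φ := by
  obtain ⟨ψ, hψ, -⟩ := hb.2 B' b' hb'.1
  obtain ⟨i, -, hi⟩ := hb.2 B b hb.1
  obtain ⟨i', -, hi'⟩ := hb'.2 B' b' hb'.1
  refine ⟨ψ, ?_, ?_⟩
  · rw [hi (φ ≫ ψ) (by show (φ ≫ ψ) ≫ b = b; rw [Category.assoc, hψ, hφ]),
      hi (𝟙 B) (Category.id_comp b)]
  · rw [hi' (ψ ≫ φ) (by show (ψ ≫ φ) ≫ b' = b'; rw [Category.assoc, hφ, hψ]),
      hi' (𝟙 B') (Category.id_comp b')]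

theorem main
    {X B B₁ B₂ : Scheme.{u}} (I₁ I₂ : X.IdealSheafData) (hdisj : I₁ ⊔ I₂ = ⊤)
    (σ : B ⟶ X) (hσ : BlowUp.IsBlowUp σ (I₁ ⊓ I₂))
    (σ₁ : B₁ ⟶ X) (hσ₁ : BlowUp.IsBlowUp σ₁ I₁) (σ₂ : B₂ ⟶ X) (hσ₂ : BlowUp.IsBlowUp σ₂ I₂) :
    ∃ ι : B ⟶ pullback σ₁ σ₂, IsClosedImmersion ι ∧ ι ≫ pullback.fst σ₁ σ₂ ≫ σ₁ = σ := by
  rw [inf_eq_mul_of_sup_eq_top I₁ I₂ hdisj] at hσ
  have hprod := hσ.1
  rw [Groth.Agent.Lib.helper6.comap_mul] at hprod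
  obtain ⟨h1, h2⟩ := Groth.Agent.S8852.result _ _ hprod
  obtain ⟨φ₁, hφ₁, -⟩ := hσ₁.2 B σ h1
  obtain ⟨φ₂, hφ₂, -⟩ := hσ₂.2 B σ h2
  have hφ₁' : φ₁ ≫ σ₁ = σ := hφ₁
  have hφ₂' : φ₂ ≫ σ₂ = σ := hφ₂
  let ι : B ⟶ pullback σ₁ σ₂ := pullback.lift φ₁ φ₂ (by rw [hφ₁', hφ₂'])
  have hι : ι ≫ pullback.fst σ₁ σ₂ ≫ σ₁ = σ := by
    rw [← Category.assoc, pullback.lift_fst, hφ₁']
  have hP : BlowUp.IsBlowUp (pullback.fst σ₁ σ₂ ≫ σ₁) (I₁ * I₂) :=
    Groth.Agent.S1683.main I₁ I₂ σ₁ hσ₁ (pullback.fst σ₁ σ₂) (isBlowUp_fst I₁ I₂ hdisj σ₁ hσ₁ σ₂ hσ₂)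
  haveI : IsIso ι := isIso_of_isBlowUp (I₁ * I₂) σ (pullback.fst σ₁ σ₂ ≫ σ₁) hσ hP ι hι
  exact ⟨ι, inferInstance, hι⟩


end helpers


/-- The closed immersion constructed in its proof, as follows. Let X be a scheme, I₁ and I₂
quasi-coherent ideal sheaves on X with I₁ + I₂ = O_X, so that they cut out disjoint closed
subschemes Z₁ and Z₂, let σ : B → X be a blow-up of X in the ideal I₁ ∩ I₂ of Z₁ ∪ Z₂, and let σ₁ :
B₁ → X and σ₂ : B₂ → X be blow-ups of X in Z₁ and in Z₂ (blow-up in the sense of the universal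
property: the inverse image ideal is effective Cartier, finally so). Then there is a morphism ι : B
→ B₁ ×_X B₂ over X which is a closed immersion; the components B → B_i are necessarily the unique
X-morphisms given by the universal properties. (Published for X a projective space over an
algebraically closed field, Z₂ a closed point and Z₁ a finite set of closed points not containing
it, and iterated there to embed the blow-up at r distinct points as a closed subscheme of the fibre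
product over X of the r blow-ups at single points.) -/
theorem result
    {X B B₁ B₂ : Scheme.{u}} (I₁ I₂ : X.IdealSheafData) (hdisj : I₁ ⊔ I₂ = ⊤)
    (σ : B ⟶ X) (hσ : BlowUp.IsBlowUp σ (I₁ ⊓ I₂))
    (σ₁ : B₁ ⟶ X) (hσ₁ : BlowUp.IsBlowUp σ₁ I₁) (σ₂ : B₂ ⟶ X) (hσ₂ : BlowUp.IsBlowUp σ₂ I₂) :
    ∃ ι : B ⟶ pullback σ₁ σ₂, IsClosedImmersion ι ∧ ι ≫ pullback.fst σ₁ σ₂ ≫ σ₁ = σ := by
  exact main I₁ I₂ hdisj σ hσ σ₁ hσ₁ σ₂ hσ₂

end Groth.Agent.S17083
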