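import Groth.Statements.S16001
import Groth.Agent.S3177
import Mathlib.RingTheory.Etale.Basic

set_option autoImplicit false
universe u
open FrobAlg

namespace Groth.Agent.S16001

open Groth.Agent.S3191 Groth.Agent.S3177

section tw
variable (p : ℕ) [Fact p.Prime] (A : Type u) [CommRing A] [CharP A p]
  (C : Type u) [CommRing C] [Algebra A C]

omit [CharP A p] in
theorem natCast_p_eq_zero [CharP A p] : ((p : ℕ) : C) = 0 := by
  have h1 : ((p : ℕ) : C) = algebraMap A C ((p : ℕ) : A) := (map_natCast _ p).symm
  rw [h1, CharP.cast_eq_zero, map_zero]

/-- the `p`-th power map of an `A`-algebra (`A` of characteristic `p`) as a ring homomorphism. -/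
def frobC : C →+* C where
  toFun c := c ^ p
  map_one' := one_pow p
  map_mul' x y := mul_pow x y p
  map_zero' := zero_pow (Fact.out : p.Prime).ne_zero
  map_add' x y := by
    obtain ⟨r, hr⟩ := exists_add_pow_prime_eq (Fact.out : p.Prime) x y
    rw [hr, natCast_p_eq_zero p A C]
    ring

theorem frobC_apply (c : C) : frobC p A C c = c ^ p := rfl

/-- a copy of `C` with the `A`-algebra structure `a ↦ (algebraMap a)^p`. -/
@[nolint unusedArguments]
def Tw (_p : ℕ) (_A : Type u) (C : Type u) : Type u := C

instance : CommRing (Tw p A C) := inferInstanceAs (CommRing C)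

instance : Algebra A (Tw p A C) := ((frobC p A C).comp (algebraMap A C)).toAlgebra

theorem algebraMap_tw (a : A) : (algebraMap A (Tw p A C) a : C) = (algebraMap A C a) ^ p := rfl

end tw


/-- Let A be a commutative ring of prime characteristic p and B a commutative A-algebra of
characteristic p such that the relative Frobenius B ⊗_{A,Frob} A → B, b ⊗ a ↦ b^p a, is bijective
(that is, Spec B → Spec A is relatively perfect; no finiteness condition is imposed). Then B is
formally étale over A. (The source proves that every perfect algebraic stack over an algebraic space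
of characteristic p is formally étale over it; this is the case of an affine scheme over an affine
base.) -/
theorem result (p : ℕ) [Fact p.Prime] (A : Type u) [CommRing A] [CharP A p]
    (B : Type u) [CommRing B] [Algebra A B] [CharP B p]
    (h : Function.Bijective (FrobAlg.relFrob p A B)) : Algebra.FormallyEtale A B := by
  -- formally unramified: by S3177 and surjectivity of the relative Frobenius
  have hunr : Algebra.FormallyUnramified A B := by
    rw [Groth.Agent.S3177.result p A B]
    letI algBCB : Algebra (FrobAlg.BaseChange p A B) B := (FrobAlg.relFrob p A B).toAlgebra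
    exact Algebra.FormallyUnramified.of_surjective (Algebra.ofId (FrobAlg.BaseChange p A B) B) h.2
  have hsm : Algebra.FormallySmooth A B := by
    apply Algebra.FormallySmooth.of_comp_surjective
    intro C _ _ I hI g
    have hIp : ∀ a ∈ I, frobC p A C a = 0 := by
      intro ε hε
      have h2 : ε ^ 2 = 0 := by
        have : ε ^ 2 ∈ I ^ 2 := Ideal.pow_mem_pow hε 2
        rw [hI] at this
        exact this
      obtain ⟨k, hk⟩ := Nat.exists_eq_add_of_le (Fact.out : p.Prime).two_le
      rw [frobC_apply, hk, pow_add, h2, zero_mul]
    let ψ : C ⧸ I →+* C := Ideal.Quotient.lift I (frobC p A C) hIp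
    have hψ : ∀ c : C, ψ (Ideal.Quotient.mk I c) = c ^ p := fun c => rfl
    have hψmk : ∀ q : C ⧸ I, Ideal.Quotient.mk I (ψ q) = q ^ p := by
      intro q
      obtain ⟨c, rfl⟩ := Ideal.Quotient.mk_surjective q
      rw [hψ, map_pow]
    let gB : B →ₐ[A] Tw p A C :=
      { toFun := fun b => ψ (g b)
        map_one' := by rw [map_one, map_one]; rfl
        map_mul' := fun x y => by rw [map_mul, map_mul]; rfl
        map_zero' := by rw [map_zero, map_zero]; rfl
        map_add' := fun x y => by rw [map_add, map_add]; rfl
        commutes' := fun a => by
          rw [AlgHom.commutes]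
          change ψ (Ideal.Quotient.mk I (algebraMap A C a)) = _
          rw [hψ]; rfl }
    let gT : FrobAlg.Twist p A →ₐ[A] Tw p A C :=
      { toFun := fun t => algebraMap A C ((FrobAlg.toTwist p A).symm t)
        map_one' := by rw [map_one, map_one]; rfl
        map_mul' := fun x y => by rw [map_mul, map_mul]; rfl
        map_zero' := by rw [map_zero, map_zero]; rfl
        map_add' := fun x y => by rw [map_add, map_add]; rfl
        commutes' := fun a => by
          rw [FrobAlg.algebraMap_twist, RingEquiv.symm_apply_apply, map_pow]; rfl }
    let L : FrobAlg.BaseChange p A B →ₐ[A] Tw p A C :=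
      Algebra.TensorProduct.lift gB gT (fun _ _ => Commute.all _ _)
    have hL : ∀ (b : B) (t : FrobAlg.Twist p A),
        (L (b ⊗ₜ[A] t) : C) = ψ (g b) * algebraMap A C ((FrobAlg.toTwist p A).symm t) := by
      intro b t
      exact Algebra.TensorProduct.lift_tmul _ _ _ b t
    let e : FrobAlg.BaseChange p A B ≃+* B := RingEquiv.ofBijective (FrobAlg.relFrob p A B) h
    let LC : FrobAlg.BaseChange p A B →+* C :=
      { toFun := fun x => (L x : C)
        map_one' := map_one L
        map_mul' := map_mul L
        map_zero' := map_zero L
        map_add' := map_add L }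
    let f : B →+* C := LC.comp (e.symm : B →+* FrobAlg.BaseChange p A B)
    have hfrel : ∀ x, f (FrobAlg.relFrob p A B x) = (L x : C) := by
      intro x
      change LC (e.symm (e x)) = _
      rw [RingEquiv.symm_apply_apply]; rfl
    have hfalg : ∀ a : A, f (algebraMap A B a) = algebraMap A C a := by
      intro a
      rw [← relFrob_one_tmul p A B a, hfrel, hL, map_one, map_one, one_mul,
        RingEquiv.symm_apply_apply]
    have hlift : ∀ x, Ideal.Quotient.mk I (L x : C) = g (FrobAlg.relFrob p A B x) := by
      intro x
      induction x using TensorProduct.induction_on with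
      | zero =>
        rw [map_zero, map_zero, map_zero]
        exact map_zero (Ideal.Quotient.mk I)
      | tmul b t =>
        rw [hL, map_mul, hψmk, relFrob_tmul, map_mul, map_pow, AlgHom.commutes]
        rfl
      | add x y hx hy =>
        rw [map_add, map_add, map_add, ← hx, ← hy]
        exact map_add (Ideal.Quotient.mk I) _ _
    refine ⟨{ f with commutes' := hfalg }, ?_⟩
    ext b
    obtain ⟨x, rfl⟩ := h.2 b
    change Ideal.Quotient.mk I (f (FrobAlg.relFrob p A B x)) = _
    rw [hfrel, hlift]
  exact Algebra.FormallyEtale.of_formallyUnramified_and_formallySmooth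

end Groth.Agent.S16001
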