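import Groth.Statements.S13355
import Mathlib
-- import your own Groth.Agent.* helpers here

set_option autoImplicit false
universe u
open GaDual

namespace Groth.Agent.S13355

section helpers
open Finsupp in
theorem coeff_add_pow (A : Type u) [CommRing A] (i j d : ℕ) :
    MvPowerSeries.coeff (single (0 : Fin 2) i + single 1 j)
      ((MvPowerSeries.X 0 + MvPowerSeries.X 1 : MvPowerSeries (Fin 2) A) ^ d) =
      if d = i + j then ((i + j).choose i : A) else 0 := by
  classical
  rw [add_pow, map_sum]
  simp only [MvPowerSeries.X_pow_eq, MvPowerSeries.monomial_mul_monomial]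
  have key : ∀ m ∈ Finset.range (d + 1),
      MvPowerSeries.coeff (single (0 : Fin 2) i + single 1 j)
        (MvPowerSeries.monomial (single (0 : Fin 2) m + single 1 (d - m)) ((1 : A) * 1)
          * ((d.choose m : ℕ) : MvPowerSeries (Fin 2) A)) =
      if (m = i ∧ d = i + j) then ((i + j).choose i : A) else 0 := by
    intro m hm
    rw [Finset.mem_range] at hm
    rw [← map_natCast (MvPowerSeries.C (σ := Fin 2) (R := A)), mul_comm, MvPowerSeries.coeff_C_mul,
      MvPowerSeries.coeff_monomial]
    by_cases h : m = i ∧ d = i + j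
    · obtain ⟨rfl, rfl⟩ := h
      simp
    · rw [if_neg h, if_neg, mul_zero]
      intro heq
      apply h
      have h0 := DFunLike.congr_fun heq 0
      have h1 := DFunLike.congr_fun heq 1
      simp at h0 h1
      omega
  rw [Finset.sum_congr rfl key]
  by_cases hd : d = i + j
  · subst hd
    simp only [and_true, if_true]
    rw [Finset.sum_ite_eq' (Finset.range (i + j + 1)) i, if_pos (by simp)]
  · simp [hd]

open Finsupp in
theorem coeff_subst_add (A : Type u) [CommRing A] (χ : PowerSeries A) (i j : ℕ) :
    MvPowerSeries.coeff (single (0 : Fin 2) i + single 1 j)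
      (PowerSeries.subst (MvPowerSeries.X 0 + MvPowerSeries.X 1 : MvPowerSeries (Fin 2) A) χ) =
      PowerSeries.coeff (i + j) χ * ((i + j).choose i : A) := by
  rw [PowerSeries.coeff_subst ((PowerSeries.HasSubst.X 0).add (PowerSeries.HasSubst.X 1)),
    finsum_eq_single _ (i + j)]
  · rw [coeff_add_pow, if_pos rfl, smul_eq_mul]
  · intro d hd
    rw [coeff_add_pow, if_neg hd, smul_zero]

open Finsupp in
theorem coeff_subst_mul (A : Type u) [CommRing A] (χ : PowerSeries A) (i j : ℕ) :
    MvPowerSeries.coeff (single (0 : Fin 2) i + single 1 j)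
      (PowerSeries.subst (MvPowerSeries.X 0 : MvPowerSeries (Fin 2) A) χ *
          PowerSeries.subst (MvPowerSeries.X 1 : MvPowerSeries (Fin 2) A) χ) =
      PowerSeries.coeff i χ * PowerSeries.coeff j χ := by
  classical
  rw [MvPowerSeries.coeff_mul, Finset.sum_eq_single (single (0 : Fin 2) i, single (1 : Fin 2) j)]
  · simp [PowerSeries.coeff_subst_single]
  · rintro ⟨p, q⟩ hpq hne
    rw [Finset.HasAntidiagonal.mem_antidiagonal] at hpq
    simp only at hpq
    rw [PowerSeries.coeff_subst_single, PowerSeries.coeff_subst_single]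
    by_cases hp : p = single 0 (p 0)
    · by_cases hq : q = single 1 (q 1)
      · exfalso
        apply hne
        have h0 := DFunLike.congr_fun hpq 0
        have h1 := DFunLike.congr_fun hpq 1
        have hq0 : q 0 = 0 := by rw [hq]; simp
        have hp1 : p 1 = 0 := by rw [hp]; simp
        simp at h0 h1
        rw [hq0] at h0
        rw [hp1] at h1
        rw [hp, hq]
        congr 2 <;> omega
      · rw [if_neg hq, mul_zero]
    · rw [if_neg hp, zero_mul]
  · intro h
    exfalso
    apply h
    rw [Finset.HasAntidiagonal.mem_antidiagonal]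

theorem rat_id (i j : ℕ) :
    (1 / ((i + j).factorial : ℚ)) * ((i + j).choose i : ℚ) =
      (1 / (i.factorial : ℚ)) * (1 / (j.factorial : ℚ)) := by
  have h := Nat.add_choose_mul_factorial_mul_factorial i j
  rw [← Nat.choose_symm_add] at h
  have hc : (((i + j).choose i : ℕ) : ℚ) ≠ 0 := by
    exact_mod_cast (Nat.choose_pos (Nat.le_add_right i j)).ne'
  have h' : (((i + j).choose i : ℕ) : ℚ) * (i.factorial : ℚ) * (j.factorial : ℚ) =
      ((i + j).factorial : ℚ) := by exact_mod_cast h
  have hi : (i.factorial : ℚ) ≠ 0 := by exact_mod_cast i.factorial_ne_zero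
  have hj : (j.factorial : ℚ) ≠ 0 := by exact_mod_cast j.factorial_ne_zero
  have hij : ((i + j).factorial : ℚ) ≠ 0 := by exact_mod_cast (i + j).factorial_ne_zero
  rw [← h']
  field_simp

theorem main (A : Type u) [CommRing A] [Algebra ℚ A] (χ : PowerSeries A) :
    (PowerSeries.constantCoeff χ = 1 ∧
      PowerSeries.subst (MvPowerSeries.X 0 + MvPowerSeries.X 1 : MvPowerSeries (Fin 2) A) χ =
        PowerSeries.subst (MvPowerSeries.X 0 : MvPowerSeries (Fin 2) A) χ *
          PowerSeries.subst (MvPowerSeries.X 1 : MvPowerSeries (Fin 2) A) χ) ↔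
      ∃ a : A, χ = PowerSeries.rescale a (PowerSeries.exp A) := by
  constructor
  · rintro ⟨h0, heq⟩
    refine ⟨PowerSeries.coeff 1 χ, ?_⟩
    ext n
    rw [PowerSeries.coeff_rescale, PowerSeries.coeff_exp]
    induction n with
    | zero => simpa using h0
    | succ n ih =>
      have h1 := coeff_subst_add A χ n 1
      rw [heq, coeff_subst_mul, ih] at h1
      have hunit : ((n + 1 : ℕ) : A) * algebraMap ℚ A (1 / ((n + 1 : ℕ) : ℚ)) = 1 := by
        rw [← map_natCast (algebraMap ℚ A), ← map_mul]
        have : ((n + 1 : ℕ) : ℚ) ≠ 0 := by exact_mod_cast Nat.succ_ne_zero n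
        rw [mul_one_div_cancel this, map_one]
      have hch : ((n + 1).choose n : A) = ((n + 1 : ℕ) : A) := by
        rw [Nat.choose_succ_self_right]
      rw [hch] at h1
      calc PowerSeries.coeff (n + 1) χ
          = PowerSeries.coeff (n + 1) χ * (((n + 1 : ℕ) : A) *
              algebraMap ℚ A (1 / ((n + 1 : ℕ) : ℚ))) := by rw [hunit, mul_one]
        _ = (PowerSeries.coeff (n + 1) χ * ((n + 1 : ℕ) : A)) *
              algebraMap ℚ A (1 / ((n + 1 : ℕ) : ℚ)) := by ring
        _ = (PowerSeries.coeff 1 χ ^ n * algebraMap ℚ A (1 / (n.factorial : ℚ)) *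
              PowerSeries.coeff 1 χ) * algebraMap ℚ A (1 / ((n + 1 : ℕ) : ℚ)) := by rw [← h1]
        _ = PowerSeries.coeff 1 χ ^ (n + 1) * (algebraMap ℚ A (1 / (n.factorial : ℚ)) *
              algebraMap ℚ A (1 / ((n + 1 : ℕ) : ℚ))) := by ring
        _ = PowerSeries.coeff 1 χ ^ (n + 1) * algebraMap ℚ A (1 / ((n + 1).factorial : ℚ)) := by
            rw [← map_mul]
            congr 2
            rw [Nat.factorial_succ]
            push_cast
            have hn : (n.factorial : ℚ) ≠ 0 := by exact_mod_cast n.factorial_ne_zero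
            have hn1 : ((n : ℚ) + 1) ≠ 0 := by exact_mod_cast Nat.succ_ne_zero n
            field_simp
  · rintro ⟨a, rfl⟩
    refine ⟨?_, ?_⟩
    · rw [← PowerSeries.coeff_zero_eq_constantCoeff_apply, PowerSeries.coeff_rescale,
        PowerSeries.coeff_exp]
      simp
    ext e
    have he : e = Finsupp.single (0 : Fin 2) (e 0) + Finsupp.single 1 (e 1) := by
      ext k
      fin_cases k
      · show e 0 = _
        simp
      · show e 1 = _
        simp
    rw [he, coeff_subst_add, coeff_subst_mul]
    simp only [PowerSeries.coeff_rescale, PowerSeries.coeff_exp]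
    have := rat_id (e 0) (e 1)
    have h2 : algebraMap ℚ A (1 / ((e 0 + e 1).factorial : ℚ)) * (((e 0 + e 1).choose (e 0) : ℕ) : A) =
        algebraMap ℚ A (1 / ((e 0).factorial : ℚ)) * algebraMap ℚ A (1 / ((e 1).factorial : ℚ)) := by
      rw [← map_natCast (algebraMap ℚ A), ← map_mul, ← map_mul, this]
    calc a ^ (e 0 + e 1) * algebraMap ℚ A (1 / ((e 0 + e 1).factorial : ℚ)) *
          (((e 0 + e 1).choose (e 0) : ℕ) : A)
        = a ^ (e 0 + e 1) * (algebraMap ℚ A (1 / ((e 0 + e 1).factorial : ℚ)) *
          (((e 0 + e 1).choose (e 0) : ℕ) : A)) := by ring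
      _ = _ := by rw [h2]; ring
end helpers

/-- Over a commutative algebra A over the rationals, the formal characters (power series with constant
term 1 satisfying χ(X+Y) = χ(X)χ(Y) in two variables) are exactly the power series exp(aX) for a in
A. -/
theorem result (A : Type u) [CommRing A] [Algebra ℚ A] (χ : PowerSeries A) :
    (PowerSeries.constantCoeff χ = 1 ∧
      PowerSeries.subst (MvPowerSeries.X 0 + MvPowerSeries.X 1 : MvPowerSeries (Fin 2) A) χ =
        PowerSeries.subst (MvPowerSeries.X 0 : MvPowerSeries (Fin 2) A) χ *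
          PowerSeries.subst (MvPowerSeries.X 1 : MvPowerSeries (Fin 2) A) χ) ↔
      ∃ a : A, χ = PowerSeries.rescale a (PowerSeries.exp A) := by
  exact main A χ

end Groth.Agent.S13355
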