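import Groth.Statements.S9799
import Mathlib

set_option autoImplicit false
universe u
open CategoryTheory AlgebraicGeometry TopologicalSpace
open Props

namespace Groth.Agent.S9799

/-- A generic point of an irreducible component has no proper generization. -/
lemma eq_of_specializes_genericPoint {X : Type*} [TopologicalSpace X] [T0Space X]
    {Z : Set X} (hZ : Z ∈ irreducibleComponents X) {η y : X} (hη : IsGenericPoint η Z)
    (hy : y ⤳ η) : y = η := by
  have hirr : IsIrreducible (closure ({y} : Set X)) := isIrreducible_singleton.closure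
  have hsub : Z ⊆ closure ({y} : Set X) := by
    rw [← hη.def]
    exact closure_minimal (Set.singleton_subset_iff.mpr hy.mem_closure) isClosed_closure
  have heq : closure ({y} : Set X) = Z := le_antisymm (hZ.2 hirr hsub) hsub
  have hy' : IsGenericPoint y Z := heq
  exact hy'.eq hη

/-- If the stalk at `x` is a domain, `x` lies on a unique irreducible component. -/
lemma eq_of_mem_irreducibleComponents (X : Scheme.{u}) (x : X)
    [IsDomain (X.presheaf.stalk x)] {Z Z' : Set X} (hZ : Z ∈ irreducibleComponents X)
    (hZ' : Z' ∈ irreducibleComponents X) (hx : x ∈ Z) (hx' : x ∈ Z') : Z = Z' := by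
  obtain ⟨η, hη⟩ := QuasiSober.sober hZ.1 (isClosed_of_mem_irreducibleComponents Z hZ)
  obtain ⟨η', hη'⟩ := QuasiSober.sober hZ'.1 (isClosed_of_mem_irreducibleComponents Z' hZ')
  have h1 : η ⤳ x := hη.specializes hx
  have h2 : η' ⤳ x := hη'.specializes hx'
  have hr := Scheme.range_fromSpecStalk (X := X) (x := x)
  obtain ⟨a, ha⟩ : η ∈ Set.range (X.fromSpecStalk x) := by rw [hr]; exact h1
  obtain ⟨a', ha'⟩ : η' ∈ Set.range (X.fromSpecStalk x) := by rw [hr]; exact h2
  -- the generic point of the spectrum of the stalk
  let ξ : PrimeSpectrum (X.presheaf.stalk x) := ⟨⊥, Ideal.isPrime_bot⟩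
  have hξ : ∀ b : PrimeSpectrum (X.presheaf.stalk x), ξ ⤳ b := fun b =>
    (PrimeSpectrum.le_iff_specializes ξ b).mp bot_le
  have e1 : (X.fromSpecStalk x) ξ = η :=
    eq_of_specializes_genericPoint hZ hη (ha ▸ (hξ a).map (X.fromSpecStalk x).continuous)
  have e2 : (X.fromSpecStalk x) ξ = η' :=
    eq_of_specializes_genericPoint hZ' hη' (ha' ▸ (hξ a').map (X.fromSpecStalk x).continuous)
  rw [← hη.def, ← hη'.def, ← e1, ← e2]

/-- Let X be a normal scheme (all local rings are integrally closed domains) such that every
quasi-compact open subset has finitely many irreducible components. Then the irreducible components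
of X are open and pairwise disjoint; hence X is the disjoint union of its irreducible components,
each an open subscheme which is normal and integral. -/
theorem result (X : Scheme.{u})
    (hfin : ∀ U : X.Opens, IsCompact (U : Set X) → (irreducibleComponents ↥U).Finite)
    (hN : Pi1.IsNormalScheme X) :
    (∀ Z ∈ irreducibleComponents X, IsOpen Z) ∧
      ∀ Z ∈ irreducibleComponents X, ∀ Z' ∈ irreducibleComponents X, Z ≠ Z' → Disjoint Z Z' := by
  have hdom : ∀ x : X, IsDomain (X.presheaf.stalk x) := fun x => (hN x).1
  have huniq : ∀ x : X, ∀ Z ∈ irreducibleComponents X, ∀ Z' ∈ irreducibleComponents X,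
      x ∈ Z → x ∈ Z' → Z = Z' := fun x Z hZ Z' hZ' hx hx' =>
    eq_of_mem_irreducibleComponents X x hZ hZ' hx hx'
  constructor
  · intro Z hZ
    rw [isOpen_iff_forall_mem_open]
    intro x hxZ
    obtain ⟨U, hU, hxU, -⟩ := exists_isAffineOpen_mem_and_subset (x := x) (U := ⊤) trivial
    have hUfin := hfin U hU.isCompact
    let x' : {y : X // y ∈ U} := ⟨x, hxU⟩
    -- the components of `U` not containing `x`
    let 𝒞' : Set (Set {y : X // y ∈ U}) := {C | C ∈ irreducibleComponents {y : X // y ∈ U} ∧ x' ∉ C}
    have h𝒞'fin : 𝒞'.Finite := hUfin.subset fun C hC => hC.1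
    have hBcl : IsClosed (⋃₀ 𝒞') := by
      rw [Set.sUnion_eq_biUnion]
      exact h𝒞'fin.isClosed_biUnion fun C hC => isClosed_of_mem_irreducibleComponents C hC.1
    have hWopen : IsOpen (Subtype.val '' (⋃₀ 𝒞')ᶜ : Set X) :=
      U.2.isOpenMap_subtype_val _ hBcl.isOpen_compl
    refine ⟨_, ?_, hWopen, ⟨x', ?_, rfl⟩⟩
    · rintro _ ⟨y, hy, rfl⟩
      -- `y` lies in some component `C` of `U`, which must contain `x`
      have hyC : y ∈ irreducibleComponent y := mem_irreducibleComponent
      have hC := irreducibleComponent_mem_irreducibleComponents y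
      have hxC : x' ∈ irreducibleComponent y := by
        by_contra hcon
        exact hy ⟨irreducibleComponent y, ⟨hC, hcon⟩, hyC⟩
      -- the image of `C` in `X` is irreducible, hence contained in a component through `x`
      have hirr : IsIrreducible (Subtype.val '' irreducibleComponent y : Set X) :=
        hC.1.image _ continuous_subtype_val.continuousOn
      obtain ⟨Z'', hZ'', hsub⟩ := exists_mem_irreducibleComponents_subset_of_isIrreducible _ hirr
      have hxZ'' : x ∈ Z'' := hsub ⟨x', hxC, rfl⟩
      have : Z'' = Z := huniq x Z'' hZ'' Z hZ hxZ'' hxZ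
      rw [← this]
      exact hsub ⟨y, hyC, rfl⟩
    · rintro ⟨C, hC, hxC⟩
      exact hC.2 hxC
  · intro Z hZ Z' hZ' hne
    rw [Set.disjoint_left]
    intro x hx hx'
    exact hne (huniq x Z hZ Z' hZ' hx hx')

end Groth.Agent.S9799
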