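import Groth.Statements.S9821
import Mathlib
-- import your own Groth.Agent.* helpers here

set_option autoImplicit false
universe u
open CategoryTheory CategoryTheory.Limits AlgebraicGeometry TopologicalSpace Opposite
open Props

namespace Groth.Agent.S9821

/-- An integral scheme is normal if and only if the coordinate ring of every nonempty affine open is an
integrally closed domain. -/
theorem result (X : Scheme.{u}) [IsIntegral X] :
    Pi1.IsNormalScheme X ↔ ∀ (U : X.Opens) [Nonempty U], IsAffineOpen U → IsIntegrallyClosed Γ(X, U) := by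
  constructor
  · intro h U hne hU
    apply IsIntegrallyClosed.of_localization_maximal
    intro P _ hP
    let y : Spec Γ(X, U) := (⟨P, hP.isPrime⟩ : PrimeSpectrum Γ(X, U))
    have hy : hU.fromSpec y ∈ U := by
      have : hU.fromSpec y ∈ hU.fromSpec.opensRange := ⟨y, rfl⟩
      rwa [hU.opensRange_fromSpec] at this
    letI := TopCat.Presheaf.algebra_section_stalk X.presheaf ⟨hU.fromSpec y, hy⟩
    haveI : IsLocalization.AtPrime (X.presheaf.stalk (hU.fromSpec y)) P :=
      hU.isLocalization_stalk' y hy
    haveI := (h (hU.fromSpec y)).2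
    exact IsIntegrallyClosed.of_equiv
      (IsLocalization.algEquiv P.primeCompl (X.presheaf.stalk (hU.fromSpec y))
        (Localization.AtPrime P)).toRingEquiv
  · intro h x
    refine ⟨inferInstance, ?_⟩
    obtain ⟨U, hU, hxU, -⟩ :=
      exists_isAffineOpen_mem_and_subset (X := X) (U := ⊤) (x := x) (by simp)
    haveI : Nonempty U := ⟨⟨x, hxU⟩⟩
    haveI := h U hU
    letI := X.presheaf.algebra_section_stalk (⟨x, hxU⟩ : U)
    haveI := hU.isLocalization_stalk ⟨x, hxU⟩
    exact isIntegrallyClosed_of_isLocalization (X.presheaf.stalk x)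
      (hU.primeIdealOf ⟨x, hxU⟩).asIdeal.primeCompl
      (hU.primeIdealOf ⟨x, hxU⟩).asIdeal.primeCompl_le_nonZeroDivisors

end Groth.Agent.S9821
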