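import Mathlib.FieldTheory.PurelyInseparable.PerfectClosure
import Mathlib.FieldTheory.Fixed
import Mathlib.FieldTheory.Normal.Basic
import Mathlib.FieldTheory.Galois.Basic
import Mathlib.RingTheory.DedekindDomain.IntegralClosure
import Mathlib.RingTheory.IntegralClosure.IntegrallyClosed
import Mathlib.RingTheory.Localization.Integral
import Mathlib.RingTheory.FiniteType

/-! helper29: for a finite normal extension `E/F`, `E` is separable over the relative perfect
closure of `F` in `E`. -/

set_option autoImplicit false

namespace Groth.Agent.LibN2_29

open Polynomial

/-- an element fixed by all automorphisms of a normal extension is purely inseparable -/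
lemma mem_perfectClosure_of_fixed {F E : Type*} [Field F] [Field E] [Algebra F E] [Normal F E]
    (x : E) (hx : ∀ σ : E ≃ₐ[F] E, σ x = x) : x ∈ perfectClosure F E := by
  classical
  rw [mem_perfectClosure_iff_natSepDegree_eq_one]
  have halg : IsAlgebraic F x := (Normal.isIntegral ‹Normal F E› x).isAlgebraic
  rw [natSepDegree_eq_of_splits (minpoly F x) (Normal.splits ‹Normal F E› x)]
  have h1 : ((minpoly F x).aroots E).toFinset = {x} := by
    ext y
    rw [Multiset.mem_toFinset, Finset.mem_singleton, mem_aroots]
    constructor
    · rintro ⟨-, hy⟩
      obtain ⟨σ, hσ⟩ := minpoly.exists_algEquiv_of_root' halg hy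
      rw [← hσ, hx]
    · rintro rfl
      exact ⟨minpoly.ne_zero halg.isIntegral, minpoly.aeval F y⟩
  rw [h1, Finset.card_singleton]

theorem isSeparable_perfectClosure {F E : Type*} [Field F] [Field E] [Algebra F E]
    [FiniteDimensional F E] [Normal F E] : Algebra.IsSeparable (perfectClosure F E) E := by
  have hsep : Algebra.IsSeparable (FixedPoints.subfield (E ≃ₐ[F] E) E) E := inferInstance
  have hle : ∀ x : E, x ∈ FixedPoints.subfield (E ≃ₐ[F] E) E → x ∈ perfectClosure F E := by
    intro x hx
    exact mem_perfectClosure_of_fixed x (fun σ => hx σ)
  let _ : Algebra (FixedPoints.subfield (E ≃ₐ[F] E) E) (perfectClosure F E) :=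
    RingHom.toAlgebra
      { toFun := fun x => ⟨x.1, hle x.1 x.2⟩
        map_one' := rfl
        map_mul' := fun _ _ => rfl
        map_zero' := rfl
        map_add' := fun _ _ => rfl }
  have : IsScalarTower (FixedPoints.subfield (E ≃ₐ[F] E) E) (perfectClosure F E) E :=
    IsScalarTower.of_algebraMap_eq (fun _ => rfl)
  exact Algebra.isSeparable_tower_top_of_isSeparable (FixedPoints.subfield (E ≃ₐ[F] E) E)
    (perfectClosure F E) E

/-- finiteness of integral closure passes up a finite separable extension -/
theorem finite_integralClosure_of_separable {A K P N : Type*} [CommRing A] [IsDomain A]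
    [IsNoetherianRing A] [Field K] [Algebra A K] [IsFractionRing A K]
    [Field P] [Algebra A P] [Algebra K P] [IsScalarTower A K P] [FiniteDimensional K P]
    [Field N] [Algebra A N] [Algebra P N] [IsScalarTower A P N] [FiniteDimensional P N]
    [Algebra.IsSeparable P N]
    (h : Module.Finite A (integralClosure A P)) : Module.Finite A (integralClosure A N) := by
  have hBic : IsIntegrallyClosed (integralClosure A P) :=
    integralClosure.isIntegrallyClosedOfFiniteExtension K
  have hBfr : IsFractionRing (integralClosure A P) P :=
    integralClosure.isFractionRing_of_finite_extension K P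
  have hBn : IsNoetherianRing (integralClosure A P) :=
    Algebra.FiniteType.isNoetherianRing A (integralClosure A P)
  have htower : IsScalarTower A (integralClosure A P) N :=
    IsScalarTower.of_algebraMap_eq (fun a => IsScalarTower.algebraMap_apply A P N a)
  have h1 : Module.Finite (integralClosure A P) (integralClosure (integralClosure A P) N) :=
    IsIntegralClosure.finite (integralClosure A P) P N (integralClosure (integralClosure A P) N)
  have hfin : Module.Finite A (integralClosure (integralClosure A P) N) :=
    Module.Finite.trans (integralClosure A P) _
  have hnoeth : IsNoetherian A (integralClosure (integralClosure A P) N) :=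
    isNoetherian_of_isNoetherianRing_of_finite A _
  let f : integralClosure A N →ₗ[A] integralClosure (integralClosure A P) N :=
    { toFun := fun x => ⟨x.1, IsIntegral.tower_top x.2⟩
      map_add' := fun _ _ => rfl
      map_smul' := fun _ _ => rfl }
  refine Module.Finite.of_injective f (fun x y hxy => Subtype.ext ?_)
  exact congrArg (fun z : integralClosure (integralClosure A P) N => (z : N)) hxy

/-- finiteness of integral closure passes to subfields -/
theorem finite_integralClosure_of_algHom {A L N : Type*} [CommRing A] [IsNoetherianRing A]
    [Field L] [Algebra A L] [Field N] [Algebra A N]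
    (ι : L →ₐ[A] N) (h : Module.Finite A (integralClosure A N)) :
    Module.Finite A (integralClosure A L) := by
  have hnoeth : IsNoetherian A (integralClosure A N) :=
    isNoetherian_of_isNoetherianRing_of_finite A _
  let f : integralClosure A L →ₗ[A] integralClosure A N :=
    { toFun := fun x => ⟨ι x.1, x.2.map ι⟩
      map_add' := fun x y => Subtype.ext (map_add ι _ _)
      map_smul' := fun a x => Subtype.ext (map_smul ι a x.1) }
  refine Module.Finite.of_injective f (fun x y hxy => Subtype.ext ((ι : L →+* N).injective ?_))
  exact congrArg (fun z : integralClosure A N => (z : N)) hxy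

end Groth.Agent.LibN2_29
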