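import Groth.Statements.S4562
import Groth.Agent.LibN2_29
import Mathlib.FieldTheory.Normal.Closure
import Mathlib.FieldTheory.IsAlgClosed.AlgebraicClosure
-- import your own Groth.Agent.* helpers here

set_option autoImplicit false
universe u
open CAlg

namespace Groth.Agent.S4562

open Groth.Agent.LibN2_29 IntermediateField


/-- Let A be a Noetherian domain with fraction field K. If the integral closure of A in every finite
purely inseparable extension of K is a finitely generated A-module, then A is Japanese (N-2). -/
theorem result (A : Type u) [CommRing A] [IsDomain A]
    [IsNoetherianRing A]
    (h : ∀ (K' : Type u) [Field K'] [Algebra A K'] [Algebra (FractionRing A) K']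
      [IsScalarTower A (FractionRing A) K'], FiniteDimensional (FractionRing A) K' →
      IsPurelyInseparable (FractionRing A) K' → Module.Finite A (integralClosure A K')) :
    CAlg.IsN2 A := by
  intro L _ _ _ _ hfd
  -- the normal closure of `L` inside an algebraic closure
  have htΩ : IsScalarTower A (FractionRing A) (AlgebraicClosure L) :=
    IsScalarTower.of_algebraMap_eq (fun a => by
      rw [IsScalarTower.algebraMap_apply A L (AlgebraicClosure L),
        IsScalarTower.algebraMap_apply A (FractionRing A) L,
        ← IsScalarTower.algebraMap_apply (FractionRing A) L (AlgebraicClosure L)])
  have halg : Algebra.IsAlgebraic (FractionRing A) L := Algebra.IsAlgebraic.of_finite _ _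
  have hnormΩ : Normal (FractionRing A) (AlgebraicClosure L) := by
    have : IsAlgClosure (FractionRing A) (AlgebraicClosure L) :=
      ⟨AlgebraicClosure.isAlgClosed L,
        Algebra.IsAlgebraic.trans (FractionRing A) L (AlgebraicClosure L)⟩
    exact IsAlgClosure.normal (FractionRing A) (AlgebraicClosure L)
  -- notation
  let N : IntermediateField (FractionRing A) (AlgebraicClosure L) :=
    normalClosure (FractionRing A) L (AlgebraicClosure L)
  have hNnormal : Normal (FractionRing A) N := normalClosure.normal _ _ _
  have hNfd : FiniteDimensional (FractionRing A) N := normalClosure.is_finiteDimensional _ _ _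
  let P : IntermediateField (FractionRing A) N := perfectClosure (FractionRing A) N
  have hPfd : FiniteDimensional (FractionRing A) P := inferInstance
  have hPpi : IsPurelyInseparable (FractionRing A) P := inferInstance
  have hP : Module.Finite A (integralClosure A P) := h P hPfd hPpi
  have hsep : Algebra.IsSeparable P N := isSeparable_perfectClosure
  have htPN : IsScalarTower A P N := IsScalarTower.of_algebraMap_eq (fun a => rfl)
  have hN : Module.Finite A (integralClosure A N) :=
    finite_integralClosure_of_separable (K := FractionRing A) (P := P) (N := N) hP
  let ι : L →ₐ[A] N :=
    { toRingHom := algebraMap L N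
      commutes' := fun a => by
        apply Subtype.ext
        change algebraMap N (AlgebraicClosure L) (algebraMap L N (algebraMap A L a)) =
          algebraMap N (AlgebraicClosure L) (algebraMap A N a)
        rw [← IsScalarTower.algebraMap_apply L N (AlgebraicClosure L),
          ← IsScalarTower.algebraMap_apply A L (AlgebraicClosure L)]
        rfl }
  exact finite_integralClosure_of_algHom ι hN

end Groth.Agent.S4562
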