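import Groth.Statements.S9688
import Mathlib
import Groth.Agent.Lib.Helper13.KrAk3
-- import your own Groth.Agent.* helpers here

set_option autoImplicit false
universe u
open CategoryTheory CategoryTheory.Limits AlgebraicGeometry
open Mor

namespace Groth.Agent.S9688

/-- Let X be an integral Japanese scheme (every nonempty affine open has Japanese, i.e. N-2, coordinate
ring). Then the normalization morphism X^ν ⟶ X is finite. (The quasi-compactness and
quasi-separatedness binders on Spec K(X) ⟶ X always hold; they are only needed to form the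
normalization.) -/
theorem result (X : Scheme.{u}) [IsIntegral X] [QuasiCompact (X.fromSpecStalk (genericPoint ↥X))] [QuasiSeparated (X.fromSpecStalk (genericPoint ↥X))]
    (hJ : ∀ (U : X.Opens), IsAffineOpen U → ∀ (hne : Nonempty ↥U),
      @CAlg.IsN2 ↑Γ(X, U) _ (@IsIntegral.component_integral X _ U hne)) :
    IsFinite (Curv2.normalizationι X) := by
  show IsFinite (X.fromSpecStalk (genericPoint ↥X)).fromNormalization
  haveI : IsAffineHom (X.fromSpecStalk (genericPoint ↥X)).fromNormalization := inferInstance
  refine { finite_app := fun U hU => ?_ }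
  by_cases hne : Nonempty U
  · haveI := hne
    letI algKU : Algebra Γ(X, U)
        Γ(Spec X.functionField, X.fromSpecStalk (genericPoint ↥X) ⁻¹ᵁ U) :=
      ((X.fromSpecStalk (genericPoint ↥X)).app U).hom.toAlgebra
    haveI hdom : IsDomain Γ(X, U) := @IsIntegral.component_integral X _ U hne
    have hN2 := hJ U hU hne
    have h1 : Module.Finite Γ(X, U) (integralClosure Γ(X, U) (FractionRing Γ(X, U))) :=
      hN2 (FractionRing Γ(X, U)) inferInstance
    obtain ⟨e, he⟩ := Groth.Agent.Lib.helper13.KrAk.exists_ringEquiv_functionField X U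
    obtain ⟨ι, hι⟩ := Groth.Agent.Lib.helper13.KrAk.exists_ringEquiv_normalization X U hU
    haveI := functionField_isFractionRing_of_isAffineOpen X U hU
    let eK : X.functionField ≃ₐ[Γ(X, U)]
        Γ(Spec X.functionField, X.fromSpecStalk (genericPoint ↥X) ⁻¹ᵁ U) :=
      AlgEquiv.ofRingEquiv (f := e) he
    let eF : FractionRing Γ(X, U) ≃ₐ[Γ(X, U)] X.functionField :=
      FractionRing.algEquiv Γ(X, U) X.functionField
    let E : integralClosure Γ(X, U) (FractionRing Γ(X, U)) ≃ₐ[Γ(X, U)]
        integralClosure Γ(X, U)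
          Γ(Spec X.functionField, X.fromSpecStalk (genericPoint ↥X) ⁻¹ᵁ U) :=
      (eF.trans eK).mapIntegralClosure
    haveI h2 : Module.Finite Γ(X, U) (integralClosure Γ(X, U)
        Γ(Spec X.functionField, X.fromSpecStalk (genericPoint ↥X) ⁻¹ᵁ U)) :=
      Module.Finite.equiv E.toLinearEquiv
    have h3 : (algebraMap Γ(X, U) (integralClosure Γ(X, U)
        Γ(Spec X.functionField, X.fromSpecStalk (genericPoint ↥X) ⁻¹ᵁ U))).Finite :=
      RingHom.finite_algebraMap.mpr h2
    have h4 : ((X.fromSpecStalk (genericPoint ↥X)).fromNormalization.app U).hom =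
        ι.symm.toRingHom.comp (algebraMap Γ(X, U) (integralClosure Γ(X, U)
          Γ(Spec X.functionField, X.fromSpecStalk (genericPoint ↥X) ⁻¹ᵁ U))) := by
      ext r
      show _ = ι.symm (algebraMap _ _ r)
      rw [← hι, RingEquiv.symm_apply_apply]
    show ((X.fromSpecStalk (genericPoint ↥X)).fromNormalization.app U).hom.Finite
    rw [h4]
    exact RingHom.Finite.comp (RingHom.Finite.of_surjective _ ι.symm.surjective) h3
  · have hU0 : U = ⊥ := by
      ext x
      simp only [TopologicalSpace.Opens.coe_bot, Set.mem_empty_iff_false, iff_false]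
      intro hx
      exact hne ⟨⟨x, hx⟩⟩
    subst hU0
    haveI : Subsingleton Γ((X.fromSpecStalk (genericPoint ↥X)).normalization,
        (X.fromSpecStalk (genericPoint ↥X)).fromNormalization ⁻¹ᵁ ⊥) :=
      inferInstanceAs (Subsingleton Γ((X.fromSpecStalk (genericPoint ↥X)).normalization, ⊥))
    show ((X.fromSpecStalk (genericPoint ↥X)).fromNormalization.app ⊥).hom.Finite
    apply RingHom.Finite.of_surjective
    intro y
    exact ⟨0, Subsingleton.elim _ _⟩

end Groth.Agent.S9688
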