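import Groth.Statements.S8266
import Mathlib
-- import your own Groth.Agent.* helpers here

set_option autoImplicit false
universe u
open CategoryTheory CategoryTheory.Limits AlgebraicGeometry Opposite TopologicalSpace
open scoped HomogeneousIdeal
open EGA2

namespace Groth.Agent.S8266

open HomogeneousLocalization in
/-- The degree-zero localization away from a homogeneous element of positive degree is reduced
when the irrelevant ideal has no nonzero nilpotents. -/
theorem away_isReduced {A σ : Type*} [CommRing A] [SetLike σ A] [AddSubgroupClass σ A]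
    (𝒜 : ℕ → σ) [GradedRing 𝒜] (hred : ∀ x : A, x ∈ 𝒜₊ → IsNilpotent x → x = 0)
    {d : ℕ} (hd : 0 < d) {f : A} (hf : f ∈ 𝒜 d) : _root_.IsReduced (Away 𝒜 f) := by
  refine ⟨fun z hz => ?_⟩
  obtain ⟨k, hk⟩ := hz
  obtain ⟨n, a, ha, rfl⟩ := Away.mk_surjective 𝒜 hf z
  rcases Nat.eq_zero_or_pos k with rfl | hkpos
  · -- the ring is trivial
    rw [pow_zero] at hk
    have := mul_one (Away.mk 𝒜 hf n a ha)
    rw [hk, mul_zero] at this
    exact this.symm
  apply val_injective
  rw [val_zero, Away.val_mk]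
  have h1 := congrArg HomogeneousLocalization.val hk
  rw [val_pow, val_zero, Away.val_mk, Localization.mk_pow] at h1
  rw [Localization.mk_eq_mk', IsLocalization.mk'_eq_zero_iff] at h1 ⊢
  obtain ⟨⟨_, m, rfl⟩, hm⟩ := h1
  change f ^ m * a ^ k = 0 at hm
  -- `b = f^(m+1) * a` is a nilpotent element of the irrelevant ideal
  have hb_mem : f ^ (m + 1) * a ∈ 𝒜 ((m + 1) • d + n • d) :=
    SetLike.mul_mem_graded (SetLike.pow_mem_graded _ hf) ha
  have hb_irr : f ^ (m + 1) * a ∈ 𝒜₊ := by
    refine HomogeneousIdeal.mem_irrelevant_of_mem 𝒜 ?_ hb_mem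
    have : 0 < (m + 1) • d := by
      rw [smul_eq_mul]
      exact Nat.mul_pos (Nat.succ_pos m) hd
    omega
  have hb_nil : IsNilpotent (f ^ (m + 1) * a) := by
    refine ⟨k, ?_⟩
    have hle : m ≤ (m + 1) * k := by nlinarith
    rw [mul_pow, ← pow_mul, ← Nat.sub_add_cancel hle, pow_add, mul_assoc, hm, mul_zero]
  have hb := hred _ hb_irr hb_nil
  exact ⟨⟨f ^ (m + 1), m + 1, rfl⟩, hb⟩

/-- `Proj` is reduced when the irrelevant ideal has no nonzero nilpotents. -/
theorem proj_isReduced {A σ : Type u} [CommRing A] [SetLike σ A] [AddSubgroupClass σ A]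
    (𝒜 : ℕ → σ) [GradedRing 𝒜] (hred : ∀ x : A, x ∈ 𝒜₊ → IsNilpotent x → x = 0) :
    IsReduced (Proj 𝒜) := by
  have : ∀ i, IsReduced ((Proj.affineOpenCover 𝒜).openCover.X i) := fun i => by
    have h := away_isReduced 𝒜 hred i.1.2 i.2.2
    change IsReduced (Spec (CommRingCat.of (HomogeneousLocalization.Away 𝒜 (i.2 : A))))
    infer_instance
  exact IsReduced.of_openCover _ (Proj.affineOpenCover 𝒜).openCover


/-- If the quasi-coherent positively graded O_Y-algebra 𝒮 is essentially reduced (affine-locally, no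
nonzero nilpotent element in the irrelevant ideal), then Proj(𝒮) is reduced. -/
theorem result {Y P : Scheme.{u}} (𝒮 : RelProj.QCGrAlg Y)
    (hred : ∀ (U : Y.Opens) (hU : IsAffineOpen U) (x : 𝒮.presheaf.obj (op U)),
      x ∈ (𝒮.deg U hU)₊ → IsNilpotent x → x = 0)
    (p : P ⟶ Y)
    (chart : ∀ (U : Y.Opens) (hU : IsAffineOpen U), (((p ⁻¹ᵁ U : P.Opens) : Scheme.{u}) ≅ Proj (𝒮.deg U hU)))
    (hP : RelProj.IsRelProj 𝒮 p chart) : IsReduced P := by
  have hcov : TopologicalSpace.IsOpenCover (fun V : Y.affineOpens => p ⁻¹ᵁ (V : Y.Opens)) := by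
    change (⨆ V : Y.affineOpens, p ⁻¹ᵁ (V : Y.Opens)) = ⊤
    rw [← Scheme.Hom.preimage_iSup, iSup_affineOpens_eq_top, Scheme.Hom.preimage_top]
  have : ∀ V, IsReduced ((P.openCoverOfIsOpenCover _ hcov).X V) := by
    rintro ⟨V, hV⟩
    have := proj_isReduced (𝒮.deg V hV) (hred V hV)
    exact isReduced_of_isOpenImmersion (chart V hV).hom
  exact IsReduced.of_openCover _ (P.openCoverOfIsOpenCover _ hcov)

end Groth.Agent.S8266
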