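import Groth.Statements.S2351
import Mathlib
import Groth.Agent.Lib.Helper13.Normal4
-- import your own Groth.Agent.* helpers here

set_option autoImplicit false
universe u
open CategoryTheory CategoryTheory.Limits AlgebraicGeometry
open EGA2

namespace Groth.Agent.S2351

noncomputable section

open AlgebraicGeometry CategoryTheory Limits in
lemma residueFieldMap_surjective_of_stalkMap_surjective {X Y : Scheme.{u}} (f : X ⟶ Y) (x : X)
    (h : Function.Surjective (f.stalkMap x).hom) :
    Function.Surjective (f.residueFieldMap x).hom := by
  have h1 := Scheme.residue_residueFieldMap f x
  have h2 : Function.Surjective ((Y.residue (f x) ≫ f.residueFieldMap x).hom) := by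
    rw [h1, CommRingCat.hom_comp, RingHom.coe_comp]
    exact (Ideal.Quotient.mk_surjective).comp h
  rw [CommRingCat.hom_comp, RingHom.coe_comp] at h2
  exact Function.Surjective.of_comp h2

open AlgebraicGeometry CategoryTheory Limits in
theorem normalization_props {X : Scheme.{u}} [IsIntegral X] {R : CommRingCat.{u}}
    (hR : IsField R) (g : Spec R ⟶ X) [QuasiCompact g] [QuasiSeparated g] [IsIntegral (Spec R)]
    (pt : ↥(Spec R)) (hpt : g pt = genericPoint X)
    (hsurj : Function.Surjective (g.residueFieldMap pt).hom) :
    ∃ (_ : IsIntegral g.normalization), Pi1.IsNormalScheme g.normalization ∧
      Surjective g.fromNormalization ∧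
      ∃ _ : g.fromNormalization (genericPoint g.normalization) = genericPoint X,
        Function.Bijective
          (g.fromNormalization.residueFieldMap (genericPoint g.normalization)).hom := by
  letI := hR.toField
  haveI : Unique ↥(Spec R) := inferInstanceAs (Unique (PrimeSpectrum R))
  have hint : IsIntegral g.normalization := inferInstance
  have hιt : ∀ p, g.fromNormalization (g.toNormalization p) = g p := fun p => by
    rw [← Scheme.Hom.comp_apply, Scheme.Hom.toNormalization_fromNormalization]
  -- surjectivity
  have hsurjι : Function.Surjective g.fromNormalization := by
    have hcl : IsClosed (Set.range g.fromNormalization) :=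
      g.fromNormalization.isClosedMap.isClosed_range
    have hmem : genericPoint X ∈ Set.range g.fromNormalization :=
      ⟨g.toNormalization pt, by rw [hιt, hpt]⟩
    have h1 : closure ({genericPoint X} : Set X) ⊆ Set.range g.fromNormalization :=
      hcl.closure_subset_iff.mpr (Set.singleton_subset_iff.mpr hmem)
    rw [(genericPoint_spec X).def] at h1
    intro x
    exact h1 trivial
  -- the image of the point of `Spec R` is the generic point
  have htpt : g.toNormalization pt = genericPoint g.normalization := by
    have hdense : DenseRange g.toNormalization := g.toNormalization.denseRange
    have hrange : Set.range g.toNormalization = {g.toNormalization pt} := by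
      ext q
      constructor
      · rintro ⟨p, rfl⟩
        rw [Unique.eq_default p, ← Unique.eq_default pt]
        rfl
      · rintro rfl
        exact ⟨pt, rfl⟩
    have hgp : IsGenericPoint (g.toNormalization pt) (⊤ : Set g.normalization) := by
      rw [isGenericPoint_def, ← hrange]
      exact hdense.closure_range
    exact hgp.eq (genericPoint_spec g.normalization)
  have hgen : g.fromNormalization (genericPoint g.normalization) = genericPoint X := by
    rw [← htpt, hιt, hpt]
  refine ⟨hint, Groth.Agent.Lib.helper13.Normal.isNormalScheme_normalization_of_isField hR g,
    ⟨hsurjι⟩, hgen, ?_⟩
  rw [← htpt]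
  refine ⟨RingHom.injective _, ?_⟩
  -- surjectivity of the residue field map
  have hcomp : (g.toNormalization ≫ g.fromNormalization).residueFieldMap pt =
      g.fromNormalization.residueFieldMap (g.toNormalization pt) ≫
        g.toNormalization.residueFieldMap pt := Scheme.residueFieldMap_comp _ _ _
  have hsurj' : Function.Surjective
      ((g.toNormalization ≫ g.fromNormalization).residueFieldMap pt).hom := by
    have : ∀ (g' : Spec R ⟶ X), g' = g →
        Function.Surjective (g'.residueFieldMap pt).hom := by
      rintro g' rfl
      exact hsurj
    exact this _ g.toNormalization_fromNormalization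
  intro y
  obtain ⟨z, hz⟩ := hsurj' ((g.toNormalization.residueFieldMap pt).hom y)
  refine ⟨z, ?_⟩
  apply (g.toNormalization.residueFieldMap pt).hom.injective
  rw [← hz, hcomp]
  rfl

end


/-- Let X be an integral scheme and X' → X its normalization (integral closure of X in its function
field). Then X' is integral with integrally closed local rings, the morphism X' → X is surjective,
maps the generic point to the generic point and induces a bijection between the residue fields of
the generic points. (The quasi-compactness/quasi-separatedness binders on Spec K(X) → X always hold;
they are only needed to form Mathlib's relative normalization.) -/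
theorem result (X : Scheme.{u}) [IsIntegral X]
    [QuasiCompact (X.fromSpecStalk (genericPoint X))] [QuasiSeparated (X.fromSpecStalk (genericPoint X))] :
    ∃ (_ : IsIntegral (Curv2.normalization X)), Pi1.IsNormalScheme (Curv2.normalization X) ∧ Surjective (Curv2.normalizationι X) ∧
      ∃ hgen : (Curv2.normalizationι X).base (genericPoint (Curv2.normalization X)) = genericPoint X,
        Function.Bijective ((Curv2.normalizationι X).residueFieldMap (genericPoint (Curv2.normalization X))).hom := by
  have hfield : IsField (X.presheaf.stalk (genericPoint X)) :=
    Field.toIsField X.functionField
  haveI : IsIntegral (Spec (X.presheaf.stalk (genericPoint X))) :=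
    inferInstanceAs (IsIntegral (Spec (CommRingCat.of X.functionField)))
  exact normalization_props hfield (X.fromSpecStalk (genericPoint X))
    (IsLocalRing.closedPoint _) X.fromSpecStalk_closedPoint
    (residueFieldMap_surjective_of_stalkMap_surjective _ _
      ((X.fromSpecStalk (genericPoint X)).stalkMap_surjective _))

end Groth.Agent.S2351
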