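import Groth.Statements.S5949
import Mathlib
import Groth.Agent.Lib.Helper13.Normal7
import Groth.Agent.S2351
-- import your own Groth.Agent.* helpers here

set_option autoImplicit false
universe u
open CategoryTheory AlgebraicGeometry
open Unram17

namespace Groth.Agent.S5949

noncomputable section

open AlgebraicGeometry CategoryTheory Limits in
/-- The residue map of a scheme at a point whose stalk is a field is bijective. -/
lemma residue_bijective_of_isField {X : Scheme.{u}} (x : X) (h : IsField (X.presheaf.stalk x)) :
    Function.Bijective (X.residue x).hom := by
  refine ⟨?_, Ideal.Quotient.mk_surjective⟩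
  have hm : IsLocalRing.maximalIdeal (X.presheaf.stalk x) = ⊥ :=
    IsLocalRing.isField_iff_maximalIdeal_eq.mp h
  rw [injective_iff_map_eq_zero]
  intro a ha
  have : a ∈ IsLocalRing.maximalIdeal (X.presheaf.stalk x) := by
    rw [← IsLocalRing.residue_eq_zero_iff]
    exact ha
  rw [hm] at this
  exact this

open AlgebraicGeometry CategoryTheory Limits in
/-- If both stalks are fields and the residue field map is bijective, so is the stalk map. -/
lemma stalkMap_bijective_of_residueFieldMap_bijective {X Y : Scheme.{u}} (f : X ⟶ Y) (x : X)
    (hx : IsField (X.presheaf.stalk x)) (hy : IsField (Y.presheaf.stalk (f x)))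
    (h : Function.Bijective (f.residueFieldMap x).hom) :
    Function.Bijective (f.stalkMap x).hom := by
  have h1 := Scheme.residue_residueFieldMap f x
  have h2 : Function.Bijective ((Y.residue (f x) ≫ f.residueFieldMap x).hom) := by
    rw [CommRingCat.hom_comp, RingHom.coe_comp]
    exact h.comp (residue_bijective_of_isField _ hy)
  rw [h1, CommRingCat.hom_comp, RingHom.coe_comp] at h2
  have h3 := residue_bijective_of_isField x hx
  exact (Function.Bijective.of_comp_iff' h3 _).mp h2

open AlgebraicGeometry CategoryTheory Limits in
/-- The stalk of an integral scheme at a point which is generic is a field. -/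
lemma isField_stalk_of_eq_genericPoint {X : Scheme.{u}} [IsIntegral X] (x : X)
    (hx : x = genericPoint X) : IsField (X.presheaf.stalk x) := by
  subst hx
  exact Field.toIsField X.functionField

open AlgebraicGeometry CategoryTheory Limits in
/-- The normalization morphism of an integral scheme induces an isomorphism on the stalks at the
generic points. -/
theorem isIso_stalkMap_fromNormalization (X : Scheme.{u}) [IsIntegral X]
    [QuasiCompact (X.fromSpecStalk (genericPoint X))]
    [QuasiSeparated (X.fromSpecStalk (genericPoint X))] :
    IsIso ((X.fromSpecStalk (genericPoint X)).fromNormalization.stalkMap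
      (genericPoint (X.fromSpecStalk (genericPoint X)).normalization)) := by
  have hfield : IsField (X.presheaf.stalk (genericPoint X)) :=
    Field.toIsField X.functionField
  haveI : IsIntegral (Spec (X.presheaf.stalk (genericPoint X))) :=
    inferInstanceAs (IsIntegral (Spec (CommRingCat.of X.functionField)))
  obtain ⟨hint, -, -, hgen, hbij⟩ := Groth.Agent.S2351.normalization_props hfield
    (X.fromSpecStalk (genericPoint X))
    (IsLocalRing.closedPoint _) X.fromSpecStalk_closedPoint
    (Groth.Agent.S2351.residueFieldMap_surjective_of_stalkMap_surjective _ _
      ((X.fromSpecStalk (genericPoint X)).stalkMap_surjective _))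
  apply (ConcreteCategory.isIso_iff_bijective _).mpr
  exact stalkMap_bijective_of_residueFieldMap_bijective _ _
    (isField_stalk_of_eq_genericPoint _ rfl) (isField_stalk_of_eq_genericPoint _ hgen) hbij

end


/-- Let X be an integral scheme, X' ⟶ X its normalization (the normalization of X in its function
field), and f : Y ⟶ X a morphism of schemes. Then there is an isomorphism Y ≅ X' over X if and only
if: every local ring of Y is an integrally closed domain, f is an integral morphism, and f is
birational, i.e. Y is irreducible, the fibre of f over the generic point of X consists of the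
generic point of Y alone, and the induced map of local rings at the generic points is an
isomorphism. (The published statement allows X reduced with locally finitely many irreducible
components, the normalization then being taken componentwise; this row states the case of an
integral X. The quasi-compactness and quasi-separatedness binders on the generic point always hold
and only serve to form the normalization.) -/
theorem result (X : Scheme.{u}) [IsIntegral X]
    [QuasiCompact (X.fromSpecStalk (genericPoint X))] [QuasiSeparated (X.fromSpecStalk (genericPoint X))]
    {Y : Scheme.{u}} (f : Y ⟶ X) :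
    (∃ e : Y ≅ Curv2.normalization X, e.hom ≫ Curv2.normalizationι X = f) ↔
      Pi1.IsNormalScheme Y ∧ IsIntegralHom f ∧
        ∃ _ : IrreducibleSpace ↥Y, f.base ⁻¹' {genericPoint X} = {genericPoint Y} ∧
          IsIso (f.stalkMap (genericPoint Y)) := by
  have hfield : IsField (X.presheaf.stalk (genericPoint X)) :=
    Field.toIsField X.functionField
  haveI : IsIntegral (Spec (X.presheaf.stalk (genericPoint X))) :=
    inferInstanceAs (IsIntegral (Spec (CommRingCat.of X.functionField)))
  change (∃ e : Y ≅ (X.fromSpecStalk (genericPoint X)).normalization,
    e.hom ≫ (X.fromSpecStalk (genericPoint X)).fromNormalization = f) ↔ _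
  constructor
  · rintro ⟨e, rfl⟩
    have hnorm : Pi1.IsNormalScheme Y := Groth.Agent.Lib.helper13.Normal.of_iso e
      (Groth.Agent.Lib.helper13.Normal.isNormalScheme_normalization_of_isField hfield _)
    haveI : Nonempty Y :=
      ⟨e.inv (genericPoint (X.fromSpecStalk (genericPoint X)).normalization)⟩
    haveI : IsIntegral Y := isIntegral_of_isOpenImmersion e.hom
    have hgenY : e.hom (genericPoint Y) =
        genericPoint (X.fromSpecStalk (genericPoint X)).normalization :=
      genericPoint_eq_of_isOpenImmersion e.hom
    have hfib := Groth.Agent.Lib.helper13.Normal.fromNormalization_preimage_genericPoint hfield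
      (X.fromSpecStalk (genericPoint X)) (IsLocalRing.closedPoint _) X.fromSpecStalk_closedPoint
    refine ⟨hnorm, inferInstance, inferInstance, ?_, ?_⟩
    · ext y
      simp only [Set.mem_preimage, Set.mem_singleton_iff]
      constructor
      · intro hy
        have h1 : e.hom y ∈ (X.fromSpecStalk (genericPoint X)).fromNormalization ⁻¹'
            {genericPoint X} := hy
        rw [hfib] at h1
        have h2 : e.hom y = e.hom (genericPoint Y) := h1.trans hgenY.symm
        exact e.hom.isOpenEmbedding.injective h2
      · rintro rfl
        show (X.fromSpecStalk (genericPoint X)).fromNormalization (e.hom (genericPoint Y)) = _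
        rw [hgenY]
        exact Groth.Agent.Lib.helper13.Normal.fromNormalization_genericPoint hfield _
          (IsLocalRing.closedPoint _) X.fromSpecStalk_closedPoint
    · rw [Scheme.Hom.stalkMap_comp]
      have : IsIso ((X.fromSpecStalk (genericPoint X)).fromNormalization.stalkMap
          (e.hom (genericPoint Y))) := by
        rw [hgenY]
        exact isIso_stalkMap_fromNormalization X
      refine @IsIso.comp_isIso _ _ _ _ _ _ _ ?_ ?_
      · exact this
      · infer_instance
  · rintro ⟨hY, hint, hirr, hfib, hiso⟩
    haveI := Groth.Agent.Lib.helper13.Normal.isReduced hY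
    haveI : IsIntegral Y := isIntegral_of_irreducibleSpace_of_isReduced Y
    have hfξ : f (genericPoint Y) = genericPoint X := by
      have : genericPoint Y ∈ f ⁻¹' {genericPoint X} := by rw [hfib]; rfl
      exact this
    let ι : X.presheaf.stalk (f (genericPoint Y)) ≅ X.presheaf.stalk (genericPoint X) :=
      X.presheaf.stalkCongr (.of_eq hfξ)
    let Θ : Y.presheaf.stalk (genericPoint Y) ≅ X.presheaf.stalk (genericPoint X) :=
      (asIso (f.stalkMap (genericPoint Y))).symm ≪≫ ι
    let t : Spec X.functionField ⟶ Y := Spec.map Θ.hom ≫ Y.fromSpecStalk (genericPoint Y)
    have ht : t ≫ f = X.fromSpecStalk (genericPoint X) := by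
      simp only [t, Category.assoc]
      rw [← Scheme.SpecMap_stalkMap_fromSpecStalk, ← Spec.map_comp_assoc]
      have h1 : f.stalkMap (genericPoint Y) ≫ Θ.hom = ι.hom := by simp [Θ]
      rw [h1]
      exact Scheme.SpecMap_stalkSpecializes_fromSpecStalk (Inseparable.of_eq hfξ).ge
    let d := (X.fromSpecStalk (genericPoint X)).normalizationDesc t f ht.symm
    have hd1 : d ≫ f = (X.fromSpecStalk (genericPoint X)).fromNormalization :=
      Scheme.Hom.normalizationDesc_comp _ _ _ _
    have hd2 : (X.fromSpecStalk (genericPoint X)).toNormalization ≫ d = t :=
      Scheme.Hom.toNormalization_normalizationDesc _ _ _ _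
    let t' : Spec Y.functionField ⟶ (X.fromSpecStalk (genericPoint X)).normalization :=
      Spec.map Θ.inv ≫ (X.fromSpecStalk (genericPoint X)).toNormalization
    have ht' : t' ≫ d = Y.fromSpecStalk (genericPoint Y) := by
      simp only [t', Category.assoc, hd2, t]
      rw [← Spec.map_comp_assoc, Iso.hom_inv_id, Spec.map_id, Category.id_comp]
    obtain ⟨s', hs', -⟩ := Groth.Agent.Lib.helper13.Normal.extendGen hY d t' ht'
    haveI : IsIso d := Groth.Agent.Lib.helper13.Normal.isIso_of_section d s' hs'
    refine ⟨(asIso d).symm, ?_⟩
    rw [← hd1]
    simp

end Groth.Agent.S5949
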