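import Groth.Statements.S5950
import Mathlib
import Groth.Agent.Lib.Helper13.Normal7
import Groth.Agent.S5949
-- import your own Groth.Agent.* helpers here

set_option autoImplicit false
universe u
open CategoryTheory AlgebraicGeometry
open Unram17

namespace Groth.Agent.S5950

noncomputable section

open AlgebraicGeometry CategoryTheory Limits in
/-- An integral birational morphism from an integral scheme onto an integral normal scheme is an
isomorphism. -/
theorem isIso_of_integral_birational {Y' X' : Scheme.{u}} [IsIntegral Y'] [IsIntegral X']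
    (hX' : Pi1.IsNormalScheme X') (h : Y' ⟶ X') [IsIntegralHom h]
    (hgen : h (genericPoint Y') = genericPoint X')
    (hiso : IsIso (h.stalkMap (genericPoint Y'))) : IsIso h := by
  let ι : X'.presheaf.stalk (h (genericPoint Y')) ≅ X'.presheaf.stalk (genericPoint X') :=
    X'.presheaf.stalkCongr (.of_eq hgen)
  let Θ : Y'.presheaf.stalk (genericPoint Y') ≅ X'.presheaf.stalk (genericPoint X') :=
    (asIso (h.stalkMap (genericPoint Y'))).symm ≪≫ ι
  let t : Spec X'.functionField ⟶ Y' := Spec.map Θ.hom ≫ Y'.fromSpecStalk (genericPoint Y')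
  have ht : t ≫ h = X'.fromSpecStalk (genericPoint X') := by
    simp only [t, Category.assoc]
    rw [← Scheme.SpecMap_stalkMap_fromSpecStalk, ← Spec.map_comp_assoc]
    have h1 : h.stalkMap (genericPoint Y') ≫ Θ.hom = ι.hom := by simp [Θ]
    rw [h1]
    exact Scheme.SpecMap_stalkSpecializes_fromSpecStalk (Inseparable.of_eq hgen).ge
  obtain ⟨s', hs', -⟩ := Groth.Agent.Lib.helper13.Normal.extendGen hX' h t ht
  exact Groth.Agent.Lib.helper13.Normal.isIso_of_section h s' hs'

open AlgebraicGeometry CategoryTheory Limits in
/-- The generic point of a nonempty open subscheme. -/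
lemma genericPoint_opens_val {X : Scheme.{u}} [IsIntegral X] (U : X.Opens) [Nonempty U] :
    (genericPoint U.toScheme).1 = genericPoint X :=
  genericPoint_eq_of_isOpenImmersion U.ι

open AlgebraicGeometry CategoryTheory Limits in
lemma isIso_stalkMap_restrict_iff {X Y : Scheme.{u}} (f : X ⟶ Y) (U : Y.Opens)
    (x : (f ⁻¹ᵁ U).toScheme) : IsIso ((f ∣_ U).stalkMap x) ↔ IsIso (f.stalkMap x.1) := by
  rw [← MorphismProperty.isomorphisms.iff, ← MorphismProperty.isomorphisms.iff]
  exact (MorphismProperty.isomorphisms _).arrow_mk_iso_iff (morphismRestrictStalkMap f U x)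

end


/-- Let X be an integral scheme which has a nonempty (hence dense) open subset at whose points the local
rings are integrally closed, let X' ⟶ X be its normalization, and let f : Y ⟶ X be a morphism of
schemes. Then there is an isomorphism Y ≅ X' over X if and only if: every local ring of Y is an
integrally closed domain, f is an integral morphism, and there is a dense open subset U of X whose
preimage is dense in Y and such that the restriction f⁻¹(U) ⟶ U of f is an isomorphism. (The
published statement allows X reduced with locally finitely many irreducible components and a dense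
normal open subset; this row states the case of an integral X. The quasi-compactness and
quasi-separatedness binders on the generic point always hold and only serve to form the
normalization.) -/
theorem result (X : Scheme.{u}) [IsIntegral X]
    [QuasiCompact (X.fromSpecStalk (genericPoint X))] [QuasiSeparated (X.fromSpecStalk (genericPoint X))]
    (hV : ∃ V : X.Opens, (V : Set ↥X).Nonempty ∧ ∀ x ∈ V, IsIntegrallyClosed (X.presheaf.stalk x))
    {Y : Scheme.{u}} (f : Y ⟶ X) :
    (∃ e : Y ≅ Curv2.normalization X, e.hom ≫ Curv2.normalizationι X = f) ↔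
      Pi1.IsNormalScheme Y ∧ IsIntegralHom f ∧
        ∃ U : X.Opens, Dense (U : Set ↥X) ∧ Dense ((f ⁻¹ᵁ U : Y.Opens) : Set ↥Y) ∧ IsIso (f ∣_ U) := by
  constructor
  · intro he
    obtain ⟨hY, hint, hirr, hfib, hiso⟩ := (Groth.Agent.S5949.result X f).mp he
    obtain ⟨V, hVne, hVn⟩ := hV
    haveI := Groth.Agent.Lib.helper13.Normal.isReduced hY
    haveI : IsIntegral Y := isIntegral_of_irreducibleSpace_of_isReduced Y
    have hfξ : f (genericPoint Y) = genericPoint X := by
      have : genericPoint Y ∈ f ⁻¹' {genericPoint X} := by rw [hfib]; rfl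
      exact this
    have hηV : genericPoint X ∈ V :=
      ((genericPoint_spec X).mem_open_set_iff V.isOpen).mpr (by simpa using hVne)
    have hξW : genericPoint Y ∈ f ⁻¹ᵁ V := by
      show f (genericPoint Y) ∈ V
      rw [hfξ]; exact hηV
    refine ⟨hY, hint, V, V.isOpen.dense hVne, (f ⁻¹ᵁ V).isOpen.dense ⟨_, hξW⟩, ?_⟩
    haveI : Nonempty V := ⟨⟨_, hηV⟩⟩
    haveI : Nonempty (f ⁻¹ᵁ V : Y.Opens) := ⟨⟨_, hξW⟩⟩
    have hVnorm : Pi1.IsNormalScheme V.toScheme := by
      rw [Groth.Agent.Lib.helper13.Normal.isNormalScheme_iff]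
      intro x
      refine Groth.Agent.Lib.helper13.Normal.IsNormalDomain.of_ringEquiv
        (V.stalkIso x).commRingCatIsoToRingEquiv.symm ⟨inferInstance, hVn x.1 x.2⟩
    haveI : IsIntegralHom (f ∣_ V) := IsZariskiLocalAtTarget.restrict hint V
    have hx1 : (genericPoint (f ⁻¹ᵁ V).toScheme).1 = genericPoint Y := genericPoint_opens_val _
    refine isIso_of_integral_birational hVnorm (f ∣_ V) ?_ ?_
    · apply Subtype.ext
      rw [morphismRestrict_base_coe, hx1, hfξ, genericPoint_opens_val]
    · rw [isIso_stalkMap_restrict_iff, hx1]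
      exact hiso
  · rintro ⟨hY, hint, U, hUd, hfUd, hisoU⟩
    apply (Groth.Agent.S5949.result X f).mpr
    haveI := Groth.Agent.Lib.helper13.Normal.isReduced hY
    have hUne : (U : Set X).Nonempty := hUd.nonempty
    have hηU : genericPoint X ∈ U :=
      ((genericPoint_spec X).mem_open_set_iff U.isOpen).mpr (by simpa using hUne)
    haveI : Nonempty U := ⟨⟨_, hηU⟩⟩
    -- the composite `U ≅ f⁻¹U ⟶ Y` has dense range
    let c : U.toScheme ⟶ Y := inv (f ∣_ U) ≫ (f ⁻¹ᵁ U).ι
    have hrange : Set.range c = (f ⁻¹ᵁ U : Set Y) := by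
      have h1 : Set.range (inv (f ∣_ U)) = Set.univ := by
        rw [Set.range_eq_univ]
        exact (inv (f ∣_ U)).surjective
      simp only [c, Scheme.Hom.comp_base, TopCat.coe_comp, Set.range_comp, h1, Set.image_univ]
      simp
    haveI hirr : IrreducibleSpace Y := by
      rw [irreducibleSpace_def]
      have h2 := ((IrreducibleSpace.isIrreducible_univ U.toScheme).image c
        c.continuous.continuousOn).closure
      rw [Set.image_univ, hrange, hfUd.closure_eq] at h2
      exact h2
    haveI : IsIntegral Y := isIntegral_of_irreducibleSpace_of_isReduced Y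
    have hWne : (f ⁻¹ᵁ U : Set Y).Nonempty := hfUd.nonempty
    have hξW : genericPoint Y ∈ f ⁻¹ᵁ U :=
      ((genericPoint_spec Y).mem_open_set_iff (f ⁻¹ᵁ U).isOpen).mpr (by simpa using hWne)
    haveI : Nonempty (f ⁻¹ᵁ U : Y.Opens) := ⟨⟨_, hξW⟩⟩
    have hx1 : (genericPoint (f ⁻¹ᵁ U).toScheme).1 = genericPoint Y := genericPoint_opens_val _
    have hgW : (f ∣_ U) (genericPoint (f ⁻¹ᵁ U).toScheme) = genericPoint U.toScheme :=
      genericPoint_eq_of_isOpenImmersion (f ∣_ U)
    have hfξ : f (genericPoint Y) = genericPoint X := by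
      rw [← hx1, ← morphismRestrict_base_coe, hgW, genericPoint_opens_val]
    refine ⟨hY, hint, hirr, ?_, ?_⟩
    · ext y
      simp only [Set.mem_preimage, Set.mem_singleton_iff]
      constructor
      · intro hy
        have hyW : y ∈ f ⁻¹ᵁ U := by
          show f y ∈ U
          rw [hy]; exact hηU
        have h3 : (f ∣_ U) ⟨y, hyW⟩ = (f ∣_ U) (genericPoint (f ⁻¹ᵁ U).toScheme) := by
          apply Subtype.ext
          rw [morphismRestrict_base_coe, morphismRestrict_base_coe, hx1, hfξ]
          exact hy
        have h4 := (f ∣_ U).isOpenEmbedding.injective h3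
        rw [← hx1, ← h4]
      · rintro rfl
        exact hfξ
    · have h5 : IsIso ((f ∣_ U).stalkMap (genericPoint (f ⁻¹ᵁ U).toScheme)) := inferInstance
      rw [isIso_stalkMap_restrict_iff, hx1] at h5
      exact h5

end Groth.Agent.S5950
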