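import Groth.Statements.S7640
import Mathlib
import Groth.Agent.Lib.Helper18.DegCalc
import Groth.Agent.Lib.Helper18.PullEuler
import Groth.Agent.Lib.Helper18.GenericRankPush
import Groth.Agent.Lib.Helper18.CurveMapFinite
import Groth.Agent.Lib.Helper8.DevInd
import Groth.Agent.S0019

set_option autoImplicit false
universe u
open CategoryTheory CategoryTheory.Limits AlgebraicGeometry
open Variety

namespace Groth.Agent.S7640



/-- Let k be a field, let X and Y be proper curves over k (integral, proper over k, of dimension one)
and let f : X → Y be a morphism over k that is not constant, i.e. sends the generic point of X to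
that of Y. For a finite locally free module E of rank n on Y, the degree of f^*E is deg(X/Y) ·
deg(E), where deg(X/Y) is the degree of the function field of X over that of Y. -/
theorem result (k : Type u) [Field k] (X Y : Scheme.{u})
    [X.Over (Spec (CommRingCat.of k))] [Y.Over (Spec (CommRingCat.of k))] [IsIntegral X] [IsIntegral Y]
    [IsProper (X ↘ (Spec (CommRingCat.of k)))] [IsProper (Y ↘ (Spec (CommRingCat.of k)))]
    (hX : topologicalKrullDim X = 1) (hY : topologicalKrullDim Y = 1)
    (f : X ⟶ Y) (hf : f ≫ (Y ↘ (Spec (CommRingCat.of k))) = X ↘ (Spec (CommRingCat.of k)))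
    (hξ : f.base (genericPoint X) = genericPoint Y)
    (n : ℕ) (E : Y.Modules) (hE : FlatMod.IsFinLocFreeOfRank n E) :
    Curv2.deg k X ((Scheme.Modules.pullback f).obj E) n =
      (f.residueDegree (genericPoint X) : ℤ) * Curv2.deg k Y E n := by
  haveI := Groth.Agent.Lib.Lead.CurveEuler.isNoetherian k X
  haveI := Groth.Agent.Lib.Lead.CurveEuler.isNoetherian k Y
  haveI : IsProper f := by
    haveI : IsProper (f ≫ (Y ↘ (Spec (CommRingCat.of k)))) := by rw [hf]; infer_instance
    exact IsProper.of_comp f (Y ↘ (Spec (CommRingCat.of k)))
  haveI hfin : IsFinite f :=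
    Groth.Agent.Lib.Helper18.CurveMapFinite.isFinite_of_map_genericPoint f hX hY hξ
  have hcl : IsClosedMap f.base := f.isClosedMap
  have hfib := Groth.Agent.Lib.Helper18.CurveMapFinite.eq_genericPoint_of_map_eq f hX hY hξ hcl
  -- `F = f_* O_X`
  set F : Y.Modules := (Scheme.Modules.pushforward f).obj (Coh.structureModule X) with hFdef
  have hF : Coh.IsCoh F :=
    Groth.Agent.S0019.result f _ (Groth.Agent.Lib.helper8.Dev.isCoh_structureModule X)
  have hpf := Groth.Agent.Lib.Helper18.DegCalc.pform_main k Y hY hE F hF
  unfold Groth.Agent.Lib.Helper18.DegCalc.Pform at hpf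
  have h1 := Groth.Agent.Lib.Helper18.PullEuler.euler_pullback k f hf E
    (Groth.Agent.Lib.helper16.FLF.isFinLocFree_of_isFinLocFreeOfRank hE)
  have h2 : Curv2.euler k Y F = Curv2.euler k X (Coh.structureModule X) :=
    Groth.Agent.Lib.Helper18.PullEuler.euler_push k f hf (Coh.structureModule X)
  -- the generic rank
  have hXf : IsField (X.presheaf.stalk (genericPoint X)) := Field.toIsField X.functionField
  have hYf : IsField (Y.presheaf.stalk (f (genericPoint X))) := by
    rw [hξ]
    exact Field.toIsField Y.functionField
  have key : ∀ (y : Y) (_ : f (genericPoint X) = y),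
      Module.finrank (Y.presheaf.stalk y) (F.presheaf.stalk y) =
        f.residueDegree (genericPoint X) := by
    intro y hy
    subst hy
    exact Groth.Agent.Lib.Helper18.GenericRankPush.finrank_stalk_push_structureModule f
      (genericPoint X) hcl hfib hYf hXf
  have hrk : Groth.Agent.Lib.Helper18.DegCalc.grk F = f.residueDegree (genericPoint X) :=
    key _ hξ
  unfold Curv2.deg
  rw [h1, hpf, h2, hrk]
  unfold Curv2.deg
  ring

end Groth.Agent.S7640
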