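import Groth.Statements.S6541
import Mathlib
import Groth.Agent.Lib.Helper18.P1Iso
import Groth.Agent.Lib.Helper18.H0One
import Groth.Agent.Lib.Helper12.AffGen
import Groth.Agent.Lib.Helper9.CurveGG2

set_option autoImplicit false
universe u
open CategoryTheory CategoryTheory.Limits AlgebraicGeometry
open Curves

namespace Groth.Agent.S6541

open Groth.Agent.Lib.Helper18 Groth.Agent.Lib.helper11.InvMod Groth.Agent.Lib.Lead.CurveInv
  Groth.Agent.Lib.Lead.CurveEuler Opposite TopologicalSpace Module in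

/-- Let X be a proper curve over the field k (proper, integral, of dimension one). If the first
cohomology of O_X vanishes and some invertible O_X-module has degree 1, then X is isomorphic to
P^1_k over k. -/
theorem result (k : Type u) [Field k] (X : Scheme.{u}) [X.Over (Spec (CommRingCat.of k))]
    [IsIntegral X] [IsProper (X ↘ (Spec (CommRingCat.of k)))] (hdim : topologicalKrullDim X = 1)
    (h1 : Subsingleton (Coh.HH X (Coh.structureModule X) 1))
    (L : X.Modules) (hL : PicF.IsInvertible L) (hdeg : Curv2.deg k X L 1 = 1) :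
    ∃ e : X ≅ CohB1.ProjSpace 1 k, e.hom ≫ CohB1.ProjSpace.toSpec 1 k = X ↘ (Spec (CommRingCat.of k)) := by
  have hOinv := isInvertible_structureModule X
  have hOc := isCoh_of_isInvertible X hOinv
  have hLc := isCoh_of_isInvertible X hL
  haveI : Module.Finite k (Coh.HH X (Coh.structureModule X) 0) :=
    Groth.Agent.Lib.Lead.ProperEuler.finite_HH k X _ hOc 0
  haveI : Module.Finite k (Coh.HH X L 0) := Groth.Agent.Lib.Lead.ProperEuler.finite_HH k X _ hLc 0
  haveI : Module.Finite k (Coh.HH X L 1) := Groth.Agent.Lib.Lead.ProperEuler.finite_HH k X _ hLc 1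
  have hg0 : finrank k (Coh.HH X (Coh.structureModule X) 1) = 0 := finrank_zero_of_subsingleton
  have hχO := euler_eq k X hdim.le (Coh.structureModule X) hOc.1
  rw [hg0, Nat.cast_zero, sub_zero] at hχO
  have hχL := euler_eq k X hdim.le L hLc.1
  have hdeg' : Curv2.euler k X L - 1 * Curv2.euler k X (Coh.structureModule X) = 1 := hdeg
  -- a nonzero section
  have hL0 : 0 < finrank k (Coh.HH X L 0) := by
    have : (0 : ℤ) < (finrank k (Coh.HH X L 0) : ℤ) := by
      have h0 : (0 : ℤ) ≤ (finrank k (Coh.HH X (Coh.structureModule X) 0) : ℤ) := Int.natCast_nonneg _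
      have h1' : (0 : ℤ) ≤ (finrank k (Coh.HH X L 1) : ℤ) := Int.natCast_nonneg _
      linarith
    exact_mod_cast this
  obtain ⟨s, hs⟩ := Groth.Agent.Lib.Lead.CurveSec.exists_hom_ne_zero_of_finrank_pos k X L hL0
  have hQ := deg_sub_deg k X hdim.le hOinv hL s hs
  rw [deg_structureModule, hdeg, sub_zero] at hQ
  have h0 : finrank k (Coh.HH X (Coh.structureModule X) 0) = 1 :=
    Groth.Agent.Lib.Helper18.H0One.finrank_H0_eq_one_of_finrank_HH_eq_one k X (cokernel s) 0
      (by exact_mod_cast hQ.symm)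
  -- `H¹(L) = 0`, `h⁰(L) = 2`
  have hsurj := Groth.Agent.Lib.helper9.CurveVanish.surjective_H1_of_section k X hdim.le hL s hs
  haveI hL1 : Subsingleton (Coh.HH X L 1) := hsurj.subsingleton
  have hL1' : finrank k (Coh.HH X L 1) = 0 := finrank_zero_of_subsingleton
  have h0L : finrank k (Coh.HH X L 0) = 2 := by
    rw [h0] at hχO
    rw [hL1', Nat.cast_zero, sub_zero] at hχL
    have : (finrank k (Coh.HH X L 0) : ℤ) = 2 := by rw [Nat.cast_one] at hχO; linarith
    exact_mod_cast this
  -- a basis of `Γ(X, L)`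
  letI := HH.sectionsModuleOver k L
  have hfr : finrank k (L.val.obj (op ⊤)) = 2 := (HH.equiv₀Over k L).finrank_eq.symm.trans h0L
  haveI : Module.Finite k (L.val.obj (op ⊤)) := Module.Finite.equiv (HH.equiv₀Over k L)
  let b := Module.finBasisOfFinrankEq k (L.val.obj (op ⊤)) hfr
  let σ : Fin (1 + 1) → (Coh.structureModule X ⟶ L) := fun i =>
    Groth.Agent.Lib.helper12.AmpleBasis.homOfSec L (b i)
  have hsec : ∀ i, Groth.Agent.Lib.helper11.GenLocus.sec (σ i) ⊤ = b i := fun i =>
    (Groth.Agent.Lib.helper12.AmpleBasis.val_homOfSec L (b i) ⊤).trans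
      (Groth.Agent.Lib.helper12.AmpleCoprod.res_self L le_top (b i))
  have hcov : ⨆ i, Groth.Agent.Lib.helper12.ProjUP3.gU σ i = ⊤ := by
    rw [eq_top_iff]
    intro x _
    obtain ⟨t, ht⟩ := Groth.Agent.Lib.helper9.CurveGG2.exists_section_mem_isoLocus k X hdim.le h0 hL
      (by
        have : Curv2.genus k X = 0 := hg0
        rw [this, hdeg]; norm_num) x
    obtain ⟨i, hi⟩ := Groth.Agent.Lib.helper12.ProjUP4.exists_mem_genLocus_of_span hL σ x (by
      rw [eq_top_iff]
      intro m _
      obtain ⟨a, rfl⟩ := Groth.Agent.Lib.helper12.AffGen.exists_smul_germ_of_mem_genLocus t x ht m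
      refine Submodule.smul_mem _ a ?_
      have hrep : (∑ i, (b.repr (Groth.Agent.Lib.helper11.GenLocus.sec t ⊤) i) • b i :
          L.val.obj (op ⊤)) = Groth.Agent.Lib.helper11.GenLocus.sec t ⊤ := b.sum_repr _
      let g : (L.val.obj (op ⊤)) →+ ToType (L.presheaf.stalk x) := (L.presheaf.germ ⊤ x trivial).hom
      have hmem : g (∑ i, (b.repr (Groth.Agent.Lib.helper11.GenLocus.sec t ⊤) i) • b i) ∈
          Submodule.span (X.presheaf.stalk x) (Set.range fun i =>
            (L.presheaf.germ ⊤ x trivial).hom (Groth.Agent.Lib.helper11.GenLocus.sec (σ i) ⊤)) := by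
        rw [map_sum]
        refine Submodule.sum_mem _ fun i _ => ?_
        have hsm : g ((b.repr (Groth.Agent.Lib.helper11.GenLocus.sec t ⊤) i) • b i) =
            (X.presheaf.germ ⊤ x trivial).hom (Coh.toGlobal (X ↘ Spec (CommRingCat.of k))
              (b.repr (Groth.Agent.Lib.helper11.GenLocus.sec t ⊤) i) : Γ(X, ⊤)) •
              (L.presheaf.germ ⊤ x trivial).hom (b i : Γ(L, ⊤)) :=
          Groth.Agent.Lib.helper12.ProjUP4.germ_smul'' L ⊤ x trivial _ _
        rw [hsm]
        refine Submodule.smul_mem _ _ (Submodule.subset_span ⟨i, ?_⟩)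
        simp only [hsec]
      rw [hrep] at hmem
      exact hmem)
    exact Opens.mem_iSup.mpr ⟨i, hi⟩
  exact Groth.Agent.Lib.Helper18.P1Iso.exists_iso_projSpace_one k X hdim L hdeg σ hcov

end Groth.Agent.S6541
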