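import Groth.Statements.S2102
import Mathlib
-- import your own Groth.Agent.* helpers here

set_option autoImplicit false
universe u
open CategoryTheory AlgebraicGeometry
open Mor

namespace Groth.Agent.S2102

section helpers
open TopologicalSpace Opposite
theorem main (X : Scheme.{u}) [IsIntegral X] (hX : Pi1.IsNormalScheme X) :
    IsIntegrallyClosed (Γ(X, ⊤) : Type u) := by
  have hne : Nonempty (⊤ : X.Opens) := ⟨⟨genericPoint X, trivial⟩⟩
  have hinj : Function.Injective (algebraMap Γ(X, ⊤) X.functionField) :=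
    X.germToFunctionField_injective ⊤
  have : FaithfulSMul Γ(X, ⊤) X.functionField :=
    (faithfulSMul_iff_algebraMap_injective _ _).mpr hinj
  suffices IsIntegrallyClosedIn Γ(X, ⊤) X.functionField from
    IsIntegrallyClosed.of_isIntegrallyClosedIn _ X.functionField
  rw [isIntegrallyClosedIn_iff]
  refine ⟨hinj, fun {x} hx => ?_⟩
  have hgenmem : ∀ (U : X.Opens) (p : X), p ∈ U → genericPoint X ∈ U := fun U p hp =>
    ((genericPoint_spec X).mem_open_set_iff U.isOpen).mpr ⟨p, trivial, hp⟩
  -- local sections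
  have hloc : ∀ p : X, ∃ (U : X.Opens) (_ : p ∈ U) (hg : genericPoint X ∈ U) (s : Γ(X, U)),
      X.presheaf.germ U (genericPoint X) hg s = x := by
    intro p
    have hic := (hX p).2
    let _ := TopCat.Presheaf.algebra_section_stalk X.presheaf (⟨p, trivial⟩ : (⊤ : X.Opens))
    have := functionField_isScalarTower X ⊤ (⟨p, trivial⟩ : (⊤ : X.Opens))
    have hxp : IsIntegral (X.presheaf.stalk p) x := hx.tower_top
    obtain ⟨y, hy⟩ := IsIntegrallyClosed.isIntegral_iff.mp hxp
    obtain ⟨U, hp, s, hs⟩ := X.presheaf.exists_germ_eq y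
    refine ⟨U, hp, hgenmem U p hp, s, ?_⟩
    have : Nonempty U := ⟨⟨p, hp⟩⟩
    rw [← hy, ← hs]
    exact (Scheme.algebraMap_germ_eq_germToFunctionField (X := X) hp s).symm
  choose U hpU hgU s hs using hloc
  have compat : TopCat.Presheaf.IsCompatible X.presheaf U s := by
    intro p q
    have hW : genericPoint X ∈ U p ⊓ U q := ⟨hgU p, hgU q⟩
    apply germ_injective_of_isIntegral X (genericPoint X) hW
    rw [TopCat.Presheaf.germ_res_apply, TopCat.Presheaf.germ_res_apply, hs, hs]
  obtain ⟨gl, gl_spec, -⟩ := X.sheaf.existsUnique_gluing' U ⊤ (fun p => homOfLE le_top)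
    (fun p _ => Opens.mem_iSup.mpr ⟨p, hpU p⟩) s compat
  refine ⟨gl, ?_⟩
  have h1 := gl_spec (genericPoint X)
  change X.presheaf.germ ⊤ (genericPoint X) _ gl = x
  rw [← hs (genericPoint X), ← h1]
  exact (TopCat.Presheaf.germ_res_apply X.presheaf (homOfLE le_top) (genericPoint X)
    (hgU (genericPoint X)) gl).symm
end helpers

/-- The ring of global sections of an integral normal scheme is an integrally closed domain. -/
theorem result (X : Scheme.{u}) [IsIntegral X] (hX : Pi1.IsNormalScheme X) :
    IsIntegrallyClosed (Γ(X, ⊤) : Type u) := by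
  exact main X hX

end Groth.Agent.S2102
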