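import Groth.Statements.S17754
import Mathlib
-- import your own Groth.Agent.* helpers here

set_option autoImplicit false
universe u
open CAlg

namespace Groth.Agent.S17754


/-- `R ⧸ m ^ t` is Artinian for a Noetherian local ring (`t ≥ 1`). -/
theorem isArtinianRing_quotient_pow (R : Type u) [CommRing R] [IsNoetherianRing R] [IsLocalRing R]
    (t : ℕ) (ht : t ≠ 0) : IsArtinianRing (R ⧸ IsLocalRing.maximalIdeal R ^ t) := by
  set m := IsLocalRing.maximalIdeal R
  have hne : m ^ t ≠ ⊤ := by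
    intro h
    have h1 : m ^ t ≤ m := Ideal.pow_le_self ht
    rw [h] at h1
    exact (IsLocalRing.maximalIdeal.isMaximal R).ne_top (top_le_iff.mp h1)
  have : Nontrivial (R ⧸ m ^ t) := Ideal.Quotient.nontrivial_iff.mpr hne
  have : IsLocalRing (R ⧸ m ^ t) :=
    IsLocalRing.of_surjective' (Ideal.Quotient.mk (m ^ t)) Ideal.Quotient.mk_surjective
  rw [isArtinianRing_iff_isNilpotent_maximalIdeal]
  refine ⟨t, ?_⟩
  rw [Ideal.zero_eq_bot, eq_bot_iff]
  have h1 : IsLocalRing.maximalIdeal (R ⧸ m ^ t) ≤ m.map (Ideal.Quotient.mk (m ^ t)) := by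
    intro y hy
    obtain ⟨r, rfl⟩ := Ideal.Quotient.mk_surjective y
    refine Ideal.mem_map_of_mem _ ?_
    rw [IsLocalRing.mem_maximalIdeal, mem_nonunits_iff] at hy ⊢
    exact fun hu => hy (hu.map _)
  calc IsLocalRing.maximalIdeal (R ⧸ m ^ t) ^ t ≤ (m.map (Ideal.Quotient.mk (m ^ t))) ^ t :=
        Ideal.pow_right_mono h1 t
    _ = (m ^ t).map (Ideal.Quotient.mk (m ^ t)) := (Ideal.map_pow _ _ _).symm
    _ = ⊥ := Ideal.map_quotient_self _

/-- The chain `I s ⊔ m ^ t` stabilizes. -/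
theorem stab (R : Type u) [CommRing R] [IsNoetherianRing R] [IsLocalRing R]
    (I : ℕ → Ideal R) (hI : Antitone I) (t : ℕ) :
    ∃ S, ∀ s, S ≤ s → I s ⊔ IsLocalRing.maximalIdeal R ^ t = I S ⊔ IsLocalRing.maximalIdeal R ^ t := by
  set m := IsLocalRing.maximalIdeal R
  rcases Nat.eq_zero_or_pos t with rfl | ht
  · exact ⟨0, fun s _ => by simp⟩
  · have := isArtinianRing_quotient_pow R t ht.ne'
    let f : ℕ →o (Submodule (R ⧸ m ^ t) (R ⧸ m ^ t))ᵒᵈ :=
      ⟨fun s => OrderDual.toDual ((I s).map (Ideal.Quotient.mk (m ^ t))),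
        fun a b hab => OrderDual.toDual_le_toDual.mpr (Ideal.map_mono (hI hab))⟩
    obtain ⟨S, hS⟩ := IsArtinian.monotone_stabilizes f
    refine ⟨S, fun s hs => ?_⟩
    have h1 : (I S).map (Ideal.Quotient.mk (m ^ t)) = (I s).map (Ideal.Quotient.mk (m ^ t)) :=
      congrArg OrderDual.ofDual (hS s hs)
    have h2 : ∀ K : Ideal R, K ⊔ m ^ t =
        ((K.map (Ideal.Quotient.mk (m ^ t))).comap (Ideal.Quotient.mk (m ^ t))) := by
      intro K
      rw [Ideal.comap_map_of_surjective _ Ideal.Quotient.mk_surjective, ← RingHom.ker_eq_comap_bot,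
        Ideal.mk_ker]
    rw [h2, h2, h1]

/-- Ideals of a Noetherian local ring are closed. -/
theorem mem_of_forall_mem_sup_pow (R : Type u) [CommRing R] [IsNoetherianRing R] [IsLocalRing R]
    (K : Ideal R) (x : R) (h : ∀ t : ℕ, x ∈ K ⊔ IsLocalRing.maximalIdeal R ^ t) : x ∈ K := by
  set m := IsLocalRing.maximalIdeal R
  have hkrull : ⨅ i : ℕ, m ^ i • (⊤ : Submodule R (R ⧸ K)) = ⊥ :=
    Ideal.iInf_pow_smul_eq_bot_of_isLocalRing m (IsLocalRing.maximalIdeal.isMaximal R).ne_top
  have h1 : (Ideal.Quotient.mk K x : R ⧸ K) ∈ ⨅ i : ℕ, m ^ i • (⊤ : Submodule R (R ⧸ K)) := by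
    rw [Submodule.mem_iInf]
    intro t
    obtain ⟨a, ha, b, hb, rfl⟩ := Submodule.mem_sup.mp (h t)
    have h2 : (Ideal.Quotient.mk K (a + b) : R ⧸ K) = b • (1 : R ⧸ K) := by
      rw [map_add, Ideal.Quotient.eq_zero_iff_mem.mpr ha, zero_add, Algebra.smul_def, mul_one]
      rfl
    rw [h2]
    exact Submodule.smul_mem_smul hb trivial
  rw [hkrull, Submodule.mem_bot] at h1
  exact Ideal.Quotient.eq_zero_iff_mem.mp h1

/-- Let R be a complete Noetherian local ring with maximal ideal m, and let I_0 ⊇ I_1 ⊇ I_2 ⊇ ⋯ be a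
descending sequence of ideals of R whose intersection is zero. Then for every natural number n there
is an index s with I_s contained in m^n; that is, the filtration by the I_s is at least as fine as
the m-adic one. -/
theorem result (R : Type u) [CommRing R] [IsNoetherianRing R] [IsLocalRing R] [IsAdicComplete (IsLocalRing.maximalIdeal R) R] (I : ℕ → Ideal R) (hI : Antitone I) (hinf : ⨅ s, I s = ⊥) (n : ℕ) : ∃ s : ℕ, I s ≤ IsLocalRing.maximalIdeal R ^ n := by
  set m := IsLocalRing.maximalIdeal R with hm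
  by_contra hcon
  push Not at hcon
  choose S hS using stab R I hI
  set J : ℕ → Ideal R := fun t => I (S t) ⊔ m ^ t with hJ
  have ha : ∀ t, J t ≤ J (t + 1) ⊔ m ^ t := by
    intro t
    have h1 : J t = I (max (S t) (S (t + 1))) ⊔ m ^ t := (hS t _ (le_max_left _ _)).symm
    have h2 : I (max (S t) (S (t + 1))) ≤ J (t + 1) := by
      have := hS (t + 1) _ (le_max_right (S t) (S (t + 1)))
      calc I (max (S t) (S (t + 1))) ≤ I (max (S t) (S (t + 1))) ⊔ m ^ (t + 1) := le_sup_left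
        _ = J (t + 1) := this
    rw [h1]
    exact sup_le_sup_right h2 _
  have hb : ∀ t s, J t ≤ I s ⊔ m ^ t := by
    intro t s
    rcases le_total s (S t) with h | h
    · exact sup_le_sup_right (hI h) _
    · exact (hS t s h).symm.le
  -- starting point
  obtain ⟨x0, hx0I, hx0⟩ : ∃ x0 ∈ I (S n), x0 ∉ m ^ n := by
    have := hcon (S n)
    rw [SetLike.not_le_iff_exists] at this
    exact this
  have hx0J : x0 ∈ J n := Ideal.mem_sup_left hx0I
  -- recursive construction
  have step : ∀ (k : ℕ) (y : {y : R // y ∈ J (n + k)}),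
      ∃ y' : {y' : R // y' ∈ J (n + (k + 1))}, y'.1 - y.1 ∈ m ^ (n + k) := by
    rintro k ⟨y, hy⟩
    obtain ⟨u, hu, v, hv, rfl⟩ := Submodule.mem_sup.mp (ha (n + k) hy)
    refine ⟨⟨u, hu⟩, ?_⟩
    have : u - (u + v) = -v := by ring
    simp only [this]
    exact Ideal.neg_mem_iff _ |>.mpr hv
  choose next hnext using step
  let seq : ∀ k : ℕ, {y : R // y ∈ J (n + k)} := fun k =>
    Nat.rec (motive := fun k => {y : R // y ∈ J (n + k)}) ⟨x0, hx0J⟩ (fun k y => next k y) k
  let g : ℕ → R := fun k => (seq k).1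
  have hg0 : g 0 = x0 := rfl
  have hgJ : ∀ k, g k ∈ J (n + k) := fun k => (seq k).2
  have hgstep : ∀ k, g (k + 1) - g k ∈ m ^ (n + k) := fun k => hnext k (seq k)
  have hgn : ∀ k, g k - g 0 ∈ m ^ n := by
    intro k
    induction k with
    | zero => simp
    | succ k ih =>
      have : g (k + 1) - g 0 = (g (k + 1) - g k) + (g k - g 0) := by ring
      rw [this]
      exact Ideal.add_mem _ (Ideal.pow_le_pow_right (Nat.le_add_right n k) (hgstep k)) ih
  have hsmul : ∀ k : ℕ, (m ^ k • (⊤ : Submodule R R)) = m ^ k := fun k => by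
    rw [smul_eq_mul, Ideal.mul_top]
  have hcauchy : ∀ {a b : ℕ}, a ≤ b → g a ≡ g b [SMOD (m ^ a • ⊤ : Submodule R R)] := by
    have hc : AdicCompletion.IsAdicCauchy m R g := (AdicCompletion.isAdicCauchy_iff m R g).mpr (by
      intro k
      rw [SModEq.sub_mem, hsmul]
      have h1 : g k - g (k + 1) = -(g (k + 1) - g k) := by ring
      rw [h1]
      exact (Ideal.neg_mem_iff _).mpr (Ideal.pow_le_pow_right (Nat.le_add_left k n) (hgstep k)))
    exact fun {a b} hab => hc hab
  obtain ⟨x, hx⟩ := IsPrecomplete.prec (I := m) (M := R) inferInstance hcauchy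
  have hx' : ∀ k, g k - x ∈ m ^ k := by
    intro k
    have := hx k
    rwa [SModEq.sub_mem, hsmul] at this
  -- `x ∉ m ^ n`
  have hxn : x ∉ m ^ n := by
    intro hxm
    apply hx0
    have : x0 = x + (g n - x) - (g n - g 0) := by rw [hg0]; ring
    rw [this]
    exact Ideal.sub_mem _ (Ideal.add_mem _ hxm (hx' n)) (hgn n)
  -- `x ∈ I s` for all `s`
  have hxI : ∀ s, x ∈ I s := by
    intro s
    apply mem_of_forall_mem_sup_pow R (I s) x
    intro t
    have h1 : g t ∈ I s ⊔ m ^ t := by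
      have := hb (n + t) s (hgJ t)
      exact (sup_le_sup_left (Ideal.pow_le_pow_right (Nat.le_add_left t n)) (I s)) this
    have h2 : x = g t - (g t - x) := by ring
    rw [h2]
    exact Ideal.sub_mem _ h1 (Ideal.mem_sup_right (hx' t))
  have hx0' : x ∈ (⨅ s, I s) := by
    rw [Ideal.mem_iInf]; exact hxI
  rw [hinf, Ideal.mem_bot] at hx0'
  exact hxn (hx0' ▸ Ideal.zero_mem _)

end Groth.Agent.S17754
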