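import Groth.Statements.S3824
import Mathlib
-- import your own Groth.Agent.* helpers here

set_option autoImplicit false
universe u
open QReg16

namespace Groth.Agent.S3824

section helpers
open MvPolynomial

variable {R : Type u} [CommRing R] {n : ℕ}

/-- linear substitution attached to a matrix -/
noncomputable def sub (M : Matrix (Fin n) (Fin n) R) : Fin n → MvPolynomial (Fin n) R :=
  fun i => ∑ j, C (M i j) * X j

theorem sub_hom (M : Matrix (Fin n) (Fin n) R) (i : Fin n) : (sub M i).IsHomogeneous 1 := by
  unfold sub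
  apply IsHomogeneous.sum
  intro j _
  exact isHomogeneous_C_mul_X _ _

theorem bind_sub (M N : Matrix (Fin n) (Fin n) R) (i : Fin n) :
    bind₁ (sub N) (sub M i) = sub (M * N) i := by
  unfold sub
  simp only [map_sum, map_mul, bind₁_C_right, bind₁_X_right, Matrix.mul_apply, Finset.mul_sum]
  rw [Finset.sum_comm]
  apply Finset.sum_congr rfl
  intro k _
  rw [Finset.sum_mul]
  apply Finset.sum_congr rfl
  intro j _
  ring

theorem sub_one : sub (1 : Matrix (Fin n) (Fin n) R) = X := by
  funext i
  unfold sub
  rw [Finset.sum_eq_single i]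
  · simp
  · intro j _ hji
    rw [Matrix.one_apply_ne (Ne.symm hji)]; simp
  · intro h; exact absurd (Finset.mem_univ i) h

theorem map_sub_mat {S : Type u} [CommRing S] (φ : R →+* S) (M : Matrix (Fin n) (Fin n) R)
    (i : Fin n) : MvPolynomial.map φ (sub M i) = sub (M.map φ) i := by
  unfold sub
  simp [map_sum]

theorem eval_sub (M : Matrix (Fin n) (Fin n) R) (f : Fin n → R) (i : Fin n) :
    eval f (sub M i) = ∑ j, M i j * f j := by
  unfold sub
  simp [map_sum]

theorem coeff_sub (M : Matrix (Fin n) (Fin n) R) (i k : Fin n) :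
    coeff (Finsupp.single k 1) (sub M i) = M i k := by
  classical
  unfold sub
  rw [coeff_sum, Finset.sum_eq_single k]
  · rw [coeff_C_mul, coeff_X, if_pos rfl, mul_one]
  · intro j _ hjk
    rw [coeff_C_mul, coeff_X, if_neg, mul_zero]
    intro h
    exact hjk ((Finsupp.single_left_inj one_ne_zero).1 h)
  · intro h; exact absurd (Finset.mem_univ k) h

theorem main {A : Type u} [CommRing A] {n : ℕ} (f f' : Fin n → A)
    (hf : CAlgX.IsQuasiRegular f) (h : Ideal.span (Set.range f') = Ideal.span (Set.range f)) :
    CAlgX.IsQuasiRegular f' := by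
  classical
  set J := Ideal.span (Set.range f) with hJ
  -- matrices
  have hM : ∀ i, ∃ c : Fin n → A, ∑ j, c j * f j = f' i := fun i =>
    (Ideal.mem_span_range_iff_exists_fun).1 (by rw [← hJ, ← h]; exact Ideal.subset_span ⟨i, rfl⟩)
  have hN : ∀ i, ∃ c : Fin n → A, ∑ j, c j * f' j = f i := fun i =>
    (Ideal.mem_span_range_iff_exists_fun).1 (by rw [h]; exact Ideal.subset_span ⟨i, rfl⟩)
  choose Mf hMf using hM
  choose Nf hNf using hN
  let M : Matrix (Fin n) (Fin n) A := Matrix.of Mf
  let N : Matrix (Fin n) (Fin n) A := Matrix.of Nf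
  have hMf' : ∀ i, ∑ j, M i j * f j = f' i := hMf
  have hNf' : ∀ i, ∑ j, N i j * f' j = f i := hNf
  -- N M ≡ 1 mod J
  have hNM : ∀ i k, (N * M) i k - (1 : Matrix (Fin n) (Fin n) A) i k ∈ J := by
    intro i k
    have hhom : (sub (N * M - 1) i).IsHomogeneous 1 := sub_hom _ i
    have hev : MvPolynomial.eval f (sub (N * M - 1) i) = 0 := by
      rw [eval_sub]
      have h1 : ∑ j, (N * M) i j * f j = f i := by
        rw [← hNf' i]
        simp only [Matrix.mul_apply, Finset.sum_mul]
        rw [Finset.sum_comm]
        apply Finset.sum_congr rfl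
        intro j _
        rw [← hMf' j, Finset.mul_sum]
        apply Finset.sum_congr rfl
        intro k _
        ring
      have h2 : ∑ j, (1 : Matrix (Fin n) (Fin n) A) i j * f j = f i := by
        rw [Finset.sum_eq_single i]
        · simp
        · intro j _ hji
          rw [Matrix.one_apply_ne (Ne.symm hji), zero_mul]
        · intro hi; exact absurd (Finset.mem_univ i) hi
      simp only [Matrix.sub_apply, sub_mul, Finset.sum_sub_distrib, h1, h2, sub_self]
    have := hf 1 (sub (N * M - 1) i) hhom (by rw [hev]; exact Ideal.zero_mem _) (Finsupp.single k 1)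
    rw [coeff_sub] at this
    exact this
  let φ := Ideal.Quotient.mk J
  have hNMbar : N.map φ * M.map φ = 1 := by
    rw [← Matrix.map_mul]
    ext i k
    rw [Matrix.map_apply]
    have : φ ((1 : Matrix (Fin n) (Fin n) A) i k) = (1 : Matrix (Fin n) (Fin n) (A ⧸ J)) i k := by
      by_cases hik : i = k
      · subst hik; simp
      · rw [Matrix.one_apply_ne hik, Matrix.one_apply_ne hik, map_zero]
    rw [← this]
    exact (Ideal.Quotient.eq).2 (hNM i k)
  have hMNbar : M.map φ * N.map φ = 1 := mul_eq_one_comm.1 hNMbar
  -- main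
  intro d P' hP' hmem e
  rw [h] at hmem ⊢
  let P := MvPolynomial.bind₁ (sub M) P'
  have hPhom : P.IsHomogeneous d := by
    have := hP'.aeval (sub M) (fun i => sub_hom M i)
    rw [one_mul] at this
    exact this
  have hPev : MvPolynomial.eval f P = MvPolynomial.eval f' P' := by
    show MvPolynomial.eval f (MvPolynomial.bind₁ (sub M) P') = _
    rw [← MvPolynomial.aeval_eq_eval, ← MvPolynomial.aeval_eq_eval]
    rw [MvPolynomial.aeval_bind₁]
    have hfun : (fun i => MvPolynomial.aeval f (sub M i)) = f' := by
      funext i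
      rw [MvPolynomial.aeval_eq_eval]
      show MvPolynomial.eval f (sub M i) = f' i
      rw [eval_sub, hMf']
    rw [hfun]
  have hcoef := hf d P hPhom (by rw [hPev]; exact hmem)
  have hmap0 : MvPolynomial.map φ P = 0 := by
    ext e'
    rw [MvPolynomial.coeff_map, MvPolynomial.coeff_zero]
    exact (Ideal.Quotient.eq_zero_iff_mem).2 (hcoef e')
  have hQ : MvPolynomial.bind₁ (sub (M.map φ)) (MvPolynomial.map φ P') = 0 := by
    rw [← hmap0]
    show _ = MvPolynomial.map φ (MvPolynomial.bind₁ (sub M) P')
    rw [MvPolynomial.map_bind₁]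
    have hfun : (fun i => MvPolynomial.map φ (sub M i)) = sub (M.map φ) := by
      funext i
      rw [map_sub_mat]
    rw [hfun]
  have hQ' : MvPolynomial.map φ P' = 0 := by
    have := congrArg (MvPolynomial.bind₁ (sub (N.map φ))) hQ
    rw [MvPolynomial.bind₁_bind₁, map_zero] at this
    have hsub : (fun i => MvPolynomial.bind₁ (sub (N.map φ)) (sub (M.map φ) i)) = MvPolynomial.X := by
      funext i
      rw [bind_sub, hMNbar, sub_one]
    rw [hsub, MvPolynomial.bind₁_X_left] at this
    exact this
  have := congrArg (MvPolynomial.coeff e) hQ'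
  rw [MvPolynomial.coeff_map, MvPolynomial.coeff_zero] at this
  exact (Ideal.Quotient.eq_zero_iff_mem).1 this

end helpers

/-- Let f_1, …, f_n be a quasi-regular sequence in a ring A and f'_1, …, f'_n another sequence of the
same length generating the same ideal. Then (f'_i) is quasi-regular. -/
theorem result {A : Type u} [CommRing A] {n : ℕ} (f f' : Fin n → A)
    (hf : CAlgX.IsQuasiRegular f) (h : Ideal.span (Set.range f') = Ideal.span (Set.range f)) :
    CAlgX.IsQuasiRegular f' := by
  exact main f f' hf h

end Groth.Agent.S3824
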