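import Groth.Statements.S0611
import Groth.Agent.Lib.Helper11.QuasiReg3
import Groth.Agent.S3824

set_option autoImplicit false
universe u
open RRAlg

namespace Groth.Agent.S0611

/-- In a Noetherian local ring, any minimal generating set of an ideal generated by a regular sequence
is again a regular sequence: if a₁, …, aₙ is a regular sequence and b₁, …, bₙ are n elements
generating the same ideal, then b₁, …, bₙ is a regular sequence. (A regular sequence of length n
generating an ideal I is a minimal generating set of I, so "minimal" amounts to "of length n".) -/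
theorem result {A : Type u} [CommRing A] [IsLocalRing A] [IsNoetherianRing A]
    {n : ℕ} (a b : Fin n → A) (ha : RingTheory.Sequence.IsRegular A (List.ofFn a))
    (hab : Ideal.span (Set.range a) = Ideal.span (Set.range b)) :
    RingTheory.Sequence.IsRegular A (List.ofFn b) := by
  have hspan : ∀ g : Fin n → A, Ideal.ofList (List.ofFn g) = Ideal.span (Set.range g) :=
    fun g => (Groth.Agent.Lib.helper11.QuasiReg.span_range_eq_ofList g).symm
  have hqa : CAlgX.IsQuasiRegular a :=
    Groth.Agent.Lib.helper11.QuasiReg.QR_of_isWeaklyRegular n a ha.toIsWeaklyRegular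
  have hqb : CAlgX.IsQuasiRegular b := Groth.Agent.S3824.result a b hqa hab.symm
  have hne : Ideal.span (Set.range b) ≠ ⊤ := by
    intro htop
    apply ha.top_ne_smul
    rw [hspan, hab, htop, smul_eq_mul, Ideal.mul_top]
  have hrad : Ideal.span (Set.range b) ≤ (⊥ : Ideal A).jacobson := by
    rw [IsLocalRing.jacobson_eq_maximalIdeal ⊥ bot_ne_top]
    exact IsLocalRing.le_maximalIdeal hne
  refine ⟨Groth.Agent.Lib.helper11.QuasiReg.isWeaklyRegular_of_QR n b hrad hqb, ?_⟩
  rw [hspan, smul_eq_mul, Ideal.mul_top]
  exact fun h => hne h.symm

end Groth.Agent.S0611
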