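import Groth.Statements.S9146
import Groth.Agent.LibSyntTransport29
import Groth.Agent.Lib.Helper17.CIField7
-- import your own Groth.Agent.* helpers here

set_option autoImplicit false
universe u
open Synt

namespace Groth.Agent.S9146

open TensorProduct Groth.Agent.Lib.helper17.CIField


/-- Being syntomic is local on the target ring: if finitely many elements of S generating the unit ideal
have syntomic localizations R → S_g, then R → S is syntomic. -/
theorem result (R S : Type u) [CommRing R] [CommRing S] [Algebra R S]
    (s : Finset S) (hs : Ideal.span (s : Set S) = ⊤)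
    (h : ∀ g ∈ s, Synt.IsSyntomic R (Localization.Away g)) : Synt.IsSyntomic R S := by
  have hfl : Module.Flat R S :=
    Module.flat_of_isLocalized_span S S (s : Set S) hs (fun r => Localization.Away r.1)
      (fun r => Algebra.linearMap S (Localization.Away r.1)) (fun r => (h r.1 r.2).1)
  have hfp : Algebra.FinitePresentation R S :=
    Algebra.FinitePresentation.of_span_eq_top_target s hs (fun g hg => (h g hg).2.1)
  refine ⟨hfl, hfp, fun p => ?_⟩
  have : Algebra.FiniteType p.asIdeal.ResidueField (p.asIdeal.Fiber S) := inferInstance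
  rw [isLCIOver_iff_forall_isCIOver]
  intro Q
  have hex : ∃ g ∈ s, ((1 : p.asIdeal.ResidueField) ⊗ₜ[R] g) ∉ Q.asIdeal := by
    by_contra hcon
    push Not at hcon
    have h1 : Ideal.map (Algebra.TensorProduct.includeRight : S →ₐ[R] p.asIdeal.Fiber S)
        (Ideal.span (s : Set S)) = ⊤ := by rw [hs, Ideal.map_top]
    rw [Ideal.map_span] at h1
    have h2 : Ideal.span ((Algebra.TensorProduct.includeRight : S →ₐ[R] p.asIdeal.Fiber S) ''
        (s : Set S)) ≤ Q.asIdeal := by
      rw [Ideal.span_le]
      rintro _ ⟨g, hg, rfl⟩
      exact hcon g hg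
    rw [h1] at h2
    exact Q.2.ne_top (top_le_iff.mp h2)
  obtain ⟨g, hg, hgQ⟩ := hex
  have hlci' : Synt.IsLCIOver p.asIdeal.ResidueField
      (Localization.Away ((1 : p.asIdeal.ResidueField) ⊗ₜ[R] g)) :=
    Groth.Agent.LibSyntTransport29.isLCIOver_of_algEquiv
      (IsLocalization.Away.tensorProductEquivTMulRight R p.asIdeal.ResidueField g
        (Localization.Away g)) ((h g hg).2.2 p)
  exact isCIOver_atPrime_of_isLCIOver_away p.asIdeal.ResidueField _ Q.asIdeal hgQ hlci'

end Groth.Agent.S9146
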