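import Mathlib
import Groth.Prelude.Def_RegImm
import Groth.Agent.LibSyntTransport29
import Groth.Agent.Lib.Helper17.CIField11
import Groth.Agent.S9146

/-!
# Syntomic ring maps as a local property of ring homomorphisms (helper29)

* `Q f` : the ring hom `f` is syntomic (`Synt.IsSyntomic` for the algebra structure `f.toAlgebra`).
* `fiberEquivOfIsLocalization` : `κ(p) ⊗_R T ≃ κ(p') ⊗_{R'} T` for `R'` a localization of `R`.
* `propertyIsLocal : RingHom.PropertyIsLocal Q`.
-/

set_option autoImplicit false
set_option linter.style.haveILetI false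
universe u

namespace Groth.Agent.LibSyntHomProp29

open TensorProduct Groth.Agent.Lib.helper17.CIField

section FibreLoc

variable {R R' T : Type u} [CommRing R] [CommRing R'] [CommRing T]
  [Algebra R R'] [Algebra R' T] [Algebra R T] [IsScalarTower R R' T]
  (M : Submonoid R) [IsLocalization M R']
  (p' : Ideal R') [p'.IsPrime] (p : Ideal R) [p.IsPrime] (hp : p = p'.comap (algebraMap R R'))

include M in
theorem residueFieldMap_bijective :
    Function.Bijective (Ideal.ResidueField.map p p' (algebraMap R R') hp) :=
  (RingHom.surjectiveOnStalks_of_isLocalization M R').residueFieldMap_bijective p p' hp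

/-- `κ(p) ≃ κ(p')` as `R`-algebras when `R'` is a localization of `R` and `p = p' ∩ R`. -/
noncomputable def residueFieldEquiv : p.ResidueField ≃ₐ[R] p'.ResidueField :=
  AlgEquiv.ofBijective (Ideal.ResidueField.mapₐ p p' (Algebra.ofId R R') hp)
    (residueFieldMap_bijective M p' p hp)

/-- `κ(p) ⊗_R T ≃ κ(p') ⊗_{R'} T` for an `R'`-algebra `T`. -/
noncomputable def fiberEquiv : p.Fiber T ≃+* p'.Fiber T :=
  ((Algebra.TensorProduct.congr (residueFieldEquiv M p' p hp)
      (AlgEquiv.refl (R := R) (A₁ := T))).toRingEquiv).trans
    (IsLocalization.algebraTensorEquiv M R' p'.ResidueField T).symm.toRingEquiv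

theorem fiberEquiv_algebraMap (c : p.ResidueField) :
    fiberEquiv (T := T) M p' p hp (algebraMap p.ResidueField (p.Fiber T) c) =
      algebraMap p'.ResidueField (p'.Fiber T) ((residueFieldEquiv M p' p hp).toRingEquiv c) := by
  rw [Algebra.TensorProduct.algebraMap_apply, Algebra.TensorProduct.algebraMap_apply]
  simp only [fiberEquiv, Algebra.algebraMap_self, RingHom.id_apply, RingEquiv.trans_apply,
    AlgEquiv.coe_ringEquiv, Algebra.TensorProduct.congr_apply, Algebra.TensorProduct.map_tmul]
  rfl

include M hp in
/-- The fibre of an `R'`-algebra `T` over `p'` is LCI iff its fibre over `p = p' ∩ R` as an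
`R`-algebra is, for `R'` a localization of `R`. -/
theorem isLCIOver_fiber_iff_of_isLocalization :
    Synt.IsLCIOver p.ResidueField (p.Fiber T) ↔ Synt.IsLCIOver p'.ResidueField (p'.Fiber T) := by
  constructor
  · intro h
    exact isLCIOver_transfer (residueFieldEquiv M p' p hp).toRingEquiv
      (fiberEquiv (T := T) M p' p hp) (fiberEquiv_algebraMap M p' p hp) h
  · intro h
    refine isLCIOver_transfer (residueFieldEquiv M p' p hp).toRingEquiv.symm
      (fiberEquiv (T := T) M p' p hp).symm (fun c => ?_) h
    obtain ⟨c', rfl⟩ := (residueFieldEquiv M p' p hp).toRingEquiv.surjective c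
    rw [← fiberEquiv_algebraMap, RingEquiv.symm_apply_apply, RingEquiv.symm_apply_apply]

end FibreLoc

section AlgebraLevel

/-- A localization `T = S_s` of a syntomic `R`-algebra `S` is syntomic over `R`. -/
theorem isSyntomic_of_isLocalization_away {R S T : Type u} [CommRing R] [CommRing S] [CommRing T]
    [Algebra R S] [Algebra S T] [Algebra R T] [IsScalarTower R S T] (s : S)
    [IsLocalization.Away s T] (h : Synt.IsSyntomic R S) : Synt.IsSyntomic R T := by
  obtain ⟨hfl, hfp, hfib⟩ := h
  haveI : Module.Flat S T := IsLocalization.flat T (Submonoid.powers s)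
  haveI : Algebra.FinitePresentation S T := IsLocalization.Away.finitePresentation s
  refine ⟨Module.Flat.trans R S T, Algebra.FinitePresentation.trans R S T, fun p => ?_⟩
  exact Groth.Agent.LibSyntTransport29.isLCIOver_of_algEquiv
    (IsLocalization.Away.tensorProductEquivTMulRight R p.asIdeal.ResidueField s T).symm
    (isLCIOver_away p.asIdeal.ResidueField _ (hfib p))

/-- If `R'` is a localization of `R` and `T` is an `R'`-algebra which is syntomic over `R`, then `T`
is syntomic over `R'`. -/
theorem isSyntomic_of_isLocalization_base {R R' T : Type u} [CommRing R] [CommRing R'] [CommRing T]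
    [Algebra R R'] [Algebra R' T] [Algebra R T] [IsScalarTower R R' T]
    (M : Submonoid R) [IsLocalization M R'] (h : Synt.IsSyntomic R T) : Synt.IsSyntomic R' T := by
  obtain ⟨hfl, hfp, hfib⟩ := h
  refine ⟨?_, ?_, fun p' => ?_⟩
  · exact Module.Flat.of_linearEquiv (IsLocalization.moduleLid M R' T).symm
  · exact Algebra.FinitePresentation.equiv (IsLocalization.algebraLid M R' T)
  · exact (isLCIOver_fiber_iff_of_isLocalization (T := T) M p'.asIdeal
      (p'.asIdeal.comap (algebraMap R R')) rfl).mp
        (hfib ⟨p'.asIdeal.comap (algebraMap R R'), inferInstance⟩)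

/-- If `R' = R_r` and `T` is syntomic over `R'`, then `T` is syntomic over `R`. -/
theorem isSyntomic_comp_isLocalization_away {R R' T : Type u} [CommRing R] [CommRing R']
    [CommRing T] [Algebra R R'] [Algebra R' T] [Algebra R T] [IsScalarTower R R' T]
    (r : R) [IsLocalization.Away r R'] (h : Synt.IsSyntomic R' T) : Synt.IsSyntomic R T := by
  obtain ⟨hfl, hfp, hfib⟩ := h
  haveI : Module.Flat R R' := IsLocalization.flat R' (Submonoid.powers r)
  haveI : Algebra.FinitePresentation R R' := IsLocalization.Away.finitePresentation r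
  haveI hfpT : Algebra.FinitePresentation R T := Algebra.FinitePresentation.trans R R' T
  refine ⟨Module.Flat.trans R R' T, hfpT, fun p => ?_⟩
  by_cases hr : r ∈ p.asIdeal
  · -- the fibre is the zero ring
    have hu : IsUnit (algebraMap R T r) := by
      rw [IsScalarTower.algebraMap_apply R R' T]
      exact (IsLocalization.Away.algebraMap_isUnit r).map _
    have h0 : ((1 : p.asIdeal.ResidueField) ⊗ₜ[R] (algebraMap R T r)) = 0 := by
      rw [Algebra.algebraMap_eq_smul_one, ← TensorProduct.smul_tmul, Algebra.smul_def, mul_one,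
        Ideal.algebraMap_residueField_eq_zero.mpr hr, TensorProduct.zero_tmul]
    have hu' : IsUnit ((1 : p.asIdeal.ResidueField) ⊗ₜ[R] (algebraMap R T r)) :=
      hu.map (Algebra.TensorProduct.includeRight : T →ₐ[R] p.asIdeal.Fiber T)
    rw [h0] at hu'
    haveI : Subsingleton (p.asIdeal.Fiber T) := subsingleton_of_zero_eq_one
      ((isUnit_zero_iff.mp hu'))
    exact ⟨inferInstance, fun q => (q.2.ne_top (Subsingleton.elim _ _)).elim⟩
  · have hdisj : Disjoint (Submonoid.powers r : Set R) (p.asIdeal : Set R) := by
      rw [Set.disjoint_left]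
      rintro _ ⟨n, rfl⟩ hmem
      exact hr (p.2.mem_of_pow_mem n hmem)
    haveI hp' : (p.asIdeal.map (algebraMap R R')).IsPrime :=
      IsLocalization.isPrime_of_isPrime_disjoint (Submonoid.powers r) R' _ p.2 hdisj
    have hcomap : p.asIdeal = (p.asIdeal.map (algebraMap R R')).comap (algebraMap R R') :=
      (IsLocalization.under_map_of_isPrime_disjoint (Submonoid.powers r) R' p.2 hdisj).symm
    exact (isLCIOver_fiber_iff_of_isLocalization (T := T) (Submonoid.powers r)
      (p.asIdeal.map (algebraMap R R')) p.asIdeal hcomap).mpr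
        (hfib ⟨p.asIdeal.map (algebraMap R R'), hp'⟩)

end AlgebraLevel

section HomLevel

/-- Syntomic ring homomorphisms. -/
def Q {R S : Type u} [CommRing R] [CommRing S] (f : R →+* S) : Prop :=
  letI := f.toAlgebra
  Synt.IsSyntomic R S

theorem Q_algebraMap_iff {R S : Type u} [CommRing R] [CommRing S] [Algebra R S] :
    Q (algebraMap R S) ↔ Synt.IsSyntomic R S := by
  unfold Q
  rw [toAlgebra_algebraMap]

theorem Q.flat {R S : Type u} [CommRing R] [CommRing S] {f : R →+* S} (h : Q f) : f.Flat := h.1

theorem Q.finitePresentation {R S : Type u} [CommRing R] [CommRing S] {f : R →+* S} (h : Q f) :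
    f.FinitePresentation := h.2.1

theorem stableUnderCompositionWithLocalizationAwayTarget :
    RingHom.StableUnderCompositionWithLocalizationAwayTarget @Q := by
  intro R S T _ _ _ _ s _ f hf
  letI := f.toAlgebra
  letI := ((algebraMap S T).comp f).toAlgebra
  haveI : IsScalarTower R S T := IsScalarTower.of_algebraMap_eq' rfl
  exact isSyntomic_of_isLocalization_away s hf

theorem stableUnderCompositionWithLocalizationAwaySource :
    RingHom.StableUnderCompositionWithLocalizationAwaySource @Q := by
  intro R S T _ _ _ _ r _ f hf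
  letI := f.toAlgebra
  letI := (f.comp (algebraMap R S)).toAlgebra
  haveI : IsScalarTower R S T := IsScalarTower.of_algebraMap_eq' rfl
  exact isSyntomic_comp_isLocalization_away r hf

theorem localizationAwayPreserves : RingHom.LocalizationAwayPreserves @Q := by
  intro R S _ _ f r R' S' _ _ _ _ _ _ hf
  letI := f.toAlgebra
  letI := (IsLocalization.Away.map R' S' f r).toAlgebra
  letI := ((algebraMap S S').comp f).toAlgebra
  haveI : IsScalarTower R S S' := IsScalarTower.of_algebraMap_eq' rfl
  haveI : IsScalarTower R R' S' := IsScalarTower.of_algebraMap_eq' (by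
    change (algebraMap S S').comp f = (IsLocalization.Away.map R' S' f r).comp (algebraMap R R')
    exact (IsLocalization.map_comp _).symm)
  have h1 : Synt.IsSyntomic R S' := isSyntomic_of_isLocalization_away (f r) hf
  exact isSyntomic_of_isLocalization_base (Submonoid.powers r) h1

theorem ofLocalizationSpanTarget : RingHom.OfLocalizationSpanTarget @Q := by
  rw [RingHom.ofLocalizationSpanTarget_iff_finite]
  intro R S _ _ f s hs h
  letI := f.toAlgebra
  refine Groth.Agent.S9146.result R S s hs (fun g hg => ?_)
  have h1 := h ⟨g, hg⟩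
  have heq : (inferInstance : Algebra R (Localization.Away g)) =
      ((algebraMap S (Localization.Away g)).comp f).toAlgebra :=
    Algebra.algebra_ext _ _ (fun r => IsScalarTower.algebraMap_apply R S (Localization.Away g) r)
  unfold Q at h1
  rw [← heq] at h1
  exact h1

theorem ofLocalizationSpan : RingHom.OfLocalizationSpan @Q :=
  ofLocalizationSpanTarget.ofLocalizationSpan stableUnderCompositionWithLocalizationAwaySource

theorem propertyIsLocal : RingHom.PropertyIsLocal @Q where
  localizationAwayPreserves := localizationAwayPreserves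
  ofLocalizationSpanTarget := ofLocalizationSpanTarget
  ofLocalizationSpan := ofLocalizationSpan
  StableUnderCompositionWithLocalizationAwayTarget :=
    stableUnderCompositionWithLocalizationAwayTarget

end HomLevel

section SchemeLevel

open AlgebraicGeometry CategoryTheory

/-- "Syntomic" as a morphism property of schemes, defined affine-locally. -/
def SyntP : MorphismProperty Scheme.{u} := affineLocally @Q

instance hasRingHomProperty : HasRingHomProperty SyntP.{u} @Q := ⟨propertyIsLocal, rfl⟩

theorem isSyntomicMor_iff_syntP {X S : Scheme.{u}} (f : X ⟶ S) :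
    Synt.IsSyntomicMor f ↔ SyntP f := by
  rw [HasRingHomProperty.iff_exists_appLE (P := SyntP)
    stableUnderCompositionWithLocalizationAwaySource]
  constructor
  · intro h x
    obtain ⟨U, V, e, hxU, hsyn⟩ := h x
    exact ⟨V, U, hxU, e, hsyn⟩
  · intro h x
    obtain ⟨V, U, hxU, e, hsyn⟩ := h x
    exact ⟨U, V, e, hxU, hsyn⟩

theorem isSyntomicMor_iff_forall {X S : Scheme.{u}} (f : X ⟶ S) :
    Synt.IsSyntomicMor f ↔
      ∀ (U : X.affineOpens) (V : S.affineOpens) (e : U.1 ≤ f ⁻¹ᵁ V.1),
        Q (f.appLE V.1 U.1 e).hom := by
  rw [isSyntomicMor_iff_syntP, HasRingHomProperty.iff_appLE (P := SyntP)]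
  exact ⟨fun h U V e => h V U e, fun h V U e => h U V e⟩

end SchemeLevel

end Groth.Agent.LibSyntHomProp29
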