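import Groth.Agent.LibSyntColim29
import Groth.Agent.LibSyntHomProp29
import Groth.Agent.LibSyntTransport29
import Mathlib.RingTheory.Extension.Presentation.Core

/-!
# Finitely generated models of syntomic algebras (helper29)

`exists_fg_model`: a syntomic `B`-algebra `C` is the base change of a syntomic algebra `C₀` over a
finitely generated `ℤ`-subalgebra `B₀ ⊆ B`.
-/

set_option autoImplicit false
set_option linter.style.haveILetI false
universe u

namespace Groth.Agent.LibSyntFPModel29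

open TensorProduct MvPolynomial Groth.Agent.LibASys29 Groth.Agent.LibRelGCI29

section Sys

variable {B : Type u} [CommRing B] (B₁ : Subalgebra ℤ B)

/-- index type: finitely generated subalgebras containing `B₁`. -/
def Idx : Type u := {B' : Subalgebra ℤ B // B₁ ≤ B' ∧ B'.FG}

/-- the stage ring. -/
def Stage (i : Idx B₁) : Type u := ↥i.1

noncomputable instance (i : Idx B₁) : CommRing (Stage B₁ i) := inferInstanceAs (CommRing ↥i.1)

noncomputable instance (i : Idx B₁) : Algebra B₁ (Stage B₁ i) :=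
  (Subalgebra.inclusion i.2.1).toRingHom.toAlgebra

noncomputable instance (i : Idx B₁) : Algebra (Stage B₁ i) B := inferInstanceAs (Algebra ↥i.1 B)

instance (i : Idx B₁) : IsScalarTower B₁ (Stage B₁ i) B :=
  IsScalarTower.of_algebraMap_eq (fun _ => rfl)

/-- the structure map to `B`. -/
noncomputable def stageMap (i : Idx B₁) : Stage B₁ i →ₐ[B₁] B :=
  { (i.1.val : ↥i.1 →ₐ[ℤ] B).toRingHom with commutes' := fun _ => rfl }

lemma stageMap_apply (i : Idx B₁) (x : Stage B₁ i) : stageMap B₁ i x = algebraMap (Stage B₁ i) B x :=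
  rfl

lemma stageMap_injective (i : Idx B₁) : Function.Injective (stageMap B₁ i) :=
  Subtype.val_injective

/-- transition maps -/
noncomputable def trans {i j : Idx B₁} (h : i.1 ≤ j.1) : Stage B₁ i →ₐ[B₁] Stage B₁ j :=
  { (Subalgebra.inclusion h).toRingHom with commutes' := fun _ => rfl }

lemma stageMap_comp_trans {i j : Idx B₁} (h : i.1 ≤ j.1) :
    (stageMap B₁ j).comp (trans B₁ h) = stageMap B₁ i := by
  ext x
  rfl

theorem aSys (hfg : B₁.FG) : ASys B₁ (Stage B₁) (stageMap B₁) where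
  nonempty := ⟨⟨B₁, le_rfl, hfg⟩⟩
  surj a := by
    have h1 : (Algebra.adjoin ℤ ({a} : Set B)).FG :=
      Subalgebra.fg_def.mpr ⟨{a}, Set.finite_singleton a, rfl⟩
    refine ⟨⟨B₁ ⊔ Algebra.adjoin ℤ {a}, le_sup_left, hfg.sup h1⟩, ⟨a, ?_⟩, rfl⟩
    exact (le_sup_right : Algebra.adjoin ℤ {a} ≤ _) (Algebra.subset_adjoin (Set.mem_singleton a))
  dir i j := ⟨⟨i.1 ⊔ j.1, i.2.1.trans le_sup_left, i.2.2.sup j.2.2⟩,
    trans B₁ (i := i) (j := ⟨i.1 ⊔ j.1, i.2.1.trans le_sup_left, i.2.2.sup j.2.2⟩) le_sup_left,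
    trans B₁ (i := j) (j := ⟨i.1 ⊔ j.1, i.2.1.trans le_sup_left, i.2.2.sup j.2.2⟩) le_sup_right,
    stageMap_comp_trans B₁ _, stageMap_comp_trans B₁ _⟩
  ker i x hx := by
    have : x = 0 := stageMap_injective B₁ i (by rw [hx, map_zero])
    exact ⟨i, AlgHom.id _ _, AlgHom.comp_id _, by rw [this, map_zero]⟩

end Sys

/-- A syntomic algebra is the base change of a syntomic algebra over a finitely generated
`ℤ`-subalgebra of the base. -/
theorem exists_fg_model {B C : Type u} [CommRing B] [CommRing C] [Algebra B C]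
    (h : Synt.IsSyntomic B C) :
    ∃ (B₀ : Subalgebra ℤ B) (C₀ : Type u) (_ : CommRing C₀) (_ : Algebra B₀ C₀),
      B₀.FG ∧ Synt.IsSyntomic B₀ C₀ ∧ Nonempty (C ≃ₐ[B] B ⊗[B₀] C₀) := by
  haveI : Algebra.FinitePresentation B C := h.2.1
  let P := Algebra.Presentation.ofFinitePresentation B C
  let B₁ : Subalgebra ℤ B := P.core
  have hfg : B₁.FG := Subalgebra.fg_def.mpr ⟨_, P.finite_coeffs, rfl⟩
  have hS := aSys B₁ hfg
  have hr : ∀ j, ∃ q : MvPolynomial (Fin (Algebra.Presentation.ofFinitePresentationVars B C)) B₁,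
      MvPolynomial.map (algebraMap B₁ B) q = P.relation j := by
    intro j
    refine (MvPolynomial.mem_range_map_iff_coeffs_subset (f := algebraMap B₁ B)
      (x := P.relation j)).mpr ?_
    intro b hb
    exact ⟨⟨b, P.coeffs_relation_subset_core j hb⟩, rfl⟩
  choose r' hr' using hr
  have hFbar : Fbar B r' = P.relation := funext hr'
  let e₁ : Synt.RelGCIRing B _ _ (Fbar B r') ≃ₐ[B] C :=
    (Ideal.quotientEquivAlgOfEq B (by rw [hFbar, P.span_range_relation_eq_ker])).trans
      (P.quotientEquiv.restrictScalars B)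
  have hsyn' : Synt.IsSyntomic B (Synt.RelGCIRing B _ _ (Fbar B r')) :=
    Groth.Agent.LibSyntTransport29.isSyntomic_of_algEquiv e₁.symm h
  obtain ⟨i, hi⟩ := hS.exists_isSyntomic_presentation _ _ r' hsyn'
  have hFF : Fbar B (Fbar (Stage B₁ i) r') = P.relation := by
    funext j
    rw [← hr' j]
    show MvPolynomial.map _ (MvPolynomial.map _ (r' j)) = _
    rw [MvPolynomial.map_map, ← IsScalarTower.algebraMap_eq]
  let e₂ : Synt.RelGCIRing B _ _ (Fbar B (Fbar (Stage B₁ i) r')) ≃ₐ[B] C :=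
    (Ideal.quotientEquivAlgOfEq B (by rw [hFF, P.span_range_relation_eq_ker])).trans
      (P.quotientEquiv.restrictScalars B)
  exact ⟨i.1, Synt.RelGCIRing (Stage B₁ i) _ _ (Fbar (Stage B₁ i) r'), inferInstance,
    (inferInstance : Algebra (Stage B₁ i) (Synt.RelGCIRing (Stage B₁ i) _ _
      (Fbar (Stage B₁ i) r'))), i.2.2, hi,
    ⟨((tensorEquiv B (Fbar (Stage B₁ i) r')).trans e₂).symm⟩⟩

end Groth.Agent.LibSyntFPModel29
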