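import Mathlib
import Groth.Agent.LibSyntFPModel29
import Groth.Agent.Lib.Helper3.FlatDescK
import Groth.Agent.Lib.Helper3.FlatDescF
import Groth.Agent.Lib.Helper9.ModelDescendGen

/-!
# Finitely generated models of flat finitely presented algebras; flat morphisms descend to a finite
stage of a cofiltered limit (helper29, on top of helper3's `FlatDescK`)

* `exists_fg_model_flat`: a flat finitely presented `B`-algebra `C` is the base change of a flat
  finitely presented algebra `C₀` over a finitely generated `ℤ`-subalgebra `B₀ ⊆ B`.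
* `hasFPModel_flatFP`, `exists_flat_stageMap`, `exists_stage_of_flat`.
-/

set_option autoImplicit false
set_option linter.style.haveILetI false
universe u

namespace Groth.Agent.LibFlatFPModel29

open TensorProduct MvPolynomial Groth.Agent.Lib.helper3.FlatDesc Groth.Agent.LibRelGCI29
  Groth.Agent.LibSyntFPModel29

section ModelEquiv

variable {R : Type u} [CommRing R] {n c : ℕ} (F : Fin c → MvPolynomial (Fin n) R)

/-- the family `F` as a family of vectors of length one. -/
def vec : Fin c → (Fin 1 → MvPolynomial (Fin n) R) := fun j _ => F j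

/-- helper3's model with `b = 1` is the quotient ring `R[x]/(F)`. -/
noncomputable def modelEquiv :
    ((Fin 1 → MvPolynomial (Fin n) R) ⧸ NB (vec F)) ≃ₗ[MvPolynomial (Fin n) R]
      (MvPolynomial (Fin n) R ⧸ Ideal.span (Set.range F)) :=
  Submodule.Quotient.equiv (NB (vec F)) (Ideal.span (Set.range F))
    (LinearEquiv.funUnique (Fin 1) (MvPolynomial (Fin n) R) (MvPolynomial (Fin n) R)) (by
      rw [NB, Submodule.map_span]
      congr 1
      ext x
      constructor
      · rintro ⟨_, ⟨j, rfl⟩, rfl⟩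
        exact ⟨j, rfl⟩
      · rintro ⟨j, rfl⟩
        exact ⟨vec F j, ⟨j, rfl⟩, rfl⟩)

theorem flat_model_iff :
    Module.Flat R ((Fin 1 → MvPolynomial (Fin n) R) ⧸ NB (vec F)) ↔
      Module.Flat R (MvPolynomial (Fin n) R ⧸ Ideal.span (Set.range F)) :=
  ⟨fun _ => Module.Flat.of_linearEquiv ((modelEquiv F).restrictScalars R).symm,
    fun _ => Module.Flat.of_linearEquiv ((modelEquiv F).restrictScalars R)⟩

theorem vmap_vec (S : Type u) [CommRing S] [Algebra R S] :
    vmap S (vec F) = vec (Fbar S F) := rfl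

end ModelEquiv

/-- **A flat finitely presented algebra is the base change of a flat finitely presented algebra
over a finitely generated `ℤ`-subalgebra of the base** (EGA IV 11.2.6.1, algebra form). -/
theorem exists_fg_model_flat {B C : Type u} [CommRing B] [CommRing C] [Algebra B C]
    [Module.Flat B C] [Algebra.FinitePresentation B C] :
    ∃ (B₀ : Subalgebra ℤ B) (C₀ : Type u) (_ : CommRing C₀) (_ : Algebra B₀ C₀),
      B₀.FG ∧ Module.Flat B₀ C₀ ∧ Algebra.FinitePresentation B₀ C₀ ∧
        Nonempty (C ≃ₐ[B] B ⊗[B₀] C₀) := by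
  let P := Algebra.Presentation.ofFinitePresentation B C
  let B₁ : Subalgebra ℤ B := P.core
  have hfg : B₁.FG := Subalgebra.fg_def.mpr ⟨_, P.finite_coeffs, rfl⟩
  have hr : ∀ j, ∃ q : MvPolynomial (Fin (Algebra.Presentation.ofFinitePresentationVars B C)) B₁,
      MvPolynomial.map (algebraMap B₁ B) q = P.relation j := by
    intro j
    refine (MvPolynomial.mem_range_map_iff_coeffs_subset (f := algebraMap B₁ B)
      (x := P.relation j)).mpr ?_
    intro b hb
    exact ⟨⟨b, P.coeffs_relation_subset_core j hb⟩, rfl⟩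
  choose r' hr' using hr
  have hFbar : Fbar B r' = P.relation := funext hr'
  let e₁ : Synt.RelGCIRing B _ _ (Fbar B r') ≃ₐ[B] C :=
    (Ideal.quotientEquivAlgOfEq B (by rw [hFbar, P.span_range_relation_eq_ker])).trans
      (P.quotientEquiv.restrictScalars B)
  have hflat1 : Module.Flat B (Synt.RelGCIRing B _ _ (Fbar B r')) :=
    Module.Flat.of_linearEquiv e₁.toLinearEquiv
  haveI : Algebra.FiniteType ℤ B₁ := (Subalgebra.fg_iff_finiteType B₁).mp hfg
  haveI : IsNoetherianRing B₁ := Algebra.FiniteType.isNoetherianRing ℤ B₁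
  have hmodel : Module.Flat B ((Fin 1 → MvPolynomial (Fin _) B) ⧸ NB (vmap B (vec r'))) := by
    rw [vmap_vec, flat_model_iff]
    exact hflat1
  obtain ⟨B', hB'fg, hB'flat⟩ := exists_fg_subalgebra_flat_model (vec r') hmodel
  -- the index
  have hle : B₁ ≤ B'.restrictScalars ℤ := by
    intro x hx
    exact B'.algebraMap_mem ⟨x, hx⟩
  have hfg' : (B'.restrictScalars ℤ).FG := by
    haveI : Algebra.FiniteType B₁ B' := (Subalgebra.fg_iff_finiteType B').mp hB'fg
    have h1 : Algebra.FiniteType ℤ B' := Algebra.FiniteType.trans (S := B₁) inferInstance inferInstance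
    exact (Subalgebra.fg_iff_finiteType (B'.restrictScalars ℤ)).mpr h1
  let i : Idx B₁ := ⟨B'.restrictScalars ℤ, hle, hfg'⟩
  let ρ : ↥B' →+* Stage B₁ i :=
    RingHom.codRestrict (B'.val : ↥B' →+* B) (B'.restrictScalars ℤ) (fun x => x.2)
  letI : Algebra ↥B' (Stage B₁ i) := ρ.toAlgebra
  haveI : IsScalarTower B₁ ↥B' (Stage B₁ i) := IsScalarTower.of_algebraMap_eq (fun _ => rfl)
  have h2 := flat_model_baseChange (B' := Stage B₁ i) (vmap ↥B' (vec r')) hB'flat
  rw [vmap_vmap (vec r') ↥B', vmap_vec, flat_model_iff] at h2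
  have hFF : Fbar B (Fbar (Stage B₁ i) r') = P.relation := by
    funext j
    rw [← hr' j]
    show MvPolynomial.map _ (MvPolynomial.map _ (r' j)) = _
    rw [MvPolynomial.map_map, ← IsScalarTower.algebraMap_eq]
  let e₂ : Synt.RelGCIRing B _ _ (Fbar B (Fbar (Stage B₁ i) r')) ≃ₐ[B] C :=
    (Ideal.quotientEquivAlgOfEq B (by rw [hFF, P.span_range_relation_eq_ker])).trans
      (P.quotientEquiv.restrictScalars B)
  have hfp : Algebra.FinitePresentation (Stage B₁ i)
      (Synt.RelGCIRing (Stage B₁ i) _ _ (Fbar (Stage B₁ i) r')) :=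
    Algebra.FinitePresentation.quotient (Submodule.fg_span (Set.finite_range _))
  exact ⟨i.1, Synt.RelGCIRing (Stage B₁ i) _ _ (Fbar (Stage B₁ i) r'), inferInstance,
    (inferInstance : Algebra (Stage B₁ i) (Synt.RelGCIRing (Stage B₁ i) _ _
      (Fbar (Stage B₁ i) r'))), i.2.2, h2, hfp,
    ⟨((tensorEquiv B (Fbar (Stage B₁ i) r')).trans e₂).symm⟩⟩

end Groth.Agent.LibFlatFPModel29

namespace Groth.Agent.LibFlatFPModel29

open AlgebraicGeometry CategoryTheory Limits
open Groth.Agent.Lib.helper9 Groth.Agent.Lib.helper9.ModelAlg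

/-- flat and locally of finite presentation. -/
abbrev FlatFP : MorphismProperty Scheme.{u} := @Flat ⊓ @LocallyOfFinitePresentation

instance : HasRingHomProperty FlatFP.{u} (fun f => f.Flat ∧ f.FinitePresentation) :=
  HasRingHomProperty.inf

theorem hasFPModel_flatFP : HasFPModel FlatFP.{u} := by
  refine hasFPModel_of_alg FlatFP (fun f => f.Flat ∧ f.FinitePresentation) ?_
  intro B C _ _ _ h
  haveI : Module.Flat B C := RingHom.flat_algebraMap_iff.mp h.1
  haveI : Algebra.FinitePresentation B C := RingHom.finitePresentation_algebraMap.mp h.2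
  obtain ⟨B₀, C₀, _, _, h1, h2, h3, h4⟩ := exists_fg_model_flat (B := B) (C := C)
  exact ⟨B₀, C₀, inferInstance, inferInstance, h1,
    ⟨RingHom.flat_algebraMap_iff.mpr h2, RingHom.finitePresentation_algebraMap.mpr h3⟩, h3, h4⟩

section general

variable {I : Type u} [SmallCategory I] [IsCofiltered I] (D : I ⥤ Scheme.{u}) (c : Cone D)
  (hc : IsLimit c) [hD : ∀ (i j : I) (f : i ⟶ j), IsAffineHom (D.map f)]

include hc in
/-- Flat morphisms locally of finite presentation descend along cofiltered limits with affine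
transition maps. -/
theorem exists_flatFP_stageMap (i₀ : I) {X₀ Y₀ : Scheme.{u}} (f₀ : X₀ ⟶ Y₀) (g₀ : Y₀ ⟶ D.obj i₀)
    [CompactSpace X₀] [LocallyOfFinitePresentation f₀]
    (h : FlatFP (stageMap (c.π.app i₀) f₀ g₀)) :
    ∃ l : Over i₀, FlatFP (stageMap (D.map l.hom) f₀ g₀) :=
  (affineDescent_of_hasFPModel D c hc FlatFP hasFPModel_flatFP).exists_stageMap_of_local D c
    (fun f j _ hf => ⟨by have : Flat f := hf.1; exact (inferInstance : Flat (f ≫ j)),
      by have : LocallyOfFinitePresentation f := hf.2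
         exact (inferInstance : LocallyOfFinitePresentation (f ≫ j))⟩) i₀ f₀ g₀ h

include hc in
/-- Stage form of flat descent. -/
theorem exists_stage_of_flat (i₀ : I) {X₀ Y₀ : Scheme.{u}} (f₀ : X₀ ⟶ Y₀)
    (g₀ : Y₀ ⟶ D.obj i₀) [CompactSpace X₀] [LocallyOfFinitePresentation f₀]
    {X Y : Scheme.{u}} (f : X ⟶ Y) (g : Y ⟶ c.pt) (qY : Y ⟶ Y₀) (qX : X ⟶ X₀)
    (hY : IsPullback qY g g₀ (c.π.app i₀)) (hX : IsPullback qX f f₀ qY) [Flat f] :
    ∃ (j : I) (φ : j ⟶ i₀) (Xj Yj : Scheme.{u}) (fj : Xj ⟶ Yj) (gj : Yj ⟶ D.obj j)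
      (pY : Yj ⟶ Y₀) (pX : Xj ⟶ X₀), IsPullback pY gj g₀ (D.map φ) ∧ IsPullback pX fj f₀ pY ∧
        Flat fj := by
  have hlfp : LocallyOfFinitePresentation f :=
    MorphismProperty.of_isPullback (P := @LocallyOfFinitePresentation) hX inferInstance
  have h' : FlatFP (stageMap (c.π.app i₀) f₀ g₀) :=
    (stageMap_iff_of_isPullback FlatFP hY hX).mpr ⟨inferInstance, hlfp⟩
  obtain ⟨l, hl⟩ := exists_flatFP_stageMap D c hc i₀ f₀ g₀ h'
  exact ⟨l.left, l.hom, _, _, stageMap (D.map l.hom) f₀ g₀,
    pullback.fst (D.map l.hom) g₀, pullback.snd (D.map l.hom) g₀,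
    pullback.snd (D.map l.hom) (f₀ ≫ g₀),
    isPullback_stage_base (D.map l.hom) g₀,
    isPullback_stageMap (D.map l.hom) f₀ g₀, hl.1⟩

end general

end Groth.Agent.LibFlatFPModel29
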