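import Groth.Statements.S4761
import Groth.Agent.Lib.Helper25.ConstrCompact

set_option autoImplicit false
universe u
open CategoryTheory AlgebraicGeometry
open Lim8

namespace Groth.Agent.S4761

open Topology in
/-- If the part of a constructible set `Z` inside a compact open window `K` and outside an open `V`
has empty preimage in the limit, it already has empty preimage at some finite stage. -/
theorem lemE {I : Type u} [SmallCategory I] [IsCofiltered I]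
    (D : I ⥤ Scheme.{u}) (c : Limits.Cone D) (hc : Limits.IsLimit c)
    [inst : ∀ {i j : I} (f : i ⟶ j), IsAffineHom (D.map f)] (j : I)
    (K : (D.obj j).Opens) (hK : IsCompact (K : Set (D.obj j))) (V : (D.obj j).Opens)
    (Z : Set (D.obj j)) (hZ : IsConstructible Z) :
    (⇑(c.π.app j) ⁻¹' (((K : Set (D.obj j)) ∩ Z) \ (V : Set (D.obj j))) : Set c.pt) = ∅ →
      ∃ (k : I) (φ : k ⟶ j),
        (⇑(D.map φ) ⁻¹' (((K : Set (D.obj j)) ∩ Z) \ (V : Set (D.obj j))) : Set (D.obj k)) = ∅ := by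
  induction Z, hZ using BooleanSubalgebra.closure_sdiff_sup_induction with
  | isSublattice =>
    exact ⟨fun s hs t ht ↦ ⟨hs.1.union ht.1, hs.2.union ht.2⟩,
      fun s hs t ht ↦ ⟨hs.1.inter ht.1, hs.2.inter_isOpen ht.2 ht.1⟩⟩
  | bot_mem => exact ⟨isOpen_empty, .empty⟩
  | top_mem => exact ⟨isOpen_univ, .univ⟩
  | sdiff U hU U' hU' =>
    intro h
    have hKU : IsCompact (U ∩ (K : Set (D.obj j))) := hU.2 hK K.2
    let Uo : (D.obj j).Opens := ⟨U ∩ (K : Set (D.obj j)), hU.1.inter K.2⟩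
    let Vo : (D.obj j).Opens := ⟨U' ∪ (V : Set (D.obj j)), hU'.1.union V.2⟩
    have H : c.π.app j ⁻¹ᵁ Uo ≤ c.π.app j ⁻¹ᵁ Vo := by
      intro x hx
      by_contra hx'
      have hx1 : c.π.app j x ∈ U ∩ (K : Set (D.obj j)) := hx
      have hx2 : c.π.app j x ∉ U' ∪ (V : Set (D.obj j)) := hx'
      have : x ∈ (⇑(c.π.app j) ⁻¹' (((K : Set (D.obj j)) ∩ (U \ U')) \ (V : Set (D.obj j))) :
          Set c.pt) :=
        ⟨⟨hx1.2, hx1.1, fun h' => hx2 (Or.inl h')⟩, fun h' => hx2 (Or.inr h')⟩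
      rw [h] at this
      exact this
    obtain ⟨k, φ, hk⟩ := exists_map_preimage_le_map_preimage D c hc (U := Uo) (V := Vo) hKU H
    refine ⟨k, φ, ?_⟩
    rw [Set.eq_empty_iff_forall_notMem]
    rintro x ⟨⟨hxK, hxU, hxU'⟩, hxV⟩
    have : x ∈ D.map φ ⁻¹ᵁ Vo := hk (show x ∈ D.map φ ⁻¹ᵁ Uo from ⟨hxU, hxK⟩)
    rcases this with h' | h'
    · exact hxU' h'
    · exact hxV h'
  | sup s _ t _ hs' ht' =>
    intro h
    have hs0 : (⇑(c.π.app j) ⁻¹' (((K : Set (D.obj j)) ∩ s) \ (V : Set (D.obj j))) : Set c.pt) = ∅ := by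
      rw [Set.eq_empty_iff_forall_notMem] at h ⊢
      rintro x ⟨⟨hxK, hxs⟩, hxV⟩
      exact h x ⟨⟨hxK, Or.inl hxs⟩, hxV⟩
    have ht0 : (⇑(c.π.app j) ⁻¹' (((K : Set (D.obj j)) ∩ t) \ (V : Set (D.obj j))) : Set c.pt) = ∅ := by
      rw [Set.eq_empty_iff_forall_notMem] at h ⊢
      rintro x ⟨⟨hxK, hxt⟩, hxV⟩
      exact h x ⟨⟨hxK, Or.inr hxt⟩, hxV⟩
    obtain ⟨k₁, φ₁, h₁⟩ := hs' hs0
    obtain ⟨k₂, φ₂, h₂⟩ := ht' ht0
    obtain ⟨k, a, b, hab⟩ := IsCofiltered.cospan φ₁ φ₂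
    refine ⟨k, a ≫ φ₁, ?_⟩
    rw [Set.eq_empty_iff_forall_notMem] at h₁ h₂ ⊢
    rintro x ⟨⟨hxK, hxst⟩, hxV⟩
    rcases hxst with hxs | hxt
    · apply h₁ (D.map a x)
      have e : D.map (a ≫ φ₁) x = D.map φ₁ (D.map a x) := by
        rw [D.map_comp]; rfl
      rw [e] at hxK hxs hxV
      exact ⟨⟨hxK, hxs⟩, hxV⟩
    · apply h₂ (D.map b x)
      have e : D.map (a ≫ φ₁) x = D.map φ₂ (D.map b x) := by
        rw [hab, D.map_comp]; rfl
      rw [e] at hxK hxt hxV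
      exact ⟨⟨hxK, hxt⟩, hxV⟩

/-- Let S = lim S_i be a cofiltered limit of schemes with affine transition maps, let S_{i₁} be a
quasi-compact stage and Z₁ a constructible subset of S_{i₁}. Then the preimage of Z₁ in S is open if
and only if, for some index j over i₁, the preimage of Z₁ in S_j is open. -/
theorem result {I : Type u} [SmallCategory I] [IsCofiltered I]
    (D : I ⥤ Scheme.{u}) (c : Limits.Cone D) (hc : Limits.IsLimit c)
    [∀ (i j : I) (f : i ⟶ j), IsAffineHom (D.map f)] (i₁ : I)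
    [CompactSpace (D.obj i₁)] (Z₁ : Set (D.obj i₁)) (hZ : Topology.IsConstructible Z₁) :
    IsOpen (⇑(c.π.app i₁) ⁻¹' Z₁ : Set c.pt) ↔ ∃ (j : I) (φ : j ⟶ i₁), IsOpen (⇑(D.map φ) ⁻¹' Z₁) := by
  have inst : ∀ {i j : I} (f : i ⟶ j), IsAffineHom (D.map f) := fun {i j} f => inferInstance
  constructor
  · intro hWo
    have haff : ∀ i, IsAffineHom (c.π.app i) := fun i => isAffineHom_π_app D c hc i
    have : CompactSpace c.pt := QuasiCompact.compactSpace_of_compactSpace (c.π.app i₁)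
    have hWconstr : Topology.IsConstructible (⇑(c.π.app i₁) ⁻¹' Z₁ : Set c.pt) :=
      (c.π.app i₁).isConstructible_preimage hZ
    have hWc : IsCompact (⇑(c.π.app i₁) ⁻¹' Z₁ : Set c.pt) :=
      Groth.Agent.Lib.helper25.isCompact_of_isConstructible hWconstr
    obtain ⟨i, V, hV, hVW⟩ := exists_preimage_eq D c hc ⟨_, hWo⟩ hWc
    have hVW' : (⇑(c.π.app i) ⁻¹' (V : Set (D.obj i)) : Set c.pt) = ⇑(c.π.app i₁) ⁻¹' Z₁ :=
      congrArg (fun U : c.pt.Opens => (U : Set c.pt)) hVW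
    -- common stage j
    let j := IsCofiltered.min i i₁
    let a : j ⟶ i := IsCofiltered.minToLeft i i₁
    let φ : j ⟶ i₁ := IsCofiltered.minToRight i i₁
    have : CompactSpace (D.obj j) := QuasiCompact.compactSpace_of_compactSpace (D.map φ)
    let Vj : (D.obj j).Opens := D.map a ⁻¹ᵁ V
    have hVj : IsCompact (Vj : Set (D.obj j)) :=
      QuasiCompact.isCompact_preimage (f := D.map a) _ V.2 hV
    have hZj : Topology.IsConstructible (⇑(D.map φ) ⁻¹' Z₁ : Set (D.obj j)) :=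
      (D.map φ).isConstructible_preimage hZ
    have e1 : ∀ x : c.pt, D.map a (c.π.app j x) = c.π.app i x := fun x => by
      rw [← c.w a]; rfl
    have e2 : ∀ x : c.pt, D.map φ (c.π.app j x) = c.π.app i₁ x := fun x => by
      rw [← c.w φ]; rfl
    have hmem : ∀ x : c.pt, c.π.app j x ∈ (Vj : Set (D.obj j)) ↔
        c.π.app j x ∈ (⇑(D.map φ) ⁻¹' Z₁ : Set (D.obj j)) := by
      intro x
      show D.map a (c.π.app j x) ∈ (V : Set (D.obj i)) ↔ D.map φ (c.π.app j x) ∈ Z₁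
      rw [e1, e2]
      exact Set.ext_iff.mp hVW' x
    obtain ⟨k₁, ψ₁, h₁⟩ := lemE D c hc j Vj hVj ⊥ (⇑(D.map φ) ⁻¹' Z₁)ᶜ hZj.compl (by
      rw [Set.eq_empty_iff_forall_notMem]
      rintro x ⟨⟨hxV, hxZ⟩, -⟩
      exact hxZ ((hmem x).mp hxV))
    obtain ⟨k₂, ψ₂, h₂⟩ := lemE D c hc j ⊤ CompactSpace.isCompact_univ Vj (⇑(D.map φ) ⁻¹' Z₁) hZj (by
      rw [Set.eq_empty_iff_forall_notMem]
      rintro x ⟨⟨-, hxZ⟩, hxV⟩
      exact hxV ((hmem x).mpr hxZ))
    obtain ⟨k, a', b', hab⟩ := IsCofiltered.cospan ψ₁ ψ₂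
    refine ⟨k, (a' ≫ ψ₁) ≫ φ, ?_⟩
    have heq : (⇑(D.map ((a' ≫ ψ₁) ≫ φ)) ⁻¹' Z₁ : Set (D.obj k)) =
        ⇑(D.map (a' ≫ ψ₁)) ⁻¹' (Vj : Set (D.obj j)) := by
      rw [Set.eq_empty_iff_forall_notMem] at h₁ h₂
      ext x
      have e3 : D.map ((a' ≫ ψ₁) ≫ φ) x = D.map φ (D.map (a' ≫ ψ₁) x) := by
        rw [D.map_comp]; rfl
      have e4 : D.map (a' ≫ ψ₁) x = D.map ψ₁ (D.map a' x) := by
        rw [D.map_comp]; rfl
      have e5 : D.map (a' ≫ ψ₁) x = D.map ψ₂ (D.map b' x) := by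
        rw [hab, D.map_comp]; rfl
      constructor
      · intro hx
        have hx' : D.map φ (D.map (a' ≫ ψ₁) x) ∈ Z₁ := by rw [← e3]; exact hx
        by_contra hxV
        apply h₂ (D.map b' x)
        refine ⟨⟨trivial, ?_⟩, ?_⟩
        · show D.map φ (D.map ψ₂ (D.map b' x)) ∈ Z₁
          rw [← e5]; exact hx'
        · intro h'
          apply hxV
          show D.map (a' ≫ ψ₁) x ∈ (Vj : Set (D.obj j))
          rw [e5]; exact h'
      · intro hx
        have hx' : D.map (a' ≫ ψ₁) x ∈ (Vj : Set (D.obj j)) := hx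
        show D.map ((a' ≫ ψ₁) ≫ φ) x ∈ Z₁
        rw [e3]
        by_contra hxZ
        apply h₁ (D.map a' x)
        refine ⟨⟨?_, ?_⟩, fun h' => h'⟩
        · show D.map ψ₁ (D.map a' x) ∈ (Vj : Set (D.obj j))
          rw [← e4]; exact hx'
        · intro h'
          apply hxZ
          have : D.map φ (D.map ψ₁ (D.map a' x)) ∈ Z₁ := h'
          rw [← e4] at this
          exact this
    rw [heq]
    exact Vj.2.preimage (D.map (a' ≫ ψ₁)).continuous
  · rintro ⟨j, φ, hopen⟩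
    have h1 : c.π.app j ≫ D.map φ = c.π.app i₁ := c.w φ
    have : (⇑(c.π.app i₁) ⁻¹' Z₁ : Set c.pt) = ⇑(c.π.app j) ⁻¹' (⇑(D.map φ) ⁻¹' Z₁) := by
      rw [← h1]; rfl
    rw [this]
    exact hopen.preimage (c.π.app j).continuous

end Groth.Agent.S4761
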