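import Groth.Statements.S4764
-- import your own Groth.Agent.* helpers here
import Groth.Agent.Lib.Helper9.FlatLimit

set_option autoImplicit false
universe u
open CategoryTheory AlgebraicGeometry
open Lim8

namespace Groth.Agent.S4764

/-- Let S = lim S_i be a cofiltered limit of schemes with affine transition maps and let i be an index
such that every transition map S_j ⟶ S_i is flat. Then the canonical projection S ⟶ S_i is flat. -/
theorem result {I : Type u} [SmallCategory I] [IsCofiltered I]
    (D : I ⥤ Scheme.{u}) (c : Limits.Cone D) (hc : Limits.IsLimit c)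
    [∀ (i j : I) (f : i ⟶ j), IsAffineHom (D.map f)] (i : I)
    (hf : ∀ (j : I) (φ : j ⟶ i), Flat (D.map φ)) : Flat (c.π.app i) := by
  have hD : ∀ {i j : I} (f : i ⟶ j), IsAffineHom (D.map f) := fun f => inferInstance
  have hπ : IsAffineHom (c.π.app i) := isAffineHom_π_app D c hc i
  refine IsZariskiLocalAtTarget.of_iSup_eq_top (P := @Flat)
    (fun U : (D.obj i).affineOpens => U.1) (iSup_affineOpens_eq_top _) (fun U => ?_)
  let DX : Over i ⥤ Scheme.{u} := opensDiagram D i U.1
  let cX : Limits.Cone DX := opensCone D c i U.1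
  have hcX : Limits.IsLimit cX := isLimitOpensCone D c hc i U.1
  have affU : IsAffine U.1.toScheme := U.2
  have affX : ∀ j : Over i, IsAffine (DX.obj j) := fun j => U.2.preimage (D.map j.hom)
  have affc : IsAffine cX.pt := U.2.preimage (c.π.app i)
  let F : ∀ j : Over i, DX.obj j ⟶ U.1.toScheme := fun j => D.map j.hom ∣_ U.1
  let Fc : cX.pt ⟶ U.1.toScheme := c.π.app i ∣_ U.1
  have hFm : ∀ {j j' : Over i} (m : j' ⟶ j), DX.map m ≫ F j = F j' := by
    intro j j' m
    show (D.map m.left).resLE _ _ _ ≫ (D.map j.hom ∣_ U.1) = D.map j'.hom ∣_ U.1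
    rw [← Scheme.Hom.resLE_eq_morphismRestrict, ← Scheme.Hom.resLE_eq_morphismRestrict,
      Scheme.Hom.resLE_comp_resLE]
    congr 1
    rw [← D.map_comp, Over.w m]
  have hFc : ∀ j : Over i, cX.π.app j ≫ F j = Fc := by
    intro j
    show (c.π.app j.left).resLE _ _ _ ≫ (D.map j.hom ∣_ U.1) = c.π.app i ∣_ U.1
    rw [← Scheme.Hom.resLE_eq_morphismRestrict, ← Scheme.Hom.resLE_eq_morphismRestrict,
      Scheme.Hom.resLE_comp_resLE]
    congr 1
    exact c.w j.hom
  have hfl : ∀ j : Over i, (F j).appTop.hom.Flat := by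
    intro j
    have h1 : Flat (D.map j.hom ∣_ U.1) :=
      IsZariskiLocalAtTarget.restrict (P := @Flat) (hf j.left j.hom) U.1
    exact (HasRingHomProperty.iff_of_isAffine (P := @Flat)).mp h1
  have key : Fc.appTop.hom.Flat :=
    Groth.Agent.Lib.helper9.flat_appTop_of_forall_flat_appTop cX F Fc hFm hFc
      (fun s => exists_appTop_π_eq_of_isAffine_of_isLimit DX cX hcX s)
      (fun j s hs => exists_appTop_map_eq_zero_of_isAffine_of_isLimit DX cX hcX j s hs) hfl
  have affc' : IsAffine (c.π.app i ⁻¹ᵁ U.1).toScheme := U.2.preimage (c.π.app i)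
  exact (HasRingHomProperty.iff_of_isAffine (P := @Flat) (f := c.π.app i ∣_ U.1)).mpr key

end Groth.Agent.S4764
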