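import Groth.Statements.S7401
import Groth.Agent.Lib.Helper2.UnivHomeoElem
import Groth.Agent.Lib.Helper2.ChainList
import Mathlib.Algebra.CharP.Lemmas

set_option autoImplicit false
universe u
open CategoryTheory AlgebraicGeometry
open Mor

namespace Groth.Agent.S7401

open Groth.Agent.Lib.helper2.UnivHomeoElem Groth.Agent.Lib.helper2.ChainList
open Groth.Agent.Lib.helper2

section

variable {A B : Type u} [CommRing A] [CommRing B] [Algebra A B]

def Step : Subalgebra A B → B → Prop := fun S b =>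
  (b ^ 2 ∈ S ∧ b ^ 3 ∈ S) ∨ ∃ p : ℕ, p.Prime ∧ (p : B) * b ∈ S ∧ b ^ p ∈ S

theorem step_mono (S S' : Subalgebra A B) (b : B) (h : S ≤ S') (hs : Step S b) : Step S' b := by
  rcases hs with hs | ⟨p, hp, h1, h2⟩
  · exact Or.inl ⟨h hs.1, h hs.2⟩
  · exact Or.inr ⟨p, hp, h h1, h h2⟩

theorem step_fin (C : Subalgebra A B) (b : B) (h : Step C b) :
    ∃ F : Finset B, (↑F : Set B) ⊆ C ∧ ∀ S : Subalgebra A B, (↑F : Set B) ⊆ S → Step S b := by
  classical
  rcases h with h | ⟨p, hp, h1, h2⟩
  · refine ⟨{b ^ 2, b ^ 3}, ?_, fun S hS => Or.inl ⟨hS (by simp), hS (by simp)⟩⟩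
    intro x hx
    simp only [Finset.coe_insert, Finset.coe_singleton, Set.mem_insert_iff,
      Set.mem_singleton_iff] at hx
    rcases hx with rfl | rfl
    exacts [h.1, h.2]
  · refine ⟨{(p : B) * b, b ^ p}, ?_, fun S hS => Or.inr ⟨p, hp, hS (by simp), hS (by simp)⟩⟩
    intro x hx
    simp only [Finset.coe_insert, Finset.coe_singleton, Set.mem_insert_iff,
      Set.mem_singleton_iff] at hx
    rcases hx with rfl | rfl
    exacts [h1, h2]

theorem good_iff (l : List B) : GoodFrom (A := A) Step ∅ l ↔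
    ∀ i : Fin l.length,
        (l.get i ^ 2 ∈ Algebra.adjoin A {b : B | ∃ j : Fin l.length, j < i ∧ b = l.get j} ∧
          l.get i ^ 3 ∈ Algebra.adjoin A {b : B | ∃ j : Fin l.length, j < i ∧ b = l.get j}) ∨
        ∃ p : ℕ, p.Prime ∧ (p : B) * l.get i ∈ Algebra.adjoin A {b : B | ∃ j : Fin l.length, j < i ∧ b = l.get j} ∧
          l.get i ^ p ∈ Algebra.adjoin A {b : B | ∃ j : Fin l.length, j < i ∧ b = l.get j} := by
  rw [goodFrom_iff]
  simp only [Set.empty_union]
  rfl

theorem eq_of_sq_cube {K : Type u} [Field K] {u v : K} (h2 : u ^ 2 = v ^ 2) (h3 : u ^ 3 = v ^ 3) :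
    u = v := by
  by_cases hu : u = 0
  · subst hu
    have : v ^ 2 = 0 := by rw [← h2]; ring
    exact (pow_eq_zero_iff (by norm_num)).1 this |>.symm
  · have hu2 : u ^ 2 ≠ 0 := pow_ne_zero 2 hu
    have hv2 : v ^ 2 ≠ 0 := h2 ▸ hu2
    have e1 : u = u ^ 3 / u ^ 2 := by field_simp
    have hv : v ≠ 0 := fun h0 => hv2 (by rw [h0]; ring)
    have e2 : v = v ^ 3 / v ^ 2 := by field_simp
    rw [e1, e2, h2, h3]

theorem eq_of_mul_pow {K : Type u} [Field K] {u v : K} (p : ℕ) (hp : p.Prime)
    (h1 : (p : K) * u = (p : K) * v) (h2 : u ^ p = v ^ p) : u = v := by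
  by_cases hpK : (p : K) = 0
  · have hdvd : ringChar K ∣ p := ringChar.dvd hpK
    have hne1 : ringChar K ≠ 1 := CharP.ringChar_ne_one
    have heq : ringChar K = p := by
      rcases (Nat.dvd_prime hp).1 hdvd with h | h
      · exact absurd h hne1
      · exact h
    haveI : CharP K p := ringChar.of_eq heq
    haveI : Fact p.Prime := ⟨hp⟩
    have h3 : (u - v) ^ p = 0 := by rw [sub_pow_char, h2, sub_self]
    exact sub_eq_zero.1 (pow_eq_zero_iff hp.ne_zero |>.1 h3)
  · exact mul_left_cancel₀ hpK h1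

theorem mem_of_chain
    (hchain : ∀ E : Finset B, ∃ l : List B, (↑E : Set B) ⊆ Algebra.adjoin A {b : B | b ∈ l} ∧
      GoodFrom (A := A) Step ∅ l)
    (T : Subalgebra A B)
    (hT : ∀ (S' : Subalgebra A B) (b : B), S' ≤ T → Step S' b → b ∈ T) (b : B) : b ∈ T := by
  classical
  obtain ⟨l, hEl, hgood⟩ := hchain {b}
  have h1 := adjoin_le_of_goodFrom Step T hT ∅ l (by rw [Algebra.adjoin_empty]; exact bot_le) hgood
  rw [Set.empty_union] at h1
  exact h1 (hEl (by simp))

end

set_option maxHeartbeats 1000000 in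
theorem result' {A B : Type u} [CommRing A] [CommRing B] [Algebra A B]
    (hinj : Function.Injective (algebraMap A B)) :
    FlatMor.IsUnivHomeo (Spec.map (CommRingCat.ofHom (algebraMap A B))) ↔
    ∀ E : Finset B, ∃ l : List B, (↑E : Set B) ⊆ Algebra.adjoin A {b : B | b ∈ l} ∧
      ∀ i : Fin l.length,
        (l.get i ^ 2 ∈ Algebra.adjoin A {b : B | ∃ j : Fin l.length, j < i ∧ b = l.get j} ∧
          l.get i ^ 3 ∈ Algebra.adjoin A {b : B | ∃ j : Fin l.length, j < i ∧ b = l.get j}) ∨
        ∃ p : ℕ, p.Prime ∧ (p : B) * l.get i ∈ Algebra.adjoin A {b : B | ∃ j : Fin l.length, j < i ∧ b = l.get j} ∧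
          l.get i ^ p ∈ Algebra.adjoin A {b : B | ∃ j : Fin l.length, j < i ∧ b = l.get j} := by
  classical
  simp only [← good_iff]
  constructor
  · intro hU
    have hUH : UH (algebraMap A B) := UH.of_isUnivHomeo _ hinj hU
    refine exists_chain (A := A) Step step_mono step_fin ?_
    intro C hC
    set ψ : A →+* C := algebraMap A C with hψ
    set ι : C →+* B := C.val.toRingHom with hι
    have hcomp : algebraMap A B = ι.comp ψ := by
      ext a
      rfl
    have hιinj : Function.Injective ι := Subtype.val_injective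
    rw [hcomp] at hUH
    have hUHι : UH ι := UH.right ψ ι hιinj hUH
    have hns : ¬ Function.Surjective ι := by
      intro hsurj
      apply hC
      rw [Algebra.eq_top_iff]
      intro x
      obtain ⟨c, rfl⟩ := hsurj x
      exact c.2
    have hrange : ∀ b : B, b ∈ ι.range ↔ b ∈ C := by
      intro b
      constructor
      · rintro ⟨c, rfl⟩
        exact c.2
      · intro hb
        exact ⟨⟨b, hb⟩, rfl⟩
    rcases core399 ι hUHι hns with ⟨b, hb1, hb2, hb3⟩ | ⟨p, b, hp, hb1, hb2, hb3⟩
    · exact ⟨b, fun hb => hb1 ((hrange b).2 hb), Or.inl ⟨(hrange _).1 hb2, (hrange _).1 hb3⟩⟩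
    · exact ⟨b, fun hb => hb1 ((hrange b).2 hb),
        Or.inr ⟨p, hp, (hrange _).1 hb2, (hrange _).1 hb3⟩⟩
  · intro hchain
    have hint : (algebraMap A B).IsIntegral := by
      intro b
      have := mem_of_chain hchain (integralClosure A B) (fun S' b hS' hstep => by
        rcases hstep with hstep | ⟨p, hp, -, h2⟩
        · exact IsIntegral.of_pow (by norm_num : 0 < 2) (hS' hstep.1)
        · exact IsIntegral.of_pow hp.pos (hS' h2)) b
      exact this
    have hsurj : Function.Surjective (PrimeSpectrum.comap (algebraMap A B)) := by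
      intro P
      haveI : Algebra.IsIntegral A B := algebraMap_isIntegral_iff.1 hint
      obtain ⟨Q, -, hQ, hQP⟩ := Ideal.exists_ideal_over_prime_of_isIntegral P.asIdeal
        (⊥ : Ideal B)
        (by rw [← RingHom.ker_eq_comap_bot, (RingHom.injective_iff_ker_eq_bot _).1 hinj]
            exact bot_le)
      exact ⟨⟨Q, hQ⟩, PrimeSpectrum.ext hQP⟩
    refine SpecResidue.isUnivHomeo_Spec_of (algebraMap A B) hint hsurj ?_
    intro K _ φ₁ φ₂ h12
    let T : Subalgebra A B :=
      { carrier := {b | φ₁ b = φ₂ b}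
        mul_mem' := by
          intro a b (ha : φ₁ a = φ₂ a) (hb : φ₁ b = φ₂ b)
          show φ₁ (a * b) = φ₂ (a * b)
          rw [map_mul, map_mul, ha, hb]
        one_mem' := by
          show φ₁ 1 = φ₂ 1
          rw [map_one, map_one]
        add_mem' := by
          intro a b (ha : φ₁ a = φ₂ a) (hb : φ₁ b = φ₂ b)
          show φ₁ (a + b) = φ₂ (a + b)
          rw [map_add, map_add, ha, hb]
        zero_mem' := by
          show φ₁ 0 = φ₂ 0
          rw [map_zero, map_zero]
        algebraMap_mem' := by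
          intro a
          show φ₁ (algebraMap A B a) = φ₂ (algebraMap A B a)
          exact congrArg (fun f => f a) h12 }
    ext b
    refine mem_of_chain hchain T (fun S' b hS' hstep => ?_) b
    rcases hstep with hstep | ⟨p, hp, h1, h2⟩
    · have h2 : φ₁ (b ^ 2) = φ₂ (b ^ 2) := hS' hstep.1
      have h3 : φ₁ (b ^ 3) = φ₂ (b ^ 3) := hS' hstep.2
      rw [map_pow, map_pow] at h2 h3
      exact eq_of_sq_cube h2 h3
    · have e1 : φ₁ ((p : B) * b) = φ₂ ((p : B) * b) := hS' h1
      have e2 : φ₁ (b ^ p) = φ₂ (b ^ p) := hS' h2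
      rw [map_mul, map_mul, map_natCast, map_natCast] at e1
      rw [map_pow, map_pow] at e2
      exact eq_of_mul_pow p hp e1 e2


/-- Let `A ⊆ B` be a ring extension. Then `Spec B → Spec A` is a universal homeomorphism if and only if
every finite subset of `B` lies in a subextension `A[b_1, …, b_n]` such that for each `i` either
`b_i^2, b_i^3 ∈ A[b_1, …, b_{i-1}]` or there is a prime number `p` with `p b_i, b_i^p ∈ A[b_1, …,
b_{i-1}]`. -/
theorem result {A B : Type u} [CommRing A] [CommRing B] [Algebra A B]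
    (hinj : Function.Injective (algebraMap A B)) :
    FlatMor.IsUnivHomeo (Spec.map (CommRingCat.ofHom (algebraMap A B))) ↔
    ∀ E : Finset B, ∃ l : List B, (↑E : Set B) ⊆ Algebra.adjoin A {b : B | b ∈ l} ∧
      ∀ i : Fin l.length,
        (l.get i ^ 2 ∈ Algebra.adjoin A {b : B | ∃ j : Fin l.length, j < i ∧ b = l.get j} ∧
          l.get i ^ 3 ∈ Algebra.adjoin A {b : B | ∃ j : Fin l.length, j < i ∧ b = l.get j}) ∨
        ∃ p : ℕ, p.Prime ∧ (p : B) * l.get i ∈ Algebra.adjoin A {b : B | ∃ j : Fin l.length, j < i ∧ b = l.get j} ∧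
          l.get i ^ p ∈ Algebra.adjoin A {b : B | ∃ j : Fin l.length, j < i ∧ b = l.get j} := by
  exact result' hinj

end Groth.Agent.S7401
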