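import Groth.Statements.S7402
import Groth.Agent.Lib.Helper2.PolyQuotUH

set_option autoImplicit false
universe u
open CategoryTheory AlgebraicGeometry
open Polynomial
open Mor

namespace Groth.Agent.S7402

/-- Let `A` be a ring and `x, y ∈ A` with `x^3 = y^2`. Then `A → B = A[t]/(t^2 - x, t^3 - y)` induces a
universal homeomorphism on spectra and isomorphisms on residue fields. -/
theorem result (A : Type u) [CommRing A] (x y : A) (h : x ^ 3 = y ^ 2) :
    FlatMor.IsUnivHomeo (Spec.map (CommRingCat.ofHom (algebraMap A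
      (A[X] ⧸ Ideal.span ({X ^ 2 - C x, X ^ 3 - C y} : Set A[X]))))) ∧
    ∀ q : Spec (CommRingCat.of (A[X] ⧸ Ideal.span ({X ^ 2 - C x, X ^ 3 - C y} : Set A[X]))),
      Function.Surjective ((Spec.map (CommRingCat.ofHom (algebraMap A
        (A[X] ⧸ Ideal.span ({X ^ 2 - C x, X ^ 3 - C y} : Set A[X]))))).residueFieldMap q) := by
  classical
  set S : Set A[X] := {X ^ 2 - C x, X ^ 3 - C y} with hS
  set I := Ideal.span S with hI
  set t : A[X] ⧸ I := Ideal.Quotient.mk I X with ht
  have ht2 : t ^ 2 = algebraMap A (A[X] ⧸ I) x := by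
    have h1 : Ideal.Quotient.mk I (X ^ 2 - C x) = 0 :=
      Ideal.Quotient.eq_zero_iff_mem.2 (Ideal.subset_span (by simp [hS]))
    rw [map_sub, map_pow] at h1
    exact sub_eq_zero.1 h1
  have ht3 : t ^ 3 = algebraMap A (A[X] ⧸ I) y := by
    have h1 : Ideal.Quotient.mk I (X ^ 3 - C y) = 0 :=
      Ideal.Quotient.eq_zero_iff_mem.2 (Ideal.subset_span (by simp [hS]))
    rw [map_sub, map_pow] at h1
    exact sub_eq_zero.1 h1
  have hgen := Groth.Agent.Lib.helper2.PolyQuotUH.adjoin_mk_X I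
  have hint : IsIntegral A t := by
    refine IsIntegral.of_pow (n := 2) (by norm_num) ?_
    rw [ht2]
    exact isIntegral_algebraMap
  refine ⟨?_, ?_⟩
  · refine Groth.Agent.Lib.helper2.PolyQuotUH.isUnivHomeo_of_adjoin_singleton t hgen hint ?_ ?_
    · intro 𝔭
      let K := 𝔭.asIdeal.ResidueField
      let e₀ : A →+* K := algebraMap A K
      have hxy : (e₀ x) ^ 3 = (e₀ y) ^ 2 := by rw [← map_pow, ← map_pow, h]
      obtain ⟨τ, hτ2, hτ3⟩ := Groth.Agent.Lib.helper2.PolyQuotUH.exists_sq_cube_root _ _ hxy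
      have hroot : ∀ f ∈ S, eval₂ e₀ τ f = 0 := by
        intro f hf
        rw [hS] at hf
        simp only [Set.mem_insert_iff, Set.mem_singleton_iff] at hf
        rcases hf with rfl | rfl
        · simp [hτ2]
        · simp [hτ3]
      refine ⟨K, inferInstance, Groth.Agent.Lib.helper2.PolyQuotUH.liftHom S e₀ τ hroot, ?_⟩
      rw [Groth.Agent.Lib.helper2.PolyQuotUH.liftHom_comp_algebraMap]
      ext a
      rw [RingHom.mem_ker]
      exact Ideal.algebraMap_residueField_eq_zero
    · intro K _ φ₁ φ₂ h12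
      have e2 : φ₁ t ^ 2 = φ₂ t ^ 2 := by
        have h0 : φ₁ (t ^ 2) = φ₂ (t ^ 2) := by
          rw [ht2]
          exact congrArg (fun f => f x) h12
        exact (map_pow φ₁ t 2).symm.trans (h0.trans (map_pow φ₂ t 2))
      have e3 : φ₁ t ^ 3 = φ₂ t ^ 3 := by
        have h0 : φ₁ (t ^ 3) = φ₂ (t ^ 3) := by
          rw [ht3]
          exact congrArg (fun f => f y) h12
        exact (map_pow φ₁ t 3).symm.trans (h0.trans (map_pow φ₂ t 3))
      exact Groth.Agent.Lib.helper2.PolyQuotUH.eq_of_sq_cube e2 e3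
  · refine Groth.Agent.Lib.helper2.PolyQuotUH.residueFieldMap_surjective_of _ ?_
    refine Groth.Agent.Lib.helper2.PolyQuotUH.resSurj_of_adjoin_singleton t hgen ?_
    intro Q
    refine Groth.Agent.Lib.helper2.PolyQuotUH.sq_cube_root_mem_range _ _ ?_ ?_
    · refine ⟨algebraMap A _ x, ?_⟩
      rw [Ideal.ResidueField.map_algebraMap]
      exact (congrArg _ ht2).symm.trans (map_pow _ t 2)
    · refine ⟨algebraMap A _ y, ?_⟩
      rw [Ideal.ResidueField.map_algebraMap]
      exact (congrArg _ ht3).symm.trans (map_pow _ t 3)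

end Groth.Agent.S7402
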