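import Groth.Statements.S7403
import Groth.Agent.Lib.Helper2.PolyQuotUH

set_option autoImplicit false
universe u
open CategoryTheory AlgebraicGeometry
open Polynomial
open Mor

namespace Groth.Agent.S7403

/-- Let `A` be a ring, `p` a prime number and `x, y ∈ A` with `p^p x = y^p`. Then `A → B = A[t]/(t^p -
x, p t - y)` induces a universal homeomorphism on spectra. -/
theorem result (A : Type u) [CommRing A] (p : ℕ) (hp : p.Prime) (x y : A)
    (h : (p : A) ^ p * x = y ^ p) :
    FlatMor.IsUnivHomeo (Spec.map (CommRingCat.ofHom (algebraMap A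
      (A[X] ⧸ Ideal.span ({X ^ p - C x, C (p : A) * X - C y} : Set A[X]))))) := by
  classical
  set S : Set A[X] := {X ^ p - C x, C (p : A) * X - C y} with hS
  set I := Ideal.span S with hI
  set t : A[X] ⧸ I := Ideal.Quotient.mk I X with ht
  have ht2 : t ^ p = algebraMap A (A[X] ⧸ I) x := by
    have h1 : Ideal.Quotient.mk I (X ^ p - C x) = 0 :=
      Ideal.Quotient.eq_zero_iff_mem.2 (Ideal.subset_span (by simp [hS]))
    rw [map_sub, map_pow] at h1
    exact sub_eq_zero.1 h1
  have ht3 : algebraMap A (A[X] ⧸ I) (p : A) * t = algebraMap A (A[X] ⧸ I) y := by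
    have h1 : Ideal.Quotient.mk I (C (p : A) * X - C y) = 0 :=
      Ideal.Quotient.eq_zero_iff_mem.2 (Ideal.subset_span (by simp [hS]))
    rw [map_sub, map_mul] at h1
    exact sub_eq_zero.1 h1
  have hgen := Groth.Agent.Lib.helper2.PolyQuotUH.adjoin_mk_X I
  have hint : IsIntegral A t := by
    refine IsIntegral.of_pow (n := p) hp.pos ?_
    rw [ht2]
    exact isIntegral_algebraMap
  refine Groth.Agent.Lib.helper2.PolyQuotUH.isUnivHomeo_of_adjoin_singleton t hgen hint ?_ ?_
  · intro 𝔭
    let K := AlgebraicClosure 𝔭.asIdeal.ResidueField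
    let e₀ : A →+* K := (algebraMap 𝔭.asIdeal.ResidueField K).comp
      (algebraMap A 𝔭.asIdeal.ResidueField)
    have hxy : ((p : ℕ) : K) ^ p * (e₀ x) = (e₀ y) ^ p := by
      have := congrArg e₀ h
      rw [map_mul, map_pow, map_pow, map_natCast] at this
      exact this
    have hex : ∃ τ : K, τ ^ p = e₀ x ∧ (p : K) * τ = e₀ y := by
      by_cases hpK : (p : K) = 0
      · obtain ⟨τ, hτ⟩ := IsAlgClosed.exists_pow_nat_eq (e₀ x) hp.pos
        refine ⟨τ, hτ, ?_⟩
        rw [hpK, zero_mul]
        rw [hpK, zero_pow hp.ne_zero, zero_mul] at hxy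
        exact ((pow_eq_zero_iff hp.ne_zero).1 hxy.symm).symm
      · refine ⟨e₀ y / (p : K), ?_, ?_⟩
        · rw [div_pow, ← hxy]
          exact mul_div_cancel_left₀ _ (pow_ne_zero p hpK)
        · exact mul_div_cancel₀ _ hpK
    obtain ⟨τ, hτ2, hτ3⟩ := hex
    have hroot : ∀ f ∈ S, eval₂ e₀ τ f = 0 := by
      intro f hf
      rw [hS] at hf
      simp only [Set.mem_insert_iff, Set.mem_singleton_iff] at hf
      rcases hf with rfl | rfl
      · simp [hτ2]
      · simp [hτ3]
    refine ⟨K, inferInstance, Groth.Agent.Lib.helper2.PolyQuotUH.liftHom S e₀ τ hroot, ?_⟩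
    rw [Groth.Agent.Lib.helper2.PolyQuotUH.liftHom_comp_algebraMap]
    ext a
    rw [RingHom.mem_ker]
    show (algebraMap 𝔭.asIdeal.ResidueField K) (algebraMap A 𝔭.asIdeal.ResidueField a) = 0 ↔ _
    rw [map_eq_zero]
    exact Ideal.algebraMap_residueField_eq_zero
  · intro K _ φ₁ φ₂ h12
    have e2 : φ₁ t ^ p = φ₂ t ^ p := by
      have h0 : φ₁ (t ^ p) = φ₂ (t ^ p) := by
        rw [ht2]
        exact congrArg (fun f => f x) h12
      exact (map_pow φ₁ t p).symm.trans (h0.trans (map_pow φ₂ t p))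
    have e3 : (p : K) * φ₁ t = (p : K) * φ₂ t := by
      have h0 : φ₁ (algebraMap A (A[X] ⧸ I) (p : A) * t) =
          φ₂ (algebraMap A (A[X] ⧸ I) (p : A) * t) := by
        rw [ht3]
        exact congrArg (fun f => f y) h12
      rw [map_mul, map_mul, map_natCast, map_natCast, map_natCast] at h0
      exact h0
    exact Groth.Agent.Lib.helper2.PolyQuotUH.eq_of_mul_pow p hp e3 e2

end Groth.Agent.S7403
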