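import Groth.Statements.S0416
import Mathlib.AlgebraicGeometry.Morphisms.Immersion
import Mathlib.AlgebraicGeometry.Morphisms.Separated
-- import your own Groth.Agent.* helpers here

set_option autoImplicit false
universe u
open FlatMor

namespace Groth.Agent.S0416

section Helpers
open AlgebraicGeometry CategoryTheory Limits MorphismProperty

lemma isHomeomorph_of_comp {α β γ : Type*} [TopologicalSpace α] [TopologicalSpace β]
    [TopologicalSpace γ] (g : α → β) (h : β → γ) (hgh : IsHomeomorph (h ∘ g))
    (hg : IsHomeomorph g) : IsHomeomorph h := by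
  have : h = (h ∘ g) ∘ (hg.homeomorph g).symm := by
    funext y
    simp only [Function.comp_apply]
    congr 1
    exact ((hg.homeomorph g).apply_symm_apply y).symm
  rw [this]
  exact hgh.comp (hg.homeomorph g).symm.isHomeomorph

lemma stableComp :
    (FlatMor.IsUnivHomeo : MorphismProperty Scheme.{u}).IsStableUnderComposition := by
  have : (topologically (fun f => IsHomeomorph f)).IsStableUnderComposition :=
    topologically_isStableUnderComposition _ (fun f g hf hg => hg.comp hf)
  unfold FlatMor.IsUnivHomeo
  infer_instance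

lemma stableBC :
    (FlatMor.IsUnivHomeo : MorphismProperty Scheme.{u}).IsStableUnderBaseChange := by
  unfold FlatMor.IsUnivHomeo
  infer_instance

lemma isUnivHomeo_of_isIso {X Y : Scheme.{u}} (f : X ⟶ Y) [IsIso f] : FlatMor.IsUnivHomeo f := by
  intro X' Y' i₁ i₂ f' h
  have : IsIso f' := h.flip.isIso_snd_of_isIso
  exact f'.homeomorph.isHomeomorph

lemma multiplicative :
    (FlatMor.IsUnivHomeo : MorphismProperty Scheme.{u}).IsMultiplicative :=
  { stableComp with
    id_mem := fun X => isUnivHomeo_of_isIso (𝟙 X) }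

/-- a surjective (pre)immersion is a universal homeomorphism -/
lemma isUnivHomeo_of_surjective_immersion {X Y : Scheme.{u}} (f : X ⟶ Y) [IsImmersion f]
    [Surjective f] : FlatMor.IsUnivHomeo f := by
  intro X' Y' i₁ i₂ f' h
  have h1 : IsImmersion f' := MorphismProperty.of_isPullback h.flip ‹_›
  have h3 : Surjective f' := MorphismProperty.of_isPullback h.flip ‹_›
  exact isHomeomorph_iff_isEmbedding_surjective.2 ⟨f'.isEmbedding, f'.surjective⟩

lemma univInj_of_isUnivHomeo {X Y : Scheme.{u}} (f : X ⟶ Y) (hf : FlatMor.IsUnivHomeo f) :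
    UniversallyInjective f := by
  refine ⟨?_⟩
  intro X' Y' i₁ i₂ f' h
  exact (hf i₁ i₂ f' h).injective

lemma diagonal_isUnivHomeo {X Y : Scheme.{u}} (f : X ⟶ Y) (hf : FlatMor.IsUnivHomeo f) :
    FlatMor.IsUnivHomeo (pullback.diagonal f) := by
  have := univInj_of_isUnivHomeo f hf
  have : Surjective (pullback.diagonal f) := (UniversallyInjective.iff_diagonal f).1 this
  exact isUnivHomeo_of_surjective_immersion _

end Helpers

open AlgebraicGeometry CategoryTheory Limits in
/-- When a composite of two morphisms is a universal homeomorphism and so is either factor, the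
remaining factor is a universal homeomorphism as well. -/
theorem result {X Y Z : Scheme.{u}} (g : X ⟶ Y) (h : Y ⟶ Z) :
    (FlatMor.IsUnivHomeo (g ≫ h) → FlatMor.IsUnivHomeo g → FlatMor.IsUnivHomeo h) ∧
    (FlatMor.IsUnivHomeo (g ≫ h) → FlatMor.IsUnivHomeo h → FlatMor.IsUnivHomeo g) := by
  constructor
  · intro hgh hg Y' Z' i₁ i₂ h' sq
    -- sq : IsPullback h' i₁ i₂ h
    have sq2 : IsPullback (pullback.snd g i₁) (pullback.fst g i₁) i₁ g :=
      (IsPullback.of_hasPullback g i₁).flip
    have sq3 : IsPullback (pullback.snd g i₁ ≫ h') (pullback.fst g i₁) i₂ (g ≫ h) :=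
      sq2.paste_horiz sq
    have e1 : IsHomeomorph (pullback.snd g i₁ ≫ h') := hgh _ _ _ sq3
    have e2 : IsHomeomorph (pullback.snd g i₁) := hg _ _ _ sq2
    have e1' : IsHomeomorph (⇑h' ∘ ⇑(pullback.snd g i₁)) := by
      simpa using e1
    exact isHomeomorph_of_comp _ _ e1' e2
  · intro hgh hh
    have := stableBC.{u}
    have := multiplicative.{u}
    have hpc : (FlatMor.IsUnivHomeo : MorphismProperty Scheme.{u}).HasOfPostcompProperty
        FlatMor.IsUnivHomeo := by
      rw [MorphismProperty.hasOfPostcompProperty_iff_le_diagonal]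
      intro X Y f hf
      exact diagonal_isUnivHomeo f hf
    exact hpc.of_postcomp g h hh hgh

end Groth.Agent.S0416
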