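import Groth.Statements.S7422
import Groth.Agent.Lib.Helper2.WeakNormIn

set_option autoImplicit false
universe u
open CategoryTheory AlgebraicGeometry
open HTop

namespace Groth.Agent.S7422

/-- Every ring `A` has an absolute weak normalization: a ring map `A → A^awn` which induces a universal
homeomorphism on spectra and is final among ring maps out of `A` with this property. -/
theorem result (A : Type u) [CommRing A] :
    ∃ (B : Type u) (_ : CommRing B) (φ : A →+* B), HTop.IsRingAWN φ := by
  classical
  let P : Type u := ∀ p : PrimeSpectrum A, AlgebraicClosure p.asIdeal.ResidueField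
  let τ : A →+* P := RingHom.pi (fun p =>
    (algebraMap p.asIdeal.ResidueField (AlgebraicClosure p.asIdeal.ResidueField)).comp
      (algebraMap A p.asIdeal.ResidueField))
  letI : Algebra A P := τ.toAlgebra
  have hker : RingHom.ker (algebraMap A P) ≤ nilradical A := by
    intro a ha
    rw [mem_nilradical, nilpotent_iff_mem_prime]
    intro J hJ
    have h1 : τ a = 0 := ha
    have h2 := congrFun h1 ⟨J, hJ⟩
    have h3 : (algebraMap J.ResidueField (AlgebraicClosure J.ResidueField))
        (algebraMap A J.ResidueField a) = 0 := h2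
    have h4 : algebraMap A J.ResidueField a = 0 :=
      (map_eq_zero (algebraMap J.ResidueField (AlgebraicClosure J.ResidueField))).1 h3
    exact (Ideal.algebraMap_residueField_eq_zero).1 h4
  obtain ⟨B', hUH, hmax⟩ := Groth.Agent.Lib.helper2.WeakNormIn.exists_weakNorm A P hker
  refine ⟨B', inferInstance, algebraMap A B', hUH, ?_⟩
  intro C _ ψ hψ
  have hint : ψ.IsIntegral := Groth.Agent.Lib.helper2.SpecResidue.isIntegral_of_isUnivHomeo_Spec ψ hψ
  have hsurj : Function.Surjective (PrimeSpectrum.comap ψ) :=
    (Groth.Agent.Lib.helper2.SpecResidue.comap_bijective_of_isUnivHomeo_Spec ψ hψ).2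
  have hext : ∀ p : PrimeSpectrum A, ∃ ε : C →+* AlgebraicClosure p.asIdeal.ResidueField,
      ε.comp ψ = (algebraMap p.asIdeal.ResidueField (AlgebraicClosure p.asIdeal.ResidueField)).comp
        (algebraMap A p.asIdeal.ResidueField) := fun p =>
    Groth.Agent.Lib.helper2.ExtendHom.exists_extension_of_surjective ψ hint hsurj
      p.asIdeal.ResidueField (algebraMap A p.asIdeal.ResidueField)
  choose ε hε using hext
  let χ' : C →+* P := RingHom.pi ε
  have hχ' : ∀ a : A, χ' (ψ a) = τ a := by
    intro a
    funext p
    exact congrArg (fun f => f a) (hε p)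
  letI : Algebra A C := ψ.toAlgebra
  let g : C →ₐ[A] P := { χ' with commutes' := hχ' }
  have hrange : g.range ≤ B' := hmax C g hψ
  have hgB' : ∀ c : C, g c ∈ B' := fun c => hrange ⟨c, rfl⟩
  let χ : C →ₐ[A] B' := g.codRestrict B' hgB'
  refine ⟨χ.toRingHom, ?_, ?_⟩
  · refine RingHom.ext (fun a => ?_)
    exact χ.commutes a
  · intro χ₂ hχ₂
    refine RingHom.ext (fun c => ?_)
    apply Subtype.ext
    funext p
    let ev : P →+* AlgebraicClosure p.asIdeal.ResidueField :=
      Pi.evalRingHom (fun p : PrimeSpectrum A => AlgebraicClosure p.asIdeal.ResidueField) p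
    have h1 : ((ev.comp B'.val.toRingHom).comp χ₂).comp ψ =
        ((ev.comp B'.val.toRingHom).comp χ.toRingHom).comp ψ := by
      refine RingHom.ext (fun a => ?_)
      have e1 : χ (ψ a) = algebraMap A B' a := χ.commutes a
      have e2 : χ₂ (ψ a) = algebraMap A B' a := congrArg (fun f => f a) hχ₂
      show ev ((χ₂ (ψ a) : B') : P) = ev ((χ (ψ a) : B') : P)
      rw [e1, e2]
    have h2 := Groth.Agent.Lib.helper2.SpecResidue.hom_ext_of_isUnivHomeo_Spec ψ hψ _ _ _ h1
    exact congrArg (fun f => f c) h2

end Groth.Agent.S7422
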