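import Groth.Statements.S7420
import Mathlib
import Groth.Agent.Lib.Helper20.Seminormal

set_option autoImplicit false
universe u
open CategoryTheory AlgebraicGeometry
open HTop

namespace Groth.Agent.S7420

/-- A scheme `X` is seminormal if and only if `O_X(U)` is seminormal for every affine open `U ⊆ X`; the
same holds with 'seminormal' replaced by 'absolutely weakly normal'. -/
theorem result (X : Scheme.{u}) :
    (HTop.IsSeminormal X ↔ ∀ U : X.affineOpens, HTop.IsSeminormalRing Γ(X, U)) ∧
    (HTop.IsAWN X ↔ ∀ U : X.affineOpens, HTop.IsAWNRing Γ(X, U)) := by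
  constructor
  · constructor
    · intro h U
      rw [Groth.Agent.Lib.helper20.isSeminormalRing_iff]
      refine Groth.Agent.Lib.helper20.GP.forall_affine (by norm_num) (by norm_num) (by norm_num)
        (by norm_num) (by norm_num) X (fun x => ?_) U
      obtain ⟨W, hx, hW⟩ := h x
      exact ⟨W, hx, (Groth.Agent.Lib.helper20.isSeminormalRing_iff _).1 hW⟩
    · intro h x
      obtain ⟨U, hxU⟩ := Groth.Agent.Lib.helper20.exists_affine_nhds X x
      exact ⟨U, hxU, h U⟩
  · constructor
    · intro h U
      rw [Groth.Agent.Lib.helper20.isAWNRing_iff]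
      refine ⟨?_, fun p hp => ?_⟩
      · refine Groth.Agent.Lib.helper20.GP.forall_affine (by norm_num) (by norm_num) (by norm_num)
          (by norm_num) (by norm_num) X (fun x => ?_) U
        obtain ⟨W, hx, hW⟩ := h x
        exact ⟨W, hx, ((Groth.Agent.Lib.helper20.isAWNRing_iff _).1 hW).1⟩
      · refine Groth.Agent.Lib.helper20.GP.forall_affine (by norm_num) hp.pos hp.pos
          (by norm_num) (by ring) X (fun x => ?_) U
        obtain ⟨W, hx, hW⟩ := h x
        exact ⟨W, hx, ((Groth.Agent.Lib.helper20.isAWNRing_iff _).1 hW).2 p hp⟩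
    · intro h x
      obtain ⟨U, hxU⟩ := Groth.Agent.Lib.helper20.exists_affine_nhds X x
      exact ⟨U, hxU, h U⟩


end Groth.Agent.S7420
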