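import Groth.Statements.S7421
import Mathlib.RingTheory.LocalProperties.Reduced
import Mathlib.AlgebraicGeometry.Properties

set_option autoImplicit false
universe u
open CategoryTheory AlgebraicGeometry
open HTop

namespace Groth.Agent.S7421

theorem isReduced_of_isSeminormalRing (A : Type u) [CommRing A] (h : HTop.IsSeminormalRing A) :
    IsReduced A := by
  -- first: `y ^ 2 = 0 → y = 0`
  have h2 : ∀ y : A, y ^ 2 = 0 → y = 0 := by
    intro y hy
    obtain ⟨a, -, hu⟩ := h 0 0 (by simp)
    have h0 := hu 0 (by simp)
    have hy' := hu y ⟨by rw [hy], by rw [pow_succ, hy, zero_mul]⟩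
    rw [hy', h0]
  exact (isReduced_iff_pow_one_lt 2 (by norm_num)).mpr h2

/-- A seminormal ring is reduced, and a seminormal scheme is reduced. -/
theorem result :
    (∀ (A : Type u) [CommRing A], HTop.IsSeminormalRing A → IsReduced A) ∧
    ∀ (X : Scheme.{u}), HTop.IsSeminormal X → AlgebraicGeometry.IsReduced X := by
  refine ⟨fun A _ h => isReduced_of_isSeminormalRing A h, ?_⟩
  intro X hX
  have : ∀ x : X, _root_.IsReduced (X.presheaf.stalk x) := by
    intro x
    obtain ⟨U, hxU, hU⟩ := hX x
    have hred : _root_.IsReduced Γ(X, U) := isReduced_of_isSeminormalRing _ hU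
    have hloc := U.2.isLocalization_stalk ⟨x, hxU⟩
    exact @isReduced_localizationPreserves _ _ _ (X.presheaf.stalk x) _
      (TopCat.Presheaf.algebra_section_stalk X.presheaf ⟨x, hxU⟩) hloc hred
  exact isReduced_of_isReduced_stalk X

end Groth.Agent.S7421
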