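import Groth.Statements.S8992
import Mathlib.Tactic.Ring

set_option autoImplicit false
universe u
open HTop

namespace Groth.Agent.S8992

/-- An algebra over the prime field with p elements is absolutely weakly normal if and only if its p-th
power map is bijective (the algebra is perfect). -/
theorem result (p : ℕ) [Fact p.Prime] (A : Type u) [CommRing A] [Algebra (ZMod p) A] : HTop.IsAWNRing A ↔ PerfectRing A p := by
  have hp : p.Prime := Fact.out
  have hpA : (p : A) = 0 := by
    have : algebraMap (ZMod p) A ((p : ℕ) : ZMod p) = (p : A) := map_natCast _ _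
    rw [← this, ZMod.natCast_self, map_zero]
  constructor
  · rintro ⟨-, h⟩
    refine ⟨?_⟩
    have key : ∀ x : A, ∃! a : A, x = a ^ p := by
      intro x
      obtain ⟨a, ⟨ha, -⟩, hua⟩ := h p hp x 0 (by simp [hpA, hp.ne_zero])
      refine ⟨a, ha, fun b hb => hua b ⟨hb, by rw [hpA, zero_mul]⟩⟩
    constructor
    · intro a b hab
      obtain ⟨c, -, hc⟩ := key (a ^ p)
      rw [hc a rfl, hc b hab]
    · intro x
      obtain ⟨a, ha, -⟩ := key x
      exact ⟨a, ha.symm⟩
  · rintro ⟨⟨hinj, hsurj⟩⟩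
    have hinj' : ∀ a b : A, a ^ p = b ^ p → a = b := fun a b h => hinj h
    refine ⟨?_, ?_⟩
    · intro x y hxy
      obtain ⟨m, n, hmn⟩ : ∃ m n : ℕ, 2 * m + 3 * n = p := by
        rcases Nat.even_or_odd' p with ⟨k, hk | hk⟩
        · exact ⟨k, 0, by omega⟩
        · have : 2 ≤ p := hp.two_le
          exact ⟨k - 1, 1, by omega⟩
      obtain ⟨a, ha⟩ := hsurj (x ^ m * y ^ n)
      have ha : a ^ p = x ^ m * y ^ n := ha
      have h2 : a ^ 2 = x := by
        apply hinj'
        rw [← pow_mul, mul_comm, pow_mul, ha, mul_pow, ← pow_mul, ← pow_mul, mul_comm n 2, pow_mul y 2 n,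
          ← hxy, ← pow_mul, ← pow_add, ← hmn]
        congr 1; ring
      have h3 : a ^ 3 = y := by
        apply hinj'
        rw [← pow_mul, mul_comm, pow_mul, ha, mul_pow, ← pow_mul, ← pow_mul, mul_comm m 3, pow_mul x 3 m,
          hxy, ← pow_mul, ← pow_add, ← hmn]
        congr 1; ring
      refine ⟨a, ⟨h2.symm, h3.symm⟩, ?_⟩
      rintro b ⟨hb2, hb3⟩
      apply hinj'
      rw [ha, hb2, hb3, ← pow_mul, ← pow_mul, ← pow_add, hmn]
    · intro q hq x y hxy
      by_cases hqp : q = p
      · subst hqp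
        rw [hpA, zero_pow hp.ne_zero, zero_mul] at hxy
        have hy : y = 0 := hinj' y 0 (by rw [← hxy, zero_pow hp.ne_zero])
        obtain ⟨a, ha⟩ := hsurj x
        have ha : a ^ q = x := ha
        refine ⟨a, ⟨ha.symm, by rw [hy, hpA, zero_mul]⟩, ?_⟩
        rintro b ⟨hb, -⟩
        exact hinj' b a (by rw [← hb, ha])
      · have hu : IsUnit (q : A) := by
          have h1 : IsUnit ((q : ℕ) : ZMod p) := by
            rw [ZMod.isUnit_iff_coprime]
            exact (Nat.coprime_primes hq hp).mpr hqp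
          have h2 := h1.map (algebraMap (ZMod p) A)
          rwa [map_natCast] at h2
        obtain ⟨u, hu⟩ := hu
        refine ⟨↑u⁻¹ * y, ⟨?_, ?_⟩, ?_⟩
        · rw [mul_pow, ← hxy, ← hu, ← mul_assoc, ← mul_pow, Units.inv_mul, one_pow, one_mul]
        · rw [← hu, ← mul_assoc, Units.mul_inv, one_mul]
        · rintro b ⟨-, hb⟩
          rw [hb, ← hu, ← mul_assoc, Units.inv_mul, one_mul]

end Groth.Agent.S8992
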