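import Groth.Statements.S7426
import Groth.Agent.Lib.Helper2.AWNSchemeProps

set_option autoImplicit false
universe u
open CategoryTheory AlgebraicGeometry
open HTop

namespace Groth.Agent.S7426

/-- For a scheme `X` the following are equivalent: `X` is absolutely weakly normal; `X^awn → X` is an
isomorphism (equivalently, the identity of `X` is an absolute weak normalization); every universal
homeomorphism `Y → X` with `Y` reduced is an isomorphism. -/
theorem result (X : Scheme.{u}) :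
    (HTop.IsAWN X ↔ HTop.IsAWNormalization (𝟙 X)) ∧
    (HTop.IsAWN X ↔ ∀ (Y : Scheme.{u}) (π : Y ⟶ X), FlatMor.IsUnivHomeo π → AlgebraicGeometry.IsReduced Y → IsIso π) := by
  have hν₀ := Groth.Agent.Lib.helper2.AWNScheme.isAWNormalization_toBase X
  set X₀ := (Groth.Agent.Lib.helper2.AWNScheme.awnGlueData X).glued with hX₀
  set ν₀ : X₀ ⟶ X := (Groth.Agent.Lib.helper2.AWNScheme.awnGlueData X).toBase with hν₀def
  have hX₀awn : HTop.IsAWN X₀ := Groth.Agent.Lib.helper2.AWNScheme.isAWN_awnGlued X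
  haveI : AlgebraicGeometry.IsReduced X₀ :=
    Groth.Agent.Lib.helper2.AWNScheme.isReduced_of_isAWN hX₀awn
  have key : HTop.IsAWN X → IsIso ν₀ := fun hX =>
    Groth.Agent.Lib.helper2.AWNScheme.isIso_of_isAWN ν₀ hX hν₀.1
  have key2 : IsIso ν₀ → HTop.IsAWN X := fun hiso =>
    Groth.Agent.Lib.helper2.AWNScheme.isAWN_of_isOpenImmersion (inv ν₀) hX₀awn
  refine ⟨⟨?_, ?_⟩, ⟨?_, ?_⟩⟩
  · intro hX
    haveI := key hX
    refine ⟨Groth.Agent.S0416.isUnivHomeo_of_isIso (𝟙 X), ?_⟩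
    intro Y π hπ
    obtain ⟨h₀, hh₀, hh₀u⟩ := hν₀.2 Y π hπ
    refine ⟨inv ν₀ ≫ h₀, ?_, ?_⟩
    · show (inv ν₀ ≫ h₀) ≫ π = 𝟙 X
      rw [Category.assoc, hh₀, IsIso.inv_hom_id]
    · intro h' hh'
      have e1 : (ν₀ ≫ h') ≫ π = ν₀ := by rw [Category.assoc, hh', Category.comp_id]
      have e2 : ν₀ ≫ h' = h₀ := hh₀u _ e1
      rw [← e2, IsIso.inv_hom_id_assoc]
  · intro hid
    exact Groth.Agent.Lib.helper2.AWNScheme.isAWN_of_isAWNormalization (𝟙 X) hid
  · intro hX Y π hπ hY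
    exact Groth.Agent.Lib.helper2.AWNScheme.isIso_of_isAWN π hX hπ
  · intro hall
    exact key2 (hall X₀ ν₀ hν₀.1 inferInstance)

end Groth.Agent.S7426
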