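import Groth.Statements.S7400
import Groth.Agent.Lib.Helper2.UnivHomeoElem
import Groth.Agent.Lib.Helper2.ChainList

set_option autoImplicit false
universe u
open CategoryTheory AlgebraicGeometry
open Mor

namespace Groth.Agent.S7400

open Groth.Agent.Lib.helper2.UnivHomeoElem Groth.Agent.Lib.helper2.ChainList
open Groth.Agent.Lib.helper2

section

variable {A B : Type u} [CommRing A] [CommRing B] [Algebra A B]

def Step : Subalgebra A B → B → Prop := fun S b => b ^ 2 ∈ S ∧ b ^ 3 ∈ S

theorem step_mono (S S' : Subalgebra A B) (b : B) (h : S ≤ S') (hs : Step S b) : Step S' b :=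
  ⟨h hs.1, h hs.2⟩

theorem step_fin (C : Subalgebra A B) (b : B) (h : Step C b) :
    ∃ F : Finset B, (↑F : Set B) ⊆ C ∧ ∀ S : Subalgebra A B, (↑F : Set B) ⊆ S → Step S b := by
  classical
  refine ⟨{b ^ 2, b ^ 3}, ?_, fun S hS => ⟨hS (by simp), hS (by simp)⟩⟩
  intro x hx
  simp only [Finset.coe_insert, Finset.coe_singleton, Set.mem_insert_iff,
    Set.mem_singleton_iff] at hx
  rcases hx with rfl | rfl
  exacts [h.1, h.2]

theorem good_iff (l : List B) : GoodFrom (A := A) Step ∅ l ↔
    ∀ i : Fin l.length,
      l.get i ^ 2 ∈ Algebra.adjoin A {b : B | ∃ j : Fin l.length, j < i ∧ b = l.get j} ∧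
      l.get i ^ 3 ∈ Algebra.adjoin A {b : B | ∃ j : Fin l.length, j < i ∧ b = l.get j} := by
  rw [goodFrom_iff]
  simp only [Set.empty_union]
  rfl

/-- square and cube determine an element of a field, relative to a subfield-like condition. -/
theorem eq_of_sq_cube {K : Type u} [Field K] {u v : K} (h2 : u ^ 2 = v ^ 2) (h3 : u ^ 3 = v ^ 3) :
    u = v := by
  by_cases hu : u = 0
  · subst hu
    have : v ^ 2 = 0 := by rw [← h2]; ring
    exact (pow_eq_zero_iff (by norm_num)).1 this |>.symm
  · have hu2 : u ^ 2 ≠ 0 := pow_ne_zero 2 hu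
    have hv2 : v ^ 2 ≠ 0 := h2 ▸ hu2
    have e1 : u = u ^ 3 / u ^ 2 := by field_simp
    have hv : v ≠ 0 := fun h0 => hv2 (by rw [h0]; ring)
    have e2 : v = v ^ 3 / v ^ 2 := by field_simp
    rw [e1, e2, h2, h3]

theorem mem_of_chain
    (hchain : ∀ E : Finset B, ∃ l : List B, (↑E : Set B) ⊆ Algebra.adjoin A {b : B | b ∈ l} ∧
      GoodFrom (A := A) Step ∅ l)
    (T : Subalgebra A B)
    (hT : ∀ (S' : Subalgebra A B) (b : B), S' ≤ T → Step S' b → b ∈ T) (b : B) : b ∈ T := by
  classical
  obtain ⟨l, hEl, hgood⟩ := hchain {b}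
  have h1 := adjoin_le_of_goodFrom Step T hT ∅ l (by rw [Algebra.adjoin_empty]; exact bot_le) hgood
  rw [Set.empty_union] at h1
  exact h1 (hEl (by simp))

end

theorem residueFieldMap_surjective_of {A B : Type u} [CommRing A] [CommRing B] (φ : A →+* B)
    (h : ResSurj φ) (x : Spec (CommRingCat.of B)) :
    Function.Surjective ((Spec.map (CommRingCat.ofHom φ)).residueFieldMap x) := by
  intro z
  have hglue := SpecResidue.residueFieldMap_Spec (CommRingCat.ofHom φ) x
  set eR := Scheme.Spec.residueFieldIso (CommRingCat.of A) ((Spec.map (CommRingCat.ofHom φ)) x)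
  set eS := Scheme.Spec.residueFieldIso (CommRingCat.of B) x
  set r := (Spec.map (CommRingCat.ofHom φ)).residueFieldMap x
  obtain ⟨w, hw⟩ := h x (eS.hom.hom z)
  refine ⟨eR.inv.hom w, ?_⟩
  apply (eS.hom.hom).injective
  have h1 : (eR.inv ≫ r ≫ eS.hom).hom w =
      (CommRingCat.ofHom (Ideal.ResidueField.map
        ((Spec.map (CommRingCat.ofHom φ)) x).asIdeal x.asIdeal (CommRingCat.ofHom φ).hom rfl)).hom
        w := by rw [hglue]
  exact h1.trans hw

theorem exists_frac' {B : Type u} [CommRing B] (𝔮 : Ideal B) [𝔮.IsPrime] (x : 𝔮.ResidueField) :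
    ∃ (a s : B), algebraMap B 𝔮.ResidueField s ≠ 0 ∧
      x = algebraMap B 𝔮.ResidueField a / algebraMap B 𝔮.ResidueField s := by
  obtain ⟨a, s, hs, h⟩ := exists_frac 𝔮 x
  have hs0 : algebraMap B 𝔮.ResidueField s ≠ 0 := fun h0 =>
    hs ((Ideal.algebraMap_residueField_eq_zero).1 h0)
  exact ⟨a, s, hs0, by rw [← h]; field_simp⟩

set_option maxHeartbeats 1000000 in
theorem result' {A B : Type u} [CommRing A] [CommRing B] [Algebra A B]
    (hinj : Function.Injective (algebraMap A B)) :
    (FlatMor.IsUnivHomeo (Spec.map (CommRingCat.ofHom (algebraMap A B))) ∧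
      ∀ x : Spec (CommRingCat.of B),
        Function.Surjective ((Spec.map (CommRingCat.ofHom (algebraMap A B))).residueFieldMap x)) ↔
    ∀ E : Finset B, ∃ l : List B, (↑E : Set B) ⊆ Algebra.adjoin A {b : B | b ∈ l} ∧
      ∀ i : Fin l.length, l.get i ^ 2 ∈ Algebra.adjoin A {b : B | ∃ j : Fin l.length, j < i ∧ b = l.get j} ∧
        l.get i ^ 3 ∈ Algebra.adjoin A {b : B | ∃ j : Fin l.length, j < i ∧ b = l.get j} := by
  classical
  simp only [← good_iff]
  constructor
  · rintro ⟨hU, hres⟩
    have hUH : UH (algebraMap A B) := UH.of_isUnivHomeo _ hinj hU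
    have hRS : ResSurj (algebraMap A B) := resSurj_of _ hres
    refine exists_chain (A := A) Step step_mono step_fin ?_
    intro C hC
    set ψ : A →+* C := algebraMap A C with hψ
    set ι : C →+* B := C.val.toRingHom with hι
    have hcomp : algebraMap A B = ι.comp ψ := by
      ext a
      rfl
    have hιinj : Function.Injective ι := Subtype.val_injective
    rw [hcomp] at hUH hRS
    have hUHι : UH ι := UH.right ψ ι hιinj hUH
    have hRSι : ResSurj ι := ResSurj.right ψ ι hRS
    have hns : ¬ Function.Surjective ι := by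
      intro hsurj
      apply hC
      rw [Algebra.eq_top_iff]
      intro x
      obtain ⟨c, rfl⟩ := hsurj x
      exact c.2
    have hrange : ∀ b : B, b ∈ ι.range ↔ b ∈ C := by
      intro b
      constructor
      · rintro ⟨c, rfl⟩
        exact c.2
      · intro hb
        exact ⟨⟨b, hb⟩, rfl⟩
    obtain ⟨b, hb1, hb2, hb3⟩ := core398 ι hUHι hRSι hns
    exact ⟨b, fun hb => hb1 ((hrange b).2 hb), (hrange _).1 hb2, (hrange _).1 hb3⟩
  · intro hchain
    -- integrality
    have hint : (algebraMap A B).IsIntegral := by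
      intro b
      have := mem_of_chain hchain (integralClosure A B) (fun S' b hS' hstep =>
        IsIntegral.of_pow (by norm_num : 0 < 2) (hS' hstep.1)) b
      exact this
    have hsurj : Function.Surjective (PrimeSpectrum.comap (algebraMap A B)) := by
      intro P
      haveI : Algebra.IsIntegral A B := algebraMap_isIntegral_iff.1 hint
      obtain ⟨Q, -, hQ, hQP⟩ := Ideal.exists_ideal_over_prime_of_isIntegral P.asIdeal
        (⊥ : Ideal B)
        (by rw [← RingHom.ker_eq_comap_bot, (RingHom.injective_iff_ker_eq_bot _).1 hinj]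
            exact bot_le)
      exact ⟨⟨Q, hQ⟩, PrimeSpectrum.ext hQP⟩
    refine ⟨SpecResidue.isUnivHomeo_Spec_of (algebraMap A B) hint hsurj ?_, ?_⟩
    · intro K _ φ₁ φ₂ h12
      let T : Subalgebra A B :=
        { carrier := {b | φ₁ b = φ₂ b}
          mul_mem' := by
            intro a b (ha : φ₁ a = φ₂ a) (hb : φ₁ b = φ₂ b)
            show φ₁ (a * b) = φ₂ (a * b)
            rw [map_mul, map_mul, ha, hb]
          one_mem' := by
            show φ₁ 1 = φ₂ 1
            rw [map_one, map_one]
          add_mem' := by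
            intro a b (ha : φ₁ a = φ₂ a) (hb : φ₁ b = φ₂ b)
            show φ₁ (a + b) = φ₂ (a + b)
            rw [map_add, map_add, ha, hb]
          zero_mem' := by
            show φ₁ 0 = φ₂ 0
            rw [map_zero, map_zero]
          algebraMap_mem' := by
            intro a
            show φ₁ (algebraMap A B a) = φ₂ (algebraMap A B a)
            exact congrArg (fun f => f a) h12 }
      ext b
      refine mem_of_chain hchain T (fun S' b hS' hstep => ?_) b
      have h2 : φ₁ (b ^ 2) = φ₂ (b ^ 2) := hS' hstep.1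
      have h3 : φ₁ (b ^ 3) = φ₂ (b ^ 3) := hS' hstep.2
      rw [map_pow, map_pow] at h2 h3
      exact eq_of_sq_cube h2 h3
    · apply residueFieldMap_surjective_of
      intro Q
      set ρ := Ideal.ResidueField.map (PrimeSpectrum.comap (algebraMap A B) Q).asIdeal Q.asIdeal
        (algebraMap A B) rfl with hρ
      let T : Subalgebra A B :=
        { carrier := {b | algebraMap B Q.asIdeal.ResidueField b ∈ ρ.range}
          mul_mem' := by
            intro a b ha hb
            show algebraMap B Q.asIdeal.ResidueField (a * b) ∈ ρ.range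
            rw [map_mul]
            exact Subring.mul_mem _ ha hb
          one_mem' := by
            show algebraMap B Q.asIdeal.ResidueField 1 ∈ ρ.range
            rw [map_one]
            exact Subring.one_mem _
          add_mem' := by
            intro a b ha hb
            show algebraMap B Q.asIdeal.ResidueField (a + b) ∈ ρ.range
            rw [map_add]
            exact Subring.add_mem _ ha hb
          zero_mem' := by
            show algebraMap B Q.asIdeal.ResidueField 0 ∈ ρ.range
            rw [map_zero]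
            exact Subring.zero_mem _
          algebraMap_mem' := by
            intro a
            show algebraMap B Q.asIdeal.ResidueField (algebraMap A B a) ∈ ρ.range
            exact ⟨algebraMap A _ a, Ideal.ResidueField.map_algebraMap _ _ _ _ _⟩ }
      have hdiv : ∀ u v : Q.asIdeal.ResidueField, u ∈ ρ.range → v ∈ ρ.range → u / v ∈ ρ.range := by
        rintro _ _ ⟨x, rfl⟩ ⟨y, rfl⟩
        exact ⟨x / y, map_div₀ ρ x y⟩
      have hall : ∀ b : B, b ∈ T := by
        intro b
        refine mem_of_chain hchain T (fun S' b hS' hstep => ?_) b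
        have h2 : algebraMap B Q.asIdeal.ResidueField (b ^ 2) ∈ ρ.range := hS' hstep.1
        have h3 : algebraMap B Q.asIdeal.ResidueField (b ^ 3) ∈ ρ.range := hS' hstep.2
        show algebraMap B Q.asIdeal.ResidueField b ∈ ρ.range
        rw [map_pow] at h2 h3
        set u := algebraMap B Q.asIdeal.ResidueField b
        by_cases hu : u = 0
        · rw [hu]; exact Subring.zero_mem _
        · have : u = u ^ 3 / u ^ 2 := by field_simp
          rw [this]
          exact hdiv _ _ h3 h2
      intro z
      obtain ⟨a, s, hs0, rfl⟩ := exists_frac' Q.asIdeal z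
      exact hdiv _ _ (hall a) (hall s)


/-- Let `A ⊆ B` be a ring extension. The morphism `Spec B → Spec A` is a universal homeomorphism with
all residue field extensions trivial exactly when each finite subset of `B` is contained in some
`A[b_1, …, b_n] ⊆ B` such that `b_i^2` and `b_i^3` lie in `A[b_1, …, b_{i-1}]` for every `i`. (Here
`A → B` is an injective ring map and `A[b_1, …, b_{i-1}]` is the `A`-subalgebra generated by the
earlier entries.) -/
theorem result {A B : Type u} [CommRing A] [CommRing B] [Algebra A B]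
    (hinj : Function.Injective (algebraMap A B)) :
    (FlatMor.IsUnivHomeo (Spec.map (CommRingCat.ofHom (algebraMap A B))) ∧
      ∀ x : Spec (CommRingCat.of B),
        Function.Surjective ((Spec.map (CommRingCat.ofHom (algebraMap A B))).residueFieldMap x)) ↔
    ∀ E : Finset B, ∃ l : List B, (↑E : Set B) ⊆ Algebra.adjoin A {b : B | b ∈ l} ∧
      ∀ i : Fin l.length, l.get i ^ 2 ∈ Algebra.adjoin A {b : B | ∃ j : Fin l.length, j < i ∧ b = l.get j} ∧
        l.get i ^ 3 ∈ Algebra.adjoin A {b : B | ∃ j : Fin l.length, j < i ∧ b = l.get j} := by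
  exact result' hinj

end Groth.Agent.S7400
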