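import Groth.Statements.S7428
import Groth.Agent.S7400
import Groth.Agent.Lib.Helper2.AWNRing

set_option autoImplicit false
universe u
open CategoryTheory AlgebraicGeometry
open Mor

namespace Groth.Agent.S7428


open Groth.Agent.Lib.helper2.UnivHomeoElem Groth.Agent.Lib.helper2.ChainList
open Groth.Agent.Lib.helper2
open Groth.Agent.S7400 (Step step_mono step_fin good_iff)

section base

variable {A R : Type u} [CommRing A] [CommRing R] [Algebra A R]

/-- adjoining over the image subring is the same as adjoining over `A`. -/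
theorem adjoin_range_coe (S : Set R) :
    (Algebra.adjoin (algebraMap A R).range S : Set R) = (Algebra.adjoin A S : Set R) := by
  ext x
  simp only [SetLike.mem_coe]
  constructor
  · intro hx
    induction hx using Algebra.adjoin_induction with
    | mem x hx => exact Algebra.subset_adjoin hx
    | algebraMap r =>
      obtain ⟨a, ha⟩ := r.2
      have : algebraMap (algebraMap A R).range R r = algebraMap A R a := ha.symm
      rw [this]
      exact Subalgebra.algebraMap_mem _ a
    | add x y _ _ hx hy => exact Subalgebra.add_mem _ hx hy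
    | mul x y _ _ hx hy => exact Subalgebra.mul_mem _ hx hy
  · intro hx
    induction hx using Algebra.adjoin_induction with
    | mem x hx => exact Algebra.subset_adjoin hx
    | algebraMap a =>
      have : algebraMap A R a =
          algebraMap (algebraMap A R).range R ⟨algebraMap A R a, a, rfl⟩ := rfl
      rw [this]
      exact Subalgebra.algebraMap_mem _ _
    | add x y _ _ hx hy => exact Subalgebra.add_mem _ hx hy
    | mul x y _ _ hx hy => exact Subalgebra.mul_mem _ hx hy

theorem mem_adjoin_range_iff (S : Set R) (x : R) :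
    x ∈ Algebra.adjoin (algebraMap A R).range S ↔ x ∈ Algebra.adjoin A S := by
  rw [← SetLike.mem_coe, adjoin_range_coe, SetLike.mem_coe]

theorem goodFrom_range_iff (S : Set R) (l : List R) :
    GoodFrom (A := (algebraMap A R).range) Step S l ↔ GoodFrom (A := A) Step S l := by
  induction l generalizing S with
  | nil => simp only [GoodFrom]
  | cons b l ih =>
    simp only [GoodFrom]
    rw [ih]
    have : Step (Algebra.adjoin (algebraMap A R).range S) b ↔ Step (Algebra.adjoin A S) b := by
      unfold Step
      rw [mem_adjoin_range_iff, mem_adjoin_range_iff]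
    rw [this]

set_option maxHeartbeats 1000000 in
/-- S7400 without injectivity (nil kernel suffices). -/
theorem gen7400 (hker : RingHom.ker (algebraMap A R) ≤ nilradical A) :
    (FlatMor.IsUnivHomeo (Spec.map (CommRingCat.ofHom (algebraMap A R))) ∧
      ∀ x : Spec (CommRingCat.of R),
        Function.Surjective ((Spec.map (CommRingCat.ofHom (algebraMap A R))).residueFieldMap x)) ↔
    ∀ E : Finset R, ∃ l : List R, (↑E : Set R) ⊆ Algebra.adjoin A {b : R | b ∈ l} ∧
      GoodFrom (A := A) Step ∅ l := by
  set A₀ := (algebraMap A R).range with hA₀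
  set ψ : A →+* A₀ := (algebraMap A R).rangeRestrict with hψdef
  set ι : A₀ →+* R := algebraMap A₀ R with hιdef
  have hcomp : algebraMap A R = ι.comp ψ := by
    ext a
    rfl
  have hψs : Function.Surjective ψ := (algebraMap A R).rangeRestrict_surjective
  have hψker : RingHom.ker ψ ≤ nilradical A := by
    intro a ha
    apply hker
    rw [RingHom.mem_ker] at ha ⊢
    have := congrArg Subtype.val ha
    exact this
  have hψ : FlatMor.IsUnivHomeo (Spec.map (CommRingCat.ofHom ψ)) :=
    AWNRing.isUnivHomeo_of_surjective_nil ψ hψs hψker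
  have hinj : Function.Injective (algebraMap A₀ R) := Subtype.val_injective
  have key := Groth.Agent.S7400.result' (A := A₀) (B := R) hinj
  simp only [← good_iff] at key
  constructor
  · rintro ⟨hU, hres⟩
    have hUι : FlatMor.IsUnivHomeo (Spec.map (CommRingCat.ofHom ι)) := by
      refine AWNRing.isUnivHomeo_of_comp_Spec ψ ι hψ ?_
      rw [← hcomp]
      exact hU
    have hRS : ResSurj (ι.comp ψ) := by
      rw [← hcomp]
      exact resSurj_of _ hres
    have hRSι : ResSurj ι := ResSurj.right ψ ι hRS
    have hresι := Groth.Agent.S7400.residueFieldMap_surjective_of ι hRSι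
    intro E
    obtain ⟨l, hEl, hl⟩ := key.1 ⟨hUι, hresι⟩ E
    refine ⟨l, ?_, (goodFrom_range_iff ∅ l).1 hl⟩
    intro x hx
    exact (mem_adjoin_range_iff _ x).1 (hEl hx)
  · intro hchain
    have hchain' : ∀ E : Finset R, ∃ l : List R,
        (↑E : Set R) ⊆ Algebra.adjoin A₀ {b : R | b ∈ l} ∧ GoodFrom (A := A₀) Step ∅ l := by
      intro E
      obtain ⟨l, hEl, hl⟩ := hchain E
      refine ⟨l, ?_, (goodFrom_range_iff ∅ l).2 hl⟩
      intro x hx
      exact (mem_adjoin_range_iff _ x).2 (hEl hx)
    obtain ⟨hUι, hresι⟩ := key.2 hchain'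
    refine ⟨?_, ?_⟩
    · rw [hcomp]
      exact AWNRing.isUnivHomeo_comp_Spec ψ ι hψ hUι
    · have hRSι : ResSurj ι := resSurj_of _ hresι
      have hRS : ResSurj (ι.comp ψ) := by
        intro Q
        rw [residueField_map_comp ψ ι (PrimeSpectrum.comap (ι.comp ψ) Q).asIdeal
          (PrimeSpectrum.comap ι Q).asIdeal Q.asIdeal rfl rfl rfl]
        refine (hRSι Q).comp ?_
        exact ((RingHom.surjectiveOnStalks_of_surjective hψs).residueFieldMap_bijective _ _ _).2
      rw [hcomp]
      exact Groth.Agent.S7400.residueFieldMap_surjective_of _ hRS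

end base


section main

variable {A B : Type u} [CommRing A] [CommRing B] [Algebra A B]

/-- the candidate subalgebra. -/
def Bp : Subalgebra A B := goodSub (A := A) (B := B) Step step_mono

theorem mem_Bp_of_step (S' : Subalgebra A B) (b : B) (hS' : S' ≤ Bp (A := A) (B := B))
    (h : Step S' b) : b ∈ Bp (A := A) (B := B) := by
  classical
  obtain ⟨F, hFC, hFstep⟩ := step_fin S' b h
  obtain ⟨l, hl, hFl⟩ := exists_list_of_finset (A := A) Step step_mono F
    (fun x hx => hS' (hFC hx))
  refine ⟨l ++ [b], good_snoc Step hl b (hFstep _ hFl), Algebra.subset_adjoin ?_⟩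
  simp

theorem mem_adjoin_of_val_mem (T : Subalgebra A B) (S' : Set T) (y : T)
    (h : (T.val y) ∈ Algebra.adjoin A (T.val '' S')) : y ∈ Algebra.adjoin A S' := by
  rw [← AlgHom.map_adjoin, Subalgebra.mem_map] at h
  obtain ⟨z, hz, hzy⟩ := h
  have : z = y := Subtype.val_injective hzy
  rw [← this]
  exact hz

theorem goodFrom_of_map_val (T : Subalgebra A B) (S' : Set T) (l' : List T)
    (h : GoodFrom (A := A) Step (T.val '' S') (l'.map T.val)) :
    GoodFrom (A := A) Step S' l' := by
  induction l' generalizing S' with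
  | nil => trivial
  | cons b' l' ih =>
    simp only [List.map_cons, GoodFrom] at h ⊢
    obtain ⟨h0, h1⟩ := h
    refine ⟨?_, ?_⟩
    · refine ⟨mem_adjoin_of_val_mem T S' (b' ^ 2) ?_, mem_adjoin_of_val_mem T S' (b' ^ 3) ?_⟩
      · rw [map_pow]; exact h0.1
      · rw [map_pow]; exact h0.2
    · apply ih
      rw [Set.image_insert_eq]
      exact h1

theorem goodFrom_map {C : Type u} [CommRing C] [Algebra A C] (g : C →ₐ[A] B) (S : Set C)
    (l : List C) (h : GoodFrom (A := A) Step S l) :
    GoodFrom (A := A) Step (g '' S) (l.map g) := by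
  induction l generalizing S with
  | nil => trivial
  | cons b l ih =>
    simp only [List.map_cons, GoodFrom] at h ⊢
    obtain ⟨h0, h1⟩ := h
    refine ⟨?_, ?_⟩
    · have hmem : ∀ x : C, x ∈ Algebra.adjoin A S → g x ∈ Algebra.adjoin A (g '' S) := by
        intro x hx
        rw [← AlgHom.map_adjoin]
        exact ⟨x, hx, rfl⟩
      refine ⟨?_, ?_⟩
      · rw [← map_pow]; exact hmem _ h0.1
      · rw [← map_pow]; exact hmem _ h0.2
    · have := ih (insert b S) h1
      rw [Set.image_insert_eq] at this
      exact this

theorem ker_le_of_isUnivHomeo {C : Type u} [CommRing C] (φ : A →+* C)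
    (hU : FlatMor.IsUnivHomeo (Spec.map (CommRingCat.ofHom φ))) :
    RingHom.ker φ ≤ nilradical A := by
  intro a ha
  rw [nilradical_eq_sInf, Ideal.mem_sInf]
  intro P hP
  obtain ⟨Q, hQ⟩ := (SpecResidue.comap_bijective_of_isUnivHomeo_Spec φ hU).2 ⟨P, hP⟩
  have h1 : a ∈ (PrimeSpectrum.comap φ Q).asIdeal := by
    show φ a ∈ Q.asIdeal
    rw [RingHom.mem_ker] at ha
    rw [ha]
    exact Q.asIdeal.zero_mem
  rw [hQ] at h1
  exact h1

theorem chain_T (T : Subalgebra A B) (hTsub : ∀ y : T, (y : B) ∈ goodUnion (A := A) Step)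
    (hTcl : ∀ (S' : Subalgebra A B) (b : B), S' ≤ T → Step S' b → b ∈ T)
    (E : Finset T) :
    ∃ l : List T,
      (↑E : Set T) ⊆ Algebra.adjoin A {b | b ∈ l} ∧
      GoodFrom (A := A) Step ∅ l := by
  classical
  have hE : (↑(E.image T.val) : Set B) ⊆ goodUnion (A := A) Step := by
    intro x hx
    rw [Finset.coe_image] at hx
    obtain ⟨y, -, rfl⟩ := hx
    exact hTsub y
  obtain ⟨l, hl, hEl⟩ := exists_list_of_finset (A := A) Step step_mono _ hE
  have hlT : Algebra.adjoin A (∅ ∪ {b | b ∈ l}) ≤ T :=
    adjoin_le_of_goodFrom Step T hTcl ∅ l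
      (by rw [Algebra.adjoin_empty]; exact bot_le) hl
  rw [Set.empty_union] at hlT
  have hmem : ∀ x ∈ l, x ∈ T := fun x hx => hlT (Algebra.subset_adjoin hx)
  have hrange : l ∈ Set.range (List.map (Subtype.val : ((T : Set B) : Type u) → B)) := by
    rw [Set.range_list_map_coe]
    exact hmem
  obtain ⟨l', hl'⟩ := hrange
  have hl'' : l'.map T.val = l := hl'
  have himage : T.val '' {b | b ∈ l'} = {b | b ∈ l} := by
    ext x
    rw [← hl'']
    simp only [Set.mem_image, Set.mem_ofPred_eq, List.mem_map]
  refine ⟨l', ?_, ?_⟩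
  · intro e he
    apply mem_adjoin_of_val_mem T
    rw [himage]
    apply hEl
    rw [Finset.coe_image]
    exact ⟨e, he, rfl⟩
  · apply goodFrom_of_map_val T
    rw [Set.image_empty, hl'']
    exact hl

end main

/-- Let `A → B` be a ring map with `Spec B → Spec A` dominant. Then some `A`-subalgebra `B' ⊆ B` has
`Spec B' → Spec A` a universal homeomorphism with trivial residue field extensions and contains the
image of `C → B` for every `A`-algebra `C` with an `A`-algebra map `C → B` such that `Spec C → Spec
A` is a universal homeomorphism with trivial residue field extensions. (Trivial residue field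
extensions: every residue field map of the morphism of spectra is surjective. The test algebras `C`
range over the universe of `A` and `B`.) -/
theorem result {A B : Type u} [CommRing A] [CommRing B] [Algebra A B]
    [IsDominant (Spec.map (CommRingCat.ofHom (algebraMap A B)))] :
    ∃ B' : Subalgebra A B, (FlatMor.IsUnivHomeo (Spec.map (CommRingCat.ofHom (algebraMap A B'))) ∧
      ∀ x : Spec (CommRingCat.of B'),
        Function.Surjective ((Spec.map (CommRingCat.ofHom (algebraMap A B'))).residueFieldMap x)) ∧
      ∀ (C : Type u) [CommRing C] [Algebra A C] (g : C →ₐ[A] B),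
        FlatMor.IsUnivHomeo (Spec.map (CommRingCat.ofHom (algebraMap A C))) →
        (∀ x : Spec (CommRingCat.of C),
          Function.Surjective ((Spec.map (CommRingCat.ofHom (algebraMap A C))).residueFieldMap x)) →
        g.range ≤ B' := by
  classical
  have hker : RingHom.ker (algebraMap A B) ≤ nilradical A := by
    rw [← PrimeSpectrum.denseRange_comap_iff_ker_le_nilRadical]
    exact Scheme.Hom.denseRange (Spec.map (CommRingCat.ofHom (algebraMap A B)))
  refine ⟨Bp (A := A) (B := B), ?_, ?_⟩
  · have hker' : RingHom.ker (algebraMap A (Bp (A := A) (B := B))) ≤ nilradical A := by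
      intro a ha
      apply hker
      rw [RingHom.mem_ker] at ha ⊢
      have := congrArg Subtype.val ha
      exact this
    exact (gen7400 hker').2 (chain_T _ (fun y => y.2)
      (fun S' b hS' hb => mem_Bp_of_step S' b hS' hb))
  · intro C _ _ g hU hres
    have hkerC := ker_le_of_isUnivHomeo (algebraMap A C) hU
    have hchain := (gen7400 hkerC).1 ⟨hU, hres⟩
    rintro _ ⟨c, rfl⟩
    obtain ⟨l, hcl, hl⟩ := hchain {c}
    have h1 := goodFrom_map g ∅ l hl
    rw [Set.image_empty] at h1
    refine ⟨l.map g, h1, ?_⟩
    have h2 : g c ∈ Algebra.adjoin A (g '' {b | b ∈ l}) := by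
      rw [← AlgHom.map_adjoin]
      exact ⟨c, hcl (by simp), rfl⟩
    have h3 : g '' {b | b ∈ l} = {x | x ∈ l.map g} := by
      ext x
      simp only [Set.mem_image, Set.mem_ofPred_eq, List.mem_map]
    rw [h3] at h2
    exact h2

end Groth.Agent.S7428
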