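import Groth.Statements.S0418
import Groth.Agent.Lib.Helper2.FpColimUH

set_option autoImplicit false
universe u
open FlatMor

namespace Groth.Agent.S0418


open AlgebraicGeometry CategoryTheory
open Groth.Agent.Lib.helper2 Groth.Agent.Lib.helper2.ChainList

section

variable {A B : Type u} [CommRing A] [CommRing B] (φ : A →+* B) (p : ℕ)

/-- the property of the statement. -/
def Q (b : B) : Prop := ∃ n : ℕ, (p ^ n : B) * b ∈ φ.range ∧ b ^ (p ^ n) ∈ φ.range

variable {φ p}

theorem natCast_mem_range (m : ℕ) : (m : B) ∈ φ.range := ⟨(m : A), map_natCast φ m⟩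

theorem q_mono {b : B} {n : ℕ} (h1 : (p ^ n : B) * b ∈ φ.range) (h2 : b ^ (p ^ n) ∈ φ.range)
    (m : ℕ) : (p ^ (n + m) : B) * b ∈ φ.range ∧ b ^ (p ^ (n + m)) ∈ φ.range := by
  refine ⟨?_, ?_⟩
  · have : (p ^ (n + m) : B) * b = (p : B) ^ m * ((p : B) ^ n * b) := by ring
    rw [this]
    exact Subring.mul_mem _ (Subring.pow_mem _ (natCast_mem_range p) m) h1
  · rw [pow_add, pow_mul]
    exact Subring.pow_mem _ h2 _

theorem q_common {b c : B} (hb : Q φ p b) (hc : Q φ p c) :
    ∃ n : ℕ, ((p ^ n : B) * b ∈ φ.range ∧ b ^ (p ^ n) ∈ φ.range) ∧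
      ((p ^ n : B) * c ∈ φ.range ∧ c ^ (p ^ n) ∈ φ.range) := by
  obtain ⟨n, h1, h2⟩ := hb
  obtain ⟨m, h3, h4⟩ := hc
  refine ⟨n + m, q_mono h1 h2 m, ?_⟩
  rw [add_comm]
  exact q_mono h3 h4 n

theorem q_mul {b c : B} (hb : Q φ p b) (hc : Q φ p c) : Q φ p (b * c) := by
  obtain ⟨n, ⟨h1, h2⟩, h3, h4⟩ := q_common hb hc
  obtain ⟨h5, h6⟩ := q_mono h3 h4 n
  refine ⟨n + n, ?_, ?_⟩
  · have : (p ^ (n + n) : B) * (b * c) = ((p : B) ^ n * b) * ((p : B) ^ n * c) := by ring
    rw [this]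
    exact Subring.mul_mem _ h1 h3
  · rw [mul_pow]
    exact Subring.mul_mem _ (q_mono h1 h2 n).2 h6

theorem q_algebraMap (a : A) : Q φ p (φ a) :=
  ⟨0, by simpa using ⟨a, rfl⟩, by simpa using ⟨a, rfl⟩⟩

end


section alg

variable {A B : Type u} [CommRing A] [CommRing B] [Algebra A B] {p : ℕ}

theorem exists_pow_mul_mem
    (hsurj : ∀ b : B, ∃ m : ℕ, (p ^ m : B) * b ∈ (algebraMap A B).range)
    (D : Submodule A B) (hD : D.FG) :
    ∃ M : ℕ, ∀ d ∈ D, (p ^ M : B) * d ∈ (algebraMap A B).range := by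
  classical
  obtain ⟨s, hs⟩ := hD
  choose m hm using hsurj
  refine ⟨s.sup m, ?_⟩
  let N : Submodule A B :=
    { carrier := {x | (p ^ (s.sup m) : B) * x ∈ (algebraMap A B).range}
      add_mem' := by
        intro x y hx hy
        show (p ^ (s.sup m) : B) * (x + y) ∈ (algebraMap A B).range
        rw [mul_add]
        exact Subring.add_mem _ hx hy
      zero_mem' := by
        show (p ^ (s.sup m) : B) * (0 : B) ∈ (algebraMap A B).range
        rw [mul_zero]
        exact Subring.zero_mem _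
      smul_mem' := by
        intro a x hx
        show (p ^ (s.sup m) : B) * (a • x) ∈ (algebraMap A B).range
        rw [Algebra.smul_def, mul_left_comm]
        exact Subring.mul_mem _ ⟨a, rfl⟩ hx }
  have hDN : D ≤ N := by
    rw [← hs, Submodule.span_le]
    intro x hx
    show (p ^ (s.sup m) : B) * x ∈ (algebraMap A B).range
    have hle : m x ≤ s.sup m := Finset.le_sup hx
    obtain ⟨k, hk⟩ := Nat.exists_eq_add_of_le hle
    rw [hk, pow_add, mul_comm ((p : B) ^ (m x)), mul_assoc]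
    exact Subring.mul_mem _ (Subring.pow_mem _ (natCast_mem_range p) k) (hm x)
  exact fun d hd => hDN hd

theorem q_add (hp : p.Prime)
    (hsurj : ∀ b : B, ∃ m : ℕ, (p ^ m : B) * b ∈ (algebraMap A B).range)
    {b c : B} (hb : Q (algebraMap A B) p b) (hc : Q (algebraMap A B) p c) :
    Q (algebraMap A B) p (b + c) := by
  obtain ⟨n, ⟨h1, h2⟩, h3, h4⟩ := q_common hb hc
  have hpn : 0 < p ^ n := pow_pos hp.pos n
  have hbi : IsIntegral A b := by
    refine IsIntegral.of_pow hpn ?_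
    obtain ⟨a, ha⟩ := h2
    rw [← ha]
    exact isIntegral_algebraMap
  have hci : IsIntegral A c := by
    refine IsIntegral.of_pow hpn ?_
    obtain ⟨a, ha⟩ := h4
    rw [← ha]
    exact isIntegral_algebraMap
  set D := Algebra.adjoin A ({b, c} : Set B) with hDdef
  have hfg : D.toSubmodule.FG := fg_adjoin_of_finite (Set.toFinite _) (by
    rintro x (rfl | rfl)
    exacts [hbi, hci])
  obtain ⟨M, hM⟩ := exists_pow_mul_mem hsurj D.toSubmodule hfg
  have hbD : b ∈ D := Algebra.subset_adjoin (by simp)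
  have hcD : c ∈ D := Algebra.subset_adjoin (by simp)
  obtain ⟨r, hr⟩ := exists_add_pow_prime_pow_eq hp (⟨b, hbD⟩ : D) ⟨c, hcD⟩ n
  have hdvd : ((p : ℕ) : D) ∣ ((⟨b, hbD⟩ : D) + ⟨c, hcD⟩) ^ p ^ n -
      ((⟨b, hbD⟩ : D) ^ p ^ n + (⟨c, hcD⟩ : D) ^ p ^ n) :=
    ⟨(⟨b, hbD⟩ : D) * ⟨c, hcD⟩ * r, by rw [hr]; ring⟩
  obtain ⟨d, hd⟩ := dvd_sub_pow_of_dvd_sub hdvd M
  have hd' : ((b + c) ^ p ^ n) ^ p ^ M - (b ^ p ^ n + c ^ p ^ n) ^ p ^ M =
      (p : B) ^ (M + 1) * (d : B) := by
    have := congrArg (Subtype.val) hd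
    simpa using this
  refine ⟨n + M, ?_, ?_⟩
  · have : (p ^ (n + M) : B) * (b + c) = (p : B) ^ M * ((p : B) ^ n * b + (p : B) ^ n * c) := by
      ring
    rw [this]
    exact Subring.mul_mem _ (Subring.pow_mem _ (natCast_mem_range p) M) (Subring.add_mem _ h1 h3)
  · rw [pow_add, pow_mul]
    have e : ((b + c) ^ p ^ n) ^ p ^ M =
        (b ^ p ^ n + c ^ p ^ n) ^ p ^ M + (p : B) * ((p : B) ^ M * (d : B)) := by
      rw [← sub_eq_iff_eq_add', hd']
      ring
    rw [e]
    refine Subring.add_mem _ (Subring.pow_mem _ (Subring.add_mem _ h2 h4) _)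
      (Subring.mul_mem _ (natCast_mem_range p) (hM d d.2))

/-- the subalgebra of elements with the property. -/
def Bq (hp : p.Prime)
    (hsurj : ∀ b : B, ∃ m : ℕ, (p ^ m : B) * b ∈ (algebraMap A B).range) : Subalgebra A B where
  carrier := {b | Q (algebraMap A B) p b}
  mul_mem' := fun hb hc => q_mul hb hc
  add_mem' := fun hb hc => q_add hp hsurj hb hc
  algebraMap_mem' := fun a => q_algebraMap a

end alg


section main

variable {A B : Type u} [CommRing A] [CommRing B] [Algebra A B] {p : ℕ}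

theorem pow_mem_of_sq_cube (T : Subalgebra A B) (b : B) (h2 : b ^ 2 ∈ T) (h3 : b ^ 3 ∈ T) :
    ∀ m, 2 ≤ m → b ^ m ∈ T := by
  intro m
  induction m using Nat.strong_induction_on with
  | _ m ih =>
    intro hm
    rcases (by omega : m = 2 ∨ m = 3 ∨ 4 ≤ m) with rfl | rfl | h4
    · exact h2
    · exact h3
    · have h := ih (m - 2) (by omega) (by omega)
      have e : b ^ m = b ^ (m - 2) * b ^ 2 := by
        rw [← pow_add]
        congr 1
        omega
      rw [e]
      exact T.mul_mem h h2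

theorem q_finish {b : B} {k : ℕ} (hk : (p ^ k : B) * b ∈ (algebraMap A B).range)
    (hq : Q (algebraMap A B) p (b ^ (p ^ k))) : Q (algebraMap A B) p b := by
  obtain ⟨n', h1, h2⟩ := hq
  refine ⟨k + n', ?_, ?_⟩
  · have : (p ^ (k + n') : B) * b = (p : B) ^ n' * ((p : B) ^ k * b) := by ring
    rw [this]
    exact Subring.mul_mem _ (Subring.pow_mem _ (natCast_mem_range p) _) hk
  · rw [pow_add, pow_mul]
    exact h2

theorem step_closed (hp : p.Prime)
    (hsurj : ∀ b : B, ∃ m : ℕ, (p ^ m : B) * b ∈ (algebraMap A B).range)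
    (S' : Subalgebra A B) (b : B) (hS' : S' ≤ Bq hp hsurj)
    (hstep : Groth.Agent.S7401.Step S' b) : b ∈ Bq hp hsurj := by
  obtain ⟨k₀, hk₀⟩ := hsurj b
  have hk : (p ^ (k₀ + 1) : B) * b ∈ (algebraMap A B).range := by
    have : (p ^ (k₀ + 1) : B) * b = (p : B) * ((p : B) ^ k₀ * b) := by ring
    rw [this]
    exact Subring.mul_mem _ (natCast_mem_range p) hk₀
  have h2le : 2 ≤ p ^ (k₀ + 1) := by
    calc 2 ≤ p := hp.two_le
      _ = p ^ 1 := (pow_one p).symm
      _ ≤ p ^ (k₀ + 1) := Nat.pow_le_pow_right hp.pos (by omega)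
  rcases hstep with ⟨h2, h3⟩ | ⟨ℓ, hℓ, h1, h2⟩
  · exact q_finish hk (pow_mem_of_sq_cube (Bq hp hsurj) b (hS' h2) (hS' h3) _ h2le)
  · by_cases hℓp : ℓ = p
    · subst hℓp
      have e : b ^ (ℓ ^ (k₀ + 1)) = (b ^ ℓ) ^ (ℓ ^ k₀) := by
        rw [← pow_mul, pow_succ']
      refine q_finish hk ?_
      rw [e]
      exact Subalgebra.pow_mem (Bq hp hsurj) (hS' h2) _
    · have hcop : Nat.Coprime ℓ (p ^ (k₀ + 1)) :=
        Nat.Coprime.pow_right _ ((Nat.coprime_primes hℓ hp).2 hℓp)
      obtain ⟨u, v, huv⟩ := Nat.isCoprime_iff_coprime.2 hcop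
      have e : b = (u : B) * ((ℓ : B) * b) + (v : B) * ((p ^ (k₀ + 1) : B) * b) := by
        have h1' := congrArg (fun z : ℤ => (z : B)) huv
        push_cast at h1'
        linear_combination (-b) * h1'
      rw [e]
      have hkq : (p ^ (k₀ + 1) : B) * b ∈ Bq hp hsurj := by
        obtain ⟨a, ha⟩ := hk
        rw [← ha]
        exact q_algebraMap a
      exact Subalgebra.add_mem _ (Subalgebra.mul_mem _ (intCast_mem _ u) (hS' h1))
        (Subalgebra.mul_mem _ (intCast_mem _ v) hkq)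

theorem eq_of_pow_mul_pow {K : Type u} [Field K] (hp : p.Prime) (n : ℕ) (u v : K)
    (h1 : (p : K) ^ n * u = (p : K) ^ n * v) (h2 : u ^ p ^ n = v ^ p ^ n) : u = v := by
  by_cases hpK : (p : K) = 0
  · induction n generalizing u v with
    | zero => simpa using h2
    | succ n ih =>
      have h3 : u ^ p ^ n = v ^ p ^ n := by
        refine PolyQuotUH.eq_of_mul_pow p hp (by rw [hpK, zero_mul, zero_mul]) ?_
        rw [← pow_mul, ← pow_mul, ← pow_succ]
        exact h2
      exact ih u v (by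
        rcases Nat.eq_zero_or_pos n with rfl | hn
        · simpa using h3
        · rw [hpK, zero_pow hn.ne', zero_mul, zero_mul]) h3
  · exact mul_left_cancel₀ (pow_ne_zero n hpK) h1

end main

open AlgebraicGeometry in
/-- For a prime number p and a ring map A → B that becomes an isomorphism after inverting p, Spec B →
Spec A is a universal homeomorphism if and only if the kernel consists of nilpotents and every
element of B has some p-power multiple and p-power power in the image. -/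
theorem result {A B : Type u} [CommRing A] [CommRing B] (φ : A →+* B) (p : ℕ) (hp : p.Prime)
    (h : Function.Bijective (Localization.awayMap φ (p : A))) :
    FlatMor.IsUnivHomeo (Spec.map (CommRingCat.ofHom φ)) ↔
      (∀ a ∈ RingHom.ker φ, IsNilpotent a) ∧ ∀ b : B, ∃ n : ℕ, (p ^ n : B) * b ∈ φ.range ∧ b ^ (p ^ n) ∈ φ.range := by
  letI := φ.toAlgebra
  have hsurj : ∀ b : B, ∃ m : ℕ, (p ^ m : B) * b ∈ (algebraMap A B).range := by
    intro b
    obtain ⟨a, m, ha⟩ := Localization.awayMap_surjective_iff.1 h.2 b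
    refine ⟨m, a, ?_⟩
    show φ a = _
    rw [ha, map_natCast]
  constructor
  · intro hU
    refine ⟨fun a ha => mem_nilradical.1 (FiltColimUH.ker_le_of_isUnivHomeo φ hU ha), ?_⟩
    intro b
    obtain ⟨l, hl, hbl⟩ := FpColimUH.mem_goodUnion401 (A := A) (B := B) hU b
    have := adjoin_le_of_goodFrom Groth.Agent.S7401.Step (Bq hp hsurj) (step_closed hp hsurj) ∅ l
      (by rw [Algebra.adjoin_empty]; exact bot_le) hl
    rw [Set.empty_union] at this
    exact this hbl
  · rintro ⟨hker, hQ⟩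
    have hint : φ.IsIntegral := by
      intro b
      obtain ⟨n, -, a, ha⟩ := hQ b
      refine ⟨Polynomial.X ^ (p ^ n) - Polynomial.C a,
        Polynomial.monic_X_pow_sub_C a (pow_pos hp.pos n).ne', ?_⟩
      rw [Polynomial.eval₂_sub, Polynomial.eval₂_pow, Polynomial.eval₂_X, Polynomial.eval₂_C, ha,
        sub_self]
    have hk : RingHom.ker φ ≤ nilradical A := fun a ha => mem_nilradical.2 (hker a ha)
    refine SpecResidue.isUnivHomeo_Spec_of φ hint
      (FiltColimUH.comap_surjective_of_integral_of_ker φ hint hk) ?_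
    intro K _ χ₁ χ₂ hχ
    ext b
    obtain ⟨n, ⟨a, ha⟩, a', ha'⟩ := hQ b
    have e1 : χ₁ (φ a) = χ₂ (φ a) := congrArg (fun f => f a) hχ
    have e2 : χ₁ (φ a') = χ₂ (φ a') := congrArg (fun f => f a') hχ
    rw [ha] at e1
    rw [ha'] at e2
    rw [map_mul, map_mul, map_pow, map_pow, map_natCast, map_natCast] at e1
    rw [map_pow, map_pow] at e2
    exact eq_of_pow_mul_pow hp n _ _ e1 e2

end Groth.Agent.S0418
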