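import Groth.Statements.S0415
import Groth.Agent.Lib.Helper2.SpecResidue
import Mathlib.AlgebraicGeometry.Morphisms.Affine
import Mathlib.AlgebraicGeometry.Morphisms.Integral

set_option autoImplicit false
universe u
open FlatMor

namespace Groth.Agent.S0415

open AlgebraicGeometry CategoryTheory Limits in
/-- A morphism of schemes is a universal homeomorphism if and only if it is integral, universally
injective and surjective. -/
theorem result {X Y : Scheme.{u}} (f : X ⟶ Y) :
    FlatMor.IsUnivHomeo f ↔ IsIntegralHom f ∧ UniversallyInjective f ∧ Surjective f := by
  constructor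
  · intro h
    have hh : IsHomeomorph f := MorphismProperty.universally_le _ _ h
    haveI : IsAffineHom f := by
      refine isAffineHom_of_isInducing f hh.isInducing ?_
      rw [hh.surjective.range_eq]
      exact isClosed_univ
    have hc : UniversallyClosed f := by
      rw [universallyClosed_eq]
      exact MorphismProperty.universally_mono (fun X Y f hf => IsHomeomorph.isClosedMap hf) _ h
    refine ⟨IsIntegralHom.iff_universallyClosed_and_isAffineHom.2 ⟨hc, inferInstance⟩,
      Groth.Agent.Lib.helper2.SpecResidue.universallyInjective_of_isUnivHomeo f h,
      ⟨hh.surjective⟩⟩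
  · rintro ⟨h1, h2, h3⟩
    exact Groth.Agent.Lib.helper2.SpecResidue.isUnivHomeo_of_integral f

end Groth.Agent.S0415
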