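import Groth.Statements.S6340
import Mathlib
import Groth.Agent.Lib.Helper28.MittagLeffler
-- import your own Groth.Agent.* helpers here

set_option autoImplicit false
universe u
open CAlg

namespace Groth.Agent.S6340

/-- Let M₁ → M₂ → M₃ → 0 be exact with M₁ finitely generated; if M₂ is Mittag-Leffler then so is M₃.
Equivalently, as stated here: the quotient of a Mittag-Leffler module by a finitely generated
submodule is Mittag-Leffler. -/
theorem result (R : Type u) [CommRing R] {M : Type u} [AddCommGroup M] [Module R M]
    (N : Submodule R M) (hN : N.FG) (hM : CAlg.IsMittagLeffler R M) :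
    CAlg.IsMittagLeffler R (M ⧸ N) := by
  intro ι Q _ _
  rw [injective_iff_map_eq_zero]
  intro x hx
  have hexact : Function.Exact N.subtype N.mkQ := LinearMap.exact_subtype_mkQ N
  have hsurj : Function.Surjective N.mkQ := N.mkQ_surjective
  -- 1. lift
  obtain ⟨y, rfl⟩ := LinearMap.rTensor_surjective (∀ i, Q i) hsurj x
  rw [Groth.Agent.Lib.helper28.piRightHom_rTensor] at hx
  -- 2. componentwise lifts to N ⊗ Q i
  have h2 : ∀ i, ∃ z' : TensorProduct R N (Q i),
      N.subtype.rTensor (Q i) z' = TensorProduct.piRightHom R R M Q y i := by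
    intro i
    have hex : Function.Exact (N.subtype.rTensor (Q i)) (N.mkQ.rTensor (Q i)) :=
      rTensor_exact (M := N) (f := N.subtype) (Q i) hexact hsurj
    exact (hex _).mp (congrFun hx i)
  choose z' hz' using h2
  -- 3. surjectivity for f.g. N
  haveI : Module.Finite R N := Module.Finite.iff_fg.mpr hN
  obtain ⟨z, hz⟩ := Groth.Agent.Lib.helper28.piRightHom_surjective_of_fg
    (Module.Finite.fg_top (R := R) (M := N)) Q z'
  -- 4. ML of M
  have h4 : N.subtype.rTensor (∀ i, Q i) z = y := by
    apply hM ι Q
    rw [Groth.Agent.Lib.helper28.piRightHom_rTensor, hz]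
    funext i
    exact hz' i
  -- 5. exactness
  rw [← h4]
  have hex : Function.Exact (N.subtype.rTensor (∀ i, Q i)) (N.mkQ.rTensor (∀ i, Q i)) :=
    rTensor_exact (M := N) (f := N.subtype) (∀ i, Q i) hexact hsurj
  exact hex.apply_apply_eq_zero z

end Groth.Agent.S6340
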