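import Groth.Statements.S8880
import Mathlib
import Groth.Agent.Lib.Helper12.AmpleAvoid2
import Groth.Agent.Lib.Helper12.AmpleQAff
import Groth.Agent.Lib.Helper12.NormSec1

set_option autoImplicit false
set_option linter.style.haveILetI false
universe u
open CategoryTheory CategoryTheory.Limits AlgebraicGeometry TopologicalSpace
open SDiv

namespace Groth.Agent.S8880

open Groth.Agent.Lib.helper11.GenLocus Groth.Agent.Lib.helper11.IsoLocus in
/-- On a quasi-affine scheme, a finite subset of an open lies in a basic open of a global function contained in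
that open. -/
theorem exists_basicOpen_of_finite {X : Scheme.{u}} [X.IsQuasiAffine] (O : X.Opens) (T : Set X)
    (hT : T.Finite) (hTO : T ⊆ (O : Set X)) :
    ∃ r : Γ(X, ⊤), X.basicOpen r ≤ O ∧ T ⊆ (X.basicOpen r : Set X) := by
  have hamp : CohB1.IsAmple (Coh.structureModule X) :=
    Groth.Agent.Lib.helper12.AmpleQAff.isAmple_structureModule_of_isQuasiAffine
  obtain ⟨n, s, -, hsO, hTs⟩ :=
    Groth.Agent.Lib.Helper12.AmpleAvoid.exists_section_of_finite hamp O T hT hTO
  let e := Groth.Agent.Lib.Lead.ModTensor.tensorPowUnit (X := X) (n + 1)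
  have h1 : CohB1.genLocus _ (s ≫ e.hom) = CohB1.genLocus _ s := genLocus_comp_iso s e
  rw [genLocus_structureModule] at h1
  refine ⟨fn (s ≫ e.hom) ⊤, ?_, ?_⟩
  · rw [h1]; exact hsO
  · rw [h1]; exact hTs

/-- a finite morphism with a norm is surjective. -/
theorem surjective_of_norm {X Y : Scheme.{u}} (π : X ⟶ Y) [IsFinite π] (d : ℕ)
    (N : Nrm.NormOfDegree π d) : Function.Surjective π := by
  intro y
  by_contra hy
  have hcl : IsClosed (Set.range π) := π.isClosedMap.isClosed_range
  let U : Y.Opens := ⟨(Set.range π)ᶜ, hcl.isOpen_compl⟩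
  have hyU : y ∈ U := fun h => hy (by obtain ⟨x, hx⟩ := h; exact ⟨x, hx⟩)
  have hemp : π ⁻¹ᵁ U = ⊥ := by
    ext x
    simp only [Opens.coe_bot, Set.mem_empty_iff_false, iff_false]
    intro hx
    exact hx ⟨x, rfl⟩
  haveI hsub : Subsingleton Γ(X, π ⁻¹ᵁ U) := by
    rw [hemp]
    infer_instance
  have h1 := N.norm_app U 0
  have h2 : π.app U 0 = (1 : Γ(X, π ⁻¹ᵁ U)) := Subsingleton.elim _ _
  rw [h2, map_one, zero_pow (by have := N.one_le; omega)] at h1
  haveI : Nonempty (↑U : Scheme.{u}) := ⟨⟨y, hyU⟩⟩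
  haveI : Nontrivial Γ(Y, U) := Scheme.component_nontrivial Y U
  exact one_ne_zero h1

/-- Let π : X ⟶ Y be a finite morphism of schemes such that a norm of degree d exists for π, and assume
X is quasi-affine. Then Y is quasi-affine. -/
theorem result {X Y : Scheme.{u}} (π : X ⟶ Y) [IsFinite π] (d : ℕ) (hN : Nrm.HasNorm π d)
    (hX : X.IsQuasiAffine) : Y.IsQuasiAffine := by
  obtain ⟨N⟩ := hN
  have hsurj : Function.Surjective π := surjective_of_norm π d N
  haveI : CompactSpace X := hX.toCompactSpace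
  haveI : CompactSpace Y := by
    refine ⟨?_⟩
    have := isCompact_univ.image π.continuous
    rwa [Set.image_univ, hsurj.range_eq] at this
  refine Scheme.IsQuasiAffine.of_forall_exists_mem_basicOpen Y fun y => ?_
  obtain ⟨W, hW, hyW, -⟩ := Opens.isBasis_iff_nbhd.mp Y.isBasis_affineOpens
    (show y ∈ (⊤ : Y.Opens) from trivial)
  have hfin : (π ⁻¹' {y}).Finite := π.finite_preimage_singleton y
  obtain ⟨r, hrW, hTr⟩ := exists_basicOpen_of_finite (π ⁻¹ᵁ W) (π ⁻¹' {y}) hfin (by
    intro x hx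
    change π x ∈ W
    rw [show π x = y from hx]
    exact hyW)
  let h : Γ(Y, ⊤) := N.norm ⊤ r
  -- (2) `Y_h ⊆ W`
  have h2 : Y.basicOpen h ≤ W := by
    intro y' hy'
    obtain ⟨x', rfl⟩ := hsurj y'
    have hx' : x' ∈ X.basicOpen r := by
      by_contra hcon
      have hnu : ¬ IsUnit (X.presheaf.germ (π ⁻¹ᵁ ⊤) x' trivial r) := fun hu =>
        hcon ((X.mem_basicOpen r x' trivial).mpr hu)
      have hm := N.norm_mem ⊤ r x' trivial ((IsLocalRing.mem_maximalIdeal _).mpr hnu)
      have hnu' := (IsLocalRing.mem_maximalIdeal _).mp hm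
      exact hnu' ((Y.mem_basicOpen h (π x') trivial).mp hy')
    exact hrW hx'
  refine ⟨h, ?_, ?_⟩
  · -- (3) affine
    have : Y.basicOpen h = Y.basicOpen (Y.presheaf.map (homOfLE (le_top : W ≤ ⊤)).op h) := by
      rw [Scheme.basicOpen_res]
      exact (inf_eq_right.mpr h2).symm
    rw [this]
    exact hW.basicOpen _
  · -- (1) `y ∈ Y_h`
    have hcl : IsClosed (π '' ((X.basicOpen r : Set X)ᶜ)) :=
      π.isClosedMap _ (X.basicOpen r).isOpen.isClosed_compl
    let V : Y.Opens := ⟨(π '' ((X.basicOpen r : Set X)ᶜ))ᶜ, hcl.isOpen_compl⟩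
    have hyV : y ∈ V := by
      rintro ⟨z, hz, hzy⟩
      exact hz (hTr hzy)
    have hVr : π ⁻¹ᵁ V ≤ X.basicOpen r := by
      intro x hx
      by_contra hcon
      exact hx ⟨x, hcon, rfl⟩
    have hunit : IsUnit (X.presheaf.map ((Opens.map π.base).map (homOfLE (le_top : V ≤ ⊤))).op r) := by
      have h0 : IsUnit (Groth.Agent.Lib.Helper12.NormSec.rf (X.basicOpen_le r) r) :=
        RingedSpace.isUnit_res_basicOpen X.toRingedSpace r
      have h1 := h0.map (X.presheaf.map (homOfLE hVr).op).hom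
      have h3 := Groth.Agent.Lib.Helper12.NormSec.rf_rf (X.basicOpen_le r) hVr r
      change IsUnit (Groth.Agent.Lib.Helper12.NormSec.rf hVr
        (Groth.Agent.Lib.Helper12.NormSec.rf (X.basicOpen_le r) r)) at h1
      rw [h3] at h1
      exact h1
    have hres := N.norm_res (homOfLE (le_top : V ≤ ⊤)) r
    have hunit2 : IsUnit (Y.presheaf.map (homOfLE (le_top : V ≤ ⊤)).op h) := by
      rw [hres]
      exact hunit.map (N.norm V)
    have hb := Y.basicOpen_of_isUnit hunit2
    rw [Scheme.basicOpen_res] at hb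
    exact (inf_eq_left.mp hb) hyV

end Groth.Agent.S8880
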