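import Groth.Statements.S0193
import Mathlib
import Groth.Agent.Lib.Helper12.CSA
-- import your own Groth.Agent.* helpers here

set_option autoImplicit false
universe u v w
open scoped TensorProduct
open Curves

namespace Groth.Agent.S0193

section helpers
open Groth.Agent.Lib.helper12.CSA Matrix.Module

lemma rho_algebraMap {k : Type u} [Field k] {D : Type v} [DivisionRing D] [Algebra k D] (n : ℕ)
    (c : k) (v : Fin n → D) :
    rho n (algebraMap k D c) v = (algebraMap k (Matrix (Fin n) (Fin n) D) c) • v := by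
  ext i
  simp [Matrix.algebraMap_eq_diagonal, Matrix.diagonal_apply, Algebra.commutes]

theorem main (k : Type u) [Field k]
    (D : Type v) [DivisionRing D] [Algebra k D] [FiniteDimensional k D]
    (D' : Type w) [DivisionRing D'] [Algebra k D']
    (n m : ℕ) (hn : n ≠ 0) (hm : m ≠ 0)
    (e : Matrix (Fin n) (Fin n) D ≃ₐ[k] Matrix (Fin m) (Fin m) D') :
    Nonempty (D ≃ₐ[k] D') := by
  have : NeZero n := ⟨hn⟩
  have : NeZero m := ⟨hm⟩
  have : IsArtinianRing (Matrix (Fin n) (Fin n) D) := IsArtinianRing.of_finite k _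
  have hV : IsSimpleModule (Matrix (Fin n) (Fin n) D) (Fin n → D) := isSimpleModule_matrix hn
  have hV' : IsSimpleModule (Matrix (Fin m) (Fin m) D') (Fin m → D') := isSimpleModule_matrix hm
  let σ : Matrix (Fin n) (Fin n) D →+* Matrix (Fin m) (Fin m) D' := e.toRingEquiv.toRingHom
  let σ' : Matrix (Fin m) (Fin m) D' →+* Matrix (Fin n) (Fin n) D := e.symm.toRingEquiv.toRingHom
  have : RingHomInvPair σ σ' := ⟨by ext x : 1; exact e.symm_apply_apply x,
    by ext x : 1; exact e.apply_symm_apply x⟩
  have : RingHomInvPair σ' σ := ⟨by ext x : 1; exact e.apply_symm_apply x,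
    by ext x : 1; exact e.symm_apply_apply x⟩
  let inst : Module (Matrix (Fin n) (Fin n) D) (Fin m → D') := Module.compHom (Fin m → D') σ
  have hsm : ∀ (r : Matrix (Fin n) (Fin n) D) (x : Fin m → D'), r • x = e r • x := fun _ _ => rfl
  have hV'' : IsSimpleModule (Matrix (Fin n) (Fin n) D) (Fin m → D') := by
    rw [isSimpleModule_iff_toSpanSingleton_surjective]
    refine ⟨inferInstance, fun x hx y => ?_⟩
    obtain ⟨r', hr'⟩ := (isSimpleModule_iff_toSpanSingleton_surjective.mp hV').2 x hx y
    refine ⟨e.symm r', ?_⟩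
    rw [LinearMap.toSpanSingleton_apply] at hr' ⊢
    rw [hsm, e.apply_symm_apply]
    exact hr'
  obtain ⟨ℓ⟩ := nonempty_linearEquiv_of_isSimpleModule (R := Matrix (Fin n) (Fin n) D)
    (Fin n → D) (Fin m → D')
  let ℓ' : (Fin n → D) ≃ₛₗ[σ] (Fin m → D') :=
    { toFun := ℓ
      invFun := ℓ.symm
      left_inv := ℓ.left_inv
      right_inv := ℓ.right_inv
      map_add' := ℓ.map_add
      map_smul' := fun r v => by
        change ℓ (r • v) = e r • ℓ v
        rw [ℓ.map_smul, hsm] }
  let F : Dᵐᵒᵖ ≃+* D'ᵐᵒᵖ :=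
    (rhoEquiv hn).trans ((LinearEquiv.conjRingEquiv ℓ').trans (rhoEquiv hm).symm)
  let G : D ≃+* D' := RingEquiv.unop F
  refine ⟨AlgEquiv.ofRingEquiv (f := G) fun c => ?_⟩
  change (F (MulOpposite.op (algebraMap k D c))).unop = algebraMap k D' c
  have key : F (MulOpposite.op (algebraMap k D c)) = MulOpposite.op (algebraMap k D' c) := by
    change (rhoEquiv hm).symm _ = _
    rw [RingEquiv.symm_apply_eq]
    apply LinearMap.ext
    intro x
    change ℓ (rho n (algebraMap k D c) (ℓ.symm x)) = rho m (algebraMap k D' c) x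
    rw [rho_algebraMap, rho_algebraMap, ℓ.map_smul, ℓ.apply_symm_apply, hsm, e.commutes]
  rw [key]
  rfl
end helpers

/-- If matrix algebras of positive size over two finite central skew fields are isomorphic as
k-algebras, the skew fields are isomorphic. -/
theorem result (k : Type u) [Field k]
    (D : Type v) [DivisionRing D] [Algebra k D] [Algebra.IsCentral k D] [FiniteDimensional k D]
    (D' : Type w) [DivisionRing D'] [Algebra k D'] [Algebra.IsCentral k D'] [FiniteDimensional k D']
    (n m : ℕ) (hn : n ≠ 0) (hm : m ≠ 0)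
    (e : Matrix (Fin n) (Fin n) D ≃ₐ[k] Matrix (Fin m) (Fin m) D') :
    Nonempty (D ≃ₐ[k] D') := by
  exact main k D D' n m hn hm e

end Groth.Agent.S0193
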