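import Groth.Statements.S0192
import Mathlib
import Groth.Agent.S0190
-- import your own Groth.Agent.* helpers here

set_option autoImplicit false
universe u v w
open scoped TensorProduct
open Curves

namespace Groth.Agent.S0192

section helpers
theorem main (k : Type u) [Field k] (A : Type v) [Ring A] [Algebra k A]
    [Algebra.IsCentral k A] [IsSimpleRing A] [FiniteDimensional k A] :
    IsSquare (Module.finrank k A) := by
  let K := AlgebraicClosure k
  have hs : IsSimpleRing (K ⊗[k] A) := Groth.Agent.S0190.main k K A
  obtain ⟨n, hn, ⟨e⟩⟩ := IsSimpleRing.exists_algEquiv_matrix_of_isAlgClosed K (K ⊗[k] A)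
  have h1 : Module.finrank K (K ⊗[k] A) = Module.finrank k A := Module.finrank_baseChange
  have h2 : Module.finrank K (K ⊗[k] A) = n * n := by
    rw [e.toLinearEquiv.finrank_eq, Module.finrank_matrix]
    simp
  exact ⟨n, by rw [← h1, h2]⟩
end helpers

/-- The dimension of a finite central simple algebra over its center is a square. -/
theorem result (k : Type u) [Field k] (A : Type v) [Ring A] [Algebra k A]
    [Algebra.IsCentral k A] [IsSimpleRing A] [FiniteDimensional k A] :
    IsSquare (Module.finrank k A) := by
  exact main k A

end Groth.Agent.S0192
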