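import Groth.Statements.S0196
import Mathlib
import Groth.Agent.Lib.Helper8.CSA

set_option autoImplicit false
universe u v w
open scoped TensorProduct
open Curves

namespace Groth.Agent.S0196

/-- In a finite central skew field D over k, a maximal commutative k-subalgebra L satisfies dim D = (dim
L)^2. -/
theorem result (k : Type u) [Field k]
    (D : Type v) [DivisionRing D] [Algebra k D] [Algebra.IsCentral k D] [FiniteDimensional k D]
    (L : Subalgebra k D) (hcomm : ∀ x ∈ L, ∀ y ∈ L, x * y = y * x)
    (hmax : ∀ L' : Subalgebra k D, (∀ x ∈ L', ∀ y ∈ L', x * y = y * x) → L ≤ L' → L' = L) :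
    Module.finrank k D = Module.finrank k L ^ 2 := by
  classical
  haveI hL : IsSimpleRing L := by
    apply IsSimpleRing.of_eq_bot_or_eq_top
    intro I
    by_cases hI : I = ⊥
    · exact Or.inl hI
    · right
      obtain ⟨x, hxI, hx0⟩ : ∃ x ∈ I, x ≠ 0 := by
        by_contra h
        push Not at h
        apply hI
        rw [eq_bot_iff]
        intro x hx
        rw [TwoSidedIdeal.mem_bot]
        exact h x hx
      have hinj : Function.Injective (LinearMap.mulLeft k x) := by
        intro a b hab
        simp only [LinearMap.mulLeft_apply] at hab
        exact mul_left_cancel₀ hx0 hab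
      obtain ⟨y, hy⟩ := LinearMap.surjective_of_injective hinj 1
      simp only [LinearMap.mulLeft_apply] at hy
      rw [eq_top_iff]
      intro z _
      have h1 : x * y ∈ I := I.mul_mem_right _ _ hxI
      rw [hy] at h1
      have h2 := I.mul_mem_left z 1 h1
      rwa [mul_one] at h2
  have hC : Subalgebra.centralizer k (L : Set D) = L := by
    apply le_antisymm
    · intro c hc
      have hc' := (Subalgebra.mem_centralizer_iff k).mp hc
      have hS : ∀ x ∈ insert c (L : Set D), ∀ y ∈ insert c (L : Set D), x * y = y * x := by
        rintro x (rfl | hx) y (rfl | hy)
        · rfl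
        · exact (hc' y hy).symm
        · exact hc' x hx
        · exact hcomm x hx y hy
      have hSle : insert c (L : Set D) ⊆ Subalgebra.centralizer k (insert c (L : Set D)) := by
        intro x hx
        rw [SetLike.mem_coe, Subalgebra.mem_centralizer_iff]
        intro y hy
        exact hS y hy x hx
      have hSle' : insert c (L : Set D) ⊆
          Subalgebra.centralizer k (Subalgebra.centralizer k (insert c (L : Set D)) : Set D) := by
        intro x hx
        rw [SetLike.mem_coe, Subalgebra.mem_centralizer_iff]
        intro y hy
        exact ((Subalgebra.mem_centralizer_iff k).mp hy x hx).symm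
      have hcomm' : ∀ x ∈ Subalgebra.centralizer k
          (Subalgebra.centralizer k (insert c (L : Set D)) : Set D),
          ∀ y ∈ Subalgebra.centralizer k
          (Subalgebra.centralizer k (insert c (L : Set D)) : Set D), x * y = y * x := by
        intro x hx y hy
        have hy' : y ∈ Subalgebra.centralizer k (insert c (L : Set D)) :=
          Subalgebra.centralizer_le k _ _ hSle hy
        exact ((Subalgebra.mem_centralizer_iff k).mp hx y hy').symm
      have hLL' : L ≤ Subalgebra.centralizer k
          (Subalgebra.centralizer k (insert c (L : Set D)) : Set D) := by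
        intro x hx
        exact hSle' (Set.mem_insert_of_mem c hx)
      have := hmax _ hcomm' hLL'
      rw [← this]
      exact hSle' (Set.mem_insert c _)
    · intro x hx
      rw [Subalgebra.mem_centralizer_iff]
      intro y hy
      exact hcomm y hy x hx
  have h := (Groth.Agent.Lib.Helper8.CSA.centralizer_structure k D L).2
  rw [hC] at h
  rw [h, pow_two]

end Groth.Agent.S0196
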