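import Groth.Statements.S0199
import Mathlib
import Groth.Agent.Lib.Helper12.CSA3
-- import your own Groth.Agent.* helpers here

set_option autoImplicit false
universe u v w
open scoped TensorProduct
open Curves

namespace Groth.Agent.S0199

section helpers
open Groth.Agent.Lib.helper12.CSA

theorem main (k : Type u) [Field k] (A : Type v) [Ring A] [Algebra k A]
    [Algebra.IsCentral k A] [IsSimpleRing A] [FiniteDimensional k A] :
    ∃ (k' : Type u) (_ : Field k') (_ : Algebra k k'), FiniteDimensional k k' ∧
      Algebra.IsSeparable k k' ∧ Curves.Splits k A k' := by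
  have := isCentral_baseChange k (SeparableClosure k) A
  have : IsSimpleRing (SeparableClosure k ⊗[k] A) := Groth.Agent.S0190.main k _ A
  obtain ⟨n, hn, ⟨e⟩⟩ :=
    exists_algEquiv_matrix_of_isSepClosed (SeparableClosure k) (SeparableClosure k ⊗[k] A)
  obtain ⟨S, hS, h⟩ := exists_finite_set_splits k (SeparableClosure k) A n hn e
  have : Finite S := hS.to_subtype
  have hfd : FiniteDimensional k (IntermediateField.adjoin k S) :=
    IntermediateField.finiteDimensional_adjoin
      (fun x _ => (Algebra.IsAlgebraic.isAlgebraic x).isIntegral)
  obtain ⟨e'⟩ := h (IntermediateField.adjoin k S) (IntermediateField.subset_adjoin k S)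
  exact ⟨IntermediateField.adjoin k S, inferInstance, inferInstance, hfd,
    Algebra.isSeparable_tower_bot_of_isSeparable k _ (SeparableClosure k), n, hn, ⟨e'⟩⟩

theorem main_galois (k : Type u) [Field k] (A : Type v) [Ring A] [Algebra k A]
    [Algebra.IsCentral k A] [IsSimpleRing A] [FiniteDimensional k A] :
    ∃ (k' : Type u) (_ : Field k') (_ : Algebra k k'), FiniteDimensional k k' ∧
      IsGalois k k' ∧ Curves.Splits k A k' := by
  have := isCentral_baseChange k (SeparableClosure k) A
  have : IsSimpleRing (SeparableClosure k ⊗[k] A) := Groth.Agent.S0190.main k _ A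
  obtain ⟨n, hn, ⟨e⟩⟩ :=
    exists_algEquiv_matrix_of_isSepClosed (SeparableClosure k) (SeparableClosure k ⊗[k] A)
  obtain ⟨S, hS, h⟩ := exists_finite_set_splits k (SeparableClosure k) A n hn e
  have : Finite S := hS.to_subtype
  have hfd : FiniteDimensional k (IntermediateField.adjoin k S) :=
    IntermediateField.finiteDimensional_adjoin
      (fun x _ => (Algebra.IsAlgebraic.isAlgebraic x).isIntegral)
  let k'' : IntermediateField k (SeparableClosure k) :=
    IntermediateField.normalClosure k (IntermediateField.adjoin k S) (SeparableClosure k)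
  have hfd' : FiniteDimensional k k'' := normalClosure.is_finiteDimensional k _ _
  have hn' : Normal k k'' := normalClosure.normal k _ _
  have hs' : Algebra.IsSeparable k k'' :=
    Algebra.isSeparable_tower_bot_of_isSeparable k _ (SeparableClosure k)
  have hle : S ⊆ k'' := fun x hx =>
    (IntermediateField.le_normalClosure (IntermediateField.adjoin k S))
      (IntermediateField.subset_adjoin k S hx)
  obtain ⟨e'⟩ := h k'' hle
  exact ⟨k'', inferInstance, inferInstance, hfd', ⟨⟩, n, hn, ⟨e'⟩⟩
end helpers

/-- Every finite central simple algebra over k is split by some finite separable extension of k. -/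
theorem result (k : Type u) [Field k] (A : Type v) [Ring A] [Algebra k A]
    [Algebra.IsCentral k A] [IsSimpleRing A] [FiniteDimensional k A] :
    ∃ (k' : Type u) (_ : Field k') (_ : Algebra k k'), FiniteDimensional k k' ∧
      Algebra.IsSeparable k k' ∧ Curves.Splits k A k' := by
  exact main k A

end Groth.Agent.S0199
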