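import Groth.Statements.S0189
import Mathlib
import Groth.Agent.Lib.Helper8.CSA

set_option autoImplicit false
universe u v w
open scoped TensorProduct
open Curves

namespace Groth.Agent.S0189

/-- Double centralizer: a simple subalgebra of a finite central simple algebra is the centralizer of its
centralizer. -/
theorem result (k : Type u) [Field k] (A : Type v) [Ring A] [Algebra k A]
    [Algebra.IsCentral k A] [IsSimpleRing A] [FiniteDimensional k A]
    (B : Subalgebra k A) [IsSimpleRing B] :
    Subalgebra.centralizer k (Subalgebra.centralizer k (B : Set A) : Set A) = B := by
  haveI hC : IsSimpleRing (Subalgebra.centralizer k (B : Set A)) :=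
    (Groth.Agent.Lib.Helper8.CSA.centralizer_structure k A B).1
  have h1 := (Groth.Agent.Lib.Helper8.CSA.centralizer_structure k A B).2
  have h2 := (Groth.Agent.Lib.Helper8.CSA.centralizer_structure k A
    (Subalgebra.centralizer k (B : Set A))).2
  have hle : B ≤ Subalgebra.centralizer k (Subalgebra.centralizer k (B : Set A) : Set A) := by
    intro x hx
    rw [Subalgebra.mem_centralizer_iff]
    intro c hc
    have := (Subalgebra.mem_centralizer_iff k).mp hc x hx
    exact this.symm
  have hpos : 0 < Module.finrank k (Subalgebra.centralizer k (B : Set A)) := Module.finrank_pos
  have h3 : Module.finrank k B =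
      Module.finrank k (Subalgebra.centralizer k (Subalgebra.centralizer k (B : Set A) : Set A)) := by
    have : Module.finrank k (Subalgebra.centralizer k (B : Set A)) * Module.finrank k B =
        Module.finrank k (Subalgebra.centralizer k (B : Set A)) *
        Module.finrank k (Subalgebra.centralizer k (Subalgebra.centralizer k (B : Set A) : Set A)) := by
      rw [← h2, mul_comm, ← h1]
    exact Nat.eq_of_mul_eq_mul_left hpos this
  symm
  apply Subalgebra.toSubmodule_injective
  exact Submodule.eq_of_le_of_finrank_eq hle h3

end Groth.Agent.S0189
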