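import Groth.Statements.S0198
import Mathlib
import Groth.Agent.Lib.Helper12.CSA7
import Groth.Agent.S0189
-- import your own Groth.Agent.* helpers here

set_option autoImplicit false
universe u v w
open scoped TensorProduct
open Curves

namespace Groth.Agent.S0198

section helpers
open Groth.Agent.Lib.helper12.CSA

section cent
variable (k : Type u) [Field k] (D : Type v) [DivisionRing D] [Algebra k D]

/-- the centralizer of a set in a division algebra is a division ring -/
@[reducible] noncomputable def divisionRingCentralizer (S : Set D) :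
    DivisionRing (Subalgebra.centralizer k S) where
  inv x := ⟨(x : D)⁻¹, Set.inv_mem_centralizer₀ x.2⟩
  exists_pair_ne := ⟨0, 1, zero_ne_one⟩
  mul_inv_cancel x hx := Subtype.ext <| mul_inv_cancel₀ <| Subtype.coe_injective.ne hx
  inv_zero := Subtype.ext inv_zero
  nnqsmul := _
  nnqsmul_def := fun _ _ => rfl
  qsmul := _
  qsmul_def := fun _ _ => rfl

end cent


section step
variable (k : Type u) [Field k] (D : Type v) [DivisionRing D] [Algebra k D]
  [Algebra.IsCentral k D] [FiniteDimensional k D]

/-- pairwise commuting generators generate a commutative subalgebra -/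
theorem adjoin_comm {A : Type v} [Ring A] [Algebra k A] (S : Set A)
    (hS : ∀ a ∈ S, ∀ b ∈ S, a * b = b * a) :
    ∀ a ∈ Algebra.adjoin k S, ∀ b ∈ Algebra.adjoin k S, a * b = b * a := by
  have h1 : Algebra.adjoin k S ≤ Subalgebra.centralizer k S := by
    apply Algebra.adjoin_le
    intro a ha
    rw [SetLike.mem_coe, Subalgebra.mem_centralizer_iff]
    intro b hb
    exact hS b hb a ha
  have h2 : Algebra.adjoin k S ≤ Subalgebra.centralizer k (Subalgebra.centralizer k S : Set A) := by
    apply Algebra.adjoin_le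
    intro a ha
    rw [SetLike.mem_coe, Subalgebra.mem_centralizer_iff]
    intro b hb
    exact ((Subalgebra.mem_centralizer_iff k).mp hb a ha).symm
  intro a ha b hb
  exact ((Subalgebra.mem_centralizer_iff k).mp (h2 ha) b (h1 hb)).symm

/-- the inductive step: a separable subfield which is not its own centralizer can be enlarged -/
theorem step (F : Type v) [Field F] [Algebra k F] [Algebra.IsSeparable k F] (ι : F →ₐ[k] D)
    (hne : Subalgebra.centralizer k (Set.range ι) ≠ ι.range) :
    ∃ M : Subalgebra k D, ι.range ≤ M ∧ M ≠ ι.range ∧ (∀ x ∈ M, ∀ y ∈ M, x * y = y * x) ∧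
      Algebra.IsSeparable k M := by
  classical
  have hιinj : Function.Injective ι := ι.toRingHom.injective
  let C : Subalgebra k D := Subalgebra.centralizer k (Set.range ι)
  have hmemC : ∀ z : D, z ∈ C ↔ ∀ c : F, ι c * z = z * ι c := by
    intro z
    rw [Subalgebra.mem_centralizer_iff]
    constructor
    · intro h c
      exact h (ι c) ⟨c, rfl⟩
    · rintro h _ ⟨c, rfl⟩
      exact h c
  let _ : DivisionRing C := divisionRingCentralizer k D (Set.range ι)
  have hιC : ∀ c, ι c ∈ C := by
    intro c
    rw [hmemC]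
    intro c'
    rw [← map_mul, ← map_mul, mul_comm]
  let ιC : F →ₐ[k] C := ι.codRestrict C hιC
  let _ : Algebra F C := ιC.toRingHom.toAlgebra' (fun c z => Subtype.ext ((hmemC z.1).mp z.2 c))
  have halg : ∀ c : F, ((algebraMap F C c : C) : D) = ι c := fun c => rfl
  have : IsScalarTower k F C := IsScalarTower.of_algebraMap_eq (fun r => (ιC.commutes r).symm)
  have : Module.Finite F C := Module.Finite.of_restrictScalars_finite k F C
  have : Algebra.IsAlgebraic F C := Algebra.IsAlgebraic.of_finite F C
  have hsimple : IsSimpleRing ι.range :=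
    IsSimpleRing.of_ringEquiv (AlgEquiv.ofInjective ι hιinj).toRingEquiv inferInstance
  have hdc := Groth.Agent.S0189.result k D ι.range
  have hcentral : Algebra.IsCentral F C := by
    refine ⟨fun z hz => ?_⟩
    rw [Subalgebra.mem_center_iff] at hz
    have h1 : (z : D) ∈ Subalgebra.centralizer k
        (Subalgebra.centralizer k (ι.range : Set D) : Set D) := by
      rw [Subalgebra.mem_centralizer_iff]
      intro g hg
      have hg' : g ∈ C := by
        rw [AlgHom.coe_range] at hg
        exact hg
      have := hz ⟨g, hg'⟩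
      exact congrArg Subtype.val this
    rw [hdc] at h1
    obtain ⟨c, hc⟩ := h1
    rw [Algebra.mem_bot]
    exact ⟨c, Subtype.ext hc⟩
  have hneq : (⊥ : Subalgebra F C) ≠ ⊤ := by
    intro h
    apply hne
    apply le_antisymm
    · intro z hz
      have hz' : (⟨z, hz⟩ : C) ∈ (⊥ : Subalgebra F C) := h ▸ Algebra.mem_top
      obtain ⟨c, hc⟩ := Algebra.mem_bot.mp hz'
      exact ⟨c, congrArg Subtype.val hc⟩
    · rintro _ ⟨c, rfl⟩
      exact hιC c
  obtain ⟨x, hx, hsep⟩ := JacobsonNoether.exists_separable_and_not_isCentral' hneq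
  have hxnot : (x : D) ∉ ι.range := by
    rintro ⟨c, hc⟩
    exact hx (Algebra.mem_bot.mpr ⟨c, Subtype.ext hc⟩)
  obtain ⟨M, hM⟩ : ∃ M : Subalgebra k D, M = Algebra.adjoin k (Set.range ι ∪ {(x : D)}) := ⟨_, rfl⟩
  have hLM : ι.range ≤ M := by
    rintro _ ⟨c, rfl⟩
    rw [hM]
    exact Algebra.subset_adjoin (Or.inl ⟨c, rfl⟩)
  have hxM : (x : D) ∈ M := by
    rw [hM]
    exact Algebra.subset_adjoin (Or.inr rfl)
  have hMC : M ≤ C := by
    rw [hM]
    apply Algebra.adjoin_le
    rintro z (⟨c, rfl⟩ | hz)
    · exact hιC c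
    · rw [Set.mem_singleton_iff] at hz
      rw [hz]
      exact x.2
  have hMcomm : ∀ a ∈ M, ∀ b ∈ M, a * b = b * a := by
    rw [hM]
    apply adjoin_comm
    rintro a (⟨c, rfl⟩ | ha) b (⟨c', rfl⟩ | hb)
    · rw [← map_mul, ← map_mul, mul_comm]
    · rw [Set.mem_singleton_iff] at hb
      rw [hb]
      exact (hmemC x.1).mp x.2 c
    · rw [Set.mem_singleton_iff] at ha
      rw [ha]
      exact ((hmemC x.1).mp x.2 c').symm
    · rw [Set.mem_singleton_iff] at ha hb
      rw [ha, hb]
  refine ⟨M, hLM, fun h => hxnot (h ▸ hxM), hMcomm, ?_⟩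
  -- separability
  obtain ⟨M₀, _, _, _, ιM, hrange, -⟩ := exists_field_of_comm k D M hMcomm
  have hιMinj : Function.Injective ιM := ιM.toRingHom.injective
  have hpre : ∀ d ∈ M, ∃ z : M₀, ιM z = d := by
    intro d hd
    rw [← hrange] at hd
    exact hd
  have himg : ∀ z : M₀, ιM z ∈ M := by
    intro z
    rw [← hrange]
    exact ⟨z, rfl⟩
  have hjex : ∀ c : F, ∃ z : M₀, ιM z = ι c := fun c => hpre _ (hLM ⟨c, rfl⟩)
  choose jf hjf using hjex
  let j : F →ₐ[k] M₀ :=
    { toFun := jf
      map_one' := hιMinj (by rw [hjf, map_one, map_one])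
      map_mul' := fun a b => hιMinj (by rw [hjf, map_mul, map_mul, hjf, hjf])
      map_zero' := hιMinj (by rw [hjf, map_zero, map_zero])
      map_add' := fun a b => hιMinj (by rw [hjf, map_add, map_add, hjf, hjf])
      commutes' := fun r => hιMinj (by rw [hjf, AlgHom.commutes, AlgHom.commutes]) }
  have hj : ∀ c, ιM (j c) = ι c := hjf
  let _ : Algebra F M₀ := j.toRingHom.toAlgebra
  have : IsScalarTower k F M₀ := IsScalarTower.of_algebraMap_eq (fun r => (j.commutes r).symm)
  obtain ⟨x₀, hx₀⟩ := hpre _ hxM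
  let φ : M₀ →ₐ[F] C :=
    { toRingHom := (ιM.codRestrict C (fun z => hMC (himg z))).toRingHom
      commutes' := fun c => Subtype.ext (hj c) }
  have hφinj : Function.Injective φ := by
    intro a b hab
    apply hιMinj
    exact congrArg Subtype.val hab
  have hsep₀ : IsSeparable F x₀ := by
    have h1 := minpoly.algHom_eq φ hφinj x₀
    have h2 : φ x₀ = x := Subtype.ext hx₀
    unfold IsSeparable at hsep ⊢
    rw [← h1, h2]
    exact hsep
  have hsepk : IsSeparable k x₀ := IsSeparable.of_algebra_isSeparable_of_isSeparable k hsep₀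
  have hall : ∀ d ∈ M, ∀ z : M₀, ιM z = d → IsSeparable k z := by
    intro d hd
    rw [hM] at hd
    induction hd using Algebra.adjoin_induction with
    | mem d hd =>
      intro z hz
      rcases hd with ⟨c, rfl⟩ | hd
      · have hzc : z = j c := hιMinj (by rw [hz, hj])
        rw [hzc]
        have h1 := minpoly.algHom_eq j j.toRingHom.injective c
        unfold IsSeparable
        rw [h1]
        exact Algebra.IsSeparable.isSeparable k c
      · rw [Set.mem_singleton_iff] at hd
        have hzx : z = x₀ := hιMinj (by rw [hz, hd, hx₀])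
        rw [hzx]
        exact hsepk
    | algebraMap r =>
      intro z hz
      have hzr : z = algebraMap k M₀ r := hιMinj (by rw [hz, AlgHom.commutes])
      rw [hzr]
      exact isSeparable_algebraMap r
    | add a b ha hb iha ihb =>
      intro z hz
      obtain ⟨za, hza⟩ := hpre a (hM ▸ ha)
      obtain ⟨zb, hzb⟩ := hpre b (hM ▸ hb)
      have hzab : z = za + zb := hιMinj (by rw [hz, map_add, hza, hzb])
      rw [hzab]
      exact Field.isSeparable_add (iha za hza) (ihb zb hzb)
    | mul a b ha hb iha ihb =>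
      intro z hz
      obtain ⟨za, hza⟩ := hpre a (hM ▸ ha)
      obtain ⟨zb, hzb⟩ := hpre b (hM ▸ hb)
      have hzab : z = za * zb := hιMinj (by rw [hz, map_mul, hza, hzb])
      rw [hzab]
      exact Field.isSeparable_mul (iha za hza) (ihb zb hzb)
  refine ⟨fun z => ?_⟩
  obtain ⟨z₀, hz₀⟩ := hpre z.1 z.2
  have h1 := hall z.1 z.2 z₀ hz₀
  have h2 := minpoly.algHom_eq M.val Subtype.coe_injective z
  have h3 := minpoly.algHom_eq ιM hιMinj z₀
  unfold IsSeparable at h1 ⊢
  rw [← h2]
  change (minpoly k (z : D)).Separable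
  rw [← hz₀, h3]
  exact h1

end step


theorem main (k : Type u) [Field k]
    (D : Type v) [DivisionRing D] [Algebra k D] [Algebra.IsCentral k D] [FiniteDimensional k D] :
    ∃ L : Subalgebra k D, (∀ x ∈ L, ∀ y ∈ L, x * y = y * x) ∧
      (∀ L' : Subalgebra k D, (∀ x ∈ L', ∀ y ∈ L', x * y = y * x) → L ≤ L' → L' = L) ∧
      Algebra.IsSeparable k L := by
  have hbot : (∀ x ∈ (⊥ : Subalgebra k D), ∀ y ∈ (⊥ : Subalgebra k D), x * y = y * x) ∧
      Algebra.IsSeparable k (⊥ : Subalgebra k D) := by
    constructor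
    · intro x hx y hy
      obtain ⟨r, rfl⟩ := Algebra.mem_bot.mp hx
      exact Algebra.commutes r y
    · refine ⟨fun z => ?_⟩
      obtain ⟨r, hr⟩ := Algebra.mem_bot.mp z.2
      have hz : z = algebraMap k (⊥ : Subalgebra k D) r := Subtype.ext hr.symm
      rw [hz]
      exact isSeparable_algebraMap r
  obtain ⟨L, -, ⟨hcomm, hsep⟩, hmax⟩ := exists_maximal_subalgebra k D
    (fun L => (∀ x ∈ L, ∀ y ∈ L, x * y = y * x) ∧ Algebra.IsSeparable k L) ⊥ hbot
  refine ⟨L, hcomm, ?_, hsep⟩
  intro L' hL'comm hLL'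
  by_contra hne
  obtain ⟨F, _, _, _, ι, hrange, -⟩ := exists_field_of_comm k D L hcomm
  have hιinj : Function.Injective ι := ι.toRingHom.injective
  have hFsep : Algebra.IsSeparable k F := by
    refine ⟨fun c => ?_⟩
    have hc : ι c ∈ L := hrange ▸ ⟨c, rfl⟩
    have h1 := Algebra.IsSeparable.isSeparable k (⟨ι c, hc⟩ : L)
    have h2 := minpoly.algHom_eq L.val Subtype.coe_injective (⟨ι c, hc⟩ : L)
    have h3 := minpoly.algHom_eq ι hιinj c
    unfold IsSeparable at h1 ⊢
    rw [← h3]
    rw [← h2] at h1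
    exact h1
  have hcne : Subalgebra.centralizer k (Set.range ι) ≠ ι.range := by
    intro h
    apply hne
    apply le_antisymm _ hLL'
    intro z hz
    have hzc : z ∈ Subalgebra.centralizer k (Set.range ι) := by
      rw [Subalgebra.mem_centralizer_iff]
      rintro _ ⟨c, rfl⟩
      have hc : ι c ∈ L := hrange ▸ ⟨c, rfl⟩
      exact hL'comm _ (hLL' hc) _ hz
    rw [h, hrange] at hzc
    exact hzc
  obtain ⟨M, hLM, hMne, hMcomm, hMsep⟩ := step k D F ι hcne
  rw [hrange] at hLM hMne
  exact hMne (hmax M ⟨hMcomm, hMsep⟩ hLM)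
end helpers

/-- A finite central skew field over k contains a maximal commutative subalgebra that is separable over
k. -/
theorem result (k : Type u) [Field k]
    (D : Type v) [DivisionRing D] [Algebra k D] [Algebra.IsCentral k D] [FiniteDimensional k D] :
    ∃ L : Subalgebra k D, (∀ x ∈ L, ∀ y ∈ L, x * y = y * x) ∧
      (∀ L' : Subalgebra k D, (∀ x ∈ L', ∀ y ∈ L', x * y = y * x) → L ≤ L' → L' = L) ∧
      Algebra.IsSeparable k L := by
  exact main k D

end Groth.Agent.S0198
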