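import Groth.Statements.S15168
import Mathlib
import Groth.Agent.Lib.Helper12.CSA7
-- import your own Groth.Agent.* helpers here

set_option autoImplicit false
universe u v
open Polynomial
open BddFin

namespace Groth.Agent.S15168

section helpers
universe w


theorem multiset_prod_of_forall_mul {K : Type u} [Field K] {M : Type w} [Field M] [Algebra K M]
    (y' : M) (R : Multiset M) (hR : ∀ z ∈ R, ∃ c : K, z = algebraMap K M c * y') :
    ∃ c : K, R.prod = algebraMap K M c * y' ^ (Multiset.card R) := by
  induction R using Multiset.induction_on with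
  | empty => exact ⟨1, by simp⟩
  | cons z R ih =>
    obtain ⟨c, hc⟩ := ih (fun w hw => hR w (Multiset.mem_cons_of_mem hw))
    obtain ⟨c', hc'⟩ := hR z (Multiset.mem_cons_self z R)
    refine ⟨c' * c, ?_⟩
    rw [Multiset.prod_cons, Multiset.card_cons, hc, hc', map_mul, pow_succ]
    ring

/-- in a field containing all roots of unity, if `y ^ m` lies in the base field then so does
`y ^ r`, `r` the degree of `y` -/
theorem pow_natDegree_minpoly_mem_range
    (K : Type u) [Field K] (hK : ∀ n : ℕ, 0 < n → (X ^ n - 1 : K[X]).Splits)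
    (F : Type v) [Field F] [Algebra K F] (y : F) (hy : IsIntegral K y) (m : ℕ) (hm : 0 < m)
    (a : K) (hya : y ^ m = algebraMap K F a) :
    y ^ (minpoly K y).natDegree ∈ (algebraMap K F).range := by
  have hr0 : 0 < (minpoly K y).natDegree := minpoly.natDegree_pos hy
  by_cases hy0 : y = 0
  · refine ⟨0, ?_⟩
    rw [map_zero]
    subst hy0
    exact (zero_pow hr0.ne').symm
  let M := AlgebraicClosure F
  set f := minpoly K y with hf
  have hfm : f.Monic := minpoly.monic hy
  set y' : M := algebraMap F M y with hy'
  have hy'0 : y' ≠ 0 := by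
    rw [hy', Ne, map_eq_zero_iff _ (algebraMap F M).injective]; exact hy0
  have hs : (f.map (algebraMap K M)).Splits := IsAlgClosed.splits _
  have hgm : (f.map (algebraMap K M)).Monic := hfm.map _
  have hdvd : f ∣ X ^ m - C a := by
    apply minpoly.dvd
    simp [hya]
  have hroot : ∀ z ∈ (f.map (algebraMap K M)).roots, ∃ c : K, z = algebraMap K M c * y' := by
    intro z hz
    have hz' : aeval z f = 0 := by
      have := (mem_roots hgm.ne_zero).mp hz
      rwa [IsRoot.def, eval_map_algebraMap] at this
    have hzm : z ^ m = algebraMap K M a := by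
      obtain ⟨q, hq⟩ := hdvd
      have := congrArg (aeval z) hq
      rw [map_mul, hz', zero_mul] at this
      simpa [sub_eq_zero] using this
    have hy'm : y' ^ m = algebraMap K M a := by
      rw [hy', ← map_pow, hya, ← IsScalarTower.algebraMap_apply]
    have hone : (z / y') ^ m = 1 := by
      rw [div_pow, hzm, hy'm, div_self]
      rw [← hy'm]; exact pow_ne_zero _ hy'0
    have hne : (X ^ m - 1 : K[X]) ≠ 0 := X_pow_sub_C_ne_zero hm 1
    have hx : ((X ^ m - 1 : K[X]).map (algebraMap K M)).IsRoot (z / y') := by
      simp [IsRoot.def, hone]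
    obtain ⟨c, hc⟩ := (hK m hm).mem_range_of_isRoot hne hx
    refine ⟨c, ?_⟩
    rw [hc, div_mul_cancel₀ _ hy'0]
  obtain ⟨c, hc⟩ := multiset_prod_of_forall_mul (K := K) y' _ hroot
  have hcard : Multiset.card (f.map (algebraMap K M)).roots = f.natDegree := by
    rw [← hs.natDegree_eq_card_roots, natDegree_map]
  have hcoeff := hs.coeff_zero_eq_prod_roots_of_monic hgm
  rw [hc, hcard, natDegree_map, coeff_map] at hcoeff
  have hc0 : c ≠ 0 := by
    rintro rfl
    rw [map_zero, zero_mul, mul_zero] at hcoeff
    have h0 : f.coeff 0 = 0 := (map_eq_zero_iff _ (algebraMap K M).injective).mp hcoeff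
    exact hy0 ((minpoly.coeff_zero_eq_zero hy).mp h0)
  refine ⟨(-1) ^ f.natDegree * f.coeff 0 / c, ?_⟩
  apply (algebraMap F M).injective
  rw [← IsScalarTower.algebraMap_apply, map_pow, ← hy', map_div₀, map_mul, hcoeff]
  have hcM : algebraMap K M c ≠ 0 := by
    rw [Ne, map_eq_zero_iff _ (algebraMap K M).injective]; exact hc0
  have hsq : (algebraMap K M) ((-1) ^ f.natDegree) * (-1) ^ f.natDegree = 1 := by
    rw [map_pow, map_neg, map_one, ← mul_pow, neg_one_mul, neg_neg, one_pow]
  rw [← mul_assoc, hsq, one_mul, mul_comm, mul_div_assoc, mul_comm, div_self hcM, one_mul]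


end helpers

/-- Let K be a field such that K contains all roots of unity (for every n ≥ 1 the polynomial X^n − 1
splits into linear factors over K), A a central division algebra of dimension n ^ 2 over K, and x an
element of A some power x ^ m (m ≥ 1) of which lies in K. Then x ^ n lies in K; that is, the order
of the class of x in the quotient of the unit group of A by that of K divides n. -/
theorem result
    (K : Type u) [Field K] (hK : ∀ n : ℕ, 0 < n → (X ^ n - 1 : K[X]).Splits)
    (A : Type v) [DivisionRing A] [Algebra K A] [Algebra.IsCentral K A] [FiniteDimensional K A]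
    (n : ℕ) (hn : Module.finrank K A = n ^ 2)
    (x : A) (hxm : ∃ m : ℕ, 0 < m ∧ x ^ m ∈ (algebraMap K A).range) :
    x ^ n ∈ (algebraMap K A).range := by
  classical
  obtain ⟨m, hm, a, ha⟩ := hxm
  -- a maximal commutative subalgebra containing `x`
  have hP₀ : ∀ u ∈ Algebra.adjoin K {x}, ∀ v ∈ Algebra.adjoin K {x}, u * v = v * u := by
    intro u hu v hv
    rw [Algebra.adjoin_singleton_eq_range_aeval] at hu hv
    obtain ⟨p, rfl⟩ := hu
    obtain ⟨q, rfl⟩ := hv
    change aeval x p * aeval x q = aeval x q * aeval x p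
    rw [← map_mul, ← map_mul, mul_comm]
  obtain ⟨L, hle, hcomm, hmax⟩ := Groth.Agent.Lib.helper12.CSA.exists_maximal_subalgebra K A
    (fun L => ∀ u ∈ L, ∀ v ∈ L, u * v = v * u) (Algebra.adjoin K {x}) hP₀
  have hdim := Groth.Agent.S0196.result K A L hcomm hmax
  have hLn : Module.finrank K L = n := by
    rw [hn] at hdim
    exact (Nat.pow_left_injective (n := 2) (by norm_num) hdim).symm
  obtain ⟨F, _, _, _, ι, hrange, hF⟩ :=
    Groth.Agent.Lib.helper12.CSA.exists_field_of_comm K A L hcomm
  have hxL : x ∈ L := hle (Algebra.subset_adjoin (Set.mem_singleton x))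
  rw [← hrange] at hxL
  obtain ⟨y, hy'⟩ := hxL
  have hxy : ι y = x := hy'
  have hι : Function.Injective ι := RingHom.injective ι.toRingHom
  have hya : y ^ m = algebraMap K F a := by
    apply hι
    rw [map_pow, hxy, AlgHom.commutes]
    exact ha.symm
  have hy : IsIntegral K y := Algebra.IsIntegral.isIntegral y
  obtain ⟨c, hc⟩ := pow_natDegree_minpoly_mem_range K hK F y hy m hm a hya
  obtain ⟨t, ht⟩ : (minpoly K y).natDegree ∣ n := by
    rw [← hLn, ← hF]
    exact minpoly.degree_dvd hy
  refine ⟨c ^ t, ?_⟩
  rw [← hxy, ht, pow_mul, ← map_pow, ← hc, map_pow, AlgHom.commutes]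

end Groth.Agent.S15168
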