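import Groth.Statements.S15167
import Mathlib
import Groth.Agent.S15168
import Groth.Agent.S0201
import Groth.Agent.Lib.Helper12.RedNormPoly
-- import your own Groth.Agent.* helpers here

set_option autoImplicit false
universe u v
open Polynomial
open BddFin

namespace Groth.Agent.S15167

open scoped TensorProduct MatrixGroups
set_option linter.unusedSectionVars false
section helpers
universe w
attribute [local instance] CSAGal.matrixAction GpH1.unitsAction CSAGal.pglAction CSAGal.tensorAction

section descent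
variable (k : Type u) [Field k] (K : Type v) [Field K] [Algebra k K] [FiniteDimensional k K]
  [IsGalois k K] (A : Type w) [Ring A] [Algebra k A] (n : ℕ) [NeZero n]
  (φ : K ⊗[k] A ≃ₐ[K] Matrix (Fin n) (Fin n) K)

theorem exists_charpoly_descent (x : A) :
    ∃ χ₀ : k[X], χ₀.Monic ∧ χ₀.natDegree = n ∧
      χ₀.map (algebraMap k K)
        = (Groth.Agent.Lib.helper12.PerDeg.theta k K A n φ x).charpoly := by
  choose g hg using Groth.Agent.Lib.helper12.PerDeg.exists_lift k K A n φ
  set M := Groth.Agent.Lib.helper12.PerDeg.theta k K A n φ x with hM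
  have hfix : ∀ σ : K ≃ₐ[k] K, M.charpoly.map (σ : K →+* K) = M.charpoly := by
    intro σ
    have h := Groth.Agent.Lib.helper12.PerDeg.theta_equivariant k K A n φ g hg σ x
    have hs : σ • M = M.map (σ : K →+* K) := by
      ext i j
      rfl
    have h2 : σ • M = ((g σ : Matrix (Fin n) (Fin n) K))⁻¹ * M
        * (g σ : Matrix (Fin n) (Fin n) K) := by
      rw [mul_assoc, ← h, ← Matrix.coe_units_inv, Units.inv_mul_cancel_left]
    rw [← Matrix.charpoly_map, ← hs, h2, Matrix.charpoly_units_conj']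
  have hlift : M.charpoly ∈ Polynomial.lifts (algebraMap k K) := by
    rw [Polynomial.lifts_iff_coeff_lifts]
    intro i
    apply (IsGalois.mem_range_algebraMap_iff_fixed _).mpr
    intro σ
    have := congrArg (fun p => p.coeff i) (hfix σ)
    simpa [coeff_map] using this
  obtain ⟨q, hq1, hq2, hq3⟩ :=
    Polynomial.lifts_and_natDegree_eq_and_monic hlift (Matrix.charpoly_monic M)
  refine ⟨q, hq3, ?_, hq1⟩
  rw [hq2, Matrix.charpoly_natDegree_eq_dim, Fintype.card_fin]

theorem dvd_minpoly_of_dvd_charpoly (x : A) (χ₀ : k[X])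
    (hχ : χ₀.map (algebraMap k K)
      = (Groth.Agent.Lib.helper12.PerDeg.theta k K A n φ x).charpoly)
    (q : k[X]) (hq : Irreducible q) (hqm : q.Monic) (hdvd : q ∣ χ₀) : q ∣ minpoly k x := by
  let Ω := AlgebraicClosure K
  obtain ⟨lam, hlam⟩ := IsAlgClosed.exists_aeval_eq_zero Ω q (degree_pos_of_irreducible hq).ne'
  have hqmin : q = minpoly k lam := minpoly.eq_of_irreducible_of_monic hq hlam hqm
  rw [hqmin]
  apply minpoly.dvd
  set M := Groth.Agent.Lib.helper12.PerDeg.theta k K A n φ x with hM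
  let F : A →ₐ[k] Matrix (Fin n) (Fin n) Ω :=
    (IsScalarTower.toAlgHom k K Ω).mapMatrix.comp (Groth.Agent.Lib.helper12.PerDeg.theta k K A n φ)
  set MΩ : Matrix (Fin n) (Fin n) Ω := M.map (algebraMap K Ω) with hMΩ
  have hF : F x = MΩ := rfl
  have h1 : MΩ.charpoly = χ₀.map (algebraMap k Ω) := by
    rw [hMΩ, Matrix.charpoly_map, ← hχ, Polynomial.map_map, ← IsScalarTower.algebraMap_eq]
  have h2 : lam ∈ spectrum Ω MΩ := by
    rw [Matrix.mem_spectrum_iff_isRoot_charpoly, h1, IsRoot.def, eval_map_algebraMap]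
    obtain ⟨c, hc⟩ := hdvd
    rw [hc, map_mul, hlam, zero_mul]
  have h3 : aeval MΩ ((minpoly k x).map (algebraMap k Ω)) = 0 := by
    rw [Polynomial.aeval_map_algebraMap, ← hF, Polynomial.aeval_algHom_apply, minpoly.aeval,
      map_zero]
  have h4 := spectrum.subset_polynomial_aeval MΩ ((minpoly k x).map (algebraMap k Ω))
    ⟨lam, h2, rfl⟩
  rw [h3, spectrum.zero_eq] at h4
  have h5 : eval lam ((minpoly k x).map (algebraMap k Ω)) = 0 := h4
  rwa [eval_map_algebraMap] at h5

end descent

theorem irreducible_factor_shape (K : Type u) [Field K]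
    (hK : ∀ n : ℕ, 0 < n → (X ^ n - 1 : K[X]).Splits) (m : ℕ) (hm : 0 < m) (a : K)
    (q : K[X]) (hq : Irreducible q) (hqm : q.Monic) (hdvd : q ∣ X ^ m - C a) :
    ∃ b : K, q = X ^ q.natDegree - C b := by
  have : Fact (Irreducible q) := ⟨hq⟩
  let F := AdjoinRoot q
  let y : F := AdjoinRoot.root q
  have hy : IsIntegral K y := AdjoinRoot.isIntegral_root hq.ne_zero
  have hmin : minpoly K y = q := by
    rw [AdjoinRoot.minpoly_root hq.ne_zero, hqm.leadingCoeff, inv_one, C_1, mul_one]
  have hya : y ^ m = algebraMap K F a := by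
    obtain ⟨c, hc⟩ := hdvd
    have := congrArg (aeval y) hc
    have hyq : aeval y q = 0 := by rw [AdjoinRoot.aeval_eq, AdjoinRoot.mk_self]
    rw [map_mul, hyq, zero_mul] at this
    simpa [sub_eq_zero] using this
  obtain ⟨b, hb⟩ := Groth.Agent.S15168.pow_natDegree_minpoly_mem_range K hK F y hy m hm a hya
  rw [hmin] at hb
  refine ⟨b, ?_⟩
  have hd : 0 < q.natDegree := hq.natDegree_pos
  have h1 : q ∣ X ^ q.natDegree - C b := by
    rw [← hmin]
    apply minpoly.dvd
    rw [hmin]
    simp [hb]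
  exact (Polynomial.eq_of_monic_of_dvd_of_natDegree_le hqm (monic_X_pow_sub_C b hd.ne') h1
    (by rw [natDegree_X_pow_sub_C])).symm

theorem natDegree_le_of_factors (K : Type u) [Field K]
    (hK : ∀ n : ℕ, 0 < n → (X ^ n - 1 : K[X]).Splits) (m : ℕ) (hm : 0 < m) (a : K) (ha : a ≠ 0)
    (q q' : K[X]) (hq : Irreducible q) (hqm : q.Monic) (hdvd : q ∣ X ^ m - C a)
    (hq' : Irreducible q') (hdvd' : q' ∣ X ^ m - C a) :
    q.natDegree ≤ q'.natDegree := by
  let Ω := AlgebraicClosure K
  obtain ⟨y, hy⟩ := IsAlgClosed.exists_aeval_eq_zero Ω q (degree_pos_of_irreducible hq).ne'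
  obtain ⟨y', hy'⟩ := IsAlgClosed.exists_aeval_eq_zero Ω q' (degree_pos_of_irreducible hq').ne'
  have hym : y ^ m = algebraMap K Ω a := by
    obtain ⟨c, hc⟩ := hdvd
    have := congrArg (aeval y) hc
    rw [map_mul, hy, zero_mul] at this
    simpa [sub_eq_zero] using this
  have hym' : y' ^ m = algebraMap K Ω a := by
    obtain ⟨c, hc⟩ := hdvd'
    have := congrArg (aeval y') hc
    rw [map_mul, hy', zero_mul] at this
    simpa [sub_eq_zero] using this
  have haΩ : algebraMap K Ω a ≠ 0 := by
    rw [Ne, map_eq_zero_iff _ (algebraMap K Ω).injective]; exact ha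
  have hy0 : y ≠ 0 := by
    rintro rfl
    rw [zero_pow hm.ne'] at hym
    exact haΩ hym.symm
  have hone : (y' / y) ^ m = 1 := by
    rw [div_pow, hym, hym', div_self haΩ]
  have hne : (X ^ m - 1 : K[X]) ≠ 0 := X_pow_sub_C_ne_zero hm 1
  have hx : ((X ^ m - 1 : K[X]).map (algebraMap K Ω)).IsRoot (y' / y) := by
    simp [IsRoot.def, hone]
  obtain ⟨ζ, hζ⟩ := (hK m hm).mem_range_of_isRoot hne hx
  have hζ0 : ζ ≠ 0 := by
    rintro rfl
    rw [map_zero] at hζ
    rw [← hζ, zero_pow hm.ne'] at hone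
    exact zero_ne_one hone
  have hy'eq : y' = algebraMap K Ω ζ * y := by
    rw [hζ, div_mul_cancel₀ _ hy0]
  have hqmin : q = minpoly K y := minpoly.eq_of_irreducible_of_monic hq hy hqm
  have hdvd2 : q ∣ q'.comp (C ζ * X) := by
    rw [hqmin]
    apply minpoly.dvd
    rw [aeval_comp, map_mul, aeval_C, aeval_X, ← hy'eq, hy']
  have hdeg : (q'.comp (C ζ * X)).natDegree = q'.natDegree := by
    rw [natDegree_comp, natDegree_C_mul_X ζ hζ0, mul_one]
  have hne0 : q'.comp (C ζ * X) ≠ 0 := by
    intro h0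
    rw [h0, natDegree_zero] at hdeg
    exact hq'.natDegree_pos.ne hdeg
  calc q.natDegree ≤ (q'.comp (C ζ * X)).natDegree := natDegree_le_of_dvd hdvd2 hne0
    _ = q'.natDegree := hdeg

theorem exists_multiset_of_factors (K : Type u) [Field K] (r : ℕ) (hr : 0 < r) (P : K[X])
    (hP : P.Monic)
    (h : ∀ q : K[X], Irreducible q → q.Monic → q ∣ P → ∃ b : K, q = X ^ r - C b) :
    ∃ s : Multiset K, P = (s.map fun a => X ^ r - C a).prod
      ∧ P.natDegree = Multiset.card s * r := by
  classical
  have hP0 : P ≠ 0 := hP.ne_zero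
  set fs := UniqueFactorizationMonoid.normalizedFactors P with hfs
  have hprod : fs.prod = P := by
    have := UniqueFactorizationMonoid.prod_normalizedFactors_eq hP0
    rw [this, hP.normalize_eq_self]
  have hmonic : ∀ f ∈ fs, f.Monic := by
    intro f hf
    have hirr := UniqueFactorizationMonoid.irreducible_of_normalized_factor f hf
    have hnorm := UniqueFactorizationMonoid.normalize_normalized_factor f hf
    rw [← hnorm]
    exact Polynomial.monic_normalize hirr.ne_zero
  have hf : ∀ f ∈ fs, ∃ b : K, f = X ^ r - C b := by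
    intro f hf
    have hirr := UniqueFactorizationMonoid.irreducible_of_normalized_factor f hf
    exact h f hirr (hmonic f hf) (UniqueFactorizationMonoid.dvd_of_mem_normalizedFactors hf)
  choose! b hb using hf
  refine ⟨fs.map b, ?_, ?_⟩
  · rw [Multiset.map_map]
    conv_lhs => rw [← hprod, ← Multiset.map_id fs]
    congr 1
    exact Multiset.map_congr rfl (fun f hf => hb f hf)
  · conv_lhs => rw [← hprod]
    rw [Polynomial.natDegree_multiset_prod_of_monic _ hmonic, Multiset.card_map]
    have : fs.map natDegree = fs.map (fun _ => r) := by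
      apply Multiset.map_congr rfl
      intro f hf
      rw [hb f hf, natDegree_X_pow_sub_C]
    rw [this, Multiset.map_const', Multiset.sum_replicate, smul_eq_mul]

theorem main
    (K : Type u) [Field K] (hK : ∀ n : ℕ, 0 < n → (X ^ n - 1 : K[X]).Splits)
    (A : Type v) [Ring A] [Algebra K A] [Algebra.IsCentral K A] [IsSimpleRing A] [FiniteDimensional K A]
    (n : ℕ) (hn : Module.finrank K A = n ^ 2)
    (x : A) (hx : IsUnit x) (hxm : ∃ m : ℕ, 0 < m ∧ x ^ m ∈ (algebraMap K A).range) :
    ∃ r : ℕ, 0 < r ∧ r ∣ n ∧ ∃ s : Multiset K, minpoly K x = (s.map fun a : K => X ^ r - C a).prod := by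
  classical
  obtain ⟨m, hm, a, ha⟩ := hxm
  have ha0 : a ≠ 0 := by
    rintro rfl
    rw [map_zero] at ha
    exact (hx.pow m).ne_zero ha.symm
  have hxi : IsIntegral K x := Algebra.IsIntegral.isIntegral x
  set μ := minpoly K x with hμ
  have hμm : μ.Monic := minpoly.monic hxi
  have hμdvd : μ ∣ X ^ m - C a := by
    apply minpoly.dvd
    simp [ha]
  have hμnu : ¬ IsUnit μ := minpoly.not_isUnit K x
  obtain ⟨q₀', hq₀', hq₀dvd'⟩ := WfDvdMonoid.exists_irreducible_factor hμnu hμm.ne_zero
  set q₀ := normalize q₀' with hq₀def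
  have hq₀ : Irreducible q₀ := (associated_normalize q₀').irreducible hq₀'
  have hq₀m : q₀.Monic := Polynomial.monic_normalize hq₀'.ne_zero
  have hq₀dvd : q₀ ∣ μ := (normalize_dvd_iff).mpr hq₀dvd'
  set r := q₀.natDegree
  have hr0 : 0 < r := hq₀.natDegree_pos
  have hshape : ∀ q : K[X], Irreducible q → q.Monic → q ∣ X ^ m - C a →
      ∃ b : K, q = X ^ r - C b := by
    intro q hq hqm hqd
    obtain ⟨b, hb⟩ := irreducible_factor_shape K hK m hm a q hq hqm hqd
    have : q.natDegree = r := le_antisymm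
      (natDegree_le_of_factors K hK m hm a ha0 q q₀ hq hqm hqd hq₀ (hq₀dvd.trans hμdvd))
      (natDegree_le_of_factors K hK m hm a ha0 q₀ q hq₀ hq₀m (hq₀dvd.trans hμdvd) hq hqd)
    exact ⟨b, by rw [← this]; exact hb⟩
  obtain ⟨s, hs, _⟩ := exists_multiset_of_factors K r hr0 μ hμm
    (fun q hq hqm hqd => hshape q hq hqm (hqd.trans hμdvd))
  refine ⟨r, hr0, ?_, s, hs⟩
  obtain ⟨K', _, _, hfd, hgal, n', hn', ⟨φ'⟩⟩ := Groth.Agent.S0201.result K A
  have hmn : n' = n := by
    have h1 : Module.finrank K' (TensorProduct K K' A) = Module.finrank K A :=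
      Module.finrank_baseChange
    have h2 : Module.finrank K' (TensorProduct K K' A) = n' * n' := by
      rw [φ'.toLinearEquiv.finrank_eq, Module.finrank_matrix]
      simp
    have h3 : n' * n' = n * n := by rw [← h2, h1, hn, sq]
    exact Nat.mul_self_inj.mp h3
  subst hmn
  have : NeZero n' := ⟨hn'⟩
  obtain ⟨χ₀, hχm, hχdeg, hχ⟩ := exists_charpoly_descent K K' A n' φ' x
  obtain ⟨s', hs', hdeg'⟩ := exists_multiset_of_factors K r hr0 χ₀ hχm
    (fun q hq hqm hqd => hshape q hq hqm
      ((dvd_minpoly_of_dvd_charpoly K K' A n' φ' x χ₀ hχ q hq hqm hqd).trans hμdvd))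
  rw [hχdeg] at hdeg'
  exact ⟨_, by rw [hdeg', mul_comm]⟩

end helpers

/-- Let K be a field such that K contains all roots of unity (for every n ≥ 1 the polynomial X^n − 1
splits into linear factors over K), A a central simple K-algebra of dimension n ^ 2, and x an
invertible element of A some power x ^ m (m ≥ 1) of which lies in K. Then there are a positive
integer r dividing n and elements a_i of K such that the minimal polynomial of x over K is the
product of the polynomials X ^ r − a_i. -/
theorem result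
    (K : Type u) [Field K] (hK : ∀ n : ℕ, 0 < n → (X ^ n - 1 : K[X]).Splits)
    (A : Type v) [Ring A] [Algebra K A] [Algebra.IsCentral K A] [IsSimpleRing A] [FiniteDimensional K A]
    (n : ℕ) (hn : Module.finrank K A = n ^ 2)
    (x : A) (hx : IsUnit x) (hxm : ∃ m : ℕ, 0 < m ∧ x ^ m ∈ (algebraMap K A).range) :
    ∃ r : ℕ, 0 < r ∧ r ∣ n ∧ ∃ s : Multiset K, minpoly K x = (s.map fun a : K => X ^ r - C a).prod := by
  exact main K hK A n hn x hx hxm

end Groth.Agent.S15167
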