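import Groth.Statements.S15184
import Mathlib
import Groth.Agent.Lib.Helper12.CSA7
import Groth.Agent.S15171
-- import your own Groth.Agent.* helpers here

set_option autoImplicit false
universe u v
open BddFin

namespace Groth.Agent.S15184

section helpers
set_option linter.unusedSimpArgs false
open Polynomial



section identities
variable {F : Type u} [Field F] {D : Type v} [Ring D] [Algebra F D]

/-- the cubic `t³ - a t² + b t - c` -/
def cub (a b c : F) (t : D) : D := t * t * t - a • (t * t) + b • t - c • (1 : D)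

/-- the relation saying that `x₂` is a right root of `f(t)/(t - x₁)` -/
def rel (a b : F) (x₁ x₂ : D) : D := x₂ * x₂ + x₁ * x₂ + x₁ * x₁ - a • (x₁ + x₂) + b • (1 : D)

theorem id1 (a b c : F) (x₁ x₂ : D) :
    cub a b c x₂ = cub a b c x₁ + rel a b x₁ x₂ * x₂ - x₁ * rel a b x₁ x₂ := by
  simp only [cub, rel, mul_add, add_mul, mul_sub, sub_mul, smul_mul_assoc, mul_smul_comm, mul_one,
    one_mul, smul_add, mul_assoc]
  abel

theorem id2 (a b c : F) (x₁ x₂ : D) :
    (x₁ * x₂ - x₂ * x₁) * x₁ - x₂ * (x₁ * x₂ - x₂ * x₁)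
      = rel a b x₁ x₂ * x₁ - x₂ * rel a b x₁ x₂ - cub a b c x₁ + cub a b c x₂ := by
  simp only [cub, rel, mul_add, add_mul, mul_sub, sub_mul, smul_mul_assoc, mul_smul_comm, mul_one,
    one_mul, smul_add, mul_assoc]
  abel

theorem id3 (a b : F) (x₁ x₂ : D) :
    rel a b x₂ (a • (1 : D) - x₁ - x₂) = rel a b x₁ x₂ := by
  simp only [rel, mul_add, add_mul, mul_sub, sub_mul, smul_mul_assoc, mul_smul_comm, mul_one,
    one_mul, smul_add, smul_sub, smul_smul, mul_assoc]
  abel

theorem id3' (a b : F) (x₁ x₂ : D) :
    rel a b (a • (1 : D) - x₁ - x₂) x₁ = rel a b x₁ x₂ := by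
  simp only [rel, mul_add, add_mul, mul_sub, sub_mul, smul_mul_assoc, mul_smul_comm, mul_one,
    one_mul, smul_add, smul_sub, smul_smul, mul_assoc]
  abel

theorem id4 (a b c : F) (x₁ x₂ : D) :
    (a • (1 : D) - x₁ - x₂) * x₂ * x₁ = cub a b c x₁ + c • (1 : D) - rel a b x₁ x₂ * x₁ := by
  simp only [cub, rel, mul_add, add_mul, mul_sub, sub_mul, smul_mul_assoc, mul_smul_comm, mul_one,
    one_mul, smul_add, smul_sub, smul_smul, mul_assoc]
  abel

theorem id5 (a b c : F) (x₁ x₂ : D) :
    cub a b c (a • (1 : D) - x₁ - x₂)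
      = x₂ * x₁ * (a • (1 : D) - x₁ - x₂) - c • (1 : D)
        + rel a b x₁ x₂ * (a • (1 : D) - x₁ - x₂) := by
  simp only [cub, rel, mul_add, add_mul, mul_sub, sub_mul, smul_mul_assoc, mul_smul_comm, mul_one,
    one_mul, smul_add, smul_sub, smul_smul, mul_assoc]
  module

theorem comm23 (a : F) (x₁ x₂ : D) :
    x₂ * (a • (1 : D) - x₁ - x₂) - (a • (1 : D) - x₁ - x₂) * x₂ = x₁ * x₂ - x₂ * x₁ := by
  simp only [mul_add, add_mul, mul_sub, sub_mul, smul_mul_assoc, mul_smul_comm, mul_one,
    one_mul, smul_add, smul_sub, smul_smul, mul_assoc]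
  abel

theorem comm31 (a : F) (x₁ x₂ : D) :
    (a • (1 : D) - x₁ - x₂) * x₁ - x₁ * (a • (1 : D) - x₁ - x₂) = x₁ * x₂ - x₂ * x₁ := by
  simp only [mul_add, add_mul, mul_sub, sub_mul, smul_mul_assoc, mul_smul_comm, mul_one,
    one_mul, smul_add, smul_sub, smul_smul, mul_assoc]
  abel

/-- conjugates of roots are roots -/
theorem cub_conj (a b c : F) (x d u : D) (h : d * u = u * x) :
    cub a b c d * u = u * cub a b c x := by
  have h2 : d * d * u = u * (x * x) := by rw [mul_assoc, h, ← mul_assoc, h, mul_assoc]
  have h3 : d * d * d * u = u * (x * x * x) := by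
    rw [mul_assoc (d * d), h, ← mul_assoc, h2, mul_assoc, mul_assoc]
  simp only [cub, add_mul, sub_mul, mul_add, mul_sub, smul_mul_assoc, mul_smul_comm, h, h2, h3,
    one_mul, mul_one]

/-- Wedderburn's construction of a second root -/
theorem rel_mul (a b c : F) (x₁ x₂ d : D) (h : x₂ * (d - x₁) = (d - x₁) * d) :
    rel a b x₁ x₂ * (d - x₁) = cub a b c d - cub a b c x₁ := by
  have h1 : x₂ * x₂ * (d - x₁) = (d - x₁) * d * d := by rw [mul_assoc, h, ← mul_assoc, h]
  have h2 : x₁ * x₂ * (d - x₁) = x₁ * ((d - x₁) * d) := by rw [mul_assoc, h]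
  have h3 : rel a b x₁ x₂ * (d - x₁) = x₂ * x₂ * (d - x₁) + x₁ * x₂ * (d - x₁)
      + x₁ * x₁ * (d - x₁) - a • (x₁ * (d - x₁) + x₂ * (d - x₁)) + b • (d - x₁) := by
    simp only [rel, add_mul, sub_mul, smul_mul_assoc, one_mul, smul_add]
  rw [h3, h1, h2, h]
  simp only [cub, mul_add, add_mul, mul_sub, sub_mul, smul_mul_assoc, mul_smul_comm, mul_one,
    one_mul, smul_add, smul_sub, smul_smul, mul_assoc]
  abel

end identities

section wedderburn
variable {F : Type u} [Field F] {D : Type v} [DivisionRing D] [Algebra F D]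

theorem cub_third (a b c : F) (x₁ x₂ : D) (h1 : cub a b c x₁ = 0) (hr : rel a b x₁ x₂ = 0) :
    cub a b c (a • (1 : D) - x₁ - x₂) = 0 := by
  set x₃ := a • (1 : D) - x₁ - x₂ with hx₃
  have h321 : x₃ * x₂ * x₁ = c • (1 : D) := by
    rw [hx₃, id4 a b c, h1, hr]; simp
  rw [hx₃, id5 a b c, hr, zero_mul, add_zero, ← hx₃]
  by_cases h0 : x₃ = 0
  · rw [h0, zero_mul, zero_mul] at h321
    rw [h0, mul_zero, ← h321, sub_self]
  · have : x₃ * (x₂ * x₁ * x₃ - c • (1 : D)) = 0 := by
      rw [mul_sub, ← mul_assoc, ← mul_assoc, h321, smul_mul_assoc, mul_smul_comm, one_mul, mul_one,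
        sub_self]
    rcases mul_eq_zero.mp this with h | h
    · exact absurd h h0
    · exact h

/-- Wedderburn's element: the commutator `y = [x₁, x₂]` cyclically permutes the three roots, so
`y³` commutes with `x₁` -/
theorem commutator_cube_comm (a b c : F) (x₁ x₂ : D) (h1 : cub a b c x₁ = 0)
    (hr : rel a b x₁ x₂ = 0) :
    (x₁ * x₂ - x₂ * x₁) ^ 3 * x₁ = x₁ * (x₁ * x₂ - x₂ * x₁) ^ 3 ∧
      (x₁ * x₂ - x₂ * x₁) * x₁ = x₂ * (x₁ * x₂ - x₂ * x₁) := by
  set x₃ := a • (1 : D) - x₁ - x₂ with hx₃
  set y := x₁ * x₂ - x₂ * x₁ with hy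
  have h2 : cub a b c x₂ = 0 := by rw [id1 a b c x₁ x₂, h1, hr]; simp
  have h3 : cub a b c x₃ = 0 := cub_third a b c x₁ x₂ h1 hr
  have hr23 : rel a b x₂ x₃ = 0 := by rw [hx₃, id3, hr]
  have hr31 : rel a b x₃ x₁ = 0 := by rw [hx₃, id3', hr]
  have hy23 : x₂ * x₃ - x₃ * x₂ = y := comm23 a x₁ x₂
  have hy31 : x₃ * x₁ - x₁ * x₃ = y := comm31 a x₁ x₂
  have c1 : y * x₁ = x₂ * y := by
    have := id2 a b c x₁ x₂
    rw [hr, h1, h2] at this
    simp only [zero_mul, mul_zero, sub_zero, add_zero] at this
    exact sub_eq_zero.mp this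
  have c2 : y * x₂ = x₃ * y := by
    have := id2 a b c x₂ x₃
    rw [hr23, h2, h3, hy23] at this
    simp only [zero_mul, mul_zero, sub_zero, add_zero] at this
    exact sub_eq_zero.mp this
  have c3 : y * x₃ = x₁ * y := by
    have := id2 a b c x₃ x₁
    rw [hr31, h3, h1, hy31] at this
    simp only [zero_mul, mul_zero, sub_zero, add_zero] at this
    exact sub_eq_zero.mp this
  refine ⟨?_, c1⟩
  rw [pow_three']
  calc y * y * y * x₁ = y * y * (x₂ * y) := by rw [mul_assoc (y * y), c1]
    _ = y * (y * x₂) * y := by simp only [mul_assoc]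
    _ = y * (x₃ * y) * y := by rw [c2]
    _ = y * x₃ * y * y := by simp only [mul_assoc]
    _ = x₁ * y * y * y := by rw [c3]
    _ = x₁ * (y * y * y) := by simp only [mul_assoc]

end wedderburn



section fields

/-- a maximal subfield through a non-central element of a central division algebra of prime
degree, together with the fact that it is the centralizer of the element -/
theorem exists_maximal_subfield_through (K : Type u) [Field K] (A : Type v) [DivisionRing A]
    [Algebra K A] [Algebra.IsCentral K A] [FiniteDimensional K A] (p : ℕ) (hp : p.Prime)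
    (hA : Module.finrank K A = p ^ 2) (x : A) (hx : x ∉ (algebraMap K A).range) :
    ∃ (F' : Type v) (_ : Field F') (_ : Algebra K F') (_ : FiniteDimensional K F')
      (ι : F' →ₐ[K] A) (v : F'), ι v = x ∧ Module.finrank K F' = p ∧
        Algebra.adjoin K {v} = ⊤ ∧ (∀ t : A, t * x = x * t → t ∈ ι.range) := by
  classical
  have hP₀ : ∀ u ∈ Algebra.adjoin K {x}, ∀ w ∈ Algebra.adjoin K {x}, u * w = w * u := by
    intro u hu w hw
    rw [Algebra.adjoin_singleton_eq_range_aeval] at hu hw
    obtain ⟨f, rfl⟩ := hu
    obtain ⟨g, rfl⟩ := hw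
    change aeval x f * aeval x g = aeval x g * aeval x f
    rw [← map_mul, ← map_mul, mul_comm]
  obtain ⟨L, hle, hcomm, hmax⟩ := Groth.Agent.Lib.helper12.CSA.exists_maximal_subalgebra K A
    (fun L => ∀ u ∈ L, ∀ w ∈ L, u * w = w * u) (Algebra.adjoin K {x}) hP₀
  have hdim := Groth.Agent.S0196.result K A L hcomm hmax
  have hLp : Module.finrank K L = p := by
    rw [hA] at hdim
    exact (Nat.pow_left_injective (n := 2) (by norm_num) hdim).symm
  obtain ⟨F', _, _, _, ι, hrange, hF⟩ :=
    Groth.Agent.Lib.helper12.CSA.exists_field_of_comm K A L hcomm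
  have hxL : x ∈ L := hle (Algebra.subset_adjoin (Set.mem_singleton x))
  have hxr : x ∈ ι.range := hrange ▸ hxL
  obtain ⟨v, hv'⟩ := hxr
  have hιv : ι v = x := hv'
  have hF'p : Module.finrank K F' = p := hF.trans hLp
  have hso := Subalgebra.isSimpleOrder_of_finrank_prime K F' (by rw [hF'p]; exact hp)
  have htop : Algebra.adjoin K {v} = ⊤ := by
    rcases hso.eq_bot_or_eq_top (Algebra.adjoin K {v}) with hbot | htop
    · exfalso
      have hvbot : v ∈ (⊥ : Subalgebra K F') := hbot ▸ Algebra.subset_adjoin (Set.mem_singleton v)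
      obtain ⟨c, hc⟩ := Algebra.mem_bot.mp hvbot
      exact hx ⟨c, by rw [← hιv, ← hc, AlgHom.commutes]⟩
    · exact htop
  have hLx : L = Algebra.adjoin K {x} := by
    rw [← hrange, ← Algebra.map_top, ← htop, AlgHom.map_adjoin, Set.image_singleton, hιv]
  refine ⟨F', inferInstance, inferInstance, inferInstance, ι, v, hιv, hF'p, htop, ?_⟩
  intro t ht
  rw [hrange]
  -- `t` commutes with all of `L`
  have htL : ∀ ℓ ∈ L, t * ℓ = ℓ * t := by
    intro ℓ hℓ
    rw [hLx] at hℓ
    have hle' : Algebra.adjoin K {x} ≤ Subalgebra.centralizer K {t} := by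
      apply Algebra.adjoin_le
      intro z hz
      rw [Set.mem_singleton_iff] at hz
      rw [hz, SetLike.mem_coe, Subalgebra.mem_centralizer_iff]
      intro g hg
      rw [Set.mem_singleton_iff] at hg
      rw [hg]; exact ht
    have := hle' hℓ
    rw [Subalgebra.mem_centralizer_iff] at this
    exact this t (Set.mem_singleton t)
  have hS : ∀ a ∈ insert t (L : Set A), ∀ b ∈ insert t (L : Set A), a * b = b * a := by
    rintro a (rfl | ha) b (rfl | hb)
    · rfl
    · exact htL b hb
    · exact (htL a ha).symm
    · exact hcomm a ha b hb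
  have hcommS := isMulCommutative_iff.mp (Algebra.isMulCommutative_adjoin K hS)
  have hL' : Algebra.adjoin K (insert t (L : Set A)) = L := by
    apply hmax
    · intro a ha b hb
      exact congrArg Subtype.val (hcommS ⟨a, ha⟩ ⟨b, hb⟩)
    · intro ℓ hℓ
      exact Algebra.subset_adjoin (Set.mem_insert_of_mem t hℓ)
  rw [← hL']
  exact Algebra.subset_adjoin (Set.mem_insert t _)

/-- a finite extension generated by an element whose minimal polynomial is separable and splits
is Galois -/
theorem isGalois_of_splits (K : Type u) [Field K] (F' : Type v) [Field F'] [Algebra K F']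
    [FiniteDimensional K F'] (v : F') (htop : Algebra.adjoin K {v} = ⊤)
    (hsep : (minpoly K v).Separable)
    (hspl : ((minpoly K v).map (algebraMap K F')).Splits) : IsGalois K F' := by
  have hint : IsIntegral K v := Algebra.IsIntegral.isIntegral v
  have : (minpoly K v).IsSplittingField K F' := by
    refine ⟨hspl, ?_⟩
    rw [eq_top_iff, ← htop]
    apply Algebra.adjoin_mono
    intro z hz
    rw [Set.mem_singleton_iff] at hz
    rw [hz, Polynomial.mem_rootSet]
    exact ⟨minpoly.ne_zero hint, minpoly.aeval K v⟩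
  exact IsGalois.of_separable_splitting_field hsep

theorem natDegree_minpoly_of_adjoin_eq_top (K : Type u) [Field K] (F' : Type v) [Field F']
    [Algebra K F'] [FiniteDimensional K F'] (v : F') (htop : Algebra.adjoin K {v} = ⊤) :
    (minpoly K v).natDegree = Module.finrank K F' := by
  rw [← Field.primitive_element_iff_minpoly_natDegree_eq]
  apply IntermediateField.toSubalgebra_injective
  rw [IntermediateField.adjoin_simple_toSubalgebra_of_isAlgebraic
    (Algebra.IsIntegral.isIntegral v).isAlgebraic, htop, IntermediateField.top_toSubalgebra]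

end fields


theorem main
    (K : Type u) [Field K] (p : ℕ) [Fact p.Prime] [CharP K p]
    (A : Type v) [DivisionRing A] [Algebra K A] [Algebra.IsCentral K A] [FiniteDimensional K A]
    (hA : Module.finrank K A = p ^ 2) (hp : p = 2 ∨ p = 3) :
    ∃ v : A, ¬ IsSeparable K v := by
  classical
  by_contra hall
  push Not at hall
  have hpp : p.Prime := Fact.out
  -- a non-central element
  obtain ⟨x, hx⟩ : ∃ x : A, x ∉ (algebraMap K A).range := by
    by_contra h
    push Not at h
    have hbt : (⊥ : Subalgebra K A) = ⊤ := by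
      rw [eq_top_iff]
      intro a _
      exact Algebra.mem_bot.mpr (h a)
    have h1 := Subalgebra.bot_eq_top_iff_finrank_eq_one.mp hbt
    rw [hA] at h1
    have := hpp.two_le
    nlinarith
  obtain ⟨F', _, _, _, ι, v, hιv, hF', htop, hcent⟩ :=
    exists_maximal_subfield_through K A p hpp hA x hx
  have hι : Function.Injective ι := RingHom.injective ι.toRingHom
  have hint : IsIntegral K v := Algebra.IsIntegral.isIntegral v
  have hμx : minpoly K x = minpoly K v := by
    rw [← hιv]; exact minpoly.algHom_eq ι hι v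
  have hμsep : (minpoly K v).Separable := by
    have := hall x
    rwa [IsSeparable, hμx] at this
  have hμdeg : (minpoly K v).natDegree = p := by
    rw [natDegree_minpoly_of_adjoin_eq_top K F' v htop, hF']
  have hμm : (minpoly K v).Monic := minpoly.monic hint
  suffices hgal : IsGalois K F' by
    obtain ⟨w, hw⟩ := Groth.Agent.S15171.result K p A hA F' hF' ι
    exact hw (hall w)
  apply isGalois_of_splits K F' v htop hμsep
  rcases hp with hp2 | hp3
  · -- degree two
    apply Splits.of_natDegree_eq_two (x := v)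
    · rw [natDegree_map, hμdeg, hp2]
    · rw [eval_map_algebraMap, minpoly.aeval]
  · -- degree three
    rw [hp3] at hμdeg
    obtain ⟨a, b, c, hμ⟩ : ∃ a b c : K,
        minpoly K v = X ^ 3 - C a * X ^ 2 + C b * X - C c := by
      refine ⟨-(minpoly K v).coeff 2, (minpoly K v).coeff 1, -(minpoly K v).coeff 0, ?_⟩
      conv_lhs => rw [hμm.as_sum, hμdeg]
      simp only [Finset.sum_range_succ, Finset.sum_range_zero, map_neg]
      ring
    have hcubv : cub a b c v = 0 := by
      have h := minpoly.aeval K v
      rw [hμ] at h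
      simp only [map_sub, map_add, map_mul, map_pow, aeval_X, aeval_C] at h
      rw [← h]
      simp only [cub, Algebra.smul_def, mul_one]
      ring
    have hcubx : cub a b c x = 0 := by
      have h := congrArg ι hcubv
      simp only [cub, map_sub, map_add, map_mul, map_smul, map_one, map_zero, hιv] at h
      exact h
    -- an element not commuting with `x`
    obtain ⟨u, hu⟩ : ∃ u : A, u * x ≠ x * u := by
      by_contra h
      push Not at h
      apply hx
      have hxc : x ∈ Subalgebra.center K A := by
        rw [Subalgebra.mem_center_iff]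
        exact h
      have := Algebra.IsCentral.out hxc
      exact Algebra.mem_bot.mp this
    have hu0 : u ≠ 0 := by
      rintro rfl
      simp at hu
    set d := u * x * u⁻¹ with hd
    have hdu : d * u = u * x := by
      rw [hd, mul_assoc, inv_mul_cancel₀ hu0, mul_one]
    have hdx : d ≠ x := fun h => hu (by rw [← hdu, h])
    have hcubd : cub a b c d = 0 := by
      have := cub_conj a b c x d u hdu
      rw [hcubx, mul_zero] at this
      exact (mul_eq_zero.mp this).resolve_right hu0
    have he : d - x ≠ 0 := sub_ne_zero.mpr hdx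
    set x₂ := (d - x) * d * (d - x)⁻¹ with hx₂
    have hx₂e : x₂ * (d - x) = (d - x) * d := by
      rw [hx₂, mul_assoc, inv_mul_cancel₀ he, mul_one]
    have hrel : rel a b x x₂ = 0 := by
      have := rel_mul a b c x x₂ d hx₂e
      rw [hcubd, hcubx, sub_zero] at this
      exact (mul_eq_zero.mp this).resolve_right he
    by_cases hcomm : x₂ * x = x * x₂
    · -- the second root lies in the maximal subfield
      obtain ⟨v₂, hv₂'⟩ := hcent x₂ hcomm
      have hv₂ : ι v₂ = x₂ := hv₂'
      have hrelv : rel a b v v₂ = 0 := by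
        apply hι
        rw [map_zero, ← hrel]
        simp only [rel, map_sub, map_add, map_mul, map_smul, map_one, hιv, hv₂]
      -- the factorization
      have hfac : (minpoly K v).map (algebraMap K F')
          = (X - C v) * (X - C v₂) * (X - C (algebraMap K F' a - v - v₂)) := by
        rw [hμ]
        simp only [Polynomial.map_sub, Polynomial.map_add, Polynomial.map_mul, Polynomial.map_pow,
          map_X, map_C]
        have h1 : C (v₂ * v₂ + v * v₂ + v * v - algebraMap K F' a * (v + v₂)
            + algebraMap K F' b) = (0 : F'[X]) := by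
          rw [← C_0]
          congr 1
          rw [← hrelv]
          simp only [rel, Algebra.smul_def, mul_one]
        have h2 : C (v * v * v - algebraMap K F' a * (v * v) + algebraMap K F' b * v
            - algebraMap K F' c) = (0 : F'[X]) := by
          rw [← C_0]
          congr 1
          rw [← hcubv]
          simp only [cub, Algebra.smul_def, mul_one]
        simp only [map_sub, map_add, map_mul] at h1 h2
        rw [C_sub, C_sub]
        linear_combination (X - C v) * h1 + h2
      rw [hfac]
      exact ((Splits.X_sub_C _).mul (Splits.X_sub_C _)).mul (Splits.X_sub_C _)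
    · -- Wedderburn's element
      exfalso
      obtain ⟨hy3, hy1⟩ := commutator_cube_comm a b c x x₂ hcubx hrel
      set y := x * x₂ - x₂ * x with hy
      have hy0 : y ≠ 0 := fun h => hcomm (sub_eq_zero.mp h).symm
      have hyx : y * x ≠ x * y := by
        intro h
        rw [hy1] at h
        have h' : (x₂ - x) * y = 0 := by rw [sub_mul, h, sub_self]
        rcases mul_eq_zero.mp h' with h'' | h''
        · exact hcomm (by rw [sub_eq_zero.mp h''])
        · exact hy0 h''
      obtain ⟨w, hw'⟩ := hcent (y ^ 3) hy3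
      have hw : ι w = y ^ 3 := hw'
      have hso := Subalgebra.isSimpleOrder_of_finrank_prime K F' (by rw [hF']; exact hpp)
      rcases hso.eq_bot_or_eq_top (Algebra.adjoin K {w}) with hbot | htop'
      · have hwbot : w ∈ (⊥ : Subalgebra K F') :=
          hbot ▸ Algebra.subset_adjoin (Set.mem_singleton w)
        obtain ⟨c', hc'⟩ := Algebra.mem_bot.mp hwbot
        have : Fact (Nat.Prime 3) := ⟨Nat.prime_three⟩
        have : CharP K 3 := hp3 ▸ (inferInstance : CharP K p)
        obtain ⟨g, hg⟩ := Groth.Agent.Lib.helper7.CyclicInsep.exists_aeval_pow_eq_of_isSeparable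
          (K := K) 3 y (Algebra.IsIntegral.isIntegral y) (hall y)
        have hy3' : y ^ 3 = algebraMap K A c' := by rw [← hw, ← hc', AlgHom.commutes]
        rw [hy3', aeval_algebraMap_apply_eq_algebraMap_eval] at hg
        apply hyx
        rw [← hg]
        exact Algebra.commutes _ _
      · have hvmem : v ∈ Algebra.adjoin K {w} := htop' ▸ Algebra.mem_top
        rw [Algebra.adjoin_singleton_eq_range_aeval] at hvmem
        obtain ⟨g, hg'⟩ := hvmem
        have hg : aeval w g = v := hg'
        have hx' : x = aeval (y ^ 3) g := by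
          rw [← hιv, ← hg, ← hw, aeval_algHom_apply]
        apply hyx
        have hc : Commute y (aeval (y ^ 3) g) :=
          Groth.Agent.Lib.helper7.CyclicInsep.commute_aeval_of_commute
            ((Commute.refl y).pow_right 3) g
        rw [hx']
        exact hc.eq


end helpers

/-- Let K be a field with char K = p > 0 and A a central division K-algebra with dim_K A = p ^ 2. If p =
2 or p = 3, then some element of A is not separable over K. -/
theorem result
    (K : Type u) [Field K] (p : ℕ) [Fact p.Prime] [CharP K p]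
    (A : Type v) [DivisionRing A] [Algebra K A] [Algebra.IsCentral K A] [FiniteDimensional K A]
    (hA : Module.finrank K A = p ^ 2) (hp : p = 2 ∨ p = 3) :
    ∃ v : A, ¬ IsSeparable K v := by
  exact main K p A hA hp

end Groth.Agent.S15184
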