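import Groth.Statements.S8261
import Groth.Agent.Lib.Lead.GenDegOne
-- import your own Groth.Agent.* helpers here

set_option autoImplicit false
set_option backward.isDefEq.respectTransparency false
universe u
open CategoryTheory CategoryTheory.Limits AlgebraicGeometry Opposite TopologicalSpace
open scoped HomogeneousIdeal
open EGA2

namespace Groth.Agent.S8261


/-- Over an affine open, the restriction of `p` is the chart followed by the structure morphisms. -/
theorem restrict_eq {Y P : Scheme.{u}} (𝒮 : RelProj.QCGrAlg Y) (p : P ⟶ Y)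
    (chart : ∀ (U : Y.Opens) (hU : IsAffineOpen U), (((p ⁻¹ᵁ U : P.Opens) : Scheme.{u}) ≅ Proj (𝒮.deg U hU)))
    (hP : RelProj.IsRelProj 𝒮 p chart) (U : Y.Opens) (hU : IsAffineOpen U) :
    p ∣_ U = (chart U hU).hom ≫ (Proj.toSpecZero (𝒮.deg U hU) ≫ Spec.map (𝒮.strZero U hU)) ≫
      hU.isoSpec.inv := by
  rw [← cancel_mono U.ι]
  simp only [Category.assoc, IsAffineOpen.isoSpec_inv_ι, morphismRestrict_ι]
  exact (hP.chart_over U hU).symm


/-- Let 𝒮 be a quasi-coherent positively graded O_Y-algebra generated by 𝒮_1 with 𝒮_1 of finite type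
over O_Y. Then Proj(𝒮) is of finite type over Y. -/
theorem result {Y P : Scheme.{u}} (𝒮 : RelProj.QCGrAlg Y)
    (hgen : 𝒮.IsGenDegOne) (hft : 𝒮.IsFTDeg 1) (p : P ⟶ Y)
    (chart : ∀ (U : Y.Opens) (hU : IsAffineOpen U), (((p ⁻¹ᵁ U : P.Opens) : Scheme.{u}) ≅ Proj (𝒮.deg U hU)))
    (hP : RelProj.IsRelProj 𝒮 p chart) : LocallyOfFiniteType p ∧ QuasiCompact p := by
  have key : ∀ U : Y.affineOpens, LocallyOfFiniteType (p ∣_ (U : Y.Opens)) ∧
      QuasiCompact (p ∣_ (U : Y.Opens)) := by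
    rintro ⟨U, hU⟩
    obtain ⟨T, hT1, hT⟩ := hft U hU
    obtain ⟨h1, h2⟩ := Groth.Agent.Lib.Lead.GenDegOne.proj_finiteType (𝒜 := 𝒮.deg U hU)
      (Y.presheaf.obj (op U)) (𝒮.strZero U hU) (hgen U hU) T (fun t ht => hT1 ht)
      (fun x hx => by obtain ⟨c, hc⟩ := hT x hx; exact ⟨c, hc⟩)
    change LocallyOfFiniteType (p ∣_ U) ∧ QuasiCompact (p ∣_ U)
    rw [restrict_eq 𝒮 p chart hP U hU]
    constructor <;> infer_instance
  constructor
  · exact IsZariskiLocalAtTarget.of_iSup_eq_top (P := @LocallyOfFiniteType)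
      (fun U : Y.affineOpens => (U : Y.Opens)) (iSup_affineOpens_eq_top Y) (fun U => (key U).1)
  · exact IsZariskiLocalAtTarget.of_iSup_eq_top (P := @QuasiCompact)
      (fun U : Y.affineOpens => (U : Y.Opens)) (iSup_affineOpens_eq_top Y) (fun U => (key U).2)


end Groth.Agent.S8261
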