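import Groth.Statements.S9219
import Mathlib

set_option autoImplicit false
universe u
open CategoryTheory CategoryTheory.Limits AlgebraicGeometry
open Lim

namespace Groth.Agent.S9219

attribute [local instance] IsCofiltered.isConnected

/-- Let S = lim S_i be a cofiltered limit of schemes with affine transition morphisms (the S_i are not
assumed quasi-compact or quasi-separated), i an index, and X_i → S_i, Y_i → S_i morphisms locally of
finite presentation with X_i, Y_i quasi-compact and quasi-separated; let X be the base change of X_i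
to S (a pullback square). If two S_i-morphisms f_i, g_i : X_i → Y_i have the same base change to S
(equivalently, the same composite with X → X_i), then for some index j over i their base changes to
S_j agree, i.e. they have the same composite with X_i ×_{S_i} S_j → X_i. This is the faithfulness
part of the equivalence between the colimit of the categories of quasi-compact quasi-separated
schemes locally of finite presentation over the S_i and the corresponding category over S. -/
theorem result {I : Type u} [SmallCategory I] [IsCofiltered I]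
    (D : I ⥤ Scheme.{u}) (c : Limits.Cone D) (hc : Limits.IsLimit c)
    [∀ (i j : I) (f : i ⟶ j), IsAffineHom (D.map f)] (i : I)
    {Xi Yi : Scheme.{u}} (xi : Xi ⟶ D.obj i) (yi : Yi ⟶ D.obj i)
    [CompactSpace Xi] [QuasiSeparatedSpace Xi] [LocallyOfFinitePresentation xi]
    [CompactSpace Yi] [QuasiSeparatedSpace Yi] [LocallyOfFinitePresentation yi]
    {X : Scheme.{u}} (qX : X ⟶ Xi) (pX : X ⟶ c.pt) (hX : IsPullback qX pX xi (c.π.app i))
    (fi gi : Xi ⟶ Yi) (hfi : fi ≫ yi = xi) (hgi : gi ≫ yi = xi) (h : qX ≫ fi = qX ≫ gi) :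
    ∃ (j : I) (φ : j ⟶ i), pullback.fst xi (D.map φ) ≫ fi = pullback.fst xi (D.map φ) ≫ gi := by
  classical
  let D' : Over i ⥤ Scheme.{u} := Over.post D ⋙ Over.pullback xi ⋙ Over.forget _
  let c' : Cone D' := (Over.pullback xi ⋙ Over.forget _).mapCone ((Over.conePost D i).obj c)
  have hc' : IsLimit c' :=
    isLimitOfPreserves (Over.pullback xi ⋙ Over.forget _) (Over.isLimitConePost i hc)
  have hobj : ∀ j : Over i, D'.obj j = pullback (D.map j.hom) xi := fun j => rfl
  haveI : ∀ j : Over i, CompactSpace ↥(D'.obj j) := by
    intro j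
    rw [hobj]
    infer_instance
  have hmap_snd : ∀ {j k : Over i} (f : j ⟶ k),
      D'.map f ≫ pullback.snd (D.map k.hom) xi = pullback.snd (D.map j.hom) xi := by
    intro j k f
    exact pullback.lift_snd _ _ _
  have haff : ∀ j : Over i, IsAffineHom (pullback.snd (D.map j.hom) xi) := by
    intro j
    haveI : IsAffineHom (D.map j.hom) := inferInstance
    exact MorphismProperty.pullback_snd (P := @IsAffineHom) _ _ this
  haveI : ∀ {j k : Over i} (f : j ⟶ k), IsAffineHom (D'.map f) := by
    intro j k f
    haveI := haff k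
    have h1 : IsSeparated (pullback.snd (D.map k.hom) xi) := IsSeparated.of_isAffineHom _
    have h2 : IsAffineHom (D'.map f ≫ pullback.snd (D.map k.hom) xi) := by
      rw [hmap_snd]; exact haff j
    exact @IsAffineHom.of_comp _ _ _ (D'.map f) (pullback.snd (D.map k.hom) xi) h2 h1
  let t : D' ⟶ (Functor.const (Over i)).obj (D.obj i) :=
    { app := fun j => pullback.snd (D.map j.hom) xi ≫ xi
      naturality := by
        intro j k f
        have := hmap_snd f
        simp only [Functor.const_obj_obj, Functor.const_obj_map, Category.comp_id]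
        rw [← Category.assoc, this] }
  let i₀ : Over i := Over.mk (𝟙 i)
  let a : D'.obj i₀ ⟶ Yi := pullback.snd (D.map i₀.hom) xi ≫ fi
  let b : D'.obj i₀ ⟶ Yi := pullback.snd (D.map i₀.hom) xi ≫ gi
  have ha : t.app i₀ = a ≫ yi := by simp [t, a, hfi]
  have hb : t.app i₀ = b ≫ yi := by simp [t, b, hgi]
  have hπ : c'.π.app i₀ ≫ pullback.snd (D.map i₀.hom) xi = pullback.snd (c.π.app i) xi := by
    exact pullback.lift_snd _ _ _
  have hsnd : pullback.snd (c.π.app i) xi = hX.flip.isoPullback.inv ≫ qX := by
    rw [Iso.eq_inv_comp]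
    exact hX.flip.isoPullback_hom_snd
  have hab : c'.π.app i₀ ≫ a = c'.π.app i₀ ≫ b := by
    have e1 : c'.π.app i₀ ≫ a = pullback.snd (c.π.app i) xi ≫ fi := by
      rw [← hπ]; exact (Category.assoc _ _ _).symm
    have e2 : c'.π.app i₀ ≫ b = pullback.snd (c.π.app i) xi ≫ gi := by
      rw [← hπ]; exact (Category.assoc _ _ _).symm
    rw [e1, e2, hsnd, Category.assoc, Category.assoc, h]
  obtain ⟨k, hk, hkab⟩ := Scheme.exists_hom_comp_eq_comp_of_locallyOfFiniteType D' t yi c' hc'
    a b ha hb hab
  refine ⟨k.left, k.hom, ?_⟩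
  have e3 : D'.map hk ≫ a = pullback.snd (D.map k.hom) xi ≫ fi := by
    rw [← hmap_snd hk]; exact (Category.assoc _ _ _).symm
  have e4 : D'.map hk ≫ b = pullback.snd (D.map k.hom) xi ≫ gi := by
    rw [← hmap_snd hk]; exact (Category.assoc _ _ _).symm
  have hkab' : pullback.snd (D.map k.hom) xi ≫ fi = pullback.snd (D.map k.hom) xi ≫ gi := by
    rw [← e3, ← e4]; exact hkab
  have hsym : pullback.fst xi (D.map k.hom) =
      (pullbackSymmetry xi (D.map k.hom)).hom ≫ pullback.snd (D.map k.hom) xi := by
    simp
  rw [hsym, Category.assoc, Category.assoc, hkab']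

end Groth.Agent.S9219
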