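import Groth.Statements.S2579
import Groth.Agent.Lib.Helper9.LimIsoDescend
import Groth.Agent.Lib.Helper9.DiagBaseChange
import Groth.Agent.Lib.Helper7.LfpOfComp
import Mathlib.AlgebraicGeometry.Morphisms.QuasiSeparated

set_option autoImplicit false
universe u
open CategoryTheory AlgebraicGeometry
open EGA43

namespace Groth.Agent.S2579

/-- Let S = lim S_i be a cofiltered limit of schemes with affine transition morphisms, S_{i₀} a
quasi-compact quasi-separated stage (the source needs S_{i₀} only quasi-compact; quasi-separatedness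
is assumed here), f₀ : X₀ ⟶ Y₀ an S_{i₀}-morphism between schemes of finite presentation over
S_{i₀}, and f : X ⟶ Y its base change to S (base changes expressed by pullback squares). If f is a
monomorphism, then the base change f_i : X_i ⟶ Y_i of f₀ to some stage S_i is a monomorphism. -/
theorem result {I : Type u} [SmallCategory I] [IsCofiltered I]
    (D : I ⥤ Scheme.{u}) (c : Limits.Cone D) (hc : Limits.IsLimit c)
    [∀ (i j : I) (f : i ⟶ j), IsAffineHom (D.map f)] (i₀ : I) [CompactSpace (D.obj i₀)]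
    [QuasiSeparatedSpace (D.obj i₀)] {X₀ Y₀ : Scheme.{u}} (f₀ : X₀ ⟶ Y₀) (g₀ : Y₀ ⟶ D.obj i₀)
    [LocallyOfFinitePresentation g₀] [QuasiCompact g₀] [QuasiSeparated g₀]
    [LocallyOfFinitePresentation (f₀ ≫ g₀)] [QuasiCompact (f₀ ≫ g₀)] [QuasiSeparated (f₀ ≫ g₀)]
    {X Y : Scheme.{u}} (f : X ⟶ Y) (g : Y ⟶ c.pt) (qY : Y ⟶ Y₀) (qX : X ⟶ X₀)
    (hY : IsPullback qY g g₀ (c.π.app i₀)) (hX : IsPullback qX f f₀ qY) [Mono f] :
    ∃ (i : I) (φ : i ⟶ i₀) (Xi Yi : Scheme.{u}) (fi : Xi ⟶ Yi) (gi : Yi ⟶ D.obj i) (pY : Yi ⟶ Y₀)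
      (pX : Xi ⟶ X₀), IsPullback pY gi g₀ (D.map φ) ∧ IsPullback pX fi f₀ pY ∧ Mono fi := by
  have : LocallyOfFinitePresentation f₀ :=
    Groth.Agent.Lib.helper7.locallyOfFinitePresentation_of_comp f₀ g₀
  have : QuasiCompact f₀ := QuasiCompact.of_comp f₀ g₀
  have : QuasiSeparated f₀ := QuasiSeparated.of_comp f₀ g₀
  have : CompactSpace X₀ := QuasiCompact.compactSpace_of_compactSpace (f₀ ≫ g₀)
  have : QuasiSeparatedSpace X₀ := quasiSeparatedSpace_of_quasiSeparated (f₀ ≫ g₀)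
  have : CompactSpace ↥(Limits.pullback f₀ f₀) :=
    QuasiCompact.compactSpace_of_compactSpace (Limits.pullback.fst f₀ f₀)
  have : QuasiSeparatedSpace ↥(Limits.pullback f₀ f₀) :=
    quasiSeparatedSpace_of_quasiSeparated (Limits.pullback.fst f₀ f₀)
  have : LocallyOfFinitePresentation
      (Limits.pullback.diagonal f₀ ≫ Groth.Agent.Lib.helper9.diagBase f₀ g₀) := by
    rw [Groth.Agent.Lib.helper9.diagonal_diagBase]
    infer_instance
  have : LocallyOfFiniteType (Groth.Agent.Lib.helper9.diagBase f₀ g₀) := by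
    show LocallyOfFiniteType (Limits.pullback.fst f₀ f₀ ≫ f₀ ≫ g₀)
    infer_instance
  have : IsIso (Groth.Agent.Lib.helper9.stageMap (c.π.app i₀) (Limits.pullback.diagonal f₀)
      (Groth.Agent.Lib.helper9.diagBase f₀ g₀)) :=
    Groth.Agent.Lib.helper9.isIso_stageMap_diagonal_of_mono hY hX
  obtain ⟨l, hl⟩ := Groth.Agent.Lib.helper9.exists_isIso_stageMap D c hc i₀
    (Limits.pullback.diagonal f₀) (Groth.Agent.Lib.helper9.diagBase f₀ g₀)
  refine ⟨l.left, l.hom, _, _, Groth.Agent.Lib.helper9.stageMap (D.map l.hom) f₀ g₀, _, _, _,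
    Groth.Agent.Lib.helper9.isPullback_stage_base (D.map l.hom) g₀,
    Groth.Agent.Lib.helper9.isPullback_stageMap (D.map l.hom) f₀ g₀, ?_⟩
  exact Groth.Agent.Lib.helper9.mono_of_isIso_stageMap_diagonal
    (Groth.Agent.Lib.helper9.isPullback_stage_base (D.map l.hom) g₀)
    (Groth.Agent.Lib.helper9.isPullback_stageMap (D.map l.hom) f₀ g₀)

end Groth.Agent.S2579
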