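import Groth.Statements.S2581
import Groth.Agent.Lib.Helper9.LimDescendEmpty
import Groth.Agent.Lib.Helper7.LfpOfComp
import Groth.Agent.S3402
import Mathlib.AlgebraicGeometry.Morphisms.FinitePresentation
import Mathlib.AlgebraicGeometry.Morphisms.QuasiSeparated

set_option autoImplicit false
universe u
open CategoryTheory AlgebraicGeometry
open EGA43

namespace Groth.Agent.S2581

theorem isLocallyConstructible_compl' {Z : Type*} [TopologicalSpace Z] {A : Set Z}
    (hA : Topology.IsLocallyConstructible A) : Topology.IsLocallyConstructible Aᶜ := by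
  intro x
  obtain ⟨U, hxU, hU, hUs⟩ := hA x
  exact ⟨U, hxU, hU, by simpa using hUs.compl⟩

/-- Let S = lim S_i be a cofiltered limit of schemes with affine transition morphisms, S_{i₀} a
quasi-compact quasi-separated stage (the source needs S_{i₀} only quasi-compact; quasi-separatedness
is assumed here), f₀ : X₀ ⟶ Y₀ an S_{i₀}-morphism between schemes of finite presentation over
S_{i₀}, and f : X ⟶ Y its base change to S (base changes expressed by pullback squares). If f is
surjective, then the base change f_i : X_i ⟶ Y_i of f₀ to some stage S_i is surjective. -/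
theorem result {I : Type u} [SmallCategory I] [IsCofiltered I]
    (D : I ⥤ Scheme.{u}) (c : Limits.Cone D) (hc : Limits.IsLimit c)
    [∀ (i j : I) (f : i ⟶ j), IsAffineHom (D.map f)] (i₀ : I) [CompactSpace (D.obj i₀)]
    [QuasiSeparatedSpace (D.obj i₀)] {X₀ Y₀ : Scheme.{u}} (f₀ : X₀ ⟶ Y₀) (g₀ : Y₀ ⟶ D.obj i₀)
    [LocallyOfFinitePresentation g₀] [QuasiCompact g₀] [QuasiSeparated g₀]
    [LocallyOfFinitePresentation (f₀ ≫ g₀)] [QuasiCompact (f₀ ≫ g₀)] [QuasiSeparated (f₀ ≫ g₀)]
    {X Y : Scheme.{u}} (f : X ⟶ Y) (g : Y ⟶ c.pt) (qY : Y ⟶ Y₀) (qX : X ⟶ X₀)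
    (hY : IsPullback qY g g₀ (c.π.app i₀)) (hX : IsPullback qX f f₀ qY) [Surjective f] :
    ∃ (i : I) (φ : i ⟶ i₀) (Xi Yi : Scheme.{u}) (fi : Xi ⟶ Yi) (gi : Yi ⟶ D.obj i) (pY : Yi ⟶ Y₀)
      (pX : Xi ⟶ X₀), IsPullback pY gi g₀ (D.map φ) ∧ IsPullback pX fi f₀ pY ∧ Surjective fi := by
  have : LocallyOfFinitePresentation f₀ :=
    Groth.Agent.Lib.helper7.locallyOfFinitePresentation_of_comp f₀ g₀
  have : QuasiCompact f₀ := QuasiCompact.of_comp f₀ g₀
  have : CompactSpace Y₀ := QuasiCompact.compactSpace_of_compactSpace g₀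
  have h1 : Topology.IsLocallyConstructible (Set.range f₀.base) := by
    rw [← Set.image_univ]
    exact f₀.isLocallyConstructible_image Topology.IsLocallyConstructible.univ
  have hZ : ProCons.IsProConstructible (Set.range f₀.base)ᶜ :=
    ((Groth.Agent.S3402.result Y₀ _).mp (isLocallyConstructible_compl' h1)).2
  have h : ∀ w : ↥(Limits.pullback (c.π.app i₀) g₀),
      (Limits.pullback.snd (c.π.app i₀) g₀) w ∉ (Set.range f₀.base)ᶜ := by
    intro w hw
    apply hw
    obtain ⟨x, hx⟩ := (inferInstance : Surjective f).surj (hY.flip.isoPullback.inv w)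
    refine ⟨qX x, ?_⟩
    have e1 := Scheme.Hom.comp_apply qX f₀ x
    rw [hX.w] at e1
    have e2 := Scheme.Hom.comp_apply f qY x
    have e3 := Scheme.Hom.comp_apply hY.flip.isoPullback.inv qY w
    rw [hY.flip.isoPullback_inv_snd] at e3
    exact e1.symm.trans (e2.trans ((congrArg qY hx).trans e3.symm))
  obtain ⟨i, φ, hi⟩ := Groth.Agent.Lib.helper9.exists_forall_snd_notMem D c hc i₀ g₀ _ hZ h
  refine ⟨i, φ, Limits.pullback f₀ (Limits.pullback.snd (D.map φ) g₀),
    Limits.pullback (D.map φ) g₀, Limits.pullback.snd _ _, Limits.pullback.fst _ _,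
    Limits.pullback.snd _ _, Limits.pullback.fst _ _,
    (IsPullback.of_hasPullback _ _).flip, IsPullback.of_hasPullback _ _, ⟨fun y => ?_⟩⟩
  have hy := hi y
  rw [Set.notMem_compl_iff] at hy
  obtain ⟨x₀, hx₀⟩ := hy
  obtain ⟨z, hz1, hz2⟩ := Scheme.Pullback.exists_preimage_pullback (f := f₀)
    (g := Limits.pullback.snd (D.map φ) g₀) x₀ y hx₀
  exact ⟨z, hz2⟩

end Groth.Agent.S2581
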