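import Groth.Statements.S0086
import Groth.Agent.S0081
import Mathlib.RingTheory.Finiteness.Descent
import Mathlib.AlgebraicGeometry.Morphisms.FlatDescent

set_option autoImplicit false
open CategoryTheory CategoryTheory.Limits AlgebraicGeometry Opposite
universe u
open EtBase

namespace Groth.Agent.S0086

theorem descendsAlong_locallyOfFiniteType :
    MorphismProperty.DescendsAlong @LocallyOfFiniteType
      (@Surjective ⊓ @Flat ⊓ @QuasiCompact : MorphismProperty Scheme.{u}) :=
  HasRingHomProperty.descendsAlong_flat (P := @LocallyOfFiniteType)
    RingHom.FiniteType.codescendsAlong_faithfullyFlat

/-- If the base change of a morphism of schemes along a quasi-compact, flat, surjective morphism is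
proper, then the morphism itself is proper. (Stated for a single quasi-compact flat surjective base
change; together with Zariski-locality on the target this is fpqc descent for properness.) -/
theorem result :
    MorphismProperty.DescendsAlong @IsProper (@Surjective ⊓ @Flat ⊓ @QuasiCompact : MorphismProperty Scheme.{u}) := by
  have h1 := Groth.Agent.S0081.result.{u}
  have h2 := descendsAlong_locallyOfFiniteType.{u}
  rw [isProper_eq]
  infer_instance

end Groth.Agent.S0086
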