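import Groth.Statements.S4418
import Groth.Agent.Lib.Helper12.RelProjAmple
import Groth.Agent.Lib.Helper12.RelProjProper

set_option autoImplicit false
universe u
open CategoryTheory CategoryTheory.Limits AlgebraicGeometry
open EGA2

namespace Groth.Agent.S4418

/-- Every projective morphism f : X → Y is quasi-projective (of finite type with an f-ample module) and
proper. -/
theorem result {X Y : Scheme.{u}} (f : X ⟶ Y) (hf : RelProj.IsProjective f) :
    RelProj.IsQuasiProjective f ∧ IsProper f := by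
  refine ⟨?_, Groth.Agent.Lib.helper12.RelProjProper.isProper_of_isProjective f hf⟩
  obtain ⟨𝒮, P, p, chart, e, hgen, hft, hP, rfl⟩ := hf
  obtain ⟨L, lam, hL⟩ := Groth.Agent.Lib.helper28.RelTwistExists.exists_isRelTwist 𝒮 p chart hP 1
  have hamp := Groth.Agent.Lib.helper12.RelProjAmple.isRelAmple_relTwist 𝒮 hgen hft p chart hP L lam hL
  have hfin := Groth.Agent.S8261.result 𝒮 hgen hft p chart hP
  have hft' : LocallyOfFiniteType p := hfin.1
  have hqc : QuasiCompact p := hfin.2
  refine ⟨inferInstance, inferInstance, L.restrict e.hom, inferInstance, fun V => ?_⟩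
  rw [Groth.Agent.Lib.helper12.AmpleLocal.isAmple_restrict_restrict_iff]
  refine (Groth.Agent.Lib.helper12.AmpleLocal.isAmple_restrict_iff_of_range_eq _ (p ⁻¹ᵁ V.1).ι ?_ L).mpr
    (hamp.2 V)
  rw [Scheme.Opens.range_ι]
  ext x
  constructor
  · rintro ⟨y, rfl⟩
    exact y.2
  · intro hx
    have hx' : e.inv x ∈ (e.hom ≫ p) ⁻¹ᵁ V.1 := by
      change (e.hom ≫ p) (e.inv x) ∈ V.1
      rw [← Scheme.Hom.comp_apply, e.inv_hom_id_assoc]
      exact hx
    refine ⟨⟨e.inv x, hx'⟩, ?_⟩
    change e.hom (e.inv x) = x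
    rw [← Scheme.Hom.comp_apply, e.inv_hom_id]
    rfl

end Groth.Agent.S4418
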