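import Groth.Statements.S15549
import Groth.Agent.Lib.Helper28.GMTildeTN
-- import your own Groth.Agent.* helpers here

set_option autoImplicit false
universe u
open CategoryTheory AlgebraicGeometry
open LocCoh

namespace Groth.Agent.S15549

/-- Let R be a Noetherian commutative ring, positively graded by additive subgroups R_d, with irrelevant
ideal R_+ and X = Proj R, and let M be a graded R-module which is the direct sum of its pieces M_i,
i ≥ 0 (non-negatively graded here). For every i and every m ∈ M_i, the global section of M(i)~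
defined by m (the value m/1 at every point) is zero if and only if some power of R_+ annihilates m.
Equivalently, degree by degree, the kernel of the canonical map from M to the direct sum over all n
of Γ(X, M(n)~) is the R_+-power-torsion submodule H^0_{R_+}(M). -/
theorem result {R σ : Type u} [CommRing R] [IsNoetherianRing R] [SetLike σ R] [AddSubgroupClass σ R]
    (𝒜 : ℕ → σ) [GradedRing 𝒜] {M τ : Type u} [AddCommGroup M] [Module R M] [SetLike τ M] [AddSubgroupClass τ M]
    (ℳ : ℕ → τ) [SetLike.GradedSMul 𝒜 ℳ] [DirectSum.Decomposition ℳ]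
    (i : ℕ) (m : ℳ i) :
    GrMod.alpha 𝒜 ℳ i m = 0 ↔
      ∃ k : ℕ, ∀ r : R, r ∈ (HomogeneousIdeal.irrelevant 𝒜).toIdeal ^ k → r • (m : M) = 0 := by
  classical
  constructor
  · intro h
    -- pointwise vanishing
    have hpt : ∀ y : ProjectiveSpectrum 𝒜, ∃ u : R, u ∉ y.asHomogeneousIdeal ∧ u • (m : M) = 0 := by
      intro y
      have h1 : (((GrMod.globalOf 𝒜 ℳ m).1 ⟨y, trivial⟩ : GrMod.tildeAt 𝒜 ℳ i y) :
          GrMod.LocMod 𝒜 (M := M) y) = 0 := by
        have h2 : GrMod.globalOf 𝒜 ℳ m = 0 := h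
        rw [h2]
        rfl
      rw [GrMod.globalOf_apply_coe,
        Groth.Agent.Lib.helper28.GMTildeQCoh.mk_eq_zero_iff] at h1
      obtain ⟨u, hu⟩ := h1
      exact ⟨u.1, u.2, hu⟩
    have hrad : (HomogeneousIdeal.irrelevant 𝒜).toIdeal ≤
        (Ideal.torsionOf R M (m : M)).radical := by
      rw [HomogeneousIdeal.toIdeal_irrelevant_le]
      intro d hd f hf
      obtain ⟨N, hN⟩ := Groth.Agent.Lib.helper28.GFrac.exists_pow_smul_eq_zero 𝒜 ℳ hd hf m.2
        (fun y _ => hpt y)
      exact ⟨N, (Ideal.mem_torsionOf_iff _ _).mpr hN⟩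
    obtain ⟨k, hk⟩ := Ideal.exists_pow_le_of_le_radical_of_fg hrad
      (IsNoetherian.noetherian _)
    exact ⟨k, fun r hr => (Ideal.mem_torsionOf_iff _ _).mp (hk hr)⟩
  · rintro ⟨k, hk⟩
    change GrMod.globalOf 𝒜 ℳ m = 0
    refine Subtype.ext (funext fun x => Subtype.ext ?_)
    change LocalizedModule.mk (m : M) 1 = (0 : GrMod.LocMod 𝒜 (M := M) x.1)
    rw [Groth.Agent.Lib.helper28.GMTildeQCoh.mk_eq_zero_iff]
    obtain ⟨e, g, he, hg, hgx⟩ := Groth.Agent.Lib.helper28.GMTildeTN.exists_pos_notMem 𝒜 x.1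
    refine ⟨⟨g ^ k, fun h => hgx (x.1.isPrime.mem_of_pow_mem _ h)⟩, ?_⟩
    change g ^ k • (m : M) = 0
    exact hk _ (Ideal.pow_mem_pow (HomogeneousIdeal.mem_irrelevant_of_mem _ he hg) k)

end Groth.Agent.S15549
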