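import Groth.Statements.S1007
import Groth.Agent.Lib.Helper1.TruncTower
import Groth.Agent.Lib.Helper27.SerreVan3
import Groth.Agent.Lib.Helper7.QCohExt
import Groth.Agent.Lib.Helper7.CohKer

set_option autoImplicit false
universe u
open CategoryTheory CategoryTheory.Limits AlgebraicGeometry
attribute [local instance] HasDerivedCategory.standard
open Perf

namespace Groth.Agent.S1007

open TopologicalSpace Opposite ZeroObject

/-- quasi-coherent modules on a scheme, as an object property on `Mod(O)` of the Zariski site. -/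
def QC (X : Scheme.{u}) : ObjectProperty (ModSite.Mod X.sheaf) :=
  fun M => SheafOfModules.IsQuasicoherent (R := X.ringCatSheaf) M

lemma QC_iso (X : Scheme.{u}) {M N : X.Modules} (e : M ≅ N) (h : QC X M) : QC X N :=
  (SheafOfModules.isQuasicoherent X.ringCatSheaf).prop_of_iso e h

instance (X : Scheme.{u}) : WSerre.IsWeakSerre (QC X) where
  exists_zero := ⟨(0 : X.Modules), isZero_zero _,
    Groth.Agent.Lib.helper7.CohKer.isQuasicoherent_of_isZero (X := X) (isZero_zero _)⟩
  kernels_le := by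
    rintro _ ⟨f, k, hk, h1, h2⟩
    have h1' : SheafOfModules.IsQuasicoherent (R := X.ringCatSheaf) _ := h1
    have h2' : SheafOfModules.IsQuasicoherent (R := X.ringCatSheaf) _ := h2
    exact QC_iso X (IsLimit.conePointUniqueUpToIso (kernelIsKernel f) hk)
      (Groth.Agent.Lib.helper7.CohKer.isQuasicoherent_kernel (X := X) f)
  cokernels_le := by
    rintro _ ⟨f, k, hk, h1, h2⟩
    have h1' : SheafOfModules.IsQuasicoherent (R := X.ringCatSheaf) _ := h1
    have h2' : SheafOfModules.IsQuasicoherent (R := X.ringCatSheaf) _ := h2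
    exact QC_iso X (IsColimit.coconePointUniqueUpToIso (cokernelIsCokernel f) hk)
      (Groth.Agent.Lib.helper7.CohKer.isQuasicoherent_cokernel (X := X) f)
  prop_X₂_of_shortExact := by
    intro S hS h1 h3
    have h1' : SheafOfModules.IsQuasicoherent (R := X.ringCatSheaf) S.X₁ := h1
    have h3' : SheafOfModules.IsQuasicoherent (R := X.ringCatSheaf) S.X₃ := h3
    exact Groth.Agent.Lib.helper7.QCohExt.isQuasicoherent_of_extension (X := X) S hS

/-- the affine opens -/
def Baff (X : Scheme.{u}) : Set (Opens X) := {U | IsAffineOpen U}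

lemma exists_affine_le (X : Scheme.{u}) (U : Opens X) (x : X) (hx : x ∈ U) :
    ∃ V : Opens X, IsAffineOpen V ∧ V ≤ U ∧ x ∈ V := by
  obtain ⟨_, ⟨V, hV, rfl⟩, hxV, hVU⟩ :=
    X.isBasis_affineOpens.exists_subset_of_mem_open hx U.2
  exact ⟨V, hV, hVU, hxV⟩

lemma hB (X : Scheme.{u}) : ∀ U : Opens X, ∃ (ι : Type u) (Y : ι → Opens X) (g : ∀ i, Y i ⟶ U),
    Sieve.ofArrows Y g ∈ Opens.grothendieckTopology X U ∧ ∀ i, Y i ∈ Baff X := by
  intro U
  refine ⟨{V : Opens X // IsAffineOpen V ∧ V ≤ U}, fun i => i.1, fun i => homOfLE i.2.2, ?_,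
    fun i => i.2.1⟩
  intro x hx
  obtain ⟨V, hV, hVU, hxV⟩ := exists_affine_le X U x hx
  exact ⟨V, homOfLE hVU, Sieve.ofArrows_mk _ _ (⟨V, hV, hVU⟩ : {V : Opens X // IsAffineOpen V ∧ V ≤ U}),
    hxV⟩

open Groth.Agent.H1.GoodCd in
lemma goodFor_affine (X : Scheme.{u}) (V : Opens X) (hV : IsAffineOpen V) :
    GoodFor X.sheaf (QC X) 0 V := by
  intro F hF k hk
  have hF' : SheafOfModules.IsQuasicoherent (R := X.ringCatSheaf) F := hF
  obtain ⟨q, rfl⟩ : ∃ q, k = q + 1 := ⟨k - 1, by omega⟩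
  exact Groth.Agent.Lib.helper27.SerreVan.subsingleton_HU_of_isAffineOpen (X := X) F V hV q

open Groth.Agent.H1.GoodCd in
lemma hA (X : Scheme.{u}) : ∀ V ∈ Baff X, ∃ d : ℕ, ∀ T ∈ Opens.grothendieckTopology X V,
    ∃ (ι : Type u) (Y : ι → Opens X) (g : ∀ i, Y i ⟶ V),
      (∀ i, T.arrows (g i)) ∧ Sieve.ofArrows Y g ∈ Opens.grothendieckTopology X V ∧
        ∀ i, GoodFor X.sheaf (QC X) d (Y i) := by
  intro V hV
  refine ⟨0, fun T hT => ?_⟩
  refine ⟨{W : Opens X // IsAffineOpen W ∧ ∃ h : W ≤ V, T.arrows (homOfLE h)}, fun i => i.1,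
    fun i => homOfLE i.2.2.1, fun i => i.2.2.2, ?_, fun i => goodFor_affine X i.1 i.2.1⟩
  intro x hx
  obtain ⟨W, f, hf, hxW⟩ := hT x hx
  obtain ⟨W', hW', hW'W, hxW'⟩ := exists_affine_le X W x hxW
  have h1 : T.arrows (homOfLE (hW'W.trans f.le)) := by
    have := T.downward_closed hf (homOfLE hW'W)
    exact this
  exact ⟨W', homOfLE (hW'W.trans f.le),
    Sieve.ofArrows_mk _ _
      (⟨W', hW', hW'W.trans f.le, h1⟩ :
        {W : Opens X // IsAffineOpen W ∧ ∃ h : W ≤ V, T.arrows (homOfLE h)}),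
    hxW'⟩

theorem main (X : Scheme.{u}) (E : DCoh.D X) (hE : DCoh.IsQCohD E)
    [h : HasProduct (CohCx.truncTower E)] :
    CohCx.IsRlimVia (CohCx.truncTower E) (CohCx.truncTowerMap E) E (CohCx.toTruncTower E) := by
  exact @Groth.Agent.H1.TruncTower.isRlimVia_truncTower _ _ _ X.sheaf _ (QC X) _ (Baff X)
    (hB X) (hA X) E hE h

/-- Let X be a scheme and E an object of D(O_X) with quasi-coherent cohomology sheaves. Then the
canonical map from E to the derived limit of its truncations τ_{≥ -n}E is an isomorphism; concretely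
(granted the countable product of the truncations exists in D(O_X), which holds): the map E ⟶ ∏
τ_{≥-n}E with components the truncation morphisms, followed by 'identity minus transition', extends
to a distinguished triangle E ⟶ ∏ τ_{≥-n}E ⟶ ∏ τ_{≥-n}E ⟶ E[1]. -/
theorem result (X : Scheme.{u}) (E : DCoh.D X) (hE : DCoh.IsQCohD E)
    [HasProduct (fun n : ℕ => ((DerivedCategory.TStructure.t : CategoryTheory.Triangulated.TStructure (DCoh.D X)).truncGE (-(n : ℤ))).obj E)] :
    ∃ c : (∏ᶜ fun n : ℕ => ((DerivedCategory.TStructure.t : CategoryTheory.Triangulated.TStructure (DCoh.D X)).truncGE (-(n : ℤ))).obj E) ⟶ E⟦(1 : ℤ)⟧,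
      CategoryTheory.Pretriangulated.Triangle.mk
        (Pi.lift fun n : ℕ => ((DerivedCategory.TStructure.t : CategoryTheory.Triangulated.TStructure (DCoh.D X)).truncGEπ (-(n : ℤ))).app E)
        (Pi.lift fun n : ℕ => Pi.π (fun n : ℕ => ((DerivedCategory.TStructure.t : CategoryTheory.Triangulated.TStructure (DCoh.D X)).truncGE (-(n : ℤ))).obj E) n -
          Pi.π (fun n : ℕ => ((DerivedCategory.TStructure.t : CategoryTheory.Triangulated.TStructure (DCoh.D X)).truncGE (-(n : ℤ))).obj E) (n + 1) ≫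
            ((DerivedCategory.TStructure.t : CategoryTheory.Triangulated.TStructure (DCoh.D X)).natTransTruncGEOfLE (-((n + 1 : ℕ) : ℤ)) (-(n : ℤ)) (Int.neg_le_neg (Int.ofNat_le.mpr (Nat.le_succ n)))).app E)
        c ∈ CategoryTheory.Pretriangulated.distinguishedTriangles := by
  exact main X E hE

end Groth.Agent.S1007
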