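import Groth.Statements.S0997
import Groth.Agent.S1007
import Groth.Agent.Lib.Helper1.UnbddProj
import Groth.Agent.Lib.Helper1.FreeOnTop
import Groth.Agent.Lib.Helper1.UnitSingle
import Groth.Agent.Lib.Helper1.TruncTower2
import Groth.Agent.Lib.Helper25.DerAdjK
import Groth.Agent.Lib.Helper25.DerBC2

set_option autoImplicit false
universe u
open CategoryTheory CategoryTheory.Limits AlgebraicGeometry
attribute [local instance] HasDerivedCategory.standard
open Perf

namespace Groth.Agent.S0997

open TopologicalSpace Opposite DerivedCategory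

set_option linter.style.haveILetI false

/-- `Hom(R, -)` reflects isomorphisms of `R`-modules -/
lemma isIso_of_bijective_hom (R : CommRingCat.{u}) {M M' : ModuleCat.{u} R} (φ : M ⟶ M')
    (h : Function.Bijective (fun x : ModuleCat.of R R ⟶ M => x ≫ φ)) : IsIso φ := by
  rw [ConcreteCategory.isIso_iff_bijective]
  constructor
  · intro m m' hm
    let x : ModuleCat.of R R ⟶ M := ModuleCat.ofHom (LinearMap.toSpanSingleton R M m)
    let x' : ModuleCat.of R R ⟶ M := ModuleCat.ofHom (LinearMap.toSpanSingleton R M m')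
    have hx : x ≫ φ = x' ≫ φ := by
      ext
      simpa [x, x'] using hm
    have := h.1 hx
    have h1 := congrArg (fun y : ModuleCat.of R R ⟶ M => y.hom (1 : R)) this
    simpa [x, x'] using h1
  · intro m'
    obtain ⟨x, hx⟩ := h.2 (ModuleCat.ofHom (LinearMap.toSpanSingleton R M' m'))
    refine ⟨x.hom (1 : R), ?_⟩
    have h1 := congrArg (fun y : ModuleCat.of R R ⟶ M' => y.hom (1 : R)) hx
    simpa using h1

section adj

variable (R : CommRingCat.{u}) [PreservesFiniteLimits (tilde.functor R)]

instance : (moduleSpecΓFunctor (R := R)).Additive :=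
  (tilde.adjunction (R := R)).right_adjoint_additive

/-- existence of a right adjoint of `tildeD` -/
theorem exists_adj :
    ∃ (RG : DerivedCategory (Spec (CommRingCat.of R)).Modules ⥤ DerivedCategory (ModuleCat.{u} R)),
      Nonempty ((tilde.functor R).mapDerivedCategory ⊣ RG) := by
  have hK : ∀ K : CochainComplex (Spec (CommRingCat.of R)).Modules ℤ,
      ∃ (I : CochainComplex (Spec (CommRingCat.of R)).Modules ℤ) (f : K ⟶ I), I.IsKInjective ∧ QuasiIso f :=
    Groth.Agent.H1.TruncTower.hKinj (Spec (CommRingCat.of R)).sheaf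
  have hD : ((moduleSpecΓFunctor (R := R)).mapHomotopyCategory (ComplexShape.up ℤ) ⋙
      DerivedCategory.Qh).HasRightDerivedFunctor
      (HomotopyCategory.quasiIso (Spec (CommRingCat.of R)).Modules (ComplexShape.up ℤ)) :=
    Groth.Agent.Lib.Helper25.DerBC.hasRightDerivedFunctor hK _
  obtain ⟨adj', -⟩ := Groth.Agent.Lib.Helper25.DerAdjK.exists_adjunction hK
    (tilde.adjunction (R := R))
    (((moduleSpecΓFunctor (R := R)).mapHomotopyCategory (ComplexShape.up ℤ) ⋙
      DerivedCategory.Qh).totalRightDerived DerivedCategory.Qh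
      (HomotopyCategory.quasiIso (Spec (CommRingCat.of R)).Modules (ComplexShape.up ℤ)))
    (((moduleSpecΓFunctor (R := R)).mapHomotopyCategory (ComplexShape.up ℤ) ⋙
      DerivedCategory.Qh).totalRightDerivedUnit DerivedCategory.Qh
      (HomotopyCategory.quasiIso (Spec (CommRingCat.of R)).Modules (ComplexShape.up ℤ)))
  exact ⟨_, ⟨adj'⟩⟩

end adj

section main

variable (R : CommRingCat.{u}) [PreservesFiniteLimits (tilde.functor R)]

open Groth.Agent.H1.GoodCd Groth.Agent.H1.HjSite

/-- `tilde R ≅ freeOn ⊤` -/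
noncomputable def eW :
    (tilde.functor R).obj (ModuleCat.of R R) ≅
      ModSite.freeOn (Spec (CommRingCat.of R)).sheaf (⊤ : Opens (Spec (CommRingCat.of R))) :=
  (Groth.Agent.H1.FreeOnTop.iso (Spec (CommRingCat.of R)).sheaf isTerminalTop).symm

theorem main :
    (DCoh.tildeD R).Full ∧ (DCoh.tildeD R).Faithful ∧
    ∀ K : DCoh.D (Spec (CommRingCat.of R)),
      DCoh.IsQCohD K ↔ ∃ M, Nonempty ((DCoh.tildeD R).obj M ≅ K) := by
  obtain ⟨RG, ⟨adj⟩⟩ := exists_adj R
  have hW : GoodFor (Spec (CommRingCat.of R)).sheaf (Groth.Agent.S1007.QC (Spec (CommRingCat.of R))) 0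
      (⊤ : Opens (Spec (CommRingCat.of R))) :=
    Groth.Agent.S1007.goodFor_affine (Spec (CommRingCat.of R)) ⊤
      (isAffineOpen_top (Spec (CommRingCat.of R)))
  have h2a : ∀ F' : ModuleCat.{u} R,
      Groth.Agent.S1007.QC (Spec (CommRingCat.of R)) ((tilde.functor R).obj F') := by
    intro F'
    exact (inferInstance : ((tilde.functor R).obj F').IsQuasicoherent)
  have h2b : ∀ F' G' : ModuleCat.{u} R,
      Function.Bijective (fun φ : F' ⟶ G' => (tilde.functor R).map φ) :=
    fun F' G' => (tilde.fullyFaithfulFunctor (R := R)).map_bijective F' G'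
  have h2c : ∀ F : (Spec (CommRingCat.of R)).Modules,
      Groth.Agent.S1007.QC (Spec (CommRingCat.of R)) F →
        ∃ F' : ModuleCat.{u} R, Nonempty ((tilde.functor R).obj F' ≅ F) := by
    intro F hF
    have : (tilde.functor R).essImage F := by
      rw [essImage_tilde]
      exact hF
    obtain ⟨F', ⟨e⟩⟩ := this
    exact ⟨F', ⟨e⟩⟩
  have h3 : ∀ F' : ModuleCat.{u} R,
      IsIso (adj.unit.app ((singleFunctor (ModuleCat.{u} R) 0).obj F')) := by
    intro M
    refine Groth.Agent.H1.UnitSingle.isIso_unit_single (tilde.functor R) adj (ModuleCat.of R R)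
      (isIso_of_bijective_hom R) M ?_
    intro p hp τ
    let eX : (tilde.functor R).mapDerivedCategory.obj
        ((singleFunctor (ModuleCat.{u} R) p).obj (ModuleCat.of R R)) ≅
        Xj (Spec (CommRingCat.of R)).sheaf (⊤ : Opens (Spec (CommRingCat.of R))) p :=
      ((tilde.functor R).mapDerivedCategorySingleFunctor p).app _ ≪≫
        (singleFunctor _ p).mapIso (eW R)
    let e0 := ((tilde.functor R).mapDerivedCategorySingleFunctor 0).app M
    have h0 : eX.inv ≫ τ ≫ e0.hom = 0 := by
      refine Groth.Agent.H1.TruncTower2.hom_single_eq_zero_of_HU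
        (⊤ : Opens (Spec (CommRingCat.of R))) _ p 0 (fun hb => ?_) _
      exact hW _ (h2a M) _ (by omega)
    have : τ = eX.hom ≫ (eX.inv ≫ τ ≫ e0.hom) ≫ e0.inv := by simp
    rw [this, h0, zero_comp, comp_zero]
  let Φ : ModuleCat.{u} R ⥤ ModSite.Mod (Spec (CommRingCat.of R)).sheaf := tilde.functor R
  have i1 : Φ.Additive := (inferInstance : (tilde.functor R).Additive)
  have i2 : PreservesFiniteLimits Φ := (inferInstance : PreservesFiniteLimits (tilde.functor R))
  have i3 : PreservesFiniteColimits Φ :=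
    (inferInstance : PreservesFiniteColimits (tilde.functor R))
  obtain ⟨pY, pX⟩ := Groth.Agent.H1.UnbddProj.main Φ adj
    (Groth.Agent.S1007.QC (Spec (CommRingCat.of R))) h2a h2b h2c h3
    (Groth.Agent.S1007.hB (Spec (CommRingCat.of R))) (Groth.Agent.S1007.hA (Spec (CommRingCat.of R)))
    (ModuleCat.of R R) (isIso_of_bijective_hom R) hW (eW R)
  have hunit : IsIso adj.unit := by
    have : ∀ Y, IsIso (adj.unit.app Y) := fun Y => (pY Y).2
    exact NatIso.isIso_of_isIso_app _
  let ff := adj.fullyFaithfulLOfIsIsoUnit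
  refine ⟨ff.full, ff.faithful, fun K => ⟨fun hK => ?_, ?_⟩⟩
  · exact ⟨RG.obj K, ⟨@asIso _ _ _ _ (adj.counit.app K) (pX K hK)⟩⟩
  · rintro ⟨M, ⟨e⟩⟩
    exact Groth.Agent.H1.WSerreTri.cohIn_of_iso
      (Groth.Agent.S1007.QC (Spec (CommRingCat.of R))) e (pY M).1

end main

/-- The equivalence D(A) ≃ D_QCoh(O_X) for X = Spec A: assuming the tilde functor M ↦ M~ is recorded as
left exact, the induced functor D(A) ⥤ D(O_{Spec A}) is full and faithful, and an object of
D(O_{Spec A}) has quasi-coherent cohomology sheaves if and only if it is in the essential image. -/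
theorem result (R : CommRingCat.{u}) [PreservesFiniteLimits (tilde.functor R)] :
    (DCoh.tildeD R).Full ∧ (DCoh.tildeD R).Faithful ∧
    ∀ K : DCoh.D (Spec (CommRingCat.of R)), DCoh.IsQCohD K ↔ ∃ M, Nonempty ((DCoh.tildeD R).obj M ≅ K) := by
  exact main R

end Groth.Agent.S0997
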