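import Groth.Statements.S18939
import Groth.Agent.Lib.Helper7.KoszulLow
import Groth.Agent.Lib.Helper7.OmegaSeqAlg5

set_option autoImplicit false
universe u
open LCI

namespace Groth.Agent.S18939

/-- Let R be a commutative ring, I a proper ideal of R and f_1, …, f_r a Koszul-regular sequence of
elements of I generating I. Then I/I² is a free R/I-module of rank r, with basis the classes of f_1,
…, f_r. -/
theorem result {R : Type u} [CommRing R] {I : Ideal R} (hI : I ≠ ⊤)
    (r : ℕ) (f : Fin r → I) (hf : LCI.IsKoszulRegularSeq R (List.ofFn (fun i => (f i : R))))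
    (hfI : Ideal.span (Set.range (fun i => (f i : R))) = I) :
    ∃ b : Module.Basis (Fin r) (R ⧸ I) I.Cotangent, ∀ i, b i = I.toCotangent (f i) := by
  classical
  set g : Fin r → R := fun i => (f i : R) with hg
  have hH1 : CAlgX.IsH1Regular g :=
    Groth.Agent.Lib.helper7.KoszulLow.isH1Regular_of_isKoszulRegularSeq_ofFn R g hf
  have hgI : ∀ i, g i ∈ I := fun i => (f i).2
  let v : Fin r → I.Cotangent := fun i => I.toCotangent (f i)
  have hsm : ∀ (c : R) (x : I.Cotangent), (Ideal.Quotient.mk I c) • x = c • x := fun c x => rfl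
  have hcoe : ∀ d : Fin r → R, ((∑ i, d i • f i : I) : R) = ∑ i, d i * g i := by
    intro d
    rw [Submodule.coe_sum]
    rfl
  have hli : LinearIndependent (R ⧸ I) v := by
    rw [Fintype.linearIndependent_iff]
    intro c hc i
    choose d hd using fun i => Ideal.Quotient.mk_surjective (c i)
    have h1 : I.toCotangent (∑ i, d i • f i) = 0 := by
      rw [map_sum, ← hc]
      refine Finset.sum_congr rfl (fun i _ => ?_)
      rw [map_smul, ← hd i, hsm]
    rw [Ideal.toCotangent_eq_zero, hcoe] at h1
    have h2 : ∑ i, d i * g i ∈ I * Ideal.span (Set.range g) := by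
      rw [hfI, ← pow_two]; exact h1
    obtain ⟨t, ht, hte⟩ := Groth.Agent.Lib.helper7.OmegaSeqAlg.exists_coeff_mem g I _ h2
    have h4 : ∑ i, (d i - t i) * g i = 0 := by
      simp only [sub_mul, Finset.sum_sub_distrib, hte, sub_self]
    have h5 := Groth.Agent.Lib.helper7.OmegaSeqAlg.coord_mem_of_span g I hgI _ (hH1 _ h4)
    have h6 : d i ∈ I := by
      have := I.add_mem (h5 i) (ht i)
      simpa using this
    rw [← hd i]
    exact Ideal.Quotient.eq_zero_iff_mem.mpr h6
  have hsp : ⊤ ≤ Submodule.span (R ⧸ I) (Set.range v) := by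
    intro x _
    obtain ⟨y, rfl⟩ := Ideal.toCotangent_surjective I x
    have hy : (y : R) ∈ Ideal.span (Set.range g) := by rw [hfI]; exact y.2
    obtain ⟨c, hc⟩ := (Ideal.mem_span_range_iff_exists_fun).mp hy
    have hyc : y = ∑ i, c i • f i := Subtype.ext (by rw [hcoe, hc])
    rw [hyc, map_sum]
    refine Submodule.sum_mem _ (fun i _ => ?_)
    rw [map_smul, ← hsm]
    exact Submodule.smul_mem _ _ (Submodule.subset_span ⟨i, rfl⟩)
  exact ⟨Module.Basis.mk hli hsp, fun i => Module.Basis.mk_apply hli hsp i⟩

end Groth.Agent.S18939
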