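import Groth.Statements.S9066
import Mathlib
import Groth.Agent.Lib.Helper1.PushLocD
import Groth.Agent.Lib.Helper25.DerAdjK

set_option autoImplicit false
universe u
open CategoryTheory CategoryTheory.Limits Opposite
attribute [local instance] HasDerivedCategory.standard
open SiteCmp

namespace Groth.Agent.S9066

open DerivedCategory Pretriangulated
open Groth.Agent.H1.PushLoc Groth.Agent.H1.TruncCoh Groth.Agent.H1.WSerreTri
  Groth.Agent.H1.SingleVanish Groth.Agent.H1.GoodCd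

section general

universe w v' u'
variable {𝒜 : Type u'} [Category.{v'} 𝒜] [Abelian 𝒜] [HasDerivedCategory.{w} 𝒜]

lemma isIso_homology_mor₁ (T : Triangle (DerivedCategory 𝒜)) (hT : T ∈ distTriang _) (i : ℤ)
    (h₃ : IsZero ((homologyFunctor 𝒜 (i - 1)).obj T.obj₃))
    (h₃' : IsZero ((homologyFunctor 𝒜 i).obj T.obj₃)) :
    IsIso ((homologyFunctor 𝒜 i).map T.mor₁) := by
  have h1 : Mono ((homologyFunctor 𝒜 i).map T.mor₁) :=
    (HomologySequence.mono_homologyMap_mor₁_iff T hT (i - 1) i (by omega)).2 (h₃.eq_of_src _ _)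
  have h2 : Epi ((homologyFunctor 𝒜 i).map T.mor₁) :=
    (HomologySequence.epi_homologyMap_mor₁_iff T hT i).2 (h₃'.eq_of_tgt _ _)
  exact isIso_of_mono_of_epi _

omit [HasDerivedCategory.{w} 𝒜] in
lemma isKInjective_mappingCone {K L : CochainComplex 𝒜 ℤ} [K.IsKInjective] [L.IsKInjective]
    (φ : K ⟶ L) : (CochainComplex.mappingCone φ).IsKInjective := by
  rw [CochainComplex.isKInjective_iff_rightOrthogonal]
  exact ObjectProperty.ext_of_isTriangulatedClosed₃ _ _
    (HomotopyCategory.mappingCone_triangleh_distinguished φ)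
    (CochainComplex.IsKInjective.rightOrthogonal K) (CochainComplex.IsKInjective.rightOrthogonal L)

universe w₂ v₂ u₂
variable {ℬ : Type u₂} [Category.{v₂} ℬ] [Abelian ℬ] [HasDerivedCategory.{w₂} ℬ]

omit [HasDerivedCategory.{w} 𝒜] in
lemma isIso_homology_Q_map_of_exactAt (G : 𝒜 ⥤ ℬ) [G.Additive] {I I' : CochainComplex 𝒜 ℤ}
    (φ : I ⟶ I') (j : ℤ)
    (h1 : ((G.mapHomologicalComplex (ComplexShape.up ℤ)).obj
      (CochainComplex.mappingCone φ)).ExactAt (j - 1))
    (h2 : ((G.mapHomologicalComplex (ComplexShape.up ℤ)).obj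
      (CochainComplex.mappingCone φ)).ExactAt j) :
    IsIso ((homologyFunctor ℬ j).map
      (Q.map ((G.mapHomologicalComplex (ComplexShape.up ℤ)).map φ))) := by
  let φ' := (G.mapHomologicalComplex (ComplexShape.up ℤ)).map φ
  let T := Q.mapTriangle.obj (CochainComplex.mappingCone.triangle φ')
  have hT : T ∈ distTriang _ := (mem_distTriang_iff _).2 ⟨_, _, φ', ⟨Iso.refl _⟩⟩
  have hz : ∀ i, ((G.mapHomologicalComplex (ComplexShape.up ℤ)).obj
      (CochainComplex.mappingCone φ)).ExactAt i → IsZero ((homologyFunctor ℬ i).obj T.obj₃) := by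
    intro i hi
    rw [HomologicalComplex.exactAt_iff_isZero_homology] at hi
    have e1 : (homologyFunctor ℬ i).obj T.obj₃ ≅ (CochainComplex.mappingCone φ').homology i :=
      (homologyFunctorFactors ℬ i).app _
    have e2 : ((G.mapHomologicalComplex (ComplexShape.up ℤ)).obj
        (CochainComplex.mappingCone φ)).homology i ≅ (CochainComplex.mappingCone φ').homology i :=
      (HomologicalComplex.homologyFunctor ℬ _ i).mapIso
        (CochainComplex.mappingCone.mapHomologicalComplexIso φ G)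
    exact hi.of_iso (e1 ≪≫ e2.symm)
  exact isIso_homology_mor₁ T hT j (hz _ h1) (hz _ h2)

end general

variable {C : Type u} [SmallCategory C] {J : GrothendieckTopology C} {O_C : Sheaf J CommRingCat.{u}}
    {D : Type u} [SmallCategory D] {K : GrothendieckTopology D} {O_D : Sheaf K CommRingCat.{u}}
    (f : ModSite.RMor O_C O_D) [SiteCmp.HasRpushD f]

omit [SiteCmp.HasRpushD f] in
lemma isIso_of_square {𝒞 𝒟 : Type*} [Category 𝒞] [Category 𝒟] (H : 𝒞 ⥤ 𝒟) {P Q' R S : 𝒞}
    (a : P ⟶ Q') (b' : Q' ⟶ S) (b : P ⟶ R) (c : R ⟶ S) (w : a ≫ b' = b ≫ c) (_ : IsIso b) (_ : IsIso b')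
    (h : IsIso (H.map a)) : IsIso (H.map c) := by
  have hc : c = inv b ≫ a ≫ b' := by rw [w, IsIso.inv_hom_id_assoc]
  rw [hc, Functor.map_comp, Functor.map_comp]
  infer_instance

lemma isIso_RpushD_of {I I' : CochainComplex (ModSite.Mod O_C) ℤ} [I.IsKInjective]
    [I'.IsKInjective] (φ : I ⟶ I') (j : ℤ)
    (h : IsIso ((homologyFunctor (ModSite.Mod O_D) j).map
      (Q.map ((f.push.mapHomologicalComplex (ComplexShape.up ℤ)).map φ)))) :
    IsIso ((homologyFunctor (ModSite.Mod O_D) j).map ((SiteCmp.RpushD f).map (Q.map φ))) := by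
  let W := HomotopyCategory.quasiIso (ModSite.Mod O_C) (ComplexShape.up ℤ)
  let β := (SiteCmp.pushKh f).totalRightDerivedUnit Qh W
  have hβ : ∀ (L : CochainComplex (ModSite.Mod O_C) ℤ) [L.IsKInjective],
      IsIso (β.app ((HomotopyCategory.quotient _ _).obj L)) := fun L _ =>
    Groth.Agent.Lib.Helper25.DerAdjK.isIso_unit_of_isKInjective
      (Groth.Agent.H1.TruncTower.hKinj O_C) (SiteCmp.RpushD f) β L
  have nat := β.naturality ((HomotopyCategory.quotient _ _).map φ)
  exact isIso_of_square (homologyFunctor (ModSite.Mod O_D) j) _ _ _ _ nat (hβ I) (hβ I') h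

theorem main [HasInjectiveResolutions (ModSite.Mod O_C)]
    (A : ObjectProperty (ModSite.Mod O_C)) [WSerre.IsWeakSerre A]
    (B : Set C) (B' : Set D)
    (hB : ∀ U : C, ∃ (ι : Type u) (Y : ι → C) (g : ∀ i, Y i ⟶ U), Sieve.ofArrows Y g ∈ J U ∧ ∀ i, Y i ∈ B)
    (hA : ∀ V ∈ B, ∃ d : ℕ, ∀ T ∈ J V, ∃ (ι : Type u) (Y : ι → C) (g : ∀ i, Y i ⟶ V),
      (∀ i, T.arrows (g i)) ∧ Sieve.ofArrows Y g ∈ J V ∧
      ∀ (i : ι) (F : ModSite.Mod O_C), A F → ∀ k : ℕ, d < k → Subsingleton (ModSite.HU O_C F k (Y i)))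
    (hB' : ∀ U : D, ∃ (ι : Type u) (Y : ι → D) (g : ∀ i, Y i ⟶ U), Sieve.ofArrows Y g ∈ K U ∧ ∀ i, Y i ∈ B')
    (hA' : ∀ V ∈ B', ∃ d : ℕ, ∀ T ∈ K V, ∃ (ι : Type u) (Y : ι → D) (g : ∀ i, Y i ⟶ V),
      (∀ i, T.arrows (g i)) ∧ Sieve.ofArrows Y g ∈ K V ∧
      ∀ (i : ι) (F : ModSite.Mod O_C), A F → ∀ k : ℕ, d < k → Subsingleton (ModSite.HU O_C F k (f.fn.obj (Y i))))
    (N : ℤ)
    (h3 : ∀ F : ModSite.Mod O_C, A F → ∀ p : ℕ, N < (p : ℤ) → IsZero ((f.Rpush p).obj F))
    (X : DerivedCategory (ModSite.Mod O_C)) (hX : WSerre.cohIn A X) (n : ℕ) (j : ℤ) (hj : N - (n : ℤ) ≤ j) :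
    IsIso ((DerivedCategory.homologyFunctor (ModSite.Mod O_D) j).map
      ((SiteCmp.RpushD f).map ((DerivedCategory.TStructure.t.truncGEπ (-(n : ℤ))).app X))) := by
  let t : Triangulated.TStructure (DerivedCategory (ModSite.Mod O_C)) := TStructure.t
  let Y := (t.truncGE (-(n : ℤ))).obj X
  let π : X ⟶ Y := (t.truncGEπ (-(n : ℤ))).app X
  have hY : WSerre.cohIn A Y := cohIn_truncGE A X hX _
  have hYGE : Y.IsGE (-(n : ℤ)) := by
    change t.IsGE ((t.truncGE (-(n : ℤ))).obj X) (-(n : ℤ))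
    infer_instance
  obtain ⟨I, a, hI, ha⟩ := Groth.Agent.H1.TruncTower.hKinj O_C (Q.objPreimage X)
  obtain ⟨I', a', hI', ha'⟩ := Groth.Agent.H1.TruncTower.hKinj O_C (Q.objPreimage Y)
  have hQa : IsIso (Q.map a) := by rw [isIso_Q_map_iff_quasiIso]; exact ha
  have hQa' : IsIso (Q.map a') := by rw [isIso_Q_map_iff_quasiIso]; exact ha'
  let eI : Q.obj I ≅ X := (asIso (Q.map a)).symm ≪≫ Q.objObjPreimageIso X
  let eI' : Q.obj I' ≅ Y := (asIso (Q.map a')).symm ≪≫ Q.objObjPreimageIso Y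
  obtain ⟨φh, hφh⟩ := (CochainComplex.IsKInjective.Qh_map_bijective
    ((HomotopyCategory.quotient _ _).obj I) I').2 (eI.hom ≫ π ≫ eI'.inv)
  obtain ⟨φ, rfl⟩ := (HomotopyCategory.quotient _ _).map_surjective φh
  have hφ : Q.map φ = eI.hom ≫ π ≫ eI'.inv := hφh
  have hπ : π = eI.inv ≫ Q.map φ ≫ eI'.hom := by
    rw [hφ]; simp
  -- the cone
  have : (CochainComplex.mappingCone φ).IsKInjective := isKInjective_mappingCone φ
  let T := Q.mapTriangle.obj (CochainComplex.mappingCone.triangle φ)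
  have hT : T ∈ distTriang _ := (mem_distTriang_iff _).2 ⟨_, _, φ, ⟨Iso.refl _⟩⟩
  have hcI : WSerre.cohIn A (Q.obj I) := cohIn_of_iso A eI.symm hX
  have hcI' : WSerre.cohIn A (Q.obj I') := cohIn_of_iso A eI'.symm hY
  have hcC : WSerre.cohIn A (Q.obj (CochainComplex.mappingCone φ)) :=
    cohIn_obj₂ A T.rotate (rot_of_distTriang T hT) hcI' (cohIn_shift A 1 hcI)
  have hiso : ∀ i : ℤ, -(n : ℤ) ≤ i → IsIso ((homologyFunctor (ModSite.Mod O_C) i).map T.mor₁) := by
    intro i hi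
    have h1 : IsIso ((homologyFunctor (ModSite.Mod O_C) i).map π) :=
      isIso_homology_truncGEπ X _ i hi
    change IsIso ((homologyFunctor (ModSite.Mod O_C) i).map (Q.map φ))
    rw [hφ, Functor.map_comp, Functor.map_comp]
    infer_instance
  have hLE : (Q.obj (CochainComplex.mappingCone φ)).IsLE (-(n : ℤ) - 2) := by
    rw [isLE_iff]
    intro i hi
    by_cases h : -(n : ℤ) ≤ i
    · have e1 := hiso i h
      have e2 := hiso (i + 1) (by omega)
      exact isZero_homology_obj₃ T hT i inferInstance inferInstance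
    · have hi' : i = -(n : ℤ) - 1 := by omega
      have e2 := hiso (i + 1) (by omega)
      have hz : IsZero ((homologyFunctor (ModSite.Mod O_C) i).obj T.obj₂) := by
        have hz' : IsZero ((homologyFunctor (ModSite.Mod O_C) i).obj Y) :=
          isZero_of_isGE Y (-(n : ℤ)) i (by omega)
        exact hz'.of_iso ((homologyFunctor (ModSite.Mod O_C) i).mapIso eI')
      have e1 : Epi ((homologyFunctor (ModSite.Mod O_C) i).map T.mor₁) :=
        ⟨fun _ _ _ => hz.eq_of_src _ _⟩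
      exact isZero_homology_obj₃ T hT i e1 inferInstance
  have hex : ∀ i : ℤ, -(n : ℤ) - 2 + N < i →
      ((f.push.mapHomologicalComplex (ComplexShape.up ℤ)).obj
        (CochainComplex.mappingCone φ)).ExactAt i := fun i hi =>
    exactAt_push_of_kInjective f A N (B := B) (B' := B') hB hA hB' hA' h3
      (CochainComplex.mappingCone φ) hcC (-(n : ℤ) - 2) i hi
  have h1 := isIso_homology_Q_map_of_exactAt f.push φ j (hex _ (by omega)) (hex _ (by omega))
  have h2 := isIso_RpushD_of f φ j h1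
  change IsIso ((homologyFunctor (ModSite.Mod O_D) j).map ((SiteCmp.RpushD f).map π))
  rw [hπ, Functor.map_comp, Functor.map_comp, Functor.map_comp, Functor.map_comp]
  infer_instance

/-- Let f be a morphism from the ringed site (C, O_C) to the ringed site (D, O_D) with underlying
continuous functor u : D → C, A ⊂ Mod(O_C) a weak Serre subcategory and N an integer such that (1)
C, O_C, A admit a set B of objects covering everything, every V ∈ B having an integer d_V and a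
cofinal system of coverings {V_i → V} with H^p(V_i, F) = 0 for F ∈ A and p > d_V; (2) there is a set
B' of objects of D covering everything, every V' ∈ B' having an integer d_{V'} and a cofinal system
of coverings {V'_i → V'} with H^p(u(V'_i), F) = 0 for F ∈ A and p > d_{V'}; (3) R^p f_* F = 0 for p
> N and F ∈ A. Then for K in D_A(O_C) the map H^j(Rf_*K) → H^j(Rf_*(τ_{≥ -n}K)) is an isomorphism
for j ≥ N - n. Rf_* is the unbounded total derived direct image under its existence binder and R^p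
f_* the right derived functors of f_*. -/
theorem result
    {C : Type u} [SmallCategory C] {J : GrothendieckTopology C} {O_C : Sheaf J CommRingCat.{u}}
    {D : Type u} [SmallCategory D] {K : GrothendieckTopology D} {O_D : Sheaf K CommRingCat.{u}}
    (f : ModSite.RMor O_C O_D) [HasInjectiveResolutions (ModSite.Mod O_C)] [SiteCmp.HasRpushD f]
    (A : ObjectProperty (ModSite.Mod O_C)) [WSerre.IsWeakSerre A]
    (B : Set C) (B' : Set D)
    (hB : ∀ U : C, ∃ (ι : Type u) (Y : ι → C) (g : ∀ i, Y i ⟶ U), Sieve.ofArrows Y g ∈ J U ∧ ∀ i, Y i ∈ B)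
    (hA : ∀ V ∈ B, ∃ d : ℕ, ∀ T ∈ J V, ∃ (ι : Type u) (Y : ι → C) (g : ∀ i, Y i ⟶ V),
      (∀ i, T.arrows (g i)) ∧ Sieve.ofArrows Y g ∈ J V ∧
      ∀ (i : ι) (F : ModSite.Mod O_C), A F → ∀ k : ℕ, d < k → Subsingleton (ModSite.HU O_C F k (Y i)))
    (hB' : ∀ U : D, ∃ (ι : Type u) (Y : ι → D) (g : ∀ i, Y i ⟶ U), Sieve.ofArrows Y g ∈ K U ∧ ∀ i, Y i ∈ B')
    (hA' : ∀ V ∈ B', ∃ d : ℕ, ∀ T ∈ K V, ∃ (ι : Type u) (Y : ι → D) (g : ∀ i, Y i ⟶ V),
      (∀ i, T.arrows (g i)) ∧ Sieve.ofArrows Y g ∈ K V ∧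
      ∀ (i : ι) (F : ModSite.Mod O_C), A F → ∀ k : ℕ, d < k → Subsingleton (ModSite.HU O_C F k (f.fn.obj (Y i))))
    (N : ℤ)
    (h3 : ∀ F : ModSite.Mod O_C, A F → ∀ p : ℕ, N < (p : ℤ) → IsZero ((f.Rpush p).obj F))
    (X : DerivedCategory (ModSite.Mod O_C)) (hX : WSerre.cohIn A X) (n : ℕ) (j : ℤ) (hj : N - (n : ℤ) ≤ j) :
    IsIso ((DerivedCategory.homologyFunctor (ModSite.Mod O_D) j).map
      ((SiteCmp.RpushD f).map ((DerivedCategory.TStructure.t.truncGEπ (-(n : ℤ))).app X))) := by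
  exact main f A B B' hB hA hB' hA' N h3 X hX n j hj

end Groth.Agent.S9066
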