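import Groth.Statements.S6948
import Mathlib
import Groth.Agent.Lib.Helper23.TA3
-- import your own Groth.Agent.* helpers here

set_option autoImplicit false
universe u
open CategoryTheory CategoryTheory.Limits
attribute [local instance] HasDerivedCategory.standard
open DRing

namespace Groth.Agent.S6948

/-- Let A → B be a homomorphism of commutative rings such that the derived base change D(A) → D(B)
exists, and let K be an object of D(A) with tor amplitude in [a, b]. Then K ⊗^L_A B has tor
amplitude in [a, b] as an object of D(B). -/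
theorem result {A B : Type u} [CommRing A] [CommRing B] (φ : A →+* B)
    [DRing.HasLBaseChange φ] (K : Dual.D A) (a b : ℤ) (hK : DRing.HasTorAmplitudeIn A a b K) :
    DRing.HasTorAmplitudeIn B a b ((DRing.LBaseChange φ).obj K) := by
  haveI : (DRing.LBaseChange φ).IsRightKanExtension
      ((DRing.baseChangeKh φ).totalLeftDerivedCounit DerivedCategory.Qh
        (HomotopyCategory.quasiIso (ModuleCat.{u} A) (ComplexShape.up ℤ))) :=
    CategoryTheory.Functor.IsLeftDerivedFunctor.isRightKanExtension _ _
      (HomotopyCategory.quasiIso (ModuleCat.{u} A) (ComplexShape.up ℤ))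
  obtain ⟨E, hV, hfl, ⟨e⟩⟩ := hK
  obtain ⟨eL⟩ := Groth.Agent.Lib.helper23.TA.nonempty_iso_of_flat
    (ModuleCat.extendScalars.{u, u, u} φ) (DRing.LBaseChange φ)
    ((DRing.baseChangeKh φ).totalLeftDerivedCounit DerivedCategory.Qh
      (HomotopyCategory.quasiIso (ModuleCat.{u} A) (ComplexShape.up ℤ)))
    (Groth.Agent.Lib.helper23.TA.tensorLike_extendScalars φ) E b
    (fun i hi => hV i (Or.inr hi)) hfl
  refine ⟨((ModuleCat.extendScalars.{u, u, u} φ).mapHomologicalComplex (ComplexShape.up ℤ)).obj E,
    fun i hi => ?_, fun i => ?_, ⟨eL.symm ≪≫ (DRing.LBaseChange φ).mapIso e⟩⟩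
  · exact (ModuleCat.extendScalars.{u, u, u} φ).map_isZero (hV i hi)
  · haveI := hfl i
    letI : Algebra A B := φ.toAlgebra
    exact inferInstanceAs (Module.Flat B (TensorProduct A B (E.X i)))

end Groth.Agent.S6948
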