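import Groth.Statements.S6942
import Mathlib
import Groth.Agent.Lib.Helper23.DRingPC3
-- import your own Groth.Agent.* helpers here

set_option autoImplicit false
universe u
open CategoryTheory CategoryTheory.Limits
attribute [local instance] HasDerivedCategory.standard
open DRing

namespace Groth.Agent.S6942

/-- Let R be a Noetherian commutative ring and m an integer. An object K of D(R) is m-pseudo-coherent
exactly when H^i(K) = 0 for all large i and H^i(K) is a finitely generated R-module for each i ≥ m.
Every finitely generated R-module M is pseudo-coherent, and conversely. -/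
theorem result (R : Type u) [CommRing R]
    [IsNoetherianRing R] (m : ℤ) (K : Dual.D R) (M : Type u) [AddCommGroup M] [Module R M] :
    (DRing.IsPseudoCoherent R m K ↔
      (∃ b : ℤ, ∀ i : ℤ, b < i → Subsingleton (Dual.HD R K i)) ∧ ∀ i : ℤ, m ≤ i → Module.Finite R (Dual.HD R K i)) ∧
      (DRing.IsPseudoCoherentModule' R M ↔ Module.Finite R M) := by
  have hR := Groth.Agent.Lib.helper23.DRingPC.cohRing_of_noetherian R
  refine ⟨?_, ?_⟩
  · rw [Groth.Agent.Lib.helper23.DRingPC.isPseudoCoherent_iff_npc]
    constructor
    · intro h
      obtain ⟨b, hb⟩ := Groth.Agent.Lib.helper23.DRingPC.exists_bound_of_npc h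
      refine ⟨⟨b, hb⟩, fun i hi => ?_⟩
      have h1 := (Groth.Agent.Lib.helper23.DRingPC.npc_iff_of_cohRing hR i K b hb).1
        (h.mono hi)
      exact h1.1
    · rintro ⟨⟨b, hb⟩, h2⟩
      refine (Groth.Agent.Lib.helper23.DRingPC.npc_iff_of_cohRing hR m K b hb).2
        ⟨h2 m le_rfl, fun i hi => ?_⟩
      haveI := h2 i hi.le
      exact Module.finitePresentation_of_finite R _
  · unfold DRing.IsPseudoCoherentModule'
    rw [Groth.Agent.Lib.helper23.DRingPC.isPseudoCoherent'_iff_npc]
    constructor
    · intro h
      exact (Groth.Agent.Lib.helper23.DRingPC.npc_zero_single_iff_finite R (ModuleCat.of R M)).1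
        (h 0)
    · intro h m
      haveI : Module.FinitePresentation R (ModuleCat.of R M) :=
        Module.finitePresentation_of_finite R M
      have hc := (Groth.Agent.Lib.helper23.DRingPC.isCoh_iff_finitePresentation hR
        (ModuleCat.of R M)).2 inferInstance
      exact Groth.Agent.Lib.helper23.PCohCore.IsCoh.npc_single
        (Groth.Agent.Lib.helper23.DRingPC.FF R) (Groth.Agent.Lib.helper23.DRingPC.FF_sum R)
        (Groth.Agent.Lib.helper23.DRingPC.FF_hql R) (Groth.Agent.Lib.helper23.DRingPC.FF_hcoh hR)
        (1 - m).toNat m (by have := Int.self_le_toNat (1 - m); omega) _ hc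

end Groth.Agent.S6942
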