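import Mathlib

/-!
# Pure ideals and closed subsets stable under generalization (helper29)

Stacks 04PS (surjectivity part): for a closed subset `Z = V(J)` of `Spec R` stable under
generalization, `pureOf J = {x | ∃ y ∈ J, x = x * y}` is a pure ideal with zero locus `Z`.
-/

set_option autoImplicit false
universe u
open PrimeSpectrum

namespace Groth.Agent.LibPureIdeal29

variable {R : Type*} [CommRing R]

/-- `{x | x ∈ x J}` as an ideal. -/
def pureOf (J : Ideal R) : Ideal R where
  carrier := {x | ∃ y ∈ J, x = x * y}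
  add_mem' := by
    rintro x x' ⟨f, hf, hx⟩ ⟨g, hg, hx'⟩
    refine ⟨f + g - f * g, ?_, ?_⟩
    · exact J.sub_mem (J.add_mem hf hg) (J.mul_mem_left f hg)
    · have e1 : x * (f + g - f * g) = x * f + (x - x * f) * g := by ring
      have e2 : x' * (f + g - f * g) = x' * g + (x' - x' * g) * f := by ring
      rw [add_mul, e1, e2, ← hx, ← hx']
      simp
  zero_mem' := ⟨0, J.zero_mem, by simp⟩
  smul_mem' := by
    rintro c x ⟨f, hf, hx⟩
    refine ⟨f, hf, ?_⟩
    rw [smul_eq_mul, mul_assoc, ← hx]

theorem mem_pureOf {J : Ideal R} {x : R} : x ∈ pureOf J ↔ ∃ y ∈ J, x = x * y := Iff.rfl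

theorem pureOf_le (J : Ideal R) : pureOf J ≤ J := by
  rintro x ⟨y, hy, hx⟩
  rw [hx]
  exact J.mul_mem_left x hy

/-- the zero locus of `pureOf J` is `V(J)` when `V(J)` is stable under generalization. -/
theorem zeroLocus_pureOf (J : Ideal R)
    (hZ : StableUnderGeneralization (zeroLocus (J : Set R))) :
    zeroLocus (pureOf J : Set R) = zeroLocus (J : Set R) := by
  apply le_antisymm
  · intro p hp
    rw [mem_zeroLocus, SetLike.coe_subset_coe] at hp
    -- the multiplicative set `(R ∖ p)(1 + J)`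
    let S : Submonoid R :=
      { carrier := {z | ∃ s ∉ p.asIdeal, ∃ j ∈ J, z = s * (1 + j)}
        one_mem' := ⟨1, p.asIdeal.one_notMem, 0, J.zero_mem, by simp⟩
        mul_mem' := by
          rintro a b ⟨s, hs, j, hj, rfl⟩ ⟨s', hs', j', hj', rfl⟩
          refine ⟨s * s', fun h => (p.2.mem_or_mem h).elim hs hs', j + j' + j * j',
            J.add_mem (J.add_mem hj hj') (J.mul_mem_left j hj'), by ring⟩ }
    have hdisj : Disjoint ((⊥ : Ideal R) : Set R) (S : Set R) := by
      rw [Set.disjoint_left]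
      rintro z hz ⟨s, hs, j, hj, rfl⟩
      rw [SetLike.mem_coe, Ideal.mem_bot] at hz
      apply hs
      apply hp
      refine ⟨-j, J.neg_mem hj, ?_⟩
      have : s * (1 + j) = s + s * j := by ring
      rw [this] at hz
      have : s = - (s * j) := eq_neg_of_add_eq_zero_left hz
      rw [mul_neg]
      exact this
    obtain ⟨q, hq, -, hqS⟩ := Ideal.exists_le_prime_disjoint (⊥ : Ideal R) S hdisj
    rw [Set.disjoint_left] at hqS
    have hqp : q ≤ p.asIdeal := by
      intro z hz
      by_contra hzp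
      exact hqS hz ⟨z, hzp, 0, J.zero_mem, by simp⟩
    have hqJ : q ⊔ J ≠ ⊤ := by
      intro htop
      rw [Ideal.eq_top_iff_one, Submodule.mem_sup] at htop
      obtain ⟨a, ha, j, hj, haj⟩ := htop
      apply hqS ha
      refine ⟨1, p.asIdeal.one_notMem, -j, J.neg_mem hj, ?_⟩
      rw [one_mul, ← haj]
      ring
    obtain ⟨m, hm, hle⟩ := Ideal.exists_le_maximal _ hqJ
    have hmZ : (⟨m, hm.isPrime⟩ : PrimeSpectrum R) ∈ zeroLocus (J : Set R) := by
      rw [mem_zeroLocus, SetLike.coe_subset_coe]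
      exact le_sup_right.trans hle
    have hqm : (⟨q, hq⟩ : PrimeSpectrum R) ⤳ ⟨m, hm.isPrime⟩ := by
      rw [← PrimeSpectrum.le_iff_specializes]
      exact le_sup_left.trans hle
    have hqZ := hZ hqm hmZ
    rw [mem_zeroLocus, SetLike.coe_subset_coe] at hqZ ⊢
    exact hqZ.trans hqp
  · exact zeroLocus_anti_mono (pureOf_le J)

/-- `pureOf J` is pure when `V(J)` is stable under generalization. -/
theorem pure_pureOf (J : Ideal R)
    (hZ : StableUnderGeneralization (zeroLocus (J : Set R))) : (pureOf J).Pure := by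
  have hrad : J ≤ (pureOf J).radical := by
    rw [← vanishingIdeal_zeroLocus_eq_radical, zeroLocus_pureOf J hZ,
      vanishingIdeal_zeroLocus_eq_radical]
    exact Ideal.le_radical
  have key : ∀ x ∈ pureOf J, ∃ y ∈ pureOf J, x = x * y := by
    rintro x ⟨y, hy, hx⟩
    obtain ⟨n, hn⟩ := hrad hy
    refine ⟨y ^ n, hn, ?_⟩
    clear hn
    induction n with
    | zero => simp
    | succ n ih => rw [pow_succ, ← mul_assoc, ← ih, ← hx]
  apply Ideal.Pure.of_inf_eq_mul
  intro K _
  apply le_antisymm
  · rintro x ⟨hxI, hxK⟩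
    obtain ⟨y, hy, hx⟩ := key x hxI
    have hx' : x = y * x := by rw [mul_comm]; exact hx
    rw [hx']
    exact Ideal.mul_mem_mul hy hxK
  · exact Ideal.mul_le_inf

/-- existence: every closed subset stable under generalization is the zero locus of a pure ideal. -/
theorem exists_pure_zeroLocus_eq (Z : Set (PrimeSpectrum R)) (hc : IsClosed Z)
    (hZ : StableUnderGeneralization Z) : ∃ I : Ideal R, I.Pure ∧ zeroLocus (I : Set R) = Z := by
  obtain ⟨J, rfl⟩ := (isClosed_iff_zeroLocus_ideal Z).1 hc
  exact ⟨pureOf J, pure_pureOf J hZ, zeroLocus_pureOf J hZ⟩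

end Groth.Agent.LibPureIdeal29
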