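import Mathlib
import Groth.Agent.LibPureIdeal29

/-!
# Flat closed subschemes and closed subsets stable under generalization (helper29)
-/

set_option autoImplicit false
universe u
open AlgebraicGeometry CategoryTheory TopologicalSpace PrimeSpectrum Opposite

namespace Groth.Agent.LibPureIdeal29

section Ring

variable {R S : Type*} [CommRing R] [CommRing S]

theorem pure_of_forall_exists_eq_mul (I : Ideal R) (key : ∀ x ∈ I, ∃ y ∈ I, x = x * y) :
    I.Pure := by
  apply Ideal.Pure.of_inf_eq_mul
  intro K _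
  apply le_antisymm
  · rintro x ⟨hxI, hxK⟩
    obtain ⟨y, hy, hx⟩ := key x hxI
    have hx' : x = y * x := by rw [mul_comm]; exact hx
    rw [hx']
    exact Ideal.mul_mem_mul hy hxK
  · exact Ideal.mul_le_inf

/-- the image of a pure ideal generates a pure ideal. -/
theorem pure_map (φ : R →+* S) (I : Ideal R) [I.Pure] : (I.map φ).Pure := by
  apply pure_of_forall_exists_eq_mul
  have hle : I.map φ ≤ pureOf (I.map φ) := by
    rw [Ideal.map_le_iff_le_comap]
    intro a ha
    obtain ⟨y, hy, hay⟩ := Ideal.exists_eq_mul_of_pure ha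
    refine ⟨φ y, Ideal.mem_map_of_mem φ hy, ?_⟩
    rw [← map_mul, ← hay]
  intro x hx
  exact hle hx

theorem zeroLocus_map (φ : R →+* S) (I : Ideal R) :
    zeroLocus ((I.map φ : Ideal S) : Set S) = PrimeSpectrum.comap φ ⁻¹' zeroLocus (I : Set R) := by
  rw [preimage_comap_zeroLocus, Ideal.map, zeroLocus_span]

end Ring

section Scheme

variable {X : Scheme.{u}}

/-- the trace of `Z ⊆ X` on the spectrum of the sections over an affine open. -/
def preZ (Z : Set X) (U : X.affineOpens) : Set (PrimeSpectrum Γ(X, U)) :=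
  U.2.fromSpec ⁻¹' Z

theorem isClosed_preZ {Z : Set X} (hZ : IsClosed Z) (U : X.affineOpens) : IsClosed (preZ Z U) :=
  hZ.preimage U.2.fromSpec.continuous

theorem stable_preZ {Z : Set X} (hZ : StableUnderGeneralization Z) (U : X.affineOpens) :
    StableUnderGeneralization (preZ Z U) :=
  fun _ _ hyx hx => hZ (hyx.map U.2.fromSpec.continuous) hx

/-- the pure ideal of `Γ(X, U)` cutting out `Z ∩ U`. -/
noncomputable def pureIdeal (Z : Set X) (U : X.affineOpens) : Ideal Γ(X, U) :=
  pureOf (vanishingIdeal (preZ Z U))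

theorem zeroLocus_pureIdeal {Z : Set X} (hc : IsClosed Z) (hg : StableUnderGeneralization Z)
    (U : X.affineOpens) : zeroLocus (pureIdeal Z U : Set Γ(X, U)) = preZ Z U := by
  have h1 : zeroLocus (vanishingIdeal (preZ Z U) : Set Γ(X, U)) = preZ Z U := by
    rw [zeroLocus_vanishingIdeal_eq_closure, (isClosed_preZ hc U).closure_eq]
  unfold pureIdeal
  rw [zeroLocus_pureOf _ (by rw [h1]; exact stable_preZ hg U), h1]

theorem pure_pureIdeal {Z : Set X} (hc : IsClosed Z) (hg : StableUnderGeneralization Z)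
    (U : X.affineOpens) : (pureIdeal Z U).Pure := by
  have h1 : zeroLocus (vanishingIdeal (preZ Z U) : Set Γ(X, U)) = preZ Z U := by
    rw [zeroLocus_vanishingIdeal_eq_closure, (isClosed_preZ hc U).closure_eq]
  exact pure_pureOf _ (by rw [h1]; exact stable_preZ hg U)

theorem preZ_basicOpen (Z : Set X) (U : X.affineOpens) (f : Γ(X, U)) :
    preZ Z (X.affineBasicOpen f) =
      PrimeSpectrum.comap (X.presheaf.map (homOfLE <| X.basicOpen_le f).op).hom ⁻¹' preZ Z U := by
  ext q
  have h := U.2.map_fromSpec (X.affineBasicOpen f).2 (homOfLE <| X.basicOpen_le f).op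
  have h2 : (X.affineBasicOpen f).2.fromSpec q =
      U.2.fromSpec ((Spec.map (X.presheaf.map (homOfLE <| X.basicOpen_le f).op)) q) := by
    rw [← h]; rfl
  simp only [preZ, Set.mem_preimage]
  rw [h2]
  rfl

theorem map_pureIdeal {Z : Set X} (hc : IsClosed Z) (hg : StableUnderGeneralization Z)
    (U : X.affineOpens) (f : Γ(X, U)) :
    (pureIdeal Z U).map (X.presheaf.map (homOfLE <| X.basicOpen_le f).op).hom =
      pureIdeal Z (X.affineBasicOpen f) := by
  haveI := pure_pureIdeal hc hg U
  have i1 := pure_map (X.presheaf.map (homOfLE <| X.basicOpen_le f).op).hom (pureIdeal Z U)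
  have i2 := pure_pureIdeal hc hg (X.affineBasicOpen f)
  have e1 := zeroLocus_pureIdeal hc hg (X.affineBasicOpen f)
  have e2 := zeroLocus_pureIdeal hc hg U
  refine (@Ideal.zeroLocus_inj_of_pure _ _ _ _ i1 i2).1 ?_
  rw [zeroLocus_map, e2]
  exact (e1.trans (preZ_basicOpen Z U f)).symm

theorem mem_iff_mem_zeroLocus_pureIdeal {Z : Set X} (hc : IsClosed Z)
    (hg : StableUnderGeneralization Z) (U : X.affineOpens) (x : X) (hxU : x ∈ U.1) :
    x ∈ Z ↔ x ∈ X.zeroLocus (U := U.1) (pureIdeal Z U : Set Γ(X, U)) := by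
  have h1 : U.2.fromSpec (U.2.primeIdealOf ⟨x, hxU⟩) = x := U.2.fromSpec_primeIdealOf ⟨x, hxU⟩
  have h2 := U.2.fromSpec_preimage_zeroLocus (pureIdeal Z U : Set Γ(X, U))
  rw [zeroLocus_pureIdeal hc hg U] at h2
  have h4 := Set.ext_iff.mp h2 (U.2.primeIdealOf ⟨x, hxU⟩)
  have h5 : (U.2.fromSpec (U.2.primeIdealOf ⟨x, hxU⟩) ∈ X.zeroLocus (U := U.1)
      (pureIdeal Z U : Set Γ(X, U))) ↔ (U.2.fromSpec (U.2.primeIdealOf ⟨x, hxU⟩) ∈ Z) := h4
  rw [h1] at h5
  exact h5.symm

/-- the ideal sheaf of the flat closed subscheme structure on a closed subset stable under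
generalization. -/
noncomputable def idealOfClosed (Z : Set X) (hc : IsClosed Z) (hg : StableUnderGeneralization Z) :
    X.IdealSheafData :=
  Scheme.IdealSheafData.mkOfMemSupportIff (fun U => pureIdeal Z U) (map_pureIdeal hc hg) Z
    (fun U x hxU => mem_iff_mem_zeroLocus_pureIdeal hc hg U x hxU)

theorem idealOfClosed_ideal (Z : Set X) (hc : IsClosed Z) (hg : StableUnderGeneralization Z)
    (U : X.affineOpens) : (idealOfClosed Z hc hg).ideal U = pureIdeal Z U := rfl

theorem coe_support_idealOfClosed (Z : Set X) (hc : IsClosed Z) (hg : StableUnderGeneralization Z) :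
    ((idealOfClosed Z hc hg).support : Set X) = Z := rfl

theorem flat_app_iff_pure (I : X.IdealSheafData) (U : X.affineOpens) :
    (I.subschemeι.app U).hom.Flat ↔ (I.ideal U).Pure := by
  rw [I.subschemeι_app U, CommRingCat.hom_comp,
    RingHom.Flat.respectsIso.cancel_right_isIso]
  exact Iff.rfl

/-- the closed subscheme of `I` is flat over `X` iff all the ideals `I(U)` are pure. -/
theorem flat_subschemeι_iff (I : X.IdealSheafData) :
    Flat I.subschemeι ↔ ∀ U : X.affineOpens, (I.ideal U).Pure := by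
  constructor
  · intro hflat U
    have hV : IsAffineOpen (I.subschemeι ⁻¹ᵁ U.1) := U.2.preimage I.subschemeι
    have h1 : (I.subschemeι.appLE U.1 (I.subschemeι ⁻¹ᵁ U.1) le_rfl).hom.Flat :=
      HasRingHomProperty.appLE (P := @Flat) I.subschemeι hflat U ⟨_, hV⟩ le_rfl
    rw [Scheme.Hom.appLE_eq_app] at h1
    exact (flat_app_iff_pure I U).1 h1
  · intro h
    rw [HasRingHomProperty.iff_exists_appLE (P := @Flat)
      (RingHom.Flat.stableUnderComposition.stableUnderCompositionWithLocalizationAway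
        RingHom.Flat.holdsForLocalizationAway).1]
    intro z
    obtain ⟨U, hU, hzU, -⟩ := exists_isAffineOpen_mem_and_subset (x := I.subschemeι z) (U := ⊤)
      trivial
    have hV : IsAffineOpen (I.subschemeι ⁻¹ᵁ U) := hU.preimage I.subschemeι
    refine ⟨⟨U, hU⟩, ⟨_, hV⟩, hzU, le_rfl, ?_⟩
    rw [Scheme.Hom.appLE_eq_app]
    exact (flat_app_iff_pure I ⟨U, hU⟩).2 (h ⟨U, hU⟩)

theorem support_idealOfClosed (Z : TopologicalSpace.Closeds X)
    (hg : StableUnderGeneralization (Z : Set X)) :
    (idealOfClosed (Z : Set X) Z.2 hg).support = Z := by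
  apply TopologicalSpace.Closeds.ext
  exact coe_support_idealOfClosed (Z : Set X) Z.2 hg

/-- the germ at a point of `V(I)` of a section of a pure ideal is zero. -/
theorem germ_eq_zero_of_pure {U : X.Opens} (I : Ideal Γ(X, U)) [I.Pure] (a : Γ(X, U)) (ha : a ∈ I)
    (x : X) (hxU : x ∈ U) (hx : x ∈ X.zeroLocus (U := U) (I : Set Γ(X, U))) :
    X.presheaf.germ U x hxU a = 0 := by
  obtain ⟨b, hb, hab⟩ := Ideal.exists_eq_mul_of_pure ha
  have hbx : x ∉ X.basicOpen b := (X.mem_zeroLocus_iff _ x).1 hx b hb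
  rw [X.mem_basicOpen b x hxU] at hbx
  have hu : IsUnit (1 - X.presheaf.germ U x hxU b) :=
    IsLocalRing.isUnit_one_sub_self_of_mem_nonunits _ hbx
  have h0 : X.presheaf.germ U x hxU a * (1 - X.presheaf.germ U x hxU b) = 0 := by
    rw [mul_sub, mul_one, ← map_mul, ← hab, sub_self]
  exact (hu.mul_left_eq_zero).1 h0

/-- a morphism with image in the support of a flat closed subscheme factors through it. -/
theorem exists_factor_of_flat (I : X.IdealSheafData) (hflat : Flat I.subschemeι) (Y : Scheme.{u})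
    (g : Y ⟶ X) (hg : Set.range g ⊆ (I.support : Set X)) :
    ∃ g' : Y ⟶ I.subscheme, g' ≫ I.subschemeι = g := by
  have hpure := (flat_subschemeι_iff I).1 hflat
  have hle : I.subschemeι.ker ≤ g.ker := by
    rw [I.ker_subschemeι]
    refine Scheme.IdealSheafData.le_ofIdeals_iff.2 fun U a ha => ?_
    rw [RingHom.mem_ker]
    apply TopCat.Presheaf.section_ext Y.sheaf
    intro y hy
    haveI := hpure U
    have hgy : g y ∈ X.zeroLocus (U := U.1) (I.ideal U : Set Γ(X, U)) :=
      (Scheme.IdealSheafData.mem_support_iff_of_mem (I := I) (U := U) hy).1 (hg ⟨y, rfl⟩)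
    have h1 := germ_eq_zero_of_pure (I.ideal U) a ha (g y) hy hgy
    have h2 := g.germ_stalkMap_apply U.1 y hy a
    rw [h1, map_zero] at h2
    exact h2.symm.trans (map_zero _).symm
  exact ⟨IsClosedImmersion.lift I.subschemeι g hle, IsClosedImmersion.lift_fac _ _ hle⟩

/-- = S9351. -/
theorem bijOn_support_flat (X : Scheme.{u}) :
    Set.BijOn (fun I : X.IdealSheafData => I.support) {I : X.IdealSheafData | Flat I.subschemeι}
        {Z : TopologicalSpace.Closeds ↑X | StableUnderGeneralization (Z : Set ↑X)} ∧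
      ∀ I : X.IdealSheafData, Flat I.subschemeι → ∀ (Y : Scheme.{u}) (g : Y ⟶ X),
        Set.range g.base ⊆ (I.support : Set ↑X) → ∃ g' : Y ⟶ I.subscheme, g' ≫ I.subschemeι = g := by
  refine ⟨⟨?_, ?_, ?_⟩, fun I hI Y g hg => exists_factor_of_flat I hI Y g hg⟩
  · intro I hI
    have hI' : Flat I.subschemeι := hI
    have := (Flat.generalizingMap I.subschemeι).stableUnderGeneralization_range
    rw [I.range_subschemeι] at this
    exact this
  · intro I hI J hJ hIJ
    have hI' := (flat_subschemeι_iff I).1 hI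
    have hJ' := (flat_subschemeι_iff J).1 hJ
    have hIJ' : I.support = J.support := hIJ
    apply Scheme.IdealSheafData.ext
    funext U
    haveI := hI' U
    haveI := hJ' U
    rw [← Ideal.zeroLocus_inj_of_pure, ← U.2.fromSpec_preimage_zeroLocus,
      ← U.2.fromSpec_preimage_zeroLocus]
    ext q
    have hq : U.2.fromSpec q ∈ U.1 := by
      have := Set.mem_range_self (f := U.2.fromSpec) q
      rw [U.2.range_fromSpec] at this
      exact this
    simp only [Set.mem_preimage]
    rw [← Scheme.IdealSheafData.mem_support_iff_of_mem (I := I) (U := U) hq,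
      ← Scheme.IdealSheafData.mem_support_iff_of_mem (I := J) (U := U) hq, hIJ']
  · intro Z hZ
    have hZ' : StableUnderGeneralization (Z : Set X) := hZ
    refine ⟨idealOfClosed Z Z.2 hZ',
      (flat_subschemeι_iff _).2 (fun U => pure_pureIdeal Z.2 hZ' U), ?_⟩
    exact support_idealOfClosed Z hZ'

end Scheme

end Groth.Agent.LibPureIdeal29
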