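import Groth.Statements.S0888
import Mathlib
import Groth.Agent.Lib.Helper25.DCohPC4
-- import your own Groth.Agent.* helpers here

set_option autoImplicit false
universe u
open CategoryTheory
attribute [local instance] HasDerivedCategory.standard
open DCoh

namespace Groth.Agent.S0888

open AlgebraicGeometry CategoryTheory.Limits CategoryTheory.Pretriangulated
  Groth.Agent.Lib.helper25.DCohPC Groth.Agent.Lib.helper25.DCohPC3 Groth.Agent.Lib.helper25.DCohPC4 in
/-- a retract of an object with vanishing `H^i` has vanishing `H^i` -/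
lemma isZero_homology_of_retract {Y : Scheme.{u}} {A S : DCoh.D Y} (i₀ : A ⟶ S) (p₀ : S ⟶ A)
    (hip : i₀ ≫ p₀ = 𝟙 A) (i : ℤ) (hz : IsZero ((DerivedCategory.homologyFunctor _ i).obj S)) :
    IsZero ((DerivedCategory.homologyFunctor _ i).obj A) := by
  rw [IsZero.iff_id_eq_zero]
  have h1 : 𝟙 ((DerivedCategory.homologyFunctor _ i).obj A) =
      (DerivedCategory.homologyFunctor _ i).map i₀ ≫ (DerivedCategory.homologyFunctor _ i).map p₀ := by
    rw [← Functor.map_comp, hip, CategoryTheory.Functor.map_id]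
  rw [h1, hz.eq_of_tgt ((DerivedCategory.homologyFunctor _ i).map i₀) 0, zero_comp]

open AlgebraicGeometry CategoryTheory.Limits CategoryTheory.Pretriangulated
  Groth.Agent.Lib.helper25.DCohPC Groth.Agent.Lib.helper25.DCohPC3 Groth.Agent.Lib.helper25.DCohPC4 in
lemma local_summands {X : Scheme.{u}} (m : ℤ) (K L : DCoh.D X) [HasBinaryBiproduct K L]
    (h : DCoh.IsPseudoCoherentD m (K ⊞ L)) (x : X) :
    ∃ V : X.Opens, x ∈ V ∧ DCoh.IsPseudoCoherentD m ((DCoh.restrictD V.ι).obj K) ∧
      DCoh.IsPseudoCoherentD m ((DCoh.restrictD V.ι).obj L) := by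
  obtain ⟨V, hxV, d⟩ := exists_pcData h x
  refine ⟨V, hxV, ?_⟩
  have pcS : DCoh.IsPseudoCoherentD m ((DCoh.restrictD V.ι).obj (K ⊞ L)) :=
    isPseudoCoherentD_of_pcData_global d
  obtain ⟨P, α, hP, hα⟩ := d
  obtain ⟨⟨a, b, hab⟩, hf⟩ := hP
  have hzS : ∀ i : ℤ, max b m < i →
      IsZero ((DerivedCategory.homologyFunctor _ i).obj ((DCoh.restrictD V.ι).obj (K ⊞ L))) := by
    intro i hi
    have := hα.1 i (by omega)
    have hzP : IsZero (P.homology i) :=
      (HomologicalComplex.ExactAt.of_isZero (hab i (Or.inr (by omega)))).isZero_homology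
    exact (hzP.of_iso ((DerivedCategory.homologyFunctorFactors _ i).app P)).of_iso
      (asIso ((DerivedCategory.homologyFunctor _ i).map α)).symm
  have hzK : ∀ i : ℤ, max b m + 1 ≤ i →
      IsZero ((DerivedCategory.homologyFunctor _ i).obj ((DCoh.restrictD V.ι).obj K)) := fun i hi =>
    isZero_homology_of_retract ((DCoh.restrictD V.ι).map biprod.inl) ((DCoh.restrictD V.ι).map biprod.fst)
      (by rw [← Functor.map_comp, biprod.inl_fst, CategoryTheory.Functor.map_id]) i (hzS i (by omega))
  have hzL : ∀ i : ℤ, max b m + 1 ≤ i →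
      IsZero ((DerivedCategory.homologyFunctor _ i).obj ((DCoh.restrictD V.ι).obj L)) := fun i hi =>
    isZero_homology_of_retract ((DCoh.restrictD V.ι).map biprod.inr) ((DCoh.restrictD V.ι).map biprod.snd)
      (by rw [← Functor.map_comp, biprod.inr_snd, CategoryTheory.Functor.map_id]) i (hzS i (by omega))
  have hT₁ := (DCoh.restrictD V.ι).map_distinguished _ (binaryBiproductTriangle_distinguished K L)
  have hT₂ := (DCoh.restrictD V.ι).map_distinguished _ (binaryBiproductTriangle_distinguished L K)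
  have pcS' : DCoh.IsPseudoCoherentD m ((DCoh.restrictD V.ι).obj (L ⊞ K)) :=
    isPseudoCoherentD_of_iso ((DCoh.restrictD V.ι).mapIso (biprod.braiding K L)) pcS
  exact isPseudoCoherentD_summands m _ _ hT₁ hT₂ (Iso.refl _) (Iso.refl _) pcS pcS' (max b m + 1)
    (isPseudoCoherentD_of_pcData_global (pcData_of_isZero_homology hzK))
    (isPseudoCoherentD_of_pcData_global (pcData_of_isZero_homology hzL))


open AlgebraicGeometry CategoryTheory.Limits in
/-- Let K, L be objects of D(O_X) and m an integer. If the direct sum K ⊕ L is m-pseudo-coherent, then K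
and L are m-pseudo-coherent. -/
theorem result {X : Scheme.{u}} (m : ℤ) (K L : DCoh.D X) [HasBinaryBiproduct K L]
    (h : DCoh.IsPseudoCoherentD m (K ⊞ L)) :
    DCoh.IsPseudoCoherentD m K ∧ DCoh.IsPseudoCoherentD m L := by
  refine ⟨Groth.Agent.Lib.helper25.DCohPC4.isPseudoCoherentD_of_restrict (fun x => ?_),
    Groth.Agent.Lib.helper25.DCohPC4.isPseudoCoherentD_of_restrict (fun x => ?_)⟩
  · obtain ⟨V, hxV, h1, -⟩ := local_summands m K L h x
    exact ⟨V, hxV, h1⟩
  · obtain ⟨V, hxV, -, h2⟩ := local_summands m K L h x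
    exact ⟨V, hxV, h2⟩

end Groth.Agent.S0888
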