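import Groth.Statements.S0924
import Groth.Agent.Lib.Helper25.PerfectSummand
import Groth.Agent.S0888

set_option autoImplicit false
universe u
open CategoryTheory
attribute [local instance] HasDerivedCategory.standard
open DCoh

namespace Groth.Agent.S0924

open AlgebraicGeometry CategoryTheory.Limits Groth.Agent.Lib.helper25.DCohPC
  Groth.Agent.Lib.helper25.DCohPC3 Groth.Agent.Lib.helper25.DCohPerfect
  Groth.Agent.Lib.helper25.DCohRestrict in
/-- the first summand of a perfect direct sum is perfect -/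
lemma isPerfect_fst {X : Scheme.{u}} (K L : DCoh.D X) [HasBinaryBiproduct K L]
    (h : DCoh.IsPerfect (K ⊞ L)) : DCoh.IsPerfect K := by
  have hpc : ∀ m : ℤ, DCoh.IsPseudoCoherentD m (K ⊞ L) := fun m =>
    Groth.Agent.Lib.helper25.PerfectTor.isPseudoCoherentD_of_isPerfect h m
  refine Groth.Agent.Lib.helper25.FlatAmpPerfect.isPerfect_of_restrict (fun x => ?_)
  obtain ⟨V₀, hx₀, P₀, hP₀, ⟨e₀⟩⟩ := exists_restrictD_iso_of_isPerfect h x
  obtain ⟨⟨a, b, hab⟩, hf⟩ := hP₀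
  have hK := (Groth.Agent.S0888.result (a - 1) K L (hpc (a - 1))).1
  have hL := (Groth.Agent.S0888.result (a - 1) K L (hpc (a - 1))).2
  obtain ⟨V₁, hx₁, d₁⟩ := exists_pcData hK x
  obtain ⟨V₂, hx₂, d₂⟩ := exists_pcData hL x
  have hV₀ : V₀ ⊓ V₁ ⊓ V₂ ≤ V₀ := inf_le_left.trans inf_le_left
  have hV₁ : V₀ ⊓ V₁ ⊓ V₂ ≤ V₁ := inf_le_left.trans inf_le_right
  have hV₂ : V₀ ⊓ V₁ ⊓ V₂ ≤ V₂ := inf_le_right
  refine ⟨V₀ ⊓ V₁ ⊓ V₂, ⟨⟨hx₀, hx₁⟩, hx₂⟩, ?_⟩
  obtain ⟨e⟩ := nonempty_restrictD_iso_of_le hV₀ ⟨e₀⟩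
  have hP₀' := isStrictlyPerfect_res (X.homOfLE hV₀) (E := P₀) ⟨⟨a, b, hab⟩, hf⟩
  exact Groth.Agent.Lib.helper25.PerfectSummand.isPerfect_of_summand
    ((DCoh.restrictD (V₀ ⊓ V₁ ⊓ V₂).ι).map (biprod.inl : K ⟶ K ⊞ L))
    ((DCoh.restrictD (V₀ ⊓ V₁ ⊓ V₂).ι).map (biprod.inr : L ⟶ K ⊞ L))
    ((DCoh.restrictD (V₀ ⊓ V₁ ⊓ V₂).ι).map (biprod.fst : K ⊞ L ⟶ K))
    ((DCoh.restrictD (V₀ ⊓ V₁ ⊓ V₂).ι).map (biprod.snd : K ⊞ L ⟶ L))
    (by rw [← Functor.map_comp, biprod.inl_fst, CategoryTheory.Functor.map_id])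
    (by rw [← Functor.map_comp, biprod.inr_snd, CategoryTheory.Functor.map_id])
    (by rw [← Functor.map_comp, biprod.inl_snd, Functor.map_zero])
    (by rw [← Functor.map_comp, biprod.inr_fst, Functor.map_zero])
    (by rw [← Functor.map_comp, ← Functor.map_comp, ← Functor.map_add, biprod.total,
      CategoryTheory.Functor.map_id])
    ((resCx (X.homOfLE hV₀)).obj P₀) a b
    (fun i hi => (Scheme.Modules.restrictFunctor (X.homOfLE hV₀)).map_isZero (hab i hi))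
    (fun i => Groth.Agent.Lib.helper16.FLF.isFlat_of_isFinLocFree _ (hP₀'.2 i)) e
    (pcData_of_le K hV₁ d₁) (pcData_of_le L hV₂ d₂)

open AlgebraicGeometry CategoryTheory.Limits in
/-- Perfectness of objects of D(O_X) passes to direct summands: K and L are perfect as soon as K ⊕ L is. -/
theorem result {X : Scheme.{u}} (K L : DCoh.D X) [HasBinaryBiproduct K L]
    (h : DCoh.IsPerfect (K ⊞ L)) : DCoh.IsPerfect K ∧ DCoh.IsPerfect L := by
  refine ⟨isPerfect_fst K L h, ?_⟩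
  exact isPerfect_fst L K
    (Groth.Agent.Lib.helper25.DCohPerfect.isPerfect_of_iso (biprod.braiding K L) h)

end Groth.Agent.S0924
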