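import Groth.Statements.S7261
import Groth.Agent.Lib.Helper25.ApproxAffine

set_option autoImplicit false
universe u
open CategoryTheory CategoryTheory.Limits AlgebraicGeometry
attribute [local instance] HasDerivedCategory.standard
open Perf

namespace Groth.Agent.S7261

/-- Let X be an affine scheme, T = V(f_1, …, f_r) the common zero locus of r global functions, m ∈ ℤ,
and E an m-pseudo-coherent object of D(O_X) with quasi-coherent cohomology sheaves such that Hⁱ(E)
is supported on T for i ≥ m - r + 1. Then approximation holds for (T, E, m): there are a perfect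
object P of D(O_X) supported on T and a morphism α : P ⟶ E inducing isomorphisms Hⁱ(P) ⟶ Hⁱ(E) for i
> m and an epimorphism Hᵐ(P) ⟶ Hᵐ(E). (The published hypothesis asks that X ∖ T be a union of r
affine opens; the published proof begins by writing T as the zero locus of r functions, and this row
takes that as the hypothesis.) -/
theorem result (X : Scheme.{u}) [IsAffine X] (fs : Finset Γ(X, ⊤))
    (m : ℤ) (E : DCoh.D X) (hq : DCoh.IsQCohD E) (hpc : DCoh.IsPseudoCoherentD m E)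
    (hsupp : ∀ i : ℤ, m - (fs.card : ℤ) + 1 ≤ i → CohB1.support (DCoh.HD E i) ⊆ X.zeroLocus (U := ⊤) (↑fs : Set Γ(X, ⊤))) :
    ∃ (P : DCoh.D X) (α : P ⟶ E), DCoh.IsPerfect P ∧
      (∀ i : ℤ, CohB1.support (DCoh.HD P i) ⊆ X.zeroLocus (U := ⊤) (↑fs : Set Γ(X, ⊤))) ∧
      (∀ i : ℤ, m < i → IsIso ((DerivedCategory.homologyFunctor X.Modules i).map α)) ∧
      Epi ((DerivedCategory.homologyFunctor X.Modules m).map α) := by
  classical
  letI : X.Over (Spec (CommRingCat.of ↑Γ(X, ⊤))) := ⟨X.toSpecΓ⟩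
  have hg : ∀ a : Γ(X, ⊤), (show Γ(X, ⊤) from
      Coh.toGlobal (X ↘ Spec (CommRingCat.of ↑Γ(X, ⊤))) a) = a := by
    intro a
    show (X.toSpecΓ.appTop.hom) ((Scheme.ΓSpecIso _).inv.hom a) = a
    rw [Scheme.toSpecΓ_appTop]
    exact congr($((Scheme.ΓSpecIso _).inv_hom_id) a)
  let U : X.Opens := ⟨(X.zeroLocus (U := ⊤) (↑fs : Set Γ(X, ⊤)))ᶜ,
    (X.zeroLocus_isClosed _).isOpen_compl⟩
  have hUc : ((U : X.Opens) : Set X)ᶜ = X.zeroLocus (U := ⊤) (↑fs : Set Γ(X, ⊤)) := compl_compl _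
  have hle : ∀ a ∈ fs.toList, X.basicOpen
      (show Γ(X, ⊤) from Coh.toGlobal (X ↘ Spec (CommRingCat.of ↑Γ(X, ⊤))) a) ≤ U := by
    intro a ha
    rw [hg a]
    have ha2 : a ∈ fs := by simpa using ha
    intro x hx hx2
    exact (X.mem_zeroLocus_iff _ x).1 hx2 a (by simpa using ha2) hx
  have hcov : ∀ x ∈ U, ∃ a ∈ fs.toList, x ∈ X.basicOpen
      (show Γ(X, ⊤) from Coh.toGlobal (X ↘ Spec (CommRingCat.of ↑Γ(X, ⊤))) a) := by
    intro x hx
    have hx2 : ¬ x ∈ X.zeroLocus (U := ⊤) (↑fs : Set Γ(X, ⊤)) := hx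
    rw [X.mem_zeroLocus_iff] at hx2
    push Not at hx2
    obtain ⟨a, ha, hxa⟩ := hx2
    refine ⟨a, by simpa using ha, ?_⟩
    rw [hg a]
    exact hxa
  have hU : ∀ i : ℤ, m - ((fs.toList).length : ℤ) < i →
      IsZero ((DCoh.HD E i).restrict U.ι) := by
    intro i hi
    rw [Finset.length_toList] at hi
    refine (Groth.Agent.Lib.helper7.RestrictSupport.isZero_restrict_iff_support _ U).2 ?_
    rw [hUc]
    exact hsupp i (by omega)
  obtain ⟨P, α, hP, hPU, hα⟩ := Groth.Agent.Lib.Helper25.ApproxAffine.approx_affine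
    (A := ↑Γ(X, ⊤)) fs.toList U hle hcov m E hq hpc hU
  refine ⟨P, α, hP, fun i => ?_, hα.1, hα.2⟩
  rw [← hUc]
  exact Groth.Agent.Lib.Helper25.SchKInj.support_HD_restrictD U P hPU i

end Groth.Agent.S7261
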