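import Groth.Statements.S0302
import Mathlib

set_option autoImplicit false
universe u v
open InjHull

namespace Groth.Agent.S0302

/-- Two injective hulls of the same module are isomorphic by an isomorphism compatible with the two
embeddings. -/
theorem result (R : Type u) [CommRing R] (M : Type u) [AddCommGroup M] [Module R M] (E : Type u) [AddCommGroup E] [Module R E] (E' : Type u) [AddCommGroup E'] [Module R E'] (f : M →ₗ[R] E) (hf : InjHull.IsInjectiveHull f) (g : M →ₗ[R] E') (hg : InjHull.IsInjectiveHull g) : ∃ e : E ≃ₗ[R] E', e.toLinearMap ∘ₗ f = g := by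
  obtain ⟨h, hh⟩ := hg.isInjective.out f hf.injective g
  have hinj : Function.Injective h := by
    rw [← LinearMap.ker_eq_bot]
    by_contra hne
    apply hf.essential (LinearMap.ker h) hne
    rw [eq_bot_iff]
    rintro y ⟨hy1, ⟨m, rfl⟩⟩
    have h1 : g m = 0 := by rw [← hh]; exact hy1
    have h2 : m = 0 := hg.injective (h1.trans (map_zero g).symm)
    rw [h2, map_zero]
    exact Submodule.zero_mem _
  obtain ⟨r, hr⟩ := hf.isInjective.out h hinj LinearMap.id
  have hr_inj : Function.Injective r := by
    rw [← LinearMap.ker_eq_bot]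
    by_contra hne
    apply hg.essential (LinearMap.ker r) hne
    rw [eq_bot_iff]
    rintro y ⟨hy1, ⟨m, rfl⟩⟩
    have h1 : r (g m) = f m := by rw [← hh, hr]; rfl
    have h2 : f m = 0 := by rw [← h1]; exact hy1
    have h3 : m = 0 := hf.injective (h2.trans (map_zero f).symm)
    rw [h3, map_zero]
    exact Submodule.zero_mem _
  have hsurj : Function.Surjective h := by
    intro y
    refine ⟨r y, hr_inj ?_⟩
    rw [hr]
    rfl
  refine ⟨LinearEquiv.ofBijective h ⟨hinj, hsurj⟩, ?_⟩
  ext m
  exact hh m

end Groth.Agent.S0302
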