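import Groth.Statements.S5162
import Mathlib
import Groth.Agent.Lib.Helper19.LCBridge
import Groth.Agent.Lib.Helper19.LCLes
import Groth.Agent.Lib.Helper19.LCZero
import Groth.Agent.S0318

set_option autoImplicit false
universe u
open CategoryTheory
open LocCoh

namespace Groth.Agent.S5162

-- MARK
section Aux
open CategoryTheory Groth.Agent.Lib.helper19.LCBridge Groth.Agent.Lib.helper19.LCLes
  Groth.Agent.Lib.helper19.LCZero

variable (A : Type u) [CommRing A] (G : Type u) [AddCommGroup G] [Module A G]

/-- vanishing of `Ext^i(N, G)` -/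
def E (N : Type u) [AddCommGroup N] [Module A N] (i : ℕ) : Prop :=
  Subsingleton (Abelian.Ext.{u} (ModuleCat.of A N) (ModuleCat.of A G) i)

variable {A G}

lemma E_of_forall_zero {N : Type u} [AddCommGroup N] [Module A N] {i : ℕ}
    (h : ∀ z : Abelian.Ext.{u} (ModuleCat.of A N) (ModuleCat.of A G) i, z = 0) : E A G N i :=
  ⟨fun x y => by rw [h x, h y]⟩

section SES
variable {N₁ N₂ N₃ : Type u} [AddCommGroup N₁] [Module A N₁] [AddCommGroup N₂] [Module A N₂]
  [AddCommGroup N₃] [Module A N₃] (f : N₁ →ₗ[A] N₂) (g : N₂ →ₗ[A] N₃)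
  (hf : Function.Injective f) (hg : Function.Surjective g) (hfg : Function.Exact f g)

/-- the short complex of a SES of modules -/
noncomputable def sesOf : ShortComplex (ModuleCat.{u} A) :=
  ShortComplex.mk (ModuleCat.ofHom f) (ModuleCat.ofHom g) (by
    apply ModuleCat.hom_ext
    apply LinearMap.ext
    intro x
    exact hfg.apply_apply_eq_zero x)

include hf hg in
lemma sesOf_shortExact : (sesOf f g hfg).ShortExact :=
  ModuleCat.shortComplex_shortExact _ hfg hf hg

include hf hg hfg in
lemma L1 (i : ℕ) (h1 : E A G N₁ i) (h3 : E A G N₃ i) : E A G N₂ i := by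
  apply E_of_forall_zero
  intro z
  have hz : (Abelian.Ext.mk₀ (sesOf f g hfg).f).comp z (zero_add i) = 0 := h1.elim _ _
  obtain ⟨x₃, hx₃⟩ := Abelian.Ext.contravariant_sequence_exact₂ (sesOf_shortExact f g hf hg hfg)
    _ z hz
  have hx0 : x₃ = 0 := h3.elim _ _
  rw [← hx₃, hx0, Abelian.Ext.comp_zero]
  rfl

include hf hg hfg in
lemma L2' (i : ℕ) (h1 : i = 0 ∨ ∃ j, i = j + 1 ∧ E A G N₁ j)
    (z : Abelian.Ext.{u} (ModuleCat.of A N₃) (ModuleCat.of A G) i)
    (hz : (Abelian.Ext.mk₀ (ModuleCat.ofHom g)).comp z (zero_add i) = 0) : z = 0 := by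
  rcases h1 with rfl | ⟨j, rfl, hj⟩
  · have hepi : Epi (ModuleCat.ofHom g) := (ModuleCat.epi_iff_surjective _).2 hg
    have := Abelian.Ext.precomp_mk₀_injective_of_epi (ModuleCat.of A G) (ModuleCat.ofHom g)
    apply this
    rw [map_zero]
    exact hz
  · obtain ⟨x₁, hx₁⟩ := Abelian.Ext.contravariant_sequence_exact₃ (sesOf_shortExact f g hf hg hfg)
      _ z hz (add_comm 1 j)
    have hx0 : x₁ = 0 := hj.elim _ _
    rw [← hx₁, hx0, Abelian.Ext.comp_zero]
    rfl

include hf hg hfg in
lemma L2 (i : ℕ) (h1 : i = 0 ∨ ∃ j, i = j + 1 ∧ E A G N₁ j) (h2 : E A G N₂ i) : E A G N₃ i := by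
  apply E_of_forall_zero
  intro z
  exact L2' f g hf hg hfg i h1 z (h2.elim _ _)

end SES

lemma E_of_equiv {N N' : Type u} [AddCommGroup N] [Module A N] [AddCommGroup N'] [Module A N']
    (e : N ≃ₗ[A] N') (i : ℕ) (h : E A G N' i) : E A G N i := by
  apply E_of_forall_zero
  intro z
  have h1 : z = (Abelian.Ext.mk₀ (ModuleCat.ofHom e.toLinearMap)).comp
      ((Abelian.Ext.mk₀ (ModuleCat.ofHom e.symm.toLinearMap)).comp z (zero_add i)) (zero_add i) := by
    rw [← Abelian.Ext.comp_assoc _ _ z (zero_add 0) (zero_add i) (by lia), Abelian.Ext.mk₀_comp_mk₀,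
      ← ModuleCat.ofHom_comp]
    have : e.symm.toLinearMap ∘ₗ e.toLinearMap = LinearMap.id := by
      ext x; simp
    rw [this, ModuleCat.ofHom_id, Abelian.Ext.mk₀_id_comp]
  rw [h1, h.elim ((Abelian.Ext.mk₀ (ModuleCat.ofHom e.symm.toLinearMap)).comp z (zero_add i)) 0,
    Abelian.Ext.comp_zero]

lemma E_of_subsingleton (N : Type u) [AddCommGroup N] [Module A N] [Subsingleton N] (i : ℕ) :
    E A G N i := by
  apply E_of_forall_zero
  intro z
  have h0 : 𝟙 (ModuleCat.of A N) = 0 := by
    apply ModuleCat.hom_ext
    apply LinearMap.ext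
    intro x
    exact Subsingleton.elim _ _
  rw [← Abelian.Ext.mk₀_id_comp z, h0, Abelian.Ext.mk₀_zero, Abelian.Ext.zero_comp]

lemma mk₀_sum_comp {ι : Type*} {X Y Z : ModuleCat.{u} A} (s : Finset ι) (f : ι → (X ⟶ Y)) (i : ℕ)
    (z : Abelian.Ext.{u} Y Z i) :
    (Abelian.Ext.mk₀ (∑ j ∈ s, f j)).comp z (zero_add i) =
      ∑ j ∈ s, (Abelian.Ext.mk₀ (f j)).comp z (zero_add i) := by
  classical
  induction s using Finset.induction_on with
  | empty => rw [Finset.sum_empty, Finset.sum_empty, Abelian.Ext.mk₀_zero, Abelian.Ext.zero_comp]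
  | insert a s ha ih =>
    rw [Finset.sum_insert ha, Finset.sum_insert ha, Abelian.Ext.mk₀_add, Abelian.Ext.add_comp, ih]

lemma E_pi {Q : Type u} [AddCommGroup Q] [Module A Q] (r : ℕ) (i : ℕ) (h : E A G Q i) :
    E A G (Fin r → Q) i := by
  classical
  apply E_of_forall_zero
  intro z
  have hid : 𝟙 (ModuleCat.of A (Fin r → Q)) = ∑ j : Fin r,
      (ModuleCat.ofHom (LinearMap.proj (R := A) (φ := fun _ : Fin r => Q) j) ≫
        ModuleCat.ofHom (LinearMap.single A (fun _ : Fin r => Q) j)) := by
    apply ModuleCat.hom_ext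
    apply LinearMap.ext
    intro v
    rw [ModuleCat.hom_sum, LinearMap.sum_apply]
    simp only [ModuleCat.hom_comp, ModuleCat.hom_ofHom, LinearMap.comp_apply, LinearMap.proj_apply,
      LinearMap.single_apply, ModuleCat.hom_id, LinearMap.id_apply]
    exact (Finset.univ_sum_single v).symm
  rw [← Abelian.Ext.mk₀_id_comp z, hid, mk₀_sum_comp]
  apply Finset.sum_eq_zero
  intro j _
  rw [← Abelian.Ext.mk₀_comp_mk₀, Abelian.Ext.comp_assoc _ _ z (zero_add 0) (zero_add i) (by lia)]
  have h0 : (Abelian.Ext.mk₀ (ModuleCat.ofHom (LinearMap.single A (fun _ : Fin r => Q) j))).comp z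
      (zero_add i) = 0 := h.elim _ _
  rw [h0, Abelian.Ext.comp_zero]

/-- support in `V(J)` -/
def Tors (J : Ideal A) (N : Type u) [AddCommGroup N] [Module A N] : Prop :=
  Module.support A N ⊆ PrimeSpectrum.zeroLocus (J : Set A)

lemma kill_of_tors [IsNoetherianRing A] (J : Ideal A) (N : Type u) [AddCommGroup N] [Module A N]
    [Module.Finite A N] (h : Tors J N) : ∃ k : ℕ, ∀ a ∈ J ^ k, ∀ x : N, a • x = 0 := by
  unfold Tors at h
  rw [Module.support_eq_zeroLocus, PrimeSpectrum.zeroLocus_subset_zeroLocus_iff] at h
  obtain ⟨k, hk⟩ := Ideal.exists_pow_le_of_le_radical_of_fg h (IsNoetherian.noetherian J)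
  exact ⟨k, fun a ha x => Module.mem_annihilator.1 (hk ha) x⟩

lemma tors_of_kill (J : Ideal A) (N : Type u) [AddCommGroup N] [Module A N]
    (h : ∃ k : ℕ, ∀ a ∈ J ^ k, ∀ x : N, a • x = 0) : Tors J N := by
  obtain ⟨k, hk⟩ := h
  intro p hp
  rw [Module.mem_support_iff_exists_annihilator] at hp
  obtain ⟨m, hm⟩ := hp
  rw [PrimeSpectrum.mem_zeroLocus, SetLike.coe_subset_coe]
  apply Ideal.IsPrime.le_of_pow_le (n := k)
  intro a ha
  apply hm
  rw [Submodule.mem_annihilator_span_singleton]
  exact hk a ha m

lemma tors_of_injective (J : Ideal A) {N N' : Type u} [AddCommGroup N] [Module A N]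
    [AddCommGroup N'] [Module A N'] (f : N →ₗ[A] N') (hf : Function.Injective f) (h : Tors J N') :
    Tors J N :=
  (Module.support_subset_of_injective f hf).trans h

lemma tors_of_surjective (J : Ideal A) {N N' : Type u} [AddCommGroup N] [Module A N]
    [AddCommGroup N'] [Module A N'] (f : N →ₗ[A] N') (hf : Function.Surjective f) (h : Tors J N) :
    Tors J N' :=
  (Module.support_subset_of_surjective f hf).trans h

lemma tors_Q (J : Ideal A) (k : ℕ) : Tors J (A ⧸ J ^ k) :=
  Groth.Agent.S0318.support_Q_subset J k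

/-- a surjection from a finite free `A/J^k`-module -/
lemma exists_surj_of_kill (J : Ideal A) (k : ℕ) (F : Type u) [AddCommGroup F] [Module A F]
    [Module.Finite A F] (hk : ∀ a ∈ J ^ k, ∀ x : F, a • x = 0) :
    ∃ (r : ℕ) (π : (Fin r → A ⧸ J ^ k) →ₗ[A] F), Function.Surjective π := by
  classical
  obtain ⟨r, s, hs⟩ := Module.Finite.exists_fin (R := A) (M := F)
  let lift : Fin r → ((A ⧸ J ^ k) →ₗ[A] F) := fun j =>
    Submodule.liftQ (J ^ k) (LinearMap.toSpanSingleton A F (s j)) (by
      intro a ha
      rw [LinearMap.mem_ker, LinearMap.toSpanSingleton_apply]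
      exact hk a ha (s j))
  refine ⟨r, ∑ j : Fin r, (lift j) ∘ₗ LinearMap.proj j, ?_⟩
  intro m
  have hm : m ∈ Submodule.span A (Set.range s) := by rw [hs]; trivial
  obtain ⟨c, rfl⟩ := (Submodule.mem_span_range_iff_exists_fun A).1 hm
  refine ⟨fun j => Ideal.Quotient.mk (J ^ k) (c j), ?_⟩
  rw [LinearMap.sum_apply]
  apply Finset.sum_congr rfl
  intro j _
  rw [LinearMap.comp_apply, LinearMap.proj_apply]
  change (Submodule.liftQ (J ^ k) (LinearMap.toSpanSingleton A F (s j)) _)
    (Submodule.Quotient.mk (c j)) = _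
  rw [Submodule.liftQ_apply, LinearMap.toSpanSingleton_apply]

theorem partA [IsNoetherianRing A] (J : Ideal A) (n : ℕ) :
    (∀ i : ℕ, i < n → Subsingleton ((localCohomology J i).obj (ModuleCat.of A G) : ModuleCat.{u} A)) →
    ∀ (F : Type u) [AddCommGroup F] [Module A F], Module.Finite A F → Tors J F →
      ∀ i : ℕ, i < n → E A G F i := by
  induction n with
  | zero => intro _ F _ _ _ _ i hi; exact absurd hi (by lia)
  | succ n ih =>
    intro hH
    have Pn := ih (fun i hi => hH i (by lia))
    -- the cyclic modules A/J^k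
    have hQ : ∀ k : ℕ, E A G (A ⧸ J ^ k) n := by
      intro k
      apply E_of_forall_zero
      intro z
      have h0 : toH' J n (ModuleCat.of A G) k z = 0 := (hH n (by lia)).elim _ _
      rw [toH'_eq_zero_iff] at h0
      obtain ⟨m, h, hm⟩ := h0
      have hsurj : Function.Surjective (quotMap J h).hom := by
        intro q
        obtain ⟨a, rfl⟩ := Ideal.Quotient.mk_surjective q
        exact ⟨Ideal.Quotient.mk _ a, rfl⟩
      refine L2' (LinearMap.ker (quotMap J h).hom).subtype (quotMap J h).hom
        (Submodule.injective_subtype _) hsurj (LinearMap.exact_subtype_ker_map _) n ?_ z hm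
      cases n with
      | zero => exact Or.inl rfl
      | succ j =>
        refine Or.inr ⟨j, rfl, ?_⟩
        exact Pn (LinearMap.ker (quotMap J h).hom) inferInstance
          (tors_of_injective J _ (Submodule.injective_subtype _) (tors_Q J m)) j (by lia)
    intro F _ _ hFfin hF i hi
    by_cases hin : i < n
    · exact Pn F hFfin hF i hin
    · obtain rfl : i = n := by lia
      obtain ⟨k, hk⟩ := kill_of_tors J F hF
      obtain ⟨r, π, hπ⟩ := exists_surj_of_kill J k F hk
      have hkill : ∃ k' : ℕ, ∀ a ∈ J ^ k', ∀ x : (Fin r → A ⧸ J ^ k), a • x = 0 := by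
        refine ⟨k, fun a ha x => ?_⟩
        funext j
        obtain ⟨b, hb⟩ := Ideal.Quotient.mk_surjective (x j)
        rw [Pi.smul_apply, Pi.zero_apply, ← hb]
        change Submodule.Quotient.mk (a • b) = 0
        rw [Submodule.Quotient.mk_eq_zero]
        exact Ideal.mul_mem_right _ _ ha
      refine L2 (LinearMap.ker π).subtype π (Submodule.injective_subtype _) hπ
        (LinearMap.exact_subtype_ker_map _) i ?_ (E_pi r i (hQ k))
      cases i with
      | zero => exact Or.inl rfl
      | succ j =>
        refine Or.inr ⟨j, rfl, ?_⟩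
        exact Pn (LinearMap.ker π) inferInstance
          (tors_of_injective J _ (Submodule.injective_subtype _) (tors_of_kill J _ hkill)) j (by lia)

theorem partB [IsNoetherianRing A] (J : Ideal A) (n : ℕ)
    (hE : ∀ (F : Type u) [AddCommGroup F] [Module A F], Module.Finite A F → Tors J F →
      ∀ i : ℕ, i < n → E A G F i) (i : ℕ) (hi : i < n) :
    Subsingleton ((localCohomology J i).obj (ModuleCat.of A G) : ModuleCat.{u} A) := by
  apply subsingleton_of_stages
  intro j
  exact hE (A ⧸ J ^ j) (Module.Finite.quotient A _) (tors_Q J j) i hi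

open Groth.Agent.Lib.helper26.Depth in
theorem partD [IsNoetherianRing A] (J : Ideal A) (F₀ : Type u) [AddCommGroup F₀] [Module A F₀]
    [Module.Finite A F₀] (hF₀ : Module.support A F₀ = PrimeSpectrum.zeroLocus (J : Set A)) (n : ℕ) :
    (∀ i : ℕ, i < n → E A G F₀ i) →
    ∀ (F : Type u) [AddCommGroup F] [Module A F], Module.Finite A F → Tors J F →
      ∀ i : ℕ, i < n → E A G F i := by
  induction n with
  | zero => intro _ F _ _ _ _ i hi; exact absurd hi (by lia)
  | succ n ih =>
    intro hE
    have Pn := ih (fun i hi => hE i (by lia))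
    have hE₀ : E A G F₀ n := hE n (by lia)
    have hprime : ∀ p : Ideal A, p.IsPrime → J ≤ p → E A G (A ⧸ p) n := by
      intro p
      induction p using IsNoetherian.induction with
      | hgt p IH =>
        intro hp hJp
        have hbig : ∀ (N : Type u) [AddCommGroup N] [Module A N], Module.Finite A N →
            (∀ q ∈ Module.support A N, p < q.asIdeal) → E A G N n := by
          intro N _ _ hNfin
          induction hNfin using IsNoetherianRing.induction_on_isQuotientEquivQuotientPrime A with
          | subsingleton N => intro _; exact E_of_subsingleton N n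
          | quotient N q e =>
            intro hsupp
            have hq : q ∈ Module.support A N := by
              rw [e.support_eq, support_quotient_ideal, PrimeSpectrum.mem_zeroLocus]
            exact E_of_equiv e n (IH q.asIdeal (hsupp q hq) q.2 (hJp.trans (hsupp q hq).le))
          | exact N₁ N₂ N₃ f g hf hg hfg h₁ h₃ =>
            intro hsupp
            have hs := Module.support_of_exact hfg hf hg
            exact L1 f g hf hg hfg n (h₁ (fun q hq => hsupp q (hs ▸ Or.inl hq)))
              (h₃ (fun q hq => hsupp q (hs ▸ Or.inr hq)))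
        have hpsupp : (⟨p, hp⟩ : PrimeSpectrum A) ∈ Module.support A F₀ := by
          rw [hF₀, PrimeSpectrum.mem_zeroLocus]
          exact hJp
        have hnot : ¬ Subsingleton (F₀ →ₗ[A] (A ⧸ p)) := by
          intro hsub
          obtain ⟨r, hr, hreg⟩ := IsSMulRegular.subsingleton_linearMap_iff.1 hsub
          have hrp : r ∈ p := Module.annihilator_le_of_mem_support hpsupp hr
          have h1 : r • (1 : A ⧸ p) = r • (0 : A ⧸ p) := by
            rw [smul_zero]
            change Ideal.Quotient.mk p (r * 1) = 0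
            rw [mul_one]
            exact Ideal.Quotient.eq_zero_iff_mem.2 hrp
          have h2 : (1 : A ⧸ p) = 0 := hreg h1
          have h3 : (1 : A) ∈ p := Ideal.Quotient.eq_zero_iff_mem.1 h2
          exact hp.ne_top ((Ideal.eq_top_iff_one p).2 h3)
        have hnt : Nontrivial (F₀ →ₗ[A] (A ⧸ p)) := not_subsingleton_iff_nontrivial.1 hnot
        obtain ⟨φ, hφ⟩ := exists_ne (0 : F₀ →ₗ[A] (A ⧸ p))
        obtain ⟨x, hx⟩ : ∃ x, φ x ≠ 0 := by
          by_contra hcon
          push Not at hcon
          exact hφ (LinearMap.ext hcon)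
        obtain ⟨a, ha⟩ := Ideal.Quotient.mk_surjective (φ x)
        have hap : a ∉ p := fun hap => hx (by rw [← ha]; exact Ideal.Quotient.eq_zero_iff_mem.2 hap)
        have hN'supp : ∀ q ∈ Module.support A ((A ⧸ p) ⧸ LinearMap.range φ), p < q.asIdeal := by
          intro q hq
          have hann := Module.annihilator_le_of_mem_support hq
          have hple : p ≤ q.asIdeal := by
            intro b hb
            apply hann
            rw [Module.mem_annihilator]
            intro y
            obtain ⟨y', rfl⟩ := Submodule.mkQ_surjective _ y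
            obtain ⟨c, rfl⟩ := Ideal.Quotient.mk_surjective y'
            rw [← map_smul]
            have : b • (Ideal.Quotient.mk p c) = 0 := by
              change Ideal.Quotient.mk p (b * c) = 0
              exact Ideal.Quotient.eq_zero_iff_mem.2 (Ideal.mul_mem_right _ _ hb)
            rw [this, map_zero]
          have haq : a ∈ q.asIdeal := by
            apply hann
            rw [Module.mem_annihilator]
            intro y
            obtain ⟨y', rfl⟩ := Submodule.mkQ_surjective _ y
            obtain ⟨c, rfl⟩ := Ideal.Quotient.mk_surjective y'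
            rw [← map_smul, Submodule.mkQ_apply, Submodule.Quotient.mk_eq_zero]
            refine ⟨c • x, ?_⟩
            rw [map_smul, ← ha]
            change Ideal.Quotient.mk p (c * a) = Ideal.Quotient.mk p (a * c)
            rw [mul_comm]
          exact SetLike.lt_iff_le_and_exists.2 ⟨hple, a, haq, hap⟩
        have hN' : E A G ((A ⧸ p) ⧸ LinearMap.range φ) n := hbig _ inferInstance hN'supp
        have hK' : E A G (LinearMap.range φ) n := by
          refine L2 (LinearMap.ker φ.rangeRestrict).subtype φ.rangeRestrict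
            (Submodule.injective_subtype _) φ.surjective_rangeRestrict
            (LinearMap.exact_subtype_ker_map _) n ?_ hE₀
          cases n with
          | zero => exact Or.inl rfl
          | succ j =>
            refine Or.inr ⟨j, rfl, ?_⟩
            exact Pn (LinearMap.ker φ.rangeRestrict) inferInstance
              (tors_of_injective J _ (Submodule.injective_subtype _) hF₀.le) j (by lia)
        exact L1 (LinearMap.range φ).subtype (LinearMap.range φ).mkQ (Submodule.injective_subtype _)
          (Submodule.mkQ_surjective _) (LinearMap.exact_subtype_mkQ _) n hK' hN'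
    have hall : ∀ (N : Type u) [AddCommGroup N] [Module A N], Module.Finite A N → Tors J N →
        E A G N n := by
      intro N _ _ hNfin
      induction hNfin using IsNoetherianRing.induction_on_isQuotientEquivQuotientPrime A with
      | subsingleton N => intro _; exact E_of_subsingleton N n
      | quotient N q e =>
        intro hN
        have hq : q ∈ Module.support A N := by
          rw [e.support_eq, support_quotient_ideal, PrimeSpectrum.mem_zeroLocus]
        have hJq := hN hq
        rw [PrimeSpectrum.mem_zeroLocus, SetLike.coe_subset_coe] at hJq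
        exact E_of_equiv e n (hprime q.asIdeal q.2 hJq)
      | exact N₁ N₂ N₃ f g hf hg hfg h₁ h₃ =>
        intro hN
        exact L1 f g hf hg hfg n (h₁ (tors_of_injective J f hf hN))
          (h₃ (tors_of_surjective J g hg hN))
    intro F _ _ hFfin hF i hi
    by_cases hin : i < n
    · exact Pn F hFfin hF i hin
    · obtain rfl : i = n := by lia
      exact hall F hFfin hF

end Aux



/-- The affine case. Let A be a Noetherian ring, J an ideal, G any A-module and n ≥ 0. Then: H^i_J(G) =
0 for all i < n iff Ext^i_A(F, G) = 0 for all i < n and all finite A-modules F with Supp F ⊆ V(J),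
iff Ext^i_A(F, G) = 0 for all i < n for one finite F with Supp F = V(J). (G is not assumed finitely
generated.) -/
theorem result (A : Type u) [CommRing A] [IsNoetherianRing A] (J : Ideal A) (G : Type u) [AddCommGroup G] [Module A G] (n : ℕ) : ((∀ i : ℕ, i < n → Subsingleton (LocCoh.H J i G)) ↔ ∀ (F : Type u) [AddCommGroup F] [Module A F], Module.Finite A F → Module.support A F ⊆ PrimeSpectrum.zeroLocus (J : Set A) → ∀ i : ℕ, i < n → Subsingleton (Abelian.Ext (ModuleCat.of A F) (ModuleCat.of A G) i)) ∧ ((∀ i : ℕ, i < n → Subsingleton (LocCoh.H J i G)) ↔ ∃ (F : Type u) (_ : AddCommGroup F) (_ : Module A F), Module.Finite A F ∧ Module.support A F = PrimeSpectrum.zeroLocus (J : Set A) ∧ ∀ i : ℕ, i < n → Subsingleton (Abelian.Ext (ModuleCat.of A F) (ModuleCat.of A G) i)) := by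
  constructor
  · constructor
    · intro hH F _ _ hFfin hF i hi
      exact partA J n hH F hFfin hF i hi
    · intro hE i hi
      exact partB J n (fun F _ _ hFfin hF i hi => hE F hFfin hF i hi) i hi
  · constructor
    · intro hH
      refine ⟨A ⧸ J, inferInstance, inferInstance, Module.Finite.quotient A J,
        Groth.Agent.Lib.helper26.Depth.support_quotient_ideal J, fun i hi => ?_⟩
      exact partA J n hH (A ⧸ J) (Module.Finite.quotient A J)
        (Groth.Agent.Lib.helper26.Depth.support_quotient_ideal J).le i hi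
    · rintro ⟨F₀, _, _, hfin, hsupp, hE⟩ i hi
      exact partB J n (partD J F₀ hsupp n hE) i hi

end Groth.Agent.S5162
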