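import Groth.Statements.S0817
import Mathlib
import Groth.Agent.Lib.Helper19.LCBridge
import Groth.Agent.Lib.Helper19.LCLes
import Groth.Agent.Lib.Helper19.LCLes2
import Groth.Agent.Lib.Helper19.LCZero
import Groth.Agent.Lib.Helper19.LCFactor
import Groth.Agent.Lib.Helper19.LCGroth
import Groth.Agent.Lib.Helper19.Melkersson

set_option autoImplicit false
universe u
open LocCoh

namespace Groth.Agent.S0817

-- MARK
section Aux
open CategoryTheory Groth.Agent.Lib.helper19.LCBridge Groth.Agent.Lib.helper19.LCLes
  Groth.Agent.Lib.helper19.LCLes2 Groth.Agent.Lib.helper19.LCZero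
  Groth.Agent.Lib.helper19.LCFactor Groth.Agent.Lib.helper19.LCGroth
  Groth.Agent.Lib.helper19.Melkersson
open Pointwise

variable {R : Type u} [CommRing R] [IsNoetherianRing R]

/-- a finitely generated module killed by a maximal ideal is Artinian -/
lemma isArtinian_torsionBySet_maximal (m : Ideal R) [hm : m.IsMaximal] (N : Type u) [AddCommGroup N]
    [Module R N] [Module.Finite R N] :
    IsArtinian R (Submodule.torsionBySet R N (m : Set R)) := by
  let _ : Field (R ⧸ m) := Ideal.Quotient.field m
  have hfin : Module.Finite (R ⧸ m) (Submodule.torsionBySet R N (m : Set R)) :=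
    Module.Finite.of_restrictScalars_finite R (R ⧸ m) _
  have : IsArtinian (R ⧸ m) (Submodule.torsionBySet R N (m : Set R)) := inferInstance
  exact isArtinian_of_surjective_algebraMap (S := R) (R := R ⧸ m)
    (M := Submodule.torsionBySet R N (m : Set R)) Ideal.Quotient.mk_surjective

/-- `Γ_m(N)` is Artinian for finitely generated `N` -/
lemma isArtinian_torsionSub (m : Ideal R) [hm : m.IsMaximal] (N : Type u) [AddCommGroup N]
    [Module R N] [Module.Finite R N] : IsArtinian R (DRing.torsionSub m N) := by
  apply isArtinian_of_ideal m (DRing.torsionSub m N)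
  · intro x
    obtain ⟨n, hn⟩ := x.2
    exact ⟨n, fun c hc => Subtype.ext (hn c hc)⟩
  · exact isArtinian_torsionBySet_maximal m (DRing.torsionSub m N)

/-- the one-step criterion: Artinian via a regular element -/
lemma isArtinian_H_succ_of_regular (I : Ideal R) (i : ℕ) (N : Type u) [AddCommGroup N] [Module R N]
    (r : R) (hr : r ∈ I) (hreg : IsSMulRegular N r)
    (hQ : IsArtinian R ((localCohomology I i).obj (ModuleCat.of R (QuotSMulTop r N)) :
      ModuleCat.{u} R)) :
    IsArtinian R ((localCohomology I (i + 1)).obj (ModuleCat.of R N) : ModuleCat.{u} R) := by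
  have hex : Function.Exact (LinearMap.lsmul R N r) (Submodule.mkQ (r • (⊤ : Submodule R N))) := by
    intro y
    rw [Submodule.mkQ_apply, Submodule.Quotient.mk_eq_zero,
      Submodule.mem_smul_pointwise_iff_exists]
    constructor
    · rintro ⟨x, _, hx⟩
      exact ⟨x, hx⟩
    · rintro ⟨x, hx⟩
      exact ⟨x, trivial, hx⟩
  let S : ShortComplex (ModuleCat.{u} R) :=
    ShortComplex.mk (ModuleCat.ofHom (LinearMap.lsmul R N r))
      (ModuleCat.ofHom (Submodule.mkQ (r • (⊤ : Submodule R N)))) (by
        apply ModuleCat.hom_ext
        apply LinearMap.ext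
        intro x
        exact hex.apply_apply_eq_zero x)
  have hS : S.ShortExact := ModuleCat.shortComplex_shortExact S hex hreg
    (Submodule.mkQ_surjective _)
  have hf : S.f = r • 𝟙 (ModuleCat.of R N) := by
    apply ModuleCat.hom_ext
    apply LinearMap.ext
    intro y
    rfl
  have hmap : ∀ x : ((localCohomology I (i + 1)).obj (ModuleCat.of R N) : ModuleCat.{u} R),
      ((localCohomology I (i + 1)).map S.f).hom x = r • x := by
    intro x
    rw [hf]
    exact H_map_smul_id I (i + 1) (ModuleCat.of R N) r x
  have hker : Submodule.torsionBy R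
      ((localCohomology I (i + 1)).obj (ModuleCat.of R N) : ModuleCat.{u} R) r =
      LinearMap.range (δH I i hS) := by
    ext x
    rw [Submodule.mem_torsionBy_iff, LinearMap.mem_range]
    constructor
    · intro hx
      exact exact_at_X₁ I i hS x ((hmap x).trans hx)
    · rintro ⟨y, rfl⟩
      exact (hmap _).symm.trans (f_comp_δH I i hS y)
  have hQ' : IsArtinian R ((localCohomology I i).obj S.X₃ : ModuleCat.{u} R) := hQ
  have hrange : IsArtinian R (LinearMap.range (δH I i hS)) :=
    isArtinian_of_surjective _ (δH I i hS).rangeRestrict (LinearMap.surjective_rangeRestrict _)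
  have : IsArtinian R (Submodule.torsionBy R
      ((localCohomology I (i + 1)).obj (ModuleCat.of R N) : ModuleCat.{u} R) r) := by
    rw [hker]
    exact hrange
  apply isArtinian_of_torsionBy r
  intro x
  obtain ⟨n, hn⟩ := H_powerTorsion I (i + 1) (ModuleCat.of R N) x
  exact ⟨n, hn _ (Ideal.pow_mem_pow hr n)⟩

/-- local cohomology with support in a maximal ideal of a finitely generated module is Artinian -/
theorem isArtinian_H (m : Ideal R) [hm : m.IsMaximal] (i : ℕ) :
    ∀ (M : Type u) [AddCommGroup M] [Module R M] [Module.Finite R M],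
      IsArtinian R ((localCohomology m i).obj (ModuleCat.of R M) : ModuleCat.{u} R) := by
  induction i with
  | zero =>
    intro M _ _ _
    have := isArtinian_torsionSub m M
    exact isArtinian_of_linearEquiv (LinearEquiv.ofBijective (gammaToH m (ModuleCat.of R M))
      (gammaToH_bijective m (ModuleCat.of R M)))
  | succ i ih =>
    intro M _ _ _
    have hinj := H_mkQ_torsion_injective m M (i + 1) (by lia)
    obtain ⟨r, hr, hreg⟩ := exists_regular m (M ⧸ DRing.torsionSub m M)
      (torsionSub_quotient_eq_bot m M)
    have hN := isArtinian_H_succ_of_regular m i (M ⧸ DRing.torsionSub m M) r hr hreg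
      (ih (QuotSMulTop r (M ⧸ DRing.torsionSub m M)))
    exact isArtinian_of_injective
      ((localCohomology m (i + 1)).map (ModuleCat.ofHom (DRing.torsionSub m M).mkQ)).hom hinj

end Aux



/-- Take a Noetherian local ring (A, 𝔪) and a finitely generated A-module M. For each i, the local
cohomology module H^i_𝔪(M) is Artinian over A (its submodules satisfy the descending chain
condition). (Part (2), about cohomology on the punctured spectrum, is not stated.) -/
theorem result (A : Type u) [CommRing A] [IsNoetherianRing A]
    [IsLocalRing A] (M : Type u) [AddCommGroup M] [Module A M] [Module.Finite A M] (i : ℕ) :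
    IsArtinian A (LocCoh.H (IsLocalRing.maximalIdeal A) i M) := by
  exact isArtinian_H (IsLocalRing.maximalIdeal A) i M

end Groth.Agent.S0817
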