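import Groth.Statements.S0316
import Mathlib
import Groth.Agent.Lib.Helper19.MatlisLen
import Groth.Agent.S0817
import Groth.Agent.S11663
import Groth.Agent.S11681
import Groth.Agent.S3866

set_option autoImplicit false
universe u v
open Matlis

namespace Groth.Agent.S0316

-- MARK
section Aux
open Pointwise

variable {R : Type u} [CommRing R] [IsLocalRing R] [IsNoetherianRing R]
  {E : Type u} [AddCommGroup E] [Module R E] (f : IsLocalRing.ResidueField R →ₗ[R] E)
  (hf : InjHull.IsInjectiveHull f)

/-- `M/m^n M` has finite length -/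
lemma isFiniteLength_quot (M : Type u) [AddCommGroup M] [Module R M] [Module.Finite R M] (n : ℕ) :
    IsFiniteLength R (M ⧸ (IsLocalRing.maximalIdeal R ^ n • (⊤ : Submodule R M))) := by
  rw [isFiniteLength_iff_isNoetherian_isArtinian]
  refine ⟨inferInstance, ?_⟩
  have htop : DRing.torsionSub (IsLocalRing.maximalIdeal R)
      (M ⧸ (IsLocalRing.maximalIdeal R ^ n • (⊤ : Submodule R M))) = ⊤ := by
    rw [eq_top_iff]
    intro x _
    obtain ⟨y, rfl⟩ := Submodule.Quotient.mk_surjective _ x
    refine ⟨n, fun c hc => ?_⟩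
    rw [← Submodule.Quotient.mk_smul]
    exact (Submodule.Quotient.mk_eq_zero _).2 (Submodule.smul_mem_smul hc trivial)
  have := Groth.Agent.S0817.isArtinian_torsionSub (IsLocalRing.maximalIdeal R)
    (M ⧸ (IsLocalRing.maximalIdeal R ^ n • (⊤ : Submodule R M)))
  rw [htop] at this
  exact isArtinian_of_linearEquiv (Submodule.topEquiv (R := R)
    (M := M ⧸ (IsLocalRing.maximalIdeal R ^ n • (⊤ : Submodule R M))))

include hf in
/-- every functional on a finite module kills a power of the maximal ideal -/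
lemma exists_pow_kill (M : Type u) [AddCommGroup M] [Module R M] [Module.Finite R M]
    (φ : M →ₗ[R] E) :
    ∃ n : ℕ, ∀ y ∈ IsLocalRing.maximalIdeal R ^ n • (⊤ : Submodule R M), φ y = 0 := by
  have hE := Groth.Agent.S11663.torsionSub_eq_top (IsLocalRing.maximalIdeal R) f hf
  have hn : ∀ e : E, ∃ n : ℕ, ∀ c ∈ IsLocalRing.maximalIdeal R ^ n, c • e = 0 := by
    intro e
    have : e ∈ DRing.torsionSub (IsLocalRing.maximalIdeal R) E := by rw [hE]; trivial
    exact this
  choose N hN using hn
  obtain ⟨T, hT⟩ := (Module.Finite.fg_top : (⊤ : Submodule R M).FG)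
  refine ⟨T.sup (fun g => N (φ g)), ?_⟩
  have claim : ∀ c ∈ IsLocalRing.maximalIdeal R ^ (T.sup (fun g => N (φ g))), ∀ x : M,
      φ (c • x) = 0 := by
    intro c hc x
    have hx : x ∈ Submodule.span R (T : Set M) := by rw [hT]; trivial
    induction hx using Submodule.span_induction with
    | mem g hg =>
      rw [map_smul]
      exact hN (φ g) c (Ideal.pow_le_pow_right (Finset.le_sup (f := fun g => N (φ g)) hg) hc)
    | zero => rw [smul_zero, map_zero]
    | add x y _ _ hx hy => rw [smul_add, map_add, hx, hy, add_zero]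
    | smul r x _ hx => rw [smul_comm, map_smul, hx, smul_zero]
  intro y hy
  refine Submodule.smul_induction_on hy (fun c hc x _ => claim c hc x) ?_
  intro x y hx hy
  rw [map_add, hx, hy, add_zero]

include hf in
/-- Matlis duality: reflexivity of finite modules over a complete local ring -/
theorem applyₗ_surjective [IsAdicComplete (IsLocalRing.maximalIdeal R) R]
    (M : Type u) [AddCommGroup M] [Module R M] [Module.Finite R M] :
    Function.Surjective (LinearMap.applyₗ : M →ₗ[R] (M →ₗ[R] E) →ₗ[R] E) := by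
  intro ξ
  have key : ∀ n : ℕ, ∃ x : M, ∀ φ : M →ₗ[R] E,
      (∀ y ∈ IsLocalRing.maximalIdeal R ^ n • (⊤ : Submodule R M), φ y = 0) → ξ φ = φ x := by
    intro n
    have hfl := isFiniteLength_quot (R := R) M n
    obtain ⟨y, hy⟩ := (Groth.Agent.Lib.helper19.MatlisLen.applyₗ_bijective f hf _ hfl).2
      (ξ ∘ₗ LinearMap.lcomp R E (IsLocalRing.maximalIdeal R ^ n • (⊤ : Submodule R M)).mkQ)
    obtain ⟨x, rfl⟩ := Submodule.mkQ_surjective _ y
    refine ⟨x, fun φ hφ => ?_⟩
    have hle : IsLocalRing.maximalIdeal R ^ n • (⊤ : Submodule R M) ≤ LinearMap.ker φ := hφ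
    have h1 := LinearMap.congr_fun hy (Submodule.liftQ _ φ hle)
    have h2 : (Submodule.liftQ _ φ hle) ∘ₗ
        (IsLocalRing.maximalIdeal R ^ n • (⊤ : Submodule R M)).mkQ = φ :=
      Submodule.liftQ_mkQ _ φ hle
    have h3 : ξ φ = (Submodule.liftQ _ φ hle)
        ((IsLocalRing.maximalIdeal R ^ n • (⊤ : Submodule R M)).mkQ x) := by
      refine Eq.trans ?_ h1.symm
      exact congrArg ξ h2.symm
    rw [h3, Submodule.mkQ_apply, Submodule.liftQ_apply]
  choose x hx using key
  have hcau : ∀ {a b : ℕ}, a ≤ b →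
      x a ≡ x b [SMOD (IsLocalRing.maximalIdeal R ^ a • (⊤ : Submodule R M))] := by
    intro a b hab
    rw [SModEq.sub_mem]
    by_contra hne
    have hne' : (IsLocalRing.maximalIdeal R ^ a • (⊤ : Submodule R M)).mkQ (x a - x b) ≠ 0 := by
      rw [Submodule.mkQ_apply, Ne, Submodule.Quotient.mk_eq_zero]
      exact hne
    obtain ⟨ψ, hψ⟩ := Groth.Agent.S11681.exists_functional f hf _ _ hne'
    have hk : ∀ y ∈ IsLocalRing.maximalIdeal R ^ a • (⊤ : Submodule R M),
        (ψ ∘ₗ (IsLocalRing.maximalIdeal R ^ a • (⊤ : Submodule R M)).mkQ) y = 0 := by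
      intro y hy
      rw [LinearMap.comp_apply, Submodule.mkQ_apply, (Submodule.Quotient.mk_eq_zero _).2 hy,
        map_zero]
    have h1 := hx a _ hk
    have h2 := hx b _ (fun y hy => hk y
      (Submodule.smul_mono_left (Ideal.pow_le_pow_right hab) hy))
    apply hψ
    have h3 := h1.symm.trans h2
    rw [LinearMap.comp_apply, LinearMap.comp_apply] at h3
    rw [map_sub, map_sub, h3, sub_self]
  have hcomp : IsAdicComplete (IsLocalRing.maximalIdeal R) M :=
    Groth.Agent.S3866.result R (IsLocalRing.maximalIdeal R) M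
  obtain ⟨L, hL⟩ := IsPrecomplete.prec hcomp.toIsPrecomplete hcau
  refine ⟨L, ?_⟩
  apply LinearMap.ext
  intro φ
  obtain ⟨n, hn⟩ := exists_pow_kill f hf M φ
  have h1 := hL n
  rw [SModEq.sub_mem] at h1
  have h2 := hn _ h1
  rw [map_sub, sub_eq_zero] at h2
  rw [hx n φ hn, h2]
  rfl

end Aux



/-- Over a complete Noetherian local ring with E an injective hull of the residue field, the E-dual of a
finite module is Artinian and the evaluation map into the double E-dual is bijective. -/
theorem result (R : Type u) [CommRing R] [IsLocalRing R] [IsNoetherianRing R] [IsAdicComplete (IsLocalRing.maximalIdeal R) R] (E : Type u) [AddCommGroup E] [Module R E] (f : IsLocalRing.ResidueField R →ₗ[R] E) (hf : InjHull.IsInjectiveHull f) (M : Type u) [AddCommGroup M] [Module R M] [Module.Finite R M] : IsArtinian R (M →ₗ[R] E) ∧ Function.Bijective (LinearMap.applyₗ : M →ₗ[R] (M →ₗ[R] E) →ₗ[R] E) := by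
  exact ⟨Groth.Agent.S11681.isArtinian_dual f hf M,
    Groth.Agent.S11681.applyₗ_injective f hf M, applyₗ_surjective f hf M⟩

end Groth.Agent.S0316
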