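import Groth.Statements.S0311
import Groth.Agent.S0301
import Mathlib

set_option autoImplicit false
universe u v
open Matlis

namespace Groth.Agent.S0311

/-- Over a Noetherian local ring, every element of an injective hull E of the residue field is killed by
some power of the maximal ideal (E is the union of the E[m^n]). (The source also identifies E[m^n]
with an injective hull of the residue field over R/m^n; not stated here.) -/
theorem result (R : Type u) [CommRing R] [IsLocalRing R] [IsNoetherianRing R] (E : Type u) [AddCommGroup E] [Module R E] (f : IsLocalRing.ResidueField R →ₗ[R] E) (hf : InjHull.IsInjectiveHull f) : LocCoh.IsPowerTorsion (IsLocalRing.maximalIdeal R) E := by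
  have hΓinj := Groth.Agent.S0301.result R E hf.isInjective (IsLocalRing.maximalIdeal R)
  set Γ : Submodule R E :=
    ⨆ n : ℕ, Submodule.torsionBySet R E ((IsLocalRing.maximalIdeal R ^ n : Ideal R) : Set R) with hΓ
  have hmono : Monotone (fun n : ℕ =>
      Submodule.torsionBySet R E ((IsLocalRing.maximalIdeal R ^ n : Ideal R) : Set R)) :=
    fun a b hab => Submodule.torsionBySet_le_torsionBySet_pow a b hab _
  -- the residue field lands in Γ
  have hfΓ : ∀ x, f x ∈ Γ := by
    intro x
    apply Submodule.mem_iSup_of_mem 1
    rw [Submodule.mem_torsionBySet_iff]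
    rintro ⟨a, ha⟩
    rw [pow_one] at ha
    change a • f x = 0
    rw [← map_smul]
    have : a • x = 0 := by
      obtain ⟨y, rfl⟩ := IsLocalRing.residue_surjective x
      rw [Algebra.smul_def]
      change IsLocalRing.residue R a * IsLocalRing.residue R y = 0
      rw [(IsLocalRing.residue_eq_zero_iff a).mpr ha, zero_mul]
    rw [this, map_zero]
  -- retraction onto Γ
  obtain ⟨r, hr⟩ := hΓinj.out Γ.subtype Γ.injective_subtype LinearMap.id
  have hrinj : Function.Injective r := by
    rw [← LinearMap.ker_eq_bot]
    by_contra hne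
    apply hf.essential (LinearMap.ker r) hne
    rw [eq_bot_iff]
    rintro y ⟨hy1, ⟨x, rfl⟩⟩
    have h1 : r (f x) = ⟨f x, hfΓ x⟩ := hr ⟨f x, hfΓ x⟩
    rw [SetLike.mem_coe, LinearMap.mem_ker, h1] at hy1
    have h2 : f x = 0 := congrArg Subtype.val hy1
    rw [h2]
    exact Submodule.zero_mem _
  intro y
  have hy : y ∈ Γ := by
    have h1 : r ((r y : E)) = r y := hr (r y)
    have h2 : ((r y : Γ) : E) = y := hrinj h1
    rw [← h2]
    exact (r y).2
  obtain ⟨n, hn⟩ := (Submodule.mem_iSup_of_directed _ hmono.directed_le).mp hy
  refine ⟨n, fun a ha => ?_⟩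
  exact (Submodule.mem_torsionBySet_iff _ _).mp hn ⟨a, ha⟩

end Groth.Agent.S0311
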