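import Groth.Statements.S5155
import Mathlib
import Groth.Agent.Lib.Helper19.MatlisLen
import Groth.Agent.S0311

set_option autoImplicit false
universe u
open Matlis

namespace Groth.Agent.S5155

open IsLocalRing Groth.Agent.Lib.helper19.MatlisLen

theorem isSimpleModule_residueField (A : Type u) [CommRing A] [IsLocalRing A] :
    IsSimpleModule A (ResidueField A) := by
  rw [isSimpleModule_iff_quot_maximal]
  exact ⟨maximalIdeal A, inferInstance, ⟨LinearEquiv.refl A _⟩⟩

theorem main (A : Type u) [CommRing A] [IsLocalRing A] [IsNoetherianRing A] (E : Type u)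
    [AddCommGroup E] [Module A E] :
    (∃ f : ResidueField A →ₗ[A] E, InjHull.IsInjectiveHull f) ↔
      (Module.Injective A E ∧ LocCoh.IsPowerTorsion (maximalIdeal A) E ∧
        IsSimpleModule A (ResidueField A →ₗ[A] E)) := by
  constructor
  · rintro ⟨f, hf⟩
    exact ⟨hf.isInjective, Groth.Agent.S0311.result A E f hf,
      Module.length_eq_one_iff.mp (length_hom_residueField f hf)⟩
  · rintro ⟨hinj, htors, hs⟩
    have hk := isSimpleModule_residueField A
    have hnt : Nontrivial (ResidueField A →ₗ[A] E) := IsSimpleModule.nontrivial A _
    obtain ⟨f, hf0⟩ := exists_ne (0 : ResidueField A →ₗ[A] E)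
    have hfinj : Function.Injective f := by
      rw [← LinearMap.ker_eq_bot]
      rcases eq_bot_or_eq_top (LinearMap.ker f) with h | h
      · exact h
      · exact absurd (LinearMap.ker_eq_top.mp h) hf0
    have hspan : Submodule.span A {f} = ⊤ := by
      rcases eq_bot_or_eq_top (Submodule.span A {f}) with h | h
      · exact absurd (Submodule.span_singleton_eq_bot.mp h) hf0
      · exact h
    refine ⟨f, ⟨⟨hfinj, ?_⟩, hinj⟩⟩
    intro N hN
    obtain ⟨x, hxN, hx0⟩ := (Submodule.ne_bot_iff _).mp hN
    classical
    let n := Nat.find (htors x)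
    have hn : ∀ a ∈ maximalIdeal A ^ n, a • x = 0 := Nat.find_spec (htors x)
    have hn0 : n ≠ 0 := by
      intro h
      have := hn 1 (by rw [h, pow_zero, Ideal.one_eq_top]; trivial)
      rw [one_smul] at this
      exact hx0 this
    obtain ⟨n', hn'⟩ := Nat.exists_eq_succ_of_ne_zero hn0
    have hmin : ¬ ∀ a ∈ maximalIdeal A ^ n', a • x = 0 :=
      Nat.find_min (htors x) (by omega)
    push Not at hmin
    obtain ⟨a, ha, hy0⟩ := hmin
    set y := a • x with hy
    have hyN : y ∈ N := N.smul_mem a hxN
    have hmy : ∀ b ∈ maximalIdeal A, b • y = 0 := by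
      intro b hb
      rw [hy, smul_smul]
      apply hn
      rw [hn', pow_succ']
      exact Ideal.mul_mem_mul hb ha
    let g : ResidueField A →ₗ[A] E :=
      Submodule.liftQ (maximalIdeal A) (LinearMap.toSpanSingleton A E y) (by
        intro b hb
        rw [LinearMap.mem_ker, LinearMap.toSpanSingleton_apply]
        exact hmy b hb)
    have hg1 : g 1 = y := by
      show LinearMap.toSpanSingleton A E y 1 = y
      simp
    have hgmem : g ∈ Submodule.span A {f} := by rw [hspan]; trivial
    obtain ⟨c, hc⟩ := Submodule.mem_span_singleton.mp hgmem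
    have hyf : y ∈ LinearMap.range f := by
      refine ⟨c • 1, ?_⟩
      rw [map_smul, ← hg1, ← hc]
      rfl
    intro hbot
    have : y ∈ N ⊓ LinearMap.range f := ⟨hyN, hyf⟩
    rw [hbot, Submodule.mem_bot] at this
    exact hy0 this



/-- Let A be a Noetherian local ring with residue field k. An A-module E is an injective hull of k if
and only if E is injective, E is m-power torsion, and Hom_A(k, E) is simple (one-dimensional over
k). (The torsion condition is needed: for a prime p ≠ m the module E(k) ⊕ E(A/p) is injective with
Hom_A(k, −) simple, represents the same functor on modules of finite length, and is not an injective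
hull of k; the published definition of a dualizing module leaves this condition implicit and the
published proof uses it.) -/
theorem result (A : Type u) [CommRing A] [IsLocalRing A] [IsNoetherianRing A] (E : Type u) [AddCommGroup E] [Module A E] : (∃ f : IsLocalRing.ResidueField A →ₗ[A] E, InjHull.IsInjectiveHull f) ↔ (Module.Injective A E ∧ LocCoh.IsPowerTorsion (IsLocalRing.maximalIdeal A) E ∧ IsSimpleModule A (IsLocalRing.ResidueField A →ₗ[A] E)) := by
  exact main A E

end Groth.Agent.S5155
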