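import Groth.Statements.S5156
import Mathlib
import Groth.Agent.S5155
import Groth.Agent.S5170
import Groth.Agent.S0316
import Groth.Agent.S0311
import Groth.Agent.Lib.Helper19.HullTools
import Groth.Agent.Lib.Helper19.ExtLen

set_option autoImplicit false
universe u
open Matlis

namespace Groth.Agent.S5156

-- MARK
section Aux
open IsLocalRing CategoryTheory Groth.Agent.Lib.helper19.HullTools Groth.Agent.Lib.helper19.ExtLen

variable (A B : Type u) [CommRing A] [CommRing B] [Algebra A B]
  (E : Type u) [AddCommGroup E] [Module A E]

/-- the coextension `Hom_A(B, E)` -/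
noncomputable abbrev C : ModuleCat.{u} B :=
  (ModuleCat.coextendScalars (algebraMap A B)).obj (ModuleCat.of A E)

theorem C_injective (hE : Module.Injective A E) : Module.Injective B (C A B E) := by
  have h2 : Injective (ModuleCat.of A E) := Module.injective_object_of_injective_module A E
  have h3 : Injective (C A B E) :=
    Injective.injective_of_adjoint (ModuleCat.restrictCoextendScalarsAdj (algebraMap A B))
      (ModuleCat.of A E)
  exact Module.injective_module_of_injective_object B (C A B E)

/-- build an element of `C` from an `A`-linear map `B → E` -/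
noncomputable def toC (l : B →ₗ[A] E) : C A B E :=
  (ModuleCat.CoextendScalars.equiv (algebraMap A B) (ModuleCat.of A E)).symm
    { toFun := fun x => l x
      map_add' := fun x y => l.map_add x y
      map_smul' := by
        intro c x
        change l (algebraMap A B c * (show B from x)) = c • l (show B from x)
        rw [← Algebra.smul_def, l.map_smul] }

theorem toC_apply (l : B →ₗ[A] E) (x : B) : (toC A B E l) x = l x := rfl

theorem smul_apply (b : B) (g : C A B E) (x : B) : (b • g) x = g (x * b) := rfl

theorem C_map_add (g : C A B E) (x y : B) : g (x + y) = g x + g y :=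
  (ModuleCat.CoextendScalars.equiv (algebraMap A B) (ModuleCat.of A E) g).map_add x y

theorem C_map_smul (g : C A B E) (c : A) (x : B) : g (c • x) = c • g x := by
  have := (ModuleCat.CoextendScalars.equiv (algebraMap A B) (ModuleCat.of A E) g).map_smul c x
  rw [Algebra.smul_def]
  exact this

theorem C_map_zero (g : C A B E) : g (0 : B) = 0 :=
  (ModuleCat.CoextendScalars.equiv (algebraMap A B) (ModuleCat.of A E) g).map_zero

theorem C_ext (g g' : C A B E) (h : ∀ x : B, g x = g' x) : g = g' :=
  ModuleCat.CoextendScalars.ext (LinearMap.ext h)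

theorem C_add_apply (g g' : C A B E) (x : B) : (g + g') x = g x + g' x := rfl
theorem C_zero_apply (x : B) : (0 : C A B E) x = 0 := rfl

section Local
variable [IsLocalRing A] [IsNoetherianRing A] [IsLocalRing B] [IsNoetherianRing B]
  [Module.Finite A B]

omit [IsNoetherianRing A] [IsNoetherianRing B] in
/-- the structure map of a finite local algebra is local -/
theorem algebraMap_mem (a : A) (ha : a ∈ maximalIdeal A) : algebraMap A B a ∈ maximalIdeal B := by
  by_contra hna
  have hu : IsUnit (algebraMap A B a) := by
    by_contra hnu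
    exact hna ((IsLocalRing.mem_maximalIdeal _).mpr hnu)
  have htop : (⊤ : Submodule A B) ≠ maximalIdeal A • ⊤ :=
    Submodule.top_ne_ideal_smul_of_le_jacobson_annihilator
      (IsLocalRing.maximalIdeal_le_jacobson _)
  apply htop
  symm
  rw [eq_top_iff]
  intro x _
  obtain ⟨u, hu'⟩ := hu
  have : x = a • ((↑u⁻¹ : B) * x) := by
    rw [Algebra.smul_def, ← hu', ← mul_assoc, Units.mul_inv, one_mul]
  rw [this]
  exact Submodule.smul_mem_smul ha Submodule.mem_top

/-- `B ⧸ m_A^t B` has finite length over `B` -/
theorem isFiniteLength_quot_map (t : ℕ) :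
    IsFiniteLength B (B ⧸ (maximalIdeal A ^ t).map (algebraMap A B)) := by
  set 𝔟 : Ideal B := (maximalIdeal A ^ t).map (algebraMap A B) with h𝔟
  rw [isFiniteLength_iff_isNoetherian_isArtinian]
  refine ⟨inferInstance, ?_⟩
  have h1 := Groth.Agent.S0316.isFiniteLength_quot (R := A) B t
  rw [isFiniteLength_iff_isNoetherian_isArtinian] at h1
  have h2 : (maximalIdeal A ^ t • (⊤ : Submodule A B)) = 𝔟.restrictScalars A :=
    Ideal.smul_top_eq_map _
  have e : (B ⧸ (maximalIdeal A ^ t • (⊤ : Submodule A B))) ≃ₗ[A] (B ⧸ 𝔟) :=
    (Submodule.quotEquivOfEq _ _ h2).trans (Submodule.Quotient.restrictScalarsEquiv A 𝔟)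
  have h3 : IsArtinian A (B ⧸ 𝔟) := by
    have := h1.2
    exact isArtinian_of_linearEquiv e
  exact isArtinian_of_tower A h3

/-- `Hom_A(B, E)` is `m_B`-power torsion when `E` is `m_A`-power torsion -/
theorem C_powerTorsion (hE : LocCoh.IsPowerTorsion (maximalIdeal A) E) :
    LocCoh.IsPowerTorsion (maximalIdeal B) (C A B E) := by
  intro g
  -- a uniform exponent on the generators
  have hex : ∀ s : Finset B, ∃ t : ℕ, ∀ b ∈ s, ∀ a ∈ maximalIdeal A ^ t, a • g b = 0 := by
    classical
    intro s
    induction s using Finset.induction_on with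
    | empty => exact ⟨0, fun b hb => absurd hb (Finset.notMem_empty b)⟩
    | insert b s hb ih =>
      obtain ⟨t, ht⟩ := ih
      obtain ⟨t', ht'⟩ := hE (g b)
      refine ⟨max t t', fun c hc a ha => ?_⟩
      rcases Finset.mem_insert.mp hc with rfl | hc
      · exact ht' a (Ideal.pow_le_pow_right (le_max_right t t') ha)
      · exact ht c hc a (Ideal.pow_le_pow_right (le_max_left t t') ha)
  obtain ⟨s, hs⟩ := (Module.Finite.fg_top : (⊤ : Submodule A B).FG)
  obtain ⟨t, ht⟩ := hex s
  have hall : ∀ a ∈ maximalIdeal A ^ t, ∀ x : B, a • g x = 0 := by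
    intro a ha x
    have hx : x ∈ Submodule.span A (s : Set B) := by rw [hs]; trivial
    induction hx using Submodule.span_induction with
    | mem x hx => exact ht x hx a ha
    | zero => rw [C_map_zero, smul_zero]
    | add x y _ _ hx hy => rw [C_map_add, smul_add, hx, hy, add_zero]
    | smul c x _ hx => rw [C_map_smul, smul_comm, hx, smul_zero]
  set 𝔟 : Ideal B := (maximalIdeal A ^ t).map (algebraMap A B) with h𝔟
  have hkill : 𝔟 ≤ LinearMap.ker (LinearMap.toSpanSingleton B (C A B E) g) := by
    rw [h𝔟, Ideal.map_le_iff_le_comap]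
    intro a ha
    rw [Ideal.mem_comap, LinearMap.mem_ker, LinearMap.toSpanSingleton_apply]
    apply C_ext
    intro x
    rw [smul_apply, C_zero_apply, mul_comm, ← Algebra.smul_def, C_map_smul]
    exact hall a ha x
  obtain ⟨N, hN⟩ := exists_kill_of_isFiniteLength (B ⧸ 𝔟) (isFiniteLength_quot_map A B t)
  refine ⟨N, fun c hc => ?_⟩
  have h1 := hN c hc (Ideal.Quotient.mk 𝔟 1)
  have h2 : c ∈ 𝔟 := by
    rw [← Ideal.Quotient.eq_zero_iff_mem]
    have : c • (Ideal.Quotient.mk 𝔟 1) = Ideal.Quotient.mk 𝔟 c := by
      rw [Algebra.smul_def, Ideal.Quotient.algebraMap_eq, ← map_mul, mul_one]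
    rw [← this]; exact h1
  have := hkill h2
  rwa [LinearMap.mem_ker, LinearMap.toSpanSingleton_apply] at this

/-- the residue field of `B` has finite length over `A` -/
theorem isFiniteLength_residueField : IsFiniteLength A (ResidueField B) := by
  have h1 := Groth.Agent.S0316.isFiniteLength_quot (R := A) (ResidueField B) 1
  have h2 : (maximalIdeal A ^ 1 • (⊤ : Submodule A (ResidueField B))) = ⊥ := by
    rw [pow_one, eq_bot_iff, Submodule.smul_le]
    intro a ha y _
    rw [Submodule.mem_bot]
    obtain ⟨b, rfl⟩ := residue_surjective y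
    rw [← algebraMap_smul B a (residue B b), Algebra.smul_def]
    have : algebraMap B (ResidueField B) (algebraMap A B a) = 0 :=
      (residue_eq_zero_iff _).mpr (algebraMap_mem A B a ha)
    rw [this, zero_mul]
  exact IsFiniteLength.of_injective h1 (Submodule.quotEquivOfEqBot _ h2).symm.injective

/-- `φ ↦ (y ↦ φ y 1)` -/
noncomputable def lam (φ : ResidueField B →ₗ[B] C A B E) : ResidueField B →ₗ[A] E where
  toFun y := (φ y) (1 : B)
  map_add' y z := by rw [map_add]; rfl
  map_smul' a y := by
    rw [← algebraMap_smul B a y, map_smul, smul_apply, RingHom.id_apply, one_mul,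
      ← mul_one (algebraMap A B a), ← Algebra.smul_def, C_map_smul]

theorem lam_apply (φ : ResidueField B →ₗ[B] C A B E) (y : ResidueField B) :
    lam A B E φ y = (φ y) (1 : B) := rfl

theorem apply_eq (φ : ResidueField B →ₗ[B] C A B E) (y : ResidueField B) (x : B) :
    (φ y) x = lam A B E φ (x • y) := by
  rw [lam_apply, map_smul, smul_apply, one_mul]

theorem eq_zero_of_lam_eq_zero (φ : ResidueField B →ₗ[B] C A B E) (h : lam A B E φ = 0) :
    φ = 0 := by
  apply LinearMap.ext
  intro y
  apply C_ext
  intro x
  rw [apply_eq, h]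
  rfl

theorem lam_smul (b : B) (φ : ResidueField B →ₗ[B] C A B E) (z : ResidueField B) :
    lam A B E (b • φ) z = lam A B E φ (b • z) := by
  rw [lam_apply, LinearMap.smul_apply, smul_apply, one_mul, apply_eq]

theorem lam_sub (φ φ' : ResidueField B →ₗ[B] C A B E) :
    lam A B E (φ - φ') = lam A B E φ - lam A B E φ' := by
  apply LinearMap.ext
  intro z
  rfl

/-- a form on the residue field gives a map `k_B → C` -/
noncomputable def Ψ (w : ResidueField B →ₗ[A] E) : ResidueField B →ₗ[B] C A B E where
  toFun y := toC A B E (w ∘ₗ (LinearMap.mul A (ResidueField B) y) ∘ₗ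
      (IsScalarTower.toAlgHom A B (ResidueField B)).toLinearMap)
  map_add' y z := by
    apply C_ext
    intro x
    change w ((y + z) * residue B x) = w (y * residue B x) + w (z * residue B x)
    rw [add_mul, map_add]
  map_smul' b y := by
    apply C_ext
    intro x
    change w ((b • y) * residue B x) = w (y * residue B (x * b))
    have : (b • y) * residue B x = y * residue B (x * b) := by
      rw [Algebra.smul_def, (residue B).map_mul]
      show residue B b * y * residue B x = y * (residue B x * residue B b)
      ring
    rw [this]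

theorem lam_Ψ (w : ResidueField B →ₗ[A] E) : lam A B E (Ψ A B E w) = w := by
  apply LinearMap.ext
  intro y
  change w (y * residue B 1) = w y
  rw [map_one, mul_one]

variable (f : ResidueField A →ₗ[A] E) (hf : InjHull.IsInjectiveHull f)

include hf in
theorem isSimple : IsSimpleModule B (ResidueField B →ₗ[B] C A B E) := by
  rw [isSimpleModule_iff_toSpanSingleton_surjective]
  have hK := isFiniteLength_residueField A B
  have hlen := Groth.Agent.S5170.result A E f hf (ResidueField B) hK
  have hne : Module.length A (ResidueField B) ≠ ⊤ := Module.length_ne_top_iff.mpr hK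
  refine ⟨?_, ?_⟩
  · -- nontrivial
    have hW : Nontrivial (ResidueField B →ₗ[A] E) := by
      by_contra hW
      rw [not_nontrivial_iff_subsingleton] at hW
      have h0 : Module.length A (ResidueField B →ₗ[A] E) = 0 :=
        Module.length_eq_zero_iff.mpr hW
      rw [hlen, Module.length_eq_zero_iff] at h0
      exact not_subsingleton _ h0
    obtain ⟨w, hw⟩ := exists_ne (0 : ResidueField B →ₗ[A] E)
    refine ⟨⟨Ψ A B E w, 0, fun h => hw ?_⟩⟩
    rw [← lam_Ψ A B E w, h]
    rfl
  · intro φ hφ φ'
    set w := lam A B E φ with hw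
    have hw0 : w ≠ 0 := fun h => hφ (eq_zero_of_lam_eq_zero A B E φ h)
    let T : ResidueField B →ₗ[A] (ResidueField B →ₗ[A] E) :=
      (LinearMap.compRight A w) ∘ₗ (LinearMap.mul A (ResidueField B))
    have hT : ∀ y z, T y z = w (y * z) := fun y z => rfl
    have hTinj : Function.Injective T := by
      rw [injective_iff_map_eq_zero]
      intro y hy
      by_contra hy0
      apply hw0
      apply LinearMap.ext
      intro z
      have h1 : w z = T y (y⁻¹ * z) := by
        rw [hT, ← mul_assoc, mul_inv_cancel₀ hy0, one_mul]
      rw [h1, hy]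
      rfl
    have hTsurj := surjective_of_injective_of_length_eq T hTinj (by rw [hlen]; exact hne) hlen.symm
    obtain ⟨y, hy⟩ := hTsurj (lam A B E φ')
    obtain ⟨b, rfl⟩ := residue_surjective y
    refine ⟨b, ?_⟩
    rw [LinearMap.toSpanSingleton_apply]
    have h2 : b • φ - φ' = 0 := by
      apply eq_zero_of_lam_eq_zero
      rw [lam_sub, sub_eq_zero]
      apply LinearMap.ext
      intro z
      rw [lam_smul, ← hy, hT, ← hw, Algebra.smul_def]
      rfl
    exact sub_eq_zero.mp h2

end Local

end Aux

open IsLocalRing in


/-- Let A and B be Noetherian local rings with B a finite A-algebra, and E an injective hull of the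
residue field of A (a dualizing module for A). Then Hom_A(B, E), as a B-module through the action on
the source, is an injective hull of the residue field of B (a dualizing module for B). -/
theorem result (A B : Type u) [CommRing A] [IsLocalRing A] [IsNoetherianRing A] [CommRing B] [IsLocalRing B] [IsNoetherianRing B] [Algebra A B] [Module.Finite A B] (E : Type u) [AddCommGroup E] [Module A E] (f : IsLocalRing.ResidueField A →ₗ[A] E) (hf : InjHull.IsInjectiveHull f) : ∃ g : IsLocalRing.ResidueField B →ₗ[B] (ModuleCat.coextendScalars (algebraMap A B)).obj (ModuleCat.of A E), InjHull.IsInjectiveHull g := by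
  rw [Groth.Agent.S5155.result]
  exact ⟨C_injective A B E hf.isInjective,
    C_powerTorsion A B E (Groth.Agent.S0311.result A E f hf), isSimple A B E f hf⟩

end Groth.Agent.S5156
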