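import Mathlib
import Groth.Prelude.Def_Koszul
import Groth.Prelude.Def_LCI2
/-!
# Flat base change of Koszul-regular sequences (helper29)

`isKoszulRegularSeq_map_of_flat`: for a flat ring map `φ : A →+* A'` and a Koszul-regular
sequence `l` in `A`, the sequence `l.map φ` is Koszul-regular in `A'`.
-/

set_option autoImplicit false
universe u

namespace Groth.Agent.LibKoszulFlat29

open CategoryTheory CategoryTheory.Limits CochainComplex ChangeOfRings

variable {A A' : Type u} [CommRing A] [CommRing A'] (φ : A →+* A')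

instance : (ModuleCat.extendScalars.{u, u, u} φ).Additive where
  map_add {M N f g} := by
    apply ModuleCat.ExtendScalars.hom_ext
    intro m
    let _ := Module.compHom A' φ
    change (1 : A') ⊗ₜ[A] ((f + g) m) = (1 : A') ⊗ₜ[A] (f m) + (1 : A') ⊗ₜ[A] (g m)
    rw [← TensorProduct.tmul_add]
    rfl

theorem extendScalars_map_smul {M N : ModuleCat.{u} A} (a : A) (f : M ⟶ N) :
    (ModuleCat.extendScalars.{u, u, u} φ).map (a • f) =
      φ a • (ModuleCat.extendScalars.{u, u, u} φ).map f := by
  apply ModuleCat.ExtendScalars.hom_ext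
  intro m
  let _ := Module.compHom A' φ
  change (1 : A') ⊗ₜ[A] (a • f m) = (φ a * 1) ⊗ₜ[A] (f m)
  rw [← TensorProduct.smul_tmul]
  rfl

section Cone

variable {C : Type*} [Category C] [Preadditive C] [HasBinaryBiproducts C]
  {K₁ L₁ K₂ L₂ : CochainComplex C ℤ}

/-- isomorphic arrows of cochain complexes have isomorphic mapping cones. -/
noncomputable def coneIso (φ₁ : K₁ ⟶ L₁) (φ₂ : K₂ ⟶ L₂) (a : K₁ ≅ K₂) (b : L₁ ≅ L₂)
    (comm : φ₁ ≫ b.hom = a.hom ≫ φ₂) : mappingCone φ₁ ≅ mappingCone φ₂ where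
  hom := mappingCone.map φ₁ φ₂ a.hom b.hom comm
  inv := mappingCone.map φ₂ φ₁ a.inv b.inv (by
    rw [← cancel_mono b.hom, Category.assoc, Category.assoc, b.inv_hom_id, Category.comp_id, comm,
      a.inv_hom_id_assoc])
  hom_inv_id := by
    rw [← mappingCone.map_comp]
    simp only [Iso.hom_inv_id]
    exact mappingCone.map_id φ₁
  inv_hom_id := by
    rw [← mappingCone.map_comp]
    simp only [Iso.inv_hom_id]
    exact mappingCone.map_id φ₂

end Cone

/-- the functor on complexes -/
noncomputable abbrev FC : CochainComplex (ModuleCat.{u} A) ℤ ⥤ CochainComplex (ModuleCat.{u} A') ℤ :=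
  (ModuleCat.extendScalars.{u, u, u} φ).mapHomologicalComplex (ComplexShape.up ℤ)

theorem FC_map_smul_id (a : A) (K : CochainComplex (ModuleCat.{u} A) ℤ) :
    (FC φ).map (a • 𝟙 K) = φ a • 𝟙 ((FC φ).obj K) := by
  ext n : 1
  change (ModuleCat.extendScalars.{u, u, u} φ).map (a • 𝟙 (K.X n)) =
    φ a • 𝟙 ((ModuleCat.extendScalars.{u, u, u} φ).obj (K.X n))
  rw [extendScalars_map_smul, CategoryTheory.Functor.map_id]

noncomputable def baseIso :
    (ModuleCat.extendScalars.{u, u, u} φ).obj (ModuleCat.of A A) ≅ ModuleCat.of A' A' := by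
  letI := φ.toAlgebra
  exact (TensorProduct.AlgebraTensorModule.rid A A' A').toModuleIso

theorem nonempty_koszul_iso : ∀ l : List A,
    Nonempty ((FC φ).obj (Koszul.koszul A l) ≅ Koszul.koszul A' (l.map φ))
  | [] => ⟨(HomologicalComplex.singleMapHomologicalComplex (ModuleCat.extendScalars.{u, u, u} φ)
      (ComplexShape.up ℤ) 0).app (ModuleCat.of A A) ≪≫
        (HomologicalComplex.single _ _ 0).mapIso (baseIso φ)⟩
  | f :: l => by
    obtain ⟨e⟩ := nonempty_koszul_iso l
    refine ⟨mappingCone.mapHomologicalComplexIso (f • 𝟙 (Koszul.koszul A l))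
      (ModuleCat.extendScalars.{u, u, u} φ) ≪≫ coneIso _ _ e e ?_⟩
    rw [FC_map_smul_id]
    simp only [Linear.smul_comp, Linear.comp_smul, Category.id_comp, Category.comp_id]

theorem isKoszulRegularSeq_map_of_flat (hφ : φ.Flat) (l : List A)
    (h : LCI.IsKoszulRegularSeq A l) : LCI.IsKoszulRegularSeq A' (l.map φ) := by
  intro i hi
  have := ModuleCat.preservesFiniteLimits_extendScalars_of_flat hφ
  have h1 : (Koszul.koszul A l).ExactAt i :=
    (HomologicalComplex.exactAt_iff_isZero_homology _ _).mpr (h i hi)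
  have h2 : ((FC φ).obj (Koszul.koszul A l)).ExactAt i :=
    ShortComplex.Exact.map h1 (ModuleCat.extendScalars.{u, u, u} φ)
  obtain ⟨e⟩ := nonempty_koszul_iso φ l
  exact (h2.of_iso e).isZero_homology

end Groth.Agent.LibKoszulFlat29
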