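import Mathlib
import Groth.Prelude.Def_Koszul
import Groth.Prelude.Def_LCI2
import Groth.Agent.LibKoszulFlat29
import Groth.Agent.Lib.Helper7.KoszulLow

/-!
# Composition of Koszul-regular sequences (helper29)

`isKoszulRegularSeq_append`: if `fs` is Koszul-regular in `A` and the image of `gs` is
Koszul-regular in `A ⧸ (fs)`, then `gs ++ fs` is Koszul-regular in `A`.
-/

set_option autoImplicit false
universe u

namespace Groth.Agent.LibKoszulComp29

open CategoryTheory CategoryTheory.Limits CochainComplex

attribute [local instance] HasDerivedCategory.standard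

section Cone

variable {C : Type*} [Category C] [Abelian C] [HasDerivedCategory C]
  {K₁ L₁ K₂ L₂ : CochainComplex C ℤ}

/-- the map induced on mapping cones by a pair of quasi-isomorphisms is a quasi-isomorphism. -/
theorem quasiIso_mappingCone_map (φ₁ : K₁ ⟶ L₁) (φ₂ : K₂ ⟶ L₂) (a : K₁ ⟶ K₂) (b : L₁ ⟶ L₂)
    (comm : φ₁ ≫ b = a ≫ φ₂) [QuasiIso a] [QuasiIso b] :
    QuasiIso (mappingCone.map φ₁ φ₂ a b comm) := by
  rw [← DerivedCategory.isIso_Q_map_iff_quasiIso]
  have h1 := DerivedCategory.mappingCone_triangle_distinguished φ₁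
  have h2 := DerivedCategory.mappingCone_triangle_distinguished φ₂
  let T := DerivedCategory.Q.mapTriangle.map (mappingCone.triangleMap φ₁ φ₂ a b comm)
  have i1 : IsIso T.hom₁ := (DerivedCategory.isIso_Q_map_iff_quasiIso (φ := a)).mpr inferInstance
  have i2 : IsIso T.hom₂ := (DerivedCategory.isIso_Q_map_iff_quasiIso (φ := b)).mpr inferInstance
  exact Pretriangulated.isIso₃_of_isIso₁₂ T h1 h2 i1 i2

end Cone

section Aug

variable {A : Type u} [CommRing A]

/-- a complex with `K¹ = 0`, homology concentrated in degree `0`, together with a surjection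
`K⁰ → M` with kernel the image of `d`, is quasi-isomorphic to `M[0]`. -/
theorem quasiIso_mkHomToSingle (K : CochainComplex (ModuleCat.{u} A) ℤ) (M : ModuleCat.{u} A)
    (φ : K.X 0 ⟶ M) (hφ : ∀ i : ℤ, (ComplexShape.up ℤ).Rel i 0 → K.d i 0 ≫ φ = 0)
    (h1 : Subsingleton (K.X 1)) (hsurj : Function.Surjective φ.hom)
    (hker : ∀ z : K.X 0, φ.hom z = 0 → ∃ x : K.X (-1), (K.d (-1) 0).hom x = z)
    (hex : ∀ i : ℤ, i ≠ 0 → K.ExactAt i) :
    QuasiIso (HomologicalComplex.mkHomToSingle φ hφ) := by
  rw [quasiIso_iff]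
  intro i
  by_cases hi : i = 0
  · subst hi
    rw [quasiIsoAt_iff' _ (-1) 0 1 (by simp) (by simp),
      ShortComplex.quasiIso_iff_of_zeros']
    · constructor
      · rw [ShortComplex.moduleCat_exact_iff]
        intro z hz
        change ((HomologicalComplex.mkHomToSingle φ hφ).f 0).hom z = 0 at hz
        change ∃ x : K.X (-1), (K.d (-1) 0).hom x = z
        rw [HomologicalComplex.mkHomToSingle_f] at hz
        have hz' : φ.hom z = 0 := by
          have := congrArg (HomologicalComplex.singleObjXSelf (ComplexShape.up ℤ) 0 M).hom.hom hz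
          simpa using this
        exact hker z hz'
      · change Epi ((HomologicalComplex.mkHomToSingle φ hφ).f 0)
        rw [HomologicalComplex.mkHomToSingle_f, ModuleCat.epi_iff_surjective]
        have : Function.Surjective
            (HomologicalComplex.singleObjXSelf (ComplexShape.up ℤ) 0 M).inv.hom :=
          (HomologicalComplex.singleObjXSelf (ComplexShape.up ℤ) 0
            M).symm.toLinearEquiv.surjective
        exact this.comp hsurj
    · change K.d 0 1 = 0
      apply ModuleCat.hom_ext
      ext x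
      exact Subsingleton.elim _ _
    · change ((HomologicalComplex.single (ModuleCat.{u} A) (ComplexShape.up ℤ) 0).obj M).d (-1) 0 = 0
      simp
    · change ((HomologicalComplex.single (ModuleCat.{u} A) (ComplexShape.up ℤ) 0).obj M).d 0 1 = 0
      simp
  · rw [quasiIsoAt_iff_exactAt _ _ (hex i hi)]
    exact HomologicalComplex.exactAt_single_obj _ _ _ _ hi

end Aug

section Restrict

variable {A B : Type u} [CommRing A] [CommRing B] (π : A →+* B)

/-- restriction of scalars on complexes -/
noncomputable abbrev RC :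
    CochainComplex (ModuleCat.{u} B) ℤ ⥤ CochainComplex (ModuleCat.{u} A) ℤ :=
  (ModuleCat.restrictScalars.{u} π).mapHomologicalComplex (ComplexShape.up ℤ)

theorem restrictScalars_map_smul {M N : ModuleCat.{u} B} (a : A) (f : M ⟶ N) :
    (ModuleCat.restrictScalars.{u} π).map (π a • f) =
      a • (ModuleCat.restrictScalars.{u} π).map f := by
  apply ModuleCat.hom_ext
  ext m
  rfl

theorem RC_map_smul_id (a : A) (K : CochainComplex (ModuleCat.{u} B) ℤ) :
    (RC π).map (π a • 𝟙 K) = a • 𝟙 ((RC π).obj K) := by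
  ext n : 1
  change (ModuleCat.restrictScalars.{u} π).map (π a • 𝟙 (K.X n)) =
    a • 𝟙 ((ModuleCat.restrictScalars.{u} π).obj (K.X n))
  rw [restrictScalars_map_smul, CategoryTheory.Functor.map_id]

/-- `B` as an `A`-module. -/
noncomputable def Mod : ModuleCat.{u} A :=
  (ModuleCat.restrictScalars.{u} π).obj (ModuleCat.of B B)

/-- the `A`-linear map `A → B`. -/
noncomputable def qlin : A →ₗ[A] (Mod π) where
  toFun a := (π a : B)
  map_add' := map_add π
  map_smul' r a := by
    change π (r * a) = π r * π a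
    exact map_mul π r a

theorem qlin_apply (a : A) : qlin π a = (π a : B) := rfl

variable {π}

theorem exists_quasiIso_base (hπ : Function.Surjective π) (fs : List A)
    (hker : RingHom.ker π = Ideal.ofList fs) (hfs : LCI.IsKoszulRegularSeq A fs) :
    ∃ Φ : Koszul.koszul A fs ⟶ (RC π).obj (Koszul.koszul B []), QuasiIso Φ := by
  classical
  let LD := Groth.Agent.Lib.helper7.KoszulLow.lowData A fs
  let K := Koszul.koszul A fs
  let φ : K.X 0 ⟶ Mod π :=
    ModuleCat.ofHom (X := K.X 0) (Y := Mod π) ((qlin π).comp LD.e0.toLinearMap)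
  have hφapp : ∀ z : K.X 0, φ.hom z = (π (LD.e0 z) : B) := fun z => rfl
  have hfsker : ∀ i : Fin fs.length, π (fs.get i) = 0 := by
    intro i
    have : fs.get i ∈ RingHom.ker π := by
      rw [hker]
      exact Ideal.subset_span (List.get_mem fs i)
    exact this
  have hφ : ∀ i : ℤ, (ComplexShape.up ℤ).Rel i 0 → K.d i 0 ≫ φ = 0 := by
    intro i hi
    obtain rfl : i = -1 := by
      simp only [ComplexShape.up_Rel] at hi
      omega
    apply ModuleCat.hom_ext
    ext x
    change φ.hom ((K.d (-1) 0).hom x) = 0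
    rw [hφapp]
    change π (LD.e0 ((K.d (-1) 0).hom x)) = 0
    rw [LD.hd1, map_sum]
    refine Finset.sum_eq_zero fun i _ => ?_
    rw [map_mul, hfsker, mul_zero]
  have hq : QuasiIso (HomologicalComplex.mkHomToSingle φ hφ) := by
    refine quasiIso_mkHomToSingle K (Mod π) φ hφ (LD.zero_pos 1 one_pos) ?_ ?_ ?_
    · intro b
      obtain ⟨a, rfl⟩ := hπ b
      exact ⟨LD.e0.symm a, by
        rw [hφapp, LinearEquiv.apply_symm_apply]⟩
    · intro z hz
      have hz' : LD.e0 z ∈ Ideal.ofList fs := by
        rw [← hker, RingHom.mem_ker]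
        rw [hφapp] at hz
        exact hz
      have hspan : Ideal.ofList fs = Ideal.span (Set.range fs.get) := by
        have : {r | r ∈ fs} = Set.range fs.get := by
          ext r
          exact List.mem_iff_get
        change Ideal.span {r | r ∈ fs} = _
        rw [this]
      rw [hspan] at hz'
      obtain ⟨c, hc⟩ := Ideal.mem_span_range_iff_exists_fun.mp hz'
      refine ⟨LD.e1.symm c, LD.e0.injective ?_⟩
      rw [LD.hd1, LinearEquiv.apply_symm_apply, ← hc]
    · intro i hi
      exact (HomologicalComplex.exactAt_iff_isZero_homology _ _).mpr (hfs i hi)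
  refine ⟨HomologicalComplex.mkHomToSingle φ hφ ≫
    ((HomologicalComplex.singleMapHomologicalComplex (ModuleCat.restrictScalars.{u} π)
      (ComplexShape.up ℤ) 0).app (ModuleCat.of B B)).inv, ?_⟩
  infer_instance

theorem exists_quasiIso (hπ : Function.Surjective π) (fs : List A)
    (hker : RingHom.ker π = Ideal.ofList fs) (hfs : LCI.IsKoszulRegularSeq A fs) :
    ∀ l : List A, ∃ Φ : Koszul.koszul A (l ++ fs) ⟶ (RC π).obj (Koszul.koszul B (l.map π)),
      QuasiIso Φ
  | [] => exists_quasiIso_base hπ fs hker hfs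
  | g :: l => by
    obtain ⟨Φ, hΦ⟩ := exists_quasiIso hπ fs hker hfs l
    have comm : (g • 𝟙 (Koszul.koszul A (l ++ fs))) ≫ Φ =
        Φ ≫ (g • 𝟙 ((RC π).obj (Koszul.koszul B (l.map π)))) := by
      simp only [Linear.smul_comp, Linear.comp_smul, Category.id_comp, Category.comp_id]
    have comm2 : (g • 𝟙 ((RC π).obj (Koszul.koszul B (l.map π)))) ≫ (Iso.refl _).hom =
        (Iso.refl _).hom ≫ (RC π).map (π g • 𝟙 (Koszul.koszul B (l.map π))) := by
      rw [RC_map_smul_id]
      simp only [Iso.refl_hom, Category.id_comp, Category.comp_id]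
    have hq := quasiIso_mappingCone_map _ _ Φ Φ comm
    let β := (Groth.Agent.LibKoszulFlat29.coneIso _ _ (Iso.refl _) (Iso.refl _) comm2).hom ≫
      (mappingCone.mapHomologicalComplexIso (π g • 𝟙 (Koszul.koszul B (l.map π)))
        (ModuleCat.restrictScalars.{u} π)).inv
    have hβ : IsIso β := inferInstance
    have hβ' : QuasiIso β := inferInstance
    exact ⟨mappingCone.map _ _ Φ Φ comm ≫ β, quasiIso_comp _ _ (hφ := hq) (hφ' := hβ')⟩

/-- **Composition of Koszul-regular sequences.** -/
theorem isKoszulRegularSeq_append (hπ : Function.Surjective π) (fs gs : List A)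
    (hker : RingHom.ker π = Ideal.ofList fs) (hfs : LCI.IsKoszulRegularSeq A fs)
    (hgs : LCI.IsKoszulRegularSeq B (gs.map π)) : LCI.IsKoszulRegularSeq A (gs ++ fs) := by
  intro i hi
  obtain ⟨Φ, hΦ⟩ := exists_quasiIso hπ fs hker hfs gs
  have h1 : (Koszul.koszul B (gs.map π)).ExactAt i :=
    (HomologicalComplex.exactAt_iff_isZero_homology _ _).mpr (hgs i hi)
  have h2 : ((RC π).obj (Koszul.koszul B (gs.map π))).ExactAt i :=
    ShortComplex.Exact.map h1 (ModuleCat.restrictScalars.{u} π)
  have h3 : QuasiIsoAt Φ i := inferInstance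
  rw [quasiIsoAt_iff_exactAt' _ _ h2] at h3
  exact h3.isZero_homology

end Restrict

end Groth.Agent.LibKoszulComp29
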