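import Groth.Statements.S14433
import Mathlib

set_option autoImplicit false
universe u
open Koszul3

namespace Groth.Agent.S14433

open CategoryTheory CategoryTheory.Limits CochainComplex HomComplex

section General

variable {R : Type u} [CommRing R] {C : Type*} [Category C] [Preadditive C] [Linear R C]
  [HasBinaryBiproducts C]

omit [HasBinaryBiproducts C] in
theorem ofHom_smul {F G : CochainComplex C ℤ} (a : R) (g : F ⟶ G) :
    Cochain.ofHom (a • g) = a • Cochain.ofHom g := by
  ext p
  simp

/-- (A) multiplication by `f` on the cone of `f • 𝟙` is null-homotopic. -/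
noncomputable def homotopyConeSelf (K : CochainComplex C ℤ) (f : R) :
    Homotopy (f • 𝟙 (mappingCone (f • 𝟙 K))) 0 :=
  mappingCone.descHomotopy (f • 𝟙 K) _ _ 0 (mappingCone.inl (f • 𝟙 K))
    (by
      simp only [ofHom_smul, δ_zero, zero_add, Cochain.ofHom_zero, Cochain.comp_zero, add_zero,
        Cochain.comp_smul, Cochain.smul_comp, Cochain.comp_id, Cochain.id_comp])
    (by
      simp only [mappingCone.δ_inl, Linear.comp_smul, Linear.smul_comp, Category.comp_id,
        Category.id_comp, comp_zero, Cochain.ofHom_zero, add_zero])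

/-- (B) a null-homotopy of `a • 𝟙` on `K` extends to the cone of `f • 𝟙 K`. -/
noncomputable def homotopyConeOfHomotopy (K : CochainComplex C ℤ) (f a : R)
    (h : Homotopy (a • 𝟙 K) 0) :
    Homotopy (a • 𝟙 (mappingCone (f • 𝟙 K))) 0 :=
  let z := Cochain.equivHomotopy _ _ h
  mappingCone.descHomotopy (f • 𝟙 K) _ _
    (-(z.1.comp (mappingCone.inl (f • 𝟙 K)) (by norm_num : (-1 : ℤ) + (-1) = -2)))
    (z.1.comp (Cochain.ofHom (mappingCone.inr (f • 𝟙 K))) (add_zero (-1)))
    (by
      have hz : Cochain.ofHom (a • 𝟙 K) = δ (-1) 0 z.1 := by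
        have := z.2
        simpa using this
      rw [δ_neg, δ_comp z.1 (mappingCone.inl (f • 𝟙 K)) (by norm_num : (-1 : ℤ) + (-1) = -2)
        0 0 (-1) (by norm_num) (by norm_num) (by norm_num), ← hz, mappingCone.δ_inl]
      simp only [ofHom_smul, Linear.smul_comp, Category.id_comp, Cochain.comp_smul,
        Cochain.smul_comp, Cochain.id_comp, Cochain.comp_id, Cochain.ofHom_zero, Cochain.comp_zero,
        add_zero, Int.negOnePow_neg, Int.negOnePow_one, Units.neg_smul, one_smul, neg_add_rev,
        neg_neg]
      abel)
    (by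
      have hz : Cochain.ofHom (a • 𝟙 K) = δ (-1) 0 z.1 := by
        have := z.2
        simpa using this
      rw [δ_comp_zero_cochain _ _ _ (by norm_num : (-1 : ℤ) + 1 = 0), ← hz]
      simp [ofHom_smul])

omit [HasBinaryBiproducts C] in
/-- The elements `a` with `a • 𝟙 K` null-homotopic form an ideal. -/
theorem mem_span_induction (K : CochainComplex C ℤ) (s : Set R)
    (hs : ∀ x ∈ s, Nonempty (Homotopy (x • 𝟙 K) 0)) (a : R) (ha : a ∈ Ideal.span s) :
    Nonempty (Homotopy (a • 𝟙 K) 0) := by
  induction ha using Submodule.span_induction with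
  | mem x hx => exact hs x hx
  | zero => exact ⟨Homotopy.ofEq (zero_smul _ _)⟩
  | add x y _ _ hx hy =>
    obtain ⟨hx⟩ := hx
    obtain ⟨hy⟩ := hy
    exact ⟨(Homotopy.ofEq (add_smul x y (𝟙 K))).trans
      ((hx.add hy).trans (Homotopy.ofEq (add_zero _)))⟩
  | smul r x _ hx =>
    obtain ⟨hx⟩ := hx
    exact ⟨(Homotopy.ofEq (by rw [smul_eq_mul, mul_smul])).trans
      ((hx.smul r).trans (Homotopy.ofEq (smul_zero _)))⟩

end General


open CategoryTheory CategoryTheory.Limits in
/-- Let R be a commutative ring, M an R-module, x = (x_1, …, x_n) elements of R and a an element of the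
ideal (x_1, …, x_n). Then multiplication by a on the Koszul complex K(x; M) is homotopic to the zero
map (so a annihilates every Koszul cohomology module, and K(x; M) is exact when the x_i generate the
unit ideal). (The published statement is for the Koszul complex of a linear form φ : E → R and a ∈
φ(E); stated here for E free of finite rank, with the Koszul complex realised by iterated mapping
cones as in the prelude, which is isomorphic to the exterior-algebra complex.) -/
theorem result {R : Type u} [CommRing R] (M : Type u) [AddCommGroup M] [Module R M]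
    (xs : List R) (a : R) (ha : a ∈ Ideal.span {x | x ∈ xs}) :
    Nonempty (Homotopy (a • 𝟙 (CohIII.koszulCx (ModuleCat.of R M) xs)) 0) := by
  induction xs generalizing a with
  | nil =>
    have : a = 0 := by simpa using ha
    subst this
    exact ⟨Homotopy.ofEq (zero_smul _ _)⟩
  | cons f fs ih =>
    refine mem_span_induction _ {x | x ∈ f :: fs} ?_ a ha
    intro x hx
    rcases List.mem_cons.mp hx with rfl | hx
    · exact ⟨homotopyConeSelf _ x⟩
    · obtain ⟨h⟩ := ih x (Ideal.subset_span hx)
      exact ⟨homotopyConeOfHomotopy _ f x h⟩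

end Groth.Agent.S14433
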