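import Mathlib
import Groth.Prelude.Def_LCI2
import Groth.Agent.S14433
import Groth.Agent.Lib.Helper26.Kos9
import Groth.Agent.Lib.Helper26.Kos12
import Groth.Agent.Lib.Helper26.Kos14
import Groth.Agent.Lib.Helper7.KoszulLow

/-!
# Koszul-regularity is independent of the choice of generators (helper29)

Main result `isKoszulRegularSeq_of_ofList_eq`: if `l` is a Koszul-regular sequence in `A`, and `l'` is
another list with the same length generating the same ideal, then `l'` is Koszul-regular.
-/

universe u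

open CategoryTheory CategoryTheory.Limits

namespace Groth.Agent.LibKoszulIndep29

attribute [local instance] HasDerivedCategory.standard

section ConeSES

variable {A : Type u} [CommRing A]

open CochainComplex HomologicalComplex

variable {K L : CochainComplex (ModuleCat.{u} A) ℤ} (φ : K ⟶ L)

/-- The connecting map `H^n(cone φ) → H^{n+1}(K)`. -/
noncomputable def coneδ (n : ℤ) : (mappingCone φ).homology n ⟶ K.homology (n + 1) :=
  CochainComplex.homologyδOfTriangle (mappingCone.triangle φ) n (n + 1) rfl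

lemma cone_inr_injective (n : ℤ) (h0 : homologyMap φ n = 0) :
    Function.Injective (homologyMap (mappingCone.inr φ) n).hom := by
  have hT := DerivedCategory.mappingCone_triangle_distinguished φ
  have hex := CochainComplex.homologyMap_exact₂_of_distTriang _ hT n
  have : Mono (homologyMap (mappingCone.inr φ) n) := hex.mono_g h0
  exact (ModuleCat.mono_iff_injective _).1 this

lemma coneδ_surjective (n : ℤ) (h1 : homologyMap φ (n + 1) = 0) :
    Function.Surjective (coneδ φ n).hom := by
  have hT := DerivedCategory.mappingCone_triangle_distinguished φ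
  have hex := CochainComplex.homologyMap_exact₁_of_distTriang _ hT n (n + 1) rfl
  have : Epi (coneδ φ n) := hex.epi_f h1
  exact (ModuleCat.epi_iff_surjective _).1 this

lemma cone_exact (n : ℤ) :
    Function.Exact (homologyMap (mappingCone.inr φ) n).hom (coneδ φ n).hom := by
  have hT := DerivedCategory.mappingCone_triangle_distinguished φ
  have hex := CochainComplex.homologyMap_exact₃_of_distTriang _ hT n (n + 1) rfl
  exact (ShortComplex.ShortExact.moduleCat_exact_iff_function_exact _).1 hex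

end ConeSES

section Split

variable {A : Type u} [CommRing A]

/-- A short exact sequence `0 → P → Q → R → 0` with `Q` killed by `J` and `R ≃ (ι → A ⧸ J)` splits. -/
lemma nonempty_equiv_prod_of_exact (J : Ideal A) {P Q R : Type*} [AddCommGroup P] [Module A P]
    [AddCommGroup Q] [Module A Q] [AddCommGroup R] [Module A R]
    (f : P →ₗ[A] Q) (g : Q →ₗ[A] R) (hf : Function.Injective f) (hg : Function.Surjective g)
    (hfg : Function.Exact f g) (hJ : ∀ a ∈ J, ∀ q : Q, a • q = 0)
    {ι : Type*} [Fintype ι] [DecidableEq ι] (e : R ≃ₗ[A] (ι → A ⧸ J)) :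
    Nonempty (Q ≃ₗ[A] P × (ι → A ⧸ J)) := by
  classical
  -- lifts of the basis vectors
  have hsurj : Function.Surjective (e.toLinearMap ∘ₗ g) := e.surjective.comp hg
  choose q hq using fun i : ι => hsurj (Pi.single i (1 : A ⧸ J))
  let si : ι → (A ⧸ J) →ₗ[A] Q := fun i =>
    Submodule.liftQ J (LinearMap.toSpanSingleton A Q (q i)) (by
      intro a ha
      simp only [LinearMap.mem_ker, LinearMap.toSpanSingleton_apply]
      exact hJ a ha _)
  let s : (ι → A ⧸ J) →ₗ[A] Q := LinearMap.lsum A (fun _ => A ⧸ J) A si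
  have hs : (e.toLinearMap ∘ₗ g) ∘ₗ s = LinearMap.id := by
    apply LinearMap.pi_ext'
    intro i
    apply Submodule.linearMap_qext
    apply LinearMap.ext_ring
    simp only [LinearMap.coe_comp, Function.comp_apply, Submodule.mkQ_apply, LinearMap.id_coe, id_eq,
      LinearMap.coe_single, s, si]
    rw [LinearMap.lsum_piSingle]
    rw [Submodule.liftQ_apply, LinearMap.toSpanSingleton_apply, one_smul]
    exact hq i
  -- section of g
  let l : R →ₗ[A] Q := s ∘ₗ e.toLinearMap
  have hl : g ∘ₗ l = LinearMap.id := by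
    ext r
    apply e.injective
    have := LinearMap.congr_fun hs (e r)
    simpa [l] using this
  obtain ⟨E, -, -⟩ := hfg.splitSurjectiveEquiv hf ⟨l, hl⟩
  exact ⟨E.trans (LinearEquiv.prodCongr (LinearEquiv.refl A P) e)⟩

end Split

section Koszul

variable {A : Type u} [CommRing A]

open CochainComplex HomologicalComplex

theorem koszul_eq : ∀ l : List A, Koszul.koszul A l = CohIII.koszulCx (ModuleCat.of A A) l
  | [] => rfl
  | f :: l => by
    have h := koszul_eq l
    show CochainComplex.mappingCone (f • 𝟙 (Koszul.koszul A l)) =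
      CochainComplex.mappingCone (f • 𝟙 (CohIII.koszulCx (ModuleCat.of A A) l))
    rw [h]

/-- Koszul cohomology in degree `n` (mapping-cone model). -/
noncomputable abbrev H (l : List A) (n : ℤ) : ModuleCat.{u} A := (Koszul.koszul A l).homology n

lemma homologyMap_smul_id_eq_zero (l : List A) (a : A) (ha : a ∈ Ideal.ofList l) (n : ℤ) :
    homologyMap (a • 𝟙 (Koszul.koszul A l)) n = 0 := by
  have h0 := Groth.Agent.Lib.helper26.Kos.homologyMap_smul_id_eq_zero A l a ha n
  rw [← koszul_eq] at h0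
  exact h0

lemma smul_homology_eq_zero (l : List A) (a : A) (ha : a ∈ Ideal.ofList l) (n : ℤ) (z : H l n) :
    a • z = 0 := by
  have h0 := homologyMap_smul_id_eq_zero l a ha n
  rw [Groth.Agent.Lib.helper26.Kos.homologyMap_smul', homologyMap_id] at h0
  have := congr(($h0).hom z)
  simp only [ModuleCat.hom_smul, ModuleCat.hom_id, LinearMap.smul_apply, LinearMap.id_apply,
    ModuleCat.hom_zero, LinearMap.zero_apply] at this
  exact this

lemma cone_step (L : List A) (J : Ideal A) (hJ : Ideal.ofList L = J) (x : A) (hx : x ∈ J) (n : ℤ)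
    {ι : Type*} [Fintype ι] [DecidableEq ι] (e₂ : H L (n + 1) ≃ₗ[A] (ι → A ⧸ J)) :
    Nonempty (H (x :: L) n ≃ₗ[A] H L n × (ι → A ⧸ J)) := by
  subst hJ
  let φ : Koszul.koszul A L ⟶ Koszul.koszul A L := x • 𝟙 (Koszul.koszul A L)
  have h0 : homologyMap φ n = 0 := homologyMap_smul_id_eq_zero L x hx n
  have h1 : homologyMap φ (n + 1) = 0 := homologyMap_smul_id_eq_zero L x hx (n + 1)
  refine nonempty_equiv_prod_of_exact (Ideal.ofList L) (P := H L n) (Q := H (x :: L) n)
    (R := H L (n + 1)) (homologyMap (mappingCone.inr φ) n).hom (coneδ φ n).hom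
    (cone_inr_injective φ n h0) (coneδ_surjective φ n h1) (cone_exact φ n) ?_ e₂
  intro a ha q
  refine smul_homology_eq_zero (x :: L) a ?_ n q
  rw [Ideal.ofList_cons]
  exact Ideal.mem_sup_right ha

/-- The expected rank of `H^n` of the Koszul complex on `k` elements of `J` over a
Koszul-regular sequence generating `J`. -/
def rk (k : ℕ) (n : ℤ) : ℕ := if 0 < n then 0 else Nat.choose k (-n).toNat

lemma rk_succ (k : ℕ) (n : ℤ) : rk (k + 1) n = rk k n + rk k (n + 1) := by
  unfold rk
  rcases lt_trichotomy n 0 with hn | hn | hn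
  · obtain ⟨s, rfl⟩ : ∃ s : ℕ, n = -((s : ℤ) + 1) := ⟨(-n - 1).toNat, by omega⟩
    have h1 : ¬ (0 < -((s : ℤ) + 1)) := by omega
    have h2 : ¬ (0 < -((s : ℤ) + 1) + 1) := by omega
    have h3 : (-(-((s : ℤ) + 1))).toNat = s + 1 := by omega
    have h4 : (-(-((s : ℤ) + 1) + 1)).toNat = s := by omega
    rw [if_neg h1, if_neg h1, if_neg h2, h3, h4, Nat.choose_succ_succ, add_comm]
  · subst hn
    simp
  · have h2 : 0 < n + 1 := by omega
    rw [if_pos hn, if_pos hn, if_pos h2]

lemma rk_zero_of_ne (n : ℤ) (hn : n ≠ 0) : rk 0 n = 0 := by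
  unfold rk
  split_ifs with h
  · rfl
  · have : (-n).toNat ≠ 0 := by omega
    obtain ⟨s, hs⟩ := Nat.exists_eq_succ_of_ne_zero this
    rw [hs]
    rfl

lemma rk_zero_zero : rk 0 0 = 1 := by
  simp [rk]

/-- `M` is free of rank `r` over `A ⧸ J`. -/
def IsFr (J : Ideal A) (r : ℕ) (M : Type*) [AddCommGroup M] [Module A M] : Prop :=
  Nonempty (M ≃ₗ[A] (Fin r → A ⧸ J))

/-- `B^r × B^r' ≃ B^(r+r')`. -/
noncomputable def finProdEquiv (B : Type*) [AddCommGroup B] [Module A B] (r r' : ℕ) :
    ((Fin r → B) × (Fin r' → B)) ≃ₗ[A] (Fin (r + r') → B) :=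
  ((LinearEquiv.funCongrLeft A B finSumFinEquiv).trans
    (LinearEquiv.sumArrowLequivProdArrow _ _ A B)).symm

lemma isFr_append (L₀ : List A) (P : ℤ → Prop) (hP : ∀ n, P n → P (n + 1))
    (h0 : ∀ n, P n → IsFr (Ideal.ofList L₀) (rk 0 n) (H L₀ n)) :
    ∀ xs : List A, (∀ x ∈ xs, x ∈ Ideal.ofList L₀) → ∀ n, P n →
      IsFr (Ideal.ofList L₀) (rk xs.length n) (H (xs ++ L₀) n)
  | [], _, n, hn => h0 n hn
  | x :: xs, hxs, n, hn => by
    have hxs' : ∀ y ∈ xs, y ∈ Ideal.ofList L₀ := fun y hy => hxs y (List.mem_cons_of_mem _ hy)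
    obtain ⟨e₁⟩ := isFr_append L₀ P hP h0 xs hxs' n hn
    obtain ⟨e₂⟩ := isFr_append L₀ P hP h0 xs hxs' (n + 1) (hP n hn)
    have hJ : Ideal.ofList (xs ++ L₀) = Ideal.ofList L₀ := by
      rw [Ideal.ofList_append]
      refine sup_eq_right.2 ?_
      rw [Ideal.ofList, Ideal.span_le]
      exact fun y hy => hxs' y hy
    obtain ⟨e⟩ := cone_step (xs ++ L₀) _ hJ x (hxs x (List.mem_cons_self)) n e₂
    rw [List.length_cons, rk_succ]
    exact ⟨(e.trans (LinearEquiv.prodCongr e₁ (LinearEquiv.refl A _))).trans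
      (finProdEquiv _ _ _)⟩

lemma equiv_prod_append (L₀ : List A) (P : ℤ → Prop) (hP : ∀ n, P n → P (n + 1))
    (h0 : ∀ n, P n → IsFr (Ideal.ofList L₀) (rk 0 n) (H L₀ n)) (n₀ : ℤ) (hn₀ : n₀ ≠ 0)
    (hPn : P (n₀ + 1)) :
    ∀ xs : List A, (∀ x ∈ xs, x ∈ Ideal.ofList L₀) →
      Nonempty (H (xs ++ L₀) n₀ ≃ₗ[A]
        H L₀ n₀ × (Fin (rk xs.length n₀) → A ⧸ Ideal.ofList L₀))
  | [], _ => by
    rw [List.length_nil, rk_zero_of_ne n₀ hn₀]
    exact ⟨(LinearEquiv.prodUnique (R := A) (M := H L₀ n₀)
      (M₂ := Fin 0 → A ⧸ Ideal.ofList L₀)).symm⟩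
  | x :: xs, hxs => by
    have hxs' : ∀ y ∈ xs, y ∈ Ideal.ofList L₀ := fun y hy => hxs y (List.mem_cons_of_mem _ hy)
    obtain ⟨e₁⟩ := equiv_prod_append L₀ P hP h0 n₀ hn₀ hPn xs hxs'
    obtain ⟨e₂⟩ := isFr_append L₀ P hP h0 xs hxs' (n₀ + 1) hPn
    have hJ : Ideal.ofList (xs ++ L₀) = Ideal.ofList L₀ := by
      rw [Ideal.ofList_append]
      refine sup_eq_right.2 ?_
      rw [Ideal.ofList, Ideal.span_le]
      exact fun y hy => hxs' y hy
    obtain ⟨e⟩ := cone_step (xs ++ L₀) _ hJ x (hxs x (List.mem_cons_self)) n₀ e₂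
    rw [List.length_cons, rk_succ]
    exact ⟨((e.trans (LinearEquiv.prodCongr e₁ (LinearEquiv.refl A _))).trans
      (LinearEquiv.prodAssoc A _ _ _)).trans
      (LinearEquiv.prodCongr (LinearEquiv.refl A _) (finProdEquiv _ _ _))⟩

end Koszul

section Main

variable {A : Type u} [CommRing A]

open CochainComplex HomologicalComplex

lemma subsingleton_H_of_pos (l : List A) (n : ℤ) (hn : 0 < n) : Subsingleton (H l n) := by
  have := (Groth.Agent.Lib.helper7.KoszulLow.lowData A l).zero_pos n hn
  exact Groth.Agent.Lib.helper26.Kos.subsingleton_homology_of_subsingleton_X _ n this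

lemma nonempty_H_zero_equiv (l : List A) : Nonempty (H l 0 ≃ₗ[A] (A ⧸ Ideal.ofList l)) := by
  obtain ⟨e⟩ := Groth.Agent.Lib.helper26.Kos.nonempty_homology_zero_equiv A l
  rw [← koszul_eq] at e
  have h : (Ideal.span {b | b ∈ l} • (⊤ : Submodule A A)) = Ideal.ofList l := by
    rw [Ideal.ofList]
    exact Ideal.mul_top _
  exact ⟨e.trans (Submodule.quotEquivOfEq _ _ h)⟩

lemma isFr_of_subsingleton (J : Ideal A) (M : Type*) [AddCommGroup M] [Module A M]
    [Subsingleton M] : IsFr J 0 M :=
  ⟨{ toFun := fun _ => 0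
     map_add' := fun _ _ => by simp
     map_smul' := fun _ _ => by simp
     invFun := fun _ => 0
     left_inv := fun _ => Subsingleton.elim _ _
     right_inv := fun _ => Subsingleton.elim _ _ }⟩

lemma isFr_base (l : List A) (P : ℤ → Prop)
    (h : ∀ n, P n → n ≠ 0 → Subsingleton (H l n)) :
    ∀ n, P n → IsFr (Ideal.ofList l) (rk 0 n) (H l n) := by
  intro n hn
  by_cases h0 : n = 0
  · subst h0
    rw [rk_zero_zero]
    obtain ⟨e⟩ := nonempty_H_zero_equiv l
    exact ⟨e.trans (LinearEquiv.funUnique (Fin 1) A (A ⧸ Ideal.ofList l)).symm⟩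
  · rw [rk_zero_of_ne n h0]
    have := h n hn h0
    exact isFr_of_subsingleton _ _

lemma subsingleton_of_prod_equiv {M N : Type*} [AddCommGroup M] [Module A M] [AddCommGroup N]
    [Module A N] [Module.Finite A N] (e : (M × N) ≃ₗ[A] N) : Subsingleton M := by
  let f : N →ₗ[A] N := LinearMap.snd A M N ∘ₗ e.symm.toLinearMap
  have hf : Function.Surjective f := fun y => ⟨e (0, y), by simp [f]⟩
  have hinj : Function.Injective f :=
    OrzechProperty.injective_of_surjective_endomorphism (R := A) f hf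
  refine ⟨fun m m' => ?_⟩
  have key : ∀ m : M, m = 0 := by
    intro m
    have h1 : f (e (m, 0)) = f 0 := by simp [f]
    have h2 := hinj h1
    have h3 : (m, (0 : N)) = 0 := e.injective (by rw [h2, map_zero])
    exact congr_arg Prod.fst h3
  rw [key m, key m']

/-- **Koszul-regularity does not depend on the generators**: if `l` is Koszul-regular and `l'` has
the same length and generates the same ideal, then `l'` is Koszul-regular. -/
theorem isKoszulRegularSeq_of_ofList_eq (l l' : List A) (hl : LCI.IsKoszulRegularSeq A l)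
    (hJ : Ideal.ofList l' = Ideal.ofList l) (hlen : l'.length = l.length) :
    LCI.IsKoszulRegularSeq A l' := by
  have hl' : ∀ n : ℤ, n ≠ 0 → Subsingleton (H l n) := fun n hn =>
    ModuleCat.subsingleton_of_isZero (hl n hn)
  -- (a), (b): `H^n K(l' ++ l)` is free of rank `rk m n`
  have hb : ∀ n : ℤ, IsFr (Ideal.ofList l) (rk l'.length n) (H (l' ++ l) n) := fun n =>
    isFr_append l (fun _ => True) (fun _ _ => trivial)
      (isFr_base l _ (fun n _ hn => hl' n hn)) l'
      (fun x hx => hJ ▸ Ideal.subset_span hx) n trivial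
  -- (c): permutation
  have hc : ∀ n : ℤ, IsFr (Ideal.ofList l) (rk l'.length n) (H (l ++ l') n) := by
    intro n
    obtain ⟨e⟩ := hb n
    obtain ⟨i⟩ := Groth.Agent.Lib.helper26.Kos.nonempty_iso_of_perm (ModuleCat.of A A)
      (List.perm_append_comm (l₁ := l) (l₂ := l'))
    rw [← koszul_eq, ← koszul_eq] at i
    exact ⟨(((HomologicalComplex.homologyFunctor _ _ n).mapIso i).toLinearEquiv).trans e⟩
  -- (d): downward induction
  have hd : ∀ s : ℕ, 1 ≤ s → Subsingleton (H l' (-(s : ℤ))) := by
    intro s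
    induction s using Nat.strong_induction_on with
    | _ s ih =>
      intro hs
      have hvan : ∀ n : ℤ, -(s : ℤ) < n → n ≠ 0 → Subsingleton (H l' n) := by
        intro n hn hn0
        rcases lt_trichotomy n 0 with h | h | h
        · obtain ⟨s', rfl⟩ : ∃ s' : ℕ, n = -(s' : ℤ) := ⟨(-n).toNat, by omega⟩
          exact ih s' (by omega) (by omega)
        · exact absurd h hn0
        · exact subsingleton_H_of_pos l' n h
      obtain ⟨e⟩ := equiv_prod_append l' (fun n => -(s : ℤ) < n) (fun n hn => by omega)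
        (isFr_base l' _ hvan) (-(s : ℤ)) (by omega) (by omega) l
        (fun x hx => hJ ▸ Ideal.subset_span hx)
      obtain ⟨e'⟩ := hc (-(s : ℤ))
      rw [← hJ, hlen] at e'
      exact subsingleton_of_prod_equiv (e.symm.trans e')
  intro i hi
  have : Subsingleton (H l' i) := by
    rcases lt_trichotomy i 0 with h | h | h
    · obtain ⟨s, rfl⟩ : ∃ s : ℕ, i = -(s : ℤ) := ⟨(-i).toNat, by omega⟩
      exact hd s (by omega)
    · exact absurd h hi
    · exact subsingleton_H_of_pos l' i h
  exact ModuleCat.isZero_of_subsingleton _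

end Main

end Groth.Agent.LibKoszulIndep29
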