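import Mathlib
import Groth.Prelude.Def_LCI2
import Groth.Agent.LibKoszulIndep29
import Groth.Agent.LibKoszulComp29
import Groth.Agent.LibKoszulFlat29

/-!
# Quotients and descent of Koszul-regular sequences (helper29)

* `isKoszulRegularSeq_map_of_append`: if `fs` and `gs ++ fs` are Koszul-regular in `A`, then the
  image of `gs` in `A ⧸ (fs)` is Koszul-regular.
-/

set_option autoImplicit false
universe u

namespace Groth.Agent.LibKoszulDescent29

open CategoryTheory CategoryTheory.Limits CochainComplex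
open Groth.Agent.LibKoszulComp29

section Quot

variable {A B : Type u} [CommRing A] [CommRing B] {π : A →+* B}

/-- **Quotient of a Koszul-regular sequence by a Koszul-regular subsequence.** -/
theorem isKoszulRegularSeq_map_of_append (hπ : Function.Surjective π) (fs gs : List A)
    (hker : RingHom.ker π = Ideal.ofList fs) (hfs : LCI.IsKoszulRegularSeq A fs)
    (h : LCI.IsKoszulRegularSeq A (gs ++ fs)) : LCI.IsKoszulRegularSeq B (gs.map π) := by
  intro i hi
  obtain ⟨Φ, hΦ⟩ := exists_quasiIso hπ fs hker hfs gs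
  have h1 : (Koszul.koszul A (gs ++ fs)).ExactAt i :=
    (HomologicalComplex.exactAt_iff_isZero_homology _ _).mpr (h i hi)
  have h3 : QuasiIsoAt Φ i := inferInstance
  rw [quasiIsoAt_iff_exactAt _ _ h1] at h3
  have h4 : (Koszul.koszul B (gs.map π)).ExactAt i :=
    (ShortComplex.exact_map_iff_of_faithful _ (ModuleCat.restrictScalars.{u} π)).1 h3
  exact h4.isZero_homology

end Quot

section TensorLemma

open TensorProduct

/-- If `1 ⊗ m = 0` in `A' ⊗[A] M` and `A'` maps to `A ⧸ I` over `A`, then `m ∈ I M`. -/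
theorem mem_smul_top_of_one_tmul_eq_zero {A A' : Type*} [CommRing A] [CommRing A'] [Algebra A A']
    (I : Ideal A) (ε : A' →+* A ⧸ I) (hε : ∀ a, ε (algebraMap A A' a) = Ideal.Quotient.mk I a)
    {M : Type*} [AddCommGroup M] [Module A M] (m : M) (h : (1 : A') ⊗ₜ[A] m = 0) :
    m ∈ I • (⊤ : Submodule A M) := by
  have hsm : ∀ (a : A) (y : M ⧸ I • (⊤ : Submodule A M)), Ideal.Quotient.mk I a • y = a • y := by
    intro a y
    obtain ⟨y, rfl⟩ := Submodule.Quotient.mk_surjective _ y
    rfl
  let bil : A' →ₗ[A] M →ₗ[A] (M ⧸ I • (⊤ : Submodule A M)) :=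
    LinearMap.mk₂ A (fun c m => ε c • Submodule.Quotient.mk m)
      (fun c c' m => by simp only [map_add, add_smul])
      (fun a c m => by
        simp only [Algebra.smul_def, map_mul, hε, mul_smul, hsm])
      (fun c m m' => by simp only [Submodule.Quotient.mk_add, smul_add])
      (fun a c m => by
        obtain ⟨b, hb⟩ := Ideal.Quotient.mk_surjective (ε c)
        simp only [← hb, hsm, Submodule.Quotient.mk_smul]
        rw [smul_comm])
  have h2 := congr(TensorProduct.lift bil $h)
  simp only [TensorProduct.lift.tmul, map_zero, bil, LinearMap.mk₂_apply, map_one, one_smul] at h2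
  exact (Submodule.Quotient.mk_eq_zero _).1 h2

end TensorLemma

section FlatHomology

variable {A A' : Type u} [CommRing A] [CommRing A'] (φ : A →+* A')

open Groth.Agent.LibKoszulFlat29 TensorProduct

/-- flat base change for Koszul cohomology. -/
theorem nonempty_homology_iso (hφ : φ.Flat) (l : List A) (i : ℤ) :
    Nonempty ((ModuleCat.extendScalars.{u, u, u} φ).obj ((Koszul.koszul A l).homology i) ≅
      (Koszul.koszul A' (l.map φ)).homology i) := by
  have := ModuleCat.preservesFiniteLimits_extendScalars_of_flat hφ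
  obtain ⟨e⟩ := nonempty_koszul_iso φ l
  exact ⟨(ShortComplex.mapHomologyIso ((Koszul.koszul A l).sc i)
    (ModuleCat.extendScalars.{u, u, u} φ)).symm ≪≫
      (HomologicalComplex.homologyFunctor _ _ i).mapIso e⟩

theorem one_tmul_eq_zero_of_isKoszulRegularSeq_map (hφ : φ.Flat) (l : List A) (i : ℤ) (hi : i ≠ 0)
    (h : LCI.IsKoszulRegularSeq A' (l.map φ)) (m : (Koszul.koszul A l).homology i) :
    letI := φ.toAlgebra
    (1 : A') ⊗ₜ[A] m = 0 := by
  obtain ⟨e⟩ := nonempty_homology_iso φ hφ l i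
  have hz : IsZero ((ModuleCat.extendScalars.{u, u, u} φ).obj ((Koszul.koszul A l).homology i)) :=
    (h i hi).of_iso e
  have := ModuleCat.subsingleton_of_isZero hz
  letI := φ.toAlgebra
  exact Subsingleton.elim
    (α := ((ModuleCat.extendScalars.{u, u, u} φ).obj ((Koszul.koszul A l).homology i))) _ _

theorem subsingleton_homology_map_of_eq_smul (hφ : φ.Flat) (l : List A) (i : ℤ) (I : Ideal A)
    (hI : ∀ m : (Koszul.koszul A l).homology i,
      m ∈ I • (⊤ : Submodule A ((Koszul.koszul A l).homology i)))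
    (hkill : ∀ a ∈ I, ∀ z : (Koszul.koszul A' (l.map φ)).homology i, φ a • z = 0) :
    Subsingleton ((Koszul.koszul A' (l.map φ)).homology i) := by
  obtain ⟨e⟩ := nonempty_homology_iso φ hφ l i
  set M := (Koszul.koszul A l).homology i with hM
  set E := (ModuleCat.extendScalars.{u, u, u} φ).obj M with hE
  have hkillE : ∀ a ∈ I, ∀ w : E, φ a • w = 0 := by
    intro a ha w
    apply e.toLinearEquiv.injective
    rw [map_smul, map_zero]
    exact hkill a ha _
  letI := φ.toAlgebra
  have hzero : ∀ w : E, w = 0 := by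
    intro w
    induction w using TensorProduct.induction_on with
    | zero => rfl
    | add x y hx hy =>
      rw [hx, hy]
      exact add_zero (0 : E)
    | tmul c m =>
      refine Submodule.smul_induction_on
        (p := fun m : M => (c ⊗ₜ[A] m : E) = 0) (hI m) ?_ ?_
      · intro a ha m' _
        let w' : E := c ⊗ₜ[A] m'
        have h1 : (c ⊗ₜ[A] (a • m') : E) = φ a • w' := by
          rw [TensorProduct.tmul_smul]
          rfl
        rw [h1]
        exact hkillE a ha _
      · intro x y hx hy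
        rw [TensorProduct.tmul_add, hx, hy]
        exact add_zero (0 : E)
  refine ⟨fun z z' => ?_⟩
  apply e.toLinearEquiv.symm.injective
  rw [hzero (e.toLinearEquiv.symm z), hzero (e.toLinearEquiv.symm z')]

end FlatHomology

section Generalities

variable {R : Type*} [CommRing R]

/-- Nakayama: if `K` is finitely generated and `K ≤ L + K²`, then `d K ⊆ L` for some `d ≡ 1 mod K`. -/
theorem exists_mul_mem_of_le_sup_mul (K L : Ideal R) (hK : K.FG) (h : K ≤ L ⊔ K * K) :
    ∃ d : R, d - 1 ∈ K ∧ ∀ x ∈ K, d * x ∈ L := by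
  let N : Submodule R (R ⧸ L) := Submodule.map (Submodule.mkQ L) K
  have hN : N.FG := Submodule.FG.map _ hK
  have hle : N ≤ K • N := by
    rintro _ ⟨x, hx, rfl⟩
    obtain ⟨l, hl, y, hy, rfl⟩ := Submodule.mem_sup.1 (h hx)
    have h1 : Submodule.mkQ L (l + y) = Submodule.mkQ L y := by
      rw [map_add, Submodule.mkQ_apply, (Submodule.Quotient.mk_eq_zero L).2 hl, zero_add]
    rw [h1]
    refine Submodule.mul_induction_on hy ?_ ?_
    · intro a ha b hb
      have : Submodule.mkQ L (a * b) = a • Submodule.mkQ L b := by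
        rw [← smul_eq_mul, map_smul]
      rw [this]
      exact Submodule.smul_mem_smul ha ⟨b, hb, rfl⟩
    · intro a b ha hb
      rw [map_add]
      exact Submodule.add_mem _ ha hb
  obtain ⟨d, hd, hdN⟩ :=
    Submodule.exists_sub_one_mem_and_smul_eq_zero_of_fg_of_le_smul K N hN hle
  refine ⟨d, hd, fun x hx => ?_⟩
  have := hdN (Submodule.mkQ L x) ⟨x, hx, rfl⟩
  rw [← map_smul, smul_eq_mul, Submodule.mkQ_apply] at this
  exact (Submodule.Quotient.mk_eq_zero L).1 this

/-- if `d K ⊆ L ⊆ K` then `K` and `L` agree after inverting `d`. -/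
theorem map_eq_map_of_mul_mem {S : Type*} [CommRing S] [Algebra R S] (d : R)
    [IsLocalization.Away d S] (K L : Ideal R) (hLK : L ≤ K) (h : ∀ x ∈ K, d * x ∈ L) :
    K.map (algebraMap R S) = L.map (algebraMap R S) := by
  apply le_antisymm
  · rw [Ideal.map_le_iff_le_comap]
    intro x hx
    have hu : IsUnit (algebraMap R S d) :=
      IsLocalization.map_units S (⟨d, Submonoid.mem_powers d⟩ : Submonoid.powers d)
    rw [Ideal.mem_comap, ← Ideal.unit_mul_mem_iff_mem _ hu, ← map_mul]
    exact Ideal.mem_map_of_mem _ (h x hx)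
  · exact Ideal.map_mono hLK

/-- if `d^N x ∈ L` for all `x ∈ K` and `L ⊆ K`, then `K` and `L` agree where `d` is invertible. -/
theorem map_eq_map_of_pow_mul_mem {S : Type*} [CommRing S] (ρ : R →+* S) (d : R)
    (hd : IsUnit (ρ d)) (K L : Ideal R) (hLK : L ≤ K) (h : ∀ x ∈ K, ∃ N : ℕ, d ^ N * x ∈ L) :
    K.map ρ = L.map ρ := by
  apply le_antisymm
  · rw [Ideal.map_le_iff_le_comap]
    intro x hx
    obtain ⟨N, hN⟩ := h x hx
    rw [Ideal.mem_comap, ← Ideal.unit_mul_mem_iff_mem _ (hd.pow N), ← map_pow, ← map_mul]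
    exact Ideal.mem_map_of_mem _ hN
  · exact Ideal.map_mono hLK

theorem mem_ofList_iff_exists_fun (l : List R) (x : R) :
    x ∈ Ideal.ofList l ↔ ∃ c : Fin l.length → R, ∑ i, c i * l.get i = x := by
  rw [Ideal.ofList, ← Set.range_list_get, Ideal.mem_span_range_iff_exists_fun]

end Generalities

section FlatLift

variable {P C' : Type*} [CommRing P] [CommRing C']

/-- pointwise version: flatness and the equational criterion. -/
theorem exists_mul_mem_ofList_of_flat_aux (χ : P →+* C') (hχ : χ.Flat)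
    (I : Ideal P) (ε : C' →+* P ⧸ I) (hε : ∀ p, ε (χ p) = Ideal.Quotient.mk I p)
    (F : List P) (x : P) (hx : χ x ∈ Ideal.ofList (F.map χ)) :
    ∃ p : P, p - 1 ∈ I ∧ p * x ∈ Ideal.ofList F := by
  classical
  letI := χ.toAlgebra
  haveI : Module.Flat P C' := hχ
  rw [← Ideal.map_ofList, Ideal.ofList, ← Set.range_list_get, Ideal.map_span, ← Set.range_comp,
    Ideal.mem_span_range_iff_exists_fun] at hx
  obtain ⟨c, hc⟩ := hx
  -- the relation `x • 1 - ∑ F_k • c_k = 0`
  let f : Option (Fin F.length) → P := fun o => o.elim x (fun k => - F.get k)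
  let v : Option (Fin F.length) → C' := fun o => o.elim 1 c
  have hrel0 : χ x * 1 + ∑ k, χ (- F.get k) * c k = 0 := by
    rw [mul_one, ← hc]
    simp only [Function.comp_apply, map_neg, neg_mul, Finset.sum_neg_distrib]
    rw [Finset.sum_congr rfl fun k _ => mul_comm (c k) (χ (F.get k))]
    exact add_neg_cancel _
  obtain ⟨k', a, y, hv, ha⟩ := Module.Flat.isTrivialRelation_of_sum_smul_eq_zero
      (R := P) (M := C') (f := f) (x := v) (by
    rw [Fintype.sum_option]
    simp only [f, v, Option.elim_none, Option.elim_some, Algebra.smul_def]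
    exact hrel0)
  have h1 : (1 : C') = ∑ j, χ (a none j) * y j := by
    have := hv none
    simp only [v, Option.elim_none, Algebra.smul_def] at this
    exact this
  choose b hb using fun j => Ideal.Quotient.mk_surjective (ε (y j))
  refine ⟨∑ j, a none j * b j, ?_, ?_⟩
  · rw [← Ideal.Quotient.eq, map_sum, map_one]
    have h2 := congr(ε $h1)
    rw [map_one, map_sum] at h2
    rw [h2]
    refine Finset.sum_congr rfl fun j _ => ?_
    rw [map_mul, map_mul, hε, hb]
  · rw [Finset.sum_mul]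
    refine Ideal.sum_mem _ fun j _ => ?_
    have h3 := ha j
    rw [Fintype.sum_option] at h3
    simp only [f, Option.elim_none, Option.elim_some, neg_mul, Finset.sum_neg_distrib] at h3
    have h4 : x * a none j = ∑ k, F.get k * a (some k) j := by
      rw [← sub_eq_zero, sub_eq_add_neg]
      exact h3
    have h5 : a none j * b j * x = b j * (x * a none j) := by ring
    rw [h5, h4]
    refine Ideal.mul_mem_left _ _ (Ideal.sum_mem _ fun k _ => ?_)
    exact Ideal.mul_mem_right _ _ (Ideal.subset_span (List.get_mem _ _))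

/-- flat descent of generators: if `I C' = (F) C'` for `P → C'` flat with a retraction `C' → P/I`,
then `p I ⊆ (F)` for some `p ≡ 1 mod I`. -/
theorem exists_mul_mem_ofList_of_flat (χ : P →+* C') (hχ : χ.Flat)
    (I : Ideal P) (hfg : I.FG) (ε : C' →+* P ⧸ I) (hε : ∀ p, ε (χ p) = Ideal.Quotient.mk I p)
    (F : List P) (hgen : I.map χ ≤ Ideal.ofList (F.map χ)) :
    ∃ p : P, p - 1 ∈ I ∧ ∀ x ∈ I, p * x ∈ Ideal.ofList F := by
  classical
  obtain ⟨s, hs⟩ := hfg
  have hsI : ∀ x ∈ s, x ∈ I := fun x hx => hs ▸ Ideal.subset_span hx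
  choose! q hq1 hq2 using fun (x : P) (hx : x ∈ s) =>
    exists_mul_mem_ofList_of_flat_aux χ hχ I ε hε F x (hgen (Ideal.mem_map_of_mem _ (hsI x hx)))
  refine ⟨∏ x ∈ s, q x, ?_, ?_⟩
  · rw [← Ideal.Quotient.eq, map_prod, map_one]
    refine Finset.prod_eq_one fun x hx => ?_
    have := hq1 x hx
    rwa [← Ideal.Quotient.eq, map_one] at this
  · intro x hx
    rw [← hs] at hx
    refine Submodule.span_induction ?_ ?_ ?_ ?_ hx
    · intro y hy
      rw [← Finset.mul_prod_erase s q hy]
      have : (q y * ∏ z ∈ s.erase y, q z) * y = (∏ z ∈ s.erase y, q z) * (q y * y) := by ring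
      rw [this]
      exact Ideal.mul_mem_left _ _ (hq2 y hy)
    · rw [mul_zero]
      exact Ideal.zero_mem _
    · intro y z _ _ hy hz
      rw [mul_add]
      exact Ideal.add_mem _ hy hz
    · intro a y _ hy
      rw [smul_eq_mul, mul_left_comm]
      exact Ideal.mul_mem_left _ _ hy

end FlatLift

section Descent

variable {P C : Type u} [CommRing P] [CommRing C]

open Groth.Agent.LibKoszulIndep29 Groth.Agent.LibKoszulFlat29

/-- approximation of elements of `I C` by elements of `I` modulo `(I C)²`. -/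
theorem exists_sub_mem_mul_self (φ : P →+* C) (I : Ideal P)
    (hsurj : ∀ c : C, ∃ p : P, c - φ p ∈ I.map φ) (x : C) (hx : x ∈ I.map φ) :
    ∃ f ∈ I, x - φ f ∈ I.map φ * I.map φ := by
  refine Submodule.span_induction (p := fun x _ => ∃ f ∈ I, x - φ f ∈ I.map φ * I.map φ)
    ?_ ?_ ?_ ?_ hx
  · rintro _ ⟨f, hf, rfl⟩
    exact ⟨f, hf, by rw [sub_self]; exact Ideal.zero_mem _⟩
  · exact ⟨0, I.zero_mem, by rw [map_zero, sub_self]; exact Ideal.zero_mem _⟩
  · rintro y z _ _ ⟨f, hf, hy⟩ ⟨g, hg, hz⟩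
    refine ⟨f + g, I.add_mem hf hg, ?_⟩
    have : y + z - φ (f + g) = (y - φ f) + (z - φ g) := by rw [map_add]; ring
    rw [this]
    exact Ideal.add_mem _ hy hz
  · rintro c y hy' ⟨f, hf, hy⟩
    obtain ⟨p, hp⟩ := hsurj c
    refine ⟨p * f, I.mul_mem_left _ hf, ?_⟩
    have : c • y - φ (p * f) = (c - φ p) * y + φ p * (y - φ f) := by
      rw [map_mul, smul_eq_mul]; ring
    rw [this]
    exact Ideal.add_mem _ (Ideal.mul_mem_mul hp hy') (Ideal.mul_mem_left _ _ hy)

/-- **Descent of Koszul-regular generators along a flat map with a retraction modulo `I`.**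
Let `φ : P → C` be flat and `I ⊆ P` a finitely generated ideal with `P/I ≅ C/IC`. If `IC` is
generated by a Koszul-regular sequence of length `m`, then there are `p ≡ 1 mod I` and
`F₁, …, F_m ∈ I` such that `p I ⊆ (F)` and `F` is Koszul-regular in `P[1/p]`. -/
theorem exists_koszul_descent (φ : P →+* C) (hφ : φ.Flat) (I : Ideal P) (hfg : I.FG)
    (hsurj : ∀ c : C, ∃ p : P, c - φ p ∈ I.map φ)
    (hinj : (I.map φ).comap φ ≤ I)
    (hs : List C) (hreg : LCI.IsKoszulRegularSeq C hs) (hgen : I.map φ = Ideal.ofList hs) :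
    ∃ (p : P) (F : List P), p - 1 ∈ I ∧ F.length = hs.length ∧ (∀ f ∈ F, f ∈ I) ∧
      (∀ x ∈ I, p * x ∈ Ideal.ofList F) ∧
      ∀ (R' : Type u) [CommRing R'] (ρ : P →+* R'), ρ.Flat → IsUnit (ρ p) →
        LCI.IsKoszulRegularSeq R' (F.map ρ) := by
  classical
  set K : Ideal C := I.map φ with hK
  -- Step 1/2: the lifts
  have hlift : ∀ x : C, ∃ f : P, f ∈ I ∧ (x ∈ K → x - φ f ∈ K * K) := by
    intro x
    by_cases hx : x ∈ K
    · obtain ⟨f, hf, h⟩ := exists_sub_mem_mul_self φ I hsurj x hx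
      exact ⟨f, hf, fun _ => h⟩
    · exact ⟨0, I.zero_mem, fun h => absurd h hx⟩
  choose Fn hFnI hFn using hlift
  let F : List P := hs.map Fn
  have hFI : ∀ f ∈ F, f ∈ I := by
    intro f hf
    obtain ⟨h, -, rfl⟩ := List.mem_map.1 hf
    exact hFnI h
  have hhsK : ∀ h ∈ hs, h ∈ K := fun h hh => hgen ▸ Ideal.subset_span hh
  let G : List C := F.map φ
  have hGK : Ideal.ofList G ≤ K := by
    rw [Ideal.ofList, Ideal.span_le]
    intro g hg
    obtain ⟨f, hf, rfl⟩ := List.mem_map.1 hg
    exact Ideal.mem_map_of_mem _ (hFI f hf)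
  have hKG : K ≤ Ideal.ofList G ⊔ K * K := by
    refine hgen.le.trans ?_
    rw [Ideal.ofList, Ideal.span_le]
    intro h hh
    have h1 : h = φ (Fn h) + (h - φ (Fn h)) := by ring
    rw [h1]
    refine Ideal.add_mem _ (Ideal.mem_sup_left (Ideal.subset_span ?_))
      (Ideal.mem_sup_right (hFn h (hhsK h hh)))
    exact List.mem_map.2 ⟨Fn h, List.mem_map.2 ⟨h, hh, rfl⟩, rfl⟩
  have hKfg : K.FG := hfg.map φ
  -- Step 3: Nakayama
  obtain ⟨d, hd1, hd⟩ := exists_mul_mem_of_le_sup_mul K (Ideal.ofList G) hKfg hKG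
  -- Step 4: localize at `d`
  let Cd := Localization.Away d
  let ψ : C →+* Cd := algebraMap C Cd
  have hψ : ψ.Flat := RingHom.flat_algebraMap_iff.2 (IsLocalization.flat Cd (Submonoid.powers d))
  let χ : P →+* Cd := ψ.comp φ
  have hχ : χ.Flat := hφ.comp hψ
  have hmapeq : K.map ψ = (Ideal.ofList G).map ψ :=
    map_eq_map_of_mul_mem (S := Cd) d K (Ideal.ofList G) hGK hd
  have hFχ : F.map χ = G.map ψ := by
    simp only [G, List.map_map]
    rfl
  have hregχ : LCI.IsKoszulRegularSeq Cd (F.map χ) := by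
    refine isKoszulRegularSeq_of_ofList_eq (hs.map ψ) (F.map χ)
      (isKoszulRegularSeq_map_of_flat ψ hψ hs hreg) ?_ ?_
    · rw [hFχ, ← Ideal.map_ofList ψ G, ← Ideal.map_ofList ψ hs, ← hmapeq, hgen]
    · simp only [F, List.length_map]
  have hIχ : I.map χ = Ideal.ofList (F.map χ) := by
    rw [hFχ, ← Ideal.map_ofList ψ G, ← hmapeq, hK, Ideal.map_map]
  -- Step 5: the retraction
  have hIK : I ≤ K.comap φ := Ideal.le_comap_map
  let qm : P ⧸ I →+* C ⧸ K := Ideal.quotientMap K φ hIK
  have hqm : Function.Bijective qm := by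
    refine ⟨Ideal.quotientMap_injective' hinj, fun y => ?_⟩
    obtain ⟨c, rfl⟩ := Ideal.Quotient.mk_surjective y
    obtain ⟨p, hp⟩ := hsurj c
    refine ⟨Ideal.Quotient.mk I p, ?_⟩
    rw [Ideal.quotientMap_mk]
    exact (Ideal.Quotient.eq.2 hp).symm
  let eqv : P ⧸ I ≃+* C ⧸ K := RingEquiv.ofBijective qm hqm
  let ε₀ : C →+* P ⧸ I := (eqv.symm : C ⧸ K →+* P ⧸ I).comp (Ideal.Quotient.mk K)
  have hε₀φ : ∀ p, ε₀ (φ p) = Ideal.Quotient.mk I p := by
    intro p
    change eqv.symm (Ideal.Quotient.mk K (φ p)) = _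
    rw [RingEquiv.symm_apply_eq]
    change _ = qm (Ideal.Quotient.mk I p)
    rw [Ideal.quotientMap_mk]
  have hε₀K : ∀ x ∈ K, ε₀ x = 0 := by
    intro x hx
    change eqv.symm (Ideal.Quotient.mk K x) = 0
    rw [Ideal.Quotient.eq_zero_iff_mem.2 hx, map_zero]
  have hε₀d : ε₀ d = 1 := by
    have h1 : d = 1 + (d - 1) := by ring
    rw [h1, map_add, map_one, hε₀K _ hd1, add_zero]
  let ε : Cd →+* P ⧸ I := IsLocalization.Away.lift d (g := ε₀) (by rw [hε₀d]; exact isUnit_one)
  have hε : ∀ p, ε (χ p) = Ideal.Quotient.mk I p := by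
    intro p
    change ε (algebraMap C Cd (φ p)) = _
    rw [IsLocalization.Away.lift_eq, hε₀φ]
  -- Step 7: generators of `I` near `V(I)`
  obtain ⟨p, hp1, hp⟩ := exists_mul_mem_ofList_of_flat χ hχ I hfg ε hε F hIχ.le
  refine ⟨p, F, hp1, by simp only [F, List.length_map], hFI, hp, ?_⟩
  -- Step 6: `H^i(K(F; P)) = I H^i(K(F; P))`
  have hstep6 : ∀ i : ℤ, i ≠ 0 → ∀ m : (Koszul.koszul P F).homology i,
      m ∈ I • (⊤ : Submodule P ((Koszul.koszul P F).homology i)) := by
    intro i hi m
    have h0 := one_tmul_eq_zero_of_isKoszulRegularSeq_map χ hχ F i hi hregχ m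
    letI := χ.toAlgebra
    exact mem_smul_top_of_one_tmul_eq_zero I ε hε m h0
  -- Step 8: localize at `p`
  intro Pp _ ρ hρ hρp
  have hmapI : I.map ρ = (Ideal.ofList F).map ρ :=
    map_eq_map_of_pow_mul_mem ρ p hρp I (Ideal.ofList F)
      (by rw [Ideal.ofList, Ideal.span_le]; exact fun f hf => hFI f hf)
      (fun x hx => ⟨1, by rw [pow_one]; exact hp x hx⟩)
  intro i hi
  have hsub : Subsingleton ((Koszul.koszul Pp (F.map ρ)).homology i) := by
    refine subsingleton_homology_map_of_eq_smul ρ hρ F i I (hstep6 i hi) ?_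
    intro a ha z
    refine smul_homology_eq_zero (F.map ρ) (ρ a) ?_ i z
    rw [← Ideal.map_ofList, ← hmapI]
    exact Ideal.mem_map_of_mem _ ha
  exact ModuleCat.isZero_of_subsingleton _

end Descent

section Unramified

variable {P C : Type u} [CommRing P] [CommRing C] [Algebra P C]

/-- **A closed "section" of a formally unramified map is open.**  If `P → C` is formally unramified,
`J ⊆ C` is a finitely generated ideal and `P → C/J` is surjective, then near `V(J)` the ideal `J`
is generated by the contraction `J ∩ P`: there is `c ≡ 1 mod J` with `c J ⊆ (J ∩ P) C`. -/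
theorem exists_mul_mem_map_comap_of_formallyUnramified [Algebra.FormallyUnramified P C]
    (J : Ideal C) (hJfg : J.FG) (hsurj : ∀ c : C, ∃ p : P, c - algebraMap P C p ∈ J) :
    ∃ c : C, c - 1 ∈ J ∧
      ∀ x ∈ J, c * x ∈ (J.comap (algebraMap P C)).map (algebraMap P C) := by
  classical
  set I : Ideal P := J.comap (algebraMap P C) with hI
  set K : Ideal C := I.map (algebraMap P C) with hK
  have hKJ : K ≤ J := Ideal.map_comap_le
  -- `E = C/K` is formally unramified over `P/I`
  haveI unrPE : Algebra.FormallyUnramified P (C ⧸ K) :=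
    Algebra.FormallyUnramified.of_surjective (Ideal.Quotient.mkₐ P K)
      (Ideal.Quotient.mkₐ_surjective P K)
  haveI unrBE : Algebra.FormallyUnramified (P ⧸ I) (C ⧸ K) :=
    Algebra.FormallyUnramified.of_restrictScalars P (P ⧸ I) (C ⧸ K)
  -- `P/I ≅ C/J`
  let qm : P ⧸ I →+* C ⧸ J := Ideal.quotientMap J (algebraMap P C) le_rfl
  have hqm : Function.Bijective qm := by
    refine ⟨Ideal.quotientMap_injective, fun y => ?_⟩
    obtain ⟨c, rfl⟩ := Ideal.Quotient.mk_surjective y
    obtain ⟨p, hp⟩ := hsurj c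
    refine ⟨Ideal.Quotient.mk I p, ?_⟩
    rw [Ideal.quotientMap_mk]
    exact (Ideal.Quotient.eq.2 hp).symm
  let eqv : P ⧸ I ≃+* C ⧸ J := RingEquiv.ofBijective qm hqm
  let sbar : C ⧸ K →+* P ⧸ I := (eqv.symm : C ⧸ J →+* P ⧸ I).comp (Ideal.Quotient.factor hKJ)
  have hsbar : ∀ c : C, sbar (Ideal.Quotient.mk K c) = eqv.symm (Ideal.Quotient.mk J c) := by
    intro c
    rfl
  have hsbar_alg : ∀ b : P ⧸ I, sbar (algebraMap (P ⧸ I) (C ⧸ K) b) = b := by
    intro b
    obtain ⟨p, rfl⟩ := Ideal.Quotient.mk_surjective b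
    rw [Ideal.Quotient.algebraMap_quotient_map_quotient, hsbar, RingEquiv.symm_apply_eq]
    change _ = qm (Ideal.Quotient.mk I p)
    rw [Ideal.quotientMap_mk]
  letI algEB : Algebra (C ⧸ K) (P ⧸ I) := sbar.toAlgebra
  haveI towerBEB : IsScalarTower (P ⧸ I) (C ⧸ K) (P ⧸ I) := by
    apply IsScalarTower.of_algebraMap_eq
    intro b
    change b = sbar (algebraMap (P ⧸ I) (C ⧸ K) b)
    rw [hsbar_alg]
  haveI etEB : Algebra.FormallyEtale (C ⧸ K) (P ⧸ I) :=
    Algebra.FormallyEtale.of_restrictScalars (R := P ⧸ I) (A := C ⧸ K) (B := P ⧸ I)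
  have hsurj' : Function.Surjective (algebraMap (C ⧸ K) (P ⧸ I)) := by
    intro b
    exact ⟨algebraMap (P ⧸ I) (C ⧸ K) b, hsbar_alg b⟩
  have hidem : IsIdempotentElem (RingHom.ker (algebraMap (C ⧸ K) (P ⧸ I))) :=
    (Algebra.FormallyEtale.iff_of_surjective hsurj').mp etEB
  have hker : RingHom.ker (algebraMap (C ⧸ K) (P ⧸ I)) = J.map (Ideal.Quotient.mk K) := by
    apply le_antisymm
    · intro y hy
      obtain ⟨c, rfl⟩ := Ideal.Quotient.mk_surjective y
      refine Ideal.mem_map_of_mem _ ?_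
      have h1 : sbar (Ideal.Quotient.mk K c) = 0 := hy
      rw [hsbar, map_eq_zero_iff _ eqv.symm.injective] at h1
      exact Ideal.Quotient.eq_zero_iff_mem.1 h1
    · apply Ideal.map_le_iff_le_comap.mpr
      intro c hc
      change sbar (Ideal.Quotient.mk K c) = 0
      rw [hsbar, Ideal.Quotient.eq_zero_iff_mem.2 hc, map_zero]
  have hkfg : (RingHom.ker (algebraMap (C ⧸ K) (P ⧸ I))).FG := by
    rw [hker]
    exact hJfg.map _
  obtain ⟨e, he, hke⟩ := (Ideal.isIdempotentElem_iff_of_fg _ hkfg).mp hidem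
  obtain ⟨c, hc⟩ := Ideal.Quotient.mk_surjective (1 - e)
  have hemem : e ∈ J.map (Ideal.Quotient.mk K) := by
    rw [← hker, hke]
    exact Ideal.mem_span_singleton_self e
  refine ⟨c, ?_, ?_⟩
  · have h1 : Ideal.Quotient.mk K (c - 1) ∈ J.map (Ideal.Quotient.mk K) := by
      rw [map_sub, hc, map_one]
      have : (1 : C ⧸ K) - e - 1 = -e := by ring
      rw [this]
      exact Ideal.neg_mem_iff _ |>.2 hemem
    rw [Ideal.mem_map_iff_of_surjective _ Ideal.Quotient.mk_surjective] at h1
    obtain ⟨y, hy, hy'⟩ := h1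
    have h2 : c - 1 - y ∈ K := by
      rw [← Ideal.Quotient.eq_zero_iff_mem, map_sub, hy', sub_self]
    have h3 : c - 1 = (c - 1 - y) + y := by ring
    rw [h3]
    exact J.add_mem (hKJ h2) hy
  · intro x hx
    rw [← Ideal.Quotient.eq_zero_iff_mem, map_mul, hc]
    have hxk : Ideal.Quotient.mk K x ∈ RingHom.ker (algebraMap (C ⧸ K) (P ⧸ I)) := by
      rw [hker]
      exact Ideal.mem_map_of_mem _ hx
    rw [hke] at hxk
    obtain ⟨w, hw⟩ := Ideal.mem_span_singleton'.mp hxk
    rw [← hw]
    calc (1 - e) * (w * e) = w * (e - e * e) := by ring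
      _ = 0 := by rw [he.eq, sub_self, mul_zero]

end Unramified

end Groth.Agent.LibKoszulDescent29
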