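import Mathlib

/-!
# An exchange lemma for generators of an ideal (helper29)

`exists_exchange`: let `J = (h₁, …, h_m) ⊆ q` with `q` prime, and `t₁, …, t_n ∈ J` independent modulo
`q J`.  Then after inverting some `μ ∉ q`, `J` is generated by `t₁, …, t_n` together with `m - n` of
the `h_j`.
-/

set_option autoImplicit false

namespace Groth.Agent.LibKoszulExchange29

variable {R : Type*} [CommRing R]

theorem exists_fun_of_mem_span_image {ι : Type*} [Fintype ι] (v : ι → R) (s : Set ι) (x : R)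
    (hx : x ∈ Ideal.span (v '' s)) :
    ∃ c : ι → R, (∀ i, i ∉ s → c i = 0) ∧ ∑ i, c i * v i = x := by
  obtain ⟨l, hl, rfl⟩ := (Finsupp.mem_span_image_iff_linearCombination R).1 hx
  refine ⟨l, fun i hi => (Finsupp.mem_supported' R l).1 hl i hi, ?_⟩
  rw [Finsupp.linearCombination_apply, Finsupp.sum_fintype _ _ (fun i => by simp)]
  rfl

theorem exists_exchange_aux (J q : Ideal R) [q.IsPrime]
    {n m : ℕ} (t : Fin n → R) (ht : ∀ i, t i ∈ J) (h : Fin m → R)
    (hhJ : ∀ j, h j ∈ J) (p : R) (hp : p ∉ q)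
    (hh : ∀ x ∈ J, ∃ N : ℕ, p ^ N * x ∈ Ideal.span (Set.range h))
    (hind : ∀ c : Fin n → R, ∑ i, c i * t i ∈ q * J → ∀ i, c i ∈ q) :
    ∀ k : ℕ, k ≤ n → ∃ (μ : R) (S : Finset (Fin m)), μ ∉ q ∧ p ∣ μ ∧ S.card + k = m ∧
      ∀ x ∈ J, ∃ N : ℕ, μ ^ N * x ∈ Ideal.span (t '' {i | i.val < k} ∪ h '' S) := by
  classical
  intro k
  induction k with
  | zero =>
    intro _
    refine ⟨p, Finset.univ, hp, dvd_rfl, by simp, fun x hx => ?_⟩
    obtain ⟨N, hN⟩ := hh x hx
    refine ⟨N, Ideal.span_mono ?_ hN⟩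
    rintro _ ⟨j, rfl⟩
    exact Or.inr ⟨j, by simp, rfl⟩
  | succ k ih =>
    intro hk
    obtain ⟨μ, S, hμ, hpμ, hcard, hspan⟩ := ih (by omega)
    let i₀ : Fin n := ⟨k, by omega⟩
    obtain ⟨N, hN⟩ := hspan (t i₀) (ht i₀)
    rw [Ideal.span_union] at hN
    obtain ⟨u, hu, v, hv, huv⟩ := Submodule.mem_sup.1 hN
    obtain ⟨c, hc0, hcu⟩ := exists_fun_of_mem_span_image t _ u hu
    obtain ⟨d, hd0, hdv⟩ := exists_fun_of_mem_span_image h _ v hv
    -- some coefficient `d s₀`, `s₀ ∈ S`, is not in `q`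
    have hex : ∃ s₀ ∈ S, d s₀ ∉ q := by
      by_contra hcon
      push Not at hcon
      have hdq : ∀ j, d j ∈ q := by
        intro j
        by_cases hj : j ∈ S
        · exact hcon j hj
        · rw [hd0 j (by simpa using hj)]
          exact q.zero_mem
      have hvq : v ∈ q * J := by
        rw [← hdv]
        exact Ideal.sum_mem _ fun j _ => Ideal.mul_mem_mul (hdq j) (hhJ j)
      have hci₀ : c i₀ = 0 := hc0 i₀ (by simp [i₀])
      let c' : Fin n → R := fun i => if i = i₀ then μ ^ N else - c i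
      have hsum : ∑ i, c' i * t i = v := by
        have h1 : ∑ i, c' i * t i = μ ^ N * t i₀ - ∑ i, c i * t i := by
          rw [← Finset.add_sum_erase Finset.univ _ (Finset.mem_univ i₀),
            ← Finset.add_sum_erase Finset.univ (fun i => c i * t i) (Finset.mem_univ i₀)]
          simp only [c', if_true, hci₀, zero_mul, zero_add]
          rw [sub_eq_add_neg, ← Finset.sum_neg_distrib]
          congr 1
          refine Finset.sum_congr rfl fun i hi => ?_
          rw [if_neg (Finset.ne_of_mem_erase hi), neg_mul]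
        rw [h1, hcu, ← huv]
        ring
      have := hind c' (hsum ▸ hvq) i₀
      simp only [c', if_true] at this
      exact hμ (Ideal.IsPrime.mem_of_pow_mem inferInstance N this)
    obtain ⟨s₀, hs₀S, hs₀q⟩ := hex
    refine ⟨μ * d s₀, S.erase s₀, ?_, Dvd.dvd.mul_right hpμ _, ?_, ?_⟩
    · intro hmem
      rcases Ideal.IsPrime.mem_or_mem inferInstance hmem with h1 | h1
      · exact hμ h1
      · exact hs₀q h1
    · rw [Finset.card_erase_of_mem hs₀S]
      have : 0 < S.card := Finset.card_pos.2 ⟨s₀, hs₀S⟩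
      omega
    · set L' : Ideal R := Ideal.span (t '' {i | i.val < k + 1} ∪ h '' ↑(S.erase s₀)) with hL'
      have htL' : ∀ i : Fin n, i.val < k + 1 → t i ∈ L' := fun i hi =>
        Ideal.subset_span (Or.inl ⟨i, hi, rfl⟩)
      have hhL' : ∀ j ∈ S, j ≠ s₀ → h j ∈ L' := fun j hj hne =>
        Ideal.subset_span (Or.inr ⟨j, Finset.mem_coe.2 (Finset.mem_erase.2 ⟨hne, hj⟩), rfl⟩)
      have huL' : u ∈ L' := by
        rw [← hcu]
        refine Ideal.sum_mem _ fun i _ => ?_
        by_cases hi : i.val < k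
        · exact Ideal.mul_mem_left _ _ (htL' i (by omega))
        · rw [hc0 i (by simpa using hi), zero_mul]
          exact L'.zero_mem
      -- (i)
      have h1 : d s₀ * h s₀ ∈ L' := by
        have e1 : d s₀ * h s₀ = μ ^ N * t i₀ - u - ∑ j ∈ Finset.univ.erase s₀, d j * h j := by
          rw [← huv, ← hdv, ← Finset.add_sum_erase Finset.univ _ (Finset.mem_univ s₀)]
          ring
        rw [e1]
        refine L'.sub_mem (L'.sub_mem (Ideal.mul_mem_left _ _ (htL' i₀ (by simp [i₀]))) huL') ?_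
        refine Ideal.sum_mem _ fun j hj => ?_
        by_cases hjS : j ∈ S
        · exact Ideal.mul_mem_left _ _ (hhL' j hjS (Finset.ne_of_mem_erase hj))
        · rw [hd0 j (by simpa using hjS), zero_mul]
          exact L'.zero_mem
      -- (ii)
      have h2 : ∀ y ∈ Ideal.span (t '' {i | i.val < k} ∪ h '' ↑S), d s₀ * y ∈ L' := by
        intro y hy
        refine Submodule.span_induction ?_ ?_ ?_ ?_ hy
        · rintro _ (⟨i, hi, rfl⟩ | ⟨j, hj, rfl⟩)
          · exact Ideal.mul_mem_left _ _ (htL' i (by simp at hi; omega))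
          · by_cases hne : j = s₀
            · rw [hne]
              exact h1
            · exact Ideal.mul_mem_left _ _ (hhL' j (by simpa using hj) hne)
        · rw [mul_zero]
          exact L'.zero_mem
        · intro a b _ _ ha hb
          rw [mul_add]
          exact L'.add_mem ha hb
        · intro a b _ hb
          rw [smul_eq_mul, mul_left_comm]
          exact Ideal.mul_mem_left _ _ hb
      -- (iii)
      intro x hx
      obtain ⟨N', hN'⟩ := hspan x hx
      refine ⟨N' + 1, ?_⟩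
      have e2 : (μ * d s₀) ^ (N' + 1) * x = (μ * d s₀ ^ N') * (d s₀ * (μ ^ N' * x)) := by
        rw [mul_pow, pow_succ, pow_succ]
        ring
      rw [e2]
      exact Ideal.mul_mem_left _ _ (h2 _ hN')

/-- **Exchange lemma.** -/
theorem exists_exchange (J q : Ideal R) [q.IsPrime]
    {n m : ℕ} (t : Fin n → R) (ht : ∀ i, t i ∈ J) (h : Fin m → R)
    (hhJ : ∀ j, h j ∈ J) (p : R) (hp : p ∉ q)
    (hh : ∀ x ∈ J, ∃ N : ℕ, p ^ N * x ∈ Ideal.span (Set.range h))
    (hind : ∀ c : Fin n → R, ∑ i, c i * t i ∈ q * J → ∀ i, c i ∈ q) :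
    ∃ (μ : R) (S : Finset (Fin m)), μ ∉ q ∧ p ∣ μ ∧ S.card + n = m ∧
      ∀ x ∈ J, ∃ N : ℕ, μ ^ N * x ∈ Ideal.span (Set.range t ∪ h '' S) := by
  obtain ⟨μ, S, hμ, hpμ, hcard, hspan⟩ :=
    exists_exchange_aux J q t ht h hhJ p hp hh hind n le_rfl
  refine ⟨μ, S, hμ, hpμ, hcard, ?_⟩
  have : t '' {i | i.val < n} = Set.range t := by
    ext x
    constructor
    · rintro ⟨i, -, rfl⟩
      exact ⟨i, rfl⟩
    · rintro ⟨i, rfl⟩
      exact ⟨i, i.isLt, rfl⟩
  rwa [this] at hspan

/-- list version of the exchange lemma. -/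
theorem exists_exchange_list (J q : Ideal R) [q.IsPrime] {n : ℕ} (t : Fin n → R)
    (ht : ∀ i, t i ∈ J) (hs : List R) (hsJ : ∀ x ∈ hs, x ∈ J) (p : R) (hp : p ∉ q)
    (hh : ∀ x ∈ J, ∃ N : ℕ, p ^ N * x ∈ Ideal.ofList hs)
    (hind : ∀ c : Fin n → R, ∑ i, c i * t i ∈ q * J → ∀ i, c i ∈ q) :
    ∃ (μ : R) (g : List R), μ ∉ q ∧ p ∣ μ ∧ g.length + n = hs.length ∧ (∀ x ∈ g, x ∈ J) ∧
      ∀ x ∈ J, ∃ N : ℕ, μ ^ N * x ∈ Ideal.ofList (g ++ List.ofFn t) := by
  classical
  have hh' : ∀ x ∈ J, ∃ N : ℕ, p ^ N * x ∈ Ideal.span (Set.range hs.get) := by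
    rw [Set.range_list_get]
    exact hh
  obtain ⟨μ, S, hμ, hpμ, hcard, hspan⟩ :=
    exists_exchange J q t ht hs.get (fun j => hsJ _ (List.get_mem _ _)) p hp hh' hind
  refine ⟨μ, S.toList.map hs.get, hμ, hpμ, ?_, ?_, ?_⟩
  · rw [List.length_map, Finset.length_toList]
    exact hcard
  · intro x hx
    obtain ⟨j, -, rfl⟩ := List.mem_map.1 hx
    exact hsJ _ (List.get_mem _ _)
  · intro x hx
    obtain ⟨N, hN⟩ := hspan x hx
    refine ⟨N, ?_⟩
    have : Ideal.ofList (S.toList.map hs.get ++ List.ofFn t) =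
        Ideal.span (Set.range t ∪ hs.get '' ↑S) := by
      rw [Ideal.ofList_append, Ideal.span_union, sup_comm]
      congr 1
      · rw [Ideal.ofList]
        congr 1
        ext y
        simp [List.mem_ofFn']
      · rw [Ideal.ofList]
        congr 1
        ext y
        simp
    rw [this]
    exact hN

end Groth.Agent.LibKoszulExchange29
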