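import Groth.Agent.LibKoszulLoc29b
import Groth.Prelude.Def_LCI2

/-!
# Koszul-regularity is local at the maximal ideals containing the sequence (helper29)
-/

set_option autoImplicit false
universe u

namespace Groth.Agent.LibKoszulLoc29

open CategoryTheory CategoryTheory.Limits CochainComplex HomComplex Groth.Agent.S2423

variable {A : Type u} [CommRing A]

theorem isZero_homology_koszulCx_of_local (l : List A)
    (h : ∀ (m : Ideal A) [m.IsMaximal], Ideal.span {x | x ∈ l} ≤ m →
      RingTheory.Sequence.IsWeaklyRegular (Localization.AtPrime m)
        (l.map (algebraMap A (Localization.AtPrime m)))) (i : ℤ) (hi : i ≠ 0) :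
    IsZero ((CohIII.koszulCx (ModuleCat.of A A) l).homology i) := by
  apply isZero_homology_of_local
  intro m hm
  by_cases hle : Ideal.span {x | x ∈ l} ≤ m
  · right
    refine ⟨CohIII.koszulCx (ModuleCat.of A (Localization.AtPrime m)) l,
      koszulMap (ModuleCat.ofHom (Algebra.linearMap A (Localization.AtPrime m))) l, ?_, ?_⟩
    · intro j
      apply locLike_koszulMap
      exact locLike_of_isLocalizedModule m.primeCompl (Algebra.linearMap A (Localization.AtPrime m))
    · exact homology_isZero l (Localization.AtPrime m)
        ((RingTheory.Sequence.isWeaklyRegular_map_algebraMap_iff (Localization.AtPrime m)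
          (Localization.AtPrime m) l).mp (h m hle)) i hi
  · left
    obtain ⟨a, haJ, ham⟩ := SetLike.not_le_iff_exists.mp hle
    exact ⟨a, ham, Groth.Agent.S14433.result A l a haJ⟩

/-- **Koszul-regularity is local**: a sequence which becomes weakly regular in `A_m` for every
maximal ideal `m` containing it is Koszul-regular. -/
theorem isKoszulRegularSeq_of_local (l : List A)
    (h : ∀ (m : Ideal A) [m.IsMaximal], Ideal.span {x | x ∈ l} ≤ m →
      RingTheory.Sequence.IsWeaklyRegular (Localization.AtPrime m)
        (l.map (algebraMap A (Localization.AtPrime m)))) :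
    LCI.IsKoszulRegularSeq A l := by
  have key : ∀ (K : CochainComplex (ModuleCat.{u} A) ℤ),
      K = CohIII.koszulCx (ModuleCat.of A A) l → ∀ i : ℤ, i ≠ 0 → IsZero (K.homology i) := by
    intro K hK
    subst hK
    exact isZero_homology_koszulCx_of_local l h
  exact key _ (koszul_eq_koszulCx l)

end Groth.Agent.LibKoszulLoc29
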