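import Mathlib
import Groth.Prelude.Def_RegImm
import Groth.Agent.LibKoszulLoc29c

/-!
# Basic facts on regular immersions (helper29)

* `isKoszulRegularSeq_of_isWeaklyRegular`: a (weakly) regular sequence is Koszul-regular.
* `isRegularImmersionAt_iso_comp`: precomposing with an isomorphism.
* `isRegularImmersion_koszul_of_regular`: a regular immersion is a Koszul-regular immersion.
-/

set_option autoImplicit false
set_option linter.style.haveILetI false
set_option linter.unusedSectionVars false
universe u

namespace Groth.Agent.LibRegImmBasic29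

open AlgebraicGeometry CategoryTheory TopologicalSpace RingTheory.Sequence

/-- a weakly regular sequence is Koszul-regular. -/
theorem isKoszulRegularSeq_of_isWeaklyRegular {A : Type u} [CommRing A] (l : List A)
    (h : IsWeaklyRegular A l) : LCI.IsKoszulRegularSeq A l := by
  apply Groth.Agent.LibKoszulLoc29.isKoszulRegularSeq_of_local
  intro m hm _
  exact h.of_isLocalization (Localization.AtPrime m) m.primeCompl

theorem seq_koszul_of_regular {A : Type u} [CommRing A] (l : List A)
    (h : RegImm.Kind.regular.Seq A l) : RegImm.Kind.koszul.Seq A l :=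
  isKoszulRegularSeq_of_isWeaklyRegular l (IsRegular.toIsWeaklyRegular h)

variable {Z' Z X : Scheme.{u}}

/-- precomposition with an isomorphism preserves regular immersions at a point. -/
theorem isRegularImmersionAt_iso_comp (k : RegImm.Kind) (e : Z' ⟶ Z) [IsIso e] (i : Z ⟶ X)
    (z' : Z') (h : RegImm.IsRegularImmersionAt k i (e z')) :
    RegImm.IsRegularImmersionAt k (e ≫ i) z' := by
  obtain ⟨W, hzW, hcl, rs, hrs, hker⟩ := h
  refine ⟨W, by simpa using hzW, ?_, rs, hrs, ?_⟩
  · have h1 : (e ≫ i) ∣_ W.1 = e ∣_ (i ⁻¹ᵁ W.1) ≫ i ∣_ W.1 := morphismRestrict_comp e i W.1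
    rw [h1]
    exact (MorphismProperty.cancel_left_of_respectsIso @IsClosedImmersion
      (e ∣_ (i ⁻¹ᵁ W.1)) (i ∣_ W.1)).mpr hcl
  · rw [← hker, Scheme.Hom.comp_app]
    change RingHom.ker ((e.app (i ⁻¹ᵁ W.1)).hom.comp (i.app W.1).hom) = _
    apply RingHom.ker_comp_of_injective
    exact (ConcreteCategory.bijective_of_isIso (e.app (i ⁻¹ᵁ W.1))).1

theorem isRegularImmersionAt_koszul_of_regular (i : Z ⟶ X) (z : Z)
    (h : RegImm.IsRegularImmersionAt .regular i z) : RegImm.IsRegularImmersionAt .koszul i z := by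
  obtain ⟨W, hzW, hcl, rs, hrs, hker⟩ := h
  exact ⟨W, hzW, hcl, rs, seq_koszul_of_regular rs hrs, hker⟩

theorem isRegularImmersion_koszul_of_regular (i : Z ⟶ X)
    (h : RegImm.IsRegularImmersion .regular i) : RegImm.IsRegularImmersion .koszul i :=
  ⟨h.1, fun z => isRegularImmersionAt_koszul_of_regular i z (h.2 z)⟩

/-- a Koszul-regular immersion is Koszul at every point (trivial factorisation). -/
theorem isKoszulAt_of_isRegularImmersion_koszul (i : Z ⟶ X)
    (h : RegImm.IsRegularImmersion .koszul i) (z : Z) : Synt.IsKoszulAt i z := by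
  haveI : IsImmersion i := h.1
  haveI : IsIso (⊤ : Z.Opens).ι := inferInstanceAs (IsIso Z.topIso.hom)
  refine ⟨⊤, X, (⊤ : Z.Opens).ι ≫ i, 𝟙 X, trivial, inferInstance, ⟨inferInstance, ?_⟩,
    inferInstance, by simp⟩
  intro z'
  exact isRegularImmersionAt_iso_comp .koszul _ i z' (h.2 _)

end Groth.Agent.LibRegImmBasic29
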