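import Mathlib

/-!
# Sections of smooth morphisms are regular immersions: ring level (helper29)

* `isWeaklyRegular_X`: the variables form a weakly regular sequence in `B[y_1..y_n]`.
* `exists_regular_of_section`: for `g : B[y] → C` flat and formally unramified and a retraction
  `s : C → B` of `B → C` with finitely generated kernel, there are `c` with `s c = 1` and a weakly
  regular sequence `rs` in `ker s` with `c · ker s ⊆ (rs)`.
-/

set_option autoImplicit false
universe u

namespace Groth.Agent.LibSecReg29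

open MvPolynomial RingTheory.Sequence

section Poly

variable (B : Type u) [CommRing B] (n : ℕ)

theorem take_ofFn_eq_image {α : Type*} (f : Fin n → α) (i : ℕ) :
    {r | r ∈ (List.ofFn f).take i} = f '' {j : Fin n | j.val < i} := by
  ext r
  simp only [Set.mem_ofPred_eq, Set.mem_image, List.mem_take_iff_getElem, List.getElem_ofFn,
    List.length_ofFn]
  constructor
  · rintro ⟨k, hk, rfl⟩
    exact ⟨⟨k, (lt_min_iff.mp hk).2⟩, (lt_min_iff.mp hk).1, rfl⟩
  · rintro ⟨j, hj, rfl⟩
    exact ⟨j.val, lt_min_iff.mpr ⟨hj, j.isLt⟩, rfl⟩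

theorem isWeaklyRegular_X :
    IsWeaklyRegular (MvPolynomial (Fin n) B)
      (List.ofFn fun i : Fin n => (X i : MvPolynomial (Fin n) B)) := by
  classical
  rw [isWeaklyRegular_iff]
  intro i hi
  have hi' : i < n := by simpa using hi
  rw [isSMulRegular_on_quot_iff_lsmul_comap_le]
  intro p hp
  rw [Submodule.mem_comap] at hp
  have hN : (Ideal.ofList ((List.ofFn fun i : Fin n => (X i : MvPolynomial (Fin n) B)).take i) •
      (⊤ : Submodule (MvPolynomial (Fin n) B) (MvPolynomial (Fin n) B))) =
      Ideal.span ((X : Fin n → MvPolynomial (Fin n) B) '' {j : Fin n | j.val < i}) := by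
    rw [smul_eq_mul, Ideal.mul_top]
    change Ideal.span {r | r ∈ _} = _
    rw [take_ofFn_eq_image]
  rw [hN] at hp ⊢
  rw [mem_ideal_span_X_image] at hp ⊢
  intro m hm
  have hget : (List.ofFn fun i : Fin n => (X i : MvPolynomial (Fin n) B))[i] = X ⟨i, hi'⟩ := by
    simp
  rw [LinearMap.lsmul_apply, hget, smul_eq_mul, support_X_mul] at hp
  obtain ⟨j, hj, hne⟩ := hp (Finsupp.single ⟨i, hi'⟩ 1 + m)
    (Finset.mem_map.mpr ⟨m, hm, rfl⟩)
  refine ⟨j, hj, ?_⟩
  have hji : j ≠ ⟨i, hi'⟩ := by
    intro h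
    rw [h] at hj
    exact lt_irrefl i hj
  simpa [Finsupp.single_apply, Ne.symm hji] using hne

end Poly

section Clean

variable {B C : Type u} [CommRing B] [CommRing C] {n : ℕ}
  [Algebra (MvPolynomial (Fin n) B) C] [Algebra B C] [IsScalarTower B (MvPolynomial (Fin n) B) C]

/-- the images of the variables -/
noncomputable def varList (B C : Type u) [CommRing B] [CommRing C] (n : ℕ)
    [Algebra (MvPolynomial (Fin n) B) C] : List C :=
  List.ofFn fun i : Fin n => algebraMap (MvPolynomial (Fin n) B) C (X i)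

omit [Algebra B C] [IsScalarTower B (MvPolynomial (Fin n) B) C] in
theorem isWeaklyRegular_varList [Module.Flat (MvPolynomial (Fin n) B) C] :
    IsWeaklyRegular C (varList B C n) := by
  have := (isWeaklyRegular_X B n).of_flat (S := C)
  rw [List.map_ofFn] at this
  exact this

theorem exists_idempotent_of_section [Algebra.FormallyUnramified (MvPolynomial (Fin n) B) C]
    (s : C →ₐ[B] B) (h0 : ∀ i : Fin n, s (algebraMap (MvPolynomial (Fin n) B) C (X i)) = 0)
    (hfg : (RingHom.ker s.toRingHom).FG) :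
    ∃ c : C, s c = 1 ∧ ∀ x : C, s x = 0 → c * x ∈ Ideal.ofList (varList B C n) := by
  classical
  set I : Ideal C := Ideal.ofList (varList B C n) with hI
  have hsI : ∀ a ∈ I, s a = 0 := by
    intro a ha
    have hle : I ≤ RingHom.ker s.toRingHom := by
      rw [hI]
      apply Ideal.span_le.mpr
      intro r hr
      obtain ⟨i, rfl⟩ := (List.mem_ofFn' _ _).mp hr
      exact h0 i
    exact hle ha
  -- the quotient
  let sbar : (C ⧸ I) →ₐ[B] B := Ideal.Quotient.liftₐ I s hsI
  have hsbar : ∀ c : C, sbar (Ideal.Quotient.mk I c) = s c := fun c => rfl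
  -- `B` as a `P`-algebra
  letI algPB : Algebra (MvPolynomial (Fin n) B) B :=
    (MvPolynomial.aeval (fun _ : Fin n => (0 : B))).toRingHom.toAlgebra
  haveI towerPBE : IsScalarTower (MvPolynomial (Fin n) B) B (C ⧸ I) := by
    apply IsScalarTower.of_algebraMap_eq'
    apply MvPolynomial.ringHom_ext
    · intro b
      change algebraMap (MvPolynomial (Fin n) B) (C ⧸ I) (MvPolynomial.C b) =
        algebraMap B (C ⧸ I) (MvPolynomial.aeval (fun _ : Fin n => (0 : B)) (MvPolynomial.C b))
      rw [MvPolynomial.aeval_C, ← MvPolynomial.algebraMap_eq,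
        ← IsScalarTower.algebraMap_apply]
      rfl
    · intro i
      change algebraMap (MvPolynomial (Fin n) B) (C ⧸ I) (X i) =
        algebraMap B (C ⧸ I) (MvPolynomial.aeval (fun _ : Fin n => (0 : B)) (X i))
      rw [MvPolynomial.aeval_X, map_zero, IsScalarTower.algebraMap_apply
        (MvPolynomial (Fin n) B) C (C ⧸ I)]
      apply Ideal.Quotient.eq_zero_iff_mem.mpr
      exact Ideal.subset_span (List.mem_ofFn' _ _ |>.mpr ⟨i, rfl⟩)
  haveI unrPE : Algebra.FormallyUnramified (MvPolynomial (Fin n) B) (C ⧸ I) := inferInstance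
  haveI unrBE : Algebra.FormallyUnramified B (C ⧸ I) :=
    Algebra.FormallyUnramified.of_restrictScalars (MvPolynomial (Fin n) B) B (C ⧸ I)
  -- `B` as an `E`-algebra
  letI algEB : Algebra (C ⧸ I) B := sbar.toRingHom.toAlgebra
  haveI towerBEB : IsScalarTower B (C ⧸ I) B := by
    apply IsScalarTower.of_algebraMap_eq
    intro b
    change b = sbar (algebraMap B (C ⧸ I) b)
    rw [sbar.commutes]
    rfl
  haveI etEB : Algebra.FormallyEtale (C ⧸ I) B :=
    Algebra.FormallyEtale.of_restrictScalars (R := B) (A := C ⧸ I) (B := B)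
  have hsurj : Function.Surjective (algebraMap (C ⧸ I) B) := by
    intro b
    exact ⟨algebraMap B (C ⧸ I) b, by
      change sbar (algebraMap B (C ⧸ I) b) = b
      rw [sbar.commutes]
      rfl⟩
  have hidem : IsIdempotentElem (RingHom.ker (algebraMap (C ⧸ I) B)) :=
    (Algebra.FormallyEtale.iff_of_surjective hsurj).mp etEB
  -- the kernel is finitely generated
  have hkfg : (RingHom.ker (algebraMap (C ⧸ I) B)).FG := by
    have hmap : RingHom.ker (algebraMap (C ⧸ I) B) =
        (RingHom.ker s.toRingHom).map (Ideal.Quotient.mk I) := by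
      apply le_antisymm
      · intro y hy
        obtain ⟨c, rfl⟩ := Ideal.Quotient.mk_surjective y
        exact Ideal.mem_map_of_mem _ hy
      · apply Ideal.map_le_iff_le_comap.mpr
        intro c hc
        exact hc
    rw [hmap]
    exact hfg.map _
  obtain ⟨e, he, hke⟩ := (Ideal.isIdempotentElem_iff_of_fg _ hkfg).mp hidem
  obtain ⟨c, hc⟩ := Ideal.Quotient.mk_surjective (1 - e)
  have hse : sbar e = 0 := by
    have : e ∈ RingHom.ker (algebraMap (C ⧸ I) B) := by
      rw [hke]
      exact Ideal.mem_span_singleton_self e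
    exact this
  refine ⟨c, ?_, ?_⟩
  · rw [← hsbar, hc, map_sub, map_one, hse, sub_zero]
  · intro x hx
    rw [← Ideal.Quotient.eq_zero_iff_mem, map_mul, hc]
    have hxk : Ideal.Quotient.mk I x ∈ RingHom.ker (algebraMap (C ⧸ I) B) := by
      change sbar (Ideal.Quotient.mk I x) = 0
      rw [hsbar, hx]
    rw [hke] at hxk
    obtain ⟨w, hw⟩ := Ideal.mem_span_singleton'.mp hxk
    rw [← hw]
    calc (1 - e) * (w * e) = w * (e - e * e) := by ring
      _ = 0 := by rw [he.eq, sub_self, mul_zero]

end Clean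

section Hom

variable {B C : Type u} [CommRing B] [CommRing C] {n : ℕ}

/-- translation of the variables by `t`. -/
noncomputable def transl (t : Fin n → B) : MvPolynomial (Fin n) B →ₐ[B] MvPolynomial (Fin n) B :=
  MvPolynomial.aeval fun i => X i - MvPolynomial.C (t i)

theorem transl_bijective (t : Fin n → B) : Function.Bijective (transl t) := by
  have h1 : (transl (fun i => -t i)).comp (transl t) = AlgHom.id B _ := by
    apply MvPolynomial.algHom_ext
    intro i
    simp [transl]
  have h2 : (transl t).comp (transl (fun i => -t i)) = AlgHom.id B _ := by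
    apply MvPolynomial.algHom_ext
    intro i
    simp [transl]
  exact Function.bijective_iff_has_inverse.mpr ⟨transl (fun i => -t i),
    fun x => AlgHom.congr_fun h1 x, fun x => AlgHom.congr_fun h2 x⟩

/-- **Sections of smooth algebras, ring level.** -/
theorem exists_regular_of_section (g : MvPolynomial (Fin n) B →+* C) (hflat : g.Flat)
    (hunr : g.FormallyUnramified) (s : C →+* B) (hs : ∀ β : B, s (g (MvPolynomial.C β)) = β)
    (hfg : (RingHom.ker s).FG) :
    ∃ (c : C) (rs : List C), s c = 1 ∧ rs.length = n ∧ IsWeaklyRegular C rs ∧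
      (∀ r ∈ rs, s r = 0) ∧ ∀ x : C, s x = 0 → c * x ∈ Ideal.ofList rs := by
  let t : Fin n → B := fun i => s (g (X i))
  let g' : MvPolynomial (Fin n) B →+* C := g.comp (transl t).toRingHom
  have hg'C : ∀ β : B, g' (MvPolynomial.C β) = g (MvPolynomial.C β) := by
    intro β
    change g (transl t (MvPolynomial.C β)) = _
    rw [← MvPolynomial.algebraMap_eq, AlgHom.commutes]
  have hg'X : ∀ i, s (g' (X i)) = 0 := by
    intro i
    change s (g (transl t (X i))) = 0
    simp only [transl, MvPolynomial.aeval_X, map_sub, hs]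
    exact sub_self _
  have hflat' : g'.Flat := RingHom.Flat.comp (.of_bijective (transl_bijective t)) hflat
  have hunr' : g'.FormallyUnramified :=
    RingHom.FormallyUnramified.comp (.of_surjective (transl_bijective t).2) hunr
  letI algPC : Algebra (MvPolynomial (Fin n) B) C := g'.toAlgebra
  letI algBC : Algebra B C := (g.comp MvPolynomial.C).toAlgebra
  haveI tower : IsScalarTower B (MvPolynomial (Fin n) B) C := by
    apply IsScalarTower.of_algebraMap_eq
    intro β
    exact (hg'C β).symm
  haveI : Module.Flat (MvPolynomial (Fin n) B) C := hflat'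
  haveI : Algebra.FormallyUnramified (MvPolynomial (Fin n) B) C := hunr'
  let sA : C →ₐ[B] B := { s with commutes' := fun β => hs β }
  obtain ⟨c, hc1, hc2⟩ := exists_idempotent_of_section (n := n) sA hg'X hfg
  refine ⟨c, varList B C n, hc1, by simp [varList], isWeaklyRegular_varList, ?_, hc2⟩
  intro r hr
  obtain ⟨i, rfl⟩ := (List.mem_ofFn' _ _).mp hr
  exact hg'X i

end Hom

section Loc

variable {B₀ C₀ B₁ C₁ : Type u} [CommRing B₀] [CommRing C₀] [CommRing B₁] [CommRing C₁] {n : ℕ}

attribute [local instance] MvPolynomial.algebraMvPolynomial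

/-- the induced map on localizations -/
noncomputable def locMap (g₀ : MvPolynomial (Fin n) B₀ →+* C₀) (ρC : C₀ →+* C₁) (f₁ : B₁ →+* C₁) :
    MvPolynomial (Fin n) B₁ →+* C₁ :=
  MvPolynomial.eval₂Hom f₁ fun i => ρC (g₀ (X i))

theorem locMap_C (g₀ : MvPolynomial (Fin n) B₀ →+* C₀) (ρC : C₀ →+* C₁) (f₁ : B₁ →+* C₁)
    (β : B₁) : locMap g₀ ρC f₁ (MvPolynomial.C β) = f₁ β := by
  simp [locMap]

theorem locMap_flat_unramified [Algebra B₀ B₁] (M : Submonoid B₀) [IsLocalization M B₁]
    (g₀ : MvPolynomial (Fin n) B₀ →+* C₀) (ρC : C₀ →+* C₁) (f₁ : B₁ →+* C₁)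
    (hcomp : ∀ β : B₀, f₁ (algebraMap B₀ B₁ β) = ρC (g₀ (MvPolynomial.C β)))
    (hg₀f : g₀.Flat) (hg₀u : g₀.FormallyUnramified) (hρf : ρC.Flat)
    (hρu : ρC.FormallyUnramified) :
    (locMap g₀ ρC f₁).Flat ∧ (locMap g₀ ρC f₁).FormallyUnramified := by
  have hfac : (locMap g₀ ρC f₁).comp
      (algebraMap (MvPolynomial (Fin n) B₀) (MvPolynomial (Fin n) B₁)) = ρC.comp g₀ := by
    apply MvPolynomial.ringHom_ext
    · intro β
      change locMap g₀ ρC f₁ (MvPolynomial.map (algebraMap B₀ B₁) (MvPolynomial.C β)) = _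
      rw [MvPolynomial.map_C, locMap_C, hcomp]
      rfl
    · intro i
      change locMap g₀ ρC f₁ (MvPolynomial.map (algebraMap B₀ B₁) (X i)) = _
      rw [MvPolynomial.map_X]
      simp [locMap]
  have hflat : (ρC.comp g₀).Flat := RingHom.Flat.comp hg₀f hρf
  have hunr : (ρC.comp g₀).FormallyUnramified := RingHom.FormallyUnramified.comp hg₀u hρu
  constructor
  · letI a1 : Algebra (MvPolynomial (Fin n) B₁) C₁ := (locMap g₀ ρC f₁).toAlgebra
    letI a0 : Algebra (MvPolynomial (Fin n) B₀) C₁ := (ρC.comp g₀).toAlgebra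
    haveI : IsScalarTower (MvPolynomial (Fin n) B₀) (MvPolynomial (Fin n) B₁) C₁ :=
      IsScalarTower.of_algebraMap_eq' hfac.symm
    have h0 : Module.Flat (MvPolynomial (Fin n) B₀) C₁ := hflat
    exact (Module.flat_iff_of_isLocalization (MvPolynomial (Fin n) B₁)
      (M.map (MvPolynomial.C (σ := Fin n))) C₁).mpr h0
  · rw [← hfac] at hunr
    exact RingHom.FormallyUnramified.of_comp hunr

/-- ring-hom form of `locMap_flat_unramified`. -/
theorem locMap_flat_unramified' (ρB : B₀ →+* B₁) (M : Submonoid B₀)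
    (hloc : @IsLocalization _ _ M B₁ _ ρB.toAlgebra)
    (g₀ : MvPolynomial (Fin n) B₀ →+* C₀) (ρC : C₀ →+* C₁) (f₁ : B₁ →+* C₁)
    (hcomp : ∀ β : B₀, f₁ (ρB β) = ρC (g₀ (MvPolynomial.C β)))
    (hg₀f : g₀.Flat) (hg₀u : g₀.FormallyUnramified) (hρf : ρC.Flat)
    (hρu : ρC.FormallyUnramified) :
    (locMap g₀ ρC f₁).Flat ∧ (locMap g₀ ρC f₁).FormallyUnramified := by
  letI := ρB.toAlgebra
  haveI := hloc
  exact locMap_flat_unramified M g₀ ρC f₁ hcomp hg₀f hg₀u hρf hρu

end Loc

end Groth.Agent.LibSecReg29
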