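import Mathlib
import Groth.Prelude.Def_LCI2
import Groth.Agent.LibKoszulIndep29
import Groth.Agent.LibKoszulDescent29
import Groth.Agent.LibKoszulExchange29
import Groth.Agent.LibKoszulFlat29
import Groth.Agent.LibSecReg29
import Groth.Agent.LibRegImmBasic29

/-!
# Descent of Koszul-regular ideals along smooth ring maps with a section modulo the ideal (helper29)

Main result `isKoszulRegularIdeal_comap_of_etale_mvPolynomial`: let `g : A[y₁..y_n] → C` be flat and
formally unramified, `J ⊆ C` an ideal generated by a Koszul-regular sequence such that `A → C/J` is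
surjective, and `I = J ∩ A` finitely generated.  Then `I` is a Koszul-regular ideal of `A`.
-/

set_option autoImplicit false
universe u

namespace Groth.Agent.LibKoszulSmoothDescent29

open MvPolynomial
open Groth.Agent.LibKoszulIndep29 Groth.Agent.LibKoszulDescent29 Groth.Agent.LibKoszulExchange29
open Groth.Agent.LibKoszulFlat29

section Poly

variable {A : Type u} [CommRing A] (n : ℕ)

theorem ker_constantCoeff :
    RingHom.ker (constantCoeff : MvPolynomial (Fin n) A →+* A) =
      Ideal.span (Set.range (X : Fin n → MvPolynomial (Fin n) A)) := by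
  apply le_antisymm
  · intro f hf
    rw [← Set.image_univ, mem_ideal_span_X_image]
    intro m hm
    by_contra hcon
    push Not at hcon
    have hm0 : m = 0 := by
      ext i
      exact hcon i (Set.mem_univ i)
    rw [hm0, mem_support_iff] at hm
    exact hm hf
  · rw [Ideal.span_le]
    rintro _ ⟨i, rfl⟩
    exact constantCoeff_X _ i

theorem sub_C_constantCoeff_mem (f : MvPolynomial (Fin n) A) :
    f - C (constantCoeff f) ∈ Ideal.span (Set.range (X : Fin n → MvPolynomial (Fin n) A)) := by
  rw [← ker_constantCoeff, RingHom.mem_ker, map_sub, constantCoeff_C, sub_self]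

theorem constantCoeff_surjective :
    Function.Surjective (constantCoeff : MvPolynomial (Fin n) A →+* A) :=
  fun a => ⟨C a, constantCoeff_C _ a⟩

/-- independence of the variables modulo `Q Ĩ`. -/
theorem constantCoeff_mem_of_sum_mul_X_mem (𝔭 I : Ideal A) (hI : I ≤ 𝔭)
    (b : Fin n → MvPolynomial (Fin n) A)
    (h : ∑ i, b i * X i ∈ (𝔭.comap constantCoeff) * (I.comap constantCoeff)) (i : Fin n) :
    constantCoeff (b i) ∈ 𝔭 := by
  classical
  have key : ∀ z ∈ (𝔭.comap (constantCoeff : MvPolynomial (Fin n) A →+* A)) *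
      (I.comap constantCoeff), constantCoeff (pderiv i z) ∈ 𝔭 := by
    intro z hz
    refine Submodule.mul_induction_on hz ?_ ?_
    · intro y hy w hw
      rw [Derivation.leibniz, map_add, smul_eq_mul, smul_eq_mul, map_mul, map_mul]
      exact 𝔭.add_mem (𝔭.mul_mem_right _ hy) (𝔭.mul_mem_right _ (hI hw))
    · intro y w hy hw
      rw [map_add, map_add]
      exact 𝔭.add_mem hy hw
  have h1 := key _ h
  rw [map_sum, map_sum] at h1
  have h2 : ∀ j : Fin n, constantCoeff (pderiv i (b j * X j)) =
      if j = i then constantCoeff (b i) else 0 := by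
    intro j
    rw [Derivation.leibniz, pderiv_X, map_add, smul_eq_mul, smul_eq_mul, map_mul, map_mul,
      constantCoeff_X, zero_mul, add_zero]
    by_cases hji : j = i
    · subst hji
      simp
    · rw [if_neg hji, Pi.single_apply, if_neg hji, map_zero, mul_zero]
  rw [Finset.sum_congr rfl fun j _ => h2 j, Finset.sum_ite_eq' Finset.univ i, if_pos (Finset.mem_univ i)]
    at h1
  exact h1

end Poly

section PartA

variable {A : Type u} [CommRing A] (n : ℕ)

theorem ofList_eq_bot_of_forall_eq_zero {R : Type*} [CommRing R] (l : List R)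
    (h : ∀ x ∈ l, x = 0) : Ideal.ofList l = ⊥ := by
  rw [eq_bot_iff, Ideal.ofList, Ideal.span_le]
  intro x hx
  rw [h x hx]
  exact Ideal.zero_mem _

/-- **Part A.**  If the ideal `Ĩ = I A[y] + (y)` of `A[y]` is, near `V(Ĩ)`, generated by a sequence
that is Koszul-regular in every flat `A[y]`-algebra in which `p` is invertible, then `I` is a
Koszul-regular ideal. -/
theorem isKoszulRegularIdeal_of_descent (I : Ideal A) (p : MvPolynomial (Fin n) A)
    (F : List (MvPolynomial (Fin n) A))
    (hp1 : p - 1 ∈ I.comap (constantCoeff : MvPolynomial (Fin n) A →+* A))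
    (hFI : ∀ f ∈ F, f ∈ I.comap (constantCoeff : MvPolynomial (Fin n) A →+* A))
    (hp : ∀ x ∈ I.comap (constantCoeff : MvPolynomial (Fin n) A →+* A), p * x ∈ Ideal.ofList F)
    (hreg : ∀ (R' : Type u) [CommRing R'] (ρ : MvPolynomial (Fin n) A →+* R'), ρ.Flat →
      IsUnit (ρ p) → LCI.IsKoszulRegularSeq R' (F.map ρ)) :
    LCI.IsKoszulRegularIdeal I := by
  classical
  intro 𝔭 h𝔭
  set cc : MvPolynomial (Fin n) A →+* A := constantCoeff with hcc
  set Q : Ideal (MvPolynomial (Fin n) A) := 𝔭.asIdeal.comap cc with hQ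
  set I' : Ideal (MvPolynomial (Fin n) A) := I.comap cc with hI'
  haveI : Q.IsPrime := Ideal.comap_isPrime cc 𝔭.asIdeal
  have hI'Q : I' ≤ Q := Ideal.comap_mono h𝔭
  have hpQ : p ∉ Q := by
    intro hpQ
    have h1 : cc p - 1 ∈ 𝔭.asIdeal := by
      have := hI'Q hp1
      rwa [hQ, Ideal.mem_comap, map_sub, map_one] at this
    have h2 : (1 : A) ∈ 𝔭.asIdeal := by
      have : (1 : A) = cc p - (cc p - 1) := by ring
      rw [this]
      exact 𝔭.asIdeal.sub_mem hpQ h1
    exact 𝔭.isPrime.ne_top ((Ideal.eq_top_iff_one _).2 h2)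
  have hXI' : ∀ i : Fin n, (X i : MvPolynomial (Fin n) A) ∈ I' := by
    intro i
    rw [hI', Ideal.mem_comap, hcc, constantCoeff_X]
    exact I.zero_mem
  -- exchange
  obtain ⟨μ, g, hμQ, hpμ, hlen, hgI', hspan⟩ := exists_exchange_list I' Q
    (fun i : Fin n => (X i : MvPolynomial (Fin n) A)) hXI' F hFI p hpQ
    (fun x hx => ⟨1, by rw [pow_one]; exact hp x hx⟩)
    (fun c hc i => constantCoeff_mem_of_sum_mul_X_mem n 𝔭.asIdeal I h𝔭 c hc i)
  set L : List (MvPolynomial (Fin n) A) := g ++ List.ofFn (fun i : Fin n => X i) with hL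
  have hLI' : Ideal.ofList L ≤ I' := by
    rw [Ideal.ofList, Ideal.span_le]
    intro x hx
    rcases List.mem_append.1 hx with h | h
    · exact hgI' x h
    · obtain ⟨i, rfl⟩ := (List.mem_ofFn' _ _).1 h
      exact hXI' i
  set a : A := cc μ with ha
  have ha𝔭 : a ∉ 𝔭.asIdeal := hμQ
  -- the localization `R' = A[y]_μ`
  let R' := Localization.Away μ
  let ρ : MvPolynomial (Fin n) A →+* R' := algebraMap _ R'
  have hρ : ρ.Flat :=
    RingHom.flat_algebraMap_iff.2 (IsLocalization.flat R' (Submonoid.powers μ))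
  have hρμ : IsUnit (ρ μ) := IsLocalization.Away.algebraMap_isUnit μ
  have hρp : IsUnit (ρ p) := by
    obtain ⟨r, hr⟩ := hpμ
    have h1 : ρ μ = ρ p * ρ r := (congrArg ρ hr).trans (map_mul ρ p r)
    rw [h1] at hρμ
    exact isUnit_of_mul_isUnit_left hρμ
  have hregF : LCI.IsKoszulRegularSeq R' (F.map ρ) := hreg R' ρ hρ hρp
  have hmapF : I'.map ρ = (Ideal.ofList F).map ρ :=
    map_eq_map_of_pow_mul_mem ρ p hρp I' (Ideal.ofList F)
      (by rw [Ideal.ofList, Ideal.span_le]; exact fun f hf => hFI f hf)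
      (fun x hx => ⟨1, by rw [pow_one]; exact hp x hx⟩)
  have hmapL : I'.map ρ = (Ideal.ofList L).map ρ :=
    map_eq_map_of_pow_mul_mem ρ μ hρμ I' (Ideal.ofList L) hLI' hspan
  have hregL : LCI.IsKoszulRegularSeq R' (L.map ρ) := by
    refine isKoszulRegularSeq_of_ofList_eq (F.map ρ) (L.map ρ) hregF ?_ ?_
    · rw [← Ideal.map_ofList, ← Ideal.map_ofList, ← hmapL, ← hmapF]
    · rw [List.length_map, List.length_map, hL, List.length_append, List.length_ofFn]
      exact hlen
  -- the map `π : R' → A_a`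
  let Aa := Localization.Away a
  have hunit : IsUnit (((algebraMap A Aa).comp cc) μ) := IsLocalization.Away.algebraMap_isUnit a
  let π : R' →+* Aa := IsLocalization.Away.lift μ hunit
  have hπρ : ∀ f, π (ρ f) = algebraMap A Aa (cc f) := fun f =>
    IsLocalization.Away.lift_eq μ hunit f
  set fs : List R' := (List.ofFn (fun i : Fin n => (X i : MvPolynomial (Fin n) A))).map ρ with hfs
  have hfsπ : ∀ x ∈ fs, π x = 0 := by
    intro x hx
    obtain ⟨y, hy, rfl⟩ := List.mem_map.1 hx
    obtain ⟨i, rfl⟩ := (List.mem_ofFn' _ _).1 hy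
    rw [hπρ, hcc, constantCoeff_X, map_zero]
  have hπsurj : Function.Surjective π := by
    intro y
    obtain ⟨k, b, hb⟩ := IsLocalization.Away.surj a y
    obtain ⟨u, hu⟩ := hρμ
    refine ⟨ρ (C b) * ↑(u⁻¹ ^ k), ?_⟩
    have hπu : π ↑u = algebraMap A Aa a := by rw [hu, hπρ]
    have h1 : π (ρ (C b) * ↑(u⁻¹ ^ k)) * algebraMap A Aa a ^ k = y * algebraMap A Aa a ^ k := by
      rw [hb, ← hπu, ← map_pow, ← map_mul, mul_assoc, ← Units.val_pow_eq_pow_val, ← Units.val_mul,
        inv_pow, inv_mul_cancel, Units.val_one, mul_one, hπρ, hcc, constantCoeff_C]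
    exact ((IsLocalization.Away.algebraMap_isUnit (S := Aa) a).pow k).mul_left_injective h1
  have hkerπ : RingHom.ker π = Ideal.ofList fs := by
    apply le_antisymm
    · intro z hz
      obtain ⟨k, f, hf⟩ := IsLocalization.Away.surj μ z
      have h1 : algebraMap A Aa (cc f) = 0 := by
        rw [← hπρ, ← show z * ρ μ ^ k = ρ f from hf, map_mul, hz, zero_mul]
      obtain ⟨⟨_, j, rfl⟩, hj⟩ := (IsLocalization.map_eq_zero_iff (Submonoid.powers a) Aa _).1 h1
      have h2 : μ ^ j * f ∈ Ideal.span (Set.range (X : Fin n → MvPolynomial (Fin n) A)) := by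
        rw [← ker_constantCoeff, RingHom.mem_ker, map_mul, map_pow]
        exact hj
      have h3 : ρ (μ ^ j * f) ∈ Ideal.ofList fs := by
        rw [hfs, ← Ideal.map_ofList]
        refine Ideal.mem_map_of_mem _ ?_
        rw [Ideal.ofList]
        convert h2 using 2
        ext y
        simp [List.mem_ofFn']
      rw [map_mul, map_pow, Ideal.unit_mul_mem_iff_mem _ (hρμ.pow j)] at h3
      have h4 : z * ρ μ ^ k ∈ Ideal.ofList fs := by
        rw [show z * ρ μ ^ k = ρ f from hf]
        exact h3
      rwa [mul_comm, Ideal.unit_mul_mem_iff_mem _ (hρμ.pow k)] at h4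
    · rw [Ideal.ofList, Ideal.span_le]
      exact fun x hx => hfsπ x hx
  have hfsreg : LCI.IsKoszulRegularSeq R' fs :=
    isKoszulRegularSeq_map_of_flat ρ hρ _
      (Groth.Agent.LibRegImmBasic29.isKoszulRegularSeq_of_isWeaklyRegular _
        (Groth.Agent.LibSecReg29.isWeaklyRegular_X A n))
  have hLmap : L.map ρ = g.map ρ ++ fs := by
    rw [hL, List.map_append]
  rw [hLmap] at hregL
  have hfinal : LCI.IsKoszulRegularSeq Aa ((g.map ρ).map π) :=
    isKoszulRegularSeq_map_of_append hπsurj fs (g.map ρ) hkerπ hfsreg hregL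
  refine ⟨a, ha𝔭, (g.map ρ).map π, hfinal, ?_⟩
  change _ = Ideal.ofList ((g.map ρ).map π)
  have h1 : I.map (algebraMap A Aa) = (I'.map ρ).map π := by
    rw [Ideal.map_map]
    have : π.comp ρ = (algebraMap A Aa).comp cc := RingHom.ext hπρ
    rw [this, ← Ideal.map_map, hI', Ideal.map_comap_of_surjective cc (constantCoeff_surjective n)]
  rw [h1, hmapL, Ideal.map_ofList, Ideal.map_ofList, hLmap, List.map_append, Ideal.ofList_append,
    ofList_eq_bot_of_forall_eq_zero (fs.map π), sup_bot_eq]
  intro x hx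
  obtain ⟨y, hy, rfl⟩ := List.mem_map.1 hx
  exact hfsπ y hy

end PartA

section PartB

variable {A D : Type u} [CommRing A] [CommRing D] (n : ℕ)

open Groth.Agent.LibSecReg29 in
/-- **Descent of Koszul-regular ideals along smooth ring maps with a section modulo the ideal.** -/
theorem isKoszulRegularIdeal_comap_of_etale_mvPolynomial
    (g : MvPolynomial (Fin n) A →+* D) (hflat : g.Flat) (hunr : g.FormallyUnramified)
    (J : Ideal D) (hs : List D) (hreg : LCI.IsKoszulRegularSeq D hs) (hJ : J = Ideal.ofList hs)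
    (hsurj : ∀ c : D, ∃ a : A, c - g (C a) ∈ J)
    (hIfg : (J.comap (g.comp (C : A →+* MvPolynomial (Fin n) A))).FG) :
    LCI.IsKoszulRegularIdeal (J.comap (g.comp (C : A →+* MvPolynomial (Fin n) A))) := by
  classical
  set φ : A →+* D := g.comp (C : A →+* MvPolynomial (Fin n) A) with hφ
  set I : Ideal A := J.comap φ with hI
  set cc : MvPolynomial (Fin n) A →+* A := constantCoeff with hcc
  -- translation of the variables
  choose a ha using fun i : Fin n => hsurj (g (X i))
  let g' : MvPolynomial (Fin n) A →+* D := g.comp (transl a).toRingHom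
  have hg'C : ∀ β : A, g' (C β) = φ β := by
    intro β
    change g (transl a (C β)) = _
    rw [← MvPolynomial.algebraMap_eq, AlgHom.commutes]
    rfl
  have hg'X : ∀ i, g' (X i) ∈ J := by
    intro i
    change g (transl a (X i)) ∈ J
    simp only [transl, MvPolynomial.aeval_X, map_sub]
    exact ha i
  have hflat' : g'.Flat := RingHom.Flat.comp (.of_bijective (transl_bijective a)) hflat
  have hunr' : g'.FormallyUnramified :=
    RingHom.FormallyUnramified.comp (.of_surjective (transl_bijective a).2) hunr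
  -- the ideal `Ĩ`
  set I' : Ideal (MvPolynomial (Fin n) A) := I.comap cc with hI'
  have hXJ : (Ideal.span (Set.range (X : Fin n → MvPolynomial (Fin n) A))).map g' ≤ J := by
    rw [Ideal.map_span, Ideal.span_le]
    rintro _ ⟨_, ⟨i, rfl⟩, rfl⟩
    exact hg'X i
  have hcomap : J.comap g' = I' := by
    ext f
    have h1 : g' f - φ (cc f) ∈ J := by
      rw [← hg'C, ← map_sub]
      exact hXJ (Ideal.mem_map_of_mem _ (sub_C_constantCoeff_mem n f))
    rw [Ideal.mem_comap, hI', Ideal.mem_comap, hI, Ideal.mem_comap]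
    constructor
    · intro h
      have : φ (cc f) = g' f - (g' f - φ (cc f)) := by ring
      rw [this]
      exact J.sub_mem h h1
    · intro h
      have : g' f = (g' f - φ (cc f)) + φ (cc f) := by ring
      rw [this]
      exact J.add_mem h1 h
  have hJfg : J.FG := by
    rw [hJ]
    exact ⟨hs.toFinset, by rw [Ideal.ofList]; congr 1; ext x; simp⟩
  -- F2
  obtain ⟨c, hc1, hc⟩ : ∃ c : D, c - 1 ∈ J ∧ ∀ x ∈ J, c * x ∈ I'.map g' := by
    letI := g'.toAlgebra
    haveI : Algebra.FormallyUnramified (MvPolynomial (Fin n) A) D := hunr'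
    obtain ⟨c, hc1, hc⟩ := exists_mul_mem_map_comap_of_formallyUnramified
      (P := MvPolynomial (Fin n) A) J hJfg (fun x => by
        obtain ⟨b, hb⟩ := hsurj x
        refine ⟨C b, ?_⟩
        change x - g' (C b) ∈ J
        rw [hg'C]
        exact hb)
    refine ⟨c, hc1, fun x hx => ?_⟩
    have := hc x hx
    change c * x ∈ (J.comap g').map g' at this
    rwa [hcomap] at this
  have hI'J : I'.map g' ≤ J := by
    rw [← hcomap]
    exact Ideal.map_comap_le
  -- powers of `c` are `≡ 1 mod J`
  have hcpow : ∀ (N : ℕ) (y : D), c ^ N * y ∈ J → y ∈ J := by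
    intro N y hy
    have h1 : Ideal.Quotient.mk J c = 1 := by
      rw [← map_one (Ideal.Quotient.mk J)]
      exact Ideal.Quotient.eq.2 hc1
    rw [← Ideal.Quotient.eq_zero_iff_mem] at hy ⊢
    rwa [map_mul, map_pow, h1, one_pow, one_mul] at hy
  -- localize at `c`
  let Cc := Localization.Away c
  let ψ : D →+* Cc := algebraMap D Cc
  have hψ : ψ.Flat := RingHom.flat_algebraMap_iff.2 (IsLocalization.flat Cc (Submonoid.powers c))
  let φc : MvPolynomial (Fin n) A →+* Cc := ψ.comp g'
  have hφc : φc.Flat := hflat'.comp hψ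
  have hψc : IsUnit (ψ c) := IsLocalization.Away.algebraMap_isUnit c
  have hmapJ : J.map ψ = (I'.map g').map ψ :=
    map_eq_map_of_pow_mul_mem ψ c hψc J (I'.map g') hI'J
      (fun x hx => ⟨1, by rw [pow_one]; exact hc x hx⟩)
  have hI'φc : I'.map φc = Ideal.ofList (hs.map ψ) := by
    rw [← Ideal.map_map, ← hmapJ, hJ, Ideal.map_ofList]
  have hregc : LCI.IsKoszulRegularSeq Cc (hs.map ψ) := isKoszulRegularSeq_map_of_flat ψ hψ hs hreg
  -- `Ĩ` is finitely generated
  have hI'fg : I'.FG := by
    have h1 : I' = I.map (C : A →+* MvPolynomial (Fin n) A) ⊔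
        Ideal.span (Set.range (X : Fin n → MvPolynomial (Fin n) A)) := by
      apply le_antisymm
      · intro f hf
        have : f = C (cc f) + (f - C (cc f)) := by ring
        rw [this]
        exact Ideal.add_mem _ (Ideal.mem_sup_left (Ideal.mem_map_of_mem _ hf))
          (Ideal.mem_sup_right (sub_C_constantCoeff_mem n f))
      · rw [sup_le_iff]
        constructor
        · rw [Ideal.map_le_iff_le_comap]
          intro b hb
          rw [Ideal.mem_comap, hI', Ideal.mem_comap, hcc, constantCoeff_C]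
          exact hb
        · rw [Ideal.span_le]
          rintro _ ⟨i, rfl⟩
          rw [SetLike.mem_coe, hI', Ideal.mem_comap, hcc, constantCoeff_X]
          exact I.zero_mem
    rw [h1]
    exact Submodule.FG.sup (hIfg.map _) ⟨Finset.univ.image X, by simp⟩
  -- the hypotheses of the descent theorem
  have hsurjc : ∀ x : Cc, ∃ f : MvPolynomial (Fin n) A, x - φc f ∈ I'.map φc := by
    intro x
    obtain ⟨k, y, hy⟩ := IsLocalization.Away.surj c x
    obtain ⟨b, hb⟩ := hsurj y
    refine ⟨C b, ?_⟩
    rw [← Ideal.map_map, ← hmapJ]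
    have h1 : Ideal.Quotient.mk (J.map ψ) (ψ c) = 1 := by
      rw [← map_one (Ideal.Quotient.mk (J.map ψ)), ← map_one ψ]
      refine Ideal.Quotient.eq.2 ?_
      rw [← map_sub]
      exact Ideal.mem_map_of_mem _ hc1
    have h2 : Ideal.Quotient.mk (J.map ψ) (ψ y) = Ideal.Quotient.mk (J.map ψ) (ψ (φ b)) := by
      refine Ideal.Quotient.eq.2 ?_
      rw [← map_sub]
      exact Ideal.mem_map_of_mem _ hb
    refine Ideal.Quotient.eq.1 ?_
    change _ = Ideal.Quotient.mk (J.map ψ) (ψ (g' (C b)))
    rw [hg'C, ← h2, ← show x * ψ c ^ k = ψ y from hy, map_mul, map_pow, h1, one_pow, mul_one]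
  have hinjc : (I'.map φc).comap φc ≤ I' := by
    intro f hf
    rw [Ideal.mem_comap, ← Ideal.map_map, ← hmapJ] at hf
    change ψ (g' f) ∈ J.map ψ at hf
    rw [IsLocalization.mem_map_algebraMap_iff (Submonoid.powers c) Cc] at hf
    obtain ⟨⟨⟨j, hj⟩, ⟨_, k, rfl⟩⟩, hjk⟩ := hf
    simp only at hjk
    rw [← map_mul, IsLocalization.eq_iff_exists (Submonoid.powers c) Cc] at hjk
    obtain ⟨⟨_, k', rfl⟩, hk'⟩ := hjk
    simp only at hk'
    have h1 : c ^ (k' + k) * g' f ∈ J := by
      have : c ^ (k' + k) * g' f = c ^ k' * (g' f * c ^ k) := by rw [pow_add]; ring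
      rw [this, hk']
      exact J.mul_mem_left _ hj
    rw [← hcomap, Ideal.mem_comap]
    exact hcpow _ _ h1
  obtain ⟨p, F, hp1, -, hFI, hp, hregF⟩ :=
    exists_koszul_descent φc hφc I' hI'fg hsurjc hinjc (hs.map ψ) hregc hI'φc
  exact isKoszulRegularIdeal_of_descent n I p F hp1 hFI hp hregF

end PartB

end Groth.Agent.LibKoszulSmoothDescent29
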