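import Mathlib
import Groth.Prelude.Def_RegImm
import Groth.Agent.LibRegImmStalk29
import Groth.Agent.LibRegImmBC29
import Groth.Agent.LibKoszulFlat29
import Groth.Agent.LibKoszulComp29

/-!
# Composition of Koszul-regular immersions (helper29)

* `restrict_of_isPullback`: `LibRegImmBC29.restrict_pullback_snd` for an arbitrary cartesian square.
* `restrict_of_le`: if `i ∣_ U` is a closed immersion over the affine open `U`, the same holds over
  every affine open `W ≤ U`, with `ker (i.app W) = ker (i.app U) · Γ(X, W)`.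
* `comp_at`: local form of the composition of Koszul-regular immersions.
-/

set_option autoImplicit false
universe u
open CategoryTheory CategoryTheory.Limits AlgebraicGeometry

namespace Groth.Agent.LibRegImmComp29

variable {Z X X' Z' : Scheme.{u}}

theorem restrict_of_isPullback (i : Z ⟶ X) (g : X' ⟶ X) (i' : Z' ⟶ X') (g' : Z' ⟶ Z)
    (H : IsPullback g' i' i g) (U : X.Opens) (hU : IsAffineOpen U)
    [IsClosedImmersion (i ∣_ U)] (U' : X'.Opens) (hU' : IsAffineOpen U') (e : U' ≤ g ⁻¹ᵁ U) :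
    IsClosedImmersion (i' ∣_ U') ∧
      RingHom.ker (i'.app U').hom =
        (RingHom.ker (i.app U).hom).map (g.appLE U U' e).hom := by
  have hUY : i' ⁻¹ᵁ U' = g' ⁻¹ᵁ (i ⁻¹ᵁ U) ⊓ i' ⁻¹ᵁ U' := by
    refine le_antisymm (le_inf ?_ le_rfl) inf_le_right
    rw [← Scheme.Hom.comp_preimage, H.w, Scheme.Hom.comp_preimage]
    exact i'.preimage_mono e
  have hUSX : i ⁻¹ᵁ U ≤ i ⁻¹ᵁ U := le_rfl
  have hpb := Scheme.Hom.isPullback_resLE H e hUSX hUY
  obtain ⟨hV, hs⟩ := Groth.Agent.LibRegImmStalk29.affine_and_app_surjective_of_restrict i U hU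
  constructor
  · have h1 : IsClosedImmersion (i.resLE U (i ⁻¹ᵁ U) hUSX) := by
      rw [Scheme.Hom.resLE_eq_morphismRestrict]
      infer_instance
    have h2 := MorphismProperty.of_isPullback (P := @IsClosedImmersion) hpb h1
    rw [Scheme.Hom.resLE_eq_morphismRestrict] at h2
    exact h2
  · have hiso := isIso_pushoutSection_of_isAffineOpen H e hUSX hUY hU hU' hV
    have hpo := (isIso_pushoutSection_iff H e hUSX hUY).mp hiso
    have := Groth.Agent.LibRegImmBC29.ker_of_isPushout hpo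
      (by rw [Scheme.Hom.appLE_eq_app]; exact hs)
    rw [Scheme.Hom.appLE_eq_app] at this
    rw [this, Scheme.Hom.appLE_eq_app]

theorem restrict_of_le (i : Z ⟶ X) (U : X.Opens) (hU : IsAffineOpen U)
    [IsClosedImmersion (i ∣_ U)] (W : X.Opens) (hW : IsAffineOpen W) (e : W ≤ U) :
    IsClosedImmersion (i ∣_ W) ∧
      RingHom.ker (i.app W).hom =
        (RingHom.ker (i.app U).hom).map (X.presheaf.map (homOfLE e).op).hom := by
  have H : IsPullback (𝟙 Z) i i (𝟙 X) := IsPullback.id_horiz i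
  have e' : W ≤ (𝟙 X) ⁻¹ᵁ U := e
  obtain ⟨h1, h2⟩ := restrict_of_isPullback i (𝟙 X) i (𝟙 Z) H U hU W hW e'
  refine ⟨h1, ?_⟩
  rw [h2]
  congr 2

theorem flat_restrict {Y : Scheme.{u}} (V W : Y.Opens) (hV : IsAffineOpen V) (hW : IsAffineOpen W)
    (e : W ≤ V) : (Y.presheaf.map (homOfLE e).op).hom.Flat := by
  have e' : W ≤ (𝟙 Y) ⁻¹ᵁ V := e
  have := Scheme.Hom.flat_appLE (𝟙 Y) hV hW e'
  convert this using 2
  simp only [Scheme.Hom.appLE, Scheme.Hom.id_app]
  exact (Category.id_comp _).symm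

/-- local form of the composition of Koszul-regular immersions. -/
theorem comp_at {X Y Z : Scheme.{u}} (i : Y ⟶ X) (j : Z ⟶ Y) (z : Z)
    (U₀ : X.affineOpens) (hxU : i (j z) ∈ U₀.1) (hclU : IsClosedImmersion (i ∣_ U₀.1))
    (fs₀ : List Γ(X, U₀.1)) (hfs₀ : LCI.IsKoszulRegularSeq Γ(X, U₀.1) fs₀)
    (hkerU : RingHom.ker (i.app U₀.1).hom = Ideal.ofList fs₀)
    (V₀ : Y.affineOpens) (hyV : j z ∈ V₀.1) (hclV : IsClosedImmersion (j ∣_ V₀.1))
    (gs₀ : List Γ(Y, V₀.1)) (hgs₀ : LCI.IsKoszulRegularSeq Γ(Y, V₀.1) gs₀)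
    (hkerV : RingHom.ker (j.app V₀.1).hom = Ideal.ofList gs₀) :
    ∃ W : X.affineOpens, (j ≫ i) z ∈ W.1 ∧ IsClosedImmersion ((j ≫ i) ∣_ W.1) ∧
      ∃ rs : List Γ(X, W.1), rs.length = gs₀.length + fs₀.length ∧
        LCI.IsKoszulRegularSeq Γ(X, W.1) rs ∧
          RingHom.ker ((j ≫ i).app W.1).hom = Ideal.ofList rs := by
  obtain ⟨hVU, hsU⟩ :=
    Groth.Agent.LibRegImmStalk29.affine_and_app_surjective_of_restrict i U₀.1 U₀.2
  have hy : j z ∈ i ⁻¹ᵁ U₀.1 ⊓ V₀.1 := ⟨hxU, hyV⟩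
  obtain ⟨f, g, hfg, hyf⟩ := exists_basicOpen_le_affine_inter hVU V₀.2 (j z) hy
  obtain ⟨a, rfl⟩ := hsU f
  have hW : IsAffineOpen (X.basicOpen a) := U₀.2.basicOpen a
  have hWU : X.basicOpen a ≤ U₀.1 := X.basicOpen_le a
  have hpre : i ⁻¹ᵁ (X.basicOpen a) = Y.basicOpen ((i.app U₀.1).hom a) :=
    Scheme.preimage_basicOpen i a
  have hVV : i ⁻¹ᵁ (X.basicOpen a) ≤ V₀.1 := by
    rw [hpre, hfg]
    exact Y.basicOpen_le g
  obtain ⟨hclW, hkerW⟩ := restrict_of_le i U₀.1 U₀.2 (X.basicOpen a) hW hWU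
  have := hclW
  obtain ⟨hV, hsW⟩ :=
    Groth.Agent.LibRegImmStalk29.affine_and_app_surjective_of_restrict i (X.basicOpen a) hW
  obtain ⟨hclV', hkerV'⟩ := restrict_of_le j V₀.1 V₀.2 (i ⁻¹ᵁ (X.basicOpen a)) hV hVV
  have hfs : LCI.IsKoszulRegularSeq Γ(X, X.basicOpen a)
      (fs₀.map (X.presheaf.map (homOfLE hWU).op).hom) :=
    Groth.Agent.LibKoszulFlat29.isKoszulRegularSeq_map_of_flat _
      (flat_restrict U₀.1 (X.basicOpen a) U₀.2 hW hWU) fs₀ hfs₀
  have hgs' : LCI.IsKoszulRegularSeq Γ(Y, i ⁻¹ᵁ (X.basicOpen a))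
      (gs₀.map (Y.presheaf.map (homOfLE hVV).op).hom) :=
    Groth.Agent.LibKoszulFlat29.isKoszulRegularSeq_map_of_flat _
      (flat_restrict V₀.1 _ V₀.2 hV hVV) gs₀ hgs₀
  rw [hkerU, Ideal.map_ofList] at hkerW
  rw [hkerV, Ideal.map_ofList] at hkerV'
  obtain ⟨gs, hgs⟩ := (List.map_surjective_iff.mpr hsW)
    (gs₀.map (Y.presheaf.map (homOfLE hVV).op).hom)
  rw [← hgs] at hgs' hkerV'
  refine ⟨⟨X.basicOpen a, hW⟩, ?_, ?_, gs ++ fs₀.map (X.presheaf.map (homOfLE hWU).op).hom,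
    ?_, ?_, ?_⟩
  · change (j ≫ i) z ∈ X.basicOpen a
    rw [Scheme.Hom.comp_apply]
    change j z ∈ i ⁻¹ᵁ (X.basicOpen a)
    rw [hpre]
    exact hyf
  · change IsClosedImmersion ((j ≫ i) ∣_ (X.basicOpen a))
    rw [morphismRestrict_comp]
    exact MorphismProperty.comp_mem @IsClosedImmersion _ _ hclV' hclW
  · rw [List.length_append, List.length_map]
    have := congrArg List.length hgs
    rw [List.length_map, List.length_map] at this
    rw [this]
  · exact Groth.Agent.LibKoszulComp29.isKoszulRegularSeq_append hsW _ gs hkerW hfs hgs'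
  · change RingHom.ker ((j ≫ i).app (X.basicOpen a)).hom = _
    rw [Scheme.Hom.comp_app]
    change RingHom.ker ((j.app (i ⁻¹ᵁ (X.basicOpen a))).hom.comp
      (i.app (X.basicOpen a)).hom) = _
    rw [← RingHom.comap_ker, hkerV', ← Ideal.map_ofList,
      Ideal.comap_map_of_surjective _ hsW, Ideal.ofList_append]
    congr 1

end Groth.Agent.LibRegImmComp29
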