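import Mathlib
import Groth.Prelude.Def_RegImm
import Groth.Agent.LibSecReg29
import Groth.Agent.LibRegImmStalk29
import Groth.Agent.LibRegImmComp29

/-!
# Sections of smooth morphisms are regular immersions: scheme level (helper29)

* `isClosedImmersion_restrict_of_surjective`: if `i⁻¹U` and `U` are affine and `Γ(X,U) → Γ(Z,i⁻¹U)`
  is surjective then `i ∣_ U` is a closed immersion.
* `isRegularImmersionAt_of_localData`: passing from `c · ker ⊆ (rs)` to a regular immersion on `D(c)`.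
* `isRegularImmersionAt_of_section`: a section of a smooth morphism is a regular immersion at
  every point.
-/

set_option autoImplicit false
universe u
open CategoryTheory CategoryTheory.Limits AlgebraicGeometry

namespace Groth.Agent.LibSecRegSch29

variable {Z X : Scheme.{u}}

theorem isClosedImmersion_restrict_of_surjective (i : Z ⟶ X) (U : X.Opens) (hU : IsAffineOpen U)
    (hV : IsAffineOpen (i ⁻¹ᵁ U)) (hs : Function.Surjective (i.app U).hom) :
    IsClosedImmersion (i ∣_ U) := by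
  have : IsAffine U.toScheme := hU
  have : IsAffine (i ⁻¹ᵁ U).toScheme := hV
  apply IsClosedImmersion.of_surjective_of_isAffine
  rw [morphismRestrict_appTop]
  have key : ∀ W : X.Opens, W = U → Function.Surjective (i.app W).hom := by
    rintro W rfl
    exact hs
  have h3 := key _ (Scheme.Opens.ι_image_top U)
  have h4 : Function.Surjective
      (Z.presheaf.map (eqToHom (image_morphismRestrict_preimage i U ⊤)).op).hom :=
    (ConcreteCategory.bijective_of_isIso _).2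
  exact h4.comp h3

/-- from `c · ker ⊆ (rs) ⊆ ker` with `rs` weakly regular to a regular immersion on `D(c)`. -/
theorem isRegularImmersionAt_of_localData (i : Z ⟶ X) (z : Z) (V : X.Opens) (hV : IsAffineOpen V)
    (hV' : IsAffineOpen (i ⁻¹ᵁ V)) (hs : Function.Surjective (i.app V).hom)
    (c : Γ(X, V)) (rs : List Γ(X, V)) (hz : i z ∈ X.basicOpen c)
    (hreg : RingTheory.Sequence.IsWeaklyRegular Γ(X, V) rs)
    (hrs : ∀ r ∈ rs, (i.app V).hom r = 0)
    (hc : ∀ x, (i.app V).hom x = 0 → c * x ∈ Ideal.ofList rs) :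
    ∃ W : X.affineOpens, i z ∈ W.1 ∧ IsClosedImmersion (i ∣_ W.1) ∧
      ∃ rs' : List Γ(X, W.1), rs'.length = rs.length ∧
        RingTheory.Sequence.IsRegular Γ(X, W.1) rs' ∧
          RingHom.ker (i.app W.1).hom = Ideal.ofList rs' := by
  haveI := isClosedImmersion_restrict_of_surjective i V hV hV' hs
  have hW : IsAffineOpen (X.basicOpen c) := hV.basicOpen c
  have hWV : X.basicOpen c ≤ V := X.basicOpen_le c
  obtain ⟨hclW, hkerW⟩ :=
    Groth.Agent.LibRegImmComp29.restrict_of_le i V hV (X.basicOpen c) hW hWV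
  set ρ := (X.presheaf.map (homOfLE hWV).op).hom with hρ
  have hunit : IsUnit (ρ c) := X.toRingedSpace.isUnit_res_basicOpen c
  have hker : (RingHom.ker (i.app V).hom).map ρ = Ideal.ofList (rs.map ρ) := by
    rw [← Ideal.map_ofList]
    apply le_antisymm
    · rw [Ideal.map_le_iff_le_comap]
      intro x hx
      rw [Ideal.mem_comap]
      have h1 : ρ (c * x) ∈ (Ideal.ofList rs).map ρ := Ideal.mem_map_of_mem ρ (hc x hx)
      rw [map_mul] at h1
      exact (Ideal.unit_mul_mem_iff_mem _ hunit).mp h1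
    · apply Ideal.map_mono
      rw [Ideal.ofList, Ideal.span_le]
      intro r hr
      exact hrs r hr
  refine ⟨⟨X.basicOpen c, hW⟩, hz, hclW, rs.map ρ, List.length_map _, ?_, ?_⟩
  · have hflat : ρ.Flat :=
      Groth.Agent.LibRegImmComp29.flat_restrict V (X.basicOpen c) hV hW hWV
    let _ := ρ.toAlgebra
    have : Module.Flat Γ(X, V) Γ(X, X.basicOpen c) := hflat
    refine ⟨RingTheory.Sequence.IsWeaklyRegular.of_flat (S := Γ(X, X.basicOpen c)) hreg, ?_⟩
    intro h'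
    rw [smul_eq_mul, Ideal.mul_top] at h'
    have htop : RingHom.ker (i.app (X.basicOpen c)).hom = ⊤ := by
      rw [hkerW, hker]
      exact h'.symm
    have hne : Nonempty (i ⁻¹ᵁ (X.basicOpen c) : Z.Opens) := ⟨⟨z, hz⟩⟩
    have hnt : Nontrivial Γ(Z, i ⁻¹ᵁ (X.basicOpen c)) := Scheme.component_nontrivial _ _
    have h1 : (1 : Γ(X, X.basicOpen c)) ∈ RingHom.ker (i.app (X.basicOpen c)).hom := by
      rw [htop]
      trivial
    rw [RingHom.mem_ker, map_one] at h1
    exact one_ne_zero h1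
  · rw [hkerW, hker]

theorem appLE_eq_id_of_eq_id {S : Scheme.{u}} (g : S ⟶ S) (hg : g = 𝟙 S) (W : S.Opens)
    (h : W ≤ g ⁻¹ᵁ W) : g.appLE W W h = 𝟙 _ := by
  subst hg
  rw [Scheme.Hom.appLE, Scheme.Hom.id_app]
  exact (Category.id_comp _).trans (S.presheaf.map_id _)

open Groth.Agent.LibSecReg29 in
/-- **A section of a smooth morphism is a regular immersion at every point.** -/
theorem exists_regular_of_section {X S : Scheme.{u}} (f : X ⟶ S) [Smooth f] (σ : S ⟶ X)
    (hσ : σ ≫ f = 𝟙 S) (s₀ : S) :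
    ∃ W : X.affineOpens, σ s₀ ∈ W.1 ∧ IsClosedImmersion (σ ∣_ W.1) ∧
      ∃ rs' : List Γ(X, W.1), RingTheory.Sequence.IsRegular Γ(X, W.1) rs' ∧
        RingHom.ker (σ.app W.1).hom = Ideal.ofList rs' := by
  obtain ⟨U, hU, V, hV, hx₀, e, hψ⟩ := Smooth.exists_isStandardSmooth f (σ s₀)
  obtain ⟨n, g₀, hg₀C, hg₀⟩ := hψ.exists_etale_mvPolynomial
  obtain ⟨hg₀f, hg₀u, -⟩ := RingHom.Etale.iff_flat_and_formallyUnramified.mp hg₀
  have hfσ : ∀ s : S, f (σ s) = s := fun s => by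
    rw [← Scheme.Hom.comp_apply, hσ]
    rfl
  have hs₀U : s₀ ∈ U := by
    have := e hx₀
    change f (σ s₀) ∈ U at this
    rwa [hfσ] at this
  obtain ⟨b, hb1, hb2⟩ := hU.exists_basicOpen_le (V := σ ⁻¹ᵁ V ⊓ U) ⟨s₀, hx₀, hs₀U⟩ hs₀U
  have hV' : IsAffineOpen (X.basicOpen ((f.appLE U V e).hom b)) := hV.basicOpen _
  have hpre : σ ⁻¹ᵁ (X.basicOpen ((f.appLE U V e).hom b)) = S.basicOpen b := by
    rw [Scheme.basicOpen_appLE, Scheme.Hom.preimage_inf, ← Scheme.Hom.comp_preimage, hσ,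
      Scheme.Hom.id_preimage]
    exact inf_eq_right.mpr (hb1.trans inf_le_left)
  generalize hV'def : X.basicOpen ((f.appLE U V e).hom b) = V' at hV' hpre
  have hV'V : V' ≤ V := hV'def ▸ X.basicOpen_le _
  have hV'f : V' ≤ f ⁻¹ᵁ (S.basicOpen b) := by
    rw [← hV'def, Scheme.basicOpen_appLE]
    exact inf_le_right
  have hpreAff : IsAffineOpen (σ ⁻¹ᵁ V') := hpre ▸ hU.basicOpen b
  have hle1 : σ ⁻¹ᵁ V' ≤ U := hpre.le.trans (S.basicOpen_le b)
  let ρB : Γ(S, U) →+* Γ(S, σ ⁻¹ᵁ V') := (S.presheaf.map (homOfLE hle1).op).hom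
  have hloc : @IsLocalization.Away _ _ b Γ(S, σ ⁻¹ᵁ V') _ ρB.toAlgebra :=
    hU.isLocalization_of_eq_basicOpen b (homOfLE hle1) hpre
  let ρC : Γ(X, V) →+* Γ(X, V') := (X.presheaf.map (homOfLE hV'V).op).hom
  have hρf : ρC.Flat := Groth.Agent.LibRegImmComp29.flat_restrict V V' hV hV' hV'V
  have hρu : ρC.FormallyUnramified := by
    have hl : @IsLocalization.Away _ _ ((f.appLE U V e).hom b) Γ(X, V') _ ρC.toAlgebra :=
      hV.isLocalization_of_eq_basicOpen _ (homOfLE hV'V) hV'def.symm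
    letI := ρC.toAlgebra
    have : Algebra.FormallyUnramified Γ(X, V) Γ(X, V') :=
      Algebra.FormallyUnramified.of_isLocalization (Submonoid.powers ((f.appLE U V e).hom b))
    exact this
  have e₁ : V' ≤ f ⁻¹ᵁ (σ ⁻¹ᵁ V') := by
    rw [hpre]
    exact hV'f
  let f₁ : Γ(S, σ ⁻¹ᵁ V') →+* Γ(X, V') := (f.appLE (σ ⁻¹ᵁ V') V' e₁).hom
  have hcomp : ∀ β, f₁ (ρB β) = ρC (g₀ (MvPolynomial.C β)) := by
    intro β
    have h1 : g₀ (MvPolynomial.C β) = (f.appLE U V e).hom β := by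
      rw [← hg₀C]
      rfl
    rw [h1]
    change (S.presheaf.map (homOfLE hle1).op ≫ f.appLE (σ ⁻¹ᵁ V') V' e₁) β =
      (f.appLE U V e ≫ X.presheaf.map (homOfLE hV'V).op) β
    rw [Scheme.Hom.map_appLE, Scheme.Hom.appLE_map]
  obtain ⟨hflat, hunr⟩ := locMap_flat_unramified' ρB (Submonoid.powers b) hloc g₀ ρC f₁ hcomp
    hg₀f hg₀u hρf hρu
  let s : Γ(X, V') →+* Γ(S, σ ⁻¹ᵁ V') := (σ.app V').hom
  have hsf : ∀ β, s (f₁ β) = β := by
    intro β
    change (f.appLE (σ ⁻¹ᵁ V') V' e₁ ≫ σ.app V') β = β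
    rw [Scheme.Hom.app_eq_appLE, Scheme.Hom.appLE_comp_appLE, appLE_eq_id_of_eq_id _ hσ]
    rfl
  have hsurj : Function.Surjective s := fun β => ⟨f₁ β, hsf β⟩
  have hfg : (RingHom.ker s).FG := by
    have hfp : f₁.FinitePresentation := f.finitePresentation_appLE hpreAff hV' e₁
    letI := f₁.toAlgebra
    haveI : Algebra.FinitePresentation Γ(S, σ ⁻¹ᵁ V') Γ(X, V') := hfp
    let sA : Γ(X, V') →ₐ[Γ(S, σ ⁻¹ᵁ V')] Γ(S, σ ⁻¹ᵁ V') := { s with commutes' := hsf }
    have hsurjA : Function.Surjective sA := hsurj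
    exact Algebra.FinitePresentation.ker_fG_of_surjective sA hsurjA
  obtain ⟨c, rs, hc1, -, hreg, hrs, hc⟩ :=
    Groth.Agent.LibSecReg29.exists_regular_of_section (locMap g₀ ρC f₁) hflat hunr s
      (fun β => by rw [locMap_C]; exact hsf β) hfg
  have hz : σ s₀ ∈ X.basicOpen c := by
    change s₀ ∈ σ ⁻¹ᵁ (X.basicOpen c)
    rw [Scheme.preimage_basicOpen]
    have h1 : (σ.app V').hom c = 1 := hc1
    rw [h1, Scheme.basicOpen_of_isUnit _ isUnit_one, hpre]
    exact hb2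
  obtain ⟨W, hW1, hW2, rs', -, hW3, hW4⟩ :=
    isRegularImmersionAt_of_localData σ s₀ V' hV' hpreAff hsurj c rs hz hreg hrs hc
  exact ⟨W, hW1, hW2, rs', hW3, hW4⟩

end Groth.Agent.LibSecRegSch29
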