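import Mathlib
import Groth.Prelude.Def_LCI2
import Groth.Prelude.Def_RegImm
import Groth.Agent.LibKoszulSmoothDescent29
import Groth.Agent.LibRegImmComp29
import Groth.Agent.LibRegImmStalk29
import Groth.Agent.LibSecRegSch29
import Groth.Agent.LibSecReg29
import Groth.Agent.LibRegImmBasic29
import Groth.Agent.Lib.Helper4.LocImm

/-!
# Koszul-regular immersions descend along smooth morphisms (helper29)

`isRegularImmersion_koszul_of_comp_smooth`: if `j : X ⟶ V'` is a Koszul-regular immersion,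
`p : V' ⟶ V` is smooth and `i = j ≫ p` is an immersion, then `i` is a Koszul-regular immersion.
-/

set_option autoImplicit false
universe u

open AlgebraicGeometry CategoryTheory

namespace Groth.Agent.LibRegImmSmoothDesc29

open Groth.Agent.LibKoszulFlat29 Groth.Agent.LibRegImmComp29

/-- transfer of a local Koszul-regular generating sequence along an identification of the
localization. -/
theorem exists_list_of_away {A : Type u} [CommRing A] (I : Ideal A) (a : A)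
    (l : List (Localization.Away a)) (hl : LCI.IsKoszulRegularSeq (Localization.Away a) l)
    (hI : I.map (algebraMap A (Localization.Away a)) = Ideal.span {x | x ∈ l})
    (A' : Type u) [CommRing A'] (ρ : A →+* A')
    (hloc : @IsLocalization.Away A _ a A' _ ρ.toAlgebra) :
    ∃ l' : List A', LCI.IsKoszulRegularSeq A' l' ∧ I.map ρ = Ideal.ofList l' := by
  letI := ρ.toAlgebra
  haveI := hloc
  let e : Localization.Away a ≃ₐ[A] A' :=
    IsLocalization.algEquiv (Submonoid.powers a) (Localization.Away a) A'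
  have he : (e : Localization.Away a →+* A').comp (algebraMap A (Localization.Away a)) = ρ := by
    ext x
    exact e.commutes x
  refine ⟨l.map (e : Localization.Away a →+* A'), ?_, ?_⟩
  · exact isKoszulRegularSeq_map_of_flat _ (RingHom.Flat.of_bijective e.bijective) l hl
  · rw [← he, ← Ideal.map_map, hI, ← Ideal.map_ofList]

variable {X V : Scheme.{u}}

/-- from a Koszul-regular kernel to a Koszul-regular immersion at a point. -/
theorem isRegularImmersionAt_of_isKoszulRegularIdeal (i : X ⟶ V) (x : X) (U : V.Opens)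
    (hU : IsAffineOpen U) [IsClosedImmersion (i ∣_ U)] (hx : i x ∈ U)
    (h : LCI.IsKoszulRegularIdeal (RingHom.ker (i.app U).hom)) :
    RegImm.IsRegularImmersionAt .koszul i x := by
  have hle : RingHom.ker (i.app U).hom ≤ (hU.primeIdealOf ⟨i x, hx⟩).asIdeal := by
    intro a ha
    rw [Groth.Agent.Lib.helper4.LocImm.mem_primeIdealOf_iff hU (i x) hx a]
    intro hmem
    have h1 : x ∈ i ⁻¹ᵁ (V.basicOpen a) := hmem
    rw [Scheme.preimage_basicOpen, (RingHom.mem_ker.1 ha : (i.app U).hom a = 0),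
      Scheme.basicOpen_zero] at h1
    exact h1
  obtain ⟨a, ha, l, hl, hI⟩ := h (hU.primeIdealOf ⟨i x, hx⟩) hle
  have hxa : i x ∈ V.basicOpen a := by
    by_contra hcon
    exact ha ((Groth.Agent.Lib.helper4.LocImm.mem_primeIdealOf_iff hU (i x) hx a).2 hcon)
  have hW : IsAffineOpen (V.basicOpen a) := hU.basicOpen a
  have hWU : V.basicOpen a ≤ U := V.basicOpen_le a
  obtain ⟨hclW, hkerW⟩ := restrict_of_le i U hU (V.basicOpen a) hW hWU
  have hloc := hU.isLocalization_of_eq_basicOpen a (homOfLE hWU) rfl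
  obtain ⟨l', hl', hIl'⟩ := exists_list_of_away _ a l hl hI Γ(V, V.basicOpen a)
    (V.presheaf.map (homOfLE hWU).op).hom hloc
  exact ⟨⟨V.basicOpen a, hW⟩, hxa, hclW, l', hl', hkerW.trans hIl'⟩

/-- an immersion is a closed immersion over small opens around a point of the image. -/
theorem exists_forall_isClosedImmersion_restrict (i : X ⟶ V) [IsImmersion i] (x : X) :
    ∃ O : V.Opens, i x ∈ O ∧ ∀ W : V.Opens, W ≤ O → IsClosedImmersion (i ∣_ W) := by
  obtain ⟨O, Z, hO, hZ, hOZ⟩ := i.isLocallyClosed_range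
  have hxOZ : i x ∈ O ∩ Z := hOZ ▸ Set.mem_range_self x
  refine ⟨⟨O, hO⟩, hxOZ.1, fun W hW => ?_⟩
  refine IsClosedImmersion.of_isPreimmersion _ ?_
  have hrange : Set.range (i ∣_ W) = Subtype.val ⁻¹' Z := by
    ext y
    constructor
    · rintro ⟨z, rfl⟩
      have h1 : ((i ∣_ W) z).1 = i z.1 := morphismRestrict_base_coe i W z
      have h2 : i z.1 ∈ O ∩ Z := hOZ ▸ Set.mem_range_self z.1
      change ((i ∣_ W) z).1 ∈ Z
      rw [h1]
      exact h2.2
    · intro hy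
      have h1 : y.1 ∈ Set.range i := by
        rw [hOZ]
        exact ⟨hW y.2, hy⟩
      obtain ⟨x', hx'⟩ := h1
      have hx'W : x' ∈ i ⁻¹ᵁ W := by
        change i x' ∈ W
        rw [hx']
        exact y.2
      refine ⟨⟨x', hx'W⟩, Subtype.ext ?_⟩
      rw [morphismRestrict_base_coe]
      exact hx'
  rw [hrange]
  exact hZ.preimage continuous_subtype_val

theorem presheaf_map_bijective_of_eq {Y : Scheme.{u}} {W₁ W₂ : Y.Opens} (h : W₁ = W₂) :
    Function.Bijective (Y.presheaf.map (homOfLE h.le).op).hom := by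
  subst h
  have : (homOfLE (le_refl W₁)) = 𝟙 W₁ := rfl
  rw [this, op_id, Y.presheaf.map_id]
  exact Function.bijective_id

open Groth.Agent.LibSecReg29 Groth.Agent.LibKoszulSmoothDescent29 in
/-- **Koszul-regular immersions descend along smooth morphisms (pointwise version).** -/
theorem isRegularImmersionAt_koszul_of_comp_smooth {X V V' : Scheme.{u}} (j : X ⟶ V')
    (p : V' ⟶ V) [Smooth p] [IsImmersion (j ≫ p)] (x : X)
    (hj : RegImm.IsRegularImmersionAt .koszul j x) :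
    RegImm.IsRegularImmersionAt .koszul (j ≫ p) x := by
  classical
  -- (a)
  obtain ⟨O, hxO, hO⟩ := exists_forall_isClosedImmersion_restrict (j ≫ p) x
  -- (b)
  obtain ⟨U', hxU', hclU', hs', hreg', hker'⟩ := hj
  -- (c)
  obtain ⟨U, hU, V₁, hV₁, hx₀, e, hψ⟩ := Smooth.exists_isStandardSmooth p (j x)
  obtain ⟨n, g₀, hg₀C, hg₀⟩ := hψ.exists_etale_mvPolynomial
  obtain ⟨hg₀f, hg₀u, -⟩ := RingHom.Etale.iff_flat_and_formallyUnramified.mp hg₀
  have hixU : (j ≫ p) x ∈ U := e hx₀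
  -- (d)
  obtain ⟨f, g, hfg, hxf⟩ := exists_basicOpen_le_affine_inter hV₁ U'.2 (j x) ⟨hx₀, hxU'⟩
  have hV₂ : IsAffineOpen (V'.basicOpen f) := hV₁.basicOpen f
  have hV₂V₁ : V'.basicOpen f ≤ V₁ := V'.basicOpen_le f
  have hV₂U' : V'.basicOpen f ≤ U'.1 := hfg ▸ V'.basicOpen_le g
  generalize hV₂def : V'.basicOpen f = V₂ at hV₂ hV₂V₁ hV₂U' hxf
  -- (e)
  obtain ⟨N, hN⟩ : ∃ N : V.Opens, (j ≫ p) ⁻¹ᵁ N = j ⁻¹ᵁ V₂ := by
    obtain ⟨t, ht, hpre⟩ := (j ≫ p).isEmbedding.isInducing.isOpen_iff.1 (j ⁻¹ᵁ V₂).isOpen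
    exact ⟨⟨t, ht⟩, TopologicalSpace.Opens.ext hpre⟩
  have hxN : (j ≫ p) x ∈ N := by
    change x ∈ (j ≫ p) ⁻¹ᵁ N
    rw [hN]
    exact hxf
  obtain ⟨b, hb1, hb2⟩ := hU.exists_basicOpen_le (V := O ⊓ N ⊓ U)
    ⟨(j ≫ p) x, ⟨hxO, hxN⟩, hixU⟩ hixU
  have hU₁ : IsAffineOpen (V.basicOpen b) := hU.basicOpen b
  have hU₁U : V.basicOpen b ≤ U := V.basicOpen_le b
  -- (f)
  have e₂ : V₂ ≤ p ⁻¹ᵁ U := hV₂V₁.trans e
  have hV₃ : IsAffineOpen (V'.basicOpen ((p.appLE U V₂ e₂).hom b)) := hV₂.basicOpen _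
  have hV₃V₂ : V'.basicOpen ((p.appLE U V₂ e₂).hom b) ≤ V₂ := V'.basicOpen_le _
  have hV₃eq : V'.basicOpen ((p.appLE U V₂ e₂).hom b) = V₂ ⊓ p ⁻¹ᵁ (V.basicOpen b) :=
    Scheme.basicOpen_appLE p V₂ U e₂ b
  have hloc₂ : ∀ (V₃ : V'.Opens) (hle : V₃ ≤ V₂), V₃ = V'.basicOpen ((p.appLE U V₂ e₂).hom b) →
      @IsLocalization.Away _ _ ((p.appLE U V₂ e₂).hom b) Γ(V', V₃) _
        (V'.presheaf.map (homOfLE hle).op).hom.toAlgebra :=
    fun V₃ hle h3 => hV₂.isLocalization_of_eq_basicOpen _ (homOfLE hle) h3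
  generalize hV₃def : V'.basicOpen ((p.appLE U V₂ e₂).hom b) = V₃ at hV₃ hV₃V₂ hV₃eq hloc₂
  have hloc₂' := hloc₂ V₃ hV₃V₂ rfl
  have hpre : j ⁻¹ᵁ V₃ = (j ≫ p) ⁻¹ᵁ (V.basicOpen b) := by
    rw [hV₃eq, Scheme.Hom.preimage_inf, ← Scheme.Hom.comp_preimage, ← hN]
    exact inf_eq_right.2
      (Scheme.Hom.preimage_mono (j ≫ p) (hb1.trans (inf_le_left.trans inf_le_right)))
  have hV₃V₁ : V₃ ≤ V₁ := hV₃V₂.trans hV₂V₁
  have e₃ : V₃ ≤ p ⁻¹ᵁ (V.basicOpen b) := hV₃eq ▸ inf_le_right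
  -- (g) the rings
  let ρB : Γ(V, U) →+* Γ(V, V.basicOpen b) := (V.presheaf.map (homOfLE hU₁U).op).hom
  have hloc : @IsLocalization.Away _ _ b Γ(V, V.basicOpen b) _ ρB.toAlgebra :=
    hU.isLocalization_of_eq_basicOpen b (homOfLE hU₁U) rfl
  let ρC : Γ(V', V₁) →+* Γ(V', V₃) := (V'.presheaf.map (homOfLE hV₃V₁).op).hom
  have hρf : ρC.Flat := flat_restrict V₁ V₃ hV₁ hV₃ hV₃V₁
  have hρu : ρC.FormallyUnramified := by
    let ρ1 : Γ(V', V₁) →+* Γ(V', V₂) := (V'.presheaf.map (homOfLE hV₂V₁).op).hom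
    let ρ2 : Γ(V', V₂) →+* Γ(V', V₃) := (V'.presheaf.map (homOfLE hV₃V₂).op).hom
    have h12 : ρC = ρ2.comp ρ1 := by
      change (V'.presheaf.map (homOfLE hV₃V₁).op).hom =
        (V'.presheaf.map (homOfLE hV₂V₁).op ≫ V'.presheaf.map (homOfLE hV₃V₂).op).hom
      rw [← Functor.map_comp]
      rfl
    have hu1 : ρ1.FormallyUnramified := by
      have hl : @IsLocalization.Away _ _ f Γ(V', V₂) _ ρ1.toAlgebra :=
        hV₁.isLocalization_of_eq_basicOpen f (homOfLE hV₂V₁) hV₂def.symm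
      letI := ρ1.toAlgebra
      have : Algebra.FormallyUnramified Γ(V', V₁) Γ(V', V₂) :=
        Algebra.FormallyUnramified.of_isLocalization (Submonoid.powers f)
      exact this
    have hu2 : ρ2.FormallyUnramified := by
      letI := ρ2.toAlgebra
      haveI := hloc₂'
      have : Algebra.FormallyUnramified Γ(V', V₂) Γ(V', V₃) :=
        Algebra.FormallyUnramified.of_isLocalization
          (Submonoid.powers ((p.appLE U V₂ e₂).hom b))
      exact this
    rw [h12]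
    exact RingHom.FormallyUnramified.comp hu1 hu2
  let f₁ : Γ(V, V.basicOpen b) →+* Γ(V', V₃) := (p.appLE (V.basicOpen b) V₃ e₃).hom
  have hcomp : ∀ β, f₁ (ρB β) = ρC (g₀ (MvPolynomial.C β)) := by
    intro β
    have h1 : g₀ (MvPolynomial.C β) = (p.appLE U V₁ e).hom β := by
      rw [← hg₀C]
      rfl
    rw [h1]
    change (V.presheaf.map (homOfLE hU₁U).op ≫ p.appLE (V.basicOpen b) V₃ e₃) β =
      (p.appLE U V₁ e ≫ V'.presheaf.map (homOfLE hV₃V₁).op) β
    rw [Scheme.Hom.map_appLE, Scheme.Hom.appLE_map]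
  obtain ⟨hflat, hunr⟩ := locMap_flat_unramified' ρB (Submonoid.powers b) hloc g₀ ρC f₁ hcomp
    hg₀f hg₀u hρf hρu
  -- the ideal `J`
  obtain ⟨hclV₃, hkerV₃⟩ := restrict_of_le j U'.1 U'.2 V₃ hV₃ (hV₃V₂.trans hV₂U')
  set res : Γ(V', U'.1) →+* Γ(V', V₃) :=
    (V'.presheaf.map (homOfLE (hV₃V₂.trans hV₂U')).op).hom with hres
  have hresf : res.Flat := flat_restrict U'.1 V₃ U'.2 hV₃ (hV₃V₂.trans hV₂U')
  have hreg₃ : LCI.IsKoszulRegularSeq Γ(V', V₃) (hs'.map res) :=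
    isKoszulRegularSeq_map_of_flat res hresf hs' hreg'
  have hJ : RingHom.ker (j.app V₃).hom = Ideal.ofList (hs'.map res) := by
    rw [hkerV₃, hker', Ideal.map_ofList]
  -- the relation between `i.app U₁` and `j.app V₃`
  haveI : IsClosedImmersion ((j ≫ p) ∣_ V.basicOpen b) :=
    hO _ (hb1.trans (inf_le_left.trans inf_le_left))
  obtain ⟨-, hisurj⟩ :=
    Groth.Agent.LibRegImmStalk29.affine_and_app_surjective_of_restrict (j ≫ p) (V.basicOpen b) hU₁
  let r : Γ(X, (j ≫ p) ⁻¹ᵁ (V.basicOpen b)) →+* Γ(X, j ⁻¹ᵁ V₃) :=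
    (X.presheaf.map (homOfLE hpre.le).op).hom
  have hr : Function.Bijective r := presheaf_map_bijective_of_eq hpre
  have hrel : ∀ a, (j.app V₃).hom (f₁ a) = r (((j ≫ p).app (V.basicOpen b)).hom a) := by
    intro a
    change (p.appLE (V.basicOpen b) V₃ e₃ ≫ j.app V₃) a =
      ((j ≫ p).app (V.basicOpen b) ≫ X.presheaf.map (homOfLE hpre.le).op) a
    rw [Scheme.Hom.app_eq_appLE, Scheme.Hom.appLE_comp_appLE, Scheme.Hom.appLE]
  have hIJ : RingHom.ker ((j ≫ p).app (V.basicOpen b)).hom =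
      (RingHom.ker (j.app V₃).hom).comap f₁ := by
    ext a
    rw [Ideal.mem_comap, RingHom.mem_ker, RingHom.mem_ker, hrel, map_eq_zero_iff r hr.1]
  have hsurj : ∀ d : Γ(V', V₃), ∃ a : Γ(V, V.basicOpen b),
      d - f₁ a ∈ RingHom.ker (j.app V₃).hom := by
    intro d
    obtain ⟨y, hy⟩ := hr.2 ((j.app V₃).hom d)
    obtain ⟨a, ha⟩ := hisurj y
    refine ⟨a, ?_⟩
    rw [RingHom.mem_ker, map_sub, hrel, ha, hy, sub_self]
  have hJfg : (RingHom.ker (j.app V₃).hom).FG := by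
    rw [hJ]
    exact ⟨(hs'.map res).toFinset, by rw [Ideal.ofList]; congr 1; ext y; simp⟩
  have hIfg : (RingHom.ker ((j ≫ p).app (V.basicOpen b)).hom).FG := by
    have hfp : f₁.FinitePresentation := p.finitePresentation_appLE hU₁ hV₃ e₃
    letI := f₁.toAlgebra
    haveI : Algebra.FinitePresentation Γ(V, V.basicOpen b) Γ(V', V₃) := hfp
    haveI : Algebra.FinitePresentation Γ(V, V.basicOpen b)
        (Γ(V', V₃) ⧸ RingHom.ker (j.app V₃).hom) :=
      Algebra.FinitePresentation.quotient hJfg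
    have hs2 : Function.Surjective
        (Algebra.ofId Γ(V, V.basicOpen b) (Γ(V', V₃) ⧸ RingHom.ker (j.app V₃).hom)) := by
      intro y
      obtain ⟨d, rfl⟩ := Ideal.Quotient.mk_surjective y
      obtain ⟨a, ha⟩ := hsurj d
      exact ⟨a, (Ideal.Quotient.eq.2 ha).symm⟩
    have := Algebra.FinitePresentation.ker_fG_of_surjective _ hs2
    convert this using 1
    rw [hIJ]
    ext a
    rw [Ideal.mem_comap, RingHom.mem_ker]
    exact (Ideal.Quotient.eq_zero_iff_mem (I := RingHom.ker (j.app V₃).hom) (a := f₁ a)).symm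
  -- the ring-level theorem
  have hgC : (locMap g₀ ρC f₁).comp (MvPolynomial.C : _ →+* MvPolynomial (Fin n) _) = f₁ :=
    RingHom.ext fun β => locMap_C g₀ ρC f₁ β
  have hmain := isKoszulRegularIdeal_comap_of_etale_mvPolynomial n (locMap g₀ ρC f₁) hflat hunr
    (RingHom.ker (j.app V₃).hom) (hs'.map res) hreg₃ hJ
    (fun d => by
      obtain ⟨a, ha⟩ := hsurj d
      exact ⟨a, by rw [locMap_C]; exact ha⟩)
    (by rw [hgC, ← hIJ]; exact hIfg)
  rw [hgC, ← hIJ] at hmain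
  exact isRegularImmersionAt_of_isKoszulRegularIdeal (j ≫ p) x (V.basicOpen b) hU₁ hb2 hmain

/-- **Koszul-regular immersions descend along smooth morphisms.** -/
theorem isRegularImmersion_koszul_of_comp_smooth {X V V' : Scheme.{u}} (j : X ⟶ V')
    (p : V' ⟶ V) [Smooth p] (i : X ⟶ V) [IsImmersion i] (h : j ≫ p = i)
    (hj : RegImm.IsRegularImmersion .koszul j) : RegImm.IsRegularImmersion .koszul i := by
  subst h
  exact ⟨inferInstance, fun x => isRegularImmersionAt_koszul_of_comp_smooth j p x (hj.2 x)⟩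

/-- an isomorphism is a Koszul-regular immersion. -/
theorem isRegularImmersion_koszul_of_isIso {X Y : Scheme.{u}} (e : Y ⟶ X) [IsIso e] :
    RegImm.IsRegularImmersion .koszul e := by
  refine ⟨inferInstance, fun z => ?_⟩
  obtain ⟨_, ⟨W, hW, rfl⟩, hzW, -⟩ :=
    X.isBasis_affineOpens.exists_subset_of_mem_open (Set.mem_univ (e z)) isOpen_univ
  refine ⟨⟨W, hW⟩, hzW, inferInstance, [], ?_, ?_⟩
  · exact Groth.Agent.LibRegImmBasic29.isKoszulRegularSeq_of_isWeaklyRegular []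
      (RingTheory.Sequence.IsWeaklyRegular.nil _ _)
  · rw [Ideal.ofList_nil]
    have : Function.Injective (e.app W).hom :=
      ((ConcreteCategory.isIso_iff_bijective (e.app W)).1 inferInstance).1
    exact (RingHom.injective_iff_ker_eq_bot _).1 this

/-- restriction of the source to an open neighbourhood does not affect Koszul-regularity at a
point. -/
theorem isRegularImmersionAt_koszul_of_restrict_source {X V : Scheme.{u}} (i : X ⟶ V)
    [IsImmersion i] (X₀ : X.Opens) (x : X) (hx : x ∈ X₀)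
    (h : RegImm.IsRegularImmersionAt .koszul (X₀.ι ≫ i) ⟨x, hx⟩) :
    RegImm.IsRegularImmersionAt .koszul i x := by
  obtain ⟨W, hxW, hcl, rs, hrs, hker⟩ := h
  obtain ⟨O, hxO, hO⟩ := exists_forall_isClosedImmersion_restrict i x
  obtain ⟨N, hN⟩ : ∃ N : V.Opens, i ⁻¹ᵁ N = X₀ := by
    obtain ⟨t, ht, hpre⟩ := i.isEmbedding.isInducing.isOpen_iff.1 X₀.isOpen
    exact ⟨⟨t, ht⟩, TopologicalSpace.Opens.ext hpre⟩
  have hxN : i x ∈ N := by
    change x ∈ i ⁻¹ᵁ N
    rw [hN]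
    exact hx
  have hxW' : i x ∈ W.1 := hxW
  obtain ⟨c, hc1, hc2⟩ := W.2.exists_basicOpen_le (V := O ⊓ N ⊓ W.1)
    ⟨i x, ⟨hxO, hxN⟩, hxW'⟩ hxW'
  have hW₁ : IsAffineOpen (V.basicOpen c) := W.2.basicOpen c
  have hW₁W : V.basicOpen c ≤ W.1 := V.basicOpen_le c
  obtain ⟨-, hkerW₁⟩ := restrict_of_le (X₀.ι ≫ i) W.1 W.2 (V.basicOpen c) hW₁ hW₁W
  haveI : IsClosedImmersion (i ∣_ V.basicOpen c) := hO _ (hc1.trans (inf_le_left.trans inf_le_left))
  set res : Γ(V, W.1) →+* Γ(V, V.basicOpen c) := (V.presheaf.map (homOfLE hW₁W).op).hom with hres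
  have hresf : res.Flat := flat_restrict W.1 (V.basicOpen c) W.2 hW₁ hW₁W
  refine ⟨⟨V.basicOpen c, hW₁⟩, hc2, inferInstance, rs.map res,
    isKoszulRegularSeq_map_of_flat res hresf rs hrs, ?_⟩
  rw [← Ideal.map_ofList, ← hker, ← hkerW₁]
  -- the two kernels agree
  have hle : i ⁻¹ᵁ (V.basicOpen c) ≤ X₀ := by
    rw [← hN]
    exact Scheme.Hom.preimage_mono i (hc1.trans (inf_le_left.trans inf_le_right))
  have himg : X₀.ι ''ᵁ X₀.ι ⁻¹ᵁ (i ⁻¹ᵁ (V.basicOpen c)) = i ⁻¹ᵁ (V.basicOpen c) := by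
    rw [Scheme.Hom.image_preimage_eq_opensRange_inf, Scheme.Opens.opensRange_ι]
    exact inf_eq_right.2 hle
  have hbij := presheaf_map_bijective_of_eq himg
  have happ : ((X₀.ι ≫ i).app (V.basicOpen c)).hom =
      (X.presheaf.map (homOfLE himg.le).op).hom.comp (i.app (V.basicOpen c)).hom := by
    rw [Scheme.Hom.comp_app, Scheme.Opens.ι_app]
    rfl
  ext a
  rw [RingHom.mem_ker, RingHom.mem_ker, happ]
  exact (map_eq_zero_iff _ hbij.1).symm

end Groth.Agent.LibRegImmSmoothDesc29
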