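import Mathlib
import Groth.Prelude.Def_CAlgX
/-!
# Flat base change of `H_1`-regular and quasi-regular sequences (helper29)

* `isH1Regular_map_of_flat`: `φ : R →+* R'` flat, `f` an `H_1`-regular family ⇒ `φ ∘ f` is
  `H_1`-regular.
* `isQuasiRegular_map_of_flat`: the same for quasi-regular families.
-/

set_option autoImplicit false
universe u

namespace Groth.Agent.LibSeqFlat29

variable {R R' : Type u} [CommRing R] [CommRing R'] (φ : R →+* R')

theorem isH1Regular_map_of_flat (hφ : φ.Flat) {c : ℕ} (f : Fin c → R)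
    (h : CAlgX.IsH1Regular f) : CAlgX.IsH1Regular (φ ∘ f) := by
  classical
  let _ := φ.toAlgebra
  have : Module.Flat R R' := hφ
  intro a' ha'
  have hrel : ∑ i, f i • a' i = 0 := by
    rw [← ha']
    refine Finset.sum_congr rfl fun i _ => ?_
    rw [Algebra.smul_def, mul_comm]
    rfl
  obtain ⟨k, b, y, hb, hrel'⟩ := Module.Flat.isTrivialRelation_of_sum_smul_eq_zero (R := R) (M := R') (f := f) (x := a') hrel
  set T' : Submodule R' (Fin c → R') := Submodule.span R'
    {v : Fin c → R' | ∃ i j : Fin c, v = Pi.single i ((φ ∘ f) j) - Pi.single j ((φ ∘ f) i)} with hT'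
  let Φ : (Fin c → R) →ₗ[R] (Fin c → R') := (Algebra.linearMap R R').compLeft (Fin c)
  have hΦ : ∀ v ∈ Submodule.span R
      {v : Fin c → R | ∃ i j : Fin c, v = Pi.single i (f j) - Pi.single j (f i)}, Φ v ∈ T' := by
    intro v hv
    have : Submodule.span R
        {v : Fin c → R | ∃ i j : Fin c, v = Pi.single i (f j) - Pi.single j (f i)} ≤
        (T'.restrictScalars R).comap Φ := by
      rw [Submodule.span_le]
      rintro _ ⟨i, j, rfl⟩
      rw [SetLike.mem_coe, Submodule.mem_comap, Submodule.restrictScalars_mem]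
      refine Submodule.subset_span ⟨i, j, ?_⟩
      rw [map_sub]
      congr 1
      · funext l
        by_cases hl : l = i
        · subst hl; simp [Φ, Algebra.linearMap_apply]; rfl
        · simp [Φ, Pi.single_eq_of_ne hl]
      · funext l
        by_cases hl : l = j
        · subst hl; simp [Φ, Algebra.linearMap_apply]; rfl
        · simp [Φ, Pi.single_eq_of_ne hl]
    exact this hv
  have hcol : ∀ j, (fun i => b i j) ∈ Submodule.span R
      {v : Fin c → R | ∃ i j : Fin c, v = Pi.single i (f j) - Pi.single j (f i)} := by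
    intro j
    apply h
    rw [← hrel' j]
    exact Finset.sum_congr rfl fun i _ => mul_comm _ _
  have : a' = ∑ j, y j • Φ (fun i => b i j) := by
    funext i
    rw [hb i, Finset.sum_apply]
    refine Finset.sum_congr rfl fun j _ => ?_
    rw [Pi.smul_apply, Algebra.smul_def, smul_eq_mul, mul_comm]
    rfl
  rw [this]
  exact Submodule.sum_mem _ fun j _ => Submodule.smul_mem _ _ (hΦ _ (hcol j))

open MvPolynomial in
theorem isQuasiRegular_map_of_flat (hφ : φ.Flat) {c : ℕ} (f : Fin c → R)
    (h : CAlgX.IsQuasiRegular f) : CAlgX.IsQuasiRegular (φ ∘ f) := by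
  classical
  let _ := φ.toAlgebra
  have : Module.Flat R R' := hφ
  intro n P' hP' hev d
  obtain ⟨Q', hQ', hQev⟩ :=
    (Ideal.mem_span_pow_iff_exists_isHomogeneous (φ ∘ f) _).mp hev
  -- the monomials in `f`
  let mon : (Fin c →₀ ℕ) → R := fun d => ∏ i, f i ^ d i
  have hmon : ∀ d, φ (mon d) = ∏ i, (φ ∘ f) i ^ d i := fun d => by
    simp only [mon, map_prod, map_pow, Function.comp_apply]
  -- the relation
  let ι := {d // d ∈ P'.support} ⊕ {e // e ∈ Q'.support}
  let r : ι → R := Sum.elim (fun d => mon d.1) (fun e => - mon e.1)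
  let x : ι → R' := Sum.elim (fun d => P'.coeff d.1) (fun e => Q'.coeff e.1)
  have hrel : ∑ i, r i • x i = 0 := by
    rw [Fintype.sum_sum_type]
    simp only [r, x, Sum.elim_inl, Sum.elim_inr, Algebra.smul_def, neg_mul, map_neg,
      Finset.sum_neg_distrib]
    rw [eval_eq', eval_eq'] at hQev
    rw [← Finset.sum_coe_sort P'.support (fun d => P'.coeff d * ∏ i, (φ ∘ f) i ^ d i),
      ← Finset.sum_coe_sort Q'.support (fun d => Q'.coeff d * ∏ i, (φ ∘ f) i ^ d i)] at hQev
    rw [add_neg_eq_zero]
    have e1 : ∀ S : MvPolynomial (Fin c) R',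
        ∑ x : {d // d ∈ S.support}, algebraMap R R' (mon x.1) * S.coeff x.1 =
          ∑ i : {d // d ∈ S.support}, S.coeff i.1 * ∏ j, (φ ∘ f) j ^ i.1 j := fun S =>
      Finset.sum_congr rfl fun e _ => by
        rw [mul_comm, ← hmon]
        rfl
    rw [e1 P', e1 Q', hQev]
  obtain ⟨k, b, y, hb, hrel'⟩ :=
    Module.Flat.isTrivialRelation_of_sum_smul_eq_zero (R := R) (M := R') (f := r) (x := x) hrel
  have hmonev : ∀ e : Fin c →₀ ℕ, eval f (monomial e (1 : R)) = mon e := fun e => by
    rw [eval_monomial, one_mul, Finsupp.prod_fintype]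
    intro i
    exact pow_zero _
  have hmonmem : ∀ e : {e // e ∈ Q'.support}, mon e.1 ∈ Ideal.span (Set.range f) ^ (n + 1) := by
    intro e
    rw [Ideal.mem_span_pow_iff_exists_isHomogeneous]
    refine ⟨monomial e.1 1, isHomogeneous_monomial _ ?_, hmonev e.1⟩
    rw [Finsupp.degree_eq_weight_one]
    exact hQ' (mem_support_iff.1 e.2)
  have hbJ : ∀ (d₀ : {d // d ∈ P'.support}) (j : Fin k),
      b (Sum.inl d₀) j ∈ Ideal.span (Set.range f) := by
    intro d₀ j
    let Pj : MvPolynomial (Fin c) R :=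
      ∑ d : {d // d ∈ P'.support}, monomial d.1 (b (Sum.inl d) j)
    have hPj : Pj.IsHomogeneous n := by
      refine IsHomogeneous.sum _ _ _ fun d _ => isHomogeneous_monomial _ ?_
      rw [Finsupp.degree_eq_weight_one]
      exact hP' (mem_support_iff.1 d.2)
    have h1 : eval f Pj = ∑ d : {d // d ∈ P'.support}, mon d.1 * b (Sum.inl d) j := by
      simp only [Pj, map_sum]
      refine Finset.sum_congr rfl fun d _ => ?_
      rw [eval_monomial, Finsupp.prod_fintype, mul_comm]
      intro i
      exact pow_zero _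
    have h2 := hrel' j
    rw [Fintype.sum_sum_type] at h2
    simp only [r, Sum.elim_inl, Sum.elim_inr, neg_mul, Finset.sum_neg_distrib,
      add_neg_eq_zero] at h2
    have hevj : eval f Pj ∈ Ideal.span (Set.range f) ^ (n + 1) := by
      rw [h1, h2]
      exact Ideal.sum_mem _ fun e _ => Ideal.mul_mem_right _ _ (hmonmem e)
    have h3 := h n Pj hPj hevj d₀.1
    have h4 : Pj.coeff d₀.1 = b (Sum.inl d₀) j := by
      simp only [Pj, coeff_sum, coeff_monomial]
      rw [Finset.sum_eq_single d₀]
      · rw [if_pos rfl]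
      · intro d' _ hd'
        rw [if_neg]
        intro hh
        exact hd' (Subtype.ext hh)
      · intro hh
        exact absurd (Finset.mem_univ _) hh
    rw [h4] at h3
    exact h3
  by_cases hd : d ∈ P'.support
  · have h5 : P'.coeff d = ∑ j, b (Sum.inl ⟨d, hd⟩) j • y j := hb (Sum.inl ⟨d, hd⟩)
    rw [h5]
    refine Ideal.sum_mem _ fun j _ => ?_
    rw [Algebra.smul_def]
    refine Ideal.mul_mem_right _ _ ?_
    have h6 : Ideal.span (Set.range (φ ∘ f)) = (Ideal.span (Set.range f)).map φ := by
      rw [Ideal.map_span, ← Set.range_comp]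
    rw [h6]
    exact Ideal.mem_map_of_mem φ (hbJ ⟨d, hd⟩ j)
  · rw [notMem_support_iff.mp hd]
    exact Ideal.zero_mem _

end Groth.Agent.LibSeqFlat29
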