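import Groth.Statements.S8906
import Groth.Agent.LibRegImmBC29
import Groth.Agent.LibKoszulFlat29
import Groth.Agent.LibSeqFlat29
-- import your own Groth.Agent.* helpers here

set_option autoImplicit false
universe u
open CategoryTheory CategoryTheory.Limits AlgebraicGeometry TopologicalSpace
open SDiv

namespace Groth.Agent.S8906

section Ring

variable {R R' : Type u} [CommRing R] [CommRing R'] (φ : R →+* R')

lemma h1_cast {c c' : ℕ} (h : c' = c) (f : Fin c → R) (hf : CAlgX.IsH1Regular f) :
    CAlgX.IsH1Regular (f ∘ Fin.cast h) := by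
  subst h
  exact hf

lemma quasi_cast {c c' : ℕ} (h : c' = c) (f : Fin c → R) (hf : CAlgX.IsQuasiRegular f) :
    CAlgX.IsQuasiRegular (f ∘ Fin.cast h) := by
  subst h
  exact hf

lemma get_map (rs : List R) :
    (rs.map φ).get = (φ ∘ rs.get) ∘ Fin.cast (List.length_map φ) := by
  funext i
  simp

/-- flat base change of sequences of the four kinds. -/
theorem seq_map_of_flat (hφ : φ.Flat) (k : RegImm.Kind) (rs : List R) (h : k.Seq R rs)
    (hne : Ideal.ofList (rs.map φ) ≠ ⊤) : k.Seq R' (rs.map φ) := by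
  cases k with
  | regular =>
    let _ := φ.toAlgebra
    have : Module.Flat R R' := hφ
    refine ⟨RingTheory.Sequence.IsWeaklyRegular.of_flat (S := R') h.toIsWeaklyRegular, ?_⟩
    intro h'
    apply hne
    rw [smul_eq_mul, Ideal.mul_top] at h'
    exact h'.symm
  | koszul => exact Groth.Agent.LibKoszulFlat29.isKoszulRegularSeq_map_of_flat φ hφ rs h
  | h1 =>
    change CAlgX.IsH1Regular (rs.map φ).get
    rw [get_map]
    exact h1_cast _ _ (Groth.Agent.LibSeqFlat29.isH1Regular_map_of_flat φ hφ rs.get h)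
  | quasi =>
    change CAlgX.IsQuasiRegular (rs.map φ).get
    rw [get_map]
    exact quasi_cast _ _ (Groth.Agent.LibSeqFlat29.isQuasiRegular_map_of_flat φ hφ rs.get h)

end Ring


/-- Let i : Z ⟶ X be an immersion which is regular of one of the four kinds (regular, Koszul-regular,
H_1-regular or quasi-regular) and g : X' ⟶ X a flat morphism. Then the base change Z ×_X X' ⟶ X' of
i is a regular immersion of the same kind. -/
theorem result {Z X X' : Scheme.{u}} (i : Z ⟶ X) (k : RegImm.Kind)
    (hi : RegImm.IsRegularImmersion k i) (g : X' ⟶ X) [Flat g] :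
    RegImm.IsRegularImmersion k (pullback.snd i g) := by
  obtain ⟨himm, hreg⟩ := hi
  refine ⟨inferInstance, fun z' => ?_⟩
  obtain ⟨U, hzU, hcl, rs, hrs, hker⟩ := hreg (pullback.fst i g z')
  have hx' : pullback.snd i g z' ∈ g ⁻¹ᵁ U.1 := by
    change g (pullback.snd i g z') ∈ U.1
    have : g (pullback.snd i g z') = i (pullback.fst i g z') := by
      rw [← Scheme.Hom.comp_apply, ← Scheme.Hom.comp_apply, pullback.condition]
    rw [this]
    exact hzU
  obtain ⟨U', hU', hxU', hle⟩ := exists_isAffineOpen_mem_and_subset hx'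
  have e : U' ≤ g ⁻¹ᵁ U.1 := hle
  obtain ⟨hcl', hker'⟩ := Groth.Agent.LibRegImmBC29.restrict_pullback_snd i g U.1 U.2 U' hU' e
  refine ⟨⟨U', hU'⟩, hxU', hcl', rs.map (g.appLE U.1 U' e).hom, ?_, ?_⟩
  · refine seq_map_of_flat _ (g.flat_appLE U.2 hU' e) k rs hrs ?_
    rw [← Ideal.map_ofList, ← hker, ← hker']
    intro htop
    have hne : Nonempty ((pullback.snd i g) ⁻¹ᵁ U' : (pullback i g).Opens) := ⟨⟨z', hxU'⟩⟩
    have hnt : Nontrivial Γ(pullback i g, (pullback.snd i g) ⁻¹ᵁ U') :=
      Scheme.component_nontrivial _ _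
    have h1 : (1 : Γ(X', U')) ∈ RingHom.ker ((pullback.snd i g).app U').hom := by
      rw [htop]
      trivial
    rw [RingHom.mem_ker, map_one] at h1
    exact one_ne_zero h1
  · rw [hker', hker, Ideal.map_ofList]

end Groth.Agent.S8906
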