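import Groth.Statements.S8652
import Groth.Agent.S8906
import Groth.Agent.LibRegImmBasic29
-- import your own Groth.Agent.* helpers here

set_option autoImplicit false
universe u
open CategoryTheory CategoryTheory.Limits AlgebraicGeometry
open RegImm

namespace Groth.Agent.S8652

/-- flat base change of regular immersions, for an arbitrary cartesian square. -/
theorem of_isPullback {X Y X' Y' : Scheme.{u}} (k : RegImm.Kind) (i : Y ⟶ X) (g : X' ⟶ X) [Flat g]
    (i' : Y' ⟶ X') (g' : Y' ⟶ Y) (hsq : IsPullback g' i' i g)
    (hi : RegImm.IsRegularImmersion k i) : RegImm.IsRegularImmersion k i' := by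
  have h1 := Groth.Agent.S8906.result i k hi g
  have h2 : i' = hsq.isoPullback.hom ≫ pullback.snd i g := (hsq.isoPullback_hom_snd).symm
  have : IsImmersion i := hi.1
  refine ⟨?_, fun z' => ?_⟩
  · rw [h2]
    infer_instance
  · rw [h2]
    exact Groth.Agent.LibRegImmBasic29.isRegularImmersionAt_iso_comp k _ _ z' (h1.2 _)


/-- Let i : Y ⟶ X be a Koszul-regular immersion (Koszul-regular: locally, in affine opens of X where the
image is closed, the ideal is generated by a sequence whose Koszul complex is acyclic in nonzero
degrees) and let g : X' ⟶ X be flat. For any cartesian square with i' : Y' ⟶ X' the base change of i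
along g, i' is a Koszul-regular immersion. -/
theorem result {X Y X' Y' : Scheme.{u}} (i : Y ⟶ X) (g : X' ⟶ X) [Flat g]
    (i' : Y' ⟶ X') (g' : Y' ⟶ Y) (hsq : IsPullback g' i' i g)
    (hi : RegImm.IsRegularImmersion .koszul i) : RegImm.IsRegularImmersion .koszul i' := by
  exact of_isPullback .koszul i g i' g' hsq hi

end Groth.Agent.S8652
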