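import Groth.Statements.S8654
import Groth.Agent.LibRegImmComp29
-- import your own Groth.Agent.* helpers here

set_option autoImplicit false
universe u
open CategoryTheory CategoryTheory.Limits AlgebraicGeometry
open RegImm

namespace Groth.Agent.S8654

/-- Let i : Y ⟶ X and j : Z ⟶ Y be Koszul-regular immersions (not necessarily closed). Then the
composite Z ⟶ X is a Koszul-regular immersion. -/
theorem result {X Y Z : Scheme.{u}} (i : Y ⟶ X) (j : Z ⟶ Y)
    (hi : RegImm.IsRegularImmersion .koszul i) (hj : RegImm.IsRegularImmersion .koszul j) :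
    RegImm.IsRegularImmersion .koszul (j ≫ i) := by
  obtain ⟨himm, hreg⟩ := hi
  obtain ⟨hjmm, hregj⟩ := hj
  refine ⟨inferInstance, fun z => ?_⟩
  obtain ⟨U₀, hxU, hclU, fs₀, hfs₀, hkerU⟩ := hreg (j z)
  obtain ⟨V₀, hyV, hclV, gs₀, hgs₀, hkerV⟩ := hregj z
  obtain ⟨W, h1, h2, rs, -, h3, h4⟩ := Groth.Agent.LibRegImmComp29.comp_at i j z U₀ hxU hclU fs₀
    hfs₀ hkerU V₀ hyV hclV gs₀ hgs₀ hkerV
  exact ⟨W, h1, h2, rs, h3, h4⟩

end Groth.Agent.S8654
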