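import Mathlib
import Groth.Prelude.Def_RegImm
import Groth.Agent.LibSecRegSch29
import Groth.Agent.LibRegImmBasic29
import Groth.Agent.S8652
import Groth.Agent.S8654

/-!
# Sections of smooth morphisms: applications (helper29)

* `isRegularImmersion_of_section`: a section of a smooth morphism is a regular immersion.
* `isRegularImmersion_koszul_lift`: for `i : U ⟶ P` a Koszul-regular immersion, `π : P ⟶ S`,
  `g : Y ⟶ S` smooth and `h : U ⟶ Y` with `i ≫ π = h ≫ g`, the morphism `(i, h) : U ⟶ P ×_S Y` is a
  Koszul-regular immersion.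
-/

set_option autoImplicit false
universe u
open CategoryTheory CategoryTheory.Limits AlgebraicGeometry

namespace Groth.Agent.LibSecRegApp29

theorem isRegularImmersion_of_section {X S : Scheme.{u}} (f : X ⟶ S) [Smooth f] (σ : S ⟶ X)
    (hσ : σ ≫ f = 𝟙 S) : RegImm.IsRegularImmersion .regular σ := by
  refine ⟨?_, fun z => ?_⟩
  · haveI : IsImmersion (σ ≫ f) := by
      rw [hσ]
      infer_instance
    exact IsImmersion.of_comp σ f
  · obtain ⟨W, hW1, hW2, rs, hrs, hker⟩ :=
      Groth.Agent.LibSecRegSch29.exists_regular_of_section f σ hσ z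
    exact ⟨W, hW1, hW2, rs, hrs, hker⟩

theorem isRegularImmersion_koszul_lift {U P S Y : Scheme.{u}} (i : U ⟶ P) (π : P ⟶ S)
    (g : Y ⟶ S) [Smooth g] (h : U ⟶ Y) (w : i ≫ π = h ≫ g)
    (hi : RegImm.IsRegularImmersion .koszul i) :
    RegImm.IsRegularImmersion .koszul (pullback.lift i h w) := by
  -- the graph of `h`
  let p : U ⟶ S := i ≫ π
  let Γ : U ⟶ pullback p g := pullback.lift (𝟙 U) h (by rw [Category.id_comp]; exact w)
  have hΓ : Γ ≫ pullback.fst p g = 𝟙 U := pullback.lift_fst _ _ _
  have hΓreg : RegImm.IsRegularImmersion .koszul Γ :=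
    Groth.Agent.LibRegImmBasic29.isRegularImmersion_koszul_of_regular Γ
      (isRegularImmersion_of_section (pullback.fst p g) Γ hΓ)
  -- the base change of `i`
  let j : pullback p g ⟶ pullback π g :=
    pullback.lift (pullback.fst p g ≫ i) (pullback.snd p g)
      (by rw [Category.assoc]; exact pullback.condition)
  have hj1 : j ≫ pullback.fst π g = pullback.fst p g ≫ i := pullback.lift_fst _ _ _
  have hj2 : j ≫ pullback.snd π g = pullback.snd p g := pullback.lift_snd _ _ _
  have hbig : IsPullback (j ≫ pullback.snd π g) (pullback.fst p g) g (i ≫ π) := by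
    rw [hj2]
    exact (IsPullback.of_hasPullback p g).flip
  have hsq : IsPullback j (pullback.fst p g) (pullback.fst π g) i :=
    IsPullback.of_right hbig hj1 (IsPullback.of_hasPullback π g).flip
  have hjreg : RegImm.IsRegularImmersion .koszul j :=
    Groth.Agent.S8652.of_isPullback .koszul i (pullback.fst π g) j (pullback.fst p g) hsq.flip hi
  have hcomp : pullback.lift i h w = Γ ≫ j := by
    apply pullback.hom_ext
    · rw [pullback.lift_fst, Category.assoc, hj1, reassoc_of% hΓ]
    · rw [pullback.lift_snd, Category.assoc, hj2]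
      exact (pullback.lift_snd _ _ _).symm
  rw [hcomp]
  exact Groth.Agent.S8654.result j Γ hjreg hΓreg

end Groth.Agent.LibSecRegApp29
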