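import Groth.Statements.S8656
import Groth.Agent.LibRegImmSmoothDesc29
import Groth.Agent.LibSecRegApp29
-- import your own Groth.Agent.* helpers here

set_option autoImplicit false
universe u
open CategoryTheory CategoryTheory.Limits AlgebraicGeometry
open Synt

namespace Groth.Agent.S8656

/-- Let f : X ⟶ Y be a local complete intersection morphism in the factorisation sense: every point of X
has an open neighbourhood on which f is locally of finite type and factors as a Koszul-regular
immersion followed by a smooth morphism. Let p : Z ⟶ Y be smooth and i : X ⟶ Z an immersion with i ≫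
p = f. Then i is a Koszul-regular immersion. -/
theorem result {X Y Z : Scheme.{u}} (f : X ⟶ Y) (hf : ∀ x : X, Synt.IsKoszulAt f x)
    (p : Z ⟶ Y) [Smooth p] (i : X ⟶ Z) [IsImmersion i] (h : i ≫ p = f) :
    RegImm.IsRegularImmersion .koszul i := by
  refine ⟨inferInstance, fun x => ?_⟩
  obtain ⟨U, P, j, π, hxU, -, hj, hπ, hjπ⟩ := hf x
  haveI : Smooth π := hπ
  have w : j ≫ π = (U.ι ≫ i) ≫ p := by rw [Category.assoc, h, hjπ]
  have hl := Groth.Agent.LibSecRegApp29.isRegularImmersion_koszul_lift j π p (U.ι ≫ i) w hj
  have hU : RegImm.IsRegularImmersion .koszul (U.ι ≫ i) :=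
    Groth.Agent.LibRegImmSmoothDesc29.isRegularImmersion_koszul_of_comp_smooth
      (pullback.lift j (U.ι ≫ i) w) (pullback.snd π p) (U.ι ≫ i) (pullback.lift_snd _ _ _) hl
  exact Groth.Agent.LibRegImmSmoothDesc29.isRegularImmersionAt_koszul_of_restrict_source i U x hxU
    (hU.2 ⟨x, hxU⟩)

end Groth.Agent.S8656
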