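import Groth.Agent.S2423
import Groth.Agent.S14433
import Groth.Prelude.Def_Koszul
import Groth.Prelude.Def_ega3

/-!
# Koszul complexes (mapping-cone model): comparison of the two prelude models, localization (helper29)
-/

set_option autoImplicit false
universe u

namespace Groth.Agent.LibKoszulLoc29

open CategoryTheory CategoryTheory.Limits CochainComplex HomComplex Groth.Agent.S2423

variable {A : Type u} [CommRing A]

/-- the two prelude models of the Koszul complex agree. -/
theorem koszul_eq_koszulCx : ∀ l : List A,
    Koszul.koszul A l = CohIII.koszulCx (ModuleCat.of A A) l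
  | [] => rfl
  | f :: l => by
    change mappingCone (f • 𝟙 (Koszul.koszul A l)) = mappingCone (f • 𝟙 (CohIII.koszulCx _ l))
    rw [koszul_eq_koszulCx l]

end Groth.Agent.LibKoszulLoc29
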