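import Groth.Statements.S15821
import Groth.Agent.LibKoszulLoc29
-- import your own Groth.Agent.* helpers here

set_option autoImplicit false
universe u
open CategoryTheory
open Koszul

namespace Groth.Agent.S15821

open CategoryTheory.Limits CochainComplex HomComplex Groth.Agent.S2423

theorem homology_zero_iso {A : Type u} [CommRing A] (fs : List A) :
    ∀ (M : Type u) [AddCommGroup M] [Module A M],
    RingTheory.Sequence.IsWeaklyRegular M fs →
      Nonempty ((CohIII.koszulCx (ModuleCat.of A M) fs).homology 0 ≅
        ModuleCat.of A (M ⧸ (Ideal.ofList fs • ⊤ : Submodule A M))) := by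
  induction fs with
  | nil =>
    intro M _ _ _
    have h : (Ideal.ofList ([] : List A) • ⊤ : Submodule A M) = ⊥ := by
      rw [Ideal.ofList_nil, Submodule.bot_smul]
    exact ⟨HomologicalComplex.singleObjHomologySelfIso (ComplexShape.up ℤ) 0 (ModuleCat.of A M) ≪≫
      (Submodule.quotEquivOfEqBot _ h).symm.toModuleIso⟩
  | cons f fs ih =>
    intro M _ _ h
    obtain ⟨hf, hfs⟩ := (RingTheory.Sequence.isWeaklyRegular_cons_iff M f fs).1 h
    obtain ⟨w, hS⟩ := shortExact_of_degSE _ _ (degSE_koszul M f hf fs)
    have hq := mappingCone.quasiIso_descShortComplex hS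
    have hiso : IsIso (HomologicalComplex.homologyMap
        (mappingCone.descShortComplex (ShortComplex.mk _ _ w)) 0) :=
      (quasiIsoAt_iff_isIso_homologyMap _ 0).1 (hq.quasiIsoAt 0)
    obtain ⟨e⟩ := ih (QuotSMulTop f M) hfs
    exact ⟨(@asIso _ _ _ _ _ hiso) ≪≫ e ≪≫
      (Submodule.quotOfListConsSMulTopEquivQuotSMulTopInner M f fs).symm.toModuleIso⟩

theorem aux (A : Type u) [CommRing A] (l : List A)
    (hl : RingTheory.Sequence.IsWeaklyRegular A l)
    (K : CochainComplex (ModuleCat.{u} A) ℤ) (hK : K = CohIII.koszulCx (ModuleCat.of A A) l) :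
    (∀ i : ℤ, i ≠ 0 → IsZero (K.homology i)) ∧
      Nonempty (K.homology 0 ≅ ModuleCat.of A (A ⧸ Ideal.ofList l)) := by
  subst hK
  refine ⟨fun i hi => homology_isZero l A hl i hi, ?_⟩
  obtain ⟨e⟩ := homology_zero_iso l A hl
  have heq : (Ideal.ofList l • ⊤ : Submodule A A) = Ideal.ofList l := by
    rw [smul_eq_mul, Ideal.mul_top]
  exact ⟨e ≪≫ (Submodule.quotEquivOfEq _ _ heq).toModuleIso⟩


/-- Let A be a commutative ring and f = (f_1, …, f_r) a sequence in A which is regular in the weak sense
(f_1 is a non-zero-divisor of A and each f_i is a non-zero-divisor of A/(f_1, …, f_{i-1}); no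
condition A/(f) ≠ 0). Then the Koszul complex K(f) (iterated mapping-cone model, degrees -r, …, 0)
has vanishing cohomology in all nonzero degrees, i.e. f is Koszul-regular, and its cohomology in
degree 0 is isomorphic as an A-module to A/(f_1, …, f_r) (existence of an A-linear isomorphism):
K(f) is a free resolution of A/(f). -/
theorem result (A : Type u) [CommRing A] (l : List A)
    (hl : RingTheory.Sequence.IsWeaklyRegular A l) :
    LCI.IsKoszulRegularSeq A l ∧
      Nonempty ((Koszul.koszul A l).homology 0 ≅ ModuleCat.of A (A ⧸ Ideal.ofList l)) := by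
  exact aux A l hl _ (Groth.Agent.LibKoszulLoc29.koszul_eq_koszulCx l)

end Groth.Agent.S15821
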