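import Groth.Statements.S11179
import Mathlib

set_option autoImplicit false
universe u
open CategoryTheory
attribute [local instance] HasDerivedCategory.standard
open Goren

namespace Groth.Agent.S11179

/-- A Noetherian local ring A is Gorenstein (A has finite injective dimension as a module over itself)
if and only if the complex A[0] is a dualizing complex for A (finite injective dimension expressed
by vanishing of maps M[0] → A[i] in D(A) outside a bounded range, finite cohomology, A → End(A[0])
bijective and no self-maps of nonzero degree). -/
theorem result (A : Type u) [CommRing A] [IsLocalRing A] [IsNoetherianRing A] : LocCoh.IsGorensteinLocalRing A ↔ Dual.IsDualizing A (Dual.inD A A) := by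
  let : HasExt.{u + 1} (ModuleCat.{u} A) := hasExt_of_hasDerivedCategory _
  -- negative vanishing
  have hneg : ∀ (M N : ModuleCat.{u} A) (i : ℤ), i < 0 →
      Subsingleton ((DerivedCategory.singleFunctor (ModuleCat.{u} A) 0).obj M ⟶
        ((DerivedCategory.singleFunctor (ModuleCat.{u} A) 0).obj N)⟦i⟧) := by
    intro M N i hi
    have h1 : DerivedCategory.TStructure.t.IsGE
        (((DerivedCategory.singleFunctor (ModuleCat.{u} A) 0).obj N)⟦i⟧) (-i) :=
      DerivedCategory.TStructure.t.isGE_shift _ 0 i (-i) (by omega)
    exact ⟨fun f g => by
      rw [DerivedCategory.TStructure.t.zero f 0 (-i) (by omega),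
        DerivedCategory.TStructure.t.zero g 0 (-i) (by omega)]⟩
  constructor
  · intro h
    obtain ⟨n, hn⟩ := h.exists_hasInjectiveDimensionLT
    refine ⟨inferInstance, ⟨0, n, ?_⟩, ?_, ?_, ?_⟩
    · intro M _ _ i hi
      rcases hi with hi | hi
      · exact hneg (ModuleCat.of A M) (ModuleCat.of A A) i hi
      · obtain ⟨k, rfl⟩ := Int.eq_ofNat_of_zero_le (by omega : 0 ≤ i)
        have : Subsingleton (Abelian.Ext (ModuleCat.of A M) (ModuleCat.of A A) k) :=
          HasInjectiveDimensionLT.subsingleton (ModuleCat.of A A) n k (by omega) _
        exact (Abelian.Ext.homEquiv (X := ModuleCat.of A M) (Y := ModuleCat.of A A)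
          (n := k)).symm.subsingleton
    · intro i
      by_cases hi : i = 0
      · subst hi
        have e := (DerivedCategory.singleFunctorCompHomologyFunctorIso (ModuleCat.{u} A) 0).app
          (ModuleCat.of A A)
        have hfin : Module.Finite A ((𝟭 (ModuleCat.{u} A)).obj (ModuleCat.of A A)) := by
          change Module.Finite A A
          infer_instance
        exact Module.Finite.equiv e.toLinearEquiv.symm
      · have hz : Limits.IsZero ((DerivedCategory.homologyFunctor (ModuleCat.{u} A) i).obj
            ((DerivedCategory.singleFunctor (ModuleCat.{u} A) 0).obj (ModuleCat.of A A))) := by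
          rcases lt_or_gt_of_ne hi with h' | h'
          · exact DerivedCategory.isZero_of_isGE _ 0 i h'
          · exact DerivedCategory.isZero_of_isLE _ 0 i h'
        have := ModuleCat.subsingleton_of_isZero hz
        infer_instance
    · -- A → End(ω) bijective
      have hmap : ∀ a : A, a • (𝟙 (Dual.inD A A)) =
          (DerivedCategory.singleFunctor (ModuleCat.{u} A) 0).map
            (a • 𝟙 (ModuleCat.of A A)) := by
        intro a
        rw [Functor.Linear.map_smul, CategoryTheory.Functor.map_id]
      constructor
      · intro a b hab
        simp only [hmap] at hab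
        have h1 := (DerivedCategory.singleFunctor (ModuleCat.{u} A) 0).map_injective hab
        have h2 := congrArg (fun f : ModuleCat.of A A ⟶ ModuleCat.of A A => f.hom (1 : A)) h1
        simpa using h2
      · intro f
        obtain ⟨g, rfl⟩ := (DerivedCategory.singleFunctor (ModuleCat.{u} A) 0).map_surjective f
        refine ⟨g.hom (1 : A), ?_⟩
        simp only [hmap]
        congr 1
        ext
        simp
    · intro i hi
      rcases lt_or_gt_of_ne hi with h' | h'
      · exact hneg (ModuleCat.of A A) (ModuleCat.of A A) i h'
      · obtain ⟨k, rfl⟩ : ∃ k : ℕ, i = ((k + 1 : ℕ) : ℤ) := ⟨(i - 1).toNat, by omega⟩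
        have : Subsingleton (Abelian.Ext (ModuleCat.of A A) (ModuleCat.of A A) (k + 1)) :=
          Abelian.Ext.subsingleton_of_projective _ _ k
        exact (Abelian.Ext.homEquiv (X := ModuleCat.of A A) (Y := ModuleCat.of A A)
          (n := k + 1)).symm.subsingleton
  · intro h
    obtain ⟨a, b, hab⟩ := h.finite_injective_dimension
    refine @LocCoh.IsGorensteinLocalRing.mk A _ inferInstance inferInstance ⟨(b + 1).toNat, ?_⟩
    apply HasInjectiveDimensionLT.mk
    intro i hi Y e
    have : Subsingleton (Dual.inD A Y ⟶ (Dual.inD A A)⟦(i : ℤ)⟧) :=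
      hab Y i (Or.inr (by omega))
    apply (Abelian.Ext.homEquiv (X := Y) (Y := ModuleCat.of A A) (n := i)).injective
    exact Subsingleton.elim (α := Dual.inD A Y ⟶ (Dual.inD A A)⟦(i : ℤ)⟧) _ _

end Groth.Agent.S11179
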