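import Groth.Statements.S12909
import Groth.Agent.Lib.Helper20.FFRLocal

set_option autoImplicit false
universe u
open CAlgX

namespace Groth.Agent.S12909

/-- Let R be a Noetherian ring and I a nonzero ideal with a finite free resolution 0 → R^{n_e} → … →
R^{n_1} → R^{n_0} → I → 0 with e ≥ 1: the map R^{n_{i+1}} → R^{n_i} is the matrix A_i, the map π :
R^{n_0} → R is linear with image I, the kernel of π is the image of A_0, the kernel of A_i is the
image of A_{i+1} for 0 ≤ i ≤ e - 2, and A_{e-1} is injective. Then I contains a non-zero-divisor of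
R. (The hypothesis that I is nonzero is implicit in the published statement: the zero ideal of a
domain has a finite free resolution and contains no non-zero-divisor.) -/
theorem result {R : Type u} [CommRing R] [IsNoetherianRing R]
    (e : ℕ) (he : 1 ≤ e) (n : ℕ → ℕ) (A : (i : ℕ) → Matrix (Fin (n i)) (Fin (n (i + 1))) R)
    (π : (Fin (n 0) → R) →ₗ[R] R) (hI : LinearMap.range π ≠ ⊥)
    (h0 : LinearMap.ker π = LinearMap.range (A 0).mulVecLin)
    (hA : ∀ i, i + 2 ≤ e → LinearMap.ker (A i).mulVecLin = LinearMap.range (A (i + 1)).mulVecLin)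
    (hlast : LinearMap.ker (A (e - 1)).mulVecLin = ⊥) :
    ∃ x : R, x ∈ LinearMap.range π ∧ x ∈ nonZeroDivisors R := by
  classical
  open Groth.Agent.Lib.helper20.FFRLocal Groth.Agent.Lib.helper20.DepthZeroRes in
  by_contra hcon
  push Not at hcon
  obtain ⟨e', rfl⟩ : ∃ e', e = e' + 1 := ⟨e - 1, by omega⟩
  -- the generators of the ideal
  let c : Fin (n 0) → R := fun j => π (Pi.single j 1)
  have hπ : ∀ v, π v = ∑ j, v j * c j := by
    intro v
    rw [LinearMap.pi_apply_eq_sum_univ π v]
    refine Finset.sum_congr rfl fun i _ => ?_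
    have : (fun j => if i = j then (1 : R) else 0) = Pi.single i 1 := by
      funext j
      simp [Pi.single_apply, eq_comm]
    rw [this]
    rfl
  have hrow : ∀ v (i : Fin 1), (rowMat c).mulVec v i = π v := by
    intro v i
    rw [hπ]
    simp only [Matrix.mulVec, dotProduct, rowMat, Matrix.of_apply]
    exact Finset.sum_congr rfl fun j _ => mul_comm _ _
  have hker : LinearMap.ker (rowMat c).mulVecLin = LinearMap.ker π := by
    ext v
    rw [LinearMap.mem_ker, LinearMap.mem_ker, Matrix.mulVecLin_apply]
    constructor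
    · intro h
      rw [← hrow v 0, h]
      rfl
    · intro h
      funext i
      rw [hrow, h]
      rfl
  have h0' : LinearMap.ker (rowMat c).mulVecLin = LinearMap.range (A 0).mulVecLin :=
    hker.trans h0
  have hlast' : LinearMap.ker (A e').mulVecLin = ⊥ := by
    have : e' + 1 - 1 = e' := by omega
    rw [this] at hlast
    exact hlast
  -- prime avoidance: the ideal lies in an associated prime
  have hfin : (associatedPrimes R R).Finite := associatedPrimes.finite R R
  have hsub : ((LinearMap.range π : Ideal R) : Set R) ⊆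
      ⋃ P ∈ (↑hfin.toFinset : Set (Ideal R)), (id P : Ideal R) := by
    intro x hx
    have hx' : x ∈ (nonZeroDivisors R : Set R)ᶜ := hcon x hx
    rw [← biUnion_associatedPrimes_eq_compl_nonZeroDivisors R] at hx'
    simpa using hx'
  obtain ⟨P₀, hP₀, hIP₀⟩ := (Ideal.subset_union_prime (R := R) (s := hfin.toFinset) (f := id) ⊥ ⊥
    (fun P hP _ _ => (hfin.mem_toFinset.mp hP).isPrime)).mp hsub
  have hP₀' : P₀ ∈ associatedPrimes R R := hfin.mem_toFinset.mp hP₀
  have hP₀p : P₀.IsPrime := hP₀'.isPrime
  have hzero : altSum n (e' + 1) = 0 :=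
    (local_main e' n A c h0' hA hlast' P₀ hP₀').1 (fun j => hIP₀ ⟨Pi.single j 1, rfl⟩)
  -- some generator is nonzero
  obtain ⟨j, hj⟩ : ∃ j, c j ≠ 0 := by
    by_contra hall
    push Not at hall
    apply hI
    rw [eq_bot_iff]
    rintro _ ⟨v, rfl⟩
    rw [Submodule.mem_bot, hπ]
    exact Finset.sum_eq_zero fun j _ => by rw [hall j, mul_zero]
  obtain ⟨Q, hQ, hle⟩ := exists_le_isAssociatedPrime_of_isNoetherianRing R (c j) hj
  have hQp : Q.IsPrime := hQ.isPrime
  have hloc := (local_main e' n A c h0' hA hlast' Q hQ).2 hzero j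
  obtain ⟨s, hs⟩ := (IsLocalization.map_eq_zero_iff Q.primeCompl _ (c j)).mp hloc
  apply s.2
  apply hle
  rw [Submodule.mem_colon_singleton, Submodule.mem_bot]
  exact hs

end Groth.Agent.S12909
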