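import Groth.Statements.S6318
import Mathlib
import Groth.Agent.Lib.Helper10.MinRes

set_option autoImplicit false
universe u
open CategoryTheory
open CAlg

namespace Groth.Agent.S6318

set_option linter.style.haveILetI false

open CategoryTheory Groth.Agent.Lib.helper10.MinRes

variable {R : Type u} [CommRing R] [IsNoetherianRing R]

/-- state of the construction: a rank and a submodule (the current syzygy) -/
structure St (R : Type u) [CommRing R] : Type u where
  r : ℕ
  K : Submodule R (Fin r → R)

theorem exists_cover (s : St R) :
    ∃ (n : ℕ) (f : (Fin n → R) →ₗ[R] s.K), Function.Surjective f := by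
  haveI : Module.Finite R s.K := inferInstance
  exact Module.Finite.exists_fin' R s.K

noncomputable def stepRk (s : St R) : ℕ := (exists_cover s).choose

noncomputable def stepCover (s : St R) : (Fin (stepRk s) → R) →ₗ[R] s.K :=
  (exists_cover s).choose_spec.choose

theorem stepCover_surjective (s : St R) : Function.Surjective (stepCover s) :=
  (exists_cover s).choose_spec.choose_spec

noncomputable def stepMap (s : St R) : (Fin (stepRk s) → R) →ₗ[R] (Fin s.r → R) :=
  s.K.subtype ∘ₗ stepCover s

theorem range_stepMap (s : St R) : LinearMap.range (stepMap s) = s.K := by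
  unfold stepMap
  rw [LinearMap.range_comp, LinearMap.range_eq_top.2 (stepCover_surjective s), Submodule.map_top,
    Submodule.range_subtype]

noncomputable def step (s : St R) : St R := ⟨stepRk s, LinearMap.ker (stepMap s)⟩

noncomputable def st (s₀ : St R) : ℕ → St R
  | 0 => s₀
  | n + 1 => step (st s₀ n)

variable {M : Type u} [AddCommGroup M] [Module R M]

noncomputable def mkRes (r₀ : ℕ) (p : (Fin r₀ → R) →ₗ[R] M) (hp : Function.Surjective p) :
    Res R M where
  rk n := (st ⟨r₀, LinearMap.ker p⟩ n).r
  dLin i := stepMap (st ⟨r₀, LinearMap.ker p⟩ i)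
  augLin := p
  aug_surjective := hp
  exact_zero := (range_stepMap _).symm
  exact_succ i := (range_stepMap (st ⟨r₀, LinearMap.ker p⟩ (i + 1))).symm

theorem main (R : Type u) [CommRing R] [IsNoetherianRing R] (M : Type u) [AddCommGroup M]
    [Module R M] [Module.Finite R M] :
    ∃ F : ProjectiveResolution (ModuleCat.of R M), ∀ n : ℕ,
      Module.Finite R (F.complex.X n) ∧ Module.Free R (F.complex.X n) := by
  obtain ⟨r₀, p, hp⟩ := Module.Finite.exists_fin' R M
  refine ⟨(mkRes r₀ p hp).projRes, fun n => ?_⟩
  change Module.Finite R (Fin ((mkRes r₀ p hp).rk n) → R) ∧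
    Module.Free R (Fin ((mkRes r₀ p hp).rk n) → R)
  exact ⟨inferInstance, inferInstance⟩



/-- Let R be a Noetherian ring and M a finite R-module. Then M has a resolution … → F₂ → F₁ → F₀ → M → 0
with every Fᵢ finite free; stated as the existence of a projective resolution of M in the category
of R-modules all of whose terms are finite free. -/
theorem result (R : Type u) [CommRing R] [IsNoetherianRing R] (M : Type u) [AddCommGroup M] [Module R M] [Module.Finite R M] : ∃ F : ProjectiveResolution (ModuleCat.of R M), ∀ n : ℕ, Module.Finite R (F.complex.X n) ∧ Module.Free R (F.complex.X n) := by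
  exact main R M

end Groth.Agent.S6318
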