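import Groth.Statements.S5929
import Groth.Agent.Lib.Helper3.FlatDescQ
import Groth.Agent.Lib.Helper3.ResBaseChange
import Groth.Agent.S6318

set_option autoImplicit false
universe u
open TensorProduct CategoryTheory
open EGA43

namespace Groth.Agent.S5929

/-- Let A be a commutative ring, B a finitely presented A-algebra which is flat as an A-module, and M a
finitely presented B-module which is flat as an A-module. Then M admits a left resolution by free
B-modules of finite type: there is a projective resolution of M in the category of B-modules (a
chain complex of projective modules with a quasi-isomorphism to M in degree 0) every term of which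
is a finitely generated free B-module. -/
theorem result (A B M : Type u) [CommRing A] [CommRing B] [Algebra A B]
    [Algebra.FinitePresentation A B] [Module.Flat A B] [AddCommGroup M] [Module B M] [Module A M]
    [IsScalarTower A B M] [Module.FinitePresentation B M] [Module.Flat A M] :
    ∃ P : ProjectiveResolution (ModuleCat.of B M),
      ∀ n : ℕ, Module.Finite B (P.complex.X n) ∧ Module.Free B (P.complex.X n) := by
  obtain ⟨A₀, _, _, _, _, hft, -, -, B₀, _, _, _, _, hfp, hpo, hBflat, M₀, _, _, _, _, hfin,
    hflat, ⟨ε⟩⟩ := Groth.Agent.Lib.helper3.FlatDesc.exists_fg_model_flat_module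
      (A := A) (B := B) (M := M) ∅
  haveI : Module.Flat A₀ B₀ := hBflat inferInstance
  haveI : IsNoetherianRing A₀ := Algebra.FiniteType.isNoetherianRing ℤ A₀
  haveI : IsNoetherianRing B₀ := Algebra.FiniteType.isNoetherianRing A₀ B₀
  obtain ⟨r₀, p, hp⟩ := Module.Finite.exists_fin' B₀ M₀
  let F₀ := Groth.Agent.S6318.mkRes r₀ p hp
  let F := Groth.Agent.Lib.helper3.ResBaseChange.resBaseChange A₀ A F₀ ε
  refine ⟨F.projRes, fun n => ?_⟩
  change Module.Finite B (Fin (F.rk n) → B) ∧ Module.Free B (Fin (F.rk n) → B)
  exact ⟨inferInstance, inferInstance⟩

end Groth.Agent.S5929
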