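import Groth.Statements.S6187
import Mathlib
import Groth.Agent.Lib.Helper23.TA11
import Groth.Agent.Lib.Helper16.FLF5
-- import your own Groth.Agent.* helpers here

set_option autoImplicit false
universe u
open CategoryTheory CategoryTheory.Limits AlgebraicGeometry
attribute [local instance] HasDerivedCategory.standard
open KSix

namespace Groth.Agent.S6187

open Groth.Agent.Lib.helper23.TA in
/-- the stalk of the structure module is the local ring, as a module over itself -/
lemma nonempty_stalk_structureModule_iso (Y : Scheme.{u}) (y : Y) :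
    Nonempty ((DerSch.stalkFunctor Y y).obj (Coh.structureModule Y) ≅
      ModuleCat.of (Y.presheaf.stalk y) (Y.presheaf.stalk y)) := by
  obtain ⟨hfree, hfin⟩ := Groth.Agent.Lib.helper16.FLF.free_stalk_of_isFinLocFree _
    (Groth.Agent.Lib.helper16.FLF.isFinLocFree_structureModule Y) y
  have hrk := Groth.Agent.Lib.helper16.FLF.finrank_stalk_of_isFinLocFreeOfRank _
    (Groth.Agent.Lib.helper16.FLF.isFinLocFreeOfRank_structureModule Y) y
  obtain ⟨e1⟩ := Module.nonempty_linearEquiv_of_finrank_eq_one
    (R := Y.presheaf.stalk y)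
    (M := ↑((Coh.structureModule Y).presheaf.stalk y)) hrk
  exact ⟨e1.symm.toModuleIso⟩

/-- restriction of scalars of a ring, as a module over itself, along an algebra map -/
noncomputable def restrictSelfIso {A B : Type u} [CommRing A] [CommRing B] [Algebra A B] :
    (ModuleCat.restrictScalars.{u} (algebraMap A B)).obj (ModuleCat.of B B) ≅ ModuleCat.of A B :=
  @LinearEquiv.toModuleIso A _ B B _ _ (Module.compHom B (algebraMap A B)) Algebra.toModule
    (@LinearEquiv.mk A A _ _ (RingHom.id A) (RingHom.id A) _ _ B B _ _
      (Module.compHom B (algebraMap A B)) Algebra.toModule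
      (@LinearMap.mk A A _ _ (RingHom.id A) B B _ _ (Module.compHom B (algebraMap A B))
        Algebra.toModule ⟨id, fun _ _ => rfl⟩ (fun r t => (Algebra.smul_def r t).symm))
      id (fun _ => rfl) (fun _ => rfl))

open Groth.Agent.Lib.helper23.TA DerivedCategory in
/-- ring-level core: restriction of scalars along a ring map of tor dimension `≤ n` -/
lemma ring_core {A B : Type u} [CommRing A] [CommRing B] (φ : A →+* B) (n : ℕ)
    (hB : DRing.HasTorAmplitudeIn A (-(n : ℤ)) 0
      (DRing.toD ((HomologicalComplex.single _ (ComplexShape.up ℤ) 0).obj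
        ((ModuleCat.restrictScalars.{u} φ).obj (ModuleCat.of B B)))))
    (K : DRing.Cx B) (a b : ℤ) (hK : DRing.HasTorAmplitudeIn B a b (DRing.toD K)) :
    DRing.HasTorAmplitudeIn A (a - n) b
      (DRing.toD (((ModuleCat.restrictScalars.{u} φ).mapHomologicalComplex (ComplexShape.up ℤ)).obj K)) := by
  letI alg : Algebra A B := φ.toAlgebra
  have hB' : DRing.HasTorAmplitudeIn A (-(n : ℤ)) 0 (Dual.inD A B) :=
    hasTorAmplitudeIn_of_iso
      (Q.mapIso ((HomologicalComplex.single _ (ComplexShape.up ℤ) 0).mapIso
        (restrictSelfIso (A := A) (B := B)))) hB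
  have h := hasTorAmplitudeIn_restrict n hB' (DRing.toD K) a b hK
  exact hasTorAmplitudeIn_of_iso (restrictDQIso K) h

open Groth.Agent.Lib.helper23.TA DerivedCategory in
lemma at_point {X Y Z : Scheme.{u}} (f : X ⟶ Y) (g : Y ⟶ Z) (n : ℕ) (hg : DerSch.HasTorDimLE g n)
    (F : CochainComplex X.Modules ℤ) (a b : ℤ) (hF : DerSch.HasTorAmplitude f a b F) (x : X) :
    DerSch.HasTorAmplitudeAt (f ≫ g) (a - n) b F x := by
  -- the structure sheaf of `Y` at `f x`
  have hB : DRing.HasTorAmplitudeIn (Z.presheaf.stalk (g.base (f.base x))) (-(n : ℤ)) 0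
      (DRing.toD ((HomologicalComplex.single _ (ComplexShape.up ℤ) 0).obj
        ((ModuleCat.restrictScalars.{u} (g.stalkMap (f.base x)).hom).obj
          (ModuleCat.of (Y.presheaf.stalk (f.base x)) (Y.presheaf.stalk (f.base x)))))) := by
    have h1 := hg (f.base x)
    obtain ⟨e0⟩ := nonempty_stalk_structureModule_iso Y (f.base x)
    refine hasTorAmplitudeIn_of_iso ?_ h1
    have e1 : (DerSch.stalkCxOver g (f.base x)).obj (DerSch.unitCx Y) ≅
        (HomologicalComplex.single _ (ComplexShape.up ℤ) 0).obj
          ((DerSch.stalkOver g (f.base x)).obj (Coh.structureModule Y)) :=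
      (HomologicalComplex.singleMapHomologicalComplex (DerSch.stalkOver g (f.base x))
        (ComplexShape.up ℤ) 0).app (Coh.structureModule Y)
    have e2 : (DerSch.stalkOver g (f.base x)).obj (Coh.structureModule Y) ≅
        (ModuleCat.restrictScalars.{u} (g.stalkMap (f.base x)).hom).obj
          (ModuleCat.of (Y.presheaf.stalk (f.base x)) (Y.presheaf.stalk (f.base x))) :=
      (ModuleCat.restrictScalars.{u} (g.stalkMap (f.base x)).hom).mapIso e0
    exact Q.mapIso (e1 ≪≫ (HomologicalComplex.single _ (ComplexShape.up ℤ) 0).mapIso e2)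
  have h := ring_core (g.stalkMap (f.base x)).hom n hB ((DerSch.stalkCxOver f x).obj F) a b (hF x)
  have hcomp : ((f ≫ g).stalkMap x).hom =
      (f.stalkMap x).hom.comp (g.stalkMap (f.base x)).hom := by
    rw [Scheme.Hom.stalkMap_comp]
    rfl
  have e3 : DerSch.stalkOver f x ⋙ ModuleCat.restrictScalars.{u} (g.stalkMap (f.base x)).hom ≅
      DerSch.stalkOver (f ≫ g) x :=
    Functor.associator _ _ _ ≪≫ Functor.isoWhiskerLeft (DerSch.stalkFunctor X x)
      (ModuleCat.restrictScalarsComp'.{u} (g.stalkMap (f.base x)).hom (f.stalkMap x).hom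
        ((f ≫ g).stalkMap x).hom hcomp).symm
  have e4 : ((ModuleCat.restrictScalars.{u} (g.stalkMap (f.base x)).hom).mapHomologicalComplex
        (ComplexShape.up ℤ)).obj ((DerSch.stalkCxOver f x).obj F) ≅
      (DerSch.stalkCxOver (f ≫ g) x).obj F :=
    HomologicalComplex.Hom.isoOfComponents (fun i => e3.app (F.X i))
      (fun i j _ => (e3.hom.naturality (F.d i j)).symm)
  exact hasTorAmplitudeIn_of_iso (Q.mapIso e4) h


/-- Case of schemes: let f : X ⟶ Y and g : Y ⟶ Z be morphisms of schemes with composite h, let n be a
natural number such that g has tor dimension at most n (the structure sheaf of Y has tor amplitude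
in [-n, 0] relative to g, stalkwise), and let F be a cochain complex of O_X-modules with tor
amplitude in [a, b] relative to f (at every point x the complex of stalks F_x, over the local ring
of Y at f(x), is isomorphic in the derived category to a complex of flat modules placed in [a, b]).
Then F has tor amplitude in [a - n, b] relative to h. (The published statement is for a commutative
triangle of ringed topoi in which X has enough points; this row is the case of schemes, with tor
amplitude relative to a morphism in its stalkwise form.) -/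
theorem result {X Y Z : Scheme.{u}} (f : X ⟶ Y) (g : Y ⟶ Z) (h : X ⟶ Z)
    (w : f ≫ g = h) (n : ℕ) (hg : DerSch.HasTorDimLE g n) (F : CochainComplex X.Modules ℤ) (a b : ℤ)
    (hF : DerSch.HasTorAmplitude f a b F) :
    DerSch.HasTorAmplitude h (a - n) b F := by
  subst w
  intro x
  exact Groth.Agent.S6187.at_point f g n hg F a b hF x

end Groth.Agent.S6187
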