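import Groth.Statements.S6940
import Mathlib
import Groth.Agent.Lib.Helper23.DRingPC4
-- import your own Groth.Agent.* helpers here

set_option autoImplicit false
universe u
open CategoryTheory CategoryTheory.Limits
attribute [local instance] HasDerivedCategory.standard
open DRing

namespace Groth.Agent.S6940

/-- Let A → B be a homomorphism of commutative rings making B a pseudo-coherent A-module; let K be an
object of D(B) and m an integer. Then m-pseudo-coherence of K over B is equivalent to
m-pseudo-coherence over A of K with its scalars restricted to A, and likewise pseudo-coherence of K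
over B is equivalent to pseudo-coherence over A of its restriction. -/
theorem result {A B : Type u} [CommRing A]
    [CommRing B] [Algebra A B] (hB : DRing.IsPseudoCoherentModule' A B) (K : Dual.D B) (m : ℤ) :
    (DRing.IsPseudoCoherent B m K ↔ DRing.IsPseudoCoherent A m ((DRing.restrictD (algebraMap A B)).obj K)) ∧
      (DRing.IsPseudoCoherent' B K ↔ DRing.IsPseudoCoherent' A ((DRing.restrictD (algebraMap A B)).obj K)) := by
  have hB' : Groth.Agent.Lib.helper23.DRingPC.PCMod A
      ((ModuleCat.restrictScalars.{u} (algebraMap A B)).obj (ModuleCat.of B B)) := by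
    have h1 : Groth.Agent.Lib.helper23.DRingPC.PCMod A (ModuleCat.of A B) :=
      (Groth.Agent.Lib.helper23.DRingPC.isPseudoCoherent'_iff_npc A _).1 hB
    refine h1.of_iso (LinearEquiv.toModuleIso
      ({ toFun := fun x => x
         invFun := fun x => x
         map_add' := fun _ _ => rfl
         map_smul' := fun a x => (Algebra.smul_def a x)
         left_inv := fun _ => rfl
         right_inv := fun _ => rfl } :
        (ModuleCat.of A B) ≃ₗ[A]
          ((ModuleCat.restrictScalars.{u} (algebraMap A B)).obj (ModuleCat.of B B))))
  refine ⟨?_, ?_⟩
  · rw [Groth.Agent.Lib.helper23.DRingPC.isPseudoCoherent_iff_npc,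
      Groth.Agent.Lib.helper23.DRingPC.isPseudoCoherent_iff_npc]
    exact Groth.Agent.Lib.helper23.DRingPC.npc_restrict_iff (algebraMap A B) hB' K m
  · rw [Groth.Agent.Lib.helper23.DRingPC.isPseudoCoherent'_iff_npc,
      Groth.Agent.Lib.helper23.DRingPC.isPseudoCoherent'_iff_npc]
    exact forall_congr' fun m' =>
      Groth.Agent.Lib.helper23.DRingPC.npc_restrict_iff (algebraMap A B) hB' K m'

end Groth.Agent.S6940
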