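import Groth.Statements.S7172
import Groth.Agent.Lib.Helper3.PCFlat
import Groth.Agent.Lib.Helper23.TA10

set_option autoImplicit false
universe u
attribute [local instance] HasDerivedCategory.standard
open FlatMor

namespace Groth.Agent.S7172

open AlgebraicGeometry CategoryTheory Limits in
/-- A flat morphism locally of finite presentation is perfect. -/
theorem result {X S : Scheme.{u}} (f : X ⟶ S) [Flat f] [LocallyOfFinitePresentation f] :
    MoreMor.IsPerfectMor f := by
  intro U V hU hV hUV
  letI := (f.appLE V U hUV).hom.toAlgebra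
  have hflat : (f.appLE V U hUV).hom.Flat := f.flat_appLE hV hU hUV
  have hfp : (f.appLE V U hUV).hom.FinitePresentation :=
    HasRingHomProperty.appLE (P := @LocallyOfFinitePresentation) f inferInstance ⟨V, hV⟩ ⟨U, hU⟩ hUV
  haveI : Module.Flat Γ(S, V) Γ(X, U) := hflat
  haveI : Algebra.FinitePresentation Γ(S, V) Γ(X, U) := hfp
  refine ⟨?_, 0, ?_⟩
  · obtain ⟨n, φ, hφ⟩ := Algebra.FiniteType.iff_quotient_mvPolynomial''.1
      (inferInstance : Algebra.FiniteType Γ(S, V) Γ(X, U))
    exact ⟨n, φ, hφ, Groth.Agent.Lib.helper3.PCFlat.isPseudoCoherentModule'_of_flat φ hφ⟩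
  · rw [Groth.Agent.Lib.helper23.TA.hasTorDimLE_iff_torVan,
      Groth.Agent.Lib.helper23.TA.torVan_zero_iff_flat]
    infer_instance

end Groth.Agent.S7172
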