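import Groth.Statements.S7259
import Mathlib
import Groth.Agent.Lib.Helper13.TorLow7
import Groth.Agent.Lib.Helper13.TorLow4
import Groth.Agent.Lib.Helper13.StalkD
import Groth.Agent.Lib.Helper13.TildeStalk
import Groth.Agent.Lib.Helper13.TildeLpull
import Groth.Agent.Lib.Helper24.IndEtaleCancel
-- import your own Groth.Agent.* helpers here

set_option autoImplicit false
universe u
open CategoryTheory CategoryTheory.Limits AlgebraicGeometry
attribute [local instance] HasDerivedCategory.standard
open Perf

namespace Groth.Agent.S7259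


open Groth.Agent.Lib.helper13.TildeStalk Groth.Agent.Lib.helper23.TA DerivedCategory
  Groth.Agent.Lib.helper13.ExtKFlat Groth.Agent.Lib.helper13.TorLow

section

variable (A : Type u) [CommRing A]

lemma φ_eq_algebraMap (x : Spec (CommRingCat.of A)) :
    φ (CommRingCat.of A) x =
      algebraMap A ((Spec.structureSheaf A).presheaf.stalk x) := rfl

lemma φ_flat (x : Spec (CommRingCat.of A)) : (φ (CommRingCat.of A) x).Flat := by
  have h : Module.Flat A ((Spec.structureSheaf A).presheaf.stalk (show PrimeSpectrum A from x)) :=
    IsLocalization.flat _ (show PrimeSpectrum A from x).asIdeal.primeCompl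
  exact h

lemma subsingleton_of_forall_extend (M : ModuleCat.{u} A)
    (h : ∀ x : Spec (CommRingCat.of A),
      Subsingleton ((ModuleCat.extendScalars.{u, u, u} (φ (CommRingCat.of A) x)).obj M)) :
    Subsingleton M := by
  rw [← Module.support_eq_empty_iff (R := A)]
  ext p
  simp only [Set.mem_empty_iff_false, iff_false]
  rw [Module.notMem_support_iff]
  have h1 := h p
  have h2 : Subsingleton (TensorProduct A ((Spec.structureSheaf A).presheaf.stalk p) M) :=
    (Groth.Agent.Lib.helper23.ExtSc.subsingleton_extend_iff (A := A)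
      (B := (Spec.structureSheaf A).presheaf.stalk p) M).1 h1
  haveI : IsLocalizedModule p.asIdeal.primeCompl
      (TensorProduct.mk A ((Spec.structureSheaf A).presheaf.stalk p) M 1) :=
    (isLocalizedModule_iff_isBaseChange p.asIdeal.primeCompl
      ((Spec.structureSheaf A).presheaf.stalk p) _).mpr
      (TensorProduct.isBaseChange A M ((Spec.structureSheaf A).presheaf.stalk p))
  rw [LocalizedModule.subsingleton_iff]
  exact (IsLocalizedModule.subsingleton_iff p.asIdeal.primeCompl
    (TensorProduct.mk A ((Spec.structureSheaf A).presheaf.stalk p) M 1)).1 h2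

/-- the stalk of `Spec A` at `x` is ind-étale over `A` -/
lemma isIndEtale_stalk (x : Spec (CommRingCat.of A)) :
    EtPBC.IsIndEtale A ((Spec.structureSheaf A).presheaf.stalk (show PrimeSpectrum A from x)) :=
  Groth.Agent.Lib.Helper24.IndEtaleCancel.isIndEtale_of_isLocalization
    (show PrimeSpectrum A from x).asIdeal.primeCompl

instance flat_stalk (x : Spec (CommRingCat.of A)) :
    Module.Flat A ((Spec.structureSheaf A).presheaf.stalk (show PrimeSpectrum A from x)) :=
  IsLocalization.flat _ (show PrimeSpectrum A from x).asIdeal.primeCompl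

end

section

variable {R A : Type u} [CommRing R] [CommRing A] (φ₀ : R →+* A)

/-- the stalk map of `Spec φ₀` is compatible with the maps from the rings to the stalks -/
lemma stalkMap_comp_φ (x : Spec (CommRingCat.of A)) :
    ((Spec.map (CommRingCat.ofHom φ₀)).stalkMap x).hom.comp
        (φ (CommRingCat.of R) ((Spec.map (CommRingCat.ofHom φ₀)).base x)) =
      (φ (CommRingCat.of A) x).comp φ₀ := by
  have h1 := Scheme.Hom.germ_stalkMap (Spec.map (CommRingCat.ofHom φ₀)) ⊤ x trivial
  have h2 := Scheme.ΓSpecIso_inv_naturality (CommRingCat.ofHom φ₀)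
  have h3 : (Scheme.ΓSpecIso (CommRingCat.of R)).inv ≫
      (Spec (CommRingCat.of R)).presheaf.germ ⊤ ((Spec.map (CommRingCat.ofHom φ₀)).base x) trivial ≫
        (Spec.map (CommRingCat.ofHom φ₀)).stalkMap x =
      CommRingCat.ofHom φ₀ ≫ (Scheme.ΓSpecIso (CommRingCat.of A)).inv ≫
        (Spec (CommRingCat.of A)).presheaf.germ ⊤ x trivial := by
    have h2' : CommRingCat.ofHom φ₀ ≫ (Scheme.ΓSpecIso (CommRingCat.of A)).inv =
        (Scheme.ΓSpecIso (CommRingCat.of R)).inv ≫
          (Spec.map (CommRingCat.ofHom φ₀)).app ⊤ := h2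
    rw [h1, ← Category.assoc, ← h2']
    exact Category.assoc _ _ _
  exact congrArg CommRingCat.Hom.hom h3

/-- restriction of scalars in two steps, on complexes -/
noncomputable def resCxCompIso {S T U : Type u} [CommRing S] [CommRing T] [CommRing U]
    (g : S →+* T) (h : T →+* U) (k : S →+* U) (hk : k = h.comp g) (M : DRing.Cx U) :
    (resCx g).obj ((resCx h).obj M) ≅ (resCx k).obj M :=
  HomologicalComplex.Hom.isoOfComponents
    (fun i => ((ModuleCat.restrictScalarsComp'.{u} g h k hk).app (M.X i)).symm)
    (fun i j _ => ((ModuleCat.restrictScalarsComp'.{u} g h k hk).inv.naturality (M.d i j)).symm)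

end


/-- Let R → A be a ring map, f : X = Spec A ⟶ S = Spec R the induced morphism, M an object of D(A), and
F a cochain complex of O_X-modules representing the associated object E = M~ of D(O_X) (tilde
recorded as exact). Then, viewed over f⁻¹O_S, the object E is of tor amplitude [a, b], in the
stalkwise form (at every x ∈ X the complex of stalks F_x has tor amplitude in [a, b] over the local
ring O_{S, f(x)}), precisely when the R-module complex obtained from M is of tor amplitude [a, b]
(its restriction of scalars is isomorphic in D(R) to a complex of flat R-modules vanishing outside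
[a, b]). -/
theorem result {R A : Type u} [CommRing R] [CommRing A] (φ : R →+* A)
    [PreservesFiniteLimits (tilde.functor (CommRingCat.of A))] (M : Dual.D A)
    (F : CochainComplex (Spec (CommRingCat.of A)).Modules ℤ)
    (hF : Nonempty (DCoh.toD (Spec (CommRingCat.of A)) F ≅ (DCoh.tildeD (CommRingCat.of A)).obj M)) (a b : ℤ) :
    DerSch.HasTorAmplitude (Spec.map (CommRingCat.ofHom φ)) a b F ↔
      DRing.HasTorAmplitudeIn R a b ((DRing.restrictD φ).obj M) := by
  classical
  have eK : DerivedCategory.Q.obj (DerivedCategory.Q.objPreimage M) ≅ M :=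
    DerivedCategory.Q.objObjPreimageIso M
  set K : DRing.Cx A := DerivedCategory.Q.objPreimage M with hK
  obtain ⟨eF⟩ := hF
  have eT : DCoh.toD (Spec (CommRingCat.of A)) F ≅
      DCoh.toD (Spec (CommRingCat.of A))
        (((tilde.functor (CommRingCat.of A)).mapHomologicalComplex (ComplexShape.up ℤ)).obj K) :=
    eF ≪≫ (DCoh.tildeD (CommRingCat.of A)).mapIso eK.symm ≪≫
      (tilde.functor (CommRingCat.of A)).mapDerivedCategoryFactors.app K
  -- `K|_R` in place of `M|_R`
  have eR : (DRing.restrictD φ).obj M ≅ DRing.toD ((resCx φ).obj K) :=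
    (DRing.restrictD φ).mapIso eK.symm ≪≫
      (ModuleCat.restrictScalars.{u} φ).mapDerivedCategoryFactors.app K
  -- the complex of stalks at `x`, over the local ring of the base
  have key : ∀ x : Spec (CommRingCat.of A),
      (DRing.HasTorAmplitudeIn
          ((Spec (CommRingCat.of R)).presheaf.stalk ((Spec.map (CommRingCat.ofHom φ)).base x)) a b
          (DRing.toD ((DerSch.stalkCxOver (Spec.map (CommRingCat.ofHom φ)) x).obj F)) ↔
        DRing.HasTorAmplitudeIn R a b (DRing.toD ((resCx ((Groth.Agent.Lib.helper13.TildeStalk.φ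
          (CommRingCat.of A) x).comp φ)).obj ((extCx (Groth.Agent.Lib.helper13.TildeStalk.φ
            (CommRingCat.of A) x)).obj K)))) := by
    intro x
    set l := Groth.Agent.Lib.helper13.TildeStalk.φ (CommRingCat.of A) x with hl
    set ψ := ((Spec.map (CommRingCat.ofHom φ)).stalkMap x).hom with hψ
    set α := Groth.Agent.Lib.helper13.TildeStalk.φ (CommRingCat.of R)
      ((Spec.map (CommRingCat.ofHom φ)).base x) with hα
    have hsq : l.comp φ = ψ.comp α := (stalkMap_comp_φ φ x).symm
    -- the complex of stalks of `F` and of `K^~`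
    obtain ⟨e1⟩ := Groth.Agent.Lib.helper13.StalkD.nonempty_Q_stalk_iso x F _ eT
    have e2 := e1 ≪≫ DerivedCategory.Q.mapIso (stalkCxTildeIso (CommRingCat.of A) x K)
    have e3 : DRing.toD ((DerSch.stalkCxOver (Spec.map (CommRingCat.ofHom φ)) x).obj F) ≅
        DRing.toD ((resCx ψ).obj ((extCx l).obj K)) :=
      ((ModuleCat.restrictScalars.{u} ψ).mapDerivedCategoryFactors.app
          ((Groth.Agent.Lib.helper13.StalkD.stalkCx x).obj F)).symm ≪≫
        (ModuleCat.restrictScalars.{u} ψ).mapDerivedCategory.mapIso e2 ≪≫
        (ModuleCat.restrictScalars.{u} ψ).mapDerivedCategoryFactors.app _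
    -- restriction to `R`
    have e4 : (DRing.restrictD (algebraMap R
          ((Spec.structureSheaf R).presheaf.stalk (show PrimeSpectrum R from (Spec.map (CommRingCat.ofHom φ)).base x)))).obj
        (DRing.toD ((resCx ψ).obj ((extCx l).obj K))) ≅
        DRing.toD ((resCx (l.comp φ)).obj ((extCx l).obj K)) :=
      (ModuleCat.restrictScalars.{u} α).mapDerivedCategoryFactors.app _ ≪≫
        DerivedCategory.Q.mapIso (resCxCompIso α ψ (l.comp φ) hsq _)
    have hind := isIndEtale_stalk R ((Spec.map (CommRingCat.ofHom φ)).base x)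
    constructor
    · intro h
      have h1 := hasTorAmplitudeIn_of_iso e3 h
      have h2 := hasTorAmplitudeIn_restrict_of_flat (A := R)
        (B := (Spec.structureSheaf R).presheaf.stalk
          (show PrimeSpectrum R from (Spec.map (CommRingCat.ofHom φ)).base x)) _ a b h1
      exact hasTorAmplitudeIn_of_iso e4 h2
    · intro h
      have h2 := hasTorAmplitudeIn_of_iso e4.symm h
      have h1 := hasTorAmplitudeIn_of_restrict_of_isIndEtale (A := R)
        (B := (Spec.structureSheaf R).presheaf.stalk
          (show PrimeSpectrum R from (Spec.map (CommRingCat.ofHom φ)).base x)) hind _ a b h2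
      exact hasTorAmplitudeIn_of_iso e3.symm h1
  constructor
  · intro h
    refine hasTorAmplitudeIn_of_iso eR.symm ?_
    refine hasTorAmplitudeIn_res_of_forall_res_ext φ
      (fun x : Spec (CommRingCat.of A) =>
        Groth.Agent.Lib.helper13.TildeStalk.φ (CommRingCat.of A) x)
      (fun x => φ_flat A x) (fun N hN => subsingleton_of_forall_extend A N hN) K a b (fun x => ?_)
    exact (key x).1 (h x)
  · intro h x
    have h1 := hasTorAmplitudeIn_of_iso eR h
    exact (key x).2 (hasTorAmplitudeIn_res_ext_of_flat φ _ (φ_flat A x) K a b h1)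

end Groth.Agent.S7259
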