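import Groth.Statements.S13576
-- import your own Groth.Agent.* helpers here

set_option autoImplicit false
universe u
open CategoryTheory CategoryTheory.Limits MonoidalCategory
attribute [local instance] HasDerivedCategory.standard
open DTen

namespace Groth.Agent.S13576

section Helpers
variable {A : Type u} [CommRing A]

lemma braidCx_invol (K L : DRing.Cx A) :
    (DTen.braidCx K L).hom ≫ (DTen.braidCx L K).hom = 𝟙 _ := by
  refine HomologicalComplex.hom_ext _ _ (fun n =>
    HomologicalComplex.mapBifunctor.hom_ext (fun p q h => ?_))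
  rw [HomologicalComplex.comp_f]
  erw [DTen.ι_braidCx_hom_assoc K L p q n h]
  simp only [Linear.units_smul_comp, Category.assoc]
  have h' : p + q = n := h
  erw [DTen.ι_braidCx_hom L K q p n (by omega)]
  simp only [Linear.comp_units_smul, smul_smul, HomologicalComplex.id_f]
  rw [mul_comm q p, Int.units_mul_self, one_smul]
  erw [SymmetricCategory.symmetry_assoc]
  rfl

/-- the composite `σ(L,K) ≫ σ(K,L)` as an endo-natural-transformation of `LTen₂` -/
noncomputable def sq (A : Type u) [CommRing A] [DTen.HasLTen A] : DTen.LTen₂ A ⟶ DTen.LTen₂ A where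
  app X := (DTen.symm A).app (X.2, X.1) ≫ (DTen.symm A).app X
  naturality X Y f := by
    have h1 := (DTen.symm A).naturality f
    have h2 := (DTen.symm A).naturality (X := (X.2, X.1)) (Y := (Y.2, Y.1)) (Prod.mkHom f.2 f.1)
    dsimp at h1 h2 ⊢
    rw [Category.assoc, ← h1, ← Category.assoc, ← Category.assoc]
    congr 1

lemma sq_eq_id (A : Type u) [CommRing A] [DTen.HasLTen A] : sq A = 𝟙 _ := by
  apply (DTen.LTen₂ A).leftDerived_ext (DTen.ε A) (DTen.qis₂ A)
  ext ⟨K, L⟩
  dsimp [sq]
  rw [Category.assoc, DTen.symm_fac A K L]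
  erw [reassoc_of% (DTen.symm_fac A L K)]
  rw [← CategoryTheory.Functor.map_comp, braidCx_invol]
  erw [CategoryTheory.Functor.map_id, Category.comp_id, Category.id_comp]

end Helpers

/-- For a commutative ring `A` and objects `K`, `L` of `D(A)`, the canonical symmetry morphism `L ⊗^L K
⟶ K ⊗^L L` of the derived tensor product, the one compatible with the swap of complexes carrying the
sign `(-1)^{pq}` on `K^p ⊗ L^q`, is an isomorphism. -/
theorem result (A : Type u) [CommRing A] [DTen.HasLTen A] (K L : Dual.D A) :
    IsIso ((DTen.symm A).app (K, L)) := by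
  refine ⟨(DTen.symm A).app (L, K), ?_, ?_⟩
  · have := congrArg (fun τ => τ.app (L, K)) (sq_eq_id A)
    exact this
  · have := congrArg (fun τ => τ.app (K, L)) (sq_eq_id A)
    exact this

end Groth.Agent.S13576
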