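import Groth.Statements.S7459
import Mathlib
-- import your own Groth.Agent.* helpers here

set_option autoImplicit false
universe u
open CategoryTheory MonoidalCategory CartesianMonoidalCategory MonObj GrpObj AlgebraicGeometry
open GrpSch

namespace Groth.Agent.S7459

section shear

variable {C : Type*} [Category C] [CartesianMonoidalCategory C] {G : C} [GrpObj G]

/-- The shear map `(t, g) ↦ (t, a(t) g)`. -/
noncomputable def shear {T : C} (a : T ⟶ G) : T ⊗ G ⟶ T ⊗ G :=
  lift (fst T G) ((fst T G ≫ a) * snd T G)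

theorem shear_comp_shear_inv {T : C} (a : T ⟶ G) : shear a ≫ shear a⁻¹ = 𝟙 _ := by
  apply CartesianMonoidalCategory.hom_ext
  · simp [shear]
  · simp only [shear, Category.assoc, lift_snd, Category.id_comp, MonObj.comp_mul, lift_fst_assoc]
    rw [Hom.inv_def, ← Category.assoc, ← Hom.inv_def, inv_mul_cancel_left]

theorem shear_inv_comp_shear {T : C} (a : T ⟶ G) : shear a⁻¹ ≫ shear a = 𝟙 _ := by
  have := shear_comp_shear_inv a⁻¹
  rwa [_root_.inv_inv] at this

instance {T : C} (a : T ⟶ G) : IsIso (shear a) :=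
  ⟨⟨shear a⁻¹, shear_comp_shear_inv a, shear_inv_comp_shear a⟩⟩

theorem tensorHom_comp_mul {T W : C} (a : T ⟶ G) (b : W ⟶ G) :
    (a ⊗ₘ b) ≫ μ[G] = (T ◁ b) ≫ shear a ≫ snd T G := by
  simp only [shear, lift_snd, MonObj.comp_mul]
  rw [Hom.mul_def]
  congr 1
  apply CartesianMonoidalCategory.hom_ext <;> simp

end shear

/-- Let G be a group scheme over a field k, W an open subscheme of G and f : T -> G a morphism of
schemes (T becomes a k-scheme through f). Then the image of the composition T x_k W -> G x_k G -> G,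
the second map being the multiplication, is open. -/
theorem result (K : Type u) [Field K] (G : Over (Spec (CommRingCat.of K))) [GrpObj G] (W : G.left.Opens) (T : Scheme.{u}) (f : T ⟶ G.left) : IsOpen (Set.range ⇑(((Over.homMk f rfl : Over.mk (f ≫ G.hom) ⟶ G) ⊗ₘ (Over.homMk W.ι rfl : Over.mk (W.ι ≫ G.hom) ⟶ G)) ≫ μ[G]).left) := by
  rw [tensorHom_comp_mul]
  set T' : Over (Spec (CommRingCat.of K)) := Over.mk (f ≫ G.hom) with hT'
  set W' : Over (Spec (CommRingCat.of K)) := Over.mk (W.ι ≫ G.hom) with hW'
  set f' : T' ⟶ G := Over.homMk f rfl with hf'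
  set w' : W' ⟶ G := Over.homMk W.ι rfl with hw'
  have h1 : IsOpenImmersion (T' ◁ w').left := by
    rw [Over.whiskerLeft_left]
    have : IsOpenImmersion w'.left := inferInstanceAs (IsOpenImmersion W.ι)
    infer_instance
  have h2 : IsIso (shear f').left :=
    inferInstanceAs (IsIso ((Over.forget _).map (shear f')))
  have h3 : UniversallyOpen (snd T' G).left := by
    rw [Over.snd_left]
    infer_instance
  simp only [Over.comp_left]
  have : Set.range ⇑((T' ◁ w').left ≫ (shear f').left ≫ (snd T' G).left) =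
      ⇑(snd T' G).left '' (⇑(shear f').left '' Set.range ⇑(T' ◁ w').left) := by
    ext x
    simp [Set.mem_image, Set.mem_range]
  rw [this]
  exact (snd T' G).left.isOpenMap _ ((shear f').left.isOpenMap _
    (T' ◁ w').left.isOpenEmbedding.isOpen_range)

end Groth.Agent.S7459
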