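import Groth.Statements.S0351
import Mathlib
import Groth.Agent.S7459
import Groth.Agent.Lib.Helper28.GrpPts
-- import your own Groth.Agent.* helpers here

set_option autoImplicit false
universe u v
open CategoryTheory MonoidalCategory CartesianMonoidalCategory MonObj GrpObj AlgebraicGeometry
open GrpSch

namespace Groth.Agent.S0351

open Groth.Agent.Lib.helper28.GrpPts

lemma translate_open (K : Type u) [Field K] (G : Over (Spec (CommRingCat.of K))) [GrpObj G]
    (W : G.left.Opens) (r : G.left) : IsOpen {g₃ | ∃ g₂ ∈ W, Mul3 G r g₂ g₃} := by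
  have h := Groth.Agent.S7459.result K G W _ (G.left.fromSpecResidueField r)
  rw [range_tensorHom_mul] at h
  convert h using 1
  ext g₃
  have h1 : Set.range ⇑(Over.homMk (G.left.fromSpecResidueField r) rfl :
      Over.mk (G.left.fromSpecResidueField r ≫ G.hom) ⟶ G).left = {r} :=
    Scheme.range_fromSpecResidueField r
  have h2 : Set.range ⇑(Over.homMk W.ι rfl : Over.mk (W.ι ≫ G.hom) ⟶ G).left = W :=
    Scheme.Opens.range_ι W
  simp only [Set.mem_setOf_eq, h1, h2, Set.mem_singleton_iff, exists_eq_left]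
  rfl

lemma closed_range (K : Type u) [Field K] (H G : Over (Spec (CommRingCat.of K))) [GrpObj H]
    [GrpObj G] (i : H ⟶ G) [IsMonHom i] (hlc : IsLocallyClosed (Set.range i.left)) :
    IsClosed (Set.range i.left) := by
  rw [← closure_subset_iff_isClosed]
  intro r hr
  have hVo : IsOpen (coborder (Set.range i.left)) := hlc.isOpen_coborder
  have hVA : coborder (Set.range i.left) ∩ closure (Set.range i.left) = Set.range i.left :=
    coborder_inter_closure
  obtain ⟨e, he, hre⟩ := Mul3.exists_unit G r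
  have heA : e ∈ Set.range i.left := unit_mem_range i he
  obtain ⟨V, hV⟩ : ∃ V : G.left.Opens, (V : Set G.left) = coborder (Set.range i.left) :=
    ⟨⟨_, hVo⟩, rfl⟩
  have hO := translate_open K G V r
  have hrO : r ∈ {g₃ | ∃ g₂ ∈ V, Mul3 G r g₂ g₃} :=
    ⟨e, by rw [← SetLike.mem_coe, hV]; exact subset_coborder heA, hre⟩
  obtain ⟨y, ⟨w, hwV, hrwy⟩, hyA⟩ := mem_closure_iff.mp hr _ hO hrO
  have hwZ : w ∈ closure (Set.range i.left) := by
    by_contra hw
    obtain ⟨W₂, hW₂⟩ : ∃ W₂ : G.left.Opens,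
        ∀ g, g ∈ W₂ ↔ ι[G].left g ∉ closure (Set.range i.left) :=
      ⟨ι[G].left ⁻¹ᵁ ⟨(closure (Set.range i.left))ᶜ, isClosed_closure.isOpen_compl⟩,
        fun g => Iff.rfl⟩
    have hO₂ := translate_open K G W₂ y
    have hrO₂ : r ∈ {g₃ | ∃ g₂ ∈ W₂, Mul3 G y g₂ g₃} :=
      ⟨ι[G].left w, by rw [hW₂, inv_inv_apply]; exact hw, hrwy.rot_right⟩
    obtain ⟨y₂, ⟨v, hvW, hyv⟩, hy₂A⟩ := mem_closure_iff.mp hr _ hO₂ hrO₂
    have hvA : v ∈ Set.range i.left := hyv.rot_left.mem_range i (inv_mem_range i hyA) hy₂A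
    exact (hW₂ v).mp hvW (subset_closure (inv_mem_range i hvA))
  have hwA : w ∈ Set.range i.left := by
    rw [← hVA]
    exact ⟨by rw [← hV]; exact hwV, hwZ⟩
  exact hrwy.rot_right.mem_range i hyA (inv_mem_range i hwA)

/-- A homomorphism of group schemes over a field which is an immersion is a closed immersion. -/
theorem result (K : Type u) [Field K] (H G : Over (Spec (CommRingCat.of K))) [GrpObj H] [GrpObj G] (i : H ⟶ G) [IsMonHom i] [IsImmersion i.left] : IsClosedImmersion i.left := by
  exact IsClosedImmersion.of_isPreimmersion _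
    (closed_range K H G i i.left.isLocallyClosed_range)

end Groth.Agent.S0351
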