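import Groth.Statements.S0346
import Mathlib.CategoryTheory.Monoidal.Cartesian.Grp
-- import your own Groth.Agent.* helpers here

set_option autoImplicit false
universe u v
open CategoryTheory MonoidalCategory CartesianMonoidalCategory MonObj GrpObj AlgebraicGeometry
open GrpSch

namespace Groth.Agent.S0346
section Abstract
open CategoryTheory.Limits
variable {C : Type*} [Category C] [CartesianMonoidalCategory C] (G : C) [GrpObj G]

theorem sq1 : IsPullback (lift (𝟙 G) (𝟙 G)) (toUnit G) (fst G G / snd G G) η[G] := by
  have w : lift (𝟙 G) (𝟙 G) ≫ (fst G G / snd G G) = toUnit G ≫ η[G] := by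
    rw [GrpObj.comp_div, lift_fst, lift_snd, div_self', Hom.one_def]
  refine ⟨⟨w⟩, ⟨PullbackCone.IsLimit.mk _ (fun s => s.fst ≫ fst G G) ?_ ?_ ?_⟩⟩
  · intro s
    have h := s.condition
    rw [GrpObj.comp_div, toUnit_unique s.snd (toUnit _), ← Hom.one_def, div_eq_one] at h
    apply CartesianMonoidalCategory.hom_ext
    · simp
    · simp [h]
  · intro s
    exact toUnit_unique _ _
  · intro s m h1 h2
    rw [← h1]
    simp

theorem sq2 : IsPullback η[G] η[G] (lift (𝟙 G) (𝟙 G)) (lift (toUnit G ≫ η[G]) (𝟙 G)) := by
  have w : η[G] ≫ lift (𝟙 G) (𝟙 G) = η[G] ≫ lift (toUnit G ≫ η[G]) (𝟙 G) := by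
    apply CartesianMonoidalCategory.hom_ext
    · simp
    · simp
  refine ⟨⟨w⟩, ⟨PullbackCone.IsLimit.mk _ (fun s => toUnit _) ?_ ?_ ?_⟩⟩
  · intro s
    have h := s.condition
    have h1 := congr($h ≫ fst G G)
    have h2 := congr($h ≫ snd G G)
    simp at h1 h2
    rw [h1]
  · intro s
    have h := s.condition
    have h1 := congr($h ≫ fst G G)
    have h2 := congr($h ≫ snd G G)
    simp at h1 h2
    rw [← h2, h1]
  · intro s m h1 h2
    exact toUnit_unique _ _

end Abstract



/-- A group scheme over any base scheme is separated over the base exactly when its unit section is a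
closed immersion, and quasi-separated exactly when the unit section is quasi-compact. -/
theorem result (S : Scheme.{u}) (G : Over S) [GrpObj G] : (IsSeparated G.hom ↔ IsClosedImmersion η[G].left) ∧ (QuasiSeparated G.hom ↔ QuasiCompact η[G].left) := by
  open CategoryTheory.Limits in
  have hΔ : (lift (𝟙 G) (𝟙 G)).left = pullback.diagonal G.hom := rfl
  have p1 := ((sq1 G).map (Over.forget S)).flip
  have p2 := ((sq2 G).map (Over.forget S))
  simp only [Over.forget_obj, Over.forget_map] at p1 p2
  constructor
  · constructor
    · intro h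
      have h' : IsClosedImmersion (pullback.diagonal G.hom) := h.isClosedImmersion_diagonal
      rw [← hΔ] at h'
      exact MorphismProperty.of_isPullback (P := @IsClosedImmersion) p2 h'
    · intro h
      have h' : IsClosedImmersion (lift (𝟙 G) (𝟙 G)).left :=
        MorphismProperty.of_isPullback (P := @IsClosedImmersion) p1 h
      rw [hΔ] at h'
      exact ⟨h'⟩
  · constructor
    · intro h
      have h' : QuasiCompact (pullback.diagonal G.hom) := h.quasiCompact_diagonal
      rw [← hΔ] at h'
      exact MorphismProperty.of_isPullback (P := @QuasiCompact) p2 h'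
    · intro h
      have h' : QuasiCompact (lift (𝟙 G) (𝟙 G)).left :=
        MorphismProperty.of_isPullback (P := @QuasiCompact) p1 h
      rw [hΔ] at h'
      exact ⟨h'⟩

end Groth.Agent.S0346
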