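import Groth.Statements.S3444
import Groth.Agent.Lib.Helper7.LfpOfComp
import Mathlib.AlgebraicGeometry.PullbackCarrier
import Mathlib.AlgebraicGeometry.Morphisms.FinitePresentation
import Mathlib.AlgebraicGeometry.Morphisms.QuasiSeparated
import Mathlib.AlgebraicGeometry.Morphisms.UniversallyInjective
import Mathlib.AlgebraicGeometry.ResidueField
import Mathlib.CategoryTheory.Limits.Shapes.Diagonal

set_option autoImplicit false
open CategoryTheory AlgebraicGeometry
universe u
open EGA43

namespace Groth.Agent.S3444

section cat

open CategoryTheory.Limits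

variable {C : Type*} [Category C] [HasPullbacks C]

theorem isPullback_map_fst {X' Y' X Y : C} {f' : X' ⟶ Y'} {p : X' ⟶ X} {j : Y' ⟶ Y} {f : X ⟶ Y}
    (H : IsPullback f' p j f) :
    IsPullback (pullback.map f' f' f f p p j H.w H.w) (pullback.fst f' f') (pullback.fst f f) p := by
  have h1 : pullback.map f' f' f f p p j H.w H.w ≫ pullback.snd f f = pullback.snd f' f' ≫ p :=
    pullback.lift_snd _ _ _
  have h0 : pullback.map f' f' f f p p j H.w H.w ≫ pullback.fst f f = pullback.fst f' f' ≫ p :=
    pullback.lift_fst _ _ _
  have h2 : IsPullback (pullback.snd f' f' ≫ p) (pullback.fst f' f') f (f' ≫ j) :=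
    (IsPullback.of_hasPullback f' f').flip.paste_horiz H.flip
  rw [H.w, ← h1] at h2
  exact IsPullback.of_right h2 h0 (IsPullback.of_hasPullback f f).flip

theorem isPullback_diagonal {X' Y' X Y : C} {f' : X' ⟶ Y'} {p : X' ⟶ X} {j : Y' ⟶ Y} {f : X ⟶ Y}
    (H : IsPullback f' p j f) :
    IsPullback (pullback.diagonal f') p (pullback.map f' f' f f p p j H.w H.w)
      (pullback.diagonal f) := by
  have h1 : IsPullback (pullback.diagonal f' ≫ pullback.fst f' f') p p
      (pullback.diagonal f ≫ pullback.fst f f) := by
    rw [pullback.diagonal_fst, pullback.diagonal_fst]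
    exact IsPullback.of_horiz_isIso ⟨by simp⟩
  refine IsPullback.of_right h1 ?_ (isPullback_map_fst H).flip
  have h0 : pullback.map f' f' f f p p j H.w H.w ≫ pullback.fst f f = pullback.fst f' f' ≫ p :=
    pullback.lift_fst _ _ _
  have h1' : pullback.map f' f' f f p p j H.w H.w ≫ pullback.snd f f = pullback.snd f' f' ≫ p :=
    pullback.lift_snd _ _ _
  apply pullback.hom_ext
  · rw [Category.assoc, h0, pullback.diagonal_fst_assoc, Category.assoc, pullback.diagonal_fst,
      Category.comp_id]
  · rw [Category.assoc, h1', pullback.diagonal_snd_assoc, Category.assoc, pullback.diagonal_snd,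
      Category.comp_id]

end cat

section aux

open CategoryTheory.Limits

theorem exists_preimage_of_isPullback {P X Y S : Scheme.{u}} {fst : P ⟶ X} {snd : P ⟶ Y}
    {f : X ⟶ S} {g : Y ⟶ S} (H : IsPullback fst snd f g) (x : X) (y : Y)
    (h : f.base x = g.base y) : ∃ z : P, fst.base z = x ∧ snd.base z = y := by
  obtain ⟨z, hz1, hz2⟩ := Scheme.Pullback.exists_preimage_pullback (f := f) (g := g) x y h
  refine ⟨H.isoPullback.inv.base z, ?_, ?_⟩
  · have : (H.isoPullback.inv ≫ fst).base z = (pullback.fst f g).base z := by
      rw [H.isoPullback_inv_fst]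
    rw [Scheme.Hom.comp_base] at this
    simp only [TopCat.comp_app] at this
    rw [this]
    exact hz1
  · have : (H.isoPullback.inv ≫ snd).base z = (pullback.snd f g).base z := by
      rw [H.isoPullback_inv_snd]
    rw [Scheme.Hom.comp_base] at this
    simp only [TopCat.comp_app] at this
    rw [this]
    exact hz2

theorem comp_base_apply {A B D : Scheme.{u}} (a : A ⟶ B) (b : B ⟶ D) (x : A) :
    (a ≫ b).base x = b.base (a.base x) := by
  rw [Scheme.Hom.comp_base]
  rfl

theorem base_congr {A B : Scheme.{u}} {a b : A ⟶ B} (h : a = b) (x : A) :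
    a.base x = b.base x := by rw [h]

variable {X Y S : Scheme.{u}} (f : X ⟶ Y) (g : Y ⟶ S) (s : S)

/-- The induced morphism on fibres over `s`. -/
noncomputable abbrev fibreMap :
    pullback (f ≫ g) (S.fromSpecResidueField s) ⟶ pullback g (S.fromSpecResidueField s) :=
  pullback.lift (pullback.fst (f ≫ g) (S.fromSpecResidueField s) ≫ f)
    (pullback.snd (f ≫ g) (S.fromSpecResidueField s))
    ((Category.assoc _ _ _).trans pullback.condition)

theorem isPullback_fibreMap :
    IsPullback (fibreMap f g s) (pullback.fst (f ≫ g) (S.fromSpecResidueField s))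
      (pullback.fst g (S.fromSpecResidueField s)) f := by
  have h1 : fibreMap f g s ≫ pullback.snd g (S.fromSpecResidueField s) =
      pullback.snd (f ≫ g) (S.fromSpecResidueField s) := pullback.lift_snd _ _ _
  have h2 : IsPullback (fibreMap f g s ≫ pullback.snd g (S.fromSpecResidueField s))
      (pullback.fst (f ≫ g) (S.fromSpecResidueField s)) (S.fromSpecResidueField s) (f ≫ g) := by
    rw [h1]
    exact (IsPullback.of_hasPullback (f ≫ g) (S.fromSpecResidueField s)).flip
  exact IsPullback.of_right h2 (pullback.lift_fst _ _ _)
    (IsPullback.of_hasPullback g (S.fromSpecResidueField s)).flip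

/-- The map `X_s ×_{Y_s} X_s ⟶ X ×_Y X`. -/
noncomputable abbrev diagMap :
    pullback (fibreMap f g s) (fibreMap f g s) ⟶ pullback f f :=
  pullback.map (fibreMap f g s) (fibreMap f g s) f f
    (pullback.fst (f ≫ g) (S.fromSpecResidueField s))
    (pullback.fst (f ≫ g) (S.fromSpecResidueField s))
    (pullback.fst g (S.fromSpecResidueField s))
    (isPullback_fibreMap f g s).w (isPullback_fibreMap f g s).w

theorem isPullback_diagMap :
    IsPullback ((pullback.fst (fibreMap f g s) (fibreMap f g s) ≫ fibreMap f g s) ≫
        pullback.snd g (S.fromSpecResidueField s))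
      (diagMap f g s) (S.fromSpecResidueField s) ((pullback.fst f f ≫ f) ≫ g) :=
  ((isPullback_map_fst (isPullback_fibreMap f g s)).flip.paste_horiz
    (isPullback_fibreMap f g s)).paste_horiz
      (IsPullback.of_hasPullback g (S.fromSpecResidueField s)).flip

theorem setOf_universallyInjective_eq :
    {s : S | UniversallyInjective (fibreMap f g s)} =
      (((pullback.fst f f ≫ f) ≫ g).base '' (Set.range (pullback.diagonal f).base)ᶜ)ᶜ := by
  ext s
  simp only [Set.mem_ofPred_eq, Set.mem_compl_iff, Set.mem_image, not_exists, not_and]
  rw [UniversallyInjective.iff_diagonal]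
  constructor
  · intro hsurj d hd hds
    obtain ⟨t⟩ : Nonempty (Spec (S.residueField s)) := inferInstance
    have ht : (S.fromSpecResidueField s).base t = s := Scheme.fromSpecResidueField_apply _ _
    obtain ⟨z, -, hz⟩ := exists_preimage_of_isPullback (isPullback_diagMap f g s) t d
      (by rw [hds, ht])
    obtain ⟨x', hx'⟩ := hsurj.surj z
    apply hd
    refine ⟨(pullback.fst (f ≫ g) (S.fromSpecResidueField s)).base x', ?_⟩
    rw [← hz, ← hx', ← comp_base_apply, ← comp_base_apply]
    exact base_congr (isPullback_diagonal (isPullback_fibreMap f g s)).w.symm x'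
  · intro h
    refine ⟨fun z => ?_⟩
    have hd : (diagMap f g s).base z ∈ Set.range (pullback.diagonal f).base := by
      by_contra hcon
      refine h _ hcon ?_
      rw [← comp_base_apply, ← base_congr (isPullback_diagMap f g s).w z, comp_base_apply]
      exact Scheme.fromSpecResidueField_apply _ _
    obtain ⟨x, hx⟩ := hd
    obtain ⟨x', -, hx'⟩ := exists_preimage_of_isPullback
      (isPullback_diagonal (isPullback_fibreMap f g s)).flip x z hx
    exact ⟨x', hx'⟩

theorem isLocallyConstructible_compl' {Z : Type*} [TopologicalSpace Z] {A : Set Z}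
    (hA : Topology.IsLocallyConstructible A) : Topology.IsLocallyConstructible Aᶜ := by
  intro x
  obtain ⟨U, hxU, hU, hUs⟩ := hA x
  exact ⟨U, hxU, hU, by simpa using hUs.compl⟩

end aux

open CategoryTheory.Limits in
/-- Let g : Y ⟶ S and f : X ⟶ Y be such that X and Y are of finite presentation over S (locally of
finite presentation, quasi-compact and quasi-separated). For each point s of S let f_s be the
induced morphism from the fibre of f ≫ g over s to the fibre of g over s. Then the set of s for
which f_s is radicial (universally injective) is locally constructible in S. -/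
theorem result {X Y S : Scheme.{u}} (f : X ⟶ Y) (g : Y ⟶ S)
    [LocallyOfFinitePresentation g] [QuasiCompact g] [QuasiSeparated g]
    [LocallyOfFinitePresentation (f ≫ g)] [QuasiCompact (f ≫ g)] [QuasiSeparated (f ≫ g)] :
    Topology.IsLocallyConstructible {s : S |
      UniversallyInjective (pullback.lift (pullback.fst (f ≫ g) (S.fromSpecResidueField s) ≫ f) (pullback.snd (f ≫ g) (S.fromSpecResidueField s))
          ((Category.assoc _ _ _).trans pullback.condition) :
        pullback (f ≫ g) (S.fromSpecResidueField s) ⟶ pullback g (S.fromSpecResidueField s))} := by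
  have : LocallyOfFinitePresentation f :=
    Groth.Agent.Lib.helper7.locallyOfFinitePresentation_of_comp f g
  have : QuasiCompact f := QuasiCompact.of_comp f g
  have : QuasiSeparated f := QuasiSeparated.of_comp f g
  have h1 : Topology.IsLocallyConstructible (Set.range (pullback.diagonal f).base) := by
    rw [← Set.image_univ]
    exact (pullback.diagonal f).isLocallyConstructible_image Topology.IsLocallyConstructible.univ
  have h2 := ((pullback.fst f f ≫ f) ≫ g).isLocallyConstructible_image
    (isLocallyConstructible_compl' h1)
  have h3 := isLocallyConstructible_compl' h2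
  have h4 := setOf_universallyInjective_eq f g
  rw [← h4] at h3
  exact h3

end Groth.Agent.S3444
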