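import Groth.Statements.S8754
import Mathlib

set_option autoImplicit false
universe u
open CategoryTheory Limits
open Adeq

namespace Groth.Agent.S8754

universe u₁

section Sep
variable {C : Type u₁} [Category.{u} C] (R : Cᵒᵖ ⥤ RingCat.{u})

/-- transition map of the "free on representable" presheaf -/
noncomputable def tr (X : Cᵒᵖ) {Y Z : Cᵒᵖ} (f : Y ⟶ Z) :
    (ULift.{u+1} (X ⟶ Y) →₀ R.obj Y) →+ (ULift.{u+1} (X ⟶ Z) →₀ R.obj Z) :=
  Finsupp.liftAddHom (fun g =>
    (Finsupp.singleAddHom (⟨g.down ≫ f⟩ : ULift.{u+1} (X ⟶ Z))).comp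
      (R.map f).hom.toAddMonoidHom)

lemma tr_single (X : Cᵒᵖ) {Y Z : Cᵒᵖ} (f : Y ⟶ Z) (g : ULift.{u+1} (X ⟶ Y)) (r : R.obj Y) :
    tr R X f (Finsupp.single g r) = Finsupp.single (⟨g.down ≫ f⟩ : ULift.{u+1} (X ⟶ Z))
      ((R.map f).hom r) := by
  unfold tr
  rw [Finsupp.liftAddHom_apply_single]
  rfl

/-- the underlying abelian presheaf -/
noncomputable def hAb (X : Cᵒᵖ) : Cᵒᵖ ⥤ Ab.{u+1} where
  obj Y := AddCommGrpCat.of (ULift.{u+1} (X ⟶ Y) →₀ R.obj Y)
  map {Y Z} f := AddCommGrpCat.ofHom (tr R X f)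
  map_id Y := by
    apply AddCommGrpCat.hom_ext
    apply Finsupp.addHom_ext
    intro g r
    change tr R X (𝟙 Y) (Finsupp.single g r) = Finsupp.single g r
    rw [tr_single]
    simp
  map_comp {Y Z W} f f' := by
    apply AddCommGrpCat.hom_ext
    apply Finsupp.addHom_ext
    intro g r
    change tr R X (f ≫ f') (Finsupp.single g r) = tr R X f' (tr R X f (Finsupp.single g r))
    rw [tr_single, tr_single, tr_single]
    simp

noncomputable instance hAbModule (X Y : Cᵒᵖ) : Module (R.obj Y) ((hAb R X).obj Y) :=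
  inferInstanceAs (Module (R.obj Y) (ULift.{u+1} (X ⟶ Y) →₀ R.obj Y))

lemma tr_smul (X : Cᵒᵖ) {Y Z : Cᵒᵖ} (f : Y ⟶ Z) (r : R.obj Y)
    (m : ULift.{u+1} (X ⟶ Y) →₀ R.obj Y) :
    tr R X f (r • m) = (R.map f).hom r • tr R X f m := by
  induction m using Finsupp.induction_linear with
  | zero => simp
  | add a b ha hb => rw [smul_add, map_add, map_add, ha, hb, smul_add]
  | single g s =>
    rw [Finsupp.smul_single, tr_single, tr_single, Finsupp.smul_single, smul_eq_mul, smul_eq_mul,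
      map_mul]

lemma hAb_map_smul (X : Cᵒᵖ) ⦃Y Z : Cᵒᵖ⦄ (f : Y ⟶ Z) (r : R.obj Y) (m : (hAb R X).obj Y) :
    (hAb R X).map f (r • m) = (R.map f) r • (hAb R X).map f m :=
  tr_smul R X f r m

/-- the "free on representable" presheaf of modules, one universe up -/
noncomputable def hX (X : Cᵒᵖ) : PresheafOfModules.{u+1} R :=
  PresheafOfModules.ofPresheaf (hAb R X) (hAb_map_smul R X)


variable {R}

lemma rs_comp (M : PresheafOfModules.{u+1} R) {X Y Z : Cᵒᵖ} (g : X ⟶ Y) (f : Y ⟶ Z)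
    (m : M.obj X) : M.restrictₛₗ (g ≫ f) m = M.restrictₛₗ f (M.restrictₛₗ g m) :=
  M.map_comp_apply g f m

lemma rs_id (M : PresheafOfModules.{u+1} R) (X : Cᵒᵖ) (m : M.obj X) :
    M.restrictₛₗ (𝟙 X) m = m := by
  have := congrArg (fun t => t.hom m) (M.presheaf.map_id X)
  exact this

/-- additive map evaluating at `m` -/
noncomputable def ev (X : Cᵒᵖ) (M : PresheafOfModules.{u+1} R) (m : M.obj X) (Y : Cᵒᵖ) :
    (ULift.{u+1} (X ⟶ Y) →₀ R.obj Y) →+ M.obj Y :=
  Finsupp.liftAddHom (fun g =>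
    { toFun := fun r => r • M.restrictₛₗ g.down m
      map_zero' := zero_smul _ _
      map_add' := fun a b => add_smul _ _ _ })

lemma ev_single (X : Cᵒᵖ) (M : PresheafOfModules.{u+1} R) (m : M.obj X) (Y : Cᵒᵖ)
    (g : ULift.{u+1} (X ⟶ Y)) (r : R.obj Y) :
    ev X M m Y (Finsupp.single g r) = r • M.restrictₛₗ g.down m := by
  unfold ev
  rw [Finsupp.liftAddHom_apply_single]
  rfl

lemma ev_smul (X : Cᵒᵖ) (M : PresheafOfModules.{u+1} R) (m : M.obj X) (Y : Cᵒᵖ)
    (r : R.obj Y) (x : ULift.{u+1} (X ⟶ Y) →₀ R.obj Y) :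
    ev X M m Y (r • x) = r • ev X M m Y x := by
  induction x using Finsupp.induction_linear with
  | zero => simp
  | add a b ha hb => rw [smul_add, map_add, map_add, ha, hb, smul_add]
  | single g s =>
    rw [Finsupp.smul_single, ev_single, ev_single, smul_eq_mul, mul_smul]

lemma ev_nat (X : Cᵒᵖ) (M : PresheafOfModules.{u+1} R) (m : M.obj X) {Y Z : Cᵒᵖ} (f : Y ⟶ Z)
    (x : ULift.{u+1} (X ⟶ Y) →₀ R.obj Y) :
    ev X M m Z (tr R X f x) = M.restrictₛₗ f (ev X M m Y x) := by
  induction x using Finsupp.induction_linear with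
  | zero =>
    rw [map_zero, map_zero, map_zero]
    exact (map_zero (M.restrictₛₗ f)).symm
  | add a b ha hb => rw [map_add, map_add, map_add, ha, hb, map_add]
  | single g s =>
    rw [tr_single, ev_single, ev_single, map_smulₛₗ, rs_comp]

/-- the morphism `hX X ⟶ M` attached to `m : M.obj X` -/
noncomputable def evHom (X : Cᵒᵖ) (M : PresheafOfModules.{u+1} R) (m : M.obj X) :
    hX R X ⟶ M :=
  PresheafOfModules.homMk
    { app := fun Y => AddCommGrpCat.ofHom (ev X M m Y)
      naturality := fun Y Z f => by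
        apply AddCommGrpCat.hom_ext
        apply AddMonoidHom.ext
        intro x
        exact ev_nat X M m f x }
    (fun Y r x => ev_smul X M m Y r x)

lemma evHom_app (X : Cᵒᵖ) (M : PresheafOfModules.{u+1} R) (m : M.obj X) :
    (evHom X M m).app X (Finsupp.single (⟨𝟙 X⟩ : ULift.{u+1} (X ⟶ X)) (1 : R.obj X)) = m := by
  change ev X M m X (Finsupp.single (⟨𝟙 X⟩ : ULift.{u+1} (X ⟶ X)) (1 : R.obj X)) = m
  rw [ev_single, one_smul]
  exact rs_id M X m

variable (R) in
lemma hX_isSeparating : ObjectProperty.IsSeparating (ObjectProperty.ofObj (hX R)) := by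
  intro M N f₁ f₂ h
  ext X m
  have h1 := h _ ⟨X⟩ (evHom X M m)
  have h2 := congrArg (fun t => t.app X
    (Finsupp.single (⟨𝟙 X⟩ : ULift.{u+1} (X ⟶ X)) (1 : R.obj X))) h1
  simp only [PresheafOfModules.comp_app, ModuleCat.comp_apply] at h2
  rw [evHom_app] at h2
  exact h2

end Sep


section GA
variable {C : Type (u+1)} [Category.{u} C] (R : Cᵒᵖ ⥤ RingCat.{u})

instance hasSep : HasSeparator (PresheafOfModules.{u+1} R) :=
  ⟨_, (hX_isSeparating R).isSeparator_coproduct⟩

instance ab5 : AB5OfSize.{u+1, u+1} (PresheafOfModules.{u+1} R) where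
  ofShape J _ _ :=
    HasExactColimitsOfShape.domain_of_functor J (PresheafOfModules.toPresheaf.{u+1} R)

instance isGA : IsGrothendieckAbelian.{u+1} (PresheafOfModules.{u+1} R) where

end GA



/-- The category of module-valued functors on `A`-algebras has enough injectives (it is a category of
presheaves of modules). -/
theorem result (A : Type u) [CommRing A] : EnoughInjectives (Adeq.MVF A) := by
  exact (inferInstance : EnoughInjectives (PresheafOfModules.{u+1} (Adeq.ringOf A)))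


end Groth.Agent.S8754
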