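import Groth.Statements.S8784
import Mathlib

set_option autoImplicit false
universe u
open CategoryTheory Limits AlgebraicGeometry
open Adeq

namespace Groth.Agent.S8784


section
universe v₁ v₂ u₁ u₂
variable {C : Type u₂} [Category.{v₂} C] {J : GrothendieckTopology C} (R : Sheaf J RingCat.{u₁})
  [HasSheafify J AddCommGrpCat.{v₁}] [J.WEqualsLocallyBijective AddCommGrpCat.{v₁}]

theorem toSheaf_preservesFiniteColimits :
    PreservesFiniteColimits (SheafOfModules.toSheaf.{v₁} R) := by
  refine ⟨fun K _ _ => ⟨fun {F} => ?_⟩⟩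
  let L := PresheafOfModules.sheafification.{v₁} (𝟙 R.obj)
  let adj := PresheafOfModules.sheafificationAdjunction.{v₁} (𝟙 R.obj)
  let e : F ≅ (F ⋙ SheafOfModules.forget R) ⋙ L :=
    Functor.isoWhiskerLeft F (asIso adj.counit).symm
  let H := F ⋙ SheafOfModules.forget R
  have hL : PreservesColimit H L := by
    haveI := adj.leftAdjoint_preservesColimits
    infer_instance
  have hLG : PreservesColimit H (L ⋙ SheafOfModules.toSheaf R) := by
    have : PreservesColimit H
        (PresheafOfModules.toPresheaf R.obj ⋙ presheafToSheaf J AddCommGrpCat.{v₁}) := by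
      infer_instance
    exact preservesColimit_of_natIso H
      (PresheafOfModules.sheafificationCompToSheaf.{v₁} (𝟙 R.obj)).symm
  have h1 : PreservesColimit (H ⋙ L) (SheafOfModules.toSheaf R) := by
    refine preservesColimit_of_preserves_colimit_cocone
      (isColimitOfPreserves L (colimit.isColimit H)) ?_
    exact IsColimit.ofIsoColimit
      (isColimitOfPreserves (L ⋙ SheafOfModules.toSheaf R) (colimit.isColimit H))
      (Cocone.ext (Iso.refl _) (fun j => by simp))
  exact preservesColimit_of_iso_diagram _ e.symm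

end

section
universe v' u' w
variable {C : Type u'} [Category.{v'} C] {J : GrothendieckTopology C}
  [HasSheafify J AddCommGrpCat.{w}]

/-- left exactness of sections -/
lemma sections_leftExact (A : ShortComplex (Sheaf J AddCommGrpCat.{w})) (hA : A.ShortExact)
    (U : Cᵒᵖ) (y : A.X₂.obj.obj U) (hy : A.g.hom.app U y = 0) :
    ∃ x : A.X₁.obj.obj U, A.f.hom.app U x = y := by
  let F : Sheaf J AddCommGrpCat.{w} ⥤ AddCommGrpCat.{w} :=
    sheafToPresheaf J AddCommGrpCat.{w} ⋙ (evaluation _ _).obj U
  have hF : PreservesFiniteLimits F := inferInstance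
  have key : ∀ (S : ShortComplex (Sheaf J AddCommGrpCat.{w})), S.ShortExact →
      (S.map F).Exact ∧ Mono (F.map S.f) :=
    ((Functor.preservesFiniteLimits_tfae F).out 3 0).1 hF
  have h := (key A hA).1
  rw [ShortComplex.ab_exact_iff] at h
  exact h y hy

lemma injective_of_mono {A B : Sheaf J AddCommGrpCat.{w}} (f : A ⟶ B) [Mono f] (U : Cᵒᵖ) :
    Function.Injective (f.hom.app U) := by
  have h1 : Mono ((sheafToPresheaf J AddCommGrpCat.{w}).map f) := inferInstance
  have h2 : Mono (((sheafToPresheaf J AddCommGrpCat.{w}).map f).app U) := inferInstance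
  exact (AddCommGrpCat.mono_iff_injective _).1 h2

variable [J.WEqualsLocallyBijective AddCommGrpCat.{w}]
  [J.HasSheafCompose (forget AddCommGrpCat.{w})]

/-- local lifting for an exact sequence of abelian sheaves -/
lemma exists_cover_lift (A : ShortComplex (Sheaf J AddCommGrpCat.{w})) (hA : A.Exact)
    (U : C) (y : A.X₂.obj.obj (Opposite.op U)) (hy : A.g.hom.app _ y = 0) :
    ∃ T ∈ J U, ∀ ⦃V : C⦄ (h : V ⟶ U), T h →
      ∃ t : A.X₁.obj.obj (Opposite.op V), A.f.hom.app _ t = A.X₂.obj.map h.op y := by
  -- the short exact sequence `0 → ker g → X₂ → im g → 0`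
  let K : ShortComplex (Sheaf J AddCommGrpCat.{w}) :=
    ShortComplex.mk (kernel.ι A.g) (Abelian.factorThruImage A.g) (by
      rw [← cancel_mono (Abelian.image.ι A.g), Category.assoc, Abelian.image.fac, kernel.condition,
        zero_comp])
  have hK : K.ShortExact := by
    let φ : K ⟶ ShortComplex.mk (kernel.ι A.g) A.g (kernel.condition _) :=
      { τ₁ := 𝟙 _, τ₂ := 𝟙 _, τ₃ := Abelian.image.ι A.g
        comm₁₂ := by simp [K]
        comm₂₃ := by simp [K] }
    haveI : Epi φ.τ₁ := by dsimp [φ]; infer_instance
    haveI : IsIso φ.τ₂ := by dsimp [φ]; infer_instance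
    haveI : Mono φ.τ₃ := by dsimp [φ]; infer_instance
    have hex : K.Exact := (ShortComplex.exact_iff_of_epi_of_isIso_of_mono φ).2
      (ShortComplex.exact_of_f_is_kernel _ (kernelIsKernel A.g))
    haveI : Mono K.f := by dsimp [K]; infer_instance
    haveI : Epi K.g := by dsimp [K]; infer_instance
    exact ShortComplex.ShortExact.mk hex
  have hy' : K.g.hom.app _ y = 0 := by
    apply injective_of_mono (Abelian.image.ι A.g)
    rw [map_zero]
    have : (Abelian.factorThruImage A.g ≫ Abelian.image.ι A.g) = A.g := Abelian.image.fac _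
    have h2 := congrArg (fun φ => φ.hom.app (Opposite.op U) y) this
    exact h2.trans hy
  obtain ⟨k, hk⟩ := sections_leftExact K hK _ y hy'
  -- `X₁ → ker g` is an epimorphism
  have hepi : Epi (kernel.lift A.g A.f A.zero) := hA.epi_kernelLift
  have hls : Sheaf.IsLocallySurjective (kernel.lift A.g A.f A.zero) :=
    (Sheaf.isLocallySurjective_iff_epi' _ _).2 hepi
  refine ⟨_, Presheaf.imageSieve_mem J (kernel.lift A.g A.f A.zero).hom k, ?_⟩
  intro V h ⟨t, ht⟩
  refine ⟨t, ?_⟩
  have e1 : kernel.lift A.g A.f A.zero ≫ kernel.ι A.g = A.f := kernel.lift_ι _ _ _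
  have e2 := congrArg (fun φ => φ.hom.app (Opposite.op V) t) e1
  refine e2.symm.trans ?_
  change (kernel.ι A.g).hom.app _ ((kernel.lift A.g A.f A.zero).hom.app _ t) = _
  rw [ht, ← hk]
  exact congr($((kernel.ι A.g).hom.naturality h.op) k)

end

theorem fppf_hasIsos : Scheme.fppfPrecoverage.{u}.HasIsos where
  mem_coverings_of_isIso f _ := by
    unfold Scheme.fppfPrecoverage
    rw [Scheme.singleton_mem_precoverage_iff]
    exact ⟨f.surjective, inferInstance, inferInstance⟩

set_option backward.isDefEq.respectTransparency.types false in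
theorem fppf_hasPullbacks : Scheme.fppfPrecoverage.{u}.HasPullbacks := by
  unfold Scheme.fppfPrecoverage; infer_instance

section
variable (S : Scheme.{u})

theorem result' (C : ShortComplex (BigSite.Mod Scheme.fppfPrecoverage S))
    (hC : C.Exact)
    (p₁ : Adeq.parasitic Scheme.fppfPrecoverage S C.X₁)
    (p₃ : Adeq.parasitic Scheme.fppfPrecoverage S C.X₃) :
    Adeq.parasitic Scheme.fppfPrecoverage S C.X₂ := by
  intro U hU
  let R := BigSite.ORing Scheme.fppfPrecoverage S
  let F := SheafOfModules.toSheaf R
  haveI := toSheaf_preservesFiniteColimits.{u + 1} R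
  have hex : (C.map F).Exact := hC.map F
  suffices h0 : ∀ y : ((F.obj C.X₂).obj.obj (Opposite.op U)), y = 0 from
    ⟨fun a b => (h0 a).trans (h0 b).symm⟩
  intro y
  have hy : (C.map F).g.hom.app _ y = 0 := by
    haveI : Subsingleton (BigSite.sectMod Scheme.fppfPrecoverage C.X₃ U) := p₃ U hU
    exact Subsingleton.elim (α := BigSite.sectMod Scheme.fppfPrecoverage C.X₃ U) _ _
  obtain ⟨T, hT, hlift⟩ := exists_cover_lift (C.map F) hex U y hy
  -- the sieve where `y` vanishes
  let T' : Sieve U :=
    { arrows := fun V h => (F.obj C.X₂).obj.map h.op y = 0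
      downward_closed := by
        intro V W h hh k
        change (F.obj C.X₂).obj.map (k ≫ h).op y = 0
        rw [op_comp, Functor.map_comp]
        change (F.obj C.X₂).obj.map k.op ((F.obj C.X₂).obj.map h.op y) = 0
        rw [hh, map_zero] }
  have hT' : T' ∈ QuotSh.J Scheme.fppfPrecoverage S U := by
    rw [GrothendieckTopology.mem_over_iff] at hT ⊢
    haveI : Scheme.fppfPrecoverage.{u}.HasIsos := fppf_hasIsos
    haveI : Scheme.fppfPrecoverage.{u}.HasPullbacks := fppf_hasPullbacks
    rw [Precoverage.mem_toGrothendieck_iff_of_isStableUnderComposition] at hT ⊢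
    obtain ⟨R', hR', hle⟩ := hT
    refine ⟨R', hR', ?_⟩
    intro W g hg
    have h1 : ((Sieve.overEquiv U) T).arrows g := hle W g hg
    rw [Sieve.overEquiv_iff] at h1 ⊢
    obtain ⟨t, ht⟩ := hlift _ h1
    have hflat : Flat g := (hR'.2 hg).1
    have hW : Flat (Over.mk (g ≫ U.hom)).hom := by
      haveI := hflat
      haveI := hU
      change Flat (g ≫ U.hom)
      infer_instance
    haveI : Subsingleton (BigSite.sectMod Scheme.fppfPrecoverage C.X₁ (Over.mk (g ≫ U.hom))) :=
      p₁ _ hW
    have ht0 : t = 0 :=
      Subsingleton.elim (α := BigSite.sectMod Scheme.fppfPrecoverage C.X₁ (Over.mk (g ≫ U.hom))) _ _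
    rw [ht0, map_zero] at ht
    exact ht.symm
  exact ((F.obj C.X₂).property.isSeparated) U T' hT' y 0
    (fun W g hg => hg.trans (map_zero _).symm)

end



/-- The parasitic adequate `O`-modules form a Serre subcategory of the category of adequate `O`-modules
on the big fppf site of a scheme `S`; concretely, if `M₁ → M₂ → M₃` is a complex of adequate
`O`-modules, exact at `M₂` (exactness taken in the category of all `O`-modules, which agrees with
exactness among adequate modules), and `M₁`, `M₃` are parasitic, then `M₂` is parasitic. (The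
published statement also identifies the quotient by this Serre subcategory with the category of
quasi-coherent modules on `S`; that part is not included here.) -/
theorem result (S : Scheme.{u}) (C : ShortComplex (BigSite.Mod Scheme.fppfPrecoverage S))
    (hC : C.Exact) (h₁ : Adeq.adequateMod Scheme.fppfPrecoverage S C.X₁) (h₂ : Adeq.adequateMod Scheme.fppfPrecoverage S C.X₂)
    (h₃ : Adeq.adequateMod Scheme.fppfPrecoverage S C.X₃) (p₁ : Adeq.parasitic Scheme.fppfPrecoverage S C.X₁)
    (p₃ : Adeq.parasitic Scheme.fppfPrecoverage S C.X₃) :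
    Adeq.parasitic Scheme.fppfPrecoverage S C.X₂ := by
  exact Groth.Agent.S8784.result' S C hC p₁ p₃

end Groth.Agent.S8784
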