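import Groth.Statements.S1536
import Mathlib
import Groth.Agent.S0002
import Groth.Agent.Lib.Helper18.HHZero
import Groth.Agent.Lib.Helper16.CohFinite

set_option autoImplicit false
universe u
open CategoryTheory CategoryTheory.Limits AlgebraicGeometry
open Variety

namespace Groth.Agent.S1536




/-- a reduced Artinian ring with only trivial idempotents is a field -/
theorem isField_of_trivial_idempotents (B : Type u) [CommRing B] [IsArtinianRing B] [IsReduced B]
    [Nontrivial B] (hB : ∀ e : B, IsIdempotentElem e → e = 0 ∨ e = 1) : IsField B := by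
  classical
  have hsub : Subsingleton (MaximalSpectrum B) := by
    refine ⟨fun m m' => ?_⟩
    by_contra hne
    let E := IsArtinianRing.equivPi B
    let v : ∀ I : MaximalSpectrum B, B ⧸ I.asIdeal := Pi.single m 1
    have hv : IsIdempotentElem v := by
      show v * v = v
      funext I
      by_cases hI : I = m
      · subst hI; simp [v]
      · simp [v, Pi.single_eq_of_ne hI]
    have he : IsIdempotentElem (E.symm v) := by
      show E.symm v * E.symm v = E.symm v
      rw [← map_mul, hv.eq]
    haveI : Nontrivial (B ⧸ m.asIdeal) := Ideal.Quotient.nontrivial_iff.mpr m.isMaximal.ne_top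
    haveI : Nontrivial (B ⧸ m'.asIdeal) := Ideal.Quotient.nontrivial_iff.mpr m'.isMaximal.ne_top
    rcases hB _ he with h0 | h1
    · have : v = 0 := by
        have := congrArg E h0
        rwa [AlgEquiv.apply_symm_apply, map_zero] at this
      have := congrFun this m
      simp [v] at this
    · have : v = 1 := by
        have := congrArg E h1
        rwa [AlgEquiv.apply_symm_apply, map_one] at this
      have := congrFun this m'
      simp [v, Pi.single_eq_of_ne (Ne.symm hne)] at this
  obtain ⟨m, hm⟩ := Ideal.exists_maximal B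
  haveI : IsLocalRing B := IsLocalRing.of_unique_max_ideal
    ⟨m, hm, fun m' hm' => congrArg MaximalSpectrum.asIdeal
      (hsub.elim (⟨m', hm'⟩ : MaximalSpectrum B) ⟨m, hm⟩)⟩
  exact IsArtinianRing.isField_of_isReduced_of_isLocalRing B

open TensorProduct in
theorem finrank_eq_one_of_baseChange (k : Type u) [Field k] (K : Type u) [Field K] [Algebra k K]
    [IsAlgClosed K] (A : Type u) [CommRing A] [Algebra k A] [Module.Finite k A]
    (B : Type u) [CommRing B] [Algebra K B] [IsReduced B] [Nontrivial B]
    (e : B ≃ₗ[K] K ⊗[k] A)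
    (hB : ∀ e : B, IsIdempotentElem e → e = 0 ∨ e = 1) : Module.finrank k A = 1 := by
  haveI : Module.Finite K B := Module.Finite.equiv e.symm
  haveI : IsArtinianRing B := IsArtinianRing.of_finite K B
  have hF := isField_of_trivial_idempotents B hB
  letI := hF.toField
  haveI : Algebra.IsIntegral K B := Algebra.IsIntegral.of_finite K B
  have hbij : Function.Bijective (algebraMap K B) :=
    IsAlgClosed.algebraMap_bijective_of_isIntegral
  have h1 : Module.finrank K B = 1 := by
    have := (LinearEquiv.ofBijective (Algebra.linearMap K B) hbij).finrank_eq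
    rw [Module.finrank_self] at this
    exact this.symm
  rw [e.finrank_eq, Module.finrank_baseChange] at h1
  exact h1



/-- global idempotents of a connected reduced scheme are trivial -/
theorem idem_trivial (Y : Scheme.{u}) [ConnectedSpace Y] [IsReduced Y] (e : Γ(Y, ⊤))
    (he : IsIdempotentElem e) : e = 0 ∨ e = 1 := by
  have h1 : Y.basicOpen e ⊓ Y.basicOpen (1 - e) = ⊥ := by
    rw [← Scheme.basicOpen_mul, mul_sub, mul_one, he.eq, sub_self, Scheme.basicOpen_zero]
  have h2 : ∀ y : Y, y ∈ Y.basicOpen e ∨ y ∈ Y.basicOpen (1 - e) := by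
    intro y
    have : IsUnit (Y.presheaf.germ ⊤ y trivial e) ∨
        IsUnit (Y.presheaf.germ ⊤ y trivial (1 - e)) := by
      apply IsLocalRing.isUnit_or_isUnit_of_add_one
      rw [← map_add, add_sub_cancel, map_one]
    rcases this with h | h
    · exact Or.inl ((Y.mem_basicOpen_top e y).mpr h)
    · exact Or.inr ((Y.mem_basicOpen_top (1 - e) y).mpr h)
  have hcompl : ((Y.basicOpen e : Set Y))ᶜ = (Y.basicOpen (1 - e) : Set Y) := by
    ext y
    constructor
    · intro hy
      rcases h2 y with h | h
      · exact absurd h hy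
      · exact h
    · intro hy hy'
      have : y ∈ Y.basicOpen e ⊓ Y.basicOpen (1 - e) := ⟨hy', hy⟩
      rw [h1] at this
      exact this
  have hclopen : IsClopen (Y.basicOpen e : Set Y) :=
    ⟨⟨by rw [hcompl]; exact (Y.basicOpen (1 - e)).isOpen⟩, (Y.basicOpen e).isOpen⟩
  rcases isClopen_iff.mp hclopen with h | h
  · left
    apply (AlgebraicGeometry.basicOpen_eq_bot_iff e).mp
    ext y
    simp [h]
  · right
    have : Y.basicOpen (1 - e) = ⊥ := by
      ext y
      rw [← hcompl, h]
      simp
    have := (AlgebraicGeometry.basicOpen_eq_bot_iff (1 - e)).mp this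
    exact (sub_eq_zero.mp this).symm



section
variable (k : Type u) [Field k] (K : Type u) [Field K] [Algebra k K]
  (X : Scheme.{u}) (iX : X ⟶ Spec (CommRingCat.of k)) [QuasiCompact iX] [QuasiSeparated iX]

/-- the structure map `k → Γ(X, ⊤)` -/
noncomputable def glob {A : Type u} [CommRing A] {X : Scheme.{u}} (f : X ⟶ Spec (CommRingCat.of A)) :
    CommRingCat.of A ⟶ Γ(X, ⊤) :=
  (Scheme.ΓSpecIso (CommRingCat.of A)).inv ≫ f.appTop

/-- flat base change of global sections, as a pushout square of rings -/
theorem isPushout_glob :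
    IsPushout (glob iX) (CommRingCat.ofHom (algebraMap k K))
      (pullback.fst iX (Spec.map (CommRingCat.ofHom (algebraMap k K)))).appTop
      (glob (pullback.snd iX (Spec.map (CommRingCat.ofHom (algebraMap k K))))) := by
  set f := Spec.map (CommRingCat.ofHom (algebraMap k K)) with hf
  have H : IsPullback (pullback.fst iX f) (pullback.snd iX f) iX f := IsPullback.of_hasPullback iX f
  haveI : Flat f := by
    rw [hf, Flat.SpecMap_iff]
    exact RingHom.Flat.of_isField (Field.toIsField k) _
  haveI : CompactSpace X := (quasiCompact_iff_compactSpace iX).mp inferInstance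
  haveI : QuasiSeparatedSpace X := (quasiSeparated_iff_quasiSeparatedSpace iX).mp inferInstance
  have hiso := isIso_pushoutSection_of_isQuasiSeparated_of_flat_right H
    (US := ⊤) (UT := ⊤) (UX := ⊤) (UY := ⊤) le_top le_top (by simp)
    (isAffineOpen_top _) (isAffineOpen_top _) (isCompact_univ) (isQuasiSeparated_univ)
  have hpo := (isIso_pushoutSection_iff H (US := ⊤) (UT := ⊤) (UX := ⊤) (UY := ⊤)
    le_top le_top (by simp)).mp hiso
  have happ : ∀ {P Q : Scheme.{u}} (h : P ⟶ Q) (e : (⊤ : P.Opens) ≤ h ⁻¹ᵁ ⊤),
      h.appLE ⊤ ⊤ e = h.appTop := by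
    intro P Q h e
    exact (Scheme.Hom.app_eq_appLE h).symm
  refine hpo.of_iso (Scheme.ΓSpecIso (CommRingCat.of k)) (Iso.refl _)
    (Scheme.ΓSpecIso (CommRingCat.of K)) (Iso.refl _) ?_ ?_ ?_ ?_
  · rw [happ, glob, Iso.hom_inv_id_assoc]; simp
  · rw [happ, hf]; exact Scheme.ΓSpecIso_naturality _
  · rw [happ]; simp
  · rw [happ, glob, Iso.hom_inv_id_assoc]; simp

open TensorProduct in
theorem exists_equiv :
    letI : Algebra k Γ(X, ⊤) := (glob iX).hom.toAlgebra
    letI : Algebra K Γ(pullback iX (Spec.map (CommRingCat.ofHom (algebraMap k K))), ⊤) :=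
      (glob (pullback.snd iX (Spec.map (CommRingCat.ofHom (algebraMap k K))))).hom.toAlgebra
    Nonempty (Γ(pullback iX (Spec.map (CommRingCat.ofHom (algebraMap k K))), ⊤) ≃ₗ[K]
      K ⊗[k] Γ(X, ⊤)) := by
  have hpo := isPushout_glob k K X iX
  letI : Algebra k Γ(X, ⊤) := (glob iX).hom.toAlgebra
  letI : Algebra K Γ(pullback iX (Spec.map (CommRingCat.ofHom (algebraMap k K))), ⊤) :=
      (glob (pullback.snd iX (Spec.map (CommRingCat.ofHom (algebraMap k K))))).hom.toAlgebra
  letI : Algebra Γ(X, ⊤) Γ(pullback iX (Spec.map (CommRingCat.ofHom (algebraMap k K))), ⊤) :=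
    (pullback.fst iX (Spec.map (CommRingCat.ofHom (algebraMap k K)))).appTop.hom.toAlgebra
  letI : Algebra k Γ(pullback iX (Spec.map (CommRingCat.ofHom (algebraMap k K))), ⊤) :=
    ((algebraMap K Γ(pullback iX (Spec.map (CommRingCat.ofHom (algebraMap k K))), ⊤)).comp
      (algebraMap k K)).toAlgebra
  haveI : IsScalarTower k K Γ(pullback iX (Spec.map (CommRingCat.ofHom (algebraMap k K))), ⊤) :=
    IsScalarTower.of_algebraMap_eq (fun _ => rfl)
  haveI : IsScalarTower k Γ(X, ⊤)
      Γ(pullback iX (Spec.map (CommRingCat.ofHom (algebraMap k K))), ⊤) :=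
    IsScalarTower.of_algebraMap_eq (fun x => by
      have := congrArg (fun φ => φ.hom x) hpo.w
      exact this.symm)
  have hP : Algebra.IsPushout k Γ(X, ⊤) K
      Γ(pullback iX (Spec.map (CommRingCat.ofHom (algebraMap k K))), ⊤) :=
    CommRingCat.isPushout_iff_isPushout.mp hpo
  haveI := hP.symm
  exact ⟨(Algebra.IsPushout.equiv k K Γ(X, ⊤)
    Γ(pullback iX (Spec.map (CommRingCat.ofHom (algebraMap k K))), ⊤)).symm.toLinearEquiv⟩

end


theorem result' (k : Type u) [Field k] (X : Scheme.{u}) [X.Over (Spec (CommRingCat.of k))] [IsProper (X ↘ (Spec (CommRingCat.of k)))]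
    [GeometricallyReduced (X ↘ (Spec (CommRingCat.of k)))] [GeometricallyConnected (X ↘ (Spec (CommRingCat.of k)))] :
    Module.finrank k (Coh.HH X (Coh.structureModule X) 0) = 1 := by
  let K := AlgebraicClosure k
  let iX := X ↘ Spec (CommRingCat.of k)
  let f := Spec.map (CommRingCat.ofHom (algebraMap k K))
  have H : IsPullback (pullback.fst iX f) (pullback.snd iX f) iX f := IsPullback.of_hasPullback iX f
  haveI : IsReduced (pullback iX f) :=
    GeometricallyReduced.geometrically_isReduced (f := iX) f (pullback.fst iX f) (pullback.snd iX f) H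
  haveI : ConnectedSpace ↥(pullback iX f : Scheme.{u}) :=
    GeometricallyConnected.geometrically_connectedSpace (f := iX) f (pullback.fst iX f)
      (pullback.snd iX f) H
  letI : Algebra k Γ(X, ⊤) := (glob iX).hom.toAlgebra
  letI : Algebra K Γ(pullback iX f, ⊤) := (glob (pullback.snd iX f)).hom.toAlgebra
  obtain ⟨e⟩ := exists_equiv k K X iX
  have hcoh : Coh.IsCoh (Coh.structureModule X) :=
    Groth.Agent.Lib.helper16.CohFinite.isCoh_of_finite_sections (Coh.structureModule X)
      (fun U : X.affineOpens => U.1) (fun U => U.2) (iSup_affineOpens_eq_top X)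
      (fun U => inferInstanceAs (Module.Finite Γ(X, U.1) Γ(X, U.1)))
  haveI hfin : Module.Finite k (Coh.HH X (Coh.structureModule X) 0) :=
    Groth.Agent.S0002.result k X _ hcoh 0
  letI := Groth.Agent.Lib.Helper18.HH.sectionsModuleOver k (Coh.structureModule X)
  let e₁ := Groth.Agent.Lib.Helper18.HH.equiv₀Over k (Coh.structureModule X)
  let e₂ : (Coh.structureModule X).val.obj (Opposite.op ⊤) ≃ₗ[k] Γ(X, ⊤) :=
    { toFun := fun x => x
      invFun := fun x => x
      left_inv := fun _ => rfl
      right_inv := fun _ => rfl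
      map_add' := fun _ _ => rfl
      map_smul' := fun a x => rfl }
  let e₀ : Coh.HH X (Coh.structureModule X) 0 ≃ₗ[k] Γ(X, ⊤) := e₁.trans e₂
  haveI : Module.Finite k Γ(X, ⊤) := Module.Finite.equiv e₀
  haveI : Nontrivial Γ(pullback iX f, ⊤) := by
    haveI : Nonempty (⊤ : (pullback iX f).Opens) := by
      obtain ⟨y⟩ := (inferInstance : Nonempty ↥(pullback iX f : Scheme.{u}))
      exact ⟨⟨y, trivial⟩⟩
    exact Scheme.component_nontrivial _ ⊤
  rw [e₀.finrank_eq]
  exact finrank_eq_one_of_baseChange k K Γ(X, ⊤) Γ(pullback iX f, ⊤) e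
    (idem_trivial (pullback iX f))



/-- For a proper scheme X over a field k which is geometrically reduced and geometrically connected,
H^0(X, O_X) is one-dimensional over k, i.e. the global functions are the constants. -/
theorem result (k : Type u) [Field k] (X : Scheme.{u}) [X.Over (Spec (CommRingCat.of k))] [IsProper (X ↘ (Spec (CommRingCat.of k)))]
    [GeometricallyReduced (X ↘ (Spec (CommRingCat.of k)))] [GeometricallyConnected (X ↘ (Spec (CommRingCat.of k)))] :
    Module.finrank k (Coh.HH X (Coh.structureModule X) 0) = 1 := by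
  exact Groth.Agent.S1536.result' k X

end Groth.Agent.S1536
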