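import Groth.Statements.S18498
import Mathlib

set_option autoImplicit false
universe u
open CategoryTheory CategoryTheory.Limits AlgebraicGeometry MonObj
open Neron

namespace Groth.Agent.S18498


/-- two morphisms over a base into a separated object agreeing on a scheme-theoretically dominant
morphism are equal -/
lemma ext_of_schDominant {S : Scheme.{u}} {X Y : Over S} [IsSeparated Y.hom] (f g : X ⟶ Y)
    {W : Scheme.{u}} (w : W ⟶ X.left) [IsSchemeTheoreticallyDominant w]
    (hU : w ≫ f.left = w ≫ g.left) : f = g := by
  let W' : Over S := Over.mk (w ≫ X.hom)
  let w' : W' ⟶ X := Over.homMk w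
  have hw' : w' ≫ f = w' ≫ g := by ext1; exact hU
  have hfac : (equalizer.lift w' hw').left ≫ (equalizer.ι f g).left = w := by
    rw [← Over.comp_left, equalizer.lift_ι]; rfl
  have hker : (equalizer.ι f g).left.ker = ⊥ := by
    rw [eq_bot_iff, ← IsSchemeTheoreticallyDominant.ker_eq_bot w, ← hfac]
    exact Scheme.Hom.le_ker_comp _ _
  have hiso : IsIso (equalizer.ι f g).left := IsClosedImmersion.isIso_iff_ker_eq_bot.mpr hker
  ext1
  rw [← cancel_epi (equalizer.ι f g).left]
  exact congr($(equalizer.condition f g).left)

lemma schDominant_genPt (R : Type u) [CommRing R] [IsDomain R] :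
    IsSchemeTheoreticallyDominant (Neron.genPt R) := by
  haveI : IsDominant (Neron.genPt R) := by
    rw [isDominant_iff]
    have : DenseRange (PrimeSpectrum.comap (algebraMap R (FractionRing R))) := by
      rw [PrimeSpectrum.denseRange_comap_iff_ker_le_nilRadical]
      rw [(RingHom.injective_iff_ker_eq_bot _).mp (IsFractionRing.injective R (FractionRing R))]
      exact bot_le
    exact this
  haveI : IsReduced (Spec (CommRingCat.of R)) := inferInstance
  exact IsSchemeTheoreticallyDominant.of_isDominant _

theorem result' (R : Type u) [CommRing R] [IsDedekindDomain R]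
    (X Y : Over (Spec (CommRingCat.of R))) [Flat X.hom] [IsSeparated Y.hom] (f g : X ⟶ Y)
    (h : (Neron.genericFibre R).map f = (Neron.genericFibre R).map g) : f = g := by
  haveI := schDominant_genPt R
  haveI : QuasiCompact (Neron.genPt R) := inferInstance
  haveI : IsSchemeTheoreticallyDominant (pullback.fst X.hom (Neron.genPt R)) := inferInstance
  apply ext_of_schDominant f g (pullback.fst X.hom (Neron.genPt R))
  have h1 := congrArg (fun k => k.left ≫ pullback.fst _ _) h
  have e : ∀ k : X ⟶ Y, ((Neron.genericFibre R).map k).left ≫ pullback.fst Y.hom (Neron.genPt R) =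
      pullback.fst X.hom (Neron.genPt R) ≫ k.left := fun k => pullback.lift_fst _ _ _
  rw [e, e] at h1
  exact h1



/-- Let R be a Dedekind domain with fraction field K, X a Spec R-scheme which is flat over Spec R, Y a
Spec R-scheme which is separated over Spec R, and f, g : X → Y two R-morphisms whose restrictions to
generic fibres X_K → Y_K are equal. Then f = g: an R-morphism from a flat R-scheme to a separated
R-scheme is determined by its generic fibre. (The source states this for algebraic spaces over a
connected Dedekind scheme; the case of schemes over an affine base is stated.) -/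
theorem result (R : Type u) [CommRing R] [IsDedekindDomain R]
    (X Y : Over (Spec (CommRingCat.of R))) [Flat X.hom] [IsSeparated Y.hom] (f g : X ⟶ Y)
    (h : (Neron.genericFibre R).map f = (Neron.genericFibre R).map g) : f = g := by
  exact Groth.Agent.S18498.result' R X Y f g h

end Groth.Agent.S18498
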