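import Groth.Statements.S1537
import Groth.Agent.Lib.Helper3.ResMap
import Groth.Agent.S4619

set_option autoImplicit false
universe u
open CategoryTheory CategoryTheory.Limits AlgebraicGeometry
open Variety

namespace Groth.Agent.S1537

/-- A connected k-scheme is geometrically connected as soon as it has a point whose residue field
contains no element integral over k other than the elements of k. -/
theorem result (k : Type u) [Field k] (X : Scheme.{u}) [X.Over (Spec (CommRingCat.of k))] [ConnectedSpace X]
    (x : X) (hx : ∀ a : X.residueField x, (Curv2.resMap k X x).IsIntegralElem a → a ∈ (Curv2.resMap k X x).range) :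
    GeometricallyConnected (X ↘ (Spec (CommRingCat.of k))) := by
  refine Groth.Agent.S4619.result (X ↘ (Spec (CommRingCat.of k))) x
    ⟨Curv2.resMap k X x, Groth.Agent.Lib.helper3.ResMap.specMap_resMap k X x, ?_⟩
  let _ := (Curv2.resMap k X x).toAlgebra
  show separableClosure k (X.residueField x) = ⊥
  rw [eq_bot_iff]
  intro a ha
  have hsep : IsSeparable k a := mem_separableClosure_iff.mp ha
  have hint : IsIntegral k a := hsep.isIntegral
  obtain ⟨c, hc⟩ := hx a hint
  rw [IntermediateField.mem_bot]
  exact ⟨c, hc⟩

end Groth.Agent.S1537
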