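import Groth.Statements.S5342
import Mathlib
import Groth.Agent.Lib.Helper3.SecComp

set_option autoImplicit false
universe u
open CategoryTheory CategoryTheory.Limits MonoidalCategory CartesianMonoidalCategory MonObj GrpObj AlgebraicGeometry
open SGA3

namespace Groth.Agent.S5342

/-- Let X and Y be connected schemes over a field k such that X has a k-rational point (a section of X →
Spec k). Then X ×_k Y is connected. -/
theorem result (k : Type u) [Field k] (X Y : Scheme.{u})
    (f : X ⟶ Spec (CommRingCat.of k)) (g : Y ⟶ Spec (CommRingCat.of k)) [ConnectedSpace X] [ConnectedSpace Y]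
    (x : Spec (CommRingCat.of k) ⟶ X) (hx : x ≫ f = 𝟙 _) : ConnectedSpace ↥(pullback f g) := by
  have hgc : GeometricallyConnected f := by
    refine ⟨(geometrically_iff_of_isClosedUnderIsomorphisms (P := (ConnectedSpace ·)) (f := f)).mpr
      fun K _ y => ?_⟩
    obtain ⟨φ, rfl⟩ := Spec.map_surjective y
    algebraize [φ.hom]
    have h1 := Groth.Agent.Lib.helper3.SecComp.isConnected_preimage f x hx K
    have h2 : connectedComponent (x (IsLocalRing.closedPoint k)) = Set.univ :=
      PreconnectedSpace.connectedComponent_eq_univ _
    rw [h2, Set.preimage_univ] at h1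
    exact connectedSpace_iff_univ.mpr h1
  infer_instance

end Groth.Agent.S5342
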