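import Groth.Statements.S9381
import Mathlib
import Groth.Agent.Lib.Helper3.DimIneqStrict
import Groth.Agent.Lib.Helper3.DimIneqSch

set_option autoImplicit false
universe u
open FibDim

namespace Groth.Agent.S9381
open Groth.Agent.Lib.helper3.DimIneq AlgebraicGeometry CategoryTheory

open AlgebraicGeometry CategoryTheory in
/-- Let f : X → S be locally of finite type and x ⤳ x' a nontrivial specialization of points of X in the
same fibre (f x = f x'). Then trdeg_{κ(f x)} κ(x) > trdeg_{κ(f x')} κ(x'). -/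
theorem result {X S : Scheme.{u}} (f : X ⟶ S) [LocallyOfFiniteType f] (x x' : X)
    (hsp : x ⤳ x') (hne : x ≠ x') (hfx : f.base x = f.base x') :
    @Algebra.trdeg (S.residueField (f.base x')) (X.residueField x') _ _ (f.residueFieldMap x').hom.toAlgebra <
      @Algebra.trdeg (S.residueField (f.base x)) (X.residueField x) _ _ (f.residueFieldMap x).hom.toAlgebra := by
  obtain ⟨V, hV, hsV, -⟩ := exists_isAffineOpen_mem_and_subset (x := f.base x') (U := ⊤) trivial
  obtain ⟨U, hU, hxU', hUV⟩ := exists_isAffineOpen_mem_and_subset (x := x') (U := f ⁻¹ᵁ V) hsV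
  have hxU : x ∈ U := hsp.mem_open U.isOpen hxU'
  have hft : (f.appLE V U hUV).hom.FiniteType := LocallyOfFiniteType.finiteType_appLE f hV hU hUV
  have hle := (specializes_iff_primeIdealOf_le hU x x' hxU hxU').mp hsp
  have hneq : (hU.primeIdealOf ⟨x, hxU⟩).asIdeal ≠ (hU.primeIdealOf ⟨x', hxU'⟩).asIdeal := by
    intro heq
    have : x' ⤳ x := (specializes_iff_primeIdealOf_le hU x' x hxU' hxU).mpr (le_of_eq heq.symm)
    exact hne (hsp.antisymm this).eq
  have hI : ∀ (y : X) (hy : y ∈ U), (hU.primeIdealOf ⟨y, hy⟩).asIdeal.comap (f.appLE V U hUV).hom =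
      (hV.primeIdealOf ⟨f y, hUV hy⟩).asIdeal := by
    intro y hy
    have := IsAffineOpen.comap_primeIdealOf_appLE (f := f) (x := y) V hV U hU hUV hy
    exact congrArg PrimeSpectrum.asIdeal this
  have hp : (hU.primeIdealOf ⟨x, hxU⟩).asIdeal.comap (f.appLE V U hUV).hom =
      (hU.primeIdealOf ⟨x', hxU'⟩).asIdeal.comap (f.appLE V U hUV).hom := by
    rw [hI x hxU, hI x' hxU']
    congr 3
  have key := td_quotientMap_lt (f.appLE V U hUV).hom hft _ _ (lt_of_le_of_ne hle hneq) hp
  rw [td_quotientMap_eq f hV hU hUV x hxU, td_quotientMap_eq f hV hU hUV x' hxU'] at key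
  exact key

end Groth.Agent.S9381
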