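import Groth.Statements.S1688
import Mathlib
import Groth.Agent.Lib.Lead.VBCurve2
import Groth.Agent.Lib.Lead.VBCurve4
import Groth.Agent.Lib.Helper18.RegPoint

set_option autoImplicit false
universe u
open CategoryTheory CategoryTheory.Limits AlgebraicGeometry TopologicalSpace
open SDiv

namespace Groth.Agent.S1688

/-- a regular local domain of dimension `≤ 1` is a PID -/
theorem isPrincipalIdealRing_of_regular (R : Type*) [CommRing R] [IsDomain R] [IsRegularLocalRing R]
    (hdim : ringKrullDim R ≤ 1) : IsPrincipalIdealRing R := by
  obtain ⟨t, ht⟩ := Groth.Agent.Lib.Helper18.RegPoint.exists_generator_of_isRegularLocalRing R hdim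
  have h4 : (IsLocalRing.maximalIdeal R).IsPrincipal := ⟨⟨t, ht⟩⟩
  have h := (tfae_of_isNoetherianRing_of_isLocalRing_of_isDomain R).out 0 4
  exact h.mpr h4

theorem noZeroSMulDivisors_of_free (R M : Type*) [CommRing R] [IsDomain R] [AddCommGroup M] [Module R M] [Module.Free R M] :
    NoZeroSMulDivisors R M := by
  haveI : Module.IsTorsionFree R M := inferInstance
  exact ⟨fun h => smul_eq_zero.mp h⟩

open Groth.Agent.Lib.helper16.FLF in

/-- Let X be a locally Noetherian integral scheme of dimension at most 1 all of whose local rings are
regular, and F a coherent module on X. Then F is torsion free (every stalk is a torsion-free module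
over the local ring) if and only if F is finite locally free. -/
theorem result (X : Scheme.{u}) [IsIntegral X] [IsLocallyNoetherian X] (hreg : ∀ x : ↥X, IsRegularLocalRing (X.presheaf.stalk x))
    (hdim : topologicalKrullDim ↥X ≤ 1) (F : X.Modules) (hF : Coh.IsCoh F) :
    (∀ x : ↥X, NoZeroSMulDivisors (X.presheaf.stalk x) (F.presheaf.stalk x)) ↔ FlatMod.IsFinLocFree F := by
  haveI : F.IsQuasicoherent := hF.1
  constructor
  · intro htf
    rw [← isFinLocFree_iff_fp_free_stalks]
    refine ⟨Groth.Agent.Lib.helper16.CohFinite.isFinitePresentation_of_isCoh F hF, fun x => ?_⟩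
    haveI := hreg x
    haveI : IsDomain (X.presheaf.stalk x) := inferInstance
    haveI := isPrincipalIdealRing_of_regular (X.presheaf.stalk x)
      ((Groth.Agent.Lib.Lead.VBCurve.ringKrullDim_stalk_le X x).trans hdim)
    haveI := finite_stalk_of_isFiniteType F hF.2 x
    haveI := htf x
    exact Module.free_of_finite_type_torsion_free'
  · intro hM x
    haveI : IsDomain (X.presheaf.stalk x) := inferInstance
    haveI := (free_stalk_of_isFinLocFree F hM x).1
    exact noZeroSMulDivisors_of_free _ _

end Groth.Agent.S1688
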