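import Groth.Statements.S1487
import Groth.Agent.Lib.Helper5.FormallyEtale

set_option autoImplicit false
universe u
open FlatMor

namespace Groth.Agent.S1487

open Groth.Agent.Lib.Helper5.FormallyEtale

open AlgebraicGeometry CategoryTheory Limits in
/-- (1) ⇔ (3): a morphism f : X → Y is formally étale (unique lifting against first order thickenings of
affine schemes, rings in the same universe) if and only if for all affine opens U ⊆ f⁻¹(V) the ring
map O_Y(V) → O_X(U) is formally étale. -/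
theorem result {X Y : Scheme.{u}} (f : X ⟶ Y) :
    MoreMor.IsFormallyEtaleHom f ↔ ∀ (U : X.Opens) (V : Y.Opens) (hU : IsAffineOpen U) (hV : IsAffineOpen V) (hUV : U ≤ f ⁻¹ᵁ V),
      letI := (f.appLE V U hUV).hom.toAlgebra
      Algebra.FormallyEtale Γ(Y, V) Γ(X, U) := by
  constructor
  · intro hf U V hU hV hUV
    have h1 : FE' (hU.fromSpec ≫ f) :=
      FE'.comp (FE'.of_isOpenImmersion hU.fromSpec) (FE'.of_FE hf)
    rw [← IsAffineOpen.SpecMap_appLE_fromSpec f hV hU hUV] at h1
    have h2 : FE' (Spec.map (f.appLE V U hUV)) := FE'.of_comp_mono h1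
    exact (FE_Spec_iff (f.appLE V U hUV).hom).mp (FE'.toFE h2)
  · intro H
    apply FE'.toFE
    apply FE'_of_local_source
    intro x
    obtain ⟨_, ⟨V, hV, rfl⟩, hxV, -⟩ := Y.isBasis_affineOpens.exists_subset_of_mem_open
      (Set.mem_univ (f.base x)) isOpen_univ
    obtain ⟨_, ⟨U, hU, rfl⟩, hxU, hUV⟩ := X.isBasis_affineOpens.exists_subset_of_mem_open
      (show x ∈ ((f ⁻¹ᵁ V : X.Opens) : Set X) from hxV) (f ⁻¹ᵁ V).isOpen
    refine ⟨Spec Γ(X, U), hU.fromSpec, inferInstance, ?_, ?_⟩
    · rw [hU.range_fromSpec]; exact hxU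
    · rw [← IsAffineOpen.SpecMap_appLE_fromSpec f hV hU hUV]
      exact FE'.comp (FE'.of_FE ((FE_Spec_iff (f.appLE V U hUV).hom).mpr (H U V hU hV hUV)))
        (FE'.of_isOpenImmersion _)

end Groth.Agent.S1487
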