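import Groth.Statements.S1489
import Groth.Agent.S1487
import Mathlib

set_option autoImplicit false
universe u
open FlatMor

namespace Groth.Agent.S1489

open AlgebraicGeometry CategoryTheory Limits in
/-- A morphism f : X → S is étale if and only if it is locally of finite presentation and formally
étale, i.e. has the unique lifting property against first order thickenings of affine schemes (rings
in the same universe). -/
theorem result {X S : Scheme.{u}} (f : X ⟶ S) :
    Etale f ↔ LocallyOfFinitePresentation f ∧ MoreMor.IsFormallyEtaleHom f := by
  rw [Groth.Agent.S1487.result f, etale_iff, locallyOfFinitePresentation_iff]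
  constructor
  · intro H
    refine ⟨fun {U} hU {V} hV e => ?_, fun V U hV hU e => ?_⟩
    · have hE := H hU hV e
      let _ := (f.appLE U V e).hom.toAlgebra
      exact ((Algebra.etale_iff Γ(S, U) Γ(X, V)).mp hE).2
    · have hE := H hU hV e
      let _ := (f.appLE U V e).hom.toAlgebra
      exact ((Algebra.etale_iff Γ(S, U) Γ(X, V)).mp hE).1
  · rintro ⟨H1, H2⟩ U hU V hV e
    let _ := (f.appLE U V e).hom.toAlgebra
    exact (Algebra.etale_iff Γ(S, U) Γ(X, V)).mpr ⟨H2 V U hV hU e, H1 hU hV e⟩

end Groth.Agent.S1489
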