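import Groth.Statements.S13370
import Mathlib

set_option autoImplicit false
universe u
open GaDual

namespace Groth.Agent.S13370

open AlgebraicGeometry CategoryTheory CategoryTheory.Limits in
theorem affine_case (n : Type u) (U : Scheme.{u}) [IsAffine U] [IsReduced U]
    (u : Γ(𝔸(n; U), ⊤)) (hu : IsUnit u) : ∃ c : Γ(U, ⊤), (𝔸(n; U) ↘ U).appTop c = u := by
  have hp : IsUnit ((Scheme.ΓSpecIso (.of (MvPolynomial n Γ(U, ⊤)))).hom.hom
      ((AffineSpace.isoOfIsAffine n U).inv.appTop.hom u)) :=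
    (hu.map (AffineSpace.isoOfIsAffine n U).inv.appTop.hom).map (Scheme.ΓSpecIso _).hom.hom
  obtain ⟨r, -, hr⟩ := MvPolynomial.isUnit_iff_eq_C_of_isReduced.mp hp
  refine ⟨U.isoSpec.hom.appTop ((Scheme.ΓSpecIso Γ(U, ⊤)).inv r), ?_⟩
  have h1 : (𝔸(n; U) ↘ U) = (AffineSpace.isoOfIsAffine n U).hom ≫
      Spec.map (CommRingCat.ofHom MvPolynomial.C) ≫ U.isoSpec.inv := by
    rw [← AffineSpace.isoOfIsAffine_inv_over, Iso.hom_inv_id_assoc]
  have h2 : (Scheme.ΓSpecIso (.of (MvPolynomial n Γ(U, ⊤)))).inv (MvPolynomial.C r) =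
      (Spec.map (CommRingCat.ofHom (MvPolynomial.C (σ := n) (R := Γ(U, ⊤))))).appTop
        ((Scheme.ΓSpecIso Γ(U, ⊤)).inv r) := by
    have := Scheme.ΓSpecIso_inv_naturality
      (CommRingCat.ofHom (MvPolynomial.C (σ := n) (R := Γ(U, ⊤))))
    exact congrArg (fun φ => φ.hom r) this
  have h3 : U.isoSpec.inv.appTop (U.isoSpec.hom.appTop ((Scheme.ΓSpecIso Γ(U, ⊤)).inv r)) =
      (Scheme.ΓSpecIso Γ(U, ⊤)).inv r := by
    rw [← CommRingCat.comp_apply, ← Scheme.Hom.comp_appTop, Iso.inv_hom_id]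
    simp
  have h4 : (AffineSpace.isoOfIsAffine n U).hom.appTop
      ((AffineSpace.isoOfIsAffine n U).inv.appTop u) = u := by
    rw [← CommRingCat.comp_apply, ← Scheme.Hom.comp_appTop, Iso.hom_inv_id]
    simp
  have h5 : (AffineSpace.isoOfIsAffine n U).inv.appTop u =
      (Scheme.ΓSpecIso (.of (MvPolynomial n Γ(U, ⊤)))).inv (MvPolynomial.C r) := by
    rw [← hr]
    exact ((Scheme.ΓSpecIso (.of (MvPolynomial n Γ(U, ⊤)))).commRingCatIsoToRingEquiv.symm_apply_apply _).symm
  rw [h1, Scheme.Hom.comp_appTop, Scheme.Hom.comp_appTop]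
  simp only [CommRingCat.comp_apply]
  rw [h3, ← h2, ← h5, h4]

open AlgebraicGeometry CategoryTheory CategoryTheory.Limits in
theorem main (n : Type u) [Finite n] (X : Scheme.{u}) [IsReduced X]
    (w : Γ(𝔸(n; X), ⊤)) (hw : IsUnit w) :
    ∃ v : Γ(X, ⊤), IsUnit v ∧ (𝔸(n; X) ↘ X).appTop v = w := by
  have hσ : AffineSpace.homOfVector (n := n) (𝟙 X) (fun _ => 0) ≫ (𝔸(n; X) ↘ X) = 𝟙 X :=
    AffineSpace.homOfVector_over _ _
  refine ⟨(AffineSpace.homOfVector (n := n) (𝟙 X) (fun _ => 0)).appTop w,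
    hw.map (AffineSpace.homOfVector (n := n) (𝟙 X) (fun _ => 0)).appTop.hom, ?_⟩
  apply Scheme.OpenCover.ext_elem _ _ (X.affineCover.pullback₁ (𝔸(n; X) ↘ X))
  intro (i : X.affineCover.I₀)
  have hfi : (X.affineCover.pullback₁ (𝔸(n; X) ↘ X)).f i =
      (AffineSpace.isPullback_map (n := n) (X.affineCover.f i)).isoPullback.inv ≫
        AffineSpace.map n (X.affineCover.f i) :=
    (IsPullback.isoPullback_inv_fst _).symm
  -- the affine case
  obtain ⟨c, hc⟩ := affine_case n (X.affineCover.X i)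
    ((AffineSpace.map n (X.affineCover.f i)).appTop w)
    (hw.map (AffineSpace.map n (X.affineCover.f i)).appTop.hom)
  have hσU : AffineSpace.homOfVector (n := n) (𝟙 (X.affineCover.X i)) (fun _ => 0) ≫
      (𝔸(n; X.affineCover.X i) ↘ X.affineCover.X i) = 𝟙 _ := AffineSpace.homOfVector_over _ _
  -- compatibility of zero sections
  have hcomm : X.affineCover.f i ≫ AffineSpace.homOfVector (n := n) (𝟙 X) (fun _ => 0) =
      AffineSpace.homOfVector (n := n) (𝟙 (X.affineCover.X i)) (fun _ => 0) ≫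
        AffineSpace.map n (X.affineCover.f i) := by
    apply AffineSpace.hom_ext
    · rw [Category.assoc, hσ, Category.assoc, AffineSpace.map_over, reassoc_of% hσU]
      simp
    · intro k
      simp only [Scheme.Hom.comp_appTop, CommRingCat.comp_apply]
      rw [AffineSpace.homOfVector_appTop_coord, AffineSpace.map_appTop_coord,
        AffineSpace.homOfVector_appTop_coord]
      simp
  have key : (AffineSpace.map n (X.affineCover.f i)).appTop
      ((𝔸(n; X) ↘ X).appTop ((AffineSpace.homOfVector (n := n) (𝟙 X) (fun _ => 0)).appTop w)) =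
      (AffineSpace.map n (X.affineCover.f i)).appTop w := by
    have e1 : (AffineSpace.map n (X.affineCover.f i)).appTop
        ((𝔸(n; X) ↘ X).appTop ((AffineSpace.homOfVector (n := n) (𝟙 X) (fun _ => 0)).appTop w)) =
        (𝔸(n; X.affineCover.X i) ↘ X.affineCover.X i).appTop
          ((AffineSpace.homOfVector (n := n) (𝟙 (X.affineCover.X i)) (fun _ => 0)).appTop
            ((AffineSpace.map n (X.affineCover.f i)).appTop w)) := by
      simp only [← CommRingCat.comp_apply, ← Scheme.Hom.comp_appTop]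
      rw [AffineSpace.map_over_assoc, hcomm]
    rw [e1, ← hc]
    congr 1
    rw [← CommRingCat.comp_apply, ← Scheme.Hom.comp_appTop, hσU]
    simp
  change ((X.affineCover.pullback₁ (𝔸(n; X) ↘ X)).f i).appTop _ =
    ((X.affineCover.pullback₁ (𝔸(n; X) ↘ X)).f i).appTop _
  rw [hfi, Scheme.Hom.comp_appTop]
  exact congrArg (ConcreteCategory.hom (Scheme.Hom.appTop
    (AffineSpace.isPullback_map (n := n) (X.affineCover.f i)).isoPullback.inv)) key

open AlgebraicGeometry in
/-- Over a reduced scheme X, each invertible global function on 𝔸ⁿ_X comes, by pullback along the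
projection to X, from an invertible global function on X. -/
theorem result (n : Type u) [Finite n] (X : Scheme.{u}) [IsReduced X]
    (w : Γ(𝔸(n; X), ⊤)) (hw : IsUnit w) :
    ∃ v : Γ(X, ⊤), IsUnit v ∧ (𝔸(n; X) ↘ X).appTop v = w := by
  exact main n X w hw

end Groth.Agent.S13370
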