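import Groth.Statements.S13371
import Groth.Agent.S13370
import Groth.Agent.Lib.Helper15.GaGm

set_option autoImplicit false
universe u
open GaDual

namespace Groth.Agent.S13371

open CategoryTheory AlgebraicGeometry MonObj CartesianMonoidalCategory in
/-- If S is a reduced scheme, every homomorphism of S-group schemes from the additive group to the
multiplicative group over S is the trivial homomorphism. -/
theorem result (S : Scheme.{u}) [IsReduced S] (φ : Red.Ga S ⟶ Red.Gm S)
    [IsMonHom φ] : φ = 1 := by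
  classical
  apply Groth.Agent.Lib.helper15.GaGm.gmFn_injective
  rw [Groth.Agent.Lib.helper15.GaGm.gmFn_one]
  have hwu : IsUnit (Red.gmFn φ) := Groth.Agent.Lib.helper15.GaGm.isUnit_gmFn φ
  let AS : Over S := Over.mk (𝔸(PUnit.{u+1}; S) ↘ S)
  obtain ⟨b, hb⟩ := Groth.Agent.Lib.helper15.GaGm.exists_gaFn_eq (S := S) (X := AS)
     (AlgebraicGeometry.AffineSpace.coord S PUnit.unit)
  let a : Red.Ga S ⟶ AS := Over.homMk
    (AlgebraicGeometry.AffineSpace.homOfVector (Red.Ga S).hom
      (fun _ => Red.gaFn (𝟙 (Red.Ga S))))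
    (AlgebraicGeometry.AffineSpace.homOfVector_over _ _)
  have hab : a ≫ b = 𝟙 _ := by
    apply Groth.Agent.Lib.helper15.GaGm.gaFn_injective
    rw [Groth.Agent.Lib.helper15.GaGm.gaFn_comp, hb]
    exact AlgebraicGeometry.AffineSpace.homOfVector_appTop_coord _ _ _
  obtain ⟨v, hv, hvw⟩ := Groth.Agent.S13370.result PUnit.{u+1} S
    (b.left.appTop (Red.gmFn φ)) (hwu.map _)
  have hw2 : Red.gmFn φ = (Red.Ga S).hom.appTop v := by
    have h1 : Red.gmFn φ = (a ≫ b).left.appTop (Red.gmFn φ) := by rw [hab]; simp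
    have h2 : a.left ≫ (𝔸(PUnit.{u+1}; S) ↘ S) = (Red.Ga S).hom := Over.w a
    rw [h1, Over.comp_left, Scheme.Hom.comp_appTop, CommRingCat.comp_apply, ← hvw,
      ← CommRingCat.comp_apply, ← Scheme.Hom.comp_appTop, h2]
  have e1 : η[Red.Gm S] = 1 := MonObj.one_eq_one _
  have h1 : η[Red.Ga S] ≫ φ = η[Red.Gm S] := IsMonHom.one_hom φ
  have h2 := congrArg Red.gmFn h1
  rw [Groth.Agent.Lib.helper15.GaGm.gmFn_comp, e1,
    Groth.Agent.Lib.helper15.GaGm.gmFn_one, hw2, ← CommRingCat.comp_apply,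
    ← Scheme.Hom.comp_appTop] at h2
  have h3 : (η[Red.Ga S]).left ≫ (Red.Ga S).hom = 𝟙 S := Over.w (η[Red.Ga S])
  rw [h3] at h2
  have hv1 : v = 1 := by simpa using h2
  rw [hw2, hv1, map_one]

end Groth.Agent.S13371
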