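import Groth.Statements.S4508
import Mathlib
import Groth.Agent.S1391
import Groth.Agent.Lib.Helper21.GCBC
import Groth.Agent.Lib.Helper21.GCBase
-- import your own Groth.Agent.* helpers here

set_option autoImplicit false
universe u
open Coherent

namespace Groth.Agent.S4508

section helpers

open AlgebraicGeometry CategoryTheory CategoryTheory.Limits

lemma betti_eq_fiberRank {X S : Scheme.{u}} (f : X ⟶ S) (F : X.Modules) (s : S) (i : ℕ) :
    PerfAux.betti f F s i = CohIII.fiberRank f F i s := rfl

variable {X Y Y' : Scheme.{u}} (f : X ⟶ Y) (g : Y' ⟶ Y) [IsProper f]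
    [IsLocallyNoetherian Y] (F : X.Modules) (hF : Coh.IsCoh F)
    (hfl : FlatMod.IsFlatOver f F)

include hF hfl in
theorem fiberRank_baseChange (y' : Y') (p : ℕ) :
    CohIII.fiberRank (pullback.snd f g) ((Scheme.Modules.pullback (pullback.fst f g)).obj F) p y' =
      CohIII.fiberRank f F p (g.base y') := by
  -- an affine chart around `g y'`
  obtain ⟨V, hV, hyV⟩ : ∃ V : Y.Opens, IsAffineOpen V ∧ g.base y' ∈ V := by
    obtain ⟨V, hV⟩ := TopologicalSpace.Opens.mem_iSup.1
      (show g.base y' ∈ (⨆ i : Y.affineOpens, (i : Y.Opens)) by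
        rw [iSup_affineOpens_eq_top]; trivial)
    exact ⟨V.1, V.2, hV⟩
  letI := Groth.Agent.Lib.helper21.GCBase.overA f hV
  obtain ⟨L, h1, -, -, -, -, hC, -, -⟩ :=
    Groth.Agent.Lib.helper21.GCBase.exists_complex_chart f hV F hF hfl
  -- the residue field of `y'` as an algebra over `Γ(Y, V)`
  let B := Y'.residueField y'
  let b : Spec B ⟶ Y := Y'.fromSpecResidueField y' ≫ g
  have hb : Set.range b.base ⊆ Set.range hV.fromSpec.base := by
    rintro _ ⟨z, rfl⟩
    rw [hV.range_fromSpec]
    have : (Y'.fromSpecResidueField y').base z = y' := Scheme.fromSpecResidueField_apply y' z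
    show (g.base ((Y'.fromSpecResidueField y').base z)) ∈ V
    rw [this]
    exact hyV
  let β : Spec B ⟶ Spec (CommRingCat.of Γ(Y, V)) := IsOpenImmersion.lift hV.fromSpec b hb
  have hβ : β ≫ hV.fromSpec = b := IsOpenImmersion.lift_fac _ _ _
  let φ : CommRingCat.of Γ(Y, V) ⟶ CommRingCat.of B := Spec.preimage β
  have hφ : Spec.map φ = β := Spec.map_preimage β
  letI : ((pullback.snd f g).fiber y').Over (Spec (CommRingCat.of B)) :=
    ⟨(pullback.snd f g).fiberToSpecResidueField y'⟩
  let t : (pullback.snd f g).fiber y' ⟶ X := (pullback.snd f g).fiberι y' ≫ pullback.fst f g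
  have hT : IsPullback t ((pullback.snd f g).fiber y' ↘ Spec (CommRingCat.of B)) f
      (Spec.map φ ≫ hV.fromSpec) := by
    rw [hφ, hβ]
    exact (IsPullback.of_hasPullback (pullback.snd f g) (Y'.fromSpecResidueField y')).paste_horiz
      (IsPullback.of_hasPullback f g)
  have key := Groth.Agent.Lib.helper21.GCBC.finrank_eq_fiberRank f Γ(Y, V) hV.fromSpec
    (f ⁻¹ᵁ V).ι (Groth.Agent.Lib.helper21.GCBase.isPullback_chart f hV) B φ t hT F
    (Groth.Agent.Lib.helper21.GCBase.FA f (V := V) F)
    (Groth.Agent.Lib.helper21.GCBase.eF f (V := V) F)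
    (CohIII.fiberMod (pullback.snd f g) ((Scheme.Modules.pullback (pullback.fst f g)).obj F) y')
    ((Scheme.Modules.pullbackComp ((pullback.snd f g).fiberι y') (pullback.fst f g)).app F)
    L hC (fun i => by haveI := (h1 i).2; infer_instance) p
  have hpt : hV.fromSpec.base (PrimeSpectrum.comap φ.hom ⊥) = g.base y' := by
    let pt : ↥(Spec B) := (⊥ : PrimeSpectrum B)
    have h2 : (Spec.map φ ≫ hV.fromSpec).base pt = b.base pt := by
      rw [hφ, hβ]
    have h3 : b.base pt = g.base y' := by
      show g.base ((Y'.fromSpecResidueField y').base pt) = _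
      rw [show (Y'.fromSpecResidueField y').base pt = y' from
        Scheme.fromSpecResidueField_apply y' _]
    rw [← h3, ← h2]
    rfl
  rw [← hpt]
  exact key

end helpers

open AlgebraicGeometry CategoryTheory CategoryTheory.Limits in
/-- For a single sheaf placed in degree 0 (the published statement is for a finite complex of such
sheaves). Let Y and Y' be locally Noetherian schemes, f : X ⟶ Y proper, g : Y' ⟶ Y any morphism, F a
coherent O_X-module flat over Y; let X' = X ×_Y Y' with projections f' : X' ⟶ Y' and X' ⟶ X, and F'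
the pullback of F to X'. Then F' is flat over Y', and for every point y' of Y' the Euler–Poincaré
characteristic of the fibre, Σ_i (−1)^i dim_{k(y')} H^i(X'_{y'}, F'_{y'}), equals Σ_i (−1)^i
dim_{k(g(y'))} H^i(X_{g(y')}, F_{g(y')}). -/
theorem result {X Y Y' : Scheme.{u}} (f : X ⟶ Y) (g : Y' ⟶ Y) [IsProper f]
    [IsLocallyNoetherian Y] [IsLocallyNoetherian Y'] (F : X.Modules) (hF : Coh.IsCoh F)
    (hfl : FlatMod.IsFlatOver f F) :
    FlatMod.IsFlatOver (pullback.snd f g) ((Scheme.Modules.pullback (pullback.fst f g)).obj F) ∧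
      ∀ y' : Y', PerfAux.eulerChar (pullback.snd f g) ((Scheme.Modules.pullback (pullback.fst f g)).obj F) y' =
        PerfAux.eulerChar f F (g.base y') := by
  refine ⟨fun x' => Groth.Agent.S1391.result f (pullback.snd f g) (pullback.fst f g) g
    (IsPullback.of_hasPullback f g) F hF.1 x' (hfl _), fun y' => ?_⟩
  unfold PerfAux.eulerChar
  congr 1
  funext i
  rw [betti_eq_fiberRank, betti_eq_fiberRank, fiberRank_baseChange f g F hF hfl y' i]

end Groth.Agent.S4508
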