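import Groth.Statements.S14694
import Mathlib

set_option autoImplicit false
universe u
open CategoryTheory AlgebraicGeometry
open SekSuwa

namespace Groth.Agent.S14694

open Polynomial in
theorem psiPoly_natDegree_le_and_coeff {R : Type u} [CommRing R] (lam : R) (N : ℕ) (hN : 0 < N)
    (h : SekSuwa.DivCond lam N) :
    (SekSuwa.psiPoly lam N h).natDegree ≤ N ∧ (SekSuwa.psiPoly lam N h).coeff N = 1 := by
  have hspec := SekSuwa.psiPoly_spec h
  set P := SekSuwa.psiPoly lam N h with hP
  have hnzd := h.pow_nzd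
  have hp1 : (1 + C lam * X : R[X]).natDegree ≤ 1 := by
    refine (natDegree_add_le _ _).trans ?_
    rw [natDegree_one]
    exact max_le (Nat.zero_le _) ((natDegree_C_mul_le lam X).trans natDegree_X_le)
  have hQdeg : ((1 + C lam * X : R[X]) ^ N - 1).natDegree ≤ N := by
    refine (natDegree_sub_le _ _).trans ?_
    rw [natDegree_one]
    refine max_le ?_ (Nat.zero_le _)
    refine natDegree_pow_le.trans ?_
    calc N * (1 + C lam * X : R[X]).natDegree ≤ N * 1 := Nat.mul_le_mul_left _ hp1
      _ = N := mul_one N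
  constructor
  · rw [natDegree_le_iff_coeff_eq_zero]
    intro k hk
    have h1 : (C (lam ^ N) * P).coeff k = 0 := by
      rw [hspec]; exact coeff_eq_zero_of_natDegree_lt (lt_of_le_of_lt hQdeg hk)
    rw [coeff_C_mul] at h1
    exact SekSuwa.cancel_nzd hnzd (h1.trans (mul_zero _).symm)
  · have h1 : (C (lam ^ N) * P).coeff N = lam ^ N := by
      rw [hspec, coeff_sub]
      have h2 := coeff_pow_of_natDegree_le (m := N) hp1
      rw [mul_one] at h2
      rw [h2, coeff_one, if_neg (Nat.pos_iff_ne_zero.mp hN)]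
      simp [coeff_one]
    rw [coeff_C_mul] at h1
    exact SekSuwa.cancel_nzd hnzd (h1.trans (mul_one _).symm)

theorem psiPoly_monic {R : Type u} [CommRing R] (lam : R) (N : ℕ) (hN : 0 < N)
    (h : SekSuwa.DivCond lam N) : (SekSuwa.psiPoly lam N h).Monic := by
  obtain ⟨h1, h2⟩ := psiPoly_natDegree_le_and_coeff lam N hN h
  exact Polynomial.monic_of_natDegree_le_of_coeff_eq_one N h1 h2

theorem psiPoly_natDegree {R : Type u} [CommRing R] [Nontrivial R] (lam : R) (N : ℕ) (hN : 0 < N)
    (h : SekSuwa.DivCond lam N) : (SekSuwa.psiPoly lam N h).natDegree = N := by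
  obtain ⟨h1, h2⟩ := psiPoly_natDegree_le_and_coeff lam N hN h
  refine le_antisymm h1 (Polynomial.le_natDegree_of_ne_zero ?_)
  rw [h2]; exact one_ne_zero

/-- the inverse of `1 + λ t` in `AK`. -/
theorem AK_inv_eq {R : Type u} [CommRing R] (lam : R) (N : ℕ) (hN : 0 < N)
    (h : SekSuwa.DivCond lam N) :
    (SekSuwa.AK.inv : SekSuwa.AK R lam N h) = (1 + lam • SekSuwa.AK.t) ^ (N - 1) := by
  have e1 : (1 + lam • (SekSuwa.AK.t : SekSuwa.AK R lam N h)) * SekSuwa.AK.inv = 1 := by
    have := congrArg (SekSuwa.AK.mkHom R lam N h) (SekSuwa.A.u_mul_inv (R := R) (lam := lam))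
    rw [map_mul, map_one, SekSuwa.A.u, map_add, map_one, map_smul] at this
    exact this
  have e2 : (1 + lam • (SekSuwa.AK.t : SekSuwa.AK R lam N h)) ^ N = 1 := SekSuwa.AK.u_pow
  calc (SekSuwa.AK.inv : SekSuwa.AK R lam N h)
      = (1 + lam • SekSuwa.AK.t) ^ N * SekSuwa.AK.inv := by rw [e2, one_mul]
    _ = (1 + lam • SekSuwa.AK.t) ^ (N - 1) * ((1 + lam • SekSuwa.AK.t) * SekSuwa.AK.inv) := by
        rw [← mul_assoc, ← pow_succ, Nat.sub_add_cancel hN]
    _ = _ := by rw [e1, mul_one]

/-- The coordinate ring of `G_{λ,N}` is `R[T]/(P)`. -/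
noncomputable def akEquiv {R : Type u} [CommRing R] (lam : R) (N : ℕ) (hN : 0 < N)
    (h : SekSuwa.DivCond lam N) :
    AdjoinRoot (SekSuwa.psiPoly lam N h) ≃ₐ[R] SekSuwa.AK R lam N h := by
  have hroot : (1 + lam • AdjoinRoot.root (SekSuwa.psiPoly lam N h)) ^ N = 1 := by
    have := SekSuwa.aeval_psiPoly h (AdjoinRoot.root (SekSuwa.psiPoly lam N h))
    rw [AdjoinRoot.aeval_eq, AdjoinRoot.mk_self, mul_zero] at this
    rw [Algebra.smul_def]
    exact (sub_eq_zero.mp this.symm)
  have hrel : (1 + lam • AdjoinRoot.root (SekSuwa.psiPoly lam N h)) *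
      (1 + lam • AdjoinRoot.root (SekSuwa.psiPoly lam N h)) ^ (N - 1) = 1 := by
    rw [← pow_succ', Nat.sub_add_cancel hN, hroot]
  let back0 : SekSuwa.A R lam →ₐ[R] AdjoinRoot (SekSuwa.psiPoly lam N h) :=
    SekSuwa.A.lift R lam (AdjoinRoot.root (SekSuwa.psiPoly lam N h))
      ((1 + lam • AdjoinRoot.root (SekSuwa.psiPoly lam N h)) ^ (N - 1)) hrel
  have hback0 : ∀ a ∈ SekSuwa.kerIdeal lam N h, back0 a = 0 := by
    intro a ha
    rw [SekSuwa.kerIdeal, Ideal.mem_span_singleton'] at ha
    obtain ⟨c, rfl⟩ := ha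
    have : back0 (SekSuwa.kerGen lam N h) = 0 := by
      rw [SekSuwa.kerGen, ← Polynomial.aeval_algHom_apply, SekSuwa.A.lift_t,
        AdjoinRoot.aeval_eq, AdjoinRoot.mk_self]
    rw [map_mul, this, mul_zero]
  let back : SekSuwa.AK R lam N h →ₐ[R] AdjoinRoot (SekSuwa.psiPoly lam N h) :=
    Ideal.Quotient.liftₐ (SekSuwa.kerIdeal lam N h) back0 hback0
  let fwd : AdjoinRoot (SekSuwa.psiPoly lam N h) →ₐ[R] SekSuwa.AK R lam N h :=
    AdjoinRoot.liftAlgHom (SekSuwa.psiPoly lam N h) (Algebra.ofId R _) SekSuwa.AK.t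
      (by
        have := SekSuwa.AK.aeval_t (R := R) (lam := lam) (N := N) (h := h)
        rwa [Polynomial.aeval_def] at this)
  have hback_t : back SekSuwa.AK.t = AdjoinRoot.root (SekSuwa.psiPoly lam N h) := by
    change back0 SekSuwa.A.t = _
    exact SekSuwa.A.lift_t _ _ hrel
  have hback_inv : back SekSuwa.AK.inv =
      (1 + lam • AdjoinRoot.root (SekSuwa.psiPoly lam N h)) ^ (N - 1) := by
    change back0 SekSuwa.A.inv = _
    exact SekSuwa.A.lift_inv _ _ hrel
  have hfwd : fwd (AdjoinRoot.root (SekSuwa.psiPoly lam N h)) = SekSuwa.AK.t :=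
    AdjoinRoot.liftAlgHom_root _ _ _ _
  refine AlgEquiv.ofAlgHom fwd back ?_ ?_
  · apply SekSuwa.AK.algHom_ext
    · simp only [AlgHom.comp_apply, AlgHom.id_apply]
      rw [hback_t, hfwd]
    · simp only [AlgHom.comp_apply, AlgHom.id_apply]
      rw [hback_inv, map_pow, map_add, map_one, map_smul, hfwd]
      exact (AK_inv_eq lam N hN h).symm
  · apply AdjoinRoot.algHom_ext
    simp only [AlgHom.comp_apply, AlgHom.id_apply]
    rw [hfwd, hback_t]


/-- For any commutative ring R, λ ∈ R and N ≥ 1 such that λ is a non-zero-divisor and λ^N divides (1 +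
λX)^N − 1 in R[X] with quotient P_{λ,N}, the R-group scheme G_{λ,N}, defined as the closed subscheme
of the affine R-group G^(λ) = Spec R[T, 1/(1+λT)] cut out by P_{λ,N}(T), is finite locally free of
degree N over Spec R (its coordinate ring is R[T]/(P_{λ,N}(T)) with P_{λ,N} monic of degree N). (The
published text states this over a discrete valuation ring with N = p^n: G_{λ,n} is a commutative
finite flat group scheme of rank p^n.) -/
theorem result (R : Type u) [CommRing R] (lam : R) (N : ℕ) (hN : 0 < N) (h : SekSuwa.DivCond lam N) :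
    Mor2.IsFinLocFreeOfDeg N (SekSuwa.GK R lam N h).hom := by
  have hmonic := psiPoly_monic lam N hN h
  let e := akEquiv lam N hN h
  have hfree0 : Module.Free R (AdjoinRoot (SekSuwa.psiPoly lam N h)) :=
    Module.Free.of_basis (AdjoinRoot.powerBasis' hmonic).basis
  have hfin0 : Module.Finite R (AdjoinRoot (SekSuwa.psiPoly lam N h)) :=
    Module.Finite.of_basis (AdjoinRoot.powerBasis' hmonic).basis
  have hfree : Module.Free R (SekSuwa.AK R lam N h) := Module.Free.of_equiv e.toLinearEquiv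
  have hfin : Module.Finite R (SekSuwa.AK R lam N h) := Module.Finite.equiv e.toLinearEquiv
  have hflat : Module.Flat R (SekSuwa.AK R lam N h) := inferInstance
  have hfp : Algebra.FinitePresentation R (SekSuwa.AK R lam N h) :=
    Algebra.FinitePresentation.equiv e
  change Mor2.IsFinLocFreeOfDeg N
    (Spec.map (CommRingCat.ofHom (algebraMap R (SekSuwa.AK R lam N h))))
  refine ⟨⟨?_, ?_, ?_⟩, ?_⟩
  · rw [IsFinite.SpecMap_iff]
    exact RingHom.finite_algebraMap.mpr hfin
  · rw [Flat.SpecMap_iff]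
    exact (RingHom.flat_algebraMap_iff).mpr hflat
  · rw [LocallyOfFinitePresentation.SpecMap_iff]
    exact (RingHom.finitePresentation_algebraMap).mpr hfp
  · intro y
    have hnt : Nontrivial R := by
      have hy : Nonempty (PrimeSpectrum R) := ⟨y⟩
      exact (PrimeSpectrum.nonempty_iff_nontrivial).mp hy
    have h1 := Scheme.Hom.finrank_SpecMap_algebraMap R (SekSuwa.AK R lam N h) y
    refine h1.trans ?_
    rw [Module.rankAtStalk_eq_finrank_of_free]
    change Module.finrank R (SekSuwa.AK R lam N h) = N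
    rw [← e.toLinearEquiv.finrank_eq, (AdjoinRoot.powerBasis' hmonic).finrank,
      AdjoinRoot.powerBasis'_dim, psiPoly_natDegree lam N hN h]

end Groth.Agent.S14694
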