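import Groth.Statements.S2156
import Mathlib
import Groth.Agent.Lib.Helper18.SmoothFiberScheme

set_option autoImplicit false
universe u
open CategoryTheory AlgebraicGeometry
open Mor

namespace Groth.Agent.S2156

open Groth.Agent.Lib.Helper18.SmoothFiber Groth.Agent.Lib.Helper18.SmoothDescent H18Stalk
  CategoryTheory.Limits

/-- Let `f : X → S` be locally of finite presentation and `x ∈ X` with image `s`. Then `f` is smooth at
`x` if and only if `O_{S,s} → O_{X,x}` is flat and the fibre `X_s → Spec κ(s)` is smooth at the
point corresponding to `x`. -/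
theorem result {X S : Scheme.{u}} (f : X ⟶ S) [LocallyOfFinitePresentation f] (x : X)
    [LocallyOfFinitePresentation (f.fiberToSpecResidueField (f.base x))] :
    x ∈ f.smoothLocus ↔
      (f.stalkMap x).hom.Flat ∧ f.asFiber x ∈ (f.fiberToSpecResidueField (f.base x)).smoothLocus := by
  have HP : IsPullback (f.fiberι (f x)) (f.fiberToSpecResidueField (f x)) f
      (S.fromSpecResidueField (f x)) := IsPullback.of_hasPullback _ _
  have h3 : f.fiberι (f x) (f.asFiber x) = x := f.fiberι_asFiber x
  rw [Scheme.Hom.mem_smoothLocus, Scheme.Hom.mem_smoothLocus]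
  constructor
  · intro h
    refine ⟨?_, ?_⟩
    · obtain ⟨U, hxU, hU⟩ := (exists_smooth_nhd_iff f x).mpr h
      have := Flat.stalkMap (U.ι ≫ f) ⟨x, hxU⟩
      exact (stalkMap_ι_comp_iff RingHom.Flat.respectsIso f U ⟨x, hxU⟩).mp this
    · apply formallySmooth_stalk_baseChange_of_isPullback HP
      rw [h3]; exact h
  · rintro ⟨hfl, hsm⟩
    have := formallySmooth_stalk_of_isPullback_field (K := S.residueField (f x)) HP (f.asFiber x)
      (by rw [h3]; exact hfl) hsm
    rw [h3] at this; exact this

end Groth.Agent.S2156
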