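import Groth.Statements.S5331
import Mathlib
import Groth.Agent.S0346

set_option autoImplicit false
universe u
open CategoryTheory CategoryTheory.Limits MonoidalCategory CartesianMonoidalCategory MonObj GrpObj AlgebraicGeometry
open SGA3

namespace Groth.Agent.S5331

open CategoryTheory CategoryTheory.Limits MonoidalCategory CartesianMonoidalCategory MonObj GrpObj AlgebraicGeometry

/-- a section of a morphism to a scheme with discrete underlying space is a closed immersion -/
theorem isClosedImmersion_section {S X : Scheme.{u}} [DiscreteTopology S] (f : X ⟶ S) (e : S ⟶ X)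
    (h : e ≫ f = 𝟙 S) : IsClosedImmersion e := by
  let U : S → S.Opens := fun s => ⟨{s}, isOpen_discrete _⟩
  let W : S → X.Opens := fun s => f ⁻¹ᵁ U s
  have hW : iSup W = ⊤ := by
    rw [eq_top_iff]
    intro x _
    exact TopologicalSpace.Opens.mem_iSup.mpr ⟨f x, rfl⟩
  have hbase : ∀ t : S, f (e t) = t := fun t => by
    rw [← Scheme.Hom.comp_apply, h]; rfl
  rw [IsZariskiLocalAtTarget.iff_of_iSup_eq_top (P := @IsClosedImmersion) W hW]
  intro s
  have hsub : Subsingleton ((e ⁻¹ᵁ W s).toScheme) := by
    constructor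
    rintro ⟨a, ha⟩ ⟨b, hb⟩
    have ha' : f (e a) = s := ha
    have hb' : f (e b) = s := hb
    rw [hbase] at ha' hb'
    exact Subtype.ext (ha'.trans hb'.symm)
  have hle : W s ≤ f ⁻¹ᵁ (e ⁻¹ᵁ W s) := by
    intro x hx
    show f (e (f x)) ∈ U s
    rw [hbase]; exact hx
  refine isClosedImmersion_of_comp_eq_id (f.resLE (e ⁻¹ᵁ W s) (W s) hle) (e ∣_ W s) ?_
  rw [← cancel_mono (e ⁻¹ᵁ W s).ι]
  simp [h]

/-- Let S be a scheme whose underlying topological space is discrete. Then every S-group scheme is
separated over S. -/
theorem result (S : Scheme.{u}) [DiscreteTopology S] (G : Over S) [GrpObj G] :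
    IsSeparated G.hom := by
  rw [(Groth.Agent.S0346.result S G).1]
  exact isClosedImmersion_section G.hom η[G].left (by simp)

end Groth.Agent.S5331
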