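import Groth.Statements.S1324
import Mathlib
import Groth.Agent.Lib.Helper3.SecComp

set_option autoImplicit false
universe u
open FlatMor

namespace Groth.Agent.S1324


open AlgebraicGeometry CategoryTheory Limits in
/-- connected components of the topological fibre through the scheme-theoretic fibre -/
theorem fibre_mem_iff {X Y : Scheme.{u}} (f : X ⟶ Y) (y : Y) (a b : f.fiber y) :
    f.fiberι y b ∈ connectedComponentIn (f ⁻¹' {y}) (f.fiberι y a) ↔ b ∈ connectedComponent a := by
  have ha : f.fiberι y a ∈ f ⁻¹' {y} := (f.fiberHomeo y a).2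
  rw [connectedComponentIn_eq_image ha]
  have h1 : (⟨f.fiberι y a, ha⟩ : f ⁻¹' {y}) = f.fiberHomeo y a := rfl
  have h2 := (f.fiberHomeo y).isQuotientMap.image_connectedComponent
    (by simp [isConnected_singleton]) a
  rw [h1, ← h2]
  constructor
  · rintro ⟨_, ⟨c, hc, rfl⟩, hcb⟩
    have : f.fiberι y c = f.fiberι y b := hcb
    rwa [← (f.fiberι y).isEmbedding.injective this]
  · intro hb
    exact ⟨f.fiberHomeo y b, ⟨b, hb, rfl⟩, rfl⟩

open AlgebraicGeometry CategoryTheory Limits in
theorem mem_iff {X Y X' Y' : Scheme.{u}} (f : X ⟶ Y) (s : Y ⟶ X) (hs : s ≫ f = 𝟙 Y)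
    (f' : X' ⟶ Y') (g' : X' ⟶ X) (g : Y' ⟶ Y) (hc : IsPullback g' f' f g)
    (s' : Y' ⟶ X') (hs' : s' ≫ f' = 𝟙 Y') (hs'g : s' ≫ g' = g ≫ s) (x' : X') :
    x' ∈ MoreMor.sectionComponents f' s' ↔ g' x' ∈ MoreMor.sectionComponents f s := by
  let y' := f' x'
  have hy : f (g' x') = g y' := by
    have := congrArg (fun φ : X' ⟶ Y => φ x') hc.w
    exact this
  -- points of the fibre of `f'`
  let w' : f'.fiber y' := f'.asFiber x'
  have hw' : f'.fiberι y' w' = x' := f'.fiberι_asFiber x'
  have hsy' : s' y' ∈ f' ⁻¹' {y'} := by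
    have := congrArg (fun φ : Y' ⟶ Y' => φ y') hs'
    exact this
  let z' : f'.fiber y' := (f'.fiberHomeo y').symm ⟨s' y', hsy'⟩
  have hz' : f'.fiberι y' z' = s' y' := f'.fiberι_fiberHomeo_symm y' ⟨s' y', hsy'⟩
  -- the comparison of fibres
  let β : f'.fiber y' ⟶ f.fiber (g y') :=
    pullback.map f' (Y'.fromSpecResidueField y') f (Y.fromSpecResidueField (g y')) g'
      (Spec.map (g.residueFieldMap y')) g hc.w.symm (by simp)
  have hpb : IsPullback β (f'.fiberToSpecResidueField y') (f.fiberToSpecResidueField (g y'))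
      (Spec.map (g.residueFieldMap y')) :=
    isPullback_fiberToSpecResidueField_of_isPullback hc y'
  have hβι : ∀ t, f.fiberι (g y') (β t) = g' (f'.fiberι y' t) := by
    intro t
    have h1 : β ≫ f.fiberι (g y') = f'.fiberι y' ≫ g' := pullback.lift_fst _ _ _
    exact congrArg (fun φ : f'.fiber y' ⟶ X => φ t) h1
  -- the rational point
  let σ : Spec (Y.residueField (g y')) ⟶ f.fiber (g y') :=
    pullback.lift (Y.fromSpecResidueField (g y') ≫ s) (𝟙 _)
      (by rw [Category.assoc, hs, Category.comp_id, Category.id_comp])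
  have hσ : σ ≫ f.fiberToSpecResidueField (g y') = 𝟙 _ := pullback.lift_snd _ _ _
  have hσpt : σ (IsLocalRing.closedPoint (Y.residueField (g y'))) = β z' := by
    apply (f.fiberι (g y')).isEmbedding.injective
    rw [hβι, hz']
    have h1 : σ ≫ f.fiberι (g y') = Y.fromSpecResidueField (g y') ≫ s := pullback.lift_fst _ _ _
    have h2 := congrArg (fun φ : Spec (Y.residueField (g y')) ⟶ X =>
      φ (IsLocalRing.closedPoint (Y.residueField (g y')))) h1
    simp only [Scheme.Hom.comp_apply, Scheme.fromSpecResidueField_apply] at h2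
    rw [h2]
    have h3 := congrArg (fun φ : Y' ⟶ X => φ y') hs'g
    simp only [Scheme.Hom.comp_apply] at h3
    exact h3.symm
  let _ : Algebra (Y.residueField (g y')) (Y'.residueField y') :=
    (g.residueFieldMap y').hom.toAlgebra
  have key := Groth.Agent.Lib.helper3.SecComp.preimage_connectedComponent_eq_of_isPullback
    (k := Y.residueField (g y')) (f.fiberToSpecResidueField (g y')) σ hσ
    (Y'.residueField y') β (f'.fiberToSpecResidueField y') hpb z' hσpt.symm
  -- assemble
  show x' ∈ connectedComponentIn (f' ⁻¹' {f' x'}) (s' (f' x')) ↔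
    g' x' ∈ connectedComponentIn (f ⁻¹' {f (g' x')}) (s (f (g' x')))
  rw [hy]
  have e1 : x' ∈ connectedComponentIn (f' ⁻¹' {f' x'}) (s' (f' x')) ↔
      w' ∈ connectedComponent z' := by
    rw [← fibre_mem_iff f' y' z' w', hw', hz']
  have hsgy : s (g y') = f.fiberι (g y') (β z') := by
    rw [hβι, hz']
    have h3 := congrArg (fun φ : Y' ⟶ X => φ y') hs'g
    simp only [Scheme.Hom.comp_apply] at h3
    exact h3.symm
  have e2 : g' x' ∈ connectedComponentIn (f ⁻¹' {g y'}) (s (g y')) ↔
      β w' ∈ connectedComponent (β z') := by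
    rw [← fibre_mem_iff f (g y') (β z') (β w'), hβι w', hw', ← hsgy]
  rw [e1, e2, ← key, Set.mem_preimage, hσpt]

open AlgebraicGeometry CategoryTheory Limits in
/-- Let f have a section s and form, for every point of the target, the connected component of the fibre
containing the value of the section; call the union of these the section components of (f, s). For
any base change of f with the induced section, the section components upstairs are exactly the
preimage of the section components downstairs. -/
theorem result {X Y X' Y' : Scheme.{u}} (f : X ⟶ Y) (s : Y ⟶ X) (hs : s ≫ f = 𝟙 Y)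
    (f' : X' ⟶ Y') (g' : X' ⟶ X) (g : Y' ⟶ Y) (hc : IsPullback g' f' f g)
    (s' : Y' ⟶ X') (hs' : s' ≫ f' = 𝟙 Y') (hs'g : s' ≫ g' = g ≫ s) :
    MoreMor.sectionComponents f' s' = g' ⁻¹' MoreMor.sectionComponents f s := by
  ext x'
  rw [Set.mem_preimage]
  exact mem_iff f s hs f' g' g hc s' hs' hs'g x'

end Groth.Agent.S1324
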