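import Groth.Statements.S1545
import Mathlib
import Groth.Agent.Lib.Helper3.CommonPt
import Groth.Agent.Lib.Helper3.StalkBC

set_option autoImplicit false
universe u
open CategoryTheory CategoryTheory.Limits AlgebraicGeometry
open Variety

namespace Groth.Agent.S1545

/-- For a field extension k' of k, a point x of X and a point x' of X_{k'} over x, X is geometrically
reduced at x if and only if X_{k'} is geometrically reduced at x' (over k'). -/
theorem result (k : Type u) [Field k] (X : Scheme.{u}) [X.Over (Spec (CommRingCat.of k))] (k' : Type u) [Field k'] [Algebra k k']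
    (x : X) (x' : Curv2.bc k X k') (hx : Curv2.bcFst k X k' x' = x) :
    Curv2.IsGeomReducedAt k X x ↔
      @Curv2.IsGeomReducedAt k' _ (Curv2.bc k X k') ⟨Curv2.bcSnd k X k'⟩ x' := by
  subst hx
  constructor
  · intro H L _ _ z hz
    let _ : Algebra k L := ((algebraMap k' L).comp (algebraMap k k')).toAlgebra
    have : IsScalarTower k k' L := IsScalarTower.of_algebraMap_eq (fun _ => rfl)
    let e := Groth.Agent.Lib.helper3.CommonPt.towerIso (X ↘ Spec (CommRingCat.of k)) k' L
    have h1 : (pullback.fst (X ↘ Spec (CommRingCat.of k))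
        (Spec.map (CommRingCat.ofHom (algebraMap k L)))) (e.hom z) =
        (Curv2.bcFst k X k') x' := by
      have h2 : (pullback.fst (X ↘ Spec (CommRingCat.of k))
          (Spec.map (CommRingCat.ofHom (algebraMap k L)))) (e.hom z) =
          (e.hom ≫ pullback.fst (X ↘ Spec (CommRingCat.of k))
            (Spec.map (CommRingCat.ofHom (algebraMap k L)))) z := rfl
      rw [h2, Groth.Agent.Lib.helper3.CommonPt.towerIso_hom_fst, Scheme.Hom.comp_apply]
      exact congrArg _ hz
    have hd : _root_.IsReduced ((pullback (X ↘ Spec (CommRingCat.of k))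
        (Spec.map (CommRingCat.ofHom (algebraMap k L)))).presheaf.stalk (e.hom z)) :=
      H L (e.hom z) h1
    have e2 := (asIso (e.hom.stalkMap z)).commRingCatIsoToRingEquiv
    exact isReduced_of_injective e2.symm e2.symm.injective
  · intro H K₂ _ _ x₂ hx₂
    obtain ⟨L, _, _, φ, z, hφ, hz1, hz2⟩ :=
      Groth.Agent.Lib.helper3.CommonPt.exists_common_point (X ↘ Spec (CommRingCat.of k))
        k' K₂ x' x₂ hx₂.symm
    subst hz2
    have hd : _root_.IsReduced ((pullback (pullback.snd (X ↘ Spec (CommRingCat.of k))
        (Spec.map (CommRingCat.ofHom (algebraMap k k'))))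
        (Spec.map (CommRingCat.ofHom (algebraMap k' L)))).presheaf.stalk z) := H L z hz1
    exact isReduced_of_injective (φ.stalkMap z).hom
      (Groth.Agent.Lib.helper3.StalkBC.stalkMap_injective_of_flat φ z)

end Groth.Agent.S1545
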