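import Groth.Statements.S3399
import Groth.Agent.Lib.Helper9.ProConsScheme

set_option autoImplicit false
open CategoryTheory AlgebraicGeometry
universe u
open EGA41

namespace Groth.Agent.S3399

/-- Let f : X' ⟶ X be a morphism locally of finite presentation and E' an ind-constructible subset of
X'. Then f(E') is ind-constructible in X; in particular f(X') is ind-constructible. -/
theorem result {X' X : Scheme.{u}} (f : X' ⟶ X)
    [LocallyOfFinitePresentation f] (E' : Set X') (hE' : ProCons.IsIndConstructible E') :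
    ProCons.IsIndConstructible (f.base '' E') := by
  classical
  refine Groth.Agent.Lib.helper9.isIndConstructible_of_consOpenOn fun x => ?_
  obtain ⟨_, ⟨V, hV, rfl⟩, hxV, -⟩ :=
    X.isBasis_affineOpens.exists_subset_of_mem_open (Set.mem_univ x) isOpen_univ
  have hV' : IsAffineOpen V := hV
  have hVs : Groth.Agent.Lib.helper9.IsSpectralOpen (V : Set X) :=
    ⟨V.2, hV'.isCompact, hV'.isQuasiSeparated⟩
  refine ⟨V, hVs, hxV, ?_⟩
  haveI := hVs.spectralSpace
  unfold Groth.Agent.Lib.helper9.ConsOpenOn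
  rw [Groth.Agent.Lib.helper9.isOpen_constructibleTopology_iff_sUnion]
  refine ⟨{T | Topology.IsConstructible T ∧
    T ⊆ (Subtype.val ⁻¹' (f.base '' E') : Set ↥(V : Set X))}, fun T hT => hT.1,
    subset_antisymm ?_ (Set.sUnion_subset fun T hT => hT.2)⟩
  rintro v ⟨x', hx'E, hfx⟩
  have hx'V : x' ∈ f.base ⁻¹' (V : Set X) := by
    show f.base x' ∈ (V : Set X)
    rw [hfx]
    exact v.2
  obtain ⟨_, ⟨W, hW, rfl⟩, hx'W, hWV⟩ :=
    X'.isBasis_affineOpens.exists_subset_of_mem_open hx'V (V.2.preimage f.continuous)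
  have hW' : IsAffineOpen W := hW
  have e : W ≤ f ⁻¹ᵁ V := hWV
  have hWs : Groth.Agent.Lib.helper9.IsSpectralOpen (W : Set X') :=
    ⟨W.2, hW'.isCompact, hW'.isQuasiSeparated⟩
  haveI := hWs.spectralSpace
  have hO' := Groth.Agent.Lib.helper9.consOpenOn_of_isIndConstructible hE' hWs
  obtain ⟨B, hB, hxB, hBsub⟩ :=
    Groth.Agent.Lib.helper9.exists_isConstructible_mem_subset_of_isOpen_constructibleTopology hO'
      (x := (⟨x', hx'W⟩ : ↥(W : Set X'))) hx'E
  haveI : IsAffine (Scheme.Opens.toScheme W) := hW'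
  haveI : IsAffine (Scheme.Opens.toScheme (X := X) V) := hV'
  have himg : @Topology.IsConstructible ↥(V : Set X) _
      ((fun w : ↥(W : Set X') => ((f.resLE V W e).base w : ↥(V : Set X))) '' B) :=
    Scheme.Hom.isConstructible_image (f.resLE V W e) hB
  have hfun : (fun w : ↥(W : Set X') => ((f.resLE V W e).base w : ↥(V : Set X))) =
      fun w => ⟨f.base w.1, e w.2⟩ :=
    funext fun w => Subtype.ext (Scheme.Hom.coe_resLE_apply f e w)
  rw [hfun] at himg
  refine Set.mem_sUnion.mpr ⟨_, ⟨himg, ?_⟩, ⟨⟨x', hx'W⟩, hxB, Subtype.ext hfx⟩⟩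
  rintro _ ⟨w, hw, rfl⟩
  exact ⟨w.1, hBsub hw, rfl⟩

end Groth.Agent.S3399
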