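import Groth.Statements.S3404
import Groth.Agent.Lib.Helper9.ProConsMore
import Groth.Agent.S15542
import Groth.Agent.S3399

set_option autoImplicit false
open CategoryTheory AlgebraicGeometry
universe u
open EGA41

namespace Groth.Agent.S3404

/-- Let f : X ⟶ Y be a morphism of schemes, x a point of X and y = f x. If f is open at x then every
generization of y is the image of a generization of x; when f is locally of finite presentation the
converse holds. -/
theorem result {X Y : Scheme.{u}} (f : X ⟶ Y) (x : X) :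
    (EGA43.IsOpenAt f.base x → ∀ y' : Y, y' ⤳ f.base x → ∃ x' : X, x' ⤳ x ∧ f.base x' = y') ∧
    (LocallyOfFinitePresentation f →
      ((EGA43.IsOpenAt f.base x) ↔ ∀ y' : Y, y' ⤳ f.base x → ∃ x' : X, x' ⤳ x ∧ f.base x' = y')) := by
  have part1 : EGA43.IsOpenAt f.base x →
      ∀ y' : Y, y' ⤳ f.base x → ∃ x' : X, x' ⤳ x ∧ f.base x' = y' := by
    intro hopen y' hy'
    have hF : ProCons.IsProConstructible (f.base ⁻¹' {y'}) :=
      Groth.Agent.S15542.result f {y'} (Groth.Agent.Lib.helper9.isProConstructible_singleton y')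
    have hx : x ∈ closure (f.base ⁻¹' {y'}) := by
      rw [mem_closure_iff_nhds]
      intro U hU
      have h1 : f.base '' U ∈ nhds (f.base x) := hopen U hU
      have h2 : y' ∈ f.base '' U := mem_of_mem_nhds (hy' h1)
      obtain ⟨u, huU, hfu⟩ := h2
      exact ⟨u, huU, hfu⟩
    obtain ⟨x', hx'F, hsp⟩ :=
      (Groth.Agent.Lib.helper9.mem_closure_iff_of_isProConstructible hF x).mp hx
    exact ⟨x', hsp, hx'F⟩
  refine ⟨part1, fun hlfp => ⟨part1, ?_⟩⟩
  intro hgen U hU
  have := hlfp
  obtain ⟨U', hU'U, hU'o, hxU'⟩ := mem_nhds_iff.mp hU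
  have hind : ProCons.IsIndConstructible (f.base '' U') :=
    Groth.Agent.S3399.result f U' (Groth.Agent.Lib.helper9.isIndConstructible_of_isOpen hU'o)
  have hint : f.base x ∈ interior (f.base '' U') :=
    (Groth.Agent.Lib.helper9.mem_interior_iff_of_isIndConstructible hind _).mpr
      (fun y' hy' => by
        obtain ⟨x', hsp, rfl⟩ := hgen y' hy'
        exact ⟨x', hsp.mem_open hU'o hxU', rfl⟩)
  exact Filter.mem_of_superset (mem_interior_iff_mem_nhds.mp hint) (Set.image_mono hU'U)

end Groth.Agent.S3404
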