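import Groth.Statements.S14768
import Mathlib.AlgebraicGeometry.ValuativeCriterion

set_option autoImplicit false
universe u
open CategoryTheory CategoryTheory.Limits AlgebraicGeometry
open Subtr

namespace Groth.Agent.S14768

open IsLocalRing in
/-- For a specialization `y' ⤳ y` in a scheme there is a valuation ring `A` and a morphism
`Spec A ⟶ Y` sending a point `η` to `y'` and the closed point to `y`, with `η ⤳ closedPoint`. -/
theorem exists_valuationRing_of_specializes {Y : Scheme.{u}} {y y' : Y} (h : y' ⤳ y) :
    ∃ (A : Type u) (_ : CommRing A) (_ : IsDomain A) (_ : ValuationRing A)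
      (g : Spec (CommRingCat.of A) ⟶ Y) (η : ↥(Spec (CommRingCat.of A))),
      η ⤳ closedPoint A ∧ g η = y' ∧ g (closedPoint A) = y := by
  let φ : Y.presheaf.stalk y ⟶ Y.residueField y' :=
    Y.presheaf.stalkSpecializes h ≫ Y.residue y'
  obtain ⟨A, hA, hA_local⟩ := exists_factor_valuationRing φ.hom
  let ψ : Y.presheaf.stalk y ⟶ .of A :=
    CommRingCat.ofHom (φ.hom.codRestrict _ hA)
  have w : Y.fromSpecResidueField y' =
      Spec.map (CommRingCat.ofHom (algebraMap A (Y.residueField y'))) ≫
        Spec.map ψ ≫ Y.fromSpecStalk y := by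
    rw [Scheme.fromSpecResidueField, ← Scheme.SpecMap_stalkSpecializes_fromSpecStalk h]
    simp_rw [← Spec.map_comp_assoc]
    rfl
  refine ⟨A, inferInstance, inferInstance, inferInstance, Spec.map ψ ≫ Y.fromSpecStalk y,
    Spec.map (CommRingCat.ofHom (algebraMap A (Y.residueField y')))
      (closedPoint (Y.residueField y')), specializes_closedPoint _, ?_, ?_⟩
  · have e1 : Y.fromSpecResidueField y' (closedPoint (Y.residueField y')) = y' :=
      Scheme.fromSpecResidueField_apply y' _
    rw [w] at e1
    exact e1
  · have : Spec.map ψ (closedPoint A) = closedPoint (Y.presheaf.stalk y) :=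
      comap_closedPoint (S := A) (φ.hom.codRestrict A.toSubring hA)
    change Y.fromSpecStalk y (Spec.map ψ (closedPoint A)) = y
    rw [this]
    exact Y.fromSpecStalk_closedPoint

/-- Let f : X ⟶ Y be any morphism of schemes. Then every base change of f has the lifting property for
ordered pairs of points if and only if this holds for the base changes X ×_Y Spec V ⟶ Spec V along
all morphisms Spec V ⟶ Y with V a valuation ring. (The published statement is about universally
subtrusive morphisms and assumes f universally submersive for the constructible topologies; the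
lifting property alone descends from valuation rings with the same proof, and for quasi-compact f
the two statements agree.) -/
theorem result {X Y : Scheme.{u}} (f : X ⟶ Y) :
    Subtr.UnivSSubtrusive f ↔
      ∀ (V : Type u) [CommRing V] [IsDomain V] [ValuationRing V] (g : Spec (CommRingCat.of V) ⟶ Y),
        Subtr.IsSSubtrusive (pullback.snd f g) := by
  constructor
  · intro hf V _ _ _ g
    exact hf (pullback.fst f g) g (pullback.snd f g) (IsPullback.of_hasPullback f g).flip
  · intro H X' Y' i₁ i₂ f' hpb y y' hyy'
    obtain ⟨A, _, _, _, g₀, η, hη, hgη, hgs⟩ := exists_valuationRing_of_specializes hyy'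
    obtain ⟨z, z', hzz', hz, hz'⟩ := H A (g₀ ≫ i₂) hη
    let l : pullback f (g₀ ≫ i₂) ⟶ X' :=
      hpb.lift (pullback.snd f (g₀ ≫ i₂) ≫ g₀) (pullback.fst f (g₀ ≫ i₂))
        (by rw [Category.assoc, ← pullback.condition])
    have hl : l ≫ f' = pullback.snd f (g₀ ≫ i₂) ≫ g₀ := hpb.lift_fst _ _ _
    refine ⟨l z, l z', hzz'.map l.continuous, ?_, ?_⟩
    · rw [← Scheme.Hom.comp_apply, hl, Scheme.Hom.comp_apply, hz, hgs]
    · rw [← Scheme.Hom.comp_apply, hl, Scheme.Hom.comp_apply, hz', hgη]

end Groth.Agent.S14768
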