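import Groth.Statements.S14769
import Groth.Agent.S14768
import Mathlib.RingTheory.Flat.TorsionFree
import Mathlib.RingTheory.Flat.FaithfullyFlat.Algebra
import Mathlib.AlgebraicGeometry.Morphisms.UnderlyingMap

set_option autoImplicit false
universe u
open CategoryTheory CategoryTheory.Limits AlgebraicGeometry
open Subtr

namespace Groth.Agent.S14769

/-- An injective local homomorphism from a valuation ring to a local domain induces a surjection
on prime spectra (it is faithfully flat). -/
theorem comap_surjective_of_valuationRing {V V' : Type u} [CommRing V] [IsDomain V]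
    [ValuationRing V] [CommRing V'] [IsDomain V'] [IsLocalRing V'] (β : V →+* V')
    (hinj : Function.Injective β) [hloc : IsLocalHom β] :
    Function.Surjective (PrimeSpectrum.comap β) := by
  algebraize [β]
  have hflat : Module.Flat V V' := by
    rw [Module.Flat.flat_iff_torsion_eq_bot_of_isBezout, eq_bot_iff]
    intro x hx
    obtain ⟨a, ha⟩ := (Submodule.mem_torsion_iff x).mp hx
    have ha0 : (a : V) ≠ 0 := nonZeroDivisors.ne_zero a.2
    have hβa : β (a : V) ≠ 0 := fun h => ha0 (hinj (h.trans (map_zero β).symm))
    have : β (a : V) * x = 0 := ha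
    rcases mul_eq_zero.mp this with h | h
    · exact absurd h hβa
    · simpa using h
  have hl : IsLocalHom (algebraMap V V') := hloc
  have := Module.FaithfullyFlat.of_flat_of_isLocalHom (A := V) (B := V')
  exact PrimeSpectrum.comap_surjective_of_faithfullyFlat

open IsLocalRing in
/-- A morphism between spectra of valuation rings hitting the generic point and mapping
the closed point to the closed point is surjective. -/
theorem surjective_of_valuationRing {V V' : Type u} [CommRing V] [IsDomain V]
    [ValuationRing V] [CommRing V'] [IsDomain V'] [ValuationRing V']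
    (b : Spec (CommRingCat.of V') ⟶ Spec (CommRingCat.of V))
    (η' : ↥(Spec (CommRingCat.of V')))
    (hη : b η' = (⟨⊥, Ideal.isPrime_bot⟩ : PrimeSpectrum V))
    (hs : b (closedPoint V') = closedPoint V) : Function.Surjective b := by
  obtain ⟨φ, rfl⟩ := Spec.map_surjective b
  have hinj : Function.Injective φ.hom := by
    rw [RingHom.injective_iff_ker_eq_bot, eq_bot_iff]
    intro x hx
    have hx' : x ∈ (PrimeSpectrum.comap φ.hom η').asIdeal := by
      change φ.hom x ∈ η'.asIdeal
      rw [RingHom.mem_ker.mp hx]
      exact η'.asIdeal.zero_mem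
    have : (PrimeSpectrum.comap φ.hom η') = (⟨⊥, Ideal.isPrime_bot⟩ : PrimeSpectrum V) := hη
    rw [this] at hx'
    exact hx'
  have hloc : IsLocalHom φ.hom := (isLocalHom_iff_comap_closedPoint φ.hom).mpr hs
  exact comap_surjective_of_valuationRing φ.hom hinj

/-- Let f : X ⟶ Y be any morphism of schemes. Then every base change of f has the lifting property for
ordered pairs of points if and only if, for every valuation ring V and morphism g : Spec V ⟶ Y,
there are a valuation ring V', a morphism a : Spec V' ⟶ X and a surjective morphism b : Spec V' ⟶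
Spec V with a ≫ f = b ≫ g. (The published statement assumes f universally submersive for the
constructible topologies and concludes universal subtrusiveness; for quasi-compact f the two agree.) -/
theorem result {X Y : Scheme.{u}} (f : X ⟶ Y) :
    Subtr.UnivSSubtrusive f ↔
      ∀ (V : Type u) [CommRing V] [IsDomain V] [ValuationRing V] (g : Spec (CommRingCat.of V) ⟶ Y),
        ∃ (V' : Type u) (_ : CommRing V') (_ : IsDomain V') (_ : ValuationRing V')
          (a : Spec (CommRingCat.of V') ⟶ X) (b : Spec (CommRingCat.of V') ⟶ Spec (CommRingCat.of V)),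
          Surjective b ∧ a ≫ f = b ≫ g := by
  constructor
  · intro hf V _ _ _ g
    have hS : Subtr.IsSSubtrusive (pullback.snd f g) :=
      (Groth.Agent.S14768.result f).mp hf V g
    let ηV : ↥(Spec (CommRingCat.of V)) := (⟨⊥, Ideal.isPrime_bot⟩ : PrimeSpectrum V)
    have hspec : ηV ⤳ (IsLocalRing.closedPoint V : PrimeSpectrum V) :=
      IsLocalRing.specializes_closedPoint _
    obtain ⟨z, z', hzz', hz, hz'⟩ := hS hspec
    obtain ⟨A, _, _, _, g', η', hη', hgη', hgs'⟩ :=
      Groth.Agent.S14768.exists_valuationRing_of_specializes hzz'
    refine ⟨A, inferInstance, inferInstance, inferInstance, g' ≫ pullback.fst f g,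
      g' ≫ pullback.snd f g, ⟨?_⟩, ?_⟩
    · refine surjective_of_valuationRing (g' ≫ pullback.snd f g) η' ?_ ?_
      · exact (congrArg (pullback.snd f g) hgη').trans hz'
      · exact (congrArg (pullback.snd f g) hgs').trans hz
    · rw [Category.assoc, Category.assoc, pullback.condition]
  · intro H
    rw [Groth.Agent.S14768.result f]
    intro V _ _ _ g y y' hyy'
    obtain ⟨V', _, _, _, a, b, hb, hab⟩ := H V g
    let c : Spec (CommRingCat.of V') ⟶ pullback f g := pullback.lift a b hab
    have hc : c ≫ pullback.snd f g = b := pullback.lift_snd _ _ _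
    obtain ⟨q, hq⟩ := hb.surj y
    obtain ⟨q', hq'⟩ := hb.surj y'
    have hcq : ∀ t, pullback.snd f g (c t) = b t := fun t => by
      rw [← Scheme.Hom.comp_apply, hc]
    rcases Std.Total.total (r := (· ≤ · : Ideal V' → Ideal V' → Prop))
      (q' : PrimeSpectrum V').asIdeal (q : PrimeSpectrum V').asIdeal with hle | hle
    · have hsp : q' ⤳ q := (PrimeSpectrum.le_iff_specializes (q' : PrimeSpectrum V') q).mp hle
      exact ⟨c q, c q', hsp.map c.continuous, (hcq q).trans hq, (hcq q').trans hq'⟩
    · have hsp : q ⤳ q' := (PrimeSpectrum.le_iff_specializes (q : PrimeSpectrum V') q').mp hle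
      have h2 : y ⤳ y' := by
        have := hsp.map b.continuous
        rwa [hq, hq'] at this
      have heq : y' = y := (hyy'.antisymm h2).eq
      exact ⟨c q, c q, specializes_rfl, (hcq q).trans hq, (hcq q).trans (hq.trans heq.symm)⟩

end Groth.Agent.S14769
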