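import Groth.Statements.S14766
import Mathlib.AlgebraicGeometry.Noetherian
import Mathlib.AlgebraicGeometry.Morphisms.QuasiCompact
import Mathlib.Topology.AlexandrovDiscrete

set_option autoImplicit false
universe u
open CategoryTheory CategoryTheory.Limits AlgebraicGeometry
open Subtr

namespace Groth.Agent.S14766

/-- Let V be a discrete valuation ring and f : X ⟶ Spec V any morphism of schemes. Then the underlying
continuous map of f is a quotient map (f is submersive) if and only if every ordered pair of points
of Spec V lifts to an ordered pair of points of X. -/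
theorem result (V : Type u) [CommRing V] [IsDomain V]
    [IsDiscreteValuationRing V] {X : Scheme.{u}} (f : X ⟶ Spec (CommRingCat.of V)) :
    Topology.IsQuotientMap f ↔ Subtr.IsSSubtrusive f := by
  classical
  -- classification of the points of `Spec V`
  let η : PrimeSpectrum V := ⟨⊥, Ideal.isPrime_bot⟩
  let s : PrimeSpectrum V := IsLocalRing.closedPoint V
  have hcls : ∀ z : PrimeSpectrum V, z = η ∨ z = s := by
    intro z
    by_cases hz : z.asIdeal = ⊥
    · left; exact PrimeSpectrum.ext hz
    · right
      have hmax : z.asIdeal.IsMaximal := IsPrime.to_maximal_ideal (hpi := z.isPrime) hz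
      exact PrimeSpectrum.ext (IsLocalRing.eq_maximalIdeal hmax)
  have hfin : Finite (PrimeSpectrum V) := by
    have hsub : (Set.univ : Set (PrimeSpectrum V)) ⊆ {η, s} := by
      intro z _
      rcases hcls z with h | h <;> simp [h]
    exact Set.finite_univ_iff.mp ((Set.toFinite _).subset hsub)
  have hfin' : Finite ↥(Spec (CommRingCat.of V)) := hfin
  constructor
  · intro hq y y' hyy'
    by_cases heq : y' = y
    · subst heq
      obtain ⟨x, rfl⟩ := hq.surjective y'
      exact ⟨x, x, specializes_rfl, rfl, rfl⟩
    · by_contra hcon
      push Not at hcon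
      have hy'C : y' ∉ closure ({y} : Set ↥(Spec (CommRingCat.of V))) := by
        intro h
        have h2 : y ⤳ y' := specializes_iff_mem_closure.mpr h
        exact heq ((hyy'.antisymm h2).eq)
      have hall : ∀ z : ↥(Spec (CommRingCat.of V)), z = y ∨ z = y' := by
        intro z
        rcases hcls z with hz | hz <;> rcases hcls y with hy | hy <;> rcases hcls y' with hy' | hy'
        all_goals first
          | (left; exact hz.trans hy.symm)
          | (right; exact hz.trans hy'.symm)
          | (exact absurd (hy'.trans hy.symm) heq)
      let U : (Spec (CommRingCat.of V)).Opens :=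
        ⟨(closure ({y} : Set ↥(Spec (CommRingCat.of V))))ᶜ, isClosed_closure.isOpen_compl⟩
      let W : X.Opens := f ⁻¹ᵁ U
      have hqc : QuasiCompact W.ι :=
        MorphismProperty.of_isPullback (P := @QuasiCompact) (isPullback_morphismRestrict f U)
          inferInstance
      have hstable : StableUnderSpecialization (Set.range W.ι) := by
        rw [Scheme.Opens.range_ι]
        intro x' x hxx' hx'
        change f x' ∈ (closure ({y} : Set ↥(Spec (CommRingCat.of V))))ᶜ at hx'
        change f x ∈ (closure ({y} : Set ↥(Spec (CommRingCat.of V))))ᶜ
        intro hx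
        have h1 : f x' = y' := by
          rcases hall (f x') with h | h
          · exact absurd (h.symm ▸ subset_closure (Set.mem_singleton y)) hx'
          · exact h
        have h2 : f x = y := by
          rcases hall (f x) with h | h
          · exact h
          · exact absurd (h ▸ hx) hy'C
        exact hcon x x' hxx' h2 h1
      have hclosedmap : IsClosedMap W.ι :=
        (isClosedMap_iff_specializingMap W.ι).mpr
          (W.ι.isOpenEmbedding.isInducing.specializingMap hstable)
      have hclosed : IsClosed (f ⁻¹' (closure ({y} : Set ↥(Spec (CommRingCat.of V))))ᶜ) := by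
        have := hclosedmap.isClosed_range
        rwa [Scheme.Opens.range_ι] at this
      have hopen : IsOpen (f ⁻¹' (closure ({y} : Set ↥(Spec (CommRingCat.of V))))) := by
        have := hclosed.isOpen_compl
        rwa [← Set.preimage_compl, compl_compl] at this
      have hCopen : IsOpen (closure ({y} : Set ↥(Spec (CommRingCat.of V)))) :=
        hq.isOpen_preimage.mp hopen
      exact hy'C (hyy'.mem_open hCopen (subset_closure (Set.mem_singleton y)))
  · intro hf
    rw [Topology.isQuotientMap_iff, Topology.isCoinducing_iff, and_comm]
    refine ⟨fun y => ?_, fun U => ⟨fun hU => ?_, fun hU => hU.preimage f.continuous⟩⟩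
    · obtain ⟨x, x', _, hx, _⟩ := hf (specializes_rfl : y ⤳ y)
      exact ⟨x, hx⟩
    · rw [isOpen_iff_forall_specializes]
      intro y' y hyy' hy
      obtain ⟨x, x', hxx', hx, hx'⟩ := hf hyy'
      have h1 : x ∈ f ⁻¹' U := by
        change f x ∈ U
        rw [hx]; exact hy
      have h2 : x' ∈ f ⁻¹' U := hxx'.mem_open hU h1
      change f x' ∈ U at h2
      rwa [hx'] at h2

end Groth.Agent.S14766
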