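import Groth.Statements.S14767
import Groth.Agent.S14768
import Mathlib

set_option autoImplicit false
universe u
open CategoryTheory CategoryTheory.Limits AlgebraicGeometry
open Subtr

namespace Groth.Agent.S14767

section Aux
open TopologicalSpace

/-- affine source and target -/
theorem isClosed_image_spec {R S : CommRingCat.{u}} (f : Spec R ⟶ Spec S) (Z : Set ↥(Spec R))
    (hZ : IsClosed Z) (H : StableUnderSpecialization (f '' Z)) : IsClosed (f '' Z) := by
  obtain ⟨φ, rfl⟩ := Spec.homEquiv.symm.surjective f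
  exact PrimeSpectrum.isClosed_image_of_stableUnderSpecialization φ.hom Z hZ H

/-- affine target -/
theorem isClosed_image_of_isAffine {X Y : Scheme.{u}} [IsAffine Y] (f : X ⟶ Y) [QuasiCompact f]
    (Z : Set ↥X) (hZ : IsClosed Z) (H : StableUnderSpecialization (f '' Z)) : IsClosed (f '' Z) := by
  obtain ⟨R, g, hg⟩ := compactSpace_iff_exists.mp (QuasiCompact.compactSpace_of_compactSpace f)
  let e := Y.isoSpec
  have he : Topology.IsClosedEmbedding e.hom := (e.hom.homeomorph).isClosedEmbedding
  have key : (g ≫ f ≫ e.hom) '' (g ⁻¹' Z) = e.hom '' (f '' Z) := by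
    ext y
    simp only [Set.mem_image, Set.mem_preimage, Scheme.Hom.comp_apply]
    constructor
    · rintro ⟨x, hx, rfl⟩
      exact ⟨f (g x), ⟨g x, hx, rfl⟩, rfl⟩
    · rintro ⟨_, ⟨x, hx, rfl⟩, rfl⟩
      obtain ⟨x', rfl⟩ := hg x
      exact ⟨x', hx, rfl⟩
  have hst : StableUnderSpecialization (e.hom '' (f '' Z)) := by
    rintro _ y' hs ⟨y, hy, rfl⟩
    have h1 : e.inv (e.hom y) ⤳ e.inv y' := hs.map e.inv.continuous
    have h2 : e.inv (e.hom y) = y := by
      rw [← Scheme.Hom.comp_apply, e.hom_inv_id]; rfl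
    rw [h2] at h1
    refine ⟨e.inv y', H h1 hy, ?_⟩
    rw [← Scheme.Hom.comp_apply, e.inv_hom_id]; rfl
  have h3 : IsClosed (e.hom '' (f '' Z)) := by
    rw [← key]
    exact isClosed_image_spec _ _ (hZ.preimage g.continuous) (by rw [key]; exact hst)
  have h4 : f '' Z = e.hom ⁻¹' (e.hom '' (f '' Z)) :=
    (Set.preimage_image_eq _ he.injective).symm
  rw [h4]
  exact h3.preimage e.hom.continuous

/-- the image of a closed set under a quasi-compact morphism is closed as soon as it is stable
under specialization -/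
theorem isClosed_image_of_stable {X Y : Scheme.{u}} (f : X ⟶ Y) [QuasiCompact f]
    (Z : Set ↥X) (hZ : IsClosed Z) (H : StableUnderSpecialization (f '' Z)) : IsClosed (f '' Z) := by
  rw [(Y.affineCover.isOpenCover_opensRange).isClosed_iff_coe_preimage]
  intro i
  let U : Y.Opens := (Y.affineCover.f i).opensRange
  haveI : IsAffine (U : Scheme.{u}) := isAffineOpen_opensRange (Y.affineCover.f i)
  have key : ((↑) ⁻¹' (f '' Z) : Set ↥U) = (f ∣_ U) '' ((↑) ⁻¹' Z : Set ↥(f ⁻¹ᵁ U)) := by
    ext y
    simp only [Set.mem_preimage, Set.mem_image]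
    constructor
    · rintro ⟨x, hx, hxy⟩
      have hxU : x ∈ f ⁻¹ᵁ U := by
        change f x ∈ U
        rw [hxy]; exact y.2
      refine ⟨⟨x, hxU⟩, hx, ?_⟩
      apply Subtype.ext
      rw [morphismRestrict_base_coe]
      exact hxy
    · rintro ⟨x, hx, rfl⟩
      exact ⟨x.1, hx, (morphismRestrict_base_coe f U x).symm⟩
  rw [key]
  apply isClosed_image_of_isAffine
  · exact hZ.preimage continuous_subtype_val
  · rw [← key]
    intro a b hab ha
    exact H (hab.map continuous_subtype_val) ha

end Aux


/-- Let f : X ⟶ Y be a quasi-compact morphism of schemes. Then f is universally submersive if and only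
if, for every valuation ring V and every morphism Spec V ⟶ Y, the base change X ×_Y Spec V ⟶ Spec V
is submersive (its underlying continuous map is a quotient map). (The published statement asks
instead that f be universally submersive for the constructible topologies, which holds for
quasi-compact surjective morphisms; both sides here force f to be surjective.) -/
theorem result {X Y : Scheme.{u}} (f : X ⟶ Y) [QuasiCompact f] :
    SGA1.UnivSubmersive f ↔
      ∀ (V : Type u) [CommRing V] [IsDomain V] [ValuationRing V] (g : Spec (CommRingCat.of V) ⟶ Y),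
        Topology.IsQuotientMap (pullback.snd f g) := by
  constructor
  · intro hf V _ _ _ g
    exact hf (pullback.fst f g) g (pullback.snd f g) (IsPullback.of_hasPullback f g).flip
  · intro H X' Y' i₁ i₂ f' hpb
    change Topology.IsQuotientMap ⇑f'
    haveI : QuasiCompact f' := MorphismProperty.of_isPullback (P := @QuasiCompact) hpb.flip inferInstance
    -- lifts from base changes to valuation rings
    have lift : ∀ (W : Scheme.{u}) (g₀ : W ⟶ Y'),
        ∃ l : pullback f (g₀ ≫ i₂) ⟶ X', l ≫ f' = pullback.snd f (g₀ ≫ i₂) ≫ g₀ := by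
      intro W g₀
      exact ⟨hpb.lift (pullback.snd f (g₀ ≫ i₂) ≫ g₀) (pullback.fst f (g₀ ≫ i₂))
        (by rw [Category.assoc, ← pullback.condition]), hpb.lift_fst _ _ _⟩
    have hsurj : Function.Surjective ⇑f' := by
      intro y
      obtain ⟨l, hl⟩ := lift _ (Y'.fromSpecResidueField y)
      have hq := @H (Y'.residueField y) Field.toCommRing Field.isDomain inferInstance
        (Y'.fromSpecResidueField y ≫ i₂)
      obtain ⟨z, hz⟩ := hq.surjective (IsLocalRing.closedPoint (Y'.residueField y))
      refine ⟨l z, ?_⟩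
      rw [← Scheme.Hom.comp_apply, hl, Scheme.Hom.comp_apply]
      exact Scheme.fromSpecResidueField_apply y _
    rw [Topology.isQuotientMap_iff_isClosed]
    refine ⟨hsurj, fun s => ⟨fun hs => hs.preimage f'.continuous, fun hsc => ?_⟩⟩
    have himg : f' '' (f' ⁻¹' s) = s := Set.image_preimage_eq s hsurj
    rw [← himg]
    apply isClosed_image_of_stable f' _ hsc
    rw [himg]
    intro z y hzy hz
    obtain ⟨V, _, _, _, g₀, η, hη, hgη, hgs⟩ := Groth.Agent.S14768.exists_valuationRing_of_specializes hzy
    obtain ⟨l, hl⟩ := lift _ g₀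
    have hq := H V (g₀ ≫ i₂)
    have hcl : IsClosed (⇑g₀ ⁻¹' s) := by
      rw [← hq.isClosed_preimage]
      have e : ⇑(pullback.snd f (g₀ ≫ i₂)) ⁻¹' (⇑g₀ ⁻¹' s) = ⇑l ⁻¹' (⇑f' ⁻¹' s) := by
        ext w
        simp only [Set.mem_preimage]
        rw [← Scheme.Hom.comp_apply, ← Scheme.Hom.comp_apply, hl]
      rw [e]
      exact hsc.preimage l.continuous
    have h1 : η ∈ ⇑g₀ ⁻¹' s := by
      change g₀ η ∈ s
      rw [hgη]; exact hz
    have h2 : IsLocalRing.closedPoint V ∈ ⇑g₀ ⁻¹' s := hη.mem_closed hcl h1
    change g₀ (IsLocalRing.closedPoint V) ∈ s at h2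
    rwa [hgs] at h2

end Groth.Agent.S14767
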