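import Groth.Statements.S3420
-- import your own Groth.Agent.* helpers here
import Groth.Agent.Lib.Helper9.SecOpen3
import Groth.Agent.Lib.Helper9.SecNbhd3
import Groth.Agent.Lib.Helper9.SecSpread5

set_option autoImplicit false
set_option linter.style.haveILetI false
set_option backward.isDefEq.respectTransparency false
open CategoryTheory AlgebraicGeometry
universe u
open EGA43

namespace Groth.Agent.S3420

/-- Let Y be locally Noetherian, f : X ⟶ Y locally of finite type, g a section of f, X⁰_y the connected
component of f⁻¹(y) containing g(y) and X⁰ the union of the X⁰_y. If y is a point such that the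
fibre over y is geometrically reduced at every point of X⁰_y and f is universally open at every
point of X⁰_y, then X⁰ is a neighbourhood of X⁰_y in X. In particular, if f is universally open and
every fibre is geometrically reduced at the points of X⁰, then X⁰ is open in X. -/
theorem result {X Y : Scheme.{u}} [IsLocallyNoetherian Y] (f : X ⟶ Y)
    [LocallyOfFiniteType f] (g : Y ⟶ X) (hg : g ≫ f = 𝟙 Y) :
    (∀ y : Y, (∀ x ∈ connectedComponentIn (f.base ⁻¹' {y}) (g.base y), EGA43.IsUnivOpenAt f x ∧
        FBase.IsGeomReducedAt (f.fiberToSpecResidueField (f.base x)) (f.asFiber x)) →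
      connectedComponentIn (f.base ⁻¹' {y}) (g.base y) ⊆ interior (MoreMor.sectionComponents f g)) ∧
    (UniversallyOpen f → (∀ x ∈ MoreMor.sectionComponents f g,
        FBase.IsGeomReducedAt (f.fiberToSpecResidueField (f.base x)) (f.asFiber x)) →
      IsOpen (MoreMor.sectionComponents f g)) := by
  classical
  haveI : IsLocallyNoetherian X := LocallyOfFiniteType.isLocallyNoetherian f
  -- the first assertion
  have key : ∀ y : Y, (∀ x ∈ connectedComponentIn (f.base ⁻¹' {y}) (g.base y),
      EGA43.IsUnivOpenAt f x ∧
        FBase.IsGeomReducedAt (f.fiberToSpecResidueField (f.base x)) (f.asFiber x)) →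
      connectedComponentIn (f.base ⁻¹' {y}) (g.base y) ⊆
        interior (MoreMor.sectionComponents f g) := by
    intro y hy x hx
    rw [mem_interior_iff_mem_nhds]
    obtain ⟨_, ⟨O, hOaff : IsAffineOpen O, rfl⟩, hxO, -⟩ :=
      X.isBasis_affineOpens.exists_subset_of_mem_open (Set.mem_univ x) isOpen_univ
    haveI : IsNoetherianRing Γ(X, O) := IsLocallyNoetherian.component_noetherian ⟨O, hOaff⟩
    haveI : TopologicalSpace.NoetherianSpace ↥O := noetherianSpace_of_isAffineOpen O hOaff
    have hemb : Topology.IsOpenEmbedding (Subtype.val : ↥O → X) :=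
      O.isOpen.isOpenEmbedding_subtypeVal
    haveI : QuasiSober ↥O := hemb.quasiSober
    have h1 : (Subtype.val ⁻¹' (MoreMor.sectionComponents f g) : Set ↥O) ∈
        nhds (⟨x, hxO⟩ : ↥O) := by
      apply Groth.Agent.Lib.helper9.SecOpen.mem_nhds_of_forall_irreducible
      intro Z hZ hZirr hxZ
      obtain ⟨ζ', hζ'⟩ := QuasiSober.sober hZirr hZ
      have hζ'x : ζ' ⤳ (⟨x, hxO⟩ : ↥O) := by
        rw [specializes_iff_mem_closure, hζ'.def]
        exact hxZ
      have hζx : (ζ' : X) ⤳ x := hζ'x.map continuous_subtype_val
      have hζE : (ζ' : X) ∈ MoreMor.sectionComponents f g :=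
        Groth.Agent.Lib.helper9.SecNbhd.mem_sectionComponents_of_specializes f g hg y hy x ζ'
          hx hζx
      obtain ⟨G, hG, hζG, hGE⟩ :=
        Groth.Agent.Lib.helper9.SecSpread.spread f g hg (ζ' : X) hζE
      refine ⟨Subtype.val ⁻¹' G, hG.preimage continuous_subtype_val, ⟨ζ', hζG, hζ'.mem⟩, ?_⟩
      rintro t ⟨htG, htZ⟩
      have hζ't : ζ' ⤳ t := by
        rw [specializes_iff_mem_closure, hζ'.def]
        exact htZ
      have hsp : (ζ' : X) ⤳ (t : X) := hζ't.map continuous_subtype_val
      exact hGE ⟨htG, specializes_iff_mem_closure.mp hsp⟩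
    have h2 := hemb.map_nhds_eq ⟨x, hxO⟩
    change Filter.map _ _ = nhds x at h2
    rw [← h2]
    exact h1
  refine ⟨key, ?_⟩
  intro huo hred
  rw [← interior_eq_iff_isOpen]
  apply le_antisymm interior_subset
  intro x hx
  have hmem : x ∈ connectedComponentIn (f.base ⁻¹' {f.base x}) (g.base (f.base x)) := hx
  refine key (f.base x) ?_ hmem
  intro t ht
  have hft : f.base t = f.base x := connectedComponentIn_subset (f.base ⁻¹' {f.base x}) _ ht
  have ht0 : t ∈ MoreMor.sectionComponents f g := by
    change t ∈ connectedComponentIn (f.base ⁻¹' {f.base t}) (g.base (f.base t))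
    rw [hft]
    exact ht
  refine ⟨?_, hred t ht0⟩
  intro Y' g' x'' _ U hU
  exact (Limits.pullback.snd f g').isOpenMap.image_mem_nhds hU

end Groth.Agent.S3420
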