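import Groth.Statements.S3031
import Groth.Agent.Lib.Helper5.GrpConnSub

set_option autoImplicit false
universe u
open CategoryTheory MonoidalCategory CartesianMonoidalCategory MonObj GrpObj AlgebraicGeometry TensorProduct
open SGA3

namespace Groth.Agent.S3031

/-- With X connected and possessing a rational point over the identity, a case of 'geometrically
connected with e ∈ f(X)': let G be a group scheme over a field k, X a connected, geometrically
reduced k-scheme, x a k-point of X and f : X → G a k-morphism with f(x) the identity. Then the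
smallest closed subgroup scheme of G through which f factors is connected. -/
theorem result (k : Type u) [Field k] (G X : Over (Spec (CommRingCat.of k))) [GrpObj G]
    [GeometricallyReduced X.hom] [ConnectedSpace X.left] (x : 𝟙_ (Over (Spec (CommRingCat.of k))) ⟶ X) (f : X ⟶ G)
    (hx : x ≫ f = η[G])
    (Γ : Over (Spec (CommRingCat.of k))) [GrpObj Γ] (i : Γ ⟶ G) [IsMonHom i] [IsClosedImmersion i.left]
    (hf : ∃ f' : X ⟶ Γ, f' ≫ i = f)
    (hmin : ∀ (Γ' : Over (Spec (CommRingCat.of k))) (_ : GrpObj Γ') (i' : Γ' ⟶ G), IsMonHom i' → IsClosedImmersion i'.left →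
        (∃ f'' : X ⟶ Γ', f'' ≫ i' = f) → ∃ j : Γ ⟶ Γ', j ≫ i' = i) :
    ConnectedSpace Γ.left := by
  obtain ⟨f', hf'⟩ := hf
  haveI : Mono i.left := inferInstance
  haveI : Mono i := Over.mono_of_mono_left _
  -- the lift `f'` sends the rational point to the unit of `Γ`
  have hxf' : x ≫ f' = η[Γ] := by
    rw [← cancel_mono i, Category.assoc, hf', hx, IsMonHom.one_hom]
  -- the identity component of `Γ`
  obtain ⟨str, hmon⟩ := Groth.Agent.Lib.helper5.GrpConnSub.exists_grpObj_G0 Γ
  letI := str
  haveI := hmon
  have hrange := Groth.Agent.Lib.helper5.GrpConnSub.range_i0 Γ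
  -- `f'` lands in the identity component
  have hsub : Set.range f'.left ⊆ Set.range (Groth.Agent.Lib.helper5.GrpConnSub.i0 Γ).left := by
    rw [hrange]
    have hpre : _root_.IsPreconnected (Set.range f'.left) :=
      isPreconnected_range (Scheme.Hom.continuous _)
    apply hpre.subset_connectedComponent
    refine ⟨x.left (IsLocalRing.closedPoint k), ?_⟩
    rw [← Scheme.Hom.comp_apply, ← Over.comp_left, hxf']
    rfl
  obtain ⟨f'', hf''⟩ := Groth.Agent.Lib.helper5.GrpConnSub.exists_lift_i0 Γ X f' hsub
  haveI : IsClosedImmersion (Groth.Agent.Lib.helper5.GrpConnSub.i0 Γ).left :=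
    inferInstanceAs (IsClosedImmersion (Groth.Agent.Lib.helper5.GrpConnSub.qcι Γ.left _))
  obtain ⟨j, hj⟩ := hmin (Groth.Agent.Lib.helper5.GrpConnSub.G0 Γ) str
    (Groth.Agent.Lib.helper5.GrpConnSub.i0 Γ ≫ i) inferInstance
    (by rw [Over.comp_left]; infer_instance)
    ⟨f'', by rw [← Category.assoc, hf'', hf']⟩
  have hj' : j ≫ Groth.Agent.Lib.helper5.GrpConnSub.i0 Γ = 𝟙 Γ := by
    rw [← cancel_mono i, Category.assoc, hj, Category.id_comp]
  have huniv : connectedComponent (Groth.Agent.Lib.helper3.GrpIrr.e Γ) = Set.univ := by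
    rw [← hrange]
    apply Set.eq_univ_of_forall
    intro y
    refine ⟨j.left y, ?_⟩
    rw [← Scheme.Hom.comp_apply, ← Over.comp_left, hj']
    rfl
  exact { toPreconnectedSpace := ⟨by rw [← huniv]; exact isPreconnected_connectedComponent⟩
          toNonempty := ⟨Groth.Agent.Lib.helper3.GrpIrr.e Γ⟩ }

end Groth.Agent.S3031
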