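import Groth.Statements.S9426
import Mathlib.RingTheory.Kaehler.Basic
import Mathlib.RingTheory.Derivation.ToSquareZero
import Mathlib.Algebra.Module.Torsion.Basic
import Mathlib.RingTheory.TensorProduct.Basic
-- import your own Groth.Agent.* helpers here

set_option autoImplicit false
universe u
open OmegaSh

namespace Groth.Agent.S9426

open TensorProduct KaehlerDifferential in
theorem key {R : Type u} [CommRing R] {P S : Type u} [CommRing P] [CommRing S] [Algebra R P]
    [Algebra R S] [Algebra P S] [IsScalarTower R P S]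
    (x y : P) (hxy : (1 : S) ⊗ₜ[P] KaehlerDifferential.D R P x = (1 : S) ⊗ₜ[P] KaehlerDifferential.D R P y)
    {A : Type u} [CommRing A] [Algebra R A] (I : Ideal A) (hI : I ^ 2 = ⊥) (a : S →ₐ[R] A ⧸ I)
    (α β : P →ₐ[R] A)
    (hα : (Ideal.Quotient.mkₐ R I).comp α = a.comp (IsScalarTower.toAlgHom R P S))
    (hβ : (Ideal.Quotient.mkₐ R I).comp β = a.comp (IsScalarTower.toAlgHom R P S)) :
    α x - β x = α y - β y := by
  let _ : Algebra P A := β.toRingHom.toAlgebra
  have : IsScalarTower R P A := IsScalarTower.of_algebraMap_eq (fun r => (β.commutes r).symm)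
  have e : (Ideal.Quotient.mkₐ R I).comp α = IsScalarTower.toAlgHom R P (A ⧸ I) := by
    rw [hα, ← hβ]
    ext p
    rfl
  let D := derivationToSquareZeroOfLift I hI α e
  have hD : ∀ p : P, (D p : A) = α p - β p := fun p => rfl
  have htor : Module.IsTorsionBySet A I I := by
    intro i j
    ext
    have : (j : A) * (i : A) ∈ I ^ 2 := by
      rw [pow_two]; exact Ideal.mul_mem_mul j.2 i.2
    rw [hI] at this
    simpa using this
  let _ : Module (A ⧸ I) I := htor.module
  let _ : Module S I := Module.compHom I a.toRingHom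
  have hsmul : ∀ (s : S) (i : I), s • i = a s • i := fun s i => rfl
  have hmk : ∀ (b : A) (i : I), (Ideal.Quotient.mk I b) • i = b • i := fun b i => rfl
  have : IsScalarTower P S I := by
    constructor
    intro p s i
    rw [hsmul, Algebra.smul_def, map_mul, mul_smul]
    have : a (algebraMap P S p) = Ideal.Quotient.mk I (β p) := by
      have := AlgHom.congr_fun hβ p
      exact this.symm
    rw [this, hmk, ← hsmul]
    rfl
  let ψ : S ⊗[P] Ω[P⁄R] →ₗ[S] I := D.liftKaehlerDifferential.liftBaseChange S
  have h := congrArg ψ hxy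
  simp only [ψ, LinearMap.liftBaseChange_tmul, one_smul, Derivation.liftKaehlerDifferential_comp_D] at h
  have := congrArg (Subtype.val) h
  rwa [hD, hD] at this


open TensorProduct KaehlerDifferential in
theorem main (R : Type u) [CommRing R]
    (S : Type u) [CommRing S] [Algebra R S] [Algebra.FormallyUnramified R S] :
    ∃ (S' : Type u) (_ : CommRing S') (_ : Algebra R S') (π : S' →ₐ[R] S),
      Function.Surjective π ∧ RingHom.ker π.toRingHom ^ 2 = ⊥ ∧
    ∀ (A : Type u) [CommRing A] [Algebra R A] (I : Ideal A), I ^ 2 = ⊥ →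
      ∀ a : S →ₐ[R] A ⧸ I, ∃! a' : S' →ₐ[R] A, (Ideal.Quotient.mkₐ R I).comp a' = a.comp π := by
  classical
  let P := MvPolynomial S R
  let φ : P →ₐ[R] S := MvPolynomial.aeval id
  have hφ : Function.Surjective φ := fun s => ⟨MvPolynomial.X s, MvPolynomial.aeval_X id s⟩
  let _ : Algebra P S := φ.toRingHom.toAlgebra
  have : IsScalarTower R P S := IsScalarTower.of_algebraMap_eq (fun r => (φ.commutes r).symm)
  have hsurj : Function.Surjective (algebraMap P S) := hφ
  have hφX : ∀ s : S, algebraMap P S (MvPolynomial.X s) = s := fun s => by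
    exact MvPolynomial.aeval_X id s
  have hex := KaehlerDifferential.exact_kerCotangentToTensor_mapBaseChange R P S hsurj
  have hf : ∀ s : S, ∃ f : P, f ∈ RingHom.ker (algebraMap P S) ∧
      (1 : S) ⊗ₜ[P] D R P f = 1 ⊗ₜ D R P (MvPolynomial.X s) := by
    intro s
    have : KaehlerDifferential.mapBaseChange R P S (1 ⊗ₜ D R P (MvPolynomial.X s)) = 0 :=
      Subsingleton.elim _ _
    obtain ⟨c, hc⟩ := (hex _).mp this
    obtain ⟨f, rfl⟩ := Ideal.toCotangent_surjective _ c
    exact ⟨f.1, f.2, by rw [← hc]; rfl⟩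
  choose f hfJ hfd using hf
  let J : Ideal P := RingHom.ker (algebraMap P S)
  let K : Ideal P := J ^ 2 ⊔ Ideal.span (Set.range f)
  have hKJ : K ≤ J := sup_le (Ideal.pow_le_self two_ne_zero)
    (Ideal.span_le.mpr (by rintro _ ⟨s, rfl⟩; exact hfJ s))
  have hfK : ∀ s, f s ∈ K := fun s =>
    Ideal.mem_sup_right (Ideal.subset_span ⟨s, rfl⟩)
  let π : P ⧸ K →ₐ[R] S := Ideal.Quotient.liftₐ K (IsScalarTower.toAlgHom R P S)
    (fun x hx => hKJ hx)
  have hπ : ∀ p : P, π (Ideal.Quotient.mk K p) = algebraMap P S p := fun p => rfl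
  refine ⟨P ⧸ K, inferInstance, inferInstance, π, ?_, ?_, ?_⟩
  · intro s
    obtain ⟨p, rfl⟩ := hsurj s
    exact ⟨Ideal.Quotient.mk K p, hπ p⟩
  · have h1 : RingHom.ker π.toRingHom ≤ J.map (Ideal.Quotient.mk K) := by
      intro x hx
      obtain ⟨p, rfl⟩ := Ideal.Quotient.mk_surjective x
      have : algebraMap P S p = 0 := hx
      exact Ideal.mem_map_of_mem _ this
    rw [eq_bot_iff]
    calc RingHom.ker π.toRingHom ^ 2 ≤ (J.map (Ideal.Quotient.mk K)) ^ 2 := Ideal.pow_right_mono h1 2
      _ = (J ^ 2).map (Ideal.Quotient.mk K) := (Ideal.map_pow _ _ _).symm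
      _ ≤ K.map (Ideal.Quotient.mk K) := Ideal.map_mono le_sup_left
      _ = ⊥ := Ideal.map_quotient_self K
  · intro A _ _ I hI a
    -- a first lift
    have hg : ∀ s : S, ∃ b : A, Ideal.Quotient.mk I b = a s := fun s =>
      Ideal.Quotient.mk_surjective (a s)
    choose g hg using hg
    let α₀ : P →ₐ[R] A := MvPolynomial.aeval g
    have hα₀X : ∀ s, α₀ (MvPolynomial.X s) = g s := fun s => MvPolynomial.aeval_X _ s
    have hα₀ : (Ideal.Quotient.mkₐ R I).comp α₀ = a.comp (IsScalarTower.toAlgHom R P S) := by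
      apply MvPolynomial.algHom_ext
      intro s
      have h1 : IsScalarTower.toAlgHom R P S (MvPolynomial.X s) = s := hφX s
      simp only [AlgHom.comp_apply, hα₀X, Ideal.Quotient.mkₐ_eq_mk, hg, h1]
    have hα₀f : ∀ s, α₀ (f s) ∈ I := by
      intro s
      rw [← Ideal.Quotient.eq_zero_iff_mem]
      have := AlgHom.congr_fun hα₀ (f s)
      simp only [AlgHom.comp_apply, Ideal.Quotient.mkₐ_eq_mk, IsScalarTower.coe_toAlgHom'] at this
      rw [this, RingHom.mem_ker.mp (hfJ s), map_zero]
    let α : P →ₐ[R] A := MvPolynomial.aeval (fun s => g s - α₀ (f s))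
    have hαX : ∀ s, α (MvPolynomial.X s) = g s - α₀ (f s) := fun s => MvPolynomial.aeval_X _ s
    have hα : (Ideal.Quotient.mkₐ R I).comp α = a.comp (IsScalarTower.toAlgHom R P S) := by
      apply MvPolynomial.algHom_ext
      intro s
      have h1 : IsScalarTower.toAlgHom R P S (MvPolynomial.X s) = s := hφX s
      simp only [AlgHom.comp_apply, hαX, Ideal.Quotient.mkₐ_eq_mk, map_sub, hg,
        h1, Ideal.Quotient.eq_zero_iff_mem.mpr (hα₀f s), sub_zero]
    have hαf : ∀ s, α (f s) = 0 := by
      intro s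
      have := key (f s) (MvPolynomial.X s) (hfd s) I hI a α α₀ hα hα₀
      rw [hαX, hα₀X] at this
      linear_combination this
    have hαJ : ∀ p ∈ J, α p ∈ I := by
      intro p hp
      rw [← Ideal.Quotient.eq_zero_iff_mem]
      have := AlgHom.congr_fun hα p
      simp only [AlgHom.comp_apply, Ideal.Quotient.mkₐ_eq_mk, IsScalarTower.coe_toAlgHom'] at this
      rw [this, RingHom.mem_ker.mp hp, map_zero]
    have hαK : ∀ p ∈ K, α p = 0 := by
      have : K ≤ RingHom.ker α.toRingHom := by
        refine sup_le ?_ (Ideal.span_le.mpr ?_)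
        · have hJI : J ≤ I.comap α.toRingHom := fun p hp => hαJ p hp
          calc J ^ 2 ≤ (I.comap α.toRingHom) ^ 2 := Ideal.pow_right_mono hJI 2
            _ ≤ (I ^ 2).comap α.toRingHom := Ideal.le_comap_pow _ 2
            _ = RingHom.ker α.toRingHom := by rw [hI]; rfl
        · rintro _ ⟨s, rfl⟩
          exact hαf s
      exact fun p hp => this hp
    let α' : P ⧸ K →ₐ[R] A := Ideal.Quotient.liftₐ K α hαK
    have hα' : ∀ p : P, α' (Ideal.Quotient.mk K p) = α p := fun p => rfl
    refine ⟨α', ?_, ?_⟩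
    · apply AlgHom.ext
      intro x
      obtain ⟨p, rfl⟩ := Ideal.Quotient.mk_surjective x
      simp only [AlgHom.comp_apply, hα', hπ]
      exact AlgHom.congr_fun hα p
    · intro β' hβ'
      let β : P →ₐ[R] A := β'.comp (Ideal.Quotient.mkₐ R K)
      have hβ : (Ideal.Quotient.mkₐ R I).comp β = a.comp (IsScalarTower.toAlgHom R P S) := by
        apply AlgHom.ext
        intro p
        have := AlgHom.congr_fun hβ' (Ideal.Quotient.mk K p)
        simpa [β, hπ] using this
      have hβf : ∀ s, β (f s) = 0 := by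
        intro s
        simp only [β, AlgHom.comp_apply, Ideal.Quotient.mkₐ_eq_mk]
        rw [Ideal.Quotient.eq_zero_iff_mem.mpr (hfK s), map_zero]
      have hβα : β = α := by
        apply MvPolynomial.algHom_ext
        intro s
        have := key (f s) (MvPolynomial.X s) (hfd s) I hI a β α hβ hα
        rw [hβf, hαf, sub_self] at this
        exact (sub_eq_zero.mp this.symm)
      apply AlgHom.ext
      intro x
      obtain ⟨p, rfl⟩ := Ideal.Quotient.mk_surjective x
      rw [hα']
      exact AlgHom.congr_fun hβα p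


/-- A formally unramified R-algebra S admits a universal first order thickening: an R-algebra surjection
S' → S with square-zero kernel through which every R-algebra map from S into a square-zero quotient
A/I lifts uniquely to A. -/
theorem result (R : Type u) [CommRing R]
    (S : Type u) [CommRing S] [Algebra R S] [Algebra.FormallyUnramified R S] :
    ∃ (S' : Type u) (_ : CommRing S') (_ : Algebra R S') (π : S' →ₐ[R] S),
      OmegaSh.IsUnivThickeningRing R S S' π := by
  obtain ⟨S', i1, i2, π, h⟩ := main R S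
  exact ⟨S', i1, i2, π, h⟩


end Groth.Agent.S9426
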