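import Groth.Statements.S1488
import Groth.Agent.S7779
import Groth.Agent.Lib.Helper7.InfLiftSmooth
import Groth.Agent.Lib.Helper7.FSmoothHom

set_option autoImplicit false
universe u
open FlatMor

namespace Groth.Agent.S1488

open AlgebraicGeometry CategoryTheory Limits in
/-- A morphism f : X → S is smooth if and only if it is locally of finite presentation and formally
smooth, i.e. has the lifting property against first order thickenings of affine schemes (rings in
the same universe). -/
theorem result {X S : Scheme.{u}} (f : X ⟶ S) :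
    Smooth f ↔ LocallyOfFinitePresentation f ∧ MoreMor.IsFormallySmoothHom f := by
  constructor
  · intro hf
    refine ⟨inferInstance, ?_⟩
    intro A _ I hI a b w
    have hi := Groth.Agent.Lib.Helper5.FormallyEtale.thickening_Spec A I hI
    have hci : IsClosedImmersion (Spec.map (CommRingCat.ofHom (Ideal.Quotient.mk I))) := hi.1.1
    have hsq : ∀ (U : (Spec (CommRingCat.of A)).affineOpens)
        (x y : Γ(Spec (CommRingCat.of A), U.1)),
        x ∈ RingHom.ker ((Spec.map (CommRingCat.ofHom (Ideal.Quotient.mk I))).app U.1).hom →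
        y ∈ RingHom.ker ((Spec.map (CommRingCat.ofHom (Ideal.Quotient.mk I))).app U.1).hom →
          x * y = 0 := by
      intro U x y hx hy
      have h1 := Groth.Agent.Lib.helper7.UnivThick.ker_app_mul_self _ hi U.1 U.2
      have h2 := Ideal.mul_mem_mul hx hy
      rw [h1] at h2
      exact h2
    choose D bx hxD hb1 hb2 using
      Groth.Agent.Lib.helper7.InfLiftSmooth.exists_local_lift f _ hi a b w
    have hcov : iSup D = ⊤ := by
      rw [eq_top_iff]
      intro x _
      exact TopologicalSpace.Opens.mem_iSup.mpr ⟨x, hxD x⟩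
    obtain ⟨l, hl1, hl2⟩ := Groth.Agent.S7779.result f
      (Spec.map (CommRingCat.ofHom (Ideal.Quotient.mk I))) hsq b a w.symm _ D hcov bx hb1 hb2
    exact ⟨l, hl2, hl1⟩
  · rintro ⟨hlfp, hfs⟩
    refine ⟨fun {U} hU {V} hV e => ?_⟩
    letI := (f.appLE U V e).hom.toAlgebra
    exact ⟨Groth.Agent.Lib.helper7.FSmoothHom.formallySmooth_appLE f hfs hV hU e,
      Scheme.Hom.finitePresentation_appLE f hU hV e⟩

end Groth.Agent.S1488
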