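import Groth.Statements.S13607
import Mathlib
-- import your own Groth.Agent.* helpers here

set_option autoImplicit false
open CategoryTheory CategoryTheory.Limits Opposite
universe w v u
open ARSys

namespace Groth.Agent.S13607

/-- In an abelian category linear over a commutative ring A with an ideal J, let X be a J-adic
projective system indexed by the natural numbers and Y a projective system whose n-th term is killed
by J^(n+1) for every n. Then for every r, every morphism from the translate X[r] to Y factors
uniquely through the canonical translation map X[r] ⟶ X: there is exactly one morphism g : X ⟶ Y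
whose n-th component, precomposed with the transition map X_(n+r) ⟶ X_n, is the n-th component of
the given morphism. In particular morphisms X ⟶ Y up to translation are the same as morphisms X ⟶ Y.
(The published statement is for systems of finitely generated modules over a Noetherian ring, and
for systems of sheaves of modules on the small etale site; this row states it in any linear abelian
category, which is all the argument uses.) -/
theorem result {C : Type u} [Category.{v} C] [Abelian C] {A : Type w} [CommRing A] [Linear A C]
    (J : Ideal A) (X Y : ARSys.PS C) (hX : ARSys.IsAdic J X) (hY : ARSys.TermKilled J Y) (r : ℕ)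
    (f : (ARSys.shift C r).obj X ⟶ Y) :
    ∃! g : X ⟶ Y, ∀ n : ℕ, f.app (op n) = ARSys.shiftMap X r n ≫ g.app (op n) := by
  obtain ⟨-, hquot⟩ := hX
  have hcomp : ∀ (Z : ARSys.PS C) {a b c : ℕ} (h₁ : a ≤ b) (h₂ : b ≤ c),
      Z.map (homOfLE h₂).op ≫ Z.map (homOfLE h₁).op = Z.map (homOfLE (h₁.trans h₂)).op := by
    intro Z a b c h₁ h₂
    rw [← Z.map_comp]
    rfl
  -- morphisms into Y_n are killed by J^(m+1) for n ≤ m
  have hkill : ∀ (n m : ℕ) (_ : n ≤ m) {W : C} (φ : W ⟶ Y.obj (op n)),
      HomKilledBy (J ^ (m + 1)) φ := by
    intro n m hnm W φ a ha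
    have ha' : a ∈ J ^ (n + 1) := Ideal.pow_le_pow_right (by omega) ha
    have := hY n a ha'
    calc a • φ = φ ≫ (a • 𝟙 (Y.obj (op n))) := by rw [Linear.comp_smul, Category.comp_id]
      _ = 0 := by rw [this, comp_zero]
  -- retyped components of f
  let fn : ∀ n : ℕ, X.obj (op (n + r)) ⟶ Y.obj (op n) := fun n => f.app (op n)
  have hfn : ∀ (n m : ℕ) (h : n ≤ m),
      X.map (homOfLE (show n + r ≤ m + r by omega)).op ≫ fn n =
        fn m ≫ Y.map (homOfLE h).op := by
    intro n m h
    exact f.naturality (homOfLE h).op
  -- components
  have hex : ∀ n : ℕ, ∃! ψ : X.obj (op n) ⟶ Y.obj (op n),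
      X.map (homOfLE (Nat.le_add_right n r)).op ≫ ψ = fn n :=
    fun n => (hquot n (n + r) (Nat.le_add_right n r)).2 _ (fn n) (hkill n n le_rfl _)
  choose g hg hguniq using hex
  -- naturality
  have hnat : ∀ (n m : ℕ) (h : n ≤ m),
      X.map (homOfLE h).op ≫ g n = g m ≫ Y.map (homOfLE h).op := by
    intro n m h
    obtain ⟨ψ, -, hψ⟩ := (hquot m (m + r) (Nat.le_add_right m r)).2 _
      (fn m ≫ Y.map (homOfLE h).op) (hkill n m h _)
    have e1 : X.map (homOfLE h).op ≫ g n = ψ := by
      apply hψ
      calc X.map (homOfLE (Nat.le_add_right m r)).op ≫ X.map (homOfLE h).op ≫ g n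
          = X.map (homOfLE (h.trans (Nat.le_add_right m r))).op ≫ g n := by
            rw [← Category.assoc, hcomp X h (Nat.le_add_right m r)]
        _ = (X.map (homOfLE (show n + r ≤ m + r by omega)).op ≫
              X.map (homOfLE (Nat.le_add_right n r)).op) ≫ g n := by
            rw [hcomp X (Nat.le_add_right n r) (show n + r ≤ m + r by omega)]
        _ = X.map (homOfLE (show n + r ≤ m + r by omega)).op ≫ fn n := by
            rw [Category.assoc, hg n]
        _ = fn m ≫ Y.map (homOfLE h).op := hfn n m h
    have e2 : g m ≫ Y.map (homOfLE h).op = ψ := by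
      apply hψ
      rw [← Category.assoc, hg m]
    rw [e1, e2]
  let G : X ⟶ Y :=
    { app := fun k => g k.unop
      naturality := by
        intro k k' φ
        have hφ : φ = (homOfLE (leOfHom φ.unop)).op := Subsingleton.elim _ _
        rw [hφ]
        exact hnat k'.unop k.unop (leOfHom φ.unop) }
  refine ⟨G, fun n => (hg n).symm, ?_⟩
  intro G' hG'
  ext k
  obtain ⟨n⟩ := k
  exact hguniq n (G'.app (op n)) (hG' n).symm

end Groth.Agent.S13607
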