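import Groth.Statements.S0341
import Mathlib
import Groth.Agent.Lib.Helper17.GorCM

set_option autoImplicit false
universe u v
open Goren

namespace Groth.Agent.S0341

/-- A Gorenstein local ring is Cohen–Macaulay. -/
theorem result (A : Type u) [CommRing A] [LocCoh.IsGorensteinLocalRing A] : LocCoh.IsCohenMacaulayLocalRing A := by
  classical
  have hfin := LocCoh.IsGorensteinLocalRing.exists_hasInjectiveDimensionLT (A := A)
  obtain ⟨d, hd⟩ : ∃ d : ℕ, ringKrullDim A = d := by
    have h1 : ringKrullDim A ≠ ⊤ := ringKrullDim_ne_top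
    have h2 : ringKrullDim A ≠ ⊥ := ringKrullDim_ne_bot
    obtain ⟨b, hb⟩ := WithBot.ne_bot_iff_exists.mp h2
    have h3 : b ≠ ⊤ := by
      rintro rfl
      exact h1 hb.symm
    obtain ⟨m, hm⟩ := ENat.ne_top_iff_exists.mp h3
    exact ⟨m, by rw [← hb, ← hm]; rfl⟩
  obtain ⟨⟨rs, hrs, hmem, hlen⟩, -, -⟩ := Groth.Agent.Lib.helper17.GorCM.main d A hd hfin
  have hne : IsLocalRing.maximalIdeal A • (⊤ : Submodule A A) ≠ ⊤ := by
    rw [smul_eq_mul, Ideal.mul_top]
    exact Ideal.IsPrime.ne_top'
  have hdepth : LocCoh.depth A A = d := by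
    unfold LocCoh.depth LocCoh.idealDepth
    rw [if_neg hne]
    apply le_antisymm
    · apply iSup₂_le
      rintro rs' ⟨hrs', hmem'⟩
      have hle : Ideal.ofList rs' ≤ IsLocalRing.maximalIdeal A := by
        rw [Ideal.ofList, Ideal.span_le]
        intro r hr
        exact hmem' r hr
      have hreg : RingTheory.Sequence.IsRegular A rs' := by
        refine ⟨hrs', ?_⟩
        intro htop
        rw [smul_eq_mul, Ideal.mul_top] at htop
        rw [← htop] at hle
        exact Ideal.IsPrime.ne_top' (top_le_iff.mp hle)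
      have hadd := ringKrullDim_add_length_eq_ringKrullDim_of_isRegular rs' hreg
      rw [hd] at hadd
      have hnt : Nontrivial (A ⧸ Ideal.ofList rs') := by
        apply Ideal.Quotient.nontrivial_iff.mpr
        rintro htop
        rw [htop] at hle
        exact Ideal.IsPrime.ne_top' (top_le_iff.mp hle)
      have h0 : (0 : WithBot ℕ∞) ≤ ringKrullDim (A ⧸ Ideal.ofList rs') :=
        ringKrullDim_nonneg_of_nontrivial
      have h1 : ((rs'.length : ℕ) : WithBot ℕ∞) ≤ (d : WithBot ℕ∞) := by
        rw [← hadd]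
        exact le_add_of_nonneg_left h0
      have h2 : rs'.length ≤ d := by exact_mod_cast h1
      exact_mod_cast h2
    · exact le_iSup₂_of_le rs ⟨hrs, hmem⟩ (by rw [hlen])
  refine { supportDim_eq_depth := ?_ }
  rw [Module.supportDim_self_eq_ringKrullDim, hd, hdepth]
  rfl

end Groth.Agent.S0341
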