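import Groth.Statements.S14414
import Groth.Agent.Lib.Helper7.TorAPI

set_option autoImplicit false
universe u
open CategoryTheory CategoryTheory.Limits
open CAlg

namespace Groth.Agent.S14414


open Groth.Agent.Lib.helper7

/-- Let R be a commutative ring and N an R-module of projective dimension at most q, in the sense that
Ext^i_R(N, N′) = 0 for all i > q and all N′ (equivalently, N has a projective resolution of length
at most q). Then for every R-module M and every i > q, Tor_i^R(M, N) — the value at N of the i-th
left derived functor of M ⊗_R (-) — is zero. -/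
theorem result (R : Type u) [CommRing R]
    (M N : ModuleCat.{u} R) (q : ℕ) [HasProjectiveDimensionLE N q] (i : ℕ) (hi : q < i) :
    IsZero (((CategoryTheory.Tor (ModuleCat.{u} R) i).obj M).obj N) := by
  induction q generalizing N i with
  | zero =>
    obtain ⟨k, rfl⟩ : ∃ k, i = k + 1 := ⟨i - 1, by omega⟩
    have h1 : HasProjectiveDimensionLT N 1 := ‹HasProjectiveDimensionLE N 0›
    haveI : Projective N := projective_iff_hasProjectiveDimensionLT_one.mpr h1
    exact TorAPI.isZero_T_projective M N k
  | succ q ih =>
    obtain ⟨k, rfl⟩ : ∃ k, i = k + 2 := ⟨i - 2, by omega⟩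
    let π : Projective.over N ⟶ N := Projective.π N
    let S : ShortComplex (ModuleCat.{u} R) :=
      ShortComplex.mk (Limits.kernel.ι π) π (Limits.kernel.condition π)
    have hex : S.Exact := ShortComplex.exact_of_f_is_kernel S (Limits.kernelIsKernel π)
    haveI : Mono S.f := by change Mono (Limits.kernel.ι π); infer_instance
    haveI : Epi S.g := by change Epi (Projective.π N); infer_instance
    have hS : S.ShortExact := ⟨hex⟩
    have hP : Projective S.X₂ := by
      change Projective (Projective.over N)
      infer_instance
    have hK : HasProjectiveDimensionLT S.X₁ (q + 1) := by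
      rw [← hS.hasProjectiveDimensionLT_X₃_iff q hP]
      exact ‹HasProjectiveDimensionLE N (q + 1)›
    haveI : HasProjectiveDimensionLE S.X₁ q := hK
    have h1 := ih S.X₁ (k + 1) (by omega)
    have := (TorAPI.isZero_succ_iff M hS (k + 1) (TorAPI.isZero_T_projective M S.X₂ (k + 1))
      (TorAPI.isZero_T_projective M S.X₂ k)).2 h1
    exact this

end Groth.Agent.S14414
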