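import Groth.Statements.S5809
import Groth.Agent.Lib.Helper7.TorAPI4
import Groth.Agent.S14414

set_option autoImplicit false
universe u
open CategoryTheory
open EGA41

namespace Groth.Agent.S5809


open Groth.Agent.Lib.helper7 CategoryTheory

/-- Let A be a Noetherian local ring with residue field k, M a finitely generated A-module and n ≥ 0.
For M to have projective dimension at most n it is necessary that Tor^A_i(M, k) = 0 for all i > n,
and it suffices that Tor^A_(n+1)(M, k) = 0. (Tor is written here as the left derived functors of k ⊗
- evaluated at M, i.e. computed from a projective resolution of M.) -/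
theorem result (A : Type u) [CommRing A] [IsLocalRing A]
    [IsNoetherianRing A] (M : Type u) [AddCommGroup M] [Module A M] [Module.Finite A M] (n : ℕ) :
    (HasProjectiveDimensionLT (ModuleCat.of A M) (n + 1) →
        ∀ i : ℕ, n < i → Limits.IsZero (((Tor (ModuleCat.{u} A) i).obj
          (ModuleCat.of A (IsLocalRing.ResidueField A))).obj (ModuleCat.of A M))) ∧
      (Limits.IsZero (((Tor (ModuleCat.{u} A) (n + 1)).obj
          (ModuleCat.of A (IsLocalRing.ResidueField A))).obj (ModuleCat.of A M)) →
        HasProjectiveDimensionLT (ModuleCat.of A M) (n + 1)) := by
  classical
  constructor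
  · intro h i hi
    haveI : HasProjectiveDimensionLE (ModuleCat.of A M) n := h
    exact Groth.Agent.S14414.result A (ModuleCat.of A (IsLocalRing.ResidueField A))
      (ModuleCat.of A M) n i hi
  · induction n generalizing M with
    | zero =>
      intro h
      obtain ⟨r, f, hf⟩ := Module.Finite.exists_fin' A M
      let K := LinearMap.ker f
      haveI : IsNoetherian A (Fin r → A) := inferInstance
      haveI : Module.Finite A K := Module.Finite.of_injective K.subtype K.injective_subtype
      have hex : Function.Exact K.subtype f := by
        intro y
        change f y = 0 ↔ y ∈ Set.range K.subtype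
        rw [Submodule.coe_subtype, Subtype.range_coe]
        exact Iff.rfl
      have hS := ModSES.mkSES_shortExact K.subtype f hex K.injective_subtype hf
      haveI : Projective (ModSES.mkSES K.subtype f hex).X₂ := by
        change Projective (ModuleCat.of A (Fin r → A))
        exact ModuleCat.projective_of_free (Pi.basisFun A (Fin r))
      have h1 := (TorAPI.isZero_one_iff (ModuleCat.of A (IsLocalRing.ResidueField A)) hS
        (TorAPI.isZero_T_projective _ _ 0)).1 h
      rw [TorAPI.mono_tF_map_iff] at h1
      have h2 : Function.Injective (LinearMap.lTensor (IsLocalRing.ResidueField A) K.subtype) := h1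
      haveI : Module.Free A M := Module.free_of_lTensor_residueField_injective K.subtype f hf hex h2
      haveI : Projective (ModuleCat.of A M) :=
        (IsProjective.iff_projective (ModuleCat.of A M)).1 (inferInstanceAs (Module.Projective A M))
      infer_instance
    | succ n ih =>
      intro h
      obtain ⟨r, f, hf⟩ := Module.Finite.exists_fin' A M
      let K := LinearMap.ker f
      haveI : IsNoetherian A (Fin r → A) := inferInstance
      haveI : Module.Finite A K := Module.Finite.of_injective K.subtype K.injective_subtype
      have hex : Function.Exact K.subtype f := by
        intro y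
        change f y = 0 ↔ y ∈ Set.range K.subtype
        rw [Submodule.coe_subtype, Subtype.range_coe]
        exact Iff.rfl
      have hS := ModSES.mkSES_shortExact K.subtype f hex K.injective_subtype hf
      have hP : Projective (ModSES.mkSES K.subtype f hex).X₂ := by
        change Projective (ModuleCat.of A (Fin r → A))
        exact ModuleCat.projective_of_free (Pi.basisFun A (Fin r))
      have h1 := (TorAPI.isZero_succ_iff (ModuleCat.of A (IsLocalRing.ResidueField A)) hS (n + 1)
        (TorAPI.isZero_T_projective _ _ (n + 1)) (TorAPI.isZero_T_projective _ _ n)).1 h
      have h2 : HasProjectiveDimensionLT (ModuleCat.of A K) (n + 1) := ih K h1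
      exact (hS.hasProjectiveDimensionLT_X₃_iff n hP).2 h2

end Groth.Agent.S5809
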