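import Groth.Statements.S5805
import Groth.Agent.S5809
import Groth.Agent.Lib.Helper7.TorAPI3
import Groth.Agent.Lib.Helper26.GlobalDim

set_option autoImplicit false
universe u
open CategoryTheory
open EGA41

namespace Groth.Agent.S5805


open Groth.Agent.Lib.helper7 Groth.Agent.Lib.helper7.TorAPI CategoryTheory Limits in
/-- `Tor_i(X, N) = 0` for `i > q` when `pd X ≤ q` (first variable). -/
theorem isZero_T_of_pd {A : Type u} [CommRing A] (q : ℕ) :
    ∀ (X : ModuleCat.{u} A), HasProjectiveDimensionLT X (q + 1) → ∀ (N : ModuleCat.{u} A) (i : ℕ),
      q < i → IsZero ((T i X).obj N) := by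
  induction q with
  | zero =>
    intro X hX N i hi
    haveI : Projective X := projective_iff_hasProjectiveDimensionLT_one.2 hX
    haveI : Module.Flat A X := flat_of_projective X
    obtain ⟨m, rfl⟩ : ∃ m, i = m + 1 := ⟨i - 1, by omega⟩
    exact isZero_T_flat X N m
  | succ q ih =>
    intro X hX N i hi
    have hS := pres_shortExact X
    have hK : HasProjectiveDimensionLT (pres X).X₁ (q + 1) :=
      (hS.hasProjectiveDimensionLT_X₃_iff q inferInstance).1 hX
    obtain ⟨m, rfl⟩ : ∃ m, i = m + 1 + 1 := ⟨i - 2, by omega⟩
    have h := isZero_succ_iff₁ hS N (m + 1) (isZero_T_flat (pres X).X₂ N (m + 1))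
      (isZero_T_flat (pres X).X₂ N m)
    exact h.2 (ih (pres X).X₁ hK N (m + 1) (by omega))

/-- Let A be a Noetherian local ring with residue field k and n ≥ 0. Then the global dimension of A is
at most n as soon as the projective dimension of the A-module k is at most n: every A-module then
has projective dimension at most n. (The published statement phrases the criterion through the
vanishing of Tor^A_{n+1}(k, k), to which dim.proj_A(k) ≤ n is equivalent for finitely generated
modules over a Noetherian local ring; this row states the projective-dimension form that the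
published proof establishes.) -/
theorem result (A : Type u) [CommRing A] [IsLocalRing A]
    [IsNoetherianRing A] (n : ℕ)
    (hk : HasProjectiveDimensionLT (ModuleCat.of A (IsLocalRing.ResidueField A)) (n + 1)) (M : Type u)
    [AddCommGroup M] [Module A M] : HasProjectiveDimensionLT (ModuleCat.of A M) (n + 1) := by
  classical
  have hfin : ∀ (M : Type u) [AddCommGroup M] [Module A M] [Module.Finite A M],
      HasProjectiveDimensionLT (ModuleCat.of A M) (n + 1) := by
    intro M _ _ _
    refine (Groth.Agent.S5809.result A M n).2 ?_
    exact isZero_T_of_pd n _ hk (ModuleCat.of A M) (n + 1) (by omega)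
  exact Groth.Agent.Lib.helper26.GlobalDim.hasProjectiveDimensionLT_of_forall_cyclic n
    (fun I => hfin (A ⧸ I)) (ModuleCat.of A M)

end Groth.Agent.S5805
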