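import Groth.Statements.S0342
import Groth.Agent.S5805
import Groth.Agent.Lib.Helper15.Regular
import Groth.Agent.Lib.Helper7.ModSES
import Groth.Agent.Lib.Helper26.GlobalDim

set_option autoImplicit false
universe u v
open Goren

namespace Groth.Agent.S0342


open Groth.Agent.Lib.helper7 CategoryTheory IsLocalRing in
/-- the quotients of a regular local ring by initial segments of a minimal generating system of the
maximal ideal have finite projective dimension. -/
theorem pd_quotient_span {A : Type u} [CommRing A] [IsRegularLocalRing A] (d : ℕ)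
    (hd : (maximalIdeal A).spanFinrank = d) (x : Fin d → A)
    (hx : Ideal.span (Set.range x) = maximalIdeal A) :
    ∀ i : ℕ, i ≤ d → HasProjectiveDimensionLT
      (ModuleCat.of A (A ⧸ Ideal.span (x '' {j : Fin d | (j : ℕ) < i}))) (i + 1) := by
  intro i
  induction i with
  | zero =>
    intro _
    have hbot : Ideal.span (x '' {j : Fin d | (j : ℕ) < 0}) = ⊥ := by
      have : {j : Fin d | (j : ℕ) < 0} = ∅ := by ext j; simp
      rw [this, Set.image_empty, Ideal.span_empty]
    rw [hbot]
    haveI : Module.Projective A (A ⧸ (⊥ : Ideal A)) :=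
      Module.Projective.of_equiv (Submodule.quotEquivOfEqBot (⊥ : Submodule A A) rfl).symm
    haveI : Projective (ModuleCat.of A (A ⧸ (⊥ : Ideal A))) :=
      (IsProjective.iff_projective (ModuleCat.of A (A ⧸ (⊥ : Ideal A)))).1
        (inferInstanceAs (Module.Projective A (A ⧸ (⊥ : Ideal A))))
    infer_instance
  | succ i ih =>
    intro hi
    have hid : i < d := hi
    have ih' := ih (le_of_lt hid)
    set J : Ideal A := Ideal.span (x '' {j : Fin d | (j : ℕ) < i}) with hJ
    set J' : Ideal A := Ideal.span (x '' {j : Fin d | (j : ℕ) < i + 1}) with hJ'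
    obtain ⟨hprime, hnot⟩ := Groth.Agent.Lib.helper15.isPrime_span_image_lt A d hd x hx ⟨i, hid⟩
    have hset : {j : Fin d | j < (⟨i, hid⟩ : Fin d)} = {j : Fin d | (j : ℕ) < i} :=
      Set.ext fun j => Iff.rfl
    rw [hset] at hprime hnot
    have hJJ' : J' = J ⊔ Ideal.span {x ⟨i, hid⟩} := by
      rw [hJ', hJ, ← Ideal.span_union]
      congr 1
      ext z
      simp only [Set.mem_image, Set.mem_setOf_eq, Set.mem_union, Set.mem_singleton_iff]
      constructor
      · rintro ⟨j, hj, rfl⟩
        by_cases hji : (j : ℕ) < i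
        · exact Or.inl ⟨j, hji, rfl⟩
        · right
          have : j = ⟨i, hid⟩ := Fin.ext (by simp; omega)
          rw [this]
      · rintro (⟨j, hj, rfl⟩ | rfl)
        · exact ⟨j, by omega, rfl⟩
        · exact ⟨⟨i, hid⟩, by simp, rfl⟩
    have hle : J ≤ J' := by rw [hJJ']; exact le_sup_left
    -- the maps
    let f : (A ⧸ J) →ₗ[A] (A ⧸ J) := LinearMap.lsmul A (A ⧸ J) (x ⟨i, hid⟩)
    let g : (A ⧸ J) →ₗ[A] (A ⧸ J') :=
      Submodule.liftQ J (Submodule.mkQ J') (by
        intro a ha
        rw [LinearMap.mem_ker, Submodule.mkQ_apply, Submodule.Quotient.mk_eq_zero]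
        exact hle ha)
    have hg_mk : ∀ a : A, g (Submodule.Quotient.mk a) = Submodule.Quotient.mk a := fun a => rfl
    have hf_mk : ∀ a : A, f (Submodule.Quotient.mk a) = Submodule.Quotient.mk (x ⟨i, hid⟩ * a) :=
      fun a => rfl
    have hinj : Function.Injective f := by
      rw [injective_iff_map_eq_zero]
      intro y hy
      obtain ⟨a, rfl⟩ := Submodule.Quotient.mk_surjective _ y
      rw [hf_mk, Submodule.Quotient.mk_eq_zero] at hy
      rw [Submodule.Quotient.mk_eq_zero]
      exact (hprime.mem_or_mem hy).resolve_left hnot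
    have hsurj : Function.Surjective g := by
      intro y
      obtain ⟨a, rfl⟩ := Submodule.Quotient.mk_surjective _ y
      exact ⟨Submodule.Quotient.mk a, hg_mk a⟩
    have hex : Function.Exact f g := by
      intro y
      obtain ⟨a, rfl⟩ := Submodule.Quotient.mk_surjective _ y
      rw [hg_mk, Submodule.Quotient.mk_eq_zero]
      constructor
      · intro ha
        rw [hJJ', Submodule.mem_sup] at ha
        obtain ⟨b, hb, c, hc, rfl⟩ := ha
        obtain ⟨c', rfl⟩ := Ideal.mem_span_singleton'.mp hc
        refine ⟨Submodule.Quotient.mk c', ?_⟩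
        rw [hf_mk, eq_comm, ← sub_eq_zero, ← Submodule.Quotient.mk_sub, Submodule.Quotient.mk_eq_zero]
        have : b + c' * x ⟨i, hid⟩ - x ⟨i, hid⟩ * c' = b := by ring
        rw [this]; exact hb
      · rintro ⟨z, hz⟩
        obtain ⟨c, rfl⟩ := Submodule.Quotient.mk_surjective _ z
        rw [hf_mk] at hz
        have h1 : x ⟨i, hid⟩ * c - a ∈ J := by
          rw [← Submodule.Quotient.mk_eq_zero, Submodule.Quotient.mk_sub, hz, sub_self]
        have h2 : x ⟨i, hid⟩ * c ∈ J' := by
          rw [hJJ']
          exact Ideal.mem_sup_right (Ideal.mul_mem_right _ _ (Ideal.mem_span_singleton_self _))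
        have : a = x ⟨i, hid⟩ * c - (x ⟨i, hid⟩ * c - a) := by ring
        rw [this]
        exact J'.sub_mem h2 (hle h1)
    have hS := ModSES.mkSES_shortExact f g hex hinj hsurj
    have h1 : HasProjectiveDimensionLT (ModSES.mkSES f g hex).X₁ (i + 1) := ih'
    have h2 : HasProjectiveDimensionLT (ModSES.mkSES f g hex).X₂ (i + 1 + 1) := by
      haveI : HasProjectiveDimensionLT (ModSES.mkSES f g hex).X₂ (i + 1) := ih'
      exact hasProjectiveDimensionLT_of_ge _ (i + 1) (i + 1 + 1) (by omega)
    exact hS.hasProjectiveDimensionLT_X₃ (i + 1) h1 h2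

/-- Regular local rings have finite injective dimension over themselves, i.e. are Gorenstein. -/
theorem result (A : Type u) [CommRing A] [IsRegularLocalRing A] : LocCoh.IsGorensteinLocalRing A := by
  classical
  obtain ⟨d, hd⟩ : ∃ d, (IsLocalRing.maximalIdeal A).spanFinrank = d := ⟨_, rfl⟩
  have hfg : (IsLocalRing.maximalIdeal A).FG := IsNoetherian.noetherian _
  obtain ⟨s, hcard, hspan⟩ := Submodule.FG.exists_span_finset_card_eq_spanFinrank hfg
  rw [hd] at hcard
  let e : s ≃ Fin d := s.equivFinOfCardEq hcard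
  let x : Fin d → A := fun j => (e.symm j : A)
  have hrange : Set.range x = (s : Set A) := by
    ext z
    constructor
    · rintro ⟨j, rfl⟩
      exact (e.symm j).2
    · intro hz
      exact ⟨e ⟨z, hz⟩, by simp [x]⟩
  have hx : Ideal.span (Set.range x) = IsLocalRing.maximalIdeal A := by
    rw [hrange]; exact hspan
  have hk0 := pd_quotient_span d hd x hx d le_rfl
  have hall : Ideal.span (x '' {j : Fin d | (j : ℕ) < d}) = IsLocalRing.maximalIdeal A := by
    rw [← hx]
    congr 1
    ext z
    simp only [Set.mem_image, Set.mem_setOf_eq, Set.mem_range]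
    constructor
    · rintro ⟨j, -, rfl⟩; exact ⟨j, rfl⟩
    · rintro ⟨j, rfl⟩; exact ⟨j, j.2, rfl⟩
  rw [hall] at hk0
  have hk : CategoryTheory.HasProjectiveDimensionLT
      (ModuleCat.of A (IsLocalRing.ResidueField A)) (d + 1) := hk0
  refine ⟨⟨d + 1, ?_⟩⟩
  refine Groth.Agent.Lib.helper26.GlobalDim.hasInjectiveDimensionLT_of_ext_quotient d
    (ModuleCat.of A A) (fun I => ?_)
  haveI : CategoryTheory.HasProjectiveDimensionLT (ModuleCat.of A (A ⧸ I)) (d + 1) :=
    Groth.Agent.S5805.result A d hk (A ⧸ I)
  exact CategoryTheory.HasProjectiveDimensionLT.subsingleton _ (d + 1) (d + 1) le_rfl _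

end Groth.Agent.S0342
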