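import Groth.Statements.S1728
import Mathlib
-- import your own Groth.Agent.* helpers here

set_option autoImplicit false
universe u
open InjHull

namespace Groth.Agent.S1728

/-- Let I be an injective R-module and E a submodule of I. Then E is an injective module if and only if
every submodule E' of I containing E, such that every nonzero submodule of E' meets E nontrivially,
is equal to E. -/
theorem result (R : Type u) [CommRing R] (I : Type u) [AddCommGroup I] [Module R I] [Module.Injective R I] (E : Submodule R I) : Module.Injective R E ↔ ∀ E' : Submodule R I, E ≤ E' → (∀ N : Submodule R I, N ≤ E' → N ≠ ⊥ → N ⊓ E ≠ ⊥) → E' = E := by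
  constructor
  · intro hE E' hEE' hess
    obtain ⟨r, hr⟩ := Module.Injective.out (R := R) (Q := E) E.subtype E.injective_subtype
      LinearMap.id
    have hr' : ∀ x : I, ∀ hx : x ∈ E, (r x : I) = x := by
      intro x hx
      have := hr ⟨x, hx⟩
      simpa using congrArg Subtype.val this
    apply le_antisymm _ hEE'
    intro x hx
    by_contra hxE
    have hyE' : x - (r x : I) ∈ E' := E'.sub_mem hx (hEE' (r x).2)
    have hry : r (x - (r x : I)) = 0 := by
      rw [map_sub]
      have := hr (r x)
      simp only [Submodule.subtype_apply, LinearMap.id_coe, id_eq] at this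
      rw [this, sub_self]
    have hy0 : x - (r x : I) ≠ 0 := by
      intro h0
      apply hxE
      have : x = (r x : I) := sub_eq_zero.mp h0
      rw [this]
      exact (r x).2
    have := hess (Submodule.span R {x - (r x : I)})
      (by rw [Submodule.span_le]; simpa using hyE') (by simpa using hy0)
    apply this
    rw [eq_bot_iff]
    rintro z ⟨hz1, hz2⟩
    obtain ⟨a, rfl⟩ := Submodule.mem_span_singleton.mp hz1
    have h1 : r (a • (x - (r x : I))) = 0 := by rw [map_smul, hry, smul_zero]
    have h2 := hr' _ hz2
    rw [h1] at h2
    simpa using h2.symm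
  · intro h
    -- Zorn: maximal C disjoint from E
    obtain ⟨C, hC⟩ : ∃ C, Maximal (· ∈ {C : Submodule R I | Disjoint C E}) C := by
      apply zorn_le₀
      intro c hc hchain
      refine ⟨sSup c, ?_, fun z hz => le_sSup hz⟩
      show Disjoint (sSup c) E
      rw [DirectedOn.disjoint_sSup_left hchain.directedOn]
      exact fun b hb => hc hb
    have hCE : Disjoint C E := hC.prop
    have hj : Function.Injective (C.mkQ ∘ₗ E.subtype) := by
      rw [injective_iff_map_eq_zero]
      intro x hx
      rw [LinearMap.comp_apply, Submodule.mkQ_apply, Submodule.Quotient.mk_eq_zero] at hx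
      have := (Submodule.disjoint_def.mp hCE) x hx x.2
      exact Subtype.ext this
    obtain ⟨h', hh'⟩ := Module.Injective.out (R := R) (Q := I) (C.mkQ ∘ₗ E.subtype) hj E.subtype
    -- Claim A
    have hA : ∀ Nb : Submodule R (I ⧸ C), Nb ≠ ⊥ →
        ∃ x : E, x ≠ 0 ∧ (C.mkQ ∘ₗ E.subtype) x ∈ Nb := by
      intro Nb hNb
      have hle : C ≤ Submodule.comap C.mkQ Nb := by
        intro c hc
        rw [Submodule.mem_comap, Submodule.mkQ_apply, (Submodule.Quotient.mk_eq_zero C).mpr hc]
        exact Nb.zero_mem
      have hne : ¬ Disjoint (Submodule.comap C.mkQ Nb) E := by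
        intro hd
        have := hC.le_of_ge (show Submodule.comap C.mkQ Nb ∈ {C : Submodule R I | Disjoint C E} from hd) hle
        apply hNb
        rw [eq_bot_iff]
        intro y hy
        obtain ⟨y, rfl⟩ := C.mkQ_surjective y
        have : y ∈ C := this hy
        simpa using this
      rw [Submodule.disjoint_def] at hne
      push Not at hne
      obtain ⟨x, hx1, hx2, hx0⟩ := hne
      exact ⟨⟨x, hx2⟩, fun h0 => hx0 (by simpa using congrArg Subtype.val h0), hx1⟩
    -- Claim B: h' injective
    have hB : Function.Injective h' := by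
      rw [← LinearMap.ker_eq_bot]
      by_contra hker
      obtain ⟨x, hx0, hx⟩ := hA _ hker
      rw [LinearMap.mem_ker, hh'] at hx
      exact hx0 (Subtype.ext (by simpa using hx))
    -- Claim C: range h' = E
    have hrange : LinearMap.range h' = E := by
      apply h
      · intro x hx
        exact ⟨(C.mkQ ∘ₗ E.subtype) ⟨x, hx⟩, by rw [hh']; rfl⟩
      · intro N hN hN0
        have hcm : Submodule.comap h' N ≠ ⊥ := by
          intro h0
          apply hN0
          rw [eq_bot_iff]
          intro y hy
          obtain ⟨z, rfl⟩ := hN hy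
          have : z ∈ Submodule.comap h' N := hy
          rw [h0, Submodule.mem_bot] at this
          rw [this, map_zero]
          exact Submodule.zero_mem _
        obtain ⟨x, hx0, hx⟩ := hA _ hcm
        rw [Submodule.mem_comap, hh'] at hx
        intro hbot
        have : (x : I) ∈ N ⊓ E := ⟨hx, x.2⟩
        rw [hbot, Submodule.mem_bot] at this
        exact hx0 (Subtype.ext (by simpa using this))
    -- retraction
    have hmem : ∀ x : I, (h' ∘ₗ C.mkQ) x ∈ E := by
      intro x
      rw [← hrange]
      exact ⟨_, rfl⟩
    have hr : ∀ x : E, LinearMap.codRestrict E (h' ∘ₗ C.mkQ) hmem (x : I) = x := by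
      intro x
      apply Subtype.ext
      rw [LinearMap.codRestrict_apply]
      exact hh' x
    refine ⟨fun X Y _ _ _ _ f hf g => ?_⟩
    obtain ⟨k, hk⟩ := Module.Injective.out (R := R) (Q := I) f hf (E.subtype ∘ₗ g)
    refine ⟨LinearMap.codRestrict E (h' ∘ₗ C.mkQ) hmem ∘ₗ k, fun x => ?_⟩
    rw [LinearMap.comp_apply, hk]
    exact hr (g x)

end Groth.Agent.S1728
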