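import Groth.Statements.S0299
import Groth.Agent.S1728
import Mathlib

set_option autoImplicit false
universe u v
open InjHull

namespace Groth.Agent.S0299

theorem exists_injective_embedding (R : Type u) [CommRing R] (M : Type u) [AddCommGroup M]
    [Module R M] : ∃ (I : Type u) (_ : AddCommGroup I) (_ : Module R I) (_ : Module.Injective R I)
      (j : M →ₗ[R] I), Function.Injective j := by
  let J := CategoryTheory.Injective.under (ModuleCat.of R M)
  have hJ : CategoryTheory.Injective (ModuleCat.of R J) :=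
    (inferInstance : CategoryTheory.Injective J)
  refine ⟨J, inferInstance, inferInstance, Module.injective_module_of_injective_object R J,
    (CategoryTheory.Injective.ι (ModuleCat.of R M)).hom, ?_⟩
  exact (ModuleCat.mono_iff_injective _).mp inferInstance

/-- Every module over a commutative ring has an injective hull, i.e. an essential injection into an
injective module. -/
theorem result (R : Type u) [CommRing R] (M : Type u) [AddCommGroup M] [Module R M] : ∃ (E : Type u) (_ : AddCommGroup E) (_ : Module R E) (f : M →ₗ[R] E), InjHull.IsInjectiveHull f := by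
  obtain ⟨I, _, _, hI, j, hj⟩ := exists_injective_embedding R M
  let M' : Submodule R I := LinearMap.range j
  let 𝒮 : Set (Submodule R I) :=
    {E' | M' ≤ E' ∧ ∀ N : Submodule R I, N ≤ E' → N ≠ ⊥ → N ⊓ M' ≠ ⊥}
  have hM' : M' ∈ 𝒮 := ⟨le_rfl, fun N hN hN0 => by rw [inf_eq_left.mpr hN]; exact hN0⟩
  obtain ⟨E, hME, hEmax⟩ := zorn_le_nonempty₀ 𝒮 (by
    intro c hc hchain y hy
    refine ⟨sSup c, ⟨(hc hy).1.trans (le_sSup hy), fun N hN hN0 => ?_⟩, fun z hz => le_sSup hz⟩
    obtain ⟨x, hxN, hx0⟩ := Submodule.exists_mem_ne_zero_of_ne_bot hN0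
    obtain ⟨E', hE'c, hxE'⟩ :=
      (Submodule.mem_sSup_of_directed ⟨y, hy⟩ hchain.directedOn).mp (hN hxN)
    have h1 : Submodule.span R {x} ⊓ M' ≠ ⊥ :=
      (hc hE'c).2 (Submodule.span R {x}) ((Submodule.span_singleton_le_iff_mem x E').mpr hxE')
        (by rwa [Ne, Submodule.span_singleton_eq_bot])
    exact ne_bot_of_le_ne_bot h1
      (inf_le_inf_right _ ((Submodule.span_singleton_le_iff_mem x N).mpr hxN))) M' hM'
  have hEinj : Module.Injective R E := by
    rw [Groth.Agent.S1728.result R I E]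
    intro E₂ hEE₂ hess
    have hmem : E₂ ∈ 𝒮 := by
      refine ⟨hEmax.prop.1.trans hEE₂, fun N hN hN0 => ?_⟩
      have h1 := hess N hN hN0
      have h2 := hEmax.prop.2 (N ⊓ E) inf_le_right h1
      exact ne_bot_of_le_ne_bot h2 (inf_le_inf_right _ inf_le_left)
    exact le_antisymm (hEmax.le_of_ge hmem hEE₂) hEE₂
  let f : M →ₗ[R] E := LinearMap.codRestrict E j (fun m => hEmax.prop.1 ⟨m, rfl⟩)
  refine ⟨E, inferInstance, inferInstance, f, ⟨⟨?_, ?_⟩, hEinj⟩⟩
  · intro a b hab
    exact hj (congrArg Subtype.val hab)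
  · intro N hN0
    have h1 : N.map E.subtype ≠ ⊥ := by
      intro hbot
      apply hN0
      rw [eq_bot_iff]
      intro x hx
      have hx' : E.subtype x ∈ N.map E.subtype := Submodule.mem_map_of_mem hx
      rw [hbot, Submodule.mem_bot] at hx'
      exact (Submodule.mem_bot R).mpr (Subtype.ext hx')
    have h2 := hEmax.prop.2 (N.map E.subtype) (Submodule.map_subtype_le E N) h1
    obtain ⟨y, hy, hy0⟩ := Submodule.exists_mem_ne_zero_of_ne_bot h2
    obtain ⟨⟨x, hxN, rfl⟩, ⟨m, hm⟩⟩ := hy
    intro hbot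
    have hx : x ∈ N ⊓ LinearMap.range f := ⟨hxN, ⟨m, Subtype.ext hm⟩⟩
    rw [hbot, Submodule.mem_bot] at hx
    exact hy0 (by rw [hx]; rfl)

end Groth.Agent.S0299
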