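import Groth.Statements.S11174
import Mathlib
import Groth.Agent.Lib.Helper19.HullTools
import Groth.Agent.S5155
import Groth.Agent.S0299
import Groth.Agent.S5170

set_option autoImplicit false
universe u
open CategoryTheory
open InjHull

namespace Groth.Agent.S11174

-- MARK
open IsLocalRing Groth.Agent.Lib.helper19.MatlisLen Groth.Agent.Lib.helper19.HullTools in


/-- Fix a Noetherian local ring A, write m for its maximal ideal and k for its residue field, and let I
be an A-module such that (a) every element of I is killed by some power of m, (b) the A-module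
Hom_A(k, I) is isomorphic to k, and (c) there is a decreasing sequence of ideals a_1 ⊇ a_2 ⊇ … of A,
cofinal with the powers of m in both directions (each a_n contains a power of m and each power of m
contains some a_n), with length_A(A/a_n) = length_A(Hom_A(A/a_n, I)) for every n. Then I is an
injective hull of k: some A-linear map k → I is an essential injection into an injective module. -/
theorem result (A : Type u) [CommRing A] [IsLocalRing A] [IsNoetherianRing A] (I : Type u) [AddCommGroup I] [Module A I] (ha : LocCoh.IsPowerTorsion (IsLocalRing.maximalIdeal A) I) (hb : Nonempty ((IsLocalRing.ResidueField A →ₗ[A] I) ≃ₗ[A] IsLocalRing.ResidueField A)) (a : ℕ → Ideal A) (hanti : Antitone a) (hcof : ∀ n : ℕ, ∃ N : ℕ, IsLocalRing.maximalIdeal A ^ N ≤ a n) (hcof' : ∀ N : ℕ, ∃ n : ℕ, a n ≤ IsLocalRing.maximalIdeal A ^ N) (hlen : ∀ n : ℕ, Module.length A (A ⧸ a n) = Module.length A ((A ⧸ a n) →ₗ[A] I)) : ∃ f : IsLocalRing.ResidueField A →ₗ[A] I, InjHull.IsInjectiveHull f := by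
  classical
  obtain ⟨J, _, _, j, hj⟩ := Groth.Agent.S0299.result A I
  have hJt := isPowerTorsion_of_hull A (maximalIdeal A) I J ha j hj
  have hJinj := hj.isInjective
  obtain ⟨e₀⟩ := hb
  -- Hom(k, J) is simple
  have hsimple : IsSimpleModule A (ResidueField A →ₗ[A] J) := by
    haveI := isSimpleModule_residueField A
    let e₁ : (ResidueField A →ₗ[A] I) ≃ₗ[A] (ResidueField A →ₗ[A] J) :=
      LinearEquiv.ofBijective (LinearMap.compRight A j)
        (compRight_residueField_bijective j hj.toIsEssentialInj)
    exact IsSimpleModule.congr (e₁.symm.trans e₀)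
  obtain ⟨fJ, hfJ⟩ := (Groth.Agent.S5155.result A J).mpr ⟨hJinj, hJt, hsimple⟩
  -- comparison of Hom(A/a_n, -)
  have hsurj : ∀ n : ℕ, Function.Surjective
      (LinearMap.compRight A j : ((A ⧸ a n) →ₗ[A] I) →ₗ[A] ((A ⧸ a n) →ₗ[A] J)) := by
    intro n
    obtain ⟨N, hN⟩ := hcof n
    have hfl : IsFiniteLength A (A ⧸ a n) := isFiniteLength_quot_of_pow_le (a n) N hN
    have hlenJ := Groth.Agent.S5170.result A J fJ hfJ (A ⧸ a n) hfl
    refine surjective_of_injective_of_length_eq _ ?_ ?_ ?_
    · intro g h hgh
      refine LinearMap.ext fun z => hj.injective ?_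
      exact LinearMap.congr_fun hgh z
    · rw [hlenJ]
      exact Module.length_ne_top_iff.mpr hfl
    · rw [hlenJ, ← hlen n]
  -- j is surjective
  have hjsurj : Function.Surjective j := by
    intro y
    obtain ⟨N, hN⟩ := hJt y
    obtain ⟨n, hn⟩ := hcof' N
    let h : (A ⧸ a n) →ₗ[A] J := Submodule.liftQ (a n) (LinearMap.toSpanSingleton A J y) (by
      intro b hb
      rw [LinearMap.mem_ker, LinearMap.toSpanSingleton_apply]
      exact hN b (hn hb))
    obtain ⟨g, hg⟩ := hsurj n h
    refine ⟨g (Submodule.Quotient.mk 1), ?_⟩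
    have := LinearMap.congr_fun hg (Submodule.Quotient.mk 1)
    rw [LinearMap.compRight_apply, LinearMap.comp_apply] at this
    rw [this]
    show LinearMap.toSpanSingleton A J y 1 = y
    simp
  let e : I ≃ₗ[A] J := LinearEquiv.ofBijective j ⟨hj.injective, hjsurj⟩
  have hIinj : Module.Injective A I := injective_of_linearEquiv e.symm hJinj
  refine (Groth.Agent.S5155.result A I).mpr ⟨hIinj, ha, ?_⟩
  haveI := isSimpleModule_residueField A
  exact IsSimpleModule.congr e₀

end Groth.Agent.S11174
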