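import Groth.Statements.S5174
import Mathlib
import Groth.Agent.Lib.Helper19.LCBridge
import Groth.Agent.Lib.Helper19.LCLes
import Groth.Agent.Lib.Helper19.LCZero
import Groth.Agent.S5162

set_option autoImplicit false
universe u
open CategoryTheory Opposite
open LocCoh

namespace Groth.Agent.S5174

-- MARK
section Aux
open CategoryTheory Groth.Agent.Lib.helper19.LCBridge Groth.Agent.Lib.helper19.LCLes
  Groth.Agent.Lib.helper19.LCZero Groth.Agent.S5162

variable {A : Type u} [CommRing A] (J : Ideal A) (G : Type u) [AddCommGroup G] [Module A G] (n : ℕ)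

/-- `H^n_J(G)` -/
abbrev Hn : Type u := ((localCohomology J n).obj (ModuleCat.of A G) : ModuleCat.{u} A)

section Theta
variable {F : Type u} [AddCommGroup F] [Module A F] (k : ℕ) (hk : ∀ a ∈ J ^ k, ∀ x : F, a • x = 0)

lemma homOfKill_add' (m m' : F) (h : ∀ a ∈ J ^ k, a • m = 0) (h' : ∀ a ∈ J ^ k, a • m' = 0)
    (h'' : ∀ a ∈ J ^ k, a • (m + m') = 0) :
    homOfKill J (ModuleCat.of A F) (m + m') k h'' =
      homOfKill J (ModuleCat.of A F) m k h + homOfKill J (ModuleCat.of A F) m' k h' := by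
  apply hom_ext_Q
  rw [ModuleCat.hom_add, LinearMap.add_apply, homOfKill_mk, homOfKill_mk, homOfKill_mk, one_smul,
    one_smul, one_smul]

lemma homOfKill_smul' (c : A) (m : F) (h : ∀ a ∈ J ^ k, a • m = 0)
    (h'' : ∀ a ∈ J ^ k, a • (c • m) = 0) :
    homOfKill J (ModuleCat.of A F) (c • m) k h'' = c • homOfKill J (ModuleCat.of A F) m k h := by
  apply hom_ext_Q
  rw [ModuleCat.hom_smul, LinearMap.smul_apply, homOfKill_mk, homOfKill_mk, one_smul, one_smul]

/-- evaluation of an extension class at an element -/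
noncomputable def ev (z : Abelian.Ext.{u} (ModuleCat.of A F) (ModuleCat.of A G) n) (m : F) : Hn J G n :=
  toH' J n (ModuleCat.of A G) k ((Abelian.Ext.mk₀
    (homOfKill J (ModuleCat.of A F) m k (fun a ha => hk a ha m))).comp z (zero_add n))

/-- the comparison map `Ext^n(F, G) → Hom(F, H^n_J(G))` -/
noncomputable def Θ : Abelian.Ext.{u} (ModuleCat.of A F) (ModuleCat.of A G) n →ₗ[A]
    (F →ₗ[A] Hn J G n) where
  toFun z :=
    { toFun := ev J G n k hk z
      map_add' := by
        intro m m'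
        unfold ev
        rw [homOfKill_add' J k m m' (fun a ha => hk a ha m) (fun a ha => hk a ha m'),
          Abelian.Ext.mk₀_add, Abelian.Ext.add_comp, map_add]
      map_smul' := by
        intro c m
        unfold ev
        rw [homOfKill_smul' J k c m (fun a ha => hk a ha m), Abelian.Ext.mk₀_smul,
          Abelian.Ext.smul_comp, map_smul]
        rfl }
  map_add' := by
    intro z z'
    apply LinearMap.ext
    intro m
    change ev J G n k hk (z + z') m = ev J G n k hk z m + ev J G n k hk z' m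
    unfold ev
    rw [Abelian.Ext.comp_add, map_add]
  map_smul' := by
    intro c z
    apply LinearMap.ext
    intro m
    change ev J G n k hk (c • z) m = c • ev J G n k hk z m
    unfold ev
    rw [Abelian.Ext.comp_smul, map_smul]

lemma Θ_apply (z : Abelian.Ext.{u} (ModuleCat.of A F) (ModuleCat.of A G) n) (m : F) :
    Θ J G n k hk z m = toH' J n (ModuleCat.of A G) k ((Abelian.Ext.mk₀
      (homOfKill J (ModuleCat.of A F) m k (fun a ha => hk a ha m))).comp z (zero_add n)) := rfl

end Theta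

section Nat
variable {F F' : Type u} [AddCommGroup F] [Module A F] [AddCommGroup F'] [Module A F'] (k : ℕ)
  (hk : ∀ a ∈ J ^ k, ∀ x : F, a • x = 0) (hk' : ∀ a ∈ J ^ k, ∀ x : F', a • x = 0)

lemma Θ_natural (α : F' →ₗ[A] F) (z : Abelian.Ext.{u} (ModuleCat.of A F) (ModuleCat.of A G) n)
    (m' : F') :
    Θ J G n k hk' ((Abelian.Ext.mk₀ (ModuleCat.ofHom α)).comp z (zero_add n)) m' =
      Θ J G n k hk z (α m') := by
  rw [Θ_apply, Θ_apply, ← Abelian.Ext.comp_assoc _ _ z (zero_add 0) (zero_add n) (by lia),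
    Abelian.Ext.mk₀_comp_mk₀]
  congr 3
  apply hom_ext_Q
  rw [ModuleCat.hom_comp, LinearMap.comp_apply, homOfKill_mk, homOfKill_mk, one_smul, one_smul]
  rfl

end Nat

section QCase

lemma kill_Q (k : ℕ) : ∀ a ∈ J ^ k, ∀ x : A ⧸ J ^ k, a • x = 0 := by
  intro a ha x
  obtain ⟨b, rfl⟩ := Ideal.Quotient.mk_surjective x
  change Ideal.Quotient.mk (J ^ k) (a * b) = 0
  exact Ideal.Quotient.eq_zero_iff_mem.2 (Ideal.mul_mem_right _ _ ha)

lemma Θ_Q_one (k : ℕ) (z : Abelian.Ext.{u} (ModuleCat.of A (A ⧸ J ^ k)) (ModuleCat.of A G) n) :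
    Θ J G n k (kill_Q J k) z (Ideal.Quotient.mk (J ^ k) 1) = toH' J n (ModuleCat.of A G) k z := by
  rw [Θ_apply]
  have h1 : homOfKill J (ModuleCat.of A (A ⧸ J ^ k)) (Ideal.Quotient.mk (J ^ k) 1) k
      (fun a ha => kill_Q J k a ha _) = 𝟙 _ := by
    apply hom_ext_Q
    rw [homOfKill_mk, one_smul]
    rfl
  rw [h1, Abelian.Ext.mk₀_id_comp]

lemma linearMap_Q_ext {k : ℕ} {X : Type u} [AddCommGroup X] [Module A X]
    (f g : (A ⧸ J ^ k) →ₗ[A] X)
    (h : f (Ideal.Quotient.mk (J ^ k) 1) = g (Ideal.Quotient.mk (J ^ k) 1)) : f = g := by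
  apply LinearMap.ext
  intro q
  obtain ⟨r, rfl⟩ := Ideal.Quotient.mk_surjective q
  have h1 : Ideal.Quotient.mk (J ^ k) r = r • Ideal.Quotient.mk (J ^ k) 1 := by
    change _ = Ideal.Quotient.mk (J ^ k) (r * 1)
    rw [mul_one]
  rw [h1, map_smul, map_smul, h]

end QCase

section Inj
variable [IsNoetherianRing A]
  (hL : ∀ (K : Type u) [AddCommGroup K] [Module A K], Module.Finite A K → Tors J K →
      (n = 0 ∨ ∃ j, n = j + 1 ∧ E A G K j))

include hL in
lemma quotMap_comp_injective {k m : ℕ} (h : k ≤ m)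
    (z : Abelian.Ext.{u} (ModuleCat.of A (A ⧸ J ^ k)) (ModuleCat.of A G) n)
    (hz : (Abelian.Ext.mk₀ (quotMap J h)).comp z (zero_add n) = 0) : z = 0 := by
  have hsurj : Function.Surjective (quotMap J h).hom := by
    intro q
    obtain ⟨a, rfl⟩ := Ideal.Quotient.mk_surjective q
    exact ⟨Ideal.Quotient.mk _ a, rfl⟩
  exact L2' (LinearMap.ker (quotMap J h).hom).subtype (quotMap J h).hom
    (Submodule.injective_subtype _) hsurj (LinearMap.exact_subtype_ker_map _) n
    (hL (LinearMap.ker (quotMap J h).hom) inferInstance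
      (tors_of_injective J _ (Submodule.injective_subtype _) (tors_Q J m))) z hz

include hL in
lemma Q_inj (k : ℕ) : Function.Injective (Θ J G n k (kill_Q J k)) := by
  rw [← LinearMap.ker_eq_bot, LinearMap.ker_eq_bot']
  intro z hz
  have h1 : toH' J n (ModuleCat.of A G) k z = 0 := by
    rw [← Θ_Q_one, hz]
    rfl
  rw [toH'_eq_zero_iff] at h1
  obtain ⟨m, h, hm⟩ := h1
  exact quotMap_comp_injective J G n hL h z hm

omit [IsNoetherianRing A] in
lemma kill_pi (k r : ℕ) : ∀ a ∈ J ^ k, ∀ x : (Fin r → A ⧸ J ^ k), a • x = 0 := by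
  intro a ha x
  funext j
  rw [Pi.smul_apply, Pi.zero_apply]
  exact kill_Q J k a ha (x j)

include hL in
lemma Qr_inj (k r : ℕ) : Function.Injective (Θ J G n k (kill_pi J k r)) := by
  classical
  rw [← LinearMap.ker_eq_bot, LinearMap.ker_eq_bot']
  intro w hw
  have hcomp : ∀ j : Fin r, (Abelian.Ext.mk₀ (ModuleCat.ofHom
      (LinearMap.single A (fun _ : Fin r => A ⧸ J ^ k) j))).comp w (zero_add n) = 0 := by
    intro j
    apply Q_inj J G n hL k
    rw [map_zero]
    apply LinearMap.ext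
    intro q
    rw [Θ_natural J G n k (kill_pi J k r) (kill_Q J k), hw]
    rfl
  have hid : 𝟙 (ModuleCat.of A (Fin r → A ⧸ J ^ k)) = ∑ j : Fin r,
      (ModuleCat.ofHom (LinearMap.proj (R := A) (φ := fun _ : Fin r => A ⧸ J ^ k) j) ≫
        ModuleCat.ofHom (LinearMap.single A (fun _ : Fin r => A ⧸ J ^ k) j)) := by
    apply ModuleCat.hom_ext
    apply LinearMap.ext
    intro v
    rw [ModuleCat.hom_sum, LinearMap.sum_apply]
    simp only [ModuleCat.hom_comp, ModuleCat.hom_ofHom, LinearMap.comp_apply, LinearMap.proj_apply,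
      LinearMap.single_apply, ModuleCat.hom_id, LinearMap.id_apply]
    exact (Finset.univ_sum_single v).symm
  rw [← Abelian.Ext.mk₀_id_comp w, hid, mk₀_sum_comp]
  apply Finset.sum_eq_zero
  intro j _
  rw [← Abelian.Ext.mk₀_comp_mk₀, Abelian.Ext.comp_assoc _ _ w (zero_add 0) (zero_add n) (by lia),
    hcomp j, Abelian.Ext.comp_zero]

include hL in
lemma gen_inj (k : ℕ) (F : Type u) [AddCommGroup F] [Module A F] [Module.Finite A F]
    (hk : ∀ a ∈ J ^ k, ∀ x : F, a • x = 0) : Function.Injective (Θ J G n k hk) := by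
  rw [← LinearMap.ker_eq_bot, LinearMap.ker_eq_bot']
  intro z hz
  obtain ⟨r, π, hπ⟩ := exists_surj_of_kill J k F hk
  have h1 : (Abelian.Ext.mk₀ (ModuleCat.ofHom π)).comp z (zero_add n) = 0 := by
    apply Qr_inj J G n hL k r
    rw [map_zero]
    apply LinearMap.ext
    intro v
    rw [Θ_natural J G n k hk (kill_pi J k r), hz]
    rfl
  exact L2' (LinearMap.ker π).subtype π (Submodule.injective_subtype _) hπ
    (LinearMap.exact_subtype_ker_map _) n
    (hL (LinearMap.ker π) inferInstance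
      (tors_of_injective J _ (Submodule.injective_subtype _)
        (tors_of_kill J _ ⟨k, kill_pi J k r⟩))) z h1

end Inj

section Surj
variable [IsNoetherianRing A]
  (hL : ∀ (K : Type u) [AddCommGroup K] [Module A K], Module.Finite A K → Tors J K →
      (n = 0 ∨ ∃ j, n = j + 1 ∧ E A G K j))

include hL in
lemma Q_surj (k : ℕ) : Function.Surjective (Θ J G n k (kill_Q J k)) := by
  classical
  intro h
  have hxk : ∀ a ∈ J ^ k, a • h (Ideal.Quotient.mk (J ^ k) 1) = 0 := fun a ha => by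
    rw [← map_smul, kill_Q J k a ha, map_zero]
  obtain ⟨m₀, w₀, hw₀⟩ := toH'_surj J n (ModuleCat.of A G) (h (Ideal.Quotient.mk (J ^ k) 1))
  obtain ⟨m, hm₀, hkm, w, hw⟩ : ∃ (m : ℕ) (_ : m₀ ≤ m) (_ : k ≤ m)
      (w : Abelian.Ext.{u} (Q J m) (ModuleCat.of A G) n),
      toH' J n (ModuleCat.of A G) m w = h (Ideal.Quotient.mk (J ^ k) 1) :=
    ⟨max m₀ k, le_max_left _ _, le_max_right _ _,
      (Abelian.Ext.mk₀ (quotMap J (le_max_left m₀ k))).comp w₀ (zero_add n),
      (toH'_comp J n (ModuleCat.of A G) (le_max_left m₀ k) w₀).trans hw₀⟩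
  -- the vanishing predicate
  have hmono : ∀ (t t' : ℕ) (a : A), t ≤ t' →
      (Abelian.Ext.mk₀ (quotMap J (Nat.le_add_right m t))).comp (a • w) (zero_add n) = 0 →
      (Abelian.Ext.mk₀ (quotMap J (Nat.le_add_right m t'))).comp (a • w) (zero_add n) = 0 := by
    intro t t' a htt' hz
    have h1 := comp_quotMap_comp J n (Nat.le_add_right m t) (Nat.add_le_add_left htt' m) (a • w)
    rw [hz, Abelian.Ext.comp_zero] at h1
    exact h1.symm
  have hex : ∀ a ∈ J ^ k, ∃ t : ℕ,
      (Abelian.Ext.mk₀ (quotMap J (Nat.le_add_right m t))).comp (a • w) (zero_add n) = 0 := by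
    intro a ha
    have h0 : toH' J n (ModuleCat.of A G) m (a • w) = 0 := by rw [map_smul, hw, hxk a ha]
    obtain ⟨m', hm', hz⟩ := (toH'_eq_zero_iff J n (ModuleCat.of A G) _).1 h0
    obtain ⟨t, rfl⟩ := Nat.exists_eq_add_of_le hm'
    exact ⟨t, hz⟩
  obtain ⟨S, hS⟩ := (IsNoetherian.noetherian (J ^ k) : (J ^ k).FG)
  have hex' : ∀ s ∈ S, ∃ t : ℕ,
      (Abelian.Ext.mk₀ (quotMap J (Nat.le_add_right m t))).comp (s • w) (zero_add n) = 0 :=
    fun s hs => hex s (hS ▸ Ideal.subset_span hs)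
  choose! tf htf using hex'
  have hall : ∀ a ∈ J ^ k,
      (Abelian.Ext.mk₀ (quotMap J (Nat.le_add_right m (S.sup tf)))).comp (a • w) (zero_add n) = 0 := by
    intro a ha
    rw [← hS] at ha
    induction ha using Submodule.span_induction with
    | mem s hs => exact hmono (tf s) (S.sup tf) s (Finset.le_sup hs) (htf s hs)
    | zero => rw [zero_smul, Abelian.Ext.comp_zero]
    | add a b _ _ ha hb => rw [add_smul, Abelian.Ext.comp_add, ha, hb, add_zero]
    | smul r a _ ha => rw [smul_eq_mul, mul_smul, Abelian.Ext.comp_smul, ha, smul_zero]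
  -- pass to level m'
  have hkm' : k ≤ m + S.sup tf := hkm.trans (Nat.le_add_right _ _)
  have hw'kill : ∀ a ∈ J ^ k,
      a • (Abelian.Ext.mk₀ (quotMap J (Nat.le_add_right m (S.sup tf)))).comp w (zero_add n) = 0 := by
    intro a ha
    rw [← Abelian.Ext.comp_smul]
    exact hall a ha
  have hw' : toH' J n (ModuleCat.of A G) (m + S.sup tf)
      ((Abelian.Ext.mk₀ (quotMap J (Nat.le_add_right m (S.sup tf)))).comp w (zero_add n)) =
      h (Ideal.Quotient.mk (J ^ k) 1) :=
    (toH'_comp J n (ModuleCat.of A G) (Nat.le_add_right m (S.sup tf)) w).trans hw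
  generalize (Abelian.Ext.mk₀ (quotMap J (Nat.le_add_right m (S.sup tf)))).comp w (zero_add n) = w'
    at hw'kill hw'
  generalize m + S.sup tf = m' at hkm' w' hw'kill hw'
  -- restriction to the kernel vanishes
  have hsurj : Function.Surjective (quotMap J hkm').hom := by
    intro q
    obtain ⟨a, rfl⟩ := Ideal.Quotient.mk_surjective q
    exact ⟨Ideal.Quotient.mk _ a, rfl⟩
  have hKkill : ∀ a ∈ J ^ m', ∀ y : LinearMap.ker (quotMap J hkm').hom, a • y = 0 :=
    fun a ha y => Subtype.ext (kill_Q J m' a ha y.1)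
  have hres : (Abelian.Ext.mk₀ (ModuleCat.ofHom (LinearMap.ker (quotMap J hkm').hom).subtype)).comp w'
      (zero_add n) = 0 := by
    apply gen_inj J G n hL m' (LinearMap.ker (quotMap J hkm').hom) hKkill
    rw [map_zero]
    apply LinearMap.ext
    intro y
    rw [Θ_natural J G n m' (kill_Q J m') hKkill]
    obtain ⟨a, ha⟩ := Ideal.Quotient.mk_surjective (y : A ⧸ J ^ m')
    have hak : a ∈ J ^ k := by
      have h1 : (quotMap J hkm').hom (y : A ⧸ J ^ m') = 0 := y.2
      rw [← ha] at h1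
      exact Ideal.Quotient.eq_zero_iff_mem.1 h1
    have h2 : ((LinearMap.ker (quotMap J hkm').hom).subtype y) =
        a • Ideal.Quotient.mk (J ^ m') 1 := by
      rw [Submodule.subtype_apply, ← ha]
      change _ = Ideal.Quotient.mk (J ^ m') (a * 1)
      rw [mul_one]
    rw [h2, map_smul, Θ_Q_one, ← map_smul, hw'kill a hak, map_zero]
    rfl
  obtain ⟨z, hz⟩ := Abelian.Ext.contravariant_sequence_exact₂
    (sesOf_shortExact (LinearMap.ker (quotMap J hkm').hom).subtype (quotMap J hkm').hom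
      (Submodule.injective_subtype _) hsurj (LinearMap.exact_subtype_ker_map _)) _ w' hres
  refine ⟨z, ?_⟩
  apply linearMap_Q_ext
  rw [Θ_Q_one, ← hw', ← hz]
  exact (toH'_comp J n (ModuleCat.of A G) hkm' z).symm

end Surj

section Surj2
variable [IsNoetherianRing A]
  (hL : ∀ (K : Type u) [AddCommGroup K] [Module A K], Module.Finite A K → Tors J K →
      (n = 0 ∨ ∃ j, n = j + 1 ∧ E A G K j))

include hL in
lemma Qr_surj (k r : ℕ) : Function.Surjective (Θ J G n k (kill_pi J k r)) := by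
  classical
  intro h
  have hz : ∀ j : Fin r, ∃ z : Abelian.Ext.{u} (ModuleCat.of A (A ⧸ J ^ k)) (ModuleCat.of A G) n,
      Θ J G n k (kill_Q J k) z = h ∘ₗ LinearMap.single A (fun _ : Fin r => A ⧸ J ^ k) j :=
    fun j => Q_surj J G n hL k _
  choose z hz using hz
  refine ⟨∑ j : Fin r, (Abelian.Ext.mk₀ (ModuleCat.ofHom
    (LinearMap.proj (R := A) (φ := fun _ : Fin r => A ⧸ J ^ k) j))).comp (z j) (zero_add n), ?_⟩
  apply LinearMap.ext
  intro v
  rw [map_sum, LinearMap.sum_apply]
  have h1 : ∀ j : Fin r, Θ J G n k (kill_pi J k r) ((Abelian.Ext.mk₀ (ModuleCat.ofHom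
      (LinearMap.proj (R := A) (φ := fun _ : Fin r => A ⧸ J ^ k) j))).comp (z j) (zero_add n)) v =
      h (Pi.single j (v j)) := by
    intro j
    rw [Θ_natural J G n k (kill_Q J k) (kill_pi J k r), hz j]
    rfl
  rw [Finset.sum_congr rfl (fun j _ => h1 j), ← map_sum, Finset.univ_sum_single]

include hL in
lemma gen_surj (k : ℕ) (F : Type u) [AddCommGroup F] [Module A F] [Module.Finite A F]
    (hk : ∀ a ∈ J ^ k, ∀ x : F, a • x = 0) : Function.Surjective (Θ J G n k hk) := by
  intro h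
  obtain ⟨r, π, hπ⟩ := exists_surj_of_kill J k F hk
  obtain ⟨w, hw⟩ := Qr_surj J G n hL k r (h ∘ₗ π)
  have hKkill : ∀ a ∈ J ^ k, ∀ y : LinearMap.ker π, a • y = 0 :=
    fun a ha y => Subtype.ext (kill_pi J k r a ha y.1)
  have hres : (Abelian.Ext.mk₀ (ModuleCat.ofHom (LinearMap.ker π).subtype)).comp w (zero_add n) = 0 := by
    apply gen_inj J G n hL k (LinearMap.ker π) hKkill
    rw [map_zero]
    apply LinearMap.ext
    intro y
    rw [Θ_natural J G n k (kill_pi J k r) hKkill, hw, LinearMap.comp_apply]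
    have : π ((LinearMap.ker π).subtype y) = 0 := y.2
    rw [this, map_zero]
    rfl
  obtain ⟨z, hz⟩ := Abelian.Ext.contravariant_sequence_exact₂
    (sesOf_shortExact (LinearMap.ker π).subtype π
      (Submodule.injective_subtype _) hπ (LinearMap.exact_subtype_ker_map _)) _ w hres
  refine ⟨z, ?_⟩
  apply LinearMap.ext
  intro m
  obtain ⟨v, rfl⟩ := hπ m
  rw [← Θ_natural J G n k hk (kill_pi J k r) π z v]
  have hz' : (Abelian.Ext.mk₀ (ModuleCat.ofHom π)).comp z (zero_add n) = w := hz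
  rw [hz', hw]
  rfl

end Surj2

end Aux



/-- Affine case with Z = X. Let A be a Noetherian ring, J an ideal, G any A-module and n ≥ 0 with
Ext^{n−1}_A(F', G) = 0 for all finite F' supported in V(J). Then for every finite A-module F with
Supp F ⊆ V(J) there is an A-linear isomorphism Ext^n_A(F, G) ≅ Hom_A(F, H^n_J(G)). (Existence of the
isomorphism is asserted; in the source it is the canonical one expressing that Ext^n_A(−, G), left
exact on such F, is represented by H^n_J(G).) -/
theorem result (A : Type u) [CommRing A] [IsNoetherianRing A] (J : Ideal A) (G : Type u) [AddCommGroup G] [Module A G] (n : ℕ) (hvan : ∀ (F' : Type u) [AddCommGroup F'] [Module A F'], Module.Finite A F' → Module.support A F' ⊆ PrimeSpectrum.zeroLocus (J : Set A) → ∀ i : ℕ, i + 1 = n → Subsingleton (((Ext A (ModuleCat.{u} A) i).obj (op (ModuleCat.of A F'))).obj (ModuleCat.of A G))) (F : Type u) [AddCommGroup F] [Module A F] [Module.Finite A F] (hF : Module.support A F ⊆ PrimeSpectrum.zeroLocus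 (J : Set A)) : Nonempty ((((Ext A (ModuleCat.{u} A) n).obj (op (ModuleCat.of A F))).obj (ModuleCat.of A G)) ≃ₗ[A] (F →ₗ[A] LocCoh.H J n G)) := by
  have hL : ∀ (K : Type u) [AddCommGroup K] [Module A K], Module.Finite A K →
      Groth.Agent.S5162.Tors J K → (n = 0 ∨ ∃ j, n = j + 1 ∧ Groth.Agent.S5162.E A G K j) := by
    intro K _ _ hKfin hK
    cases n with
    | zero => exact Or.inl rfl
    | succ j =>
      refine Or.inr ⟨j, rfl, ?_⟩
      have := hvan K hKfin hK j rfl
      exact (Groth.Agent.Lib.helper19.LCBridge.oldExtEquiv (R := A) (ModuleCat.of A K) (ModuleCat.of A G) j).symm.injective.subsingleton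
  obtain ⟨k, hk⟩ := Groth.Agent.S5162.kill_of_tors J F hF
  exact ⟨(Groth.Agent.Lib.helper19.LCBridge.oldExtEquiv (R := A) (ModuleCat.of A F) (ModuleCat.of A G) n) ≪≫ₗ
    LinearEquiv.ofBijective (Θ J G n k hk) ⟨gen_inj J G n hL k F hk, gen_surj J G n hL k F hk⟩⟩

end Groth.Agent.S5174
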