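import Groth.Statements.S9246
import Groth.Agent.Lib.Helper24.FlatLocalFibre
import Groth.Agent.Lib.Helper24.FlatCotangent
import Groth.Agent.Lib.Helper24.NoethLimit
-- import your own Groth.Agent.* helpers here

set_option autoImplicit false
universe u
open CAlg

namespace Groth.Agent.S9246

/-- Let A → B be an étale ring map and q a prime of B lying over the prime p of A. Then A_p is a regular
local ring if and only if B_q is a regular local ring. -/
theorem result (A B : Type u) [CommRing A] [CommRing B]
    [Algebra A B] [Algebra.Etale A B] (q : Ideal B) [q.IsPrime] :
    IsRegularLocalRing (Localization.AtPrime (Ideal.comap (algebraMap A B) q)) ↔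
      IsRegularLocalRing (Localization.AtPrime q) := by
  set p : Ideal A := Ideal.comap (algebraMap A B) q with hp
  haveI hlo : q.LiesOver p := ⟨rfl⟩
  letI := Localization.AtPrime.algebraOfLiesOver p q
  haveI hloc : IsLocalHom (algebraMap (Localization.AtPrime p) (Localization.AtPrime q)) :=
    Localization.isLocalHom_localRingHom p q (algebraMap A B) Ideal.LiesOver.over
  haveI : Module.Flat A B := inferInstance
  haveI hflat : Module.Flat (Localization.AtPrime p) (Localization.AtPrime q) := inferInstance
  haveI : Algebra.EssFiniteType A (Localization.AtPrime q) :=
    Algebra.EssFiniteType.comp A B (Localization.AtPrime q)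
  haveI : Algebra.EssFiniteType (Localization.AtPrime p) (Localization.AtPrime q) :=
    Algebra.EssFiniteType.of_comp A _ _
  haveI : Algebra.FormallyUnramified B (Localization.AtPrime q) :=
    Algebra.FormallyUnramified.of_isLocalization q.primeCompl
  haveI : Algebra.FormallyUnramified A (Localization.AtPrime q) :=
    Algebra.FormallyUnramified.comp A B (Localization.AtPrime q)
  haveI : Algebra.FormallyUnramified (Localization.AtPrime p) (Localization.AtPrime q) :=
    Algebra.FormallyUnramified.of_restrictScalars A _ _
  have hm : (IsLocalRing.maximalIdeal (Localization.AtPrime p)).map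
      (algebraMap (Localization.AtPrime p) (Localization.AtPrime q)) =
      IsLocalRing.maximalIdeal (Localization.AtPrime q) :=
    Algebra.FormallyUnramified.map_maximalIdeal
  constructor
  · intro hreg
    haveI : IsNoetherianRing (Localization.AtPrime p) := inferInstance
    haveI : IsNoetherianRing (Localization.AtPrime q) :=
      Algebra.EssFiniteType.isNoetherianRing (Localization.AtPrime p) (Localization.AtPrime q)
    have hdim := Groth.Agent.Lib.Helper24.FlatLocalFibre.ringKrullDim_eq_of_flat
      (Localization.AtPrime p) (Localization.AtPrime q) hm
    exact (Groth.Agent.Lib.Helper24.FlatCotangent.isRegularLocalRing_iff_of_flat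
      (Localization.AtPrime p) (Localization.AtPrime q) hm hdim).1 hreg
  · intro hreg
    haveI : IsNoetherianRing (Localization.AtPrime q) := inferInstance
    haveI : Module.FaithfullyFlat (Localization.AtPrime p) (Localization.AtPrime q) :=
      Module.FaithfullyFlat.of_flat_of_isLocalHom
    haveI : IsNoetherianRing (Localization.AtPrime p) :=
      Groth.Agent.Lib.Helper24.NoethLimit.isNoetherianRing_of_faithfullyFlat
        (Localization.AtPrime p) (Localization.AtPrime q)
    have hdim := Groth.Agent.Lib.Helper24.FlatLocalFibre.ringKrullDim_eq_of_flat
      (Localization.AtPrime p) (Localization.AtPrime q) hm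
    exact (Groth.Agent.Lib.Helper24.FlatCotangent.isRegularLocalRing_iff_of_flat
      (Localization.AtPrime p) (Localization.AtPrime q) hm hdim).2 hreg

end Groth.Agent.S9246
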