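import Groth.Statements.S2984
import Mathlib
import Groth.Agent.Lib.Helper15.TorsIdeal2
import Groth.Agent.Lib.Helper15.MultType

set_option autoImplicit false
universe u
open TensorProduct SGA3b
open SGA3b

namespace Groth.Agent.S2984

/-- local statement on one member of the cover. -/
theorem local_finite (L : Type u) [CommRing L] (B : Type u) [CommRing B] [HopfAlgebra L B]
    (hft : Algebra.FiniteType L B) (h : IsMultTypeConst L B) (n : ℕ) (hn : 0 < n)
    (hB : torsionIdeal L B n = ⊥) : Module.Finite L B := by
  obtain ⟨R', _, _, hff, M, _, ⟨e⟩⟩ := h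
  rcases subsingleton_or_nontrivial R' with hsub | hnt
  · have hL : Subsingleton L := by
      constructor
      intro a b
      have := (FaithfulSMul.algebraMap_injective L R')
      exact this (Subsingleton.elim _ _)
    have : Subsingleton B := Module.subsingleton L B
    infer_instance
  · have hft2 : Algebra.FiniteType R' (MonoidAlgebra R' M) :=
      Algebra.FiniteType.equiv inferInstance e.toAlgEquiv
    have hfg : Group.FG M := MonoidAlgebra.finiteType_iff_group_fg.mp hft2
    have h1 : torsionIdeal R' (R' ⊗[L] B) n = ⊥ := by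
      rw [Groth.Agent.Lib.helper15.TorsIdeal.torsionIdeal_baseChange_eq, hB, Ideal.map_bot]
    have h2 : torsionIdeal R' (MonoidAlgebra R' M) n = ⊥ :=
      Groth.Agent.Lib.helper15.TorsIdeal.torsionIdeal_eq_bot_of_equiv e n h1
    have hfin : Finite M := Groth.Agent.Lib.helper15.TorsIdeal.finite_of_torsionIdeal_eq_bot n hn h2
    have h3 : Module.Finite R' (MonoidAlgebra R' M) := Module.Finite.of_basis (MonoidAlgebra.basis M R')
    have h4 : Module.Finite R' (R' ⊗[L] B) := Module.Finite.equiv e.symm.toLinearEquiv
    exact Module.Finite.of_finite_tensorProduct_of_faithfullyFlat R'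

/-- local statement on one member of the cover, converse. -/
theorem local_killed (L : Type u) [CommRing L] (B : Type u) [CommRing B] [HopfAlgebra L B]
    (h : IsMultTypeConst L B) [Module.Finite L B] :
    ∃ n₀ : ℕ, 0 < n₀ ∧ ∀ n : ℕ, n₀ ∣ n → torsionIdeal L B n = ⊥ := by
  obtain ⟨R', _, _, hff, M, _, ⟨e⟩⟩ := h
  rcases subsingleton_or_nontrivial R' with hsub | hnt
  · have hL : Subsingleton L := by
      constructor
      intro a b
      have := (FaithfulSMul.algebraMap_injective L R')
      exact this (Subsingleton.elim _ _)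
    have : Subsingleton B := Module.subsingleton L B
    exact ⟨1, Nat.one_pos, fun n _ => Subsingleton.elim _ _⟩
  · have h4 : Module.Finite R' (R' ⊗[L] B) := inferInstance
    have h3 : Module.Finite R' (MonoidAlgebra R' M) := Module.Finite.equiv e.toLinearEquiv
    have hfin : Finite M := Groth.Agent.Lib.helper15.TorsIdeal.finite_of_moduleFinite (R := R')
    refine ⟨Nat.card M, Nat.card_pos, fun n hdvd => ?_⟩
    have hpow : ∀ m : M, m ^ n = 1 := by
      intro m
      obtain ⟨c, rfl⟩ := hdvd
      rw [pow_mul, pow_card_eq_one', one_pow]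
    have h2 : torsionIdeal R' (MonoidAlgebra R' M) n = ⊥ :=
      Groth.Agent.Lib.helper15.TorsIdeal.torsionIdeal_eq_bot_of_pow_eq_one n hpow
    have h1 : torsionIdeal R' (R' ⊗[L] B) n = ⊥ :=
      Groth.Agent.Lib.helper15.TorsIdeal.torsionIdeal_eq_bot_of_equiv e.symm n h2
    rw [eq_bot_iff]
    intro x hx
    have h5 : (1 : R') ⊗ₜ[L] x ∈ torsionIdeal R' (R' ⊗[L] B) n := by
      rw [Groth.Agent.Lib.helper15.TorsIdeal.torsionIdeal_baseChange_eq]
      exact Ideal.mem_map_of_mem _ hx
    rw [h1, Ideal.mem_bot] at h5
    rw [Ideal.mem_bot]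
    exact Module.FaithfullyFlat.tensorProduct_mk_injective (A := L) (B := R') B
      (by rw [TensorProduct.mk_apply, h5, map_zero])

/-- Let R be a ring and G = Spec A an R-group scheme of multiplicative type and of finite type, with A a
Hopf algebra over R. Then A is finite over R if and only if the n-th power map of G is trivial for
some n > 0 (the kernel ₙG is all of G). (Affine group schemes over an affine base are taken in
Hopf-algebra form; base change is the tensor product.) -/
theorem result (R : Type u) [CommRing R] (A : Type u) [CommRing A] [HopfAlgebra R A] (hft : Algebra.FiniteType R A) (h : IsMultType R A) :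
    Module.Finite R A ↔ ∃ n : ℕ, 0 < n ∧ torsionIdeal R A n = ⊥ := by
  classical
  obtain ⟨s, hs, hcov⟩ := h
  constructor
  · intro hfinA
    obtain ⟨t, hts, ht⟩ := (Ideal.span_eq_top_iff_finite s).mp hs
    have hloc : ∀ g : R, g ∈ s → ∃ n₀ : ℕ, 0 < n₀ ∧ ∀ n : ℕ, n₀ ∣ n →
        torsionIdeal (Localization.Away g) (Localization.Away g ⊗[R] A) n = ⊥ :=
      fun g hg => local_killed (Localization.Away g) (Localization.Away g ⊗[R] A) (hcov g hg)
    let N : R → ℕ := fun g => if hg : g ∈ s then (hloc g hg).choose else 1
    have hNpos : ∀ g, 0 < N g := by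
      intro g
      by_cases hg : g ∈ s
      · simp only [N, dif_pos hg]
        exact (hloc g hg).choose_spec.1
      · simp only [N, dif_neg hg]
        exact Nat.one_pos
    refine ⟨∏ g ∈ t, N g, Finset.prod_pos (fun g _ => hNpos g), ?_⟩
    rw [eq_bot_iff]
    intro x hx
    rw [Ideal.mem_bot]
    apply Groth.Agent.Lib.helper15.MultType.eq_zero_of_localization (t : Set R) ht x
    intro g hg
    have hgs : g ∈ s := hts hg
    have h1 : (1 : Localization.Away g) ⊗ₜ[R] x ∈
        torsionIdeal (Localization.Away g) (Localization.Away g ⊗[R] A) (∏ g ∈ t, N g) := by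
      rw [Groth.Agent.Lib.helper15.TorsIdeal.torsionIdeal_baseChange_eq]
      exact Ideal.mem_map_of_mem _ hx
    have h2 : N g ∣ ∏ g ∈ t, N g := Finset.dvd_prod_of_mem N hg
    have h3 : N g = (hloc g hgs).choose := by simp only [N, dif_pos hgs]
    rw [(hloc g hgs).choose_spec.2 _ (h3 ▸ h2), Ideal.mem_bot] at h1
    exact h1
  · rintro ⟨n, hn, hA⟩
    refine Module.Finite.of_localizationSpan' s hs
      (Mₚ := fun g => Localization.Away g.val ⊗[R] A) (Rₚ := fun g => Localization.Away g.val)
      (fun g => TensorProduct.mk R (Localization.Away g.val) A 1) (fun g => ?_)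
    have hftg : Algebra.FiniteType (Localization.Away g.val) (Localization.Away g.val ⊗[R] A) :=
      inferInstance
    refine local_finite (Localization.Away g.val) (Localization.Away g.val ⊗[R] A) hftg
      (hcov g.val g.property) n hn ?_
    rw [Groth.Agent.Lib.helper15.TorsIdeal.torsionIdeal_baseChange_eq, hA, Ideal.map_bot]

end Groth.Agent.S2984
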