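import Groth.Statements.S15009
import Groth.Agent.Lib.Helper15.TFCurv3
import Groth.Agent.Lib.Helper15.TFCurv5

set_option autoImplicit false
universe u
open TFCurv

namespace Groth.Agent.S15009

set_option linter.style.haveILetI false in
open Groth.Agent.Lib.helper15.TFCurv IsLocalRing in
/-- a spanning `O`-lattice in `K^n` can be moved, by a `K`-linear automorphism, between `O^n` and
`Õ^n` -/
theorem exists_lattice_aux (O : Type u) [CommRing O] [IsDomain O] [IsNoetherianRing O]
    [IsLocalRing O] (hdim : ringKrullDim O = 1) [Infinite (ResidueField O)]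
    (K : Type u) [Field K] [Algebra O K] [IsFractionRing O K]
    (hfin : Module.Finite O ↥(integralClosure O K))
    (M : Type u) [AddCommGroup M] [Module O M] [Module.Finite O M] (n : ℕ)
    (ι₁ : M →ₗ[O] (Fin n → K))
    (hspan : Submodule.span K (Set.range ι₁) = ⊤) :
    ∃ T : (Fin n → K) ≃ₗ[K] (Fin n → K), (∀ a, ∃ m, T (ι₁ m) = Pi.single a 1) ∧
      ∀ m a, T (ι₁ m) a ∈ integralClosure O K := by
  classical
  haveI : Ring.KrullDimLE 1 O := Ring.krullDimLE_iff.mpr hdim.le
  haveI := isPrincipalIdealRing_integralClosure O K hfin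
  haveI : IsFractionRing ↥(integralClosure O K) K :=
    integralClosure.isFractionRing_of_finite_extension K K
  obtain ⟨S, hS⟩ := Module.finite_def.mp ‹Module.Finite O M›
  let N : Submodule ↥(integralClosure O K) (Fin n → K) :=
    Submodule.span _ (ι₁ '' (S : Set M))
  have hMN : ∀ m, ι₁ m ∈ N := by
    intro m
    have hm : m ∈ Submodule.span O (S : Set M) := hS ▸ Submodule.mem_top
    induction hm using Submodule.span_induction with
    | mem x hx => exact Submodule.subset_span ⟨x, hx, rfl⟩
    | zero => rw [map_zero]; exact N.zero_mem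
    | add x y _ _ hx hy => rw [map_add]; exact N.add_mem hx hy
    | smul a x _ hx =>
      rw [map_smul, ← algebraMap_smul ↥(integralClosure O K) a (ι₁ x)]
      exact N.smul_mem _ hx
  haveI : Module.Finite ↥(integralClosure O K) N :=
    Module.Finite.span_of_finite _ (S.finite_toSet.image _)
  haveI : Module.IsTorsionFree ↥(integralClosure O K) N := inferInstance
  haveI : Module.Free ↥(integralClosure O K) N := Module.free_of_finite_type_torsion_free'
  let b := Module.Free.chooseBasis ↥(integralClosure O K) N
  -- `M` as an `O`-submodule of `N`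
  let M₁ : Submodule O N :=
    { carrier := {x | ∃ m, ι₁ m = (x : Fin n → K)}
      add_mem' := by
        rintro x y ⟨m, hm⟩ ⟨m', hm'⟩
        exact ⟨m + m', by rw [map_add, hm, hm']; rfl⟩
      zero_mem' := ⟨0, by rw [map_zero]; rfl⟩
      smul_mem' := by
        rintro c x ⟨m, hm⟩
        exact ⟨c • m, by rw [map_smul, hm]; rfl⟩ }
  have hM₁ : Submodule.span ↥(integralClosure O K) (M₁ : Set N) = ⊤ := by
    rw [eq_top_iff]
    rintro ⟨x, hx⟩ -
    induction hx using Submodule.span_induction with
    | mem x hx =>
      obtain ⟨m, _, rfl⟩ := hx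
      exact Submodule.subset_span ⟨m, rfl⟩
    | zero => exact Submodule.zero_mem _
    | add x y hx hy hx' hy' =>
      have := Submodule.add_mem _ hx' hy'
      exact this
    | smul a x hx hx' =>
      have := Submodule.smul_mem _ a hx'
      exact this
  obtain ⟨e, he, hdet⟩ := exists_family_isUnit_det (finite_maximals_integralClosure O K hfin)
    (algebraMap_mem_of_isMaximal O K) b M₁ hM₁
  obtain ⟨hli, hsp⟩ := b.is_basis_iff_det.mpr hdet
  choose m hm using he
  let e' : Module.Free.ChooseBasisIndex ↥(integralClosure O K) N → (Fin n → K) :=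
    fun i => (e i : Fin n → K)
  have he' : ∀ i, ι₁ (m i) = e' i := hm
  have hliR : LinearIndependent ↥(integralClosure O K) e' :=
    hli.map' N.subtype (Submodule.ker_subtype N)
  have hliK : LinearIndependent K e' :=
    (LinearIndependent.iff_fractionRing ↥(integralClosure O K) K).mp hliR
  have hNe : ∀ x ∈ N, x ∈ Submodule.span ↥(integralClosure O K) (Set.range e') := by
    intro x hx
    have h1 : (⟨x, hx⟩ : N) ∈ Submodule.span ↥(integralClosure O K) (Set.range e) :=
      hsp ▸ Submodule.mem_top
    have h2 := Submodule.mem_map_of_mem (f := N.subtype) h1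
    rw [Submodule.map_span, ← Set.range_comp] at h2
    exact h2
  have hspK : ⊤ ≤ Submodule.span K (Set.range e') := by
    rw [← hspan, Submodule.span_le]
    rintro _ ⟨x, rfl⟩
    exact Submodule.span_subset_span ↥(integralClosure O K) K _ (hNe _ (hMN x))
  let B : Module.Basis (Module.Free.ChooseBasisIndex ↥(integralClosure O K) N) K (Fin n → K) :=
    Module.Basis.mk hliK hspK
  have hB : ∀ i, B i = e' i := fun i => by rw [Module.Basis.mk_apply]
  have hcard : Fintype.card (Module.Free.ChooseBasisIndex ↥(integralClosure O K) N) = n := by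
    rw [← Module.finrank_eq_card_basis B, Module.finrank_fin_fun]
  let σ := Fintype.equivFinOfCardEq hcard
  let T : (Fin n → K) ≃ₗ[K] (Fin n → K) :=
    B.equivFun.trans (LinearEquiv.funCongrLeft K K σ.symm)
  have hT : ∀ x a, T x a = B.repr x (σ.symm a) := fun x a => rfl
  refine ⟨T, ?_, ?_⟩
  · intro a
    refine ⟨m (σ.symm a), ?_⟩
    funext a'
    rw [hT, he', ← hB, Module.Basis.repr_self, Finsupp.single_apply, Pi.single_apply]
    by_cases h : a' = a
    · subst h
      simp
    · rw [if_neg h, if_neg]
      intro h'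
      exact h (σ.symm.injective h'.symm)
  · intro x a
    rw [hT]
    have hx := hNe _ (hMN x)
    generalize σ.symm a = i
    generalize ι₁ x = y₀ at hx
    induction hx using Submodule.span_induction with
    | mem y hy =>
      obtain ⟨j, rfl⟩ := hy
      rw [← hB, Module.Basis.repr_self, Finsupp.single_apply]
      split_ifs
      · exact Subalgebra.one_mem _
      · exact Subalgebra.zero_mem _
    | zero =>
      rw [map_zero, Finsupp.zero_apply]
      exact Subalgebra.zero_mem _
    | add y z _ _ hy hz =>
      rw [map_add, Finsupp.add_apply]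
      exact Subalgebra.add_mem _ hy hz
    | smul r y _ hy =>
      have h1 : r • y = (r : K) • y := rfl
      rw [h1, map_smul, Finsupp.smul_apply, smul_eq_mul]
      exact Subalgebra.mul_mem _ r.2 hy

/-- Let O be a one-dimensional Noetherian local domain with algebraically closed residue field whose
integral closure O~ in its fraction field K is a finite O-module. A finitely generated torsion-free
O-module M of rank n (that is, K ⊗ M has K-dimension n) is isomorphic to an O-submodule M' of K^n
with O^n ⊆ M' ⊆ O~^n. -/
theorem result (O : Type u) [CommRing O] [IsDomain O] [IsNoetherianRing O] [IsLocalRing O] (hdim : ringKrullDim O = 1) [IsAlgClosed (IsLocalRing.ResidueField O)] (K : Type u) [Field K] [Algebra O K] [IsFractionRing O K] (hfin : Module.Finite O ↥(integralClosure O K)) (M : Type u) [AddCommGroup M] [Module O M] [Module.Finite O M] [NoZeroSMulDivisors O M] (n : ℕ) (hn : Module.finrank K (TensorProduct O K M) = n) : ∃ M' : Submodule O (Fin n → K), Submodule.pi Set.univ (fun _ : Fin n => (1 : Submodule O K)) ≤ M' ∧ M' ≤ Submodule.pi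 Set.univ (fun _ : Fin n => (Subalgebra.toSubmodule (integralClosure O K))) ∧ Nonempty (M ≃ₗ[O] ↥M') := by
  classical
  let φ : (TensorProduct O K M) ≃ₗ[K] (Fin n → K) :=
    LinearEquiv.ofFinrankEq _ _ (by rw [hn, Module.finrank_fin_fun])
  let ι₀ : M →ₗ[O] TensorProduct O K M := TensorProduct.mk O K M 1
  have hι₀ : Function.Injective ι₀ := by
    rw [injective_iff_map_eq_zero]
    intro x hx
    obtain ⟨s, hs⟩ := (IsLocalizedModule.eq_zero_iff (nonZeroDivisors O) ι₀).mp hx
    exact (smul_eq_zero.mp hs).resolve_left (nonZeroDivisors.ne_zero s.2)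
  have hsp₀ : Submodule.span K (Set.range ι₀) = ⊤ := by
    have := span_eq_top_of_isLocalizedModule K (nonZeroDivisors O) ι₀ (v := Set.univ)
      Submodule.span_univ
    rwa [Set.image_univ] at this
  let ι₁ : M →ₗ[O] (Fin n → K) := (φ.toLinearMap.restrictScalars O).comp ι₀
  have hι₁ : Function.Injective ι₁ := φ.injective.comp hι₀
  have hsp₁ : Submodule.span K (Set.range ι₁) = ⊤ := by
    have h1 : Set.range ι₁ = φ '' Set.range ι₀ := by
      rw [← Set.range_comp]
      rfl
    rw [h1, ← LinearEquiv.coe_coe, ← Submodule.map_span, hsp₀, Submodule.map_top,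
      LinearMap.range_eq_top.mpr φ.surjective]
  obtain ⟨T, hT1, hT2⟩ := exists_lattice_aux O hdim K hfin M n ι₁ hsp₁
  let Φ : M →ₗ[O] (Fin n → K) := (T.toLinearMap.restrictScalars O).comp ι₁
  have hΦ : Function.Injective Φ := T.injective.comp hι₁
  have hΦa : ∀ x, Φ x = T (ι₁ x) := fun x => rfl
  refine ⟨LinearMap.range Φ, ?_, ?_, ⟨LinearEquiv.ofInjective Φ hΦ⟩⟩
  · intro x hx
    rw [Submodule.mem_pi] at hx
    have hx' : ∀ a, ∃ c : O, algebraMap O K c = x a := fun a =>
      Submodule.mem_one.mp (hx a (Set.mem_univ a))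
    choose c hc using hx'
    choose m hm using hT1
    refine ⟨∑ a, c a • m a, ?_⟩
    rw [map_sum]
    funext a'
    rw [Finset.sum_apply]
    have hterm : ∀ a, Φ (c a • m a) a' = c a • (if a' = a then (1 : K) else 0) := by
      intro a
      rw [map_smul, hΦa, hm, Pi.smul_apply, Pi.single_apply]
    simp only [hterm]
    rw [Finset.sum_eq_single a']
    · rw [if_pos rfl, Algebra.smul_def, mul_one, hc]
    · intro a _ ha
      rw [if_neg (Ne.symm ha), smul_zero]
    · intro h
      exact absurd (Finset.mem_univ a') h
  · rintro _ ⟨x, rfl⟩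
    rw [Submodule.mem_pi]
    intro a _
    exact hT2 x a

end Groth.Agent.S15009
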