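import Groth.Statements.S5241
import Mathlib
import Groth.Agent.Lib.Helper15.MultType

set_option autoImplicit false
universe u
open TensorProduct SGA3b
open SGA3b

namespace Groth.Agent.S5241

/-- Let R be a ring, I a nilpotent ideal of R, H = Spec A an R-group of multiplicative type, G = Spec C
a commutative affine R-group (C cocommutative) and u, v : H ⟶ G homomorphisms given by bialgebra
maps φ, ψ : C → A. If u and v have the same reduction modulo I (φ c and ψ c have the same image in
(R/I) ⊗ A for every c), then u = v. (The published statement assumes only that u is central and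
allows any S-group G; this row takes G commutative and affine, i.e. C cocommutative.) (Affine group
schemes over an affine base are taken in Hopf-algebra form; base change is the tensor product; a
homomorphism of groups Spec A ⟶ Spec C is a bialgebra map C → A.) -/
theorem result (R : Type u) [CommRing R] (I : Ideal R) (hI : IsNilpotent I)
    (A : Type u) [CommRing A] [HopfAlgebra R A] (hH : IsMultType R A)
    (C : Type u) [CommRing C] [HopfAlgebra R C] [Coalgebra.IsCocomm R C] (φ ψ : C →ₐc[R] A)
    (h0 : ∀ c : C, (1 : R ⧸ I) ⊗ₜ[R] (φ c) = (1 : R ⧸ I) ⊗ₜ[R] (ψ c)) :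
    φ = ψ := by
  have hH0 : ∀ c, φ c - ψ c ∈ I • (⊤ : Submodule R A) := fun c =>
    Groth.Agent.Lib.helper15.MultType.sub_mem_of_tmul_eq I (h0 c)
  obtain ⟨s, hs, hf⟩ := hH
  ext c
  rw [← sub_eq_zero]
  apply Groth.Agent.Lib.helper15.MultType.eq_zero_of_localization s hs
  intro f hfs
  obtain ⟨R', _, _, hff, M, _, ⟨e⟩⟩ := hf f hfs
  apply Module.FaithfullyFlat.tensorProduct_mk_injective (A := Localization.Away f) (B := R')
    (Localization.Away f ⊗[R] A)
  rw [map_zero]
  change (1 : R') ⊗ₜ[Localization.Away f] ((1 : Localization.Away f) ⊗ₜ[R] (φ c - ψ c)) = 0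
  set φ'' := Groth.Agent.Lib.helper15.MultType.bc R'
    (Groth.Agent.Lib.helper15.MultType.bc (Localization.Away f) φ) with hφ''
  set ψ'' := Groth.Agent.Lib.helper15.MultType.bc R'
    (Groth.Agent.Lib.helper15.MultType.bc (Localization.Away f) ψ) with hψ''
  have hmem : ∀ c'', φ'' c'' - ψ'' c'' ∈
      ((I.map (algebraMap R (Localization.Away f))).map (algebraMap (Localization.Away f) R')) •
        (⊤ : Submodule R' (R' ⊗[Localization.Away f] (Localization.Away f ⊗[R] A))) :=
    Groth.Agent.Lib.helper15.MultType.bc_sub_mem R' _ _ _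
      (Groth.Agent.Lib.helper15.MultType.bc_sub_mem (Localization.Away f) I φ ψ hH0)
  have key := Groth.Agent.Lib.helper15.MultType.eq_of_diag
    ((I.map (algebraMap R (Localization.Away f))).map (algebraMap (Localization.Away f) R'))
    (Groth.Agent.Lib.helper15.MultType.isNilpotent_map
      (Groth.Agent.Lib.helper15.MultType.isNilpotent_map hI))
    ((e : _ →ₐc[R'] MonoidAlgebra R' M).comp φ'') ((e : _ →ₐc[R'] MonoidAlgebra R' M).comp ψ'')
    (fun c'' => by
      have := Groth.Agent.Lib.helper15.MultType.equiv_sub_mem e _ (hmem c'')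
      rw [map_sub] at this
      exact this)
    ((1 : R') ⊗ₜ[Localization.Away f] ((1 : Localization.Away f) ⊗ₜ[R] c))
  have h1 : φ'' ((1 : R') ⊗ₜ[Localization.Away f] ((1 : Localization.Away f) ⊗ₜ[R] c)) =
      (1 : R') ⊗ₜ[Localization.Away f] ((1 : Localization.Away f) ⊗ₜ[R] φ c) := rfl
  have h2 : ψ'' ((1 : R') ⊗ₜ[Localization.Away f] ((1 : Localization.Away f) ⊗ₜ[R] c)) =
      (1 : R') ⊗ₜ[Localization.Away f] ((1 : Localization.Away f) ⊗ₜ[R] ψ c) := rfl
  have key' : φ'' ((1 : R') ⊗ₜ[Localization.Away f] ((1 : Localization.Away f) ⊗ₜ[R] c)) =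
      ψ'' ((1 : R') ⊗ₜ[Localization.Away f] ((1 : Localization.Away f) ⊗ₜ[R] c)) :=
    EquivLike.injective e key
  rw [TensorProduct.tmul_sub, TensorProduct.tmul_sub, sub_eq_zero, ← h1, ← h2]
  exact key'

end Groth.Agent.S5241
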