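import Groth.Statements.S5270
import Mathlib

set_option autoImplicit false
universe u
open TensorProduct SGA3b
open SGA3b

namespace Groth.Agent.S5270

/-- Injectivity of the map to formal homomorphisms. Let A be a Noetherian ring, separated and complete
for the I-adic topology, H = Spec B an isotrivial A-group of multiplicative type and G = Spec C an
affine A-group. If two homomorphisms H ⟶ G, given by bialgebra maps φ, ψ : C → B, have the same
reduction modulo I^(n+1) for every n ≥ 0, then φ = ψ. (Affine group schemes over an affine base are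
taken in Hopf-algebra form; base change is the tensor product; a homomorphism of groups Spec A ⟶
Spec C is a bialgebra map C → A.) -/
theorem result (A : Type u) [CommRing A] [IsNoetherianRing A] (I : Ideal A) [IsAdicComplete I A]
    (B : Type u) [CommRing B] [HopfAlgebra A B] (hH : IsIsotrivial A B)
    (C : Type u) [CommRing C] [HopfAlgebra A C] (φ ψ : C →ₐc[A] B)
    (h : ∀ (n : ℕ) (c : C), (1 : A ⧸ I ^ (n + 1)) ⊗ₜ[A] (φ c) = (1 : A ⧸ I ^ (n + 1)) ⊗ₜ[A] (ψ c)) :
    φ = ψ := by
  classical
  obtain ⟨R', _, _, _hEt, hFin, hFF, M, _, ⟨e⟩⟩ := hH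
  have hJ : I ≤ Ideal.jacobson (⊥ : Ideal A) := IsAdicComplete.le_jacobson_bot I
  have hbot : (⨅ i : ℕ, I ^ i • ⊤ : Submodule A R') = ⊥ :=
    Ideal.iInf_pow_smul_eq_bot_of_le_jacobson I hJ
  refine DFunLike.ext _ _ fun c => ?_
  rw [← sub_eq_zero]
  -- x lies in all I^(n+1) • ⊤
  have hx : ∀ n : ℕ, φ c - ψ c ∈ (I ^ (n + 1) • ⊤ : Submodule A B) := by
    intro n
    have h1 : (1 : A ⧸ I ^ (n + 1)) ⊗ₜ[A] (φ c - ψ c) = 0 := by
      rw [TensorProduct.tmul_sub, h n c, sub_self]
    have h2 := congrArg (TensorProduct.quotTensorEquivQuotSMul B (I ^ (n + 1))) h1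
    rw [TensorProduct.quotTensorEquivQuotSMul_mk_one_tmul, map_zero] at h2
    exact (Submodule.Quotient.mk_eq_zero _).1 h2
  -- the A-linear map B → R'[M]
  let g : B →ₗ[A] MonoidAlgebra R' M :=
    (e.toAlgEquiv.toLinearMap.restrictScalars A) ∘ₗ (TensorProduct.mk A R' B 1)
  have hg : g (φ c - ψ c) = 0 := by
    ext m
    let cm : MonoidAlgebra R' M →ₗ[A] R' :=
      ((Finsupp.lapply (R := R') (M := R') m).restrictScalars A) ∘ₗ
        (MonoidAlgebra.coeffLinearEquiv (S := R') (M := M) A).toLinearMap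
    have hmem : ∀ i : ℕ, (cm ∘ₗ g) (φ c - ψ c) ∈ (I ^ i • ⊤ : Submodule A R') := by
      intro i
      rcases i with _ | n
      · simp only [pow_zero, Ideal.one_eq_top, Submodule.top_smul, Submodule.mem_top]
      · have := Submodule.mem_map_of_mem (f := cm ∘ₗ g) (hx n)
        rw [Submodule.map_smul''] at this
        exact Submodule.smul_mono le_rfl le_top this
    have : (cm ∘ₗ g) (φ c - ψ c) ∈ (⨅ i : ℕ, I ^ i • ⊤ : Submodule A R') :=
      (Submodule.mem_iInf _).2 hmem
    rw [hbot, Submodule.mem_bot] at this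
    simpa [cm] using this
  have h3 : (TensorProduct.mk A R' B 1) (φ c - ψ c) = 0 := by
    have : e ((TensorProduct.mk A R' B 1) (φ c - ψ c)) = 0 := hg
    exact (EmbeddingLike.map_eq_zero_iff (f := e)).1 this
  have hinj := Module.FaithfullyFlat.tensorProduct_mk_injective (A := A) (B := R') B
  exact hinj (by rw [h3, map_zero])

end Groth.Agent.S5270
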