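import Groth.Statements.S3021
import Mathlib

set_option autoImplicit false
universe u
open CategoryTheory MonoidalCategory CartesianMonoidalCategory MonObj GrpObj AlgebraicGeometry TensorProduct
open SGA3

namespace Groth.Agent.S3021

section Aux
variable {A : Type u} [CommRing A] {C : Type u} [AddCommGroup C] [Module A C] [Coalgebra A C]
  {V : Type u} [AddCommGroup V] [Module A V] [HopfRep.Comod A C V]

local notation "ρ" => HopfRep.Comod.coact (k := A) (A := C) (V := V)
local notation "Δ" => Coalgebra.comul (R := A) (A := C)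

/-- `id ⊗ f : V ⊗ C → V`. -/
noncomputable def slV (f : Module.Dual A C) : V ⊗[A] C →ₗ[A] V :=
  (TensorProduct.rid A V).toLinearMap ∘ₗ f.lTensor V

omit [Coalgebra A C] [HopfRep.Comod A C V] in
@[simp] lemma slV_tmul (f : Module.Dual A C) (w : V) (a : C) : slV f (w ⊗ₜ[A] a) = f a • w := by
  simp [slV]

/-- `id ⊗ f : C ⊗ C → C`. -/
noncomputable def slC (f : Module.Dual A C) : C ⊗[A] C →ₗ[A] C :=
  (TensorProduct.rid A C).toLinearMap ∘ₗ f.lTensor C

omit [Coalgebra A C] in
@[simp] lemma slC_tmul (f : Module.Dual A C) (w : C) (a : C) : slC f (w ⊗ₜ[A] a) = f a • w := by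
  simp [slC]

/-- `id ⊗ id ⊗ f : (V ⊗ C) ⊗ C → V ⊗ C`. -/
noncomputable def slV₂ (f : Module.Dual A C) : (V ⊗[A] C) ⊗[A] C →ₗ[A] V ⊗[A] C :=
  (TensorProduct.rid A (V ⊗[A] C)).toLinearMap ∘ₗ f.lTensor (V ⊗[A] C)

omit [Coalgebra A C] [HopfRep.Comod A C V] in
@[simp] lemma slV₂_tmul (f : Module.Dual A C) (t : V ⊗[A] C) (a : C) :
    slV₂ f (t ⊗ₜ[A] a) = f a • t := by
  simp [slV₂]

lemma coact_slV (f : Module.Dual A C) (t : V ⊗[A] C) :
    ρ (slV f t) = slV₂ f ((ρ).rTensor C t) := by
  induction t with
  | zero => simp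
  | tmul a b => simp
  | add x y hx hy => simp only [map_add, hx, hy]

omit [Coalgebra A C] [HopfRep.Comod A C V] in
lemma slV₂_assoc_symm (f : Module.Dual A C) (y : V) (t : C ⊗[A] C) :
    slV₂ f ((TensorProduct.assoc A V C C).symm (y ⊗ₜ[A] t)) = y ⊗ₜ[A] slC f t := by
  induction t with
  | zero => simp
  | tmul a b => simp [TensorProduct.tmul_smul]
  | add x y hx hy => simp only [TensorProduct.tmul_add, map_add, hx, hy]

lemma coassocV (v : V) :
    (ρ).rTensor C (ρ v) = (TensorProduct.assoc A V C C).symm ((Δ).lTensor V (ρ v)) := by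
  have := congr($(HopfRep.Comod.coassoc (k := A) (A := C) (V := V)) v)
  simp only [LinearMap.comp_apply, LinearEquiv.coe_coe] at this
  rw [← this, LinearEquiv.symm_apply_apply]

omit [Coalgebra A C] [HopfRep.Comod A C V] in
/-- dual-basis expansion of tensors for a projective second factor. -/
lemma expandV (s : C →ₗ[A] (C →₀ A)) (hs : Finsupp.linearCombination A id ∘ₗ s = LinearMap.id)
    (t : V ⊗[A] C) :
    ∃ c : C →₀ V, (∀ i, c i = slV (Finsupp.lapply i ∘ₗ s) t) ∧ t = c.sum fun i m => m ⊗ₜ[A] i := by
  classical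
  refine ⟨TensorProduct.finsuppScalarRight A A V C (s.lTensor V t), fun i => ?_, ?_⟩
  · rw [TensorProduct.finsuppScalarRight_apply]
    induction t with
    | zero => simp
    | tmul v x => simp
    | add x y hx hy => simp only [map_add, hx, hy]
  · induction t with
    | zero => simp
    | tmul v x =>
      rw [LinearMap.lTensor_tmul, TensorProduct.finsuppScalarRight_apply_tmul]
      rw [Finsupp.sum_sum_index (by simp) (by intro a b₁ b₂; simp [TensorProduct.add_tmul])]
      simp only [Finsupp.sum_single_index, TensorProduct.zero_tmul]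
      have hx : x = (s x).sum fun i r => r • i := by
        have := congr($hs x)
        simp only [LinearMap.comp_apply, LinearMap.id_apply, Finsupp.linearCombination_apply, id] at this
        exact this.symm
      conv_lhs => rw [hx]
      simp only [Finsupp.sum, TensorProduct.tmul_sum, TensorProduct.tmul_smul, TensorProduct.smul_tmul']
    | add x y hx hy =>
      simp only [map_add]
      rw [Finsupp.sum_add_index' (by simp) (by intro a b₁ b₂; simp [TensorProduct.add_tmul]), ← hx, ← hy]

end Aux

/-- Let A be a commutative ring, C an A-coalgebra which is projective as an A-module, V a C-comodule and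
M an A-submodule of V. Then there is a smallest subcomodule of V containing M, and it is finitely
generated over A when M is. -/
theorem result (A : Type u) [CommRing A] (C : Type u) [AddCommGroup C] [Module A C]
    [Coalgebra A C] [Module.Projective A C] (V : Type u) [AddCommGroup V] [Module A V] [HopfRep.Comod A C V]
    (M : Submodule A V) :
    ∃ W : Submodule A V, HopfRep.IsSubcomod (k := A) (A := C) W ∧ M ≤ W ∧
      (∀ W' : Submodule A V, HopfRep.IsSubcomod (k := A) (A := C) W' → M ≤ W' → W ≤ W') ∧
      (M.FG → W.FG) := by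
  classical
  obtain ⟨s, hs⟩ := (Module.projective_def' (R := A) (P := C)).mp inferInstance
  set W : Submodule A V := Submodule.span A
    {w | ∃ f : Module.Dual A C, ∃ m ∈ M, slV f (HopfRep.Comod.coact (k := A) (A := C) m) = w} with hWdef
  have hgen : ∀ (f : Module.Dual A C) (m : V), m ∈ M →
      slV f (HopfRep.Comod.coact (k := A) (A := C) m) ∈ W :=
    fun f m hm => Submodule.subset_span ⟨f, m, hm, rfl⟩
  have hMW : M ≤ W := by
    intro m hm
    have h1 := hgen (Coalgebra.counit (R := A)) m hm
    have h2 := congr($(HopfRep.Comod.counit_comp (k := A) (A := C) (V := V)) m)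
    simp only [LinearMap.comp_apply] at h2
    simpa [slV, h2] using h1
  have hWsub : HopfRep.IsSubcomod (k := A) (A := C) W := by
    suffices h : W ≤ (LinearMap.range (W.subtype.rTensor C)).comap
        (HopfRep.Comod.coact (k := A) (A := C) (V := V)) from fun w hw => h hw
    refine Submodule.span_le.mpr ?_
    rintro _ ⟨g, m, hm, rfl⟩
    simp only [SetLike.mem_coe, Submodule.mem_comap]
    rw [coact_slV, coassocV]
    obtain ⟨c, hc, hcs⟩ := expandV s hs (HopfRep.Comod.coact (k := A) (A := C) m)
    have hcm : ∀ i, c i ∈ W := fun i => by rw [hc i]; exact hgen _ m hm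
    have key : ∀ c : C →₀ V, (∀ i, c i ∈ W) →
        slV₂ g ((TensorProduct.assoc A V C C).symm ((Coalgebra.comul (R := A) (A := C)).lTensor V
          (c.sum fun i m => m ⊗ₜ[A] i))) ∈ LinearMap.range (W.subtype.rTensor C) := by
      intro c hcm
      simp only [Finsupp.sum, map_sum, LinearMap.lTensor_tmul, slV₂_assoc_symm]
      refine Submodule.sum_mem _ fun i _ => ?_
      exact ⟨(⟨c i, hcm i⟩ : W) ⊗ₜ[A] (slC g (Coalgebra.comul (R := A) i)), by simp⟩
    have := key c hcm
    rwa [← hcs] at this
  have hmin : ∀ W' : Submodule A V, HopfRep.IsSubcomod (k := A) (A := C) W' → M ≤ W' → W ≤ W' := by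
    intro W' hW' hMW'
    refine Submodule.span_le.mpr ?_
    rintro _ ⟨f, m, hm, rfl⟩
    obtain ⟨t, ht⟩ := hW' m (hMW' hm)
    simp only [SetLike.mem_coe]
    rw [← ht]
    clear ht
    induction t with
    | zero => simp
    | tmul w a =>
      simp only [LinearMap.rTensor_tmul, Submodule.subtype_apply, slV_tmul]
      exact W'.smul_mem _ w.2
    | add x y hx hy => simp only [map_add]; exact W'.add_mem hx hy
  refine ⟨W, hWsub, hMW, hmin, ?_⟩
  rintro ⟨F, hF⟩
  -- finite generation
  have hexp : ∀ m : V, ∃ c : C →₀ V, (∀ i, c i = slV (Finsupp.lapply i ∘ₗ s)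
      (HopfRep.Comod.coact (k := A) (A := C) m)) ∧
      HopfRep.Comod.coact (k := A) (A := C) m = c.sum fun i m => m ⊗ₜ[A] i :=
    fun m => expandV s hs _
  choose cc hcc1 hcc2 using hexp
  set G : Finset V := F.biUnion fun m => (cc m).support.image (cc m) with hG
  have hGW : (G : Set V) ⊆ W := by
    intro w hw
    simp only [hG, Finset.coe_biUnion, Finset.coe_image, Set.mem_iUnion, Set.mem_image,
      Finset.mem_coe] at hw
    obtain ⟨m, hm, i, _, rfl⟩ := hw
    rw [hcc1 m i]
    exact hgen _ m (hF ▸ Submodule.subset_span hm)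
  have hWG : W ≤ Submodule.span A (G : Set V) := by
    refine Submodule.span_le.mpr ?_
    rintro _ ⟨f, m, hm, rfl⟩
    suffices h : M ≤ (Submodule.span A (G : Set V)).comap
        (slV f ∘ₗ HopfRep.Comod.coact (k := A) (A := C) (V := V)) from h hm
    rw [← hF]
    refine Submodule.span_le.mpr fun m hm => ?_
    simp only [SetLike.mem_coe, Submodule.mem_comap, LinearMap.comp_apply]
    rw [hcc2 m]
    simp only [Finsupp.sum, map_sum, slV_tmul]
    refine Submodule.sum_mem _ fun i hi => Submodule.smul_mem _ _ (Submodule.subset_span ?_)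
    simp only [hG, Finset.coe_biUnion, Finset.coe_image, Set.mem_iUnion, Set.mem_image,
      Finset.mem_coe]
    exact ⟨m, hm, i, hi, rfl⟩
  have hWeq : W = Submodule.span A (G : Set V) :=
    le_antisymm hWG (Submodule.span_le.mpr hGW)
  rw [hWeq]
  exact Submodule.fg_span (Finset.finite_toSet _)

end Groth.Agent.S3021
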