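import Groth.Statements.S1570
import Mathlib
import Groth.Agent.S17386

set_option autoImplicit false
universe u
open CategoryTheory CategoryTheory.Limits AlgebraicGeometry
open Divisors

namespace Groth.Agent.S1570

section helpers
open CategoryTheory CategoryTheory.Limits AlgebraicGeometry


/-- finite "clearing of denominators": if every element `s` of a finite set has a multiplier
`c ∉ p` with `P c s` and `P` is stable under multiplying the multiplier, there is a common one. -/
theorem exists_common_multiplier {A : Type*} [CommRing A] (p : Ideal A) [p.IsPrime]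
    (P : A → A → Prop) (hP : ∀ c c' s, P c s → P (c' * c) s)
    (S : Finset A) (h : ∀ s ∈ S, ∃ c, c ∉ p ∧ P c s) : ∃ c, c ∉ p ∧ ∀ s ∈ S, P c s := by
  classical
  induction S using Finset.induction_on with
  | empty => exact ⟨1, fun h1 => (Ideal.IsPrime.ne_top inferInstance) ((Ideal.eq_top_iff_one p).2 h1), by simp⟩
  | insert s₀ S hs₀ ih =>
    obtain ⟨c₁, hc₁, h₁⟩ := ih (fun s hs => h s (Finset.mem_insert_of_mem hs))
    obtain ⟨c₀, hc₀, h₀⟩ := h s₀ (Finset.mem_insert_self _ _)
    refine ⟨c₀ * c₁, ?_, ?_⟩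
    · intro hmem
      rcases (Ideal.IsPrime.mem_or_mem inferInstance hmem) with h | h
      · exact hc₀ h
      · exact hc₁ h
    · intro s hs
      rcases Finset.mem_insert.1 hs with rfl | hs
      · rw [mul_comm]; exact hP _ _ _ h₀
      · exact hP _ _ _ (h₁ s hs)


/-- Spreading out a principal generator which is a nonzerodivisor from the localization at a prime
to a basic open neighbourhood. -/
theorem spread {A : Type*} [CommRing A] [IsNoetherianRing A] (I : Ideal A) (p : Ideal A) [p.IsPrime]
    (R : Type*) [CommRing R] [Algebra A R] [IsLocalization.AtPrime R p]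
    (g : R) (hg : g ∈ nonZeroDivisors R) (hIg : I.map (algebraMap A R) = Ideal.span {g}) :
    ∃ h : A, h ∉ p ∧ ∃ a ∈ I, ∀ (B : Type*) [CommRing B] [Algebra A B] [IsLocalization.Away h B],
      I.map (algebraMap A B) = Ideal.span {algebraMap A B a} ∧
        algebraMap A B a ∈ nonZeroDivisors B := by
  haveI : IsLocalRing R := IsLocalization.AtPrime.isLocalRing R p
  -- Step 1: a generator coming from I
  have hspan : Ideal.span ((algebraMap A R) '' (I : Set A)) = Ideal.span {g} := by
    rw [← hIg]; rfl
  obtain ⟨_, ⟨a, haI, rfl⟩, d, hd, had⟩ := Groth.Agent.S17386.exists_gen_local _ g hg hspan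
    (IsLocalRing.maximalIdeal R)
  have hdu : IsUnit d := by
    by_contra h
    exact hd ((IsLocalRing.mem_maximalIdeal d).2 h)
  have hanzd : algebraMap A R a ∈ nonZeroDivisors R := by
    rw [had]
    exact mul_mem hdu.mem_nonZeroDivisors hg
  have hIa : I.map (algebraMap A R) = Ideal.span {algebraMap A R a} := by
    rw [hIg, had, Ideal.span_singleton_mul_left_unit hdu]
  -- Step 2 (i)
  obtain ⟨S, hS⟩ := (isNoetherianRing_iff_ideal_fg A).1 inferInstance I
  have h1 : ∃ c, c ∉ p ∧ ∀ s ∈ S, c * s ∈ Ideal.span {a} := by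
    apply exists_common_multiplier p (fun c s => c * s ∈ Ideal.span {a})
    · intro c c' s hcs
      rw [mul_assoc]
      exact Ideal.mul_mem_left _ _ hcs
    · intro s hs
      have hsI : s ∈ I := hS ▸ Ideal.subset_span hs
      have : algebraMap A R s ∈ Ideal.span {algebraMap A R a} := hIa ▸ Ideal.mem_map_of_mem _ hsI
      obtain ⟨r, hr⟩ := Ideal.mem_span_singleton'.1 this
      obtain ⟨⟨b, c⟩, hbc⟩ := IsLocalization.mk'_surjective p.primeCompl r
      have e1 : algebraMap A R (s * c) = algebraMap A R (a * b) := by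
        rw [map_mul, map_mul, ← hr, ← hbc]
        have := IsLocalization.mk'_spec R b c
        rw [mul_comm (algebraMap A R a), mul_assoc, ← this]
        ring
      obtain ⟨c', hc'⟩ := (IsLocalization.eq_iff_exists p.primeCompl R).1 e1
      refine ⟨c' * c, ?_, ?_⟩
      · exact (p.primeCompl.mul_mem c'.2 c.2)
      · rw [Ideal.mem_span_singleton']
        refine ⟨c' * b, ?_⟩
        have : (c' : A) * (s * c) = c' * (a * b) := hc'
        linear_combination -this
  obtain ⟨h₁, hh₁, hh₁S⟩ := h1
  have hh₁I : ∀ x ∈ I, h₁ * x ∈ Ideal.span {a} := by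
    intro x hx
    rw [← hS] at hx
    refine Submodule.span_induction (p := fun x _ => h₁ * x ∈ Ideal.span {a}) ?_ ?_ ?_ ?_ hx
    · intro s hs; exact hh₁S s hs
    · simp
    · intro x y _ _ hx hy; rw [mul_add]; exact Ideal.add_mem _ hx hy
    · intro r x _ hx
      rw [smul_eq_mul, mul_left_comm]
      exact Ideal.mul_mem_left _ _ hx
  -- Step 2 (ii)
  obtain ⟨T, hT⟩ := (isNoetherianRing_iff_ideal_fg A).1 inferInstance (Ideal.span {a}).annihilator
  have h2 : ∃ c, c ∉ p ∧ ∀ n ∈ T, c * n = 0 := by
    apply exists_common_multiplier p (fun c n => c * n = 0)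
    · intro c c' n hcn
      rw [mul_assoc, hcn, mul_zero]
    · intro n hn
      have hnN : n ∈ (Ideal.span {a}).annihilator := hT ▸ Ideal.subset_span hn
      have hna : n * a = 0 := by
        rw [Submodule.mem_annihilator] at hnN
        have := hnN a (Ideal.mem_span_singleton_self a)
        simpa using this
      have e1 : algebraMap A R n * algebraMap A R a = 0 := by rw [← map_mul, hna, map_zero]
      have e2 : algebraMap A R n = 0 := (mem_nonZeroDivisors_iff_right.1 hanzd) _ e1
      rw [IsLocalization.map_eq_zero_iff p.primeCompl] at e2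
      obtain ⟨c, hc⟩ := e2
      exact ⟨c, c.2, hc⟩
  obtain ⟨h₂, hh₂, hh₂T⟩ := h2
  have hh₂N : ∀ n : A, n * a = 0 → h₂ * n = 0 := by
    intro n hn
    have hnN : n ∈ (Ideal.span {a}).annihilator := by
      rw [Submodule.mem_annihilator]
      intro y hy
      obtain ⟨z, rfl⟩ := Ideal.mem_span_singleton'.1 hy
      rw [smul_eq_mul, mul_left_comm, hn, mul_zero]
    rw [← hT] at hnN
    refine Submodule.span_induction (p := fun n _ => h₂ * n = 0) ?_ ?_ ?_ ?_ hnN
    · intro n hn; exact hh₂T n hn
    · simp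
    · intro x y _ _ hx hy; rw [mul_add, hx, hy, add_zero]
    · intro r x _ hx; rw [smul_eq_mul, mul_left_comm, hx, mul_zero]
  refine ⟨h₁ * h₂, ?_, a, haI, ?_⟩
  · intro hmem
    rcases Ideal.IsPrime.mem_or_mem inferInstance hmem with h | h
    · exact hh₁ h
    · exact hh₂ h
  intro B _ _ _
  have hunit : IsUnit (algebraMap A B (h₁ * h₂)) := IsLocalization.Away.algebraMap_isUnit (h₁ * h₂)
  have hu₁ : IsUnit (algebraMap A B h₁) := by
    rw [map_mul] at hunit; exact isUnit_of_mul_isUnit_left hunit
  have hu₂ : IsUnit (algebraMap A B h₂) := by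
    rw [map_mul] at hunit; exact isUnit_of_mul_isUnit_right hunit
  constructor
  · apply le_antisymm
    · rw [Ideal.map_le_iff_le_comap]
      intro x hx
      rw [Ideal.mem_comap]
      obtain ⟨y, hy⟩ := Ideal.mem_span_singleton'.1 (hh₁I x hx)
      have e : algebraMap A B h₁ * algebraMap A B x = algebraMap A B y * algebraMap A B a := by
        rw [← map_mul, ← map_mul, hy]
      rw [Ideal.mem_span_singleton']
      refine ⟨hu₁.unit⁻¹ * algebraMap A B y, ?_⟩
      rw [mul_assoc, ← e, ← mul_assoc]
      simp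
    · rw [Ideal.span_le, Set.singleton_subset_iff]
      exact Ideal.mem_map_of_mem _ haI
  · rw [mem_nonZeroDivisors_iff_right]
    intro z hz
    obtain ⟨⟨b, m⟩, hbm⟩ := IsLocalization.mk'_surjective (Submonoid.powers (h₁ * h₂)) z
    have hzm : z * algebraMap A B m = algebraMap A B b := by
      rw [← hbm]; exact IsLocalization.mk'_spec B b m
    have hmu : IsUnit (algebraMap A B (m : A)) := IsLocalization.map_units B m
    have e1 : algebraMap A B (b * a) = 0 := by
      rw [map_mul, ← hzm, mul_right_comm, hz, zero_mul]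
    rw [IsLocalization.map_eq_zero_iff (Submonoid.powers (h₁ * h₂))] at e1
    obtain ⟨c, hc⟩ := e1
    have e2 : h₂ * (c * b) = 0 := hh₂N (c * b) (by rw [mul_assoc]; exact hc)
    have e3 : algebraMap A B h₂ * (algebraMap A B c * algebraMap A B b) = 0 := by
      rw [← map_mul, ← map_mul, e2, map_zero]
    have hcu : IsUnit (algebraMap A B (c : A)) := IsLocalization.map_units B c
    have e4 : algebraMap A B b = 0 := by
      have := hu₂.mul_right_eq_zero.1 e3
      exact hcu.mul_right_eq_zero.1 this
    rw [e4] at hzm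
    exact hmu.mul_left_eq_zero.1 hzm


theorem main (X : Scheme.{u}) [IsLocallyNoetherian X]
    (D : X.IdealSheafData)
    (h : ∀ x ∈ D.support, ∀ (U : X.affineOpens) (hx : x ∈ (U : X.Opens)),
      ∃ g : X.presheaf.stalk x, g ∈ nonZeroDivisors (X.presheaf.stalk x) ∧
        (D.ideal U).map (X.presheaf.germ U x hx).hom = Ideal.span {g}) :
    BlowUp.IsEffCartierIdeal D := by
  intro x
  obtain ⟨_, ⟨U, hU, rfl⟩, hxU, -⟩ :=
    X.isBasis_affineOpens.exists_subset_of_mem_open (Set.mem_univ x) isOpen_univ
  by_cases hxD : x ∈ D.support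
  · obtain ⟨g, hg, hIg⟩ := h x hxD ⟨U, hU⟩ hxU
    haveI : IsNoetherianRing Γ(X, U) := IsLocallyNoetherian.component_noetherian ⟨U, hU⟩
    set p := hU.primeIdealOf ⟨x, hxU⟩ with hp
    letI := TopCat.Presheaf.algebra_section_stalk X.presheaf (⟨x, hxU⟩ : U)
    haveI hloc : IsLocalization.AtPrime (X.presheaf.stalk x) p.asIdeal := hU.isLocalization_stalk ⟨x, hxU⟩
    obtain ⟨s, hsp, a, haI, hB⟩ := spread (D.ideal ⟨U, hU⟩) p.asIdeal (X.presheaf.stalk x) g hg hIg
    have hxs : x ∈ X.basicOpen s :=
      (Groth.Agent.S17386.mem_basicOpen_iff_notMem_primeIdealOf hU x hxU s).2 hsp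
    haveI := hU.isLocalization_basicOpen s
    obtain ⟨h1, h2⟩ := hB Γ(X, X.basicOpen s)
    refine ⟨X.affineBasicOpen (U := ⟨U, hU⟩) s, hxs, algebraMap Γ(X, U) Γ(X, X.basicOpen s) a, h2, ?_⟩
    rw [← D.map_ideal_basicOpen ⟨U, hU⟩ s]
    exact h1
  · -- outside the support the ideal is the unit ideal near x
    rw [Scheme.IdealSheafData.mem_support_iff_of_mem (U := ⟨U, hU⟩) hxU] at hxD
    simp only [Scheme.mem_zeroLocus_iff, SetLike.mem_coe, not_forall, not_not] at hxD
    obtain ⟨s, hsI, hxs⟩ := hxD
    refine ⟨X.affineBasicOpen (U := ⟨U, hU⟩) s, hxs, 1, one_mem _, ?_⟩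
    rw [← D.map_ideal_basicOpen ⟨U, hU⟩ s, Ideal.span_singleton_one]
    have hunit : IsUnit ((X.presheaf.map (homOfLE (X.basicOpen_le s)).op).hom s) :=
      X.toRingedSpace.isUnit_res_basicOpen s
    have hmem : (X.presheaf.map (homOfLE (X.basicOpen_le s)).op).hom s ∈
        (D.ideal ⟨U, hU⟩).map (X.presheaf.map (homOfLE (X.basicOpen_le s)).op).hom :=
      Ideal.mem_map_of_mem _ hsI
    exact Ideal.eq_top_of_isUnit_mem _ hmem hunit


end helpers


/-- Let X be locally Noetherian and D a closed subscheme with ideal sheaf I. If for every point x of D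
the ideal generated by I in the local ring at x is generated by one nonzerodivisor, then D is an
effective Cartier divisor. -/
theorem result (X : Scheme.{u}) [IsLocallyNoetherian X]
    (D : X.IdealSheafData)
    (h : ∀ x ∈ D.support, ∀ (U : X.affineOpens) (hx : x ∈ (U : X.Opens)),
      ∃ g : X.presheaf.stalk x, g ∈ nonZeroDivisors (X.presheaf.stalk x) ∧
        (D.ideal U).map (X.presheaf.germ U x hx).hom = Ideal.span {g}) :
    BlowUp.IsEffCartierIdeal D := by
  exact main X D h

end Groth.Agent.S1570
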