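import Groth.Statements.S8863
import Mathlib
import Groth.Agent.S1570
import Groth.Agent.S1571
import Groth.Agent.S17386

set_option autoImplicit false
universe u
open CategoryTheory CategoryTheory.Limits AlgebraicGeometry TopologicalSpace
open SDiv

namespace Groth.Agent.S8863

section helpers
open CategoryTheory CategoryTheory.Limits AlgebraicGeometry TopologicalSpace


theorem main (X : Scheme.{u}) [IsLocallyNoetherian X] (x : ↥X) :
    Mero.regStalk X x = nonZeroDivisors ↑(X.presheaf.stalk x) := by
  apply le_antisymm (Mero.regStalk_le_nonZeroDivisors x)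
  intro t ht
  obtain ⟨U, hxU, s, rfl⟩ := X.presheaf.exists_germ_eq t
  obtain ⟨_, ⟨W, hW, rfl⟩, hxW, hWU⟩ :=
    X.isBasis_affineOpens.exists_subset_of_mem_open (show x ∈ (U : Set X) from hxU) U.2
  have hWU' : W ≤ U := hWU
  set s' := (X.presheaf.map (homOfLE hWU').op).hom s with hs'
  have hgerm : (X.presheaf.germ W x hxW).hom s' = (X.presheaf.germ U x hxU).hom s :=
    TopCat.Presheaf.germ_res_apply X.presheaf (homOfLE hWU') x hxW s
  haveI : IsNoetherianRing Γ(X, W) := IsLocallyNoetherian.component_noetherian ⟨W, hW⟩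
  set p := hW.primeIdealOf ⟨x, hxW⟩ with hp
  letI := TopCat.Presheaf.algebra_section_stalk X.presheaf (⟨x, hxW⟩ : W)
  haveI : IsLocalization.AtPrime (X.presheaf.stalk x) p.asIdeal := hW.isLocalization_stalk ⟨x, hxW⟩
  have hmap : (Ideal.span {s'}).map (algebraMap Γ(X, W) (X.presheaf.stalk x)) =
      Ideal.span {(X.presheaf.germ U x hxU).hom s} := by
    rw [Ideal.map_span, Set.image_singleton, ← hgerm]
    rfl
  obtain ⟨h, hhp, a, haI, hB⟩ := Groth.Agent.S1570.spread (Ideal.span {s'}) p.asIdeal
    (X.presheaf.stalk x) _ ht hmap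
  have hloc := hW.isLocalization_basicOpen h
  obtain ⟨-, hnzd⟩ := hB Γ(X, X.basicOpen h)
  obtain ⟨c, hc⟩ := Ideal.mem_span_singleton'.1 haI
  set V := X.basicOpen h with hV
  have hVW : V ≤ W := X.basicOpen_le h
  set s'' := (X.presheaf.map (homOfLE hVW).op).hom s' with hs''
  have hs''nzd : s'' ∈ nonZeroDivisors Γ(X, V) := by
    rw [mem_nonZeroDivisors_iff_right]
    intro b hb
    apply (mem_nonZeroDivisors_iff_right.1 hnzd) b
    have : algebraMap Γ(X, W) Γ(X, V) a = (X.presheaf.map (homOfLE hVW).op).hom c * s'' := by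
      rw [← hc, map_mul]; rfl
    rw [this, ← mul_assoc, mul_comm b, mul_assoc, hb, mul_zero]
  have hxV : x ∈ V :=
    (Groth.Agent.S17386.mem_basicOpen_iff_notMem_primeIdealOf hW x hxW h).2 hhp
  have hVaff : IsAffineOpen V := hW.basicOpen h
  refine ⟨V, hxV, s'', ?_, ?_⟩
  · intro y
    exact Groth.Agent.S1571.germ_nzd hVaff s'' hs''nzd y.1 y.2
  · have e1 : (X.presheaf.germ V x hxV).hom s'' = (X.presheaf.germ W x hxW).hom s' :=
      TopCat.Presheaf.germ_res_apply X.presheaf (homOfLE hVW) x hxV s'
    exact e1.trans hgerm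


end helpers


/-- Let X be a locally Noetherian scheme and x a point of X. Then the monoid S_x of germs at x of
regular sections of O_X (sections whose germ at every point of their open of definition is a
nonzerodivisor) is the whole monoid of nonzerodivisors of O_{X,x}; consequently K_{X,x} is the total
ring of fractions of O_{X,x}. -/
theorem result (X : Scheme.{u}) [IsLocallyNoetherian X] (x : ↥X) :
    Mero.regStalk X x = nonZeroDivisors ↑(X.presheaf.stalk x) := by
  exact main X x

end Groth.Agent.S8863
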