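import Groth.Statements.S1861
import Mathlib
import Groth.Agent.Lib.Helper3.RelDim

set_option autoImplicit false
universe u
open CategoryTheory AlgebraicGeometry
open Cyc

namespace Groth.Agent.S1861
open Groth.Agent.Lib.helper3.DimIneq Groth.Agent.Lib.helper3.DimFibre Groth.Agent.Lib.helper3.RelDim Groth.Agent.Lib.helper3.QFinTop

/-- Let f : X → Y be flat, locally of finite type, of relative dimension r, y a point of Y and x a point
of X that is generic in an irreducible component of f⁻¹ of the closure of y (that is, x lies in that
closed set and has no proper generalization in it). Then f(x) = y and δX(x) = δY(y) + r. Here a pair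
(X, δ) with Cyc.IsSetup plays the role of a scheme locally of finite type over a fixed base with a
dimension function (X locally Noetherian with universally catenary local rings, δ a dimension
function), and Cyc.DeltaCompat records that the dimension function upstairs is the induced one. -/
theorem result (X Y : Scheme.{u}) (δX : X → ℤ) (δY : Y → ℤ) (hX : Cyc.IsSetup X δX) (hY : Cyc.IsSetup Y δY) (f : X ⟶ Y) [Flat f] [LocallyOfFiniteType f] (r : ℕ) (hr : Cyc.HasRelDim f r) (hδ : Cyc.DeltaCompat f δX δY) (y : Y) (x : X) (hx : f x ∈ closure ({y} : Set Y)) (hmax : ∀ x' : X, f x' ∈ closure ({y} : Set Y) → x' ⤳ x → x' = x) : f x = y ∧ δX x = δY y + r := by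
  have hy : y ⤳ f x := specializes_iff_mem_closure.mpr hx
  obtain ⟨x', hx'x, hfx'⟩ := (Flat.generalizingMap f) hy
  have hx'eq : x' = x := hmax x' (by rw [hfx']; exact subset_closure rfl) hx'x
  rw [hx'eq] at hfx'
  refine ⟨hfx', ?_⟩
  obtain ⟨n, hn, hδx⟩ := hδ x
  rw [hδx, hfx']
  obtain ⟨a, b, ha, hb, hab⟩ := fibreDimAt_eq_add f x
  rw [fibreDimAt_eq_of_hasRelDim f r hr x] at hab
  have hab' : r = a + b := by exact_mod_cast hab
  have hb0 : b = 0 := by
    have hmaxz : IsMax (f.asFiber x) := by
      intro z' hz'
      have h1 : z' ⤳ f.asFiber x := Scheme.le_iff_specializes.mp hz'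
      have h2 : f.fiberι (f x) z' ⤳ x := by
        have := (fiberι_specializes_iff f (f x) z' (f.asFiber x)).mpr h1
        rwa [f.fiberι_asFiber] at this
      have h3 : f.fiberι (f x) z' = x := by
        refine hmax _ ?_ h2
        rw [fiberι_mem f (f x) z', hfx']
        exact subset_closure rfl
      have h4 : z' = f.asFiber x :=
        fiberι_injective f (f x) (h3.trans (f.fiberι_asFiber x).symm)
      rw [h4]
    have h0 : Order.coheight (f.asFiber x) = 0 := Order.coheight_eq_zero.mpr hmaxz
    have h5 := ringKrullDim_stalk_eq_coheight (f.asFiber x)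
    rw [h0] at h5
    have hb' : ringKrullDim ((f.fiber (f x)).presheaf.stalk (f.asFiber x)) = (b : WithBot ℕ∞) := hb
    rw [hb'] at h5
    exact_mod_cast h5
  have han : a = n := by
    have hn' : td (f.residueFieldMap x).hom = (n : Cardinal.{u}) := hn
    rw [ha] at hn'
    exact_mod_cast hn'
  have : n = r := by omega
  rw [this]

end Groth.Agent.S1861
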