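import Groth.Statements.S9684
import Mathlib
import Groth.Agent.Lib.Helper3.DimFormulaSch
import Groth.Agent.Lib.Helper3.DimFun

set_option autoImplicit false
universe u
open CategoryTheory CategoryTheory.Limits AlgebraicGeometry
open Cyc

namespace Groth.Agent.S9684
open Groth.Agent.Lib.helper3.DimIneq Groth.Agent.Lib.helper3.FTField AlgebraicGeometry CategoryTheory

/-- Let S be a locally Noetherian scheme whose local rings are universally catenary, δ a dimension
function on S, and f : X ⟶ S locally of finite type. Then the function δ_X(x) = δ(f x) + trdeg_{κ(f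
x)} κ(x) is a dimension function on X. -/
theorem result {X S : Scheme.{u}} (f : X ⟶ S)
    [LocallyOfFiniteType f] (δ : ↥S → ℤ) (hS : Cyc.IsSetup S δ) (δX : ↥X → ℤ)
    (hδ : Cyc.DeltaCompat f δX δ) : Cyc.IsDimFun X δX := by
  obtain ⟨hN, huc, hdim⟩ := hS
  haveI := hN
  haveI : IsLocallyNoetherian X := LocallyOfFiniteType.isLocallyNoetherian f
  intro x y hsp hne
  obtain ⟨V, hV, hsV, -⟩ := exists_isAffineOpen_mem_and_subset (x := f.base y) (U := ⊤) trivial
  obtain ⟨U, hU, hyU, hUV⟩ := exists_isAffineOpen_mem_and_subset (x := y) (U := f ⁻¹ᵁ V) hsV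
  have hxU : x ∈ U := hsp.mem_open U.isOpen hyU
  haveI : IsNoetherianRing Γ(X, U) := IsLocallyNoetherian.component_noetherian ⟨U, hU⟩
  haveI : IsNoetherianRing Γ(S, V) := IsLocallyNoetherian.component_noetherian ⟨V, hV⟩
  have hle := (specializes_iff_primeIdealOf_le hU x y hxU hyU).mp hsp
  have hneq : (hU.primeIdealOf ⟨x, hxU⟩).asIdeal ≠ (hU.primeIdealOf ⟨y, hyU⟩).asIdeal := by
    intro heq
    have : y ⤳ x := (specializes_iff_primeIdealOf_le hU y x hyU hxU).mpr (le_of_eq heq.symm)
    exact hne (hsp.antisymm this).eq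
  have hlt := lt_of_le_of_ne hle hneq
  have hleS : (hV.primeIdealOf ⟨f.base x, hUV hxU⟩).asIdeal ≤
      (hV.primeIdealOf ⟨f.base y, hUV hyU⟩).asIdeal :=
    (specializes_iff_primeIdealOf_le hV _ _ (hUV hxU) (hUV hyU)).mp (hsp.map f.continuous)
  -- finiteness of the heights
  haveI hQp := map_mk_isPrime _ _ hle
  haveI hPp := map_mk_isPrime _ _ hleS
  obtain ⟨h, hh⟩ := ENat.ne_top_iff_exists.mp (Ideal.height_ne_top_of_isPrime
    (I := (hU.primeIdealOf ⟨y, hyU⟩).asIdeal.map
      (Ideal.Quotient.mk (hU.primeIdealOf ⟨x, hxU⟩).asIdeal)))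
  obtain ⟨r, hr⟩ := ENat.ne_top_iff_exists.mp (Ideal.height_ne_top_of_isPrime
    (I := (hV.primeIdealOf ⟨f.base y, hUV hyU⟩).asIdeal.map
      (Ideal.Quotient.mk (hV.primeIdealOf ⟨f.base x, hUV hxU⟩).asIdeal)))
  have key := dimension_formula_specializes f hV hU hUV x y hxU hyU hle (huc (f.base y))
  obtain ⟨nx, hnx, hδx⟩ := hδ x
  obtain ⟨ny, hny, hδy⟩ := hδ y
  have hnx' : td (f.residueFieldMap x).hom = nx := hnx
  have hny' : td (f.residueFieldMap y).hom = ny := hny
  rw [hnx', hny', ← hh, ← hr] at key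
  have key' : h + ny = r + nx := by
    have : ((h + ny : ℕ) : Cardinal.{u}) = ((r + nx : ℕ) : Cardinal.{u}) := by
      push_cast
      simpa using key
    exact_mod_cast this
  have hDF := delta_eq_add_height δ hdim hV (f.base x) (f.base y) (hUV hxU) (hUV hyU) hleS r hr.symm
  have hmain : δX x = δX y + h := by
    rw [hδx, hδy, hDF]
    have : (h : ℤ) + ny = r + nx := by exact_mod_cast key'
    linarith
  have h1 : 1 ≤ h := by
    have := one_le_height_map _ _ hlt
    rw [← hh] at this
    exact_mod_cast this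
  constructor
  · rw [hmain]
    have : (1 : ℤ) ≤ h := by exact_mod_cast h1
    linarith
  · intro himm
    have hone : ((hU.primeIdealOf ⟨y, hyU⟩).asIdeal.map
        (Ideal.Quotient.mk (hU.primeIdealOf ⟨x, hxU⟩).asIdeal)).height = 1 := by
      apply height_map_eq_one _ _ hlt
      intro p hp h1 h2
      obtain ⟨z, hzU, hzp⟩ := exists_point_of_prime hU p
      subst hzp
      have hxz : x ⤳ z := (specializes_iff_primeIdealOf_le hU x z hxU hzU).mpr h1
      have hzy : z ⤳ y := (specializes_iff_primeIdealOf_le hU z y hzU hyU).mpr h2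
      rcases himm z hxz hzy with h | h
      · left; subst h; rfl
      · right; subst h; rfl
    rw [← hh] at hone
    have : h = 1 := by exact_mod_cast hone
    rw [hmain, this]
    rfl

end Groth.Agent.S9684
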