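import Groth.Statements.S6897
import Mathlib
import Groth.Agent.Lib.Helper15.FittLink

set_option autoImplicit false
universe u
open CategoryTheory
open Fitt

namespace Groth.Agent.S6897

open Groth.Agent.Lib.helper15.Fitting Groth.Agent.Lib.helper15.FittLink

section Core
variable {R : Type u} [CommRing R] {n j : ℕ}

theorem exists_factor {A B C : Type*} [AddCommGroup A] [AddCommGroup B] [AddCommGroup C]
    [Module R A] [Module R B] [Module R C]
    (g : A →ₗ[R] B) (hg : Function.Surjective g) (h : A →ₗ[R] C)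
    (hle : LinearMap.ker g ≤ LinearMap.ker h) :
    ∃ h' : B →ₗ[R] C, ∀ a, h' (g a) = h a := by
  refine ⟨((LinearMap.ker g).liftQ h hle) ∘ₗ (g.quotKerEquivOfSurjective hg).symm.toLinearMap,
    fun a => ?_⟩
  have h1 : (g.quotKerEquivOfSurjective hg).symm (g a) = Submodule.Quotient.mk a := by
    rw [LinearEquiv.symm_apply_eq, LinearMap.quotKerEquivOfSurjective_apply_mk]
  rw [LinearMap.comp_apply, LinearEquiv.coe_coe, h1, Submodule.liftQ_apply]

theorem div_linear {P : Type*} [AddCommGroup P] [Module R P] (f : R)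
    (hf0 : f ∈ nonZeroDivisors R)
    (φ : P →ₗ[R] R) (h : ∀ w, φ w ∈ Ideal.span {f}) :
    ∃ φ' : P →ₗ[R] R, ∀ w, f * φ' w = φ w := by
  choose g hg using fun w => Ideal.mem_span_singleton'.mp (h w)
  refine ⟨{ toFun := g, map_add' := ?_, map_smul' := ?_ }, fun w => ?_⟩
  · intro w w'
    apply (mul_cancel_right_mem_nonZeroDivisors hf0).mp
    rw [hg, add_mul, hg, hg, map_add]
  · intro r w
    apply (mul_cancel_right_mem_nonZeroDivisors hf0).mp
    rw [hg, RingHom.id_apply, smul_eq_mul, mul_assoc, hg, map_smul, smul_eq_mul]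
  · show f * g w = φ w
    rw [mul_comm, hg]

theorem claimI (K : Submodule R (Fin n → R))
    (hbot : detIdeal K (j + 1) = ⊥) (z : Fin j → (Fin n → R)) (hz : ∀ b, z b ∈ K)
    (e : Fin j → Fin n) (u : Fin n → R) (hu : u ∈ K) (hue : ∀ a, u (e a) = 0) (i0 : Fin n) :
    u i0 * (Matrix.of fun a b => z b (e a)).det = 0 := by
  obtain ⟨zt, hzt0, hzts⟩ : ∃ zt : Fin (j + 1) → (Fin n → R),
      zt 0 = u ∧ ∀ b : Fin j, zt b.succ = z b :=
    ⟨Fin.cons u z, Fin.cons_zero _ _, fun b => Fin.cons_succ _ _ b⟩
  obtain ⟨et, het0, hets⟩ : ∃ et : Fin (j + 1) → Fin n,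
      et 0 = i0 ∧ ∀ a : Fin j, et a.succ = e a :=
    ⟨Fin.cons i0 e, Fin.cons_zero _ _, fun a => Fin.cons_succ _ _ a⟩
  have hztK : ∀ b, zt b ∈ K := by
    intro b
    refine Fin.cases ?_ (fun b' => ?_) b
    · rw [hzt0]; exact hu
    · rw [hzts]; exact hz b'
  have hexp : (Matrix.of fun a b => zt b (et a)).det =
      u i0 * (Matrix.of fun a b => z b (e a)).det := by
    rw [Matrix.det_succ_column_zero, Fin.sum_univ_succ, Finset.sum_eq_zero, add_zero]
    · have hsub : (Matrix.of fun a b => zt b (et a)).submatrix (Fin.succAbove 0) Fin.succ =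
          Matrix.of fun a b => z b (e a) := by
        ext a b
        rw [Matrix.submatrix_apply, Matrix.of_apply, Matrix.of_apply, Fin.succAbove_zero,
          hzts, hets]
      rw [hsub, Matrix.of_apply, hzt0, het0, Fin.val_zero, pow_zero, one_mul]
    · intro a _
      rw [Matrix.of_apply, hzt0, hets, hue a, mul_zero, zero_mul]
  rw [← hexp]
  have hdet := minor_mem K (j + 1) zt et hztK
  rw [hbot, Ideal.mem_bot] at hdet
  exact hdet

theorem exists_u (K : Submodule R (Fin n → R)) (f : R) (hf0 : f ∈ nonZeroDivisors R)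
    (hle : detIdeal K j ≤ Ideal.span {f}) (z : Fin j → (Fin n → R)) (hz : ∀ b, z b ∈ K)
    (e : Fin j → Fin n) (d' : R) (hd : (Matrix.of fun a b => z b (e a)).det = f * d') :
    ∃ u : Fin j → (Fin n → R), (∀ c, f • u c ∈ K) ∧
      ∀ c a, u c (e a) = if a = c then d' else 0 := by
  classical
  obtain ⟨A, hA⟩ : ∃ A : Matrix (Fin j) (Fin j) R, A = Matrix.of fun a b => z b (e a) :=
    ⟨_, rfl⟩
  rw [← hA] at hd
  have hAab : ∀ a b, A a b = z b (e a) := fun a b => by rw [hA, Matrix.of_apply]
  have hy : ∀ c i, ∑ b, A.adjugate b c * z b i =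
      (Matrix.of fun a b => z b (Function.update e c i a)).det := by
    intro c i
    have h1 : (Matrix.of fun a b => z b (Function.update e c i a)) =
        A.updateRow c (fun b => z b i) := by
      ext a b
      rw [Matrix.of_apply, Matrix.updateRow_apply, Function.update_apply]
      by_cases hac : a = c
      · rw [if_pos hac, if_pos hac]
      · rw [if_neg hac, if_neg hac, hAab]
    rw [h1, ← Matrix.cramer_transpose_apply, Matrix.cramer_eq_adjugate_mulVec,
      ← Matrix.adjugate_transpose]
    rfl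
  have hymem : ∀ c i, ∑ b, A.adjugate b c * z b i ∈ Ideal.span {f} := by
    intro c i
    rw [hy c i]
    exact hle (minor_mem K j z (Function.update e c i) hz)
  have hyK : ∀ c, (∑ b, A.adjugate b c • z b) ∈ K := fun c =>
    Submodule.sum_mem _ (fun b _ => Submodule.smul_mem _ _ (hz b))
  choose u hu using fun c i => Ideal.mem_span_singleton'.mp (hymem c i)
  refine ⟨u, fun c => ?_, fun c a => ?_⟩
  · have h1 : f • u c = ∑ b, A.adjugate b c • z b := by
      funext i
      rw [Pi.smul_apply, smul_eq_mul, mul_comm, hu c i, Finset.sum_apply]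
      apply Finset.sum_congr rfl
      intro b _
      rw [Pi.smul_apply, smul_eq_mul]
    rw [h1]
    exact hyK c
  · have h2 : f * u c (e a) = f * (if a = c then d' else 0) := by
      rw [mul_comm, hu c (e a)]
      have h3 : ∑ b, A.adjugate b c * z b (e a) = (A * A.adjugate) a c := by
        rw [Matrix.mul_apply]
        apply Finset.sum_congr rfl
        intro b _
        rw [hAab a b, mul_comm]
      rw [h3, Matrix.mul_adjugate, Matrix.smul_apply, Matrix.one_apply, hd, smul_eq_mul]
      by_cases hac : a = c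
      · rw [if_pos hac, if_pos hac, mul_one]
      · rw [if_neg hac, if_neg hac, mul_zero, mul_zero]
    exact (mul_cancel_left_mem_nonZeroDivisors hf0).mp h2

theorem exists_mu (K : Submodule R (Fin n → R)) (f : R) (hf0 : f ∈ nonZeroDivisors R)
    (hle : detIdeal K j ≤ Ideal.span {f}) (hbot : detIdeal K (j + 1) = ⊥)
    (z : Fin j → (Fin n → R)) (hz : ∀ b, z b ∈ K)
    (e : Fin j → Fin n) (d' : R) (hd : (Matrix.of fun a b => z b (e a)).det = f * d') :
    ∃ μ' : Fin j → (K →ₗ[R] R), ∀ (w : K) (i0 : Fin n),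
      d' * ∑ b, μ' b w * z b i0 = d' * d' * (w : Fin n → R) i0 := by
  classical
  obtain ⟨A, hA⟩ : ∃ A : Matrix (Fin j) (Fin j) R, A = Matrix.of fun a b => z b (e a) :=
    ⟨_, rfl⟩
  have hd2 : A.det = f * d' := by rw [hA]; exact hd
  have hAab : ∀ a b, A a b = z b (e a) := fun a b => by rw [hA, Matrix.of_apply]
  let μ : Fin j → (K →ₗ[R] R) := fun b =>
    (LinearMap.proj b : (Fin j → R) →ₗ[R] R) ∘ₗ (Matrix.cramer A) ∘ₗ
      (LinearMap.funLeft R R e) ∘ₗ K.subtype
  have hμ : ∀ b (w : K), μ b w = Matrix.cramer A (fun a => (w : Fin n → R) (e a)) b :=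
    fun b w => rfl
  have hμmem : ∀ b (w : K), μ b w ∈ Ideal.span {f} := by
    intro b w
    rw [hμ, Matrix.cramer_apply]
    have h1 : A.updateCol b (fun a => (w : Fin n → R) (e a)) =
        Matrix.of fun a b' => (Function.update z b (w : Fin n → R)) b' (e a) := by
      ext a b'
      rw [Matrix.updateCol_apply, Matrix.of_apply]
      by_cases hb : b' = b
      · rw [if_pos hb, hb, Function.update_self]
      · rw [if_neg hb, Function.update_of_ne hb, hAab]
    rw [h1]
    apply hle
    apply minor_mem K j _ e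
    intro b'
    by_cases hb : b' = b
    · rw [hb, Function.update_self]; exact w.2
    · rw [Function.update_of_ne hb]; exact hz b'
  choose μ' hμ' using fun b => div_linear f hf0 (μ b) (hμmem b)
  refine ⟨μ', fun w i0 => ?_⟩
  have huK : (A.det • (w : Fin n → R) - ∑ b, μ b w • z b) ∈ K :=
    Submodule.sub_mem _ (Submodule.smul_mem _ _ w.2)
      (Submodule.sum_mem _ (fun b _ => Submodule.smul_mem _ _ (hz b)))
  have hue : ∀ a, (A.det • (w : Fin n → R) - ∑ b, μ b w • z b) (e a) = 0 := by
    intro a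
    have h1 := congrFun (Matrix.mulVec_cramer A (fun a => (w : Fin n → R) (e a))) a
    rw [Pi.smul_apply, smul_eq_mul] at h1
    rw [Pi.sub_apply, Pi.smul_apply, Finset.sum_apply, smul_eq_mul, sub_eq_zero, ← h1]
    show ∑ b, A a b * Matrix.cramer A (fun a => (w : Fin n → R) (e a)) b =
      ∑ b, (μ b w • z b) (e a)
    apply Finset.sum_congr rfl
    intro b _
    rw [Pi.smul_apply, smul_eq_mul, hμ, hAab]
    exact mul_comm _ _
  have h2 := claimI K hbot z hz e _ huK hue i0
  rw [← hA, Pi.sub_apply, Pi.smul_apply, Finset.sum_apply, smul_eq_mul, hd2] at h2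
  have h3 : ∑ b, (μ b w • z b) i0 = f * ∑ b, μ' b w * z b i0 := by
    rw [Finset.mul_sum]
    apply Finset.sum_congr rfl
    intro b _
    rw [Pi.smul_apply, smul_eq_mul, ← hμ' b w, mul_assoc]
  rw [h3] at h2
  have h4 : f * (f * (d' * d' * (w : Fin n → R) i0 - d' * ∑ b, μ' b w * z b i0)) = 0 := by
    calc f * (f * (d' * d' * (w : Fin n → R) i0 - d' * ∑ b, μ' b w * z b i0))
        = (f * d' * (w : Fin n → R) i0 - f * ∑ b, μ' b w * z b i0) * (f * d') := by ring
      _ = 0 := h2
  have h5 := (mul_left_mem_nonZeroDivisors_eq_zero_iff hf0).mp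
    ((mul_left_mem_nonZeroDivisors_eq_zero_iff hf0).mp h4)
  exact (sub_eq_zero.mp h5).symm

theorem exists_P (K : Submodule R (Fin n → R)) (f : R) (hf0 : f ∈ nonZeroDivisors R)
    (hle : detIdeal K j ≤ Ideal.span {f}) (hbot : detIdeal K (j + 1) = ⊥)
    (z : Fin j → (Fin n → R)) (hz : ∀ b, z b ∈ K)
    (e : Fin j → Fin n) (d' : R) (hd : (Matrix.of fun a b => z b (e a)).det = f * d') :
    ∃ P : (Fin n → R) →ₗ[R] (Fin n → R), (∀ v, f • v ∈ K → P v = 0) ∧
      (∀ v, f • ((d' * d') • v - P v) ∈ K) := by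
  classical
  obtain ⟨u, huK, hue⟩ := exists_u K f hf0 hle z hz e d' hd
  let Q : (Fin n → R) →ₗ[R] (Fin n → R) :=
    d' • LinearMap.id - ∑ c, (LinearMap.proj (e c) : (Fin n → R) →ₗ[R] R).smulRight (u c)
  have hQ : ∀ v, Q v = d' • v - ∑ c, v (e c) • u c := by
    intro v
    show ((d' • LinearMap.id -
      ∑ c, (LinearMap.proj (e c) : (Fin n → R) →ₗ[R] R).smulRight (u c) :
        (Fin n → R) →ₗ[R] (Fin n → R))) v = _
    rw [LinearMap.sub_apply, LinearMap.smul_apply, LinearMap.id_apply, LinearMap.sum_apply]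
    rfl
  refine ⟨d' • Q, fun v hv => ?_, fun v => ?_⟩
  · have h1 : f • Q v ∈ K := by
      rw [hQ, smul_sub, Finset.smul_sum, smul_comm f d' v]
      refine Submodule.sub_mem _ (Submodule.smul_mem _ _ hv)
        (Submodule.sum_mem _ (fun c _ => ?_))
      rw [smul_comm f (v (e c)) (u c)]
      exact Submodule.smul_mem _ _ (huK c)
    have h2 : ∀ a, (f • Q v) (e a) = 0 := by
      intro a
      rw [hQ, Pi.smul_apply, Pi.sub_apply, Pi.smul_apply, Finset.sum_apply]
      have h6 : ∑ c, (v (e c) • u c) (e a) = v (e a) * d' := by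
        have h7 : ∀ c, (v (e c) • u c) (e a) = if a = c then v (e c) * d' else 0 := by
          intro c
          rw [Pi.smul_apply, hue c a, smul_eq_mul, mul_ite, mul_zero]
        rw [Finset.sum_congr rfl (fun c _ => h7 c),
          Finset.sum_ite_eq Finset.univ a (fun c => v (e c) * d'), if_pos (Finset.mem_univ a)]
      rw [h6, smul_eq_mul, smul_eq_mul, mul_comm d' (v (e a)), sub_self, mul_zero]
    funext i0
    have h3 := claimI K hbot z hz e _ h1 h2 i0
    rw [hd, Pi.smul_apply, smul_eq_mul] at h3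
    have h4 : f * (f * (d' * Q v i0)) = 0 := by
      calc f * (f * (d' * Q v i0)) = f * Q v i0 * (f * d') := by ring
        _ = 0 := h3
    have h5 := (mul_left_mem_nonZeroDivisors_eq_zero_iff hf0).mp
      ((mul_left_mem_nonZeroDivisors_eq_zero_iff hf0).mp h4)
    rw [LinearMap.smul_apply, Pi.smul_apply, smul_eq_mul, Pi.zero_apply]
    exact h5
  · have h1 : (d' * d') • v - (d' • Q) v = d' • ∑ c, v (e c) • u c := by
      rw [LinearMap.smul_apply, hQ, smul_sub, smul_smul, sub_sub_cancel]
    rw [h1, smul_comm f d', Finset.smul_sum]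
    refine Submodule.smul_mem _ _ (Submodule.sum_mem _ (fun c _ => ?_))
    rw [smul_comm f (v (e c)) (u c)]
    exact Submodule.smul_mem _ _ (huK c)

theorem exists_partition (K : Submodule R (Fin n → R)) (f : R) (hf0 : f ∈ nonZeroDivisors R)
    (hfit : detIdeal K j = Ideal.span {f}) :
    ∃ (m : ℕ) (z : Fin m → Fin j → (Fin n → R)) (e : Fin m → Fin j → Fin n)
      (d' : Fin m → R) (r : Fin m → R),
      (∀ t b, z t b ∈ K) ∧ (∀ t, (Matrix.of fun a b => z t b (e t a)).det = f * d' t) ∧
        ∑ t, r t * d' t = 1 := by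
  have hf : f ∈ Submodule.span R {d | ∃ (z : Fin j → (Fin n → R)) (e : Fin j → Fin n),
      (∀ b, z b ∈ K) ∧ d = (Matrix.of fun a b => z b (e a)).det} := by
    show f ∈ detIdeal K j
    rw [hfit]
    exact Ideal.subset_span rfl
  obtain ⟨m, r, g, hg⟩ := Submodule.mem_span_set'.mp hf
  choose z e hz hgd using fun t => (show ∃ (z : Fin j → (Fin n → R)) (e : Fin j → Fin n),
      (∀ b, z b ∈ K) ∧ ((g t : R)) = (Matrix.of fun a b => z b (e a)).det from (g t).2)
  have hdm : ∀ t, (Matrix.of fun a b => z t b (e t a)).det ∈ Ideal.span {f} := by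
    intro t
    rw [← hfit]
    exact minor_mem K j (z t) (e t) (hz t)
  choose d' hd' using fun t => Ideal.mem_span_singleton'.mp (hdm t)
  refine ⟨m, z, e, d', r, hz, fun t => ?_, ?_⟩
  · rw [← hd' t, mul_comm]
  · apply (mul_cancel_left_mem_nonZeroDivisors hf0).mp
    calc f * ∑ t, r t * d' t = ∑ t, r t • (g t : R) := by
          rw [Finset.mul_sum]
          apply Finset.sum_congr rfl
          intro t _
          rw [hgd t, ← hd' t, smul_eq_mul]
          ring
      _ = f := hg
      _ = f * 1 := (mul_one f).symm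

end Core

theorem main {R : Type u} [CommRing R] (M : Type u)
    [AddCommGroup M] [Module R M] [Module.Finite R M] (k : ℕ) (f : R)
    (hf0 : f ∈ nonZeroDivisors R)
    (hf : Fitt.ideal R M k = Ideal.span {f}) (hk : k = 0 ∨ Fitt.ideal R M (k - 1) = ⊥) :
    HasProjectiveDimensionLT (ModuleCat.of R M) 2 ∧
    (∀ x : M, (∃ n : ℕ, f ^ n • x = 0) ↔ f • x = 0) ∧
    HasProjectiveDimensionLT
      (ModuleCat.of R ↥(LinearMap.ker (f • (LinearMap.id : M →ₗ[R] M)))) 2 ∧
    (∀ (p : Ideal R) [p.IsPrime], ∃ g : R, g ∉ p ∧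
      Module.Free (Localization.Away g)
          (LocalizedModule (Submonoid.powers g)
            (M ⧸ LinearMap.ker (f • (LinearMap.id : M →ₗ[R] M)))) ∧
        Module.finrank (Localization.Away g)
          (LocalizedModule (Submonoid.powers g)
            (M ⧸ LinearMap.ker (f • (LinearMap.id : M →ₗ[R] M)))) = k) ∧
    Nonempty (M ≃ₗ[R] (M ⧸ LinearMap.ker (f • (LinearMap.id : M →ₗ[R] M))) ×
      ↥(LinearMap.ker (f • (LinearMap.id : M →ₗ[R] M)))) := by
  classical
  generalize hM' : LinearMap.ker (f • (LinearMap.id : M →ₗ[R] M)) = M'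
  obtain ⟨n0, x0, hx0⟩ := Module.Finite.exists_fin (R := R) (M := M)
  obtain ⟨n, x, hx, hnk⟩ : ∃ (n : ℕ) (x : Fin n → M),
      Submodule.span R (Set.range x) = ⊤ ∧ k ≤ n := by
    refine ⟨n0 + k, Fin.append x0 (fun _ => 0), ?_, Nat.le_add_left k n0⟩
    rw [eq_top_iff, ← hx0]
    apply Submodule.span_mono
    rintro _ ⟨i, rfl⟩
    exact ⟨Fin.castAdd k i, Fin.append_left x0 _ i⟩
  obtain ⟨j, hj⟩ : ∃ j, j = n - k := ⟨_, rfl⟩
  have hfitK : detIdeal (rel R x) j = Ideal.span {f} := by
    rw [hj, ← fitt_eq x hx k, hf]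
  have hbotK : detIdeal (rel R x) (j + 1) = ⊥ := by
    rcases hk with hk0 | hk1
    · apply detIdeal_eq_bot_of_card_lt
      rw [Fintype.card_fin]; omega
    · rcases Nat.eq_zero_or_pos k with hk0 | hkpos
      · apply detIdeal_eq_bot_of_card_lt
        rw [Fintype.card_fin]; omega
      · rw [fitt_eq x hx (k - 1)] at hk1
        have h1 : n - (k - 1) = j + 1 := by omega
        rw [h1] at hk1
        exact hk1
  have hle : detIdeal (rel R x) j ≤ Ideal.span {f} := le_of_eq hfitK
  have hmemM' : ∀ m : M, m ∈ M' ↔ f • m = 0 := fun m => by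
    rw [← hM', LinearMap.mem_ker, LinearMap.smul_apply, LinearMap.id_apply]
  obtain ⟨xb, hxb⟩ : ∃ xb : Fin n → M ⧸ M', xb = fun i => M'.mkQ (x i) := ⟨_, rfl⟩
  have hxbspan : Submodule.span R (Set.range xb) = ⊤ := by
    have h1 : Set.range xb = M'.mkQ '' Set.range x := by
      rw [hxb, ← Set.range_comp]; rfl
    rw [h1, ← Submodule.map_span, hx, Submodule.map_top, Submodule.range_mkQ]
  have hrelb : ∀ v : Fin n → R, v ∈ rel R xb ↔ f • v ∈ rel R x := by
    intro v
    rw [mem_rel, mem_rel]
    have h1 : ∑ i, v i • xb i = M'.mkQ (∑ i, v i • x i) := by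
      rw [map_sum]
      apply Finset.sum_congr rfl
      intro i _
      rw [map_smul, hxb]
    have h2 : ∑ i, (f • v) i • x i = f • ∑ i, v i • x i := by
      rw [Finset.smul_sum]
      apply Finset.sum_congr rfl
      intro i _
      rw [Pi.smul_apply, smul_eq_mul, mul_smul]
    rw [h1, h2, Submodule.mkQ_apply, Submodule.Quotient.mk_eq_zero, hmemM']
  obtain ⟨m, z, e, d', r, hz, hd, hsum⟩ := exists_partition (rel R x) f hf0 hfitK
  have hspan : Ideal.span (Set.range d') = ⊤ := by
    rw [Ideal.eq_top_iff_one, Ideal.mem_span_range_iff_exists_fun]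
    exact ⟨r, hsum⟩
  obtain ⟨s, hs⟩ : ∃ s : Fin m → R, ∑ t, s t * (d' t * d' t) = 1 := by
    have h2 := Ideal.span_pow_eq_top _ hspan 2
    rw [← Set.range_comp, Ideal.eq_top_iff_one, Ideal.mem_span_range_iff_exists_fun] at h2
    obtain ⟨s, hs⟩ := h2
    refine ⟨s, ?_⟩
    refine (Finset.sum_congr rfl (fun t _ => ?_)).trans hs
    simp only [Function.comp_apply, pow_two]
  -- the splitting of `R^n → N`
  choose P hP1 hP2 using fun t =>
    exists_P (rel R x) f hf0 hle hbotK (z t) (hz t) (e t) (d' t) (hd t)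
  obtain ⟨PP, hPP⟩ : ∃ PP : (Fin n → R) →ₗ[R] (Fin n → R), PP = ∑ t, s t • P t := ⟨_, rfl⟩
  have hPP1 : ∀ v, v ∈ rel R xb → PP v = 0 := by
    intro v hv
    rw [hPP, LinearMap.sum_apply]
    apply Finset.sum_eq_zero
    intro t _
    rw [LinearMap.smul_apply, hP1 t v ((hrelb v).mp hv), smul_zero]
  have hPP2 : ∀ v, v - PP v ∈ rel R xb := by
    intro v
    rw [hrelb]
    have e1 : v - PP v = ∑ t, s t • ((d' t * d' t) • v - P t v) := by
      rw [hPP, LinearMap.sum_apply]
      have e2 : ∑ t, s t • ((d' t * d' t) • v - P t v) =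
          ∑ t, (s t * (d' t * d' t)) • v - ∑ t, (s t • P t) v := by
        rw [← Finset.sum_sub_distrib]
        apply Finset.sum_congr rfl
        intro t _
        rw [smul_sub, smul_smul, LinearMap.smul_apply]
      rw [e2, ← Finset.sum_smul, hs, one_smul]
    rw [e1, Finset.smul_sum]
    refine Submodule.sum_mem _ (fun t _ => ?_)
    rw [smul_comm f (s t)]
    exact Submodule.smul_mem _ _ (hP2 t v)
  obtain ⟨g, hg⟩ : ∃ g : (Fin n → R) →ₗ[R] (M ⧸ M'), g = Fintype.linearCombination R xb :=
    ⟨_, rfl⟩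
  have hgsurj : Function.Surjective g := by
    rw [← LinearMap.range_eq_top, hg, Fintype.range_linearCombination, hxbspan]
  have hgker : ∀ v, g v = 0 ↔ v ∈ rel R xb := fun v => by
    rw [hg]; exact Iff.rfl
  obtain ⟨ι, hι⟩ := exists_factor g hgsurj PP (fun v hv => by
    rw [LinearMap.mem_ker] at hv ⊢
    exact hPP1 v ((hgker v).mp hv))
  have hgι : g ∘ₗ ι = LinearMap.id := by
    apply LinearMap.ext
    intro y
    obtain ⟨v, rfl⟩ := hgsurj y
    rw [LinearMap.comp_apply, hι, LinearMap.id_apply]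
    have h1 := (hgker _).mpr (hPP2 v)
    rw [map_sub, sub_eq_zero] at h1
    exact h1.symm
  have hNproj : Module.Projective R (M ⧸ M') := Module.Projective.of_split ι g hgι
  have hreg : ∀ y : M ⧸ M', f • y = 0 → y = 0 := by
    intro y hy
    have h1 : f • ι y = 0 := by rw [← map_smul, hy, map_zero]
    have h2 : ι y = 0 := by
      funext l
      have h3 := congrFun h1 l
      rw [Pi.smul_apply, smul_eq_mul, Pi.zero_apply] at h3
      exact (mul_left_mem_nonZeroDivisors_eq_zero_iff hf0).mp h3
    have h3 := LinearMap.congr_fun hgι y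
    rw [LinearMap.comp_apply, h2, map_zero, LinearMap.id_apply] at h3
    exact h3.symm
  -- Fitting ideals of `N`
  have hNtop : detIdeal (rel R xb) j = ⊤ := by
    have h1 : ∀ t, d' t ^ j ∈ detIdeal (rel R xb) j := by
      intro t
      obtain ⟨u, huK, hue⟩ := exists_u (rel R x) f hf0 hle (z t) (hz t) (e t) (d' t) (hd t)
      have h2 := minor_mem (rel R xb) j u (e t) (fun c => (hrelb _).mpr (huK c))
      have h3 : (Matrix.of fun a b => u b (e t a)) =
          Matrix.diagonal (fun _ : Fin j => d' t) := by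
        ext a b
        rw [Matrix.of_apply, hue b a, Matrix.diagonal_apply]
      rw [h3, Matrix.det_diagonal, Finset.prod_const, Finset.card_univ, Fintype.card_fin] at h2
      exact h2
    have h5 := Ideal.span_pow_eq_top _ hspan j
    rw [eq_top_iff, ← h5]
    apply Ideal.span_le.mpr
    rintro _ ⟨_, ⟨t, rfl⟩, rfl⟩
    exact h1 t
  have hNbot : detIdeal (rel R xb) (j + 1) = ⊥ := by
    rw [eq_bot_iff]
    apply Ideal.span_le.mpr
    rintro d ⟨z', e', hz', rfl⟩
    rw [SetLike.mem_coe, Ideal.mem_bot]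
    have h1 := minor_mem (rel R x) (j + 1) (fun b => f • z' b) e'
      (fun b => (hrelb _).mp (hz' b))
    rw [hbotK, Ideal.mem_bot] at h1
    have h2 : (Matrix.of fun a b => (f • z' b) (e' a)) =
        f • (Matrix.of fun a b => z' b (e' a)) := by
      ext a b
      rw [Matrix.smul_apply, Matrix.of_apply, Matrix.of_apply, Pi.smul_apply]
    rw [h2, Matrix.det_smul] at h1
    exact (mul_left_mem_nonZeroDivisors_eq_zero_iff (pow_mem hf0 _)).mp h1
  have hpart4 : ∀ (p : Ideal R) [p.IsPrime], ∃ g : R, g ∉ p ∧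
      Module.Free (Localization.Away g) (LocalizedModule (Submonoid.powers g) (M ⧸ M')) ∧
        Module.finrank (Localization.Away g)
          (LocalizedModule (Submonoid.powers g) (M ⧸ M')) = k := by
    refine (locFree_iff_fitt (M := M ⧸ M') k).mpr ⟨fun l hl => ?_, fun l hl => ?_⟩
    · rw [fitt_eq xb hxbspan l, eq_bot_iff, ← hNbot]
      exact detIdeal_anti _ (by omega)
    · rw [fitt_eq xb hxbspan l, eq_top_iff, ← hNtop]
      exact detIdeal_anti _ (by omega)
  -- splitting of `M → N`
  obtain ⟨σ, hσ⟩ := Module.projective_lifting_property M'.mkQ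
    (LinearMap.id : (M ⧸ M') →ₗ[R] (M ⧸ M')) (Submodule.mkQ_surjective M')
  have hiso : (M' × (M ⧸ M')) ≃ₗ[R] M :=
    lequivProdOfRightSplitExact (j := M'.subtype) (g := M'.mkQ) (f := σ)
      (Submodule.injective_subtype M') (by rw [Submodule.range_subtype, Submodule.ker_mkQ]) hσ
  obtain ⟨ρ, hρ⟩ : ∃ ρ : M →ₗ[R] M', ρ ∘ₗ M'.subtype = LinearMap.id := by
    refine ⟨LinearMap.codRestrict M' (LinearMap.id - σ ∘ₗ M'.mkQ) (fun m => ?_), ?_⟩
    · have h1 : M'.mkQ ((LinearMap.id - σ ∘ₗ M'.mkQ : M →ₗ[R] M) m) = 0 := by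
        rw [LinearMap.sub_apply, LinearMap.id_apply, LinearMap.comp_apply, map_sub, sub_eq_zero]
        have h2 := LinearMap.congr_fun hσ (M'.mkQ m)
        rw [LinearMap.comp_apply, LinearMap.id_apply] at h2
        exact h2.symm
      exact (Submodule.Quotient.mk_eq_zero M').mp h1
    · apply LinearMap.ext
      intro m'
      apply Subtype.ext
      rw [LinearMap.comp_apply, LinearMap.codRestrict_apply, LinearMap.sub_apply,
        LinearMap.id_apply, LinearMap.comp_apply, Submodule.subtype_apply, LinearMap.id_apply]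
      have h1 : M'.mkQ (m' : M) = 0 := by
        rw [Submodule.mkQ_apply, Submodule.Quotient.mk_eq_zero]; exact m'.2
      rw [h1, map_zero, sub_zero]
  -- `K` is projective
  have hKproj : Module.Projective R (rel R x) := by
    choose μ' hμ' using fun t =>
      exists_mu (rel R x) f hf0 hle hbotK (z t) (hz t) (e t) (d' t) (hd t)
    let iK : (rel R x) →ₗ[R] (Fin m → Fin j → R) :=
      LinearMap.pi (fun t => LinearMap.pi (fun b => μ' t b))
    let sK0 : (Fin m → Fin j → R) →ₗ[R] (Fin n → R) :=
      ∑ t, ∑ b, ((LinearMap.proj b : (Fin j → R) →ₗ[R] R) ∘ₗ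
        (LinearMap.proj t : (Fin m → Fin j → R) →ₗ[R] (Fin j → R))).smulRight
          ((s t * d' t) • z t b)
    have hsK0 : ∀ c, sK0 c = ∑ t, ∑ b, c t b • ((s t * d' t) • z t b) := by
      intro c
      show (∑ t, ∑ b, ((LinearMap.proj b : (Fin j → R) →ₗ[R] R) ∘ₗ
        (LinearMap.proj t : (Fin m → Fin j → R) →ₗ[R] (Fin j → R))).smulRight
          ((s t * d' t) • z t b)) c = _
      rw [LinearMap.sum_apply]
      apply Finset.sum_congr rfl
      intro t _
      rw [LinearMap.sum_apply]
      apply Finset.sum_congr rfl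
      intro b _
      rfl
    have hsK0mem : ∀ c, sK0 c ∈ rel R x := by
      intro c
      rw [hsK0]
      exact Submodule.sum_mem _ (fun t _ => Submodule.sum_mem _ (fun b _ =>
        Submodule.smul_mem _ _ (Submodule.smul_mem _ _ (hz t b))))
    refine Module.Projective.of_split iK (LinearMap.codRestrict (rel R x) sK0 hsK0mem) ?_
    apply LinearMap.ext
    intro w
    apply Subtype.ext
    funext i0
    rw [LinearMap.comp_apply, LinearMap.id_apply, LinearMap.codRestrict_apply, hsK0,
      Finset.sum_apply]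
    have h2 : ∀ t, (∑ b, iK w t b • ((s t * d' t) • z t b)) i0 =
        (s t * (d' t * d' t)) * (w : Fin n → R) i0 := by
      intro t
      rw [Finset.sum_apply]
      calc ∑ b, (iK w t b • ((s t * d' t) • z t b)) i0
          = s t * (d' t * ∑ b, μ' t b w * z t b i0) := by
            rw [Finset.mul_sum, Finset.mul_sum]
            apply Finset.sum_congr rfl
            intro b _
            show μ' t b w * ((s t * d' t) * z t b i0) = _
            ring
        _ = (s t * (d' t * d' t)) * (w : Fin n → R) i0 := by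
            rw [hμ' t w i0]; ring
    rw [Finset.sum_congr rfl (fun t _ => h2 t), ← Finset.sum_mul, hs, one_mul]
  -- projective dimensions
  have hpdM : HasProjectiveDimensionLT (ModuleCat.of R M) 2 := by
    have hqsurj : Function.Surjective (Fintype.linearCombination R x) := by
      rw [← LinearMap.range_eq_top, Fintype.range_linearCombination, hx]
    let T : ShortComplex (ModuleCat.{u} R) :=
      ShortComplex.mk (ModuleCat.ofHom (rel R x).subtype)
        (ModuleCat.ofHom (Fintype.linearCombination R x)) (by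
          ext w
          exact LinearMap.mem_ker.1 w.2)
    have hT : T.ShortExact := by
      refine ShortComplex.ShortExact.mk' ?_ ?_ ?_
      · rw [ShortComplex.moduleCat_exact_iff_range_eq_ker]
        exact Submodule.range_subtype _
      · exact (ModuleCat.mono_iff_injective _).2 (Submodule.injective_subtype _)
      · exact (ModuleCat.epi_iff_surjective _).2 hqsurj
    have h1 : HasProjectiveDimensionLT T.X₁ 1 := by
      show HasProjectiveDimensionLT (ModuleCat.of R (rel R x)) 1
      haveI : Module.Projective R (ModuleCat.of R (rel R x)) := hKproj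
      infer_instance
    have h2 : HasProjectiveDimensionLT T.X₂ 2 := by
      show HasProjectiveDimensionLT (ModuleCat.of R (Fin n → R)) 2
      haveI : Module.Projective R (ModuleCat.of R (Fin n → R)) :=
        inferInstanceAs (Module.Projective R (Fin n → R))
      exact hasProjectiveDimensionLT_of_ge _ 1 2 (by omega)
    exact hT.hasProjectiveDimensionLT_X₃ 1 h1 h2
  have hpdM' : HasProjectiveDimensionLT (ModuleCat.of R M') 2 := by
    let rt : Retract (ModuleCat.of R M') (ModuleCat.of R M) :=
      { i := ModuleCat.ofHom M'.subtype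
        r := ModuleCat.ofHom ρ
        retract := by
          rw [← ModuleCat.ofHom_comp, hρ]; rfl }
    haveI := hpdM
    exact rt.hasProjectiveDimensionLT 2
  -- torsion
  have hkey : ∀ y : M, f • f • y = 0 → f • y = 0 := by
    intro y hy
    have h1 : f • M'.mkQ y = 0 := by
      rw [← map_smul, Submodule.mkQ_apply, Submodule.Quotient.mk_eq_zero, hmemM']
      exact hy
    have h2 := hreg _ h1
    rw [Submodule.mkQ_apply, Submodule.Quotient.mk_eq_zero, hmemM'] at h2
    exact h2
  have hpow : ∀ (l : ℕ) (y : M), f ^ (l + 1) • y = 0 → f • y = 0 := by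
    intro l
    induction l with
    | zero =>
      intro y hy
      rwa [zero_add, pow_one] at hy
    | succ l ih =>
      intro y hy
      apply ih
      have h1 : f • f • (f ^ l • y) = 0 := by
        calc f • f • (f ^ l • y) = f ^ (l + 1 + 1) • y := by
              rw [smul_smul, smul_smul]; congr 1; ring
          _ = 0 := hy
      have h2 := hkey _ h1
      rw [smul_smul, ← pow_succ'] at h2
      exact h2
  have htors : ∀ y : M, (∃ l : ℕ, f ^ l • y = 0) ↔ f • y = 0 := by
    intro y
    constructor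
    · rintro ⟨l, hl⟩
      rcases l with _ | l
      · rw [pow_zero, one_smul] at hl
        rw [hl, smul_zero]
      · exact hpow l y hl
    · intro h
      exact ⟨1, by rw [pow_one]; exact h⟩
  exact ⟨hpdM, htors, hpdM', hpart4, ⟨hiso.symm.trans (LinearEquiv.prodComm R M' (M ⧸ M'))⟩⟩



/-- Let `M` be a finitely presented `R`-module and `k ≥ 0` such that `Fit_k(M) = (f)` for a
nonzerodivisor `f` and `Fit_{k-1}(M) = 0` (no condition when `k = 0`). Let `M' = Ker(f : M → M)`.
Then: the projective dimension of `M` is at most `1`; `M'` coincides with the `f`-power torsion of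
`M` and its projective dimension is at most `1`; every prime of `R` has a basic open neighbourhood
over which `M/M'` is free of rank `k`; and `M ≅ M/M' ⊕ M'` (existence of an isomorphism). -/
theorem result {R : Type u} [CommRing R] (M : Type u)
    [AddCommGroup M] [Module R M] [Module.FinitePresentation R M] (k : ℕ) (f : R) (hf0 : f ∈ nonZeroDivisors R)
    (hf : Fitt.ideal R M k = Ideal.span {f}) (hk : k = 0 ∨ Fitt.ideal R M (k - 1) = ⊥) :
    HasProjectiveDimensionLT (ModuleCat.of R M) 2 ∧
    (∀ x : M, (∃ n : ℕ, f ^ n • x = 0) ↔ f • x = 0) ∧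
    HasProjectiveDimensionLT (ModuleCat.of R ↥(LinearMap.ker (f • (LinearMap.id : M →ₗ[R] M)))) 2 ∧
    (∀ (p : Ideal R) [p.IsPrime], ∃ g : R, g ∉ p ∧
      Module.Free (Localization.Away g)
          (LocalizedModule (Submonoid.powers g) (M ⧸ LinearMap.ker (f • (LinearMap.id : M →ₗ[R] M)))) ∧
        Module.finrank (Localization.Away g)
          (LocalizedModule (Submonoid.powers g) (M ⧸ LinearMap.ker (f • (LinearMap.id : M →ₗ[R] M)))) = k) ∧
    Nonempty (M ≃ₗ[R] (M ⧸ LinearMap.ker (f • (LinearMap.id : M →ₗ[R] M))) ×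
      ↥(LinearMap.ker (f • (LinearMap.id : M →ₗ[R] M)))) := by
  exact main M k f hf0 hf hk


end Groth.Agent.S6897
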