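import Groth.Statements.S7639
import Mathlib
import Groth.Agent.S1536

set_option autoImplicit false
universe u
open CategoryTheory CategoryTheory.Limits AlgebraicGeometry
attribute [local instance] Curv2.resAlgebra
open Variety

namespace Groth.Agent.S7639



theorem dvd_of_isField (k : Type*) [Field k] (κ : Type*) [Ring κ] (hκ : IsField κ) [Algebra k κ]
    (M : Type*) [AddCommGroup M] [Module κ M] [Module k M] [IsScalarTower k κ M] :
    Module.finrank k κ ∣ Module.finrank k M := by
  letI := hκ.toField
  exact Module.finrank_dvd_finrank_right k κ M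

theorem dvd_finsum' {ι : Type*} (w : ℤ) (f : ι → ℤ) (h : ∀ i, w ∣ f i) : w ∣ ∑ᶠ i, f i := by
  classical
  by_cases hf : (Function.support f).Finite
  · rw [finsum_eq_sum_of_support_subset f (s := hf.toFinset) (by simp)]
    exact Finset.dvd_sum (fun i _ => h i)
  · rw [finsum_of_infinite_support hf]; exact dvd_zero _

section
variable (k : Type u) [Field k] (X : Scheme.{u}) [X.Over (Spec (CommRingCat.of k))]

/-- `k`-algebra structure on global functions -/
@[reducible] noncomputable def algΓ : Algebra k (Coh.Γtop X) :=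
  (Coh.toGlobal (X ↘ Spec (CommRingCat.of k))).toAlgebra'
    (fun _ _ => mul_comm (G := Γ(X, ⊤)) _ _)

attribute [local instance] algΓ

instance (F : X.Modules) (i : ℕ) : IsScalarTower k (Coh.Γtop X) (Coh.HH X F i) :=
  ⟨fun a r x => by
    show (Coh.toGlobal (X ↘ Spec (CommRingCat.of k)) a * r) • x =
      Coh.toGlobal (X ↘ Spec (CommRingCat.of k)) a • (r • x)
    exact mul_smul _ _ _⟩

theorem dvd_HH (hκ : IsField (Coh.Γtop X)) (F : X.Modules) (i : ℕ) :
    Module.finrank k (Coh.Γtop X) ∣ Module.finrank k (Coh.HH X F i) :=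
  dvd_of_isField k (Coh.Γtop X) hκ (Coh.HH X F i)

theorem dvd_euler (hκ : IsField (Coh.Γtop X)) (F : X.Modules) :
    (Module.finrank k (Coh.Γtop X) : ℤ) ∣ Curv2.euler k X F := by
  unfold Curv2.euler
  apply dvd_finsum'
  intro i
  exact Dvd.dvd.mul_left (Int.natCast_dvd_natCast.mpr (dvd_HH k X hκ F i)) _

theorem finite_Γ [IsProper (X ↘ (Spec (CommRingCat.of k)))] : Module.Finite k (Coh.Γtop X) := by
  have hcoh : Coh.IsCoh (Coh.structureModule X) :=
    Groth.Agent.Lib.helper16.CohFinite.isCoh_of_finite_sections (Coh.structureModule X)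
      (fun U : X.affineOpens => U.1) (fun U => U.2) (iSup_affineOpens_eq_top X)
      (fun U => inferInstanceAs (Module.Finite Γ(X, U.1) Γ(X, U.1)))
  haveI hfin : Module.Finite k (Coh.HH X (Coh.structureModule X) 0) :=
    Groth.Agent.S0002.result k X _ hcoh 0
  letI := Groth.Agent.Lib.Helper18.HH.sectionsModuleOver k (Coh.structureModule X)
  let e₁ := Groth.Agent.Lib.Helper18.HH.equiv₀Over k (Coh.structureModule X)
  let e₂ : (Coh.structureModule X).val.obj (Opposite.op ⊤) ≃ₗ[k] Coh.Γtop X :=
    { toFun := fun x => x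
      invFun := fun x => x
      left_inv := fun _ => rfl
      right_inv := fun _ => rfl
      map_add' := fun _ _ => rfl
      map_smul' := fun a x => rfl }
  exact Module.Finite.equiv (e₁.trans e₂)

theorem dvd_residue (hκ : IsField (Coh.Γtop X)) (x : X) :
    Module.finrank k (Coh.Γtop X) ∣ Module.finrank k (X.residueField x) := by
  let φ : Coh.Γtop X →+* X.residueField x :=
    (X.residue x).hom.comp (X.presheaf.germ ⊤ x trivial).hom
  letI : Module (Coh.Γtop X) (X.residueField x) := Module.compHom _ φ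
  haveI : IsScalarTower k (Coh.Γtop X) (X.residueField x) :=
    ⟨fun a r y => by
      show φ (Coh.toGlobal (X ↘ Spec (CommRingCat.of k)) a * r) * y =
        φ (Coh.toGlobal (X ↘ Spec (CommRingCat.of k)) a) * (φ r * y)
      rw [map_mul, mul_assoc]⟩
  exact dvd_of_isField k (Coh.Γtop X) hκ (X.residueField x)

end

theorem result' (k : Type u) [Field k] (X : Scheme.{u}) [X.Over (Spec (CommRingCat.of k))] [IsProper (X ↘ (Spec (CommRingCat.of k)))] [IsReduced X] [ConnectedSpace X] :
    letI : Algebra k Γ(X, ⊤) := ((X ↘ (Spec (CommRingCat.of k))).appTop.hom.comp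
      (Scheme.ΓSpecIso (CommRingCat.of k)).inv.hom).toAlgebra
    IsField Γ(X, ⊤) ∧ Module.Finite k Γ(X, ⊤) ∧
      (∀ (n : ℕ) (E : X.Modules), FlatMod.IsFinLocFreeOfRank n E →
        (Module.finrank k Γ(X, ⊤) : ℤ) ∣ Curv2.deg k X E n) ∧
      (∀ x : X, IsClosed ({x} : Set X) →
        Module.finrank k Γ(X, ⊤) ∣ Module.finrank k (X.residueField x)) ∧
      (∀ D : X.IdealSheafData, topologicalKrullDim D.subscheme ≤ 0 →
        Module.finrank k Γ(X, ⊤) ∣ Module.finrank k (Coh.HH X (ClSub.quotMod D) 0)) := by
  letI : Algebra k Γ(X, ⊤) := ((X ↘ (Spec (CommRingCat.of k))).appTop.hom.comp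
      (Scheme.ΓSpecIso (CommRingCat.of k)).inv.hom).toAlgebra
  have hfin : Module.Finite k Γ(X, ⊤) := finite_Γ k X
  haveI : IsArtinianRing Γ(X, ⊤) := IsArtinianRing.of_finite k _
  haveI : Nontrivial Γ(X, ⊤) := by
    haveI : Nonempty (⊤ : X.Opens) := by
      obtain ⟨y⟩ := (inferInstance : Nonempty ↥X)
      exact ⟨⟨y, trivial⟩⟩
    exact Scheme.component_nontrivial _ ⊤
  have hF : IsField Γ(X, ⊤) :=
    Groth.Agent.S1536.isField_of_trivial_idempotents _ (Groth.Agent.S1536.idem_trivial X)
  have hF' : IsField (Coh.Γtop X) := hF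
  refine ⟨hF, hfin, ?_, ?_, ?_⟩
  · intro n E _
    unfold Curv2.deg
    have h1 := dvd_euler k X hF' E
    have h2 := dvd_euler k X hF' (Coh.structureModule X)
    exact dvd_sub h1 (Dvd.dvd.mul_left h2 _)
  · intro x _
    exact dvd_residue k X hF' x
  · intro D _
    exact dvd_HH k X hF' _ 0



/-- Let X be a proper scheme over a field k which is reduced and connected, and let κ = Γ(X, O_X). Then
κ is a field, finite over k, and w = [κ : k] divides (1) the degree of every finite locally free
module of constant rank, (2) the degree [κ(x) : k] of every closed point x, and (3) the degree dim_k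
H^0(X, O_D) of every closed subscheme D of dimension zero (or empty). (The published statement uses
the degree of E, which it defines only for X of dimension at most one; this row states (1) for the
integer χ(E) − n·χ(O_X) with no bound on the dimension of X.) -/
theorem result (k : Type u) [Field k] (X : Scheme.{u}) [X.Over (Spec (CommRingCat.of k))] [IsProper (X ↘ (Spec (CommRingCat.of k)))] [IsReduced X] [ConnectedSpace X] :
    letI : Algebra k Γ(X, ⊤) := ((X ↘ (Spec (CommRingCat.of k))).appTop.hom.comp
      (Scheme.ΓSpecIso (CommRingCat.of k)).inv.hom).toAlgebra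
    IsField Γ(X, ⊤) ∧ Module.Finite k Γ(X, ⊤) ∧
      (∀ (n : ℕ) (E : X.Modules), FlatMod.IsFinLocFreeOfRank n E →
        (Module.finrank k Γ(X, ⊤) : ℤ) ∣ Curv2.deg k X E n) ∧
      (∀ x : X, IsClosed ({x} : Set X) →
        Module.finrank k Γ(X, ⊤) ∣ Module.finrank k (X.residueField x)) ∧
      (∀ D : X.IdealSheafData, topologicalKrullDim D.subscheme ≤ 0 →
        Module.finrank k Γ(X, ⊤) ∣ Module.finrank k (Coh.HH X (ClSub.quotMod D) 0)) := by
  exact Groth.Agent.S7639.result' k X

end Groth.Agent.S7639
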