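import Groth.Statements.S7468
import Mathlib
-- import your own Groth.Agent.* helpers here

set_option autoImplicit false
universe w u
open HTop

namespace Groth.Agent.S7468

open CategoryTheory CategoryTheory.Limits AlgebraicGeometry IsLocalRing

/-- Valuative lifting (after extension of valuation rings) along a universally closed surjective
morphism. -/
theorem exists_lift_of_universallyClosed_surjective {U T : Scheme.{u}} (f : U ⟶ T)
    [UniversallyClosed f] [Surjective f] (V : CommRingCat.{u}) [IsDomain V] [ValuationRing V]
    (g : Spec V ⟶ T) :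
    ∃ (W : CommRingCat.{u}) (_ : IsDomain W) (_ : ValuationRing W) (φ : V ⟶ W),
      IsExtVal V W φ ∧ ∃ g' : Spec W ⟶ U, g' ≫ f = Spec.map φ ≫ g := by
  let p : pullback f g ⟶ Spec V := pullback.snd f g
  have hp : UniversallyClosed p := MorphismProperty.pullback_snd _ _ inferInstance
  have hps : Surjective p := MorphismProperty.pullback_snd _ _ inferInstance
  let η : Spec V := ⟨⊥, Ideal.isPrime_bot⟩
  obtain ⟨y₀, hy₀⟩ := hps.surj η
  obtain ⟨ψ, hψ⟩ := Spec.map_surjective ((pullback f g).fromSpecResidueField y₀ ≫ p)
  have hψinj : Function.Injective ψ.hom := by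
    rw [RingHom.injective_iff_ker_eq_bot]
    have h1 : Spec.map ψ (closedPoint ((pullback f g).residueField y₀)) = η := by
      rw [hψ, Scheme.Hom.comp_apply, Scheme.fromSpecResidueField_apply, hy₀]
    have h2 := congrArg PrimeSpectrum.asIdeal h1
    have h3 : (closedPoint ((pullback f g).residueField y₀)).asIdeal = ⊥ :=
      IsLocalRing.maximalIdeal_eq_bot
    change Ideal.comap ψ.hom (closedPoint ((pullback f g).residueField y₀)).asIdeal = ⊥ at h2
    rw [h3] at h2
    exact h2
  obtain ⟨A, hA, hA_local⟩ := IsLocalRing.exists_factor_valuationRing ψ.hom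
  let φ : V ⟶ .of A := CommRingCat.ofHom (ψ.hom.codRestrict _ hA)
  have hex : ValuativeCriterion.Existence p := by
    have := UniversallyClosed.eq_valuativeCriterion ▸ hp
    exact this.1
  have sq : CommSq ((pullback f g).fromSpecResidueField y₀)
      (Spec.map (CommRingCat.ofHom (algebraMap A ((pullback f g).residueField y₀)))) p
      (Spec.map φ) := ⟨by rw [← hψ, ← Spec.map_comp]; rfl⟩
  let S : ValuativeCommSq p :=
    { R := A
      K := (pullback f g).residueField y₀
      commSq := sq
      .. }
  obtain ⟨l, hl₁, hl₂⟩ := (hex S).exists_lift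
  change l ≫ p = Spec.map φ at hl₂
  refine ⟨.of A, inferInstance, inferInstance, φ, ⟨?_, hA_local⟩, l ≫ pullback.fst f g, ?_⟩
  · intro a b hab
    apply hψinj
    have := congrArg (algebraMap A ((pullback f g).residueField y₀)) hab
    exact this
  · rw [Category.assoc, pullback.condition, ← Category.assoc, hl₂]

/-- If T is affine and a finite family is obtained by restricting one proper surjective morphism U -> T
to the pieces of a finite affine open cover of U, then the family is a standard V covering. -/
theorem result {T : Scheme.{u}} (E : PreZeroHypercover.{w} T) (hE : HTop.IsStandardPh E) : HTop.IsStandardV E := by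
  obtain ⟨hT, hfin, haff, U, f, ι, hprop, hsurj, hopen, hcomm, hcov⟩ := hE
  refine ⟨hT, hfin, haff, ?_⟩
  intro V _ _ g
  obtain ⟨W, hW1, hW2, φ, hext, g', hg'⟩ := exists_lift_of_universallyClosed_surjective f V g
  obtain ⟨j, hj⟩ := hcov (g' (closedPoint W))
  have := hopen j
  have hrange : Set.range g' ⊆ Set.range (ι j) := by
    rintro _ ⟨q, rfl⟩
    have hsp : q ⤳ closedPoint W := specializes_closedPoint q
    exact (hsp.map g'.continuous).mem_open (ι j).isOpenEmbedding.isOpen_range hj
  refine ⟨W, hW1, hW2, φ, hext, j, IsOpenImmersion.lift (ι j) g' hrange, ?_⟩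
  rw [← hcomm j, ← Category.assoc, IsOpenImmersion.lift_fac, hg']

end Groth.Agent.S7468
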