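import Groth.Statements.S4442
import Mathlib
import Groth.Agent.Lib.Helper3.FTField

set_option autoImplicit false
universe u
open CategoryTheory CategoryTheory.Limits AlgebraicGeometry
attribute [local instance] Curv2.resAlgebra
open EGA2

namespace Groth.Agent.S4442
open Groth.Agent.Lib.helper3.FTField Groth.Agent.Lib.helper3.DimIneq

/-- (a) ⇔ (b): let X be a scheme of finite type over a field k. The residue fields of the generic points
of the irreducible components of X all have transcendence degree one over k if and only if the local
ring of X at every closed point has dimension one. (The published statement has a third equivalent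
condition: the irreducible closed subsets of X other than the irreducible components are exactly the
closed points of X. This row states only the equivalence of the first two.) -/
theorem result (k : Type u) [Field k] (X : Scheme.{u})
    [X.Over (Spec (CommRingCat.of k))] [LocallyOfFiniteType (X ↘ (Spec (CommRingCat.of k)))]
    [QuasiCompact (X ↘ (Spec (CommRingCat.of k)))] :
    (∀ x : X, closure ({x} : Set X) ∈ irreducibleComponents (X : Type u) → Algebra.trdeg k (X.residueField x) = 1) ↔
      ∀ x : X, IsClosed ({x} : Set X) → ringKrullDim (X.presheaf.stalk x) = 1 := by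
  constructor
  · intro H x hx
    obtain ⟨U, hU, hxU, -⟩ := exists_isAffineOpen_mem_and_subset (x := x) (U := ⊤) trivial
    haveI : IsNoetherianRing Γ(X, U) := by
      letI := (sec k X U).toAlgebra
      haveI : Algebra.FiniteType k Γ(X, U) := sec_finiteType k X hU
      exact Algebra.FiniteType.isNoetherianRing k Γ(X, U)
    obtain ⟨q0, hq0min, hq0le, hht⟩ :=
      exists_minimalPrimes_height_map_eq (hU.primeIdealOf ⟨x, hxU⟩).asIdeal
    haveI hq0p : q0.IsPrime := hq0min.1.1
    obtain ⟨ξ, hξU, hξq⟩ := exists_point_of_prime hU q0
    subst hξq
    have hcomp := closure_mem_irreducibleComponents hU ξ hξU hq0min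
    have h1 := H ξ hcomp
    have h0 := trdeg_residueField_eq_zero_of_isClosed k X x hx
    have key := height_map_add_trdeg_residueField k X hU ξ x hξU hxU hq0le
    rw [h0, h1, add_zero, hht] at key
    rw [ringKrullDim_stalk_eq_height hU x hxU]
    have : (hU.primeIdealOf ⟨x, hxU⟩).asIdeal.height = 1 := by
      have h2 : ((1 : ℕ∞) : Cardinal.{u}) = 1 := by simp
      rw [← h2, Cardinal.ofENat_inj] at key
      exact key
    rw [this]
    rfl
  · intro H ξ hξ
    haveI : CompactSpace X :=
      QuasiCompact.compactSpace_of_compactSpace (X ↘ Spec (CommRingCat.of k))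
    obtain ⟨x, hxmem, hxcl⟩ := (isClosed_closure (s := ({ξ} : Set X))).exists_closed_singleton
      ⟨ξ, subset_closure rfl⟩
    have hsp : ξ ⤳ x := specializes_iff_mem_closure.mpr hxmem
    obtain ⟨U, hU, hxU, -⟩ := exists_isAffineOpen_mem_and_subset (x := x) (U := ⊤) trivial
    have hξU : ξ ∈ U := hsp.mem_open U.isOpen hxU
    have hle := (specializes_iff_primeIdealOf_le hU ξ x hξU hxU).mp hsp
    have hmin := mem_minimalPrimes_of_closure_mem_irreducibleComponents X hU ξ hξU hξ
    have hdim := H x hxcl
    rw [ringKrullDim_stalk_eq_height hU x hxU] at hdim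
    have hdim' : (hU.primeIdealOf ⟨x, hxU⟩).asIdeal.height = 1 := by
      have : ((1 : ℕ∞) : WithBot ℕ∞) = 1 := rfl
      rw [← this] at hdim
      exact WithBot.coe_injective hdim
    have h0 := trdeg_residueField_eq_zero_of_isClosed k X x hxcl
    have key := height_map_add_trdeg_residueField k X hU ξ x hξU hxU hle
    rw [h0, add_zero] at key
    have hne : (hU.primeIdealOf ⟨ξ, hξU⟩).asIdeal ≠ (hU.primeIdealOf ⟨x, hxU⟩).asIdeal := by
      intro heq
      rw [heq] at hmin
      have := Ideal.height_eq_zero_iff.mpr hmin
      rw [hdim'] at this
      exact one_ne_zero this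
    have h1 := one_le_height_map _ _ (lt_of_le_of_ne hle hne)
    have h2 := height_map_le _ _ hle
    rw [hdim'] at h2
    rw [← key, le_antisymm h2 h1]
    simp

end Groth.Agent.S4442
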