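import Groth.Statements.S9674
import Mathlib
import Groth.Agent.Lib.Helper13.Nag3
-- import your own Groth.Agent.* helpers here

set_option autoImplicit false
universe u
open CategoryTheory CategoryTheory.Limits AlgebraicGeometry
open Mor

namespace Groth.Agent.S9674

open Groth.Agent.Lib.helper13.Nag


/-- Let f : X ⟶ S be quasi-compact and quasi-separated. Assume every affine open of S has Nagata
coordinate ring, X is reduced, the irreducible components of X are locally finite (equivalently
every quasi-compact open of X has finitely many), and at each point x that is generic in a component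
of X, the residue field of x is essentially of finite type over the residue field of f x. Then the
normalization of S in X is finite over S. -/
theorem result {X S : Scheme.{u}} (f : X ⟶ S)
    [QuasiCompact f] [QuasiSeparated f] [IsReduced X]
    (hS : ∀ U : S.affineOpens, CAlg.IsNagata Γ(S, U))
    (hfin : LocallyFinite (fun Z : ↥(irreducibleComponents ↥X) => (Z : Set ↥X)))
    (hres : ∀ x : X, closure {x} ∈ irreducibleComponents ↥X → (f.residueFieldMap x).hom.EssFiniteType) :
    IsFinite f.fromNormalization := by
  classical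
  refine isFinite_fromNormalization_of_forall_finite f (fun U hU => ?_)
  obtain ⟨hnoeth, hN2⟩ := hS ⟨U, hU⟩
  haveI : IsNoetherianRing Γ(S, U) := hnoeth
  -- generic points of irreducible components
  have hgp : ∀ Z : ↥(irreducibleComponents ↥X), ∃ x : X, IsGenericPoint x (Z : Set X) := fun Z =>
    QuasiSober.sober Z.2.1 (isClosed_of_mem_irreducibleComponents _ Z.2)
  choose gp hgp using hgp
  have hW : IsCompact ((f ⁻¹ᵁ U : X.Opens) : Set X) := QuasiCompact.isCompact_preimage (f := f) _ U.2 hU.isCompact
  have hfinset : {Z : ↥(irreducibleComponents ↥X) |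
      ((Z : Set X) ∩ ((f ⁻¹ᵁ U : X.Opens) : Set X)).Nonempty}.Finite :=
    hfin.finite_nonempty_inter_compact hW
  let T : Set X := gp '' {Z : ↥(irreducibleComponents ↥X) |
      ((Z : Set X) ∩ ((f ⁻¹ᵁ U : X.Opens) : Set X)).Nonempty}
  have hTW : T ⊆ f ⁻¹ᵁ U := by
    rintro _ ⟨Z, ⟨w, hwZ, hwW⟩, rfl⟩
    have h1 : gp Z ⤳ w := by
      rw [specializes_iff_mem_closure, (hgp Z).def]
      exact hwZ
    exact h1.mem_open (f ⁻¹ᵁ U).2 hwW
  have hgen : ∀ w ∈ f ⁻¹ᵁ U, ∃ t ∈ T, t ⤳ w := by
    intro w hw
    let Z : ↥(irreducibleComponents ↥X) := ⟨irreducibleComponent w, irreducibleComponent_mem_irreducibleComponents w⟩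
    refine ⟨gp Z, ⟨Z, ⟨w, mem_irreducibleComponent, hw⟩, rfl⟩, ?_⟩
    rw [specializes_iff_mem_closure, (hgp Z).def]
    exact mem_irreducibleComponent
  refine finite_integralClosure_sections f U (fun p _ => hN2 p) T (hfinset.image gp) hTW hgen ?_
  rintro t ht
  obtain ⟨Z, -, rfl⟩ := ht
  refine essFiniteType_app_evaluation f U hU (gp Z) _ (hres (gp Z) ?_)
  rw [(hgp Z).def]
  exact Z.2

end Groth.Agent.S9674
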