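import Groth.Statements.S2345
import Mathlib
import Groth.Agent.Lib.Helper16.NormCurve6
import Groth.Agent.Lib.Helper16.NormCurve7

set_option autoImplicit false
universe u
open CategoryTheory CategoryTheory.Limits AlgebraicGeometry
attribute [local instance] Curv2.stalkAlgebra
open EGA2

namespace Groth.Agent.S2345

/-- Let K be a finitely generated field extension of k of transcendence degree one. Then there is an
integral normal algebraic curve X, proper over k, whose function field is isomorphic to K compatibly
with the maps from k. -/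
theorem result (k : Type u) [Field k] (K : Type u) [Field K] [Algebra k K]
    (hfg : (⊤ : IntermediateField k K).FG) (htr : Algebra.trdeg k K = 1) :
    ∃ (X : Scheme.{u}) (_ : X.Over (Spec (CommRingCat.of k))) (_ : IsIntegral X), IsProper (X ↘ (Spec (CommRingCat.of k))) ∧ Pi1.IsNormalScheme X ∧
      (∀ x : X, IsClosed ({x} : Set X) → ringKrullDim (X.presheaf.stalk x) = 1) ∧
      ∃ e : X.presheaf.stalk (genericPoint X) ≃+* K, ∀ c : k, e (algebraMap k (X.presheaf.stalk (genericPoint X)) c) = algebraMap k K c := by
  obtain ⟨t, -, halg⟩ := Groth.Agent.Lib.helper16.NormCurve.exists_transcendental_isAlgebraic k K htr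
  letI ov : (Groth.Agent.Lib.helper16.NormCurve.Xn k K t).Over (Spec (CommRingCat.of k)) :=
    ⟨Groth.Agent.Lib.helper16.NormCurve.XnToSpec k K t⟩
  have hprop : IsProper (Groth.Agent.Lib.helper16.NormCurve.XnToSpec k K t) :=
    Groth.Agent.Lib.helper16.NormCurve.isProper_XnToSpec k K t hfg
  refine ⟨Groth.Agent.Lib.helper16.NormCurve.Xn k K t, ov, inferInstance, hprop,
    Groth.Agent.Lib.helper16.NormCurve.isNormalScheme_Xn k K t, ?_,
    Groth.Agent.Lib.helper16.NormCurve.funE k K t halg, ?_⟩
  · intro x hx
    have h1 : Algebra.trdeg k K = ((1 : ℕ) : Cardinal.{u}) := by rw [htr]; simp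
    exact Groth.Agent.Lib.helper16.NormCurve.ringKrullDim_stalk_of_isClosed k
      (Groth.Agent.Lib.helper16.NormCurve.XnToSpec k K t) K
      (Groth.Agent.Lib.helper16.NormCurve.funE k K t halg)
      (Groth.Agent.Lib.helper16.NormCurve.funE_algebraMap k K t halg) 1 h1 x hx
  · intro c
    exact Groth.Agent.Lib.helper16.NormCurve.funE_algebraMap k K t halg c

end Groth.Agent.S2345
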