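import Groth.Statements.S2347
-- import your own Groth.Agent.* helpers here
import Groth.Agent.Lib.Helper9.IntegralSection

set_option autoImplicit false
universe u
open CategoryTheory CategoryTheory.Limits AlgebraicGeometry
open EGA2

namespace Groth.Agent.S2347

open Groth.Agent.Lib.helper9

/-- Let X be an integral normal scheme, X' an integral scheme and g : X' → X an integral morphism. If g
has a rational section (a morphism s from a dense open U of X to X' with g ∘ s the inclusion of U),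
then g is an isomorphism. -/
theorem result {X X' : Scheme.{u}} [IsIntegral X] [IsIntegral X'] (hX : Pi1.IsNormalScheme X)
    (g : X' ⟶ X) [IsIntegralHom g] (U : X.Opens) (hU : Dense (U : Set X)) (s : (U : Scheme.{u}) ⟶ X') (hs : s ≫ g = U.ι) :
    IsIso g := by
  classical
  refine isIso_of_forall_bijective_app g fun V hV => ?_
  by_cases hVne : Nonempty V
  swap
  · exact bijective_app_of_isEmpty g V hVne
  have hξV : genericPoint X ∈ V :=
    ((genericPoint_spec X).mem_open_set_iff V.isOpen).mpr (by simpa using hVne)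
  have hUne : Nonempty U := by
    obtain ⟨x, hx⟩ := hU.nonempty
    exact ⟨⟨x, hx⟩⟩
  have hξU : genericPoint X ∈ U :=
    ((genericPoint_spec X).mem_open_set_iff U.isOpen).mpr (by simpa using hUne)
  let ξ' : ↥U := ⟨genericPoint X, hξU⟩
  have hgξ : g (s ξ') = genericPoint X := by
    have h1 : (s ≫ g) ξ' = U.ι ξ' := by rw [hs]
    rw [Scheme.Hom.comp_apply] at h1
    exact h1
  have hsξ : s ξ' ∈ g ⁻¹ᵁ V := by
    show g (s ξ') ∈ V
    rw [hgξ]; exact hξV
  have hne' : Nonempty (g ⁻¹ᵁ V) := ⟨⟨s ξ', hsξ⟩⟩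
  have hic : IsIntegrallyClosed Γ(X, V) := by
    apply IsIntegrallyClosed.of_localization_maximal
    intro p _ hp
    have hy : hV.fromSpec ⟨p, hp.isPrime⟩ ∈ V := by
      have := hV.range_fromSpec
      rw [← SetLike.mem_coe, ← this]
      exact ⟨_, rfl⟩
    let _ := TopCat.Presheaf.algebra_section_stalk X.presheaf ⟨hV.fromSpec ⟨p, hp.isPrime⟩, hy⟩
    have hloc : IsLocalization.AtPrime (X.presheaf.stalk (hV.fromSpec ⟨p, hp.isPrime⟩)) p :=
      hV.isLocalization_stalk' ⟨p, hp.isPrime⟩ hy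
    have hics : IsIntegrallyClosed (X.presheaf.stalk (hV.fromSpec ⟨p, hp.isPrime⟩)) := (hX _).2
    exact IsIntegrallyClosed.of_equiv
      (IsLocalization.algEquiv p.primeCompl (X.presheaf.stalk (hV.fromSpec ⟨p, hp.isPrime⟩))
        (Localization.AtPrime p)).toRingEquiv
  have hfr := functionField_isFractionRing_of_isAffineOpen X V hV
  have hmem : genericPoint X ∈ U.ι ''ᵁ (s ⁻¹ᵁ g ⁻¹ᵁ V) := ⟨ξ', hsξ, rfl⟩
  let σ : Γ(X', g ⁻¹ᵁ V) →+* X.functionField :=
    (X.presheaf.germ (U.ι ''ᵁ (s ⁻¹ᵁ g ⁻¹ᵁ V)) (genericPoint X) hmem).hom.comp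
      (s.app (g ⁻¹ᵁ V)).hom
  refine bijective_of_isIntegral_of_retraction (K := X.functionField) (g.app V).hom
    (IsIntegralHom.isIntegral_app g V hV) σ ?_
  -- compatibility
  have aux : ∀ (f : (U : Scheme.{u}) ⟶ X) (hf : f = U.ι) (h : U.ι ''ᵁ (f ⁻¹ᵁ V) ≤ V),
      f.app V = X.presheaf.map (homOfLE h).op := by
    rintro f rfl h
    rfl
  have hle : U.ι ''ᵁ ((s ≫ g) ⁻¹ᵁ V) ≤ V := by
    rintro _ ⟨u, hu, rfl⟩
    have : (s ≫ g) u ∈ V := hu
    rwa [hs] at this
  have h2 : g.app V ≫ s.app (g ⁻¹ᵁ V) = X.presheaf.map (homOfLE hle).op := aux (s ≫ g) hs hle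
  ext a
  show (X.presheaf.germ (U.ι ''ᵁ (s ⁻¹ᵁ g ⁻¹ᵁ V)) (genericPoint X) hmem).hom
    ((g.app V ≫ s.app (g ⁻¹ᵁ V)).hom a) = (X.germToFunctionField V).hom a
  rw [h2]
  exact TopCat.Presheaf.germ_res_apply X.presheaf (homOfLE hle) _ hmem a

end Groth.Agent.S2347
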