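import Groth.Statements.S4451
import Mathlib
-- import your own Groth.Agent.* helpers here

set_option autoImplicit false
universe u
open CategoryTheory CategoryTheory.Limits AlgebraicGeometry
attribute [local instance] Curv2.stalkAlgebra
open EGA2

namespace Groth.Agent.S4451

/-- A Noetherian local integrally closed domain of Krull dimension at most one is a valuation
ring (same argument as in helper9's `ZMTCodimTwo`). -/
theorem valuationRing_of_dim_le_one (R : Type*) [CommRing R]
    [IsDomain R] [IsLocalRing R] [IsNoetherianRing R] [IsIntegrallyClosed R]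
    (h : ringKrullDim R ≤ 1) (hF : ¬ IsField R) : ValuationRing R := by
  have hd : Ring.KrullDimLE 1 R := Ring.krullDimLE_iff.mpr h
  have h3 : IsIntegrallyClosed R ∧ ∃! P : Ideal R, P ≠ ⊥ ∧ P.IsPrime := by
    refine ⟨inferInstance, IsLocalRing.maximalIdeal R, ⟨?_, inferInstance⟩, ?_⟩
    · exact IsLocalRing.isField_iff_maximalIdeal_eq.not.mp hF
    · rintro P ⟨hP0, hP⟩
      exact IsLocalRing.eq_maximalIdeal (hP.isMaximal_of_ne_bot hP0)
  exact ((IsDiscreteValuationRing.TFAE R hF).out 3 1).mp h3

/-- A local ring dominating a valuation ring inside its fraction field is equal to it. -/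
theorem surjective_of_valuationRing_of_isLocalHom {R A K : Type*} [CommRing R] [IsDomain R]
    [ValuationRing R] [CommRing A] [Field K] [Algebra R K] [IsFractionRing R K]
    (ψ : R →+* A) [IsLocalHom ψ] (ι : A →+* K) (hι : Function.Injective ι)
    (hcomp : ι.comp ψ = algebraMap R K) : Function.Surjective ψ := by
  have hc : ∀ r, ι (ψ r) = algebraMap R K r := fun r => by rw [← hcomp]; rfl
  intro a
  rcases ValuationRing.isInteger_or_isInteger R (ι a) with ⟨r, hr⟩ | ⟨r, hr⟩
  · exact ⟨r, hι (by rw [hc, hr])⟩
  · by_cases ha : a = 0
    · exact ⟨0, by rw [ha, map_zero]⟩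
    have hιa : ι a ≠ 0 := fun h => ha (hι (by rw [h, map_zero]))
    have h1 : ι (ψ r * a) = 1 := by
      rw [map_mul, hc, hr, inv_mul_cancel₀ hιa]
    have h2 : ψ r * a = 1 := hι (by rw [h1, map_one])
    have hu : IsUnit (ψ r) := IsUnit.of_mul_eq_one _ h2
    have hur : IsUnit r := (isUnit_map_iff ψ r).mp hu
    obtain ⟨s, hs⟩ := hur
    refine ⟨((s⁻¹ : Rˣ) : R), hι ?_⟩
    have h3 : ι (ψ r) * ι (ψ ((s⁻¹ : Rˣ) : R)) = 1 := by
      rw [← map_mul, ← map_mul, ← hs, Units.mul_inv, map_one, map_one]
    have h4 : ι (ψ r) * ι a = 1 := by rw [← map_mul, h1]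
    have h5 : ι (ψ r) ≠ 0 := fun h => by rw [h, zero_mul] at h4; exact zero_ne_one h4
    exact mul_left_cancel₀ h5 (h3.trans h4.symm)

/-- Every morphism of affine schemes is `Spec.map` of its global sections map. -/
lemma eq_SpecMap {R S : CommRingCat.{u}} (g : Spec S ⟶ Spec R) :
    g = Spec.map ((Scheme.ΓSpecIso R).inv ≫ g.appTop ≫ (Scheme.ΓSpecIso S).hom) := by
  obtain ⟨φ, rfl⟩ := Spec.map_surjective g
  rw [Scheme.ΓSpecIso_naturality, Iso.inv_hom_id_assoc]

/-- The local rings of an integral scheme at non-generic points of coheight one. -/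
lemma coheight_eq_one {X : Scheme.{u}} [IsIntegral X] [CompactSpace X]
    (hX : ∀ x : X, IsClosed ({x} : Set X) → ringKrullDim (X.presheaf.stalk x) = 1)
    (x : X) (hx : x ≠ genericPoint X) : ringKrullDim (X.presheaf.stalk x) = 1 := by
  obtain ⟨y, hy, hyc⟩ := IsClosed.exists_closed_singleton (isClosed_closure (s := {x}))
    ⟨x, subset_closure rfl⟩
  have hxy : x ⤳ y := specializes_iff_mem_closure.mpr hy
  have h1 := hX y hyc
  by_cases hxy' : x = y
  · rw [hxy']; exact h1
  exfalso
  rw [ringKrullDim_stalk_eq_coheight] at h1
  have hlt1 : y < x := lt_of_le_not_ge (show y ≤ x from hxy)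
    (fun h : y ⤳ x => hxy' (hxy.antisymm h).eq)
  have hlt2 : x < genericPoint X :=
    lt_of_le_not_ge (show x ≤ genericPoint X from genericPoint_specializes x)
      (fun h : x ⤳ genericPoint X => hx (h.antisymm (genericPoint_specializes x)).eq)
  have h2 := Order.coheight_add_one_le hlt1
  have h3 := Order.coheight_add_one_le hlt2
  have h4 : Order.coheight y = 1 := by exact_mod_cast h1
  have h5 : (1 : ℕ∞) + 1 ≤ Order.coheight x + 1 := by
    refine add_le_add ?_ le_rfl
    exact le_trans (le_add_self) h3
  rw [h4] at h2
  have : (1 : ℕ∞) + 1 ≤ 1 := h5.trans h2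
  exact absurd this (by decide)

/-- The structure morphism of a `k`-scheme restricted to the spectrum of a local ring. -/
lemma fromSpecStalk_over (k : Type u) [Field k] (X : Scheme.{u})
    [X.Over (Spec (CommRingCat.of k))] (x : X) :
    X.fromSpecStalk x ≫ (X ↘ Spec (CommRingCat.of k)) =
      Spec.map (CommRingCat.ofHom (Curv2.stalkMap k X x)) := by
  rw [eq_SpecMap (X.fromSpecStalk x ≫ (X ↘ Spec (CommRingCat.of k)))]
  congr 1
  rw [Scheme.Hom.comp_appTop, Scheme.fromSpecStalk_appTop]
  ext c
  simp [Curv2.stalkMap, Coh.toGlobal]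


/-- Let X be a normal, complete, irreducible algebraic curve over a field k with field of rational
functions K. The set of local rings of X, as subrings of K, consists of K itself (at the generic
point) and of the valuation rings of K containing k (and distinct from K): every non-generic point
has such a valuation ring as local ring, and every such valuation ring is the local ring of exactly
one point. -/
theorem result (k : Type u) [Field k] (X : Scheme.{u})
    [X.Over (Spec (CommRingCat.of k))] [IsProper (X ↘ (Spec (CommRingCat.of k)))] [IsIntegral X]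
    (hX : ∀ x : X, IsClosed ({x} : Set X) → ringKrullDim (X.presheaf.stalk x) = 1) (hnorm : Pi1.IsNormalScheme X) :
    (∀ x : X, x ≠ genericPoint X → ∃ R : ValuationSubring X.functionField, R ≠ ⊤ ∧
        (R : Set X.functionField) = Set.range (algebraMap (X.presheaf.stalk x) X.functionField)) ∧
      ∀ R : ValuationSubring X.functionField, R ≠ ⊤ → (∀ c : k, algebraMap k X.functionField c ∈ R) →
        ∃! x : X, (R : Set X.functionField) = Set.range (algebraMap (X.presheaf.stalk x) X.functionField) := by
  classical
  set f := X ↘ Spec (CommRingCat.of k) with hf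
  haveI : IsLocallyNoetherian X := LocallyOfFiniteType.isLocallyNoetherian f
  haveI : CompactSpace X := QuasiCompact.compactSpace_of_compactSpace f
  have hdim := coheight_eq_one hX
  have hnf : ∀ x : X, x ≠ genericPoint X → ¬ IsField (X.presheaf.stalk x) := by
    intro x hx hF
    have h1 := hdim x hx
    rw [ringKrullDim_eq_zero_of_isField hF] at h1
    exact zero_ne_one h1
  have hval : ∀ x : X, x ≠ genericPoint X → ValuationRing (X.presheaf.stalk x) := by
    intro x hx
    haveI := (hnorm x).2
    exact valuationRing_of_dim_le_one _ (hdim x hx).le (hnf x hx)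
  have part1 : ∀ x : X, x ≠ genericPoint X → ∃ R : ValuationSubring X.functionField, R ≠ ⊤ ∧
        (R : Set X.functionField) =
          Set.range (algebraMap (X.presheaf.stalk x) X.functionField) := by
    intro x hx
    haveI := hval x hx
    have hmem : ∀ a : X.functionField,
        a ∈ (ValuationRing.valuation (X.presheaf.stalk x) X.functionField).valuationSubring ↔
          a ∈ Set.range (algebraMap (X.presheaf.stalk x) X.functionField) :=
      fun a => ValuationRing.mem_integer_iff _ _ a
    refine ⟨(ValuationRing.valuation (X.presheaf.stalk x) X.functionField).valuationSubring,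
      ?_, Set.ext hmem⟩
    intro htop
    apply hnf x hx
    rw [← IsFractionRing.surjective_iff_isField (K := X.functionField)]
    intro a
    exact (hmem a).mp (htop ▸ ValuationSubring.mem_top a)
  refine ⟨part1, ?_⟩
  intro R hRtop hk
  -- the valuative square
  have hkR : ∀ c : k, Curv2.stalkMap k X (genericPoint X) c ∈ R.toSubring := hk
  let φ : k →+* R := (Curv2.stalkMap k X (genericPoint X)).codRestrict R.toSubring hkR
  have hφ : (algebraMap R X.functionField).comp φ = Curv2.stalkMap k X (genericPoint X) := rfl
  have hsq : CommSq (X.fromSpecStalk (genericPoint X) :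
        Spec (CommRingCat.of X.functionField) ⟶ X)
      (Spec.map (CommRingCat.ofHom (algebraMap R X.functionField))) f
      (Spec.map (CommRingCat.ofHom φ)) := by
    refine ⟨?_⟩
    refine (fromSpecStalk_over k X (genericPoint X)).trans ?_
    exact Spec.map_comp (CommRingCat.ofHom φ)
      (CommRingCat.ofHom (algebraMap R X.functionField))
  let S : ValuativeCommSq f :=
    { R := R
      K := X.functionField
      i₁ := X.fromSpecStalk (genericPoint X)
      i₂ := Spec.map (CommRingCat.ofHom φ)
      commSq := hsq }
  have hex : ValuativeCriterion.Existence f := by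
    have h1 : UniversallyClosed f := inferInstance
    rw [UniversallyClosed.eq_valuativeCriterion] at h1
    exact h1.1
  obtain ⟨l, hl1, hl2⟩ := (hex S).exists_lift
  change Spec.map (CommRingCat.ofHom (algebraMap R X.functionField)) ≫ l =
    X.fromSpecStalk (genericPoint X) at hl1
  obtain ⟨x, hx⟩ : ∃ x : X, x = l (IsLocalRing.closedPoint R) := ⟨_, rfl⟩
  -- the local homomorphism `O_{X,x} → R`
  have key : ∀ (x' : X) (ψ : X.presheaf.stalk x' ⟶ CommRingCat.of R) [IsLocalHom ψ.hom],
      Spec.map (CommRingCat.ofHom (algebraMap R X.functionField)) ≫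
        Spec.map ψ ≫ X.fromSpecStalk x' = X.fromSpecStalk (genericPoint X) →
      x' ≠ genericPoint X ∧ (R : Set X.functionField) =
        Set.range (algebraMap (X.presheaf.stalk x') X.functionField) := by
    intro x' ψ _ h
    have hψ : ψ ≫ CommRingCat.ofHom (algebraMap R X.functionField) =
        X.presheaf.stalkSpecializes (genericPoint_specializes x') := by
      apply Spec.map_injective
      rw [← cancel_mono (X.fromSpecStalk x'), Spec.map_comp, Category.assoc, h,
        Scheme.SpecMap_stalkSpecializes_fromSpecStalk]
    have hψ' : ∀ a : X.presheaf.stalk x',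
        ((ψ.hom a : R) : X.functionField) = algebraMap (X.presheaf.stalk x') X.functionField a := by
      intro a
      exact congrArg (fun g => g.hom a) hψ
    have hne : x' ≠ genericPoint X := by
      intro hgen
      apply hRtop
      have hF : IsField (X.presheaf.stalk x') := by
        rw [hgen]; exact Field.toIsField X.functionField
      rw [← IsFractionRing.surjective_iff_isField (K := X.functionField)] at hF
      rw [eq_top_iff]
      intro a _
      obtain ⟨b, rfl⟩ := hF a
      rw [← hψ']
      exact (ψ.hom b).2
    refine ⟨hne, ?_⟩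
    haveI := hval x' hne
    have hsurj : Function.Surjective ψ.hom :=
      surjective_of_valuationRing_of_isLocalHom (K := X.functionField) ψ.hom R.subtype
        Subtype.val_injective (RingHom.ext hψ')
    ext a
    constructor
    · intro ha
      obtain ⟨b, hb⟩ := hsurj ⟨a, ha⟩
      exact ⟨b, by rw [← hψ', hb]⟩
    · rintro ⟨b, rfl⟩
      rw [← hψ']
      exact (ψ.hom b).2
  have hxl := key (l (IsLocalRing.closedPoint R)) (Scheme.stalkClosedPointTo l) (by
    rw [Scheme.Spec_stalkClosedPointTo_fromSpecStalk]; exact hl1)
  refine ⟨l (IsLocalRing.closedPoint R), hxl.2, ?_⟩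
  intro x' hx'
  -- a second lift through `x'`
  have hx'R : ∀ a : X.presheaf.stalk x',
      algebraMap (X.presheaf.stalk x') X.functionField a ∈ R.toSubring := by
    intro a
    have : algebraMap (X.presheaf.stalk x') X.functionField a ∈ (R : Set X.functionField) := by
      rw [hx']; exact ⟨a, rfl⟩
    exact this
  let ψ0 : X.presheaf.stalk x' →+* R :=
    (algebraMap (X.presheaf.stalk x') X.functionField).codRestrict R.toSubring hx'R
  have hψ0bij : Function.Bijective ψ0 := by
    constructor
    · intro a b hab
      apply IsFractionRing.injective (X.presheaf.stalk x') X.functionField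
      exact congrArg Subtype.val hab
    · rintro ⟨a, ha⟩
      have : a ∈ (R : Set X.functionField) := ha
      rw [hx'] at this
      obtain ⟨b, hb⟩ := this
      exact ⟨b, Subtype.ext hb⟩
  haveI : IsLocalHom ψ0 := by
    refine ⟨fun a ha => ?_⟩
    exact (isUnit_map_iff (RingEquiv.ofBijective ψ0 hψ0bij) a).mp ha
  let ψ' : X.presheaf.stalk x' ⟶ CommRingCat.of R := CommRingCat.ofHom ψ0
  haveI : IsLocalHom ψ'.hom := ‹IsLocalHom ψ0›
  have hψ'K : ψ' ≫ CommRingCat.ofHom (algebraMap R X.functionField) =
      X.presheaf.stalkSpecializes (genericPoint_specializes x') := rfl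
  let l' : Spec (CommRingCat.of R) ⟶ X := Spec.map ψ' ≫ X.fromSpecStalk x'
  have hl'1 : Spec.map (CommRingCat.ofHom (algebraMap R X.functionField)) ≫ l' =
      X.fromSpecStalk (genericPoint X) := by
    rw [← Category.assoc, ← Spec.map_comp, hψ'K, Scheme.SpecMap_stalkSpecializes_fromSpecStalk]
  have hl'x : l' (IsLocalRing.closedPoint R) = x' := by
    rw [Scheme.Hom.comp_apply, Spec_closedPoint, Scheme.fromSpecStalk_closedPoint]
  -- uniqueness by separatedness
  haveI : X.IsSeparated := by
    have h1 : terminal.from X = f ≫ terminal.from _ := terminal.hom_ext _ _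
    refine ⟨?_⟩
    rw [h1]
    infer_instance
  have hsq' : CommSq (X.fromSpecStalk (genericPoint X) :
        Spec (CommRingCat.of X.functionField) ⟶ X)
      (Spec.map (CommRingCat.ofHom (algebraMap R X.functionField))) (terminal.from X)
      (terminal.from _) := ⟨terminal.hom_ext _ _⟩
  let S' : ValuativeCommSq (terminal.from X) :=
    { R := R
      K := X.functionField
      i₁ := X.fromSpecStalk (genericPoint X)
      i₂ := terminal.from _
      commSq := hsq' }
  have hsub : Subsingleton S'.commSq.LiftStruct := IsSeparated.valuativeCriterion _ S'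
  have hll' : l' = l := by
    have := hsub.elim ⟨l', hl'1, terminal.hom_ext _ _⟩ ⟨l, hl1, terminal.hom_ext _ _⟩
    exact congrArg CommSq.LiftStruct.l this
  rw [← hl'x, hll']

end Groth.Agent.S4451
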