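import Groth.Statements.S4445
import Mathlib
import Groth.Agent.Lib.Helper13.RatExt1
import Groth.Agent.S4451
-- import your own Groth.Agent.* helpers here

set_option autoImplicit false
universe u
open CategoryTheory CategoryTheory.Limits AlgebraicGeometry
attribute [local instance] Curv2.stalkAlgebra
open EGA2

namespace Groth.Agent.S4445

open Groth.Agent.Lib.helper13.RatExt

/-- A Noetherian local integrally closed domain of Krull dimension at most one is a valuation
ring (same argument as in helper9's `ZMTCodimTwo`). -/
theorem valuationRing_of_normal (R : Type*) [CommRing R]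
    [IsDomain R] [IsLocalRing R] [IsNoetherianRing R] [IsIntegrallyClosed R]
    (h : ringKrullDim R ≤ 1) : ValuationRing R := by
  by_cases hF : IsField R
  · have hpre : PreValuationRing R := by
      refine ⟨fun a b => ?_⟩
      by_cases ha : a = 0
      · exact ⟨0, Or.inr (by rw [ha, mul_zero])⟩
      · obtain ⟨c, hc⟩ := hF.mul_inv_cancel ha
        exact ⟨c * b, Or.inl (by rw [← mul_assoc, hc, one_mul])⟩
    exact { toPreValuationRing := hpre }
  · exact Groth.Agent.S4451.valuationRing_of_dim_le_one R h hF


/-- Let X be a normal irreducible algebraic curve over a field k with field of rational functions K, and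
Y an integral complete (proper over k) algebraic curve with field of rational functions L. Dominant
k-morphisms X ⟶ Y correspond bijectively to k-embeddings L → K: for every k-algebra homomorphism φ :
L → K there is exactly one k-morphism u : X ⟶ Y mapping the generic point of X to the generic point
of Y and inducing φ on the stalks at the generic points. -/
theorem result (k : Type u) [Field k] (X Y : Scheme.{u})
    [X.Over (Spec (CommRingCat.of k))] [LocallyOfFiniteType (X ↘ (Spec (CommRingCat.of k)))]
    [QuasiCompact (X ↘ (Spec (CommRingCat.of k)))] [IsSeparated (X ↘ (Spec (CommRingCat.of k)))] [IsIntegral X]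
    (hX : ∀ x : X, IsClosed ({x} : Set X) → ringKrullDim (X.presheaf.stalk x) = 1) (hnorm : Pi1.IsNormalScheme X)
    [Y.Over (Spec (CommRingCat.of k))] [IsProper (Y ↘ (Spec (CommRingCat.of k)))] [IsIntegral Y]
    (hY : ∀ y : Y, IsClosed ({y} : Set Y) → ringKrullDim (Y.presheaf.stalk y) = 1)
    (φ : Y.functionField →ₐ[k] X.functionField) :
    ∃! u : X ⟶ Y, u ≫ (Y ↘ (Spec (CommRingCat.of k))) = X ↘ (Spec (CommRingCat.of k)) ∧
      ∃ hu : u.base (genericPoint X) = genericPoint Y,
        (Y.presheaf.stalkSpecializes (specializes_of_eq hu) ≫ u.stalkMap (genericPoint X)).hom = (φ : Y.functionField →+* X.functionField) := by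
  classical
  set sX := X ↘ Spec (CommRingCat.of k) with hsX
  set sY := Y ↘ Spec (CommRingCat.of k) with hsY
  haveI : IsLocallyNoetherian X := LocallyOfFiniteType.isLocallyNoetherian sX
  haveI : CompactSpace X := QuasiCompact.compactSpace_of_compactSpace sX
  -- all local rings of `X` are valuation rings
  have hdim : ∀ x : X, ringKrullDim (X.presheaf.stalk x) ≤ 1 := by
    intro x
    by_cases hx : x = genericPoint X
    · have hF : IsField (X.presheaf.stalk x) := by
        rw [hx]; exact Field.toIsField X.functionField
      rw [ringKrullDim_eq_zero_of_isField hF]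
      exact zero_le_one
    · exact (Groth.Agent.S4451.coheight_eq_one hX x hx).le
  have hval : ∀ x : X, ValuationRing (X.presheaf.stalk x) := by
    intro x
    haveI := (hnorm x).2
    exact valuationRing_of_normal _ (hdim x)
  -- the morphism `Spec K → Y`
  let φ' : Y.functionField ⟶ X.functionField := CommRingCat.ofHom (φ : Y.functionField →+* X.functionField)
  let φt : Spec X.functionField ⟶ Y := Spec.map φ' ≫ Y.fromSpecStalk (genericPoint Y)
  have hφt : φt ≫ sY = X.fromSpecStalk (genericPoint X) ≫ sX := by
    rw [Category.assoc, Groth.Agent.S4451.fromSpecStalk_over k Y (genericPoint Y),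
      Groth.Agent.S4451.fromSpecStalk_over k X (genericPoint X), ← Spec.map_comp]
    congr 1
    ext c
    exact φ.commutes c
  obtain ⟨V, hηV, g, hφg, hgs⟩ := spread_out_of_isGermInjective' sX sY φt hφt
  have hV : Dense (V : Set X) := V.2.dense ⟨_, hηV⟩
  -- extension data at all points
  have hpiece : ∀ x : X, ∃ Q : Piece sY sX V g, x ∈ Set.range Q.j := fun x =>
    exists_piece sY sX V hV g hgs x inferInstance (hval x)
  choose Qx hQx using hpiece
  let Q : Option X → Piece sY sX V g := fun i => i.elim (Piece.self sY sX V g hgs) Qx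
  have hU : ((⊤ : X.Opens) : Set X) = ⋃ i, Set.range (Q i).j := by
    refine (Set.eq_univ_of_forall fun x => ?_).symm
    exact Set.mem_iUnion.mpr ⟨some x, hQx x⟩
  obtain ⟨g', hg'p, hg'⟩ := exists_glue hV Q ⊤ hU
  have hg'V : X.homOfLE (le_top : V ≤ ⊤) ≫ g' = g := hg' none _ (X.homOfLE_ι _)
  -- the morphism
  let u : X ⟶ Y := X.topIso.inv ≫ g'
  have hVu : V.ι ≫ u = g := by
    rw [← hg'V, ← X.homOfLE_ι (le_top : V ≤ ⊤), Category.assoc]
    congr 1
    show (⊤ : X.Opens).ι ≫ X.topIso.inv ≫ g' = g'
    rw [← Category.assoc]
    have : (⊤ : X.Opens).ι ≫ X.topIso.inv = 𝟙 _ := X.topIso.hom_inv_id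
    rw [this, Category.id_comp]
  have hus : u ≫ sY = sX := by
    show (X.topIso.inv ≫ g') ≫ sY = sX
    rw [Category.assoc, hg'p, ← Category.assoc]
    have : X.topIso.inv ≫ (⊤ : X.Opens).ι = 𝟙 _ := X.topIso.inv_hom_id
    rw [this, Category.id_comp]
  have hηu : X.fromSpecStalk (genericPoint X) ≫ u = φt := by
    rw [← V.fromSpecStalkOfMem_ι (genericPoint X) hηV, Category.assoc, hVu, ← hφg]
  -- characterization of the condition at the generic point
  have key : ∀ u' : X ⟶ Y, X.fromSpecStalk (genericPoint X) ≫ u' = φt ↔
      ∃ hu : u'.base (genericPoint X) = genericPoint Y,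
        (Y.presheaf.stalkSpecializes (specializes_of_eq hu) ≫
          u'.stalkMap (genericPoint X)).hom = (φ : Y.functionField →+* X.functionField) := by
    intro u'
    constructor
    · intro h
      have hu : u'.base (genericPoint X) = genericPoint Y := by
        have h1 := congrArg (fun m => m.base (IsLocalRing.closedPoint X.functionField)) h
        simp only [Scheme.Hom.comp_base, TopCat.coe_comp, Function.comp_apply, φt] at h1
        rw [Scheme.fromSpecStalk_closedPoint] at h1
        rw [h1]
        have h2 : (Spec.map φ').base (IsLocalRing.closedPoint X.functionField) =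
            IsLocalRing.closedPoint Y.functionField :=
          Subsingleton.elim (α := PrimeSpectrum Y.functionField) _ _
        rw [h2, Scheme.fromSpecStalk_closedPoint]
      refine ⟨hu, ?_⟩
      have h3 : Y.presheaf.stalkSpecializes (specializes_of_eq hu) ≫
          u'.stalkMap (genericPoint X) = φ' := by
        apply Spec.map_injective
        rw [← cancel_mono (Y.fromSpecStalk (genericPoint Y)), Spec.map_comp, Category.assoc,
          Scheme.SpecMap_stalkSpecializes_fromSpecStalk, Scheme.SpecMap_stalkMap_fromSpecStalk, h]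
      exact congrArg CommRingCat.Hom.hom h3
    · rintro ⟨hu, hst⟩
      have h3 : Y.presheaf.stalkSpecializes (specializes_of_eq hu) ≫
          u'.stalkMap (genericPoint X) = φ' := CommRingCat.hom_ext hst
      show _ = Spec.map φ' ≫ Y.fromSpecStalk (genericPoint Y)
      rw [← h3, Spec.map_comp, Category.assoc, Scheme.SpecMap_stalkSpecializes_fromSpecStalk,
        Scheme.SpecMap_stalkMap_fromSpecStalk]
  refine ⟨u, ⟨hus, (key u).mp hηu⟩, ?_⟩
  rintro u' ⟨hu's, hu'⟩
  have h1 : X.fromSpecStalk (genericPoint X) ≫ u' = X.fromSpecStalk (genericPoint X) ≫ u :=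
    ((key u').mpr hu').trans hηu.symm
  obtain ⟨N, hN, hNeq⟩ := spread_out_unique_of_isGermInjective' _ _ h1
  haveI : IsDominant N.ι := by
    refine ⟨?_⟩
    rw [DenseRange, Scheme.Opens.range_ι]
    exact N.2.dense ⟨_, hN⟩
  exact ext_of_isDominant_of_isSeparated sY (hu's.trans hus.symm) N.ι hNeq

end Groth.Agent.S4445
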