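import Groth.Statements.S9826
import Mathlib
import Groth.Agent.Lib.Helper16.CohFP

set_option autoImplicit false
universe u
open CategoryTheory CategoryTheory.Limits AlgebraicGeometry TopologicalSpace Opposite
open Props

namespace Groth.Agent.S9826

section helpers
open CategoryTheory CategoryTheory.Limits AlgebraicGeometry TopologicalSpace

open Opposite
open Groth.Agent.Lib.helper16.CohFinite Groth.Agent.Lib.helper16.CohFP

theorem algebraMap_top_bijective (R : CommRingCat.{u}) :
    Function.Bijective (algebraMap R Γ(Spec R, ⊤)) := by
  have : IsIso (Scheme.ΓSpecIso R).inv := inferInstance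
  exact ConcreteCategory.bijective_of_isIso (Scheme.ΓSpecIso R).inv

theorem main (R : CommRingCat.{u}) (M : ModuleCat.{u} R) :
    CohB1.IsFT (tilde M) ↔ Module.Finite R M := by
  constructor
  · intro h
    have h1 : Module.Finite Γ(Spec R, ⊤) Γ(tilde M, ⊤) :=
      finite_sections_of_isFiniteType (tilde M) h (isAffineOpen_top (Spec R))
    haveI : Module.Finite R Γ(Spec R, ⊤) :=
      Module.Finite.of_surjective (Algebra.linearMap R Γ(Spec R, ⊤))
        (algebraMap_top_bijective R).2
    have h2 : Module.Finite R Γ(tilde M, ⊤) := Module.Finite.trans Γ(Spec R, ⊤) Γ(tilde M, ⊤)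
    haveI : Module.Finite R ((modulesSpecToSheaf.obj (tilde M)).presheaf.obj (op ⊤)) := h2
    exact Module.Finite.equiv (tilde.isoTop M).toLinearEquiv.symm
  · intro h
    obtain ⟨G, hG⟩ := exists_generatingSections_tilde M
    exact isFiniteType_of_generatingSections (tilde M) G


end helpers


/-- The sheaf associated to a module over a ring is of finite type on the spectrum if and only if the
module is finitely generated. -/
theorem result (R : CommRingCat.{u}) (M : ModuleCat.{u} R) :
    CohB1.IsFT (tilde M) ↔ Module.Finite R M := by
  exact main R M

end Groth.Agent.S9826
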