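import Groth.Statements.S10867
import Mathlib

set_option autoImplicit false
universe u
open Mor

namespace Groth.Agent.S10867



section helpers
open CategoryTheory AlgebraicGeometry

/-- algebraic core: a finite ring map which at every maximal ideal of the source has at most one prime
above it, with trivial residue extension and unramified there, is surjective. -/
theorem alg_surj {A B : Type*} [CommRing A] [CommRing B] (φ : A →+* B) (hfin : φ.Finite)
    (h : ∀ (m : Ideal A), m.IsMaximal → ∀ (n : Ideal B), n.IsPrime → n.comap φ = m →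
      (∀ n' : Ideal B, n'.IsPrime → n'.comap φ = m → n' = n) ∧ (∀ b : B, ∃ a : A, b - φ a ∈ n) ∧
      (∀ b ∈ n, ∃ s, s ∉ n ∧ s * b ∈ Ideal.map φ m)) :
    Function.Surjective φ := by
  -- Step A
  have hA : ∀ (m : Ideal A), m.IsMaximal → ∀ b : B, ∃ a : A, b - φ a ∈ Ideal.map φ m := by
    intro m hm b
    have key : ∀ M : Ideal B, M.IsMaximal → Ideal.map φ m ≤ M → M.comap φ = m := by
      intro M hM hle
      have h1 : m ≤ M.comap φ := Ideal.map_le_iff_le_comap.mp hle
      have h2 : M.comap φ ≠ ⊤ := (Ideal.comap_isPrime φ M).ne_top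
      exact (hm.eq_of_le h2 h1).symm
    by_cases hex : ∃ n : Ideal B, n.IsPrime ∧ n.comap φ = m
    · obtain ⟨n, hn, hnm⟩ := hex
      obtain ⟨huniq, hres, hunr⟩ := h m hm n hn hnm
      have hle : n ≤ Ideal.map φ m := by
        intro b hb
        obtain ⟨s, hs, hsb⟩ := hunr b hb
        have htop : Ideal.span {s} ⊔ Ideal.map φ m = ⊤ := by
          by_contra hne
          obtain ⟨M, hM, hMle⟩ := Ideal.exists_le_maximal _ hne
          have hMn : M = n := huniq M hM.isPrime (key M hM (le_sup_right.trans hMle))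
          apply hs
          rw [← hMn]
          exact hMle (Ideal.mem_sup_left (Ideal.subset_span rfl))
        have h1 : (1 : B) ∈ Ideal.span {s} ⊔ Ideal.map φ m := by rw [htop]; trivial
        obtain ⟨x, hx, j, hj, hxj⟩ := Submodule.mem_sup.mp h1
        obtain ⟨t, rfl⟩ := Ideal.mem_span_singleton'.mp hx
        have : b = t * (s * b) + b * j := by
          calc b = b * 1 := (mul_one b).symm
            _ = b * (t * s + j) := by rw [hxj]
            _ = t * (s * b) + b * j := by ring
        rw [this]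
        exact Ideal.add_mem _ (Ideal.mul_mem_left _ _ hsb) (Ideal.mul_mem_left _ _ hj)
      obtain ⟨a, ha⟩ := hres b
      exact ⟨a, hle ha⟩
    · have htop : Ideal.map φ m = ⊤ := by
        by_contra hne
        obtain ⟨M, hM, hMle⟩ := Ideal.exists_le_maximal _ hne
        exact hex ⟨M, hM.isPrime, key M hM hMle⟩
      exact ⟨0, by rw [htop]; trivial⟩
  -- Step B
  letI := φ.toAlgebra
  haveI : Module.Finite A B := hfin
  let N : Submodule A B := LinearMap.range (Algebra.linearMap A B)
  have hQ : ∀ (m : Ideal A), m.IsMaximal → (⊤ : Submodule A (B ⧸ N)) ≤ m • ⊤ := by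
    intro m hm q _
    obtain ⟨b, rfl⟩ := Submodule.Quotient.mk_surjective N q
    obtain ⟨a, ha⟩ := hA m hm b
    have h1 : Submodule.Quotient.mk (p := N) b = Submodule.Quotient.mk (p := N) (b - φ a) := by
      rw [eq_comm, Submodule.Quotient.eq]
      have : b - φ a - b = - (Algebra.linearMap A B a) := by
        simp [Algebra.linearMap_apply, RingHom.algebraMap_toAlgebra]
      rw [this]
      exact N.neg_mem (LinearMap.mem_range_self _ a)
    rw [h1]
    have h2 : (b - φ a) ∈ (m • ⊤ : Submodule A B) := by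
      rw [Ideal.smul_top_eq_map]
      exact ha
    have h3 := Submodule.mem_map_of_mem (f := N.mkQ) h2
    rw [Submodule.map_smul'', Submodule.map_top, Submodule.range_mkQ] at h3
    exact h3
  have hann : Module.annihilator A (B ⧸ N) = ⊤ := by
    by_contra hne
    obtain ⟨m, hm, hle⟩ := Ideal.exists_le_maximal _ hne
    obtain ⟨r, hr1, hr2⟩ := Submodule.exists_sub_one_mem_and_smul_eq_zero_of_fg_of_le_smul m
      (⊤ : Submodule A (B ⧸ N)) Module.Finite.fg_top (hQ m hm)
    have hrann : r ∈ Module.annihilator A (B ⧸ N) :=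
      Module.mem_annihilator.mpr fun q => hr2 q trivial
    have hrm : r ∈ m := hle hrann
    apply hm.ne_top
    rw [Ideal.eq_top_iff_one]
    have : (1 : A) = r - (r - 1) := by ring
    rw [this]
    exact m.sub_mem hrm hr1
  intro b
  have h1 : (1 : A) ∈ Module.annihilator A (B ⧸ N) := by rw [hann]; trivial
  have h2 := Module.mem_annihilator.mp h1 (Submodule.Quotient.mk b)
  rw [one_smul, Submodule.Quotient.mk_eq_zero] at h2
  obtain ⟨a, ha⟩ := h2
  exact ⟨a, ha⟩


/-- fibres over closed points have at most one point -/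
theorem fib_subsingleton {X Y : Scheme.{u}} (f : X ⟶ Y) [JacobsonSpace X]
    (hinj : Set.InjOn f.base {x : X | IsClosed ({x} : Set X)}) (y : Y) (hy : IsClosed ({y} : Set Y)) :
    (f.base ⁻¹' {y}).Subsingleton := by
  have hZ : IsClosed (f.base ⁻¹' {y}) := hy.preimage f.continuous
  have hS : (f.base ⁻¹' {y} ∩ closedPoints X).Subsingleton := by
    intro a ha b hb
    exact hinj ha.2 hb.2 (ha.1.trans hb.1.symm)
  have hcl := closure_inter_closedPoints hZ
  rcases hS.eq_empty_or_singleton with h | ⟨x, hx⟩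
  · rw [h, closure_empty] at hcl
    rw [← hcl]
    exact Set.subsingleton_empty
  · have hxc : IsClosed ({x} : Set X) := by
      have : x ∈ f.base ⁻¹' {y} ∩ closedPoints X := by rw [hx]; rfl
      exact this.2
    rw [hx, hxc.closure_eq] at hcl
    rw [← hcl]
    exact Set.subsingleton_singleton

theorem isFinite_of {X Y : Scheme.{u}} (f : X ⟶ Y) [JacobsonSpace X] [JacobsonSpace Y] [IsProper f]
    (hinj : Set.InjOn f.base {x : X | IsClosed ({x} : Set X)}) : IsFinite f := by
  have hex : ∀ y : {y : Y // IsClosed ({y} : Set Y)}, ∃ V : Y.Opens, y.1 ∈ V ∧ IsFinite (f ∣_ V) :=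
    fun y => exists_isFinite_morphismRestrict_of_finite_preimage_singleton f y.1
      (fib_subsingleton f hinj y.1 y.2).finite
  choose V hyV hV using hex
  have hcov : iSup V = ⊤ := by
    by_contra hne
    have hne' : ((iSup V : Y.Opens) : Set Y)ᶜ.Nonempty := by
      rw [Set.nonempty_compl]
      intro h
      apply hne
      ext1
      simpa using h
    obtain ⟨y, hy1, hy2⟩ := nonempty_inter_closedPoints hne'
      (iSup V).isOpen.isClosed_compl.isLocallyClosed
    apply hy1
    exact TopologicalSpace.Opens.mem_iSup.mpr ⟨⟨y, hy2⟩, hyV ⟨y, hy2⟩⟩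
  exact IsZariskiLocalAtTarget.of_iSup_eq_top (P := @IsFinite) V hcov hV


theorem fromSpec_mem {Z : Scheme.{u}} {W : Z.Opens} (hW : IsAffineOpen W)
    (n : PrimeSpectrum Γ(Z, W)) : hW.fromSpec n ∈ W := by
  have : hW.fromSpec n ∈ Set.range hW.fromSpec := ⟨n, rfl⟩
  rw [hW.range_fromSpec] at this
  exact this

theorem primeIdealOf_fromSpec {Z : Scheme.{u}} {W : Z.Opens} (hW : IsAffineOpen W)
    (n : PrimeSpectrum Γ(Z, W)) : hW.primeIdealOf ⟨hW.fromSpec n, fromSpec_mem hW n⟩ = n := by
  apply hW.fromSpec.isOpenEmbedding.injective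
  exact hW.fromSpec_primeIdealOf ⟨hW.fromSpec n, fromSpec_mem hW n⟩

theorem primeIdealOf_injective {Z : Scheme.{u}} {W : Z.Opens} (hW : IsAffineOpen W) :
    Function.Injective hW.primeIdealOf := by
  intro a b hab
  have h1 := hW.fromSpec_primeIdealOf a
  have h2 := hW.fromSpec_primeIdealOf b
  rw [hab] at h1
  exact Subtype.ext (h1.symm.trans h2)

/-- in a Jacobson scheme, a point of an affine open whose prime ideal is maximal is closed -/
theorem closed_of_maximal {Z : Scheme.{u}} [JacobsonSpace Z] {W : Z.Opens} (hW : IsAffineOpen W)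
    (x : W) (hmax : (hW.primeIdealOf x).asIdeal.IsMaximal) : IsClosed ({x.1} : Set Z) := by
  apply isClosed_singleton_of_isLocallyClosed_singleton
  have h1 : IsClosed ({hW.primeIdealOf x} : Set (PrimeSpectrum Γ(Z, W))) :=
    (PrimeSpectrum.isClosed_singleton_iff_isMaximal _).mpr hmax
  have h2 : IsClosed {x} := by
    have h3 : IsClosed (hW.primeIdealOf ⁻¹' {hW.primeIdealOf x}) :=
      h1.preimage hW.isoSpec.hom.continuous
    have h4 : hW.primeIdealOf ⁻¹' {hW.primeIdealOf x} = {x} := by
      ext z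
      simp only [Set.mem_preimage, Set.mem_singleton_iff]
      exact ⟨fun h => primeIdealOf_injective hW h, fun h => by rw [h]⟩
    rw [h4] at h3
    exact h3
  have h5 : ({x.1} : Set Z) = Subtype.val '' {x} := by simp
  rw [h5]
  exact h2.isLocallyClosed.image W.isOpenEmbedding'.isInducing
    W.isOpenEmbedding'.isOpen_range.isLocallyClosed


/-- translating the cotangent condition on local rings into an elementwise statement -/
theorem unram_translate {A B SA SB : Type*} [CommRing A] [CommRing B] [CommRing SA] [CommRing SB]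
    [Algebra A SA] [Algebra B SB] (m : Ideal A) [m.IsPrime] (n : Ideal B) [n.IsPrime]
    [IsLocalization.AtPrime SA m] [IsLocalization.AtPrime SB n] [IsLocalRing SA] [IsLocalRing SB]
    (φ : A →+* B) (σ : SA →+* SB)
    (hcomm : σ.comp (algebraMap A SA) = (algebraMap B SB).comp φ)
    (hfg : (IsLocalRing.maximalIdeal SB).FG)
    (hT : Ideal.map σ (IsLocalRing.maximalIdeal SA) ⊔ IsLocalRing.maximalIdeal SB ^ 2 =
      IsLocalRing.maximalIdeal SB) :
    ∀ b ∈ n, ∃ s, s ∉ n ∧ s * b ∈ Ideal.map φ m := by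
  have h1 : IsLocalRing.maximalIdeal SB ≤ Ideal.map σ (IsLocalRing.maximalIdeal SA) := by
    refine Submodule.le_of_le_smul_of_le_jacobson_bot hfg
      (IsLocalRing.maximalIdeal_le_jacobson ⊥) ?_
    rw [smul_eq_mul, ← pow_two, hT]
  have h2 : Ideal.map σ (IsLocalRing.maximalIdeal SA) =
      Ideal.map (algebraMap B SB) (Ideal.map φ m) := by
    rw [← IsLocalization.AtPrime.map_eq_maximalIdeal m SA, Ideal.map_map, Ideal.map_map, hcomm]
  intro b hb
  have hb1 : algebraMap B SB b ∈ IsLocalRing.maximalIdeal SB :=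
    (IsLocalization.AtPrime.to_map_mem_maximal_iff SB n b).mpr hb
  have hb2 := h1 hb1
  rw [h2, IsLocalization.mem_map_algebraMap_iff n.primeCompl SB] at hb2
  obtain ⟨⟨j, t⟩, hjt⟩ := hb2
  rw [← map_mul, IsLocalization.eq_iff_exists n.primeCompl SB] at hjt
  obtain ⟨c, hc⟩ := hjt
  refine ⟨c.1 * t.1, ?_, ?_⟩
  · exact (n.primeCompl.mul_mem c.2 t.2)
  · have : c.1 * t.1 * b = c.1 * j.1 := by
      rw [← hc]; ring
    rw [this]
    exact Ideal.mul_mem_left _ _ j.2


/-- residue fields at maximal ideals of finite type algebras over an algebraically closed field -/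
theorem residue_alg {k B : Type*} [Field k] [IsAlgClosed k] [CommRing B] (ψ : k →+* B)
    (hψ : ψ.FiniteType) (n : Ideal B) (hn : n.IsMaximal) : ∀ b : B, ∃ c : k, b - ψ c ∈ n := by
  letI : Field (B ⧸ n) := Ideal.Quotient.field n
  letI : Algebra k (B ⧸ n) := ((Ideal.Quotient.mk n).comp ψ).toAlgebra
  have hft : ((Ideal.Quotient.mk n).comp ψ).FiniteType :=
    RingHom.FiniteType.comp (RingHom.FiniteType.of_surjective _ Ideal.Quotient.mk_surjective) hψ
  haveI : Algebra.FiniteType k (B ⧸ n) := hft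
  haveI : Module.Finite k (B ⧸ n) := finite_of_finite_type_of_isJacobsonRing k (B ⧸ n)
  haveI : Algebra.IsIntegral k (B ⧸ n) := Algebra.IsIntegral.of_finite k (B ⧸ n)
  intro b
  obtain ⟨c, hc⟩ := (IsAlgClosed.algebraMap_bijective_of_isIntegral (k := k) (K := B ⧸ n)).2
    (Ideal.Quotient.mk n b)
  refine ⟨c, ?_⟩
  rw [← Ideal.Quotient.eq]
  exact hc.symm


theorem result' (k : Type u) [Field k] [IsAlgClosed k]
    {X Y : Scheme.{u}} (f : X ⟶ Y) (q : Y ⟶ Spec (CommRingCat.of k)) [LocallyOfFiniteType q]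
    [QuasiCompact q] [LocallyOfFiniteType (f ≫ q)] [IsProper f]
    (hinj : Set.InjOn f.base {x : X | IsClosed ({x} : Set X)})
    (hT : ∀ x : X, IsClosed ({x} : Set X) →
      Ideal.map (f.stalkMap x).hom (IsLocalRing.maximalIdeal (Y.presheaf.stalk (f.base x))) ⊔
        IsLocalRing.maximalIdeal (X.presheaf.stalk x) ^ 2 =
          IsLocalRing.maximalIdeal (X.presheaf.stalk x)) :
    IsClosedImmersion f := by
  haveI : JacobsonSpace Y := LocallyOfFiniteType.jacobsonSpace q
  haveI : JacobsonSpace X := LocallyOfFiniteType.jacobsonSpace (f ≫ q)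
  haveI : IsLocallyNoetherian X := LocallyOfFiniteType.isLocallyNoetherian (f ≫ q)
  haveI : IsFinite f := isFinite_of f hinj
  rw [isClosedImmersion_iff_isAffineHom]
  refine ⟨inferInstance, fun U hU => ?_⟩
  have hV : IsAffineOpen (f ⁻¹ᵁ U) := hU.preimage f
  apply alg_surj (f.app U).hom (f.finite_app U hU)
  have hint : (f.app U).hom.IsIntegral := RingHom.IsIntegral.of_finite (f.finite_app U hU)
  -- general facts about a prime over a maximal ideal
  have hgen : ∀ (m : Ideal Γ(Y, U)) (hm : m.IsMaximal) (n : Ideal Γ(X, f ⁻¹ᵁ U)) (hn : n.IsPrime),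
      n.comap (f.app U).hom = m →
      IsClosed ({hV.fromSpec ⟨n, hn⟩} : Set X) ∧
        hU.primeIdealOf ⟨f (hV.fromSpec ⟨n, hn⟩), fromSpec_mem hV _⟩ = ⟨m, hm.isPrime⟩ ∧
        n.IsMaximal := by
    intro m hm n hn hnm
    have hxV := fromSpec_mem hV ⟨n, hn⟩
    have hpx : hV.primeIdealOf ⟨hV.fromSpec ⟨n, hn⟩, hxV⟩ = ⟨n, hn⟩ := primeIdealOf_fromSpec hV _
    have hnmax : n.IsMaximal :=
      Ideal.isMaximal_of_isIntegral_of_isMaximal_comap' (f.app U).hom hint n (hnm ▸ hm)
    refine ⟨?_, ?_, hnmax⟩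
    · refine closed_of_maximal hV ⟨_, hxV⟩ ?_
      rw [hpx]
      exact hnmax
    · have h1 := IsAffineOpen.comap_primeIdealOf_appLE U hU (f ⁻¹ᵁ U) hV le_rfl hxV (f := f)
      rw [f.appLE_eq_app, hpx] at h1
      rw [← h1]
      exact PrimeSpectrum.ext hnm
  intro m hm n hn hnm
  obtain ⟨hxcl, hpy, hnmax⟩ := hgen m hm n hn hnm
  set x : X := hV.fromSpec ⟨n, hn⟩ with hxdef
  have hxV : x ∈ f ⁻¹ᵁ U := fromSpec_mem hV ⟨n, hn⟩
  have hpx : hV.primeIdealOf ⟨x, hxV⟩ = ⟨n, hn⟩ := primeIdealOf_fromSpec hV _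
  refine ⟨?_, ?_, ?_⟩
  · -- uniqueness
    intro n' hn' hn'm
    obtain ⟨hxcl', hpy', -⟩ := hgen m hm n' hn' hn'm
    have hfx : f (hV.fromSpec ⟨n', hn'⟩) = f x := by
      have := primeIdealOf_injective hU (hpy'.trans hpy.symm)
      exact congrArg Subtype.val this
    have hxx : hV.fromSpec ⟨n', hn'⟩ = x := hinj hxcl' hxcl hfx
    have h1 : (⟨n', hn'⟩ : PrimeSpectrum Γ(X, f ⁻¹ᵁ U)) = ⟨n, hn⟩ :=
      hV.fromSpec.isOpenEmbedding.injective hxx
    exact congrArg PrimeSpectrum.asIdeal h1
  · -- residue field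
    have e1 : U ≤ q ⁻¹ᵁ ⊤ := fun _ _ => trivial
    let ψ : k →+* Γ(X, f ⁻¹ᵁ U) :=
      (f.app U).hom.comp ((q.appLE ⊤ U e1).hom.comp (Scheme.ΓSpecIso (CommRingCat.of k)).inv.hom)
    have hψ : ψ.FiniteType := by
      have h1 : ((f ≫ q).appLE ⊤ (f ⁻¹ᵁ U) (fun _ _ => trivial)).hom.FiniteType :=
        (f ≫ q).finiteType_appLE (isAffineOpen_top _) hV _
      have h2 : (f ≫ q).appLE ⊤ (f ⁻¹ᵁ U) (fun _ _ => trivial) =
          q.appLE ⊤ U e1 ≫ f.app U := by
        rw [← f.appLE_eq_app, Scheme.Hom.appLE_comp_appLE]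
      rw [h2] at h1
      have h3 : ((Scheme.ΓSpecIso (CommRingCat.of k)).inv.hom).FiniteType :=
        RingHom.FiniteType.of_surjective _
          (ConcreteCategory.bijective_of_isIso (Scheme.ΓSpecIso (CommRingCat.of k)).inv).2
      have h4 := RingHom.FiniteType.comp h1 h3
      exact h4
    intro b
    obtain ⟨c, hc⟩ := residue_alg ψ hψ n hnmax b
    exact ⟨_, hc⟩
  · -- unramified
    letI aA : Algebra Γ(Y, U) (Y.presheaf.stalk (f x)) :=
      Y.presheaf.algebra_section_stalk (U := U) ⟨f x, hxV⟩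
    letI aB : Algebra Γ(X, f ⁻¹ᵁ U) (X.presheaf.stalk x) :=
      X.presheaf.algebra_section_stalk (U := f ⁻¹ᵁ U) ⟨x, hxV⟩
    haveI lA : IsLocalization.AtPrime (Y.presheaf.stalk (f x))
        (hU.primeIdealOf ⟨f x, hxV⟩).asIdeal := hU.isLocalization_stalk ⟨f x, hxV⟩
    haveI lB : IsLocalization.AtPrime (X.presheaf.stalk x)
        (hV.primeIdealOf ⟨x, hxV⟩).asIdeal := hV.isLocalization_stalk ⟨x, hxV⟩
    have hcomm : (f.stalkMap x).hom.comp (algebraMap Γ(Y, U) (Y.presheaf.stalk (f x))) =
        (algebraMap Γ(X, f ⁻¹ᵁ U) (X.presheaf.stalk x)).comp (f.app U).hom := by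
      have := f.germ_stalkMap U x hxV
      exact congrArg CommRingCat.Hom.hom this
    have hfg : (IsLocalRing.maximalIdeal (X.presheaf.stalk x)).FG :=
      IsNoetherian.noetherian _
    have hres := unram_translate (hU.primeIdealOf ⟨f x, hxV⟩).asIdeal
      (hV.primeIdealOf ⟨x, hxV⟩).asIdeal (f.app U).hom (f.stalkMap x).hom hcomm hfg (hT x hxcl)
    rw [hpx, hpy] at hres
    exact hres


end helpers


open CategoryTheory AlgebraicGeometry in
/-- In the case of an algebraically closed base field k and K = k: let X, Y be k-schemes of finite type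
and f : X → Y a proper k-morphism which is injective on closed points and such that for every closed
point x of X the ideal generated by the image of the maximal ideal of the local ring at f(x),
together with the square of the maximal ideal at x, is the whole maximal ideal at x (the cotangent
map is surjective, i.e. the tangent map at x is injective). Then f is a closed immersion. (The
published statement allows any field k and tests points and tangent spaces with values in an
algebraically closed extension K of k; this row is the case K = k.) -/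
theorem result (k : Type u) [Field k] [IsAlgClosed k]
    {X Y : Scheme.{u}} (f : X ⟶ Y) (q : Y ⟶ Spec (CommRingCat.of k)) [LocallyOfFiniteType q] [QuasiCompact q]
    [LocallyOfFiniteType (f ≫ q)] [IsProper f]
    (hinj : Set.InjOn f.base {x : X | IsClosed ({x} : Set X)})
    (hT : ∀ x : X, IsClosed ({x} : Set X) →
      Ideal.map (f.stalkMap x).hom (IsLocalRing.maximalIdeal (Y.presheaf.stalk (f.base x))) ⊔
        IsLocalRing.maximalIdeal (X.presheaf.stalk x) ^ 2 = IsLocalRing.maximalIdeal (X.presheaf.stalk x)) :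
    IsClosedImmersion f := by
  exact Groth.Agent.S10867.result' k f q hinj hT

end Groth.Agent.S10867
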