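import Groth.Statements.S4347
import Mathlib
import Groth.Agent.Lib.Helper18.AdicUnit
import Groth.Agent.Lib.Helper18.FlatCrit
import Groth.Agent.S0543
import Groth.Agent.S3871

set_option autoImplicit false
universe u
open AdicRing

namespace Groth.Agent.S4347

open FSch Groth.Agent.S3871

theorem comp_eq {R R' : Type u} [CommRing R] [CommRing R'] (I : Ideal R) (K : Ideal R')
    (g : R →+* R') (h : I.map g ≤ K) :
    (complMap I K g h).comp (algebraMap R (AdicCompletion I R)) =
      (algebraMap R' (AdicCompletion K R')).comp g := by
  refine RingHom.ext (fun s => ?_)
  show complMap I K g h (AdicCompletion.of I R s) = AdicCompletion.of K R' (g s)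
  exact complMap_of _ _ _ _ s

/-- A flat map of Noetherian rings sending `I` into `K` induces a flat map of adic completions. -/
theorem flat_complMap_of_flat {R R' : Type u} [CommRing R] [CommRing R'] [IsNoetherianRing R]
    [IsNoetherianRing R'] (I : Ideal R) (K : Ideal R') (g : R →+* R') (h : I.map g ≤ K)
    (hg : g.Flat) : (complMap I K g h).Flat := by
  let _ : Algebra (AdicCompletion I R) (AdicCompletion K R') := (complMap I K g h).toAlgebra
  let _ : Algebra R (AdicCompletion K R') :=
    ((complMap I K g h).comp (algebraMap R (AdicCompletion I R))).toAlgebra
  have : IsScalarTower R (AdicCompletion I R) (AdicCompletion K R') :=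
    IsScalarTower.of_algebraMap_eq (fun _ => rfl)
  have : IsNoetherianRing (AdicCompletion I R) := Groth.Agent.S0543.result _ _
  have : IsNoetherianRing (AdicCompletion K R') := Groth.Agent.S0543.result _ _
  have hflat : ((complMap I K g h).comp (algebraMap R (AdicCompletion I R))).Flat := by
    rw [comp_eq]
    exact RingHom.Flat.comp hg (RingHom.flat_algebraMap_iff.mpr inferInstance)
  have : Module.Flat R (AdicCompletion K R') := hflat
  have hfgI : I.FG := (isNoetherianRing_iff_ideal_fg _).mp inferInstance _
  have hfgK : K.FG := (isNoetherianRing_iff_ideal_fg _).mp inferInstance _
  have hjac : I.map (algebraMap R (AdicCompletion K R')) ≤ Ideal.jacobson ⊥ := by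
    show I.map ((complMap I K g h).comp (algebraMap R (AdicCompletion I R))) ≤ _
    rw [comp_eq, ← Ideal.map_map]
    refine (Ideal.map_mono h).trans ?_
    have := AdicCompletion.isAdicComplete_self K hfgK
    exact IsAdicComplete.le_jacobson_bot _
  exact H18Flat.flat_of_flat_of_adic (R := R) (B := AdicCompletion I R)
    (M := AdicCompletion K R') I hjac (fun k b => exists_sub_mem _ hfgI k b)

/-- The completed ring of fractions of A with denominators in a multiplicative subset being the J-adic
completion of the localization of A at that subset: Let A be a Noetherian ring with the J-adic
topology and S' a multiplicative subset contained in the multiplicative subset S. Then the canonical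
map from the completed ring of fractions of A with denominators in S' to the one with denominators
in S is flat. (The published statement assumes A adic, i.e. also separated and complete; that is not
needed for this assertion.) -/
theorem result
    (A : Type u) [CommRing A] [IsNoetherianRing A] (J : Ideal A) (S' S : Submonoid A) (hS : S' ≤ S)
    (g : Localization S' →+* Localization S)
    (hg : g.comp (algebraMap A (Localization S')) = algebraMap A (Localization S))
    (hJ : (J.map (algebraMap A (Localization S'))).map g ≤ J.map (algebraMap A (Localization S))) :
    (FSch.complMap (J.map (algebraMap A (Localization S'))) (J.map (algebraMap A (Localization S)))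
      g hJ).Flat := by
  apply flat_complMap_of_flat
  let _ : Algebra (Localization S') (Localization S) := g.toAlgebra
  have : IsScalarTower A (Localization S') (Localization S) :=
    IsScalarTower.of_algebraMap_eq (fun a => (congrArg (fun φ => φ a) hg).symm)
  show Module.Flat (Localization S') (Localization S)
  rw [Module.flat_iff_of_isLocalization (Localization S') S']
  infer_instance

end Groth.Agent.S4347
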