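import Groth.Statements.S9231
import Mathlib
import Groth.Agent.Lib.Helper18.AdicUnit
import Groth.Agent.S3871
import Groth.Agent.S4347
import Groth.Agent.S4358

set_option autoImplicit false
universe u
open CAlg

namespace Groth.Agent.S9231

open FSch

theorem evalₐ_eq_zero_of_mem_map {R : Type u} [CommRing R] (K : Ideal R) (k : ℕ)
    (z : AdicCompletion K R) (hz : z ∈ (K ^ k).map (algebraMap R (AdicCompletion K R))) :
    AdicCompletion.evalₐ K k z = 0 := by
  have : (K ^ k).map (algebraMap R (AdicCompletion K R)) ≤
      RingHom.ker (AdicCompletion.evalₐ K k).toRingHom := by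
    rw [Ideal.map_le_iff_le_comap]
    intro r hr
    rw [Ideal.mem_comap, RingHom.mem_ker]
    show AdicCompletion.evalₐ K k (algebraMap R (AdicCompletion K R) r) = 0
    rw [AdicCompletion.algebraMap_apply, AdicCompletion.evalₐ_of]
    exact Ideal.Quotient.eq_zero_iff_mem.mpr (by simpa using hr)
  exact this hz

/-- a ring map between adic completions compatible with `g` is the canonical one -/
theorem eq_complMap {R R' : Type u} [CommRing R] [CommRing R'] (I : Ideal R) (K : Ideal R')
    (hI : I.FG) (g : R →+* R') (h : I.map g ≤ K)
    (ψ : AdicCompletion I R →+* AdicCompletion K R')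
    (hψ : ψ.comp (algebraMap R (AdicCompletion I R)) =
      (algebraMap R' (AdicCompletion K R')).comp g) :
    ψ = complMap I K g h := by
  have key : ∀ (ψ : AdicCompletion I R →+* AdicCompletion K R')
      (hψ : ψ.comp (algebraMap R (AdicCompletion I R)) =
        (algebraMap R' (AdicCompletion K R')).comp g) (k : ℕ) (x : AdicCompletion I R) (r : R)
      (hr : x - algebraMap R (AdicCompletion I R) r ∈
        (I ^ k).map (algebraMap R (AdicCompletion I R))),
      AdicCompletion.evalₐ K k (ψ x) = Ideal.Quotient.mk (K ^ k) (g r) := by
    intro ψ hψ k x r hr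
    have h1 : ψ (x - algebraMap R (AdicCompletion I R) r) ∈
        (K ^ k).map (algebraMap R' (AdicCompletion K R')) := by
      have h2 : ((I ^ k).map (algebraMap R (AdicCompletion I R))).map ψ ≤
          (K ^ k).map (algebraMap R' (AdicCompletion K R')) := by
        rw [Ideal.map_map, hψ, ← Ideal.map_map]
        apply Ideal.map_mono
        rw [Ideal.map_pow]
        exact Ideal.pow_right_mono h k
      exact h2 (Ideal.mem_map_of_mem ψ hr)
    have h3 := evalₐ_eq_zero_of_mem_map K k _ h1
    rw [map_sub, map_sub, sub_eq_zero] at h3
    rw [h3]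
    have h4 : ψ (algebraMap R (AdicCompletion I R) r) =
        algebraMap R' (AdicCompletion K R') (g r) := congrArg (fun φ => φ r) hψ
    rw [h4, AdicCompletion.algebraMap_apply, AdicCompletion.evalₐ_of]
    rfl
  apply RingHom.ext
  intro x
  apply AdicCompletion.ext_evalₐ
  intro k
  obtain ⟨r, hr⟩ := Groth.Agent.S3871.exists_sub_mem I hI k x
  rw [key ψ hψ k x r hr, key (complMap I K g h) (Groth.Agent.S4347.comp_eq I K g h) k x r hr]

theorem faithfullyFlat_completion (B : Type u) [CommRing B] [IsLocalRing B] [IsNoetherianRing B] :
    Module.FaithfullyFlat B (AdicCompletion (IsLocalRing.maximalIdeal B) B) :=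
  Module.FaithfullyFlat.of_flat_of_isLocalHom

/-- For a local ring map A → B between Noetherian local rings, let ψ be the induced map from the
completion of A at its maximal ideal to that of B (here: a ring map of the completions whose
composite with A → A^ is the composite A → B → B^; since A is Noetherian such a map is unique, hence
is the canonical one). Then ψ is flat exactly when A → B is flat. -/
theorem result (A B : Type u) [CommRing A] [CommRing B] [IsLocalRing A]
    [IsLocalRing B] [IsNoetherianRing A] [IsNoetherianRing B] [Algebra A B]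
    [IsLocalHom (algebraMap A B)]
    (ψ : AdicCompletion (IsLocalRing.maximalIdeal A) A →+* AdicCompletion (IsLocalRing.maximalIdeal B) B)
    (hψ : ψ.comp (algebraMap A (AdicCompletion (IsLocalRing.maximalIdeal A) A)) =
      (algebraMap B (AdicCompletion (IsLocalRing.maximalIdeal B) B)).comp (algebraMap A B)) :
    ψ.Flat ↔ (algebraMap A B).Flat := by
  have hle := IsLocalRing.map_maximalIdeal_le (algebraMap A B)
  have hfg : (IsLocalRing.maximalIdeal A).FG := (isNoetherianRing_iff_ideal_fg _).mp inferInstance _
  have hψeq := eq_complMap _ _ hfg (algebraMap A B) hle ψ hψ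
  constructor
  · intro hflat
    have h1 : (ψ.comp (algebraMap A (AdicCompletion (IsLocalRing.maximalIdeal A) A))).Flat :=
      RingHom.Flat.comp (RingHom.flat_algebraMap_iff.mpr inferInstance) hflat
    rw [hψ] at h1
    have h2 : Module.Flat A (AdicCompletion (IsLocalRing.maximalIdeal B) B) := by
      rw [← RingHom.flat_algebraMap_iff]
      exact h1
    have h3 := faithfullyFlat_completion B
    rw [RingHom.flat_algebraMap_iff]
    exact Groth.Agent.S4358.flat_of_faithfullyFlat_of_flat
      (M := AdicCompletion (IsLocalRing.maximalIdeal B) B)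
  · intro hflat
    rw [hψeq]
    exact Groth.Agent.S4347.flat_complMap_of_flat _ _ _ hle hflat

end Groth.Agent.S9231
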