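import Groth.Statements.S9232
import Mathlib
import Groth.Agent.Lib.Helper18.AdicUnit
import Groth.Agent.S9231

set_option autoImplicit false
universe u
open CAlg

namespace Groth.Agent.S9232

open FSch

theorem complMap_bijective_of_levelwise {R R' : Type u} [CommRing R] [CommRing R'] (I : Ideal R)
    (K : Ideal R') (g : R →+* R') (h : I.map g ≤ K)
    (hlev : ∀ k, Function.Bijective
      (Ideal.quotientMap (K ^ k) g (pow_le_comap_pow_of_map_le I K g h k))) :
    Function.Bijective (complMap I K g h) := by
  constructor
  · intro x x' hxx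
    apply AdicCompletion.ext_evalₐ
    intro k
    apply (hlev k).1
    have e1 := H18U.evalₐ_complMap I K g h k x
    have e2 := H18U.evalₐ_complMap I K g h k x'
    rw [← e1, ← e2, hxx]
  · intro y
    obtain ⟨c, rfl⟩ := AdicCompletion.mk_surjective K R' y
    have hex : ∀ k, ∃ a : R, g a - c k ∈ K ^ k := by
      intro k
      obtain ⟨q, hq⟩ := (hlev k).2 (Ideal.Quotient.mk (K ^ k) (c k))
      obtain ⟨a, rfl⟩ := Ideal.Quotient.mk_surjective q
      rw [Ideal.quotientMap_mk, Ideal.Quotient.eq] at hq
      exact ⟨a, hq⟩
    choose a ha using hex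
    have hc : ∀ {m n : ℕ}, m ≤ n → c m - c n ∈ K ^ m := by
      intro m n hmn
      have := c.2 hmn
      rw [SModEq.sub_mem, smul_eq_mul, Ideal.mul_top] at this
      exact this
    have hcauchy : AdicCompletion.IsAdicCauchy I R a := by
      intro m n hmn
      rw [SModEq.sub_mem, smul_eq_mul, Ideal.mul_top]
      have h1 : g (a m - a n) ∈ K ^ m := by
        have e : g (a m - a n) = (g (a m) - c m) + (c m - c n) - (g (a n) - c n) := by
          rw [map_sub]; ring
        rw [e]
        exact Ideal.sub_mem _ (Ideal.add_mem _ (ha m) (hc hmn))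
          (Ideal.pow_le_pow_right hmn (ha n))
      have h2 : Ideal.quotientMap (K ^ m) g (pow_le_comap_pow_of_map_le I K g h m)
          (Ideal.Quotient.mk (I ^ m) (a m - a n)) = 0 := by
        rw [Ideal.quotientMap_mk]
        exact Ideal.Quotient.eq_zero_iff_mem.mpr h1
      have h3 := (hlev m).1 (h2.trans (map_zero _).symm)
      exact Ideal.Quotient.eq_zero_iff_mem.mp h3
    refine ⟨AdicCompletion.mk I R ⟨a, hcauchy⟩, ?_⟩
    apply AdicCompletion.ext_evalₐ
    intro k
    rw [H18U.evalₐ_complMap, AdicCompletion.evalₐ_mk, AdicCompletion.evalₐ_mk,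
      Ideal.quotientMap_mk, Ideal.Quotient.eq]
    exact ha k

theorem top_eq_sup (A B : Type u) [CommRing A]
    [CommRing B] [IsLocalRing A] [IsLocalRing B]
    [Algebra A B] [IsLocalHom (algebraMap A B)]
    (hm : Ideal.map (algebraMap A B) (IsLocalRing.maximalIdeal A) = IsLocalRing.maximalIdeal B)
    (hk : Function.Surjective (IsLocalRing.ResidueField.map (algebraMap A B))) (k : ℕ) :
    (⊤ : Submodule A B) = LinearMap.range (Algebra.linearMap A B) ⊔
      (IsLocalRing.maximalIdeal A ^ k) • (⊤ : Submodule A B) := by
  have h1 : (⊤ : Submodule A B) = LinearMap.range (Algebra.linearMap A B) ⊔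
      (IsLocalRing.maximalIdeal A) • (⊤ : Submodule A B) := by
    symm
    rw [eq_top_iff]
    intro b _
    obtain ⟨x, hx⟩ := hk (IsLocalRing.residue B b)
    obtain ⟨a, rfl⟩ := IsLocalRing.residue_surjective x
    rw [IsLocalRing.ResidueField.map_residue] at hx
    have h2 : algebraMap A B a - b ∈ IsLocalRing.maximalIdeal B := by
      rw [← Ideal.Quotient.eq]
      exact hx
    have h3 : b = algebraMap A B a - (algebraMap A B a - b) := by ring
    rw [h3]
    apply Submodule.sub_mem
    · exact Submodule.mem_sup_left ⟨a, rfl⟩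
    · apply Submodule.mem_sup_right
      rw [Ideal.smul_top_eq_map, hm]
      exact h2
  induction k with
  | zero =>
    rw [pow_zero, Ideal.one_eq_top, Submodule.top_smul]
    simp
  | succ k ih =>
    symm
    rw [eq_top_iff]
    have h4 : (IsLocalRing.maximalIdeal A ^ k) • (⊤ : Submodule A B) ≤
        LinearMap.range (Algebra.linearMap A B) ⊔
          (IsLocalRing.maximalIdeal A ^ (k + 1)) • (⊤ : Submodule A B) := by
      conv_lhs => rw [h1]
      rw [Submodule.smul_sup]
      apply sup_le_sup
      · exact Submodule.smul_le_right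
      · rw [← Submodule.mul_smul, ← pow_succ]
    conv_lhs => rw [ih]
    exact sup_le le_sup_left h4

/-- Suppose A → B is a flat local ring map between Noetherian local rings, the maximal ideal of A
generates that of B, and the residue field map is bijective. Then the induced map between the
completions of A and B (a ring map of the completions compatible with A → B; it is unique since A is
Noetherian) is an isomorphism. -/
theorem result (A B : Type u) [CommRing A]
    [CommRing B] [IsLocalRing A] [IsLocalRing B] [IsNoetherianRing A] [IsNoetherianRing B]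
    [Algebra A B] [IsLocalHom (algebraMap A B)] [Module.Flat A B]
    (hm : Ideal.map (algebraMap A B) (IsLocalRing.maximalIdeal A) = IsLocalRing.maximalIdeal B)
    (hk : Function.Bijective (IsLocalRing.ResidueField.map (algebraMap A B)))
    (ψ : AdicCompletion (IsLocalRing.maximalIdeal A) A →+* AdicCompletion (IsLocalRing.maximalIdeal B) B)
    (hψ : ψ.comp (algebraMap A (AdicCompletion (IsLocalRing.maximalIdeal A) A)) =
      (algebraMap B (AdicCompletion (IsLocalRing.maximalIdeal B) B)).comp (algebraMap A B)) :
    Function.Bijective ψ := by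
  have h : (IsLocalRing.maximalIdeal A).map (algebraMap A B) ≤ IsLocalRing.maximalIdeal B := hm.le
  rw [Groth.Agent.S9231.eq_complMap _ _ (IsNoetherian.noetherian _) (algebraMap A B) h ψ hψ]
  apply complMap_bijective_of_levelwise
  intro k
  have hff : Module.FaithfullyFlat A B := Module.FaithfullyFlat.of_flat_of_isLocalHom
  have hpow : IsLocalRing.maximalIdeal B ^ k =
      (IsLocalRing.maximalIdeal A ^ k).map (algebraMap A B) := by
    rw [Ideal.map_pow, hm]
  constructor
  · apply Ideal.quotientMap_injective'
    rw [hpow, Ideal.comap_map_eq_self_of_faithfullyFlat]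
  · intro q
    obtain ⟨b, rfl⟩ := Ideal.Quotient.mk_surjective q
    have hb : b ∈ (⊤ : Submodule A B) := trivial
    rw [top_eq_sup A B hm hk.2 k, Submodule.mem_sup] at hb
    obtain ⟨y, ⟨a, rfl⟩, z, hz, hyz⟩ := hb
    refine ⟨Ideal.Quotient.mk _ a, ?_⟩
    rw [Ideal.quotientMap_mk, Ideal.Quotient.eq]
    rw [Ideal.smul_top_eq_map, ← hpow] at hz
    have : (algebraMap A B) a - b = - z := by
      rw [← hyz]
      simp
    rw [this]
    exact Ideal.neg_mem_iff _ |>.mpr hz

end Groth.Agent.S9232
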