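import Groth.Statements.S9561
import Mathlib
import Groth.Agent.Lib.Helper18.AdicUnit
import Groth.Agent.Lib.Helper18.CompleteNakayama
import Groth.Agent.S9231

set_option autoImplicit false
universe u
open EtLocal

namespace Groth.Agent.S9561

open FSch IsLocalRing
set_option linter.unusedSectionVars false

section
variable (A B : Type u) [CommRing A] [CommRing B] [IsLocalRing A] [IsLocalRing B]
  [IsNoetherianRing A] [IsNoetherianRing B] [Algebra A B] [IsLocalHom (algebraMap A B)]
  (ψ : AdicCompletion (maximalIdeal A) A →+* AdicCompletion (maximalIdeal B) B)
  (hψ : ψ.comp (algebraMap A (AdicCompletion (maximalIdeal A) A)) =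
      (algebraMap B (AdicCompletion (maximalIdeal B) B)).comp (algebraMap A B))
include hψ

theorem map_max : (maximalIdeal (AdicCompletion (maximalIdeal A) A)).map ψ =
    ((maximalIdeal A).map (algebraMap A B)).map
      (algebraMap B (AdicCompletion (maximalIdeal B) B)) := by
  rw [AdicCompletion.maximalIdeal_eq_map, Ideal.map_map, hψ, ← Ideal.map_map]

theorem isLocalHom_psi : IsLocalHom ψ := by
  apply ((IsLocalRing.local_hom_TFAE ψ).out 0 2).mpr
  rw [map_max A B ψ hψ, AdicCompletion.maximalIdeal_eq_map (R := B)]
  exact Ideal.map_mono (IsLocalRing.map_maximalIdeal_le (algebraMap A B))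

theorem iff_max : (maximalIdeal A).map (algebraMap A B) = maximalIdeal B ↔
    (maximalIdeal (AdicCompletion (maximalIdeal A) A)).map ψ =
      maximalIdeal (AdicCompletion (maximalIdeal B) B) := by
  rw [map_max A B ψ hψ, AdicCompletion.maximalIdeal_eq_map (R := B)]
  constructor
  · intro h; rw [h]
  · intro h
    have hff := Groth.Agent.S9231.faithfullyFlat_completion B
    have := congrArg (Ideal.comap (algebraMap B (AdicCompletion (maximalIdeal B) B))) h
    rw [Ideal.comap_map_eq_self_of_faithfullyFlat, Ideal.comap_map_eq_self_of_faithfullyFlat]
      at this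
    exact this

/-- residue field of `A` is that of its completion -/
noncomputable def eRes (R : Type u) [CommRing R] [IsLocalRing R] [IsNoetherianRing R] :
    ResidueField R ≃+* ResidueField (AdicCompletion (maximalIdeal R) R) :=
  RingEquiv.ofBijective (ResidueField.map (algebraMap R (AdicCompletion (maximalIdeal R) R)))
    (AdicCompletion.residueField_map_bijective R)

theorem eRes_comm :
    letI := ψ.toAlgebra
    haveI : IsLocalHom (algebraMap (AdicCompletion (maximalIdeal A) A)
      (AdicCompletion (maximalIdeal B) B)) := isLocalHom_psi A B ψ hψ
    RingHom.comp (algebraMap (ResidueField (AdicCompletion (maximalIdeal A) A))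
        (ResidueField (AdicCompletion (maximalIdeal B) B))) (eRes A : _ →+* _) =
      RingHom.comp (eRes B : _ →+* _) (algebraMap (ResidueField A) (ResidueField B)) := by
  let _ := ψ.toAlgebra
  have : IsLocalHom (algebraMap (AdicCompletion (maximalIdeal A) A)
      (AdicCompletion (maximalIdeal B) B)) := isLocalHom_psi A B ψ hψ
  apply RingHom.ext
  intro x
  obtain ⟨a, rfl⟩ := residue_surjective x
  show algebraMap (ResidueField (AdicCompletion (maximalIdeal A) A))
      (ResidueField (AdicCompletion (maximalIdeal B) B))
      (ResidueField.map (algebraMap A (AdicCompletion (maximalIdeal A) A)) (residue A a)) =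
    ResidueField.map (algebraMap B (AdicCompletion (maximalIdeal B) B))
      (algebraMap (ResidueField A) (ResidueField B) (residue A a))
  rw [ResidueField.map_residue, ResidueField.algebraMap_residue, ResidueField.algebraMap_residue,
    ResidueField.map_residue]
  congr 1
  exact congrArg (fun φ => φ a) hψ

/-- forward direction, in algebra form -/
theorem forward (hm : (maximalIdeal A).map (algebraMap A B) = maximalIdeal B)
    [Module.Finite (ResidueField A) (ResidueField B)]
    [Algebra.IsSeparable (ResidueField A) (ResidueField B)] :
    letI := ψ.toAlgebra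
    Module.Finite (AdicCompletion (maximalIdeal A) A) (AdicCompletion (maximalIdeal B) B) ∧
    Algebra.FormallyUnramified (AdicCompletion (maximalIdeal A) A)
      (AdicCompletion (maximalIdeal B) B) := by
  let _ := ψ.toAlgebra
  have hloc : IsLocalHom (algebraMap (AdicCompletion (maximalIdeal A) A)
      (AdicCompletion (maximalIdeal B) B)) := isLocalHom_psi A B ψ hψ
  have hmax : (maximalIdeal (AdicCompletion (maximalIdeal A) A)).map
      (algebraMap (AdicCompletion (maximalIdeal A) A) (AdicCompletion (maximalIdeal B) B)) =
      maximalIdeal (AdicCompletion (maximalIdeal B) B) := (iff_max A B ψ hψ).mp hm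
  have hfin : Module.Finite (ResidueField (AdicCompletion (maximalIdeal A) A))
      (ResidueField (AdicCompletion (maximalIdeal B) B)) :=
    Module.Finite.of_equiv_equiv (eRes A) (eRes B) (eRes_comm A B ψ hψ)
  have hsep : Algebra.IsSeparable (ResidueField (AdicCompletion (maximalIdeal A) A))
      (ResidueField (AdicCompletion (maximalIdeal B) B)) :=
    Algebra.IsSeparable.of_equiv_equiv (eRes A) (eRes B) (eRes_comm A B ψ hψ)
  have hfinite : Module.Finite (AdicCompletion (maximalIdeal A) A)
      (AdicCompletion (maximalIdeal B) B) :=
    H18CN.finite_of_complete _ _ hmax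
  refine ⟨hfinite, ?_⟩
  exact Algebra.FormallyUnramified.of_map_maximalIdeal hmax

/-- backward direction, in algebra form -/
theorem backward
    (h : letI := ψ.toAlgebra
      Algebra.EssFiniteType (AdicCompletion (maximalIdeal A) A) (AdicCompletion (maximalIdeal B) B) ∧
      Algebra.FormallyUnramified (AdicCompletion (maximalIdeal A) A)
        (AdicCompletion (maximalIdeal B) B)) :
    (maximalIdeal A).map (algebraMap A B) = maximalIdeal B ∧
      Module.Finite (ResidueField A) (ResidueField B) ∧
      Algebra.IsSeparable (ResidueField A) (ResidueField B) := by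
  let _ := ψ.toAlgebra
  have hloc : IsLocalHom (algebraMap (AdicCompletion (maximalIdeal A) A)
      (AdicCompletion (maximalIdeal B) B)) := isLocalHom_psi A B ψ hψ
  obtain ⟨h1, h2⟩ := h
  have hmax : (maximalIdeal (AdicCompletion (maximalIdeal A) A)).map
      (algebraMap (AdicCompletion (maximalIdeal A) A) (AdicCompletion (maximalIdeal B) B)) =
      maximalIdeal (AdicCompletion (maximalIdeal B) B) :=
    Algebra.FormallyUnramified.map_maximalIdeal
  have hfin : Module.Finite (ResidueField (AdicCompletion (maximalIdeal A) A))
      (ResidueField (AdicCompletion (maximalIdeal B) B)) := inferInstance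
  have hsep : Algebra.IsSeparable (ResidueField (AdicCompletion (maximalIdeal A) A))
      (ResidueField (AdicCompletion (maximalIdeal B) B)) := inferInstance
  have hcomm : RingHom.comp (algebraMap (ResidueField A) (ResidueField B))
      ((eRes A).symm : _ →+* _) = RingHom.comp ((eRes B).symm : _ →+* _)
        (algebraMap (ResidueField (AdicCompletion (maximalIdeal A) A))
          (ResidueField (AdicCompletion (maximalIdeal B) B))) := by
    apply RingHom.ext
    intro x
    obtain ⟨y, rfl⟩ := (eRes A).surjective x
    have := congrArg (fun φ => φ y) (eRes_comm A B ψ hψ)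
    simp only [RingHom.comp_apply, RingHom.coe_coe] at this ⊢
    rw [this]
    simp
  refine ⟨(iff_max A B ψ hψ).mpr hmax, ?_, ?_⟩
  · exact Module.Finite.of_equiv_equiv (eRes A).symm (eRes B).symm hcomm
  · exact Algebra.IsSeparable.of_equiv_equiv (eRes A).symm (eRes B).symm hcomm

end

/-- Let A → B be a local homomorphism of Noetherian local rings with B essentially of finite type over
A, and let ψ be the induced map between the completions of A and B at their maximal ideals (a ring
map of the completions whose composite with A → A^ is A → B → B^; such a map is unique). Then A → B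
is an unramified homomorphism of local rings, i.e. m_A B = m_B and the residue field of B is a
finite separable extension of that of A, if and only if ψ is an unramified ring map (of finite type
and formally unramified). (The published statement lists a third equivalent condition, that ψ is
itself an unramified homomorphism of local rings; this row keeps the two outer ones.) -/
theorem result (A B : Type u) [CommRing A] [CommRing B]
    [IsLocalRing A] [IsLocalRing B] [IsNoetherianRing A] [IsNoetherianRing B] [Algebra A B]
    [IsLocalHom (algebraMap A B)] [Algebra.EssFiniteType A B]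
    (ψ : AdicCompletion (IsLocalRing.maximalIdeal A) A →+* AdicCompletion (IsLocalRing.maximalIdeal B) B)
    (hψ : ψ.comp (algebraMap A (AdicCompletion (IsLocalRing.maximalIdeal A) A)) =
      (algebraMap B (AdicCompletion (IsLocalRing.maximalIdeal B) B)).comp (algebraMap A B)) :
    ((IsLocalRing.maximalIdeal A).map (algebraMap A B) = IsLocalRing.maximalIdeal B ∧
        Module.Finite (IsLocalRing.ResidueField A) (IsLocalRing.ResidueField B) ∧
        Algebra.IsSeparable (IsLocalRing.ResidueField A) (IsLocalRing.ResidueField B)) ↔
      (ψ.FiniteType ∧ ψ.FormallyUnramified) := by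
  constructor
  · rintro ⟨hm, hfin, hsep⟩
    obtain ⟨h1, h2⟩ := forward A B ψ hψ hm
    refine ⟨?_, h2⟩
    let _ := ψ.toAlgebra
    show Algebra.FiniteType (AdicCompletion (maximalIdeal A) A) (AdicCompletion (maximalIdeal B) B)
    infer_instance
  · rintro ⟨h1, h2⟩
    apply backward A B ψ hψ
    let _ := ψ.toAlgebra
    have : Algebra.FiniteType (AdicCompletion (maximalIdeal A) A)
      (AdicCompletion (maximalIdeal B) B) := h1
    exact ⟨inferInstance, h2⟩

end Groth.Agent.S9561
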