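import Groth.Statements.S9562
import Mathlib
import Groth.Agent.S0543
import Groth.Agent.S9231
import Groth.Agent.S9561

set_option autoImplicit false
universe u
open EtLocal

namespace Groth.Agent.S9562

open IsLocalRing

section
variable (A B : Type u) [CommRing A] [CommRing B] [IsLocalRing A] [IsLocalRing B]
  [IsNoetherianRing A] [IsNoetherianRing B] [Algebra A B] [IsLocalHom (algebraMap A B)]
  (ψ : AdicCompletion (maximalIdeal A) A →+* AdicCompletion (maximalIdeal B) B)
  (hψ : ψ.comp (algebraMap A (AdicCompletion (maximalIdeal A) A)) =
      (algebraMap B (AdicCompletion (maximalIdeal B) B)).comp (algebraMap A B))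
include hψ

theorem etale_of (hfl : Module.Flat A B)
    (hm : (maximalIdeal A).map (algebraMap A B) = maximalIdeal B)
    (hfin : Module.Finite (ResidueField A) (ResidueField B))
    (hsep : Algebra.IsSeparable (ResidueField A) (ResidueField B)) :
    ψ.Etale ∧ (letI := ψ.toAlgebra
      Module.Finite (AdicCompletion (maximalIdeal A) A) (AdicCompletion (maximalIdeal B) B)) := by
  obtain ⟨h1, h2⟩ := Groth.Agent.S9561.forward A B ψ hψ hm
  have h3 : ψ.Flat := (Groth.Agent.S9231.result A B ψ hψ).mpr
    (RingHom.flat_algebraMap_iff.mpr hfl)
  let _ := ψ.toAlgebra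
  have hN : IsNoetherianRing (AdicCompletion (maximalIdeal A) A) :=
    Groth.Agent.S0543.result A _
  have h4 : Module.Flat (AdicCompletion (maximalIdeal A) A) (AdicCompletion (maximalIdeal B) B) :=
    h3
  have h5 : Algebra.FiniteType (AdicCompletion (maximalIdeal A) A)
      (AdicCompletion (maximalIdeal B) B) := inferInstance
  have h6 : Algebra.FinitePresentation (AdicCompletion (maximalIdeal A) A)
      (AdicCompletion (maximalIdeal B) B) := Algebra.FinitePresentation.of_finiteType.mp h5
  refine ⟨?_, h1⟩
  show Algebra.Etale (AdicCompletion (maximalIdeal A) A) (AdicCompletion (maximalIdeal B) B)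
  exact Algebra.Etale.of_formallyUnramified_of_flat

theorem of_etale (h : ψ.Etale) : Module.Flat A B ∧
    (maximalIdeal A).map (algebraMap A B) = maximalIdeal B ∧
    Module.Finite (ResidueField A) (ResidueField B) ∧
    Algebra.IsSeparable (ResidueField A) (ResidueField B) := by
  have hfl : ψ.Flat := by
    let _ := ψ.toAlgebra
    have : Algebra.Etale (AdicCompletion (maximalIdeal A) A)
      (AdicCompletion (maximalIdeal B) B) := h
    show Module.Flat (AdicCompletion (maximalIdeal A) A) (AdicCompletion (maximalIdeal B) B)
    infer_instance
  have h1 : Module.Flat A B :=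
    RingHom.flat_algebraMap_iff.mp ((Groth.Agent.S9231.result A B ψ hψ).mp hfl)
  refine ⟨h1, ?_⟩
  apply Groth.Agent.S9561.backward A B ψ hψ
  let _ := ψ.toAlgebra
  have : Algebra.Etale (AdicCompletion (maximalIdeal A) A)
      (AdicCompletion (maximalIdeal B) B) := h
  exact ⟨inferInstance, inferInstance⟩

end

/-- Let A → B be a local homomorphism of Noetherian local rings with B essentially of finite type over
A, and let ψ be the induced map between the completions of A and B at their maximal ideals (a ring
map of the completions whose composite with A → A^ is A → B → B^; such a map is unique). Then A → B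
is an étale homomorphism of local rings, i.e. B is flat over A, m_A B = m_B and the residue field of
B is a finite separable extension of that of A, if and only if ψ is an étale ring map; moreover in
that case the completion of B is, through ψ, a free module of finite positive rank over the
completion of A. (The published statement lists a third equivalent condition, that ψ is itself an
étale homomorphism of local rings; this row keeps the two outer ones.) -/
theorem result (A B : Type u) [CommRing A] [CommRing B]
    [IsLocalRing A] [IsLocalRing B] [IsNoetherianRing A] [IsNoetherianRing B] [Algebra A B]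
    [IsLocalHom (algebraMap A B)] [Algebra.EssFiniteType A B]
    (ψ : AdicCompletion (IsLocalRing.maximalIdeal A) A →+* AdicCompletion (IsLocalRing.maximalIdeal B) B)
    (hψ : ψ.comp (algebraMap A (AdicCompletion (IsLocalRing.maximalIdeal A) A)) =
      (algebraMap B (AdicCompletion (IsLocalRing.maximalIdeal B) B)).comp (algebraMap A B)) :
    ((Module.Flat A B ∧ (IsLocalRing.maximalIdeal A).map (algebraMap A B) = IsLocalRing.maximalIdeal B ∧
        Module.Finite (IsLocalRing.ResidueField A) (IsLocalRing.ResidueField B) ∧
        Algebra.IsSeparable (IsLocalRing.ResidueField A) (IsLocalRing.ResidueField B)) ↔ ψ.Etale) ∧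
      (ψ.Etale →
        letI := ψ.toAlgebra
        ∃ n : ℕ, 0 < n ∧
          Nonempty ((Fin n → AdicCompletion (IsLocalRing.maximalIdeal A) A) ≃ₗ[AdicCompletion (IsLocalRing.maximalIdeal A) A]
            AdicCompletion (IsLocalRing.maximalIdeal B) B)) := by
  refine ⟨⟨fun ⟨h1, h2, h3, h4⟩ => (etale_of A B ψ hψ h1 h2 h3 h4).1, of_etale A B ψ hψ⟩, ?_⟩
  intro het
  obtain ⟨h1, h2, h3, h4⟩ := of_etale A B ψ hψ het
  have hfin := (etale_of A B ψ hψ h1 h2 h3 h4).2
  have hfl : ψ.Flat := (Groth.Agent.S9231.result A B ψ hψ).mpr
    (RingHom.flat_algebraMap_iff.mpr h1)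
  let _ := ψ.toAlgebra
  have hfl' : Module.Flat (AdicCompletion (maximalIdeal A) A)
      (AdicCompletion (maximalIdeal B) B) := hfl
  have hfree : Module.Free (AdicCompletion (maximalIdeal A) A)
      (AdicCompletion (maximalIdeal B) B) := Module.free_of_flat_of_isLocalRing
  refine ⟨Module.finrank (AdicCompletion (maximalIdeal A) A) (AdicCompletion (maximalIdeal B) B),
    ?_, ⟨(Module.finBasis _ _).equivFun.symm⟩⟩
  rw [Module.finrank_pos_iff_of_free]
  infer_instance

end Groth.Agent.S9562
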