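import Groth.Statements.S1684
import Mathlib
import Groth.Agent.S1570

set_option autoImplicit false
universe u
open CategoryTheory CategoryTheory.Limits AlgebraicGeometry TopologicalSpace
open SDiv

namespace Groth.Agent.S1684

section helpers
open CategoryTheory CategoryTheory.Limits AlgebraicGeometry


theorem primeIdealOf_fromSpec {X : Scheme.{u}} {U : X.Opens} (hU : IsAffineOpen U)
    (Q : PrimeSpectrum Γ(X, U)) (hy : hU.fromSpec Q ∈ U) :
    hU.primeIdealOf ⟨hU.fromSpec Q, hy⟩ = Q := by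
  apply hU.fromSpec.isOpenEmbedding.injective
  rw [hU.fromSpec_primeIdealOf ⟨hU.fromSpec Q, hy⟩]

theorem fromSpec_mem {X : Scheme.{u}} {U : X.Opens} (hU : IsAffineOpen U)
    (Q : PrimeSpectrum Γ(X, U)) : hU.fromSpec Q ∈ U := by
  have : hU.fromSpec Q ∈ Set.range hU.fromSpec := ⟨Q, rfl⟩
  rw [hU.range_fromSpec] at this
  exact this

theorem le_primeIdealOf_of_mem_support {X : Scheme.{u}} (𝓘 : X.IdealSheafData) (U : X.affineOpens)
    (x : X) (hxU : x ∈ U.1) (hx : x ∈ 𝓘.support) :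
    𝓘.ideal U ≤ (U.2.primeIdealOf ⟨x, hxU⟩).asIdeal := by
  intro f hf
  rw [Scheme.IdealSheafData.mem_support_iff_of_mem hxU] at hx
  have := (Scheme.mem_zeroLocus_iff _ _ _).1 hx f hf
  by_contra hcon
  exact this ((Groth.Agent.S17386.mem_basicOpen_iff_notMem_primeIdealOf U.2 x hxU f).2 hcon)

theorem mem_support_of_le_primeIdealOf {X : Scheme.{u}} (𝓘 : X.IdealSheafData) (U : X.affineOpens)
    (x : X) (hxU : x ∈ U.1) (h : 𝓘.ideal U ≤ (U.2.primeIdealOf ⟨x, hxU⟩).asIdeal) :
    x ∈ 𝓘.support := by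
  rw [Scheme.IdealSheafData.mem_support_iff_of_mem hxU, Scheme.mem_zeroLocus_iff]
  intro f hf hmem
  exact (Groth.Agent.S17386.mem_basicOpen_iff_notMem_primeIdealOf U.2 x hxU f).1 hmem (h hf)


theorem main (X : Scheme.{u}) [IsLocallyNoetherian X] (𝓘 : X.IdealSheafData)
    [IsIntegral 𝓘.subscheme]
    (hcodim : ringKrullDim (X.presheaf.stalk (𝓘.subschemeι (genericPoint ↥𝓘.subscheme))) = 1)
    (hufd : ∀ x : ↥X, x ∈ 𝓘.support → IsDomain (X.presheaf.stalk x) ∧ UniqueFactorizationMonoid (X.presheaf.stalk x)) :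
    BlowUp.IsEffCartierIdeal 𝓘 := by
  apply Groth.Agent.S1570.main
  intro x hxD U hxU
  obtain ⟨hdom, hufm⟩ := hufd x hxD
  set I := 𝓘.ideal U with hI
  set p := U.2.primeIdealOf ⟨x, hxU⟩ with hp
  haveI : IsNoetherianRing Γ(X, U.1) := IsLocallyNoetherian.component_noetherian U
  -- (1) I is prime
  have hne : Nonempty (𝓘.subschemeι ⁻¹ᵁ U.1) := by
    have : x ∈ Set.range 𝓘.subschemeι := by
      rw [𝓘.range_subschemeι]; exact hxD
    obtain ⟨z, hz⟩ := this
    exact ⟨⟨z, by show 𝓘.subschemeι z ∈ U.1; rw [hz]; exact hxU⟩⟩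
  have hIprime : I.IsPrime := by
    rw [← Ideal.Quotient.isDomain_iff_prime]
    haveI : IsDomain Γ(𝓘.subscheme, 𝓘.subschemeι ⁻¹ᵁ U.1) := inferInstance
    exact (𝓘.subschemeObjIso U).commRingCatIsoToRingEquiv.symm.toMulEquiv.isDomain _
  -- (2)
  have hIp : I ≤ p.asIdeal := le_primeIdealOf_of_mem_support 𝓘 U x hxU hxD
  -- (3) the generic point of D lies in U
  set η := 𝓘.subschemeι (genericPoint ↥𝓘.subscheme) with hη
  have hηU : η ∈ U.1 := by
    have hgen : IsGenericPoint (genericPoint ↥𝓘.subscheme) (⊤ : Set 𝓘.subscheme) := genericPoint_spec _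
    have hopen : IsOpen ((𝓘.subschemeι ⁻¹ᵁ U.1 : 𝓘.subscheme.Opens) : Set 𝓘.subscheme) :=
      (𝓘.subschemeι ⁻¹ᵁ U.1).2
    have := (hgen.mem_open_set_iff hopen).2 (by
      obtain ⟨z⟩ := hne
      exact ⟨z.1, trivial, z.2⟩)
    exact this
  have hηD : η ∈ 𝓘.support := by
    have : η ∈ Set.range 𝓘.subschemeι := ⟨_, rfl⟩
    rw [𝓘.range_subschemeι] at this
    exact this
  -- (4) its prime is I
  have hPη : (U.2.primeIdealOf ⟨η, hηU⟩).asIdeal = I := by
    apply le_antisymm
    · let Q : PrimeSpectrum Γ(X, U.1) := ⟨I, hIprime⟩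
      have hyU := fromSpec_mem U.2 Q
      have hQ := primeIdealOf_fromSpec U.2 Q hyU
      have hyD : U.2.fromSpec Q ∈ 𝓘.support := by
        apply mem_support_of_le_primeIdealOf 𝓘 U _ hyU
        rw [hQ]
      have hyr : U.2.fromSpec Q ∈ Set.range 𝓘.subschemeι := by
        rw [𝓘.range_subschemeι]; exact hyD
      obtain ⟨d, hd⟩ := hyr
      have h1 : genericPoint ↥𝓘.subscheme ⤳ d := genericPoint_specializes d
      have h2 : η ⤳ U.2.fromSpec Q := by
        rw [← hd]; exact h1.map 𝓘.subschemeι.continuous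
      have hfe : U.2.fromSpec (U.2.primeIdealOf ⟨η, hηU⟩) = η := U.2.fromSpec_primeIdealOf ⟨η, hηU⟩
      rw [← hfe] at h2
      have h3 : U.2.primeIdealOf ⟨η, hηU⟩ ⤳ Q :=
        (U.2.fromSpec.isOpenEmbedding.toIsInducing.specializes_iff).1 h2
      exact (PrimeSpectrum.le_iff_specializes _ Q).2 h3
    · exact le_primeIdealOf_of_mem_support 𝓘 U η hηU hηD
  -- (5) height I = 1
  have hheight : I.height = 1 := by
    letI := TopCat.Presheaf.algebra_section_stalk X.presheaf (⟨η, hηU⟩ : U.1)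
    haveI : IsLocalization.AtPrime (X.presheaf.stalk η) (U.2.primeIdealOf ⟨η, hηU⟩).asIdeal :=
      U.2.isLocalization_stalk ⟨η, hηU⟩
    have := IsLocalization.AtPrime.ringKrullDim_eq_height (U.2.primeIdealOf ⟨η, hηU⟩).asIdeal
      (X.presheaf.stalk η)
    rw [hcodim, hPη] at this
    exact_mod_cast this.symm
  -- (6) the extended ideal
  letI := TopCat.Presheaf.algebra_section_stalk X.presheaf (⟨x, hxU⟩ : U.1)
  haveI hloc : IsLocalization.AtPrime (X.presheaf.stalk x) p.asIdeal := U.2.isLocalization_stalk ⟨x, hxU⟩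
  have hdisj : Disjoint (p.asIdeal.primeCompl : Set Γ(X, U.1)) (I : Set Γ(X, U.1)) := by
    rw [Set.disjoint_left]
    intro a ha haI
    exact ha (hIp haI)
  set J := I.map (algebraMap Γ(X, U.1) (X.presheaf.stalk x)) with hJ
  haveI hJprime : J.IsPrime :=
    IsLocalization.isPrime_of_isPrime_disjoint p.asIdeal.primeCompl _ I hIprime hdisj
  have hJheight : J.height = 1 := by
    rw [hJ, IsLocalization.height_map_of_disjoint p.asIdeal.primeCompl I hdisj, hheight]
  have hprinc : J.IsPrincipal := UniqueFactorizationMonoid.isPrincipal_of_height_eq_one hJheight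
  obtain ⟨g, hg⟩ := hprinc
  have hJne : J ≠ ⊥ := J.ne_bot_of_height_eq_one hJheight
  have hg0 : g ≠ 0 := by
    rintro rfl
    apply hJne
    rw [hg]
    simp
  refine ⟨g, mem_nonZeroDivisors_of_ne_zero hg0, ?_⟩
  exact hg


end helpers


/-- Let X be a locally Noetherian scheme and 𝓘 a quasi-coherent ideal sheaf whose closed subscheme D is
integral, of codimension 1 in X (the local ring of X at the generic point of D has dimension 1), and
such that the local ring of X at every point of D is a unique factorisation domain. Then 𝓘 is the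
ideal sheaf of an effective Cartier divisor. -/
theorem result (X : Scheme.{u}) [IsLocallyNoetherian X] (𝓘 : X.IdealSheafData)
    [IsIntegral 𝓘.subscheme]
    (hcodim : ringKrullDim (X.presheaf.stalk (𝓘.subschemeι (genericPoint ↥𝓘.subscheme))) = 1)
    (hufd : ∀ x : ↥X, x ∈ 𝓘.support → IsDomain (X.presheaf.stalk x) ∧ UniqueFactorizationMonoid (X.presheaf.stalk x)) :
    BlowUp.IsEffCartierIdeal 𝓘 := by
  exact main X 𝓘 hcodim hufd

end Groth.Agent.S1684
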