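import Groth.Statements.S12707
import Mathlib
-- import your own Groth.Agent.* helpers here

set_option autoImplicit false
universe u v
open CategoryTheory
open ArtFun ArtFun.Art

namespace Groth.Agent.S12707

variable {Λ : Type u} {k : Type u} [CommRing Λ] [Field k] [Algebra Λ k]

/-- A bijective morphism in `Art Λ k` is an isomorphism. -/
theorem isIso_of_bijective {A B : ArtFun.Art Λ k} (f : B ⟶ A) (hf : Function.Bijective f) : IsIso f := by
  let e : B ≃ₐ[Λ] A := AlgEquiv.ofBijective f.toAlgHom hf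
  have he : ∀ b, e b = f b := fun _ => rfl
  refine ⟨⟨ArtFun.Art.homMk (e.symm : A →ₐ[Λ] B) ?_, ?_, ?_⟩⟩
  · apply AlgHom.ext
    intro a
    obtain ⟨b, rfl⟩ := e.surjective a
    simp only [AlgHom.comp_apply, AlgEquiv.coe_toAlgHom, AlgEquiv.symm_apply_apply]
    rw [he, ArtFun.Art.res_app]
  · apply ArtFun.Art.hom_ext
    apply AlgHom.ext
    intro b
    change e.symm (f b) = b
    rw [← he, AlgEquiv.symm_apply_apply]
  · apply ArtFun.Art.hom_ext
    apply AlgHom.ext
    intro a
    change f (e.symm a) = a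
    rw [← he, AlgEquiv.apply_symm_apply]

/-- In an Artinian local ring, a nonzero ideal contains a nonzero element killed by the maximal ideal. -/
theorem exists_socle_elt (B : Type u) [CommRing B] [IsLocalRing B] [IsArtinianRing B]
    (K : Ideal B) (hK : K ≠ ⊥) :
    ∃ x ∈ K, x ≠ 0 ∧ IsLocalRing.maximalIdeal B * Ideal.span {x} = ⊥ := by
  classical
  obtain ⟨N, hN⟩ : ∃ N : ℕ, IsLocalRing.maximalIdeal B ^ N = ⊥ := by
    have := IsArtinianRing.isNilpotent_jacobson_bot (R := B)
    rw [IsLocalRing.jacobson_eq_maximalIdeal ⊥ bot_ne_top] at this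
    exact this
  have hex : ∃ n : ℕ, IsLocalRing.maximalIdeal B ^ n * K = ⊥ := ⟨N, by rw [hN, Ideal.bot_mul]⟩
  set n := Nat.find hex with hn
  have hn0 : n ≠ 0 := by
    intro h0
    have := Nat.find_spec hex
    rw [← hn, h0, pow_zero, Ideal.one_eq_top, Ideal.top_mul] at this
    exact hK this
  obtain ⟨m, hm⟩ := Nat.exists_eq_succ_of_ne_zero hn0
  have hmin : IsLocalRing.maximalIdeal B ^ m * K ≠ ⊥ := by
    apply Nat.find_min hex
    rw [← hn, hm]
    exact Nat.lt_succ_self m
  obtain ⟨x, hx, hx0⟩ := Submodule.exists_mem_ne_zero_of_ne_bot hmin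
  refine ⟨x, Ideal.mul_le_right hx, hx0, ?_⟩
  rw [eq_bot_iff, Ideal.mul_le]
  intro r hr y hy
  obtain ⟨c, rfl⟩ := Ideal.mem_span_singleton'.mp hy
  have h1 : r * x ∈ IsLocalRing.maximalIdeal B ^ n * K := by
    rw [hm, pow_succ', mul_assoc]
    exact Ideal.mul_mem_mul hr hx
  rw [hn, Nat.find_spec hex] at h1
  rw [Ideal.mem_bot] at h1 ⊢
  rw [mul_left_comm, h1, mul_zero]

/-- A surjection with nonzero kernel factors as a small extension followed by a surjection from a
ring of smaller length. -/
theorem exists_factor {A B : ArtFun.Art Λ k} (f : B ⟶ A) (hf : Function.Surjective f)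
    (hK : RingHom.ker f.toAlgHom ≠ ⊥) :
    ∃ (B' : ArtFun.Art Λ k) (π : B ⟶ B') (g : B' ⟶ A), π ≫ g = f ∧ ArtFun.Art.IsSmallExt π ∧
      Function.Surjective g ∧ Module.length B' B' < Module.length B B := by
  obtain ⟨x, hxK, hx0, hxm⟩ := exists_socle_elt B (RingHom.ker f.toAlgHom) hK
  have hfx : f x = 0 := hxK
  have hresx : B.res x = 0 := by rw [← ArtFun.Art.res_app f, hfx, map_zero]
  set I : Ideal B := Ideal.span {x} with hI
  have hIres : ∀ a ∈ I, B.res a = 0 := by
    intro a ha
    obtain ⟨c, rfl⟩ := Ideal.mem_span_singleton'.mp ha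
    rw [map_mul, hresx, mul_zero]
  have hIf : ∀ a ∈ I, f.toAlgHom a = 0 := by
    intro a ha
    obtain ⟨c, rfl⟩ := Ideal.mem_span_singleton'.mp ha
    rw [map_mul]
    change _ * f x = 0
    rw [hfx, mul_zero]
  have hItop : I ≠ ⊤ := by
    intro h
    have : (1 : B) ∈ I := by rw [h]; trivial
    have := hIres 1 this
    rw [map_one] at this
    exact one_ne_zero this
  haveI : Nontrivial (B ⧸ I) := Ideal.Quotient.nontrivial_iff.mpr hItop
  haveI : IsLocalRing (B ⧸ I) :=
    IsLocalRing.of_surjective' (Ideal.Quotient.mk I) Ideal.Quotient.mk_surjective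
  let res' : (B ⧸ I) →ₐ[Λ] k := Ideal.Quotient.liftₐ I B.res hIres
  have hres' : Function.Surjective res' := by
    intro c
    obtain ⟨b, rfl⟩ := B.res_surjective c
    exact ⟨Ideal.Quotient.mk I b, rfl⟩
  let B' : ArtFun.Art Λ k := ArtFun.Art.of (B ⧸ I) res' hres'
  let π : B ⟶ B' := ArtFun.Art.homMk (Ideal.Quotient.mkₐ Λ I) (by
    apply AlgHom.ext
    intro b
    rfl)
  let g : B' ⟶ A := ArtFun.Art.homMk (Ideal.Quotient.liftₐ I f.toAlgHom hIf) (by
    apply Ideal.Quotient.algHom_ext
    apply AlgHom.ext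
    intro b
    change A.res (f b) = B.res b
    exact ArtFun.Art.res_app f b)
  have hπsurj : Function.Surjective π := Ideal.Quotient.mk_surjective
  have hkerπ : RingHom.ker π.toAlgHom = I := by
    ext b
    change Ideal.Quotient.mk I b = 0 ↔ b ∈ I
    exact Ideal.Quotient.eq_zero_iff_mem
  refine ⟨B', π, g, ?_, ⟨hπsurj, ?_, ?_, ?_⟩, ?_, ?_⟩
  · apply ArtFun.Art.hom_ext
    apply AlgHom.ext
    intro b
    rfl
  · rw [hkerπ]
    intro h
    apply hx0
    have : x ∈ I := Ideal.mem_span_singleton_self x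
    rw [h] at this
    exact this
  · rw [hkerπ]
    exact ⟨⟨x, rfl⟩⟩
  · rw [hkerπ]
    exact hxm
  · intro a
    obtain ⟨b, rfl⟩ := hf a
    exact ⟨Ideal.Quotient.mk I b, rfl⟩
  · have h1 : Module.length B' B' = Module.length B (B ⧸ I) := by
      symm
      exact Module.length_eq_of_surjective (S := B) (R := (B ⧸ I)) (M := (B ⧸ I))
        Ideal.Quotient.mk_surjective
    rw [h1]
    have hIbot : I ≠ ⊥ := by
      intro h
      apply hx0
      have : x ∈ I := Ideal.mem_span_singleton_self x
      rw [h] at this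
      exact this
    exact Submodule.length_quotient_lt I hIbot

/-- In the category of Artinian local Λ-algebras with residue field k (Λ Noetherian, Λ → k finite),
every surjective morphism is a composite of small extensions. Stated as the equivalent induction
principle: a property of morphisms that holds for isomorphisms and for small extensions and is
stable under composition holds for every surjective morphism. -/
theorem result {Λ : Type u} {k : Type u} [CommRing Λ] [Field k] [Algebra Λ k]
    [IsNoetherianRing Λ] [Module.Finite Λ k]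
    (P : ∀ ⦃A B : ArtFun.Art Λ k⦄, (B ⟶ A) → Prop)
    (hiso : ∀ ⦃A B : ArtFun.Art Λ k⦄ (e : B ⟶ A), IsIso e → P e)
    (hsmall : ∀ ⦃A B : ArtFun.Art Λ k⦄ (p : B ⟶ A), ArtFun.Art.IsSmallExt p → P p)
    (hcomp : ∀ ⦃A B C : ArtFun.Art Λ k⦄ (p : C ⟶ B) (q : B ⟶ A), P p → P q → P (p ≫ q))
    ⦃A B : ArtFun.Art Λ k⦄ (f : B ⟶ A) (hf : Function.Surjective f) : P f := by
  -- strong induction on the length of the source
  have key : ∀ (n : ℕ) ⦃A B : ArtFun.Art Λ k⦄ (f : B ⟶ A), Function.Surjective f →
      Module.length B B = n → P f := by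
    intro n
    induction n using Nat.strong_induction_on with
    | _ n ih =>
      intro A B f hf hlen
      by_cases hK : RingHom.ker f.toAlgHom = ⊥
      · apply hiso
        apply isIso_of_bijective
        refine ⟨?_, hf⟩
        exact (RingHom.injective_iff_ker_eq_bot (f.toAlgHom : B →+* A)).mpr hK
      · obtain ⟨B', π, g, hcompeq, hπ, hg, hlt⟩ := exists_factor f hf hK
        rw [← hcompeq]
        have hfin : Module.length B' B' ≠ ⊤ := ne_top_of_lt hlt
        obtain ⟨m, hm⟩ := ENat.ne_top_iff_exists.mp hfin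
        have hmn : m < n := by
          rw [hlen, ← hm] at hlt
          exact_mod_cast hlt
        exact hcomp π g (hsmall π hπ) (ih m hmn g hg hm.symm)
  have hfin : Module.length B B ≠ ⊤ := Module.length_ne_top
  obtain ⟨n, hn⟩ := ENat.ne_top_iff_exists.mp hfin
  exact key n f hf hn.symm

end Groth.Agent.S12707
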