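import Groth.Statements.S12708
import Mathlib
-- import your own Groth.Agent.* helpers here

set_option autoImplicit false
universe u v
open CategoryTheory
open ArtFun

namespace Groth.Agent.S12708

section
variable {Λ : Type u} {k : Type u} [CommRing Λ] [Field k] [Algebra Λ k]
variable (A : Type u) [CommRing A] [Algebra Λ A] [IsLocalRing A] [Algebra A k] [IsScalarTower Λ A k]

/-- a simple `A`-module has the same `Λ`-length as the residue field `k` -/
theorem length_simple (hres : Function.Surjective (algebraMap A k))
    (S : Type v) [AddCommGroup S] [Module A S] [Module Λ S] [IsScalarTower Λ A S]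
    [hS : IsSimpleModule A S] : Module.length Λ S = Module.length Λ k := by
  obtain ⟨I, hI, ⟨e⟩⟩ := isSimpleModule_iff_quot_maximal.mp hS
  have hI' : I = IsLocalRing.maximalIdeal A := IsLocalRing.eq_maximalIdeal hI
  have hker : LinearMap.ker (Algebra.linearMap A k) = I := by
    rw [hI']
    have hmax : (RingHom.ker (algebraMap A k)).IsMaximal :=
      RingHom.ker_isMaximal_of_surjective (algebraMap A k) hres
    have := IsLocalRing.eq_maximalIdeal hmax
    rw [← this]
    ext x
    simp [RingHom.mem_ker]
  let e2 : (A ⧸ LinearMap.ker (Algebra.linearMap A k)) ≃ₗ[A] k :=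
    (Algebra.linearMap A k).quotKerEquivOfSurjective hres
  let e3 : (A ⧸ I) ≃ₗ[A] (A ⧸ LinearMap.ker (Algebra.linearMap A k)) :=
    Submodule.quotEquivOfEq _ _ hker.symm
  let e4 : S ≃ₗ[A] k := e.trans (e3.trans e2)
  exact (e4.restrictScalars Λ).length_eq

theorem key (hres : Function.Surjective (algebraMap A k)) :
    ∀ (n : ℕ) (M : Type v) [AddCommGroup M] [Module A M] [Module Λ M] [IsScalarTower Λ A M],
      Module.length A M = n → Module.length Λ M = Module.length Λ k * n := by
  intro n
  induction n with
  | zero =>
    intro M _ _ _ _ h
    have : Subsingleton M := Module.length_eq_zero_iff.mp (by simpa using h)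
    rw [Module.length_eq_zero_iff.mpr this]
    simp
  | succ n ih =>
    intro M _ _ _ _ h
    have hfin : IsFiniteLength A M := by
      rw [← Module.length_ne_top_iff, h]
      exact ENat.natCast_ne_top _
    obtain ⟨hNoeth, hArt⟩ := isFiniteLength_iff_isNoetherian_isArtinian.mp hfin
    have hnt : Nontrivial M := by
      rw [← Module.length_pos_iff (R := A), h]
      exact_mod_cast Nat.succ_pos n
    obtain ⟨S, hS, -⟩ := (IsAtomic.eq_bot_or_exists_atom_le (⊤ : Submodule A M)).resolve_left top_ne_bot
    have hSsimple : IsSimpleModule A S := isSimpleModule_iff_isAtom.mpr hS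
    have hA := Module.length_eq_add_of_exact S.subtype S.mkQ (Submodule.subtype_injective _)
      (Submodule.mkQ_surjective _) (LinearMap.exact_subtype_mkQ S)
    rw [Module.length_eq_one A S, h] at hA
    have hq : Module.length A (M ⧸ S) = n := by
      have h1 : ((n : ℕ∞) + 1) = 1 + Module.length A (M ⧸ S) := by exact_mod_cast hA
      rw [add_comm] at h1
      exact (WithTop.add_left_cancel (ENat.one_ne_top) h1).symm
    have hΛ := Module.length_eq_add_of_exact (R := Λ) (S.subtype.restrictScalars Λ)
      (S.mkQ.restrictScalars Λ) (Submodule.subtype_injective _)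
      (Submodule.mkQ_surjective _) (LinearMap.exact_subtype_mkQ S)
    rw [hΛ, length_simple A hres S, ih (M ⧸ S) hq]
    push_cast
    ring

end

/-- For Λ Noetherian with a finite map to a field k, A a local Λ-algebra whose residue field is k
(through a surjective Λ-algebra map A → k) and M an A-module, the length of M over Λ equals the
degree of k over the image of Λ times the length of M over A. The degree is written as the length of
k as a Λ-module, which is the same number; lengths are in ℕ∞. -/
theorem result {Λ : Type u} {k : Type u} [CommRing Λ] [Field k] [Algebra Λ k]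
    [IsNoetherianRing Λ] [Module.Finite Λ k]
    (A : Type u) [CommRing A] [Algebra Λ A] [IsLocalRing A] [Algebra A k] [IsScalarTower Λ A k]
    (hres : Function.Surjective (algebraMap A k))
    (M : Type v) [AddCommGroup M] [Module A M] [Module Λ M] [IsScalarTower Λ A M] :
    Module.length Λ k * Module.length A M = Module.length Λ M := by
  by_cases hfin : IsFiniteLength A M
  · have hne : Module.length A M ≠ ⊤ := Module.length_ne_top_iff.mpr hfin
    obtain ⟨n, hn⟩ := ENat.ne_top_iff_exists.mp hne
    rw [← hn, key A hres n M hn.symm]
  · have htop : Module.length A M = ⊤ := by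
      by_contra h
      exact hfin (Module.length_ne_top_iff.mp h)
    have hΛtop : Module.length Λ M = ⊤ := by
      have h1 := Submodule.length_le_length_restrictScalars Λ (⊤ : Submodule A M)
      rw [Module.length_top, htop, top_le_iff] at h1
      rw [← h1, Submodule.restrictScalars_top, Module.length_top]
    rw [htop, hΛtop]
    apply ENat.mul_top
    exact (Module.length_pos (R := Λ) (M := k)).ne'

end Groth.Agent.S12708
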