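import Groth.Statements.S12710
import Groth.Agent.S12708
import Mathlib
-- import your own Groth.Agent.* helpers here

set_option autoImplicit false
set_option linter.style.haveILetI false
set_option linter.unusedSectionVars false
universe u v
open CategoryTheory
open ArtFun ArtFun.Art

namespace Groth.Agent.S12710

section
variable {Λ : Type u} {k : Type u} [CommRing Λ] [Field k] [Algebra Λ k]
  [IsNoetherianRing Λ] [Module.Finite Λ k]

/-- `k` has finite length as a `Λ`-module. -/
theorem isArtinian_base : IsArtinian Λ k := by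
  -- the kernel of Λ → k is maximal
  haveI : Algebra.IsIntegral Λ k := Algebra.IsIntegral.of_finite Λ k
  have hmax : (RingHom.ker (algebraMap Λ k)).IsMaximal := by
    have h := Ideal.isMaximal_comap_of_isIntegral_of_isMaximal (R := Λ) (S := k) (⊥ : Ideal k)
    exact h
  letI : Field (Λ ⧸ RingHom.ker (algebraMap Λ k)) := Ideal.Quotient.field _
  letI : Algebra (Λ ⧸ RingHom.ker (algebraMap Λ k)) k :=
    (RingHom.kerLift (algebraMap Λ k)).toAlgebra
  haveI : IsScalarTower Λ (Λ ⧸ RingHom.ker (algebraMap Λ k)) k :=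
    IsScalarTower.of_algebraMap_eq (fun x => rfl)
  haveI : Module.Finite (Λ ⧸ RingHom.ker (algebraMap Λ k)) k :=
    Module.Finite.of_restrictScalars_finite Λ _ k
  haveI : IsArtinian (Λ ⧸ RingHom.ker (algebraMap Λ k)) k := inferInstance
  exact isArtinian_of_surjective_algebraMap (S := Λ) (R := Λ ⧸ RingHom.ker (algebraMap Λ k))
    Ideal.Quotient.mk_surjective

/-- every object of `Art Λ k` has finite length as a `Λ`-module. -/
theorem isArtinian_obj (A : ArtFun.Art Λ k) : IsArtinian Λ A := by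
  letI : Algebra A k := A.res.toRingHom.toAlgebra
  haveI : IsScalarTower Λ A k := IsScalarTower.of_algebraMap_eq (fun x => (A.res.commutes x).symm)
  have hres : Function.Surjective (algebraMap A k) := A.res_surjective
  have h := Groth.Agent.S12708.result (Λ := Λ) (k := k) A hres A
  haveI := isArtinian_base (Λ := Λ) (k := k)
  have h1 : Module.length Λ k ≠ ⊤ := Module.length_ne_top
  have h2 : Module.length A A ≠ ⊤ := Module.length_ne_top
  have h3 : Module.length Λ A ≠ ⊤ := by
    rw [← h]
    exact WithTop.mul_ne_top h1 h2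
  exact (isFiniteLength_iff_isNoetherian_isArtinian.mp (Module.length_ne_top_iff.mp h3)).2

end

/-- In the category of Artinian local Λ-algebras with residue field k, if f₂ : A₂ → A is surjective then
for every f₁ : A₁ → A the set-theoretic fibre product A₁ ×_A A₂ is again an object of the category:
some object B with projections to A₁ and A₂ maps bijectively onto it. (The case f₁ surjective
follows by symmetry.) -/
theorem result {Λ : Type u} {k : Type u} [CommRing Λ] [Field k] [Algebra Λ k]
    [IsNoetherianRing Λ] [Module.Finite Λ k]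
    {A A₁ A₂ : ArtFun.Art Λ k} (f₁ : A₁ ⟶ A) (f₂ : A₂ ⟶ A) (hf₂ : Function.Surjective f₂) :
    ∃ (B : ArtFun.Art Λ k) (p₁ : B ⟶ A₁) (p₂ : B ⟶ A₂), ArtFun.Art.IsFibreProd p₁ p₂ f₁ f₂ := by
  haveI : IsLocalHom f₂.toAlgHom := ArtFun.Art.isLocalHom f₂
  haveI : IsLocalRing (AlgHom.pullback f₁.toAlgHom f₂.toAlgHom) :=
    AlgHom.isLocalRing_pullback f₁.toAlgHom f₂.toAlgHom
  haveI : IsArtinianRing (AlgHom.pullback f₁.toAlgHom f₂.toAlgHom) := by
    haveI := isArtinian_obj A₁
    haveI := isArtinian_obj A₂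
    have h1 : IsArtinian Λ (AlgHom.pullback f₁.toAlgHom f₂.toAlgHom) :=
      isArtinian_of_injective (AlgHom.pullback f₁.toAlgHom f₂.toAlgHom).val.toLinearMap
        Subtype.val_injective
    exact isArtinian_of_tower Λ h1
  have hfst : Function.Surjective (AlgHom.pullbackFst f₁.toAlgHom f₂.toAlgHom) :=
    AlgHom.surjective_pullbackFst_of_surjective f₁.toAlgHom f₂.toAlgHom hf₂
  let B : ArtFun.Art Λ k := ArtFun.Art.of (AlgHom.pullback f₁.toAlgHom f₂.toAlgHom)
    (A₁.res.comp (AlgHom.pullbackFst f₁.toAlgHom f₂.toAlgHom))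
    (A₁.res_surjective.comp hfst)
  let p₁ : B ⟶ A₁ := ArtFun.Art.homMk (AlgHom.pullbackFst f₁.toAlgHom f₂.toAlgHom) rfl
  let p₂ : B ⟶ A₂ := ArtFun.Art.homMk (AlgHom.pullbackSnd f₁.toAlgHom f₂.toAlgHom) (by
    apply AlgHom.ext
    intro b
    change A₂.res b.1.2 = A₁.res b.1.1
    rw [← ArtFun.Art.res_app f₂, ← ArtFun.Art.res_app f₁]
    exact congrArg A.res b.2.symm)
  refine ⟨B, p₁, p₂, ?_, ?_, ?_⟩
  · apply ArtFun.Art.hom_ext
    exact AlgHom.pullback_comm_sq f₁.toAlgHom f₂.toAlgHom
  · intro b₁ b₂ h1 h2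
    exact Subtype.ext (Prod.ext h1 h2)
  · intro a' a'' h
    exact ⟨⟨(a', a''), h⟩, rfl, rfl⟩

end Groth.Agent.S12710
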