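import Groth.Statements.S12727
import Mathlib

set_option autoImplicit false
universe u v
open CategoryTheory
open ArtFun

namespace Groth.Agent.S12727

section helpers
open ArtFun

variable {Λ : Type u} {k : Type u} [CommRing Λ] [Field k] [Algebra Λ k]

/-- lifting a compatible pair of algebra maps into a fibre product -/
theorem exists_lift_algHom {B A A' A'' : ArtFun.Art Λ k} {p' : B ⟶ A'} {p'' : B ⟶ A''}
    {f' : A' ⟶ A} {f'' : A'' ⟶ A} (h : ArtFun.Art.IsFibreProd p' p'' f' f'')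
    {C : Type u} [CommRing C] [Algebra Λ C] (g' : C →ₐ[Λ] A') (g'' : C →ₐ[Λ] A'')
    (hg : f'.toAlgHom.comp g' = f''.toAlgHom.comp g'') :
    ∃ g : C →ₐ[Λ] B, p'.toAlgHom.comp g = g' ∧ p''.toAlgHom.comp g = g'' := by
  have hc : ∀ c : C, f' (g' c) = f'' (g'' c) := fun c => congrArg (fun ψ => ψ c) hg
  choose t ht' ht'' using fun c : C => h.surj (g' c) (g'' c) (hc c)
  have hext : ∀ b₁ b₂ : B, p' b₁ = p' b₂ → p'' b₁ = p'' b₂ → b₁ = b₂ := h.inj
  let g : C →ₐ[Λ] B :=
    { toFun := t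
      map_one' := by
        apply hext
        · rw [ht']; simp
        · rw [ht'']; simp
      map_mul' := fun c d => by
        apply hext
        · rw [ht']
          show g' (c * d) = p'.toAlgHom (t c * t d)
          rw [map_mul, map_mul]
          show _ = p' (t c) * p' (t d)
          rw [ht', ht']
        · rw [ht'']
          show g'' (c * d) = p''.toAlgHom (t c * t d)
          rw [map_mul, map_mul]
          show _ = p'' (t c) * p'' (t d)
          rw [ht'', ht'']
      map_zero' := by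
        apply hext
        · rw [ht']; simp
        · rw [ht'']; simp
      map_add' := fun c d => by
        apply hext
        · rw [ht']
          show g' (c + d) = p'.toAlgHom (t c + t d)
          rw [map_add, map_add]
          show _ = p' (t c) + p' (t d)
          rw [ht', ht']
        · rw [ht'']
          show g'' (c + d) = p''.toAlgHom (t c + t d)
          rw [map_add, map_add]
          show _ = p'' (t c) + p'' (t d)
          rw [ht'', ht'']
      commutes' := fun r => by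
        apply hext
        · rw [ht']
          show g' (algebraMap Λ C r) = p'.toAlgHom (algebraMap Λ B r)
          rw [AlgHom.commutes, AlgHom.commutes]
        · rw [ht'']
          show g'' (algebraMap Λ C r) = p''.toAlgHom (algebraMap Λ B r)
          rw [AlgHom.commutes, AlgHom.commutes] }
  exact ⟨g, AlgHom.ext fun c => ht' c, AlgHom.ext fun c => ht'' c⟩


theorem exists_lift_homSet {B A A' A'' : ArtFun.Art Λ k} {p' : B ⟶ A'} {p'' : B ⟶ A''}
    {f' : A' ⟶ A} {f'' : A'' ⟶ A} (h : ArtFun.Art.IsFibreProd p' p'' f' f'')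
    {R : Type u} [CommRing R] [Algebra Λ R] {resR : R →ₐ[Λ] k}
    (φ' : ArtFun.HomSet R resR A') (φ'' : ArtFun.HomSet R resR A'')
    (hφ : ArtFun.HomSet.map f' φ' = ArtFun.HomSet.map f'' φ'') :
    ∃ ψ : ArtFun.HomSet R resR B, ArtFun.HomSet.map p' ψ = φ' ∧ ArtFun.HomSet.map p'' ψ = φ'' := by
  obtain ⟨g, hg', hg''⟩ := exists_lift_algHom h φ'.1 φ''.1 (congrArg Subtype.val hφ)
  refine ⟨⟨g, ?_⟩, Subtype.ext hg', Subtype.ext hg''⟩
  rw [← p'.res_comp, AlgHom.comp_assoc, hg', φ'.2]

theorem exists_lift_hom {B A A' A'' : ArtFun.Art Λ k} {p' : B ⟶ A'} {p'' : B ⟶ A''}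
    {f' : A' ⟶ A} {f'' : A'' ⟶ A} (h : ArtFun.Art.IsFibreProd p' p'' f' f'')
    {C : ArtFun.Art Λ k} (g' : C ⟶ A') (g'' : C ⟶ A'') (hg : g' ≫ f' = g'' ≫ f'') :
    ∃ g : C ⟶ B, g ≫ p' = g' ∧ g ≫ p'' = g'' := by
  obtain ⟨g, hg', hg''⟩ := exists_lift_algHom h g'.toAlgHom g''.toAlgHom
    (congrArg ArtFun.Art.Hom.toAlgHom hg)
  refine ⟨⟨g, ?_⟩, ArtFun.Art.hom_ext hg', ArtFun.Art.hom_ext hg''⟩
  rw [← p'.res_comp, AlgHom.comp_assoc, hg', g'.res_comp]

/-- a versal family of a functor with `F(k)` a point is surjective on every object -/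
theorem surjective_app_of_isVersal {F : ArtFun.Art Λ k ⥤ Type v} (h0 : ArtFun.H0 F)
    {R : ArtFun.CRing Λ k} (ξ : ArtFun.Family R.carrier R.res F) (hver : ArtFun.IsVersal ξ)
    (A : ArtFun.Art Λ k) : Function.Surjective (ξ.app A) := by
  intro y
  let φ₀ : ArtFun.HomSet R.carrier R.res (ArtFun.Art.base Λ k) := ⟨R.res, AlgHom.id_comp _⟩
  have hsubF : Subsingleton (F.obj (ArtFun.Art.base Λ k)) := h0.2
  obtain ⟨ψ, -, hψ⟩ := hver (ArtFun.Art.toBase A) A.res_surjective φ₀ y (Subsingleton.elim _ _)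
  exact ⟨ψ, hψ⟩

end helpers


/-- For functors, a functor on Artinian local Λ-algebras with residue field k with F(k) a point which
admits a versal family (over a complete local Noetherian ring with residue field k) satisfies
condition (S1). -/
theorem result {Λ : Type u} {k : Type u} [CommRing Λ] [Field k] [Algebra Λ k]
    [IsNoetherianRing Λ] [Module.Finite Λ k]
    (F : ArtFun.Art Λ k ⥤ Type v) (h0 : ArtFun.H0 F) (hv : ArtFun.HasVersal F) :
    ArtFun.S1 F := by
  intro B A A' A'' p' p'' f' f'' h hf''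
  rintro ⟨⟨x', x''⟩, hx⟩
  obtain ⟨⟨R, ξ, hver⟩⟩ := hv
  obtain ⟨φ', hφ'⟩ := surjective_app_of_isVersal h0 ξ hver A' x'
  have hx' : F.map f' x' = F.map f'' x'' := hx
  have h1 : F.map f'' x'' = ξ.app A (ArtFun.HomSet.map f' φ') := by
    rw [ξ.natural, hφ', hx']
  obtain ⟨φ'', hφ''1, hφ''2⟩ := hver f'' hf'' (ArtFun.HomSet.map f' φ') x'' h1
  obtain ⟨ψ, hψ', hψ''⟩ := exists_lift_homSet h φ' φ'' hφ''1.symm
  refine ⟨ξ.app B ψ, ?_⟩
  apply Subtype.ext
  apply Prod.ext
  · show F.map p' (ξ.app B ψ) = x'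
    rw [← ξ.natural, hψ', hφ']
  · show F.map p'' (ξ.app B ψ) = x''
    rw [← ξ.natural, hψ'', hφ''2]

end Groth.Agent.S12727
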