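import Groth.Statements.S9235
import Mathlib

set_option autoImplicit false
universe u
open Brnch

namespace Groth.Agent.S9235

theorem isDomain_of_local_normalization (B : Type u) [CommRing B] [IsReduced B] [Nontrivial B]
    (hfin : (minimalPrimes B).Finite)
    (hloc : IsLocalRing (integralClosure B (FractionRing B))) : IsDomain B := by
  classical
  by_contra hnd
  have hnil : sInf (minimalPrimes B) = (⊥ : Ideal B) := by
    show sInf ((⊥ : Ideal B).minimalPrimes) = ⊥
    rw [Ideal.sInf_minimalPrimes]
    exact nilradical_eq_zero B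
  obtain ⟨⟨p, hp⟩⟩ := Ideal.nonempty_minimalPrimes (I := (⊥ : Ideal B)) bot_ne_top
  have hp' : p ∈ minimalPrimes B := hp
  have hpprime : p.IsPrime := hp.1.1
  set rest : Set (Ideal B) := minimalPrimes B \ {p} with hrest
  set q : Ideal B := sInf rest with hq
  have hmin : ∀ r ∈ minimalPrimes B, ∀ r' : Ideal B, r'.IsPrime → r' ≤ r → r ≤ r' := by
    intro r hr r' hr' hle
    exact hr.2 ⟨hr', bot_le⟩ hle
  have hrest_ne : rest.Nonempty := by
    by_contra hempty
    rw [Set.not_nonempty_iff_eq_empty] at hempty
    have hsub : minimalPrimes B = {p} := by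
      apply Set.eq_of_subset_of_subset
      · intro r hr
        by_contra hne
        have : r ∈ rest := ⟨hr, hne⟩
        rw [hempty] at this
        exact this
      · intro r hr
        rw [Set.mem_singleton_iff] at hr
        rw [hr]; exact hp'
    rw [hsub, sInf_singleton] at hnil
    rw [hnil] at hpprime
    exact hnd (@IsDomain.of_bot_isPrime B _ hpprime)
  have hpq : p ⊓ q = ⊥ := by
    rw [eq_bot_iff, ← hnil]
    apply le_sInf
    intro r hr
    by_cases hrp : r = p
    · rw [hrp]; exact inf_le_left
    · exact inf_le_right.trans (sInf_le ⟨hr, hrp⟩)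
  -- p ⊔ q is not contained in any minimal prime
  have hnot : ∀ r ∈ minimalPrimes B, ¬ (p ⊔ q ≤ r) := by
    intro r hr hle
    have hpr : p = r := le_antisymm (le_sup_left.trans hle) (hmin r hr p hpprime (le_sup_left.trans hle))
    have hqp : q ≤ p := hpr ▸ (le_sup_right.trans hle)
    have hrestfin : rest.Finite := hfin.subset Set.sdiff_subset
    have : hrestfin.toFinset.inf id ≤ p := by
      rw [Finset.inf_id_eq_sInf, Set.Finite.coe_toFinset]
      exact hqp
    obtain ⟨r', hr', hr'p⟩ := (Ideal.IsPrime.inf_le' hpprime).1 this
    rw [Set.Finite.mem_toFinset] at hr'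
    have : p ≤ r' := hmin p hp' r' hr'.1.1.1 hr'p
    exact hr'.2 (le_antisymm hr'p this)
  have havoid : ¬ ((p ⊔ q : Ideal B) : Set B) ⊆ ⋃ i ∈ (↑hfin.toFinset : Set (Ideal B)), (id i : Ideal B) := by
    intro h
    obtain ⟨i, hi, hle⟩ := (Ideal.subset_union_prime (f := id) p p (fun i hi _ _ => by
      rw [Set.Finite.mem_toFinset] at hi
      exact hi.1.1)).1 h
    rw [Set.Finite.mem_toFinset] at hi
    exact hnot i hi hle
  rw [Set.not_subset] at havoid
  obtain ⟨s, hs, hsn⟩ := havoid
  have hsn' : ∀ r ∈ minimalPrimes B, s ∉ r := by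
    intro r hr hsr
    apply hsn
    simp only [Set.mem_iUnion]
    exact ⟨r, by simpa using hr, hsr⟩
  have hsnzd : s ∈ nonZeroDivisors B := by
    rw [mem_nonZeroDivisors_iff_right]
    intro b hb
    have : b ∈ sInf (minimalPrimes B) := by
      rw [Ideal.mem_sInf]
      intro r hr
      have hrprime : Ideal.IsPrime r := hr.1.1
      have : b * s ∈ r := by rw [hb]; exact r.zero_mem
      rcases hrprime.mem_or_mem this with h | h
      · exact h
      · exact absurd h (hsn' r hr)
    rw [hnil] at this
    exact this
  obtain ⟨x, hx, y, hy, hxy⟩ := Submodule.mem_sup.1 hs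
  have hxy0 : x * y = 0 := by
    have : x * y ∈ p ⊓ q := ⟨p.mul_mem_right _ hx, q.mul_mem_left _ hy⟩
    rw [hpq] at this
    exact this
  obtain ⟨r₀, hr₀⟩ := hrest_ne
  have hx0 : x ≠ 0 := by
    rintro rfl
    rw [zero_add] at hxy
    apply hsn' r₀ hr₀.1
    rw [← hxy]
    exact (sInf_le hr₀ : q ≤ r₀) hy
  have hy0 : y ≠ 0 := by
    rintro rfl
    rw [add_zero] at hxy
    apply hsn' p hp'
    rw [← hxy]
    exact hx
  -- the idempotent
  have hinj : Function.Injective (algebraMap B (FractionRing B)) := IsFractionRing.injective B _
  obtain ⟨u, hu⟩ := IsLocalization.map_units (FractionRing B) (⟨s, hsnzd⟩ : nonZeroDivisors B)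
  set ξ := algebraMap B (FractionRing B) x
  set υ := algebraMap B (FractionRing B) y
  have h1 : (u : FractionRing B) = ξ + υ := by
    rw [hu]
    show algebraMap B (FractionRing B) s = _
    rw [← hxy, map_add]
  have h2 : ξ * υ = 0 := by
    rw [← map_mul, hxy0, map_zero]
  set e : FractionRing B := ξ * ((u⁻¹ : (FractionRing B)ˣ) : FractionRing B) with he
  have hui : (u : FractionRing B) * ((u⁻¹ : (FractionRing B)ˣ) : FractionRing B) = 1 := u.mul_inv
  have hee : e * e = e := by
    rw [he]
    linear_combination (-(((u⁻¹ : (FractionRing B)ˣ) : FractionRing B) * ((u⁻¹ : (FractionRing B)ˣ) : FractionRing B))) * h2 - (ξ * ((u⁻¹ : (FractionRing B)ˣ) : FractionRing B) * ((u⁻¹ : (FractionRing B)ˣ) : FractionRing B)) * h1 + (ξ * ((u⁻¹ : (FractionRing B)ˣ) : FractionRing B)) * hui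
  have heint : IsIntegral B e := by
    refine ⟨Polynomial.X ^ 2 - Polynomial.X, ?_, ?_⟩
    · exact Polynomial.monic_X_pow_sub (by simp [Polynomial.degree_X])
    · simp [pow_two, hee]
  let e' : integralClosure B (FractionRing B) := ⟨e, heint⟩
  have he'e' : e' * (1 - e') = 0 := by
    apply Subtype.ext
    show e * (1 - e) = 0
    rw [mul_sub, mul_one, hee, sub_self]
  rcases IsLocalRing.isUnit_or_isUnit_one_sub_self e' with h | h
  · have : 1 - e' = 0 := by
      have := congrArg (fun t => ((h.unit⁻¹ : (integralClosure B (FractionRing B))ˣ) : integralClosure B (FractionRing B)) * t) he'e'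
      simpa [← mul_assoc] using this
    have h3 : e = 1 := by
      have := congrArg Subtype.val this
      have h4 : (1 : FractionRing B) - e = 0 := this
      exact (sub_eq_zero.1 h4).symm
    -- then υ = 0
    have : υ = 0 := by
      have h5 : ξ = (u : FractionRing B) := by
        have := congrArg (fun t => t * (u : FractionRing B)) h3
        simp only [he, mul_assoc, Units.inv_mul, mul_one, one_mul] at this
        exact this
      rw [h1] at h5
      exact left_eq_add.mp h5
    exact hy0 (hinj (this.trans (map_zero _).symm))
  · have : e' = 0 := by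
      have := congrArg (fun t => t * ((h.unit⁻¹ : (integralClosure B (FractionRing B))ˣ) : integralClosure B (FractionRing B))) he'e'
      simpa [mul_assoc] using this
    have h3 : e = 0 := congrArg Subtype.val this
    have : ξ = 0 := by
      have := congrArg (fun t => t * (u : FractionRing B)) h3
      simp only [he, mul_assoc, Units.inv_mul, mul_one, zero_mul] at this
      exact this
    exact hx0 (hinj (this.trans (map_zero _).symm))

/-- A local ring A has exactly one branch if and only if it is unibranch. Here the number of branches is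
computed as the number of maximal ideals of the integral closure of A_red in its total ring of
fractions (infinity when A has infinitely many minimal primes). -/
theorem result (A : Type u) [CommRing A] [IsLocalRing A] :
    Brnch.numBranches A = 1 ↔ CAlg2.IsUnibranch A := by
  classical
  unfold Brnch.numBranches CAlg2.IsUnibranch
  have hnt : Nontrivial (CAlg2.red A) := Ideal.Quotient.nontrivial_iff.2 (by
    intro htop
    have h1 : (1 : A) ∈ nilradical A := htop ▸ Submodule.mem_top
    obtain ⟨n, hn⟩ := mem_nilradical.1 h1
    rw [one_pow] at hn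
    exact one_ne_zero hn)
  have hred : IsReduced (CAlg2.red A) :=
    (Ideal.isRadical_iff_quotient_reduced (nilradical A)).1 (Ideal.radical_isRadical ⊥)
  have hmp : (nilradical A).minimalPrimes = minimalPrimes A := by
    show ((⊥ : Ideal A).radical).minimalPrimes = (⊥ : Ideal A).minimalPrimes
    exact Ideal.radical_minimalPrimes
  constructor
  · intro h
    by_cases hfin : (minimalPrimes A).Finite
    · rw [if_pos hfin] at h
      obtain ⟨hU⟩ := ENat.card_eq_one_iff_unique.1 h
      have hloc : IsLocalRing (CAlg2.normRed A) := by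
        apply IsLocalRing.of_unique_max_ideal
        refine ⟨(default : MaximalSpectrum (CAlg2.normRed A)).asIdeal,
          (default : MaximalSpectrum (CAlg2.normRed A)).isMaximal, ?_⟩
        intro I hI
        have := hU.uniq ⟨I, hI⟩
        exact congrArg MaximalSpectrum.asIdeal this
      refine ⟨?_, hloc⟩
      have hfin' : (minimalPrimes (CAlg2.red A)).Finite := by
        rw [← hmp, Ideal.minimalPrimes_eq_comap] at hfin
        exact Set.Finite.of_finite_image hfin
          ((Ideal.comap_injective_of_surjective _ Ideal.Quotient.mk_surjective).injOn)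
      exact isDomain_of_local_normalization (CAlg2.red A) hfin' hloc
    · rw [if_neg hfin] at h
      exact absurd h (by simp)
  · rintro ⟨hdom, hloc⟩
    have hprime : (nilradical A).IsPrime := (Ideal.Quotient.isDomain_iff_prime _).1 hdom
    have hfin : (minimalPrimes A).Finite := by
      rw [← hmp, Ideal.minimalPrimes_eq_subsingleton_self]
      exact Set.finite_singleton _
    rw [if_pos hfin]
    rw [ENat.card_eq_one_iff_unique]
    exact ⟨{ default := ⟨IsLocalRing.maximalIdeal _, inferInstance⟩
             uniq := fun m => MaximalSpectrum.ext (IsLocalRing.eq_maximalIdeal m.isMaximal) }⟩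

end Groth.Agent.S9235
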