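import Groth.Statements.S9236
import Mathlib
import Groth.Agent.S9235
import Groth.Agent.Lib.Helper13.Br4

set_option autoImplicit false
universe u
open Brnch

namespace Groth.Agent.S9236

set_option linter.style.haveILetI false

open Groth.Agent.Lib.helper13.Br

section

variable (A : Type u) [CommRing A] [IsLocalRing A] (m' : Ideal (CAlg2.normRed A)) [hm : m'.IsMaximal]

/-- the composite `A → normRed A → normRed A / m'` kills the maximal ideal. -/
lemma mem_of_mem_maximalIdeal (a : A) (ha : a ∈ IsLocalRing.maximalIdeal A) :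
    toNormRed A a ∈ m' := by
  have hmax : (m'.comap (toNormRed A)).IsMaximal :=
    Ideal.isMaximal_comap_of_isIntegral_of_isMaximal' (toNormRed A) (toNormRed_isIntegral A) m'
  rw [← IsLocalRing.eq_maximalIdeal hmax] at ha
  exact ha

/-- the induced map of residue fields. -/
noncomputable def rmap : IsLocalRing.ResidueField A →+* CAlg2.normRed A ⧸ m' :=
  Ideal.Quotient.lift (IsLocalRing.maximalIdeal A) ((Ideal.Quotient.mk m').comp (toNormRed A))
    (fun a ha => Ideal.Quotient.eq_zero_iff_mem.mpr (mem_of_mem_maximalIdeal A m' a ha))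

lemma rmap_comp : (Ideal.Quotient.mk m').comp (toNormRed A) =
    (rmap A m').comp (IsLocalRing.residue A) := by
  ext a
  rfl

/-- pure inseparability of the residue extension in the form of the Prelude definition. -/
lemma pi_iff :
    letI : Field (CAlg2.normRed A ⧸ m') := Ideal.Quotient.field m'
    letI := (rmap A m').toAlgebra
    IsPurelyInseparable (IsLocalRing.ResidueField A) (CAlg2.normRed A ⧸ m') ↔
      ∀ x : CAlg2.normRed A ⧸ m', ∃ n : ℕ, x ^ (ringExpChar (CAlg2.normRed A ⧸ m')) ^ n ∈
        ((Ideal.Quotient.mk m').comp ((algebraMap (CAlg2.red A) (CAlg2.normRed A)).comp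
          (Ideal.Quotient.mk (nilradical A)))).range := by
  letI : Field (CAlg2.normRed A ⧸ m') := Ideal.Quotient.field m'
  letI := (rmap A m').toAlgebra
  rw [isPurelyInseparable_iff_pow_mem (IsLocalRing.ResidueField A)
    (ringExpChar (IsLocalRing.ResidueField A))]
  haveI e1 : ExpChar (CAlg2.normRed A ⧸ m') (ringExpChar (IsLocalRing.ResidueField A)) :=
    expChar_of_injective_ringHom (rmap A m').injective _
  haveI e2 : ExpChar (CAlg2.normRed A ⧸ m') (ringExpChar (CAlg2.normRed A ⧸ m')) :=
    ringExpChar.expChar _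
  have hq : ringExpChar (CAlg2.normRed A ⧸ m') = ringExpChar (IsLocalRing.ResidueField A) :=
    ExpChar.eq e2 e1
  rw [hq]
  have hrange : ∀ y : CAlg2.normRed A ⧸ m',
      y ∈ (algebraMap (IsLocalRing.ResidueField A) (CAlg2.normRed A ⧸ m')).range ↔
      y ∈ ((Ideal.Quotient.mk m').comp ((algebraMap (CAlg2.red A) (CAlg2.normRed A)).comp
          (Ideal.Quotient.mk (nilradical A)))).range := by
    intro y
    constructor
    · rintro ⟨c, rfl⟩
      obtain ⟨a, rfl⟩ := IsLocalRing.residue_surjective c
      exact ⟨a, rfl⟩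
    · rintro ⟨a, rfl⟩
      exact ⟨IsLocalRing.residue A a, rfl⟩
  constructor
  · intro h x
    obtain ⟨n, hn⟩ := h x
    exact ⟨n, (hrange _).mp hn⟩
  · intro h x
    obtain ⟨n, hn⟩ := h x
    exact ⟨n, (hrange _).mpr hn⟩

end

section

variable (A : Type u) [CommRing A] [IsLocalRing A] (M : MaximalSpectrum (CAlg2.normRed A))

lemma card_emb_eq :
    letI : Field (CAlg2.normRed A ⧸ M.asIdeal) :=
      haveI := M.isMaximal; Ideal.Quotient.field M.asIdeal
    letI := (@rmap A _ _ M.asIdeal M.isMaximal).toAlgebra
    ENat.card (Brnch.Emb A M) =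
      ENat.card (Field.Emb (IsLocalRing.ResidueField A) (CAlg2.normRed A ⧸ M.asIdeal)) := by
  haveI := M.isMaximal
  letI : Field (CAlg2.normRed A ⧸ M.asIdeal) := Ideal.Quotient.field M.asIdeal
  exact card_emb A M (Ideal.Quotient.mk M.asIdeal) Ideal.Quotient.mk_surjective Ideal.mk_ker
    (rmap A M.asIdeal) (rmap_comp A M.asIdeal)

lemma nonempty_emb : Nonempty (Brnch.Emb A M) := by
  haveI := M.isMaximal
  letI : Field (CAlg2.normRed A ⧸ M.asIdeal) := Ideal.Quotient.field M.asIdeal
  letI := (rmap A M.asIdeal).toAlgebra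
  have h := card_emb_eq A M
  have h2 : ENat.card (Brnch.Emb A M) ≠ 0 := by
    rw [h]
    exact ENat.card_ne_zero
  by_contra hne
  rw [not_nonempty_iff] at hne
  exact h2 ((ENat.card_eq_zero_iff_empty _).mpr hne)

lemma subsingleton_emb_iff :
    Subsingleton (Brnch.Emb A M) ↔
      ∀ x : CAlg2.normRed A ⧸ M.asIdeal, ∃ n : ℕ,
        x ^ (ringExpChar (CAlg2.normRed A ⧸ M.asIdeal)) ^ n ∈
        ((Ideal.Quotient.mk M.asIdeal).comp ((algebraMap (CAlg2.red A) (CAlg2.normRed A)).comp
          (Ideal.Quotient.mk (nilradical A)))).range := by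
  haveI := M.isMaximal
  letI : Field (CAlg2.normRed A ⧸ M.asIdeal) := Ideal.Quotient.field M.asIdeal
  letI := (rmap A M.asIdeal).toAlgebra
  rw [← pi_iff A M.asIdeal, isPurelyInseparable_iff_subsingleton_emb]
  have h := card_emb_eq A M
  rw [← ENat.card_le_one_iff_subsingleton, ← ENat.card_le_one_iff_subsingleton, h]

end


/-- A local ring A has exactly one geometric branch if and only if it is geometrically unibranch
(unibranch with purely inseparable residue field extension of the integral closure). The number of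
geometric branches counts the maximal ideals of the integral closure of A_red in its total ring of
fractions with multiplicity the separable degree of the residue field extension. -/
theorem result (A : Type u) [CommRing A] [IsLocalRing A] :
    Brnch.numGeomBranches A = 1 ↔ CAlg2.IsGeomUnibranch A := by
  classical
  constructor
  · intro h
    unfold Brnch.numGeomBranches at h
    by_cases hfin : (minimalPrimes A).Finite
    · rw [if_pos hfin] at h
      obtain ⟨hU⟩ := ENat.card_eq_one_iff_unique.1 h
      have huniq : ∀ M : MaximalSpectrum (CAlg2.normRed A), M = hU.default.1 := by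
        intro M
        obtain ⟨σ⟩ := nonempty_emb A M
        have := hU.uniq ⟨M, σ⟩
        exact congrArg Sigma.fst this
      have hbr : Brnch.numBranches A = 1 := by
        unfold Brnch.numBranches
        rw [if_pos hfin, ENat.card_eq_one_iff_unique]
        exact ⟨{ default := hU.default.1, uniq := huniq }⟩
      refine ⟨(Groth.Agent.S9235.result A).mp hbr, ?_⟩
      intro m' hm'
      have hsub : Subsingleton (Brnch.Emb A ⟨m', hm'⟩) := by
        constructor
        intro σ τ
        have h1 := hU.uniq ⟨⟨m', hm'⟩, σ⟩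
        have h2 := hU.uniq ⟨⟨m', hm'⟩, τ⟩
        have h3 : (⟨⟨m', hm'⟩, σ⟩ : Σ M : MaximalSpectrum (CAlg2.normRed A), Brnch.Emb A M) =
            ⟨⟨m', hm'⟩, τ⟩ := h1.trans h2.symm
        exact eq_of_heq (Sigma.mk.inj h3).2
      exact (subsingleton_emb_iff A ⟨m', hm'⟩).mp hsub
    · rw [if_neg hfin] at h
      exact absurd h (by simp)
  · rintro ⟨hU, hpi⟩
    have hbr : Brnch.numBranches A = 1 := (Groth.Agent.S9235.result A).mpr hU
    unfold Brnch.numBranches at hbr
    unfold Brnch.numGeomBranches
    by_cases hfin : (minimalPrimes A).Finite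
    · rw [if_pos hfin] at hbr ⊢
      obtain ⟨hM⟩ := ENat.card_eq_one_iff_unique.1 hbr
      rw [ENat.card_eq_one_iff_unique]
      have hsub : ∀ M : MaximalSpectrum (CAlg2.normRed A), Subsingleton (Brnch.Emb A M) := by
        intro M
        rw [subsingleton_emb_iff]
        haveI := M.isMaximal
        exact hpi M.asIdeal
      obtain ⟨σ₀⟩ := nonempty_emb A hM.default
      refine ⟨{ default := ⟨hM.default, σ₀⟩, uniq := ?_ }⟩
      rintro ⟨M, σ⟩
      have hMd : M = hM.default := hM.uniq M
      subst hMd
      have := (hsub hM.default).elim σ σ₀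
      rw [this]
    · rw [if_neg hfin] at hbr
      exact absurd hbr (by simp)

end Groth.Agent.S9236
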