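import Groth.Statements.S2125
import Mathlib
import Groth.Agent.Lib.Helper24.HenselizationFlat

set_option autoImplicit false
set_option linter.style.haveILetI false
universe u
open CAlg

namespace Groth.Agent.S2125

section aux
open scoped TensorProduct

variable (A : Type u) [CommRing A]

theorem isIntegral_normRed : Algebra.IsIntegral A (CAlg2.normRed A) := by
  haveI : Algebra.IsIntegral A (CAlg2.red A) :=
    Algebra.isIntegral_of_surjective Ideal.Quotient.mk_surjective
  exact Algebra.IsIntegral.trans (CAlg2.red A)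

/-- the multiplicative set of elements of `A` that are non-zero-divisors on `A_red`. -/
def Sig : Submonoid A := (nonZeroDivisors (CAlg2.red A)).comap (Ideal.Quotient.mk (nilradical A))

theorem algebraMap_normRed_eq_zero_iff (a : A) :
    algebraMap A (CAlg2.normRed A) a = 0 ↔ a ∈ nilradical A := by
  rw [← Ideal.Quotient.eq_zero_iff_mem]
  have h1 : algebraMap A (CAlg2.normRed A) a =
      algebraMap (CAlg2.red A) (CAlg2.normRed A) (Ideal.Quotient.mk (nilradical A) a) :=
    IsScalarTower.algebraMap_apply A (CAlg2.red A) (CAlg2.normRed A) a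
  rw [h1]
  have hinj : Function.Injective (algebraMap (CAlg2.red A) (CAlg2.normRed A)) := by
    intro x y hxy
    have h2 := congrArg (Subtype.val) hxy
    exact IsFractionRing.injective (CAlg2.red A) (FractionRing (CAlg2.red A)) h2
  exact map_eq_zero_iff _ hinj

theorem coe_smul_normRed (s : A) (x : CAlg2.normRed A) :
    ((s • x : CAlg2.normRed A) : FractionRing (CAlg2.red A)) =
      algebraMap (CAlg2.red A) (FractionRing (CAlg2.red A)) (Ideal.Quotient.mk (nilradical A) s) *
        (x : FractionRing (CAlg2.red A)) := by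
  have h1 : s • x = (Ideal.Quotient.mk (nilradical A) s : CAlg2.red A) • x := by
    rw [← IsScalarTower.algebraMap_smul (CAlg2.red A) s x]
    rfl
  rw [h1, ← Algebra.smul_def]
  rfl

theorem smul_injective_normRed (s : A) (hs : s ∈ Sig A) :
    Function.Injective (LinearMap.lsmul A (CAlg2.normRed A) s) := by
  rw [← LinearMap.ker_eq_bot, LinearMap.ker_eq_bot']
  intro x hx
  have h1 : (s • x : CAlg2.normRed A) = 0 := hx
  have h2 := coe_smul_normRed A s x
  rw [h1] at h2
  have hu : IsUnit (algebraMap (CAlg2.red A) (FractionRing (CAlg2.red A))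
      (Ideal.Quotient.mk (nilradical A) s)) :=
    IsLocalization.map_units (FractionRing (CAlg2.red A))
      (⟨Ideal.Quotient.mk (nilradical A) s, hs⟩ : nonZeroDivisors (CAlg2.red A))
  have h3 : (x : FractionRing (CAlg2.red A)) = 0 := by
    have := h2.symm
    rwa [ZeroMemClass.coe_zero, hu.mul_right_eq_zero] at this
  exact Subtype.ext h3

theorem exists_smul_eq_algebraMap (x : CAlg2.normRed A) :
    ∃ s ∈ Sig A, ∃ r : A, s • x = algebraMap A (CAlg2.normRed A) r := by
  obtain ⟨⟨r', s'⟩, hrs⟩ := IsLocalization.surj (nonZeroDivisors (CAlg2.red A))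
    (x : FractionRing (CAlg2.red A))
  obtain ⟨r, rfl⟩ := Ideal.Quotient.mk_surjective r'
  obtain ⟨s, hs⟩ := Ideal.Quotient.mk_surjective (s' : CAlg2.red A)
  refine ⟨s, ?_, r, ?_⟩
  · show Ideal.Quotient.mk (nilradical A) s ∈ nonZeroDivisors (CAlg2.red A)
    rw [hs]
    exact s'.2
  · apply Subtype.ext
    rw [coe_smul_normRed A s x, hs, mul_comm]
    simp only at hrs
    rw [hrs]
    rfl


variable (B : Type u) [CommRing B] [Algebra A B]

/-- the map `B → A' ⊗[A] B`. -/
abbrev phi : B →+* (CAlg2.normRed A) ⊗[A] B :=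
  (Algebra.TensorProduct.includeRight : B →ₐ[A] (CAlg2.normRed A) ⊗[A] B).toRingHom

theorem phi_apply (b : B) : phi A B b = (1 : CAlg2.normRed A) ⊗ₜ[A] b := rfl

theorem smul_eq_zero_of_mem_Sig [Module.Flat A B] (s : A) (hs : s ∈ Sig A)
    (y : (CAlg2.normRed A) ⊗[A] B) (hy : s • y = 0) : y = 0 := by
  have hinj : Function.Injective ((LinearMap.lsmul A (CAlg2.normRed A) s).rTensor B) :=
    Module.Flat.rTensor_preserves_injective_linearMap _ (smul_injective_normRed A s hs)
  have h1 : ∀ z : (CAlg2.normRed A) ⊗[A] B,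
      (LinearMap.lsmul A (CAlg2.normRed A) s).rTensor B z = s • z := by
    intro z
    induction z using TensorProduct.induction_on with
    | zero => simp
    | tmul a b => simp [TensorProduct.smul_tmul']
    | add x y hx hy => rw [map_add, hx, hy, smul_add]
  apply hinj
  rw [h1, hy, map_zero]

theorem exists_smul_eq_phi (y : (CAlg2.normRed A) ⊗[A] B) :
    ∃ s ∈ Sig A, ∃ x : B, s • y = phi A B x := by
  induction y using TensorProduct.induction_on with
  | zero => exact ⟨1, (Sig A).one_mem, 0, by simp⟩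
  | tmul a b =>
    obtain ⟨s, hs, r, hr⟩ := exists_smul_eq_algebraMap A a
    refine ⟨s, hs, r • b, ?_⟩
    rw [TensorProduct.smul_tmul', hr, phi_apply, Algebra.algebraMap_eq_smul_one,
      TensorProduct.smul_tmul]
  | add x y hx hy =>
    obtain ⟨s, hs, a, ha⟩ := hx
    obtain ⟨t, ht, b, hb⟩ := hy
    refine ⟨s * t, (Sig A).mul_mem hs ht, t • a + s • b, ?_⟩
    have hphi : ∀ (c : A) (z : B), phi A B (c • z) = c • phi A B z := by
      intro c z
      rw [phi_apply, phi_apply, TensorProduct.tmul_smul]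
    rw [smul_add, mul_smul, smul_comm s t x, ha, mul_smul, hb, map_add, hphi, hphi]


theorem isNilpotent_of_phi_eq_zero [Module.Flat A B] (x : B) (hx : phi A B x = 0) :
    IsNilpotent x := by
  let f : (nilradical A) →ₗ[A] A := Submodule.subtype _
  let g : A →ₗ[A] CAlg2.normRed A := Algebra.linearMap A (CAlg2.normRed A)
  have hex : Function.Exact f g := by
    intro a
    show algebraMap A (CAlg2.normRed A) a = 0 ↔ _
    rw [algebraMap_normRed_eq_zero_iff]
    constructor
    · intro ha
      exact ⟨⟨a, ha⟩, rfl⟩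
    · rintro ⟨⟨a', ha'⟩, rfl⟩
      exact ha'
  have hex2 : Function.Exact (f.rTensor B) (g.rTensor B) := Module.Flat.rTensor_exact B hex
  have h1 : g.rTensor B ((1 : A) ⊗ₜ[A] x) = 0 := by
    rw [LinearMap.rTensor_tmul]
    show (algebraMap A (CAlg2.normRed A) 1) ⊗ₜ[A] x = 0
    rw [map_one]
    exact hx
  obtain ⟨z, hz⟩ := (hex2 _).1 h1
  have h2 : ∀ z : (nilradical A) ⊗[A] B,
      TensorProduct.lid A B (f.rTensor B z) ∈ (nilradical A).map (algebraMap A B) := by
    intro z
    induction z using TensorProduct.induction_on with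
    | zero => simp
    | tmul n b =>
      rw [LinearMap.rTensor_tmul, TensorProduct.lid_tmul]
      show (n : A) • b ∈ _
      rw [Algebra.smul_def]
      exact Ideal.mul_mem_right _ _ (Ideal.mem_map_of_mem _ n.2)
    | add x y hx hy =>
      rw [map_add, map_add]
      exact Ideal.add_mem _ hx hy
  have h3 : x ∈ (nilradical A).map (algebraMap A B) := by
    have := h2 z
    rwa [hz, TensorProduct.lid_tmul, one_smul] at this
  have h4 : (nilradical A).map (algebraMap A B) ≤ nilradical B := by
    rw [Ideal.map_le_iff_le_comap]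
    intro a ha
    rw [Ideal.mem_comap, mem_nilradical]
    exact (mem_nilradical.1 ha).map _
  exact mem_nilradical.1 (h4 h3)

theorem phi_isIntegral (y : (CAlg2.normRed A) ⊗[A] B) :
    ∃ p : Polynomial B, p.Monic ∧ Polynomial.eval₂ (phi A B) y p = 0 := by
  haveI := isIntegral_normRed A
  obtain ⟨p, hp, hpy⟩ := Algebra.IsIntegral.isIntegral (R := B)
    ((Algebra.TensorProduct.comm A B (CAlg2.normRed A)).symm y)
  refine ⟨p, hp, ?_⟩
  have h3 := congrArg (Algebra.TensorProduct.comm A B (CAlg2.normRed A)) hpy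
  rw [map_zero] at h3
  rw [← h3]
  have h4 := Polynomial.hom_eval₂ p (algebraMap B (B ⊗[A] CAlg2.normRed A))
    ((Algebra.TensorProduct.comm A B (CAlg2.normRed A)) :
      B ⊗[A] CAlg2.normRed A →+* CAlg2.normRed A ⊗[A] B)
    ((Algebra.TensorProduct.comm A B (CAlg2.normRed A)).symm y)
  have h5 : (((Algebra.TensorProduct.comm A B (CAlg2.normRed A)) :
      B ⊗[A] CAlg2.normRed A →+* CAlg2.normRed A ⊗[A] B).comp
      (algebraMap B (B ⊗[A] CAlg2.normRed A))) = phi A B := by
    ext b
    simp
  rw [h5] at h4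
  have h6 : ((Algebra.TensorProduct.comm A B (CAlg2.normRed A)) :
      B ⊗[A] CAlg2.normRed A →+* CAlg2.normRed A ⊗[A] B)
      ((Algebra.TensorProduct.comm A B (CAlg2.normRed A)).symm y) = y :=
    (Algebra.TensorProduct.comm A B (CAlg2.normRed A)).apply_symm_apply y
  rw [h6] at h4
  exact h4.symm


theorem bijOn_minimalPrimes [Module.Flat A B] :
    Set.BijOn (fun P : Ideal ((CAlg2.normRed A) ⊗[A] B) => P.comap (phi A B))
      (minimalPrimes ((CAlg2.normRed A) ⊗[A] B)) (minimalPrimes B) := by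
  classical
  have hsm : ∀ (s : A) (y : (CAlg2.normRed A) ⊗[A] B),
      s • y = (s • (1 : (CAlg2.normRed A) ⊗[A] B)) * y := by
    intro s y
    rw [smul_mul_assoc, one_mul]
  have havoid : ∀ P ∈ minimalPrimes ((CAlg2.normRed A) ⊗[A] B), ∀ s ∈ Sig A,
      (s • (1 : (CAlg2.normRed A) ⊗[A] B)) ∉ P := by
    intro P hP s hs hsP
    have hnzd : s • (1 : (CAlg2.normRed A) ⊗[A] B) ∈
        nonZeroDivisors ((CAlg2.normRed A) ⊗[A] B) := by
      rw [mem_nonZeroDivisors_iff_right]
      intro y hy
      apply smul_eq_zero_of_mem_Sig A B s hs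
      rw [hsm, mul_comm]
      exact hy
    exact Set.disjoint_left.1 (Ideal.disjoint_nonZeroDivisors_of_mem_minimalPrimes hP) hsP hnzd
  have hrefl : ∀ (P P' : Ideal ((CAlg2.normRed A) ⊗[A] B)), P'.IsPrime →
      (∀ s ∈ Sig A, s • (1 : (CAlg2.normRed A) ⊗[A] B) ∉ P') →
      P.comap (phi A B) ≤ P'.comap (phi A B) → P ≤ P' := by
    intro P P' hP' hav hle y hy
    obtain ⟨s, hs, x, hx⟩ := exists_smul_eq_phi A B y
    have h1 : phi A B x ∈ P := by
      rw [← hx, hsm]
      exact Ideal.mul_mem_left _ _ hy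
    have h2 : phi A B x ∈ P' := hle h1
    rw [← hx, hsm] at h2
    rcases hP'.mem_or_mem h2 with h | h
    · exact absurd h (hav s hs)
    · exact h
  have hlo : ∀ q : Ideal B, q.IsPrime →
      ∃ P ∈ minimalPrimes ((CAlg2.normRed A) ⊗[A] B), P.comap (phi A B) ≤ q := by
    intro q hq
    letI : Algebra B ((CAlg2.normRed A) ⊗[A] B) := (phi A B).toAlgebra
    haveI : Algebra.IsIntegral B ((CAlg2.normRed A) ⊗[A] B) := ⟨phi_isIntegral A B⟩
    obtain ⟨Q, -, hQp, hQ⟩ := Ideal.exists_ideal_over_prime_of_isIntegral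
      (S := (CAlg2.normRed A) ⊗[A] B) q ⊥ (by
        intro x hx
        have h0 : phi A B x = 0 := hx
        obtain ⟨n, hn⟩ := isNilpotent_of_phi_eq_zero A B x h0
        exact hq.mem_of_pow_mem n (hn ▸ q.zero_mem))
    obtain ⟨P, hP, hPQ⟩ := Ideal.exists_minimalPrimes_le (bot_le : (⊥ : Ideal _) ≤ Q)
    refine ⟨P, hP, ?_⟩
    rw [← hQ]
    exact Ideal.comap_mono hPQ
  refine ⟨?_, ?_, ?_⟩
  · intro P hP
    haveI := hP.1.1
    refine ⟨⟨Ideal.IsPrime.comap _, bot_le⟩, ?_⟩
    rintro q' ⟨hq', -⟩ hle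
    obtain ⟨P3, hP3, hP3q⟩ := hlo q' hq'
    have h1 : P3 ≤ P := hrefl P3 P hP.1.1 (havoid P hP) (hP3q.trans hle)
    have h2 : P ≤ P3 := hP.2 ⟨hP3.1.1, bot_le⟩ h1
    have h3 : P = P3 := le_antisymm h2 h1
    show P.comap (phi A B) ≤ q'
    rw [h3]
    exact hP3q
  · intro P hP P' hP' heq
    have heq' : P.comap (phi A B) = P'.comap (phi A B) := heq
    exact le_antisymm (hrefl P P' hP'.1.1 (havoid P' hP') heq'.le)
      (hrefl P' P hP.1.1 (havoid P hP) heq'.ge)
  · intro q hq
    obtain ⟨P, hP, hPq⟩ := hlo q hq.1.1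
    haveI := hP.1.1
    refine ⟨P, hP, ?_⟩
    exact le_antisymm hPq (hq.2 ⟨Ideal.IsPrime.comap _, bot_le⟩ hPq)


end aux

open TensorProduct in
/-- Let `A` be a local ring with finitely many minimal primes, `A'` the integral closure of `A_red` in
its total ring of fractions and `A^h` the henselization of `A`. Then contraction along `A^h → A' ⊗_A
A^h` is a bijection from the minimal primes of `A' ⊗_A A^h` onto the minimal primes of `A^h`. -/
theorem result {A Ah : Type u} [CommRing A] [IsLocalRing A]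
    (hfin : (minimalPrimes A).Finite) [CommRing Ah] [IsLocalRing Ah] [Algebra A Ah] [IsLocalHom (algebraMap A Ah)]
    [Hensel.IsHenselization A Ah] :
    Set.BijOn (fun P : Ideal ((CAlg2.normRed A) ⊗[A] Ah) =>
        P.comap (Algebra.TensorProduct.includeRight.toRingHom :
          Ah →+* (CAlg2.normRed A) ⊗[A] Ah))
      (minimalPrimes ((CAlg2.normRed A) ⊗[A] Ah))
      (minimalPrimes Ah) := by
  haveI : Module.FaithfullyFlat A Ah :=
    Groth.Agent.Lib.helper24.Henselization.faithfullyFlat_of_isHenselization A Ah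
  exact bijOn_minimalPrimes A Ah

end Groth.Agent.S2125
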