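import Groth.Statements.S9446
import Mathlib

set_option autoImplicit false
universe u
open CAlg

namespace Groth.Agent.S9446

section aux

open TensorProduct

variable {R : Type u} [CommRing R]

/-- base change of an algebra hom along `B` -/
noncomputable abbrev tm {C D : Type u} [CommRing C] [CommRing D] [Algebra R C] [Algebra R D]
    (B : Type u) [CommRing B] [Algebra R B] (v : C →ₐ[R] D) : C ⊗[R] B →ₐ[R] D ⊗[R] B :=
  Algebra.TensorProduct.map v (AlgHom.id R B)

variable {B : Type u} [CommRing B] [Algebra R B]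
variable {C D E : Type u} [CommRing C] [CommRing D] [CommRing E] [Algebra R C] [Algebra R D]
  [Algebra R E]

theorem tm_comp (v : C →ₐ[R] D) (w : D →ₐ[R] E) (x : C ⊗[R] B) :
    tm B (w.comp v) x = tm B w (tm B v x) := by
  induction x with
  | zero => simp
  | tmul c b => simp [tm]
  | add x y hx hy => simp only [map_add, hx, hy]

theorem tm_eq_rTensor (v : C →ₐ[R] D) (x : C ⊗[R] B) :
    tm B v x = LinearMap.rTensor B v.toLinearMap x := by
  induction x with
  | zero => simp
  | tmul c b => simp [tm]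
  | add x y hx hy => simp only [map_add, hx, hy]

theorem tm_eval₂ (v : C →ₐ[R] D) (p : Polynomial C) (Y : C ⊗[R] B) :
    tm B v (Polynomial.eval₂ (algebraMap C (C ⊗[R] B)) Y p) =
      Polynomial.eval₂ (algebraMap D (D ⊗[R] B)) (tm B v Y) (p.map v.toRingHom) := by
  rw [Polynomial.eval₂_map]
  have h : ((tm B v).toRingHom).comp (algebraMap C (C ⊗[R] B)) =
      (algebraMap D (D ⊗[R] B)).comp v.toRingHom := by
    ext c
    simp [tm, Algebra.TensorProduct.algebraMap_apply]
  rw [← h]
  exact Polynomial.hom_eval₂ p (algebraMap C (C ⊗[R] B)) (tm B v).toRingHom Y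

theorem flat_of_indSmooth {S : Type u} [CommRing S] [Algebra R S]
    (hS : Smoothing.IndSmooth R S) : Module.Flat R S := by
  classical
  refine Module.Flat.of_forall_isTrivialRelation ?_
  intro l f x hfx
  let q : MvPolynomial (Fin l) R := ∑ i, MvPolynomial.C (f i) * MvPolynomial.X i
  let I : Ideal (MvPolynomial (Fin l) R) := Ideal.span {q}
  let ψ₀ : MvPolynomial (Fin l) R →ₐ[R] S := MvPolynomial.aeval x
  have hq : ψ₀ q = 0 := by
    simp only [q, ψ₀, map_sum, map_mul, MvPolynomial.aeval_C, MvPolynomial.aeval_X]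
    rw [← hfx]
    exact Finset.sum_congr rfl (fun i _ => (Algebra.smul_def _ _).symm)
  have hI : ∀ a ∈ I, ψ₀ a = 0 := by
    have hle : I ≤ RingHom.ker ψ₀.toRingHom := by
      rw [Ideal.span_le]
      rintro _ rfl
      exact hq
    exact fun a ha => hle ha
  let ψ : MvPolynomial (Fin l) R ⧸ I →ₐ[R] S := Ideal.Quotient.liftₐ I ψ₀ hI
  haveI : Algebra.FinitePresentation R (MvPolynomial (Fin l) R ⧸ I) :=
    Algebra.FinitePresentation.quotient ⟨{q}, by simp [I]⟩
  obtain ⟨T, _, _, hsm, g, h, hgh⟩ := hS (MvPolynomial (Fin l) R ⧸ I) inferInstance ψ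
  haveI := hsm
  let b : Fin l → T := fun i => g (Ideal.Quotient.mk I (MvPolynomial.X i))
  have hb : ∑ i, f i • b i = 0 := by
    have h0 : g (Ideal.Quotient.mk I q) = 0 := by
      have hqI : q ∈ I := Ideal.subset_span (Set.mem_singleton q)
      rw [Ideal.Quotient.eq_zero_iff_mem.mpr hqI, map_zero]
    rw [← h0]
    simp only [q, b, map_sum, map_mul]
    refine Finset.sum_congr rfl (fun i _ => ?_)
    rw [Algebra.smul_def]
    congr 1
    rw [← MvPolynomial.algebraMap_eq, Ideal.Quotient.mk_algebraMap, AlgHom.commutes]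
  obtain ⟨k, a, yT, h1, h2⟩ := Module.Flat.isTrivialRelation_of_sum_smul_eq_zero (R := R) (M := T) (f := f) (x := b) hb
  refine ⟨k, a, fun j => h (yT j), fun i => ?_, h2⟩
  have hx : x i = h (b i) := by
    have h3 := AlgHom.congr_fun hgh (Ideal.Quotient.mk I (MvPolynomial.X i))
    have h4 : ψ (Ideal.Quotient.mk I (MvPolynomial.X i)) = x i := by
      show Ideal.Quotient.lift I (ψ₀ : _ →+* S) hI (Ideal.Quotient.mk I (MvPolynomial.X i)) = x i
      rw [Ideal.Quotient.lift_mk]
      exact MvPolynomial.aeval_X x i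
    rw [← h4, ← h3]
    rfl
  rw [hx, h1 i, map_sum]
  exact Finset.sum_congr rfl (fun j _ => by rw [map_smul])

theorem surj_of_indSmooth {S : Type u} [CommRing S] [Algebra R S]
    (hS : Smoothing.IndSmooth R S) (y : S ⊗[R] B) (hy : IsIntegral S y) :
    ∃ w : S ⊗[R] integralClosure R B,
      Algebra.TensorProduct.map (AlgHom.id S S) (integralClosure R B).val w = y := by
  classical
  obtain ⟨F, hFm, hF⟩ := hy
  let φ : MvPolynomial S R →ₐ[R] S := MvPolynomial.aeval id
  have hφX : ∀ s : S, φ (MvPolynomial.X s) = s := fun s => MvPolynomial.aeval_X id s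
  have hφ : Function.Surjective φ := fun s => ⟨MvPolynomial.X s, hφX s⟩
  obtain ⟨FP, hFP, -, hFPm⟩ := Polynomial.lifts_and_natDegree_eq_and_monic
    ((Polynomial.mem_lifts (f := φ.toRingHom) F).mpr
      (Polynomial.map_surjective φ.toRingHom hφ F)) hFm
  obtain ⟨T₀, hT₀⟩ := TensorProduct.exists_finset y
  let Y : MvPolynomial S R ⊗[R] B := ∑ i ∈ T₀, (MvPolynomial.X i.1 : MvPolynomial S R) ⊗ₜ[R] i.2
  have hY : tm B φ Y = y := by
    rw [hT₀]
    simp only [Y, map_sum, tm, Algebra.TensorProduct.map_tmul, AlgHom.coe_id, id_eq]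
    exact Finset.sum_congr rfl (fun i _ => by rw [hφX])
  let E : MvPolynomial S R ⊗[R] B := Polynomial.eval₂ (algebraMap (MvPolynomial S R) (MvPolynomial S R ⊗[R] B)) Y FP
  have hE : tm B φ E = 0 := by
    rw [tm_eval₂, hY, hFP]
    exact hF
  -- the kernel
  have hex := rTensor_exact B (LinearMap.exact_subtype_ker_map φ.toLinearMap) hφ
  have hE' : LinearMap.rTensor B φ.toLinearMap E = 0 := by
    rw [← tm_eq_rTensor]; exact hE
  obtain ⟨w, hw⟩ := (hex E).mp hE'
  obtain ⟨T₁, hT₁⟩ := TensorProduct.exists_finset w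
  have hEsum : E = ∑ l ∈ T₁, ((l.1 : MvPolynomial S R) ⊗ₜ[R] l.2) := by
    rw [← hw, hT₁, map_sum]
    exact Finset.sum_congr rfl (fun l _ => by simp)
  -- finite support
  let σ : Finset S := (T₁.biUnion fun l => (l.1 : MvPolynomial S R).vars) ∪ T₀.image Prod.fst
  let s : Set S := ↑σ
  haveI : Finite s := σ.finite_toSet.to_subtype
  let Ps := MvPolynomial s R
  let ι : Ps →ₐ[R] MvPolynomial S R := MvPolynomial.rename ((↑) : s → S)
  let ρ : MvPolynomial S R →ₐ[R] Ps :=
    MvPolynomial.killCompl (Subtype.val_injective : Function.Injective ((↑) : s → S))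
  have hιρ : ∀ p : MvPolynomial S R, (↑p.vars : Set S) ⊆ s → ι (ρ p) = p := by
    intro p hp
    have hmem : p ∈ MvPolynomial.supported R s := MvPolynomial.mem_supported.mpr hp
    rw [MvPolynomial.supported_eq_range_rename] at hmem
    obtain ⟨q, rfl⟩ := hmem
    exact congrArg ι (MvPolynomial.killCompl_rename_app _ q)
  have hk : ∀ l ∈ T₁, ι (ρ (l.1 : MvPolynomial S R)) = (l.1 : MvPolynomial S R) := by
    intro l hl
    refine hιρ _ ?_
    intro v hv
    exact Finset.mem_coe.mpr (Finset.mem_union_left _ (Finset.mem_biUnion.mpr ⟨l, hl, hv⟩))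
  have hX : ∀ i ∈ T₀, ι (ρ (MvPolynomial.X i.1 : MvPolynomial S R)) = MvPolynomial.X i.1 := by
    intro i hi
    have ha : i.1 ∈ s :=
      Finset.mem_coe.mpr (Finset.mem_union_right _ (Finset.mem_image_of_mem _ hi))
    have e1 : (MvPolynomial.X i.1 : MvPolynomial S R) = ι (MvPolynomial.X ⟨i.1, ha⟩) :=
      (MvPolynomial.rename_X ((↑) : s → S) ⟨i.1, ha⟩).symm
    rw [e1]
    exact congrArg ι (MvPolynomial.killCompl_rename_app _ _)
  -- the finitely presented algebra
  let gens : Finset Ps := T₁.image (fun l => ρ (l.1 : MvPolynomial S R))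
  let I : Ideal Ps := Ideal.span (gens : Set Ps)
  let A' := Ps ⧸ I
  haveI : Algebra.FinitePresentation R A' := Algebra.FinitePresentation.quotient ⟨gens, rfl⟩
  let φs : Ps →ₐ[R] S := φ.comp ι
  have hI : ∀ a ∈ I, φs a = 0 := by
    have hle : I ≤ RingHom.ker φs.toRingHom := by
      rw [Ideal.span_le]
      intro a ha
      obtain ⟨l, hl, rfl⟩ := Finset.mem_image.mp (Finset.mem_coe.mp ha)
      rw [SetLike.mem_coe, RingHom.mem_ker]
      show φ (ι (ρ (l.1 : MvPolynomial S R))) = 0
      rw [hk l hl]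
      exact LinearMap.mem_ker.mp l.1.2
    exact fun a ha => hle ha
  let f : A' →ₐ[R] S := Ideal.Quotient.liftₐ I φs hI
  let mk : Ps →ₐ[R] A' := Ideal.Quotient.mkₐ R I
  have hfmk : f.comp mk = φs := Ideal.Quotient.liftₐ_comp I φs hI
  have hιρY : tm B ι (tm B ρ Y) = Y := by
    simp only [Y, map_sum, tm, Algebra.TensorProduct.map_tmul, AlgHom.coe_id, id_eq]
    exact Finset.sum_congr rfl (fun i hi => by rw [hX i hi])
  let y' : A' ⊗[R] B := tm B mk (tm B ρ Y)
  have hy'y : tm B f y' = y := by
    show tm B f (tm B mk (tm B ρ Y)) = y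
    rw [← tm_comp, hfmk]
    show tm B (φ.comp ι) (tm B ρ Y) = y
    rw [tm_comp, hιρY, hY]
  let F' : Polynomial A' := (FP.map ρ.toRingHom).map mk.toRingHom
  have hF'm : F'.Monic := (hFPm.map _).map _
  have hF' : Polynomial.eval₂ (algebraMap A' (A' ⊗[R] B)) y' F' = 0 := by
    show Polynomial.eval₂ _ (tm B mk (tm B ρ Y)) ((FP.map ρ.toRingHom).map mk.toRingHom) = 0
    rw [← tm_eval₂, ← tm_eval₂]
    show tm B mk (tm B ρ E) = 0
    rw [hEsum]
    simp only [map_sum, tm, Algebra.TensorProduct.map_tmul, AlgHom.coe_id, id_eq]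
    refine Finset.sum_eq_zero (fun l hl => ?_)
    have h0 : mk (ρ (l.1 : MvPolynomial S R)) = 0 :=
      Ideal.Quotient.eq_zero_iff_mem.mpr
        (Ideal.subset_span (Finset.mem_coe.mpr (Finset.mem_image_of_mem _ hl)))
    rw [h0, TensorProduct.zero_tmul]
  -- factor through a smooth algebra
  obtain ⟨T, _, _, hsm, g, h, hgh⟩ := hS A' inferInstance f
  haveI := hsm
  let yT : T ⊗[R] B := tm B g y'
  have hyT : IsIntegral T yT := ⟨F'.map g.toRingHom, hF'm.map _, by
    show Polynomial.eval₂ _ (tm B g y') (F'.map g.toRingHom) = 0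
    rw [← tm_eval₂, hF', map_zero]⟩
  obtain ⟨wT, hwT⟩ :=
    (TensorProduct.toIntegralClosure_bijective_of_smooth (R := R) (S := T) (B := B)).2 ⟨yT, hyT⟩
  have hwT' : Algebra.TensorProduct.map (AlgHom.id T T) (integralClosure R B).val wT = yT :=
    congrArg Subtype.val hwT
  refine ⟨Algebra.TensorProduct.map h (AlgHom.id R (integralClosure R B)) wT, ?_⟩
  have nat : ∀ z : T ⊗[R] integralClosure R B,
      Algebra.TensorProduct.map (AlgHom.id S S) (integralClosure R B).val
        (Algebra.TensorProduct.map h (AlgHom.id R (integralClosure R B)) z) =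
      tm B h (Algebra.TensorProduct.map (AlgHom.id T T) (integralClosure R B).val z) := by
    intro z
    induction z with
    | zero => simp
    | tmul t a => simp [tm]
    | add x y hx hy => simp only [map_add, hx, hy]
  rw [nat, hwT']
  show tm B h (tm B g y') = y
  rw [← tm_comp, hgh, hy'y]

end aux



/-- If S is ind-smooth over R (every R-algebra map into S from a finitely presented R-algebra factors
through a smooth R-algebra) then for every R-algebra B the canonical map S ⊗_R A → A', from the base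
change of the integral closure A of R in B to the integral closure A' of S in S ⊗_R B, is bijective. -/
theorem result (R : Type u) [CommRing R] (S : Type u)
    [CommRing S] [Algebra R S] (hS : Smoothing.IndSmooth R S) (B : Type u) [CommRing B]
    [Algebra R B] : Function.Bijective (TensorProduct.toIntegralClosure R S B) := by
  haveI := flat_of_indSmooth hS
  refine ⟨TensorProduct.toIntegralClosure_injective_of_flat, ?_⟩
  rintro ⟨y, hy⟩
  obtain ⟨w, hw⟩ := surj_of_indSmooth hS y hy
  exact ⟨w, Subtype.ext hw⟩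


end Groth.Agent.S9446
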