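import Groth.Statements.S9237
import Mathlib
import Groth.Agent.Lib.Helper17.NormHens3
import Groth.Agent.Lib.Helper24.HensFormalCat
import Groth.Agent.Lib.Helper24.HensRegular

set_option autoImplicit false
set_option linter.style.haveILetI false
universe u
open Brnch

namespace Groth.Agent.S9237

/-- Let A be a local ring and S a henselization of A. Then the number of minimal prime ideals of S, a
natural number or infinity, equals the number of branches of A as computed from the integral closure
of A_red in its total ring of fractions: infinity if A has infinitely many minimal primes, and
otherwise the number of maximal ideals of that integral closure. -/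
theorem result (A S : Type u) [CommRing A]
    [IsLocalRing A] [CommRing S] [IsLocalRing S] [Algebra A S] [IsLocalHom (algebraMap A S)]
    [Hensel.IsHenselization A S] :
    ENat.card (minimalPrimes S) = Brnch.numBranches A := by
  classical
  haveI : Module.FaithfullyFlat A S :=
    Groth.Agent.Lib.helper24.Henselization.faithfullyFlat_of_isHenselization A S
  haveI : HenselianLocalRing S := Hensel.IsHenselization.henselian (R := A)
  unfold Brnch.numBranches
  split_ifs with hfin
  · exact Groth.Agent.Lib.helper17.NormHens.card_minimalPrimes_eq hfin
      (Groth.Agent.Lib.helper17.NormHens.indQF_of_isHenselization A S)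
      (Groth.Agent.Lib.helper17.NormHens.indSmooth_of_isHenselization A S)
      (Groth.Agent.Lib.Helper24.HensRegular.map_maximalIdeal_of_isHenselization A S)
      (fun b => by
        obtain ⟨a, ha⟩ := Groth.Agent.Lib.Helper24.HensFormalCat.dense_of_isHenselization A S 1 b
        exact ⟨a, by rwa [pow_one] at ha⟩)
  · exact Groth.Agent.Lib.helper17.NormHens.card_minimalPrimes_eq_top hfin

end Groth.Agent.S9237
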