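import Mathlib.RingTheory.MvPowerSeries.Trunc
import Mathlib.RingTheory.MvPowerSeries.Basic
import Mathlib.Algebra.MvPolynomial.Eval
import Mathlib.Algebra.MvPolynomial.CommRing
import Mathlib.RingTheory.Ideal.Maps
import Mathlib.RingTheory.Nilpotent.Basic
import Mathlib.Tactic.Ring

/-!
# Evaluating power series in finitely many variables at nilpotent elements
-/

set_option autoImplicit false
universe u

namespace Groth.Agent.LibPS29

open MvPowerSeries

section box

/-- the constant exponent vector `(N, …, N)`. -/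
noncomputable def box (n N : ℕ) : Fin n →₀ ℕ := Finsupp.equivFunOnFinite.symm (fun _ => N)

lemma box_apply (n N : ℕ) (i : Fin n) : box n N i = N := rfl

lemma le_box_iff {n N : ℕ} (m : Fin n →₀ ℕ) : m ≤ box n N ↔ ∀ i, m i ≤ N := by
  rw [Finsupp.le_def]
  rfl

end box

section poly

variable {A : Type u} [CommRing A] {n : ℕ} {E : Type u} [CommRing E] [Algebra A E]

lemma aeval_eq_zero_of_coeff (z : Fin n → E) (N : ℕ) (hz : ∀ i, z i ^ (N + 1) = 0)
    (P : MvPolynomial (Fin n) A) (hP : ∀ m, m ≤ box n N → P.coeff m = 0) :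
    MvPolynomial.aeval z P = 0 := by
  rw [P.as_sum, map_sum]
  refine Finset.sum_eq_zero fun d hd => ?_
  have hd' : ¬ d ≤ box n N := by
    intro h
    exact (MvPolynomial.mem_support_iff.1 hd) (hP d h)
  rw [le_box_iff] at hd'
  push Not at hd'
  obtain ⟨i, hi⟩ := hd'
  rw [MvPolynomial.aeval_monomial, Finsupp.prod]
  have hi' : i ∈ d.support := by
    rw [Finsupp.mem_support_iff]; omega
  rw [Finset.prod_eq_zero hi', mul_zero]
  have : d i = (N + 1) + (d i - (N + 1)) := by omega
  rw [this, pow_add, hz, zero_mul]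

/-- all coefficients in the kernel of the algebra map. -/
lemma aeval_eq_zero_of_algebraMap (z : Fin n → E) (P : MvPolynomial (Fin n) A)
    (hP : ∀ m, algebraMap A E (P.coeff m) = 0) : MvPolynomial.aeval z P = 0 := by
  rw [P.as_sum, map_sum]
  refine Finset.sum_eq_zero fun d _ => ?_
  rw [MvPolynomial.aeval_monomial, hP, zero_mul]

end poly

section ev

variable {A : Type u} [CommRing A] {n : ℕ} {E : Type u} [CommRing E] [Algebra A E]

/-- evaluation of a power series at a family `z` with `z i ^ (N+1) = 0`. -/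
noncomputable def ev (z : Fin n → E) (N : ℕ) (hz : ∀ i, z i ^ (N + 1) = 0) :
    MvPowerSeries (Fin n) A →ₐ[A] E where
  toFun p := MvPolynomial.aeval z (trunc' A (box n N) p)
  map_one' := by simp
  map_zero' := by simp
  map_add' p q := by simp
  map_mul' p q := by
    rw [← map_mul, ← sub_eq_zero, ← map_sub]
    apply aeval_eq_zero_of_coeff z N hz
    intro m hm
    rw [MvPolynomial.coeff_sub, coeff_trunc', if_pos hm,
      coeff_trunc'_mul_trunc'_eq_coeff_mul _ _ _ hm, sub_self]
  commutes' a := by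
    rw [MvPowerSeries.algebraMap_apply]
    simp

lemma ev_apply (z : Fin n → E) (N : ℕ) (hz : ∀ i, z i ^ (N + 1) = 0)
    (p : MvPowerSeries (Fin n) A) :
    ev z N hz p = MvPolynomial.aeval z (trunc' A (box n N) p) := rfl

lemma ev_X (z : Fin n → E) (N : ℕ) (hN : 1 ≤ N) (hz : ∀ i, z i ^ (N + 1) = 0) (i : Fin n) :
    ev z N hz (X i : MvPowerSeries (Fin n) A) = z i := by
  rw [ev_apply]
  have : trunc' A (box n N) (X i : MvPowerSeries (Fin n) A) = MvPolynomial.X i := by
    ext m
    rw [coeff_trunc', MvPolynomial.coeff_X, MvPowerSeries.coeff_X]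
    by_cases h : m = Finsupp.single i 1
    · subst h
      have hle : Finsupp.single i 1 ≤ box n N := by
        rw [le_box_iff]
        intro j
        by_cases hj : i = j
        · subst hj
          rw [Finsupp.single_eq_same]
          exact hN
        · rw [Finsupp.single_eq_of_ne (Ne.symm hj)]
          exact Nat.zero_le _
      simp [hle]
    · have h' : ¬ Finsupp.single i 1 = m := fun h' => h h'.symm
      simp [h, h']
  rw [this, MvPolynomial.aeval_X]

end ev

section uniq

variable {A : Type u} [CommRing A] {n : ℕ} {E : Type u} [CommRing E] [Algebra A E]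

/-- the part of `r` consisting of the monomials whose first exponent exceeding `N` is at `i`. -/
noncomputable def part (N : ℕ) (i : Fin n) (r : MvPowerSeries (Fin n) A) : MvPowerSeries (Fin n) A :=
  fun m => if (N < m i ∧ ∀ j < i, m j ≤ N) then coeff m r else 0

lemma coeff_part (N : ℕ) (i : Fin n) (r : MvPowerSeries (Fin n) A) (m : Fin n →₀ ℕ) :
    coeff m (part N i r) = if (N < m i ∧ ∀ j < i, m j ≤ N) then coeff m r else 0 := rfl

lemma X_pow_dvd_part (N : ℕ) (i : Fin n) (r : MvPowerSeries (Fin n) A) :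
    (X i : MvPowerSeries (Fin n) A) ^ (N + 1) ∣ part N i r := by
  rw [X_pow_dvd_iff]
  intro m hm
  rw [coeff_part, if_neg]
  intro h
  omega

lemma eq_sum_part (N : ℕ) (r : MvPowerSeries (Fin n) A)
    (hr : ∀ m, m ≤ box n N → coeff m r = 0) : r = ∑ i, part N i r := by
  classical
  ext m
  rw [map_sum]
  simp only [coeff_part]
  by_cases hm : m ≤ box n N
  · rw [hr m hm]
    symm
    apply Finset.sum_eq_zero
    intro i _
    rw [if_neg]
    intro h
    have := (le_box_iff m).1 hm i
    omega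
  · rw [le_box_iff] at hm
    push Not at hm
    have hne : (Finset.univ.filter fun i : Fin n => N < m i).Nonempty := by
      obtain ⟨i, hi⟩ := hm
      exact ⟨i, by simp [hi]⟩
    set i₀ := (Finset.univ.filter fun i : Fin n => N < m i).min' hne with hi₀
    have hi₀mem : N < m i₀ := by
      have := Finset.min'_mem _ hne
      rw [Finset.mem_filter] at this
      exact this.2
    have hmin : ∀ j, N < m j → i₀ ≤ j := fun j hj =>
      Finset.min'_le _ j (by simp [hj])
    rw [Finset.sum_eq_single i₀]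
    · rw [if_pos]
      refine ⟨hi₀mem, fun j hj => ?_⟩
      by_contra h
      push Not at h
      exact absurd (hmin j h) (not_le.2 hj)
    · intro i _ hi
      rw [if_neg]
      rintro ⟨h1, h2⟩
      have h3 := hmin i h1
      have h4 : i₀ < i := lt_of_le_of_ne h3 (Ne.symm hi)
      have := h2 i₀ h4
      omega
    · intro h
      exact absurd (Finset.mem_univ _) h

theorem algHom_eq_ev (z : Fin n → E) (N : ℕ) (hz : ∀ i, z i ^ (N + 1) = 0)
    (g : MvPowerSeries (Fin n) A →ₐ[A] E) (hg : ∀ i, g (X i) = z i) : g = ev z N hz := by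
  have h1 : ∀ P : MvPolynomial (Fin n) A, g (P : MvPowerSeries (Fin n) A) = MvPolynomial.aeval z P := by
    intro P
    have : g.comp (MvPolynomial.coeToMvPowerSeries.algHom A) = MvPolynomial.aeval z := by
      apply MvPolynomial.algHom_ext
      intro i
      simp [hg]
    have h2 := congrArg (fun f : MvPolynomial (Fin n) A →ₐ[A] E => f P) this
    simpa using h2
  have h2 : ∀ r : MvPowerSeries (Fin n) A, (∀ m, m ≤ box n N → coeff m r = 0) → g r = 0 := by
    intro r hr
    rw [eq_sum_part N r hr, map_sum]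
    apply Finset.sum_eq_zero
    intro i _
    obtain ⟨q, hq⟩ := X_pow_dvd_part N i r
    rw [hq, map_mul, map_pow, hg, hz, zero_mul]
  ext p
  rw [ev_apply, ← h1]
  have h4 : g (p - (trunc' A (box n N) p : MvPowerSeries (Fin n) A)) = 0 := by
    apply h2
    intro m hm
    rw [map_sub, MvPolynomial.coeff_coe, coeff_trunc', if_pos hm, sub_self]
  rw [← sub_eq_zero, ← map_sub]
  exact h4

end uniq

section cont

variable {A : Type u} [CommRing A] {n : ℕ} (𝔞 : Ideal A)

/-- total degree of an exponent vector. -/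
def tdeg (d : Fin n →₀ ℕ) : ℕ := ∑ i, d i

lemma tdeg_add (c e : Fin n →₀ ℕ) : tdeg (c + e) = tdeg c + tdeg e := by
  simp [tdeg, Finset.sum_add_distrib]

lemma tdeg_le_of_le_box {N : ℕ} (d : Fin n →₀ ℕ) (h : d ≤ box n N) : tdeg d ≤ n * N := by
  rw [le_box_iff] at h
  calc tdeg d ≤ ∑ _i : Fin n, N := Finset.sum_le_sum fun i _ => h i
    _ = n * N := by simp

lemma tdeg_pos_of_ne_zero (d : Fin n →₀ ℕ) (h : d ≠ 0) : 1 ≤ tdeg d := by
  by_contra h'
  apply h
  ext i
  have h0 : tdeg d = 0 := by omega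
  have := (Finset.sum_eq_zero_iff_of_nonneg (fun i _ => Nat.zero_le (d i))).1 h0 i (Finset.mem_univ i)
  simpa using this

/-- the ideal of power series whose coefficient at `d` lies in `𝔞 ^ (m - |d|)`. -/
def Fil (m : ℕ) : Ideal (MvPowerSeries (Fin n) A) where
  carrier := {p | ∀ d, coeff d p ∈ 𝔞 ^ (m - tdeg d)}
  add_mem' := fun {p q} hp hq d => by
    rw [map_add]; exact Ideal.add_mem _ (hp d) (hq d)
  zero_mem' := fun d => by simp
  smul_mem' := fun b p hp d => by
    classical
    rw [smul_eq_mul, coeff_mul]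
    refine Submodule.sum_mem _ fun ce hce => ?_
    rw [Finset.mem_antidiagonal] at hce
    refine Ideal.mul_mem_left _ _ (Ideal.pow_le_pow_right ?_ (hp ce.2))
    rw [← hce, tdeg_add]
    omega

lemma mem_Fil (m : ℕ) (p : MvPowerSeries (Fin n) A) :
    p ∈ Fil 𝔞 m ↔ ∀ d, coeff d p ∈ 𝔞 ^ (m - tdeg d) := Iff.rfl

lemma Fil_mul_le (a b : ℕ) : Fil (n := n) 𝔞 a * Fil 𝔞 b ≤ Fil 𝔞 (a + b) := by
  classical
  rw [Ideal.mul_le]
  intro x hx y hy d
  rw [coeff_mul]
  refine Submodule.sum_mem _ fun ce hce => ?_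
  rw [Finset.mem_antidiagonal] at hce
  have h1 : coeff ce.1 x * coeff ce.2 y ∈ 𝔞 ^ (a - tdeg ce.1) * 𝔞 ^ (b - tdeg ce.2) :=
    Ideal.mul_mem_mul (hx ce.1) (hy ce.2)
  rw [← pow_add] at h1
  refine Ideal.pow_le_pow_right ?_ h1
  rw [← hce, tdeg_add]
  omega

/-- the ideal of definition of the product topology. -/
noncomputable def Idef : Ideal (MvPowerSeries (Fin n) A) :=
  𝔞.map (MvPowerSeries.C : A →+* MvPowerSeries (Fin n) A) ⊔
    RingHom.ker (MvPowerSeries.constantCoeff : MvPowerSeries (Fin n) A →+* A)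

lemma Idef_le_Fil : Idef (n := n) 𝔞 ≤ Fil 𝔞 1 := by
  classical
  rw [Idef, sup_le_iff]
  constructor
  · rw [Ideal.map_le_iff_le_comap]
    intro a ha
    rw [Ideal.mem_comap, mem_Fil]
    intro d
    rw [MvPowerSeries.coeff_C]
    split_ifs with h
    · subst h
      simpa [tdeg] using ha
    · exact Ideal.zero_mem _
  · intro p hp
    rw [RingHom.mem_ker] at hp
    rw [mem_Fil]
    intro d
    by_cases h : d = 0
    · subst h
      rw [MvPowerSeries.coeff_zero_eq_constantCoeff_apply, hp]
      exact Ideal.zero_mem _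
    · have := tdeg_pos_of_ne_zero d h
      have h0 : 1 - tdeg d = 0 := by omega
      rw [h0, pow_zero, Ideal.one_eq_top]
      trivial

lemma Idef_pow_le_Fil (m : ℕ) : Idef (n := n) 𝔞 ^ m ≤ Fil 𝔞 m := by
  induction m with
  | zero =>
    intro p _ d
    simp
  | succ m ih =>
    rw [pow_succ]
    exact (Ideal.mul_mono ih (Idef_le_Fil 𝔞)).trans (Fil_mul_le 𝔞 m 1)

variable {E : Type u} [CommRing E] [Algebra A E]

theorem ev_eq_zero_of_mem_pow (z : Fin n → E) (N : ℕ) (hz : ∀ i, z i ^ (N + 1) = 0) (k : ℕ)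
    (hk : (𝔞 ^ k).map (algebraMap A E) = ⊥) (p : MvPowerSeries (Fin n) A)
    (hp : p ∈ Idef (n := n) 𝔞 ^ (k + n * N)) : ev z N hz p = 0 := by
  rw [ev_apply]
  apply aeval_eq_zero_of_algebraMap
  intro m
  rw [coeff_trunc']
  split_ifs with hm
  · have h1 := Idef_pow_le_Fil 𝔞 _ hp m
    have h2 : coeff m p ∈ 𝔞 ^ k := by
      refine Ideal.pow_le_pow_right ?_ h1
      have := tdeg_le_of_le_box m hm
      omega
    have h3 : algebraMap A E (coeff m p) ∈ (𝔞 ^ k).map (algebraMap A E) :=
      Ideal.mem_map_of_mem _ h2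
    rw [hk, Ideal.mem_bot] at h3
    exact h3
  · exact map_zero _

end cont

end Groth.Agent.LibPS29
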