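import Groth.Statements.S17500
import Mathlib
import Groth.Agent.Lib.Helper19.PrincFlat

set_option autoImplicit false
universe u
open TorsMod

namespace Groth.Agent.S17500

open Groth.Agent.Lib.Helper19.PrincFlat




/-- Let p be a prime number, n a natural number and H a module over ℤ/p^nℤ. Then H is flat over ℤ/p^nℤ
if and only if, for every i with 0 ≤ i ≤ n, the kernel of multiplication by p^i on H coincides with
the image of multiplication by p^(n-i) on H. (The published item is phrased for an fppf sheaf of
ℤ/p^nℤ-modules on a scheme; this is the case of a single module, which is the case the argument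
treats.) -/
theorem result (p n : ℕ) [Fact p.Prime]
    (H : Type u) [AddCommGroup H] [Module (ZMod (p ^ n)) H] :
    Module.Flat (ZMod (p ^ n)) H ↔
      ∀ i : ℕ, i ≤ n →
        LinearMap.ker ((p ^ i : ZMod (p ^ n)) • (LinearMap.id : H →ₗ[ZMod (p ^ n)] H)) =
          LinearMap.range ((p ^ (n - i) : ZMod (p ^ n)) • (LinearMap.id : H →ₗ[ZMod (p ^ n)] H)) := by
  constructor
  · intro hflat i hi
    have hba : (p : ZMod (p ^ n)) ^ i * (p : ZMod (p ^ n)) ^ (n - i) = 0 := by
      rw [← pow_add, show i + (n - i) = n by omega, p_pow_n]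
    ext m
    simp only [LinearMap.mem_ker, LinearMap.smul_apply, LinearMap.id_coe, id_eq, LinearMap.mem_range]
    constructor
    · intro hm
      obtain ⟨m', hm'⟩ := exists_eq_smul_of_flat _ _ (exists_eq_mul_of_pow_mul_eq_zero p n i hi) hba H m hm
      exact ⟨m', hm'.symm⟩
    · rintro ⟨m', rfl⟩
      rw [smul_smul, hba, zero_smul]
  · intro h
    haveI : IsPrincipalIdealRing (ZMod (p ^ n)) :=
      IsPrincipalIdealRing.of_surjective (Int.castRingHom (ZMod (p ^ n))) ZMod.intCast_surjective
    apply flat_of_forall_fg_principal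
    intro I _
    obtain ⟨g, rfl⟩ : ∃ g, I = Ideal.span {g} := ⟨_, (Submodule.IsPrincipal.span_singleton_generator I).symm⟩
    by_cases hg : g = 0
    · subst hg
      exact ⟨0, 1, rfl, by simp, fun m _ => ⟨m, by simp⟩⟩
    · obtain ⟨v, hv, u, hu, rfl⟩ := exists_unit_mul_pow p n g hg
      refine ⟨(p : ZMod (p ^ n)) ^ v, (p : ZMod (p ^ n)) ^ (n - v), ?_, ?_, ?_⟩
      · exact Ideal.span_singleton_mul_left_unit hu _
      · rw [← pow_add, show n - v + v = n by omega, p_pow_n]
      · intro m hm
        have h1 := h v hv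
        have h2 : m ∈ LinearMap.ker (((p : ZMod (p ^ n)) ^ v) • (LinearMap.id : H →ₗ[ZMod (p ^ n)] H)) := by
          simpa using hm
        rw [h1] at h2
        obtain ⟨m', hm'⟩ := h2
        exact ⟨m', by simpa using hm'.symm⟩

end Groth.Agent.S17500
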