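import Groth.Statements.S9455
import Groth.Agent.Lib.Helper24.PerfSmooth
import Groth.Agent.Lib.Helper24.FlatNilSmooth
import Groth.Agent.S17500

set_option autoImplicit false
universe u
open CAlg

namespace Groth.Agent.S9455

/-- If Λ is a Cohen ring (a complete discrete valuation ring with maximal ideal generated by a prime
number p) then Λ/p^nΛ is formally smooth over ℤ/p^nℤ for every n ≥ 1; the ℤ/p^nℤ-algebra structure
on Λ/p^nΛ is the unique one and is taken as a hypothesis. -/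
theorem result (Λ : Type u) [CommRing Λ] [IsDomain Λ]
    [IsDiscreteValuationRing Λ] [IsAdicComplete (IsLocalRing.maximalIdeal Λ) Λ] (p : ℕ)
    (hp : p.Prime) (hm : IsLocalRing.maximalIdeal Λ = Ideal.span {(p : Λ)}) (n : ℕ) (hn : 1 ≤ n)
    [Algebra (ZMod (p ^ n)) (Λ ⧸ Ideal.span {((p : Λ) ^ n)})] :
    Algebra.FormallySmooth (ZMod (p ^ n)) (Λ ⧸ Ideal.span {((p : Λ) ^ n)}) := by
  classical
  haveI hpf : Fact p.Prime := ⟨hp⟩
  haveI : NeZero (p ^ n) := ⟨pow_ne_zero _ hp.ne_zero⟩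
  have hp0 : (p : Λ) ≠ 0 := by
    intro h0
    have h1 : IsLocalRing.maximalIdeal Λ = ⊥ := by rw [hm, h0, Ideal.span_singleton_eq_bot]
    exact IsDiscreteValuationRing.not_a_field Λ h1
  have hpn0 : ((p : ZMod (p ^ n))) ^ n = 0 := by
    rw [← Nat.cast_pow]; exact ZMod.natCast_self _
  -- the base ideal
  have hInil : IsNilpotent (Ideal.span {(p : ZMod (p ^ n))}) := by
    refine ⟨n, ?_⟩
    rw [Ideal.span_singleton_pow, hpn0, Ideal.zero_eq_bot, Ideal.span_singleton_eq_bot]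
  have hSp : ∀ i : ℕ, algebraMap (ZMod (p ^ n)) (Λ ⧸ Ideal.span {((p : Λ) ^ n)})
      ((p : ZMod (p ^ n)) ^ i) = Ideal.Quotient.mk _ ((p : Λ) ^ i) := by
    intro i
    rw [map_pow, map_natCast, map_pow, map_natCast]
  -- flatness
  have hsmul : ∀ (i : ℕ) (x : Λ), ((p : ZMod (p ^ n)) ^ i) •
      (Ideal.Quotient.mk (Ideal.span {((p : Λ) ^ n)}) x) =
      Ideal.Quotient.mk (Ideal.span {((p : Λ) ^ n)}) ((p : Λ) ^ i * x) := by
    intro i x
    rw [Algebra.smul_def, hSp i, ← map_mul]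
  haveI hflat : Module.Flat (ZMod (p ^ n)) (Λ ⧸ Ideal.span {((p : Λ) ^ n)}) := by
    rw [Groth.Agent.S17500.result p n]
    intro i hi
    ext s
    simp only [LinearMap.mem_ker, LinearMap.smul_apply, LinearMap.id_coe, id_eq,
      LinearMap.mem_range]
    obtain ⟨x, rfl⟩ := Ideal.Quotient.mk_surjective s
    constructor
    · intro hx
      have hx2 : (p : Λ) ^ i * x ∈ Ideal.span {((p : Λ) ^ n)} := by
        rw [← Ideal.Quotient.eq_zero_iff_mem, ← hsmul i x]
        exact hx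
      obtain ⟨y, hy⟩ := Ideal.mem_span_singleton.1 hx2
      have h1 : (p : Λ) ^ n = (p : Λ) ^ i * (p : Λ) ^ (n - i) := by
        rw [← pow_add]; congr 1; omega
      have hy2 : (p : Λ) ^ i * x = (p : Λ) ^ i * ((p : Λ) ^ (n - i) * y) := by
        rw [hy, h1, mul_assoc]
      have h2 : x = (p : Λ) ^ (n - i) * y := mul_left_cancel₀ (pow_ne_zero i hp0) hy2
      refine ⟨Ideal.Quotient.mk _ y, ?_⟩
      rw [hsmul (n - i) y, h2]
    · rintro ⟨t, ht⟩
      obtain ⟨y, rfl⟩ := Ideal.Quotient.mk_surjective t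
      rw [← ht, smul_smul, ← pow_add, show i + (n - i) = n by omega, hpn0, zero_smul]
  -- the closed fibre
  have hJ : (Ideal.span {(p : ZMod (p ^ n))}).map
      (algebraMap (ZMod (p ^ n)) (Λ ⧸ Ideal.span {((p : Λ) ^ n)})) =
      (IsLocalRing.maximalIdeal Λ).map (Ideal.Quotient.mk (Ideal.span {((p : Λ) ^ n)})) := by
    rw [Ideal.map_span, Set.image_singleton, map_natCast, hm, Ideal.map_span, Set.image_singleton,
      map_natCast]
  haveI hJmax : ((Ideal.span {(p : ZMod (p ^ n))}).map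
      (algebraMap (ZMod (p ^ n)) (Λ ⧸ Ideal.span {((p : Λ) ^ n)}))).IsMaximal := by
    rw [hJ]
    refine Ideal.IsMaximal.map_of_surjective_of_ker_le Ideal.Quotient.mk_surjective ?_
    rw [Ideal.mk_ker, hm, Ideal.span_singleton_le_iff_mem, Ideal.mem_span_singleton]
    exact dvd_pow_self _ (by omega)
  letI : Field ((Λ ⧸ Ideal.span {((p : Λ) ^ n)}) ⧸ (Ideal.span {(p : ZMod (p ^ n))}).map
      (algebraMap (ZMod (p ^ n)) (Λ ⧸ Ideal.span {((p : Λ) ^ n)}))) := Ideal.Quotient.field _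
  have hpR : ((p : ℕ) : ZMod (p ^ n) ⧸ Ideal.span {(p : ZMod (p ^ n))}) = 0 := by
    rw [← map_natCast (Ideal.Quotient.mk (Ideal.span {(p : ZMod (p ^ n))})),
      Ideal.Quotient.eq_zero_iff_mem]
    exact Ideal.mem_span_singleton_self _
  have hfrob : ∀ a : ZMod (p ^ n) ⧸ Ideal.span {(p : ZMod (p ^ n))}, ∃ b, b ^ p = a := by
    intro a
    refine ⟨a, ?_⟩
    obtain ⟨r, rfl⟩ := Ideal.Quotient.mk_surjective a
    obtain ⟨m, rfl⟩ := ZMod.natCast_zmod_surjective r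
    rw [map_natCast]
    have h1 : ((p : ℤ)) ∣ ((m : ℤ) ^ p - m) := by
      rw [← ZMod.intCast_zmod_eq_zero_iff_dvd]
      push_cast
      rw [ZMod.pow_card, sub_self]
    obtain ⟨c, hc⟩ := h1
    have h2 : (((m : ℤ) ^ p - m : ℤ) : ZMod (p ^ n) ⧸ Ideal.span {(p : ZMod (p ^ n))}) = 0 := by
      rw [hc, Int.cast_mul, Int.cast_natCast, hpR, zero_mul]
    push_cast at h2
    exact sub_eq_zero.1 h2
  haveI : Algebra.FormallySmooth (ZMod (p ^ n) ⧸ Ideal.span {(p : ZMod (p ^ n))})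
      ((Λ ⧸ Ideal.span {((p : Λ) ^ n)}) ⧸ (Ideal.span {(p : ZMod (p ^ n))}).map
        (algebraMap (ZMod (p ^ n)) (Λ ⧸ Ideal.span {((p : Λ) ^ n)}))) :=
    Groth.Agent.Lib.Helper24.PerfSmooth.formallySmooth_of_perfect p hfrob hpR
  exact Groth.Agent.Lib.Helper24.FlatNilSmooth.formallySmooth_of_flat_of_isNilpotent
    (Ideal.span {(p : ZMod (p ^ n))}) hInil

end Groth.Agent.S9455
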