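import Groth.Statements.S2456
import Groth.Agent.Lib.Helper24.AdicLift
import Groth.Agent.Lib.Helper24.FieldSmoothInt
import Groth.Agent.S9455

set_option autoImplicit false
universe u
open EGA41

namespace Groth.Agent.S2456

open IsLocalRing in
/-- Let W be a Cohen ring (a field of characteristic zero, or a complete discrete valuation ring with
maximal ideal generated by the residue characteristic), C a complete Noetherian local ring and J ≠ C
an ideal of C. Then every local homomorphism u : W → C/J is induced by a local homomorphism v : W →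
C. -/
theorem result {W C : Type u} [CommRing W] [IsLocalRing W] (hW : EGA41.IsCohenRingEGA W)
    [CommRing C] [IsLocalRing C] [IsNoetherianRing C] [IsAdicComplete (maximalIdeal C) C]
    (J : Ideal C) (hJ : J ≠ ⊤) [IsLocalRing (C ⧸ J)] (u : W →+* C ⧸ J) [IsLocalHom u] :
    ∃ v : W →+* C, IsLocalHom v ∧ (Ideal.Quotient.mk J).comp v = u := by
  classical
  have hJm : J ≤ maximalIdeal C := IsLocalRing.le_maximalIdeal hJ
  -- closedness of J
  have hsep : ∀ x : C, (∀ n, x ∈ maximalIdeal C ^ n ⊔ J) → x ∈ J := by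
    intro x hx
    rw [← Ideal.Quotient.eq_zero_iff_mem]
    have hK : ⨅ n, (maximalIdeal (C ⧸ J)) ^ n = ⊥ :=
      Ideal.iInf_pow_eq_bot_of_isLocalRing _ (IsLocalRing.maximalIdeal.isMaximal _).ne_top
    have hmem : Ideal.Quotient.mk J x ∈ ⨅ n, (maximalIdeal (C ⧸ J)) ^ n := by
      rw [Ideal.mem_iInf]
      intro n
      obtain ⟨e, he, j, hj, rfl⟩ := Submodule.mem_sup.1 (hx n)
      rw [map_add, Ideal.Quotient.eq_zero_iff_mem.2 hj, add_zero]
      have h1 : Ideal.Quotient.mk J e ∈ ((maximalIdeal C) ^ n).map (Ideal.Quotient.mk J) :=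
        Ideal.mem_map_of_mem _ he
      rw [Ideal.map_pow,
        IsLocalRing.map_maximalIdeal_of_surjective _ Ideal.Quotient.mk_surjective] at h1
      exact h1
    rw [hK] at hmem
    exact hmem
  -- the lifting hypothesis
  have hlift : ∀ (n : ℕ) (_ : 1 ≤ n) (K : Ideal C) (h1 : maximalIdeal C ^ (n + 1) ≤ K)
      (_ : K ≤ maximalIdeal C ^ n) (t : W →+* C ⧸ K),
      ∃ t' : W →+* C ⧸ maximalIdeal C ^ (n + 1), (Ideal.Quotient.factor h1).comp t' = t := by
    intro n hn K h1 h2 t
    have hnil : IsNilpotent (RingHom.ker (Ideal.Quotient.factor h1)) := by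
      refine ⟨2, ?_⟩
      rw [Ideal.Quotient.factor_ker h1, ← Ideal.map_pow, Ideal.zero_eq_bot, eq_bot_iff]
      refine le_trans (Ideal.map_mono ?_) (le_of_eq (Ideal.map_quotient_self _))
      refine le_trans (Ideal.pow_right_mono h2 2) ?_
      rw [← pow_mul]
      exact Ideal.pow_le_pow_right (by omega)
    rcases hW with h | h
    · obtain ⟨hF, hC⟩ := h
      haveI : Algebra.FormallySmooth ℤ W := by
        letI : Field W := hF.toField
        exact Groth.Agent.Lib.Helper24.FieldSmoothInt.formallySmooth_int W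
      exact Groth.Agent.Lib.Helper24.AdicLift.exists_lift_int (Ideal.Quotient.factor h1)
        (Ideal.Quotient.factor_surjective h1) hnil t
    · obtain ⟨hD, hDVR, hcomp, p, hp, hm⟩ := h
      have hpC : (p : C) ∈ maximalIdeal C := by
        by_contra hnot
        have h1' : IsUnit (p : C) := by
          by_contra h'
          exact hnot ((IsLocalRing.mem_maximalIdeal _).2 h')
        have h2' : IsUnit (u (p : W)) := by
          rw [map_natCast, ← map_natCast (Ideal.Quotient.mk J)]
          exact h1'.map _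
        have h3 : IsUnit (p : W) := isUnit_of_map_unit u _ h2'
        have h4 : (p : W) ∈ maximalIdeal W := by
          rw [hm]
          exact Ideal.mem_span_singleton_self _
        exact (IsLocalRing.mem_maximalIdeal _).1 h4 h3
      have hpK : ((p : C)) ^ (n + 1) ∈ K := h1 (Ideal.pow_mem_pow hpC _)
      have ht0 : ∀ a ∈ Ideal.span {((p : W)) ^ (n + 1)}, t a = 0 := by
        intro a ha
        obtain ⟨b, rfl⟩ := Ideal.mem_span_singleton'.1 ha
        rw [map_mul, map_pow, map_natCast, ← map_natCast (Ideal.Quotient.mk K), ← map_pow,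
          Ideal.Quotient.eq_zero_iff_mem.2 hpK, mul_zero]
      have hN : ((p ^ (n + 1) : ℕ) : W ⧸ Ideal.span {((p : W)) ^ (n + 1)}) = 0 := by
        rw [← map_natCast (Ideal.Quotient.mk _), Ideal.Quotient.eq_zero_iff_mem, Nat.cast_pow]
        exact Ideal.mem_span_singleton_self _
      letI : Algebra (ZMod (p ^ (n + 1))) (W ⧸ Ideal.span {((p : W)) ^ (n + 1)}) :=
        (ZMod.castHom (ringChar.dvd hN) _).toAlgebra
      haveI : Algebra.FormallySmooth (ZMod (p ^ (n + 1)))
          (W ⧸ Ideal.span {((p : W)) ^ (n + 1)}) :=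
        Groth.Agent.S9455.result W p hp hm (n + 1) (by omega)
      have hNC : ((p ^ (n + 1) : ℕ) : C ⧸ maximalIdeal C ^ (n + 1)) = 0 := by
        rw [← map_natCast (Ideal.Quotient.mk _), Ideal.Quotient.eq_zero_iff_mem, Nat.cast_pow]
        exact Ideal.pow_mem_pow hpC _
      obtain ⟨f', hf'⟩ := Groth.Agent.Lib.Helper24.AdicLift.exists_lift_zmod (p ^ (n + 1))
        (Ideal.Quotient.factor h1) (Ideal.Quotient.factor_surjective h1) hnil hNC
        (Ideal.Quotient.lift _ t ht0)
      refine ⟨f'.comp (Ideal.Quotient.mk _), ?_⟩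
      rw [← RingHom.comp_assoc, hf']
      ext w
      rfl
  obtain ⟨v, hv⟩ := Groth.Agent.Lib.Helper24.AdicLift.exists_lift (maximalIdeal C) J hJm hsep u hlift
  refine ⟨v, ⟨fun a ha => ?_⟩, hv⟩
  have h1 : IsUnit (u a) := by
    rw [← hv]
    exact ha.map (Ideal.Quotient.mk J)
  exact isUnit_of_map_unit u a h1

end Groth.Agent.S2456
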