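import Groth.Statements.S9240
import Mathlib
import Groth.Agent.Lib.Helper17.HensFib2
import Groth.Agent.Lib.Helper17.HensFib3
import Groth.Agent.Lib.Helper24.UniCpl1
import Groth.Agent.Lib.Helper24.FormalEquidimLoc

set_option autoImplicit false
set_option linter.style.haveILetI false
universe u
open Brnch

namespace Groth.Agent.S9240

/-- Let A be a Noetherian local ring, S its henselization and A^ its completion, and let ψ : S → A^ be
the ring map compatible with the structure maps from A (it is unique, A^ being henselian). Then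
contraction along ψ sends every minimal prime of A^ to a minimal prime of S, and every minimal prime
of S arises this way: contraction maps the minimal primes of A^ onto the minimal primes of S. -/
theorem result (A S : Type u) [CommRing A] [IsLocalRing A]
    [IsNoetherianRing A] [CommRing S] [IsLocalRing S] [Algebra A S] [IsLocalHom (algebraMap A S)]
    [Hensel.IsHenselization A S] (ψ : S →+* AdicCompletion (IsLocalRing.maximalIdeal A) A)
    (hψ : ψ.comp (algebraMap A S) = algebraMap A (AdicCompletion (IsLocalRing.maximalIdeal A) A)) :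
    Set.MapsTo (Ideal.comap ψ) (minimalPrimes (AdicCompletion (IsLocalRing.maximalIdeal A) A))
        (minimalPrimes S) ∧
      Set.SurjOn (Ideal.comap ψ) (minimalPrimes (AdicCompletion (IsLocalRing.maximalIdeal A) A))
        (minimalPrimes S) := by
  classical
  haveI hNS : IsNoetherianRing S :=
    Groth.Agent.Lib.helper17.HensFib.isNoetherianRing_of_isHenselization A S
  -- the canonical map `S → Ŝ ≃ Â`
  let e := Groth.Agent.Lib.helper17.HensFib.cplRingEquiv A S
  let can : S →+* AdicCompletion (IsLocalRing.maximalIdeal A) A :=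
    (e.symm : EGA4.Cpl S →+* EGA4.Cpl A).comp (algebraMap S (EGA4.Cpl S))
  have hcan : can.comp (algebraMap A S) =
      algebraMap A (AdicCompletion (IsLocalRing.maximalIdeal A) A) := by
    refine RingHom.ext (fun a => ?_)
    change e.symm (algebraMap S (EGA4.Cpl S) (algebraMap A S a)) = _
    rw [RingEquiv.symm_apply_eq]
    have := Groth.Agent.Lib.helper17.HensFib.cplRingEquiv_algebraMap A S a
    rw [IsScalarTower.algebraMap_apply A S (EGA4.Cpl S)] at this
    exact this.symm
  haveI : IsAdicComplete
      (IsLocalRing.maximalIdeal (AdicCompletion (IsLocalRing.maximalIdeal A) A))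
      (AdicCompletion (IsLocalRing.maximalIdeal A) A) :=
    Groth.Agent.Lib.Helper24.FormalEquidimLoc.isAdicComplete_cpl A
  haveI : HenselianLocalRing (AdicCompletion (IsLocalRing.maximalIdeal A) A) :=
    Groth.Agent.Lib.Helper24.UniCpl.henselianLocalRing_of_isAdicComplete _
  have hlocA : IsLocalHom (algebraMap A (AdicCompletion (IsLocalRing.maximalIdeal A) A)) :=
    inferInstance
  obtain ⟨g, -, huniq⟩ := Hensel.IsHenselization.universal (R := A) (S := S)
    (AdicCompletion (IsLocalRing.maximalIdeal A) A)
    (algebraMap A (AdicCompletion (IsLocalRing.maximalIdeal A) A)) hlocA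
  have hψc : ψ = can := (huniq ψ hψ).trans (huniq can hcan).symm
  subst hψc
  -- `can` is flat and local
  letI : Algebra S (AdicCompletion (IsLocalRing.maximalIdeal A) A) := can.toAlgebra
  have hsmul : ∀ (s : S) (x : AdicCompletion (IsLocalRing.maximalIdeal A) A),
      s • x = can s * x := fun s x => rfl
  let el : EGA4.Cpl S ≃ₗ[S] AdicCompletion (IsLocalRing.maximalIdeal A) A :=
    { e.symm.toAddEquiv with
      map_smul' := fun s y => by
        change e.symm (s • y) = can s * e.symm y
        rw [Algebra.smul_def, map_mul]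
        rfl }
  haveI : Module.Flat S (EGA4.Cpl S) := inferInstance
  haveI hflat : Module.Flat S (AdicCompletion (IsLocalRing.maximalIdeal A) A) :=
    Module.Flat.of_linearEquiv el.symm
  haveI hloc : IsLocalHom (algebraMap S (AdicCompletion (IsLocalRing.maximalIdeal A) A)) := by
    change IsLocalHom can
    haveI : IsLocalHom (algebraMap S (EGA4.Cpl S)) := inferInstance
    haveI : IsLocalHom (e.symm : EGA4.Cpl S →+* EGA4.Cpl A) := inferInstance
    exact RingHom.isLocalHom_comp _ _
  haveI : Module.FaithfullyFlat S (AdicCompletion (IsLocalRing.maximalIdeal A) A) :=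
    Module.FaithfullyFlat.of_flat_of_isLocalHom
  have hunder : ∀ Q : Ideal (AdicCompletion (IsLocalRing.maximalIdeal A) A),
      Ideal.comap can Q = Q.under S := fun Q => rfl
  have hmaps : Set.MapsTo (Ideal.comap can)
      (minimalPrimes (AdicCompletion (IsLocalRing.maximalIdeal A) A)) (minimalPrimes S) := by
    intro Q hQ
    haveI hQp : Q.IsPrime := hQ.1.1
    rw [hunder]
    refine ⟨⟨inferInstance, bot_le⟩, ?_⟩
    rintro P' ⟨hP', -⟩ hle
    haveI := hP'
    haveI : Q.LiesOver (Q.under S) := ⟨rfl⟩
    obtain ⟨P₁, hP₁Q, hP₁, hP₁over⟩ := Ideal.exists_ideal_le_liesOver_of_le Q hle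
    have : Q ≤ P₁ := hQ.2 ⟨hP₁, bot_le⟩ hP₁Q
    have hQP : P₁ = Q := le_antisymm hP₁Q this
    rw [← hQP, ← hP₁over.over]
  refine ⟨hmaps, ?_⟩
  intro P hP
  haveI hPp : P.IsPrime := hP.1.1
  obtain ⟨Q, hQ⟩ := PrimeSpectrum.comap_surjective_of_faithfullyFlat
    (A := S) (B := AdicCompletion (IsLocalRing.maximalIdeal A) A) ⟨P, hPp⟩
  obtain ⟨Q', hQ', hQ'Q⟩ := Ideal.exists_minimalPrimes_le (I := ⊥) (J := Q.asIdeal) bot_le
  refine ⟨Q', hQ', ?_⟩
  have h1 : Ideal.comap can Q' ∈ minimalPrimes S := hmaps hQ'
  have h2 : Ideal.comap can Q' ≤ P := by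
    have h3 : Ideal.comap can Q.asIdeal = P := congrArg PrimeSpectrum.asIdeal hQ
    rw [← h3]
    exact Ideal.comap_mono hQ'Q
  exact le_antisymm h2 (hP.2 ⟨h1.1.1, bot_le⟩ h2)

end Groth.Agent.S9240
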