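import Groth.Statements.S3830
import Mathlib
import Groth.Agent.Lib.Helper17.SmoothQF

set_option autoImplicit false
universe u
open Unram17

namespace Groth.Agent.S3830

/-- b) implies a) (affine pointwise form): let B be an A-algebra of finite presentation and q a prime of
B. If B is smooth over A at q and quasi-finite over A at q, then B is étale over A at q. -/
theorem result (A B : Type u) [CommRing A] [CommRing B] [Algebra A B]
    [Algebra.FinitePresentation A B] (q : Ideal B) [q.IsPrime] [Algebra.QuasiFiniteAt A q]
    (h : Algebra.IsSmoothAt A q) : Algebra.IsEtaleAt A q := by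
  haveI : q.LiesOver (q.under A) := ⟨rfl⟩
  letI := Localization.AtPrime.algebraOfLiesOver (q.under A) q
  haveI : IsLocalHom (algebraMap (Localization.AtPrime (q.under A)) (Localization.AtPrime q)) :=
    Localization.isLocalHom_localRingHom _ _ _ Ideal.LiesOver.over
  haveI : Algebra.EssFiniteType (Localization.AtPrime (q.under A)) (Localization.AtPrime q) :=
    .of_comp A _ _
  haveI : Algebra.FormallySmooth (Localization.AtPrime (q.under A)) (Localization.AtPrime q) :=
    .localization_base (q.under A).primeCompl
  haveI : Algebra.QuasiFinite (Localization.AtPrime (q.under A)) (Localization.AtPrime q) :=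
    .of_restrictScalars A _ _
  haveI : Algebra.FormallyUnramified (Localization.AtPrime (q.under A)) (Localization.AtPrime q) :=
    Groth.Agent.Lib.helper17.SmoothQF.formallyUnramified_of_formallySmooth_of_quasiFinite
  haveI : Algebra.FormallyUnramified A (Localization.AtPrime (q.under A)) :=
    .of_isLocalization (q.under A).primeCompl
  haveI : Algebra.FormallyUnramified A (Localization.AtPrime q) :=
    .comp A (Localization.AtPrime (q.under A)) _
  exact Algebra.FormallyEtale.iff_formallyUnramified_and_formallySmooth.mpr ⟨this, h⟩

end Groth.Agent.S3830
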