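import Groth.Statements.S4997
import Mathlib
import Groth.Agent.S3830

set_option autoImplicit false
universe u
open CategoryTheory CategoryTheory.Limits AlgebraicGeometry TopologicalSpace
open Unram17

namespace Groth.Agent.S4997

/-- A morphism of schemes is etale if and only if it is smooth and locally quasi-finite. -/
theorem result {X Y : Scheme.{u}} (f : X ⟶ Y) :
    Etale f ↔ Smooth f ∧ LocallyQuasiFinite f := by
  constructor
  · intro h
    refine ⟨inferInstance, ⟨fun {U} hU {V} hV e => ?_⟩⟩
    have h1 := f.etale_appLE hU hV e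
    algebraize [(f.appLE U V e).hom]
    rw [RingHom.QuasiFinite]
    infer_instance
  · rintro ⟨hs, hq⟩
    refine ⟨fun {U} hU {V} hV e => ?_⟩
    rw [RingHom.etale_iff_formallyUnramified_and_smooth]
    have h1 := f.smooth_appLE hU hV e
    have h2 := hq.quasiFinite_appLE hU hV e
    refine ⟨?_, h1⟩
    algebraize [(f.appLE U V e).hom]
    rw [RingHom.FormallyUnramified, ← Algebra.unramifiedLocus_eq_univ_iff, Set.eq_univ_iff_forall]
    intro q
    have hq' : Algebra.IsEtaleAt Γ(Y, U) q.asIdeal :=
      Groth.Agent.S3830.result Γ(Y, U) Γ(X, V) q.asIdeal inferInstance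
    exact (Algebra.FormallyEtale.iff_formallyUnramified_and_formallySmooth.mp hq').1

end Groth.Agent.S4997
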