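import Groth.Statements.S14670
import Mathlib
import Groth.Agent.Lib.Helper17.Miracle
import Groth.Agent.Lib.Helper26.RegularNormal

set_option autoImplicit false
set_option linter.style.haveILetI false
universe u
open CAlg

namespace Groth.Agent.S14670


open IsLocalRing

/-- in a ring where every prime containing `J` is maximal, `R/J` has dimension `≤ 0`. -/
theorem krullDimLE_zero_quotient {T : Type u} [CommRing T] (J : Ideal T)
    (h : ∀ P : Ideal T, P.IsPrime → J ≤ P → P.IsMaximal) : Ring.KrullDimLE 0 (T ⧸ J) := by
  refine Ring.KrullDimLE.mk₀ fun P hP => ?_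
  have hc : (P.comap (Ideal.Quotient.mk J)).IsMaximal := by
    refine h _ (Ideal.comap_isPrime _ _) ?_
    intro x hx
    rw [Ideal.mem_comap, Ideal.Quotient.eq_zero_iff_mem.mpr hx]
    exact P.zero_mem
  have := Ideal.map_comap_of_surjective (Ideal.Quotient.mk J) Ideal.Quotient.mk_surjective P
  rw [← this]
  exact (Ideal.map_eq_top_or_isMaximal_of_surjective _ Ideal.Quotient.mk_surjective hc).resolve_left
    (by rw [this]; exact hP.ne_top)

/-- Let R be a regular local ring and S an integral domain containing R as a subring over which it is a
finitely generated module, such that the localization of S at each of its maximal ideals is a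
Cohen–Macaulay local ring. Then S is a flat R-module. (The published statement does not require S to
be a domain; in that generality it fails — for a discrete valuation ring R with residue field κ the
ring R × κ contains R diagonally, is finite over R with Cohen–Macaulay localizations, and is not
flat — and the printed argument needs every maximal ideal of S to have height dim R, which holds
when S is a domain by going down.) -/
theorem result (R S : Type u) [CommRing R] [CommRing S]
    [IsRegularLocalRing R] [IsDomain S] [Algebra R S] [Module.Finite R S]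
    (hinj : Function.Injective (algebraMap R S))
    (hCM : ∀ (q : Ideal S) [q.IsMaximal], LocCoh.IsCohenMacaulayLocalRing (Localization.AtPrime q)) :
    Module.Flat R S := by
  have hint : Algebra.IsIntegral R S := inferInstance
  have hfaith : FaithfulSMul R S := (faithfulSMul_iff_algebraMap_injective R S).mpr hinj
  have hic : IsIntegrallyClosed R := Groth.Agent.Lib.helper26.RegNormal.isIntegrallyClosed R
  have hGD : Algebra.HasGoingDown R S := inferInstance
  have hnoeth : IsNoetherianRing S := IsNoetherianRing.of_finite R S
  set J : Ideal S := (maximalIdeal R).map (algebraMap R S) with hJ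
  -- primes of `S` containing `m_R S` are maximal
  have hkey : ∀ P : Ideal S, P.IsPrime → J ≤ P → P.IsMaximal := by
    intro P hP hle
    have hc : P.comap (algebraMap R S) = maximalIdeal R := by
      have h1 : maximalIdeal R ≤ P.comap (algebraMap R S) :=
        Ideal.map_le_iff_le_comap.mp hle
      have h2 : P.comap (algebraMap R S) ≠ ⊤ := (Ideal.comap_isPrime _ P).ne_top
      exact ((maximalIdeal.isMaximal R).eq_of_le h2 h1).symm
    exact Ideal.isMaximal_of_isIntegral_of_isMaximal_comap P (hc ▸ maximalIdeal.isMaximal R)
  refine Module.flat_of_isLocalized_maximal S S (fun q _ => Localization.AtPrime q)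
    (fun q _ => Algebra.linearMap S (Localization.AtPrime q)) ?_
  intro q hq
  have hCMq := hCM q
  set B := Localization.AtPrime q with hB
  have hqR : q.comap (algebraMap R S) = maximalIdeal R := by
    have := Ideal.isMaximal_comap_of_isIntegral_of_isMaximal (R := R) q
    exact IsLocalRing.eq_maximalIdeal this
  have hloc : IsLocalHom (algebraMap R B) := by
    constructor
    intro r hr
    by_contra hnu
    have hrm : r ∈ maximalIdeal R := (IsLocalRing.mem_maximalIdeal r).mpr hnu
    rw [← hqR, Ideal.mem_comap] at hrm
    rw [IsScalarTower.algebraMap_apply R S B] at hr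
    have := (IsLocalization.AtPrime.isUnit_to_map_iff B q (algebraMap R S r)).mp hr
    exact this hrm
  have hCMmod : LocCoh.IsCohenMacaulayModule B B :=
    LocCoh.IsCohenMacaulayLocalRing.supportDim_eq_depth
  refine Groth.Agent.Lib.helper17.Miracle.flat_of_cm R B B hCMmod ?_
  set I : Ideal B := (maximalIdeal R).map (algebraMap R B) with hI
  have hIle : I ≤ maximalIdeal B :=
    ((IsLocalRing.local_hom_TFAE (algebraMap R B)).out 0 2 rfl rfl).mp hloc
  have hJI : J.map (algebraMap S B) = I := by
    rw [hJ, hI, Ideal.map_map, ← IsScalarTower.algebraMap_eq]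
  -- fibre ring has dimension zero
  have hfib : ringKrullDim (B ⧸ I) = 0 := by
    have hnt : Nontrivial (B ⧸ I) :=
      Ideal.Quotient.nontrivial_iff.mpr
        (ne_top_of_le_ne_top (maximalIdeal.isMaximal B).ne_top hIle)
    rw [← ringKrullDimZero_iff_ringKrullDim_eq_zero]
    refine krullDimLE_zero_quotient I fun P hP hle => ?_
    have hP'' : (P.comap (algebraMap S B)).IsMaximal := by
      refine hkey _ (Ideal.comap_isPrime _ P) ?_
      rw [← Ideal.map_le_iff_le_comap, hJI]
      exact hle
    have hPq : P.comap (algebraMap S B) ≤ q := by
      have h1 : P.under S ≤ (maximalIdeal B).under S :=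
        Ideal.comap_mono (IsLocalRing.le_maximalIdeal hP.ne_top)
      rwa [IsLocalization.AtPrime.under_maximalIdeal B q] at h1
    have heq : P.comap (algebraMap S B) = q := hP''.eq_of_le hq.ne_top hPq
    have : P = maximalIdeal B := by
      have h2 := IsLocalization.map_under q.primeCompl B P
      rw [← h2, show P.under S = q from heq, Localization.AtPrime.map_eq_maximalIdeal]
    rw [this]
    exact maximalIdeal.isMaximal B
  have hItop : (I • (⊤ : Submodule B B)) = I := by
    rw [smul_eq_mul, Ideal.mul_top]
  rw [Module.supportDim_self_eq_ringKrullDim,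
    Module.supportDim_eq_of_equiv (Submodule.quotEquivOfEq _ _ hItop),
    Module.supportDim_quotient_eq_ringKrullDim, hfib, add_zero,
    IsLocalization.AtPrime.ringKrullDim_eq_height q B,
    ← IsLocalRing.maximalIdeal_height_eq_ringKrullDim]
  have hlo : q.LiesOver (maximalIdeal R) := ⟨hqR.symm⟩
  rw [Ideal.height_eq_height_add_of_liesOver_of_hasGoingDown (maximalIdeal R) q]
  have hz : (q.map (Ideal.Quotient.mk J)).height = 0 := by
    have hdimle : Ring.KrullDimLE 0 (S ⧸ J) := krullDimLE_zero_quotient J hkey
    have hne : q.map (Ideal.Quotient.mk J) ≠ ⊤ := by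
      intro htop
      have hc := Ideal.comap_map_of_surjective (Ideal.Quotient.mk J)
        Ideal.Quotient.mk_surjective q
      rw [htop, Ideal.comap_top] at hc
      have hJq : J ≤ q := by
        rw [hJ, Ideal.map_le_iff_le_comap, hqR]
      have : q ⊔ Ideal.comap (Ideal.Quotient.mk J) ⊥ = q := by
        rw [sup_eq_left]
        intro x hx
        rw [Ideal.mem_comap, Ideal.mem_bot, Ideal.Quotient.eq_zero_iff_mem] at hx
        exact hJq hx
      rw [this] at hc
      exact hq.ne_top hc.symm
    have h1 := Ideal.height_le_ringKrullDim_of_ne_top hne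
    have h2 : ringKrullDim (S ⧸ J) ≤ 0 := by
      have := hdimle
      rw [Ring.KrullDimLE, Order.krullDimLE_iff] at this
      simpa [ringKrullDim] using this
    have h3 : ((q.map (Ideal.Quotient.mk J)).height : WithBot ℕ∞) ≤ 0 := h1.trans h2
    have h4 : (q.map (Ideal.Quotient.mk J)).height ≤ 0 := by exact_mod_cast h3
    exact le_antisymm h4 zero_le
  rw [hz, add_zero]

end Groth.Agent.S14670
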