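import Groth.Statements.S0569
import Groth.Agent.Lib.Helper24.Tate5
import Groth.Agent.Lib.Helper13.PIns2
import Groth.Agent.S4562

set_option autoImplicit false
universe u
open CAlg

namespace Groth.Agent.S0569

/-- Let `R` be an integrally closed Noetherian domain and `x` an element such that `R/xR` is a domain
which is N-2 and `R` is complete with respect to `xR`. Then `R` is N-2. -/
theorem result (R : Type u) [CommRing R] [IsDomain R]
    [IsNoetherianRing R] [IsIntegrallyClosed R] (x : R) [(Ideal.span ({x} : Set R)).IsPrime]
    (h2 : CAlg.IsN2 (R ⧸ Ideal.span ({x} : Set R))) [IsAdicComplete (Ideal.span ({x} : Set R)) R] :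
    CAlg.IsN2 R := by
  by_cases hx : x = 0
  · subst hx
    intro L _ _ _ _ hfd
    let e : (R ⧸ Ideal.span ({0} : Set R)) ≃+* R :=
      (Ideal.quotEquivOfEq (show Ideal.span ({0} : Set R) = ⊥ by simp)).trans
        (RingEquiv.quotientBot R)
    letI : Algebra (R ⧸ Ideal.span ({0} : Set R)) R := e.toRingHom.toAlgebra
    haveI : Module.Finite (R ⧸ Ideal.span ({0} : Set R)) R :=
      Module.Finite.of_surjective (Algebra.linearMap (R ⧸ Ideal.span ({0} : Set R)) R) e.surjective
    haveI : FaithfulSMul (R ⧸ Ideal.span ({0} : Set R)) R :=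
      (faithfulSMul_iff_algebraMap_injective _ _).mpr e.injective
    exact Groth.Agent.Lib.helper13.PIns.finite_integralClosure_of_finite_injective h2
      (FractionRing R) L
  · exact Groth.Agent.S4562.result R (fun K' _ _ _ _ hfd hpi =>
      Groth.Agent.Lib.Helper24.Tate.finite_integralClosure_of_isPurelyInseparable R
        (FractionRing R) K' x hx h2)

end Groth.Agent.S0569
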