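import Groth.Statements.S16981
import Mathlib

set_option autoImplicit false
universe u v
open CAlg

namespace Groth.Agent.S16981

open TensorProduct

theorem isAdicComplete_of_finite {S : Type v} [CommRing S] [IsNoetherianRing S] (J : Ideal S)
    [IsAdicComplete J S]
    (M : Type v) [AddCommGroup M] [Module S M] [Module.Finite S M] : IsAdicComplete J M := by
  rw [← AdicCompletion.of_bijective_iff]
  have h1 := AdicCompletion.ofTensorProduct_bijective_of_finite_of_isNoetherian J M
  have h2 : Function.Bijective (LinearMap.rTensor M (AdicCompletion.of J S)) := by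
    have hb : Function.Bijective (AdicCompletion.of J S) := AdicCompletion.of_bijective J S
    exact (LinearEquiv.rTensor M (LinearEquiv.ofBijective (AdicCompletion.of J S) hb)).bijective
  have hone : (AdicCompletion.of J S) 1 = 1 := rfl
  have h3 : ⇑(AdicCompletion.of J M) = (AdicCompletion.ofTensorProduct J M) ∘
      (LinearMap.rTensor M (AdicCompletion.of J S)) ∘ (TensorProduct.lid S M).symm := by
    funext x
    simp [AdicCompletion.ofTensorProduct_tmul, hone]
  rw [h3]
  exact h1.comp (h2.comp (TensorProduct.lid S M).symm.bijective)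

theorem isNoetherian_of_surj {E S M : Type*} [CommRing E] [CommRing S] [Algebra E S]
    [AddCommGroup M] [Module E M] [Module S M] [IsScalarTower E S M]
    (hs : Function.Surjective (algebraMap E S)) [IsNoetherian S M] : IsNoetherian E M := by
  rw [isNoetherian_def]
  intro s
  let s' : Submodule S M :=
    { carrier := s
      add_mem' := s.add_mem
      zero_mem' := s.zero_mem
      smul_mem' := by
        intro c x hx
        obtain ⟨e, rfl⟩ := hs c
        rw [algebraMap_smul]
        exact s.smul_mem e hx }
  obtain ⟨t, ht⟩ := (IsNoetherian.noetherian s' : s'.FG)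
  refine ⟨t, ?_⟩
  have h1 : Submodule.restrictScalars E (Submodule.span S (t : Set M))
      = Submodule.span E (t : Set M) := Submodule.restrictScalars_span E S hs _
  rw [← h1, ht]
  ext x; rfl

theorem five {E : Type v} [CommRing E] [IsNoetherianRing E] (n : Ideal E)
    {K P : Type v} [AddCommGroup K] [Module E K] [AddCommGroup P] [Module E P]
    (i : K →ₗ[E] E) (q : E →ₗ[E] P) (hi : Function.Injective i) (hq : Function.Surjective q)
    (hex : Function.Exact i q)
    (hK : IsAdicComplete n K) (hP : IsAdicComplete n P) : IsAdicComplete n E := by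
  rw [← AdicCompletion.of_bijective_iff]
  have hKb := (AdicCompletion.of_bijective_iff (I := n) (M := K)).mpr hK
  have hPb := (AdicCompletion.of_bijective_iff (I := n) (M := P)).mpr hP
  have hinj := AdicCompletion.map_injective n hi
  have hsurj := AdicCompletion.map_surjective n hq
  have hexact := AdicCompletion.map_exact (I := n) hi hex hq
  constructor
  · rw [injective_iff_map_eq_zero]
    intro x hx
    have h1 : AdicCompletion.of n P (q x) = 0 := by
      rw [← AdicCompletion.map_of, hx, map_zero]
    have h2 : q x = 0 := hPb.1 (by rw [h1, map_zero])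
    obtain ⟨k, rfl⟩ := (hex x).mp h2
    have h3 : AdicCompletion.map n i (AdicCompletion.of n K k) = 0 := by
      rw [AdicCompletion.map_of]; exact hx
    have h4 : AdicCompletion.of n K k = 0 := hinj (by rw [h3, map_zero])
    have h5 : k = 0 := hKb.1 (by rw [h4, map_zero])
    rw [h5, map_zero]
  · intro y
    obtain ⟨s, hs⟩ := hPb.2 (AdicCompletion.map n q y)
    obtain ⟨x, rfl⟩ := hq s
    have h1 : AdicCompletion.map n q (y - AdicCompletion.of n E x) = 0 := by
      rw [map_sub, AdicCompletion.map_of, hs, sub_self]
    obtain ⟨z, hz⟩ := (hexact _).mp h1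
    obtain ⟨k, rfl⟩ := hKb.2 z
    refine ⟨x + i k, ?_⟩
    rw [map_add, ← AdicCompletion.map_of, hz]
    abel



/-- Let A be a complete Noetherian local ring and f : E → A a surjective ring homomorphism whose kernel
has square zero and is finitely generated (equivalently, is a finite A-module for the induced module
structure). Then E is separated and complete for the adic topology of the inverse image of the
maximal ideal of A. (The published statement takes A to be the completion of a local ring of a
scheme of finite type over an Artinian local ring and the kernel the completion of a finite module;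
this row assumes only that A is complete Noetherian local and the kernel finitely generated.) -/
theorem result
    {A : Type u} {E : Type v} [CommRing A] [CommRing E] [IsNoetherianRing A] [IsLocalRing A]
    [IsAdicComplete (IsLocalRing.maximalIdeal A) A]
    (f : E →+* A) (hf : Function.Surjective f)
    (hsq : RingHom.ker f ^ 2 = ⊥) (hfg : (RingHom.ker f).FG) :
    IsAdicComplete ((IsLocalRing.maximalIdeal A).comap f) E := by
  have hsq' : ∀ a b : E, a ∈ RingHom.ker f → b ∈ RingHom.ker f → a * b = 0 := by
    intro a b ha hb
    have h : a * b ∈ RingHom.ker f ^ 2 := by rw [pow_two]; exact Ideal.mul_mem_mul ha hb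
    rw [hsq] at h
    exact Ideal.mem_bot.mp h
  have hJ : Ideal.map (RingHom.quotientKerEquivOfSurjective hf)
      (((IsLocalRing.maximalIdeal A).comap f).map (Ideal.Quotient.mk (RingHom.ker f)))
      = IsLocalRing.maximalIdeal A := by
    show Ideal.map ((RingHom.quotientKerEquivOfSurjective hf :
        (E ⧸ RingHom.ker f) ≃+* A) : (E ⧸ RingHom.ker f) →+* A) _ = _
    rw [Ideal.map_map]
    have h : ((RingHom.quotientKerEquivOfSurjective hf :
        (E ⧸ RingHom.ker f) ≃+* A) : (E ⧸ RingHom.ker f) →+* A).comp
          (Ideal.Quotient.mk (RingHom.ker f)) = f := by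
      ext x; rfl
    rw [h, Ideal.map_comap_of_surjective f hf]
  haveI : IsNoetherianRing (E ⧸ RingHom.ker f) :=
    isNoetherianRing_of_ringEquiv A (RingHom.quotientKerEquivOfSurjective hf).symm
  haveI hSc : IsAdicComplete
      (((IsLocalRing.maximalIdeal A).comap f).map (Ideal.Quotient.mk (RingHom.ker f)))
      (E ⧸ RingHom.ker f) := by
    rw [← IsAdicComplete.congr_ringEquiv _ (RingHom.quotientKerEquivOfSurjective hf), hJ]
    infer_instance
  have htors : Module.IsTorsionBySet E ↥(RingHom.ker f) (RingHom.ker f : Set E) := by
    intro x a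
    apply Subtype.ext
    exact hsq' a x a.2 x.2
  letI : Module (E ⧸ RingHom.ker f) ↥(RingHom.ker f) := htors.module
  haveI : IsScalarTower E (E ⧸ RingHom.ker f) ↥(RingHom.ker f) :=
    Module.IsTorsionBySet.isScalarTower htors
  haveI : Module.Finite E ↥(RingHom.ker f) := Module.Finite.iff_fg.mpr hfg
  haveI : Module.Finite (E ⧸ RingHom.ker f) ↥(RingHom.ker f) :=
    Module.Finite.of_restrictScalars_finite E (E ⧸ RingHom.ker f) ↥(RingHom.ker f)
  have hKc : IsAdicComplete
      (((IsLocalRing.maximalIdeal A).comap f).map (Ideal.Quotient.mk (RingHom.ker f)))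
      ↥(RingHom.ker f) := isAdicComplete_of_finite _ _
  have hS_E : IsAdicComplete ((IsLocalRing.maximalIdeal A).comap f) (E ⧸ RingHom.ker f) :=
    (IsAdicComplete.map_algebraMap_iff (S := E ⧸ RingHom.ker f) _ _).mp hSc
  have hK_E : IsAdicComplete ((IsLocalRing.maximalIdeal A).comap f) ↥(RingHom.ker f) :=
    (IsAdicComplete.map_algebraMap_iff (S := E ⧸ RingHom.ker f) _ _).mp hKc
  have hsurj : Function.Surjective (algebraMap E (E ⧸ RingHom.ker f)) :=
    Ideal.Quotient.mk_surjective
  haveI : IsNoetherian (E ⧸ RingHom.ker f) ↥(RingHom.ker f) :=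
    isNoetherian_of_isNoetherianRing_of_finite _ _
  haveI : IsNoetherian E ↥(RingHom.ker f) := isNoetherian_of_surj (S := E ⧸ RingHom.ker f) hsurj
  haveI : IsNoetherian E (E ⧸ RingHom.ker f) :=
    isNoetherian_of_surj (S := E ⧸ RingHom.ker f) hsurj
  haveI : IsNoetherianRing E :=
    isNoetherian_of_range_eq_ker (RingHom.ker f).subtype (RingHom.ker f).mkQ
      (by rw [Submodule.range_subtype, Submodule.ker_mkQ])
  exact five _ (RingHom.ker f).subtype (RingHom.ker f).mkQ
    (Submodule.subtype_injective _) (Submodule.mkQ_surjective _)
    (LinearMap.exact_subtype_mkQ _) hK_E hS_E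


end Groth.Agent.S16981
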