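import Groth.Statements.S0581
import Groth.Agent.Lib.Helper24.SopPS
import Groth.Agent.Lib.Helper24.PSDim
import Groth.Agent.Lib.Helper24.CoeffField
import Groth.Agent.Lib.Helper26.Sop1

set_option autoImplicit false
universe u
open CAlg

namespace Groth.Agent.S0581

/-- A complete Noetherian local domain `R` contains a subring `R₀` over which it is module-finite with
the same residue field, where `R₀` is a power series ring in finitely many variables over a field or
over a Cohen ring. Stated with `R₀` given as the image of an injective ring map. -/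
theorem result (R : Type u) [CommRing R]
    [IsDomain R] [IsLocalRing R] [IsNoetherianRing R] [IsAdicComplete (IsLocalRing.maximalIdeal R) R] :
    ∃ (Λ : Type u) (_ : CommRing Λ) (n : ℕ) (f : MvPowerSeries (Fin n) Λ →+* R),
      (IsField Λ ∨ CAlg.IsCohenRing Λ) ∧ Function.Injective f ∧ f.Finite ∧
      Function.Surjective ((IsLocalRing.residue R).comp f) := by
  classical
  haveI hchar : CharP (IsLocalRing.ResidueField R) (ringChar (IsLocalRing.ResidueField R)) :=
    ringChar.charP _
  have hpk : ((ringChar (IsLocalRing.ResidueField R) : ℕ) : IsLocalRing.ResidueField R) = 0 :=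
    CharP.cast_eq_zero _ _
  have hp1 : ringChar (IsLocalRing.ResidueField R) ≠ 1 := CharP.ringChar_ne_one
  have hfg : (IsLocalRing.maximalIdeal R).FG :=
    (isNoetherianRing_iff_ideal_fg R).1 inferInstance _
  by_cases hpR : ((ringChar (IsLocalRing.ResidueField R) : ℕ) : R) = 0
  · -- equal characteristic
    obtain ⟨σ, hσ⟩ := Groth.Agent.Lib.Helper24.CoeffField.exists_coeff_field R
      (ringChar (IsLocalRing.ResidueField R)) hpR
    haveI : IsAdicComplete (IsLocalRing.maximalIdeal (IsLocalRing.ResidueField R))
        (IsLocalRing.ResidueField R) := by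
      rw [IsLocalRing.maximalIdeal_eq_bot]; infer_instance
    have hfin : ∀ y : R, ∃ c : Fin 1 → IsLocalRing.ResidueField R,
        y - ∑ j, σ (c j) * (fun _ : Fin 1 => (1 : R)) j ∈ IsLocalRing.maximalIdeal R := by
      intro y
      refine ⟨fun _ => IsLocalRing.residue R y, ?_⟩
      rw [Fin.sum_univ_one, mul_one, ← IsLocalRing.residue_eq_zero_iff, map_sub, sub_eq_zero]
      exact (RingHom.congr_fun hσ (IsLocalRing.residue R y)).symm
    obtain ⟨s, hs, hcard⟩ :=
      Ideal.exists_finset_card_eq_height_of_isNoetherianRing (IsLocalRing.maximalIdeal R)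
    let x : Fin s.card → R := fun i => ((s.equivFin.symm i : s) : R)
    have hrange : Set.range x = (s : Set R) := by
      ext a
      constructor
      · rintro ⟨i, rfl⟩
        exact (s.equivFin.symm i).2
      · intro ha
        exact ⟨s.equivFin ⟨a, ha⟩, by simp [x]⟩
    have hrad : (Ideal.span (s : Set R)).radical = IsLocalRing.maximalIdeal R :=
      Groth.Agent.Lib.helper26.Sop.radical_eq_of_mem_minimalPrimes hs
    have hxm : ∀ i, x i ∈ IsLocalRing.maximalIdeal R := by
      intro i
      rw [← hrad]
      exact Ideal.le_radical (Ideal.subset_span (s.equivFin.symm i).2)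
    obtain ⟨N, hN⟩ := Ideal.exists_pow_le_of_le_radical_of_fg (le_of_eq hrad.symm) hfg
    have hN' : IsLocalRing.maximalIdeal R ^ N ≤
        (IsLocalRing.maximalIdeal (IsLocalRing.ResidueField R)).map σ ⊔
          Ideal.span (Set.range x) := by
      rw [hrange]
      exact hN.trans le_sup_right
    have hdim : ringKrullDim (MvPowerSeries (Fin s.card) (IsLocalRing.ResidueField R)) ≤
        ringKrullDim R := by
      refine (Groth.Agent.Lib.Helper24.PSDim.ringKrullDim_mvPowerSeries_field_le _ s.card).trans ?_
      rw [← IsLocalRing.maximalIdeal_height_eq_ringKrullDim, ← hcard]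
      rfl
    obtain ⟨f, hfC, hfX, hloc, hffin, hinj⟩ :=
      Groth.Agent.Lib.Helper24.SopPS.ps_finite_injective σ 1 (fun _ => 1) hfin s.card x hxm N
        hN' hdim
    refine ⟨IsLocalRing.ResidueField R, inferInstance, s.card, f, Or.inl (Field.toIsField _),
      hinj, hffin, ?_⟩
    intro y
    refine ⟨MvPowerSeries.C y, ?_⟩
    have h1 : f (MvPowerSeries.C y) = σ y := RingHom.congr_fun hfC y
    rw [RingHom.comp_apply, h1]
    exact RingHom.congr_fun hσ y
  · -- mixed characteristic
    have hpm : ((ringChar (IsLocalRing.ResidueField R) : ℕ) : R) ∈ IsLocalRing.maximalIdeal R := by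
      rw [← IsLocalRing.residue_eq_zero_iff, map_natCast]; exact hpk
    obtain ⟨W, _, _, hW, hWN, hWc, v, e, hvloc, hve⟩ :=
      Groth.Agent.Lib.Helper24.CohenCoeff.exists_coeff_ring R
    rcases hW with ⟨hF, hC⟩ | ⟨hD, hDVR, hc, q, hq, hm⟩
    · exfalso
      apply hpR
      have h1 : ((ringChar (IsLocalRing.ResidueField R) : ℕ) : W) = 0 := by
        have h2 : e (IsLocalRing.residue W ((ringChar (IsLocalRing.ResidueField R) : ℕ) : W)) = 0 := by
          rw [map_natCast, map_natCast]; exact hpk
        have h3 : IsLocalRing.residue W ((ringChar (IsLocalRing.ResidueField R) : ℕ) : W) = 0 := by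
          have := congrArg e.symm h2
          rwa [RingEquiv.symm_apply_apply, map_zero] at this
        exact (Groth.Agent.Lib.Helper24.CohenCoeff.residue_bijective_of_isField W hF).1
          (h3.trans (map_zero _).symm)
      have h4 : ringChar (IsLocalRing.ResidueField R) = 0 := Nat.cast_eq_zero.1 h1
      rw [h4, Nat.cast_zero]
    · have h1 : (q : IsLocalRing.ResidueField W) = 0 := by
        rw [← map_natCast (IsLocalRing.residue W), IsLocalRing.residue_eq_zero_iff]
        have : (q : W) ∈ Ideal.span {(q : W)} := Ideal.mem_span_singleton_self _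
        rw [← hm] at this
        exact this
      have h2 : (q : IsLocalRing.ResidueField R) = 0 := by
        have := congrArg e h1
        rwa [map_natCast, map_zero] at this
      have d0 : ringChar (IsLocalRing.ResidueField R) ∣ q :=
        (CharP.cast_eq_zero_iff (IsLocalRing.ResidueField R) _ q).1 h2
      have hpq : ringChar (IsLocalRing.ResidueField R) = q :=
        (Nat.Prime.eq_one_or_self_of_dvd hq _ d0).resolve_left hp1
      rw [hpq] at hpR hpm
      -- dimension
      obtain ⟨d, hd⟩ : ∃ d : ℕ, ringKrullDim R = d := by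
        have hne_top : ringKrullDim R ≠ ⊤ := ringKrullDim_ne_top
        have hne_bot : ringKrullDim R ≠ ⊥ := ringKrullDim_ne_bot
        cases h : ringKrullDim R with
        | bot => exact absurd h hne_bot
        | coe a =>
          cases ha : a with
          | top => rw [ha] at h; exact absurd h hne_top
          | coe n => exact ⟨n, rfl⟩
      have hmin : ∀ 𝔭 ∈ minimalPrimes R, (q : R) ∉ 𝔭 := by
        intro 𝔭 h𝔭
        rw [IsDomain.minimalPrimes_eq_singleton_bot, Set.mem_singleton_iff] at h𝔭
        rw [h𝔭, Ideal.mem_bot]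
        exact hpR
      have hd1 : 1 ≤ d := by
        have h3 := Groth.Agent.Lib.helper26.Sop.dim_quotient_add_one R d hd (q : R) hpm hmin
        have hne : Ideal.span {(q : R)} ≠ ⊤ := by
          intro h
          have : Ideal.span {(q : R)} ≤ IsLocalRing.maximalIdeal R :=
            (Ideal.span_singleton_le_iff_mem _).2 hpm
          rw [h] at this
          exact (IsLocalRing.maximalIdeal.isMaximal R).ne_top (top_le_iff.1 this)
        haveI : Nontrivial (R ⧸ Ideal.span {(q : R)}) := Ideal.Quotient.nontrivial_iff.2 hne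
        have h4 : (0 : WithBot ℕ∞) ≤ ringKrullDim (R ⧸ Ideal.span {(q : R)}) :=
          ringKrullDim_nonneg_of_nontrivial
        have h5 : (0 : WithBot ℕ∞) + 1 ≤ (d : WithBot ℕ∞) := by
          rw [← h3]
          exact add_le_add_left h4 1
        rw [zero_add] at h5
        exact_mod_cast h5
      obtain ⟨g, hgm, hgrad⟩ :=
        Groth.Agent.Lib.helper26.Sop.exists_sop_containing R d hd (q : R) hpm hmin
      obtain ⟨N, hN⟩ := Ideal.exists_pow_le_of_le_radical_of_fg hgrad hfg
      have hN' : IsLocalRing.maximalIdeal R ^ N ≤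
          (IsLocalRing.maximalIdeal W).map v ⊔ Ideal.span (Set.range g) := by
        rw [hm, Ideal.map_span, Set.image_singleton, map_natCast, ← Ideal.span_insert]
        exact hN
      have hfin : ∀ y : R, ∃ c : Fin 1 → W,
          y - ∑ j, v (c j) * (fun _ : Fin 1 => (1 : R)) j ∈ IsLocalRing.maximalIdeal R := by
        intro y
        obtain ⟨z, hz⟩ := e.surjective (IsLocalRing.residue R y)
        obtain ⟨a, rfl⟩ := IsLocalRing.residue_surjective z
        refine ⟨fun _ => a, ?_⟩
        rw [Fin.sum_univ_one, mul_one, ← IsLocalRing.residue_eq_zero_iff, map_sub, sub_eq_zero,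
          hve a, hz]
      have hdim : ringKrullDim (MvPowerSeries (Fin (d - 1)) W) ≤ ringKrullDim R := by
        refine (Groth.Agent.Lib.Helper24.PSDim.ringKrullDim_mvPowerSeries_dvr_le W (q : W) hm
          (d - 1)).trans ?_
        rw [hd, Nat.sub_add_cancel hd1]
      obtain ⟨f, hfC, hfX, hloc, hffin, hinj⟩ :=
        Groth.Agent.Lib.Helper24.SopPS.ps_finite_injective v 1 (fun _ => 1) hfin (d - 1) g hgm N
          hN' hdim
      refine ⟨W, inferInstance, d - 1, f, Or.inr ⟨hD, hDVR, hc, q, hq, hm⟩, hinj, hffin, ?_⟩
      intro y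
      obtain ⟨z, hz⟩ := e.surjective y
      obtain ⟨a, rfl⟩ := IsLocalRing.residue_surjective z
      refine ⟨MvPowerSeries.C a, ?_⟩
      have h3 : f (MvPowerSeries.C a) = v a := RingHom.congr_fun hfC a
      rw [RingHom.comp_apply, h3, hve a, hz]

end Groth.Agent.S0581
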