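import Groth.Statements.S0568
import Groth.Agent.Lib.Helper24.N2Reg
import Groth.Agent.Lib.Helper24.CplCatenary
import Groth.Agent.S0581
import Groth.Agent.Lib.Helper13.PIns2

set_option autoImplicit false
universe u
open CAlg

namespace Groth.Agent.S0568

/-- A Noetherian local ring which is complete with respect to its maximal ideal is a Nagata ring. -/
theorem result (R : Type u) [CommRing R] [IsLocalRing R]
    [IsNoetherianRing R] [IsAdicComplete (IsLocalRing.maximalIdeal R) R] : CAlg.IsNagata R := by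
  refine ⟨inferInstance, fun p _ => ?_⟩
  haveI : IsLocalRing (R ⧸ p) :=
    IsLocalRing.of_surjective' (Ideal.Quotient.mk p) Ideal.Quotient.mk_surjective
  haveI := Groth.Agent.Lib.Helper24.N2Reg.isAdicComplete_quotient R p
  obtain ⟨Λ, _, n, f, hΛ, hinj, hfin, -⟩ := Groth.Agent.S0581.result (R ⧸ p)
  haveI hreg : IsRegularLocalRing (MvPowerSeries (Fin n) Λ) :=
    Groth.Agent.Lib.Helper24.CplCatenary.isRegularLocalRing_mvPowerSeries_of_field_or_cohen Λ hΛ n
  haveI : IsDomain (MvPowerSeries (Fin n) Λ) :=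
    Groth.Agent.Lib.helper15.isDomain_of_isRegularLocalRing _
  haveI hcpl : IsAdicComplete (IsLocalRing.maximalIdeal (MvPowerSeries (Fin n) Λ))
      (MvPowerSeries (Fin n) Λ) := by
    rcases hΛ with hF | hC
    · letI := hF.toField
      haveI : IsAdicComplete (IsLocalRing.maximalIdeal Λ) Λ := by
        rw [IsLocalRing.maximalIdeal_eq_bot]; infer_instance
      exact Groth.Agent.LibCR29.isAdicComplete_mvPowerSeries n Λ
    · obtain ⟨hd, hdvr, hc, -⟩ := hC
      exact Groth.Agent.LibCR29.isAdicComplete_mvPowerSeries n Λ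
  have hP : CAlg.IsN2 (MvPowerSeries (Fin n) Λ) :=
    Groth.Agent.Lib.Helper24.N2Reg.isN2_of_isRegularLocalRing_complete _
  letI : Algebra (MvPowerSeries (Fin n) Λ) (R ⧸ p) := f.toAlgebra
  haveI : Module.Finite (MvPowerSeries (Fin n) Λ) (R ⧸ p) := hfin
  haveI : FaithfulSMul (MvPowerSeries (Fin n) Λ) (R ⧸ p) :=
    (faithfulSMul_iff_algebraMap_injective _ _).mpr hinj
  intro L _ _ _ _ hfd
  exact Groth.Agent.Lib.helper13.PIns.finite_integralClosure_of_finite_injective hP
    (FractionRing (R ⧸ p)) L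

end Groth.Agent.S0568
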