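import Groth.Prelude.Def_ArtFun2
import Groth.Agent.S0542
import Groth.Agent.S3866
import Mathlib.RingTheory.AdicCompletion.LocalRing
import Mathlib.RingTheory.AdicCompletion.Completeness

/-!
# Complete local Noetherian augmented algebras (`ArtFun.CRing`): completions and quotients
-/

set_option autoImplicit false
universe u

namespace Groth.Agent.LibCR29

open IsLocalRing ArtFun

section general

variable {T : Type u} [CommRing T] (𝔫 : Ideal T)

lemma factor_evalₐ {m n : ℕ} (hle : m ≤ n) (x : AdicCompletion 𝔫 T) :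
    Ideal.Quotient.factor (Ideal.pow_le_pow_right hle) (AdicCompletion.evalₐ 𝔫 n x) =
      AdicCompletion.evalₐ 𝔫 m x := by
  obtain ⟨Y, rfl⟩ := AdicCompletion.mk_surjective 𝔫 T x
  rw [AdicCompletion.evalₐ_mk, AdicCompletion.evalₐ_mk, Ideal.Quotient.factor_mk,
    Ideal.Quotient.eq]
  have := (Y.property hle).symm
  rw [SModEq.sub_mem] at this
  simpa using this

/-- elements of the completion are approximated by elements of the ring -/
lemma exists_sub_mem (fg : 𝔫.FG) (m : ℕ) (x : AdicCompletion 𝔫 T) :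
    ∃ t : T, x - algebraMap T (AdicCompletion 𝔫 T) t ∈
      (𝔫.map (algebraMap T (AdicCompletion 𝔫 T))) ^ m := by
  obtain ⟨p, hp⟩ := Ideal.Quotient.mk_surjective (AdicCompletion.evalₐ 𝔫 m x)
  refine ⟨p, ?_⟩
  have hd : AdicCompletion.evalₐ 𝔫 m (x - algebraMap T (AdicCompletion 𝔫 T) p) = 0 := by
    rw [map_sub, sub_eq_zero, ← hp]
    exact (AdicCompletion.evalₐ_of 𝔫 m p).symm
  have h5 : AdicCompletion.eval 𝔫 T m (x - algebraMap T (AdicCompletion 𝔫 T) p) = 0 := by
    have h : 𝔫 ^ m ≤ 𝔫 ^ m • ⊤ := by simp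
    rw [← AdicCompletion.factor_evalₐ_eq_eval 𝔫 _ h, hd, map_zero]
  have h6 : x - algebraMap T (AdicCompletion 𝔫 T) p ∈
      (𝔫 ^ m • ⊤ : Submodule T (AdicCompletion 𝔫 T)) := by
    rw [AdicCompletion.pow_smul_top_eq_ker_eval fg]
    exact h5
  rw [Ideal.smul_top_eq_map] at h6
  rw [← Ideal.map_pow]
  exact h6

/-- uniqueness of maps out of a completion into a Hausdorff ring -/
lemma hom_ext_of_isHausdorff (fg : 𝔫.FG) {T' : Type u} [CommRing T'] (𝔪' : Ideal T')
    [IsHausdorff 𝔪' T'] (h h' : AdicCompletion 𝔫 T →+* T')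
    (hh : (𝔫.map (algebraMap T (AdicCompletion 𝔫 T))).map h ≤ 𝔪')
    (hh' : (𝔫.map (algebraMap T (AdicCompletion 𝔫 T))).map h' ≤ 𝔪')
    (heq : ∀ t, h (algebraMap T _ t) = h' (algebraMap T _ t)) : h = h' := by
  ext x
  rw [← sub_eq_zero]
  apply IsHausdorff.haus' (I := 𝔪')
  intro m
  rw [SModEq.zero, smul_eq_mul, Ideal.mul_top]
  obtain ⟨t, ht⟩ := exists_sub_mem 𝔫 fg m x
  have h1 : h (x - algebraMap T _ t) ∈ 𝔪' ^ m := by
    have := Ideal.mem_map_of_mem h ht
    rw [Ideal.map_pow] at this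
    exact Ideal.pow_right_mono hh m this
  have h2 : h' (x - algebraMap T _ t) ∈ 𝔪' ^ m := by
    have := Ideal.mem_map_of_mem h' ht
    rw [Ideal.map_pow] at this
    exact Ideal.pow_right_mono hh' m this
  have h3 : h x - h' x = h (x - algebraMap T _ t) - h' (x - algebraMap T _ t) := by
    rw [map_sub, map_sub, heq t]; ring
  rw [h3]
  exact Ideal.sub_mem _ h1 h2

/-- existence of maps out of a completion into a complete ring -/
lemma exists_lift {Λ : Type u} [CommRing Λ] [Algebra Λ T] {T' : Type u} [CommRing T']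
    [Algebra Λ T'] (𝔪' : Ideal T') [IsAdicComplete 𝔪' T'] (g : T →ₐ[Λ] T')
    (hg : 𝔫.map g.toRingHom ≤ 𝔪') :
    ∃ h : AdicCompletion 𝔫 T →ₐ[Λ] T', (∀ t, h (algebraMap T _ t) = g t) ∧
      (𝔫.map (algebraMap T (AdicCompletion 𝔫 T))).map h.toRingHom ≤ 𝔪' := by
  have hk : ∀ m, 𝔫 ^ m ≤ (𝔪' ^ m).comap g := fun m =>
    Ideal.map_le_iff_le_comap.mp (by
      have := Ideal.map_pow g.toRingHom 𝔫 m
      change (𝔫 ^ m).map g.toRingHom ≤ _
      rw [this]; exact Ideal.pow_right_mono hg m)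
  let f : (m : ℕ) → AdicCompletion 𝔫 T →ₐ[Λ] T' ⧸ 𝔪' ^ m := fun m =>
    (Ideal.quotientMapₐ (𝔪' ^ m) g (hk m)).comp ((AdicCompletion.evalₐ 𝔫 m).restrictScalars Λ)
  have hf : ∀ {m n : ℕ} (hle : m ≤ n),
      (Ideal.Quotient.factorₐ Λ (Ideal.pow_le_pow_right hle)).comp (f n) = f m := by
    intro m n hle
    ext x
    change Ideal.Quotient.factor (Ideal.pow_le_pow_right hle)
      (Ideal.quotientMapₐ (𝔪' ^ n) g (hk n) (AdicCompletion.evalₐ 𝔫 n x)) =
      Ideal.quotientMapₐ (𝔪' ^ m) g (hk m) (AdicCompletion.evalₐ 𝔫 m x)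
    rw [← factor_evalₐ 𝔫 hle x]
    obtain ⟨p, hp⟩ := Ideal.Quotient.mk_surjective (AdicCompletion.evalₐ 𝔫 n x)
    rw [← hp]
    simp
  let h₀ : AdicCompletion 𝔫 T →ₐ[Λ] AdicCompletion 𝔪' T' := AdicCompletion.liftAlgHom 𝔪' f hf
  let e : AdicCompletion 𝔪' T' →ₐ[Λ] T' :=
    ((AdicCompletion.ofAlgEquiv 𝔪').symm : AdicCompletion 𝔪' T' →ₐ[T'] T').restrictScalars Λ
  have key : ∀ (m : ℕ) (x : AdicCompletion 𝔫 T),
      Ideal.Quotient.mk (𝔪' ^ m) (e (h₀ x)) = f m x := by
    intro m x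
    change Ideal.Quotient.mk (𝔪' ^ m) ((AdicCompletion.ofAlgEquiv 𝔪').symm (h₀ x)) = f m x
    rw [AdicCompletion.mk_ofAlgEquiv_symm]
    exact AdicCompletion.evalₐ_liftAlgHom 𝔪' f hf m x
  refine ⟨e.comp h₀, ?_, ?_⟩
  · intro t
    rw [← sub_eq_zero]
    apply IsHausdorff.haus' (I := 𝔪')
    intro m
    rw [SModEq.zero, smul_eq_mul, Ideal.mul_top, ← Ideal.Quotient.eq_zero_iff_mem, map_sub,
      sub_eq_zero]
    change Ideal.Quotient.mk (𝔪' ^ m) (e (h₀ _)) = _
    rw [key]
    change Ideal.quotientMapₐ (𝔪' ^ m) g (hk m) (AdicCompletion.evalₐ 𝔫 m (AdicCompletion.of 𝔫 T t)) = _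
    rw [AdicCompletion.evalₐ_of]
    simp
  · rw [Ideal.map_map, Ideal.map_le_iff_le_comap]
    intro t ht
    rw [Ideal.mem_comap]
    have h1 : Ideal.Quotient.mk (𝔪' ^ 1) (e (h₀ (algebraMap T _ t))) = 0 := by
      rw [key]
      change Ideal.quotientMapₐ (𝔪' ^ 1) g (hk 1) (AdicCompletion.evalₐ 𝔫 1 (AdicCompletion.of 𝔫 T t)) = _
      rw [AdicCompletion.evalₐ_of]
      have : Ideal.Quotient.mk (𝔫 ^ 1) t = 0 := by
        rw [Ideal.Quotient.eq_zero_iff_mem, pow_one]; exact ht
      rw [this, map_zero]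
    rw [Ideal.Quotient.eq_zero_iff_mem, pow_one] at h1
    exact h1

end general

section cring

variable {Λ k : Type u} [CommRing Λ] [Field k] [Algebra Λ k]

lemma CRing.mem_maximalIdeal_iff (R : CRing Λ k) (x : R.carrier) :
    x ∈ maximalIdeal R.carrier ↔ R.res x = 0 := by
  have hmax : (RingHom.ker (R.res : R.carrier →+* k)).IsMaximal :=
    RingHom.ker_isMaximal_of_surjective (R.res : R.carrier →+* k) R.res_surjective
  rw [← IsLocalRing.eq_maximalIdeal hmax, RingHom.mem_ker]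
  rfl

/-- the completion of an augmented algebra along its (finitely generated) augmentation ideal is a
complete local Noetherian augmented algebra, with the expected universal property. -/
theorem exists_compl (T : Type u) [CommRing T] [Algebra Λ T] (ε : T →ₐ[Λ] k)
    (hε : Function.Surjective ε) (fg : (RingHom.ker ε).FG) :
    ∃ (P : CRing Λ k) (ι : T →ₐ[Λ] P.carrier), P.res.comp ι = ε ∧
      (∀ (m : ℕ) (x : P.carrier), ∃ t : T, x - ι t ∈ maximalIdeal P.carrier ^ m) ∧
      ∀ (T' : CRing Λ k) (g : T →ₐ[Λ] T'.carrier), T'.res.comp g = ε →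
        ∃! h : P.carrier →ₐ[Λ] T'.carrier, T'.res.comp h = P.res ∧ h.comp ι = g := by
  set 𝔫 : Ideal T := RingHom.ker ε with h𝔫
  have hmax : 𝔫.IsMaximal := RingHom.ker_isMaximal_of_surjective ε hε
  have hmax' := AdicCompletion.isMaximal_map_of_le 𝔫 𝔫 le_rfl fg
  have hcomp := AdicCompletion.isAdicComplete_self 𝔫 fg
  have hloc : IsLocalRing (AdicCompletion 𝔫 T) :=
    isLocalRing_of_isAdicComplete_maximal (𝔫.map (algebraMap _ (AdicCompletion 𝔫 T)))
  have hmaxeq : maximalIdeal (AdicCompletion 𝔫 T) = 𝔫.map (algebraMap _ (AdicCompletion 𝔫 T)) :=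
    (IsLocalRing.eq_maximalIdeal hmax').symm
  let e : (T ⧸ 𝔫) ≃ₐ[Λ] k := Ideal.quotientKerAlgEquivOfSurjective hε
  have hN : IsNoetherianRing (T ⧸ 𝔫) := isNoetherianRing_of_ringEquiv k e.symm.toRingEquiv
  have hnoeth : IsNoetherianRing (AdicCompletion 𝔫 T) := Groth.Agent.S0542.result T 𝔫 fg
  let res : AdicCompletion 𝔫 T →ₐ[Λ] k :=
    (e : (T ⧸ 𝔫) →ₐ[Λ] k).comp ((AdicCompletion.evalOneₐ 𝔫).restrictScalars Λ)
  have hres : Function.Surjective res := e.surjective.comp (AdicCompletion.evalOneₐ_surjective 𝔫)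
  let P : ArtFun.CRing Λ k :=
    { carrier := AdicCompletion 𝔫 T
      isLocalRing := hloc
      isNoetherianRing := hnoeth
      res := res
      res_surjective := hres
      isAdicComplete := by rw [hmaxeq]; exact hcomp }
  let ι : T →ₐ[Λ] P.carrier := IsScalarTower.toAlgHom Λ T (AdicCompletion 𝔫 T)
  have hι : P.res.comp ι = ε := by
    ext t
    change e (AdicCompletion.evalOneₐ 𝔫 (AdicCompletion.of 𝔫 T t)) = ε t
    rw [AdicCompletion.evalOneₐ_of]
    rfl
  have hdense : ∀ (m : ℕ) (x : P.carrier), ∃ t : T, x - ι t ∈ maximalIdeal P.carrier ^ m := by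
    intro m x
    obtain ⟨t, ht⟩ := exists_sub_mem 𝔫 fg m x
    refine ⟨t, ?_⟩
    change x - ι t ∈ maximalIdeal (AdicCompletion 𝔫 T) ^ m
    rw [hmaxeq]
    exact ht
  refine ⟨P, ι, hι, hdense, ?_⟩
  intro T' g hg
  have hg' : 𝔫.map g.toRingHom ≤ maximalIdeal T'.carrier := by
    rw [Ideal.map_le_iff_le_comap]
    intro t ht
    rw [Ideal.mem_comap, CRing.mem_maximalIdeal_iff]
    have := congrArg (fun f : T →ₐ[Λ] k => f t) hg
    simp only [AlgHom.comp_apply] at this
    change T'.res (g t) = 0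
    rw [this]
    exact ht
  have hc' : IsAdicComplete (maximalIdeal T'.carrier) T'.carrier := T'.isAdicComplete
  obtain ⟨h, hh1, hh2⟩ := exists_lift 𝔫 (maximalIdeal T'.carrier) g hg'
  have hres0 : ∀ y : P.carrier, y ∈ maximalIdeal P.carrier → P.res y = 0 := fun y hy =>
    (CRing.mem_maximalIdeal_iff P y).1 hy
  refine ⟨h, ⟨?_, ?_⟩, ?_⟩
  · ext x
    obtain ⟨t, ht⟩ := hdense 1 x
    rw [pow_one] at ht
    have h1 : h (x - ι t) ∈ maximalIdeal T'.carrier := by
      apply hh2
      apply Ideal.mem_map_of_mem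
      rw [← hmaxeq]
      exact ht
    rw [CRing.mem_maximalIdeal_iff] at h1
    have h2 : P.res (x - ι t) = 0 := hres0 _ ht
    have hx : x = ι t + (x - ι t) := by ring
    change T'.res (h x) = P.res x
    have h3 : T'.res (h (ι t)) = P.res (ι t) := by
      have e1 : h (ι t) = g t := hh1 t
      rw [e1]
      have e2 := congrArg (fun f : T →ₐ[Λ] k => f t) hg
      have e3 := congrArg (fun f : T →ₐ[Λ] k => f t) hι
      simp only [AlgHom.comp_apply] at e2 e3
      rw [e2, e3]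
    conv_lhs => rw [hx, map_add, map_add, h1, add_zero, h3]
    conv_rhs => rw [hx, map_add, h2, add_zero]
  · ext t
    exact hh1 t
  · rintro h' ⟨hh'1, hh'2⟩
    have hh'3 : (𝔫.map (algebraMap T (AdicCompletion 𝔫 T))).map h'.toRingHom ≤
        maximalIdeal T'.carrier := by
      rw [Ideal.map_le_iff_le_comap]
      intro y hy
      rw [Ideal.mem_comap, CRing.mem_maximalIdeal_iff]
      have e1 := congrArg (fun f : P.carrier →ₐ[Λ] k => f y) hh'1
      simp only [AlgHom.comp_apply] at e1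
      change T'.res (h' y) = 0
      rw [e1]
      apply hres0
      change y ∈ maximalIdeal (AdicCompletion 𝔫 T)
      rw [hmaxeq]
      exact hy
    have := hom_ext_of_isHausdorff 𝔫 fg (maximalIdeal T'.carrier) h'.toRingHom h.toRingHom
      hh'3 hh2 (fun t => by
        have e1 := congrArg (fun f : T →ₐ[Λ] T'.carrier => f t) hh'2
        simp only [AlgHom.comp_apply] at e1
        change h' (ι t) = h (ι t)
        rw [e1]
        exact (hh1 t).symm)
    ext x
    exact congrArg (fun f : AdicCompletion 𝔫 T →+* T'.carrier => f x) this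

/-- the quotient of a complete local Noetherian augmented algebra by an ideal inside the maximal
ideal. -/
theorem exists_quot (P : CRing Λ k) (K : Ideal P.carrier) (hK : K ≤ maximalIdeal P.carrier) :
    ∃ (Q : CRing Λ k) (π : P.carrier →ₐ[Λ] Q.carrier), Function.Surjective π ∧
      RingHom.ker π = K ∧ Q.res.comp π = P.res := by
  have hKtop : K ≠ ⊤ := fun h =>
    (IsLocalRing.maximalIdeal.isMaximal P.carrier).ne_top (top_le_iff.1 (h ▸ hK))
  have : Nontrivial (P.carrier ⧸ K) := Ideal.Quotient.nontrivial_iff.2 hKtop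
  have hloc : IsLocalRing (P.carrier ⧸ K) :=
    IsLocalRing.of_surjective' (Ideal.Quotient.mk K) Ideal.Quotient.mk_surjective
  have hlochom : IsLocalHom (Ideal.Quotient.mk K) :=
    IsLocalHom.of_surjective _ Ideal.Quotient.mk_surjective
  have hres0 : ∀ a ∈ K, P.res a = 0 := fun a ha => (CRing.mem_maximalIdeal_iff P a).1 (hK ha)
  have hmaxeq : (maximalIdeal P.carrier).map (algebraMap P.carrier (P.carrier ⧸ K)) =
      maximalIdeal (P.carrier ⧸ K) := by
    apply le_antisymm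
    · rw [Ideal.map_le_iff_le_comap]
      intro y hy
      rw [Ideal.mem_comap, IsLocalRing.mem_maximalIdeal]
      intro hu
      exact (IsLocalRing.mem_maximalIdeal y).1 hy (isUnit_of_map_unit (Ideal.Quotient.mk K) y hu)
    · intro x hx
      obtain ⟨y, rfl⟩ := Ideal.Quotient.mk_surjective x
      apply Ideal.mem_map_of_mem
      rw [IsLocalRing.mem_maximalIdeal] at hx ⊢
      intro hu
      exact hx (hu.map (Ideal.Quotient.mk K))
  have hc : IsAdicComplete (maximalIdeal P.carrier) P.carrier := P.isAdicComplete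
  have h1 : IsAdicComplete (maximalIdeal P.carrier) (P.carrier ⧸ K) :=
    Groth.Agent.S3866.result P.carrier (maximalIdeal P.carrier) (P.carrier ⧸ K)
  have h2 := (IsAdicComplete.map_algebraMap_iff (R := P.carrier) (S := P.carrier ⧸ K)
    (I := maximalIdeal P.carrier) (M := P.carrier ⧸ K)).mpr h1
  rw [hmaxeq] at h2
  let Q : ArtFun.CRing Λ k :=
    { carrier := P.carrier ⧸ K
      isLocalRing := hloc
      isNoetherianRing := inferInstance
      res := Ideal.Quotient.liftₐ K P.res hres0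
      res_surjective := fun c => by
        obtain ⟨a, ha⟩ := P.res_surjective c
        exact ⟨Ideal.Quotient.mk K a, ha⟩
      isAdicComplete := h2 }
  refine ⟨Q, Ideal.Quotient.mkₐ Λ K, Ideal.Quotient.mkₐ_surjective Λ K,
    Ideal.Quotient.mkₐ_ker Λ K, ?_⟩
  exact Ideal.Quotient.liftₐ_comp K P.res hres0

end cring

end Groth.Agent.LibCR29
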