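import Groth.Statements.S12728
import Groth.Agent.Lib.Helper17.ArtAct
import Mathlib

set_option autoImplicit false
universe u v
open CategoryTheory
open ArtFun

namespace Groth.Agent.S12728
open Groth.Agent.Lib.helper17.ArtAct

/-- For functors, let F be a functor on Artinian local Λ-algebras with residue field k with F(k) a
point, satisfying (S1) and (S2), and ξ a family of F over a complete local Noetherian R with residue
field k. Then ξ is versal if and only if (1) the map h_R(k[ε]) → F(k[ε]) on tangent spaces is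
surjective, and (2) whenever μ : B → A is a small extension, φ : R → A, and y ∈ F(B) lies over ξ(φ),
the map φ lifts to some R → B. -/
theorem result {Λ : Type u} {k : Type u} [CommRing Λ] [Field k] [Algebra Λ k]
    [IsNoetherianRing Λ] [Module.Finite Λ k]
    {F : ArtFun.Art Λ k ⥤ Type v} (h0 : ArtFun.H0 F) (h1 : ArtFun.S1 F) (h2 : ArtFun.Heps F)
    (R : ArtFun.CRing Λ k) (ξ : ArtFun.Family R.carrier R.res F) :
    ArtFun.IsVersal ξ ↔
      (Function.Surjective (ArtFun.TangentSpace.ofFamily ξ) ∧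
        ∀ ⦃B A : ArtFun.Art Λ k⦄ (μ : B ⟶ A), ArtFun.Art.IsSmallExt μ →
          ∀ (φ : ArtFun.HomSet R.carrier R.res A) (y : F.obj B), F.map μ y = ξ.app A φ →
            ∃ ψ : ArtFun.HomSet R.carrier R.res B, ArtFun.HomSet.map μ ψ = φ) := by
  classical
  constructor
  · intro hver
    refine ⟨?_, ?_⟩
    · intro v
      let φ₀ : ArtFun.HomSet R.carrier R.res (ArtFun.Art.base Λ k) := ⟨R.res, AlgHom.id_comp _⟩
      haveI : Subsingleton (F.obj (ArtFun.Art.base Λ k)) := h0.2
      obtain ⟨ψ, -, hψ⟩ := hver (ArtFun.Art.toBase (ArtFun.Art.dual Λ k))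
        (ArtFun.Art.dual Λ k).res_surjective φ₀ v (Subsingleton.elim _ _)
      exact ⟨ψ, hψ⟩
    · intro B A μ hμ φ y hy
      obtain ⟨ψ, hψ, -⟩ := hver μ hμ.1 φ y hy
      exact ⟨ψ, hψ⟩
  · rintro ⟨htan, hlift⟩
    intro B A μ hμ
    refine Groth.Agent.S12707.result
      (fun A B μ => ∀ (φ : ArtFun.HomSet R.carrier R.res A) (y : F.obj B), F.map μ y = ξ.app A φ →
        ∃ ψ : ArtFun.HomSet R.carrier R.res B, ArtFun.HomSet.map μ ψ = φ ∧ ξ.app B ψ = y)
      ?_ ?_ ?_ μ hμ
    · intro A B e he φ y hy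
      refine ⟨ArtFun.HomSet.map (inv e) φ, ?_, ?_⟩
      · rw [← homSet_map_comp, IsIso.inv_hom_id, homSet_map_id]
      · rw [← family_natural', ← hy, ← map_comp_apply, IsIso.hom_inv_id, map_id_apply]
    · intro A B μ hμ φ y hy
      obtain ⟨ψ, hψ⟩ := hlift μ hμ φ y hy
      obtain ⟨Q, q1, q2, σ, s, hQ, hσ, hs1, hs2, hs3⟩ := exists_sigma μ hμ
      have hy1 : F.map μ (ξ.app B ψ) = F.map μ y := by
        rw [family_natural', hψ, hy]
      obtain ⟨z, hz1, hz2⟩ := exists_of_cmp_surjective hσ (h1 q1 σ μ μ hσ hμ.1) (ξ.app B ψ) y hy1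
      obtain ⟨θ, hθ⟩ := htan (F.map q2 z)
      have hθ' : ξ.app (ArtFun.Art.dual Λ k) θ = F.map q2 z := hθ
      obtain ⟨χ, hχ1, hχ2⟩ := Groth.Agent.S12727.exists_lift_homSet hQ ψ θ (Subsingleton.elim _ _)
      have hχz : ξ.app Q χ = z := by
        apply eq_of_cmp_injective hQ (h2 q1 q2 hQ).1
        · rw [family_natural', hχ1, hz1]
        · rw [family_natural', hχ2, hθ']
      refine ⟨ArtFun.HomSet.map σ χ, ?_, ?_⟩
      · rw [← homSet_map_comp, ← hσ.w, homSet_map_comp, hχ1, hψ]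
      · rw [← family_natural', hχz, hz2]
    · intro A B C p q hp hq φ y hy
      obtain ⟨ψB, hψB1, hψB2⟩ := hq φ (F.map p y) (by rw [← map_comp_apply, hy])
      obtain ⟨ψC, hψC1, hψC2⟩ := hp ψB y hψB2.symm
      refine ⟨ψC, ?_, hψC2⟩
      rw [homSet_map_comp, hψC1, hψB1]

end Groth.Agent.S12728
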