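import Groth.Statements.S12715
import Mathlib
-- import your own Groth.Agent.* helpers here

set_option autoImplicit false
universe u v
open CategoryTheory
open ArtFun

namespace Groth.Agent.S12715

/-- For Λ Noetherian with a finite map to the field k and S a complete local Noetherian Λ-algebra with
residue field k (through a surjective map S → k over Λ), the space of Λ-derivations S → k is
finite-dimensional over k. -/
theorem result {Λ : Type u} {k : Type u} [CommRing Λ] [Field k] [Algebra Λ k]
    [IsNoetherianRing Λ] [Module.Finite Λ k]
    (S : Type u) [CommRing S] [Algebra Λ S] [IsLocalRing S] [IsNoetherianRing S]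
    [IsAdicComplete (IsLocalRing.maximalIdeal S) S] [Algebra S k] [IsScalarTower Λ S k]
    (hres : Function.Surjective (algebraMap S k)) :
    Module.Finite k (Derivation Λ S k) := by
  classical
  -- the maximal ideal is the kernel of S → k
  have hmax : ∀ a : S, a ∈ IsLocalRing.maximalIdeal S ↔ algebraMap S k a = 0 := by
    intro a
    have hm : (RingHom.ker (algebraMap S k)).IsMaximal :=
      RingHom.ker_isMaximal_of_surjective (algebraMap S k) hres
    rw [← IsLocalRing.eq_maximalIdeal hm, RingHom.mem_ker]
  -- generators of the maximal ideal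
  obtain ⟨X, hX⟩ : (IsLocalRing.maximalIdeal S).FG := IsNoetherian.noetherian _
  -- generators of k over Λ
  obtain ⟨K₀, hK₀⟩ : (⊤ : Submodule Λ k).FG := Module.Finite.fg_top
  let σ : k → S := Function.surjInv hres
  have hσ : ∀ c, algebraMap S k (σ c) = c := Function.surjInv_eq hres
  let G : Finset S := K₀.image σ ∪ (K₀ ×ˢ X).image (fun p => σ p.1 * p.2)
  -- every element of S is congruent mod m_S (resp. m_S^2) to a Λ-combination
  have h1 : ∀ s : S, ∃ y ∈ Submodule.span Λ ((K₀.image σ : Finset S) : Set S),
      s - y ∈ IsLocalRing.maximalIdeal S := by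
    intro s
    have hs : algebraMap S k s ∈ Submodule.span Λ (K₀ : Set k) := by rw [hK₀]; trivial
    obtain ⟨c, hc⟩ := (Submodule.mem_span_finset).mp hs
    refine ⟨∑ i ∈ K₀, c i • σ i, ?_, ?_⟩
    · apply Submodule.sum_mem
      intro i hi
      apply Submodule.smul_mem
      apply Submodule.subset_span
      exact Finset.mem_coe.mpr (Finset.mem_image_of_mem σ hi)
    · rw [hmax, map_sub, map_sum, sub_eq_zero, ← hc.2]
      apply Finset.sum_congr rfl
      intro i _
      rw [Algebra.smul_def (c i) (σ i), map_mul, ← IsScalarTower.algebraMap_apply, hσ,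
        Algebra.smul_def]
  have h2 : ∀ s : S, ∃ y ∈ Submodule.span Λ ((G : Finset S) : Set S),
      s - y ∈ IsLocalRing.maximalIdeal S ^ 2 := by
    intro s
    obtain ⟨y₀, hy₀, hsy₀⟩ := h1 s
    rw [← hX] at hsy₀
    obtain ⟨b, hb⟩ := (Submodule.mem_span_finset).mp hsy₀
    -- approximate each coefficient
    choose z hz hbz using fun i => h1 (b i)
    refine ⟨y₀ + ∑ i ∈ X, z i * i, ?_, ?_⟩
    · apply Submodule.add_mem
      · refine Submodule.span_mono ?_ hy₀
        intro t ht
        exact Finset.mem_coe.mpr (Finset.mem_union_left _ (Finset.mem_coe.mp ht))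
      · apply Submodule.sum_mem
        intro i hi
        -- z i * i is in the span of σ c * i
        have : ∀ w ∈ Submodule.span Λ ((K₀.image σ : Finset S) : Set S),
            w * i ∈ Submodule.span Λ ((G : Finset S) : Set S) := by
          intro w hw
          refine Submodule.span_induction (p := fun w _ => w * i ∈ Submodule.span Λ ((G : Finset S) : Set S))
            ?_ ?_ ?_ ?_ hw
          · intro t ht
            obtain ⟨c, hc, rfl⟩ := Finset.mem_image.mp (Finset.mem_coe.mp ht)
            apply Submodule.subset_span
            apply Finset.mem_coe.mpr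
            apply Finset.mem_union_right
            exact Finset.mem_image.mpr ⟨(c, i), Finset.mem_product.mpr ⟨hc, hi⟩, rfl⟩
          · rw [zero_mul]; exact Submodule.zero_mem _
          · intro x y _ _ hx hy
            rw [add_mul]; exact Submodule.add_mem _ hx hy
          · intro l x _ hx
            rw [smul_mul_assoc]; exact Submodule.smul_mem _ _ hx
        exact this _ (hz i)
    · have e : s - (y₀ + ∑ i ∈ X, z i * i) = ∑ i ∈ X, (b i - z i) * i := by
        have : s - y₀ = ∑ i ∈ X, b i * i := by
          rw [← hb.2]
          simp [smul_eq_mul]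
        rw [sub_add_eq_sub_sub, this, ← Finset.sum_sub_distrib]
        apply Finset.sum_congr rfl
        intro i _
        ring
      rw [e]
      apply Ideal.sum_mem
      intro i hi
      rw [pow_two]
      apply Ideal.mul_mem_mul (hbz i)
      rw [← hX]
      exact Submodule.subset_span (Finset.mem_coe.mpr hi)
  -- derivations kill m_S^2
  have hD2 : ∀ (D : Derivation Λ S k) (x : S), x ∈ IsLocalRing.maximalIdeal S ^ 2 → D x = 0 := by
    intro D x hx
    rw [pow_two] at hx
    refine Submodule.mul_induction_on hx ?_ ?_
    · intro a ha b hb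
      rw [D.leibniz, Algebra.smul_def, Algebra.smul_def, (hmax a).mp ha, (hmax b).mp hb]
      simp
    · intro x y hx hy
      rw [map_add, hx, hy, add_zero]
  -- the evaluation map
  let Φ : Derivation Λ S k →ₗ[k] (G → k) :=
    { toFun := fun D g => D g.1
      map_add' := by intro D D'; rfl
      map_smul' := by intro c D; rfl }
  have hΦ : Function.Injective Φ := by
    rw [injective_iff_map_eq_zero]
    intro D hD
    have hDG : ∀ g ∈ G, D g = 0 := by
      intro g hg
      exact congrFun hD ⟨g, hg⟩
    have hDspan : ∀ y ∈ Submodule.span Λ ((G : Finset S) : Set S), D y = 0 := by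
      intro y hy
      refine Submodule.span_induction (p := fun y _ => D y = 0) ?_ ?_ ?_ ?_ hy
      · intro t ht
        exact hDG t (Finset.mem_coe.mp ht)
      · exact map_zero D
      · intro x y _ _ hx hy
        rw [map_add, hx, hy, add_zero]
      · intro l x _ hx
        rw [D.map_smul, hx, smul_zero]
    ext s
    obtain ⟨y, hy, hsy⟩ := h2 s
    have := hD2 D _ hsy
    rw [map_sub, hDspan y hy, sub_zero] at this
    simpa using this
  exact Module.Finite.of_injective Φ hΦ

end Groth.Agent.S12715
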