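import Groth.Statements.S12731
import Groth.Agent.Lib.Helper17.ArtAct
import Groth.Agent.S12715
import Mathlib

set_option autoImplicit false
universe u v
open CategoryTheory
open ArtFun

namespace Groth.Agent.S12731
open Groth.Agent.Lib.helper17.ArtAct

section helpers
open ArtFun ArtFun.Art

variable {Λ : Type u} {k : Type u} [CommRing Λ] [Field k] [Algebra Λ k]
variable {R : Type u} [CommRing R] [Algebra Λ R] (resR : R →ₐ[Λ] k)

/-- the tangent vector of a derivation -/
noncomputable def thetaHom [Algebra R k] (halg : ∀ r : R, algebraMap R k r = resR r)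
    (D : Derivation Λ R k) : R →ₐ[Λ] TrivSqZeroExt k k where
  toFun r := (resR r, D r)
  map_one' := TrivSqZeroExt.ext (map_one resR) (by
    show D 1 = 0
    exact D.map_one_eq_zero)
  map_mul' r s := TrivSqZeroExt.ext (map_mul resR r s) (by
    show D (r * s) = resR r • D s + MulOpposite.op (resR s) • D r
    rw [D.leibniz, smul_eq_mul, MulOpposite.smul_eq_mul_unop, MulOpposite.unop_op,
      Algebra.smul_def, Algebra.smul_def, halg, halg, mul_comm (D r)])
  map_zero' := TrivSqZeroExt.ext (map_zero resR) (map_zero D)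
  map_add' r s := TrivSqZeroExt.ext (map_add resR r s) (map_add D r s)
  commutes' c := TrivSqZeroExt.ext (by
      show resR (algebraMap Λ R c) = (algebraMap Λ (TrivSqZeroExt k k) c).fst
      rw [AlgHom.commutes, TrivSqZeroExt.algebraMap_eq_inl', TrivSqZeroExt.fst_inl]) (by
      show D (algebraMap Λ R c) = (algebraMap Λ (TrivSqZeroExt k k) c).snd
      rw [D.map_algebraMap, TrivSqZeroExt.algebraMap_eq_inl', TrivSqZeroExt.snd_inl])

/-- the pair of tangent vectors of two derivations -/
noncomputable def thetaHom2 [Algebra R k] (halg : ∀ r : R, algebraMap R k r = resR r)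
    (D D' : Derivation Λ R k) : R →ₐ[Λ] TrivSqZeroExt k (k × k) where
  toFun r := (resR r, (D r, D' r))
  map_one' := TrivSqZeroExt.ext (map_one resR) (by
    show ((D 1, D' 1) : k × k) = 0
    rw [D.map_one_eq_zero, D'.map_one_eq_zero]; rfl)
  map_mul' r s := TrivSqZeroExt.ext (map_mul resR r s) (by
    show ((D (r * s), D' (r * s)) : k × k) =
      resR r • (D s, D' s) + MulOpposite.op (resR s) • (D r, D' r)
    have hsm : ∀ (r : R) (x : k), r • x = resR r * x := fun r x => by rw [Algebra.smul_def, halg]
    rw [D.leibniz, D'.leibniz, hsm, hsm, hsm, hsm]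
    ext
    · simp only [Prod.smul_mk, Prod.fst_add, smul_eq_mul, MulOpposite.smul_eq_mul_unop,
        MulOpposite.unop_op]
      ring
    · simp only [Prod.smul_mk, Prod.snd_add, smul_eq_mul, MulOpposite.smul_eq_mul_unop,
        MulOpposite.unop_op]
      ring)
  map_zero' := TrivSqZeroExt.ext (map_zero resR) (by
    show ((D 0, D' 0) : k × k) = 0
    rw [map_zero, map_zero]; rfl)
  map_add' r s := TrivSqZeroExt.ext (map_add resR r s) (by
    show ((D (r + s), D' (r + s)) : k × k) = (D r, D' r) + (D s, D' s)
    rw [map_add, map_add]; rfl)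
  commutes' c := TrivSqZeroExt.ext (by
      show resR (algebraMap Λ R c) = (algebraMap Λ (TrivSqZeroExt k (k × k)) c).fst
      rw [AlgHom.commutes, TrivSqZeroExt.algebraMap_eq_inl', TrivSqZeroExt.fst_inl]) (by
      show ((D (algebraMap Λ R c), D' (algebraMap Λ R c)) : k × k) =
        (algebraMap Λ (TrivSqZeroExt k (k × k)) c).snd
      rw [D.map_algebraMap, D'.map_algebraMap, TrivSqZeroExt.algebraMap_eq_inl',
        TrivSqZeroExt.snd_inl]; rfl)

/-- the derivation of a tangent vector -/
noncomputable def derivOf [Algebra R k] [IsScalarTower Λ R k]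
    (halg : ∀ r : R, algebraMap R k r = resR r)
    (φ : R →ₐ[Λ] TrivSqZeroExt k k) (hφ : ∀ r, (φ r).fst = resR r) : Derivation Λ R k :=
  Derivation.mk'
    { toFun := fun r => (φ r).snd
      map_add' := fun r s => by rw [map_add, TrivSqZeroExt.snd_add]
      map_smul' := fun c r => by
        rw [Algebra.smul_def, map_mul, AlgHom.commutes, TrivSqZeroExt.snd_mul,
          TrivSqZeroExt.algebraMap_eq_inl', TrivSqZeroExt.fst_inl, TrivSqZeroExt.snd_inl,
          smul_zero, add_zero, RingHom.id_apply, smul_eq_mul, Algebra.smul_def] }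
    (fun r s => by
      show (φ (r * s)).snd = r • (φ s).snd + s • (φ r).snd
      rw [map_mul, TrivSqZeroExt.snd_mul, hφ, hφ, smul_eq_mul, MulOpposite.smul_eq_mul_unop,
        MulOpposite.unop_op, Algebra.smul_def, Algebra.smul_def, halg, halg, mul_comm (φ r).snd])

end helpers

/-- For functors, if a functor F on Artinian local Λ-algebras with residue field k with F(k) a point has
a versal family over a complete local Noetherian ring with residue field k which is bijective on
tangent spaces (a hull), then F satisfies (S1) and (S2) and has finite-dimensional tangent space. -/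
theorem result {Λ : Type u} {k : Type u} [CommRing Λ] [Field k] [Algebra Λ k]
    [IsNoetherianRing Λ] [Module.Finite Λ k]
    (F : ArtFun.Art Λ k ⥤ Type v) [ArtFun.TangentStr F] (h0 : ArtFun.H0 F) (h : ArtFun.HasHull F) :
    ArtFun.S1 F ∧ ArtFun.Heps F ∧ ArtFun.Hfin F := by
  classical
  obtain ⟨⟨R, ξ, ⟨hver, hbij⟩⟩⟩ := h
  haveI : Subsingleton (F.obj (ArtFun.Art.base Λ k)) := h0.2
  have hS1 : ArtFun.S1 F := Groth.Agent.S12727.result F h0 ⟨⟨R, ξ, hver⟩⟩
  refine ⟨hS1, ?_, ?_⟩
  · -- Heps
    intro B A' p' p'' hsq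
    refine ⟨?_, hS1 p' p'' _ _ hsq (ArtFun.Art.dual Λ k).res_surjective⟩
    apply cmp_injective_of_forall
    intro z₁ z₂ h1 h2
    have hp'surj : Function.Surjective p' := by
      intro a'
      obtain ⟨d, hd⟩ := (ArtFun.Art.dual Λ k).res_surjective (A'.res a')
      obtain ⟨b, hb, -⟩ := hsq.surj a' d hd.symm
      exact ⟨b, hb⟩
    obtain ⟨ψ, hψ⟩ := Groth.Agent.S12727.surjective_app_of_isVersal h0 ξ hver A' (F.map p' z₁)
    obtain ⟨χ₁, hχ₁a, hχ₁b⟩ := hver p' hp'surj ψ z₁ hψ.symm
    obtain ⟨χ₂, hχ₂a, hχ₂b⟩ := hver p' hp'surj ψ z₂ (h1 ▸ hψ.symm)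
    have hθ : ArtFun.HomSet.map p'' χ₁ = ArtFun.HomSet.map p'' χ₂ := by
      apply hbij.1
      rw [← family_natural', ← family_natural', hχ₁b, hχ₂b, h2]
    have hχ : χ₁ = χ₂ := by
      apply Subtype.ext
      apply AlgHom.ext
      intro r
      apply hsq.inj
      · have := congrArg (fun t => t.1 r) (hχ₁a.trans hχ₂a.symm)
        exact this
      · have := congrArg (fun t => t.1 r) hθ
        exact this
    rw [← hχ₁b, ← hχ₂b, hχ]
  · -- Hfin
    letI : Algebra R.carrier k := R.res.toRingHom.toAlgebra
    have halg : ∀ r : R.carrier, algebraMap R.carrier k r = R.res r := fun r => rfl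
    haveI : IsScalarTower Λ R.carrier k :=
      IsScalarTower.of_algebraMap_eq (fun r => (R.res.commutes r).symm)
    haveI := R.isAdicComplete
    haveI hfin : Module.Finite k (Derivation Λ R.carrier k) :=
      Groth.Agent.S12715.result R.carrier R.res_surjective
    let θ : Derivation Λ R.carrier k → ArtFun.HomSet R.carrier R.res (ArtFun.Art.dual Λ k) :=
      fun D => ⟨thetaHom R.res halg D, AlgHom.ext fun r => rfl⟩
    let θ2 : Derivation Λ R.carrier k → Derivation Λ R.carrier k →
        ArtFun.HomSet R.carrier R.res (ArtFun.Art.dual2 Λ k) :=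
      fun D D' => ⟨thetaHom2 R.res halg D D', AlgHom.ext fun r => rfl⟩
    have hθsurj : Function.Surjective θ := by
      intro φ
      have hφ : ∀ r, (show TrivSqZeroExt k k from φ.1 r).fst = R.res r := fun r =>
        congrArg (fun f : R.carrier →ₐ[Λ] k => f r) φ.2
      refine ⟨derivOf R.res halg φ.1 hφ, ?_⟩
      apply Subtype.ext
      apply AlgHom.ext
      intro r
      exact TrivSqZeroExt.ext (hφ r).symm rfl
    let T : ArtFun.TangentStr F := inferInstance
    let L : Derivation Λ R.carrier k →ₗ[k] ArtFun.TangentSpace F :=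
      { toFun := fun D => ξ.app _ (θ D)
        map_add' := fun D D' => by
          have e1 : ArtFun.HomSet.map ArtFun.Art.pr₁ (θ2 D D') = θ D :=
            Subtype.ext (AlgHom.ext fun r => rfl)
          have e2 : ArtFun.HomSet.map ArtFun.Art.pr₂ (θ2 D D') = θ D' :=
            Subtype.ext (AlgHom.ext fun r => rfl)
          have e3 : ArtFun.HomSet.map ArtFun.Art.plus (θ2 D D') = θ (D + D') :=
            Subtype.ext (AlgHom.ext fun r => rfl)
          have := T.add_eq (ξ.app _ (θ2 D D'))
          rw [family_natural', family_natural', family_natural', e1, e2, e3] at this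
          exact this.symm
        map_smul' := fun c D => by
          have e1 : ArtFun.HomSet.map (ArtFun.Art.scale c) (θ D) = θ (c • D) :=
            Subtype.ext (AlgHom.ext fun r => rfl)
          have := T.smul_eq c (ξ.app _ (θ D))
          rw [family_natural', e1] at this
          exact this.symm }
    have hLsurj : Function.Surjective L := by
      intro v
      obtain ⟨φ, hφ⟩ := hbij.2 v
      obtain ⟨D, hD⟩ := hθsurj φ
      exact ⟨D, by show ξ.app _ (θ D) = v; rw [hD, hφ]⟩
    exact Module.Finite.of_surjective L hLsurj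

end Groth.Agent.S12731
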