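import Groth.Agent.LibCR29c
import Mathlib.RingTheory.Noetherian.Orzech
import Mathlib.RingTheory.HopkinsLevitzki

/-!
# Factorisation through truncations, Yoneda for families, surjective endomorphisms
-/

set_option autoImplicit false
universe u v

namespace Groth.Agent.LibCR29

open IsLocalRing ArtFun CategoryTheory

/-- a surjective ring endomorphism of a Noetherian ring is injective -/
theorem injective_of_surjective_ringEnd {R : Type u} [CommRing R] [IsNoetherianRing R]
    (θ : R →+* R) (hθ : Function.Surjective θ) : Function.Injective θ := by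
  let K : ℕ →o Ideal R :=
    { toFun := fun n => RingHom.ker (θ ^ n)
      monotone' := by
        apply monotone_nat_of_le_succ
        intro n x hx
        rw [RingHom.mem_ker] at hx ⊢
        rw [pow_succ', RingHom.mul_def, RingHom.comp_apply, hx, map_zero] }
  obtain ⟨n, hn⟩ := monotone_stabilizes_iff_noetherian.2 (inferInstance : IsNoetherian R R) K
  rw [injective_iff_map_eq_zero]
  intro x hx
  have hsurj : Function.Surjective (θ ^ n) := by
    rw [RingHom.coe_pow]
    exact hθ.iterate n
  obtain ⟨y, rfl⟩ := hsurj x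
  have h1 : y ∈ K (n + 1) := by
    change y ∈ RingHom.ker (θ ^ (n + 1))
    rw [RingHom.mem_ker, pow_succ', RingHom.mul_def, RingHom.comp_apply, hx]
  rw [← hn (n + 1) (Nat.le_succ n)] at h1
  exact h1

section

variable {Λ k : Type u} [CommRing Λ] [Field k] [Algebra Λ k]

/-- every augmented map from a complete local algebra to an Artinian one factors through a
truncation. -/
theorem exists_factor_trunc (R : CRing Λ k) (A : Art Λ k) (u : HomSet R.carrier R.res A) :
    ∃ (n : ℕ) (ū : R.trunc n ⟶ A), HomSet.map ū (R.truncHom n) = u := by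
  obtain ⟨n, hn⟩ := (isArtinianRing_iff_isNilpotent_maximalIdeal A).1 inferInstance
  have hn : maximalIdeal A ^ n = ⊥ := hn
  have h1 : (maximalIdeal R.carrier).map u.1.toRingHom ≤ maximalIdeal A := by
    rw [Ideal.map_le_iff_le_comap]
    intro y hy
    rw [Ideal.mem_comap, Art.mem_maximalIdeal_iff]
    have := congrArg (fun f : R.carrier →ₐ[Λ] k => f y) u.2
    simp only [AlgHom.comp_apply] at this
    change A.res (u.1 y) = 0
    rw [this, ← CRing.mem_maximalIdeal_iff]
    exact hy
  have hkill : ∀ a ∈ CRing.mpow R n, u.1 a = 0 := by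
    intro a ha
    have h2 : u.1.toRingHom a ∈ (maximalIdeal R.carrier ^ (n + 1)).map u.1.toRingHom :=
      Ideal.mem_map_of_mem _ ha
    rw [Ideal.map_pow] at h2
    have h3 := Ideal.pow_right_mono h1 (n + 1) h2
    have h4 : maximalIdeal A ^ (n + 1) = ⊥ := by
      rw [pow_succ, hn, Ideal.bot_mul]
    rw [h4, Ideal.mem_bot] at h3
    exact h3
  refine ⟨n, ⟨Ideal.Quotient.liftₐ (CRing.mpow R n) u.1 hkill, ?_⟩, ?_⟩
  · apply AlgHom.ext
    intro x
    obtain ⟨a, rfl⟩ := Ideal.Quotient.mk_surjective x
    have := congrArg (fun f : R.carrier →ₐ[Λ] k => f a) u.2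
    simp only [AlgHom.comp_apply] at this
    exact this
  · apply Subtype.ext
    apply AlgHom.ext
    intro a
    rfl

/-- Yoneda: an endomorphism of a pro-represented functor is induced by an endomorphism of the
representing ring. -/
theorem exists_endo_of_universal {U : Art Λ k ⥤ Type v} (R : CRing Λ k)
    (ξ : Family R.carrier R.res U) (hξ : IsUniversal ξ) (φ : U ⟶ U) :
    ∃ (θ : R.carrier →ₐ[Λ] R.carrier) (hθ : R.res.comp θ = R.res),
      ∀ (A : Art Λ k) (u : HomSet R.carrier R.res A),
        φ.app A (ξ.app A u) = ξ.app A ⟨u.1.comp θ, by rw [← AlgHom.comp_assoc, u.2, hθ]⟩ := by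
  have hex : ∀ n, ∃ t : HomSet R.carrier R.res (R.trunc n),
      ξ.app _ t = φ.app _ (ξ.app _ (R.truncHom n)) := fun n => (hξ (R.trunc n)).2 _
  choose t ht using hex
  have hcompat : ∀ n, HomSet.map (R.truncMap n) (t (n + 1)) = t n := by
    intro n
    apply (hξ (R.trunc n)).1
    rw [ξ.natural, ht, ht, ← NatTrans.naturality_apply φ, ← ξ.natural, CRing.truncMap_truncHom]
  obtain ⟨θ, hθ⟩ := exists_algHom_of_compat R (fun n => (t n).1)
    (fun n => congrArg Subtype.val (hcompat n))
  have hθres : R.res.comp θ = R.res := by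
    rw [res_comp_of_truncHom, hθ 0]; exact (t 0).2
  refine ⟨θ, hθres, ?_⟩
  intro A u
  obtain ⟨n, ū, hu⟩ := exists_factor_trunc R A u
  have h1 : (⟨u.1.comp θ, by rw [← AlgHom.comp_assoc, u.2, hθres]⟩ : HomSet R.carrier R.res A) =
      HomSet.map ū (t n) := by
    apply Subtype.ext
    change u.1.comp θ = ū.toAlgHom.comp (t n).1
    rw [← hθ n, ← AlgHom.comp_assoc, ← hu]
    rfl
  rw [h1, ξ.natural, ht, ← NatTrans.naturality_apply φ, ← ξ.natural, hu]

end

end Groth.Agent.LibCR29
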