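import Groth.Agent.LibCR29f
import Groth.Agent.LibCR29d
import Mathlib.RingTheory.Nakayama

/-!
# Artinian quotients of a `CRing`, maps out of power series rings, a Krull–Nakayama lemma
-/

set_option autoImplicit false
universe u

namespace Groth.Agent.LibCR29

open IsLocalRing ArtFun Groth.Agent.LibPS29

section artQuot

variable {Λ k : Type u} [CommRing Λ] [Field k] [Algebra Λ k]

/-- the quotient of a complete local Noetherian augmented algebra by an ideal between a power of
the maximal ideal and the maximal ideal, as an Artinian object. -/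
noncomputable def artQuot (P : CRing Λ k) (K : Ideal P.carrier) (hK : K ≤ maximalIdeal P.carrier)
    (M : ℕ) (hM : maximalIdeal P.carrier ^ M ≤ K) : Art Λ k :=
  have hKtop : K ≠ ⊤ := fun h =>
    (IsLocalRing.maximalIdeal.isMaximal P.carrier).ne_top (top_le_iff.1 (h ▸ hK))
  haveI : Nontrivial (P.carrier ⧸ K) := Ideal.Quotient.nontrivial_iff.2 hKtop
  haveI hloc : IsLocalRing (P.carrier ⧸ K) :=
    IsLocalRing.of_surjective' (Ideal.Quotient.mk K) Ideal.Quotient.mk_surjective
  { carrier := P.carrier ⧸ K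
    isLocalRing := hloc
    isArtinianRing := by
      rw [isArtinianRing_iff_isNilpotent_maximalIdeal]
      refine ⟨M, ?_⟩
      rw [Ideal.zero_eq_bot, ← le_bot_iff,
        ← IsLocalRing.map_maximalIdeal_of_surjective (Ideal.Quotient.mk K)
          Ideal.Quotient.mk_surjective, ← Ideal.map_pow]
      calc (maximalIdeal P.carrier ^ M).map (Ideal.Quotient.mk K)
          ≤ K.map (Ideal.Quotient.mk K) := Ideal.map_mono hM
        _ = ⊥ := Ideal.map_quotient_self _
    res := Ideal.Quotient.liftₐ K P.res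
      (fun a ha => (CRing.mem_maximalIdeal_iff P a).1 (hK ha))
    res_surjective := fun c => by
      obtain ⟨a, ha⟩ := P.res_surjective c
      exact ⟨Ideal.Quotient.mk K a, ha⟩ }

lemma artQuot_res_mk (P : CRing Λ k) (K : Ideal P.carrier) (hK : K ≤ maximalIdeal P.carrier)
    (M : ℕ) (hM : maximalIdeal P.carrier ^ M ≤ K) (a : P.carrier) :
    (artQuot P K hK M hM).res (Ideal.Quotient.mk K a) = P.res a := rfl

/-- the projection as an element of `h_P`. -/
noncomputable def artQuotHom (P : CRing Λ k) (K : Ideal P.carrier)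
    (hK : K ≤ maximalIdeal P.carrier) (M : ℕ) (hM : maximalIdeal P.carrier ^ M ≤ K) :
    HomSet P.carrier P.res (artQuot P K hK M hM) :=
  ⟨Ideal.Quotient.mkₐ Λ K, Ideal.Quotient.liftₐ_comp _ _ _⟩

/-- the transition map between two such quotients. -/
noncomputable def artQuotMap (P : CRing Λ k) (K K' : Ideal P.carrier) (hKK' : K ≤ K')
    (hK : K ≤ maximalIdeal P.carrier) (hK' : K' ≤ maximalIdeal P.carrier) (M M' : ℕ)
    (hM : maximalIdeal P.carrier ^ M ≤ K) (hM' : maximalIdeal P.carrier ^ M' ≤ K') :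
    artQuot P K hK M hM ⟶ artQuot P K' hK' M' hM' :=
  ⟨Ideal.Quotient.factorₐ Λ hKK', by
    apply AlgHom.ext
    intro x
    obtain ⟨a, rfl⟩ := Ideal.Quotient.mk_surjective x
    rfl⟩

lemma artQuotMap_mk (P : CRing Λ k) (K K' : Ideal P.carrier) (hKK' : K ≤ K')
    (hK : K ≤ maximalIdeal P.carrier) (hK' : K' ≤ maximalIdeal P.carrier) (M M' : ℕ)
    (hM : maximalIdeal P.carrier ^ M ≤ K) (hM' : maximalIdeal P.carrier ^ M' ≤ K')
    (a : P.carrier) :
    (artQuotMap P K K' hKK' hK hK' M M' hM hM').toAlgHom (Ideal.Quotient.mk K a) =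
      Ideal.Quotient.mk K' a := rfl

lemma artQuotMap_surjective (P : CRing Λ k) (K K' : Ideal P.carrier) (hKK' : K ≤ K')
    (hK : K ≤ maximalIdeal P.carrier) (hK' : K' ≤ maximalIdeal P.carrier) (M M' : ℕ)
    (hM : maximalIdeal P.carrier ^ M ≤ K) (hM' : maximalIdeal P.carrier ^ M' ≤ K') :
    Function.Surjective (artQuotMap P K K' hKK' hK hK' M M' hM hM') := fun x => by
  obtain ⟨a, rfl⟩ := Ideal.Quotient.mk_surjective x
  exact ⟨Ideal.Quotient.mk K a, rfl⟩

end artQuot

section krull

/-- Krull + Nakayama: an ideal of a Noetherian local ring contained in `𝔪 I + 𝔪 ^ n` for all `n`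
is zero. -/
theorem eq_bot_of_le_mul_sup_pow {P : Type u} [CommRing P] [IsLocalRing P] [IsNoetherianRing P]
    (I : Ideal P) (h : ∀ n, I ≤ maximalIdeal P * I ⊔ maximalIdeal P ^ n) : I = ⊥ := by
  have h1 : I ≤ maximalIdeal P * I := by
    intro t ht
    have hH : IsHausdorff (maximalIdeal P) (P ⧸ (maximalIdeal P * I)) := inferInstance
    have h2 : (Ideal.Quotient.mk (maximalIdeal P * I) t) = 0 := by
      apply hH.haus'
      intro n
      rw [SModEq.zero]
      obtain ⟨u, hu, v, hv, huv⟩ := Submodule.mem_sup.1 (h n ht)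
      have h3 : Ideal.Quotient.mk (maximalIdeal P * I) t =
          v • (Ideal.Quotient.mk (maximalIdeal P * I) 1) := by
        rw [← huv, map_add, Ideal.Quotient.eq_zero_iff_mem.2 hu, zero_add]
        rw [Algebra.smul_def, map_one, mul_one]
        rfl
      rw [h3]
      exact Submodule.smul_mem_smul hv Submodule.mem_top
    exact Ideal.Quotient.eq_zero_iff_mem.1 h2
  have hfg : I.FG := (isNoetherianRing_iff_ideal_fg P).1 inferInstance I
  exact Submodule.eq_bot_of_le_smul_of_le_jacobson_bot (maximalIdeal P) I hfg h1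
    (IsLocalRing.maximalIdeal_le_jacobson _)

end krull

section psmap

variable {Λ k : Type u} [CommRing Λ] [Field k] [Algebra Λ k]

/-- maps out of a power series ring over the base into a complete local augmented algebra, with
prescribed values in the maximal ideal on the variables. -/
theorem exists_ps_algHom (S : CRing Λ k) (n : ℕ) (x : Fin n → S.carrier)
    (hx : ∀ i, x i ∈ maximalIdeal S.carrier) :
    ∃ G : MvPowerSeries (Fin n) Λ →ₐ[Λ] S.carrier, ∀ i, G (MvPowerSeries.X i) = x i := by
  have hz : ∀ (m : ℕ) (i : Fin n),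
      (Ideal.Quotient.mk (CRing.mpow S m) (x i) : (S.trunc m).carrier) ^ (m + 1 + 1) = 0 := by
    intro m i
    rw [← map_pow, Ideal.Quotient.eq_zero_iff_mem]
    exact Ideal.pow_le_pow_right (Nat.le_succ _) (Ideal.pow_mem_pow (hx i) _)
  let g : ∀ m, MvPowerSeries (Fin n) Λ →ₐ[Λ] (S.trunc m).carrier := fun m =>
    ev (fun i => (Ideal.Quotient.mk (CRing.mpow S m) (x i) : (S.trunc m).carrier)) (m + 1) (hz m)
  have hgX : ∀ m i, g m (MvPowerSeries.X i) = Ideal.Quotient.mk (CRing.mpow S m) (x i) :=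
    fun m i => ev_X _ (m + 1) (Nat.le_add_left 1 m) (hz m) i
  have hcompat : ∀ m, (S.truncMap m).toAlgHom.comp (g (m + 1)) = g m := by
    intro m
    apply algHom_eq_ev
    intro i
    rw [AlgHom.comp_apply, hgX]
    rfl
  obtain ⟨G, hG⟩ := exists_algHom_of_compat S g hcompat
  refine ⟨G, fun i => ?_⟩
  have hH : IsHausdorff (maximalIdeal S.carrier) S.carrier := S.isAdicComplete.toIsHausdorff
  rw [← sub_eq_zero]
  apply hH.haus'
  intro m
  rw [SModEq.zero, smul_eq_mul, Ideal.mul_top]
  have h1 := congrArg (fun f : MvPowerSeries (Fin n) Λ →ₐ[Λ] (S.trunc m).carrier =>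
    f (MvPowerSeries.X i)) (hG m)
  simp only [AlgHom.comp_apply] at h1
  rw [hgX] at h1
  have h2 : G (MvPowerSeries.X i) - x i ∈ CRing.mpow S m := by
    rw [← Ideal.Quotient.eq]
    exact h1
  exact Ideal.pow_le_pow_right (Nat.le_succ m) h2

end psmap

end Groth.Agent.LibCR29
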