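import Groth.Statements.S12718
import Groth.Agent.LibCR29g
import Groth.Agent.S12714
-- import your own Groth.Agent.* helpers here

set_option autoImplicit false
universe u v
open CategoryTheory
open ArtFun

namespace Groth.Agent.S12718
open Groth.Agent.LibCR29 Groth.Agent.LibPS29 IsLocalRing

theorem versal_of_equiv {Λ : Type u} {k : Type u} [CommRing Λ] [Field k] [Algebra Λ k]
    (R S : ArtFun.CRing Λ k) [Algebra R.carrier S.carrier] [IsScalarTower Λ R.carrier S.carrier]
    (hRS : S.res.comp (IsScalarTower.toAlgHom Λ R.carrier S.carrier) = R.res)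
    (n : ℕ) (e : S.carrier ≃ₐ[R.carrier] MvPowerSeries (Fin n) R.carrier) :
    ArtFun.IsVersal ((ArtFun.Family.self R.carrier R.res).along
        (IsScalarTower.toAlgHom Λ R.carrier S.carrier) hRS) := by
  intro B A μ hμ φ (y : HomSet R.carrier R.res B) hy
  have hy' : μ.toAlgHom.comp y.1 = φ.1.comp (IsScalarTower.toAlgHom Λ R.carrier S.carrier) :=
    congrArg Subtype.val hy
  let _ : Algebra R.carrier B := y.1.toRingHom.toAlgebra
  let _ : Algebra R.carrier A := (μ.toAlgHom.comp y.1).toRingHom.toAlgebra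
  have : IsScalarTower Λ R.carrier B :=
    IsScalarTower.of_algebraMap_eq (fun l => (y.1.commutes l).symm)
  have hb : ∀ i, ∃ b : B, μ b = φ.1 (e.symm (MvPowerSeries.X i)) := fun i => hμ _
  choose b hb using hb
  obtain ⟨N, hN⟩ := (isArtinianRing_iff_isNilpotent_maximalIdeal B).1 inferInstance
  have hN : maximalIdeal B ^ N = ⊥ := hN
  have hXm : ∀ i, e.symm (MvPowerSeries.X i) ∈ maximalIdeal S.carrier := by
    intro i
    rw [IsLocalRing.mem_maximalIdeal]
    intro hu
    have h1 : IsUnit (e (e.symm (MvPowerSeries.X i))) := hu.map e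
    rw [e.apply_symm_apply, MvPowerSeries.isUnit_iff_constantCoeff,
      MvPowerSeries.constantCoeff_X] at h1
    exact not_isUnit_zero h1
  have hbm : ∀ i, b i ∈ maximalIdeal B := by
    intro i
    rw [Art.mem_maximalIdeal_iff, ← Art.res_app μ]
    rw [hb i]
    have := congrArg (fun h : S.carrier →ₐ[Λ] k => h (e.symm (MvPowerSeries.X i))) φ.2
    simp only [AlgHom.comp_apply] at this
    rw [this, ← ArtFun.CRing.mem_maximalIdeal_iff]
    exact hXm i
  have hz : ∀ i, b i ^ (N + 1 + 1) = 0 := by
    intro i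
    have h1 : b i ^ N ∈ maximalIdeal B ^ N := Ideal.pow_mem_pow (hbm i) N
    rw [hN, Ideal.mem_bot] at h1
    rw [pow_succ, pow_succ, h1, zero_mul, zero_mul]
  let ψ' : MvPowerSeries (Fin n) R.carrier →ₐ[R.carrier] B := ev b (N + 1) hz
  let ψR : S.carrier →ₐ[R.carrier] B := ψ'.comp e.toAlgHom
  let ψ : S.carrier →ₐ[Λ] B := ψR.restrictScalars Λ
  -- compatibility with `μ`
  let μR : B →ₐ[R.carrier] A := { μ.toAlgHom.toRingHom with commutes' := fun r => rfl }
  let φR : S.carrier →ₐ[R.carrier] A :=
    { φ.1.toRingHom with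
      commutes' := fun r => by
        have := congrArg (fun h : R.carrier →ₐ[Λ] A => h r) hy'
        exact this.symm }
  have hzA : ∀ i, (μ (b i)) ^ (N + 1 + 1) = 0 := by
    intro i
    have := congrArg μ.toAlgHom (hz i)
    rw [map_pow, map_zero] at this
    exact this
  have h₁ : μR.comp ψ' = ev (fun i => μ (b i)) (N + 1) hzA := by
    apply algHom_eq_ev
    intro i
    change μ (ψ' (MvPowerSeries.X i)) = μ (b i)
    rw [show ψ' (MvPowerSeries.X i) = b i from ev_X b (N + 1) (Nat.le_add_left 1 N) hz i]
  have h₂ : φR.comp e.symm.toAlgHom = ev (fun i => μ (b i)) (N + 1) hzA := by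
    apply algHom_eq_ev
    intro i
    exact (hb i).symm
  have hμψ : μ.toAlgHom.comp ψ = φ.1 := by
    apply AlgHom.ext
    intro s
    have e1 := congrArg (fun h : MvPowerSeries (Fin n) R.carrier →ₐ[R.carrier] A => h (e s))
      (h₁.trans h₂.symm)
    change μ (ψ' (e s)) = φ.1 (e.symm (e s)) at e1
    rw [e.symm_apply_apply] at e1
    exact e1
  have hψι : ψ.comp (IsScalarTower.toAlgHom Λ R.carrier S.carrier) = y.1 := by
    apply AlgHom.ext
    intro r
    change ψR (algebraMap R.carrier S.carrier r) = y.1 r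
    rw [ψR.commutes]
    rfl
  have hres : B.res.comp ψ = S.res := by
    rw [← φ.2, ← hμψ, ← AlgHom.comp_assoc, μ.res_comp]
  exact ⟨⟨ψ, hres⟩, Subtype.ext hμψ, Subtype.ext hψι⟩

theorem equiv_of_versal {Λ : Type u} {k : Type u} [CommRing Λ] [Field k] [Algebra Λ k]
    [IsNoetherianRing Λ] [Module.Finite Λ k]
    (R S : ArtFun.CRing Λ k) [Algebra R.carrier S.carrier] [IsScalarTower Λ R.carrier S.carrier]
    (hRS : S.res.comp (IsScalarTower.toAlgHom Λ R.carrier S.carrier) = R.res)
    (hV : ArtFun.IsVersal ((ArtFun.Family.self R.carrier R.res).along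
        (IsScalarTower.toAlgHom Λ R.carrier S.carrier) hRS)) :
    ∃ n : ℕ, Nonempty (S.carrier ≃ₐ[R.carrier] MvPowerSeries (Fin n) R.carrier) := by
  classical
  have hRSpt : ∀ r : R.carrier, S.res (algebraMap R.carrier S.carrier r) = R.res r := fun r =>
    congrArg (fun f : R.carrier →ₐ[Λ] k => f r) hRS
  have hιloc : ∀ r ∈ maximalIdeal R.carrier,
      algebraMap R.carrier S.carrier r ∈ maximalIdeal S.carrier := by
    intro r hr
    rw [ArtFun.CRing.mem_maximalIdeal_iff] at hr ⊢
    rw [hRSpt, hr]
  -- Step A: a minimal system of generators of the relative cotangent space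
  let cI : Finset S.carrier → Ideal S.carrier := fun t =>
    (maximalIdeal R.carrier).map (algebraMap R.carrier S.carrier) ⊔ Ideal.span (t : Set S.carrier) ⊔
      maximalIdeal S.carrier ^ 2
  have hex : ∃ n, ∃ t : Finset S.carrier, t.card = n ∧
      (∀ a ∈ t, a ∈ maximalIdeal S.carrier) ∧ cI t = maximalIdeal S.carrier := by
    obtain ⟨t, ht⟩ := (isNoetherianRing_iff_ideal_fg _).1 inferInstance (maximalIdeal S.carrier)
    refine ⟨t.card, t, rfl, fun a ha => ?_, ?_⟩
    · rw [← ht]; exact Ideal.subset_span ha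
    · apply le_antisymm
      · refine sup_le (sup_le ?_ ?_) (Ideal.pow_le_self two_ne_zero)
        · rw [Ideal.map_le_iff_le_comap]; exact fun r hr => hιloc r hr
        · exact le_of_eq ht
      · exact le_sup_of_le_left (le_sup_of_le_right (le_of_eq ht.symm))
  obtain ⟨t, htcard, htm, htc⟩ := Nat.find_spec hex
  have hmin : ∀ t' : Finset S.carrier, t'.card < t.card →
      (∀ a ∈ t', a ∈ maximalIdeal S.carrier) → cI t' ≠ maximalIdeal S.carrier := by
    intro t' hlt ht'm ht'c
    rw [htcard] at hlt
    exact Nat.find_min hex hlt ⟨t', rfl, ht'm, ht'c⟩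
  let n := t.card
  let x : Fin n → S.carrier := fun i => ((t.equivFin.symm i : t) : S.carrier)
  have hxinj : Function.Injective x := fun i j hij =>
    t.equivFin.symm.injective (Subtype.ext hij)
  have hxt : ∀ i, x i ∈ t := fun i => (t.equivFin.symm i).2
  have hxm : ∀ i, x i ∈ maximalIdeal S.carrier := fun i => htm _ (hxt i)
  have hrange : Set.range x = (t : Set S.carrier) := by
    ext a
    constructor
    · rintro ⟨i, rfl⟩; exact hxt i
    · intro ha
      exact ⟨t.equivFin ⟨a, ha⟩, by simp [x]⟩
  -- Step B: the map from the power series ring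
  let _ : Algebra R.carrier k := R.res.toRingHom.toAlgebra
  let SR : CRing R.carrier k :=
    { carrier := S.carrier
      res := { S.res.toRingHom with commutes' := fun r => hRSpt r }
      res_surjective := S.res_surjective
      isAdicComplete := S.isAdicComplete }
  obtain ⟨φ₀, hφ₀⟩ : ∃ φ₀ : MvPowerSeries (Fin n) R.carrier →ₐ[R.carrier] S.carrier,
      ∀ i, φ₀ (MvPowerSeries.X i) = x i := exists_ps_algHom SR n x hxm
  let P := psCRing R n
  let f : P.carrier →ₐ[Λ] S.carrier := φ₀.restrictScalars Λ
  have hφ₀C : ∀ r : R.carrier, φ₀ (MvPowerSeries.C r) = algebraMap R.carrier S.carrier r := by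
    intro r
    rw [← φ₀.commutes]; rfl
  have hfpt : ∀ s : MvPowerSeries (Fin n) R.carrier,
      S.res (φ₀ s) = R.res (MvPowerSeries.constantCoeff s) := by
    intro s
    have h1 : s = MvPowerSeries.C (MvPowerSeries.constantCoeff s) +
        (s - MvPowerSeries.C (MvPowerSeries.constantCoeff s)) := by ring
    have h2 : φ₀ (s - MvPowerSeries.C (MvPowerSeries.constantCoeff s)) ∈
        maximalIdeal S.carrier := by
      have h3 := Ideal.mem_map_of_mem φ₀.toRingHom (sub_C_mem_span_X s)
      rw [Ideal.map_span] at h3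
      refine (Ideal.span_le.2 ?_) h3
      rintro _ ⟨_, ⟨i, rfl⟩, rfl⟩
      change φ₀ (MvPowerSeries.X i) ∈ maximalIdeal S.carrier
      rw [hφ₀]; exact hxm i
    rw [ArtFun.CRing.mem_maximalIdeal_iff] at h2
    conv_lhs => rw [h1, map_add, map_add, h2, add_zero, hφ₀C, hRSpt]
  have hf : S.res.comp f = P.res := AlgHom.ext hfpt
  -- Step C: surjectivity
  have hfsurj : Function.Surjective f := by
    have htfae := Groth.Agent.S12714.result P S f hf
    refine (htfae.out 0 1).2 ?_
    apply le_antisymm
    · refine sup_le ?_ (Ideal.pow_le_self (by norm_num))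
      rw [Ideal.map_le_iff_le_comap]
      intro s hs
      rw [Ideal.mem_comap, ArtFun.CRing.mem_maximalIdeal_iff]
      have := congrArg (fun g : P.carrier →ₐ[Λ] k => g s) hf
      simp only [AlgHom.comp_apply] at this
      rw [this, ← ArtFun.CRing.mem_maximalIdeal_iff]
      exact hs
    · refine le_trans (le_of_eq htc.symm) ?_
      refine sup_le (sup_le ?_ ?_) le_sup_right
      · rw [Ideal.map_le_iff_le_comap]
        intro r hr
        rw [Ideal.mem_comap]
        refine Ideal.mem_sup_left ?_
        rw [← hφ₀C]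
        apply Ideal.mem_map_of_mem f
        change MvPowerSeries.C r ∈ maximalIdeal (MvPowerSeries (Fin n) R.carrier)
        rw [mem_maximalIdeal_ps_iff, MvPowerSeries.constantCoeff_C]
        exact hr
      · rw [← hrange, Ideal.span_le]
        rintro _ ⟨i, rfl⟩
        refine Ideal.mem_sup_left ?_
        rw [← hφ₀ i]
        apply Ideal.mem_map_of_mem f
        exact X_mem_maximalIdeal_ps i
  -- Step D: injectivity
  set I : Ideal (MvPowerSeries (Fin n) R.carrier) := RingHom.ker φ₀ with hI
  have hI𝔪 : I ≤ maximalIdeal (MvPowerSeries (Fin n) R.carrier) := by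
    intro s hs
    rw [mem_maximalIdeal_ps_iff, ArtFun.CRing.mem_maximalIdeal_iff, ← hfpt,
      show φ₀ s = 0 from hs, map_zero]
  -- D1: the kernel lies in `𝔪_R P + 𝔪_P ^ 2`
  have hD1 : I ≤ (maximalIdeal R.carrier).map
      (MvPowerSeries.C : R.carrier →+* MvPowerSeries (Fin n) R.carrier) ⊔
      maximalIdeal (MvPowerSeries (Fin n) R.carrier) ^ 2 := by
    intro g hg
    have hg0 : MvPowerSeries.constantCoeff g ∈ maximalIdeal R.carrier :=
      (mem_maximalIdeal_ps_iff g).1 (hI𝔪 hg)
    obtain ⟨q, hq⟩ := (Ideal.mem_span_range_iff_exists_fun).1 (sub_C_mem_span_X g)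
    have hgeq : g = MvPowerSeries.C (MvPowerSeries.constantCoeff g) +
        ∑ i, q i * MvPowerSeries.X i := by rw [hq]; ring
    by_cases hall : ∀ i, MvPowerSeries.constantCoeff (q i) ∈ maximalIdeal R.carrier
    · rw [hgeq]
      refine Ideal.add_mem _ (Ideal.mem_sup_left (Ideal.mem_map_of_mem _ hg0))
        (Ideal.mem_sup_right (Ideal.sum_mem _ fun i _ => ?_))
      rw [pow_two]
      exact Ideal.mul_mem_mul ((mem_maximalIdeal_ps_iff _).2 (hall i)) (X_mem_maximalIdeal_ps i)
    · exfalso
      push Not at hall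
      obtain ⟨i₀, hi₀⟩ := hall
      have hu : IsUnit (φ₀ (q i₀)) := by
        apply IsUnit.map
        rw [MvPowerSeries.isUnit_iff_constantCoeff]
        by_contra h
        exact hi₀ ((IsLocalRing.mem_maximalIdeal _).2 h)
      have hrel : φ₀ (q i₀) * x i₀ =
          -(algebraMap R.carrier S.carrier (MvPowerSeries.constantCoeff g)) -
            ∑ i ∈ Finset.univ.erase i₀, φ₀ (q i) * x i := by
        have h0 : φ₀ g = 0 := hg
        rw [hgeq, map_add, map_sum, hφ₀C] at h0
        simp only [map_mul, hφ₀] at h0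
        rw [← Finset.add_sum_erase _ _ (Finset.mem_univ i₀)] at h0
        linear_combination h0
      let t' := t.erase (x i₀)
      have hlt : t'.card < t.card := Finset.card_erase_lt_of_mem (hxt i₀)
      have ht'm : ∀ a ∈ t', a ∈ maximalIdeal S.carrier := fun a ha =>
        htm a (Finset.mem_of_mem_erase ha)
      have hx₀ : x i₀ ∈ (maximalIdeal R.carrier).map (algebraMap R.carrier S.carrier) ⊔
          Ideal.span (t' : Set S.carrier) := by
        obtain ⟨v, hv⟩ := hu.exists_left_inv
        have e1 : x i₀ = v * (φ₀ (q i₀) * x i₀) := by rw [← mul_assoc, hv, one_mul]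
        rw [e1, hrel]
        refine Ideal.mul_mem_left _ _ (Ideal.sub_mem _ ?_ ?_)
        · exact Ideal.neg_mem_iff _ |>.2 (Ideal.mem_sup_left (Ideal.mem_map_of_mem _ hg0))
        · refine Ideal.sum_mem _ fun i hi => Ideal.mem_sup_right
            (Ideal.mul_mem_left _ _ (Ideal.subset_span ?_))
          rw [Finset.mem_coe, Finset.mem_erase]
          exact ⟨fun h => (Finset.mem_erase.1 hi).1 (hxinj h), hxt i⟩
      apply hmin t' hlt ht'm
      apply le_antisymm
      · refine sup_le (sup_le ?_ ?_) (Ideal.pow_le_self two_ne_zero)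
        · rw [Ideal.map_le_iff_le_comap]; exact fun r hr => hιloc r hr
        · rw [Ideal.span_le]; exact fun a ha => ht'm a ha
      · refine le_trans (le_of_eq htc.symm) ?_
        refine sup_le (sup_le (le_sup_of_le_left le_sup_left) ?_) le_sup_right
        rw [Ideal.span_le]
        intro a ha
        by_cases hax : a = x i₀
        · rw [hax]; exact Ideal.mem_sup_left hx₀
        · exact Ideal.mem_sup_left (Ideal.mem_sup_right (Ideal.subset_span
            (Finset.mem_coe.2 (Finset.mem_erase.2 ⟨hax, ha⟩))))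
  -- D2: the use of versality
  have hPm : ∀ a : P.carrier, a ∈ maximalIdeal P.carrier ↔ P.res a = 0 := fun a =>
    ArtFun.CRing.mem_maximalIdeal_iff P a
  let IP : Ideal P.carrier := I
  have hD2 : ∀ N, 1 ≤ N → IP ≤ maximalIdeal P.carrier * (IP ⊔ maximalIdeal P.carrier ^ N) := by
    intro N hN1
    set J : Ideal P.carrier := IP ⊔ maximalIdeal P.carrier ^ N with hJ
    have hJm : J ≤ maximalIdeal P.carrier := sup_le hI𝔪 (Ideal.pow_le_self (by omega))
    have hJN : maximalIdeal P.carrier ^ N ≤ J := le_sup_right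
    have hmJm : maximalIdeal P.carrier * J ≤ maximalIdeal P.carrier := Ideal.mul_le_left
    have hmJN : maximalIdeal P.carrier ^ (N + 1) ≤ maximalIdeal P.carrier * J := by
      rw [pow_succ']; exact Ideal.mul_mono_right hJN
    let A := artQuot P J hJm N hJN
    let B := artQuot P (maximalIdeal P.carrier * J) hmJm (N + 1) hmJN
    let μ : B ⟶ A := artQuotMap P _ _ Ideal.mul_le_right hmJm hJm (N + 1) N hmJN hJN
    have hμ : Function.Surjective μ := artQuotMap_surjective P _ _ Ideal.mul_le_right hmJm hJm
      (N + 1) N hmJN hJN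
    -- the map `S → A`
    have hkerle : RingHom.ker f.toRingHom ≤ RingHom.ker (Ideal.Quotient.mkₐ Λ J).toRingHom := by
      intro s hs
      rw [RingHom.mem_ker] at hs ⊢
      change Ideal.Quotient.mk J s = 0
      rw [Ideal.Quotient.eq_zero_iff_mem]
      exact (le_sup_left : IP ≤ J) hs
    obtain ⟨φ1, hφ1def⟩ : ∃ φ1, φ1 = AlgHom.liftOfSurjective f hfsurj
      (Ideal.Quotient.mkₐ Λ J) hkerle := ⟨_, rfl⟩
    have hφ1 : ∀ p : P.carrier, φ1 (f p) = Ideal.Quotient.mk J p := by
      intro p
      rw [hφ1def]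
      exact AlgHom.liftOfSurjective_apply _ _ _ _ _
    have hφres : A.res.comp φ1 = S.res := by
      apply AlgHom.ext
      intro s
      obtain ⟨p, rfl⟩ := hfsurj s
      change A.res (φ1 (f p)) = S.res (f p)
      rw [hφ1]
      exact (hfpt p).symm
    let φ : HomSet S.carrier S.res A := ⟨φ1, hφres⟩
    -- the map `R → B`
    let y1 : R.carrier →ₐ[Λ] B := (Ideal.Quotient.mkₐ Λ (maximalIdeal P.carrier * J)).comp
      (IsScalarTower.toAlgHom Λ R.carrier (MvPowerSeries (Fin n) R.carrier))
    have hy1 : ∀ r, y1 r = Ideal.Quotient.mk (maximalIdeal P.carrier * J) (MvPowerSeries.C r) :=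
      fun r => rfl
    have hyres : B.res.comp y1 = R.res := by
      apply AlgHom.ext
      intro r
      change R.res (MvPowerSeries.constantCoeff (MvPowerSeries.C r)) = R.res r
      rw [MvPowerSeries.constantCoeff_C]
    let y : HomSet R.carrier R.res B := ⟨y1, hyres⟩
    have hy : (hR R.carrier R.res).map μ y = ((ArtFun.Family.self R.carrier R.res).along
        (IsScalarTower.toAlgHom Λ R.carrier S.carrier) hRS).app A φ := by
      apply Subtype.ext
      apply AlgHom.ext
      intro r
      change Ideal.Quotient.mk J (MvPowerSeries.C r) = φ1 (algebraMap R.carrier S.carrier r)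
      rw [← hφ₀C r]
      exact (hφ1 _).symm
    obtain ⟨ψ, hψ1, hψ2⟩ := hV μ hμ φ y hy
    have hψ1' : ∀ s, μ.toAlgHom (ψ.1 s) = φ1 s := fun s =>
      congrArg (fun h : HomSet S.carrier S.res A => h.1 s) hψ1
    have hψ2' : ∀ r, ψ.1 (algebraMap R.carrier S.carrier r) = y1 r := fun r =>
      congrArg (fun h : HomSet R.carrier R.res B => h.1 r) hψ2
    let α : P.carrier →ₐ[Λ] B := ψ.1.comp f
    let π : P.carrier →ₐ[Λ] B := Ideal.Quotient.mkₐ Λ (maximalIdeal P.carrier * J)
    have hαπ : ∀ p, μ.toAlgHom (α p) = μ.toAlgHom (π p) := by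
      intro p
      change μ.toAlgHom (ψ.1 (f p)) = _
      rw [hψ1', hφ1]
      rfl
    have hαC : ∀ r, α (MvPowerSeries.C r) = π (MvPowerSeries.C r) := by
      intro r
      change ψ.1 (φ₀ (MvPowerSeries.C r)) = _
      rw [hφ₀C, hψ2']
      rfl
    have hKm0 : ∀ j ∈ J, ∀ a ∈ maximalIdeal P.carrier,
        Ideal.Quotient.mk (maximalIdeal P.carrier * J) j *
          Ideal.Quotient.mk (maximalIdeal P.carrier * J) a = 0 := by
      intro j hj a ha
      rw [← map_mul, Ideal.Quotient.eq_zero_iff_mem, mul_comm j a]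
      exact Ideal.mul_mem_mul ha hj
    have hKm : ∀ u v : B, μ.toAlgHom u = 0 → v ∈ maximalIdeal B → u * v = 0 := by
      intro u v hu hv
      obtain ⟨j, rfl⟩ := Ideal.Quotient.mk_surjective u
      obtain ⟨a, rfl⟩ := Ideal.Quotient.mk_surjective v
      have hj : j ∈ J := by
        rw [artQuotMap_mk] at hu
        exact Ideal.Quotient.eq_zero_iff_mem.1 hu
      have ha : a ∈ maximalIdeal P.carrier := by
        rw [Art.mem_maximalIdeal_iff, artQuot_res_mk] at hv
        exact (hPm a).2 hv
      exact hKm0 j hj a ha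
    have hd : ∀ p, μ.toAlgHom (α p - π p) = 0 := fun p => by rw [map_sub, hαπ, sub_self]
    have hαm : ∀ a ∈ maximalIdeal P.carrier, α a ∈ maximalIdeal B := by
      intro a ha
      rw [Art.mem_maximalIdeal_iff]
      have h1 := congrArg (fun h : S.carrier →ₐ[Λ] k => h (f a)) ψ.2
      simp only [AlgHom.comp_apply] at h1
      change B.res (ψ.1 (f a)) = 0
      rw [h1]
      have h2 := congrArg (fun h : P.carrier →ₐ[Λ] k => h a) hf
      simp only [AlgHom.comp_apply] at h2
      rw [h2]
      exact (hPm a).1 ha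
    have hπm : ∀ a ∈ maximalIdeal P.carrier, π a ∈ maximalIdeal B := by
      intro a ha
      rw [Art.mem_maximalIdeal_iff]
      change P.res a = 0
      exact (hPm a).1 ha
    let T : Ideal P.carrier :=
      { carrier := {t | ∀ g : P.carrier, α (g * t) = π (g * t)}
        add_mem' := fun {a b} ha hb g => by rw [mul_add, map_add, map_add, ha g, hb g]
        zero_mem' := fun g => by rw [mul_zero, map_zero, map_zero]
        smul_mem' := fun c a ha g => by
          rw [smul_eq_mul, ← mul_assoc]
          exact ha (g * c) }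
    let Cp : R.carrier →+* P.carrier :=
      (MvPowerSeries.C : R.carrier →+* MvPowerSeries (Fin n) R.carrier)
    have hαC' : ∀ r, α (Cp r) = π (Cp r) := hαC
    have hCpm : ∀ r ∈ maximalIdeal R.carrier, Cp r ∈ maximalIdeal P.carrier := by
      intro r hr
      change MvPowerSeries.C r ∈ maximalIdeal (MvPowerSeries (Fin n) R.carrier)
      rw [mem_maximalIdeal_ps_iff, MvPowerSeries.constantCoeff_C]
      exact hr
    have hT1 : (maximalIdeal R.carrier).map Cp ≤ T := by
      rw [Ideal.map_le_iff_le_comap]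
      intro r hr (g : P.carrier)
      rw [map_mul, map_mul, hαC', ← sub_eq_zero, ← sub_mul]
      exact hKm _ _ (hd g) (hπm _ (hCpm r hr))
    have hT2 : maximalIdeal P.carrier ^ 2 ≤ T := by
      rw [pow_two, Ideal.mul_le]
      intro (a : P.carrier) ha (b : P.carrier) hb (g : P.carrier)
      have e2 : α (g * (a * b)) = α (g * a) * α b := by rw [← mul_assoc, map_mul]
      have e3 : π (g * (a * b)) = π (g * a) * π b := by rw [← mul_assoc, map_mul]
      have e1 : α (g * (a * b)) - π (g * (a * b)) =
          (α b - π b) * α (g * a) + (α (g * a) - π (g * a)) * π b := by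
        rw [e2, e3]; ring
      rw [← sub_eq_zero, e1, hKm _ _ (hd b) (hαm _ (Ideal.mul_mem_left _ g ha)),
        hKm _ _ (hd (g * a)) (hπm b hb), add_zero]
    intro s hs
    have hsT : s ∈ T := (sup_le hT1 hT2) (hD1 hs)
    have h1 : α s = π s := by
      have := hsT 1
      rwa [one_mul] at this
    have h2 : α s = 0 := by
      change ψ.1 (φ₀ s) = 0
      rw [show φ₀ s = 0 from hs, map_zero]
    rw [h2] at h1
    exact Ideal.Quotient.eq_zero_iff_mem.1 h1.symm
  -- D3: conclusion
  have hIbot : I = ⊥ := by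
    change IP = ⊥
    apply eq_bot_of_le_mul_sup_pow
    intro m
    refine le_trans (hD2 (max m 1) (le_max_right _ _)) ?_
    rw [Ideal.mul_sup]
    refine sup_le_sup_left ?_ _
    refine le_trans Ideal.mul_le_right ?_
    exact Ideal.pow_le_pow_right (le_max_left _ _)
  have hinj : Function.Injective φ₀ := by
    rw [injective_iff_map_eq_zero]
    intro s hs
    have : s ∈ I := hs
    rw [hIbot, Ideal.mem_bot] at this
    exact this
  exact ⟨n, ⟨(AlgEquiv.ofBijective φ₀ ⟨hinj, hfsurj⟩).symm⟩⟩


/-- Let R → S be a morphism of complete local Noetherian Λ-algebras with residue field k. The induced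
morphism h_S → h_R of functors on Artinian local Λ-algebras with residue field k (composition with R
→ S) is smooth if and only if S is isomorphic as an R-algebra to a power series ring R[[X₁, …, Xₙ]]
for some n. Smoothness of h_S → h_R is written as versality of the corresponding family of h_R over
S. -/
theorem result {Λ : Type u} {k : Type u} [CommRing Λ] [Field k] [Algebra Λ k]
    [IsNoetherianRing Λ] [Module.Finite Λ k]
    (R S : ArtFun.CRing Λ k) [Algebra R.carrier S.carrier] [IsScalarTower Λ R.carrier S.carrier]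
    (hRS : S.res.comp (IsScalarTower.toAlgHom Λ R.carrier S.carrier) = R.res) :
    ArtFun.IsVersal ((ArtFun.Family.self R.carrier R.res).along
        (IsScalarTower.toAlgHom Λ R.carrier S.carrier) hRS) ↔
      ∃ n : ℕ, Nonempty (S.carrier ≃ₐ[R.carrier] MvPowerSeries (Fin n) R.carrier) := by
  constructor
  · exact equiv_of_versal R S hRS
  · rintro ⟨n, ⟨e⟩⟩
    exact versal_of_equiv R S hRS n e

end Groth.Agent.S12718
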