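import Groth.Statements.S12722
import Groth.Agent.S12718
-- import your own Groth.Agent.* helpers here

set_option autoImplicit false
universe u v
open CategoryTheory
open ArtFun

namespace Groth.Agent.S12722
open IsLocalRing

lemma algHom_base_ext {Λ : Type u} [CommRing Λ] {B : Type u} [CommRing B] [Algebra Λ B]
    (f g : Λ →ₐ[Λ] B) : f = g := by
  apply AlgHom.ext
  intro l
  have h1 := f.commutes l
  have h2 := g.commutes l
  rw [Algebra.algebraMap_self_apply] at h1 h2
  rw [h1, h2]


/-- (1) ⇔ (5): let Λ be a complete local Noetherian ring with residue field k. For a complete local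
Noetherian Λ-algebra R with residue field k, the functor h_R on Artinian local Λ-algebras with
residue field k is smooth if and only if R is isomorphic over Λ to a power series ring Λ[[x₁, …,
xₙ]] for some n. -/
theorem result {Λ : Type u} {k : Type u} [CommRing Λ] [Field k] [Algebra Λ k]
    [IsNoetherianRing Λ] [Module.Finite Λ k]
    [IsLocalRing Λ] [IsAdicComplete (IsLocalRing.maximalIdeal Λ) Λ]
    (hk : Function.Surjective (algebraMap Λ k)) (R : ArtFun.CRing Λ k) :
    ArtFun.IsSmoothFunctor (ArtFun.hR R.carrier R.res) ↔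
      ∃ n : ℕ, Nonempty (R.carrier ≃ₐ[Λ] MvPowerSeries (Fin n) Λ) := by
  let L : ArtFun.CRing Λ k :=
    { carrier := Λ
      res := Algebra.ofId Λ k
      res_surjective := hk
      isAdicComplete := inferInstance }
  have hRS : R.res.comp (IsScalarTower.toAlgHom Λ Λ R.carrier) = L.res := algHom_base_ext _ _
  have key := @Groth.Agent.S12718.result Λ k _ _ _ _ _ L R
    (show Algebra Λ R.carrier from inferInstance) (show IsScalarTower Λ Λ R.carrier from inferInstance)
    hRS
  refine Iff.trans ?_ key
  constructor
  · intro hs B A μ hμ φ y _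
    obtain ⟨ψ, hψ⟩ := hs μ hμ φ
    exact ⟨ψ, hψ, Subtype.ext (algHom_base_ext _ _)⟩
  · intro hv B A μ hμ φ
    let y : HomSet L.carrier L.res B := ⟨Algebra.ofId Λ B, algHom_base_ext _ _⟩
    obtain ⟨ψ, hψ, _⟩ := hv μ hμ φ y (Subtype.ext (algHom_base_ext _ _))
    exact ⟨ψ, hψ⟩

end Groth.Agent.S12722
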