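import Groth.Statements.S7655
import Mathlib
import Groth.Agent.Lib.Helper26.TotalFracNormal
import Groth.Agent.Lib.Helper26.BranchCount

set_option autoImplicit false
universe u
open CategoryTheory CategoryTheory.Limits AlgebraicGeometry
open Variety

namespace Groth.Agent.S7655

/-- For a reduced ring, the canonical surjective `A`-algebra map from the normalization of `A`
to the normalization of `A_red`. -/
theorem exists_surjective_algHom (A : Type u) [CommRing A] [IsReduced A] :
    ∃ Θ : integralClosure A (FractionRing A) →ₐ[A] CAlg2.normRed A, Function.Surjective Θ := by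
  have hbij : Function.Bijective (Ideal.Quotient.mk (nilradical A)) := by
    refine ⟨?_, Ideal.Quotient.mk_surjective⟩
    rw [injective_iff_map_eq_zero]
    intro a ha
    rw [Ideal.Quotient.eq_zero_iff_mem, nilradical_eq_zero] at ha
    exact ha
  let e : A ≃+* CAlg2.red A := RingEquiv.ofBijective (Ideal.Quotient.mk (nilradical A)) hbij
  have hfr : IsFractionRing A (FractionRing (CAlg2.red A)) :=
    IsFractionRing.of_ringEquiv_left e (fun x => rfl)
  let Φ : FractionRing A ≃ₐ[A] FractionRing (CAlg2.red A) :=
    FractionRing.algEquiv A (FractionRing (CAlg2.red A))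
  have hint : ∀ z : integralClosure A (FractionRing A),
      Φ (z : FractionRing A) ∈ integralClosure (CAlg2.red A) (FractionRing (CAlg2.red A)) :=
    fun z => (z.2.map Φ).tower_top
  let Θr : integralClosure A (FractionRing A) →+* CAlg2.normRed A :=
    RingHom.codRestrict (Φ.toAlgHom.toRingHom.comp
      (integralClosure A (FractionRing A)).val.toRingHom)
      (integralClosure (CAlg2.red A) (FractionRing (CAlg2.red A))) hint
  let Θ : integralClosure A (FractionRing A) →ₐ[A] CAlg2.normRed A :=
    { Θr with
      commutes' := fun a => by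
        apply Subtype.ext
        show Φ (algebraMap A (FractionRing A) a) = _
        rw [Φ.commutes]
        rfl }
  refine ⟨Θ, ?_⟩
  intro w
  have hw : IsIntegral A (w : FractionRing (CAlg2.red A)) :=
    isIntegral_trans (A := CAlg2.red A) _ w.2
  have hw' : IsIntegral A (Φ.symm (w : FractionRing (CAlg2.red A))) := hw.map Φ.symm
  refine ⟨⟨Φ.symm w, hw'⟩, ?_⟩
  apply Subtype.ext
  show Φ (Φ.symm (w : FractionRing (CAlg2.red A))) = w
  exact Φ.apply_symm_apply _


/-- Let (A, m) be a reduced Nagata local ring of dimension one. Then the δ-invariant of A is at least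
the number of geometric branches of A minus one. -/
theorem result (A : Type u) [CommRing A] [IsLocalRing A]
    [IsReduced A] (hN : CAlg.IsNagata A) (hdim : ringKrullDim A = 1) :
    Brnch.numGeomBranches A ≤ Curv2.deltaInv A + 1 := by
  have hnoeth : IsNoetherianRing A := hN.1
  have hfin : Module.Finite A (integralClosure A (FractionRing A)) := by
    apply Groth.Agent.Lib.helper26.TotalFrac.finite_integralClosure
    intro p hp
    have hpr : p.IsPrime := hp.1.1
    exact hN.2 p (FractionRing (A ⧸ p)) inferInstance
  obtain ⟨Θ, hΘ⟩ := exists_surjective_algHom A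
  have hfinN : Module.Finite A (CAlg2.normRed A) := Module.Finite.of_surjective Θ.toLinearMap hΘ
  have hfinmin : (minimalPrimes A).Finite := minimalPrimes.finite_of_isNoetherianRing A
  unfold Brnch.numGeomBranches
  rw [if_pos hfinmin]
  let emb : ∀ m' : MaximalSpectrum (CAlg2.normRed A), Brnch.Emb A m' →
      {σ : CAlg2.normRed A ⧸ m'.asIdeal →+* AlgebraicClosure (IsLocalRing.ResidueField A) //
        σ.comp (Brnch.toResidue A m') = Brnch.toClosure A} := fun _ x => x
  let F : (Σ m' : MaximalSpectrum (CAlg2.normRed A), Brnch.Emb A m') →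
      (CAlg2.normRed A →ₐ[A] AlgebraicClosure (IsLocalRing.ResidueField A)) := fun x =>
    { toRingHom := (emb x.1 x.2).1.comp (Ideal.Quotient.mk x.1.asIdeal)
      commutes' := fun a => by
        have := congrArg (fun g => g a) (emb x.1 x.2).2
        exact this }
  have hker : ∀ (m' : MaximalSpectrum (CAlg2.normRed A))
      (σ : CAlg2.normRed A ⧸ m'.asIdeal →+* AlgebraicClosure (IsLocalRing.ResidueField A)),
      RingHom.ker (σ.comp (Ideal.Quotient.mk m'.asIdeal)) = m'.asIdeal := by
    intro m' σ
    have hmax : m'.asIdeal.IsMaximal := m'.isMaximal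
    let _ : Field (CAlg2.normRed A ⧸ m'.asIdeal) := Ideal.Quotient.field _
    ext x
    rw [RingHom.mem_ker, RingHom.comp_apply, map_eq_zero, Ideal.Quotient.eq_zero_iff_mem]
  have hF : Function.Injective F := by
    rintro ⟨m₁, x₁⟩ ⟨m₂, x₂⟩ h
    have hr : (emb m₁ x₁).1.comp (Ideal.Quotient.mk m₁.asIdeal) =
        (emb m₂ x₂).1.comp (Ideal.Quotient.mk m₂.asIdeal) := congrArg AlgHom.toRingHom h
    have hm : m₁ = m₂ := by
      apply MaximalSpectrum.ext
      rw [← hker m₁ (emb m₁ x₁).1, ← hker m₂ (emb m₂ x₂).1, hr]
    subst hm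
    have hσ : (emb m₁ x₁).1 = (emb m₁ x₂).1 := Ideal.Quotient.ringHom_ext hr
    have : x₁ = x₂ := Subtype.ext hσ
    rw [this]
  calc ENat.card (Σ m' : MaximalSpectrum (CAlg2.normRed A), Brnch.Emb A m')
      ≤ ENat.card (CAlg2.normRed A →ₐ[A] AlgebraicClosure (IsLocalRing.ResidueField A)) :=
        ENat.card_le_card_of_injective hF
    _ ≤ Module.length A (CAlg2.normRed A ⧸ LinearMap.range (Algebra.linearMap A (CAlg2.normRed A)))
          + 1 := Groth.Agent.Lib.helper26.BranchCount.card_algHom_le A _ _
    _ ≤ Curv2.deltaInv A + 1 := by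
        gcongr
        unfold Curv2.deltaInv
        have hle : LinearMap.range (Algebra.linearMap A (integralClosure A (FractionRing A))) ≤
            (LinearMap.range (Algebra.linearMap A (CAlg2.normRed A))).comap Θ.toLinearMap := by
          rintro _ ⟨a, rfl⟩
          exact ⟨a, (Θ.commutes a).symm⟩
        let h := Submodule.mapQ _ _ Θ.toLinearMap hle
        apply Module.length_le_of_surjective h
        intro y
        obtain ⟨w, rfl⟩ := Submodule.mkQ_surjective _ y
        obtain ⟨z, rfl⟩ := hΘ w
        exact ⟨Submodule.Quotient.mk z, rfl⟩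


end Groth.Agent.S7655
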