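import Groth.Statements.S12218
import Mathlib
import Groth.Agent.Lib.Helper17.Multicross

set_option autoImplicit false
set_option linter.style.haveILetI false
universe u
open Curves

namespace Groth.Agent.S12218

open IsLocalRing PowerSeries

theorem numBranches_le_card' (A : Type u) [CommRing A] [IsLocalRing A] [IsReduced A]
    (hfinmin : (minimalPrimes A).Finite) :
    Brnch.numBranches A ≤
      ENat.card (MaximalSpectrum (integralClosure A (FractionRing A))) := by
  classical
  unfold Brnch.numBranches
  rw [if_pos hfinmin]
  obtain ⟨Θ, hΘ⟩ := Groth.Agent.S7655.exists_surjective_algHom A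
  apply ENat.card_le_card_of_injective
    (f := fun M : MaximalSpectrum (CAlg2.normRed A) =>
      (⟨M.asIdeal.comap Θ.toRingHom,
        haveI := M.isMaximal; Ideal.comap_isMaximal_of_surjective _ hΘ⟩ :
        MaximalSpectrum (integralClosure A (FractionRing A))))
  intro M₁ M₂ h
  have h1 : M₁.asIdeal.comap Θ.toRingHom = M₂.asIdeal.comap Θ.toRingHom :=
    congrArg MaximalSpectrum.asIdeal h
  exact MaximalSpectrum.ext (Ideal.comap_injective_of_surjective _ hΘ h1)

/-- Let k be a separably closed field and A a one-dimensional reduced Nagata local k-algebra with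
residue field k, having n branches (n a natural number). If the δ-invariant of A equals n − 1, then
the completion of A with respect to its maximal ideal is the multicross ring with n branches: there
is an injective ring map from the completion to (k[[t]])^n, compatible with the structure maps from
k, whose range is the subring of n-tuples of power series with a common constant term. (The
inequality δ ≥ n − 1 itself is the companion statement on geometric branches.) -/
theorem result (k : Type u) [Field k] [IsSepClosed k]
    (A : Type u) [CommRing A] [IsLocalRing A] [Algebra k A] [IsReduced A]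
    (hdim : ringKrullDim A = 1) (hN : CAlg.IsNagata A)
    (hres : Function.Bijective (algebraMap k (IsLocalRing.ResidueField A)))
    (n : ℕ) (hn : Brnch.numBranches A = n) (hδ : Curv2.deltaInv A + 1 = n) :
    ∃ φ : AdicCompletion (IsLocalRing.maximalIdeal A) A →+* (Fin n → PowerSeries k),
      Function.Injective φ ∧
      (∀ c : k, φ (algebraMap A (AdicCompletion (IsLocalRing.maximalIdeal A) A) (algebraMap k A c)) =
        fun _ => algebraMap k (PowerSeries k) c) ∧
      Set.range φ = {f : Fin n → PowerSeries k | ∀ i j : Fin n, PowerSeries.constantCoeff (f i) = PowerSeries.constantCoeff (f j)} := by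
  classical
  haveI hnoeth : IsNoetherianRing A := hN.1
  haveI hfin : Module.Finite A (integralClosure A (FractionRing A)) := by
    apply Groth.Agent.Lib.helper26.TotalFrac.finite_integralClosure
    intro p hp
    have hpr : p.IsPrime := hp.1.1
    exact hN.2 p (FractionRing (A ⧸ p)) inferInstance
  haveI : Finite (MaximalSpectrum (integralClosure A (FractionRing A))) :=
    Groth.Agent.Lib.helper16.IntegralFree.finite_maximalSpectrum_of_finite A _
  haveI : Fintype (MaximalSpectrum (integralClosure A (FractionRing A))) := Fintype.ofFinite _
  have hfinmin : (minimalPrimes A).Finite := minimalPrimes.finite_of_isNoetherianRing A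
  have hover : ∀ (i : MaximalSpectrum (integralClosure A (FractionRing A))),
      ∀ a ∈ IsLocalRing.maximalIdeal A,
        algebraMap A (integralClosure A (FractionRing A)) a ∈ i.asIdeal := by
    intro i a ha
    haveI := i.isMaximal
    have hcomap : i.asIdeal.comap (algebraMap A (integralClosure A (FractionRing A))) =
        IsLocalRing.maximalIdeal A :=
      IsLocalRing.eq_maximalIdeal (Ideal.isMaximal_comap_of_isIntegral_of_isMaximal i.asIdeal)
    rw [← hcomap] at ha
    exact ha
  obtain ⟨h1, h2⟩ := Groth.Agent.Lib.helper17.Wedge.card_le_length_add_one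
    (fun i : MaximalSpectrum (integralClosure A (FractionRing A)) => i.asIdeal)
    (fun i => i.isMaximal) (fun i j h => MaximalSpectrum.ext h) hover
  have hle : (n : ℕ∞) ≤
      (Fintype.card (MaximalSpectrum (integralClosure A (FractionRing A))) : ℕ∞) := by
    have h3 := numBranches_le_card' A hfinmin
    rw [hn, ENat.card_eq_coe_fintype_card] at h3
    exact h3
  have hge : Module.length A (↥(integralClosure A (FractionRing A)) ⧸
      LinearMap.range (Algebra.linearMap A ↥(integralClosure A (FractionRing A)))) + 1 = n := hδ
  have hcard : Fintype.card (MaximalSpectrum (integralClosure A (FractionRing A))) = n := by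
    apply le_antisymm
    · rw [hge] at h1
      exact_mod_cast h1
    · exact_mod_cast hle
  obtain ⟨hs, hw⟩ := h2 (by rw [hge, hcard])
  have hn0 : 0 < n := by
    rcases Nat.eq_zero_or_pos n with h | h
    · exfalso
      rw [h] at hge
      simp at hge
    · exact h
  let e : Fin n ≃ MaximalSpectrum (integralClosure A (FractionRing A)) :=
    (Fintype.equivFinOfCardEq hcard).symm
  have hinj : Function.Injective (algebraMap A (integralClosure A (FractionRing A))) := by
    intro a b hab
    have := congrArg Subtype.val hab
    exact IsFractionRing.injective A (FractionRing A) this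
  have hτ : ∀ i : Fin n, ∃ τ : ↥(integralClosure A (FractionRing A)) →+* PowerSeries k,
      (∀ c, τ (algebraMap A _ (algebraMap k A c)) = C c) ∧
      (∀ (b : ↥(integralClosure A (FractionRing A))) (N : ℕ),
        b ∈ (e i).asIdeal ^ N ↔ (X : PowerSeries k) ^ N ∣ τ b) ∧
      (∀ (f : PowerSeries k) (N : ℕ), ∃ b : ↥(integralClosure A (FractionRing A)),
        (X : PowerSeries k) ^ N ∣ τ b - f) := by
    intro i
    haveI := (e i).isMaximal
    obtain ⟨hdom, hdvr⟩ :=
      Groth.Agent.Lib.helper17.Wedge.isDVR_atPrime_integralClosure A hdim (e i).asIdeal
    haveI := hdom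
    haveI := hdvr
    refine Groth.Agent.Lib.helper17.Multicross.exists_taylor_loc (e i).asIdeal
      ((algebraMap A (integralClosure A (FractionRing A))).comp (algebraMap k A)) ?_
    intro y
    obtain ⟨a, ha⟩ := hs (e i) y
    obtain ⟨c, hc⟩ := hres.2 (residue A a)
    refine ⟨c, ?_⟩
    rw [← ha]
    show Ideal.Quotient.mk _ (algebraMap A _ (algebraMap k A c)) =
      Ideal.Quotient.mk _ (algebraMap A _ a)
    rw [Ideal.Quotient.eq, ← map_sub]
    apply hover
    rw [← Ideal.Quotient.eq]
    exact hc
  choose τ' hτ1 hτ2 hτ3 using hτ
  exact Groth.Agent.Lib.helper17.Multicross.multicross_of_wedge hres.2 hinj n hn0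
    (fun i => (e i).asIdeal) (fun i => (e i).isMaximal)
    (fun i j h => e.injective (MaximalSpectrum.ext h)) (fun i => hover (e i))
    (fun b hb => hw b (by
      obtain ⟨a, ha⟩ := hb
      refine ⟨a, fun M => ?_⟩
      have := ha (e.symm M)
      rwa [Equiv.apply_symm_apply] at this))
    τ' hτ1 hτ2 hτ3

end Groth.Agent.S12218
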