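import Groth.Statements.S12250
import Mathlib

set_option autoImplicit false
universe u v
open CategoryTheory
open Deform

namespace Groth.Agent.S12250

section helpers
open ArtFun

variable {Λ : Type u} {k : Type u} [CommRing Λ] [Field k] [Algebra Λ k]
variable (R : ArtFun.CRing Λ k)

/-- every augmented map `R → A` to an Artinian local ring kills a power of the maximal ideal -/
theorem exists_mpow_le_ker (A : ArtFun.Art Λ k) (φ : ArtFun.HomSet R.carrier R.res A) :
    ∃ n : ℕ, ArtFun.CRing.mpow R n ≤ RingHom.ker (φ.1 : R.carrier →+* A) := by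
  have hnil : IsNilpotent (IsLocalRing.maximalIdeal A) := by
    have h := IsArtinianRing.isNilpotent_jacobson_bot (R := A)
    rwa [IsLocalRing.jacobson_eq_maximalIdeal ⊥ bot_ne_top] at h
  obtain ⟨N, hN⟩ := hnil
  have hmap : (IsLocalRing.maximalIdeal R.carrier).map (φ.1 : R.carrier →+* A) ≤
      IsLocalRing.maximalIdeal A := by
    rw [Ideal.map_le_iff_le_comap]
    intro a ha
    rw [Ideal.mem_comap, ArtFun.Art.mem_maximalIdeal_iff]
    have h1 : A.res (φ.1 a) = R.res a := by
      have := congrArg (fun g => g a) φ.2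
      exact this
    have h2 : (φ.1 : R.carrier →+* A) a = φ.1 a := rfl
    rw [h2, h1]
    exact (ArtFun.CRing.mem_maximalIdeal_iff R a).1 ha
  refine ⟨N, ?_⟩
  intro a ha
  rw [RingHom.mem_ker]
  have h3 : (φ.1 : R.carrier →+* A) a ∈
      ((IsLocalRing.maximalIdeal R.carrier) ^ (N + 1)).map (φ.1 : R.carrier →+* A) :=
    Ideal.mem_map_of_mem _ ha
  rw [Ideal.map_pow] at h3
  have h4 : ((IsLocalRing.maximalIdeal R.carrier).map (φ.1 : R.carrier →+* A)) ^ (N + 1) ≤
      (IsLocalRing.maximalIdeal A) ^ (N + 1) := Ideal.pow_right_mono hmap _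
  have h5 : (IsLocalRing.maximalIdeal A) ^ (N + 1) = ⊥ := by
    rw [pow_succ, hN]; simp
  have := h4 h3
  rw [h5] at this
  exact this

/-- the factorization of `φ` through the truncation -/
noncomputable def fac {A : ArtFun.Art Λ k} (φ : ArtFun.HomSet R.carrier R.res A) (n : ℕ)
    (hn : ArtFun.CRing.mpow R n ≤ RingHom.ker (φ.1 : R.carrier →+* A)) : R.trunc n ⟶ A :=
  ⟨Ideal.Quotient.liftₐ (ArtFun.CRing.mpow R n) φ.1 (fun a ha => hn ha), by
    apply AlgHom.ext
    intro x
    obtain ⟨a, rfl⟩ := Ideal.Quotient.mk_surjective x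
    have := congrArg (fun g => g a) φ.2
    exact this⟩

theorem map_fac {A : ArtFun.Art Λ k} (φ : ArtFun.HomSet R.carrier R.res A) (n : ℕ)
    (hn : ArtFun.CRing.mpow R n ≤ RingHom.ker (φ.1 : R.carrier →+* A)) :
    ArtFun.HomSet.map (fac R φ n hn) (R.truncHom n) = φ :=
  Subtype.ext (AlgHom.ext fun _ => rfl)

theorem eq_fac {A : ArtFun.Art Λ k} (φ : ArtFun.HomSet R.carrier R.res A) (n : ℕ)
    (hn : ArtFun.CRing.mpow R n ≤ RingHom.ker (φ.1 : R.carrier →+* A))
    (g : R.trunc n ⟶ A) (hg : ArtFun.HomSet.map g (R.truncHom n) = φ) : g = fac R φ n hn := by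
  apply ArtFun.Art.hom_ext
  apply AlgHom.ext
  intro x
  obtain ⟨a, rfl⟩ := Ideal.Quotient.mk_surjective x
  have := congrArg (fun ψ => ψ.1 a) hg
  exact this

/-- transition maps between truncations -/
noncomputable def trLE {n m : ℕ} (h : n ≤ m) : R.trunc m ⟶ R.trunc n :=
  fac R (R.truncHom n) m (by
    intro a ha
    rw [RingHom.mem_ker]
    exact Ideal.Quotient.eq_zero_iff_mem.2 (Ideal.pow_le_pow_right (Nat.succ_le_succ h) ha))

theorem map_trLE {n m : ℕ} (h : n ≤ m) :
    ArtFun.HomSet.map (trLE R h) (R.truncHom m) = R.truncHom n := map_fac R _ _ _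

theorem formalElt_trLE {F : ArtFun.Art Λ k ⥤ Type v} (u : ArtFun.FormalElt F R) {n m : ℕ} (h : n ≤ m) :
    F.map (trLE R h) (u.elt m) = u.elt n := by
  induction m, h using Nat.le_induction with
  | base =>
    have : trLE R (le_refl n) = 𝟙 _ := by
      apply ArtFun.Art.hom_ext
      apply AlgHom.ext
      intro x
      obtain ⟨a, rfl⟩ := Ideal.Quotient.mk_surjective x
      rfl
    rw [this, FunctorToTypes.map_id_apply]
  | succ m hnm ih =>
    have : trLE R (Nat.le_succ_of_le hnm) = R.truncMap m ≫ trLE R hnm := by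
      apply ArtFun.Art.hom_ext
      apply AlgHom.ext
      intro x
      obtain ⟨a, rfl⟩ := Ideal.Quotient.mk_surjective x
      rfl
    rw [this, FunctorToTypes.map_comp_apply, u.compat, ih]

theorem fac_trLE {A : ArtFun.Art Λ k} (φ : ArtFun.HomSet R.carrier R.res A) {n m : ℕ} (h : n ≤ m)
    (hn : ArtFun.CRing.mpow R n ≤ RingHom.ker (φ.1 : R.carrier →+* A))
    (hm : ArtFun.CRing.mpow R m ≤ RingHom.ker (φ.1 : R.carrier →+* A)) :
    fac R φ m hm = trLE R h ≫ fac R φ n hn := by
  apply ArtFun.Art.hom_ext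
  apply AlgHom.ext
  intro x
  obtain ⟨a, rfl⟩ := Ideal.Quotient.mk_surjective x
  rfl

/-- the value does not depend on the level -/
theorem val_indep {F : ArtFun.Art Λ k ⥤ Type v} (u : ArtFun.FormalElt F R) {A : ArtFun.Art Λ k}
    (φ : ArtFun.HomSet R.carrier R.res A) (n m : ℕ)
    (hn : ArtFun.CRing.mpow R n ≤ RingHom.ker (φ.1 : R.carrier →+* A))
    (hm : ArtFun.CRing.mpow R m ≤ RingHom.ker (φ.1 : R.carrier →+* A)) :
    F.map (fac R φ n hn) (u.elt n) = F.map (fac R φ m hm) (u.elt m) := by
  have key : ∀ (n m : ℕ) (h : n ≤ m)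
      (hn : ArtFun.CRing.mpow R n ≤ RingHom.ker (φ.1 : R.carrier →+* A))
      (hm : ArtFun.CRing.mpow R m ≤ RingHom.ker (φ.1 : R.carrier →+* A)),
      F.map (fac R φ n hn) (u.elt n) = F.map (fac R φ m hm) (u.elt m) := by
    intro n m h hn hm
    rw [fac_trLE R φ h hn hm, FunctorToTypes.map_comp_apply, formalElt_trLE]
  rcases le_total n m with h | h
  · exact key n m h hn hm
  · exact (key m n h hm hn).symm

/-- the family attached to a formal element -/
noncomputable def famOf {F : ArtFun.Art Λ k ⥤ Type v} (u : ArtFun.FormalElt F R) :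
    ArtFun.Family R.carrier R.res F where
  app A φ := F.map (fac R φ (exists_mpow_le_ker R A φ).choose (exists_mpow_le_ker R A φ).choose_spec)
    (u.elt (exists_mpow_le_ker R A φ).choose)
  natural {A B} f φ := by
    set n := (exists_mpow_le_ker R A φ).choose with hn
    have hn' := (exists_mpow_le_ker R A φ).choose_spec
    have hker : ArtFun.CRing.mpow R n ≤
        RingHom.ker ((ArtFun.HomSet.map f φ).1 : R.carrier →+* B) := by
      intro a ha
      have h1 : (φ.1 : R.carrier →+* A) a = 0 := hn' ha
      rw [RingHom.mem_ker]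
      show f.toAlgHom (φ.1 a) = 0
      have h2 : φ.1 a = 0 := h1
      rw [h2, map_zero]
    rw [val_indep R u (ArtFun.HomSet.map f φ) _ n _ hker]
    have hfac : fac R (ArtFun.HomSet.map f φ) n hker = fac R φ n hn' ≫ f := by
      apply ArtFun.Art.hom_ext
      apply AlgHom.ext
      intro x
      obtain ⟨a, rfl⟩ := Ideal.Quotient.mk_surjective x
      rfl
    rw [hfac, FunctorToTypes.map_comp_apply]

end helpers


/-- Let k be an algebraically closed field, Λ a complete local Noetherian k-algebra with residue field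
k, R a complete local Noetherian Λ-algebra with residue field k and F a set-valued functor on local
Artinian Λ-algebras with residue field k. Then the map sending a morphism of functors h_R → F to its
formal element (the compatible sequence of its values on the quotient maps R → R/m^(n+1), n ≥ 0) is
a bijection between morphisms h_R → F and formal elements of F over R. -/
theorem result
    {k Λ : Type u} [Field k] [IsAlgClosed k] [CommRing Λ] [IsLocalRing Λ] [IsNoetherianRing Λ]
    [IsAdicComplete (IsLocalRing.maximalIdeal Λ) Λ] [Algebra k Λ] [Algebra Λ k] [IsScalarTower k Λ k]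
    (R : ArtFun.CRing Λ k) (F : ArtFun.Art Λ k ⥤ Type v) :
    Function.Bijective (fun ξ : ArtFun.Family R.carrier R.res F => ξ.toFormalElt) := by
  constructor
  · intro ξ ξ' h
    have happ : ∀ (A : ArtFun.Art Λ k) (φ : ArtFun.HomSet R.carrier R.res A), ξ.app A φ = ξ'.app A φ := by
      intro A φ
      obtain ⟨n, hn⟩ := exists_mpow_le_ker R A φ
      have h1 := ξ.natural (fac R φ n hn) (R.truncHom n)
      have h2 := ξ'.natural (fac R φ n hn) (R.truncHom n)
      rw [map_fac] at h1 h2
      have h3 : ξ.app _ (R.truncHom n) = ξ'.app _ (R.truncHom n) :=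
        congrArg (fun w : ArtFun.FormalElt F R => w.elt n) h
      rw [h1, h2, h3]
    cases ξ with
    | mk app nat =>
      cases ξ' with
      | mk app' nat' =>
        have : app = app' := funext fun A => funext fun φ => happ A φ
        subst this
        rfl
  · intro u
    refine ⟨famOf R u, ?_⟩
    apply ArtFun.FormalElt.ext'
    intro n
    show F.map (fac R (R.truncHom n) _ _) (u.elt _) = u.elt n
    have hn : ArtFun.CRing.mpow R n ≤ RingHom.ker ((R.truncHom n).1 : R.carrier →+* R.trunc n) := by
      intro a ha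
      rw [RingHom.mem_ker]
      exact Ideal.Quotient.eq_zero_iff_mem.2 ha
    rw [val_indep R u (R.truncHom n) _ n _ hn]
    have : fac R (R.truncHom n) n hn = 𝟙 _ := by
      apply ArtFun.Art.hom_ext
      apply AlgHom.ext
      intro x
      obtain ⟨a, rfl⟩ := Ideal.Quotient.mk_surjective x
      rfl
    rw [this, FunctorToTypes.map_id_apply]

end Groth.Agent.S12250
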