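import Groth.Statements.S12713
import Mathlib
-- import your own Groth.Agent.* helpers here

set_option autoImplicit false
universe u v
open CategoryTheory
open ArtFun ArtFun.Art

namespace Groth.Agent.S12713

/-- A small extension f : B → A in the category of Artinian local Λ-algebras with residue field k is not
an essential surjection (some morphism g : C → B is non-surjective although the composite C → A is
surjective) if and only if f has a section A → B in the category. -/
theorem result {Λ : Type u} {k : Type u} [CommRing Λ] [Field k] [Algebra Λ k]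
    [IsNoetherianRing Λ] [Module.Finite Λ k]
    {A B : ArtFun.Art Λ k} (f : B ⟶ A) (hf : ArtFun.Art.IsSmallExt f) :
    (∃ (C : ArtFun.Art Λ k) (g : C ⟶ B), Function.Surjective (g ≫ f) ∧ ¬ Function.Surjective g) ↔
      ∃ s : A ⟶ B, s ≫ f = 𝟙 A := by
  obtain ⟨hfs, hne, hprin, hkill⟩ := hf
  constructor
  · rintro ⟨C, g, hgf, hg⟩
    obtain ⟨t, ht⟩ := hprin.principal
    have ht_mem : t ∈ RingHom.ker f.toAlgHom := by
      rw [ht]; exact Submodule.mem_span_singleton_self t
    -- m_B kills the kernel
    have hmk : ∀ m ∈ IsLocalRing.maximalIdeal B, ∀ x ∈ RingHom.ker f.toAlgHom, m * x = 0 := by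
      intro m hm x hx
      have : m * x ∈ IsLocalRing.maximalIdeal B * RingHom.ker f.toAlgHom := Ideal.mul_mem_mul hm hx
      rw [hkill] at this
      exact this
    -- approximating elements of B by elements in the image of g modulo m_B
    have happrox : ∀ b : B, ∃ γ : C, g γ - b ∈ IsLocalRing.maximalIdeal B := by
      intro b
      obtain ⟨γ, hγ⟩ := C.res_surjective (B.res b)
      refine ⟨γ, ?_⟩
      rw [ArtFun.Art.mem_maximalIdeal_iff, map_sub, ArtFun.Art.res_app, hγ, sub_self]
    set T : Subalgebra Λ B := g.toAlgHom.range with hT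
    have hgT : ∀ γ : C, g γ ∈ T := fun γ => ⟨γ, rfl⟩
    -- T meets the kernel trivially
    have hTker : ∀ x ∈ T, f x = 0 → x = 0 := by
      intro x hxT hfx
      by_contra hx0
      have hxker : x ∈ RingHom.ker f.toAlgHom := hfx
      have hxker' := hxker
      rw [ht] at hxker'
      obtain ⟨c, hc⟩ := Submodule.mem_span_singleton.mp hxker'
      have hcx : c * t = x := hc
      have hcunit : IsUnit c := by
        by_contra hcn
        have hcm : c ∈ IsLocalRing.maximalIdeal B := (IsLocalRing.mem_maximalIdeal c).mpr hcn
        apply hx0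
        rw [← hcx]
        exact hmk c hcm t ht_mem
      obtain ⟨cu, rfl⟩ := hcunit
      -- t ∈ T
      have htT : t ∈ T := by
        obtain ⟨γ, hγ⟩ := happrox ((cu⁻¹ : Bˣ) : B)
        have h1 : g γ * x = t := by
          have h2 : (g γ - ((cu⁻¹ : Bˣ) : B)) * x = 0 := hmk _ hγ x hxker
          have h3 : ((cu⁻¹ : Bˣ) : B) * x = t := by
            rw [← hcx, ← mul_assoc, Units.inv_mul, one_mul]
          rw [sub_mul, sub_eq_zero] at h2
          rw [h2, h3]
        rw [← h1]
        exact T.mul_mem (hgT γ) hxT
      -- hence the kernel is inside T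
      have hkerT : ∀ y ∈ RingHom.ker f.toAlgHom, y ∈ T := by
        intro y hy
        rw [ht] at hy
        obtain ⟨b, hb⟩ := Submodule.mem_span_singleton.mp hy
        have hbt : b * t = y := hb
        obtain ⟨β, hβ⟩ := happrox b
        have h2 : (g β - b) * t = 0 := hmk _ hβ t ht_mem
        rw [sub_mul, sub_eq_zero] at h2
        rw [← hbt, ← h2]
        exact T.mul_mem (hgT β) htT
      -- hence g is surjective
      apply hg
      intro b
      obtain ⟨γ, hγ⟩ := hgf (f b)
      have h1 : b - g γ ∈ RingHom.ker f.toAlgHom := by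
        change f.toAlgHom (b - g γ) = 0
        rw [map_sub, sub_eq_zero]
        exact hγ.symm
      have h2 : b ∈ T := by
        have := T.add_mem (hkerT _ h1) (hgT γ)
        rwa [sub_add_cancel] at this
      exact h2
    -- f restricted to T is bijective
    have hbij : Function.Bijective (f.toAlgHom.comp T.val) := by
      constructor
      · rw [injective_iff_map_eq_zero]
        intro x hx
        exact Subtype.ext (hTker x.1 x.2 hx)
      · intro a
        obtain ⟨γ, hγ⟩ := hgf a
        exact ⟨⟨g γ, hgT γ⟩, hγ⟩
    let e : T ≃ₐ[Λ] A := AlgEquiv.ofBijective (f.toAlgHom.comp T.val) hbij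
    have he : ∀ a : A, f ((e.symm a : T) : B) = a := by
      intro a
      exact e.apply_symm_apply a
    refine ⟨ArtFun.Art.homMk (T.val.comp (e.symm : A →ₐ[Λ] T)) ?_, ?_⟩
    · apply AlgHom.ext
      intro a
      change B.res ((e.symm a : T) : B) = A.res a
      rw [← ArtFun.Art.res_app f, he]
    · apply ArtFun.Art.hom_ext
      apply AlgHom.ext
      intro a
      exact he a
  · rintro ⟨s, hs⟩
    refine ⟨A, s, ?_, ?_⟩
    · rw [hs]
      exact Function.surjective_id
    · intro hsurj
      apply hne
      rw [eq_bot_iff]
      intro x hx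
      obtain ⟨a, rfl⟩ := hsurj x
      have h1 : f (s a) = 0 := hx
      have h2 : (s ≫ f) a = a := by rw [hs]; rfl
      have h3 : a = 0 := by rw [← h2]; exact h1
      rw [h3]
      exact (map_zero s.toAlgHom)

end Groth.Agent.S12713
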