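import Groth.Statements.S12729
import Groth.Agent.S12707
import Mathlib
-- import your own Groth.Agent.* helpers here

set_option autoImplicit false
universe u v
open CategoryTheory
open ArtFun

namespace Groth.Agent.S12729

section
variable {Λ : Type u} {k : Type u} [CommRing Λ] [Field k] [Algebra Λ k]

theorem ker_le_max {B A : Art Λ k} (p : B ⟶ A) :
    RingHom.ker p.toAlgHom ≤ IsLocalRing.maximalIdeal B := by
  intro b hb
  rw [Art.mem_maximalIdeal_iff, ← Art.res_app p b]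
  have h : p b = 0 := hb
  rw [h, map_zero]

/-- the lifting predicate -/
def Lifts (F : Art Λ k ⥤ Type v) {B A : Art Λ k} (p : B ⟶ A) (x : F.obj A) (J : Ideal B) : Prop :=
  ∃ (hJ : J ≤ RingHom.ker p.toAlgHom) (hJ' : J ≤ IsLocalRing.maximalIdeal B),
    ∃ y : F.obj (Art.quot B J hJ'), F.map (Art.quotFactor hJ' p hJ) y = x

theorem le_ker_quotMk {B : Art Λ k} {J K : Ideal B} (hK' : K ≤ IsLocalRing.maximalIdeal B) (h : J ≤ K) :
    J ≤ RingHom.ker (Art.quotMk B K hK').toAlgHom := by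
  intro b hb
  rw [RingHom.mem_ker]
  exact Ideal.Quotient.eq_zero_iff_mem.2 (h hb)

/-- transition map `B/J → B/K` for `J ≤ K`. -/
noncomputable def trans {B : Art Λ k} {J K : Ideal B} (hJ' : J ≤ IsLocalRing.maximalIdeal B)
    (hK' : K ≤ IsLocalRing.maximalIdeal B) (h : J ≤ K) : Art.quot B J hJ' ⟶ Art.quot B K hK' :=
  Art.quotFactor hJ' (Art.quotMk B K hK') (le_ker_quotMk hK' h)

theorem trans_mk {B : Art Λ k} {J K : Ideal B} (hJ' : J ≤ IsLocalRing.maximalIdeal B)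
    (hK' : K ≤ IsLocalRing.maximalIdeal B) (h : J ≤ K) (b : B) :
    trans hJ' hK' h (Art.quotMk B J hJ' b) = Art.quotMk B K hK' b := rfl

theorem quotFactor_mk {B A : Art Λ k} {J : Ideal B} (hJ' : J ≤ IsLocalRing.maximalIdeal B) (p : B ⟶ A)
    (hJ : J ≤ RingHom.ker p.toAlgHom) (b : B) :
    Art.quotFactor hJ' p hJ (Art.quotMk B J hJ' b) = p b := rfl

theorem trans_comp {B A : Art Λ k} {J K : Ideal B} (hJ' : J ≤ IsLocalRing.maximalIdeal B)
    (hK' : K ≤ IsLocalRing.maximalIdeal B) (h : J ≤ K) (p : B ⟶ A)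
    (hK : K ≤ RingHom.ker p.toAlgHom) :
    trans hJ' hK' h ≫ Art.quotFactor hK' p hK = Art.quotFactor hJ' p (h.trans hK) := by
  apply Art.hom_ext
  apply AlgHom.ext
  intro x
  obtain ⟨b, rfl⟩ := Art.quotMk_surjective B J hJ' x
  rfl

theorem lifts_mono {F : Art Λ k ⥤ Type v} {B A : Art Λ k} (p : B ⟶ A) (x : F.obj A) {J K : Ideal B}
    (h : J ≤ K) (hK : K ≤ RingHom.ker p.toAlgHom) (hJ : Lifts F p x J) : Lifts F p x K := by
  obtain ⟨hJ1, hJ', y, hy⟩ := hJ
  have hK' : K ≤ IsLocalRing.maximalIdeal B := hK.trans (ker_le_max p)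
  refine ⟨hK, hK', F.map (trans hJ' hK' h) y, ?_⟩
  rw [← FunctorToTypes.map_comp_apply, trans_comp hJ' hK' h p hK]
  exact hy

theorem mk_eq_mk_iff {B : Art Λ k} {J : Ideal B} (hJ' : J ≤ IsLocalRing.maximalIdeal B) (a b : B) :
    Art.quotMk B J hJ' a = Art.quotMk B J hJ' b ↔ a - b ∈ J := by
  rw [Art.quotMk_apply, Art.quotMk_apply]
  exact Ideal.Quotient.eq

theorem lifts_ker {F : Art Λ k ⥤ Type v} {B A : Art Λ k} (p : B ⟶ A) (hp : Function.Surjective p)
    (x : F.obj A) : Lifts F p x (RingHom.ker p.toAlgHom) := by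
  refine ⟨le_rfl, ker_le_max p, ?_⟩
  have hbij : Function.Bijective (Art.quotFactor (ker_le_max p) p le_rfl) := by
    constructor
    · intro a b hab
      obtain ⟨a, rfl⟩ := Art.quotMk_surjective B _ (ker_le_max p) a
      obtain ⟨b, rfl⟩ := Art.quotMk_surjective B _ (ker_le_max p) b
      rw [quotFactor_mk, quotFactor_mk] at hab
      rw [mk_eq_mk_iff, RingHom.mem_ker, map_sub]
      exact sub_eq_zero.2 hab
    · intro a
      obtain ⟨b, rfl⟩ := hp a
      exact ⟨Art.quotMk B _ (ker_le_max p) b, rfl⟩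
  haveI := Groth.Agent.S12707.isIso_of_bijective _ hbij
  refine ⟨F.map (inv (Art.quotFactor (ker_le_max p) p le_rfl)) x, ?_⟩
  rw [← FunctorToTypes.map_comp_apply, IsIso.inv_hom_id, FunctorToTypes.map_id_apply]

theorem isFibreProd_quot {B A : Art Λ k} (p : B ⟶ A) {J K : Ideal B}
    (hJ : J ≤ RingHom.ker p.toAlgHom) (hK : K ≤ RingHom.ker p.toAlgHom)
    (hJ' : J ≤ IsLocalRing.maximalIdeal B) (hK' : K ≤ IsLocalRing.maximalIdeal B)
    (hJK' : J ⊓ K ≤ IsLocalRing.maximalIdeal B)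
    (hsup : RingHom.ker p.toAlgHom ≤ J ⊔ K) :
    Art.IsFibreProd (trans hJK' hJ' inf_le_left) (trans hJK' hK' inf_le_right)
      (Art.quotFactor hJ' p hJ) (Art.quotFactor hK' p hK) where
  w := by rw [trans_comp, trans_comp]
  inj := by
    intro b₁ b₂ h1 h2
    obtain ⟨a₁, rfl⟩ := Art.quotMk_surjective B _ hJK' b₁
    obtain ⟨a₂, rfl⟩ := Art.quotMk_surjective B _ hJK' b₂
    rw [trans_mk, trans_mk, mk_eq_mk_iff] at h1 h2
    rw [mk_eq_mk_iff]
    exact ⟨h1, h2⟩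
  surj := by
    intro a' a'' h
    obtain ⟨b₁, rfl⟩ := Art.quotMk_surjective B _ hJ' a'
    obtain ⟨b₂, rfl⟩ := Art.quotMk_surjective B _ hK' a''
    rw [quotFactor_mk, quotFactor_mk] at h
    have hmem : b₁ - b₂ ∈ RingHom.ker p.toAlgHom := by
      rw [RingHom.mem_ker, map_sub]
      exact sub_eq_zero.2 h
    obtain ⟨j, hj, c, hc, hjc⟩ := Submodule.mem_sup.1 (hsup hmem)
    refine ⟨Art.quotMk B _ hJK' (b₁ - j), ?_, ?_⟩
    · rw [trans_mk, mk_eq_mk_iff]
      have : b₁ - j - b₁ = -j := by ring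
      rw [this]
      exact J.neg_mem hj
    · rw [trans_mk, mk_eq_mk_iff]
      have : b₁ - j - b₂ = c := by
        have : b₁ - j - b₂ = (b₁ - b₂) - j := by ring
        rw [this, ← hjc]; ring
      rw [this]
      exact hc

theorem lifts_inf {F : Art Λ k ⥤ Type v} (h1 : S1 F) {B A : Art Λ k} (p : B ⟶ A)
    (hp : Function.Surjective p) (x : F.obj A) {J K : Ideal B}
    (hsup : RingHom.ker p.toAlgHom ≤ J ⊔ K)
    (hJ : Lifts F p x J) (hK : Lifts F p x K) : Lifts F p x (J ⊓ K) := by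
  obtain ⟨hJ1, hJ', y, hy⟩ := hJ
  obtain ⟨hK1, hK', z, hz⟩ := hK
  have hJK' : J ⊓ K ≤ IsLocalRing.maximalIdeal B := inf_le_left.trans hJ'
  have hfp := isFibreProd_quot p hJ1 hK1 hJ' hK' hJK' hsup
  have hsurj : Function.Surjective (Art.quotFactor hK' p hK1) := by
    intro a
    obtain ⟨b, rfl⟩ := hp a
    exact ⟨Art.quotMk B _ hK' b, rfl⟩
  obtain ⟨w, hw⟩ := h1 _ _ _ _ hfp hsurj ⟨(y, z), by rw [hy, hz]⟩
  have hw1 : F.map (trans hJK' hJ' inf_le_left) w = y := congrArg (fun t => t.1.1) hw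
  refine ⟨inf_le_left.trans hJ1, hJK', w, ?_⟩
  rw [← trans_comp hJK' hJ' inf_le_left p hJ1, FunctorToTypes.map_comp_apply, hw1]
  exact hy

theorem exists_compl {B : Type u} [CommRing B] [IsLocalRing B] [IsNoetherianRing B]
    (I J K : Ideal B) (hI : IsLocalRing.maximalIdeal B * I = ⊥) (hK : K ≤ I) :
    ∃ K' : Ideal B, K ≤ K' ∧ K' ≤ I ∧ K' ⊓ J = K ⊓ J ∧ I ≤ K' ⊔ J := by
  let T : Set (Ideal B) := {K' | K ≤ K' ∧ K' ≤ I ∧ K' ⊓ J = K ⊓ J}
  have hT : T.Nonempty := ⟨K, le_rfl, hK, rfl⟩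
  obtain ⟨K', ⟨hKK', hK'I, hinf⟩, hmax⟩ := (wellFounded_gt (α := Ideal B)).has_min T hT
  refine ⟨K', hKK', hK'I, hinf, ?_⟩
  intro b hbI
  by_contra hb
  have hbK' : b ∉ K' := fun h => hb (Submodule.mem_sup_left h)
  apply hmax (K' ⊔ Ideal.span {b})
  · refine ⟨hKK'.trans le_sup_left, sup_le hK'I ((Ideal.span_singleton_le_iff_mem _).2 hbI), ?_⟩
    apply le_antisymm
    · rintro c ⟨hc1, hc2⟩
      obtain ⟨k', hk', d, hd, hkd⟩ := Submodule.mem_sup.1 hc1
      obtain ⟨r, rfl⟩ := Ideal.mem_span_singleton'.1 hd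
      by_cases hr : r ∈ IsLocalRing.maximalIdeal B
      · have : r * b = 0 := by
          have : r * b ∈ IsLocalRing.maximalIdeal B * I := Ideal.mul_mem_mul hr hbI
          rw [hI] at this
          exact this
        rw [this, add_zero] at hkd
        rw [← hinf]
        exact ⟨hkd ▸ hk', hc2⟩
      · exfalso
        have hu : IsUnit r := by
          by_contra hnu
          exact hr ((IsLocalRing.mem_maximalIdeal r).2 hnu)
        obtain ⟨u, rfl⟩ := hu
        apply hb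
        have hbeq : b = (↑u⁻¹ : B) * c - (↑u⁻¹ : B) * k' := by
          rw [← hkd]
          have : (↑u⁻¹ : B) * (k' + ↑u * b) - ↑u⁻¹ * k' = (↑u⁻¹ * ↑u) * b := by ring
          rw [this, Units.inv_mul, one_mul]
        rw [hbeq]
        refine Submodule.sub_mem _ (Submodule.mem_sup_right (J.mul_mem_left _ hc2))
          (Submodule.mem_sup_left (K'.mul_mem_left _ hk'))
    · rw [← hinf]
      exact inf_le_inf_right _ le_sup_left
  · refine lt_of_le_of_ne le_sup_left ?_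
    intro heq
    apply hbK'
    rw [heq]
    exact Submodule.mem_sup_right (Ideal.subset_span rfl)

end

/-- For functors, let F satisfy (S1), let p : B → A be a surjection in the category of Artinian local
Λ-algebras with residue field k whose kernel I is annihilated by m_B, and let x ∈ F(A). Then the set
of ideals J ⊆ I for which x lifts to F(B/J) along B/J → A has a least element. -/
theorem result {Λ : Type u} {k : Type u} [CommRing Λ] [Field k] [Algebra Λ k]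
    [IsNoetherianRing Λ] [Module.Finite Λ k]
    {F : ArtFun.Art Λ k ⥤ Type v} (h1 : ArtFun.S1 F)
    {B A : ArtFun.Art Λ k} (p : B ⟶ A) (hp : ArtFun.Art.IsSemismallExt p) (x : F.obj A) :
    ∃ (J₀ : Ideal B) (hJ₀ : J₀ ≤ RingHom.ker p.toAlgHom) (hJ₀' : J₀ ≤ IsLocalRing.maximalIdeal B),
      (∃ y : F.obj (ArtFun.Art.quot B J₀ hJ₀'), F.map (ArtFun.Art.quotFactor hJ₀' p hJ₀) y = x) ∧
      ∀ (J : Ideal B) (hJ : J ≤ RingHom.ker p.toAlgHom) (hJ' : J ≤ IsLocalRing.maximalIdeal B),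
        (∃ y : F.obj (ArtFun.Art.quot B J hJ'), F.map (ArtFun.Art.quotFactor hJ' p hJ) y = x) → J₀ ≤ J := by
  have hne : {J : Ideal B | Lifts F p x J}.Nonempty := ⟨_, lifts_ker p hp.1 x⟩
  obtain ⟨J₀, hJ₀, hmin⟩ := (wellFounded_lt (α := Ideal B)).has_min _ hne
  obtain ⟨hJ₀1, hJ₀', y, hy⟩ := id hJ₀
  refine ⟨J₀, hJ₀1, hJ₀', ⟨y, hy⟩, ?_⟩
  intro J hJ hJ' hlift
  have hJl : Lifts F p x J := ⟨hJ, hJ', hlift⟩
  obtain ⟨K', hJK', hK'I, hinf, hsup⟩ := exists_compl (RingHom.ker p.toAlgHom) J₀ J hp.2 hJ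
  have hK'l : Lifts F p x K' := lifts_mono p x hJK' hK'I hJl
  have hsup' : RingHom.ker p.toAlgHom ≤ J₀ ⊔ K' := by rw [sup_comm]; exact hsup
  have hl := lifts_inf h1 p hp.1 x hsup' hJ₀ hK'l
  have heq : J₀ ⊓ K' = J₀ := by
    by_contra hne'
    exact hmin _ hl (lt_of_le_of_ne inf_le_left hne')
  have : J₀ ≤ K' ⊓ J₀ := by rw [inf_comm]; exact heq.ge
  rw [hinf] at this
  exact this.trans inf_le_left

end Groth.Agent.S12729
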