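import Groth.Statements.S12724
import Groth.Agent.S12707
import Groth.Agent.S12710
import Groth.Agent.Lib.Helper22.ArtFibre
-- import your own Groth.Agent.* helpers here

set_option autoImplicit false
set_option linter.deprecated false
set_option linter.style.haveILetI false
universe u v
open CategoryTheory
open ArtFun

namespace Groth.Agent.S12724

/-- For functors, condition (S1) on a functor F on Artinian local Λ-algebras with residue field k
(surjectivity of F(A₁ ×_A A₂) → F(A₁) ×_{F(A)} F(A₂) for A₂ → A surjective) is equivalent to the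
same condition restricted to small extensions A₂ → A. -/
theorem result {Λ : Type u} {k : Type u} [CommRing Λ] [Field k] [Algebra Λ k]
    [IsNoetherianRing Λ] [Module.Finite Λ k]
    (F : ArtFun.Art Λ k ⥤ Type v) : ArtFun.S1 F ↔ ArtFun.Hbar F := by
  constructor
  · intro hS1 B A A' A'' p' p'' f' f'' h hsmall
    exact hS1 p' p'' f' f'' h hsmall.1
  · intro hH B A A' A'' p' p'' f' f'' h hsurj
    -- the property proved by induction on surjections
    have key := Groth.Agent.S12707.result (Λ := Λ) (k := k)
      (fun A A'' (f'' : A'' ⟶ A) => Function.Surjective f'' ∧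
        ∀ ⦃B A' : ArtFun.Art Λ k⦄ (p' : B ⟶ A') (p'' : B ⟶ A'') (f' : A' ⟶ A)
          (h : ArtFun.Art.IsFibreProd p' p'' f' f''), Function.Surjective (ArtFun.cmp F h))
      ?_ ?_ ?_ f'' hsurj
    · exact key.2 p' p'' f' h
    · -- isomorphisms
      intro A A'' e he
      have hebij : Function.Bijective e := by
        constructor
        · intro x y hxy
          have : (e ≫ inv e) x = (e ≫ inv e) y := by
            change (inv e) (e x) = (inv e) (e y)
            rw [hxy]
          rw [IsIso.hom_inv_id] at this
          exact this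
        · intro a
          refine ⟨(inv e) a, ?_⟩
          change (inv e ≫ e) a = a
          rw [IsIso.inv_hom_id]
          rfl
      refine ⟨hebij.2, ?_⟩
      intro B A' p' p'' f' h
      -- p' is bijective hence an isomorphism
      have hp'bij : Function.Bijective p' := by
        constructor
        · intro b₁ b₂ hb
          apply h.inj _ _ hb
          apply hebij.1
          rw [← h.w_apply, ← h.w_apply, hb]
        · intro a'
          obtain ⟨a'', ha''⟩ := hebij.2 (f' a')
          obtain ⟨b, hb, _⟩ := h.surj a' a'' ha''.symm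
          exact ⟨b, hb⟩
      haveI : IsIso p' := Groth.Agent.S12707.isIso_of_bijective p' hp'bij
      have hcomp : inv p' ≫ p'' = f' ≫ inv e := by
        rw [IsIso.inv_comp_eq, ← Category.assoc, IsIso.eq_comp_inv]
        exact h.w.symm
      rintro ⟨⟨x', x''⟩, hx⟩
      have hx' : F.map f' x' = F.map e x'' := hx
      refine ⟨F.map (inv p') x', ?_⟩
      apply ArtFun.FibProd.ext
      · change F.map p' (F.map (inv p') x') = x'
        rw [← FunctorToTypes.map_comp_apply, IsIso.inv_hom_id, FunctorToTypes.map_id_apply]
      · change F.map p'' (F.map (inv p') x') = x''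
        rw [← FunctorToTypes.map_comp_apply, hcomp, FunctorToTypes.map_comp_apply, hx',
          ← FunctorToTypes.map_comp_apply, IsIso.hom_inv_id, FunctorToTypes.map_id_apply]
    · -- small extensions
      intro A A'' f'' hsm
      exact ⟨hsm.1, fun B A' p' p'' f' h => hH p' p'' f' f'' h hsm⟩
    · -- composition
      intro A B' C p q ⟨hps, hp⟩ ⟨hqs, hq⟩
      refine ⟨hqs.comp hps, ?_⟩
      intro B A' p' p'' f' h
      obtain ⟨D, d₁, d₂, hD⟩ := Groth.Agent.S12710.result f' q hqs
      obtain ⟨r, hr₁, hr₂⟩ := Groth.Agent.Lib.helper22.IsFibreProd.exists_lift hD p' (p'' ≫ p)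
        (by rw [Category.assoc]; exact h.w)
      have hB := Groth.Agent.Lib.helper22.IsFibreProd.of_comp h hD r hr₁ hr₂
      rintro ⟨⟨x', x''⟩, hx⟩
      have hx' : F.map f' x' = F.map (p ≫ q) x'' := hx
      obtain ⟨y, hy⟩ := hq d₁ d₂ f' hD ⟨(x', F.map p x''), by
        change F.map f' x' = F.map q (F.map p x'')
        rw [hx', FunctorToTypes.map_comp_apply]⟩
      have hy1 : F.map d₁ y = x' := congrArg (fun t => t.1.1) hy
      have hy2 : F.map d₂ y = F.map p x'' := congrArg (fun t => t.1.2) hy
      obtain ⟨z, hz⟩ := hp r p'' d₂ hB ⟨(y, x''), hy2⟩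
      have hz1 : F.map r z = y := congrArg (fun t => t.1.1) hz
      have hz2 : F.map p'' z = x'' := congrArg (fun t => t.1.2) hz
      refine ⟨z, ?_⟩
      apply ArtFun.FibProd.ext
      · change F.map p' z = x'
        rw [← hr₁, FunctorToTypes.map_comp_apply, hz1, hy1]
      · exact hz2

end Groth.Agent.S12724
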