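import Groth.Statements.S12738
import Groth.Agent.Lib.Helper17.ArtAct
import Groth.Agent.Lib.Helper22.ArtFibre
import Mathlib

set_option autoImplicit false
universe u v
open CategoryTheory
open ArtFun

namespace Groth.Agent.S12738
open Groth.Agent.Lib.helper17.ArtAct

/-- For functors, condition (RS) on a functor F on Artinian local Λ-algebras with residue field k
(bijectivity of F(A₁ ×_A A₂) → F(A₁) ×_{F(A)} F(A₂) for A₂ → A surjective) follows from the same
condition for small extensions A₂ → A. -/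
theorem result {Λ : Type u} {k : Type u} [CommRing Λ] [Field k] [Algebra Λ k]
    [IsNoetherianRing Λ] [Module.Finite Λ k]
    (F : ArtFun.Art Λ k ⥤ Type v)
    (h : ∀ ⦃B A A' A'' : ArtFun.Art Λ k⦄ (p' : B ⟶ A') (p'' : B ⟶ A'') (f' : A' ⟶ A) (f'' : A'' ⟶ A)
        (h : ArtFun.Art.IsFibreProd p' p'' f' f''), ArtFun.Art.IsSmallExt f'' → Function.Bijective (ArtFun.cmp F h)) :
    (∀ ⦃B A A' A'' : ArtFun.Art Λ k⦄ (p' : B ⟶ A') (p'' : B ⟶ A'') (f' : A' ⟶ A) (f'' : A'' ⟶ A)
        (h : ArtFun.Art.IsFibreProd p' p'' f' f''), Function.Surjective f'' → Function.Bijective (ArtFun.cmp F h)) := by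
  intro B A A' A'' p' p'' f' f'' hsq hsurj
  have key := Groth.Agent.S12707.result (Λ := Λ) (k := k)
    (fun A A'' (f'' : A'' ⟶ A) => Function.Surjective f'' ∧
      ∀ ⦃B A' : ArtFun.Art Λ k⦄ (p' : B ⟶ A') (p'' : B ⟶ A'') (f' : A' ⟶ A)
        (h : ArtFun.Art.IsFibreProd p' p'' f' f''), Function.Bijective (ArtFun.cmp F h))
    ?_ ?_ ?_ f'' hsurj
  · exact key.2 p' p'' f' hsq
  · -- isomorphisms
    intro A A'' e he
    have hebij : Function.Bijective e := by
      constructor
      · intro x y hxy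
        have : (e ≫ inv e) x = (e ≫ inv e) y := by
          change (inv e) (e x) = (inv e) (e y)
          rw [hxy]
        rw [IsIso.hom_inv_id] at this
        exact this
      · intro a
        refine ⟨(inv e) a, ?_⟩
        change (inv e ≫ e) a = a
        rw [IsIso.inv_hom_id]
        rfl
    refine ⟨hebij.2, ?_⟩
    intro B A' p' p'' f' h
    have hp'bij : Function.Bijective p' := by
      constructor
      · intro b₁ b₂ hb
        apply h.inj _ _ hb
        apply hebij.1
        rw [← h.w_apply, ← h.w_apply, hb]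
      · intro a'
        obtain ⟨a'', ha''⟩ := hebij.2 (f' a')
        obtain ⟨b, hb, _⟩ := h.surj a' a'' ha''.symm
        exact ⟨b, hb⟩
    haveI : IsIso p' := Groth.Agent.S12707.isIso_of_bijective p' hp'bij
    have hcomp : inv p' ≫ p'' = f' ≫ inv e := by
      rw [IsIso.inv_comp_eq, ← Category.assoc, IsIso.eq_comp_inv]
      exact h.w.symm
    constructor
    · apply cmp_injective_of_forall
      intro z₁ z₂ h1 _
      have h2 := congrArg (F.map (inv p')) h1
      rwa [← map_comp_apply, ← map_comp_apply, IsIso.hom_inv_id, map_id_apply, map_id_apply] at h2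
    · apply cmp_surjective_of_exists
      intro x' x'' hx'
      refine ⟨F.map (inv p') x', ?_, ?_⟩
      · rw [← map_comp_apply, IsIso.inv_hom_id, map_id_apply]
      · rw [← map_comp_apply, hcomp, map_comp_apply, hx', ← map_comp_apply, IsIso.hom_inv_id,
          map_id_apply]
  · intro A A'' f'' hsm
    exact ⟨hsm.1, fun B A' p' p'' f' h' => h p' p'' f' f'' h' hsm⟩
  · intro A B' C p q ⟨hps, hp⟩ ⟨hqs, hq⟩
    refine ⟨hqs.comp hps, ?_⟩
    intro B A' p' p'' f' h
    obtain ⟨D, d₁, d₂, hD⟩ := Groth.Agent.S12710.result f' q hqs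
    obtain ⟨r, hr₁, hr₂⟩ := Groth.Agent.Lib.helper22.IsFibreProd.exists_lift hD p' (p'' ≫ p)
      (by rw [Category.assoc]; exact h.w)
    have hB := Groth.Agent.Lib.helper22.IsFibreProd.of_comp h hD r hr₁ hr₂
    constructor
    · apply cmp_injective_of_forall
      intro z₁ z₂ h1 h2
      have hr : F.map r z₁ = F.map r z₂ := by
        apply eq_of_cmp_injective hD (hq d₁ d₂ f' hD).1
        · rw [← map_comp_apply, ← map_comp_apply, hr₁, h1]
        · rw [← map_comp_apply, ← map_comp_apply, hr₂, map_comp_apply, map_comp_apply, h2]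
      exact eq_of_cmp_injective hB (hp r p'' d₂ hB).1 z₁ z₂ hr h2
    · apply cmp_surjective_of_exists
      intro x' x'' hx'
      obtain ⟨y, hy1, hy2⟩ := exists_of_cmp_surjective hD (hq d₁ d₂ f' hD).2 x' (F.map p x'')
        (by rw [hx', map_comp_apply])
      obtain ⟨z, hz1, hz2⟩ := exists_of_cmp_surjective hB (hp r p'' d₂ hB).2 y x'' hy2
      refine ⟨z, ?_, hz2⟩
      rw [← hr₁, map_comp_apply, hz1, hy1]

end Groth.Agent.S12738
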