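import Groth.Statements.S0249
import Groth.Agent.S11652

set_option autoImplicit false
universe u
open Pi1

namespace Groth.Agent.S0249

theorem step {A : Type u} [CommRing A] [IsNoetherianRing A] (f : A) (Q : Ideal A) [Q.IsPrime]
    (hfQ : f ∈ Q) (hQ : ¬ Q.height ≤ 1) :
    ∃ Q' : Ideal A, Q'.IsPrime ∧ f ∈ Q' ∧ 1 ≤ Q'.height ∧ Q' < Q := by
  have h1 : ¬ Q.height ≤ ((1 : ℕ) : ℕ∞) := by simpa using hQ
  rw [Ideal.height_le_iff] at h1
  push Not at h1
  obtain ⟨Q₁, hQ₁prime, hQ₁Q, hQ₁h⟩ := h1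
  have hQ₁h' : (1 : ℕ∞) ≤ Q₁.height := by simpa using hQ₁h
  by_cases hfQ₁ : f ∈ Q₁
  · exact ⟨Q₁, hQ₁prime, hfQ₁, hQ₁h', hQ₁Q⟩
  · -- a prime P' strictly below Q₁
    have h2 : ¬ Q₁.height ≤ ((0 : ℕ) : ℕ∞) := by
      intro h
      have : (1 : ℕ∞) ≤ 0 := hQ₁h'.trans (by simpa using h)
      norm_num at this
    rw [Ideal.height_le_iff] at h2
    push Not at h2
    obtain ⟨P', hP'prime, hP'Q₁, -⟩ := h2
    have hfP' : f ∉ P' := fun h => hfQ₁ (hP'Q₁.le h)
    have hle : P' ⊔ Ideal.span {f} ≤ Q :=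
      sup_le (hP'Q₁.le.trans hQ₁Q.le) ((Ideal.span_singleton_le_iff_mem Q).mpr hfQ)
    obtain ⟨Q', hQ'min, hQ'Q⟩ := Ideal.exists_minimalPrimes_le hle
    have hQ'prime : Q'.IsPrime := hQ'min.1.1
    have hfQ' : f ∈ Q' := hQ'min.1.2 (Ideal.mem_sup_right (Ideal.mem_span_singleton_self f))
    have hP'Q' : P' < Q' :=
      lt_of_le_of_ne (le_sup_left.trans hQ'min.1.2) (fun h => hfP' (h ▸ hfQ'))
    have hQ'h : 1 ≤ Q'.height := by
      have := Ideal.height_add_one_le_of_lt_of_isPrime hP'Q'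
      exact le_trans (by simp) this
    refine ⟨Q', hQ'prime, hfQ', hQ'h, lt_of_le_of_ne hQ'Q ?_⟩
    intro heq
    have h3 := Ideal.map_height_le_one_of_mem_minimalPrimes hQ'min
    rw [heq] at h3
    -- but in A/P' the chain ⊥ < Q₁/P' < Q/P' has length 2
    have hsurj : Function.Surjective (Ideal.Quotient.mk P') := Ideal.Quotient.mk_surjective
    have hk₁ : RingHom.ker (Ideal.Quotient.mk P') ≤ Q₁ := by rw [Ideal.mk_ker]; exact hP'Q₁.le
    have hk : RingHom.ker (Ideal.Quotient.mk P') ≤ Q := hk₁.trans hQ₁Q.le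
    have hp₁ : (Q₁.map (Ideal.Quotient.mk P')).IsPrime := Ideal.map_isPrime_of_surjective hsurj hk₁
    have hp : (Q.map (Ideal.Quotient.mk P')).IsPrime := Ideal.map_isPrime_of_surjective hsurj hk
    have hc₁ : (Q₁.map (Ideal.Quotient.mk P')).comap (Ideal.Quotient.mk P') = Q₁ := by
      rw [Ideal.comap_map_of_surjective _ hsurj, ← RingHom.ker_eq_comap_bot]
      exact sup_eq_left.mpr hk₁
    have hc : (Q.map (Ideal.Quotient.mk P')).comap (Ideal.Quotient.mk P') = Q := by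
      rw [Ideal.comap_map_of_surjective _ hsurj, ← RingHom.ker_eq_comap_bot]
      exact sup_eq_left.mpr hk
    have hne : Q₁.map (Ideal.Quotient.mk P') ≠ ⊥ := by
      intro h
      have : Q₁ = P' := by
        rw [← hc₁, h, ← RingHom.ker_eq_comap_bot, Ideal.mk_ker]
      exact hP'Q₁.ne this.symm
    have hlt : Q₁.map (Ideal.Quotient.mk P') < Q.map (Ideal.Quotient.mk P') := by
      refine lt_of_le_of_ne (Ideal.map_mono hQ₁Q.le) (fun h => hQ₁Q.ne ?_)
      rw [← hc₁, h, hc]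
    have h4 := Groth.Agent.S11652.two_le_height _ _ hne hlt
    have h5 : (2 : ℕ∞) ≤ 1 := h4.trans h3
    norm_num at h5

theorem main {A : Type u} [CommRing A] [IsNoetherianRing A] (f : A) :
    ∀ (n : ℕ) (Q : Ideal A) [Q.IsPrime], f ∈ Q → 1 ≤ Q.height → Q.height = n →
      ∃ p : Ideal A, p.IsPrime ∧ f ∈ p ∧ p.height = 1 := by
  intro n
  induction n using Nat.strong_induction_on with
  | _ n ih =>
    intro Q _ hfQ h1 hn
    by_cases hle : Q.height ≤ 1
    · exact ⟨Q, inferInstance, hfQ, le_antisymm hle h1⟩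
    · obtain ⟨Q', hQ'prime, hfQ', hQ'1, hQ'Q⟩ := step f Q hfQ hle
      have hlt := Ideal.height_strict_mono_of_isPrime hQ'Q
      rw [hn] at hlt
      obtain ⟨m, hm⟩ : ∃ m : ℕ, Q'.height = m := by
        have : Q'.height ≠ ⊤ := ne_top_of_lt hlt
        exact ⟨Q'.height.toNat, (ENat.natCast_toNat this).symm⟩
      have hmn : m < n := by
        rw [hm] at hlt
        exact_mod_cast hlt
      exact ih m hmn Q' hfQ' hQ'1 hm


open AlgebraicGeometry CategoryTheory CategoryTheory.Limits in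
/-- Let A be a Noetherian local ring of dimension at least 1 and f an element of its maximal ideal. Then
some prime ideal of height exactly 1 contains f. -/
theorem result (A : Type u) [CommRing A] [IsNoetherianRing A] [IsLocalRing A]
    (h : (1 : WithBot ℕ∞) ≤ ringKrullDim A) (f : A) (hf : f ∈ IsLocalRing.maximalIdeal A) :
    ∃ p : Ideal A, p.IsPrime ∧ f ∈ p ∧ p.height = 1 := by
  have hm : (IsLocalRing.maximalIdeal A).height ≠ ⊤ := Ideal.height_ne_top_of_isPrime
  have h1 : (1 : ℕ∞) ≤ (IsLocalRing.maximalIdeal A).height := by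
    have h2 : ((1 : ℕ∞) : WithBot ℕ∞) ≤ ((IsLocalRing.maximalIdeal A).height : WithBot ℕ∞) := by
      rw [IsLocalRing.maximalIdeal_height_eq_ringKrullDim]
      exact_mod_cast h
    exact_mod_cast h2
  exact main f _ (IsLocalRing.maximalIdeal A) hf h1 (ENat.natCast_toNat hm).symm

end Groth.Agent.S0249
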