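import Groth.Statements.S2195
import Groth.Agent.Lib.Helper22.TraceSep2

set_option autoImplicit false
universe u v
open Disc

namespace Groth.Agent.S2195

/-- Ring form of the statement: let B be an A-algebra which is finite free as an A-module with basis b.
Then A -> B is etale if and only if the discriminant of b (the determinant of the matrix of traces
Tr(b_i b_j)) is a unit of A, i.e. the discriminant locus is empty. -/
theorem result {A : Type u} {B : Type v} [CommRing A] [CommRing B]
    [Algebra A B] {ι : Type} [Fintype ι] [DecidableEq ι] (b : Module.Basis ι A B) :
    Algebra.Etale A B ↔ IsUnit (Algebra.discr A b) := by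
  constructor
  · intro h
    exact Groth.Agent.Lib.helper22.TraceSep.isUnit_discr_of_formallyUnramified b
  · intro hu
    exact Groth.Agent.Lib.helper22.TraceSep.etale_of_isUnit_discr b hu

end Groth.Agent.S2195
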