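import Groth.Statements.S0248
-- import your own Groth.Agent.* helpers here
import Groth.Agent.Lib.Helper9.PurityCT

set_option autoImplicit false
universe u
open Pi1
open Groth.Agent.Lib.helper9 Groth.Agent.Lib.helper9.PurityGlue

namespace Groth.Agent.S0248

open AlgebraicGeometry CategoryTheory CategoryTheory.Limits in
/-- Let A be a regular local ring of dimension at least 2 and B a finite A-algebra which is an
integrally closed domain, with A → B injective. If B is étale over A at every prime of B not lying
over the maximal ideal of A, then B is étale over A. This is the case of the published statement in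
which B is a domain and A → B is injective. -/
theorem result (A B : Type u) [CommRing A] [IsRegularLocalRing A]
    (hA : (2 : WithBot ℕ∞) ≤ ringKrullDim A) [CommRing B] [IsDomain B] [IsIntegrallyClosed B]
    [Algebra A B] [Module.Finite A B] (hinj : Function.Injective (algebraMap A B))
    (h : ∀ (q : Ideal B) (_ : q.IsPrime), q.comap (algebraMap A B) ≠ IsLocalRing.maximalIdeal A →
      Algebra.IsEtaleAt A q) : Algebra.Etale A B := by
  classical
  have hdom := Groth.Agent.Lib.helper15.isDomain_of_isRegularLocalRing A
  -- étale over the punctured spectrum, in the "away" form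
  have hPE : ∀ s ∈ IsLocalRing.maximalIdeal A, Algebra.FormallyEtale A (Loc B s) := by
    intro s hs
    rw [← Algebra.basicOpen_subset_etaleLocus_iff]
    intro p hp
    rw [Algebra.mem_etaleLocus_iff]
    apply h p.asIdeal p.2
    intro hcon
    have h1 : s ∈ p.asIdeal.comap (algebraMap A B) := hcon ▸ hs
    exact hp h1
  obtain ⟨E, _, _, hfinE, hetE, β, hSJ⟩ := PurityCT.ct A hA B hPE
  -- a nonzero element of the maximal ideal
  obtain ⟨s, hs, hs0⟩ : ∃ s ∈ IsLocalRing.maximalIdeal A, s ≠ 0 := by
    by_contra hcon
    have hbot : IsLocalRing.maximalIdeal A = ⊥ := by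
      rw [eq_bot_iff]
      intro s hs
      by_contra hs0
      exact hcon ⟨s, hs, hs0⟩
    have hf : IsField A := IsLocalRing.isField_iff_maximalIdeal_eq.mpr hbot
    have := ringKrullDim_eq_zero_of_isField hf
    rw [this] at hA
    exact absurd hA (by decide)
  obtain ⟨hS, hJ⟩ := hSJ s hs
  have hsB : algebraMap A B s ≠ 0 := fun h0 => hs0 (hinj (by rw [h0, map_zero]))
  have hsA : IsSMulRegular A s := (IsRegular.of_ne_zero hs0).left.isSMulRegular
  have hsE : IsSMulRegular E s := PurityS2.isSMulRegular_of_flat hsA
  -- injectivity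
  have hβinj : Function.Injective β := by
    rw [injective_iff_map_eq_zero]
    intro b hb
    obtain ⟨k, hk⟩ := hJ b hb
    rw [Algebra.smul_def, map_pow] at hk
    exact (mul_eq_zero.mp hk).resolve_left (pow_ne_zero _ hsB)
  -- surjectivity
  have hβsurj : Function.Surjective β := by
    intro e
    let θ : Loc B s ≃ₐ[A] Loc E s :=
      AlgEquiv.ofBijective (locMap β s) (PurityS2.locMap_bijective β s hS hJ)
    have hθ : ∀ z, θ z = locMap β s z := fun _ => rfl
    obtain ⟨y, hy⟩ : ∃ y, y = θ.symm (algebraMap E (Loc E s) e) := ⟨_, rfl⟩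
    have hint0 : IsIntegral A e := Algebra.IsIntegral.isIntegral e
    have hint1 : IsIntegral A (algebraMap E (Loc E s) e) :=
      hint0.map (IsScalarTower.toAlgHom A E (Loc E s))
    have hint2 : IsIntegral A y := by
      rw [hy]
      exact hint1.map θ.symm.toAlgHom
    have hint3 : IsIntegral B y := hint2.tower_top
    have hu : IsUnit (Algebra.ofId B (FractionRing B) (algebraMap A B s)) := by
      rw [Algebra.ofId_apply]
      exact (IsUnit.mk0 _ ((map_ne_zero_iff _ (IsFractionRing.injective B (FractionRing B))).2 hsB))
    let ι : Loc B s →ₐ[B] FractionRing B :=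
      awayLift (A := B) (R := B) (algebraMap A B s) (Algebra.ofId B (FractionRing B)) hu
    have hι : ∀ b, ι (algebraMap B (Loc B s) b) = algebraMap B (FractionRing B) b := by
      intro b
      simp [ι]
    have hιinj : Function.Injective ι := by
      rw [injective_iff_map_eq_zero]
      intro z hz
      obtain ⟨r, k, hr⟩ := loc_exists_eq s z
      have h1 : algebraMap B (FractionRing B) r = 0 := by
        rw [← hι, ← hr, map_mul, hz, zero_mul]
      have h2 : r = 0 := IsFractionRing.injective B (FractionRing B) (by rw [h1, map_zero])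
      rw [h2, map_zero] at hr
      exact ((isUnit_loc B s).pow k).mul_left_eq_zero.mp hr
    have hint4 : IsIntegral B (ι y) := hint3.map ι
    obtain ⟨b', hb'⟩ := IsIntegrallyClosed.isIntegral_iff.mp hint4
    have h3 : y = algebraMap B (Loc B s) b' := hιinj (by rw [hι, hb'])
    have h4 : algebraMap E (Loc E s) (e - β b') = 0 := by
      rw [map_sub, ← locMap_algebraMap, ← h3, hy, ← hθ, AlgEquiv.apply_symm_apply, sub_self]
    obtain ⟨m, hm⟩ := loc_algebraMap_eq_zero s _ h4
    have h5 : e - β b' = 0 := (hsE.pow m) (show s ^ m • (e - β b') = s ^ m • 0 by rw [hm, smul_zero])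
    exact ⟨b', (sub_eq_zero.mp h5).symm⟩
  exact Algebra.Etale.of_equiv (AlgEquiv.ofBijective β ⟨hβinj, hβsurj⟩).symm

end Groth.Agent.S0248
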