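import Groth.Agent.LibLoc29
import Mathlib.Algebra.Module.Torsion.Basic
import Mathlib.LinearAlgebra.Dual.Lemmas
import Mathlib.LinearAlgebra.Basis.VectorSpace
import Mathlib.Tactic.LinearCombination
import Mathlib.Tactic.Ring
import Mathlib.RingTheory.Artinian.Ring
import Mathlib.RingTheory.Artinian.Module

/-!
# Lifting through an extension by a vector space over the residue field, from lifts to the
"one-dimensional" quotients (product trick)
-/

set_option autoImplicit false
universe u

namespace Groth.Agent.LibLoc29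

open IsLocalRing

section linalg

lemma exists_retraction (K V : Type*) [Field K] [AddCommGroup V] [Module K V] :
    ∃ r : (Module.Dual K V → K) →ₗ[K] V, ∀ v : V, r (fun φ => φ v) = v := by
  let ev : V →ₗ[K] (Module.Dual K V → K) := LinearMap.pi (fun φ => φ)
  have hker : LinearMap.ker ev = ⊥ := by
    rw [LinearMap.ker_eq_bot']
    intro v hv
    rw [← Module.forall_dual_apply_eq_zero_iff K]
    intro φ
    exact congrFun hv φ
  obtain ⟨r, hr⟩ := ev.exists_leftInverse_of_injective hker
  exact ⟨r, fun v => LinearMap.congr_fun hr v⟩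

end linalg

section core

variable {A B D D₀ : Type u} [CommRing A] [CommRing B] [Algebra A B] [CommRing D] [Algebra A D]
  [CommRing D₀] [Algebra A D₀] (q : D →ₐ[A] D₀)

/-- the induced map `D ⧸ N' → D₀` for `N' ≤ ker q`. -/
noncomputable def qFactor (N' : Ideal D) (h : N' ≤ RingHom.ker q) : D ⧸ N' →ₐ[A] D₀ :=
  Ideal.Quotient.liftₐ N' q (fun _ ha => h ha)

@[simp] lemma qFactor_mk (N' : Ideal D) (h : N' ≤ RingHom.ker q) (d : D) :
    qFactor q N' h (Ideal.Quotient.mk N' d) = q d := rfl

lemma qFactor_surjective (hq : Function.Surjective q) (N' : Ideal D) (h : N' ≤ RingHom.ker q) :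
    Function.Surjective (qFactor q N' h) := fun y => by
  obtain ⟨d, rfl⟩ := hq y
  exact ⟨Ideal.Quotient.mk N' d, rfl⟩

lemma ker_qFactor (N' : Ideal D) (h : N' ≤ RingHom.ker q) :
    RingHom.ker (qFactor q N' h) = (RingHom.ker q).map (Ideal.Quotient.mk N') := by
  ext x
  obtain ⟨d, rfl⟩ := Ideal.Quotient.mk_surjective x
  rw [RingHom.mem_ker, qFactor_mk]
  constructor
  · intro hd
    exact Ideal.mem_map_of_mem _ ((RingHom.mem_ker).2 hd)
  · intro hd
    rw [Ideal.mem_map_iff_of_surjective _ Ideal.Quotient.mk_surjective] at hd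
    obtain ⟨d', hd', hdd'⟩ := hd
    rw [Ideal.Quotient.eq] at hdd'
    have : d = d' - (d' - d) := by ring
    rw [this, map_sub, (RingHom.mem_ker).1 hd', (RingHom.mem_ker).1 (h hdd'), sub_zero]

end core

section coreLift

variable {A B D D₀ : Type u} [CommRing A] [CommRing B] [Algebra A B] [CommRing D] [Algebra A D]
  [IsLocalRing D] [CommRing D₀] [Algebra A D₀] (q : D →ₐ[A] D₀) (g₀ : B →ₐ[A] D₀)

theorem core_lift (hq : Function.Surjective q)
    (hN : ∀ a ∈ maximalIdeal D, ∀ n ∈ RingHom.ker q, a * n = 0)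
    (hle : RingHom.ker q ≤ maximalIdeal D)
    (hL : ∀ (N' : Ideal D) (h : N' ≤ RingHom.ker q),
      (∃ n₀ ∈ RingHom.ker q, RingHom.ker q ≤ N' ⊔ Ideal.span {n₀}) →
        ∃ f : B →ₐ[A] D ⧸ N', (qFactor q N' h).comp f = g₀) :
    ∃ g : B →ₐ[A] D, q.comp g = g₀ := by
  classical
  set N : Ideal D := RingHom.ker q with hNdef
  have tors : Module.IsTorsionBySet D ↥N (maximalIdeal D : Set D) := by
    intro n a
    apply Subtype.ext
    simp only [Submodule.coe_smul, smul_eq_mul, ZeroMemClass.coe_zero]
    exact hN a.1 a.2 n.1 n.2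
  let modK : Module (ResidueField D) ↥N := tors.module
  have tower : IsScalarTower D (ResidueField D) ↥N := tors.isScalarTower
  have hsmul : ∀ (d : D) (n : ↥N), (residue D d) • n = d • n := fun d n => rfl
  obtain ⟨r, hr⟩ := exists_retraction (ResidueField D) ↥N
  -- the ideals `ker λ`
  let Nl : Module.Dual (ResidueField D) ↥N → Ideal D := fun l =>
    Submodule.map N.subtype (LinearMap.ker (l.restrictScalars D))
  have hNl_le : ∀ l, Nl l ≤ N := fun l => Submodule.map_subtype_le _ _
  have hNl_mem : ∀ l (y : D) (hy : y ∈ N), y ∈ Nl l ↔ l ⟨y, hy⟩ = 0 := by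
    intro l y hy
    constructor
    · rintro ⟨z, hz, hzy⟩
      have : z = ⟨y, hy⟩ := Subtype.ext hzy
      rw [← this]
      exact hz
    · intro h
      exact ⟨⟨y, hy⟩, h, rfl⟩
  have hsmall : ∀ l, ∃ n₀ ∈ N, N ≤ Nl l ⊔ Ideal.span {n₀} := by
    intro l
    by_cases hl : ∀ v, l v = 0
    · refine ⟨0, N.zero_mem, fun n hn => ?_⟩
      exact Ideal.mem_sup_left ((hNl_mem l n hn).2 (hl _))
    · push Not at hl
      obtain ⟨v, hv⟩ := hl
      refine ⟨v.1, v.2, fun n hn => ?_⟩
      obtain ⟨d, hd⟩ := IsLocalRing.residue_surjective (l ⟨n, hn⟩ / l v)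
      have hmem : n - d * v.1 ∈ Nl l := by
        have hmemN : n - d * v.1 ∈ N := N.sub_mem hn (N.mul_mem_left d v.2)
        rw [hNl_mem l _ hmemN]
        have : (⟨n - d * v.1, hmemN⟩ : ↥N) = ⟨n, hn⟩ - (residue D d) • v := by
          apply Subtype.ext
          rw [hsmul]
          rfl
        rw [this, map_sub, map_smul, hd, smul_eq_mul, div_mul_cancel₀ _ hv, sub_self]
      have : n = (n - d * v.1) + d * v.1 := by ring
      rw [this]
      exact Ideal.add_mem _ (Ideal.mem_sup_left hmem)
        (Ideal.mem_sup_right (Ideal.mul_mem_left _ d (Ideal.subset_span rfl)))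
  choose f hf using fun l => hL (Nl l) (hNl_le l) (hsmall l)
  choose dd hdd using fun l b => Ideal.Quotient.mk_surjective (f l b)
  choose c hc using fun b => hq (g₀ b)
  have hqdd : ∀ l b, q (dd l b) = g₀ b := by
    intro l b
    have h1 := congrArg (fun φ : B →ₐ[A] D₀ => φ b) (hf l)
    simp only [AlgHom.comp_apply] at h1
    rw [← hdd l b, qFactor_mk] at h1
    exact h1
  -- difference elements
  have hdmem : ∀ l b x, q x = g₀ b → dd l b - x ∈ N := by
    intro l b x hx
    rw [hNdef, RingHom.mem_ker, map_sub, hqdd, hx, sub_self]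
  let θ : ∀ (b : B) (x : D), q x = g₀ b → (Module.Dual (ResidueField D) ↥N → ResidueField D) :=
    fun b x hx l => l ⟨dd l b - x, hdmem l b x hx⟩
  let g : B → D := fun b => c b + (r (θ b (c b) (hc b)) : ↥N).1
  -- independence
  have hindep : ∀ b x (hx : q x = g₀ b), g b = x + (r (θ b x hx) : ↥N).1 := by
    intro b x hx
    have hn : c b - x ∈ N := by
      rw [hNdef, RingHom.mem_ker, map_sub, hc, hx, sub_self]
    have h1 : θ b x hx = θ b (c b) (hc b) + fun l => l ⟨c b - x, hn⟩ := by
      funext l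
      simp only [θ, Pi.add_apply]
      rw [← map_add]
      congr 1
      apply Subtype.ext
      simp only [Submodule.coe_add]
      ring
    rw [h1, map_add, hr]
    simp only [g, Submodule.coe_add]
    ring
  -- elements of Nl are killed
  have hkill : ∀ l (y : D) (hy : y ∈ N), Ideal.Quotient.mk (Nl l) y = 0 → l ⟨y, hy⟩ = 0 := by
    intro l y hy h
    rw [Ideal.Quotient.eq_zero_iff_mem] at h
    exact (hNl_mem l y hy).1 h
  have hadd : ∀ b b', g (b + b') = g b + g b' := by
    intro b b'
    have hx : q (c b + c b') = g₀ (b + b') := by rw [map_add, map_add, hc, hc]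
    rw [hindep (b + b') (c b + c b') hx]
    have h1 : θ (b + b') (c b + c b') hx = θ b (c b) (hc b) + θ b' (c b') (hc b') := by
      funext l
      simp only [θ, Pi.add_apply]
      have hεN : dd l (b + b') - dd l b - dd l b' ∈ N := by
        rw [hNdef, RingHom.mem_ker, map_sub, map_sub, hqdd, hqdd, hqdd, map_add]; ring
      have hε : l ⟨dd l (b + b') - dd l b - dd l b', hεN⟩ = 0 := by
        apply hkill
        rw [map_sub, map_sub, hdd, hdd, hdd, map_add]; ring
      have hdec : (⟨dd l (b + b') - (c b + c b'), hdmem l (b + b') (c b + c b') hx⟩ : ↥N) =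
          ⟨dd l b - c b, hdmem l b (c b) (hc b)⟩ + ⟨dd l b' - c b', hdmem l b' (c b') (hc b')⟩ +
            ⟨dd l (b + b') - dd l b - dd l b', hεN⟩ := by
        apply Subtype.ext
        simp only [Submodule.coe_add]
        ring
      rw [hdec, map_add, map_add, hε, add_zero]
    rw [h1, map_add]
    simp only [g, Submodule.coe_add]
    ring
  have hresidue : ∀ l b x, q x = g₀ b → residue D (dd l b) = residue D x := by
    intro l b x hx
    rw [← sub_eq_zero, ← map_sub, IsLocalRing.residue_eq_zero_iff]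
    exact hle (hdmem l b x hx)
  have hmul : ∀ b b', g (b * b') = g b * g b' := by
    intro b b'
    have hx : q (c b * c b') = g₀ (b * b') := by rw [map_mul, map_mul, hc, hc]
    rw [hindep (b * b') (c b * c b') hx]
    have h1 : θ (b * b') (c b * c b') hx =
        residue D (c b) • θ b' (c b') (hc b') + residue D (c b') • θ b (c b) (hc b) := by
      funext l
      simp only [θ, Pi.add_apply, Pi.smul_apply]
      have hεN : dd l (b * b') - dd l b * dd l b' ∈ N := by
        rw [hNdef, RingHom.mem_ker, map_sub, map_mul, hqdd, hqdd, hqdd, map_mul]; ring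
      have hε : l ⟨dd l (b * b') - dd l b * dd l b', hεN⟩ = 0 := by
        apply hkill
        rw [map_sub, map_mul, hdd, hdd, hdd, map_mul]; ring
      have hdec : (⟨dd l (b * b') - c b * c b', hdmem l (b * b') (c b * c b') hx⟩ : ↥N) =
          residue D (dd l b) • ⟨dd l b' - c b', hdmem l b' (c b') (hc b')⟩ +
            residue D (c b') • ⟨dd l b - c b, hdmem l b (c b) (hc b)⟩ +
            ⟨dd l (b * b') - dd l b * dd l b', hεN⟩ := by
        apply Subtype.ext
        rw [hsmul, hsmul]
        simp only [Submodule.coe_add, Submodule.coe_smul, smul_eq_mul]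
        ring
      rw [hdec, map_add, map_add, hε, add_zero, map_smul, map_smul,
        hresidue l b (c b) (hc b)]
    rw [h1, map_add, map_smul, map_smul, hsmul, hsmul]
    simp only [g, Submodule.coe_add, Submodule.coe_smul, smul_eq_mul]
    have h0 : (r (θ b (c b) (hc b)) : ↥N).1 * (r (θ b' (c b') (hc b')) : ↥N).1 = 0 :=
      hN _ (hle (r (θ b (c b) (hc b)) : ↥N).2) _ (r (θ b' (c b') (hc b')) : ↥N).2
    linear_combination (-1 : D) * h0
  have halg : ∀ a : A, g (algebraMap A B a) = algebraMap A D a := by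
    intro a
    have hx : q (algebraMap A D a) = g₀ (algebraMap A B a) := by
      rw [AlgHom.commutes, AlgHom.commutes]
    rw [hindep _ _ hx]
    have h1 : θ (algebraMap A B a) (algebraMap A D a) hx = 0 := by
      funext l
      simp only [θ, Pi.zero_apply]
      apply hkill
      rw [map_sub, hdd, AlgHom.commutes]
      exact sub_self _
    rw [h1, map_zero]
    simp
  have hone : g 1 = 1 := by
    have := halg 1
    simpa using this
  have hzero : g 0 = 0 := by
    have := halg 0
    simpa using this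
  refine ⟨{ toFun := g, map_one' := hone, map_mul' := hmul, map_zero' := hzero, map_add' := hadd,
            commutes' := halg }, ?_⟩
  ext b
  change q (g b) = g₀ b
  simp only [g, map_add, hc]
  have : q ((r (θ b (c b) (hc b)) : ↥N).1) = 0 := (r (θ b (c b) (hc b)) : ↥N).2
  rw [this, add_zero]

end coreLift

section artin

variable {D D₀ : Type u} [CommRing D] [IsLocalRing D] [CommRing D₀]

/-- the residue field is an Artinian module over the local ring. -/
lemma isArtinian_residueField : IsArtinian D (D ⧸ maximalIdeal D) := by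
  let _ : Field (D ⧸ maximalIdeal D) := Ideal.Quotient.field (maximalIdeal D)
  have : IsArtinian (D ⧸ maximalIdeal D) (D ⧸ maximalIdeal D) := inferInstance
  exact isArtinian_of_surjective_algebraMap (R := D ⧸ maximalIdeal D) (S := D)
    (M := D ⧸ maximalIdeal D) Ideal.Quotient.mk_surjective

theorem isArtinianRing_quot_of_small (q : D →+* D₀) (hq : Function.Surjective q)
    [IsArtinianRing D₀]
    (hN : ∀ a ∈ maximalIdeal D, ∀ n ∈ RingHom.ker q, a * n = 0)
    (N' : Ideal D) (hN' : N' ≤ RingHom.ker q) (n₀ : D) (hn₀ : n₀ ∈ RingHom.ker q)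
    (hsmall : RingHom.ker q ≤ N' ⊔ Ideal.span {n₀}) : IsArtinianRing (D ⧸ N') := by
  have h1 : IsArtinian D (D ⧸ maximalIdeal D) := isArtinian_residueField
  have h2 : IsArtinianRing (D ⧸ RingHom.ker q) :=
    (RingHom.quotientKerEquivOfSurjective hq).symm.surjective.isArtinianRing
  have h3 : IsArtinian D (D ⧸ RingHom.ker q) :=
    isArtinian_of_surjective_algebraMap (R := D ⧸ RingHom.ker q) (S := D)
      (M := D ⧸ RingHom.ker q) Ideal.Quotient.mk_surjective
  let f : (D ⧸ maximalIdeal D) →ₗ[D] D ⧸ N' :=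
    Submodule.liftQ (maximalIdeal D) (LinearMap.toSpanSingleton D (D ⧸ N') (Ideal.Quotient.mk N' n₀))
      (by
        intro a ha
        rw [LinearMap.mem_ker, LinearMap.toSpanSingleton_apply]
        change a • (Ideal.Quotient.mk N' n₀) = 0
        rw [← Ideal.Quotient.mk_eq_mk, ← Submodule.Quotient.mk_smul, smul_eq_mul, hN a ha n₀ hn₀]
        rfl)
  let g : (D ⧸ N') →ₗ[D] D ⧸ RingHom.ker q :=
    Submodule.liftQ N' (Submodule.mkQ (RingHom.ker q)) (by rw [Submodule.ker_mkQ]; exact hN')
  have hfg : LinearMap.range f = LinearMap.ker g := by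
    rw [Submodule.range_liftQ, Submodule.ker_liftQ, Submodule.ker_mkQ,
      LinearMap.range_toSpanSingleton]
    apply le_antisymm
    · rw [Submodule.span_le]
      rintro _ rfl
      exact ⟨n₀, hn₀, rfl⟩
    · rintro _ ⟨n, hn, rfl⟩
      obtain ⟨n', hn', y, hy, rfl⟩ := Submodule.mem_sup.1 (hsmall hn)
      obtain ⟨d, rfl⟩ := Ideal.mem_span_singleton'.1 hy
      rw [Submodule.mem_span_singleton]
      refine ⟨d, ?_⟩
      rw [map_add, Submodule.mkQ_apply, (Submodule.Quotient.mk_eq_zero N').2 hn', zero_add]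
      rfl
  have h4 : IsArtinian D (D ⧸ N') := isArtinian_of_range_eq_ker f g hfg
  exact isArtinian_of_tower D h4

end artin

section general2

variable {S T : Type*} [CommRing S] [CommRing T] [IsLocalRing S] [IsLocalRing T]

lemma maximalIdeal_pow_of_surjective (f : S →+* T) (hf : Function.Surjective f) (n : ℕ)
    (hn : maximalIdeal S ^ n = ⊥) : maximalIdeal T ^ n = ⊥ := by
  have h1 : maximalIdeal T ≤ (maximalIdeal S).map f := by
    intro x hx
    obtain ⟨a, rfl⟩ := hf x
    apply Ideal.mem_map_of_mem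
    rw [IsLocalRing.mem_maximalIdeal] at hx ⊢
    intro hu
    exact hx (hu.map _)
  rw [eq_bot_iff]
  refine (Ideal.pow_right_mono h1 n).trans ?_
  rw [← Ideal.map_pow, hn, Ideal.map_bot]

lemma map_eq_zero_of_mem_pow (ψ : S →+* T) [IsLocalHom ψ] (n : ℕ)
    (hn : maximalIdeal T ^ n = ⊥) : ∀ x ∈ maximalIdeal S ^ n, ψ x = 0 := by
  intro x hx
  have h1 : (maximalIdeal S).map ψ ≤ maximalIdeal T := by
    rw [Ideal.map_le_iff_le_comap]
    intro s hs
    exact map_nonunit ψ s hs
  have h2 : ψ x ∈ ((maximalIdeal S) ^ n).map ψ := Ideal.mem_map_of_mem _ hx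
  rw [Ideal.map_pow] at h2
  have h3 := Ideal.pow_right_mono h1 n h2
  rw [hn, Ideal.mem_bot] at h3
  exact h3

lemma nontrivial_of_isLocalHom {S T : Type*} [CommRing S] [CommRing T] [Nontrivial S]
    (ψ : S →+* T) [IsLocalHom ψ] : Nontrivial T := by
  by_contra h
  rw [not_nontrivial_iff_subsingleton] at h
  have : IsUnit (ψ 0) := isUnit_of_subsingleton _
  exact not_isUnit_zero (isUnit_of_map_unit ψ 0 this)

end general2

section subsingleton

lemma exists_algHom_of_subsingleton {R S E E₀ : Type u} [CommRing R] [CommRing S] [Algebra R S]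
    [CommRing E] [Algebra R E] [CommRing E₀] [Algebra R E₀] [Subsingleton E] (π : E →ₐ[R] E₀)
    (hπ : Function.Surjective π) (ψ : S →ₐ[R] E₀) : ∃ χ : S →ₐ[R] E, π.comp χ = ψ := by
  refine ⟨{ toFun := fun _ => 0, map_one' := Subsingleton.elim _ _, map_mul' := fun _ _ => by simp,
            map_zero' := rfl, map_add' := fun _ _ => by simp,
            commutes' := fun r => Subsingleton.elim _ _ }, ?_⟩
  ext s
  obtain ⟨e, he⟩ := hπ (ψ s)
  rw [← he]
  simp only [AlgHom.comp_apply]
  exact congrArg _ (Subsingleton.elim _ _)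

end subsingleton

section steps

variable (A B : Type u) [CommRing A] [CommRing B] [Algebra A B]

/-- lifting property against Artinian local rings (with an arbitrary surjection with nilpotent
kernel in place of a quotient map). -/
def ArtinLift [IsLocalRing B] : Prop :=
  ∀ (C : Type u) [CommRing C] [IsLocalRing C] [IsArtinianRing C] [Algebra A C]
    [IsLocalHom (algebraMap A C)] (C₀ : Type u) [CommRing C₀] [IsLocalRing C₀] [Algebra A C₀]
    (q : C →ₐ[A] C₀), Function.Surjective q → IsNilpotent (RingHom.ker q) →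
    ∀ (u : B →ₐ[A] C₀) [IsLocalHom u.toRingHom],
      Function.Bijective (IsLocalRing.ResidueField.map u.toRingHom) →
      ∃ f : B →ₐ[A] C, q.comp f = u

variable {A B} [IsLocalRing B]

theorem stepA (H : ArtinLift A B) {D D₀ : Type u} [CommRing D] [Algebra A D] [IsLocalRing D]
    [IsLocalHom (algebraMap A D)] [CommRing D₀] [Algebra A D₀] [IsArtinianRing D₀]
    (q : D →ₐ[A] D₀) (hq : Function.Surjective q)
    (hN : ∀ a ∈ maximalIdeal D, ∀ n ∈ RingHom.ker q, a * n = 0)
    (hle : RingHom.ker q ≤ maximalIdeal D)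
    (g₀ : B →ₐ[A] D₀) (hg₀ : Function.Surjective g₀) : ∃ g : B →ₐ[A] D, q.comp g = g₀ := by
  apply core_lift q g₀ hq hN hle
  rintro N' hN' ⟨n₀, hn₀, hsmall⟩
  have hNtop : N' ≠ ⊤ := by
    intro h
    have h1 : (1 : D) ∈ maximalIdeal D := hle (hN' (h ▸ Submodule.mem_top))
    exact (IsLocalRing.mem_maximalIdeal _).1 h1 isUnit_one
  have : Nontrivial (D ⧸ N') := Ideal.Quotient.nontrivial_iff.2 hNtop
  have : IsLocalRing (D ⧸ N') :=
    IsLocalRing.of_surjective' (Ideal.Quotient.mk N') Ideal.Quotient.mk_surjective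
  have : IsArtinianRing (D ⧸ N') :=
    isArtinianRing_quot_of_small q.toRingHom hq hN N' hN' n₀ hn₀ hsmall
  have : IsLocalHom (algebraMap A (D ⧸ N')) := by
    rw [IsScalarTower.algebraMap_eq A D (D ⧸ N')]
    have : IsLocalHom (algebraMap D (D ⧸ N')) :=
      IsLocalHom.of_surjective _ Ideal.Quotient.mk_surjective
    exact RingHom.isLocalHom_comp _ _
  have : Nontrivial D₀ := by
    by_contra h
    rw [not_nontrivial_iff_subsingleton] at h
    have h1 : (1 : D) ∈ RingHom.ker q := by
      rw [RingHom.mem_ker]; exact Subsingleton.elim _ _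
    exact (IsLocalRing.mem_maximalIdeal _).1 (hle h1) isUnit_one
  have : IsLocalRing D₀ := IsLocalRing.of_surjective' q.toRingHom hq
  have : IsLocalHom g₀.toRingHom := IsLocalHom.of_surjective _ hg₀
  have hb := residueField_map_bijective_of_surjective g₀.toRingHom hg₀
  have hsq : RingHom.ker q ^ 2 = ⊥ := by
    rw [eq_bot_iff, pow_two, Ideal.mul_le]
    intro r hr s hs
    rw [Ideal.mem_bot]
    exact hN r (hle hr) s hs
  have hnil : IsNilpotent (RingHom.ker (qFactor q N' hN')) := by
    refine ⟨2, ?_⟩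
    rw [ker_qFactor, ← Ideal.map_pow, hsq, Ideal.map_bot]
    rfl
  exact H (D ⧸ N') D₀ (qFactor q N' hN') (qFactor_surjective q hq N' hN') hnil g₀ hb

end steps

end Groth.Agent.LibLoc29
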