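import Groth.Prelude.Def_EGA41
import Groth.Agent.LibLoc29b

/-!
# Adic formal smoothness (`EGA41.IsFormallySmoothAdic`): surjection form, reduction to square-zero
-/

set_option autoImplicit false
universe u

namespace Groth.Agent.LibAdic29

open Groth.Agent.LibLoc29

section

variable (A : Type u) [CommRing A] (𝔞 : Ideal A) (B : Type u) [CommRing B] [Algebra A B]
  (𝔟 : Ideal B)

/-- lifting along surjections whose kernel has `n`-th power zero. -/
def LiftSurj (n : ℕ) : Prop :=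
  ∀ (C C₀ : Type u) [CommRing C] [Algebra A C] [CommRing C₀] [Algebra A C₀] (q : C →ₐ[A] C₀),
    Function.Surjective q → RingHom.ker q ^ n = ⊥ →
    (∃ k : ℕ, (𝔞 ^ k).map (algebraMap A C) = ⊥) →
    ∀ u : B →ₐ[A] C₀, (∃ k : ℕ, ∀ x ∈ 𝔟 ^ k, u x = 0) → ∃ v : B →ₐ[A] C, q.comp v = u

variable {A 𝔞 B 𝔟}

lemma LiftSurj.mono {m n : ℕ} (hmn : m ≤ n) (h : LiftSurj A 𝔞 B 𝔟 n) : LiftSurj A 𝔞 B 𝔟 m := by
  intro C C₀ _ _ _ _ q hq hker hC u hu
  refine h C C₀ q hq ?_ hC u hu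
  rw [eq_bot_iff, ← hker]
  exact Ideal.pow_le_pow_right hmn

theorem liftSurj_of_two (h : LiftSurj A 𝔞 B 𝔟 2) : ∀ n, LiftSurj A 𝔞 B 𝔟 n := by
  intro n
  induction n using Nat.strong_induction_on with
  | _ n ih =>
    by_cases hn : n ≤ 2
    · exact h.mono hn
    · push Not at hn
      intro C C₀ _ _ _ _ q hq hker hC u hu
      set K := RingHom.ker q with hK
      have hK2 : K ^ 2 ≤ K := Ideal.pow_le_self (by norm_num)
      -- first lift to `C ⧸ K ^ 2`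
      have hq₁ := qFactor_surjective q hq (K ^ 2) hK2
      have hker₁ : RingHom.ker (qFactor q (K ^ 2) hK2) ^ 2 = ⊥ := by
        rw [ker_qFactor, ← Ideal.map_pow, ← hK, Ideal.map_quotient_self]
      have hC₁ : ∃ k : ℕ, (𝔞 ^ k).map (algebraMap A (C ⧸ K ^ 2)) = ⊥ := by
        obtain ⟨k, hk⟩ := hC
        refine ⟨k, ?_⟩
        rw [IsScalarTower.algebraMap_eq A C (C ⧸ K ^ 2), ← Ideal.map_map, hk, Ideal.map_bot]
      obtain ⟨u₁, hu₁⟩ := h (C ⧸ K ^ 2) C₀ (qFactor q (K ^ 2) hK2) hq₁ hker₁ hC₁ u hu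
      -- continuity of `u₁`
      have hu₁c : ∃ k : ℕ, ∀ x ∈ 𝔟 ^ k, u₁ x = 0 := by
        obtain ⟨k, hk⟩ := hu
        refine ⟨k * 2, fun x hx => ?_⟩
        have h1 : (𝔟 ^ k).map u₁.toRingHom ≤ RingHom.ker (qFactor q (K ^ 2) hK2) := by
          rw [Ideal.map_le_iff_le_comap]
          intro y hy
          rw [Ideal.mem_comap, RingHom.mem_ker]
          have := congrArg (fun f : B →ₐ[A] C₀ => f y) hu₁
          simp only [AlgHom.comp_apply] at this
          change qFactor q (K ^ 2) hK2 (u₁ y) = 0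
          rw [this]
          exact hk y hy
        have h2 : u₁.toRingHom x ∈ ((𝔟 ^ k) ^ 2).map u₁.toRingHom := by
          apply Ideal.mem_map_of_mem
          rw [← pow_mul]
          exact hx
        rw [Ideal.map_pow] at h2
        have h3 := Ideal.pow_right_mono h1 2 h2
        rw [hker₁, Ideal.mem_bot] at h3
        exact h3
      -- then lift along `C → C ⧸ K ^ 2`
      have hker₂ : RingHom.ker (Ideal.Quotient.mkₐ A (K ^ 2)) ^ ((n + 1) / 2) = ⊥ := by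
        have hk : RingHom.ker (Ideal.Quotient.mkₐ A (K ^ 2)) = K ^ 2 :=
          Ideal.Quotient.mkₐ_ker A (K ^ 2)
        rw [hk, ← pow_mul, eq_bot_iff, ← hker]
        exact Ideal.pow_le_pow_right (by omega)
      obtain ⟨v, hv⟩ := ih ((n + 1) / 2) (by omega) C (C ⧸ K ^ 2) (Ideal.Quotient.mkₐ A (K ^ 2))
        (Ideal.Quotient.mkₐ_surjective A (K ^ 2)) hker₂ hC u₁ hu₁c
      refine ⟨v, ?_⟩
      rw [← hu₁, ← hv]
      ext b
      rfl

theorem isFormallySmoothAdic_of_liftSurj (h : LiftSurj A 𝔞 B 𝔟 2) :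
    EGA41.IsFormallySmoothAdic A 𝔞 B 𝔟 := by
  intro C _ _ J hJ hC u hu
  obtain ⟨n, hn⟩ := hJ
  have hk : RingHom.ker (Ideal.Quotient.mkₐ A J) = J := Ideal.Quotient.mkₐ_ker A J
  exact liftSurj_of_two h n C (C ⧸ J) (Ideal.Quotient.mkₐ A J) (Ideal.Quotient.mkₐ_surjective A J)
    (by rw [hk]; exact hn) hC u hu

theorem liftSurj_of_isFormallySmoothAdic (h : EGA41.IsFormallySmoothAdic A 𝔞 B 𝔟) (n : ℕ) :
    LiftSurj A 𝔞 B 𝔟 n := by
  intro C C₀ _ _ _ _ q hq hker hC u hu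
  have hu' : ∃ k : ℕ, ∀ x ∈ 𝔟 ^ k, liftHom q hq u x = 0 := by
    obtain ⟨k, hk⟩ := hu
    refine ⟨k, fun x hx => ?_⟩
    simp [liftHom, hk x hx]
  obtain ⟨v, hv⟩ := h C (RingHom.ker q) ⟨n, hker⟩ hC (liftHom q hq u) hu'
  exact ⟨v, comp_eq_of_liftHom q hq u v hv⟩

end

end Groth.Agent.LibAdic29
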