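import Groth.Agent.LibLoc29c

/-!
# Generic form of the lifting steps, parametrised by the conclusion of `stepA`
-/

set_option autoImplicit false
universe u

namespace Groth.Agent.LibLoc29

open IsLocalRing

/-- the conclusion of `stepA`: lifting a surjection onto an Artinian ring through a surjection from
a local ring whose kernel is killed by the maximal ideal. -/
def StepAProp (A B : Type u) [CommRing A] [CommRing B] [Algebra A B] : Prop :=
  ∀ {D D₀ : Type u} [CommRing D] [Algebra A D] [IsLocalRing D] [CommRing D₀] [Algebra A D₀]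
    [IsArtinianRing D₀] (q : D →ₐ[A] D₀), Function.Surjective q →
    (∀ a ∈ maximalIdeal D, ∀ n ∈ RingHom.ker q, a * n = 0) → RingHom.ker q ≤ maximalIdeal D →
    ∀ g₀ : B →ₐ[A] D₀, Function.Surjective g₀ → ∃ g : B →ₐ[A] D, q.comp g = g₀

section stepB'

variable {A B : Type u} [CommRing A] [CommRing B] [Algebra A B] [IsLocalRing B]
  [IsNoetherianRing B]

theorem stepB' (HA : StepAProp A B) {D D₀ : Type u} [CommRing D] [Algebra A D] [IsLocalRing D]
    [CommRing D₀] [Algebra A D₀]
    (M : ℕ) (hM : maximalIdeal D ^ M = ⊥)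
    (q : D →ₐ[A] D₀) (hq : Function.Surjective q)
    (hN : ∀ a ∈ maximalIdeal D, ∀ n ∈ RingHom.ker q, a * n = 0)
    (g₀ : B →ₐ[A] D₀) [IsLocalHom g₀.toRingHom] : ∃ g : B →ₐ[A] D, q.comp g = g₀ := by
  have hD₀ : Nontrivial D₀ := nontrivial_of_isLocalHom g₀.toRingHom
  have hle : RingHom.ker q ≤ maximalIdeal D :=
    IsLocalRing.le_maximalIdeal (RingHom.ker_ne_top _)
  have hm : RingHom.ker q ^ M = ⊥ := by
    rw [eq_bot_iff, ← hM]
    exact Ideal.pow_right_mono hle M
  have : IsLocalRing D₀ := IsLocalRing.of_surjective' q.toRingHom hq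
  have hM₀ : maximalIdeal D₀ ^ M = ⊥ := maximalIdeal_pow_of_surjective q.toRingHom hq M hM
  have hk : ∀ x ∈ maximalIdeal B ^ M, g₀ x = 0 := map_eq_zero_of_mem_pow g₀.toRingHom M hM₀
  -- the subring
  have instD' : IsLocalRing (pre q g₀) := isLocalRing_pre q g₀ hq M hm
  have hsurj := preMap_surjective q g₀ hq
  have : Nontrivial g₀.range := inferInstance
  have instR : IsLocalRing g₀.range :=
    IsLocalRing.of_surjective' g₀.rangeRestrict.toRingHom g₀.rangeRestrict_surjective
  have instN : IsNoetherianRing g₀.range :=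
    isNoetherianRing_of_surjective B g₀.range g₀.rangeRestrict.toRingHom
      g₀.rangeRestrict_surjective
  have hk' : ∀ x ∈ maximalIdeal B ^ M, g₀.rangeRestrict.toRingHom x = 0 := fun x hx =>
    Subtype.ext (hk x hx)
  have instL : IsLocalHom g₀.rangeRestrict.toRingHom :=
    isLocalHom_of_pow_eq_zero g₀.rangeRestrict.toRingHom M hk'
  have hmaxR : maximalIdeal g₀.range ^ M = ⊥ := by
    have h1 : maximalIdeal g₀.range ≤ (maximalIdeal B).map g₀.rangeRestrict.toRingHom := by
      intro x hx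
      obtain ⟨b, rfl⟩ := g₀.rangeRestrict_surjective x
      apply Ideal.mem_map_of_mem
      rw [IsLocalRing.mem_maximalIdeal] at hx ⊢
      intro hu
      exact hx (hu.map _)
    rw [eq_bot_iff]
    refine (Ideal.pow_right_mono h1 M).trans ?_
    rw [← Ideal.map_pow, Ideal.map_le_iff_le_comap]
    intro x hx
    rw [Ideal.mem_comap, Ideal.mem_bot]
    exact hk' x hx
  have instArt : IsArtinianRing g₀.range :=
    (isArtinianRing_iff_isNilpotent_maximalIdeal _).2 ⟨M, hmaxR⟩
  have hN' : ∀ a ∈ maximalIdeal (pre q g₀), ∀ n ∈ RingHom.ker (preMap q g₀), a * n = 0 := by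
    intro a ha n hn
    apply Subtype.ext
    have h1 := val_mem_maximalIdeal_of_pre q g₀ hq M hm a ha
    have h2 : n.1 ∈ RingHom.ker q := (RingHom.mem_ker).2 ((mem_ker_preMap q g₀ n).1 hn)
    exact hN a.1 h1 n.1 h2
  have hle' : RingHom.ker (preMap q g₀) ≤ maximalIdeal (pre q g₀) :=
    IsLocalRing.le_maximalIdeal (RingHom.ker_ne_top _)
  obtain ⟨g', hg'⟩ := HA (preMap q g₀) hsurj hN' hle' g₀.rangeRestrict
    g₀.rangeRestrict_surjective
  exact ⟨(pre q g₀).val.comp g', lift_of_lift_pre q g₀ g' hg'⟩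

end stepB'

section stepC'

variable {A B : Type u} [CommRing A] [CommRing B] [Algebra A B] [IsLocalRing B]
  [IsNoetherianRing B]

theorem stepC' (HA : StepAProp A B) (n : ℕ) :
    ∀ (D : Type u) [CommRing D] [Algebra A D] [IsLocalRing D]
      (D₀ : Type u) [CommRing D₀] [Algebra A D₀] (M : ℕ), maximalIdeal D ^ M = ⊥ →
      ∀ (q : D →ₐ[A] D₀), Function.Surjective q → maximalIdeal D ^ n * RingHom.ker q = ⊥ →
      ∀ (g₀ : B →ₐ[A] D₀) [IsLocalHom g₀.toRingHom], ∃ g : B →ₐ[A] D, q.comp g = g₀ := by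
  induction n with
  | zero =>
    intro D _ _ _ D₀ _ _ M _ q hq hn g₀ _
    rw [pow_zero, Ideal.one_eq_top, Ideal.top_mul] at hn
    have hinj : Function.Injective q := (RingHom.injective_iff_ker_eq_bot q.toRingHom).2 hn
    let e : D ≃ₐ[A] D₀ := AlgEquiv.ofBijective q ⟨hinj, hq⟩
    refine ⟨(e.symm : D₀ →ₐ[A] D).comp g₀, ?_⟩
    ext b
    change q (e.symm (g₀ b)) = g₀ b
    exact e.apply_symm_apply (g₀ b)
  | succ n ih =>
    intro D _ _ _ D₀ _ _ M hM q hq hn g₀ _
    have hD₀ : Nontrivial D₀ := nontrivial_of_isLocalHom g₀.toRingHom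
    have hle : RingHom.ker q ≤ maximalIdeal D :=
      IsLocalRing.le_maximalIdeal (RingHom.ker_ne_top _)
    set N₁ : Ideal D := maximalIdeal D * RingHom.ker q with hN₁
    have hN₁le : N₁ ≤ RingHom.ker q := by
      rw [hN₁, Ideal.mul_le]
      intro r _ s hs
      exact Ideal.mul_mem_left _ r hs
    have hNtop : N₁ ≠ ⊤ := by
      intro h
      have h1 : (1 : D) ∈ maximalIdeal D := hle (hN₁le (h ▸ Submodule.mem_top))
      exact (IsLocalRing.mem_maximalIdeal _).1 h1 isUnit_one
    have : Nontrivial (D ⧸ N₁) := Ideal.Quotient.nontrivial_iff.2 hNtop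
    have : IsLocalRing (D ⧸ N₁) :=
      IsLocalRing.of_surjective' (Ideal.Quotient.mk N₁) Ideal.Quotient.mk_surjective
    have hM₁ : maximalIdeal (D ⧸ N₁) ^ M = ⊥ :=
      maximalIdeal_pow_of_surjective (Ideal.Quotient.mk N₁) Ideal.Quotient.mk_surjective M hM
    have hNq : ∀ a ∈ maximalIdeal (D ⧸ N₁), ∀ x ∈ RingHom.ker (qFactor q N₁ hN₁le),
        a * x = 0 := by
      intro a ha x hx
      obtain ⟨a', rfl⟩ := Ideal.Quotient.mk_surjective a
      rw [ker_qFactor, Ideal.mem_map_iff_of_surjective _ Ideal.Quotient.mk_surjective] at hx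
      obtain ⟨x', hx', rfl⟩ := hx
      have ha' : a' ∈ maximalIdeal D := by
        rw [IsLocalRing.mem_maximalIdeal] at ha ⊢
        intro hu
        exact ha (hu.map _)
      rw [← map_mul, Ideal.Quotient.eq_zero_iff_mem]
      exact Ideal.mul_mem_mul ha' hx'
    obtain ⟨g₁, hg₁⟩ := stepB' HA M hM₁ (qFactor q N₁ hN₁le) (qFactor_surjective q hq N₁ hN₁le)
      hNq g₀
    have : IsLocalHom g₁.toRingHom := by
      have h1 : IsLocalHom ((qFactor q N₁ hN₁le).toRingHom.comp g₁.toRingHom) := by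
        have : (qFactor q N₁ hN₁le).toRingHom.comp g₁.toRingHom = g₀.toRingHom := by
          rw [← hg₁]; rfl
        rw [this]
        infer_instance
      exact isLocalHom_of_comp g₁.toRingHom (qFactor q N₁ hN₁le).toRingHom
    have hn' : maximalIdeal D ^ n * RingHom.ker (Ideal.Quotient.mkₐ A N₁) = ⊥ := by
      have hk : RingHom.ker (Ideal.Quotient.mkₐ A N₁) = N₁ := Ideal.Quotient.mkₐ_ker A N₁
      rw [hk, hN₁, ← mul_assoc, ← pow_succ]
      exact hn
    obtain ⟨g, hg⟩ := ih D (D ⧸ N₁) M hM (Ideal.Quotient.mkₐ A N₁)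
      (Ideal.Quotient.mkₐ_surjective A N₁) hn' g₁
    refine ⟨g, ?_⟩
    rw [← hg₁, ← hg]
    ext b
    rfl

/-- main consequence: lifting against arbitrary nilpotent thickenings for maps killing a power of
the maximal ideal. -/
theorem exists_lift_of_stepA (HA : StepAProp A B) {C C₀ : Type u} [CommRing C] [Algebra A C]
    [CommRing C₀] [Algebra A C₀] (π : C →ₐ[A] C₀) (hπ : Function.Surjective π) (m : ℕ)
    (hm : RingHom.ker π ^ m = ⊥) (u : B →ₐ[A] C₀) (k : ℕ)
    (hk : ∀ x ∈ maximalIdeal B ^ k, u x = 0) : ∃ v : B →ₐ[A] C, π.comp v = u := by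
  rcases subsingleton_or_nontrivial C with hC | hC
  · exact exists_algHom_of_subsingleton π hπ u
  · have hC₀ : Nontrivial C₀ := by
      by_contra h
      rw [not_nontrivial_iff_subsingleton] at h
      have h1 : RingHom.ker π = ⊤ := by
        rw [Ideal.eq_top_iff_one, RingHom.mem_ker]; exact Subsingleton.elim _ _
      rw [h1, Ideal.top_pow] at hm
      exact top_ne_bot hm
    have inst1 : IsLocalRing (pre π u) := isLocalRing_pre π u hπ m hm
    have : Nontrivial u.range := inferInstance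
    have hk' : ∀ x ∈ maximalIdeal B ^ k, u.rangeRestrict.toRingHom x = 0 := fun x hx =>
      Subtype.ext (hk x hx)
    have inst5 : IsLocalHom u.rangeRestrict.toRingHom :=
      isLocalHom_of_pow_eq_zero u.rangeRestrict.toRingHom k hk'
    have hmax := maximalIdeal_pre_pow π u hπ m hm k hk
    have hn : maximalIdeal (pre π u) ^ (k * m) * RingHom.ker (preMap π u) = ⊥ := by
      rw [hmax, Ideal.bot_mul]
    obtain ⟨g, hg⟩ := stepC' HA (k * m) (pre π u) u.range (k * m) hmax (preMap π u)
      (preMap_surjective π u hπ) hn u.rangeRestrict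
    exact ⟨(pre π u).val.comp g, lift_of_lift_pre π u g hg⟩

end stepC'

section cyc

variable (A B : Type u) [CommRing A] [CommRing B] [Algebra A B]

/-- lifting surjections onto quotients of Artinian local rings by a principal ideal killed by the
maximal ideal. -/
def CycLift : Prop :=
  ∀ (D D₀ : Type u) [CommRing D] [Algebra A D] [IsLocalRing D] [IsArtinianRing D] [CommRing D₀]
    [Algebra A D₀] (q : D →ₐ[A] D₀), Function.Surjective q → RingHom.ker q ≤ maximalIdeal D →
    (∀ a ∈ maximalIdeal D, ∀ n ∈ RingHom.ker q, a * n = 0) →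
    (∃ t : D, RingHom.ker q = Ideal.span {t}) →
    ∀ g₀ : B →ₐ[A] D₀, Function.Surjective g₀ → ∃ g : B →ₐ[A] D, q.comp g = g₀

variable {A B}

theorem stepAProp_of_cycLift (H : CycLift A B) : StepAProp A B := by
  intro D D₀ _ _ _ _ _ _ q hq hN hle g₀ hg₀
  apply core_lift q g₀ hq hN hle
  rintro N' hN' ⟨n₀, hn₀, hsmall⟩
  have hNtop : N' ≠ ⊤ := by
    intro h
    have h1 : (1 : D) ∈ maximalIdeal D := hle (hN' (h ▸ Submodule.mem_top))
    exact (IsLocalRing.mem_maximalIdeal _).1 h1 isUnit_one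
  have : Nontrivial (D ⧸ N') := Ideal.Quotient.nontrivial_iff.2 hNtop
  have : IsLocalRing (D ⧸ N') :=
    IsLocalRing.of_surjective' (Ideal.Quotient.mk N') Ideal.Quotient.mk_surjective
  have : IsArtinianRing (D ⧸ N') :=
    isArtinianRing_quot_of_small q.toRingHom hq hN N' hN' n₀ hn₀ hsmall
  have : Nontrivial D₀ := by
    by_contra h
    rw [not_nontrivial_iff_subsingleton] at h
    have h1 : (1 : D) ∈ RingHom.ker q := by
      rw [RingHom.mem_ker]; exact Subsingleton.elim _ _
    exact (IsLocalRing.mem_maximalIdeal _).1 (hle h1) isUnit_one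
  have hle' : RingHom.ker (qFactor q N' hN') ≤ maximalIdeal (D ⧸ N') :=
    IsLocalRing.le_maximalIdeal (RingHom.ker_ne_top _)
  have hN'' : ∀ a ∈ maximalIdeal (D ⧸ N'), ∀ x ∈ RingHom.ker (qFactor q N' hN'), a * x = 0 := by
    intro a ha x hx
    obtain ⟨a', rfl⟩ := Ideal.Quotient.mk_surjective a
    rw [ker_qFactor, Ideal.mem_map_iff_of_surjective _ Ideal.Quotient.mk_surjective] at hx
    obtain ⟨x', hx', rfl⟩ := hx
    have ha' : a' ∈ maximalIdeal D := by
      rw [IsLocalRing.mem_maximalIdeal] at ha ⊢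
      intro hu
      exact ha (hu.map _)
    rw [← map_mul, hN a' ha' x' hx', map_zero]
  have hker : RingHom.ker (qFactor q N' hN') = Ideal.span {Ideal.Quotient.mk N' n₀} := by
    rw [ker_qFactor]
    apply le_antisymm
    · rw [Ideal.map_le_iff_le_comap]
      intro x hx
      rw [Ideal.mem_comap]
      obtain ⟨n', hn', y, hy, rfl⟩ := Submodule.mem_sup.1 (hsmall hx)
      obtain ⟨d, rfl⟩ := Ideal.mem_span_singleton'.1 hy
      rw [map_add, Ideal.Quotient.eq_zero_iff_mem.2 hn', zero_add, map_mul]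
      exact Ideal.mul_mem_left _ _ (Ideal.subset_span rfl)
    · rw [Ideal.span_le]
      rintro _ rfl
      exact Ideal.mem_map_of_mem _ hn₀
  exact H (D ⧸ N') D₀ (qFactor q N' hN') (qFactor_surjective q hq N' hN') hle' hN''
    ⟨_, hker⟩ g₀ hg₀

end cyc

end Groth.Agent.LibLoc29
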