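import Groth.Statements.S12721
import Groth.Agent.LibLoc29d
import Groth.Agent.LibAdic29
-- import your own Groth.Agent.* helpers here

set_option autoImplicit false
universe u v
open CategoryTheory
open ArtFun

namespace Groth.Agent.S12721
open IsLocalRing Groth.Agent.LibLoc29 Groth.Agent.LibAdic29

lemma liftSurj_two_of_adic {A B : Type u} [CommRing A] [CommRing B] [Algebra A B] (𝔟 : Ideal B)
    (h : CAlgX.IsAdicFormallySmooth A B 𝔟) : LiftSurj A ⊥ B 𝔟 2 := by
  intro C C₀ _ _ _ _ q hq hker hC u hu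
  have hu' : ∃ k : ℕ, ∀ x ∈ 𝔟 ^ k, liftHom q hq u x = 0 := by
    obtain ⟨k, hk⟩ := hu
    refine ⟨k, fun x hx => ?_⟩
    simp [liftHom, hk x hx]
  obtain ⟨v, hv⟩ := h C (RingHom.ker q) hker (liftHom q hq u) hu'
  exact ⟨v, comp_eq_of_liftHom q hq u v hv⟩


/-- (1) ⇔ (2): for R a complete local Noetherian Λ-algebra with residue field k, the functor h_R on
Artinian local Λ-algebras with residue field k is smooth (surjective along every surjection) if and
only if Λ → R is formally smooth for the m_R-adic topology. -/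
theorem result {Λ : Type u} {k : Type u} [CommRing Λ] [Field k] [Algebra Λ k]
    [IsNoetherianRing Λ] [Module.Finite Λ k]
    (R : ArtFun.CRing Λ k) :
    ArtFun.IsSmoothFunctor (ArtFun.hR R.carrier R.res) ↔
      CAlgX.IsAdicFormallySmooth Λ R.carrier (IsLocalRing.maximalIdeal R.carrier) := by
  have hmaxR : ∀ x : R.carrier, x ∈ maximalIdeal R.carrier ↔ R.res x = 0 := by
    intro x
    have hmax : (RingHom.ker (R.res : R.carrier →+* k)).IsMaximal :=
      RingHom.ker_isMaximal_of_surjective (R.res : R.carrier →+* k) R.res_surjective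
    rw [← IsLocalRing.eq_maximalIdeal hmax, RingHom.mem_ker]
    rfl
  constructor
  · intro h E _ _ J hJ ψ hψ
    have HC : CycLift Λ R.carrier := by
      intro D D₀ _ _ _ _ _ _ q hq hle hN ht g₀ hg₀
      have : Nontrivial D₀ := by
        by_contra h
        rw [not_nontrivial_iff_subsingleton] at h
        have h1 : (1 : D) ∈ RingHom.ker q := by
          rw [RingHom.mem_ker]; exact Subsingleton.elim _ _
        exact (IsLocalRing.mem_maximalIdeal _).1 (hle h1) isUnit_one
      have : IsLocalRing D₀ := IsLocalRing.of_surjective' q.toRingHom hq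
      have : IsArtinianRing D₀ := Function.Surjective.isArtinianRing (f := q.toRingHom) hq
      have hker : RingHom.ker g₀.toRingHom ≤ RingHom.ker R.res.toRingHom := by
        intro x hx
        rw [RingHom.mem_ker] at hx ⊢
        change R.res x = 0
        rw [← hmaxR, IsLocalRing.mem_maximalIdeal]
        intro hu
        have := hu.map g₀.toRingHom
        rw [hx] at this
        exact not_isUnit_zero this
      obtain ⟨ρ₀, hρ₀def⟩ : ∃ ρ₀, ρ₀ = AlgHom.liftOfSurjective g₀ hg₀ R.res hker := ⟨_, rfl⟩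
      have hρ₀ : ρ₀.comp g₀ = R.res := by
        rw [hρ₀def]; exact AlgHom.liftOfSurjective_comp _ _ _ _
      have hρ₀s : Function.Surjective ρ₀ := by
        rw [hρ₀def]; exact AlgHom.liftOfSurjective_surjective _ _ _ _ R.res_surjective
      let D₀' : Art Λ k := Art.of D₀ ρ₀ hρ₀s
      let D' : Art Λ k := Art.of D (ρ₀.comp q) (hρ₀s.comp hq)
      let μ : D' ⟶ D₀' := Art.homMk q rfl
      obtain ⟨g, hg⟩ := h μ hq ⟨g₀, hρ₀⟩
      exact ⟨g.1, congrArg Subtype.val hg⟩
    obtain ⟨n, hn⟩ := hψ
    have hker : RingHom.ker (Ideal.Quotient.mkₐ Λ J) = J := Ideal.Quotient.mkₐ_ker Λ J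
    have hm' : RingHom.ker (Ideal.Quotient.mkₐ Λ J) ^ 2 = ⊥ := by
      rw [hker]; exact hJ
    exact exists_lift_of_stepA (stepAProp_of_cycLift HC) (Ideal.Quotient.mkₐ Λ J)
      (Ideal.Quotient.mkₐ_surjective Λ J) 2 hm' ψ n hn
  · intro h B A μ hμ φ
    have h2 := liftSurj_two_of_adic _ h
    obtain ⟨n, hn⟩ := (isArtinianRing_iff_isNilpotent_maximalIdeal B).1 inferInstance
    have hn : maximalIdeal B ^ n = ⊥ := hn
    have hle : RingHom.ker μ.toAlgHom ≤ maximalIdeal B := by
      intro x hx
      rw [Art.mem_maximalIdeal_iff, ← Art.res_app μ]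
      rw [RingHom.mem_ker] at hx
      rw [hx, map_zero]
    have hkn : RingHom.ker μ.toAlgHom ^ n = ⊥ := by
      rw [eq_bot_iff, ← hn]
      exact Ideal.pow_right_mono hle n
    obtain ⟨m, hm⟩ := (isArtinianRing_iff_isNilpotent_maximalIdeal A).1 inferInstance
    have hm : maximalIdeal A ^ m = ⊥ := hm
    have hφ : ∀ x ∈ maximalIdeal R.carrier ^ m, φ.1 x = 0 := by
      intro x hx
      have h1 : (maximalIdeal R.carrier).map φ.1.toRingHom ≤ maximalIdeal A := by
        rw [Ideal.map_le_iff_le_comap]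
        intro y hy
        rw [Ideal.mem_comap, Art.mem_maximalIdeal_iff]
        have := congrArg (fun f : R.carrier →ₐ[Λ] k => f y) φ.2
        simp only [AlgHom.comp_apply] at this
        change A.res (φ.1 y) = 0
        rw [this, ← hmaxR]
        exact hy
      have h2 : φ.1.toRingHom x ∈ (maximalIdeal R.carrier ^ m).map φ.1.toRingHom :=
        Ideal.mem_map_of_mem _ hx
      rw [Ideal.map_pow] at h2
      have h3 := Ideal.pow_right_mono h1 m h2
      rw [hm, Ideal.mem_bot] at h3
      exact h3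
    obtain ⟨v, hv⟩ := liftSurj_of_two h2 n B A μ.toAlgHom hμ hkn ⟨1, by simp⟩ φ.1 ⟨m, hφ⟩
    have hv2 : B.res.comp v = R.res := by
      rw [← φ.2, ← hv, ← AlgHom.comp_assoc, μ.res_comp]
    refine ⟨⟨v, hv2⟩, ?_⟩
    exact Subtype.ext hv

end Groth.Agent.S12721
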