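import Groth.Statements.S12737
import Groth.Agent.S12721
import Groth.Agent.S0543
-- import your own Groth.Agent.* helpers here

set_option autoImplicit false
universe u v
open CategoryTheory
open ArtFun

namespace Groth.Agent.S12737
open IsLocalRing

/-- the completion of a formally smooth algebra along a finitely generated ideal is formally smooth
for the adic topology of the extended ideal. -/
theorem adicSmooth_completion {Λ P : Type u} [CommRing Λ] [CommRing P] [Algebra Λ P]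
    [Algebra.FormallySmooth Λ P] (𝔫 : Ideal P) (fg : 𝔫.FG) :
    CAlgX.IsAdicFormallySmooth Λ (AdicCompletion 𝔫 P)
      (𝔫.map (algebraMap P (AdicCompletion 𝔫 P))) := by
  intro A _ _ J hJ ψ hψ
  obtain ⟨m, hm⟩ := hψ
  let ι : P →ₐ[Λ] AdicCompletion 𝔫 P := IsScalarTower.toAlgHom Λ P (AdicCompletion 𝔫 P)
  obtain ⟨χ₀, hχ₀⟩ : ∃ χ₀ : P →ₐ[Λ] A, (Ideal.Quotient.mkₐ Λ J).comp χ₀ = ψ.comp ι :=
    ⟨Algebra.FormallySmooth.lift J ⟨2, hJ⟩ (ψ.comp ι),
      Algebra.FormallySmooth.comp_lift J ⟨2, hJ⟩ (ψ.comp ι)⟩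
  have hχ₀' : ∀ p : P, Ideal.Quotient.mk J (χ₀ p) = ψ (ι p) := fun p =>
    congrArg (fun f : P →ₐ[Λ] A ⧸ J => f p) hχ₀
  -- χ₀ maps 𝔫 ^ m into J
  have h1 : (𝔫 ^ m).map χ₀.toRingHom ≤ J := by
    rw [Ideal.map_le_iff_le_comap]
    intro p hp
    rw [Ideal.mem_comap, ← Ideal.Quotient.eq_zero_iff_mem]
    change Ideal.Quotient.mk J (χ₀ p) = 0
    rw [hχ₀']
    apply hm
    rw [← Ideal.map_pow]
    exact Ideal.mem_map_of_mem _ hp
  have h2 : ∀ p ∈ 𝔫 ^ (m * 2), χ₀ p = 0 := by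
    intro p hp
    have h3 : χ₀.toRingHom p ∈ ((𝔫 ^ m) ^ 2).map χ₀.toRingHom := by
      apply Ideal.mem_map_of_mem
      rw [← pow_mul]; exact hp
    rw [Ideal.map_pow] at h3
    have h4 := Ideal.pow_right_mono h1 2 h3
    rw [hJ, Ideal.mem_bot] at h4
    exact h4
  let χ₁ : P ⧸ 𝔫 ^ (m * 2) →ₐ[Λ] A := Ideal.Quotient.liftₐ (𝔫 ^ (m * 2)) χ₀ h2
  let ev : AdicCompletion 𝔫 P →ₐ[Λ] P ⧸ 𝔫 ^ (m * 2) :=
    (AdicCompletion.evalₐ 𝔫 (m * 2)).restrictScalars Λ
  refine ⟨χ₁.comp ev, ?_⟩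
  ext r
  obtain ⟨p, hp⟩ := Ideal.Quotient.mk_surjective (AdicCompletion.evalₐ 𝔫 (m * 2) r)
  -- the difference lies in the kernel
  have hd : AdicCompletion.evalₐ 𝔫 (m * 2) (r - ι p) = 0 := by
    rw [map_sub, sub_eq_zero, ← hp]
    exact (AdicCompletion.evalₐ_of 𝔫 (m * 2) p).symm
  have hd' : r - ι p ∈ (𝔫.map (algebraMap P (AdicCompletion 𝔫 P))) ^ (m * 2) := by
    have h5 : AdicCompletion.eval 𝔫 P (m * 2) (r - ι p) = 0 := by
      have h : 𝔫 ^ (m * 2) ≤ 𝔫 ^ (m * 2) • ⊤ := by simp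
      rw [← AdicCompletion.factor_evalₐ_eq_eval 𝔫 (r - ι p) h, hd, map_zero]
    have h6 : r - ι p ∈ (𝔫 ^ (m * 2) • ⊤ : Submodule P (AdicCompletion 𝔫 P)) := by
      rw [AdicCompletion.pow_smul_top_eq_ker_eval fg]
      exact h5
    rw [Ideal.smul_top_eq_map] at h6
    rw [← Ideal.map_pow]
    exact h6
  have hd'' : ψ (r - ι p) = 0 := by
    apply hm
    exact Ideal.pow_le_pow_right (by omega) hd'
  have hr : r = ι p + (r - ι p) := by ring
  change Ideal.Quotient.mk J (χ₁ (ev r)) = ψ r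
  have hev : ev r = Ideal.Quotient.mk _ p := hp.symm
  rw [hev]
  change Ideal.Quotient.mk J (χ₀ p) = ψ r
  rw [hχ₀' p]
  conv_rhs => rw [hr, map_add, hd'', add_zero]


/-- For Λ Noetherian with a finite map to the field k there is a complete local Noetherian Λ-algebra R
with residue field k whose functor h_R on Artinian local Λ-algebras with residue field k is smooth.
(The published lemma moreover pins the cotangent data of R — the first homology of the naive
cotangent complex of k over Λ equals m_R/m_R² and Ω_{R/Λ} ⊗ k = Ω_{k/Λ}; only the existence of a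
smooth R is stated here.) -/
theorem result {Λ : Type u} {k : Type u} [CommRing Λ] [Field k] [Algebra Λ k]
    [IsNoetherianRing Λ] [Module.Finite Λ k] :
    ∃ R : ArtFun.CRing Λ k, ArtFun.IsSmoothFunctor (ArtFun.hR R.carrier R.res) := by
  have hft : Algebra.FiniteType Λ k := inferInstance
  obtain ⟨n, f, hf⟩ := Algebra.FiniteType.iff_quotient_mvPolynomial''.1 hft
  obtain ⟨P, hP⟩ : ∃ P : Type u, P = MvPolynomial (Fin n) Λ := ⟨_, rfl⟩
  subst hP
  set 𝔫 : Ideal (MvPolynomial (Fin n) Λ) := RingHom.ker f with h𝔫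
  have hmax : 𝔫.IsMaximal := RingHom.ker_isMaximal_of_surjective f hf
  have fg : 𝔫.FG := (isNoetherianRing_iff_ideal_fg _).1 inferInstance 𝔫
  have hmax' := AdicCompletion.isMaximal_map_of_le 𝔫 𝔫 le_rfl fg
  have hcomp := AdicCompletion.isAdicComplete_self 𝔫 fg
  have hloc : IsLocalRing (AdicCompletion 𝔫 (MvPolynomial (Fin n) Λ)) :=
    isLocalRing_of_isAdicComplete_maximal
      (𝔫.map (algebraMap _ (AdicCompletion 𝔫 (MvPolynomial (Fin n) Λ))))
  have hmaxeq : maximalIdeal (AdicCompletion 𝔫 (MvPolynomial (Fin n) Λ)) =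
      𝔫.map (algebraMap _ (AdicCompletion 𝔫 (MvPolynomial (Fin n) Λ))) :=
    (IsLocalRing.eq_maximalIdeal hmax').symm
  have hnoeth : IsNoetherianRing (AdicCompletion 𝔫 (MvPolynomial (Fin n) Λ)) :=
    Groth.Agent.S0543.result _ 𝔫
  let e : (MvPolynomial (Fin n) Λ ⧸ 𝔫) ≃ₐ[Λ] k := Ideal.quotientKerAlgEquivOfSurjective hf
  let res : AdicCompletion 𝔫 (MvPolynomial (Fin n) Λ) →ₐ[Λ] k :=
    (e : (MvPolynomial (Fin n) Λ ⧸ 𝔫) →ₐ[Λ] k).comp
      ((AdicCompletion.evalOneₐ 𝔫).restrictScalars Λ)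
  have hres : Function.Surjective res :=
    e.surjective.comp (AdicCompletion.evalOneₐ_surjective 𝔫)
  let R : ArtFun.CRing Λ k :=
    { carrier := AdicCompletion 𝔫 (MvPolynomial (Fin n) Λ)
      isLocalRing := hloc
      isNoetherianRing := hnoeth
      res := res
      res_surjective := hres
      isAdicComplete := by rw [hmaxeq]; exact hcomp }
  refine ⟨R, (Groth.Agent.S12721.result R).2 ?_⟩
  change CAlgX.IsAdicFormallySmooth Λ (AdicCompletion 𝔫 (MvPolynomial (Fin n) Λ))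
    (maximalIdeal (AdicCompletion 𝔫 (MvPolynomial (Fin n) Λ)))
  rw [hmaxeq]
  exact adicSmooth_completion 𝔫 fg

end Groth.Agent.S12737
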