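import Groth.Agent.LibCR29e
import Groth.Agent.LibPS29

/-!
# The maximal ideal of a power series ring over a local ring
-/

set_option autoImplicit false
universe u

namespace Groth.Agent.LibCR29

open IsLocalRing Groth.Agent.LibPS29

section

variable {R : Type u} [CommRing R] {n : ℕ}

/-- a power series without constant term lies in the ideal generated by the variables. -/
lemma mem_span_X_of_constantCoeff_eq_zero (s : MvPowerSeries (Fin n) R)
    (hs : MvPowerSeries.constantCoeff s = 0) :
    s ∈ Ideal.span (Set.range (MvPowerSeries.X : Fin n → MvPowerSeries (Fin n) R)) := by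
  have hr : ∀ m, m ≤ box n 0 → MvPowerSeries.coeff m s = 0 := by
    intro m hm
    have : m = 0 := by
      ext i
      have := (le_box_iff m).1 hm i
      simpa using this
    rw [this, MvPowerSeries.coeff_zero_eq_constantCoeff_apply, hs]
  rw [eq_sum_part 0 s hr]
  refine Ideal.sum_mem _ fun i _ => ?_
  obtain ⟨q, hq⟩ := X_pow_dvd_part 0 i s
  rw [hq, zero_add, pow_one]
  exact Ideal.mul_mem_right _ _ (Ideal.subset_span ⟨i, rfl⟩)

lemma sub_C_mem_span_X (s : MvPowerSeries (Fin n) R) :
    s - MvPowerSeries.C (MvPowerSeries.constantCoeff s) ∈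
      Ideal.span (Set.range (MvPowerSeries.X : Fin n → MvPowerSeries (Fin n) R)) := by
  apply mem_span_X_of_constantCoeff_eq_zero
  rw [map_sub, MvPowerSeries.constantCoeff_C, sub_self]

variable [IsLocalRing R]

lemma mem_maximalIdeal_ps_iff (s : MvPowerSeries (Fin n) R) :
    s ∈ maximalIdeal (MvPowerSeries (Fin n) R) ↔
      MvPowerSeries.constantCoeff s ∈ maximalIdeal R := by
  rw [IsLocalRing.mem_maximalIdeal, IsLocalRing.mem_maximalIdeal, mem_nonunits_iff,
    mem_nonunits_iff, MvPowerSeries.isUnit_iff_constantCoeff]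

lemma X_mem_maximalIdeal_ps (i : Fin n) :
    (MvPowerSeries.X i : MvPowerSeries (Fin n) R) ∈ maximalIdeal (MvPowerSeries (Fin n) R) := by
  rw [mem_maximalIdeal_ps_iff, MvPowerSeries.constantCoeff_X]
  exact Ideal.zero_mem _

lemma maximalIdeal_ps :
    maximalIdeal (MvPowerSeries (Fin n) R) =
      (maximalIdeal R).map (MvPowerSeries.C : R →+* MvPowerSeries (Fin n) R) ⊔
        Ideal.span (Set.range (MvPowerSeries.X : Fin n → MvPowerSeries (Fin n) R)) := by
  apply le_antisymm
  · intro s hs
    rw [mem_maximalIdeal_ps_iff] at hs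
    have : s = MvPowerSeries.C (MvPowerSeries.constantCoeff s) +
        (s - MvPowerSeries.C (MvPowerSeries.constantCoeff s)) := by ring
    rw [this]
    exact Ideal.add_mem _ (Ideal.mem_sup_left (Ideal.mem_map_of_mem _ hs))
      (Ideal.mem_sup_right (sub_C_mem_span_X s))
  · refine sup_le ?_ ?_
    · rw [Ideal.map_le_iff_le_comap]
      intro a ha
      rw [Ideal.mem_comap, mem_maximalIdeal_ps_iff, MvPowerSeries.constantCoeff_C]
      exact ha
    · rw [Ideal.span_le]
      rintro _ ⟨i, rfl⟩
      exact X_mem_maximalIdeal_ps i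

end

end Groth.Agent.LibCR29
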