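import Groth.Statements.S5752
import Mathlib

set_option autoImplicit false
universe u
open EGA41

namespace Groth.Agent.S5752

open IsLocalRing

/-- no element of `m` is regular on `N` iff `m` is an associated prime (Noetherian local, `N` finite). -/
lemma forall_not_regular_iff (A : Type u) [CommRing A]
    [IsLocalRing A] [IsNoetherianRing A] (N : Type u) [AddCommGroup N] [Module A N] [Module.Finite A N] :
    (∀ x ∈ maximalIdeal A, ¬ IsSMulRegular N x) ↔ maximalIdeal A ∈ associatedPrimes A N := by
  classical
  constructor
  · intro H
    have hsub : ((maximalIdeal A : Ideal A) : Set A) ⊆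
        ⋃ p ∈ (((associatedPrimes.finite A N).toFinset : Finset (Ideal A)) : Set (Ideal A)), (id p : Ideal A) := by
      intro x hx
      have hx' := H x hx
      have : ∃ y : N, y ≠ 0 ∧ x • y = 0 := by
        by_contra hcon
        push Not at hcon
        apply hx'
        intro a b hab
        have h1 : x • (a - b) = 0 := by rw [smul_sub]; exact sub_eq_zero.2 hab
        by_contra hne
        exact hcon (a - b) (sub_ne_zero.2 hne) h1
      have hmem : x ∈ {r : A | ∃ y : N, y ≠ 0 ∧ r • y = 0} := this
      rw [← biUnion_associatedPrimes_eq_zero_divisors A N] at hmem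
      simpa using hmem
    rw [Ideal.subset_union_prime (maximalIdeal A) (maximalIdeal A)] at hsub
    · obtain ⟨p, hp, hle⟩ := hsub
      have hpAss : IsAssociatedPrime p N := by
        have : p ∈ associatedPrimes A N := by simpa using hp
        exact this
      have hpm : maximalIdeal A = p :=
        (maximalIdeal.isMaximal A).eq_of_le hpAss.isPrime.ne_top hle
      rw [hpm]
      exact hpAss
    · intro p hp _ _
      have h' : p ∈ associatedPrimes A N := by simpa using hp
      have : IsAssociatedPrime p N := h'
      exact this.isPrime
  · intro hm x hx hreg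
    have hm' : IsAssociatedPrime (maximalIdeal A) N := hm
    rw [isAssociatedPrime_iff] at hm'
    obtain ⟨_, y, hy⟩ := hm'
    have hy0 : y ≠ 0 := by
      rintro rfl
      have : (1 : A) ∈ maximalIdeal A := by
        rw [hy, Submodule.mem_colon_singleton, smul_zero]; exact Submodule.zero_mem _
      exact (maximalIdeal.isMaximal A).ne_top ((Ideal.eq_top_iff_one _).2 this)
    rw [hy, Submodule.mem_colon_singleton, Submodule.mem_bot] at hx
    exact hy0 (hreg (by change x • y = x • 0; rw [hx, smul_zero]))

/-- Let A be a Noetherian local ring with maximal ideal m and M a finitely generated A-module. Then M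
has depth 0 if and only if m is an associated prime of M, i.e. if and only if M contains a copy of
the residue field. (For M = 0 the depth is ⊤ and there are no associated primes.) -/
theorem result (A : Type u) [CommRing A] [IsLocalRing A]
    [IsNoetherianRing A] (M : Type u) [AddCommGroup M] [Module A M] [Module.Finite A M] :
    LocCoh.depth A M = 0 ↔ IsLocalRing.maximalIdeal A ∈ associatedPrimes A M := by
  rw [← forall_not_regular_iff]
  unfold LocCoh.depth LocCoh.idealDepth
  constructor
  · intro h x hx hreg
    split_ifs at h with htop
    · exact absurd h (by simp)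
    · have hle : ((([x] : List A).length : ℕ) : ℕ∞) ≤
          ⨆ (rs : List A) (_ : RingTheory.Sequence.IsWeaklyRegular M rs ∧ ∀ r ∈ rs, r ∈ maximalIdeal A),
            (rs.length : ℕ∞) :=
        le_iSup₂_of_le [x] ⟨(RingTheory.Sequence.isWeaklyRegular_singleton_iff M x).2 hreg,
          by simpa using hx⟩ le_rfl
      rw [h] at hle
      simp at hle
  · intro H
    have hne : maximalIdeal A • (⊤ : Submodule A M) ≠ ⊤ := by
      intro htop
      have hbot : (⊤ : Submodule A M) = ⊥ :=
        Submodule.eq_bot_of_le_smul_of_le_jacobson_bot (maximalIdeal A) ⊤
          (Module.finite_def.mp inferInstance) (by rw [htop]) (IsLocalRing.maximalIdeal_le_jacobson ⊥)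
      -- then `0 ∈ m` is regular on the zero module
      have hsub : Subsingleton M := by
        rw [← Submodule.subsingleton_iff A, ← subsingleton_iff_bot_eq_top]
        exact hbot.symm
      exact H 0 (Ideal.zero_mem _) (fun a b _ => Subsingleton.elim a b)
    rw [if_neg hne]
    apply le_antisymm _ zero_le
    apply iSup₂_le
    rintro rs ⟨hreg, hmem⟩
    cases rs with
    | nil => simp
    | cons r rs =>
      exfalso
      rw [RingTheory.Sequence.isWeaklyRegular_cons_iff] at hreg
      exact H r (hmem r (by simp)) hreg.1

end Groth.Agent.S5752
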