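import Groth.Statements.S1686
import Mathlib
import Groth.Agent.Lib.Helper16.RelCartier
import Groth.Agent.S17386
import Groth.Agent.S1684
import Groth.Agent.S8851

set_option autoImplicit false
universe u
open CategoryTheory CategoryTheory.Limits AlgebraicGeometry TopologicalSpace
open SDiv

namespace Groth.Agent.S1686

section helpers
open CategoryTheory CategoryTheory.Limits AlgebraicGeometry TopologicalSpace

open Groth.Agent.Lib.helper16.RelCartier

theorem krullDim_lt_of_strictMono {α β : Type*} [PartialOrder α] [PartialOrder β] [Nonempty α]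
    (φ : α → β) (hφ : StrictMono φ) (H : ∀ a, ∃ b, φ a < b) (hβ : Order.krullDim β ≠ ⊤) :
    Order.krullDim α < Order.krullDim β := by
  by_contra hcon
  rw [not_lt] at hcon
  have : Nonempty β := ⟨φ (Classical.arbitrary α)⟩
  have h0 : (0 : WithBot ℕ∞) ≤ Order.krullDim β := Order.krullDim_nonneg
  obtain ⟨m, hm⟩ := WithBot.ne_bot_iff_exists.1 (ne_of_gt (lt_of_lt_of_le (WithBot.bot_lt_coe 0) h0))
  have hm' : m ≠ ⊤ := by
    intro h
    apply hβ
    rw [← hm, h]
    rfl
  obtain ⟨n, hn⟩ := ENat.ne_top_iff_exists.1 hm'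
  have hβn : Order.krullDim β = (n : WithBot ℕ∞) := by
    rw [← hm, ← hn]; rfl
  rw [hβn] at hcon
  obtain ⟨l, hl⟩ := Order.le_krullDim_iff.1 hcon
  obtain ⟨b, hb⟩ := H l.last
  let l' : LTSeries β := (l.map φ hφ).snoc b (by simpa using hb)
  have h1 : (l'.length : WithBot ℕ∞) ≤ Order.krullDim β := Order.LTSeries.length_le_krullDim l'
  have h2 : l'.length = n + 1 := by simp [l', hl]
  rw [hβn, h2] at h1
  have : (n + 1 : ℕ) ≤ n := by exact_mod_cast h1
  omega


/-- (H'): an irreducible closed subset of an open `U₀` lying inside an effective Cartier divisor is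
not maximal. -/
theorem exists_gt {S : Scheme.{u}} (𝓘 : S.IdealSheafData) (h𝓘 : BlowUp.IsEffCartierIdeal 𝓘)
    (U₀ : S.Opens) (T : IrreducibleCloseds ↥(U₀ : Set S))
    (hT : ∀ z ∈ (T : Set ↥(U₀ : Set S)), z.1 ∈ 𝓘.support) :
    ∃ T' : IrreducibleCloseds ↥(U₀ : Set S), T < T' := by
  have hoe : Topology.IsOpenEmbedding (Subtype.val : ↥(U₀ : Set S) → S) :=
    U₀.2.isOpenEmbedding_subtypeVal
  haveI : QuasiSober ↥(U₀ : Set S) := hoe.quasiSober
  set η : ↥(U₀ : Set S) := T.isIrreducible.genericPoint with hη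
  have hgen : IsGenericPoint η (T : Set ↥(U₀ : Set S)) := by
    have := T.isIrreducible.isGenericPoint_genericPoint_closure
    rwa [T.isClosed.closure_eq] at this
  have hηT : η ∈ (T : Set ↥(U₀ : Set S)) := hgen.mem
  have hηZ : η.1 ∈ 𝓘.support := hT η hηT
  obtain ⟨W, hηW, hWU, t, ht, hI⟩ := exists_gen_le 𝓘 h𝓘 η.1 U₀ η.2
  set p := W.2.primeIdealOf ⟨η.1, hηW⟩ with hp
  have htp : t ∈ p.asIdeal := by
    by_contra hcon
    have hb : η.1 ∈ S.basicOpen t :=
      (Groth.Agent.S17386.mem_basicOpen_iff_notMem_primeIdealOf W.2 η.1 hηW t).2 hcon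
    exact Groth.Agent.S8851.basicOpen_le_compl_support 𝓘 W t hI η.1 hb hηZ
  obtain ⟨q, hq, hqp⟩ := Ideal.exists_minimalPrimes_le (I := ⊥) (J := p.asIdeal) bot_le
  haveI : q.IsPrime := hq.1.1
  have hqne : q ≠ p.asIdeal := by
    intro h
    have hdisj := Ideal.disjoint_nonZeroDivisors_of_mem_minimalPrimes hq
    exact Set.disjoint_left.1 hdisj (h ▸ htp) ht
  set Q : PrimeSpectrum Γ(S, W.1) := ⟨q, inferInstance⟩ with hQ
  set η' := W.2.fromSpec Q with hη'
  have hη'W : η' ∈ W.1 := Groth.Agent.S1684.fromSpec_mem W.2 Q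
  have hspec : η' ⤳ η.1 := by
    have h1 : Q ⤳ p := (PrimeSpectrum.le_iff_specializes Q p).1 hqp
    have h2 := h1.map W.2.fromSpec.continuous
    rwa [W.2.fromSpec_primeIdealOf ⟨η.1, hηW⟩] at h2
  have hne : η' ≠ η.1 := by
    intro h
    apply hqne
    have h1 : W.2.primeIdealOf ⟨η', hη'W⟩ = Q := Groth.Agent.S1684.primeIdealOf_fromSpec W.2 Q hη'W
    have h2 : W.2.primeIdealOf ⟨η', hη'W⟩ = p := by
      rw [hp]; congr 1; exact Subtype.ext h
    have : Q = p := h1.symm.trans h2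
    exact congrArg PrimeSpectrum.asIdeal this
  set ξ : ↥(U₀ : Set S) := ⟨η', hWU hη'W⟩ with hξ
  have hspec' : ξ ⤳ η := by
    exact (Topology.IsInducing.subtypeVal.specializes_iff (x := ξ) (y := η)).1 hspec
  refine ⟨⟨closure {ξ}, isIrreducible_singleton.closure, isClosed_closure⟩, ?_⟩
  rw [lt_iff_le_and_ne]
  constructor
  · change (T : Set ↥(U₀ : Set S)) ⊆ closure {ξ}
    rw [← hgen.def]
    exact closure_minimal (Set.singleton_subset_iff.2 (specializes_iff_mem_closure.1 hspec'))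
      isClosed_closure
  · intro heq
    have hξT : ξ ∈ (T : Set ↥(U₀ : Set S)) := by
      rw [heq]
      exact subset_closure (Set.mem_singleton ξ)
    have h1 : η ⤳ ξ := by
      rw [specializes_iff_mem_closure, hgen.def]
      exact hξT
    have : ξ = η := (hspec'.antisymm h1).eq
    exact hne (congrArg Subtype.val this)


theorem main (S : Scheme.{u}) (𝓘 : S.IdealSheafData) (h𝓘 : BlowUp.IsEffCartierIdeal 𝓘)
    (d : ↥𝓘.subscheme)
    (hfin : FlatMor.localDim ↥S (𝓘.subschemeι d) ≠ ⊤) :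
    FlatMor.localDim ↥𝓘.subscheme d < FlatMor.localDim ↥S (𝓘.subschemeι d) := by
  set s := 𝓘.subschemeι d with hs
  haveI : Nonempty {U : TopologicalSpace.Opens S // s ∈ U} := ⟨⟨⊤, trivial⟩⟩
  obtain ⟨U₀, hU₀⟩ := ciInf_mem (fun U : {U : TopologicalSpace.Opens S // s ∈ U} =>
    topologicalKrullDim (U.1 : Set S))
  have hU₀' : topologicalKrullDim (U₀.1 : Set S) = FlatMor.localDim ↥S s := hU₀
  rw [← hU₀'] at hfin ⊢
  set V : 𝓘.subscheme.Opens := 𝓘.subschemeι ⁻¹ᵁ U₀.1 with hV
  have hdV : d ∈ V := U₀.2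
  have hle : FlatMor.localDim ↥𝓘.subscheme d ≤ topologicalKrullDim (V : Set 𝓘.subscheme) :=
    iInf_le (fun U : {U : TopologicalSpace.Opens 𝓘.subscheme // d ∈ U} =>
      topologicalKrullDim (U.1 : Set 𝓘.subscheme)) ⟨V, hdV⟩
  refine lt_of_le_of_lt hle ?_
  -- the map j'
  let j' : ↥(V : Set 𝓘.subscheme) → ↥(U₀.1 : Set S) := fun z => ⟨𝓘.subschemeι z.1, z.2⟩
  have hj'ind : Topology.IsInducing j' := by
    have h1 : Topology.IsInducing (Subtype.val ∘ j') := by
      have : (Subtype.val ∘ j' : ↥(V : Set 𝓘.subscheme) → S) =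
          (fun z => 𝓘.subschemeι z) ∘ (Subtype.val : ↥(V : Set 𝓘.subscheme) → 𝓘.subscheme) := rfl
      rw [this]
      exact 𝓘.subschemeι.isEmbedding.isInducing.comp Topology.IsInducing.subtypeVal
    have hc : Continuous j' :=
      (𝓘.subschemeι.continuous.comp continuous_subtype_val).subtype_mk (fun z => z.2)
    exact Topology.IsInducing.of_comp hc continuous_subtype_val h1
  haveI : Nonempty (IrreducibleCloseds ↥(V : Set 𝓘.subscheme)) :=
    ⟨⟨closure {⟨d, hdV⟩}, isIrreducible_singleton.closure, isClosed_closure⟩⟩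
  apply krullDim_lt_of_strictMono (IrreducibleCloseds.map j' hj'ind.continuous)
    (IrreducibleCloseds.map_strictMono_of_isInducing hj'ind) ?_ hfin
  intro T
  apply exists_gt 𝓘 h𝓘 U₀.1
  intro z hz
  -- z ∈ closure (j' '' T)
  have hcl : IsClosed {z : ↥(U₀.1 : Set S) | z.1 ∈ 𝓘.support} := by
    have : IsClosed (𝓘.support : Set S) := 𝓘.support.isClosed
    exact this.preimage continuous_subtype_val
  have hsub : j' '' (T : Set ↥(V : Set 𝓘.subscheme)) ⊆ {z : ↥(U₀.1 : Set S) | z.1 ∈ 𝓘.support} := by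
    rintro _ ⟨w, -, rfl⟩
    change 𝓘.subschemeι w.1 ∈ (𝓘.support : Set S)
    rw [← 𝓘.range_subschemeι]
    exact ⟨w.1, rfl⟩
  exact closure_minimal hsub hcl hz


end helpers


/-- Let D be the closed subscheme of an effective Cartier divisor on a scheme S and d a point of D with
image s in S. If the local dimension of S at s is finite, then the local dimension of D at d is
strictly smaller. -/
theorem result (S : Scheme.{u}) (𝓘 : S.IdealSheafData) (h𝓘 : BlowUp.IsEffCartierIdeal 𝓘) (d : ↥𝓘.subscheme)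
    (hfin : FlatMor.localDim ↥S (𝓘.subschemeι d) ≠ ⊤) :
    FlatMor.localDim ↥𝓘.subscheme d < FlatMor.localDim ↥S (𝓘.subschemeι d) := by
  exact main S 𝓘 h𝓘 d hfin

end Groth.Agent.S1686
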