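import Groth.Statements.S1642
import Groth.Agent.S0022
import Groth.Agent.Lib.Helper20.KosPn
import Groth.Agent.Lib.Helper20.KosChase
import Groth.Agent.Lib.Helper2.TensorQCoh
import Groth.Agent.Lib.Helper28.TwistPn

set_option autoImplicit false
universe u
open CategoryTheory CategoryTheory.Limits AlgebraicGeometry
open Variety

namespace Groth.Agent.S1642

open Groth.Agent.Lib.helper20.KosCone Groth.Agent.Lib.helper20.KosPn
  Groth.Agent.Lib.helper20.KosChase

/-- A coherent module on P^n_k which is m-regular in the sense of Castelnuovo–Mumford is also (m +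
1)-regular. -/
theorem result (k : Type u) [Field k] (n : ℕ) (F : (CohB1.ProjSpace n k).Modules) (hF : Coh.IsCoh F) (m : ℤ)
    (h : Curv2.IsMRegular k n F m) : Curv2.IsMRegular k n F (m + 1) := by
  intro i hi1 hin
  have hq : Coh.IsQCoh F := hF.1
  -- vanishing of `H^p(F(m - p))` for all `p ≥ 1`
  have hvan : ∀ p : ℕ, 1 ≤ p → Subsingleton (Coh.HH (CohB1.ProjSpace n k)
      (CohB1.tensorMod F (Twist.twistProjSpace n k (m - p))) p) := by
    intro p hp
    by_cases hpn : p ≤ n
    · exact h p hp hpn
    · have : Coh.IsQCoh (CohB1.tensorMod F (Twist.twistProjSpace n k (m - (p : ℤ)))) :=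
        Groth.Agent.Lib.helper2.TensorQCoh.isQuasicoherent_tensorMod _ _
      exact Groth.Agent.S0022.result n k _ p (by omega)
  -- the Koszul complex ending in `F(m + 1 - i)`
  let a : ℤ := m + 1 - i - ((n + 1 : ℕ) : ℤ)
  let K := (kos (grOp n k F) (n + 1)).M a
  have hex : ∀ q, K.ExactAt q := fun q => kos_exactAt n k F a q
  have hN : ∀ q : ℤ, q < -((n + 1 : ℕ) : ℤ) → IsZero (K.X q) := fun q hq' =>
    kos_isZero (grOp n k F) (n + 1) a q (Or.inr (by omega))
  have h1 : IsZero (K.X 1) := kos_isZero (grOp n k F) (n + 1) a 1 (Or.inl (by norm_num))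
  have hlast := subsingleton_HH_last K hex _ hN h1 i (fun r p hr hp => by
    have hp1 : 1 ≤ p := by omega
    refine kos_prop (grOp n k F) (fun Y => Subsingleton (Coh.HH (CohB1.ProjSpace n k) Y p))
      (fun e hX => subsingleton_HH_of_iso e p hX)
      (fun Y hY => subsingleton_HH_of_isZero hY p)
      (fun Y Z hY hZ => subsingleton_HH_biprod Y Z p hY hZ) (n + 1) a r (m - p) ?_ (hvan p hp1)
    simp only [a]
    push_cast
    omega)
  obtain ⟨e⟩ := kos_X_zero_iso (grOp n k F) (n + 1) a (m + 1 - i) (by simp only [a]; push_cast; ring)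
  exact subsingleton_HH_of_iso e i hlast

end Groth.Agent.S1642
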