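import Groth.Statements.S1656
import Mathlib
import Groth.Agent.Lib.Helper18.CurveSerre
import Groth.Agent.Lib.Lead.CurveEuler
import Groth.Agent.Lib.Helper3.ProperIsolDim

set_option autoImplicit false
universe u
open CategoryTheory CategoryTheory.Limits AlgebraicGeometry
attribute [local instance] HasDerivedCategory.standard
open Curves

namespace Groth.Agent.S1656

theorem isZero_of_isEmpty {X : Scheme.{u}} [IsEmpty X] (M : X.Modules) : IsZero M := by
  rw [IsZero.iff_id_eq_zero]
  ext U s
  change s = 0
  refine TopCat.Presheaf.section_ext ⟨M.presheaf, M.isSheaf⟩ U s 0 (fun y hy => ?_)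
  exact (IsEmpty.false y).elim

theorem finrank_HH_of_isEmpty (k : Type u) [Field k] {X : Scheme.{u}}
    [X.Over (Spec (CommRingCat.of k))] [IsEmpty X] (M : X.Modules) (n : ℕ) :
    Module.finrank k (Coh.HH X M n) = 0 := by
  haveI : Subsingleton (Coh.HH X M n) := by
    refine subsingleton_of_forall_eq 0 (fun x => ?_)
    have hx : Groth.Agent.Lib.Helper18.HH.map (𝟙 M) n x = x := by
      rw [Groth.Agent.Lib.Helper18.HH.map_id]
      rfl
    have h0 : (𝟙 M : M ⟶ M) = 0 := (IsZero.iff_id_eq_zero M).mp (isZero_of_isEmpty M)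
    rw [h0, Groth.Agent.Lib.Helper18.HH.map_zero] at hx
    exact hx.symm
  exact Module.finrank_zero_of_subsingleton

/-- Let X be proper over k, Cohen–Macaulay and equidimensional of dimension one, and let ω_X be its
dualizing module, i.e. the cohomology sheaf in degree -1 of f^! O for f : X → Spec k (assuming the
derived direct image Rf_* on D_QCoh and its right adjoint exist, which is how the shared prelude
presents f^!). Then χ(X, O_X) = -χ(X, ω_X). -/
theorem result (k : Type u) [Field k] (X : Scheme.{u}) [X.Over (Spec (CommRingCat.of k))] [IsProper (X ↘ (Spec (CommRingCat.of k)))]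
    (hCM : ∀ x : X, LocCoh.IsCohenMacaulayLocalRing (X.presheaf.stalk x))
    (hequi : ∀ Z ∈ irreducibleComponents (X : Type u), topologicalKrullDim Z = 1)
    [DCoh.HasRpush (X ↘ (Spec (CommRingCat.of k)))] (h : DCoh.RpushPreservesQCoh (X ↘ (Spec (CommRingCat.of k)))) [DCoh.HasShriek (X ↘ (Spec (CommRingCat.of k))) h]
    (OY : DCoh.DQCoh (Spec (CommRingCat.of k))) (hOY : Nonempty (OY.obj ≅ DCoh.inD (Spec (CommRingCat.of k)) (Coh.structureModule (Spec (CommRingCat.of k))))) :
    Curv2.euler k X (Coh.structureModule X) = - Curv2.euler k X (DCoh.dualizingMod (X ↘ (Spec (CommRingCat.of k))) h OY 1) := by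
  have hle : topologicalKrullDim X ≤ 1 :=
    Groth.Agent.Lib.helper3.ProperIsolDim.dim_le_of_irreducibleComponents 1
      (fun Z hZ => (hequi Z hZ).le)
  have hωq : (DCoh.dualizingMod (X ↘ Spec (CommRingCat.of k)) h OY 1).IsQuasicoherent :=
    ((DCoh.shriek (X ↘ Spec (CommRingCat.of k)) h).obj OY).property (-1)
  have hOq : (Coh.structureModule X).IsQuasicoherent :=
    (Groth.Agent.Lib.helper8.Dev.isCoh_structureModule X).1
  rw [Groth.Agent.Lib.Lead.CurveEuler.euler_eq k X hle _ hOq,
    Groth.Agent.Lib.Lead.CurveEuler.euler_eq k X hle _ hωq]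
  by_cases hne : Nonempty X
  · obtain ⟨x₀⟩ := hne
    have hdim : topologicalKrullDim X = 1 := by
      refine le_antisymm hle ?_
      obtain ⟨Z, hZ, -⟩ := exists_mem_irreducibleComponents_subset_of_isIrreducible
        ({x₀} : Set X) isIrreducible_singleton
      rw [← hequi Z hZ]
      exact Topology.IsInducing.subtypeVal.topologicalKrullDim_le
    obtain ⟨h0, h1⟩ := Groth.Agent.Lib.Helper18.CurveSerre.finrank_HH_dualizingMod k X h OY hOY hdim
      (fun x _ => hCM x) hequi
    rw [h0, h1]
    ring
  · haveI : IsEmpty X := not_nonempty_iff.mp hne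
    rw [finrank_HH_of_isEmpty, finrank_HH_of_isEmpty, finrank_HH_of_isEmpty, finrank_HH_of_isEmpty]
    simp

end Groth.Agent.S1656
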