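import Groth.Statements.S1605
import Mathlib
import Groth.Agent.Lib.Helper18.SubI
import Groth.Agent.Lib.Helper18.CurveDualizing

set_option autoImplicit false
universe u
open CategoryTheory CategoryTheory.Limits AlgebraicGeometry
open Curves

namespace Groth.Agent.S1605

open TopologicalSpace Groth.Agent.Lib.helper17.FlatOver7 Groth.Agent.Lib.Helper20.DualDev
  Groth.Agent.Lib.Helper18.SubG Groth.Agent.Lib.Helper18.SubH Groth.Agent.Lib.Helper18.SubI
  Groth.Agent.Lib.Helper18.SubA Groth.Agent.Lib.Helper18.SubD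

theorem isReduced_subscheme_vanishingIdeal {Y : Scheme.{u}} (C : Closeds Y) :
    AlgebraicGeometry.IsReduced (Scheme.IdealSheafData.vanishingIdeal C).subscheme := by
  rw [IsReduced.iff_of_openCover
    (X := (Scheme.IdealSheafData.vanishingIdeal C).subscheme)
    (Scheme.IdealSheafData.vanishingIdeal C).subschemeCover.openCover]
  intro (U : Y.affineOpens)
  change AlgebraicGeometry.IsReduced
    (Spec (.of (Γ(Y, U.1) ⧸ (Scheme.IdealSheafData.vanishingIdeal C).ideal U)))
  rw [affine_isReduced_iff, ← Ideal.isRadical_iff_quotient_reduced,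
    Scheme.IdealSheafData.vanishingIdeal_ideal]
  exact PrimeSpectrum.isRadical_vanishingIdeal _

/-- the set of non-closed points at which the stalk map is nonzero -/
def Sset {X : Scheme.{u}} {F ω : X.Modules} (ψ : F ⟶ ω) : Set X :=
  {η | ¬ IsClosed ({η} : Set X) ∧ ∃ m, stalkAdd ψ η m ≠ 0}

/-- Let X be proper over k, reduced, connected, of dimension one; L an invertible module; Z a closed
subscheme of dimension zero with ideal sheaf I. If H^1(X, I ⊗ L) ≠ 0, then there is a reduced
connected closed subscheme Y of X of dimension one with deg(L|_Y) ≤ -2 χ(Y, O_Y) + deg(Z ∩ Y), the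
scheme-theoretic intersection having degree dim_k H^0 of its structure sheaf. -/
theorem result (k : Type u) [Field k] (X : Scheme.{u}) [X.Over (Spec (CommRingCat.of k))] [IsProper (X ↘ (Spec (CommRingCat.of k)))] [IsReduced X] [ConnectedSpace X]
    (hdim : topologicalKrullDim X = 1) (L : X.Modules) (hL : PicF.IsInvertible L)
    (Z : X.IdealSheafData) (hZ : topologicalKrullDim (Z.support : Set X) ≤ 0)
    (h1 : Nontrivial (Coh.HH X (CohB1.tensorMod (ClSub.idealMod Z) L) 1)) :
    ∃ (J : X.IdealSheafData), IsReduced J.subscheme ∧ ConnectedSpace J.subscheme ∧ topologicalKrullDim J.subscheme = 1 ∧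
      @Curv2.deg k _ J.subscheme ⟨J.subschemeι ≫ (X ↘ (Spec (CommRingCat.of k)))⟩ ((Scheme.Modules.pullback J.subschemeι).obj L) 1 ≤
        -2 * @Curv2.euler k _ J.subscheme ⟨J.subschemeι ≫ (X ↘ (Spec (CommRingCat.of k)))⟩ (Coh.structureModule J.subscheme) +
          Module.finrank k (Coh.HH X (ClSub.quotMod (Z ⊔ J)) 0) := by
  classical
  haveI := Groth.Agent.Lib.Lead.CurveEuler.isNoetherian k X
  have hd1 : topologicalKrullDim X ≤ 1 := hdim.le
  -- the dualizing pair
  obtain ⟨N, ι, hcl, hι⟩ := Groth.Agent.Lib.Helper18.CurveProj.exists_closedImmersion k X hd1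
  obtain ⟨ω, hω, t, hgood⟩ :=
    Groth.Agent.Lib.Helper18.CurveDualizing.exists_dualizing_coh_of_closedImmersion k N ι hι 1
      (by rw [hdim]; rfl)
  have hF : Coh.IsCoh (CohB1.tensorMod (ClSub.idealMod Z) L) :=
    Groth.Agent.Lib.Helper18.DegCalc.isCoh_tensorMod (isCoh_idealMod k Z) (isCoh_L hL)
  -- a nonzero morphism to `ω`
  have hex : ({ψ : CohB1.tensorMod (ClSub.idealMod Z) L ⟶ ω | ψ ≠ 0}).Nonempty := by
    obtain ⟨x, hx⟩ := exists_ne (0 : Coh.HH X (CohB1.tensorMod (ClSub.idealMod Z) L) 1)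
    haveI : Module.Free k (Coh.HH X (CohB1.tensorMod (ClSub.idealMod Z) L) 1) :=
      Module.Free.of_divisionRing _ _
    haveI : Module.Projective k (Coh.HH X (CohB1.tensorMod (ClSub.idealMod Z) L) 1) :=
      Module.Projective.of_free
    have h2 : ¬ ∀ f : Module.Dual k (Coh.HH X (CohB1.tensorMod (ClSub.idealMod Z) L) 1), f x = 0 :=
      fun h => hx ((Module.forall_dual_apply_eq_zero_iff k x).mp h)
    push Not at h2
    obtain ⟨f, hf⟩ := h2
    refine ⟨(homEquivDual k t hgood _ hF).symm f, fun h0 => hf ?_⟩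
    have h3 : f = 0 := by
      have := congrArg (homEquivDual k t hgood _ hF) h0
      rwa [LinearEquiv.apply_symm_apply, _root_.map_zero] at this
    rw [h3]; rfl
  have hfinNC := finite_setOf_not_isClosed (X := X) hd1
  have hSfin : ∀ ψ : CohB1.tensorMod (ClSub.idealMod Z) L ⟶ ω, (Sset ψ).Finite :=
    fun ψ => hfinNC.subset (fun η h => h.1)
  -- a nonzero morphism with minimal generic support
  obtain ⟨φ, hφ0, hmin⟩ := WellFounded.has_min
    (measure (fun ψ : CohB1.tensorMod (ClSub.idealMod Z) L ⟶ ω => (Sset ψ).ncard)).wf _ hex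
  have hφ0' : φ ≠ 0 := hφ0
  set S := Sset φ with hSdef
  let Tc : Closeds X := ⟨closure S, isClosed_closure⟩
  let J := Scheme.IdealSheafData.vanishingIdeal Tc
  have hJsupp : (J.support : Set X) = closure S := Scheme.IdealSheafData.coe_support_vanishingIdeal _
  haveI hred : IsReduced J.subscheme := isReduced_subscheme_vanishingIdeal Tc
  have hSnc : ∀ η ∈ S, ¬ IsClosed ({η} : Set X) := fun η h => h.1
  have hS : S ⊆ J.support := by
    intro η hη
    change η ∈ (J.support : Set X)
    rw [hJsupp]; exact subset_closure hη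
  have hgen : ∀ x ∈ J.support, ∃ η ∈ S, η ⤳ x := by
    intro x hx
    have hx' : x ∈ closure S := by rw [← hJsupp]; exact hx
    rw [← Set.biUnion_of_singleton S, (hSfin φ).closure_biUnion] at hx'
    obtain ⟨η, hηS, hη⟩ := Set.mem_iUnion₂.mp hx'
    exact ⟨η, hηS, specializes_iff_mem_closure.mpr hη⟩
  have hφS : ∀ η ∈ S, ∃ m, stalkAdd φ η m ≠ 0 := fun η h => h.2
  have hφn : ∀ η : X, ¬ IsClosed ({η} : Set X) → η ∉ S → ∀ m, stalkAdd φ η m = 0 := by
    intro η hη hηS m
    by_contra h
    exact hηS ⟨hη, m, h⟩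
  -- `S` is nonempty
  have hSne : S.Nonempty := by
    by_contra hempty
    rw [Set.not_nonempty_iff_eq_empty] at hempty
    apply hφ0'
    refine hom_eq_zero_of_stalk k hω.1 t _ hF (hgood _ hF).1 φ (fun x hx m => ?_)
    exact hφn x hx (by rw [hempty]; exact Set.notMem_empty x) m
  -- the factorization
  obtain ⟨φ', hfac⟩ := exists_factor k hd1 hL Z hZ hω t hgood J S hSnc hS φ hφn
  have hmono := mono_of_factor hd1 hL Z hZ J S hSnc hS hgen φ hφS φ' hfac
  have hkill := killedByIdeal_GG hL Z J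
  haveI : (GG Z J L).IsQuasicoherent := (isCoh_GG k hL Z J).1
  haveI hu := isIso_unit_of_killedByIdeal J (GG Z J L) hkill
  obtain ⟨η₀, hη₀⟩ := hSne
  have hη₀r : η₀ ∈ Set.range J.subschemeι := by
    rw [Scheme.IdealSheafData.range_subschemeι]; exact hS hη₀
  obtain ⟨η₀', hη₀'⟩ := hη₀r
  refine ⟨J, hred, ?_, ?_, ?_⟩
  · -- connectedness
    rw [connectedSpace_iff_clopen]
    refine ⟨⟨η₀'⟩, fun A hA => ?_⟩
    by_contra hcon
    push Not at hcon
    obtain ⟨hAne, hAuniv⟩ := hcon
    let Ao : J.subscheme.Opens := ⟨A, hA.2⟩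
    let Bo : J.subscheme.Opens := ⟨Aᶜ, hA.1.isOpen_compl⟩
    have hAB : Ao ⊓ Bo = ⊥ := by
      ext x
      simp only [Opens.coe_inf, Opens.coe_bot, Set.mem_inter_iff, Set.mem_empty_iff_false,
        iff_false]
      rintro ⟨h1, h2⟩
      exact h2 h1
    have hsup : Ao ⊔ Bo = ⊤ := by
      ext x
      simp only [Opens.coe_sup, Opens.coe_top, Set.mem_union, Set.mem_univ, iff_true]
      exact Classical.em _
    have hAo : (Ao : Set J.subscheme).Nonempty := hAne
    have hBo : (Bo : Set J.subscheme).Nonempty := by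
      change (Aᶜ).Nonempty
      rw [Set.nonempty_compl]; exact hAuniv
    obtain ⟨φ₁, ⟨η₁, hη₁S, m₁, hm₁⟩, ⟨η₂, hη₂S, hη₂⟩, hφ₁n⟩ :=
      exists_smaller hL Z J S hS hgen φ hφS hφn φ' hfac Ao Bo hAB hsup hAo hBo
    have hφ₁0 : φ₁ ≠ 0 := by
      intro h0
      apply hm₁
      rw [h0]
      exact Groth.Agent.Lib.Helper18.SubB.stalkAdd_zero_apply _ _ η₁ m₁
    have hsub : Sset φ₁ ⊂ Sset φ := by
      refine ⟨fun η hη => ?_, fun hle => ?_⟩
      · by_contra hηS
        obtain ⟨m, hm⟩ := hη.2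
        exact hm (hφ₁n η hη.1 hηS m)
      · obtain ⟨m, hm⟩ := (hle hη₂S).2
        exact hm (hη₂ m)
    exact hmin φ₁ hφ₁0 (Set.ncard_lt_ncard hsub (hSfin φ))
  · -- dimension one
    have hdY : topologicalKrullDim J.subscheme ≤ 1 :=
      (J.subschemeι.isClosedEmbedding.topologicalKrullDim_le).trans hd1
    by_contra hne
    have h0 : topologicalKrullDim J.subscheme ≤ 0 :=
      Groth.Agent.Lib.Helper18.DegTensor.le_zero_of_le_one_of_ne_one _ hdY hne
    have e : J.subscheme ≃ₜ ↥(Set.range J.subschemeι) :=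
      J.subschemeι.isClosedEmbedding.isEmbedding.toHomeomorph
    have h0' : topologicalKrullDim ↥(Set.range J.subschemeι) ≤ 0 := by
      rw [← IsHomeomorph.topologicalKrullDim_eq e e.isHomeomorph]; exact h0
    refine hSnc η₀ hη₀ (Groth.Agent.Lib.Helper20.DimZeroClosed.isClosed_singleton_of_dim_le_zero
      (Set.range J.subschemeι) J.subschemeι.isClosedEmbedding.isClosed_range h0' η₀ ⟨η₀', hη₀'⟩)
  · exact deg_le k hd1 hL Z hZ hω t hgood J S hSnc hS hgen φ hφS φ' hfac hmono

end Groth.Agent.S1605
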