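import Groth.Statements.S7389
import Mathlib
-- import your own Groth.Agent.* helpers here

set_option autoImplicit false
universe u
open CategoryTheory AlgebraicGeometry
open Mor

namespace Groth.Agent.S7389

section helpers
/-- prime avoidance in `Spec R`: a finite set of points inside an open lies in a basic open inside it. -/
theorem lemmaA (R : Type u) [CommRing R] (W : TopologicalSpace.Opens (PrimeSpectrum R))
    (F : Set (PrimeSpectrum R)) (hF : F.Finite) (hFW : F ⊆ W) :
    ∃ f : R, F ⊆ PrimeSpectrum.basicOpen f ∧ PrimeSpectrum.basicOpen f ≤ W := by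
  classical
  set I : Ideal R := PrimeSpectrum.vanishingIdeal (W : Set (PrimeSpectrum R))ᶜ with hI
  have hzl : PrimeSpectrum.zeroLocus (I : Set R) = (W : Set (PrimeSpectrum R))ᶜ := by
    rw [hI, PrimeSpectrum.zeroLocus_vanishingIdeal_eq_closure]
    exact (W.isOpen.isClosed_compl).closure_eq
  have hnot : ¬ ((I : Set R) ⊆ ⋃ J ∈ (PrimeSpectrum.asIdeal '' F), ((id J : Ideal R) : Set R)) := by
    rw [Ideal.subset_union_prime_finite (hF.image _) 0 0]
    · rintro ⟨J, ⟨p, hp, rfl⟩, hle⟩
      have : p ∈ PrimeSpectrum.zeroLocus (I : Set R) := by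
        rw [PrimeSpectrum.mem_zeroLocus]; exact hle
      rw [hzl] at this
      exact this (hFW hp)
    · rintro J ⟨p, _, rfl⟩ _ _
      exact p.isPrime
  rw [Set.not_subset] at hnot
  obtain ⟨f, hfI, hf⟩ := hnot
  refine ⟨f, ?_, ?_⟩
  · intro p hp
    rw [SetLike.mem_coe, PrimeSpectrum.mem_basicOpen]
    intro hfp
    apply hf
    simp only [Set.mem_iUnion]
    exact ⟨p.asIdeal, ⟨p, hp, rfl⟩, hfp⟩
  · intro p hp
    by_contra hpW
    have : p ∈ PrimeSpectrum.zeroLocus (I : Set R) := by
      rw [hzl]; exact hpW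
    rw [PrimeSpectrum.mem_zeroLocus] at this
    exact (PrimeSpectrum.mem_basicOpen _ _).1 hp (this hfI)

theorem spec_case {X : Scheme.{u}} (R : CommRingCat.{u}) (ι : X ⟶ Spec R) [IsImmersion ι]
    (E : Set X) (hE : E.Finite) :
    ∃ U : X.Opens, IsAffineOpen U ∧ E ⊆ U := by
  have hFW : ι '' E ⊆ (ι.coborderRange : Set (Spec R)) := by
    rintro _ ⟨x, _, rfl⟩
    exact subset_coborder ⟨x, rfl⟩
  obtain ⟨f, hf1, hf2⟩ := lemmaA R ι.coborderRange (ι '' E) (hE.image _) hFW
  let V : (Spec R).Opens := PrimeSpectrum.basicOpen f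
  have hV : IsAffineOpen V := IsAffineOpen.Spec_basicOpen f
  refine ⟨ι ⁻¹ᵁ V, ?_, ?_⟩
  · have hcl : IsClosed (Set.range (ι ∣_ V)) := by
      have hr : Set.range (ι ∣_ V) = (fun y : V => (y : Spec R)) ⁻¹' (Set.range ι) := by
        ext y
        constructor
        · rintro ⟨x, rfl⟩
          exact ⟨x.1, (morphismRestrict_base_coe ι V x).symm⟩
        · rintro ⟨x, hx⟩
          have hxV : x ∈ ι ⁻¹ᵁ V := by
            change ι x ∈ V
            rw [hx]; exact y.2
          exact ⟨⟨x, hxV⟩, Subtype.ext ((morphismRestrict_base_coe ι V ⟨x, hxV⟩).trans hx)⟩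
      rw [hr]
      refine (isClosed_preimage_val (s := (V : Set (Spec R))) (t := Set.range ι)).2 ?_
      intro y hy
      have h1 : y ∈ coborder (Set.range ι) := hf2 hy.1
      have h2 : y ∈ closure (Set.range ι) := closure_mono Set.inter_subset_right hy.2
      have := coborder_inter_closure (s := Set.range ι)
      rw [← this]
      exact ⟨h1, h2⟩
    have : IsClosedImmersion (ι ∣_ V) := IsClosedImmersion.of_isPreimmersion _ hcl
    have : IsAffine V := hV
    exact isAffine_of_isAffineHom (ι ∣_ V)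
  · intro x hx
    exact hf1 ⟨x, hx, rfl⟩

theorem main {X Y : Scheme.{u}} [IsAffine Y] (ι : X ⟶ Y)
    [IsImmersion ι] (E : Set X) (hE : E.Finite) :
    ∃ U : X.Opens, IsAffineOpen U ∧ E ⊆ U :=
  spec_case _ (ι ≫ Y.isoSpec.hom) E hE
end helpers

/-- Let `X` be a scheme admitting an immersion into an affine scheme. Then any finite set of points of
`X` is contained in an affine open of `X`. -/
theorem result {X Y : Scheme.{u}} [IsAffine Y] (ι : X ⟶ Y)
    [IsImmersion ι] (E : Set X) (hE : E.Finite) :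
    ∃ U : X.Opens, IsAffineOpen U ∧ E ⊆ U := by
  exact main ι E hE

end Groth.Agent.S7389
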