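import Groth.Statements.S0244
-- import your own Groth.Agent.* helpers here
import Groth.Agent.Lib.Helper9.EtaleNormalSection

set_option autoImplicit false
universe u
open Pi1

namespace Groth.Agent.S0244
open Groth.Agent.Lib.helper9 CategoryTheory CategoryTheory.Limits AlgebraicGeometry

/-- Core of fullness: a morphism between the base changes (along a morphism `j` with dense range,
whose base changes are open immersions) of two finite étale covers of a normal integral scheme
comes from a morphism of the covers. -/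
theorem core_full {X V : Scheme.{u}} [IsIntegral X] (hX : Pi1.IsNormalScheme X) (j : V ⟶ X)
    [IsOpenImmersion j] (hj : Dense (Set.range j))
    {Yl Zl : Scheme.{u}} (pY : Yl ⟶ X) (pZ : Zl ⟶ X) (hfY : IsFinite pY) (heY : Etale pY)
    (hfZ : IsFinite pZ) (heZ : Etale pZ) (ψl : pullback pY j ⟶ pullback pZ j)
    (hψw : ψl ≫ pullback.snd pZ j = pullback.snd pY j) :
    ∃ φl : Yl ⟶ Zl, φl ≫ pZ = pY ∧ pullback.fst pY j ≫ φl = ψl ≫ pullback.fst pZ j := by
  have hdom : ∀ (T : Scheme.{u}) (f : T ⟶ X) [Etale f] (t : T), IsDomain (T.presheaf.stalk t) :=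
    fun T f _ t => (Groth.Agent.Lib.helper13.Normal.isNormalDomain_stalk_of_smooth f t (hX _)).1
  have hYdom := hdom Yl pY
  have hWdom := hdom (pullback pY pZ) (pullback.fst pY pZ ≫ pY)
  have hcond : pullback.fst pY j ≫ pY = (ψl ≫ pullback.fst pZ j) ≫ pZ := by
    calc pullback.fst pY j ≫ pY = pullback.snd pY j ≫ j := pullback.condition
      _ = (ψl ≫ pullback.snd pZ j) ≫ j := by rw [hψw]
      _ = ψl ≫ pullback.fst pZ j ≫ pZ := by rw [Category.assoc, ← pullback.condition]
      _ = (ψl ≫ pullback.fst pZ j) ≫ pZ := (Category.assoc _ _ _).symm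
  have hY0d : Dense (((pullback.fst pY j).opensRange : Yl.Opens) : Set Yl) := by
    show Dense (Set.range (pullback.fst pY j))
    rw [Scheme.Pullback.range_fst]
    exact hj.preimage pY.isOpenMap
  obtain ⟨σ, hσq, hσ0⟩ := EtaleNormal.exists_section_of_dense pY
    (pullback.fst pY pZ) hYdom hWdom (pullback.fst pY j).opensRange hY0d
    ((pullback.fst pY j).isoOpensRange.inv ≫
      pullback.lift (pullback.fst pY j) (ψl ≫ pullback.fst pZ j) hcond)
    (by rw [Category.assoc, pullback.lift_fst, Scheme.Hom.isoOpensRange_inv_comp])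
  refine ⟨σ ≫ pullback.snd pY pZ, ?_, ?_⟩
  · rw [Category.assoc, ← pullback.condition, ← Category.assoc, hσq, Category.id_comp]
  · rw [← Scheme.Hom.isoOpensRange_hom_ι (pullback.fst pY j), Category.assoc,
      ← Category.assoc (pullback.fst pY j).opensRange.ι, hσ0]
    simp only [Category.assoc, Iso.hom_inv_id_assoc, pullback.lift_snd]

/-- Core of faithfulness. -/
theorem core_faithful {X V : Scheme.{u}} [IsIntegral X] (hX : Pi1.IsNormalScheme X) (j : V ⟶ X)
    (hj : Dense (Set.range j))
    {Yl Zl : Scheme.{u}} (pY : Yl ⟶ X) (pZ : Zl ⟶ X) (heY : Etale pY)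
    (hfZ : IsFinite pZ) (φl ψl : Yl ⟶ Zl) (hw : φl ≫ pZ = ψl ≫ pZ)
    (h : pullback.fst pY j ≫ φl = pullback.fst pY j ≫ ψl) : φl = ψl := by
  have hYdom : ∀ t : Yl, IsDomain (Yl.presheaf.stalk t) :=
    fun t => (Groth.Agent.Lib.helper13.Normal.isNormalDomain_stalk_of_smooth pY t (hX _)).1
  haveI : IsReduced Yl := by
    haveI : ∀ x : Yl, _root_.IsReduced (Yl.presheaf.stalk x) := fun x => by
      haveI := hYdom x; infer_instance
    exact isReduced_of_isReduced_stalk Yl
  haveI : IsDominant (pullback.fst pY j) := by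
    refine ⟨?_⟩
    show Dense (Set.range (pullback.fst pY j))
    rw [Scheme.Pullback.range_fst]
    exact hj.preimage pY.isOpenMap
  exact ext_of_isDominant_of_isSeparated pZ hw (pullback.fst pY j) h

open AlgebraicGeometry CategoryTheory CategoryTheory.Limits in
/-- Let X be a normal integral scheme and U ⊆ X a nonempty open subscheme. Then the restriction functor
from finite étale covers of X to finite étale covers of U is full and faithful. -/
theorem result {X : Scheme.{u}} [IsIntegral X] (hX : Pi1.IsNormalScheme X) (U : X.Opens)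
    (hU : (U : Set X).Nonempty) : (FEt.restrict U.ι).Full ∧ (FEt.restrict U.ι).Faithful := by
  have hUd : Dense (U : Set X) := U.2.dense hU
  refine ⟨⟨fun {Y Z} ψ => ?_⟩, ⟨fun {Y Z} φ ψ h => ?_⟩⟩
  · -- fullness
    obtain ⟨φl, h1, h2⟩ := core_full hX U.ι (by rw [Scheme.Opens.range_ι]; exact hUd)
      Y.hom Z.hom Y.prop.1 Y.prop.2 Z.prop.1 Z.prop.2 ψ.left (Over.w ψ.hom)
    refine ⟨MorphismProperty.Over.homMk φl h1 trivial, ?_⟩
    apply MorphismProperty.Over.Hom.ext
    refine pullback.hom_ext (f := Z.hom) (g := U.ι) ?_ ?_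
    · exact (pullback.lift_fst _ _ _).trans h2
    · exact (pullback.lift_snd _ _ _).trans (Over.w ψ.hom).symm
  · -- faithfulness
    have e1 : ((FEt.restrict U.ι).map φ).left ≫ pullback.fst Z.hom U.ι =
        pullback.fst Y.hom U.ι ≫ φ.left := pullback.lift_fst _ _ _
    have e2 : ((FEt.restrict U.ι).map ψ).left ≫ pullback.fst Z.hom U.ι =
        pullback.fst Y.hom U.ι ≫ ψ.left := pullback.lift_fst _ _ _
    have h1 : pullback.fst Y.hom U.ι ≫ φ.left = pullback.fst Y.hom U.ι ≫ ψ.left :=
      e1.symm.trans ((congrArg (fun m => m.left ≫ pullback.fst Z.hom U.ι) h).trans e2)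
    apply MorphismProperty.Over.Hom.ext
    exact core_faithful hX U.ι (by rw [Scheme.Opens.range_ι]; exact hUd)
      Y.hom Z.hom Y.prop.2 Z.prop.1 φ.left ψ.left
      ((Over.w φ.hom).trans (Over.w ψ.hom).symm) h1

end Groth.Agent.S0244
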