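import Groth.Statements.S0247
-- import your own Groth.Agent.* helpers here
import Groth.Agent.Lib.Helper9.PurityGeom

set_option autoImplicit false
universe u
open Pi1
open AlgebraicGeometry CategoryTheory CategoryTheory.Limits TopologicalSpace

namespace Groth.Agent.S0247

open AlgebraicGeometry CategoryTheory CategoryTheory.Limits in
/-- For a regular local ring A of Krull dimension at least 2, every finite etale cover of the punctured
spectrum of A extends to a finite etale cover of Spec A. -/
theorem result (A : Type u) [CommRing A] [IsRegularLocalRing A] (h : (2 : WithBot ℕ∞) ≤ ringKrullDim A) :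
    FEt.PurityHolds A := by
  have hdom := Groth.Agent.Lib.helper15.isDomain_of_isRegularLocalRing A
  let e : A ≃+* Γ(Spec (CommRingCat.of A), ⊤) :=
    (Scheme.ΓSpecIso (CommRingCat.of A)).symm.commRingCatIsoToRingEquiv
  have he : ∀ a, e a = (Scheme.ΓSpecIso (CommRingCat.of A)).inv a := fun _ => rfl
  have hes : ∀ t, e.symm t = (Scheme.ΓSpecIso (CommRingCat.of A)).hom t := fun _ => rfl
  have : IsRegularLocalRing Γ(Spec (CommRingCat.of A), ⊤) := IsRegularLocalRing.of_ringEquiv e
  have hdim : (2 : WithBot ℕ∞) ≤ ringKrullDim Γ(Spec (CommRingCat.of A), ⊤) := by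
    rw [← ringKrullDim_eq_of_ringEquiv e]; exact h
  have hU : FEt.puncturedSpec A =
      ⨆ t : IsLocalRing.maximalIdeal Γ(Spec (CommRingCat.of A), ⊤),
        (Spec (CommRingCat.of A)).basicOpen (t : Γ(Spec (CommRingCat.of A), ⊤)) := by
    ext x
    rw [SetLike.mem_coe, SetLike.mem_coe, Opens.mem_iSup]
    constructor
    · intro hx
      have hx' : x ≠ IsLocalRing.closedPoint A := hx
      have hex : ∃ s ∈ IsLocalRing.maximalIdeal A, s ∉ x.asIdeal := by
        by_contra hcon
        apply hx'
        apply PrimeSpectrum.ext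
        apply le_antisymm
        · exact IsLocalRing.le_maximalIdeal x.2.ne_top
        · intro s hs
          by_contra hsx
          exact hcon ⟨s, hs, hsx⟩
      obtain ⟨s, hs, hsx⟩ := hex
      have hes' : e s ∈ IsLocalRing.maximalIdeal Γ(Spec (CommRingCat.of A), ⊤) := by
        rw [IsLocalRing.mem_maximalIdeal, mem_nonunits_iff] at hs ⊢
        intro hu
        apply hs
        have := hu.map e.symm
        rwa [RingEquiv.symm_apply_apply] at this
      refine ⟨⟨e s, hes'⟩, ?_⟩
      show x ∈ (Spec (CommRingCat.of A)).basicOpen (e s)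
      rw [he, basicOpen_eq_of_affine]
      exact hsx
    · rintro ⟨⟨t, ht⟩, hxt⟩
      have hxt' : x ∈ (Spec (CommRingCat.of A)).basicOpen t := hxt
      rw [basicOpen_eq_of_affine'] at hxt'
      have hs : e.symm t ∈ IsLocalRing.maximalIdeal A := by
        rw [IsLocalRing.mem_maximalIdeal, mem_nonunits_iff] at ht ⊢
        intro hu
        apply ht
        have := hu.map e
        rwa [RingEquiv.apply_symm_apply] at this
      intro hcon
      have hcon' : x = IsLocalRing.closedPoint A := hcon
      rw [hcon'] at hxt'
      exact hxt' hs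
  constructor
  intro V
  have hprop : FEt.prop V.hom := V.prop
  have : IsFinite V.hom := hprop.1
  have : Etale V.hom := hprop.2
  obtain ⟨W, q, hqf, hqe, ε, hε⟩ :=
    Groth.Agent.Lib.helper9.PurityGeom.exists_extension hdim (FEt.puncturedSpec A) hU V.hom
  let Wobj : FEt.Cat (Spec (CommRingCat.of A)) := MorphismProperty.Over.mk ⊤ q ⟨hqf, hqe⟩
  exact ⟨Wobj, ⟨MorphismProperty.Over.isoMk ε hε⟩⟩

end Groth.Agent.S0247
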