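import Groth.Agent.LibCotT29c

/-!
# `T²` is independent of the presentation (seat helper29)
-/

set_option autoImplicit false

universe u v w t u' v' w' t' m n

open TensorProduct CotT

noncomputable section

namespace Groth.Agent.LibCotT29

section General

variable {A : Type u} {B : Type v} {ι : Type w} {σ : Type t}
variable {A' : Type u'} {B' : Type v'} {ι' : Type w'} {σ' : Type t'}
variable [CommRing A] [CommRing B] [Algebra A B] [CommRing A'] [CommRing B'] [Algebra A' B']
variable [Algebra B B']
variable {P : Algebra.Presentation A B ι σ} {P' : Algebra.Presentation A' B' ι' σ'}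

/-- Two generalised morphisms whose ring maps agree on the constants induce the same map on `T²`. -/
theorem GHom.T2pull_eq_of_C (g₁ g₂ : GHom P P')
    (hC : ∀ a : A, g₁.τ (MvPolynomial.C a : MvPolynomial ι A) = g₂.τ (MvPolynomial.C a : MvPolynomial ι A))
    (M' : Type m) [AddCommGroup M'] [Module B' M'] [Module B M'] [IsScalarTower B B' M'] :
    g₁.T2pull M' = g₂.T2pull M' := by
  obtain ⟨Φ, hΦ₂, hΦ₁⟩ := exists_Phi (A := A) (ι := ι) (jmap P') g₁.τ g₂.τ hC (fun i => by
    rw [range_jmap]
    change algebraMap P'.toExtension.Ring B' _ = 0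
    rw [map_sub, sub_eq_zero]
    exact (g₁.hτ (MvPolynomial.X i)).trans (g₂.hτ (MvPolynomial.X i)).symm)
  exact GHom.T2pull_eq g₁ g₂ Φ hΦ₂ hΦ₁ M'

/-- Two generalised morphisms with the same ring map induce the same map on `T²`. -/
theorem GHom.T2pull_eq_of_eq (g₁ g₂ : GHom P P') (hτ : g₁.τ = g₂.τ)
    (M' : Type m) [AddCommGroup M'] [Module B' M'] [Module B M'] [IsScalarTower B B' M'] :
    g₁.T2pull M' = g₂.T2pull M' := by
  obtain ⟨Φ, hΦ₂, hΦ₁⟩ := exists_Phi_of_eq (jmap P') g₂.τ
  exact GHom.T2pull_eq g₁ g₂ Φ hΦ₂ (fun r => by rw [hΦ₁, hτ]) M'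

end General

section Same

variable {A : Type u} {B : Type v} {ι : Type w} {σ : Type t}
variable {A' : Type u'} {ι' : Type w'} {σ' : Type t'}
variable [CommRing A] [CommRing B] [Algebra A B] [CommRing A'] [Algebra A' B]
variable {P : Algebra.Presentation A B ι σ} {P' : Algebra.Presentation A' B ι' σ'}

/-- two presentations of one ring (over possibly different base rings) with generalised morphisms in both directions
whose composites act as the identity on `T²` have isomorphic `T²` -/
def T2equivOfGHom (g : GHom P P') (g' : GHom P' P) (M : Type m) [AddCommGroup M] [Module B M]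
    (h1 : ∀ x, (g'.comp g).T2pull M x = x) (h2 : ∀ x, (g.comp g').T2pull M x = x) :
    T2 P M ≃ₗ[B] T2 P' M :=
  LinearEquiv.ofLinearMap (g'.T2pull M) (g.T2pull M)
    (LinearMap.ext fun x => by
      rw [LinearMap.comp_apply, ← GHom.comp_T2pull, h2, LinearMap.id_apply])
    (LinearMap.ext fun x => by
      rw [LinearMap.comp_apply, ← GHom.comp_T2pull, h1, LinearMap.id_apply])

/-- existence of a generalised morphism with prescribed ring map -/
lemma exists_GHom (τ : P.toExtension.Ring →+* P'.toExtension.Ring)
    (hτ : ∀ r, algebraMap P'.toExtension.Ring B (τ r) = algebraMap P.toExtension.Ring B r) :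
    ∃ g : GHom P P', g.τ = τ := by
  have h : ∀ s, ∃ f : relMod P', jmap P' f = τ (rel P s) := by
    intro s
    have : τ (rel P s) ∈ LinearMap.range (jmap P') := by
      rw [range_jmap]
      change algebraMap P'.toExtension.Ring B _ = 0
      rw [hτ, algebraMap_rel]
    exact this
  choose f hf using h
  exact ⟨⟨τ, hτ, f, hf⟩, rfl⟩

end Same

section SameBase

variable {A : Type u} {B : Type v} {ι : Type w} {σ : Type t} {ι' : Type w'} {σ' : Type t'}
variable [CommRing A] [CommRing B] [Algebra A B]
variable (P : Algebra.Presentation A B ι σ) (P' : Algebra.Presentation A B ι' σ')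

/-- `T²` does not depend on the presentation. -/
theorem nonempty_T2_equiv (M : Type m) [AddCommGroup M] [Module B M] :
    Nonempty (T2 P M ≃ₗ[B] T2 P' M) := by
  obtain ⟨g, hg⟩ := exists_GHom (P := P) (P' := P')
    (P.defaultHom P'.toGenerators).toExtensionHom.toRingHom
    (fun r => (P.defaultHom P'.toGenerators).toExtensionHom.algebraMap_toRingHom r)
  obtain ⟨g', hg'⟩ := exists_GHom (P := P') (P' := P)
    (P'.defaultHom P.toGenerators).toExtensionHom.toRingHom
    (fun r => (P'.defaultHom P.toGenerators).toExtensionHom.algebraMap_toRingHom r)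
  refine ⟨T2equivOfGHom g g' M (fun x => ?_) (fun x => ?_)⟩
  · rw [GHom.T2pull_eq_of_C (g'.comp g) (GHom.id P) ?_ M, GHom.id_T2pull]
    intro a
    change g'.τ (g.τ _) = _
    rw [hg, hg']
    change (P'.defaultHom P.toGenerators).toExtensionHom.toRingHom
      ((P.defaultHom P'.toGenerators).toExtensionHom.toRingHom (algebraMap A P.toExtension.Ring a)) =
        algebraMap A P.toExtension.Ring a
    rw [Algebra.Extension.Hom.toRingHom_algebraMap, Algebra.Extension.Hom.toRingHom_algebraMap]
    rfl
  · rw [GHom.T2pull_eq_of_C (g.comp g') (GHom.id P') ?_ M, GHom.id_T2pull]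
    intro a
    change g.τ (g'.τ _) = _
    rw [hg, hg']
    change (P.defaultHom P'.toGenerators).toExtensionHom.toRingHom
      ((P'.defaultHom P.toGenerators).toExtensionHom.toRingHom (algebraMap A P'.toExtension.Ring a)) =
        algebraMap A P'.toExtension.Ring a
    rw [Algebra.Extension.Hom.toRingHom_algebraMap, Algebra.Extension.Hom.toRingHom_algebraMap]
    rfl

end SameBase

end Groth.Agent.LibCotT29

end
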