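import Groth.Prelude.Def_CotT2
import Mathlib.RingTheory.Kaehler.JacobiZariski

/-!
# `T⁰` and `T¹` of a presentation are independent of the presentation (seat helper29)

The first part (`toCot_surjective` … `comp_toCot_injective`) is copied from seat helper4's
`Groth/Agent/Lib/Helper4/CotTBasic.lean` (to avoid `import Mathlib`).
-/

set_option autoImplicit false
universe u v w t w' t' m

open TensorProduct CotT

noncomputable section

namespace Groth.Agent.LibCotT29

section Basic

variable {A : Type u} {B : Type v} {ι : Type w} {σ : Type t}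
variable [CommRing A] [CommRing B] [Algebra A B]
variable (P : Algebra.Presentation A B ι σ)

theorem toCot_surjective : Function.Surjective (toCot P) := by
  intro y
  obtain ⟨⟨x, hx⟩, rfl⟩ := Algebra.Extension.Cotangent.mk_surjective y
  have hx' : x ∈ LinearMap.range (jmap P) := by rw [range_jmap]; exact hx
  obtain ⟨f, rfl⟩ := hx'
  refine ⟨1 ⊗ₜ f, ?_⟩
  rw [toCot_tmul, one_smul]
  rfl

theorem exists_one_tmul (z : L1 P) : ∃ f : relMod P, z = (1 : B) ⊗ₜ[P.toExtension.Ring] f := by
  induction z using TensorProduct.induction_on with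
  | zero => exact ⟨0, (TensorProduct.tmul_zero _ _).symm⟩
  | tmul b f =>
    obtain ⟨r, rfl⟩ := P.toExtension.algebraMap_surjective b
    refine ⟨r • f, ?_⟩
    rw [TensorProduct.tmul_smul, TensorProduct.smul_tmul', Algebra.smul_def, mul_one]
  | add x y hx hy =>
    obtain ⟨f, rfl⟩ := hx
    obtain ⟨g, rfl⟩ := hy
    exact ⟨f + g, (TensorProduct.tmul_add _ _ _).symm⟩

theorem one_tmul_eq_zero_of_mem_smul_top (g : relMod P)
    (hg : g ∈ P.toExtension.ker • (⊤ : Submodule P.toExtension.Ring (relMod P))) :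
    (1 : B) ⊗ₜ[P.toExtension.Ring] g = 0 := by
  induction hg using Submodule.smul_induction_on' with
  | smul x hx h _ =>
    have hx0 : algebraMap P.toExtension.Ring B x = 0 := hx
    rw [TensorProduct.tmul_smul, TensorProduct.smul_tmul', Algebra.smul_def, hx0, zero_mul,
      TensorProduct.zero_tmul]
  | add x _ y _ hx hy => rw [TensorProduct.tmul_add, hx, hy, add_zero]

theorem ker_toCot_le : LinearMap.ker (toCot P) ≤ LinearMap.range (d2 P) := by
  intro z hz
  obtain ⟨f, rfl⟩ := exists_one_tmul P z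
  rw [LinearMap.mem_ker, toCot_tmul, one_smul, Algebra.Extension.Cotangent.mk_eq_zero_iff] at hz
  have h2 : P.toExtension.ker ^ 2 =
      Submodule.map (jmap P) (P.toExtension.ker • (⊤ : Submodule P.toExtension.Ring (relMod P))) := by
    rw [Submodule.map_smul'', Submodule.map_top, range_jmap, sq]
    rfl
  have hz' : jmap P f ∈ P.toExtension.ker ^ 2 := hz
  rw [h2] at hz'
  obtain ⟨g, hg, hgf⟩ := hz'
  have hq : f - g ∈ relKer P := by
    rw [relKer, LinearMap.mem_ker, map_sub, hgf, sub_self]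
  refine ⟨Submodule.Quotient.mk ((1 : B) ⊗ₜ ⟨f - g, hq⟩), ?_⟩
  rw [d2_mk_tmul]
  change (1 : B) ⊗ₜ[P.toExtension.Ring] (f - g) = 1 ⊗ₜ f
  rw [TensorProduct.tmul_sub, one_tmul_eq_zero_of_mem_smul_top P g hg, sub_zero]

/-- A `B`-linear map out of `L₁` killing the image of `d₂` factors through `L₁ → I/I²`. -/
theorem exists_factor_toCot {M : Type m} [AddCommGroup M] [Module B M] (c : L1 P →ₗ[B] M)
    (hc : c ∘ₗ d2 P = 0) : ∃ ψ : P.toExtension.Cotangent →ₗ[B] M, ψ ∘ₗ toCot P = c := by
  have hle : LinearMap.ker (toCot P) ≤ LinearMap.ker c := by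
    intro z hz
    obtain ⟨w, rfl⟩ := ker_toCot_le P hz
    exact LinearMap.congr_fun hc w
  let e := LinearMap.quotKerEquivOfSurjective (toCot P) (toCot_surjective P)
  refine ⟨(Submodule.liftQ _ c hle) ∘ₗ e.symm.toLinearMap, ?_⟩
  ext z
  have : e.symm (toCot P z) = Submodule.Quotient.mk z := by
    rw [LinearEquiv.symm_apply_eq]
    rfl
  simp only [LinearMap.coe_comp, LinearEquiv.coe_coe, Function.comp_apply]
  rw [this, Submodule.liftQ_apply]

/-- Cancel the surjection `L₁ → I/I²` on the right. -/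
theorem comp_toCot_injective {M : Type m} [AddCommGroup M] [Module B M]
    {ψ ψ' : P.toExtension.Cotangent →ₗ[B] M} (h : ψ ∘ₗ toCot P = ψ' ∘ₗ toCot P) : ψ = ψ' := by
  ext y
  obtain ⟨z, rfl⟩ := toCot_surjective P y
  exact LinearMap.congr_fun h z

end Basic

section Ext

variable {A : Type u} {B : Type v} [CommRing A] [CommRing B] [Algebra A B]

/-- the cokernel of `Hom(B ⊗ Ω_{R/A}, M) → Hom(I/I², M)` for an extension `R → B` -/
abbrev CoT1 (E : Algebra.Extension.{w} A B) (M : Type m) [AddCommGroup M] [Module B M] : Type _ :=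
  (E.Cotangent →ₗ[B] M) ⧸ LinearMap.range (LinearMap.lcomp B M E.cotangentComplex)

variable {E : Algebra.Extension.{w} A B} {E' : Algebra.Extension.{w'} A B}
variable (M : Type m) [AddCommGroup M] [Module B M]

/-- functoriality of `CoT1` in the extension -/
def CoT1.pull (f : E.Hom E') : CoT1 E' M →ₗ[B] CoT1 E M :=
  Submodule.mapQ _ _ (LinearMap.lcomp B M (Algebra.Extension.Cotangent.map f)) (by
    rintro _ ⟨ψ, rfl⟩
    refine ⟨ψ ∘ₗ Algebra.Extension.CotangentSpace.map f, ?_⟩
    ext x
    simp [Algebra.Extension.CotangentSpace.map_cotangentComplex])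

lemma CoT1.pull_mk (f : E.Hom E') (χ : E'.Cotangent →ₗ[B] M) :
    CoT1.pull M f (Submodule.Quotient.mk χ) =
      Submodule.Quotient.mk (χ ∘ₗ Algebra.Extension.Cotangent.map f) := rfl

lemma CoT1.pull_eq (f g : E.Hom E') : CoT1.pull M f = CoT1.pull M g := by
  refine LinearMap.ext fun x => ?_
  obtain ⟨χ, rfl⟩ := Submodule.Quotient.mk_surjective _ x
  rw [CoT1.pull_mk, CoT1.pull_mk, ← sub_eq_zero, ← Submodule.Quotient.mk_sub, Submodule.Quotient.mk_eq_zero,
    ← LinearMap.comp_sub, Algebra.Extension.Cotangent.map_sub_map]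
  exact ⟨χ ∘ₗ f.sub g, rfl⟩

end Ext

section Ext2

variable {A : Type u} {B : Type v} [CommRing A] [CommRing B] [Algebra A B]
variable {E : Algebra.Extension.{w} A B} {E' : Algebra.Extension.{w'} A B}
variable (M : Type m) [AddCommGroup M] [Module B M]

lemma CoT1.pull_id (x : CoT1 E M) : CoT1.pull M (Algebra.Extension.Hom.id E) x = x := by
  obtain ⟨χ, rfl⟩ := Submodule.Quotient.mk_surjective _ x
  rw [CoT1.pull_mk, Algebra.Extension.Cotangent.map_id, LinearMap.comp_id]

lemma CoT1.pull_comp (f : E.Hom E') (g : E'.Hom E) (x : CoT1 E M) :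
    CoT1.pull M (g.comp f) x = CoT1.pull M f (CoT1.pull M g x) := by
  obtain ⟨χ, rfl⟩ := Submodule.Quotient.mk_surjective _ x
  rw [CoT1.pull_mk, CoT1.pull_mk, CoT1.pull_mk, Algebra.Extension.Cotangent.map_comp]
  rfl

/-- `CoT1` does not depend on the extension -/
def CoT1.equiv (f : E.Hom E') (g : E'.Hom E) : CoT1 E M ≃ₗ[B] CoT1 E' M :=
  LinearEquiv.ofLinearMap (CoT1.pull M g) (CoT1.pull M f)
    (LinearMap.ext fun x => by
      rw [LinearMap.comp_apply, ← CoT1.pull_comp, CoT1.pull_eq M (f.comp g) (Algebra.Extension.Hom.id E'),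
        CoT1.pull_id, LinearMap.id_apply])
    (LinearMap.ext fun x => by
      rw [LinearMap.comp_apply, ← CoT1.pull_comp, CoT1.pull_eq M (g.comp f) (Algebra.Extension.Hom.id E),
        CoT1.pull_id, LinearMap.id_apply])

end Ext2

section T01

variable {A : Type u} {B : Type v} {ι : Type w} {σ : Type t} {ι' : Type w'} {σ' : Type t'}
variable [CommRing A] [CommRing B] [Algebra A B]
variable (P : Algebra.Presentation A B ι σ) (P' : Algebra.Presentation A B ι' σ')
variable (M : Type m) [AddCommGroup M] [Module B M]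

lemma surjective_homToT1 : Function.Surjective (homToT1 P M) := by
  intro x
  obtain ⟨⟨c, hc⟩, rfl⟩ := Submodule.Quotient.mk_surjective _ x
  have hc' : c ∘ₗ d2 P = 0 := hc
  obtain ⟨ψ, hψ⟩ := exists_factor_toCot P c hc'
  refine ⟨ψ, ?_⟩
  change Submodule.Quotient.mk _ = Submodule.Quotient.mk _
  congr 1
  exact Subtype.ext hψ

lemma ker_homToT1 :
    LinearMap.ker (homToT1 P M) = LinearMap.range (LinearMap.lcomp B M P.toExtension.cotangentComplex) := by
  have hd1 : d1 P = P.toExtension.cotangentComplex ∘ₗ toCot P := rfl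
  ext ψ
  have key : homToT1 P M ψ = 0 ↔ ψ ∘ₗ toCot P ∈ LinearMap.range (d1Star P M) := by
    change (coboundaries1 P M).mkQ _ = 0 ↔ _
    rw [Submodule.mkQ_apply, Submodule.Quotient.mk_eq_zero]
    rfl
  rw [LinearMap.mem_ker, key]
  constructor
  · rintro ⟨φ, hφ⟩
    refine ⟨φ, ?_⟩
    rw [LinearMap.lcomp_apply']
    apply comp_toCot_injective P
    rw [LinearMap.comp_assoc, ← hd1]
    exact hφ
  · rintro ⟨φ, rfl⟩
    refine ⟨φ, ?_⟩
    rw [d1Star_apply, LinearMap.lcomp_apply', hd1, LinearMap.comp_assoc]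

/-- `T¹` of a presentation is `CoT1` of its extension -/
def T1equivCoT1 : T1 P M ≃ₗ[B] CoT1 P.toExtension M :=
  (LinearMap.quotKerEquivOfSurjective (homToT1 P M) (surjective_homToT1 P M)).symm.trans
    (Submodule.quotEquivOfEq _ _ (ker_homToT1 P M))

/-- `T¹` does not depend on the presentation. -/
theorem nonempty_T1_equiv : Nonempty (T1 P M ≃ₗ[B] T1 P' M) :=
  ⟨(T1equivCoT1 P M).trans ((CoT1.equiv M (P.defaultHom P'.toGenerators).toExtensionHom
    (P'.defaultHom P.toGenerators).toExtensionHom).trans (T1equivCoT1 P' M).symm)⟩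

/-- `Hom_B(Ω_{B/A}, M) → T⁰(P, M)`, `χ ↦ χ ∘ (L₀ → Ω_{B/A})` -/
def homKaehlerToT0 : (Ω[B⁄A] →ₗ[B] M) →ₗ[B] T0 P M :=
  LinearMap.codRestrict _ (LinearMap.lcomp B M P.toExtension.toKaehler) (fun χ => by
    rw [LinearMap.mem_ker, d1Star_apply, LinearMap.lcomp_apply']
    have hd1 : d1 P = P.toExtension.cotangentComplex ∘ₗ toCot P := rfl
    have : P.toExtension.toKaehler ∘ₗ P.toExtension.cotangentComplex = 0 :=
      LinearMap.ext fun x => P.toExtension.exact_cotangentComplex_toKaehler.apply_apply_eq_zero x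
    rw [hd1, ← LinearMap.comp_assoc,
      LinearMap.comp_assoc P.toExtension.cotangentComplex P.toExtension.toKaehler χ, this,
      LinearMap.comp_zero, LinearMap.zero_comp])

lemma bijective_homKaehlerToT0 : Function.Bijective (homKaehlerToT0 P M) := by
  constructor
  · intro χ χ' h
    have h' : χ ∘ₗ P.toExtension.toKaehler = χ' ∘ₗ P.toExtension.toKaehler := congrArg Subtype.val h
    ext y
    obtain ⟨z, rfl⟩ := P.toExtension.toKaehler_surjective y
    exact LinearMap.congr_fun h' z
  · rintro ⟨φ, hφ⟩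
    rw [LinearMap.mem_ker, d1Star_apply] at hφ
    have hle : LinearMap.ker P.toExtension.toKaehler ≤ LinearMap.ker φ := by
      intro z hz
      rw [P.toExtension.exact_cotangentComplex_toKaehler.linearMap_ker_eq] at hz
      obtain ⟨y, rfl⟩ := hz
      obtain ⟨x, rfl⟩ := toCot_surjective P y
      exact LinearMap.congr_fun hφ x
    let e := LinearMap.quotKerEquivOfSurjective P.toExtension.toKaehler P.toExtension.toKaehler_surjective
    refine ⟨(Submodule.liftQ _ φ hle) ∘ₗ e.symm.toLinearMap, ?_⟩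
    apply Subtype.ext
    change ((Submodule.liftQ _ φ hle) ∘ₗ e.symm.toLinearMap) ∘ₗ P.toExtension.toKaehler = φ
    ext z
    have : e.symm (P.toExtension.toKaehler z) = Submodule.Quotient.mk z := by
      rw [LinearEquiv.symm_apply_eq]
      rfl
    simp only [LinearMap.coe_comp, LinearEquiv.coe_coe, Function.comp_apply]
    rw [this, Submodule.liftQ_apply]

/-- `T⁰` does not depend on the presentation. -/
theorem nonempty_T0_equiv : Nonempty (T0 P M ≃ₗ[B] T0 P' M) :=
  ⟨(LinearEquiv.ofBijective _ (bijective_homKaehlerToT0 P M)).symm.trans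
    (LinearEquiv.ofBijective _ (bijective_homKaehlerToT0 P' M))⟩

end T01

end Groth.Agent.LibCotT29

end
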