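import Groth.Agent.LibCotT29
import Mathlib.LinearAlgebra.Finsupp.LinearCombination
import Mathlib.LinearAlgebra.Finsupp.Supported
import Mathlib.LinearAlgebra.Span.Basic
import Mathlib.RingTheory.Ideal.Span

/-!
# Relations among a regular sequence are trivial (seat helper29)
-/

set_option autoImplicit false

universe u

namespace Groth.Agent.LibCotT29

variable {R : Type u} [CommRing R] {n : ℕ} (r : Fin n → R)

/-- If each `r k` is a non-zero-divisor modulo the earlier ones, every relation `∑ cᵢ rᵢ = 0` is a combination of
the trivial (Koszul) relations. -/
theorem ker_le_triv_of_regular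
    (hreg : ∀ k : Fin n, ∀ x, x * r k ∈ Ideal.span (r '' {i | i < k}) → x ∈ Ideal.span (r '' {i | i < k})) :
    LinearMap.ker (Finsupp.linearCombination R r) ≤ triv (Finsupp.linearCombination R r) := by
  set j := Finsupp.linearCombination R r with hj
  have key : ∀ k : ℕ, k ≤ n → ∀ c ∈ Finsupp.supported R R {i : Fin n | (i : ℕ) < k}, j c = 0 → c ∈ triv j := by
    intro k
    induction k with
    | zero =>
      intro _ c hc _
      have : {i : Fin n | (i : ℕ) < 0} = ∅ := by
        ext i; simp
      rw [this, Finsupp.supported_empty, Submodule.mem_bot] at hc
      rw [hc]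
      exact Submodule.zero_mem _
    | succ k ih =>
      intro hk c hc hjc
      let kk : Fin n := ⟨k, hk⟩
      -- c₀ = c with the k-th coordinate erased
      have hc₀ : c.erase kk ∈ Finsupp.supported R R {i : Fin n | i < kk} := by
        rw [Finsupp.mem_supported'] at hc ⊢
        intro i hi
        by_cases hik : i = kk
        · rw [hik, Finsupp.erase_same]
        · rw [Finsupp.erase_ne hik]
          apply hc
          intro hi'
          apply hi
          have h1 : (i : ℕ) < k + 1 := hi'
          have h2 : (i : ℕ) ≠ k := fun h => hik (Fin.ext h)
          change (i : ℕ) < k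
          omega
      have hsplit : c = c.erase kk + Finsupp.single kk (c kk) := by
        rw [add_comm, Finsupp.single_add_erase]
      have h1 : j (c.erase kk) ∈ Ideal.span (r '' {i | i < kk}) := by
        have := (Finsupp.mem_span_image_iff_linearCombination R (v := r) (s := {i | i < kk})
          (x := j (c.erase kk))).mpr ⟨c.erase kk, hc₀, rfl⟩
        exact this
      have h2 : c kk * r kk ∈ Ideal.span (r '' {i | i < kk}) := by
        have h3 : j c = j (c.erase kk) + c kk * r kk := by
          conv_lhs => rw [hsplit]
          rw [map_add, hj, Finsupp.linearCombination_single, smul_eq_mul]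
        rw [hjc] at h3
        have : c kk * r kk = - j (c.erase kk) := by
          rw [eq_neg_iff_add_eq_zero, add_comm]
          exact h3.symm
        rw [this]
        exact Ideal.neg_mem_iff _ |>.mpr h1
      have h3 := hreg kk (c kk) h2
      obtain ⟨d, hd, hjd⟩ := (Finsupp.mem_span_image_iff_linearCombination R (v := r) (s := {i | i < kk})
          (x := c kk)).mp h3
      have hjd' : j d = c kk := hjd
      have hdk : d kk = 0 := by
        rw [Finsupp.mem_supported'] at hd
        exact hd kk (fun h => lt_irrefl kk h)
      set g := j d • Finsupp.single kk (1 : R) - j (Finsupp.single kk (1 : R)) • d with hg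
      have hgmem : g ∈ triv j := sub_mem_triv j d (Finsupp.single kk 1)
      have hjg : j g = 0 := triv_le_ker j hgmem
      have hc' : c - g ∈ Finsupp.supported R R {i : Fin n | (i : ℕ) < k} := by
        rw [Finsupp.mem_supported'] at hc hd ⊢
        intro i hi
        have hik : ¬ (i : ℕ) < k := hi
        rw [Finsupp.sub_apply, hg, Finsupp.sub_apply, Finsupp.smul_apply, Finsupp.smul_apply]
        by_cases hik' : i = kk
        · rw [hik', Finsupp.single_eq_same, hdk, hjd']
          simp
        · have h4 : c i = 0 := by
            apply hc
            intro h5
            have h6 : (i : ℕ) < k + 1 := h5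
            have h7 : (i : ℕ) ≠ k := fun h => hik' (Fin.ext h)
            omega
          have h5 : d i = 0 := by
            apply hd
            intro h6
            exact hik h6
          rw [h4, h5, Finsupp.single_eq_of_ne hik']
          simp
      have hjc' : j (c - g) = 0 := by rw [map_sub, hjc, hjg, sub_zero]
      have := ih (Nat.le_of_succ_le hk) (c - g) hc' hjc'
      have h5 : c = (c - g) + g := by abel
      rw [h5]
      exact Submodule.add_mem _ this hgmem
  intro c hc
  apply key n le_rfl c _ hc
  rw [Finsupp.mem_supported']
  intro i hi
  exact absurd i.2 hi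

end Groth.Agent.LibCotT29
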