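import Groth.Agent.LibCotT29
import Groth.Agent.LibCotT29f
import Mathlib.LinearAlgebra.Finsupp.LinearCombination
import Mathlib.RingTheory.Localization.Integer
import Mathlib.RingTheory.Localization.AtPrime.Basic
import Mathlib.RingTheory.Ideal.Maximal

/-!
# Syzygetic ideals: relations with coefficients in `I` are Koszul when `I` is locally generated by a
regular sequence (seat helper29)

* `mem_triv_of_regular_generators` : if `I = (f_s) = (g_t)` with `g` a regular sequence, a relation
  `∑ q_s f_s = 0` with all `q_s ∈ I` is a combination of Koszul relations of `f`.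
* `exists_smul_mem_triv_of_mem_triv_localization` : clearing denominators.
* `mem_triv_of_locally` : local–global principle.
-/

set_option autoImplicit false

universe u v

namespace Groth.Agent.LibCotT29

open Finsupp

section LC

variable {R : Type u} [CommRing R] {σ : Type v} (f : σ → R) {c : ℕ} (g : Fin c → R)

/-- a linear map between free modules respecting the linear forms maps trivial relations to trivial
relations -/
lemma map_mem_triv {σ' : Type*} (f' : σ' → R) (β : (σ' →₀ R) →ₗ[R] (σ →₀ R))
    (hβ : ∀ a, linearCombination R f (β a) = linearCombination R f' a) {y : σ' →₀ R}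
    (hy : y ∈ triv (linearCombination R f')) : β y ∈ triv (linearCombination R f) := by
  have : triv (linearCombination R f') ≤ (triv (linearCombination R f)).comap β := by
    refine Submodule.span_le.mpr ?_
    rintro _ ⟨a, b, rfl⟩
    simp only [SetLike.mem_coe, Submodule.mem_comap, map_sub, map_smul]
    rw [← hβ a, ← hβ b]
    exact sub_mem_triv _ _ _
  exact this hy

theorem mem_triv_of_regular_generators
    (hfg : Ideal.span (Set.range f) = Ideal.span (Set.range g))
    (hreg : ∀ k : Fin c, ∀ x, x * g k ∈ Ideal.span (g '' {i | i < k}) →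
      x ∈ Ideal.span (g '' {i | i < k}))
    (q : σ →₀ R) (hq : linearCombination R f q = 0)
    (hqI : ∀ s, q s ∈ Ideal.span (Set.range f)) :
    q ∈ triv (linearCombination R f) := by
  classical
  -- α : F_f → F_g
  have hα : ∀ s, ∃ a : Fin c →₀ R, linearCombination R g a = f s := by
    intro s
    have : f s ∈ Ideal.span (Set.range g) := hfg ▸ Ideal.subset_span ⟨s, rfl⟩
    exact (Finsupp.mem_span_range_iff_exists_finsupp).mp this
  choose a ha using hα
  have hβ : ∀ t, ∃ b : σ →₀ R, linearCombination R f b = g t := by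
    intro t
    have : g t ∈ Ideal.span (Set.range f) := hfg.symm ▸ Ideal.subset_span ⟨t, rfl⟩
    exact (Finsupp.mem_span_range_iff_exists_finsupp).mp this
  choose b hb using hβ
  let α : (σ →₀ R) →ₗ[R] (Fin c →₀ R) := linearCombination R a
  let β : (Fin c →₀ R) →ₗ[R] (σ →₀ R) := linearCombination R b
  have hjα : ∀ x, linearCombination R g (α x) = linearCombination R f x := by
    intro x
    have : (linearCombination R g) ∘ₗ α = linearCombination R f := by
      apply Finsupp.lhom_ext'
      intro s
      ext
      simp [α, ha]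
    exact LinearMap.congr_fun this x
  have hjβ : ∀ x, linearCombination R f (β x) = linearCombination R g x := by
    intro x
    have : (linearCombination R f) ∘ₗ β = linearCombination R g := by
      apply Finsupp.lhom_ext'
      intro s
      ext
      simp [β, hb]
    exact LinearMap.congr_fun this x
  -- βαq is trivial
  have h1 : β (α q) ∈ triv (linearCombination R f) := by
    apply map_mem_triv f g β hjβ
    apply ker_le_triv_of_regular g hreg
    rw [LinearMap.mem_ker, hjα, hq]
  -- θ q is trivial
  have h2 : q - β (α q) ∈ triv (linearCombination R f) := by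
    have hθ : ∀ x, linearCombination R f (x - β (α x)) = 0 := by
      intro x
      rw [map_sub, hjβ, hjα, sub_self]
    have hsum : q - β (α q) = q.sum fun s r => r • (single s (1 : R) - β (α (single s 1))) := by
      conv_lhs => rw [← Finsupp.sum_single q]
      simp only [Finsupp.sum, map_sum, ← Finset.sum_sub_distrib]
      apply Finset.sum_congr rfl
      intro s _
      rw [smul_sub, ← map_smul, ← map_smul, Finsupp.smul_single, smul_eq_mul, mul_one]
    rw [hsum]
    apply Submodule.sum_mem
    intro s _
    obtain ⟨x, hx⟩ := (Finsupp.mem_span_range_iff_exists_finsupp).mp (hqI s)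
    have h3 := sub_mem_triv (linearCombination R f) x (single s (1 : R) - β (α (single s 1)))
    rw [hθ, zero_smul, sub_zero] at h3
    have hx' : linearCombination R f x = q s := hx
    rw [hx'] at h3
    exact h3
  have : q = β (α q) + (q - β (α q)) := by abel
  rw [this]
  exact Submodule.add_mem _ h1 h2

end LC

section CD

variable {R : Type u} [CommRing R] (Mo : Submonoid R) (A' : Type u) [CommRing A'] [Algebra R A']
  [IsLocalization Mo A'] {σ : Type v} (f : σ → R)

/-- coefficientwise localization map -/
noncomputable def locMap : (σ →₀ R) →ₗ[R] (σ →₀ A') :=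
  Finsupp.mapRange.linearMap (Algebra.linearMap R A')

@[simp] lemma locMap_apply (a : σ →₀ R) (s : σ) : locMap A' a s = algebraMap R A' (a s) := rfl

lemma locMap_single (s : σ) (r : R) : locMap A' (single s r) = single s (algebraMap R A' r) := by
  ext t
  simp [locMap]

lemma linearCombination_locMap (a : σ →₀ R) :
    linearCombination A' (fun s => algebraMap R A' (f s)) (locMap A' a) =
      algebraMap R A' (linearCombination R f a) := by
  induction a using Finsupp.induction_linear with
  | zero => simp
  | add x y hx hy => rw [map_add, map_add, map_add, map_add, hx, hy]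
  | single s r =>
    rw [locMap_single, linearCombination_single, linearCombination_single, smul_eq_mul, smul_eq_mul,
      map_mul]

include Mo in
lemma exists_integer_finsupp (a : σ →₀ A') :
    ∃ s ∈ Mo, ∃ a₀ : σ →₀ R, s • a = locMap A' a₀ := by
  induction a using Finsupp.induction_linear with
  | zero => exact ⟨1, Mo.one_mem, 0, by simp⟩
  | add x y hx hy =>
    obtain ⟨s₁, hs₁, x₀, hx₀⟩ := hx
    obtain ⟨s₂, hs₂, y₀, hy₀⟩ := hy
    refine ⟨s₁ * s₂, Mo.mul_mem hs₁ hs₂, s₂ • x₀ + s₁ • y₀, ?_⟩
    rw [map_add, map_smul, map_smul, ← hx₀, ← hy₀, smul_add, smul_smul, smul_smul, mul_comm s₂ s₁]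
  | single i x =>
    obtain ⟨⟨x₀, s⟩, hxs⟩ := IsLocalization.surj Mo x
    refine ⟨s, s.2, single i x₀, ?_⟩
    rw [locMap_single, Finsupp.smul_single, Algebra.smul_def, mul_comm]
    exact congrArg _ hxs

include Mo in
theorem exists_smul_eq_locMap_of_mem_triv (x : σ →₀ A')
    (hx : x ∈ triv (linearCombination A' (fun s => algebraMap R A' (f s)))) :
    ∃ s ∈ Mo, ∃ t ∈ triv (linearCombination R f), s • x = locMap A' t := by
  induction hx using Submodule.span_induction with
  | mem y hy =>
    obtain ⟨a, b, rfl⟩ := hy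
    obtain ⟨s₁, hs₁, a₀, ha₀⟩ := exists_integer_finsupp Mo A' a
    obtain ⟨s₂, hs₂, b₀, hb₀⟩ := exists_integer_finsupp Mo A' b
    refine ⟨s₁ * s₂, Mo.mul_mem hs₁ hs₂,
      linearCombination R f a₀ • b₀ - linearCombination R f b₀ • a₀, sub_mem_triv _ _ _, ?_⟩
    have e1 : algebraMap R A' (linearCombination R f a₀) =
        algebraMap R A' s₁ * linearCombination A' (fun s => algebraMap R A' (f s)) a := by
      rw [← linearCombination_locMap, ← ha₀, LinearMap.map_smul_of_tower, Algebra.smul_def]
    have e2 : algebraMap R A' (linearCombination R f b₀) =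
        algebraMap R A' s₂ * linearCombination A' (fun s => algebraMap R A' (f s)) b := by
      rw [← linearCombination_locMap, ← hb₀, LinearMap.map_smul_of_tower, Algebra.smul_def]
    rw [map_sub, map_smul, map_smul, ← ha₀, ← hb₀]
    ext i
    simp only [Finsupp.smul_apply, Finsupp.sub_apply, Algebra.smul_def, e1, e2, map_mul,
      Algebra.algebraMap_self, RingHom.id_apply]
    ring
  | zero => exact ⟨1, Mo.one_mem, 0, Submodule.zero_mem _, by simp⟩
  | add y z _ _ hy hz =>
    obtain ⟨s₁, hs₁, t₁, ht₁, h₁⟩ := hy
    obtain ⟨s₂, hs₂, t₂, ht₂, h₂⟩ := hz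
    refine ⟨s₁ * s₂, Mo.mul_mem hs₁ hs₂, s₂ • t₁ + s₁ • t₂,
      Submodule.add_mem _ (Submodule.smul_mem _ _ ht₁) (Submodule.smul_mem _ _ ht₂), ?_⟩
    rw [map_add, map_smul, map_smul, ← h₁, ← h₂, smul_add, smul_smul, smul_smul, mul_comm s₂ s₁]
  | smul c y _ hy =>
    obtain ⟨s, hs, t, ht, h⟩ := hy
    obtain ⟨⟨c₀, s₀⟩, hcs⟩ := IsLocalization.surj Mo c
    refine ⟨s₀ * s, Mo.mul_mem s₀.2 hs, c₀ • t, Submodule.smul_mem _ _ ht, ?_⟩
    rw [map_smul, ← h]
    have hcs' : c * algebraMap R A' s₀ = algebraMap R A' c₀ := hcs
    ext i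
    simp only [Finsupp.smul_apply, Algebra.smul_def, map_mul, ← hcs',
      Algebra.algebraMap_self, RingHom.id_apply]
    ring

include Mo in
lemma exists_smul_eq_zero_of_locMap_eq_zero (y : σ →₀ R) (h : locMap A' y = 0) :
    ∃ u ∈ Mo, u • y = 0 := by
  classical
  have h1 : ∀ i, ∃ u : Mo, (u : R) * y i = 0 := by
    intro i
    have : algebraMap R A' (y i) = 0 := by
      have := DFunLike.congr_fun h i
      simpa using this
    exact (IsLocalization.map_eq_zero_iff Mo A' (y i)).mp this
  choose u hu using h1
  refine ⟨∏ i ∈ y.support, (u i : R), Submonoid.prod_mem _ fun i _ => (u i).2, ?_⟩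
  ext i
  rw [Finsupp.smul_apply, Finsupp.zero_apply, smul_eq_mul]
  by_cases hi : i ∈ y.support
  · rw [← Finset.mul_prod_erase _ _ hi, mul_comm (u i : R), mul_assoc, hu, mul_zero]
  · rw [Finsupp.notMem_support_iff.mp hi, mul_zero]

end CD

section LG

variable {R : Type u} [CommRing R] {σ : Type v} (f : σ → R)

/-- local–global principle: if at every maximal ideal containing `I = (f_s)` the ideal `I` is generated
by a regular sequence, then every relation of the `f_s` with coefficients in `I` is trivial. -/
theorem mem_triv_of_locally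
    (hloc : ∀ (𝔫 : Ideal R) [𝔫.IsMaximal], Ideal.span (Set.range f) ≤ 𝔫 →
      ∃ (c : ℕ) (g : Fin c → Localization.AtPrime 𝔫),
        Ideal.span (Set.range fun s => algebraMap R (Localization.AtPrime 𝔫) (f s)) =
          Ideal.span (Set.range g) ∧
        ∀ k : Fin c, ∀ x, x * g k ∈ Ideal.span (g '' {i | i < k}) →
          x ∈ Ideal.span (g '' {i | i < k}))
    (q : σ →₀ R) (hq : linearCombination R f q = 0)
    (hqI : ∀ s, q s ∈ Ideal.span (Set.range f)) :
    q ∈ triv (linearCombination R f) := by
  classical
  let 𝔞 : Ideal R := (triv (linearCombination R f)).comap (LinearMap.toSpanSingleton R (σ →₀ R) q)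
  have h𝔞 : ∀ r, r ∈ 𝔞 ↔ r • q ∈ triv (linearCombination R f) := fun r => Iff.rfl
  suffices h : 𝔞 = ⊤ by
    have h1 : (1 : R) ∈ 𝔞 := h ▸ Submodule.mem_top
    rw [h𝔞, one_smul] at h1
    exact h1
  by_contra hne
  obtain ⟨𝔫, h𝔫, hle⟩ := Ideal.exists_le_maximal 𝔞 hne
  by_cases hI : Ideal.span (Set.range f) ≤ 𝔫
  · obtain ⟨c, g, hfg, hreg⟩ := hloc 𝔫 hI
    have hq' : linearCombination (Localization.AtPrime 𝔫)
        (fun s => algebraMap R (Localization.AtPrime 𝔫) (f s)) (locMap (Localization.AtPrime 𝔫) q) = 0 := by
      rw [linearCombination_locMap, hq, map_zero]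
    have hqI' : ∀ s, locMap (Localization.AtPrime 𝔫) q s ∈
        Ideal.span (Set.range fun s => algebraMap R (Localization.AtPrime 𝔫) (f s)) := by
      intro s
      have h1 : Ideal.span (Set.range fun s => algebraMap R (Localization.AtPrime 𝔫) (f s)) =
          (Ideal.span (Set.range f)).map (algebraMap R (Localization.AtPrime 𝔫)) := by
        rw [Ideal.map_span, ← Set.range_comp]
        rfl
      rw [h1, locMap_apply]
      exact Ideal.mem_map_of_mem _ (hqI s)
    have h2 := mem_triv_of_regular_generators
      (fun s => algebraMap R (Localization.AtPrime 𝔫) (f s)) g hfg hreg _ hq' hqI'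
    obtain ⟨s, hs, t, ht, hst⟩ := exists_smul_eq_locMap_of_mem_triv 𝔫.primeCompl
      (Localization.AtPrime 𝔫) f _ h2
    have h3 : locMap (Localization.AtPrime 𝔫) (s • q - t) = 0 := by
      rw [map_sub, map_smul, hst, sub_self]
    obtain ⟨u, hu, hu0⟩ := exists_smul_eq_zero_of_locMap_eq_zero 𝔫.primeCompl
      (Localization.AtPrime 𝔫) _ h3
    have h4 : (u * s) ∈ 𝔞 := by
      rw [h𝔞, mul_smul]
      have : u • s • q = u • t := by
        rw [smul_sub, sub_eq_zero] at hu0
        exact hu0
      rw [this]
      exact Submodule.smul_mem _ _ ht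
    exact (𝔫.primeCompl.mul_mem hu hs) (hle h4)
  · obtain ⟨a, haI, ha𝔫⟩ := SetLike.not_le_iff_exists.mp hI
    obtain ⟨x, hx⟩ := (Finsupp.mem_span_range_iff_exists_finsupp).mp haI
    have hx' : linearCombination R f x = a := hx
    have h1 := sub_mem_triv (linearCombination R f) x q
    rw [hq, zero_smul, sub_zero, hx'] at h1
    exact ha𝔫 (hle ((h𝔞 a).mpr h1))

end LG

end Groth.Agent.LibCotT29
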