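import Groth.Agent.LibCotT29b
import Groth.Agent.LibCotT29e
import Mathlib.RingTheory.TensorProduct.Free

/-!
# Vanishing of `T²` from injectivity of `d₂` (seat helper29)

* `d2_injective_of` : if every relation with coefficients in `I` is a Koszul relation then `d₂` is injective.
* `exists_retraction_d2` : if moreover `I/I²` is projective, `d₂` has a retraction.
* `subsingleton_T2_of_retraction` / `exists_retraction_of_subsingleton_T2`.
-/

set_option autoImplicit false
universe u v w t m

open TensorProduct CotT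

noncomputable section

namespace Groth.Agent.LibCotT29

variable {A : Type u} {B : Type v} {ι : Type w} {σ : Type t}
variable [CommRing A] [CommRing B] [Algebra A B]
variable (P : Algebra.Presentation A B ι σ)

theorem exists_nu_eq (z : L2 P) : ∃ q : relKer P, z = nu P q := by
  obtain ⟨y, rfl⟩ := Submodule.Quotient.mk_surjective _ z
  obtain ⟨q, rfl⟩ := TensorProduct.mk_surjective P.toExtension.Ring (relKer P) B
    P.toExtension.algebraMap_surjective y
  exact ⟨q, rfl⟩

theorem mem_ker_of_one_tmul_eq_zero (f : relMod P)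
    (hf : (1 : B) ⊗ₜ[P.toExtension.Ring] f = (0 : L1 P)) (s : σ) : f s ∈ P.toExtension.ker := by
  have h1 : (L1basis P).repr ((1 : B) ⊗ₜ[P.toExtension.Ring] f) s = algebraMap P.toExtension.Ring B (f s) := by
    rw [L1basis]
    erw [Algebra.TensorProduct.basis_repr_tmul]
    rw [one_smul, Finsupp.mapRange_apply, Finsupp.basisSingleOne_repr]
    rfl
  rw [hf, map_zero, Finsupp.zero_apply] at h1
  exact h1.symm

theorem d2_injective_of
    (h : ∀ q : relMod P, jmap P q = 0 → (∀ s, q s ∈ P.toExtension.ker) → q ∈ trivRel P) :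
    Function.Injective (d2 P) := by
  rw [injective_iff_map_eq_zero]
  intro z hz
  obtain ⟨q, rfl⟩ := exists_nu_eq P z
  rw [nu_apply, d2_mk_tmul] at hz
  rw [nu_eq_zero_of_mem]
  exact h q q.2 (mem_ker_of_one_tmul_eq_zero P _ hz)

theorem exists_retraction_d2 [Module.Projective B P.toExtension.Cotangent]
    (hinj : Function.Injective (d2 P)) : ∃ r : L1 P →ₗ[B] L2 P, r ∘ₗ d2 P = LinearMap.id := by
  obtain ⟨sec, hsec⟩ := Module.projective_lifting_property (toCot P) LinearMap.id (toCot_surjective P)
  let π : L1 P →ₗ[B] L1 P := LinearMap.id - sec ∘ₗ toCot P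
  have hπ : ∀ x, π x ∈ LinearMap.range (d2 P) := by
    intro x
    apply ker_toCot_le
    rw [LinearMap.mem_ker]
    have h1 : toCot P (sec (toCot P x)) = toCot P x := LinearMap.congr_fun hsec (toCot P x)
    simp only [π, LinearMap.sub_apply, LinearMap.id_apply, LinearMap.comp_apply, map_sub, h1, sub_self]
  let e := LinearEquiv.ofInjective (d2 P) hinj
  refine ⟨e.symm.toLinearMap ∘ₗ (π.codRestrict (LinearMap.range (d2 P)) hπ), ?_⟩
  refine LinearMap.ext fun z => ?_
  rw [LinearMap.comp_apply, LinearMap.id_apply]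
  apply hinj
  have h2 : d2 P (e.symm (π.codRestrict (LinearMap.range (d2 P)) hπ (d2 P z))) =
      π (d2 P z) := by
    have := e.apply_symm_apply (π.codRestrict (LinearMap.range (d2 P)) hπ (d2 P z))
    exact congrArg Subtype.val this
  erw [h2]
  have h3 : toCot P (d2 P z) = 0 := LinearMap.congr_fun (toCot_comp_d2 P) z
  simp only [π, LinearMap.sub_apply, LinearMap.id_apply, LinearMap.comp_apply, h3, map_zero, sub_zero]

theorem subsingleton_T2_of_retraction (r : L1 P →ₗ[B] L2 P) (hr : r ∘ₗ d2 P = LinearMap.id)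
    (M : Type m) [AddCommGroup M] [Module B M] : Subsingleton (T2 P M) := by
  apply Submodule.Quotient.subsingleton_iff.mpr
  rw [eq_top_iff]
  intro φ _
  refine ⟨φ ∘ₗ r, ?_⟩
  rw [d2Star_apply, LinearMap.comp_assoc, hr, LinearMap.comp_id]

theorem exists_retraction_of_subsingleton_T2 (h : Subsingleton (T2 P (L2 P))) :
    ∃ r : L1 P →ₗ[B] L2 P, r ∘ₗ d2 P = LinearMap.id := by
  have h1 := Submodule.Quotient.subsingleton_iff.mp h
  have h2 : (LinearMap.id : L2 P →ₗ[B] L2 P) ∈ LinearMap.range (d2Star P (L2 P)) := h1 ▸ Submodule.mem_top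
  obtain ⟨ψ, hψ⟩ := h2
  exact ⟨ψ, hψ⟩

end Groth.Agent.LibCotT29

end
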