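import Mathlib.RingTheory.Localization.Ideal
import Mathlib.RingTheory.Localization.AtPrime.Basic
import Mathlib.RingTheory.Ideal.Quotient.Operations

/-!
# Localization of a quotient at a prime vs quotient of the localization (helper29)

For `I ≤ Q` ideals of `B` with `Q` prime: `(B/I)_{Q/I} ≃ B_Q / I B_Q`.
-/

set_option autoImplicit false

namespace Groth.Agent.LibQuotLoc29

universe u

variable (B : Type u) [CommRing B] (I Q : Ideal B) [Q.IsPrime]

lemma isPrime_map_mk (hIQ : I ≤ Q) : (Q.map (Ideal.Quotient.mk I)).IsPrime :=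
  Ideal.map_isPrime_of_surjective Ideal.Quotient.mk_surjective (by rwa [Ideal.mk_ker])

lemma algebraMapSubmonoid_eq (hIQ : I ≤ Q) :
    Algebra.algebraMapSubmonoid (B ⧸ I) Q.primeCompl =
      (Q.map (Ideal.Quotient.mk I)).primeCompl (hp := isPrime_map_mk B I Q hIQ) := by
  have := isPrime_map_mk B I Q hIQ
  ext x
  obtain ⟨b0, rfl⟩ := Ideal.Quotient.mk_surjective x
  rw [Ideal.mem_primeCompl_iff, Ideal.mem_quotient_iff_mem hIQ]
  constructor
  · rintro ⟨b, hb, hbb⟩
    intro hb0
    apply hb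
    have h1 : b - b0 ∈ I := by
      rw [← Ideal.Quotient.eq_zero_iff_mem, map_sub, sub_eq_zero]
      exact hbb
    have h2 : b = (b - b0) + b0 := by ring
    rw [h2]
    exact Q.add_mem (hIQ h1) hb0
  · intro hb0
    exact ⟨b0, hb0, rfl⟩

lemma isLocalization_atPrime_quotient (hIQ : I ≤ Q) :
    @IsLocalization.AtPrime _ _
      (Localization.AtPrime Q ⧸ I.map (algebraMap B (Localization.AtPrime Q))) _ _
      (Q.map (Ideal.Quotient.mk I)) (isPrime_map_mk B I Q hIQ) := by
  have h : IsLocalization (Algebra.algebraMapSubmonoid (B ⧸ I) Q.primeCompl)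
    (Localization.AtPrime Q ⧸ I.map (algebraMap B (Localization.AtPrime Q))) := inferInstance
  rwa [algebraMapSubmonoid_eq B I Q hIQ] at h

/-- `(B/I)_{Q/I} ≃ B_Q / I B_Q`. -/
noncomputable def quotLocEquiv (hIQ : I ≤ Q) :
    @Localization.AtPrime _ _ (Q.map (Ideal.Quotient.mk I)) (isPrime_map_mk B I Q hIQ) ≃+*
      (Localization.AtPrime Q ⧸ I.map (algebraMap B (Localization.AtPrime Q))) :=
  haveI := isPrime_map_mk B I Q hIQ
  haveI := isLocalization_atPrime_quotient B I Q hIQ
  (IsLocalization.algEquiv (Q.map (Ideal.Quotient.mk I)).primeCompl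
    (Localization.AtPrime (Q.map (Ideal.Quotient.mk I)))
    (Localization.AtPrime Q ⧸ I.map (algebraMap B (Localization.AtPrime Q)))).toRingEquiv

end Groth.Agent.LibQuotLoc29
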