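import Groth.Statements.S12288
import Groth.Agent.LibCotT29d
import Groth.Agent.LibCotT29f
-- import your own Groth.Agent.* helpers here

set_option autoImplicit false
universe u w m
open scoped TensorProduct
open DefT

namespace Groth.Agent.S12288

open CotT

/-- elementwise form of weak regularity -/
lemma mem_of_mul_mem {A : Type u} [CommRing A] (rs : List A) (hreg : RingTheory.Sequence.IsWeaklyRegular A rs)
    (i : ℕ) (h : i < rs.length) (x : A) (hx : x * rs[i] ∈ Ideal.ofList (rs.take i)) :
    x ∈ Ideal.ofList (rs.take i) := by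
  have h1 := hreg.regular_mod_prev i h
  have h2 : (Ideal.ofList (rs.take i) • ⊤ : Submodule A A) = Ideal.ofList (rs.take i) := by
    rw [smul_eq_mul, Ideal.mul_top]
  have h3 : rs[i] • (Submodule.Quotient.mk x : A ⧸ (Ideal.ofList (rs.take i) • ⊤ : Submodule A A)) =
      rs[i] • (Submodule.Quotient.mk 0 : A ⧸ (Ideal.ofList (rs.take i) • ⊤ : Submodule A A)) := by
    rw [← Submodule.Quotient.mk_smul, ← Submodule.Quotient.mk_smul, smul_zero, Submodule.Quotient.mk_zero,
      Submodule.Quotient.mk_eq_zero, h2, smul_eq_mul, mul_comm]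
    exact hx
  have h4 := h1 h3
  rw [Submodule.Quotient.mk_zero, Submodule.Quotient.mk_eq_zero, h2] at h4
  exact h4

lemma image_lt_eq {A : Type u} (rs : List A) (k : Fin rs.length) :
    (fun i : Fin rs.length => rs[i]) '' {i | i < k} = {x | x ∈ rs.take k} := by
  ext x
  simp only [Set.mem_image, Set.mem_ofPred_eq, List.mem_take_iff_getElem]
  constructor
  · rintro ⟨i, hi, rfl⟩
    exact ⟨i, by simp only [lt_min_iff]; exact ⟨hi, i.2⟩, rfl⟩
  · rintro ⟨i, hi, rfl⟩
    rw [lt_min_iff] at hi
    exact ⟨⟨i, hi.2⟩, hi.1, rfl⟩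

/-- the presentation with no variables and the given sequence as relations -/
noncomputable def seqPres (A B : Type u) [CommRing A] [CommRing B] [Algebra A B]
    (hs : Function.Surjective (algebraMap A B)) (rs : List A)
    (hI : RingHom.ker (algebraMap A B) = Ideal.ofList rs) :
    Algebra.Presentation A B PEmpty.{u+1} (Fin rs.length) where
  __ := Algebra.Generators.ofSurjective (PEmpty.elim : PEmpty.{u+1} → B) (by
      intro b
      obtain ⟨a, rfl⟩ := hs b
      exact ⟨MvPolynomial.C a, by simp⟩)
  relation k := MvPolynomial.C (rs[k])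
  span_range_relation_eq_ker := by
    apply le_antisymm
    · rw [Ideal.span_le]
      rintro _ ⟨k, rfl⟩
      rw [SetLike.mem_coe, Algebra.Generators.ker_eq_ker_aeval_val, RingHom.mem_ker]
      change MvPolynomial.aeval _ (MvPolynomial.C rs[k]) = 0
      rw [MvPolynomial.aeval_C]
      have : rs[k] ∈ RingHom.ker (algebraMap A B) := by
        rw [hI]
        exact Ideal.subset_span (List.getElem_mem k.2)
      exact this
    · intro x hx
      rw [Algebra.Generators.ker_eq_ker_aeval_val, RingHom.mem_ker] at hx
      let e := MvPolynomial.isEmptyRingEquiv A PEmpty.{u+1}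
      have hx1 : x = MvPolynomial.C (e x) := by
        rw [← MvPolynomial.isEmptyRingEquiv_symm_apply A PEmpty.{u+1} (e x)]
        exact (e.symm_apply_apply x).symm
      rw [hx1] at hx
      change MvPolynomial.aeval _ (MvPolynomial.C (e x)) = 0 at hx
      rw [MvPolynomial.aeval_C] at hx
      have hx2 : e x ∈ Ideal.ofList rs := by
        rw [← hI]
        exact hx
      have hx3 : MvPolynomial.C (e x) ∈ Ideal.map (MvPolynomial.C : A →+* MvPolynomial PEmpty.{u+1} A)
          (Ideal.ofList rs) := Ideal.mem_map_of_mem _ hx2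
      rw [hx1]
      refine (Ideal.map_le_iff_le_comap.mpr ?_) hx3
      change Ideal.span _ ≤ _
      rw [Ideal.span_le]
      intro a ha
      obtain ⟨k, hk, rfl⟩ := List.getElem_of_mem ha
      exact Ideal.subset_span ⟨⟨k, hk⟩, rfl⟩


/-- Let A be a local ring and A → B a surjective ring homomorphism whose kernel is generated by a
regular sequence a_1, …, a_r on A (each a_i is a non-zero-divisor on A/(a_1, …, a_{i-1}) and the
ideal is proper). Then T^2(B/A, M) = 0 for every B-module M, the module being computed from the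
choice-free presentation of B over A. -/
theorem result
    (A B : Type u) [CommRing A] [IsLocalRing A] [CommRing B] [Algebra A B]
    (hs : Function.Surjective (algebraMap A B)) (rs : List A) (hreg : RingTheory.Sequence.IsRegular A rs)
    (hI : RingHom.ker (algebraMap A B) = Ideal.ofList rs) (M : Type u) [AddCommGroup M] [Module B M] :
    Subsingleton (CotT.T2 (CotT.canon A B) M) := by
  let P₀ := seqPres A B hs rs hI
  let e := MvPolynomial.isEmptyRingEquiv A PEmpty.{u+1}
  have hregR : ∀ k : Fin rs.length, ∀ x : MvPolynomial PEmpty.{u+1} A,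
      x * MvPolynomial.C rs[k] ∈ Ideal.span ((fun i : Fin rs.length => (MvPolynomial.C rs[i] :
        MvPolynomial PEmpty.{u+1} A)) '' {i | i < k}) →
      x ∈ Ideal.span ((fun i : Fin rs.length => (MvPolynomial.C rs[i] :
        MvPolynomial PEmpty.{u+1} A)) '' {i | i < k}) := by
    intro k x hx
    have hspan : Ideal.span ((fun i : Fin rs.length => (MvPolynomial.C rs[i] :
        MvPolynomial PEmpty.{u+1} A)) '' {i | i < k}) = (Ideal.ofList (rs.take k)).comap e := by
      rw [← Ideal.map_symm, Ideal.ofList, ← image_lt_eq, Ideal.map_span, ← Set.image_comp]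
      congr 2
    rw [hspan, Ideal.mem_comap] at hx ⊢
    rw [map_mul] at hx
    have : e (MvPolynomial.C rs[k]) = rs[k] := by
      rw [← MvPolynomial.isEmptyRingEquiv_symm_apply A PEmpty.{u+1} rs[k]]
      exact e.apply_symm_apply _
    change e x * e (MvPolynomial.C rs[k]) ∈ _ at hx
    rw [this] at hx
    exact mem_of_mul_mem rs hreg.toIsWeaklyRegular k k.2 (e x) hx
  have hker : relKer P₀ ≤ trivRel P₀ :=
    Groth.Agent.LibCotT29.ker_le_triv_of_regular (r := rel P₀) hregR
  have hL2 : Subsingleton (L2 P₀) := by
    refine ⟨fun a b => ?_⟩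
    have h0 : ∀ z : L2 P₀, z = 0 := by
      intro z
      induction z using Submodule.Quotient.induction_on with
      | H z =>
        induction z using TensorProduct.induction_on with
        | zero => rfl
        | add x y hx hy => rw [Submodule.Quotient.mk_add, hx, hy, add_zero]
        | tmul b q =>
          rw [Submodule.Quotient.mk_eq_zero]
          exact ⟨b ⊗ₜ ⟨q, hker q.2⟩, rfl⟩
    rw [h0 a, h0 b]
  have hT2 : Subsingleton (T2 P₀ M) := by
    have : Subsingleton (L2 P₀ →ₗ[B] M) := ⟨fun f g => LinearMap.ext fun x => by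
      rw [Subsingleton.elim x 0, map_zero, map_zero]⟩
    exact inferInstance
  obtain ⟨e2⟩ := Groth.Agent.LibCotT29.nonempty_T2_equiv (CotT.canon A B) P₀ M
  exact e2.toEquiv.subsingleton

end Groth.Agent.S12288
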