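import Groth.Statements.S9442
import Groth.Agent.S2451
import Groth.Agent.Lib.Helper24.SmoothRegular
import Groth.Agent.Lib.Helper15.Regular
-- import your own Groth.Agent.* helpers here

set_option autoImplicit false
universe u
open CAlg

namespace Groth.Agent.S9442

open TensorProduct IsLocalRing KaehlerDifferential

section alg

variable {P K : Type*} [CommRing P] [CommRing K] [Algebra P K]

lemma exists_one_tmul (hs : Function.Surjective (algebraMap P K)) (I : Ideal P)
    (z : K ⊗[P] I) : ∃ i : I, z = 1 ⊗ₜ[P] i := by
  induction z using TensorProduct.induction_on with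
  | zero => exact ⟨0, by simp⟩
  | tmul a i =>
    obtain ⟨p, rfl⟩ := hs a
    refine ⟨p • i, ?_⟩
    rw [Algebra.algebraMap_eq_smul_one, TensorProduct.smul_tmul]
  | add x y hx hy =>
    obtain ⟨i, rfl⟩ := hx
    obtain ⟨j, rfl⟩ := hy
    exact ⟨i + j, by rw [TensorProduct.tmul_add]⟩

lemma lTensor_inclusion_injective (hs : Function.Surjective (algebraMap P K)) (I : Ideal P)
    (hIm : I ≤ RingHom.ker (algebraMap P K))
    (h : I ⊓ RingHom.ker (algebraMap P K) ^ 2 ≤ RingHom.ker (algebraMap P K) * I) :
    Function.Injective ((Submodule.inclusion hIm).lTensor K) := by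
  rw [injective_iff_map_eq_zero]
  intro z hz
  obtain ⟨i, rfl⟩ := exists_one_tmul hs I z
  rw [LinearMap.lTensor_tmul] at hz
  -- the iso `K ⊗ m ≃ m / m m`
  let e₁ : (P ⧸ RingHom.ker (algebraMap P K)) ≃ₐ[P] K :=
    Ideal.quotientKerAlgEquivOfSurjective (f := Algebra.ofId P K) hs
  let Φ : K ⊗[P] (RingHom.ker (algebraMap P K)) ≃ₗ[P]
      (RingHom.ker (algebraMap P K)) ⧸ (RingHom.ker (algebraMap P K) •
        (⊤ : Submodule P (RingHom.ker (algebraMap P K)))) :=
    (TensorProduct.congr e₁.symm.toLinearEquiv (LinearEquiv.refl P _)) ≪≫ₗ
      TensorProduct.quotTensorEquivQuotSMul _ _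
  have hΦ : ∀ x : RingHom.ker (algebraMap P K), Φ (1 ⊗ₜ x) = Submodule.Quotient.mk x := by
    intro x
    simp only [Φ, LinearEquiv.trans_apply, TensorProduct.congr_tmul, AlgEquiv.toLinearEquiv_apply,
      map_one, LinearEquiv.refl_apply]
    exact TensorProduct.quotTensorEquivQuotSMul_mk_one_tmul _ x
  have h1 := congrArg Φ hz
  rw [hΦ, map_zero, Submodule.Quotient.mk_eq_zero, Submodule.mem_smul_top_iff] at h1
  have h2 : (i : P) ∈ I ⊓ RingHom.ker (algebraMap P K) ^ 2 := by
    refine ⟨i.2, ?_⟩
    rw [sq]
    exact h1
  have h3 : i ∈ RingHom.ker (algebraMap P K) • (⊤ : Submodule P I) := by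
    rw [Submodule.mem_smul_top_iff]
    exact h h2
  refine Submodule.smul_induction_on h3 ?_ ?_
  · intro a ha j _
    rw [← TensorProduct.smul_tmul, ← Algebra.algebraMap_eq_smul_one, ha, TensorProduct.zero_tmul]
  · intro x y hx hy
    rw [TensorProduct.tmul_add, hx, hy, add_zero]

end alg

section main

variable (k : Type u) [Field k] (S : Type u) [CommRing S] [Algebra k S] [Algebra.FiniteType k S]
  (q : Ideal S) [q.IsPrime]

theorem formallySmooth_of_regular [Algebra.FormallySmooth k q.ResidueField]
    [IsRegularLocalRing (Localization.AtPrime q)] :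
    Algebra.FormallySmooth k (Localization.AtPrime q) := by
  obtain ⟨n, f₀, hf₀⟩ := Algebra.FiniteType.iff_quotient_mvPolynomial''.mp
    (inferInstance : Algebra.FiniteType k S)
  have hQ : (q.comap f₀).IsPrime := Ideal.comap_isPrime f₀ q
  let fP : Localization.AtPrime (q.comap f₀) →ₐ[k] Localization.AtPrime q :=
    IsLocalization.liftAlgHom (M := (q.comap f₀).primeCompl)
      (f := (IsScalarTower.toAlgHom k S (Localization.AtPrime q)).comp f₀) fun x ↦ by
        exact IsLocalization.map_units (M := q.primeCompl) (Localization.AtPrime q) ⟨f₀ x.1, x.2⟩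
  have hf₁ : Function.Surjective fP := by
    intro x
    obtain ⟨x, ⟨s, hs⟩, rfl⟩ := IsLocalization.exists_mk'_eq q.primeCompl x
    obtain ⟨x, rfl⟩ := hf₀ x
    obtain ⟨s, rfl⟩ := hf₀ s
    refine ⟨IsLocalization.mk' (M := (q.comap f₀).primeCompl) _ x ⟨s, hs⟩, ?_⟩
    simp [fP, IsLocalization.lift_mk', Units.mul_inv_eq_iff_eq_mul, IsUnit.liftRight]
  algebraize [fP.toRingHom]
  have : Algebra.FormallyEtale (MvPolynomial (Fin n) k) (Localization.AtPrime (q.comap f₀)) :=
    .of_isLocalization (q.comap f₀).primeCompl
  have : Algebra.FormallySmooth k (Localization.AtPrime (q.comap f₀)) :=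
    .comp _ (MvPolynomial (Fin n) k) _
  have : Module.Free (Localization.AtPrime (q.comap f₀)) Ω[Localization.AtPrime (q.comap f₀)⁄k] :=
    .of_equiv (KaehlerDifferential.tensorKaehlerEquivOfFormallyEtale k (MvPolynomial (Fin n) k)
      (Localization.AtPrime (q.comap f₀)))
  have : Module.Finite (Localization.AtPrime (q.comap f₀))
      Ω[Localization.AtPrime (q.comap f₀)⁄k] :=
    .equiv (KaehlerDifferential.tensorKaehlerEquivOfFormallyEtale k (MvPolynomial (Fin n) k)
      (Localization.AtPrime (q.comap f₀)))
  have hfg : (RingHom.ker (algebraMap (Localization.AtPrime (q.comap f₀))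
      (Localization.AtPrime q))).FG := IsNoetherian.noetherian _
  have : IsRegularLocalRing (Localization.AtPrime (q.comap f₀)) :=
    IsRegularRing.isRegularLocalRing_localization _
  have hf₁' : Function.Surjective (algebraMap (Localization.AtPrime (q.comap f₀))
      (Localization.AtPrime q)) := hf₁
  rw [Algebra.FormallySmooth.iff_injective_cotangentComplexBaseChange_residueField
    (P := Localization.AtPrime (q.comap f₀)) hf₁' hfg]
  -- the residue field as a local ring
  have hsK : Function.Surjective (algebraMap (Localization.AtPrime (q.comap f₀))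
      (ResidueField (Localization.AtPrime q))) := by
    rw [IsScalarTower.algebraMap_eq (Localization.AtPrime (q.comap f₀)) (Localization.AtPrime q)
      (ResidueField (Localization.AtPrime q))]
    exact (IsLocalRing.residue_surjective).comp hf₁'
  have hkerK : RingHom.ker (algebraMap (Localization.AtPrime (q.comap f₀))
      (ResidueField (Localization.AtPrime q))) = maximalIdeal (Localization.AtPrime (q.comap f₀)) :=
    IsLocalRing.eq_maximalIdeal (RingHom.ker_isMaximal_of_surjective _ hsK)
  have hK : Function.Injective (cotangentComplexBaseChange k (ResidueField (Localization.AtPrime q))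
      (Localization.AtPrime (q.comap f₀)) (ResidueField (Localization.AtPrime q))) := by
    refine (Algebra.FormallySmooth.iff_injective_cotangentComplexBaseChange
      (R := k) (S := ResidueField (Localization.AtPrime q))
      (Localization.AtPrime (q.comap f₀)) (ResidueField (Localization.AtPrime q)) hsK
      (IsNoetherian.noetherian _) ?_).mp ‹_›
    rw [IsLocalRing.maximalIdeal_eq_bot]
    exact bot_le
  have hle : RingHom.ker (algebraMap (Localization.AtPrime (q.comap f₀)) (Localization.AtPrime q)) ≤
      RingHom.ker (algebraMap (Localization.AtPrime (q.comap f₀))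
        (ResidueField (Localization.AtPrime q))) := by
    intro x hx
    rw [RingHom.mem_ker] at hx ⊢
    rw [IsScalarTower.algebraMap_apply (Localization.AtPrime (q.comap f₀)) (Localization.AtPrime q)
      (ResidueField (Localization.AtPrime q)), hx, map_zero]
  have key : ∀ z, cotangentComplexBaseChange k (Localization.AtPrime q)
      (Localization.AtPrime (q.comap f₀)) (ResidueField (Localization.AtPrime q)) z =
      cotangentComplexBaseChange k (ResidueField (Localization.AtPrime q))
        (Localization.AtPrime (q.comap f₀)) (ResidueField (Localization.AtPrime q))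
        ((Submodule.inclusion hle).lTensor (ResidueField (Localization.AtPrime q)) z) := by
    intro z
    induction z using TensorProduct.induction_on with
    | zero => simp
    | tmul a b =>
      rw [LinearMap.lTensor_tmul, cotangentComplexBaseChange_tmul, cotangentComplexBaseChange_tmul]
      rfl
    | add x y hx hy => rw [map_add, map_add, map_add, hx, hy]
  have : IsRegularLocalRing (Localization.AtPrime (q.comap f₀) ⧸
      RingHom.ker (algebraMap (Localization.AtPrime (q.comap f₀)) (Localization.AtPrime q))) :=
    IsRegularLocalRing.of_ringEquiv (RingHom.quotientKerEquivOfSurjective hf₁').symm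
  have hinf := Groth.Agent.Lib.helper15.inf_sq_eq_mul (Localization.AtPrime (q.comap f₀))
    (RingHom.ker (algebraMap (Localization.AtPrime (q.comap f₀)) (Localization.AtPrime q)))
  have hinj := lTensor_inclusion_injective hsK
    (RingHom.ker (algebraMap (Localization.AtPrime (q.comap f₀)) (Localization.AtPrime q))) hle
    (by rw [hkerK, hinf])
  intro x y hxy
  apply hinj
  apply hK
  rw [← key, ← key, hxy]

end main


/-- For a finite type algebra S over a field k and a prime q of S with κ(q) separable over k, S is
smooth over k at q if and only if S_q is a regular local ring. -/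
theorem result (k : Type u) [Field k]
    (S : Type u) [CommRing S] [Algebra k S] [Algebra.FiniteType k S] (q : Ideal S) [q.IsPrime]
    [Algebra.IsGeometricallyReduced k q.ResidueField] :
    Algebra.IsSmoothAt k q ↔ IsRegularLocalRing (Localization.AtPrime q) := by
  constructor
  · intro h
    have : Algebra.FinitePresentation k S :=
      Algebra.FinitePresentation.of_finiteType.mp inferInstance
    exact Groth.Agent.Lib.Helper24.SmoothRegular.isRegularLocalRing_atPrime_of_smoothAt k S q
  · intro h
    have : Algebra.FormallySmooth k q.ResidueField := Groth.Agent.S2451.result.2 inferInstance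
    exact formallySmooth_of_regular k S q

end Groth.Agent.S9442
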