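import Groth.Statements.S12290
import Groth.Agent.LibCotT29d
import Groth.Agent.LibCotT29e
import Groth.Agent.LibCotT29g
import Groth.Agent.LibCotT29h
import Groth.Agent.LibQuotLoc29
import Groth.Agent.Lib.Helper15.Regular
import Groth.Agent.Lib.Helper3.GeomRed
import Groth.Agent.Lib.Helper24.SmoothRegular
import Groth.Agent.S9442
import Groth.Agent.S12288
-- import your own Groth.Agent.* helpers here

set_option autoImplicit false
universe u w m
open scoped TensorProduct
open DefT

namespace Groth.Agent.S12290

open CotT Groth.Agent.LibCotT29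

/-- `T¹(B/k, -)` vanishes identically iff `B` is formally smooth over `k`. -/
theorem T1_canon_subsingleton_iff (k B : Type u) [CommRing k] [CommRing B] [Algebra k B] :
    (∀ (M : Type u) [AddCommGroup M] [Module B M], Subsingleton (CotT.T1 (CotT.canon k B) M)) ↔
      Algebra.FormallySmooth k B := by
  have hfs : Algebra.FormallySmooth k (CotT.canon k B).toExtension.Ring :=
    inferInstanceAs (Algebra.FormallySmooth k (MvPolynomial B k))
  rw [(CotT.canon k B).toExtension.formallySmooth_iff_split_injection]
  constructor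
  · intro h
    have h1 := h (CotT.canon k B).toExtension.Cotangent
    have h2 : (LinearMap.id : (CotT.canon k B).toExtension.Cotangent →ₗ[B] _) ∈
        LinearMap.ker (homToT1 (CotT.canon k B) (CotT.canon k B).toExtension.Cotangent) := by
      rw [LinearMap.mem_ker]
      exact Subsingleton.elim _ _
    rw [ker_homToT1] at h2
    obtain ⟨ψ, hψ⟩ := h2
    exact ⟨ψ, hψ⟩
  · rintro ⟨l, hl⟩ M _ _
    refine ⟨fun x y => ?_⟩
    have h0 : ∀ z : CotT.T1 (CotT.canon k B) M, z = 0 := by
      intro z
      obtain ⟨χ, rfl⟩ := surjective_homToT1 (CotT.canon k B) M z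
      rw [← LinearMap.mem_ker, ker_homToT1]
      refine ⟨χ ∘ₗ l, ?_⟩
      rw [LinearMap.lcomp_apply', LinearMap.comp_assoc, hl, LinearMap.comp_id]
    rw [h0 x, h0 y]

/-- over an algebraically closed field, formally smooth = regular for finite type algebras -/
theorem formallySmooth_iff_regular (k B : Type u) [Field k] [IsAlgClosed k] [CommRing B] [Algebra k B]
    [Algebra.FiniteType k B] :
    Algebra.FormallySmooth k B ↔
      ∀ (p : Ideal B) [p.IsPrime], IsRegularLocalRing (Localization.AtPrime p) := by
  have hfp : Algebra.FinitePresentation k B :=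
    Algebra.FinitePresentation.of_finiteType.mp inferInstance
  constructor
  · intro h p _
    exact Groth.Agent.Lib.Helper24.SmoothRegular.isRegularLocalRing_atPrime_of_smoothAt k B p
  · intro h
    have h1 : Algebra.smoothLocus k B = Set.univ := by
      rw [Set.eq_univ_iff_forall]
      intro p
      have := h p.asIdeal
      have hgr : Algebra.IsGeometricallyReduced k p.asIdeal.ResidueField :=
        Groth.Agent.Lib.helper3.GeomRed.isGeometricallyReduced_of_perfectField k _
      exact (Groth.Agent.S9442.result k B p.asIdeal).mpr this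
    have := Algebra.smoothLocus_eq_univ_iff.mp h1
    infer_instance

lemma ofList_take_ofFn {A : Type u} [CommRing A] {d c : ℕ} (x : Fin d → A) (hc : c ≤ d) (kk : Fin c) :
    Ideal.ofList ((List.ofFn x).take kk) =
      Ideal.span ((fun i : Fin c => x (Fin.castLE hc i)) '' {i | i < kk}) := by
  unfold Ideal.ofList
  congr 1
  ext a
  simp only [Set.mem_ofPred_eq, List.mem_take_iff_getElem, Set.mem_image]
  constructor
  · rintro ⟨i, hi, rfl⟩
    rw [lt_min_iff] at hi
    refine ⟨⟨i, by omega⟩, ?_, ?_⟩
    · exact Fin.mk_lt_of_lt_val hi.1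
    · simp
  · rintro ⟨i, hi, rfl⟩
    have hi' : (i : ℕ) < kk := hi
    refine ⟨i, ?_, ?_⟩
    · rw [lt_min_iff]
      exact ⟨hi', by simp; omega⟩
    · simp only [List.getElem_ofFn]
      rfl

/-- local regular generators of the kernel of a surjection between regular rings -/
theorem exists_regular_generators (R : Type u) [CommRing R] [IsRegularRing R] (I : Ideal R)
    [IsRegularRing (R ⧸ I)] (𝔫 : Ideal R) [𝔫.IsMaximal] (hI : I ≤ 𝔫) :
    ∃ (c : ℕ) (g : Fin c → Localization.AtPrime 𝔫),
      I.map (algebraMap R (Localization.AtPrime 𝔫)) = Ideal.span (Set.range g) ∧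
      ∀ k : Fin c, ∀ x, x * g k ∈ Ideal.span (g '' {i | i < k}) →
        x ∈ Ideal.span (g '' {i | i < k}) := by
  have hp : (𝔫.map (Ideal.Quotient.mk I)).IsPrime :=
    Groth.Agent.LibQuotLoc29.isPrime_map_mk R I 𝔫 hI
  have hreg' : IsRegularLocalRing (Localization.AtPrime (𝔫.map (Ideal.Quotient.mk I))) :=
    inferInstance
  have : IsRegularLocalRing (Localization.AtPrime 𝔫 ⧸
      I.map (algebraMap R (Localization.AtPrime 𝔫))) :=
    IsRegularLocalRing.of_ringEquiv (Groth.Agent.LibQuotLoc29.quotLocEquiv R I 𝔫 hI)
  obtain ⟨x, c, hc, hxm, hxI⟩ :=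
    Groth.Agent.Lib.helper15.exists_generators_of_regular_quotient (Localization.AtPrime 𝔫) _ rfl
      (I.map (algebraMap R (Localization.AtPrime 𝔫)))
  have hw := Groth.Agent.Lib.helper15.isWeaklyRegular_ofFn (Localization.AtPrime 𝔫) _ rfl x hxm
  refine ⟨c, fun i => x (Fin.castLE hc i), hxI, ?_⟩
  intro kk y hy
  rw [← ofList_take_ofFn x hc kk] at hy ⊢
  refine Groth.Agent.S12288.mem_of_mul_mem (List.ofFn x) hw kk
    (by rw [List.length_ofFn]; exact lt_of_lt_of_le kk.2 hc) y ?_
  have : (List.ofFn x)[(kk : ℕ)]'(by rw [List.length_ofFn]; exact lt_of_lt_of_le kk.2 hc) =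
      x (Fin.castLE hc kk) := by
    simp only [List.getElem_ofFn]
    rfl
  rw [this]
  exact hy

theorem T2_subsingleton_of_regular (k B : Type u) [Field k] [IsAlgClosed k] [CommRing B] [Algebra k B]
    [Algebra.FiniteType k B]
    (hreg : ∀ (p : Ideal B) [p.IsPrime], IsRegularLocalRing (Localization.AtPrime p))
    (M : Type u) [AddCommGroup M] [Module B M] : Subsingleton (CotT.T2 (CotT.canon k B) M) := by
  have hfp : Algebra.FinitePresentation k B :=
    Algebra.FinitePresentation.of_finiteType.mp inferInstance
  have hfs : Algebra.FormallySmooth k B := (formallySmooth_iff_regular k B).mpr hreg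
  let P₁ := Algebra.Presentation.ofFinitePresentation k B
  have hNoeth : IsNoetherianRing B := Algebra.FiniteType.isNoetherianRing k B
  have hregB : IsRegularRing B := isRegularRing_iff.mpr hreg
  have hR : IsRegularRing P₁.toExtension.Ring :=
    inferInstanceAs (IsRegularRing (MvPolynomial (Fin _) k))
  let e : (P₁.toExtension.Ring ⧸ P₁.toExtension.ker) ≃+* B :=
    RingHom.quotientKerEquivOfSurjective P₁.toExtension.algebraMap_surjective
  have hRI : IsRegularRing (P₁.toExtension.Ring ⧸ P₁.toExtension.ker) :=
    IsRegularRing.of_ringEquiv e.symm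
  have hfsR : Algebra.FormallySmooth k P₁.toExtension.Ring :=
    inferInstanceAs (Algebra.FormallySmooth k (MvPolynomial (Fin _) k))
  obtain ⟨l, hl⟩ := P₁.toExtension.formallySmooth_iff_split_injection.mp hfs
  have hfree : Module.Free B P₁.toExtension.CotangentSpace :=
    Module.Free.of_basis P₁.cotangentSpaceBasis
  have hproj : Module.Projective B P₁.toExtension.Cotangent :=
    Module.Projective.of_split P₁.toExtension.cotangentComplex l hl
  have hspan : Ideal.span (Set.range (rel P₁)) = P₁.toExtension.ker :=
    P₁.span_range_relation_eq_ker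
  have hinj : Function.Injective (d2 P₁) := by
    apply d2_injective_of
    intro q hq hqI
    refine mem_triv_of_locally (rel P₁) ?_ q hq (fun s => hspan ▸ hqI s)
    intro 𝔫 _ hI𝔫
    obtain ⟨c, g, hg1, hg2⟩ := exists_regular_generators P₁.toExtension.Ring P₁.toExtension.ker 𝔫
      (hspan ▸ hI𝔫)
    refine ⟨c, g, ?_, hg2⟩
    rw [← hg1, ← hspan, Ideal.map_span, ← Set.range_comp]
    rfl
  obtain ⟨r, hr⟩ := exists_retraction_d2 P₁ hinj
  have h1 := subsingleton_T2_of_retraction P₁ r hr M
  obtain ⟨e2⟩ := nonempty_T2_equiv (CotT.canon k B) P₁ M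
  exact e2.toEquiv.subsingleton


/-- Let k be an algebraically closed field and B a finitely generated k-algebra, X = Spec B. Then X is
nonsingular (localizing B at any prime ideal gives a regular local ring) exactly when T^1(B/k, M)
vanishes for every B-module M; and when X is nonsingular, T^2(B/k, M) vanishes too, for every
B-module M. Here T^1, T^2 are computed from the choice-free presentation of B over k. -/
theorem result
    (k B : Type u) [Field k] [IsAlgClosed k] [CommRing B] [Algebra k B] [Algebra.FiniteType k B] :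
    ((∀ (p : Ideal B) [p.IsPrime], IsRegularLocalRing (Localization.AtPrime p)) ↔
      ∀ (M : Type u) [AddCommGroup M] [Module B M], Subsingleton (CotT.T1 (CotT.canon k B) M)) ∧
    ((∀ (p : Ideal B) [p.IsPrime], IsRegularLocalRing (Localization.AtPrime p)) →
      ∀ (M : Type u) [AddCommGroup M] [Module B M], Subsingleton (CotT.T2 (CotT.canon k B) M)) := by
  refine ⟨?_, fun h M _ _ => T2_subsingleton_of_regular k B h M⟩
  rw [T1_canon_subsingleton_iff, formallySmooth_iff_regular]

end Groth.Agent.S12290
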