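import Groth.Statements.S1535
import Groth.Agent.Lib.Helper24.SmoothRegular
-- import your own Groth.Agent.* helpers here

set_option autoImplicit false
universe u
open CategoryTheory CategoryTheory.Limits AlgebraicGeometry
open Variety

namespace Groth.Agent.S1535

/-- If X is smooth over a field then every local ring of X is a regular local ring. -/
theorem result (k : Type u) [Field k] (X : Scheme.{u}) [X.Over (Spec (CommRingCat.of k))] [Smooth (X ↘ (Spec (CommRingCat.of k)))] (x : X) :
    IsRegularLocalRing (X.presheaf.stalk x) := by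
  set f : X ⟶ Spec (CommRingCat.of k) := X ↘ (Spec (CommRingCat.of k)) with hf
  have hU : IsAffineOpen (⊤ : (Spec (CommRingCat.of k)).Opens) := isAffineOpen_top _
  obtain ⟨V, hV, hxV, hVU⟩ := exists_isAffineOpen_mem_and_subset (X := X) (x := x)
    (U := f ⁻¹ᵁ ⊤) trivial
  have hφ : (f.appLE ⊤ V hVU).hom.Smooth := Smooth.smooth_appLE f hU hV hVU
  algebraize [(f.appLE ⊤ V hVU).hom]
  haveI : Algebra.Smooth Γ(Spec (CommRingCat.of k), ⊤) Γ(X, V) := inferInstance
  haveI hk : IsRegularRing k := inferInstance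
  haveI : IsRegularRing Γ(Spec (CommRingCat.of k), ⊤) :=
    IsRegularRing.of_ringEquiv (Scheme.ΓSpecIso (CommRingCat.of k)).commRingCatIsoToRingEquiv.symm
  haveI hB : IsRegularRing Γ(X, V) :=
    Groth.Agent.Lib.Helper24.SmoothRegular.isRegularRing_of_smooth
      Γ(Spec (CommRingCat.of k), ⊤) Γ(X, V)
  let q : Ideal Γ(X, V) := (hV.primeIdealOf ⟨x, hxV⟩).asIdeal
  letI := X.presheaf.algebra_section_stalk (⟨x, hxV⟩ : V)
  haveI iX : IsLocalization.AtPrime (X.presheaf.stalk x) q := hV.isLocalization_stalk ⟨x, hxV⟩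
  let eX : Localization.AtPrime q ≃ₐ[Γ(X, V)] X.presheaf.stalk x :=
    IsLocalization.algEquiv q.primeCompl _ _
  haveI : IsRegularLocalRing (Localization.AtPrime q) := inferInstance
  exact IsRegularLocalRing.of_ringEquiv eX.toRingEquiv

end Groth.Agent.S1535
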