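import Groth.Statements.S1640
import Mathlib
import Groth.Agent.Lib.Helper13.Approx1
-- import your own Groth.Agent.* helpers here

set_option autoImplicit false
universe u
open Variety

namespace Groth.Agent.S1640

open scoped WithZero
open IsDedekindDomain Groth.Agent.Lib.helper13.Approx

attribute [local instance] Groth.Agent.Lib.helper13.Approx.isFractionRing_integralClosure


/-- Let K be a field, A ⊆ K a subring with fraction field K, and B_1, …, B_r ⊆ K Noetherian
one-dimensional subrings with finitely many maximal ideals and fraction field K, such that for each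
i the subring generated by A and B_i is all of K. Then some nonzero x ∈ A has x⁻¹ lying in B_i and
in the Jacobson radical of B_i for every i. -/
theorem result (K : Type u) [Field K] (A : Subring K) [IsFractionRing A K]
    (r : ℕ) (B : Fin r → Subring K) [∀ i, IsNoetherianRing (B i)] [∀ i, IsFractionRing (B i) K]
    (hdim : ∀ i, ringKrullDim (B i) = 1) (hsl : ∀ i, Finite (MaximalSpectrum (B i)))
    (hgen : ∀ i, A ⊔ B i = ⊤) :
    ∃ x : K, x ∈ A ∧ x ≠ 0 ∧ ∀ i, ∃ hx : x⁻¹ ∈ B i, (⟨x⁻¹, hx⟩ : B i) ∈ (⊥ : Ideal (B i)).jacobson := by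
  classical
  have hdim' : ∀ i, ∀ p : Ideal (B i), p.IsPrime → p ≠ ⊥ → p.IsMaximal := by
    intro i p hp h0
    haveI : Ring.KrullDimLE 1 (B i) := Ring.krullDimLE_iff.mpr (by rw [hdim i]; rfl)
    exact hp.isMaximal_of_ne_bot h0
  have hfield : ∀ i, ¬ IsField (B i) := by
    intro i h
    have := ringKrullDim_eq_zero_of_isField h
    rw [hdim i] at this
    exact one_ne_zero this
  haveI hDed : ∀ i, IsDedekindDomain (integralClosure (B i) K) :=
    fun i => isDedekindDomain_integralClosure (hdim' i)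
  have ht : ∀ i, ∃ t : B i, t ≠ 0 ∧ ∀ m : Ideal (B i), m.IsMaximal → t ∈ m := by
    intro i
    haveI := hsl i
    haveI := Fintype.ofFinite (MaximalSpectrum (B i))
    have hs : ∀ m : MaximalSpectrum (B i), ∃ s : B i, s ∈ m.asIdeal ∧ s ≠ 0 := fun m =>
      Submodule.exists_mem_ne_zero_of_ne_bot
        (Ideal.bot_lt_of_maximal m.asIdeal (hfield i)).ne'
    choose s hs hs0 using hs
    refine ⟨∏ m, s m, Finset.prod_ne_zero_iff.mpr (fun m _ => hs0 m), fun m hm => ?_⟩
    rw [← Finset.mul_prod_erase Finset.univ s (Finset.mem_univ (⟨m, hm⟩ : MaximalSpectrum (B i)))]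
    exact Ideal.mul_mem_right _ _ (hs ⟨m, hm⟩)
  haveI hfin : ∀ i, Finite (HeightOneSpectrum (integralClosure (B i) K)) := by
    intro i
    obtain ⟨t, ht0, ht⟩ := ht i
    exact finite_heightOneSpectrum_integralClosure (hdim' i) t ht0 ht
  let w : (Σ i : Fin r, HeightOneSpectrum (integralClosure (B i) K)) → Valuation K ℤᵐ⁰ :=
    fun j => j.2.valuation K
  have hw : ∀ j, ∃ a ∈ A, 1 < w j a := by
    rintro ⟨i, v⟩
    refine exists_mem_one_lt_valuation A ?_ v
    have : (algebraMap (B i) K).range = B i := Subring.range_subtype (B i)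
    rw [this]
    exact hgen i
  obtain ⟨x, hxA, hx0, hx⟩ := exists_mem_forall_one_lt A w hw
  have hy : ∀ i, ∀ v : HeightOneSpectrum (integralClosure (B i) K), v.valuation K x⁻¹ < 1 := by
    intro i v
    rw [map_inv₀]
    exact inv_lt_one_of_one_lt₀ (hx ⟨i, v⟩)
  have hM : ∀ i, ∃ M : ℕ, ∀ M' ≥ M, ∃ c : B i, algebraMap (B i) K c = x⁻¹ ^ M' ∧
      c ∈ (⊥ : Ideal (B i)).jacobson :=
    fun i => exists_pow_of_valuation_lt (hdim' i) (hfield i) x⁻¹ (hy i)
  choose M hM using hM
  refine ⟨x ^ (Finset.univ.sup M), A.pow_mem hxA _, pow_ne_zero _ hx0, fun i => ?_⟩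
  obtain ⟨c, hc, hcJ⟩ := hM i (Finset.univ.sup M) (Finset.le_sup (Finset.mem_univ i))
  have hc' : (c : K) = (x ^ Finset.univ.sup M)⁻¹ := by
    rw [← inv_pow]; exact hc
  refine ⟨hc' ▸ c.2, ?_⟩
  have : (⟨(x ^ Finset.univ.sup M)⁻¹, hc' ▸ c.2⟩ : B i) = c := Subtype.ext hc'.symm
  rw [this]
  exact hcJ

end Groth.Agent.S1640
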