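import Groth.Statements.S1645
import Mathlib
import Groth.Agent.Lib.Helper18.DimOneGlue1
import Groth.Agent.Lib.Helper18.DimOneGlue2
import Groth.Agent.Lib.Helper11.SerreGG

set_option autoImplicit false
universe u
open CategoryTheory CategoryTheory.Limits AlgebraicGeometry
open Variety

namespace Groth.Agent.S1645

open Groth.Agent.Lib.Helper18.DimOneGlue
open Groth.Agent.Lib.helper11.IsoLocus

section
variable {X : Scheme.{u}} [IsIntegral X]

/-- sections over an open of an integral scheme are determined by their germ at the generic point -/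
theorem eq_of_germ_generic {O : X.Opens} (s s' : Γ(X, O))
    (h : ∀ hη : genericPoint X ∈ O, X.presheaf.germ O (genericPoint X) hη s =
      X.presheaf.germ O (genericPoint X) hη s') : s = s' := by
  by_cases hne : Nonempty O
  · exact germ_injective_of_isIntegral X (genericPoint X) (genericPoint_mem O) (h _)
  · have hO : O = ⊥ := eq_bot_iff.2 (fun y hy => (hne ⟨⟨y, hy⟩⟩).elim)
    subst hO
    exact Subsingleton.elim _ _

end

open Groth.Agent.Lib.helper11.SerreGG Opposite in
/-- a section generating `L` at `y` makes `L` generated by global sections near `y`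
(copy of helper9 `CurveGG.genAt_of_mem_isoLocus`, to keep the import closure small) -/
theorem genAt_of_mem_isoLocus {X : Scheme.{u}} {L : X.Modules} (t : Coh.structureModule X ⟶ L) {y : X}
    (hy : y ∈ isoLocus t) : GenAt L y := by
  have h1 : GenAtBy (Coh.structureModule X)
      (fun _ : Unit => (1 : X.ringCatSheaf.obj.obj (op ⊤))) y := by
    intro V σ hyV
    refine ⟨V, le_rfl, hyV, ?_⟩
    have h2 : Groth.Agent.Lib.helper12.TwistExtend.res (Coh.structureModule X) (le_refl V) σ = σ := by
      unfold Groth.Agent.Lib.helper12.TwistExtend.res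
      have : (homOfLE (le_refl V)).op = 𝟙 (op V) := rfl
      rw [this, (Coh.structureModule X).val.map_id]
      rfl
    rw [h2]
    have h3 : Groth.Agent.Lib.helper12.TwistExtend.res (Coh.structureModule X) (le_top : V ≤ ⊤)
        (1 : X.ringCatSheaf.obj.obj (op ⊤)) = (1 : X.ringCatSheaf.obj.obj (op V)) :=
      PresheafOfModules.unit_map_one _ _
    have h4 : σ = (show X.ringCatSheaf.obj.obj (op V) from σ) •
        (Groth.Agent.Lib.helper12.TwistExtend.res (Coh.structureModule X) (le_top : V ≤ ⊤)
          (1 : X.ringCatSheaf.obj.obj (op ⊤))) := by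
      rw [h3]
      exact (mul_one (show X.ringCatSheaf.obj.obj (op V) from σ)).symm
    rw [h4]
    exact Submodule.smul_mem _ _ (Submodule.subset_span ⟨(), rfl⟩)
  exact (genAtBy_of_mem_isoLocus t hy h1).genAt

/-- Let X be integral and separated and U a nonempty affine open outside of which there are only
finitely many points, each with a one-dimensional Noetherian local ring. Then there are a globally
generated invertible module L and a global section s with U equal to the locus where s generates L. -/
theorem result (X : Scheme.{u}) [IsIntegral X] [X.IsSeparated]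
    (U : X.Opens) (hU : IsAffineOpen U) (hne : (U : Set X).Nonempty) (hfin : ((U : Set X)ᶜ).Finite)
    (hloc : ∀ x : X, x ∉ U → IsNoetherianRing (X.presheaf.stalk x) ∧ ringKrullDim (X.presheaf.stalk x) = 1) :
    ∃ (L : X.Modules) (s : Coh.structureModule X ⟶ L), PicF.IsInvertible L ∧ Curv2.IsGloballyGenerated L ∧
      CohB1.genLocus L s = U := by
  haveI : Nonempty U := ⟨⟨hne.some, hne.some_mem⟩⟩
  obtain ⟨r, x, hx⟩ := hfin.fin_embedding
  have hxU : ∀ i, x i ∉ U := fun i => by
    have : x i ∈ (U : Set X)ᶜ := hx ▸ Set.mem_range_self i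
    exact this
  obtain ⟨a, g, hgm, hag⟩ := exists_pole_function hU r x hxU (fun i => hloc (x i) (hxU i))
  -- local representatives
  have hrep : ∀ i, ∃ (N : X.Opens) (hN : x i ∈ N) (σ : Γ(X, N)), X.presheaf.germ N (x i) hN σ = g i :=
    fun i => X.presheaf.exists_germ_eq (g i)
  choose N hN σ hσ using hrep
  -- the value of `σ i` in the function field
  have hσK : ∀ i (hη : genericPoint X ∈ N i),
      X.presheaf.germ (N i) (genericPoint X) hη (σ i) =
        algebraMap (X.presheaf.stalk (x i)) X.functionField (g i) := by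
    intro i hη
    haveI : Nonempty (N i) := ⟨⟨x i, hN i⟩⟩
    rw [← hσ i, Scheme.algebraMap_germ_eq_germToFunctionField]
  have haK : ∀ i, (algebraMap (X.presheaf.stalk (x i)) X.functionField (g i)) =
      (algebraMap Γ(X, U) X.functionField a)⁻¹ := fun i =>
    (eq_inv_of_mul_eq_one_right (hag i))
  -- glue
  have hcompat : TopCat.Presheaf.IsCompatible X.sheaf.1 N σ := by
    intro i j
    apply eq_of_germ_generic
    intro hη
    erw [TopCat.Presheaf.germ_res_apply, TopCat.Presheaf.germ_res_apply]
    rw [hσK i hη.1, hσK j hη.2, haK i, haK j]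
  obtain ⟨τ, hτ, -⟩ := X.sheaf.existsUnique_gluing N σ hcompat
  have hτ' : ∀ i, (X.presheaf.map (homOfLE (le_iSup N i)).op).hom τ = σ i := hτ
  have hτK : ∀ i (hη : genericPoint X ∈ iSup N),
      X.presheaf.germ (iSup N) (genericPoint X) hη τ =
        algebraMap (X.presheaf.stalk (x i)) X.functionField (g i) := by
    intro i hη
    have hηi : genericPoint X ∈ N i := by
      haveI : Nonempty (N i) := ⟨⟨x i, hN i⟩⟩
      exact genericPoint_mem (N i)
    rw [← hσK i hηi, ← hτ' i]
    exact (TopCat.Presheaf.germ_res_apply X.presheaf (homOfLE (le_iSup N i)) (genericPoint X) hηi τ).symm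
  have hfa : (X.presheaf.map (homOfLE (inf_le_left : iSup N ⊓ U ≤ iSup N)).op).hom τ *
      (X.presheaf.map (homOfLE (inf_le_right : iSup N ⊓ U ≤ U)).op).hom a = 1 := by
    apply eq_of_germ_generic
    intro hη
    obtain ⟨i, -⟩ := TopologicalSpace.Opens.mem_iSup.1 hη.1
    rw [map_mul, map_one]
    erw [TopCat.Presheaf.germ_res_apply, TopCat.Presheaf.germ_res_apply]
    rw [hτK i hη.1, mul_comm]
    exact hag i
  have hcov : ∀ y : X, y ∈ iSup N ∨ y ∈ U := by
    intro y
    by_cases hy : y ∈ U
    · exact Or.inr hy
    · left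
      have : y ∈ Set.range x := by rw [hx]; exact hy
      obtain ⟨i, rfl⟩ := this
      exact TopologicalSpace.Opens.mem_iSup.2 ⟨i, hN i⟩
  obtain ⟨L, s, t, hL, hUs, hNt, hs⟩ := exists_invertible_two_sections (iSup N) U τ a hfa hcov
  refine ⟨L, s, hL, ?_, ?_⟩
  · apply Groth.Agent.Lib.helper11.SerreGG.isGloballyGenerated_of_genAt L
    intro y
    rcases hcov y with hy | hy
    · exact genAt_of_mem_isoLocus t (hNt hy)
    · exact genAt_of_mem_isoLocus s (hUs hy)
  · rw [genLocus_eq_isoLocus]
    apply le_antisymm _ hUs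
    intro y hy
    by_contra hyU
    have : y ∈ Set.range x := by rw [hx]; exact hyU
    obtain ⟨i, rfl⟩ := this
    have hyN : x i ∈ iSup N := TopologicalSpace.Opens.mem_iSup.2 ⟨i, hN i⟩
    have h1 := hs (x i) hyN hy
    rw [X.mem_basicOpen τ (x i) hyN] at h1
    have h2 : X.presheaf.germ (iSup N) (x i) hyN τ = g i := by
      rw [← hσ i, ← hτ' i]
      exact (TopCat.Presheaf.germ_res_apply X.presheaf (homOfLE (le_iSup N i)) (x i) (hN i) τ).symm
    rw [h2] at h1
    exact (IsLocalRing.mem_maximalIdeal _).1 (hgm i) h1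

end Groth.Agent.S1645
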