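import Groth.Statements.S5096
import Groth.Agent.Lib.Helper26.KSections

set_option autoImplicit false
universe u
open CategoryTheory CategoryTheory.Limits AlgebraicGeometry TopologicalSpace
open Mero

namespace Groth.Agent.S5096

open Groth.Agent.Lib.helper26 Opposite

/-- The value at `y` of a unit of `Γ(U, K_X)`, as a unit of `K_{X,y}`. -/
noncomputable abbrev valU {X : Scheme.{u}} {U : X.Opens} (f : (Γ(Mero.kmod X, U))ˣ) (y : U) :
    (Mero.KStalk X y.1)ˣ :=
  Units.map (Mero.evalK X U y).toMonoidHom f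

theorem valU_inv_coe {X : Scheme.{u}} {U : X.Opens} (f : (Γ(Mero.kmod X, U))ˣ) (y : U) :
    ((↑(f⁻¹) : Γ(Mero.kmod X, U))).1 y = ((valU f y)⁻¹ : (Mero.KStalk X y.1)ˣ) := by
  rw [← map_inv]
  rfl

theorem valU_coe {X : Scheme.{u}} {U : X.Opens} (f : (Γ(Mero.kmod X, U))ˣ) (y : U) :
    ((f : Γ(Mero.kmod X, U))).1 y = (valU f y : (Mero.KStalk X y.1)ˣ) := rfl

/-- If `D` is given by the unit `f` on `U`, then `f⁻¹` satisfies the condition defining `O_X(D)` on `U`. -/
theorem divCond_inv {X : Scheme.{u}} (D : Mero.Divisor X) {U : X.Opens} (f : (Γ(Mero.kmod X, U))ˣ)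
    (hf : ∀ y : U, D.1 y.1 = Mero.germOf f y) (y : U) :
    Mero.DivCond D y.1 ((↑(f⁻¹) : Γ(Mero.kmod X, U)).1 y) := by
  intro g hg
  rw [hf y] at hg
  have hmem : (valU f y)⁻¹ * g ∈ Mero.stalkUnits X y.1 := QuotientGroup.eq.mp hg
  obtain ⟨r, hr⟩ := hmem
  rw [valU_inv_coe]
  refine ⟨(r : X.presheaf.stalk y.1), ?_⟩
  have := congrArg (fun z : (Mero.KStalk X y.1)ˣ => (z : Mero.KStalk X y.1)) hr
  simpa using this

variable {X : Scheme.{u}} (D : Mero.Divisor X) {U : X.Opens} (f : (Γ(Mero.kmod X, U))ˣ)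
  (hf : ∀ y : U, D.1 y.1 = Mero.germOf f y)

/-- The section `f⁻¹` of `O_X(D)` over an open `W ≤ U`. -/
noncomputable def invSection (W : X.Opens) (hW : W ≤ U) : Γ(Mero.divMod D, W) :=
  ⟨fun x => (↑(f⁻¹) : Γ(Mero.kmod X, U)).1 ⟨x.1, hW x.2⟩,
    ⟨((Mero.kmod X).presheaf.map (homOfLE hW).op (↑(f⁻¹) : Γ(Mero.kmod X, U))).2,
      fun x => divCond_inv D f hf ⟨x.1, hW x.2⟩⟩⟩

/-- The global section of the restriction of `O_X(D)` to `U` given by `f⁻¹`. -/
noncomputable def invSections : SheafOfModules.sections ((Mero.divMod D).restrict U.ι) :=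
  PresheafOfModules.sectionsMk
    (fun V => invSection D f hf (U.ι ''ᵁ V.unop) (U.ι_image_le V.unop))
    (fun _ _ _ => rfl)

/-- The morphism `O_U ⟶ O_X(D)|_U` given by multiplication with `f⁻¹`. -/
noncomputable def trivialization : Coh.structureModule (↑U) ⟶ (Mero.divMod D).restrict U.ι :=
  (SheafOfModules.unitHomEquiv ((Mero.divMod D).restrict U.ι)).symm (invSections D f hf)

theorem trivialization_app_apply (V : (↑U : Scheme.{u}).Opens) (r : Γ((↑U : Scheme.{u}), V))
    (x : ↥(U.ι ''ᵁ V)) :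
    (((trivialization D f hf).app V r : Γ((Mero.divMod D).restrict U.ι, V)) :
        Γ(Mero.divMod D, U.ι ''ᵁ V)).1 x =
      X.presheaf.germ (U.ι ''ᵁ V) x.1 x.2 ((U.ι.appIso V).inv r) •
        (↑(f⁻¹) : Γ(Mero.kmod X, U)).1 ⟨x.1, U.ι_image_le V x.2⟩ := rfl

theorem trivialization_app_injective (V : (↑U : Scheme.{u}).Opens) :
    Function.Injective ((trivialization D f hf).app V) := by
  intro r₁ r₂ h
  have key : (U.ι.appIso V).inv r₁ = (U.ι.appIso V).inv r₂ := by
    refine TopCat.Presheaf.section_ext X.sheaf _ _ _ fun z hz => ?_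
    have h1 := congrArg (fun t : Γ((Mero.divMod D).restrict U.ι, V) =>
      (t : Γ(Mero.divMod D, U.ι ''ᵁ V)).1 ⟨z, hz⟩) h
    simp only [trivialization_app_apply] at h1
    rw [valU_inv_coe, Algebra.smul_def, Algebra.smul_def] at h1
    have h2 := (Units.mul_left_inj _).mp h1
    exact Mero.algebraMap_KStalk_injective z h2
  have h3 := congrArg (U.ι.appIso V).hom key
  rw [Iso.inv_hom_id_apply, Iso.inv_hom_id_apply] at h3
  exact h3

theorem trivialization_app_surjective (V : (↑U : Scheme.{u}).Opens) :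
    Function.Surjective ((trivialization D f hf).app V) := by
  intro t
  let t' : Γ(Mero.divMod D, U.ι ''ᵁ V) := t
  have hW : U.ι ''ᵁ V ≤ U := U.ι_image_le V
  let fW : Γ(Mero.kmod X, U.ι ''ᵁ V) :=
    (Mero.kmod X).presheaf.map (homOfLE hW).op (f : Γ(Mero.kmod X, U))
  let t'' : Γ(Mero.kmod X, U.ι ''ᵁ V) := ⟨t'.1, t'.2.1⟩
  let k : Γ(Mero.kmod X, U.ι ''ᵁ V) := t'' * fW
  have hkx : ∀ x : ↥(U.ι ''ᵁ V), k.1 x =
      t'.1 x * ((valU f ⟨x.1, hW x.2⟩ : (Mero.KStalk X x.1)ˣ) : Mero.KStalk X x.1) := fun x => rfl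
  have hk : ∀ x : ↥(U.ι ''ᵁ V), k.1 x ∈
      (algebraMap (X.presheaf.stalk x.1) (Mero.KStalk X x.1)).range := fun x => by
    rw [hkx x]
    exact t'.2.2 x (valU f ⟨x.1, hW x.2⟩) (hf ⟨x.1, hW x.2⟩)
  obtain ⟨r', hr'⟩ := exists_section_of_forall_mem_range (U.ι ''ᵁ V) k hk
  refine ⟨(U.ι.appIso V).hom r', ?_⟩
  refine Subtype.ext (funext fun x => ?_)
  have e1 := trivialization_app_apply D f hf V ((U.ι.appIso V).hom r') x
  refine e1.trans ?_
  rw [Iso.hom_inv_id_apply, Algebra.smul_def, ← hr' x, valU_inv_coe, hkx x]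
  rw [mul_assoc, Units.mul_inv, mul_one]

theorem isIso_trivialization : IsIso (trivialization D f hf) := by
  have : IsIso ((Scheme.Modules.toPresheaf _).map (trivialization D f hf)) := by
    apply (config := {allowSynthFailures := true}) NatIso.isIso_of_isIso_app
    intro V
    rw [ConcreteCategory.isIso_iff_bijective]
    exact ⟨trivialization_app_injective D f hf V.unop, trivialization_app_surjective D f hf V.unop⟩
  exact isIso_of_reflects_iso _ (Scheme.Modules.toPresheaf _)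

/-- For every divisor D on a scheme X, the fractional ideal O_X(D) — the sub-O_X-module of the sheaf of
meromorphic functions whose sections are the t with t_x · g ∈ O_{X,x} for a representative g of the
germ of D at x, at every point x — is an invertible O_X-module (locally isomorphic to O_X; where D
is the divisor of a local unit g of K_X it is O · g⁻¹). -/
theorem result (X : Scheme.{u}) (D : Mero.Divisor X) : PicF.IsInvertible (Mero.divMod D) := by
  intro y
  obtain ⟨U, hyU, f, hf⟩ := D.2 y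
  have := isIso_trivialization D f hf
  exact ⟨U, hyU, ⟨(asIso (trivialization D f hf)).symm⟩⟩

end Groth.Agent.S5096
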