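import Groth.Statements.S1540
import Groth.Agent.Lib.Helper3.ResMap
import Groth.Agent.Lib.Helper3.GenericFibre
import Groth.Agent.Lib.Helper3.GeomConnPt

set_option autoImplicit false
universe u
open CategoryTheory CategoryTheory.Limits AlgebraicGeometry
attribute [local instance] Curv2.resAlgebra Curv2.stalkAlgebra
open Variety

namespace Groth.Agent.S1540

/-- An irreducible scheme X over k with generic point ξ is geometrically irreducible if and only if the
separable algebraic closure of k in the residue field of ξ is k itself. -/
theorem result (k : Type u) [Field k] (X : Scheme.{u}) [X.Over (Spec (CommRingCat.of k))] [IrreducibleSpace X] :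
    GeometricallyIrreducible (X ↘ (Spec (CommRingCat.of k))) ↔
      ∀ a : X.residueField (genericPoint X), IsSeparable k a → a ∈ Set.range (algebraMap k (X.residueField (genericPoint X))) := by
  have hξ : IsGenericPoint (genericPoint X) Set.univ := genericPoint_spec X
  have hφ := Groth.Agent.Lib.helper3.ResMap.specMap_resMap k X (genericPoint X)
  have hflat : ∀ (K : Type u) [Field K] [Algebra k K], GeneralizingMap
      (pullback.fst (X ↘ (Spec (CommRingCat.of k)))
        (Spec.map (CommRingCat.ofHom (algebraMap k K)))) := by
    intro K _ _
    have h0 : Flat (Spec.map (CommRingCat.ofHom (algebraMap k K))) := inferInstance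
    have : Flat (pullback.fst (X ↘ (Spec (CommRingCat.of k)))
        (Spec.map (CommRingCat.ofHom (algebraMap k K)))) :=
      MorphismProperty.pullback_fst (P := @Flat) _ _ h0
    exact Flat.generalizingMap _
  have hbot : (∀ a : X.residueField (genericPoint X), IsSeparable k a →
      a ∈ Set.range (algebraMap k (X.residueField (genericPoint X)))) ↔
      separableClosure k (X.residueField (genericPoint X)) = ⊥ := by
    rw [eq_bot_iff]
    constructor
    · intro h a ha
      rw [IntermediateField.mem_bot]
      exact h a (mem_separableClosure_iff.mp ha)
    · intro h a ha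
      have := h (mem_separableClosure_iff.mpr ha)
      rwa [IntermediateField.mem_bot] at this
  rw [hbot]
  constructor
  · intro hgi
    apply Groth.Agent.Lib.helper3.GenericFibre.separableClosure_eq_bot_of_irr
    intro K _ _ _ _
    have hirr : IrreducibleSpace ↥(pullback (X ↘ (Spec (CommRingCat.of k)))
        (Spec.map (CommRingCat.ofHom (algebraMap k K)))) :=
      pullback_of_geometrically hgi.geometrically_irreducibleSpace K _
    have h1 := Groth.Agent.Lib.helper3.GenericFibre.isIrreducible_preimage_generic
      (Groth.Agent.Lib.helper3.GeomConnPt.isOpenMap_fst_specMap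
        (X ↘ (Spec (CommRingCat.of k))) K) hξ
    exact (Groth.Agent.Lib.helper3.GenericFibre.isIrreducible_preimage_singleton_iff
      (X ↘ (Spec (CommRingCat.of k))) (genericPoint X) _ hφ K).mp h1
  · intro hsep
    refine ⟨(geometrically_iff_of_commRing_of_isClosedUnderIsomorphisms).mpr fun K _ _ => ?_⟩
    have h1 := Groth.Agent.Lib.helper3.SepClosedIn.geomIrr_of_separableClosure_eq_bot hsep K
    have h2 := (Groth.Agent.Lib.helper3.GenericFibre.isIrreducible_preimage_singleton_iff
      (X ↘ (Spec (CommRingCat.of k))) (genericPoint X) _ hφ K).mpr h1
    exact Groth.Agent.Lib.helper3.GenericFibre.irreducibleSpace_of_generic_fibre (hflat K) hξ h2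

end Groth.Agent.S1540
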