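import Groth.Statements.S7594
import Groth.Agent.Lib.Helper3.ResMap
import Groth.Agent.Lib.Helper3.GenericFibre2
import Groth.Agent.S1540

set_option autoImplicit false
universe u
open CategoryTheory CategoryTheory.Limits AlgebraicGeometry
open Variety

namespace Groth.Agent.S7594

/-- A scheme X over a field k is geometrically irreducible over k precisely when the fibre product X ×_k
X of X with itself is an irreducible scheme. -/
theorem result (k : Type u) [Field k] (X : Scheme.{u}) [X.Over (Spec (CommRingCat.of k))] :
    GeometricallyIrreducible (X ↘ (Spec (CommRingCat.of k))) ↔ IrreducibleSpace ↥(pullback (X ↘ (Spec (CommRingCat.of k))) (X ↘ (Spec (CommRingCat.of k)))) := by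
  constructor
  · intro hgi
    have hX : IrreducibleSpace X :=
      GeometricallyIrreducible.irreducibleSpace_of_subsingleton (X ↘ (Spec (CommRingCat.of k)))
    have hu : UniversallyOpen (X ↘ (Spec (CommRingCat.of k))) := inferInstance
    infer_instance
  · intro hXX
    have hne : Nonempty ↥(pullback (X ↘ (Spec (CommRingCat.of k)))
        (X ↘ (Spec (CommRingCat.of k)))) := inferInstance
    have hneX : Nonempty X := hne.map (pullback.fst (X ↘ (Spec (CommRingCat.of k)))
        (X ↘ (Spec (CommRingCat.of k))))
    have hsf : Surjective (X ↘ (Spec (CommRingCat.of k))) := by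
      refine ⟨fun y => ?_⟩
      obtain ⟨x⟩ := hneX
      exact ⟨x, Subsingleton.elim (α := PrimeSpectrum k) _ _⟩
    have hs : Surjective (pullback.fst (X ↘ (Spec (CommRingCat.of k)))
        (X ↘ (Spec (CommRingCat.of k)))) :=
      MorphismProperty.pullback_fst (P := @Surjective) _ _ hsf
    have hX : IrreducibleSpace X :=
      { toPreirreducibleSpace := (Scheme.Hom.surjective (pullback.fst (X ↘ (Spec (CommRingCat.of k))) (X ↘ (Spec (CommRingCat.of k))))).preirreducibleSpace (Scheme.Hom.continuous _)
        toNonempty := hneX }
    refine (Groth.Agent.S1540.result k X).mpr ?_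
    let _ := Curv2.resAlgebra k X (genericPoint X)
    have hξ : IsGenericPoint (genericPoint X) Set.univ := genericPoint_spec X
    have hφ := Groth.Agent.Lib.helper3.ResMap.specMap_resMap k X (genericPoint X)
    have h1 : IrreducibleSpace ↥(pullback (X ↘ (Spec (CommRingCat.of k)))
        (Spec.map (CommRingCat.ofHom (algebraMap k (X.residueField (genericPoint X)))))) :=
      Groth.Agent.Lib.helper3.GenericFibre.irreducibleSpace_bc_residueField_of_prod
        (X ↘ (Spec (CommRingCat.of k))) hXX hξ (Curv2.resMap k X (genericPoint X)) hφ
    have h2 := Groth.Agent.Lib.helper3.GenericFibre.isIrreducible_preimage_generic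
      (Groth.Agent.Lib.helper3.GeomConnPt.isOpenMap_fst_specMap
        (X ↘ (Spec (CommRingCat.of k))) (X.residueField (genericPoint X))) hξ
    have h3 := (Groth.Agent.Lib.helper3.GenericFibre.isIrreducible_preimage_singleton_iff
      (X ↘ (Spec (CommRingCat.of k))) (genericPoint X) _ hφ
      (X.residueField (genericPoint X))).mp h2
    have h4 := Groth.Agent.Lib.helper3.GenericFibre.separableClosure_eq_bot_of_irr_self h3
    intro a ha
    have hmem : a ∈ separableClosure k (X.residueField (genericPoint X)) :=
      mem_separableClosure_iff.mpr ha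
    rw [h4, IntermediateField.mem_bot] at hmem
    exact hmem

end Groth.Agent.S7594
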