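import Groth.Statements.S0436
import Mathlib
import Groth.Agent.Lib.Helper17.StalkGen
import Groth.Agent.Lib.Helper17.FibreStalk

set_option autoImplicit false
set_option linter.style.haveILetI false
universe u
open FlatMor

namespace Groth.Agent.S0436

open AlgebraicGeometry CategoryTheory Limits IsLocalRing in
/-- the stalk of `Spec R` (`R` a DVR) at the closed point has principal maximal ideal generated by
a regular element -/
lemma stalk_closed (R : Type u) [CommRing R] [IsDomain R] [IsDiscreteValuationRing R]
    (y : ↑(Spec (CommRingCat.of R))) (hy : y = IsLocalRing.closedPoint R) :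
    ∃ a : (Spec (CommRingCat.of R)).presheaf.stalk y,
      IsLocalRing.maximalIdeal ((Spec (CommRingCat.of R)).presheaf.stalk y) = Ideal.span {a} ∧
      IsSMulRegular ((Spec (CommRingCat.of R)).presheaf.stalk y) a := by
  subst hy
  letI : Algebra R ((Spec (CommRingCat.of R)).presheaf.stalk (IsLocalRing.closedPoint R)) :=
    StructureSheaf.stalkAlgebra R (IsLocalRing.closedPoint R)
  haveI hloc : IsLocalization.AtPrime
      ((Spec (CommRingCat.of R)).presheaf.stalk (IsLocalRing.closedPoint R))
      (IsLocalRing.closedPoint R).asIdeal :=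
    StructureSheaf.IsLocalization.to_stalk (R := R) (IsLocalRing.closedPoint R)
  obtain ⟨ϖ, hϖ⟩ := IsDiscreteValuationRing.exists_irreducible R
  have hm : IsLocalRing.maximalIdeal R = Ideal.span {ϖ} := hϖ.maximalIdeal_eq
  have hle : (IsLocalRing.closedPoint R).asIdeal.primeCompl ≤ nonZeroDivisors R := by
    intro t ht
    rw [mem_nonZeroDivisors_iff_ne_zero]
    rintro rfl
    exact ht (Ideal.zero_mem _)
  haveI : IsDomain ((Spec (CommRingCat.of R)).presheaf.stalk (IsLocalRing.closedPoint R)) :=
    IsLocalization.isDomain_of_le_nonZeroDivisors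
      (M := (IsLocalRing.closedPoint R).asIdeal.primeCompl) _ hle
  refine ⟨algebraMap R _ ϖ, ?_, ?_⟩
  · rw [← IsLocalization.AtPrime.map_eq_maximalIdeal (IsLocalRing.closedPoint R).asIdeal
      ((Spec (CommRingCat.of R)).presheaf.stalk (IsLocalRing.closedPoint R))]
    change Ideal.map _ (IsLocalRing.maximalIdeal R) = _
    rw [hm, Ideal.map_span, Set.image_singleton]
  · have hne : algebraMap R ((Spec (CommRingCat.of R)).presheaf.stalk
        (IsLocalRing.closedPoint R)) ϖ ≠ 0 := by
      intro h0
      have hinj := IsLocalization.injective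
        ((Spec (CommRingCat.of R)).presheaf.stalk (IsLocalRing.closedPoint R)) hle
      exact hϖ.ne_zero (hinj (by rw [h0, map_zero]))
    intro x y hxy
    exact mul_left_cancel₀ hne hxy

open AlgebraicGeometry CategoryTheory Limits IsLocalRing in
/-- the stalk of `Spec R` at the generic point is a field -/
lemma stalk_generic (R : Type u) [CommRing R] [IsDomain R]
    (y : ↑(Spec (CommRingCat.of R))) (hy : y = (⟨⊥, Ideal.isPrime_bot⟩ : PrimeSpectrum R)) :
    IsLocalRing.maximalIdeal ((Spec (CommRingCat.of R)).presheaf.stalk y) = ⊥ := by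
  subst hy
  letI : Algebra R ((Spec (CommRingCat.of R)).presheaf.stalk
      (⟨⊥, Ideal.isPrime_bot⟩ : PrimeSpectrum R)) :=
    StructureSheaf.stalkAlgebra R (⟨⊥, Ideal.isPrime_bot⟩ : PrimeSpectrum R)
  haveI hloc : IsLocalization.AtPrime
      ((Spec (CommRingCat.of R)).presheaf.stalk (⟨⊥, Ideal.isPrime_bot⟩ : PrimeSpectrum R))
      (⟨⊥, Ideal.isPrime_bot⟩ : PrimeSpectrum R).asIdeal :=
    StructureSheaf.IsLocalization.to_stalk (R := R) (⟨⊥, Ideal.isPrime_bot⟩ : PrimeSpectrum R)
  rw [← IsLocalization.AtPrime.map_eq_maximalIdeal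
    (⟨⊥, Ideal.isPrime_bot⟩ : PrimeSpectrum R).asIdeal
    ((Spec (CommRingCat.of R)).presheaf.stalk (⟨⊥, Ideal.isPrime_bot⟩ : PrimeSpectrum R))]
  exact Ideal.map_bot

open AlgebraicGeometry CategoryTheory Limits in
/-- For a proper flat morphism to the spectrum of a discrete valuation ring whose special fibre is
reduced, both the total space and the generic fibre are reduced. (The published statement is
stronger: instead of flatness it only needs every irreducible component of the total space to
dominate the base.) -/
theorem result {R : Type u} [CommRing R] [IsDomain R] [IsDiscreteValuationRing R] {X : Scheme.{u}}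
    (f : X ⟶ Spec (CommRingCat.of R)) [IsProper f] [Flat f]
    (hred : IsReduced (f.fiber (IsLocalRing.closedPoint R))) :
    IsReduced X ∧ IsReduced (f.fiber (⟨⊥, Ideal.isPrime_bot⟩ : PrimeSpectrum R)) := by
  haveI : IsLocallyNoetherian X := LocallyOfFiniteType.isLocallyNoetherian f
  -- stalks at points of the special fibre are reduced
  have hA : ∀ x : X, f.base x = IsLocalRing.closedPoint R →
      _root_.IsReduced (X.presheaf.stalk x) := by
    intro x hx
    obtain ⟨a, hma, hareg⟩ := stalk_closed R (f.base x) hx
    have hfl := Flat.stalkMap f x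
    have hI : (IsLocalRing.maximalIdeal ((Spec (CommRingCat.of R)).presheaf.stalk (f.base x))).map
        (f.stalkMap x).hom = Ideal.span {(f.stalkMap x).hom a} := by
      rw [hma, Ideal.map_span, Set.image_singleton]
    have hred' : IsReduced (f.fiber (f.base x)) := by rw [hx]; exact hred
    obtain ⟨e⟩ := Groth.Agent.Lib.helper17.FibreStalk.nonempty_asFiber_stalk_equiv f x
    haveI : _root_.IsReduced ((f.fiber (f.base x)).presheaf.stalk (f.asFiber x)) := inferInstance
    haveI : _root_.IsReduced (Groth.Agent.Lib.helper17.FibreStalk.FibRing f x) :=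
      isReduced_of_injective e.toRingHom e.injective
    algebraize [(f.stalkMap x).hom]
    haveI : IsLocalHom (algebraMap ((Spec (CommRingCat.of R)).presheaf.stalk (f.base x))
        (X.presheaf.stalk x)) := f.toLRSHom.prop x
    refine Groth.Agent.Lib.helper17.StalkGen.isReduced_of_regular_quotient (X.presheaf.stalk x)
      ((f.stalkMap x).hom a) ?_ (hareg.of_flat) ?_
    · have ha : a ∈ IsLocalRing.maximalIdeal
          ((Spec (CommRingCat.of R)).presheaf.stalk (f.base x)) := by
        rw [hma]; exact Ideal.mem_span_singleton_self a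
      rw [IsLocalRing.mem_maximalIdeal, mem_nonunits_iff] at ha ⊢
      intro hu
      exact ha (isUnit_of_map_unit (algebraMap ((Spec (CommRingCat.of R)).presheaf.stalk (f.base x))
        (X.presheaf.stalk x)) a hu)
    · exact isReduced_of_injective (Ideal.quotEquivOfEq hI.symm).toRingHom
        (Ideal.quotEquivOfEq hI.symm).injective
  -- every point specializes into the special fibre
  have hB : ∀ x' : X, ∃ x : X, x' ⤳ x ∧ f.base x = IsLocalRing.closedPoint R := by
    intro x'
    have hcl : IsClosedMap f.base := f.isClosedMap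
    have h1 : IsLocalRing.closedPoint R ∈ closure {f.base x'} :=
      specializes_iff_mem_closure.mp (IsLocalRing.specializes_closedPoint (f.base x'))
    have h2 : closure {f.base x'} ⊆ f.base '' closure {x'} := by
      have := hcl.closure_image_subset {x'}
      rwa [Set.image_singleton] at this
    obtain ⟨x, hx, hfx⟩ := h2 h1
    exact ⟨x, specializes_iff_mem_closure.mpr hx, hfx⟩
  have hC : ∀ x : X, _root_.IsReduced (X.presheaf.stalk x) := by
    intro x'
    obtain ⟨x, hspec, hfx⟩ := hB x'
    exact Groth.Agent.Lib.helper17.StalkGen.isReduced_stalk_of_specializes hspec (hA x hfx)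
  refine ⟨isReduced_of_isReduced_stalk X, ?_⟩
  have hgen : ∀ η : ↑(Spec (CommRingCat.of R)), η = (⟨⊥, Ideal.isPrime_bot⟩ : PrimeSpectrum R) →
      IsReduced (f.fiber η) := by
    intro η hη
    haveI : ∀ z : ↑(f.fiber η), _root_.IsReduced ((f.fiber η).presheaf.stalk z) := by
      intro z
      let e := Groth.Agent.Lib.helper17.FibreStalk.fiberStalkEquiv f η z
      have hfz : f.base ((f.fiberι η).base z) = η := by
        have : (f.fiberι η).base z ∈ Set.range (f.fiberι η).base := ⟨z, rfl⟩
        rw [Scheme.Hom.range_fiberι] at this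
        exact this
      have hm := stalk_generic R (f.base ((f.fiberι η).base z)) (hfz.trans hη)
      have hI : (IsLocalRing.maximalIdeal ((Spec (CommRingCat.of R)).presheaf.stalk
          (f.base ((f.fiberι η).base z)))).map (f.stalkMap ((f.fiberι η).base z)).hom = ⊥ := by
        rw [hm, Ideal.map_bot]
      haveI := hC ((f.fiberι η).base z)
      let e2 : Groth.Agent.Lib.helper17.FibreStalk.FibRing f ((f.fiberι η).base z) ≃+*
          X.presheaf.stalk ((f.fiberι η).base z) :=
        (Ideal.quotEquivOfEq hI).trans (RingEquiv.quotientBot _)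
      exact isReduced_of_injective (e.symm.trans e2).toRingHom (e.symm.trans e2).injective
    exact isReduced_of_isReduced_stalk _
  exact hgen _ rfl

end Groth.Agent.S0436
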