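import Groth.Statements.S16954
import Mathlib
import Groth.Agent.Lib.Helper18.HHLES
import Groth.Agent.Lib.Helper7.LocalLift

set_option autoImplicit false
universe u
open CohCmp

namespace Groth.Agent.S16954

open AlgebraicGeometry CategoryTheory CategoryTheory.Limits Scheme.Modules Opposite TopologicalSpace

section
variable {X Y : Scheme.{u}}

/-- restriction to an open preserves limits (computed sectionwise) -/
instance preservesLimits_restrictFunctor (j : X ⟶ Y) [IsOpenImmersion j] :
    PreservesLimitsOfSize.{u, u} (Scheme.Modules.restrictFunctor j) := by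
  haveI : ReflectsLimitsOfSize.{u, u} (Scheme.Modules.toPresheaf X) :=
    reflectsLimits_of_reflectsIsomorphisms
  have h1 : PreservesLimitsOfSize.{u, u} (Scheme.Modules.toPresheaf Y) := inferInstance
  have h2 : PreservesLimitsOfSize.{u, u}
      ((Functor.whiskeringLeft (Opens ↥X)ᵒᵖ (Opens ↥Y)ᵒᵖ Ab.{u}).obj j.opensFunctor.op) :=
    whiskeringLeft_preservesLimits _
  have h3 : PreservesLimitsOfSize.{u, u} (Scheme.Modules.toPresheaf Y ⋙
      (Functor.whiskeringLeft (Opens ↥X)ᵒᵖ (Opens ↥Y)ᵒᵖ Ab.{u}).obj j.opensFunctor.op) :=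
    @comp_preservesLimits _ _ _ _ _ _ _ _ h1 h2
  haveI : PreservesLimitsOfSize.{u, u}
      (Scheme.Modules.restrictFunctor j ⋙ Scheme.Modules.toPresheaf X) :=
    preservesLimits_of_natIso (Iso.refl _ : Scheme.Modules.toPresheaf Y ⋙
      (Functor.whiskeringLeft _ _ _).obj j.opensFunctor.op ≅
        Scheme.Modules.restrictFunctor j ⋙ Scheme.Modules.toPresheaf X)
  exact preservesLimits_of_reflects_of_preserves _ (Scheme.Modules.toPresheaf X)

theorem toAbOn_shortExact (U : X.Opens) {S : ShortComplex X.Modules} (hS : S.ShortExact) :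
    (S.map (toAbOn X U)).ShortExact := by
  haveI : PreservesFiniteLimits (Scheme.Modules.restrictFunctor U.ι) :=
    (PreservesLimitsOfSize.preservesFiniteLimits.{u, u} (Scheme.Modules.restrictFunctor U.ι) :)
  haveI : PreservesFiniteColimits (Scheme.Modules.restrictFunctor U.ι) := inferInstance
  have h1 : (S.map (Scheme.Modules.restrictFunctor U.ι)).ShortExact :=
    hS.map_of_exact (Scheme.Modules.restrictFunctor U.ι)
  exact Groth.Agent.Lib.Helper18.HH.toAb_shortExact h1


theorem loc_surj (f : X ⟶ Y) [HasInjectiveResolutions X.Modules]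
    {Δ : RDer.DerivedLES (pushforward f)} (E : CohCmp.SectCmp f Δ) (p : ℕ) :
    ∀ (F : X.Modules) (V : Y.Opens) (t : ((Coh.Rpush f p).obj F).presheaf.obj (op V)) (y : Y)
      (_ : y ∈ V),
    ∃ (W : Y.Opens) (hWV : W ≤ V), y ∈ W ∧
      ∃ x : Coh.HHon X F (f ⁻¹ᵁ W) p,
        E.ε W F p x = ((Coh.Rpush f p).obj F).presheaf.map (homOfLE hWV).op t := by
  induction p with
  | zero =>
    intro F V t y hy
    haveI : PreservesLimitsOfSize.{0, 0} (pushforward f) :=
      (pullbackPushforwardAdjunction f).rightAdjoint_preservesLimits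
    haveI : PreservesFiniteLimits (pushforward f) :=
      PreservesLimitsOfSize.preservesFiniteLimits.{0, 0} _
    haveI : IsIso ((pushforward f).toRightDerivedZero) := inferInstance
    let φ := (pushforward f).toRightDerivedZero.app F
    refine ⟨V, le_rfl, hy, CohPull.sectH0 F (f ⁻¹ᵁ V) ((inv φ).app V t), ?_⟩
    rw [E.zero]
    have h1 : (homOfLE (le_refl V)).op = 𝟙 (op V) := rfl
    have h2 : inv φ ≫ φ = 𝟙 _ := IsIso.inv_hom_id φ
    have h3 := congrArg (fun ψ => (ConcreteCategory.hom (Hom.app ψ V)) t) h2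
    simp only [Scheme.Modules.Hom.comp_app] at h3
    rw [h1, CategoryTheory.Functor.map_id]
    exact h3
  | succ p ih =>
    intro F V t y hy
    let R : InjectiveResolution F := injectiveResolution F
    let I : X.Modules := R.cocomplex.X 0
    let ι : F ⟶ I := R.ι.f 0
    haveI : Mono ι := inferInstanceAs (Mono (R.ι.f 0))
    haveI : Injective I := R.injective 0
    let S : ShortComplex X.Modules := ShortComplex.mk ι (cokernel.π ι) (cokernel.condition ι)
    have hS : S.ShortExact :=
      { exact := ShortComplex.exact_cokernel ι, mono_f := inferInstanceAs (Mono ι),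
        epi_g := inferInstanceAs (Epi (cokernel.π ι)) }
    have hz : IsZero ((Coh.Rpush f (p + 1)).obj I) :=
      Functor.isZero_rightDerived_obj_injective_succ _ _ _
    haveI hepi : Epi (Δ.δ S hS p (p + 1) rfl) :=
      (Δ.exact₁ S hS p (p + 1) rfl).epi_f (hz.eq_of_tgt _ _)
    obtain ⟨W, hWV, hyW, t', ht'⟩ :=
      Groth.Agent.Lib.helper7.LocalLift.exists_local_lift (Δ.δ S hS p (p + 1) rfl) V t y hy
    obtain ⟨W', hW'W, hyW', x', hx'⟩ := ih S.X₃ W t' y hyW
    refine ⟨W', hW'W.trans hWV, hyW', extδ (toAbOn_shortExact _ hS) p x', ?_⟩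
    rw [E.delta W' S hS _ p x', hx']
    have h1 := Groth.Agent.Lib.helper7.LocalLift.app_naturality' (Δ.δ S hS p (p + 1) rfl)
      (homOfLE hW'W).op
    have h2 := congrArg (fun ψ => (ConcreteCategory.hom ψ) t') h1
    simp only [ConcreteCategory.comp_apply] at h2
    erw [h2, ht']
    rw [← ConcreteCategory.comp_apply, ← Functor.map_comp]
    rfl

end

open AlgebraicGeometry CategoryTheory Scheme.Modules Opposite in

open AlgebraicGeometry CategoryTheory Scheme.Modules Opposite in
/-- The comparison map is locally surjective. Let f : X → Y be a morphism of schemes, F an O_X-module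
and p a natural number; R^p f_* F is the p-th right derived functor of direct image on O-modules and
ε_V : H^p(f⁻¹V, F|_{f⁻¹V}) → Γ(V, R^p f_* F) the pinned comparison maps (the structure SectCmp,
taken as a hypothesis). Then for every open V of Y, every section t of R^p f_* F over V and every
point y of V there are an open neighbourhood W ⊆ V of y and a class x ∈ H^p(f⁻¹W, F|_{f⁻¹W}) with
ε_W(x) equal to the restriction of t to W. -/
theorem result
    {X Y : Scheme.{u}} (f : X ⟶ Y) [HasInjectiveResolutions X.Modules]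
    {Δ : RDer.DerivedLES (pushforward f)} (E : CohCmp.SectCmp f Δ) (F : X.Modules) (p : ℕ)
    (V : Y.Opens) (t : ((Coh.Rpush f p).obj F).presheaf.obj (op V)) (y : Y) (hy : y ∈ V) :
    ∃ (W : Y.Opens) (hWV : W ≤ V), y ∈ W ∧
      ∃ x : Coh.HHon X F (f ⁻¹ᵁ W) p,
        E.ε W F p x = ((Coh.Rpush f p).obj F).presheaf.map (homOfLE hWV).op t := by
  exact loc_surj f E p F V t y hy

end Groth.Agent.S16954
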