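import Groth.Statements.S16955
import Mathlib
import Groth.Agent.S16954
import Groth.Agent.Lib.Helper18.ResLEDelta
import Groth.Agent.Lib.Helper21.InjAcyc2
import Groth.Agent.Lib.Helper21.SchShriek
import Groth.Agent.Lib.Helper7.KerSections
import Groth.Agent.Lib.Helper7.LocalLift
import Groth.Agent.Lib.Helper2.ModSec

set_option autoImplicit false
universe u
open CohCmp

namespace Groth.Agent.S16955

open AlgebraicGeometry CategoryTheory CategoryTheory.Limits Scheme.Modules Opposite TopologicalSpace

section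
variable {X Y : Scheme.{u}}

/-- local lifting along an exact sequence of `O`-modules -/
theorem exists_local_lift_of_exact (T : ShortComplex Y.Modules) (hT : T.Exact) (V : Y.Opens)
    (b : Γ(T.X₂, V)) (hb : (T.g.app V).hom b = 0) (y : Y) (hy : y ∈ V) :
    ∃ (W : Y.Opens) (hW : W ≤ V), y ∈ W ∧
      ∃ a : Γ(T.X₁, W), (T.f.app W).hom a = (T.X₂.presheaf.map (homOfLE hW).op).hom b := by
  obtain ⟨t, ht⟩ := Groth.Agent.Lib.helper7.KerSections.exists_kernel_section T.g V b hb
  haveI : Epi (kernel.lift T.g T.f T.zero) := by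
    have := hT.epi_kernelLift
    exact this
  obtain ⟨W, hW, hyW, a, ha⟩ :=
    Groth.Agent.Lib.helper7.LocalLift.exists_local_lift (kernel.lift T.g T.f T.zero) V t y hy
  refine ⟨W, hW, hyW, a, ?_⟩
  have e1 : kernel.lift T.g T.f T.zero ≫ kernel.ι T.g = T.f := kernel.lift_ι _ _ _
  have e2 := congrArg (fun ψ => (Scheme.Modules.Hom.app ψ W).hom a) e1
  simp only [Scheme.Modules.Hom.comp_app, AddCommGrpCat.hom_comp, AddMonoidHom.coe_comp,
    Function.comp_apply] at e2
  rw [← e2]
  erw [ha]
  rw [← ht]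
  exact Groth.Agent.Lib.Helper18.ResLE.app_naturality (kernel.ι T.g) (homOfLE hW) t

/-- the constant sheaf `ℤ` is torsion free -/
theorem tf_const (U : Scheme.{u}) :
    Groth.Agent.Lib.helper21.InjAcyc.TF (Opens.grothendieckTopology U)
      (CohTop.const U (ULift.{u} ℤ)) := by
  apply Groth.Agent.Lib.helper21.InjAcyc.tf_sheafify
  intro W
  exact Function.Injective.isAddTorsionFree
    (AddEquiv.ulift (α := ℤ)).toAddMonoidHom (AddEquiv.ulift (α := ℤ)).injective

/-- higher cohomology over an open of an injective `O_X`-module vanishes -/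
theorem HHon_injective_eq_zero (I : X.Modules) [Injective I] (U : X.Opens) (n : ℕ)
    (x : Coh.HHon X I U (n + 1)) : x = 0 := by
  haveI hI : Injective ((restrictFunctor U.ι).obj I) :=
    Functor.injective_obj _ _
  exact @Groth.Agent.Lib.helper21.InjAcyc.ext_toSheaf_eq_zero _ _ _ (U : Scheme.{u}).ringCatSheaf _
    ((restrictFunctor U.ι).obj I) hI _ (tf_const U) n x

/-- `sectH0` is natural in the module -/
theorem sectH0_naturality {M N : X.Modules} (φ : M ⟶ N) (U : X.Opens) (s : M.presheaf.obj (op U)) :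
    CohPull.mapH ((restrictFunctor U.ι).map φ) 0 (CohPull.sectH0 M U s) =
      CohPull.sectH0 N U ((φ.app U).hom s) := by
  apply (Sheaf.H.equiv₀ (Coh.toAb (N.restrict U.ι))
    (Limits.isTerminalTop : Limits.IsTerminal (⊤ : (U : Scheme.{u}).Opens))).injective
  have hs : ∀ (G : X.Modules) (s : G.presheaf.obj (op U)),
      Sheaf.H.equiv₀ (Coh.toAb (G.restrict U.ι)) Limits.isTerminalTop (CohPull.sectH0 G U s) =
        (G.presheaf.map (eqToHom U.ι_image_top).op).hom s := by
    intro G s
    exact AddEquiv.apply_symm_apply _ _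
  rw [CohPull.mapH, ← Sheaf.H.equiv₀_naturality, hs, hs]
  exact Groth.Agent.Lib.Helper18.ResLE.app_naturality φ (eqToHom U.ι_image_top) s

theorem loc_inj (f : X ⟶ Y) [HasInjectiveResolutions X.Modules]
    {Δ : RDer.DerivedLES (pushforward f)} (E : CohCmp.SectCmp f Δ) (p : ℕ) :
    ∀ (F : X.Modules) (V : Y.Opens) (x : Coh.HHon X F (f ⁻¹ᵁ V) p) (_ : E.ε V F p x = 0) (y : Y)
      (_ : y ∈ V),
    ∃ (W : Y.Opens) (hWV : W ≤ V), y ∈ W ∧ CohPull.resLE F (f.preimage_mono hWV) p x = 0 := by
  haveI : PreservesLimitsOfSize.{0, 0} (pushforward f) :=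
    (pullbackPushforwardAdjunction f).rightAdjoint_preservesLimits
  haveI : PreservesFiniteLimits (pushforward f) :=
    PreservesLimitsOfSize.preservesFiniteLimits.{0, 0} _
  haveI : IsIso ((pushforward f).toRightDerivedZero) := inferInstance
  have hinj : ∀ (G : X.Modules) (W : Y.Opens),
      Function.Injective (((pushforward f).toRightDerivedZero.app G).app W).hom := by
    intro G W
    haveI : Mono ((pushforward f).toRightDerivedZero.app G) := inferInstance
    exact (Groth.Agent.Lib.helper2.ModSec.mono_iff_injective_app _).1 inferInstance W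
  have hsurj : ∀ (G : X.Modules) (W : Y.Opens),
      Function.Surjective (((pushforward f).toRightDerivedZero.app G).app W).hom := by
    intro G W t
    let φ := (pushforward f).toRightDerivedZero.app G
    refine ⟨((inv φ).app W).hom t, ?_⟩
    have h2 : inv φ ≫ φ = 𝟙 _ := IsIso.inv_hom_id φ
    have h3 := congrArg (fun ψ => (Hom.app ψ W).hom t) h2
    simp only [Scheme.Modules.Hom.comp_app] at h3
    exact h3
  induction p with
  | zero =>
    intro F V x hx y hy
    refine ⟨V, le_rfl, hy, ?_⟩
    obtain ⟨s, rfl⟩ := (CohPull.sectH0 F (f ⁻¹ᵁ V)).surjective x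
    rw [E.zero] at hx
    have hs : s = 0 := hinj F V (hx.trans (map_zero _).symm)
    rw [hs, map_zero, map_zero]
  | succ p ih =>
    intro F V x hx y hy
    let R : InjectiveResolution F := injectiveResolution F
    let I : X.Modules := R.cocomplex.X 0
    let ι : F ⟶ I := R.ι.f 0
    haveI : Mono ι := inferInstanceAs (Mono (R.ι.f 0))
    haveI : Injective I := R.injective 0
    let S : ShortComplex X.Modules := ShortComplex.mk ι (cokernel.π ι) (cokernel.condition ι)
    have hS : S.ShortExact :=
      { exact := ShortComplex.exact_cokernel ι, mono_f := inferInstanceAs (Mono ι),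
        epi_g := inferInstanceAs (Epi (cokernel.π ι)) }
    have hA := Groth.Agent.S16954.toAbOn_shortExact (f ⁻¹ᵁ V) hS
    have hex := (ShortComplex.ab_exact_iff_function_exact _).1
      (Abelian.Ext.covariant_sequence_exact₁'.{u}
        (CohTop.const ((f ⁻¹ᵁ V : X.Opens) : Scheme.{u}) (ULift.{u} ℤ)) hA p (p + 1) rfl)
    obtain ⟨x', hx'⟩ := (hex x).1 (HHon_injective_eq_zero I (f ⁻¹ᵁ V) p _)
    have hx'' : extδ hA p x' = x := hx'
    have hδ : ((Δ.δ S hS p (p + 1) rfl).app V).hom (E.ε V S.X₃ p x') = 0 := by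
      have := E.delta V S hS hA p x'
      rw [hx'', hx] at this
      exact this.symm
    rcases p with _ | q
    · -- p = 0
      obtain ⟨s', rfl⟩ := (CohPull.sectH0 S.X₃ (f ⁻¹ᵁ V)).surjective x'
      rw [E.zero] at hδ
      let T : ShortComplex Y.Modules :=
        ShortComplex.mk ((Coh.Rpush f 0).map S.g) (Δ.δ S hS 0 1 rfl) (Δ.comp_δ S hS 0 1 rfl)
      have hT : T.Exact := Δ.exact₃ S hS 0 1 rfl
      obtain ⟨W, hWV, hyW, a, ha⟩ := exists_local_lift_of_exact T hT V
        ((((pushforward f).toRightDerivedZero.app S.X₃).app V).hom s') hδ y hy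
      obtain ⟨sI, rfl⟩ := hsurj S.X₂ W a
      refine ⟨W, hWV, hyW, ?_⟩
      have hA' := Groth.Agent.S16954.toAbOn_shortExact (f ⁻¹ᵁ W) hS
      have hnat := (pushforward f).toRightDerivedZero.naturality S.g
      have e1 := congrArg (fun ψ => (Hom.app ψ W).hom sI) hnat
      simp only [Scheme.Modules.Hom.comp_app, AddCommGrpCat.hom_comp, AddMonoidHom.coe_comp,
        Function.comp_apply] at e1
      have e2 := Groth.Agent.Lib.Helper18.ResLE.app_naturality
        ((pushforward f).toRightDerivedZero.app S.X₃) (homOfLE hWV) s'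
      have e3 : (S.g.app (f ⁻¹ᵁ W)).hom sI =
          (S.X₃.presheaf.map (homOfLE (f.preimage_mono hWV)).op).hom s' := by
        apply hinj S.X₃ W
        exact e1.trans (ha.trans e2.symm)
      rw [← hx'', Groth.Agent.Lib.Helper18.ResLE.resLE_extδ (f.preimage_mono hWV) S hA hA',
        Groth.Agent.Lib.Helper18.ResLE.resLE_sectH0, ← e3, ← sectH0_naturality]
      exact ((ShortComplex.ab_exact_iff_function_exact _).1
        (Abelian.Ext.covariant_sequence_exact₃'.{u}
          (CohTop.const ((f ⁻¹ᵁ W : X.Opens) : Scheme.{u}) (ULift.{u} ℤ)) hA' 0 1 rfl)).apply_apply_eq_zero _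
    · -- p = q + 1
      have hz : IsZero ((Coh.Rpush f (q + 1)).obj I) :=
        Functor.isZero_rightDerived_obj_injective_succ _ _ _
      haveI hmono : Mono (Δ.δ S hS (q + 1) (q + 1 + 1) rfl) :=
        (Δ.exact₃ S hS (q + 1) (q + 1 + 1) rfl).mono_g (hz.eq_of_src _ _)
      have h0 : E.ε V S.X₃ (q + 1) x' = 0 :=
        (Groth.Agent.Lib.helper2.ModSec.mono_iff_injective_app _).1 hmono V
          (hδ.trans (map_zero _).symm)
      obtain ⟨W, hWV, hyW, hW⟩ := ih S.X₃ V x' h0 y hy
      refine ⟨W, hWV, hyW, ?_⟩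
      have hA' := Groth.Agent.S16954.toAbOn_shortExact (f ⁻¹ᵁ W) hS
      rw [← hx'', Groth.Agent.Lib.Helper18.ResLE.resLE_extδ (f.preimage_mono hWV) S hA hA', hW]
      exact map_zero _

end

open AlgebraicGeometry CategoryTheory Scheme.Modules in
/-- The comparison map is locally injective. Let f : X → Y be a morphism of schemes, F an O_X-module and
p a natural number; R^p f_* F is the p-th right derived functor of direct image on O-modules and ε_V
: H^p(f⁻¹V, F|_{f⁻¹V}) → Γ(V, R^p f_* F) the pinned comparison maps (the structure SectCmp, taken as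
a hypothesis). If a class x over f⁻¹V satisfies ε_V(x) = 0, then every point y of V has an open
neighbourhood W ⊆ V such that the restriction of x to H^p(f⁻¹W, F|_{f⁻¹W}) vanishes. -/
theorem result
    {X Y : Scheme.{u}} (f : X ⟶ Y) [HasInjectiveResolutions X.Modules]
    {Δ : RDer.DerivedLES (pushforward f)} (E : CohCmp.SectCmp f Δ) (F : X.Modules) (p : ℕ)
    (V : Y.Opens) (x : Coh.HHon X F (f ⁻¹ᵁ V) p) (hx : E.ε V F p x = 0) (y : Y) (hy : y ∈ V) :
    ∃ (W : Y.Opens) (hWV : W ≤ V), y ∈ W ∧ CohPull.resLE F (f.preimage_mono hWV) p x = 0 := by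
  exact loc_inj f E p F V x hx y hy

end Groth.Agent.S16955
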