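import Groth.Statements.S16959
import Mathlib
import Groth.Agent.S16955
import Groth.Agent.Lib.Helper18.HHConseq
import Groth.Agent.Lib.Helper18.HHZero
import Groth.Agent.Lib.Helper21.InjFlasque
import Groth.Agent.S0453
import Groth.Agent.S0007
import Groth.Agent.S0030

set_option autoImplicit false
universe u
open CohCmp

namespace Groth.Agent.S16959

open AlgebraicGeometry CategoryTheory CategoryTheory.Limits Scheme.Modules Opposite TopologicalSpace
open Groth.Agent.Lib.Helper18

section general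
variable {S : Scheme.{u}}

theorem subsingleton_HH_of_iso {M N : S.Modules} (e : M ≅ N) (n : ℕ)
    (h : Subsingleton (Coh.HH S M n)) : Subsingleton (Coh.HH S N n) := by
  refine ⟨fun x y => ?_⟩
  have key : ∀ z : Coh.HH S N n, z = HH.map e.hom n (HH.map e.inv n z) := by
    intro z
    rw [← HH.map_comp_apply, e.inv_hom_id, HH.map_id]
    rfl
  rw [key x, key y, Subsingleton.elim (HH.map e.inv n x) (HH.map e.inv n y)]

theorem subsingleton_HH_of_isZero {M : S.Modules} (hM : IsZero M) (n : ℕ) :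
    Subsingleton (Coh.HH S M n) := by
  refine ⟨fun x y => ?_⟩
  have key : ∀ z : Coh.HH S M n, z = 0 := by
    intro z
    have h1 : HH.map (𝟙 M) n z = z := by rw [HH.map_id]; rfl
    have h2 : (𝟙 M : M ⟶ M) = 0 := hM.eq_of_src _ _
    rw [h2, HH.map_zero] at h1
    exact h1.symm
  rw [key x, key y]

/-- `H¹(S.X₁) = 0` makes `Γ(S.X₂) → Γ(S.X₃)` surjective. -/
theorem surjective_app_top_of_H1 {T : ShortComplex S.Modules} (hT : T.ShortExact)
    (hH : Subsingleton (Coh.HH S T.X₁ 1)) : Function.Surjective (T.g.app ⊤).hom := by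
  intro σ
  obtain ⟨y, hy⟩ := HH.surjective_map_g hT 0 hH ((HH.equiv₀ T.X₃).symm σ)
  refine ⟨HH.equiv₀ T.X₂ y, ?_⟩
  have := HH.equiv₀_naturality T.g y
  rw [hy, LinearEquiv.apply_symm_apply] at this
  exact this.symm

section four
variable {A B C D : S.Modules} (a : A ⟶ B) (b : B ⟶ C) (d : C ⟶ D) [Mono a] [Epi d]
  (wab : a ≫ b = 0) (wbd : b ≫ d = 0) (hab : (ShortComplex.mk a b wab).Exact)
  (hbd : (ShortComplex.mk b d wbd).Exact)

/-- the short complex `A → B → ker d` -/
noncomputable abbrev T1 : ShortComplex S.Modules :=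
  ShortComplex.mk a (kernel.lift d b wbd) (by
    rw [← cancel_mono (kernel.ι d), Category.assoc, kernel.lift_ι, wab, zero_comp])

/-- the short complex `ker d → C → D` -/
noncomputable abbrev T2 : ShortComplex S.Modules :=
  ShortComplex.mk (kernel.ι d) d (kernel.condition d)

include hab hbd in
theorem T1_shortExact : (T1 a b d wab wbd).ShortExact := by
  have hex : (T1 a b d wab wbd).Exact := by
    let φ : T1 a b d wab wbd ⟶ ShortComplex.mk a b wab :=
      { τ₁ := 𝟙 _, τ₂ := 𝟙 _, τ₃ := kernel.ι d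
        comm₁₂ := by simp
        comm₂₃ := by simp }
    haveI : Epi φ.τ₁ := inferInstanceAs (Epi (𝟙 A))
    haveI : IsIso φ.τ₂ := inferInstanceAs (IsIso (𝟙 B))
    haveI : Mono φ.τ₃ := inferInstanceAs (Mono (kernel.ι d))
    exact (ShortComplex.exact_iff_of_epi_of_isIso_of_mono φ).2 hab
  haveI : Epi (kernel.lift d b wbd) := hbd.epi_kernelLift
  exact { exact := hex, mono_f := inferInstanceAs (Mono a),
          epi_g := inferInstanceAs (Epi (kernel.lift d b wbd)) }

theorem T2_shortExact : (T2 d).ShortExact :=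
  { exact := ShortComplex.exact_of_f_is_kernel _ (kernelIsKernel d)
    mono_f := inferInstanceAs (Mono (kernel.ι d))
    epi_g := inferInstanceAs (Epi d) }

include hab hbd in
theorem four_surjective (hA2 : Subsingleton (Coh.HH S A 2))
    (hB1 : Subsingleton (Coh.HH S B 1)) : Function.Surjective (d.app ⊤).hom := by
  have hK1 : Subsingleton (Coh.HH S (kernel d) 1) :=
    HH.subsingleton_X₃ (T1_shortExact a b d wab wbd hab hbd) 1 hB1 hA2
  exact surjective_app_top_of_H1 (T2_shortExact d) hK1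

include hab hbd in
theorem four_exact (hA1 : Subsingleton (Coh.HH S A 1)) (c : Γ(C, ⊤)) (hc : (d.app ⊤).hom c = 0) :
    ∃ β : Γ(B, ⊤), (b.app ⊤).hom β = c := by
  obtain ⟨κ, hκ⟩ := Groth.Agent.Lib.helper7.KerSections.exists_kernel_section d ⊤ c hc
  obtain ⟨β, hβ⟩ := surjective_app_top_of_H1 (T1_shortExact a b d wab wbd hab hbd) hA1 κ
  refine ⟨β, ?_⟩
  have e1 : kernel.lift d b wbd ≫ kernel.ι d = b := kernel.lift_ι _ _ _
  have e2 := congrArg (fun ψ => (Scheme.Modules.Hom.app ψ ⊤).hom β) e1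
  simp only [Scheme.Modules.Hom.comp_app, AddCommGrpCat.hom_comp, AddMonoidHom.coe_comp,
    Function.comp_apply] at e2
  rw [← e2]
  erw [hβ]
  exact hκ

include hab hbd in
theorem four_vanish (hA : ∀ p : ℕ, Subsingleton (Coh.HH S A (p + 1)))
    (hB : ∀ p : ℕ, Subsingleton (Coh.HH S B (p + 1)))
    (hD : ∀ p : ℕ, Subsingleton (Coh.HH S D (p + 1))) (p : ℕ) :
    Subsingleton (Coh.HH S C (p + 1)) := by
  have hK : Subsingleton (Coh.HH S (kernel d) (p + 1)) :=
    HH.subsingleton_X₃ (T1_shortExact a b d wab wbd hab hbd) (p + 1) (hB p) (hA (p + 1))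
  exact HH.subsingleton_X₂ (T2_shortExact d) (p + 1) hK (hD p)

end four

theorem bijective_app_of_isIso {M N : S.Modules} (φ : M ⟶ N) [IsIso φ] (W : S.Opens) :
    Function.Bijective (φ.app W).hom := by
  have h1 : φ ≫ inv φ = 𝟙 _ := IsIso.hom_inv_id φ
  have h2 : inv φ ≫ φ = 𝟙 _ := IsIso.inv_hom_id φ
  refine Function.bijective_iff_has_inverse.2 ⟨((inv φ).app W).hom, ?_, ?_⟩
  · intro t
    have h3 := congrArg (fun ψ => (Scheme.Modules.Hom.app ψ W).hom t) h1
    simp only [Scheme.Modules.Hom.comp_app] at h3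
    exact h3
  · intro t
    have h3 := congrArg (fun ψ => (Scheme.Modules.Hom.app ψ W).hom t) h2
    simp only [Scheme.Modules.Hom.comp_app] at h3
    exact h3

end general

section main
variable {X S : Scheme.{u}} (f : X ⟶ S) [HasInjectiveResolutions X.Modules]

/-- the hypothesis: all higher direct images are acyclic on the base -/
def Hyp (F : X.Modules) : Prop :=
  ∀ j p : ℕ, Subsingleton (Coh.HH S ((Coh.Rpush f j).obj F) (p + 1))

instance : PreservesFiniteLimits (pushforward f) := by
  haveI : PreservesLimitsOfSize.{0, 0} (pushforward f) :=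
    (pullbackPushforwardAdjunction f).rightAdjoint_preservesLimits
  exact PreservesLimitsOfSize.preservesFiniteLimits.{0, 0} _

instance : IsIso ((pushforward f).toRightDerivedZero) := inferInstance

theorem hyp_injective (I : X.Modules) [Injective I] : Hyp f I := by
  intro j p
  rcases j with _ | j
  · haveI : TopCat.Sheaf.IsFlasque (X := S.carrier) (Coh.toAb ((pushforward f).obj I)) :=
      { epi := fun {U V} i => by
          rw [AddCommGrpCat.epi_iff_surjective]
          exact Groth.Agent.Lib.helper21.InjFlasque.surjective_map I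
            (f.preimage_mono (leOfHom i.unop)) }
    have h1 : Subsingleton (Coh.HH S ((pushforward f).obj I) (p + 1)) :=
      Groth.Agent.S0453.result (Coh.toAb ((pushforward f).obj I)) p
    exact subsingleton_HH_of_iso (asIso ((pushforward f).toRightDerivedZero.app I)) (p + 1) h1
  · exact subsingleton_HH_of_isZero
      (Functor.isZero_rightDerived_obj_injective_succ _ _ _) (p + 1)

variable {f}

theorem hinj (G : X.Modules) (W : S.Opens) :
    Function.Injective (((pushforward f).toRightDerivedZero.app G).app W).hom :=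
  (bijective_app_of_isIso _ W).1

theorem hsurj (G : X.Modules) (W : S.Opens) :
    Function.Surjective (((pushforward f).toRightDerivedZero.app G).app W).hom :=
  (bijective_app_of_isIso _ W).2

variable {Δ : RDer.DerivedLES (pushforward f)}

/-- `R⁰f_*` preserves monomorphisms -/
theorem mono_R0 {F G : X.Modules} (φ : F ⟶ G) [Mono φ] : Mono ((Coh.Rpush f 0).map φ) := by
  have hnat := (pushforward f).toRightDerivedZero.naturality φ
  haveI : Mono ((pushforward f).map φ) := inferInstance
  haveI : Mono ((pushforward f).map φ ≫ (pushforward f).toRightDerivedZero.app G) := mono_comp _ _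
  have h2 : (Coh.Rpush f 0).map φ = inv ((pushforward f).toRightDerivedZero.app F) ≫
      ((pushforward f).map φ ≫ (pushforward f).toRightDerivedZero.app G) := by
    rw [IsIso.eq_inv_comp]
    exact hnat.symm
  rw [h2]
  exact mono_comp _ _

section ses
variable (Δ) {T : ShortComplex X.Modules} (hT : T.ShortExact) (hI : Injective T.X₂)

include hI in
theorem isIso_δ (q : ℕ) : IsIso (Δ.δ T hT (q + 1) (q + 1 + 1) rfl) := by
  have hz : IsZero ((Coh.Rpush f (q + 1)).obj T.X₂) :=
    Functor.isZero_rightDerived_obj_injective_succ _ _ _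
  have hz' : IsZero ((Coh.Rpush f (q + 1 + 1)).obj T.X₂) :=
    Functor.isZero_rightDerived_obj_injective_succ _ _ _
  haveI hmono : Mono (Δ.δ T hT (q + 1) (q + 1 + 1) rfl) :=
    (Δ.exact₃ T hT (q + 1) (q + 1 + 1) rfl).mono_g (hz.eq_of_src _ _)
  haveI hepi : Epi (Δ.δ T hT (q + 1) (q + 1 + 1) rfl) :=
    (Δ.exact₁ T hT (q + 1) (q + 1 + 1) rfl).epi_f (hz'.eq_of_tgt _ _)
  exact isIso_of_mono_of_epi _

include hI in
theorem epi_δ_zero : Epi (Δ.δ T hT 0 1 rfl) := by
  have hz' : IsZero ((Coh.Rpush f 1).obj T.X₂) :=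
    Functor.isZero_rightDerived_obj_injective_succ _ _ _
  exact (Δ.exact₁ T hT 0 1 rfl).epi_f (hz'.eq_of_tgt _ _)

theorem hyp_X₃ (Δ : RDer.DerivedLES (pushforward f)) {T : ShortComplex X.Modules}
    (hT : T.ShortExact) (hI : Injective T.X₂) (hF : Hyp f T.X₁) : Hyp f T.X₃ := by
  intro j p
  rcases j with _ | j
  · haveI : Mono T.f := hT.mono_f
    haveI := mono_R0 (f := f) T.f
    haveI := epi_δ_zero Δ hT hI
    exact four_vanish ((Coh.Rpush f 0).map T.f) ((Coh.Rpush f 0).map T.g) (Δ.δ T hT 0 1 rfl)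
      (by rw [← Functor.map_comp, T.zero, Functor.map_zero]) (Δ.comp_δ T hT 0 1 rfl)
      (Δ.exact₂ T hT 0) (Δ.exact₃ T hT 0 1 rfl) (hF 0) (hyp_injective f T.X₂ 0) (hF 1) p
  · haveI := isIso_δ Δ hT hI j
    exact subsingleton_HH_of_iso (asIso (Δ.δ T hT (j + 1) (j + 1 + 1) rfl)).symm (p + 1)
      (hF (j + 1 + 1) p)

end ses

theorem eps_top_bijective (E : CohCmp.SectCmp f Δ) (q : ℕ) :
    ∀ (F : X.Modules), Hyp f F → Function.Bijective (E.ε ⊤ F q) := by
  induction q with
  | zero =>
    intro F _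
    have h : ∀ s, E.ε ⊤ F 0 (CohPull.sectH0 F (f ⁻¹ᵁ ⊤) s) =
        (((pushforward f).toRightDerivedZero.app F).app ⊤).hom s := E.zero ⊤ F
    constructor
    · intro x y hxy
      obtain ⟨s, rfl⟩ := (CohPull.sectH0 F (f ⁻¹ᵁ ⊤)).surjective x
      obtain ⟨t, rfl⟩ := (CohPull.sectH0 F (f ⁻¹ᵁ ⊤)).surjective y
      rw [h, h] at hxy
      rw [hinj F ⊤ hxy]
    · intro t
      obtain ⟨s, hs⟩ := hsurj F ⊤ t
      exact ⟨CohPull.sectH0 F (f ⁻¹ᵁ ⊤) s, (h s).trans hs⟩
  | succ q ih =>
    intro F hF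
    let R : InjectiveResolution F := injectiveResolution F
    let I : X.Modules := R.cocomplex.X 0
    let ι : F ⟶ I := R.ι.f 0
    haveI : Mono ι := inferInstanceAs (Mono (R.ι.f 0))
    haveI hIinj : Injective I := R.injective 0
    let T : ShortComplex X.Modules := ShortComplex.mk ι (cokernel.π ι) (cokernel.condition ι)
    have hT : T.ShortExact :=
      { exact := ShortComplex.exact_cokernel ι, mono_f := inferInstanceAs (Mono ι),
        epi_g := inferInstanceAs (Epi (cokernel.π ι)) }
    have hQ : Hyp f T.X₃ := hyp_X₃ Δ hT hIinj hF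
    have hA := Groth.Agent.S16954.toAbOn_shortExact (f ⁻¹ᵁ (⊤ : S.Opens)) hT
    have hex := (ShortComplex.ab_exact_iff_function_exact _).1
      (Abelian.Ext.covariant_sequence_exact₁'.{u}
        (CohTop.const ((f ⁻¹ᵁ (⊤ : S.Opens) : X.Opens) : Scheme.{u}) (ULift.{u} ℤ)) hA q (q + 1) rfl)
    have hδsurj : ∀ x : Coh.HHon X F (f ⁻¹ᵁ ⊤) (q + 1), ∃ x', extδ hA q x' = x := fun x =>
      (hex x).1 (Groth.Agent.S16955.HHon_injective_eq_zero I (f ⁻¹ᵁ ⊤) q _)
    have hdelta := E.delta ⊤ T hT hA q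
    rcases q with _ | q
    · have hε0Q := ih T.X₃ hQ
      have hε0I := ih T.X₂ (hyp_injective f I)
      haveI : Mono T.f := hT.mono_f
      haveI := mono_R0 (f := f) T.f
      haveI := epi_δ_zero Δ hT hIinj
      have w1 : (Coh.Rpush f 0).map T.f ≫ (Coh.Rpush f 0).map T.g = 0 := by
        rw [← Functor.map_comp, T.zero, Functor.map_zero]
      constructor
      · rw [injective_iff_map_eq_zero]
        intro x hx
        obtain ⟨x', rfl⟩ := hδsurj x
        rw [hdelta] at hx
        obtain ⟨β, hβ⟩ := four_exact ((Coh.Rpush f 0).map T.f) ((Coh.Rpush f 0).map T.g)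
          (Δ.δ T hT 0 1 rfl) w1 (Δ.comp_δ T hT 0 1 rfl) (Δ.exact₂ T hT 0)
          (Δ.exact₃ T hT 0 1 rfl) (hF 0 0) (E.ε ⊤ T.X₃ 0 x') hx
        obtain ⟨xI, rfl⟩ := hε0I.2 β
        have hnat := E.natural ⊤ T.g 0 xI
        have hx'eq : x' = CohPull.mapH ((restrictFunctor (f ⁻¹ᵁ (⊤ : S.Opens)).ι).map T.g) 0 xI :=
          hε0Q.1 (hβ.symm.trans hnat.symm)
        rw [hx'eq]
        exact ((ShortComplex.ab_exact_iff_function_exact _).1
          (Abelian.Ext.covariant_sequence_exact₃'.{u}
            (CohTop.const ((f ⁻¹ᵁ (⊤ : S.Opens) : X.Opens) : Scheme.{u}) (ULift.{u} ℤ)) hA 0 1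
              rfl)).apply_apply_eq_zero _
      · intro t
        obtain ⟨c, hc⟩ := four_surjective ((Coh.Rpush f 0).map T.f) ((Coh.Rpush f 0).map T.g)
          (Δ.δ T hT 0 1 rfl) w1 (Δ.comp_δ T hT 0 1 rfl) (Δ.exact₂ T hT 0)
          (Δ.exact₃ T hT 0 1 rfl) (hF 0 1) (hyp_injective f I 0 0) t
        obtain ⟨x', hx'⟩ := hε0Q.2 c
        exact ⟨extδ hA 0 x', by rw [hdelta, hx', hc]⟩
    · have hεQ := ih T.X₃ hQ
      haveI := isIso_δ Δ hT hIinj q
      have hδbij := bijective_app_of_isIso (Δ.δ T hT (q + 1) (q + 1 + 1) rfl) ⊤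
      constructor
      · rw [injective_iff_map_eq_zero]
        intro x hx
        obtain ⟨x', rfl⟩ := hδsurj x
        rw [hdelta] at hx
        have h1 : E.ε ⊤ T.X₃ (q + 1) x' = 0 := hδbij.1 (hx.trans (map_zero _).symm)
        have h2 : x' = 0 := hεQ.1 (h1.trans (map_zero _).symm)
        rw [h2]
        exact map_zero _
      · intro t
        obtain ⟨c, hc⟩ := hδbij.2 t
        obtain ⟨x', hx'⟩ := hεQ.2 c
        exact ⟨extδ hA (q + 1) x', by rw [hdelta, hx', hc]⟩

end main

open AlgebraicGeometry CategoryTheory Scheme.Modules in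
/-- The comparison map over an affine base is bijective: let f : X → S be a quasi-compact and
quasi-separated morphism of schemes with S affine, F a quasi-coherent O_X-module and q a natural
number; R^q f_* F is the q-th right derived functor of direct image on O-modules and ε_V : H^q(f⁻¹V,
F|_{f⁻¹V}) → Γ(V, R^q f_* F) the pinned comparison maps (the structure SectCmp, taken as a
hypothesis). Then ε over V = S, from the cohomology of F restricted to the open f⁻¹S = X to the
global sections of R^q f_* F, is bijective. -/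
theorem result
    {X S : Scheme.{u}} (f : X ⟶ S) [QuasiCompact f] [QuasiSeparated f] [IsAffine S]
    [HasInjectiveResolutions X.Modules]
    {Δ : RDer.DerivedLES (pushforward f)} (E : CohCmp.SectCmp f Δ) (F : X.Modules) [Coh.IsQCoh F] (q : ℕ) :
    Function.Bijective (E.ε ⊤ F q) := by
  apply eps_top_bijective E q F
  intro j p
  haveI : Coh.IsQCoh ((Coh.Rpush f j).obj F) := Groth.Agent.S0030.result f F j
  exact Groth.Agent.S0007.result S ((Coh.Rpush f j).obj F) (p + 1) (Nat.succ_pos p)

end Groth.Agent.S16959
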