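import Groth.Statements.S10856
import Mathlib

set_option autoImplicit false
universe u
open Mero

namespace Groth.Agent.S10856

open AlgebraicGeometry CategoryTheory TopologicalSpace Opposite

/-- `a / s = g / 1` in a localization at nonzerodivisors iff `a = s * g` -/
theorem mk_eq_algebraMap_iff {R : Type u} [CommRing R] {S : Submonoid R} (hS : S ≤ nonZeroDivisors R)
    (a g : R) (s : S) :
    (LocalizedModule.mk a s : Localization S) = algebraMap R (Localization S) g ↔ a = s * g := by
  have h1 : (LocalizedModule.mk a s : Localization S) = IsLocalization.mk' (Localization S) a s := by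
    rw [← Localization.mk_eq_mk']; rfl
  rw [h1, IsLocalization.mk'_eq_iff_eq_mul, ← map_mul]
  constructor
  · intro h
    have := IsLocalization.injective (Localization S) hS h
    rw [this]; ring
  · intro h
    rw [h]; ring_nf

/-- local fraction representation of a meromorphic function -/
theorem local_frac {X : Scheme.{u}} (f : Γ(Mero.kmod X, ⊤)) (x : X) :
    ∃ (V : X.Opens) (_ : x ∈ V) (a : Γ(X, V)) (b : regSub X V), ∀ (y : X) (hy : y ∈ V),
      f.1 ⟨y, Opens.mem_top y⟩ = LocalizedModule.mk (X.presheaf.germ V y hy a) (regGerm ⟨y, hy⟩ b) := by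
  obtain ⟨V, hxV, i, a, b, h⟩ := f.2 ⟨x, Opens.mem_top x⟩
  exact ⟨V, hxV, a, b, fun y hy => h ⟨y, hy⟩⟩

open AlgebraicGeometry CategoryTheory TopologicalSpace in

open AlgebraicGeometry CategoryTheory TopologicalSpace in
/-- Let X be a scheme and f a global section of the sheaf of meromorphic functions K_X. The domain of
definition of f, i.e. the set of points x whose value f_x ∈ K_{X,x} lies in the image of the local
ring O_{X,x}, is the underlying set of an open subscheme D of X, and D is schematically dense in X: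
for every open subset V of X the restriction map from sections of O_X over V to sections over V ∩ D
is injective. -/
theorem result {X : Scheme.{u}} (f : Γ(Mero.kmod X, ⊤)) :
    ∃ D : X.Opens,
      (D : Set X) = {x | f.1 ⟨x, Opens.mem_top x⟩ ∈ (algebraMap (X.presheaf.stalk x) (Mero.KStalk X x)).range} ∧
        ∀ V : X.Opens, Function.Injective (X.presheaf.map (homOfLE (inf_le_left : V ⊓ D ≤ V)).op) := by
  set S : Set X := {x | f.1 ⟨x, Opens.mem_top x⟩ ∈
    (algebraMap (X.presheaf.stalk x) (Mero.KStalk X x)).range} with hS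
  -- `S` is open
  have hopen : IsOpen S := by
    rw [isOpen_iff_forall_mem_open]
    intro x hx
    obtain ⟨g₀, hg₀⟩ := hx
    obtain ⟨V, hxV, a, b, hab⟩ := local_frac f x
    obtain ⟨W₀, hxW₀, g, hg⟩ := TopCat.Presheaf.exists_germ_eq X.presheaf g₀
    have h1 := (hab x hxV).symm.trans hg₀.symm
    rw [mk_eq_algebraMap_iff (regStalk_le_nonZeroDivisors x)] at h1
    -- `germ a = germ b * germ g`
    let W : X.Opens := V ⊓ W₀
    have hxW : x ∈ W := ⟨hxV, hxW₀⟩
    let aW : Γ(X, W) := X.presheaf.map (homOfLE (inf_le_left : W ≤ V)).op a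
    let bW : Γ(X, W) := X.presheaf.map (homOfLE (inf_le_left : W ≤ V)).op b.1
    let gW : Γ(X, W) := X.presheaf.map (homOfLE (inf_le_right : W ≤ W₀)).op g
    have h2 : X.presheaf.germ W x hxW aW = X.presheaf.germ W x hxW (bW * gW) := by
      rw [map_mul]
      erw [TopCat.Presheaf.germ_res_apply, TopCat.Presheaf.germ_res_apply,
        TopCat.Presheaf.germ_res_apply]
      rw [hg]
      exact h1
    obtain ⟨W', hxW', i₁, i₂, hW'⟩ := TopCat.Presheaf.germ_eq X.presheaf x hxW hxW aW (bW * gW) h2
    refine ⟨W', ?_, W'.2, hxW'⟩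
    intro y hy
    have hyW : y ∈ W := i₁.le hy
    have hyV : y ∈ V := hyW.1
    refine ⟨X.presheaf.germ W y hyW gW, ?_⟩
    rw [hab y hyV]
    symm
    rw [mk_eq_algebraMap_iff (regStalk_le_nonZeroDivisors y)]
    have h3 := congrArg (X.presheaf.germ W' y hy) hW'
    have e1 : X.presheaf.germ W' y hy (X.presheaf.map i₁.op aW) = X.presheaf.germ W y hyW aW :=
      TopCat.Presheaf.germ_res_apply X.presheaf i₁ y hy aW
    have e2 : X.presheaf.germ W' y hy (X.presheaf.map i₂.op (bW * gW)) =
        X.presheaf.germ W y hyW (bW * gW) :=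
      TopCat.Presheaf.germ_res_apply X.presheaf i₂ y hy (bW * gW)
    have h3' : X.presheaf.germ W y hyW aW = X.presheaf.germ W y hyW (bW * gW) :=
      e1.symm.trans (h3.trans e2)
    have h4 : X.presheaf.germ W y hyW aW = X.presheaf.germ V y hyV a :=
      TopCat.Presheaf.germ_res_apply X.presheaf (homOfLE (inf_le_left : W ≤ V)) y hyW a
    have h5 : X.presheaf.germ W y hyW bW = X.presheaf.germ V y hyV b.1 :=
      TopCat.Presheaf.germ_res_apply X.presheaf (homOfLE (inf_le_left : W ≤ V)) y hyW b.1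
    rw [map_mul, h4, h5] at h3'
    exact h3'
  refine ⟨⟨S, hopen⟩, rfl, ?_⟩
  intro V
  rw [injective_iff_map_eq_zero]
  intro s hs
  apply TopCat.Presheaf.section_ext X.sheaf V
  intro x hxV
  refine Eq.trans ?_ (map_zero _).symm
  obtain ⟨V', hxV', a, b, hab⟩ := local_frac f x
  obtain ⟨W, hW, hxW, hWle⟩ := exists_isAffineOpen_mem_and_subset (x := x) (U := V ⊓ V')
    ⟨hxV, hxV'⟩
  have hWV : W ≤ V := fun y hy => (hWle hy).1
  have hWV' : W ≤ V' := fun y hy => (hWle hy).2
  let bW : Γ(X, W) := X.presheaf.map (homOfLE hWV').op b.1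
  let sW : Γ(X, W) := X.presheaf.map (homOfLE hWV).op s
  -- `D(b) ⊆ S`
  have hbS : ∀ y, y ∈ X.basicOpen bW → y ∈ S := by
    intro y hy
    have hyW : y ∈ W := X.basicOpen_le bW hy
    have hyV' : y ∈ V' := hWV' hyW
    have hu : IsUnit (X.presheaf.germ W y hyW bW) := (X.mem_basicOpen bW y hyW).mp hy
    have hu' : IsUnit (X.presheaf.germ V' y hyV' b.1) := by
      have : X.presheaf.germ W y hyW bW = X.presheaf.germ V' y hyV' b.1 :=
        TopCat.Presheaf.germ_res_apply X.presheaf (homOfLE hWV') y hyW b.1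
      rw [← this]; exact hu
    obtain ⟨u, hu⟩ := hu'
    refine ⟨X.presheaf.germ V' y hyV' a * ↑u⁻¹, ?_⟩
    show algebraMap _ _ _ = f.1 ⟨y, Opens.mem_top y⟩
    rw [hab y hyV']
    symm
    rw [mk_eq_algebraMap_iff (regStalk_le_nonZeroDivisors y)]
    show _ = X.presheaf.germ V' y hyV' b.1 * _
    rw [← hu]
    rw [mul_comm (X.presheaf.germ V' y hyV' a), ← mul_assoc, Units.mul_inv, one_mul]
  have hle : X.basicOpen bW ≤ V ⊓ ⟨S, hopen⟩ := fun y hy =>
    ⟨hWV (X.basicOpen_le bW hy), hbS y hy⟩
  have hres : X.presheaf.map (homOfLE (X.basicOpen_le bW)).op sW = 0 := by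
    have h1 : X.presheaf.map (homOfLE (X.basicOpen_le bW)).op sW =
        X.presheaf.map (homOfLE hle).op
          (X.presheaf.map (homOfLE (inf_le_left : V ⊓ ⟨S, hopen⟩ ≤ V)).op s) := by
      show X.presheaf.map _ (X.presheaf.map _ s) = _
      rw [← ConcreteCategory.comp_apply, ← ConcreteCategory.comp_apply, ← Functor.map_comp,
        ← Functor.map_comp]
      rfl
    rw [h1, hs, map_zero]
  obtain ⟨n, hn⟩ := exists_pow_mul_eq_zero_of_res_basicOpen_eq_zero_of_isAffineOpen X hW sW bW hres
  have h2 := congrArg (X.presheaf.germ W x hxW) hn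
  rw [map_mul, map_pow, map_zero] at h2
  have hreg : X.presheaf.germ W x hxW bW ∈ nonZeroDivisors (X.presheaf.stalk x) := by
    have : X.presheaf.germ W x hxW bW = X.presheaf.germ V' x hxV' b.1 :=
      TopCat.Presheaf.germ_res_apply X.presheaf (homOfLE hWV') x hxW b.1
    rw [this]
    exact b.2 ⟨x, hxV'⟩
  have h3 : X.presheaf.germ W x hxW sW = 0 :=
    (mul_left_mem_nonZeroDivisors_eq_zero_iff (pow_mem hreg n)).mp h2
  have h4 : X.presheaf.germ W x hxW sW = X.presheaf.germ V x hxV s :=
    TopCat.Presheaf.germ_res_apply X.presheaf (homOfLE hWV) x hxW s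
  exact h4.symm.trans h3

end Groth.Agent.S10856
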