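import Groth.Statements.S10961
import Mathlib
import Groth.Agent.Lib.Helper18.MeroDom
import Groth.Agent.Lib.Helper18.MeroExt

set_option autoImplicit false
universe u
open CategoryTheory AlgebraicGeometry TopologicalSpace
open Mero

namespace Groth.Agent.S10961

open Groth.Agent.S10856 (mk_eq_algebraMap_iff)

variable {X : Scheme.{u}}

/-- generic point of an irreducible component -/
def IsGen (x : X) : Prop := closure ({x} : Set X) ∈ irreducibleComponents (X : Type u)

theorem exists_gen_specializes (z : X) : ∃ η : X, IsGen η ∧ η ⤳ z := by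
  have hirr : IsIrreducible (irreducibleComponent z) := isIrreducible_irreducibleComponent
  have hcl : IsClosed (irreducibleComponent z) := isClosed_irreducibleComponent
  obtain ⟨η, hη⟩ := QuasiSober.sober hirr hcl
  refine ⟨η, ?_, ?_⟩
  · unfold IsGen; rw [hη.def]; exact irreducibleComponent_mem_irreducibleComponents z
  · rw [specializes_iff_mem_closure, hη.def]; exact mem_irreducibleComponent

theorem IsGen.eq_of_specializes {x y : X} (hx : IsGen x) (hy : IsGen y) (h : y ⤳ x) : x = y := by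
  have h1 : closure ({x} : Set X) ⊆ closure ({y} : Set X) := by
    rw [specializes_iff_closure_subset] at h; exact h
  have h2 : closure ({y} : Set X) ⊆ closure ({x} : Set X) :=
    hx.2 hy.1 h1
  have : closure ({x} : Set X) = closure ({y} : Set X) := le_antisymm h1 h2
  have hxy : x ⤳ y := by
    rw [specializes_iff_closure_subset]; exact h2
  exact (hxy.antisymm h).eq

/-- a section vanishing at all generic points of a reduced scheme vanishes -/
theorem eq_zero_of_germ_gen [IsReduced X] {V : X.Opens} (c : Γ(X, V))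
    (h : ∀ (η : X) (hη : η ∈ V), IsGen η → X.presheaf.germ V η hη c = 0) : c = 0 := by
  rw [← basicOpen_eq_bot_iff]
  ext z
  simp only [Opens.coe_bot, Set.mem_empty_iff_false, iff_false, SetLike.mem_coe]
  intro hz
  obtain ⟨η, hη, hsp⟩ := exists_gen_specializes z
  have hη' : η ∈ X.basicOpen c := hsp.mem_open (X.basicOpen c).isOpen hz
  have hηV : η ∈ V := X.basicOpen_le c hη'
  have hu : IsUnit (X.presheaf.germ V η hηV c) := (X.mem_basicOpen c η hηV).mp hη'
  rw [h η hηV hη] at hu
  exact not_isUnit_zero hu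

section Fin

/-- the complement of the other components -/
def Wgen (hfin : (irreducibleComponents (X : Type u)).Finite) (x : X) : X.Opens :=
  ⟨(⋃ Z' ∈ {Z' | Z' ∈ irreducibleComponents (X : Type u) ∧ Z' ≠ closure ({x} : Set X)}, Z')ᶜ, by
    rw [isOpen_compl_iff]
    refine Set.Finite.isClosed_biUnion (hfin.subset (fun Z' h => h.1)) (fun Z' h => ?_)
    exact isClosed_of_mem_irreducibleComponents Z' h.1⟩

theorem mem_Wgen_iff (hfin : (irreducibleComponents (X : Type u)).Finite) (x z : X) :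
    z ∈ Wgen hfin x ↔ ∀ Z' ∈ irreducibleComponents (X : Type u), Z' ≠ closure ({x} : Set X) → z ∉ Z' := by
  change z ∈ (⋃ Z' ∈ {Z' | Z' ∈ irreducibleComponents (X : Type u) ∧ Z' ≠ closure ({x} : Set X)}, Z')ᶜ ↔ _
  simp only [Set.mem_compl_iff, Set.mem_iUnion, Set.mem_setOf_eq, not_exists, and_imp]

theorem IsGen.mem_Wgen (hfin : (irreducibleComponents (X : Type u)).Finite) {x : X} (hx : IsGen x) : x ∈ Wgen hfin x := by
  rw [mem_Wgen_iff hfin]
  intro Z' hZ' hne hxZ'
  apply hne
  have hcl : IsClosed Z' := isClosed_of_mem_irreducibleComponents Z' hZ'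
  have h1 : closure ({x} : Set X) ⊆ Z' := hcl.closure_subset_iff.mpr (Set.singleton_subset_iff.mpr hxZ')
  exact le_antisymm (hx.2 hZ'.1 h1) h1

theorem IsGen.not_mem_Wgen (hfin : (irreducibleComponents (X : Type u)).Finite) {x y : X} (hx : IsGen x) (hy : IsGen y) (hne : y ≠ x) : y ∉ Wgen hfin x := by
  rw [mem_Wgen_iff hfin]
  intro h
  refine h (closure {y}) hy ?_ (subset_closure rfl)
  intro heq
  apply hne
  have h1 : x ⤳ y := by rw [specializes_iff_closure_subset, heq]
  exact hy.eq_of_specializes hx h1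

/-- an open set meeting `Wgen x` contains `x` -/
theorem IsGen.mem_of_mem_Wgen (hfin : (irreducibleComponents (X : Type u)).Finite) {x : X} (hx : IsGen x) {O : Set X} (hO : IsOpen O) {z : X}
    (hzO : z ∈ O) (hz : z ∈ Wgen hfin x) : x ∈ O := by
  rw [mem_Wgen_iff hfin] at hz
  have h1 : irreducibleComponent z = closure ({x} : Set X) := by
    by_contra hne
    exact hz _ (irreducibleComponent_mem_irreducibleComponents z) hne mem_irreducibleComponent
  have h2 : x ⤳ z := by
    rw [specializes_iff_mem_closure, ← h1]; exact mem_irreducibleComponent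
  exact h2.mem_open hO hzO

/-- the local ring at a generic point of a reduced scheme is a field -/
theorem IsGen.eq_zero_of_not_isUnit [IsReduced X] (hfin : (irreducibleComponents (X : Type u)).Finite) {x : X} (hx : IsGen x)
    (g : X.presheaf.stalk x) (hg : ¬ IsUnit g) : g = 0 := by
  obtain ⟨V, hxV, f, rfl⟩ := TopCat.Presheaf.exists_germ_eq X.presheaf g
  have hxf : x ∉ X.basicOpen f := fun h => hg ((X.mem_basicOpen f x hxV).mp h)
  let V' : X.Opens := V ⊓ Wgen hfin x
  have hxV' : x ∈ V' := ⟨hxV, hx.mem_Wgen hfin⟩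
  let f' : Γ(X, V') := X.presheaf.map (homOfLE (inf_le_left : V' ≤ V)).op f
  have hf' : f' = 0 := by
    rw [← basicOpen_eq_bot_iff]
    ext z
    simp only [Opens.coe_bot, Set.mem_empty_iff_false, iff_false, SetLike.mem_coe]
    intro hz
    have hz' : z ∈ V' ⊓ X.basicOpen f := by
      have := Scheme.basicOpen_res X f (homOfLE (inf_le_left : V' ≤ V)).op
      rw [← this]; exact hz
    exact hxf (hx.mem_of_mem_Wgen hfin (X.basicOpen f).isOpen hz'.2 hz'.1.2)
  have e : X.presheaf.germ V' x hxV' f' = X.presheaf.germ V x hxV f :=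
    TopCat.Presheaf.germ_res_apply X.presheaf (homOfLE (inf_le_left : V' ≤ V)) x hxV' f
  rw [← e, hf', map_zero]

theorem IsGen.isField [IsReduced X] (hfin : (irreducibleComponents (X : Type u)).Finite) {x : X} (hx : IsGen x) : IsField (X.presheaf.stalk x) := by
  refine ⟨⟨0, 1, zero_ne_one⟩, mul_comm, fun {a} ha => ?_⟩
  have hu : IsUnit a := by
    by_contra h
    exact ha (hx.eq_zero_of_not_isUnit hfin a h)
  obtain ⟨b, hb⟩ := hu.exists_right_inv
  exact ⟨b, hb⟩

theorem IsGen.bijective_algebraMap [IsReduced X] (hfin : (irreducibleComponents (X : Type u)).Finite) {x : X} (hx : IsGen x) :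
    Function.Bijective (algebraMap (X.presheaf.stalk x) (Mero.KStalk X x)) := by
  refine ⟨algebraMap_KStalk_injective x, fun z => ?_⟩
  obtain ⟨a, s, rfl⟩ := IsLocalization.exists_mk'_eq (regStalk X x) z
  have hs0 : (s : X.presheaf.stalk x) ≠ 0 :=
    nonZeroDivisors.ne_zero (regStalk_le_nonZeroDivisors x s.2)
  have hu : IsUnit (s : X.presheaf.stalk x) := by
    by_contra h
    exact hs0 (hx.eq_zero_of_not_isUnit hfin _ h)
  obtain ⟨b, hb⟩ := hu.exists_right_inv
  refine ⟨a * b, ?_⟩
  rw [IsLocalization.eq_mk'_iff_mul_eq, ← map_mul]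
  congr 1
  rw [mul_assoc, mul_comm b, hb, mul_one]

end Fin

/-- equality of fractions in a localization at nonzerodivisors -/
theorem mk_eq_mk_iff {R : Type u} [CommRing R] {S : Submonoid R} (hS : S ≤ nonZeroDivisors R)
    (a a' : R) (s s' : S) :
    (LocalizedModule.mk a s : Localization S) = LocalizedModule.mk a' s' ↔
      a * (s' : R) = a' * (s : R) := by
  have h1 : ∀ (a : R) (s : S), (LocalizedModule.mk a s : Localization S) =
      IsLocalization.mk' (Localization S) a s := by
    intro a s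
    rw [← Localization.mk_eq_mk']; rfl
  rw [h1, h1, IsLocalization.mk'_eq_iff_eq]
  constructor
  · intro h
    have := IsLocalization.injective (Localization S) hS h
    rw [mul_comm a, mul_comm a']; exact this
  · intro h
    congr 1
    rw [mul_comm _ a, mul_comm _ a']; exact h

/-- two fractions agreeing at the generic points agree everywhere -/
theorem frac_eq_of_gen [IsReduced X] {V V' : X.Opens} (a : Γ(X, V)) (b : regSub X V)
    (a' : Γ(X, V')) (b' : regSub X V')
    (h : ∀ (η : X) (hη : η ∈ V) (hη' : η ∈ V'), IsGen η →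
      (LocalizedModule.mk (X.presheaf.germ V η hη a) (regGerm ⟨η, hη⟩ b) : KStalk X η) =
        LocalizedModule.mk (X.presheaf.germ V' η hη' a') (regGerm ⟨η, hη'⟩ b'))
    (z : X) (hz : z ∈ V) (hz' : z ∈ V') :
    (LocalizedModule.mk (X.presheaf.germ V z hz a) (regGerm ⟨z, hz⟩ b) : KStalk X z) =
      LocalizedModule.mk (X.presheaf.germ V' z hz' a') (regGerm ⟨z, hz'⟩ b') := by
  let W : X.Opens := V ⊓ V'
  let aW : Γ(X, W) := X.presheaf.map (homOfLE (inf_le_left : W ≤ V)).op a
  let bW : Γ(X, W) := X.presheaf.map (homOfLE (inf_le_left : W ≤ V)).op b.1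
  let aW' : Γ(X, W) := X.presheaf.map (homOfLE (inf_le_right : W ≤ V')).op a'
  let bW' : Γ(X, W) := X.presheaf.map (homOfLE (inf_le_right : W ≤ V')).op b'.1
  have hg : ∀ (y : X) (hy : y ∈ W),
      X.presheaf.germ W y hy (aW * bW' - aW' * bW) =
        X.presheaf.germ V y hy.1 a * X.presheaf.germ V' y hy.2 b'.1 -
          X.presheaf.germ V' y hy.2 a' * X.presheaf.germ V y hy.1 b.1 := by
    intro y hy
    have e1 : X.presheaf.germ W y hy aW = X.presheaf.germ V y hy.1 a :=
      TopCat.Presheaf.germ_res_apply X.presheaf (homOfLE (inf_le_left : W ≤ V)) y hy a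
    have e2 : X.presheaf.germ W y hy bW = X.presheaf.germ V y hy.1 b.1 :=
      TopCat.Presheaf.germ_res_apply X.presheaf (homOfLE (inf_le_left : W ≤ V)) y hy b.1
    have e3 : X.presheaf.germ W y hy aW' = X.presheaf.germ V' y hy.2 a' :=
      TopCat.Presheaf.germ_res_apply X.presheaf (homOfLE (inf_le_right : W ≤ V')) y hy a'
    have e4 : X.presheaf.germ W y hy bW' = X.presheaf.germ V' y hy.2 b'.1 :=
      TopCat.Presheaf.germ_res_apply X.presheaf (homOfLE (inf_le_right : W ≤ V')) y hy b'.1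
    rw [map_sub, map_mul, map_mul, e1, e2, e3, e4]
  have hc : aW * bW' - aW' * bW = 0 := by
    apply eq_zero_of_germ_gen
    intro η hη hgen
    rw [hg η hη, sub_eq_zero]
    exact (mk_eq_mk_iff (regStalk_le_nonZeroDivisors η) _ _ _ _).mp (h η hη.1 hη.2 hgen)
  have hzW : z ∈ W := ⟨hz, hz'⟩
  have h0 := hg z hzW
  rw [hc, map_zero] at h0
  exact (mk_eq_mk_iff (regStalk_le_nonZeroDivisors z) _ _ _ _).mpr (sub_eq_zero.mp h0.symm)

/-- a meromorphic function vanishing at the generic points vanishes -/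
theorem eq_zero_of_evalK_gen [IsReduced X] {U : X.Opens} (s : Γ(Mero.kmod X, U))
    (h : ∀ (η : X) (hη : η ∈ U), IsGen η → s.1 ⟨η, hη⟩ = 0) : s = 0 := by
  apply Subtype.ext
  funext y
  obtain ⟨V, hyV, hVU, a, b, hab⟩ := Groth.Agent.Lib.Helper18.MeroDom.local_frac' s y.1 y.2
  have ha : a = 0 := by
    apply eq_zero_of_germ_gen
    intro η hηV hη
    have h1 := hab η hηV
    rw [h η (hVU hηV) hη] at h1
    have h2 := (mk_eq_algebraMap_iff (regStalk_le_nonZeroDivisors η)
      (X.presheaf.germ V η hηV a) 0 (regGerm ⟨η, hηV⟩ b)).mp (by rw [map_zero]; exact h1.symm)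
    rw [h2, mul_zero]
  have h3 := hab y.1 hyV
  rw [ha, map_zero, LocalizedModule.zero_mk] at h3
  exact h3

/-- on an affine open, any family of elements of the `K_{X,η}` at the generic points is a fraction -/
theorem exists_local [IsReduced X] (hfin : (irreducibleComponents (X : Type u)).Finite)
    {V : X.Opens} (hV : IsAffineOpen V) (t : ∀ η : X, KStalk X η) :
    ∃ (a : Γ(X, V)) (b : regSub X V), ∀ (η : X) (hη : η ∈ V), IsGen η →
      t η = LocalizedModule.mk (X.presheaf.germ V η hη a) (regGerm ⟨η, hη⟩ b) := by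
  classical
  -- the generic points in `V`
  set G : Set X := {η | IsGen η ∧ η ∈ V} with hG
  have hGfin : G.Finite := by
    have h1 : ((fun η : X => closure ({η} : Set X)) '' G).Finite :=
      hfin.subset (by rintro _ ⟨η, hη, rfl⟩; exact hη.1)
    refine Set.Finite.of_finite_image h1 ?_
    intro η hη η' hη' heq
    have heq' : closure ({η} : Set X) = closure ({η'} : Set X) := heq
    have h2 : η' ⤳ η := by rw [specializes_iff_closure_subset, heq']
    exact hη.1.eq_of_specializes hη'.1 h2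
  -- local data
  have hdata : ∀ η : X, ∃ (t' : X.presheaf.stalk η) (a s e : Γ(X, V)),
      IsGen η → ∀ hη : η ∈ V,
        algebraMap (X.presheaf.stalk η) (KStalk X η) t' = t η ∧
        t' * X.presheaf.germ V η hη s = X.presheaf.germ V η hη a ∧
        IsUnit (X.presheaf.germ V η hη s) ∧
        X.basicOpen e ≤ Wgen hfin η ∧ η ∈ X.basicOpen e := by
    intro η
    by_cases hc : IsGen η ∧ η ∈ V
    · obtain ⟨hgen, hη⟩ := hc
      obtain ⟨t', ht'⟩ := (hgen.bijective_algebraMap hfin).2 (t η)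
      letI := X.presheaf.algebra_section_stalk ⟨η, hη⟩
      haveI := hV.isLocalization_stalk ⟨η, hη⟩
      obtain ⟨⟨a, s⟩, has⟩ := IsLocalization.surj (hV.primeIdealOf ⟨η, hη⟩).asIdeal.primeCompl t'
      have hsu : IsUnit (algebraMap Γ(X, V) (X.presheaf.stalk η) s.1) :=
        IsLocalization.map_units (X.presheaf.stalk η) s
      obtain ⟨e, he1, he2⟩ := hV.exists_basicOpen_le (V := Wgen hfin η)
        ⟨η, hgen.mem_Wgen hfin⟩ hη
      exact ⟨t', a, s.1, e, fun _ _ => ⟨ht', has, hsu, he1, he2⟩⟩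
    · exact ⟨0, 0, 0, 0, fun h1 h2 => (hc ⟨h1, h2⟩).elim⟩
  choose t' a s e hprop using hdata
  -- vanishing of `e η` at the other generic points
  have he0 : ∀ (η η₀ : X) (hη : IsGen η ∧ η ∈ V) (hη₀ : IsGen η₀ ∧ η₀ ∈ V), η₀ ≠ η →
      X.presheaf.germ V η₀ hη₀.2 (e η) = 0 := by
    intro η η₀ hη hη₀ hne
    refine hη₀.1.eq_zero_of_not_isUnit hfin _ (fun hu => ?_)
    have h1 : η₀ ∈ X.basicOpen (e η) := (X.mem_basicOpen (e η) η₀ hη₀.2).mpr hu
    have h2 : η₀ ∈ Wgen hfin η := (hprop η hη.1 hη.2).2.2.2.1 h1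
    exact IsGen.not_mem_Wgen hfin hη.1 hη₀.1 hne h2
  let A : Γ(X, V) := ∑ η ∈ hGfin.toFinset, e η * a η
  let B : Γ(X, V) := ∑ η ∈ hGfin.toFinset, e η * s η
  have hsum : ∀ (c : X → Γ(X, V)) (η₀ : X) (hη₀ : IsGen η₀ ∧ η₀ ∈ V),
      X.presheaf.germ V η₀ hη₀.2 (∑ η ∈ hGfin.toFinset, e η * c η) =
        X.presheaf.germ V η₀ hη₀.2 (e η₀) * X.presheaf.germ V η₀ hη₀.2 (c η₀) := by
    intro c η₀ hη₀
    rw [map_sum, Finset.sum_eq_single η₀]
    · rw [map_mul]
    · intro η hη hne
      have hηG : IsGen η ∧ η ∈ V := (Set.Finite.mem_toFinset hGfin).mp hη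
      rw [map_mul, he0 η η₀ hηG hη₀ (Ne.symm hne), zero_mul]
    · intro hn
      exact (hn ((Set.Finite.mem_toFinset hGfin).mpr hη₀)).elim
  have heu : ∀ (η₀ : X) (hη₀ : IsGen η₀ ∧ η₀ ∈ V), IsUnit (X.presheaf.germ V η₀ hη₀.2 (e η₀)) :=
    fun η₀ hη₀ => (X.mem_basicOpen (e η₀) η₀ hη₀.2).mp (hprop η₀ hη₀.1 hη₀.2).2.2.2.2
  have hBu : ∀ (η₀ : X) (hη₀ : IsGen η₀ ∧ η₀ ∈ V), IsUnit (X.presheaf.germ V η₀ hη₀.2 B) := by
    intro η₀ hη₀
    rw [hsum s η₀ hη₀]
    exact (heu η₀ hη₀).mul (hprop η₀ hη₀.1 hη₀.2).2.2.1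
  have hBnzd : B ∈ nonZeroDivisors Γ(X, V) := by
    rw [mem_nonZeroDivisors_iff_right]
    intro c hc
    apply eq_zero_of_germ_gen
    intro η hη hgen
    have h1 := congrArg (X.presheaf.germ V η hη) hc
    rw [map_mul, map_zero] at h1
    exact ((hBu η ⟨hgen, hη⟩).mul_left_eq_zero).mp h1
  refine ⟨A, ⟨B, Groth.Agent.Lib.Helper18.MeroExt.mem_regSub_of_mem_nonZeroDivisors hV B hBnzd⟩, ?_⟩
  intro η hη hgen
  obtain ⟨h1, h2, h3, h4, h5⟩ := hprop η hgen hη
  rw [← h1]
  symm
  rw [mk_eq_algebraMap_iff (regStalk_le_nonZeroDivisors η)]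
  change X.presheaf.germ V η hη A = X.presheaf.germ V η hη B * t' η
  rw [hsum a η ⟨hgen, hη⟩, hsum s η ⟨hgen, hη⟩, ← h2]
  ring

/-- Let X be a reduced scheme with only finitely many irreducible components, with generic points x_1,
…, x_r, and let U be an open subset of X. Then the ring of sections over U of the sheaf of
meromorphic functions K_X maps bijectively, by evaluation, onto the product of the rings K_{X,x_i}
over those generic points x_i that lie in U; moreover for each generic point x_i the local ring of X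
at x_i is a field and maps bijectively onto K_{X,x_i}, so that K_{X,x_i} is the residue field of
x_i. (The hypothesis holds for every Noetherian scheme; for X integral it says that K_X is the
constant sheaf with value the function field.) -/
theorem result
    (X : Scheme.{u}) [IsReduced X] (hfin : (irreducibleComponents (X : Type u)).Finite) (U : X.Opens) :
    Function.Bijective (fun s : Γ(Mero.kmod X, U) =>
      fun x : {x : U // closure ({x.1} : Set X) ∈ irreducibleComponents (X : Type u)} =>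
        Mero.evalK X U x.1 s) ∧
    (∀ x : X, closure ({x} : Set X) ∈ irreducibleComponents (X : Type u) →
      IsField (X.presheaf.stalk x) ∧
        Function.Bijective (algebraMap (X.presheaf.stalk x) (Mero.KStalk X x))) := by
  classical
  refine ⟨⟨?_, ?_⟩, fun x hx => ⟨IsGen.isField hfin hx, IsGen.bijective_algebraMap hfin hx⟩⟩
  · intro s s' h
    have h0 : s - s' = 0 := by
      apply eq_zero_of_evalK_gen
      intro η hη hgen
      have h1 := congrFun h ⟨⟨η, hη⟩, hgen⟩
      have h2 : Mero.evalK X U ⟨η, hη⟩ s = Mero.evalK X U ⟨η, hη⟩ s' := h1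
      change Mero.evalK X U ⟨η, hη⟩ (s - s') = 0
      rw [map_sub, h2, sub_self]
    exact sub_eq_zero.mp h0
  · intro t
    let t' : ∀ η : X, KStalk X η := fun η =>
      if h : η ∈ U ∧ IsGen η then t ⟨⟨η, h.1⟩, h.2⟩ else 0
    have hloc : ∀ y : U, ∃ (V : X.Opens) (_ : y.1 ∈ V) (_ : V ≤ U) (a : Γ(X, V)) (b : regSub X V),
        ∀ (η : X) (hη : η ∈ V), IsGen η →
          t' η = LocalizedModule.mk (X.presheaf.germ V η hη a) (regGerm ⟨η, hη⟩ b) := by
      intro y
      obtain ⟨V, hV, hyV, hVU⟩ := exists_isAffineOpen_mem_and_subset (x := y.1) (U := U) y.2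
      obtain ⟨a, b, hab⟩ := exists_local hfin hV t'
      exact ⟨V, hyV, hVU, a, b, hab⟩
    choose V hyV hVU a b hab using hloc
    refine ⟨⟨fun y => LocalizedModule.mk (X.presheaf.germ (V y) y.1 (hyV y) (a y))
      (regGerm ⟨y.1, hyV y⟩ (b y)), ?_⟩, ?_⟩
    · intro y
      refine ⟨V y, hyV y, homOfLE (hVU y), a y, b y, fun z => ?_⟩
      exact frac_eq_of_gen (a ⟨z.1, hVU y z.2⟩) (b ⟨z.1, hVU y z.2⟩) (a y) (b y)
        (fun η hη hη' hgen => (hab _ η hη hgen).symm.trans (hab y η hη' hgen)) z.1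
        (hyV ⟨z.1, hVU y z.2⟩) z.2
    · funext x
      have h1 := hab x.1 x.1.1 (hyV x.1) x.2
      have h2 : t' x.1.1 = t x := by
        simp only [t']
        rw [dif_pos ⟨x.1.2, x.2⟩]
      change LocalizedModule.mk (X.presheaf.germ (V x.1) x.1.1 (hyV x.1) (a x.1))
        (regGerm ⟨x.1.1, hyV x.1⟩ (b x.1)) = t x
      rw [← h1, h2]

end Groth.Agent.S10961
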