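import Groth.Statements.S18922
import Mathlib
import Groth.Agent.S10961
import Groth.Agent.Lib.Helper16.QCohAss
import Groth.Agent.Lib.Lead.CurveEuler

set_option autoImplicit false
universe u
open CategoryTheory CategoryTheory.Limits AlgebraicGeometry
open TFNodal

namespace Groth.Agent.S18922

open TopologicalSpace Groth.Agent.S10961 Groth.Agent.Lib.helper16.QCohAss

/-- on a reduced scheme with finitely many irreducible components, sections over an affine open
`V` which are units at the respective generic points of `V` combine to a nonzerodivisor -/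
theorem exists_nzd_combination {X : Scheme.{u}} [IsReduced X]
    (hfin : (irreducibleComponents (X : Type u)).Finite)
    {V : X.Opens} (hV : IsAffineOpen V) (r : X → Γ(X, V))
    (hr : ∀ (η : X) (hη : η ∈ V), IsGen η → IsUnit (X.presheaf.germ V η hη (r η))) :
    ∃ (G : Finset X) (e : X → Γ(X, V)), (∑ η ∈ G, e η * r η) ∈ nonZeroDivisors Γ(X, V) := by
  classical
  set G : Set X := {η | IsGen η ∧ η ∈ V} with hG
  have hGfin : G.Finite := by
    have h1 : ((fun η : X => closure ({η} : Set X)) '' G).Finite :=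
      hfin.subset (by rintro _ ⟨η, hη, rfl⟩; exact hη.1)
    refine Set.Finite.of_finite_image h1 ?_
    intro η hη η' hη' heq
    have heq' : closure ({η} : Set X) = closure ({η'} : Set X) := heq
    have h2 : η' ⤳ η := by rw [specializes_iff_closure_subset, heq']
    exact hη.1.eq_of_specializes hη'.1 h2
  have hdata : ∀ η : X, ∃ e : Γ(X, V), IsGen η → ∀ hη : η ∈ V,
      X.basicOpen e ≤ Wgen hfin η ∧ η ∈ X.basicOpen e := by
    intro η
    by_cases hc : IsGen η ∧ η ∈ V
    · obtain ⟨hgen, hη⟩ := hc
      obtain ⟨e, he1, he2⟩ := hV.exists_basicOpen_le (V := Wgen hfin η)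
        ⟨η, hgen.mem_Wgen hfin⟩ hη
      exact ⟨e, fun _ _ => ⟨he1, he2⟩⟩
    · exact ⟨0, fun h1 h2 => (hc ⟨h1, h2⟩).elim⟩
  choose e hprop using hdata
  have he0 : ∀ (η η₀ : X) (hη : IsGen η ∧ η ∈ V) (hη₀ : IsGen η₀ ∧ η₀ ∈ V), η₀ ≠ η →
      X.presheaf.germ V η₀ hη₀.2 (e η) = 0 := by
    intro η η₀ hη hη₀ hne
    refine hη₀.1.eq_zero_of_not_isUnit hfin _ (fun hu => ?_)
    have h1 : η₀ ∈ X.basicOpen (e η) := (X.mem_basicOpen (e η) η₀ hη₀.2).mpr hu
    have h2 : η₀ ∈ Wgen hfin η := (hprop η hη.1 hη.2).1 h1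
    exact IsGen.not_mem_Wgen hfin hη.1 hη₀.1 hne h2
  refine ⟨hGfin.toFinset, e, ?_⟩
  have hsum : ∀ (η₀ : X) (hη₀ : IsGen η₀ ∧ η₀ ∈ V),
      X.presheaf.germ V η₀ hη₀.2 (∑ η ∈ hGfin.toFinset, e η * r η) =
        X.presheaf.germ V η₀ hη₀.2 (e η₀) * X.presheaf.germ V η₀ hη₀.2 (r η₀) := by
    intro η₀ hη₀
    rw [map_sum, Finset.sum_eq_single η₀]
    · rw [map_mul]
    · intro η hη hne
      have hηG : IsGen η ∧ η ∈ V := (Set.Finite.mem_toFinset hGfin).mp hη
      rw [map_mul, he0 η η₀ hηG hη₀ (Ne.symm hne), zero_mul]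
    · intro hn
      exact (hn ((Set.Finite.mem_toFinset hGfin).mpr hη₀)).elim
  rw [mem_nonZeroDivisors_iff_right]
  intro c hc
  apply eq_zero_of_germ_gen
  intro η hη hgen
  have h1 := congrArg (X.presheaf.germ V η hη) hc
  rw [map_mul, map_zero, hsum η ⟨hgen, hη⟩] at h1
  have hu : IsUnit (X.presheaf.germ V η hη (e η) * X.presheaf.germ V η hη (r η)) :=
    ((X.mem_basicOpen (e η) η hη).mp (hprop η hgen hη).2).mul (hr η hη hgen)
  exact (hu.mul_left_eq_zero).mp h1

/-- Let k be an algebraically closed field of characteristic zero, X a reduced proper curve over k (a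
proper k-scheme of dimension one) and F a coherent torsion free O_X-module (every stalk a torsion
free module over the local ring). Let x be a point of X and U an open subset containing x such that
every irreducible component of U passes through x, that is, every point of U whose local ring is a
field specializes to x. Then the map from the sections of F over U to the stalk F_x is injective.
(The source states this for x a node of a connected nodal curve and U inside the union of the
irreducible components through x, meeting no other node.) -/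
theorem result
    (k : Type u) [Field k] [IsAlgClosed k] [CharZero k]
    (X : Scheme.{u}) [X.Over (Spec (CommRingCat.of k))] [IsProper (X ↘ Spec (CommRingCat.of k))]
    [AlgebraicGeometry.IsReduced X] (hdim : topologicalKrullDim X = 1)
    (F : X.Modules) (hF : Coh.IsCoh F) (htF : TorSh.IsTorsionFree F)
    (x : X) (U : X.Opens) (hxU : x ∈ U)
    (hU : ∀ y : X, y ∈ U → IsField (X.presheaf.stalk y) → x ∈ closure ({y} : Set X)) :
    Function.Injective (F.presheaf.germ U x hxU) := by
  classical
  haveI := Groth.Agent.Lib.Lead.CurveEuler.isNoetherian k X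
  haveI : F.IsQuasicoherent := hF.1
  have hfin : (irreducibleComponents (X : Type u)).Finite :=
    TopologicalSpace.NoetherianSpace.finite_irreducibleComponents
  rw [injective_iff_map_eq_zero]
  intro s hs
  -- `s` vanishes near `x`
  obtain ⟨V₀, hxV₀, i₁, i₂, hV₀⟩ := TopCat.Presheaf.germ_eq F.presheaf x hxU hxU s 0
    (hs.trans (map_zero _).symm)
  have hgen0 : ∀ (η : X) (hη : η ∈ U), IsGen η → (F.presheaf.germ U η hη).hom s = 0 := by
    intro η hη hgen
    have hsp : η ⤳ x := specializes_iff_mem_closure.mpr (hU η hη (hgen.isField hfin))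
    have hηV₀ : η ∈ V₀ := hsp.mem_open V₀.isOpen hxV₀
    have h1 := congrArg (F.presheaf.germ V₀ η hηV₀).hom hV₀
    rw [TopCat.Presheaf.germ_res_apply, TopCat.Presheaf.germ_res_apply, map_zero] at h1
    exact h1
  refine TopCat.Presheaf.section_ext ⟨F.presheaf, F.isSheaf⟩ U _ 0 (fun z hz => ?_)
  refine Eq.trans ?_ (map_zero _).symm
  obtain ⟨W, hW, hzW, hWU⟩ := exists_isAffineOpen_mem_and_subset (x := z) (U := U) hz
  let m : Γ(F, W) := F.presheaf.map (homOfLE hWU).op s
  have hm0 : ∀ (η : X) (hη : η ∈ W), IsGen η → (F.presheaf.germ W η hη).hom m = 0 := by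
    intro η hη hgen
    have := hgen0 η (hWU hη) hgen
    rwa [← TopCat.Presheaf.germ_res_apply F.presheaf (homOfLE hWU) η hη s] at this
  -- annihilators at the generic points
  have hann : ∀ η : X, ∃ r : Γ(X, W), r • m = 0 ∧
      (IsGen η → ∀ hη : η ∈ W, IsUnit (X.presheaf.germ W η hη r)) := by
    intro η
    by_cases hc : IsGen η ∧ η ∈ W
    · obtain ⟨f, hηf, hfm⟩ := Groth.Agent.Lib.helper28.exists_smul_eq_zero_of_germ_eq_zero F hW m η hc.2 (hm0 η hc.2 hc.1)
      exact ⟨f, hfm, fun _ hη => (X.mem_basicOpen f η hη).mp hηf⟩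
    · exact ⟨0, zero_smul _ _, fun h1 h2 => (hc ⟨h1, h2⟩).elim⟩
  choose r hr0 hru using hann
  obtain ⟨G, e, hB⟩ := exists_nzd_combination hfin hW r (fun η hη hgen => hru η hgen hη)
  set B := ∑ η ∈ G, e η * r η with hBdef
  have hBm : B • m = 0 := by
    rw [hBdef, Finset.sum_smul]
    refine Finset.sum_eq_zero (fun η _ => ?_)
    rw [mul_smul, hr0, smul_zero]
  have hreg := Groth.Agent.Lib.Helper18.MeroExt.mem_regSub_of_mem_nonZeroDivisors hW B hB ⟨z, hzW⟩
  have h1 := congrArg (F.presheaf.germ W z hzW).hom hBm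
  rw [germ_smul', map_zero] at h1
  have hmz : (F.presheaf.germ W z hzW).hom m = 0 := by
    haveI := htF z
    have hregular : IsRegular ((X.presheaf.germ W z hzW).hom B) :=
      isRegular_iff_mem_nonZeroDivisors.mpr hreg
    have := (Module.IsTorsionFree.isSMulRegular (M := F.presheaf.stalk z) hregular)
    exact this (h1.trans (smul_zero _).symm)
  rw [← TopCat.Presheaf.germ_res_apply F.presheaf (homOfLE hWU) z hzW s]
  exact hmz

end Groth.Agent.S18922
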