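import Groth.Statements.S14512
import Mathlib
import Groth.Agent.Lib.Helper18.CurvePt5

set_option autoImplicit false
universe u
open CategoryTheory CategoryTheory.Limits AlgebraicGeometry
open Curves

namespace Groth.Agent.S14512

open Groth.Agent.Lib.Helper18.CurvePt Groth.Agent.Lib.Helper18.SmoothReg in

/-- Let k be an algebraically closed field and X a complete curve over k (integral, proper over k, of
dimension one) of arithmetic genus dim_k H^1(X, O_X) = 0. Then X is smooth over k. (Over a
non-closed field an integral proper curve with vanishing H^1 need not be smooth, e.g. a projective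
line over an inseparable extension of k viewed over k.) -/
theorem result (k : Type u) [Field k] [IsAlgClosed k] (X : Scheme.{u}) [X.Over (Spec (CommRingCat.of k))]
    [IsIntegral X] [IsProper (X ↘ (Spec (CommRingCat.of k)))] (hdim : topologicalKrullDim X = 1)
    (hg : Curv2.genus k X = 0) :
    Smooth (X ↘ (Spec (CommRingCat.of k))) := by
  haveI := Groth.Agent.Lib.Lead.CurveEuler.isNoetherian k X
  apply smooth_of_isRegularLocalRing_stalk k (X ↘ (Spec (CommRingCat.of k)))
  intro x
  by_cases hx : IsClosed ({x} : Set X)
  · exact isRegularLocalRing_stalk_of_goodPt (goodPt_of_genus_zero k X hdim hg hx)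
  · have hgen : Groth.Agent.Lib.Lead.DimOneAffine.IsGen X x := by
      by_contra h
      exact hx (Groth.Agent.Lib.Lead.DimOneAffine.isClosed_singleton_of_dim_le_one X hdim.le x h)
    unfold Groth.Agent.Lib.Lead.DimOneAffine.IsGen at hgen
    rw [irreducibleComponents_eq_singleton] at hgen
    have hgp : IsGenericPoint x (Set.univ : Set X) := hgen
    have hxe : x = genericPoint X := hgp.eq (genericPoint_spec X)
    rw [hxe]
    exact isRegularLocalRing_stalk_genericPoint

end Groth.Agent.S14512
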