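import Groth.Statements.S16765
import Mathlib
import Groth.Agent.Lib.Helper18.PullbackSquare

set_option autoImplicit false
universe u
open Unram17

namespace Groth.Agent.S16765

open Groth.Agent.Lib.Helper18.PullbackStalk H18Stalk
open AlgebraicGeometry CategoryTheory CategoryTheory.Limits

/-- The fibre square `X_s ⟶ Y_s` over `X ⟶ Y` is cartesian. -/
theorem isPullback_fiberMapOver {X Y S : Scheme.{u}} (g : Y ⟶ S) (h : X ⟶ S) (f : X ⟶ Y)
    (w : f ≫ g = h) (s : S) :
    IsPullback (h.fiberι s) (CohIII.fiberMapOver f h g w s) f (g.fiberι s) := by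
  have hbig : IsPullback (pullback.snd h (S.fromSpecResidueField s)) (h.fiberι s)
      (S.fromSpecResidueField s) h := (IsPullback.of_hasPullback h _).flip
  have hright : IsPullback (pullback.snd g (S.fromSpecResidueField s)) (g.fiberι s)
      (S.fromSpecResidueField s) g := (IsPullback.of_hasPullback g _).flip
  have e1 : CohIII.fiberMapOver f h g w s ≫ pullback.snd g (S.fromSpecResidueField s) =
      pullback.snd h (S.fromSpecResidueField s) :=
    (pullback.lift_snd _ _ _).trans (Category.comp_id _)
  have e2 : CohIII.fiberMapOver f h g w s ≫ g.fiberι s = h.fiberι s ≫ f :=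
    pullback.lift_fst _ _ _
  have hbig' : IsPullback (CohIII.fiberMapOver f h g w s ≫
      pullback.snd g (S.fromSpecResidueField s)) (h.fiberι s)
      (S.fromSpecResidueField s) (f ≫ g) := by
    rw [e1, w]; exact hbig
  exact (IsPullback.of_right hbig' e2 hright).flip

open AlgebraicGeometry CategoryTheory CategoryTheory.Limits in
/-- Let g : Y → S and h : X → S be locally of finite presentation, f : X → Y an S-morphism (f ≫ g = h;
in particular f is locally of finite presentation, so unramified amounts to formally unramified),
and x a point of X with image s = h(x). Then f is unramified at x (formally unramified on an open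
neighbourhood of x) if and only if the induced morphism of fibres X_s → Y_s is unramified at the
point of X_s lying over x. No flatness is needed. -/
theorem result {X Y S : Scheme.{u}} (g : Y ⟶ S) (h : X ⟶ S)
    [LocallyOfFinitePresentation g] [LocallyOfFinitePresentation h] (f : X ⟶ Y) (w : f ≫ g = h)
    (x : ↥X)
    (x' : ↥(h.fiber (h x))) (hx' : (h.fiberι (h x)) x' = x) :
    (∃ U : X.Opens, x ∈ U ∧ FormallyUnramified (U.ι ≫ f)) ↔
      ∃ V : (h.fiber (h x)).Opens, x' ∈ V ∧ FormallyUnramified (V.ι ≫ CohIII.fiberMapOver f h g w (h x)) := by
  have : LocallyOfFiniteType (f ≫ g) := by rw [w]; infer_instance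
  have : LocallyOfFiniteType f := locallyOfFiniteType_of_comp f g
  have H := isPullback_fiberMapOver g h f w (h x)
  have : LocallyOfFiniteType (CohIII.fiberMapOver f h g w (h x)) :=
    MorphismProperty.of_isPullback H ‹_›
  rw [exists_unramified_nhd_iff, exists_unramified_nhd_iff,
    unram_stalk_iff_of_isPullback H x']
  rw [hx']

end Groth.Agent.S16765
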