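import Groth.Statements.S5085
import Mathlib

set_option autoImplicit false
universe u
open CategoryTheory CategoryTheory.Limits AlgebraicGeometry TopologicalSpace
open Mero

namespace Groth.Agent.S5085

/-- Two fractions with regular denominators agree in `K_{X,x}` iff they agree after cross multiplication. -/
theorem mk_eq_mk_iff {X : Scheme.{u}} (x : X) (a c : X.presheaf.stalk x) (b d : Mero.regStalk X x) :
    (LocalizedModule.mk a b : Mero.KStalk X x) = LocalizedModule.mk c d ↔
      (d : X.presheaf.stalk x) * a = (b : X.presheaf.stalk x) * c := by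
  rw [LocalizedModule.mk_eq]
  constructor
  · rintro ⟨u, hu⟩
    have hu' : (u : X.presheaf.stalk x) * ((d : X.presheaf.stalk x) * a) =
        (u : X.presheaf.stalk x) * ((b : X.presheaf.stalk x) * c) := by
      simpa [Submonoid.smul_def] using hu
    exact (mul_cancel_left_mem_nonZeroDivisors (Mero.regStalk_le_nonZeroDivisors x u.2)).mp hu'
  · intro h
    exact ⟨1, by simpa [Submonoid.smul_def] using h⟩

/-- Let X be a scheme, U an open subset and V an open subset of U which is schematically dense in U (for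
every open W ⊆ U, restriction of functions from W to W ∩ V is injective). Then restriction of
sections of the sheaf of meromorphic functions K_X from U to V is injective: the canonical map from
meromorphic functions to pseudo-functions is injective. -/
theorem result (X : Scheme.{u}) (U V : X.Opens) (hVU : V ≤ U)
    (hV : ∀ W : X.Opens, W ≤ U →
      Function.Injective ⇑(X.presheaf.map (homOfLE (inf_le_left : W ⊓ V ≤ W)).op))
    : Function.Injective ⇑((Mero.kmod X).presheaf.map (homOfLE hVU).op) := by
  intro s t hst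
  have hst' : ∀ y : V, s.1 ⟨y.1, hVU y.2⟩ = t.1 ⟨y.1, hVU y.2⟩ := by
    intro y
    exact congrArg (fun f : Γ(Mero.kmod X, V) => f.1 y) hst
  refine Subtype.ext (funext fun x => ?_)
  obtain ⟨Wa, ma, ia, a, b, wa⟩ := s.2 x
  obtain ⟨Wb, mb, ib, c, d, wb⟩ := t.2 x
  -- common neighbourhood
  set W : X.Opens := Wa ⊓ Wb with hW
  have hWU : W ≤ U := inf_le_left.trans ia.le
  let ja : W ⟶ Wa := homOfLE inf_le_left
  let jb : W ⟶ Wb := homOfLE inf_le_right
  set a' := X.presheaf.map ja.op a
  set b' := X.presheaf.map ja.op b.1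
  set c' := X.presheaf.map jb.op c
  set d' := X.presheaf.map jb.op d.1
  -- the cross-multiplied sections agree on W ⊓ V
  have hcross : X.presheaf.map (homOfLE (inf_le_left : W ⊓ V ≤ W)).op (d' * a') =
      X.presheaf.map (homOfLE (inf_le_left : W ⊓ V ≤ W)).op (b' * c') := by
    refine TopCat.Presheaf.section_ext X.sheaf _ _ _ fun y hy => ?_
    have hyW : y ∈ W := hy.1
    have hyV : y ∈ V := hy.2
    have e1 := wa ⟨y, hyW.1⟩
    have e2 := wb ⟨y, hyW.2⟩
    have e3 := hst' ⟨y, hyV⟩
    dsimp only at e1 e2 e3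
    have e4 : (LocalizedModule.mk (X.presheaf.germ Wa y hyW.1 a) (Mero.regGerm ⟨y, hyW.1⟩ b) :
        Mero.KStalk X y) = LocalizedModule.mk (X.presheaf.germ Wb y hyW.2 c)
          (Mero.regGerm ⟨y, hyW.2⟩ d) := by
      rw [← e1, ← e2]; exact e3
    rw [mk_eq_mk_iff] at e4
    change X.presheaf.germ _ y hy (X.presheaf.map _ (d' * a')) =
      X.presheaf.germ _ y hy (X.presheaf.map _ (b' * c'))
    rw [TopCat.Presheaf.germ_res_apply, TopCat.Presheaf.germ_res_apply, map_mul, map_mul]
    simp only [a', b', c', d', TopCat.Presheaf.germ_res_apply]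
    exact e4
  have hcross' : d' * a' = b' * c' := hV W hWU hcross
  have hxW : x.1 ∈ W := ⟨ma, mb⟩
  have e1 := wa ⟨x.1, ma⟩
  have e2 := wb ⟨x.1, mb⟩
  dsimp only at e1 e2
  have e1' : s.1 x = LocalizedModule.mk (X.presheaf.germ Wa x.1 ma a) (Mero.regGerm ⟨x.1, ma⟩ b) :=
    e1
  have e2' : t.1 x = LocalizedModule.mk (X.presheaf.germ Wb x.1 mb c) (Mero.regGerm ⟨x.1, mb⟩ d) :=
    e2
  rw [e1', e2', mk_eq_mk_iff]
  have := congrArg (X.presheaf.germ W x.1 hxW) hcross'
  rw [map_mul, map_mul] at this
  simp only [a', b', c', d', TopCat.Presheaf.germ_res_apply] at this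
  exact this

end Groth.Agent.S5085
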