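import Groth.Statements.S5086
import Mathlib
import Groth.Agent.Lib.Helper18.MeroExt
import Groth.Agent.Lib.Helper5.LocFinIrr2
import Groth.Agent.Lib.Helper5.FlatMinimalPrimes
import Groth.Agent.S5085

set_option autoImplicit false
universe u
open CategoryTheory CategoryTheory.Limits AlgebraicGeometry TopologicalSpace
open Mero

namespace Groth.Agent.S5086

open Groth.Agent.Lib.Helper18 in
/-- the local data needed for prime avoidance, near any point -/
theorem exists_affine_data (X : Scheme.{u})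
    (hX : IsLocallyNoetherian X ∨ (IsReduced X ∧ ∀ x : ↥X, ∃ W : X.Opens, x ∈ W ∧
      {Z : Set ↥X | Z ∈ irreducibleComponents ↥X ∧ (Z ∩ (W : Set ↥X)).Nonempty}.Finite))
    (U : X.Opens) (x : X) (hx : x ∈ U) :
    ∃ W : X.Opens, IsAffineOpen W ∧ x ∈ W ∧ W ≤ U ∧
      ∃ Ps : Set (Ideal Γ(X, W)), Ps.Finite ∧ (∀ P ∈ Ps, P.IsPrime) ∧
      (∀ a : Γ(X, W), a ∉ nonZeroDivisors Γ(X, W) → ∃ P ∈ Ps, a ∈ P) ∧
      (∀ P ∈ Ps, ∃ t : Γ(X, W), t ≠ 0 ∧ ∀ p ∈ P, p * t = 0) := by
  rcases hX with hN | ⟨hR, hfin⟩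
  · obtain ⟨W, hW, hxW, hWle⟩ := exists_isAffineOpen_mem_and_subset (x := x) (U := U) hx
    haveI : IsNoetherianRing Γ(X, W) := IsLocallyNoetherian.component_noetherian ⟨W, hW⟩
    exact ⟨W, hW, hxW, hWle, RegAvoid.noeth_data Γ(X, W)⟩
  · obtain ⟨W₀, hxW₀, hW₀⟩ := hfin x
    obtain ⟨W, hW, hxW, hWle⟩ := exists_isAffineOpen_mem_and_subset (x := x) (U := U ⊓ W₀)
      ⟨hx, hxW₀⟩
    have hWU : W ≤ U := fun y hy => (hWle hy).1
    have hWW₀ : W ≤ W₀ := fun y hy => (hWle hy).2
    have h1 : (irreducibleComponents ↥W).Finite := by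
      have hsub := Groth.Agent.Lib.helper5.IrrCover.irreducibleComponents_subset_image_of_isOpenEmbedding
        (Subtype.val : ↥W → X) W.2.isOpenEmbedding_subtypeVal
      refine Set.Finite.subset (Set.Finite.image _ (hW₀.subset ?_)) hsub
      rintro Z ⟨hZ, hne⟩
      refine ⟨hZ, ?_⟩
      rw [Subtype.range_coe] at hne
      obtain ⟨z, hzZ, hzW⟩ := hne
      exact ⟨z, hzZ, hWW₀ hzW⟩
    have h2 : (minimalPrimes Γ(X, W)).Finite := by
      rw [← Groth.Agent.Lib.helper5.FlatMinPrimes.finite_irreducibleComponents_iff,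
        ← Groth.Agent.Lib.helper5.IrrCover.finite_irreducibleComponents_affine_iff hW]
      exact h1
    haveI : IsReduced Γ(X, W) := inferInstance
    exact ⟨W, hW, hxW, hWU, RegAvoid.reduced_data Γ(X, W) h2⟩

open Groth.Agent.Lib.Helper18 in

/-- Let X be a scheme which is either locally Noetherian, or reduced with locally finite set of
irreducible components (every point has an open neighbourhood meeting only finitely many irreducible
components). Let U be an open subset, V an open subset of U schematically dense in U (restriction of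
functions from every open W ⊆ U to W ∩ V is injective) and g a function on V. Then there is a
section of the sheaf of meromorphic functions K_X over U whose restriction to V is g/1; with part
(i), meromorphic functions over U are exactly the pseudo-functions on U. -/
theorem result (X : Scheme.{u})
    (hX : IsLocallyNoetherian X ∨ (IsReduced X ∧ ∀ x : ↥X, ∃ W : X.Opens, x ∈ W ∧
      {Z : Set ↥X | Z ∈ irreducibleComponents ↥X ∧ (Z ∩ (W : Set ↥X)).Nonempty}.Finite))
    (U V : X.Opens) (hVU : V ≤ U)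
    (hV : ∀ W : X.Opens, W ≤ U →
      Function.Injective ⇑(X.presheaf.map (homOfLE (inf_le_left : W ⊓ V ≤ W)).op))
    (g : Γ(X, V)) :
    ∃ s : Γ(Mero.kmod X, U), (Mero.kmod X).presheaf.map (homOfLE hVU).op s = Mero.toK X V g := by
  -- local representations
  have hloc : ∀ x : U, ∃ (W : X.Opens) (_ : x.1 ∈ W) (_ : W ≤ U) (a : Γ(X, W)) (b : regSub X W),
      ∀ (z : X) (hzW : z ∈ W) (hzV : z ∈ V),
        X.presheaf.germ W z hzW a = X.presheaf.germ W z hzW b.1 * X.presheaf.germ V z hzV g := by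
    intro x
    obtain ⟨W, hW, hxW, hWU, hdata⟩ := exists_affine_data X hX U x.1 x.2
    obtain ⟨a, b, hab⟩ := MeroExt.exists_local_rep hW hWU hV hdata g
    exact ⟨W, hxW, hWU, a, b, hab⟩
  choose W hxW hWU a b hab using hloc
  -- compatibility of two representations
  have hcompat : ∀ (x y : U) (z : X) (hzx : z ∈ W x) (hzy : z ∈ W y),
      X.presheaf.germ (W y) z hzy (b y).1 * X.presheaf.germ (W x) z hzx (a x) =
        X.presheaf.germ (W x) z hzx (b x).1 * X.presheaf.germ (W y) z hzy (a y) := by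
    intro x y z hzx hzy
    let W' : X.Opens := W x ⊓ W y
    have hW'U : W' ≤ U := inf_le_left.trans (hWU x)
    let ax : Γ(X, W') := X.presheaf.map (homOfLE (inf_le_left : W' ≤ W x)).op (a x)
    let bx : Γ(X, W') := X.presheaf.map (homOfLE (inf_le_left : W' ≤ W x)).op (b x).1
    let ay : Γ(X, W') := X.presheaf.map (homOfLE (inf_le_right : W' ≤ W y)).op (a y)
    let by' : Γ(X, W') := X.presheaf.map (homOfLE (inf_le_right : W' ≤ W y)).op (b y).1
    have key : by' * ax = bx * ay := by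
      apply hV W' hW'U
      apply TopCat.Presheaf.section_ext X.sheaf (W' ⊓ V)
      intro w hw
      have hwW' : w ∈ W' := hw.1
      have hwV : w ∈ V := hw.2
      have e1 : X.presheaf.germ (W' ⊓ V) w hw
          (X.presheaf.map (homOfLE (inf_le_left : W' ⊓ V ≤ W')).op (by' * ax)) =
          X.presheaf.germ W' w hwW' (by' * ax) :=
        TopCat.Presheaf.germ_res_apply X.presheaf (homOfLE (inf_le_left : W' ⊓ V ≤ W')) w hw _
      have e2 : X.presheaf.germ (W' ⊓ V) w hw
          (X.presheaf.map (homOfLE (inf_le_left : W' ⊓ V ≤ W')).op (bx * ay)) =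
          X.presheaf.germ W' w hwW' (bx * ay) :=
        TopCat.Presheaf.germ_res_apply X.presheaf (homOfLE (inf_le_left : W' ⊓ V ≤ W')) w hw _
      refine e1.trans (Eq.trans ?_ e2.symm)
      rw [map_mul, map_mul]
      have f1 : X.presheaf.germ W' w hwW' ax = X.presheaf.germ (W x) w hwW'.1 (a x) :=
        TopCat.Presheaf.germ_res_apply X.presheaf (homOfLE (inf_le_left : W' ≤ W x)) w hwW' _
      have f2 : X.presheaf.germ W' w hwW' bx = X.presheaf.germ (W x) w hwW'.1 (b x).1 :=
        TopCat.Presheaf.germ_res_apply X.presheaf (homOfLE (inf_le_left : W' ≤ W x)) w hwW' _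
      have f3 : X.presheaf.germ W' w hwW' ay = X.presheaf.germ (W y) w hwW'.2 (a y) :=
        TopCat.Presheaf.germ_res_apply X.presheaf (homOfLE (inf_le_right : W' ≤ W y)) w hwW' _
      have f4 : X.presheaf.germ W' w hwW' by' = X.presheaf.germ (W y) w hwW'.2 (b y).1 :=
        TopCat.Presheaf.germ_res_apply X.presheaf (homOfLE (inf_le_right : W' ≤ W y)) w hwW' _
      rw [f1, f2, f3, f4, hab x w hwW'.1 hwV, hab y w hwW'.2 hwV]
      ring
    have hzW' : z ∈ W' := ⟨hzx, hzy⟩
    have h1 := congrArg (X.presheaf.germ W' z hzW') key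
    rw [map_mul, map_mul] at h1
    have f1 : X.presheaf.germ W' z hzW' ax = X.presheaf.germ (W x) z hzx (a x) :=
      TopCat.Presheaf.germ_res_apply X.presheaf (homOfLE (inf_le_left : W' ≤ W x)) z hzW' _
    have f2 : X.presheaf.germ W' z hzW' bx = X.presheaf.germ (W x) z hzx (b x).1 :=
      TopCat.Presheaf.germ_res_apply X.presheaf (homOfLE (inf_le_left : W' ≤ W x)) z hzW' _
    have f3 : X.presheaf.germ W' z hzW' ay = X.presheaf.germ (W y) z hzy (a y) :=
      TopCat.Presheaf.germ_res_apply X.presheaf (homOfLE (inf_le_right : W' ≤ W y)) z hzW' _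
    have f4 : X.presheaf.germ W' z hzW' by' = X.presheaf.germ (W y) z hzy (b y).1 :=
      TopCat.Presheaf.germ_res_apply X.presheaf (homOfLE (inf_le_right : W' ≤ W y)) z hzW' _
    rw [f1, f2, f3, f4] at h1
    exact h1
  -- the section
  let sfun : ∀ x : U, KStalk X x.1 := fun x =>
    LocalizedModule.mk (X.presheaf.germ (W x) x.1 (hxW x) (a x)) (regGerm ⟨x.1, hxW x⟩ (b x))
  have hs : (kLoc X).pred sfun := by
    intro x
    refine ⟨W x, hxW x, homOfLE (hWU x), a x, b x, ?_⟩
    intro y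
    show (LocalizedModule.mk (X.presheaf.germ (W ⟨y.1, hWU x y.2⟩) y.1 (hxW _) (a _))
      (regGerm ⟨y.1, hxW ⟨y.1, hWU x y.2⟩⟩ (b _)) : KStalk X y.1) =
      LocalizedModule.mk (X.presheaf.germ (W x) y.1 y.2 (a x)) (regGerm y (b x))
    rw [Groth.Agent.S5085.mk_eq_mk_iff]
    exact (hcompat x ⟨y.1, hWU x y.2⟩ y.1 y.2 (hxW _)).symm
  refine ⟨⟨sfun, hs⟩, ?_⟩
  refine Subtype.ext (funext fun y => ?_)
  show (LocalizedModule.mk (X.presheaf.germ (W ⟨y.1, hVU y.2⟩) y.1 (hxW _) (a _))
      (regGerm ⟨y.1, hxW ⟨y.1, hVU y.2⟩⟩ (b _)) : KStalk X y.1) =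
      LocalizedModule.mk (X.presheaf.germ V y.1 y.2 g) 1
  rw [Groth.Agent.S5085.mk_eq_mk_iff]
  rw [hab ⟨y.1, hVU y.2⟩ y.1 (hxW _) y.2]
  simp

end Groth.Agent.S5086
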