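import Groth.Statements.S0312
import Mathlib
import Groth.Agent.Lib.Helper19.HullTools
import Groth.Agent.Lib.Helper19.FlatLen
import Groth.Agent.S11174
import Groth.Agent.S0311
import Groth.Agent.S5170

set_option autoImplicit false
universe u v
open Matlis

namespace Groth.Agent.S0312

-- MARK
open IsLocalRing TensorProduct Groth.Agent.Lib.helper19.MatlisLen Groth.Agent.Lib.helper19.HullTools Groth.Agent.Lib.helper19.FlatLen in


/-- For a flat local homomorphism A → B of Noetherian local rings with m_A B equal to the maximal ideal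
of B, tensoring an injective hull of the residue field of A with B gives an injective hull of the
residue field of B. -/
theorem result (A : Type u) [CommRing A] [IsLocalRing A] [IsNoetherianRing A] (B : Type u) [CommRing B] [IsLocalRing B] [IsNoetherianRing B] [Algebra A B] [IsLocalHom (algebraMap A B)] [Module.Flat A B] (hm : (IsLocalRing.maximalIdeal A).map (algebraMap A B) = IsLocalRing.maximalIdeal B) (E : Type u) [AddCommGroup E] [Module A E] (f : IsLocalRing.ResidueField A →ₗ[A] E) (hf : InjHull.IsInjectiveHull f) : ∃ g : IsLocalRing.ResidueField B →ₗ[B] TensorProduct A B E, InjHull.IsInjectiveHull g := by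
  classical
  have hE := Groth.Agent.S0311.result A E f hf
  have hpow : ∀ n : ℕ, maximalIdeal B ^ n = (maximalIdeal A ^ n).map (algebraMap A B) :=
    fun n => by rw [Ideal.map_pow, hm]
  refine Groth.Agent.S11174.result B (B ⊗[A] E) (isPowerTorsion_baseChange hm E hE) ?hb
    (fun n => maximalIdeal B ^ n) ?anti (fun n => ⟨n, le_rfl⟩) (fun N => ⟨N, le_rfl⟩) ?hlen
  case anti => exact fun m n hmn => Ideal.pow_le_pow_right hmn
  case hlen =>
    intro n
    show Module.length B (B ⧸ maximalIdeal B ^ n) =
      Module.length B ((B ⧸ maximalIdeal B ^ n) →ₗ[B] B ⊗[A] E)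
    rw [hpow n]
    have hfl : IsFiniteLength A (A ⧸ maximalIdeal A ^ n) :=
      isFiniteLength_quot_of_pow_le _ n le_rfl
    have h5170 := Groth.Agent.S5170.result A E f hf _ hfl
    have hfl' : IsFiniteLength A ((A ⧸ maximalIdeal A ^ n) →ₗ[A] E) := by
      rw [← Module.length_ne_top_iff, h5170]; exact Module.length_ne_top_iff.mpr hfl
    rw [length_quot_map hm _ hfl, length_hom_quot_map hm _ E hfl', h5170]
  case hb =>
    let e₁ : (ResidueField B →ₗ[B] B ⊗[A] E) ≃ₗ[B]
        ((B ⧸ (maximalIdeal A).map (algebraMap A B)) →ₗ[B] B ⊗[A] E) :=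
      LinearEquiv.congrLeft (B ⊗[A] E) B (Submodule.quotEquivOfEq _ _ hm.symm)
    let e₂ := homEquiv (B := B) (maximalIdeal A) E
    let eΦ : ResidueField A ≃ₗ[A] (ResidueField A →ₗ[A] E) :=
      LinearEquiv.ofBijective (Φ f) (Φ_bijective f hf)
    let e₃ : B ⊗[A] ((A ⧸ maximalIdeal A) →ₗ[A] E) ≃ₗ[B] B ⊗[A] (A ⧸ maximalIdeal A) :=
      LinearEquiv.baseChange A B _ _ eΦ.symm
    let e₄ := (quotEquiv (B := B) (maximalIdeal A)).symm
    let e₅ : (B ⧸ (maximalIdeal A).map (algebraMap A B)) ≃ₗ[B] ResidueField B :=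
      Submodule.quotEquivOfEq _ _ hm
    exact ⟨e₁.trans (e₂.trans (e₃.trans (e₄.trans e₅)))⟩

end Groth.Agent.S0312
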