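import Groth.Statements.S17756
import Mathlib
import Groth.Agent.Lib.Helper19.MatlisLen

set_option autoImplicit false
universe u
open Matlis

namespace Groth.Agent.S17756

open IsLocalRing Groth.Agent.Lib.helper19.MatlisLen

variable (R : Type u) [CommRing R] [IsLocalRing R] (E : Type u) [AddCommGroup E] [Module R E]
  (M : Type u) [AddCommGroup M] [Module R M]

/-- socle of the dual = dual of `M/𝔪M` -/
theorem torsion_equiv :
    Nonempty (((M ⧸ (maximalIdeal R • (⊤ : Submodule R M))) →ₗ[R] E) ≃ₗ[R]
      (Submodule.torsionBySet R (M →ₗ[R] E) (maximalIdeal R : Set R))) := by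
  set N : Submodule R M := maximalIdeal R • (⊤ : Submodule R M) with hN
  let α : ((M ⧸ N) →ₗ[R] E) →ₗ[R] (M →ₗ[R] E) := LinearMap.lcomp R E N.mkQ
  have hα : ∀ ψ, α ψ ∈ Submodule.torsionBySet R (M →ₗ[R] E) (maximalIdeal R : Set R) := by
    intro ψ
    rw [Submodule.mem_torsionBySet_iff]
    rintro ⟨a, ha⟩
    ext x
    have hax : a • x ∈ N := Submodule.smul_mem_smul ha Submodule.mem_top
    have h0 : N.mkQ (a • x) = 0 := by
      rw [Submodule.mkQ_apply, (Submodule.Quotient.mk_eq_zero N).mpr hax]
    show a • (ψ (N.mkQ x)) = 0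
    rw [← map_smul, ← map_smul, h0, map_zero]
  let β := α.codRestrict _ hα
  refine ⟨LinearEquiv.ofBijective β ⟨?_, ?_⟩⟩
  · intro φ ψ h
    ext x
    have := LinearMap.congr_fun (Subtype.ext_iff.mp h) x
    simpa [β, α] using this
  · rintro ⟨φ, hφ⟩
    rw [Submodule.mem_torsionBySet_iff] at hφ
    have hle : N ≤ LinearMap.ker φ := by
      rw [hN, Submodule.smul_le]
      intro a ha x _
      have := LinearMap.congr_fun (hφ ⟨a, ha⟩) x
      simpa using this
    refine ⟨N.liftQ φ hle, Subtype.ext ?_⟩
    ext x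
    simp [β, α]


open IsLocalRing Groth.Agent.Lib.helper19.MatlisLen

theorem main (R : Type u) [CommRing R] [IsNoetherianRing R] [IsLocalRing R] (E : Type u)
    [AddCommGroup E] [Module R E] (f : ResidueField R →ₗ[R] E) (hf : InjHull.IsInjectiveHull f)
    (M : Type u) [AddCommGroup M] [Module R M] [Module.Finite R M] :
    ((⊤ : Submodule R M).spanFinrank : ℕ∞) =
      Module.length R (Submodule.torsionBySet R (M →ₗ[R] E) (maximalIdeal R : Set R)) := by
  obtain ⟨e⟩ := torsion_equiv R E M
  rw [← e.length_eq]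
  set 𝔪 := maximalIdeal R
  let N : Submodule R M := ⊤
  let Q' := N ⧸ 𝔪 • (⊤ : Submodule R N)
  let Q := M ⧸ 𝔪 • (⊤ : Submodule R M)
  have h1 : N.spanFinrank = Module.finrank (R ⧸ 𝔪) Q' :=
    IsLocalRing.spanFinrank_eq_finrank_quotient N (Module.Finite.fg_top)
  have hfin : Module.Finite (R ⧸ 𝔪) Q' := Module.Finite.of_restrictScalars_finite R (R ⧸ 𝔪) Q'
  have h2 : Module.length (R ⧸ 𝔪) Q' = Module.finrank (R ⧸ 𝔪) Q' := by
    let : Field (R ⧸ 𝔪) := Ideal.Quotient.field 𝔪
    exact Module.length_eq_finrank (R ⧸ 𝔪) Q'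
  have h3 : Module.length R Q' = Module.length (R ⧸ 𝔪) Q' :=
    Module.length_eq_of_surjective Ideal.Quotient.mk_surjective
  let eQ : Q' ≃ₗ[R] Q := Submodule.Quotient.equiv _ _ Submodule.topEquiv (by
    rw [Submodule.map_smul'', Submodule.map_top]
    congr 1
    exact LinearEquiv.range _)
  have h4 : Module.length R Q' = Module.length R Q := eQ.length_eq
  have hQfin : IsFiniteLength R Q := by
    rw [← Module.length_ne_top_iff, ← h4, h3, h2]
    exact ENat.natCast_ne_top _
  rw [length_hom_eq f hf Q hQfin, ← h4, h3, h2, ← h1]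



/-- Let R be a Noetherian local ring with maximal ideal m and residue field k, E an injective hull of k,
and M a finitely generated R-module with Matlis dual M^v = Hom_R(M, E). Then the minimal number of
generators of M equals the k-dimension of the socle of M^v, the submodule of elements of M^v killed
by m (stated as its length as an R-module). -/
theorem result (R : Type u) [CommRing R] [IsNoetherianRing R] [IsLocalRing R] (E : Type u) [AddCommGroup E] [Module R E] (f : IsLocalRing.ResidueField R →ₗ[R] E) (hf : InjHull.IsInjectiveHull f) (M : Type u) [AddCommGroup M] [Module R M] [Module.Finite R M] : ((⊤ : Submodule R M).spanFinrank : ℕ∞) = Module.length R (LocCoh.torsionBy (IsLocalRing.maximalIdeal R) (M →ₗ[R] E)) := by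
  exact main R E f hf M

end Groth.Agent.S17756
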