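import Groth.Statements.S1735
import Mathlib


set_option autoImplicit false
universe u
open LocCoh

namespace Groth.Agent.S1735


open IsLocalRing

lemma isArtinianRing_quotient_pow {R : Type*} [CommRing R] [IsNoetherianRing R] [IsLocalRing R]
    (k : ℕ) (hk : maximalIdeal R ^ k ≠ ⊤) :
    IsArtinianRing (R ⧸ maximalIdeal R ^ k) := by
  have hnt : Nontrivial (R ⧸ maximalIdeal R ^ k) := Ideal.Quotient.nontrivial_iff.mpr hk
  have hloc : IsLocalRing (R ⧸ maximalIdeal R ^ k) :=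
    .of_surjective' _ Ideal.Quotient.mk_surjective
  rw [isArtinianRing_iff_isNilpotent_maximalIdeal]
  refine ⟨k, ?_⟩
  have h1 : maximalIdeal (R ⧸ maximalIdeal R ^ k) ≤
      (maximalIdeal R).map (Ideal.Quotient.mk (maximalIdeal R ^ k)) := by
    intro xb hx
    obtain ⟨x, rfl⟩ := Ideal.Quotient.mk_surjective xb
    apply Ideal.mem_map_of_mem
    by_contra hxm
    have hu : IsUnit x := IsLocalRing.notMem_maximalIdeal.mp hxm
    exact (IsLocalRing.mem_maximalIdeal _).mp hx (hu.map _)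
  rw [Ideal.zero_eq_bot, eq_bot_iff]
  refine (Ideal.pow_right_mono h1 k).trans ?_
  rw [← Ideal.map_pow, Ideal.map_quotient_self]

/-- stabilization of `I m ⊔ 𝔪^j` -/
lemma exists_stable {R : Type*} [CommRing R] [IsNoetherianRing R] [IsLocalRing R]
    (I : ℕ → Ideal R) (hI : Antitone I) (j : ℕ) :
    ∃ N, ∀ m, N ≤ m → I m ⊔ maximalIdeal R ^ j = I N ⊔ maximalIdeal R ^ j := by
  by_cases hj : maximalIdeal R ^ j = ⊤
  · exact ⟨0, fun m _ => by rw [hj]; simp⟩
  have hart := isArtinianRing_quotient_pow (R := R) j hj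
  let f : ℕ →o (Submodule (R ⧸ maximalIdeal R ^ j) (R ⧸ maximalIdeal R ^ j))ᵒᵈ :=
    ⟨fun m => OrderDual.toDual ((I m).map (Ideal.Quotient.mk (maximalIdeal R ^ j))),
      fun a b hab => Ideal.map_mono (hI hab)⟩
  obtain ⟨N, hN⟩ := IsArtinian.monotone_stabilizes f
  refine ⟨N, fun m hm => ?_⟩
  have h1 : (I N).map (Ideal.Quotient.mk (maximalIdeal R ^ j)) =
      (I m).map (Ideal.Quotient.mk (maximalIdeal R ^ j)) := hN m hm
  have h2 := congrArg (Ideal.comap (Ideal.Quotient.mk (maximalIdeal R ^ j))) h1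
  rw [Ideal.comap_map_of_surjective _ Ideal.Quotient.mk_surjective,
    Ideal.comap_map_of_surjective _ Ideal.Quotient.mk_surjective, ← RingHom.ker_eq_comap_bot,
    Ideal.mk_ker] at h2
  exact h2.symm

/-- ideals are closed -/
lemma iInf_sup_pow {R : Type*} [CommRing R] [IsNoetherianRing R] [IsLocalRing R]
    (I : Ideal R) : ⨅ j, (I ⊔ maximalIdeal R ^ j) = I := by
  refine le_antisymm ?_ (le_iInf fun j => le_sup_left)
  intro x hx
  rw [Ideal.mem_iInf] at hx
  have h0 := Ideal.iInf_pow_smul_eq_bot_of_isLocalRing (R := R) (M := R ⧸ I) (maximalIdeal R)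
    (Ideal.IsPrime.ne_top inferInstance)
  have h1 : Ideal.Quotient.mk I x ∈ (⨅ i : ℕ, maximalIdeal R ^ i • ⊤ : Submodule R (R ⧸ I)) := by
    rw [Submodule.mem_iInf]
    intro i
    obtain ⟨y, hy, z, hz, hyz⟩ := Submodule.mem_sup.mp (hx i)
    have : Ideal.Quotient.mk I x = z • (1 : R ⧸ I) := by
      rw [← hyz, map_add, Ideal.Quotient.eq_zero_iff_mem.mpr hy, zero_add, Algebra.smul_def,
        mul_one]
      rfl
    rw [this]
    exact Submodule.smul_mem_smul hz Submodule.mem_top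
  rw [h0, Submodule.mem_bot] at h1
  exact Ideal.Quotient.eq_zero_iff_mem.mp h1

lemma sup_pow_le {R : Type*} [CommRing R] (a b : Ideal R) (n : ℕ) : (a ⊔ b) ^ n ≤ a ^ n ⊔ b := by
  induction n with
  | zero => simp
  | succ n ih =>
    rw [pow_succ]
    refine (Ideal.mul_mono_left ih).trans ?_
    rw [Ideal.mul_sup, Ideal.sup_mul, Ideal.sup_mul, ← pow_succ]
    refine sup_le (sup_le le_sup_left (le_sup_of_le_right Ideal.mul_le_left))
      (sup_le (le_sup_of_le_right Ideal.mul_le_right) (le_sup_of_le_right Ideal.mul_le_left))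

/-- **Chevalley's lemma**. -/
theorem chevalley {R : Type*} [CommRing R] [IsNoetherianRing R] [IsLocalRing R]
    [IsAdicComplete (maximalIdeal R) R]
    (I : ℕ → Ideal R) (hI : Antitone I) (hinf : ⨅ m, I m = ⊥) (k : ℕ) :
    ∃ m, I m ≤ maximalIdeal R ^ k := by
  classical
  by_contra hcon
  push Not at hcon
  set 𝔪 := maximalIdeal R with h𝔪
  let J : ℕ → Ideal R := fun j => ⨅ m, (I m ⊔ 𝔪 ^ j)
  have hJanti : Antitone J := fun a b hab =>
    iInf_mono fun m => sup_le_sup_left (Ideal.pow_le_pow_right hab) _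
  have hJeq : ∀ j, ∃ N, ∀ m, N ≤ m → J j = I m ⊔ 𝔪 ^ j := by
    intro j
    obtain ⟨N, hN⟩ := exists_stable I hI j
    refine ⟨N, fun m hm => le_antisymm (iInf_le _ m) (le_iInf fun m' => ?_)⟩
    rcases le_total m m' with h | h
    · rw [hN m hm, ← hN m' (hm.trans h)]
    · exact sup_le_sup_right (hI h) _
  have hJpow : ∀ j, 𝔪 ^ j ≤ J j := fun j => le_iInf fun m => le_sup_right
  have hstep : ∀ j, J j ≤ J (j + 1) ⊔ 𝔪 ^ j := by
    intro j
    obtain ⟨N, hN⟩ := hJeq (j + 1)
    rw [hN N le_rfl]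
    refine (iInf_le _ N).trans ?_
    exact sup_le (le_sup_of_le_left le_sup_left) le_sup_right
  have hstep' : ∀ j (x : R), x ∈ J j → ∃ y ∈ J (j + 1), y - x ∈ 𝔪 ^ j := by
    intro j x hx
    obtain ⟨y, hy, z, hz, hyz⟩ := Submodule.mem_sup.mp (hstep j hx)
    refine ⟨y, hy, ?_⟩
    have : y - x = -z := by rw [← hyz]; ring
    rw [this]
    exact neg_mem hz
  -- starting element
  obtain ⟨x₀, hx₀J, hx₀k⟩ : ∃ x₀ ∈ J k, x₀ ∉ 𝔪 ^ k := by
    obtain ⟨N, hN⟩ := hJeq k
    obtain ⟨x, hxI, hxk⟩ := SetLike.not_le_iff_exists.mp (hcon N)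
    exact ⟨x, by rw [hN N le_rfl]; exact Ideal.mem_sup_left hxI, hxk⟩
  choose g hgJ hgsub using hstep'
  -- the sequence
  let z : ∀ i : ℕ, {x : R // x ∈ J (k + i)} := fun i =>
    Nat.rec ⟨x₀, hx₀J⟩ (fun i x => ⟨g (k + i) x.1 x.2, hgJ (k + i) x.1 x.2⟩) i
  have hz0 : (z 0).1 = x₀ := rfl
  have hzs : ∀ i, (z (i + 1)).1 - (z i).1 ∈ 𝔪 ^ (k + i) := fun i => hgsub (k + i) (z i).1 (z i).2
  have hzdiff : ∀ a b, a ≤ b → (z b).1 - (z a).1 ∈ 𝔪 ^ (k + a) := by
    intro a b hab
    induction b, hab using Nat.le_induction with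
    | base => simp
    | succ b hab ih =>
      have h1 : (z (b + 1)).1 - (z a).1 = ((z (b + 1)).1 - (z b).1) + ((z b).1 - (z a).1) := by ring
      rw [h1]
      exact Ideal.add_mem _ (Ideal.pow_le_pow_right (by omega) (hzs b)) ih
  obtain ⟨L, hL⟩ := IsPrecomplete.prec (I := 𝔪) (M := R) inferInstance (f := fun i => (z i).1) (by
    intro a b hab
    rw [SModEq.sub_mem]
    have h1 : (z a).1 - (z b).1 = -((z b).1 - (z a).1) := by ring
    rw [h1, smul_eq_mul, Ideal.mul_top]
    exact neg_mem (Ideal.pow_le_pow_right (by omega) (hzdiff a b hab)))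
  have hL' : ∀ i, (z i).1 - L ∈ 𝔪 ^ i := by
    intro i
    have := hL i
    rw [SModEq.sub_mem, smul_eq_mul, Ideal.mul_top] at this
    exact this
  -- `L ∉ 𝔪^k`
  have hLk : L ∉ 𝔪 ^ k := by
    intro hLk
    apply hx₀k
    have h1 : x₀ = (z k).1 - ((z k).1 - (z 0).1) := by rw [hz0]; ring
    rw [h1]
    refine Ideal.sub_mem _ ?_ (by simpa using hzdiff 0 k (Nat.zero_le k))
    have h2 : (z k).1 = ((z k).1 - L) + L := by ring
    rw [h2]
    exact Ideal.add_mem _ (hL' k) hLk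
  -- `L ∈ J j` for all `j`
  have hLJ : ∀ j, L ∈ J j := by
    intro j
    have h1 : L = (z j).1 - ((z j).1 - L) := by ring
    rw [h1]
    exact Ideal.sub_mem _ (hJanti (Nat.le_add_left j k) (z j).2) (hJpow j (hL' j))
  -- so `L ∈ ⨅ I m = ⊥`
  have hL0 : L = 0 := by
    have : L ∈ ⨅ m, I m := by
      rw [Ideal.mem_iInf]
      intro m
      rw [← iInf_sup_pow (I m), Ideal.mem_iInf]
      intro j
      have := hLJ j
      exact (Ideal.mem_iInf.mp this) m
    rw [hinf] at this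
    exact this
  exact hLk (hL0 ▸ Ideal.zero_mem _)


/-- Let A be a complete Noetherian local domain and p a prime ideal with dim(A/p) = 1. For every n ≥ 1
there is m ≥ n such that the m-th symbolic power of p (the contraction of p^m A_p to A) is contained
in p^n. -/
theorem result (A : Type u) [CommRing A] [IsDomain A] [IsLocalRing A] [IsNoetherianRing A] [IsAdicComplete (IsLocalRing.maximalIdeal A) A] (p : Ideal A) [p.IsPrime] (hp : ringKrullDim (A ⧸ p) = 1) (n : ℕ) (hn : 1 ≤ n) : ∃ m : ℕ, n ≤ m ∧ ((Ideal.map (algebraMap A (Localization.AtPrime p)) p) ^ m).comap (algebraMap A (Localization.AtPrime p)) ≤ p ^ n := by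
  classical
  set S := Localization.AtPrime p with hS
  set P := Ideal.map (algebraMap A S) p with hP
  set 𝔪 := IsLocalRing.maximalIdeal A with h𝔪
  let symb : ℕ → Ideal A := fun m => (P ^ m).comap (algebraMap A S)
  have hsymb_anti : Antitone symb := fun a b hab =>
    Ideal.comap_mono (Ideal.pow_le_pow_right hab)
  have hPmax : P = IsLocalRing.maximalIdeal S := Localization.AtPrime.map_eq_maximalIdeal
  have hinj : Function.Injective (algebraMap A S) :=
    IsLocalization.injective S (p.primeCompl_le_nonZeroDivisors)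
  have hinf : ⨅ m, symb m = ⊥ := by
    rw [eq_bot_iff]
    intro x hx
    rw [Ideal.mem_iInf] at hx
    have h1 : algebraMap A S x ∈ ⨅ i : ℕ, P ^ i := by
      rw [Ideal.mem_iInf]
      exact fun i => hx i
    rw [Ideal.iInf_pow_eq_bot_of_isLocalRing P (hPmax ▸ Ideal.IsPrime.ne_top inferInstance),
      Ideal.mem_bot] at h1
    rw [Ideal.mem_bot]
    exact hinj (by rw [h1, map_zero])
  set Y := symb n with hY
  -- an element `s ∉ p` with `s • Y ≤ p ^ n`
  have hmem : ∀ x ∈ Y, ∃ t : A, t ∉ p ∧ t * x ∈ p ^ n := by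
    intro x hx
    have hx' : algebraMap A S x ∈ (p ^ n).map (algebraMap A S) := by
      rw [Ideal.map_pow]; exact hx
    rw [IsLocalization.mem_map_algebraMap_iff p.primeCompl] at hx'
    obtain ⟨⟨y, t⟩, hyt⟩ := hx'
    have h2 : algebraMap A S (x * t) = algebraMap A S y := by rw [map_mul]; exact hyt
    have h3 := hinj h2
    refine ⟨t, t.2, ?_⟩
    rw [mul_comm, h3]
    exact y.2
  obtain ⟨s, hsp, hsY⟩ : ∃ s : A, s ∉ p ∧ Ideal.span {s} * Y ≤ p ^ n := by
    obtain ⟨G, hG⟩ := (IsNoetherian.noetherian Y : Y.FG)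
    choose! t htp htx using hmem
    refine ⟨∏ x ∈ G, t x, ?_, ?_⟩
    · intro hprod
      obtain ⟨x, hxG, hx⟩ := (Ideal.IsPrime.prod_mem_iff).mp hprod
      exact htp x (hG ▸ Ideal.subset_span hxG) hx
    · rw [← hG, Ideal.span_mul_span, Ideal.span_le]
      rintro _ ⟨a, ha, b, hb, rfl⟩
      rw [Set.mem_singleton_iff] at ha
      subst ha
      have hbY : b ∈ Y := hG ▸ Ideal.subset_span hb
      obtain ⟨c, hc⟩ := Finset.dvd_prod_of_mem t hb
      show (∏ i ∈ G, t i) * b ∈ p ^ n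
      rw [hc, mul_comm (t b), mul_assoc]
      exact Ideal.mul_mem_left _ _ (htx b hbY)
  -- primes strictly above `p` are maximal
  have hq𝔪 : ∀ q : Ideal A, q.IsPrime → p < q → q = 𝔪 := by
    intro q hq hpq
    by_contra hne
    have hq𝔪 : q < 𝔪 := lt_of_le_of_ne (IsLocalRing.le_maximalIdeal hq.ne_top) hne
    have h2 : (2 : WithBot ℕ∞) ≤ ringKrullDim (A ⧸ p) := by
      rw [ringKrullDim_quotient]
      let a : PrimeSpectrum.zeroLocus (p : Set A) := ⟨⟨p, inferInstance⟩, by simp⟩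
      let b : PrimeSpectrum.zeroLocus (p : Set A) := ⟨⟨q, hq⟩, by
        rw [PrimeSpectrum.mem_zeroLocus]; exact hpq.le⟩
      let c : PrimeSpectrum.zeroLocus (p : Set A) := ⟨⟨𝔪, inferInstance⟩, by
        rw [PrimeSpectrum.mem_zeroLocus]; exact (hpq.trans hq𝔪).le⟩
      have hab : a < b := hpq
      have hbc : b < c := hq𝔪
      let l : LTSeries (PrimeSpectrum.zeroLocus (p : Set A)) :=
        ((RelSeries.singleton _ a).snoc b hab).snoc c (by simpa using hbc)
      have hl : l.length = 2 := by simp [l]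
      have := Order.LTSeries.length_le_krullDim l
      rw [hl] at this
      exact_mod_cast this
    rw [hp] at h2
    norm_num at h2
  set J := p ⊔ Ideal.span {s} with hJ
  obtain ⟨j, hj⟩ : ∃ j, 𝔪 ^ j ≤ J := by
    refine Ideal.exists_pow_le_of_le_radical_of_fg ?_ (IsNoetherian.noetherian 𝔪)
    rw [Ideal.radical_eq_sInf]
    refine le_sInf fun q hq => ?_
    have hpq : p < q := by
      refine lt_of_le_of_ne (le_sup_left.trans hq.1) ?_
      intro h
      apply hsp
      rw [h]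
      exact hq.1 (Ideal.mem_sup_right (Ideal.mem_span_singleton_self s))
    rw [hq𝔪 q hq.2 hpq]
  have hJY : J ^ n * Y ≤ p ^ n := by
    refine (Ideal.mul_mono_left (sup_pow_le p (Ideal.span {s}) n)).trans ?_
    rw [Ideal.sup_mul]
    exact sup_le Ideal.mul_le_left hsY
  -- Artin–Rees
  obtain ⟨c, hc⟩ := Ideal.exists_pow_inf_eq_pow_smul 𝔪 (Y : Submodule A A)
  have hAR : 𝔪 ^ (c + j * n) ⊓ Y ≤ p ^ n := by
    have h1 := hc (c + j * n) (Nat.le_add_right _ _)
    rw [Nat.add_sub_cancel_left, smul_eq_mul, Ideal.mul_top] at h1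
    rw [h1]
    refine le_trans ?_ hJY
    rw [smul_eq_mul, pow_mul]
    exact Ideal.mul_mono (Ideal.pow_right_mono hj n) inf_le_right
  obtain ⟨m₀, hm₀⟩ := chevalley symb hsymb_anti hinf (c + j * n)
  refine ⟨max m₀ n, le_max_right _ _, ?_⟩
  refine le_trans ?_ hAR
  exact le_inf ((hsymb_anti (le_max_left m₀ n)).trans hm₀) (hsymb_anti (le_max_right m₀ n))


end Groth.Agent.S1735
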