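import Groth.Agent.LibCR29
import Mathlib.RingTheory.PowerSeries.Inverse
import Mathlib.RingTheory.MvPowerSeries.Equiv
import Mathlib.RingTheory.AdicCompletion.Noetherian
import Mathlib.RingTheory.AdicCompletion.Topology

/-!
# Power series rings over complete local Noetherian rings are complete
-/

set_option autoImplicit false
universe u

namespace Groth.Agent.LibCR29

open IsLocalRing

section sup

variable {A : Type u} [CommRing A]

lemma smodEq_pow_iff (I : Ideal A) (n : ℕ) (x y : A) :
    x ≡ y [SMOD (I ^ n • ⊤ : Submodule A A)] ↔ x - y ∈ I ^ n := by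
  rw [SModEq.sub_mem, smul_eq_mul, Ideal.mul_top]

/-- the limit of a Cauchy series with terms in `I ^ j` -/
lemma exists_limit_sum (I : Ideal A) (hI : IsPrecomplete I A) (a : ℕ → A) (ha : ∀ j, a j ∈ I ^ j) :
    ∃ α : A, ∀ N, α - ∑ j ∈ Finset.range N, a j ∈ I ^ N := by
  have hc : ∀ {m n}, m ≤ n → (∑ j ∈ Finset.range m, a j) ≡ (∑ j ∈ Finset.range n, a j)
      [SMOD (I ^ m • ⊤ : Submodule A A)] := by
    intro m n hmn
    rw [smodEq_pow_iff]
    have h1 : ∑ j ∈ Finset.range m, a j - ∑ j ∈ Finset.range n, a j =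
        -∑ j ∈ Finset.Ico m n, a j := by
      rw [Finset.sum_Ico_eq_sub _ hmn]; ring
    rw [h1]
    apply Ideal.neg_mem_iff _ |>.2
    apply Ideal.sum_mem
    intro j hj
    exact Ideal.pow_le_pow_right (Finset.mem_Ico.1 hj).1 (ha j)
  obtain ⟨α, hα⟩ := hI.prec' _ hc
  refine ⟨α, fun N => ?_⟩
  have := hα N
  rw [smodEq_pow_iff] at this
  rw [← Ideal.neg_mem_iff]
  rwa [neg_sub]

theorem isPrecomplete_sup (I J : Ideal A) (hI : IsPrecomplete I A) (hJ : IsPrecomplete J A) :
    IsPrecomplete (I ⊔ J) A := by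
  refine ⟨fun f hf => ?_⟩
  have hf' : ∀ {m n}, m ≤ n → f m - f n ∈ (I ⊔ J) ^ m := fun hmn =>
    (smodEq_pow_iff _ _ _ _).1 (hf hmn)
  have hg : ∀ j, f (2 * (j + 1)) - f (2 * j) ∈ I ^ j ⊔ J ^ j := by
    intro j
    have h1 : f (2 * j) - f (2 * (j + 1)) ∈ (I ⊔ J) ^ (2 * j) := hf' (by omega)
    have h2 : (I ⊔ J) ^ (2 * j) ≤ I ^ j ⊔ J ^ j := by
      rw [two_mul]; exact Ideal.sup_pow_add_le_pow_sup_pow
    have h3 := h2 h1
    rw [← Ideal.neg_mem_iff] at h3
    rwa [neg_sub] at h3
  have hab : ∀ j, ∃ a ∈ I ^ j, ∃ b ∈ J ^ j, a + b = f (2 * (j + 1)) - f (2 * j) := fun j =>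
    Submodule.mem_sup.1 (hg j)
  choose a ha b hb hab using hab
  obtain ⟨α, hα⟩ := exists_limit_sum I hI a ha
  obtain ⟨β, hβ⟩ := exists_limit_sum J hJ b hb
  have hsum : ∀ N, f (2 * N) = f 0 + ∑ j ∈ Finset.range N, a j + ∑ j ∈ Finset.range N, b j := by
    intro N
    induction N with
    | zero => simp
    | succ N ih =>
      rw [Finset.sum_range_succ, Finset.sum_range_succ]
      have := hab N
      have e : f (2 * (N + 1)) = f (2 * N) + (a N + b N) := by rw [this]; ring
      rw [e, ih]; ring
  refine ⟨f 0 + α + β, fun n => ?_⟩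
  rw [smodEq_pow_iff]
  have h1 : f n - f (2 * n) ∈ (I ⊔ J) ^ n := hf' (by omega)
  have h2 : f (2 * n) - (f 0 + α + β) ∈ (I ⊔ J) ^ n := by
    rw [hsum n]
    have e : f 0 + ∑ j ∈ Finset.range n, a j + ∑ j ∈ Finset.range n, b j - (f 0 + α + β) =
        -((α - ∑ j ∈ Finset.range n, a j) + (β - ∑ j ∈ Finset.range n, b j)) := by ring
    rw [e, Ideal.neg_mem_iff]
    refine Ideal.add_mem _ ?_ ?_
    · exact Ideal.pow_right_mono le_sup_left n (hα n)
    · exact Ideal.pow_right_mono le_sup_right n (hβ n)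
  have e : f n - (f 0 + α + β) = (f n - f (2 * n)) + (f (2 * n) - (f 0 + α + β)) := by ring
  rw [e]
  exact Ideal.add_mem _ h1 h2

end sup

section ps

variable {B : Type u} [CommRing B]

/-- the ideal of power series with all coefficients in `I`. -/
def coeffIdeal (I : Ideal B) : Ideal (PowerSeries B) where
  carrier := {g | ∀ n, PowerSeries.coeff n g ∈ I}
  add_mem' := fun ha hb n => by rw [map_add]; exact I.add_mem (ha n) (hb n)
  zero_mem' := fun n => by rw [map_zero]; exact I.zero_mem
  smul_mem' := fun c x hx n => by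
    rw [smul_eq_mul, PowerSeries.coeff_mul]
    exact Ideal.sum_mem _ fun p _ => Ideal.mul_mem_left _ _ (hx _)

lemma mem_coeffIdeal (I : Ideal B) (g : PowerSeries B) :
    g ∈ coeffIdeal I ↔ ∀ n, PowerSeries.coeff n g ∈ I := Iff.rfl

lemma map_C_le_coeffIdeal (I : Ideal B) :
    I.map (PowerSeries.C : B →+* PowerSeries B) ≤ coeffIdeal I := by
  rw [Ideal.map_le_iff_le_comap]
  intro a ha
  rw [Ideal.mem_comap, mem_coeffIdeal]
  intro n
  rw [PowerSeries.coeff_C]
  split_ifs
  · exact ha
  · exact I.zero_mem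

/-- a power series with all coefficients in a f.g. ideal lies in the extended ideal -/
lemma coeffIdeal_le_map_C (I : Ideal B) (hI : I.FG) :
    coeffIdeal I ≤ I.map (PowerSeries.C : B →+* PowerSeries B) := by
  obtain ⟨r, a, ha⟩ := Submodule.fg_iff_exists_fin_generating_family.1 hI
  intro g hg
  have hex : ∀ n, ∃ c : Fin r → B, ∑ i, c i • a i = PowerSeries.coeff n g := fun n =>
    (Submodule.mem_span_range_iff_exists_fun B).1 (by rw [ha]; exact hg n)
  choose c hc using hex
  have hgeq : g = ∑ i, PowerSeries.C (a i) * PowerSeries.mk (fun n => c n i) := by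
    ext n
    rw [map_sum, ← hc n]
    refine Finset.sum_congr rfl fun i _ => ?_
    rw [PowerSeries.coeff_C_mul, PowerSeries.coeff_mk, smul_eq_mul, mul_comm]
  rw [hgeq]
  refine Ideal.sum_mem _ fun i _ => Ideal.mul_mem_right _ _ (Ideal.mem_map_of_mem _ ?_)
  rw [← ha]
  exact Submodule.subset_span ⟨i, rfl⟩

variable [IsLocalRing B] [IsNoetherianRing B]

/-- `𝔪 B⟦X⟧`-adic precompleteness of `B⟦X⟧` for `B` complete local Noetherian. -/
theorem isPrecomplete_map_C [IsAdicComplete (maximalIdeal B) B] :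
    IsPrecomplete ((maximalIdeal B).map (PowerSeries.C : B →+* PowerSeries B))
      (PowerSeries B) := by
  refine ⟨fun f hf => ?_⟩
  have hf' : ∀ {m n}, m ≤ n → f m - f n ∈ coeffIdeal (maximalIdeal B ^ m) := by
    intro m n hmn
    have h1 := (smodEq_pow_iff _ _ _ _).1 (hf hmn)
    rw [← Ideal.map_pow] at h1
    exact map_C_le_coeffIdeal _ h1
  have hlim : ∀ d, ∃ c : B, ∀ n, PowerSeries.coeff d (f n) ≡ c
      [SMOD (maximalIdeal B ^ n • ⊤ : Submodule B B)] := by
    intro d
    apply IsPrecomplete.prec'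
    intro m n hmn
    rw [smodEq_pow_iff, ← map_sub]
    exact hf' hmn d
  choose c hc using hlim
  refine ⟨PowerSeries.mk c, fun n => ?_⟩
  rw [smodEq_pow_iff, ← Ideal.map_pow]
  apply coeffIdeal_le_map_C _ ((isNoetherianRing_iff_ideal_fg B).1 inferInstance _)
  intro d
  rw [map_sub, PowerSeries.coeff_mk]
  exact (smodEq_pow_iff _ _ _ _).1 (hc d n)

omit [IsNoetherianRing B] in
lemma maximalIdeal_powerSeries :
    maximalIdeal (PowerSeries B) =
      (maximalIdeal B).map (PowerSeries.C : B →+* PowerSeries B) ⊔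
        Ideal.span {(PowerSeries.X : PowerSeries B)} := by
  apply le_antisymm
  · intro g hg
    rw [IsLocalRing.mem_maximalIdeal, mem_nonunits_iff, PowerSeries.isUnit_iff_constantCoeff] at hg
    rw [PowerSeries.eq_X_mul_shift_add_const g]
    refine Ideal.add_mem _ (Ideal.mem_sup_right ?_) (Ideal.mem_sup_left ?_)
    · exact Ideal.mul_mem_right _ _ (Ideal.subset_span rfl)
    · exact Ideal.mem_map_of_mem _ ((IsLocalRing.mem_maximalIdeal _).2 hg)
  · refine sup_le ?_ ?_
    · rw [Ideal.map_le_iff_le_comap]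
      intro a ha
      rw [Ideal.mem_comap, IsLocalRing.mem_maximalIdeal, mem_nonunits_iff,
        PowerSeries.isUnit_iff_constantCoeff, PowerSeries.constantCoeff_C]
      exact (IsLocalRing.mem_maximalIdeal _).1 ha
    · rw [Ideal.span_le, Set.singleton_subset_iff]
      change PowerSeries.X ∈ maximalIdeal (PowerSeries B)
      rw [IsLocalRing.mem_maximalIdeal, mem_nonunits_iff, PowerSeries.isUnit_iff_constantCoeff,
        PowerSeries.constantCoeff_X]
      exact not_isUnit_zero

/-- `B⟦X⟧` is complete for `B` complete local Noetherian. -/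
theorem isAdicComplete_powerSeries [IsAdicComplete (maximalIdeal B) B] :
    IsAdicComplete (maximalIdeal (PowerSeries B)) (PowerSeries B) := by
  have h1 : IsPrecomplete (maximalIdeal (PowerSeries B)) (PowerSeries B) := by
    rw [maximalIdeal_powerSeries]
    exact isPrecomplete_sup _ _ isPrecomplete_map_C
      (inferInstance : IsAdicComplete (Ideal.span {(PowerSeries.X : PowerSeries B)})
        (PowerSeries B)).toIsPrecomplete
  exact { toIsHausdorff := inferInstance, toIsPrecomplete := h1 }

end ps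

section transport

theorem isAdicComplete_of_ringEquiv {A A' : Type u} [CommRing A] [CommRing A'] [IsLocalRing A]
    [IsLocalRing A'] (e : A ≃+* A') [IsAdicComplete (maximalIdeal A) A] :
    IsAdicComplete (maximalIdeal A') A' := by
  rw [← IsLocalRing.map_ringEquiv_maximalIdeal e]
  exact (IsAdicComplete.congr_ringEquiv (maximalIdeal A) e).2 inferInstance

theorem isAdicComplete_mvPowerSeries (n : ℕ) : ∀ (B : Type u) [CommRing B] [IsLocalRing B]
    [IsNoetherianRing B] [IsAdicComplete (maximalIdeal B) B],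
    IsAdicComplete (maximalIdeal (MvPowerSeries (Fin n) B)) (MvPowerSeries (Fin n) B) := by
  induction n with
  | zero =>
    intro B _ _ _ _
    exact isAdicComplete_of_ringEquiv (MvPowerSeries.isEmptyEquiv (Fin 0) B).symm.toRingEquiv
  | succ n ih =>
    intro B _ _ _ _
    have h1 := ih B
    have h2 : IsAdicComplete (maximalIdeal (PowerSeries (MvPowerSeries (Fin n) B)))
        (PowerSeries (MvPowerSeries (Fin n) B)) := isAdicComplete_powerSeries
    exact isAdicComplete_of_ringEquiv (MvPowerSeries.finSuccEquiv B n).symm.toRingEquiv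

end transport

section psCRing

open ArtFun

variable {Λ k : Type u} [CommRing Λ] [Field k] [Algebra Λ k]

/-- the constant coefficient as an algebra map. -/
noncomputable def constCoeffₐ (Λ : Type u) [CommRing Λ] (R : Type u) [CommRing R] [Algebra Λ R]
    (n : ℕ) : MvPowerSeries (Fin n) R →ₐ[Λ] R :=
  { (MvPowerSeries.constantCoeff : MvPowerSeries (Fin n) R →+* R) with
    commutes' := fun r => by
      change MvPowerSeries.constantCoeff (algebraMap Λ (MvPowerSeries (Fin n) R) r) = _
      rw [MvPowerSeries.algebraMap_apply, MvPowerSeries.constantCoeff_C] }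

@[simp] lemma constCoeffₐ_apply (R : Type u) [CommRing R] [Algebra Λ R] (n : ℕ)
    (f : MvPowerSeries (Fin n) R) : constCoeffₐ Λ R n f = MvPowerSeries.constantCoeff f := rfl

/-- the power series ring over a complete local Noetherian augmented algebra. -/
noncomputable def psCRing (R : CRing Λ k) (n : ℕ) : CRing Λ k :=
  { carrier := MvPowerSeries (Fin n) R.carrier
    res := R.res.comp (constCoeffₐ Λ R.carrier n)
    res_surjective := fun c => by
      obtain ⟨a, ha⟩ := R.res_surjective c
      exact ⟨MvPowerSeries.C a, by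
        change R.res (MvPowerSeries.constantCoeff (MvPowerSeries.C a)) = c
        rw [MvPowerSeries.constantCoeff_C, ha]⟩
    isAdicComplete :=
      haveI : IsAdicComplete (maximalIdeal R.carrier) R.carrier := R.isAdicComplete
      isAdicComplete_mvPowerSeries n R.carrier }

lemma psCRing_carrier (R : CRing Λ k) (n : ℕ) :
    (psCRing R n).carrier = MvPowerSeries (Fin n) R.carrier := rfl

lemma psCRing_res (R : CRing Λ k) (n : ℕ) (f : MvPowerSeries (Fin n) R.carrier) :
    (psCRing R n).res f = R.res (MvPowerSeries.constantCoeff f) := rfl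

end psCRing

end Groth.Agent.LibCR29
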