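import Groth.Statements.S0333
import Mathlib
import Groth.Agent.Lib.Helper19.LCBridge
import Groth.Agent.Lib.Helper19.LCLes
import Groth.Agent.Lib.Helper19.LCFactor
import Groth.Agent.Lib.Helper19.LCGroth
import Groth.Agent.Lib.Helper26.Depth1

set_option autoImplicit false
universe u v
open LocCoh

namespace Groth.Agent.S0333

-- MARK
section Aux
open CategoryTheory Groth.Agent.Lib.helper19.LCBridge Groth.Agent.Lib.helper19.LCLes
  Groth.Agent.Lib.helper19.LCFactor Groth.Agent.Lib.helper19.LCGroth Groth.Agent.Lib.helper26.Depth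

variable {R : Type u} [CommRing R]

/-- a prime of maximal coheight is minimal -/
theorem mem_minimalPrimes_of_dim (d : ℕ) (hd : ringKrullDim R = d) (p : Ideal R) [hp : p.IsPrime]
    (hpd : ringKrullDim (R ⧸ p) = d) : p ∈ minimalPrimes R := by
  obtain ⟨q, hq, hqp⟩ := Ideal.exists_minimalPrimes_le (J := p) (bot_le : (⊥ : Ideal R) ≤ _)
  have hqeq : q = p := by
    by_contra hne
    rw [ringKrullDim_quotient] at hpd
    obtain ⟨l, hl⟩ := Order.le_krullDim_iff.1 hpd.ge
    let l' : LTSeries (PrimeSpectrum R) := l.map Subtype.val (fun _ _ h => h)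
    have hlt : (⟨q, hq.1.1⟩ : PrimeSpectrum R) < l'.head := by
      have h1 : p ≤ (l.head : PrimeSpectrum R).asIdeal := by
        have := l.head.2
        rw [PrimeSpectrum.mem_zeroLocus, SetLike.coe_subset_coe] at this
        exact this
      have h2 : q < (l.head : PrimeSpectrum R).asIdeal :=
        lt_of_lt_of_le (lt_of_le_of_ne hqp hne : q < p) h1
      exact h2
    have h1 := Order.LTSeries.length_le_krullDim (l'.cons ⟨q, hq.1.1⟩ hlt)
    rw [RelSeries.cons_length] at h1
    have h2 : ((l'.length + 1 : ℕ) : WithBot ℕ∞) ≤ (d : WithBot ℕ∞) := by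
      rw [← hd]
      exact h1
    have h3 : l'.length = d := hl
    rw [h3] at h2
    have h4 : d + 1 ≤ d := by exact_mod_cast h2
    lia
  exact hqeq ▸ hq

/-- modules supported strictly above `p` have dimension `< dim R/p` -/
theorem supportDim_lt_of_support_above (d : ℕ) (p : Ideal R) [hp : p.IsPrime]
    (hpd : ringKrullDim (R ⧸ p) = d) (N : Type u) [AddCommGroup N] [Module R N]
    (hN : ∀ q ∈ Module.support R N, p < q.asIdeal) :
    Module.supportDim R N < (d : WithBot ℕ∞) := by
  by_contra hcon
  rw [not_lt] at hcon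
  obtain ⟨l, hl⟩ := Order.le_krullDim_iff.1 hcon
  rw [ringKrullDim_quotient] at hpd
  let l'' : LTSeries (PrimeSpectrum.zeroLocus (R := R) (p : Set R)) :=
    { length := l.length
      toFun := fun i => ⟨(l i).1, by
        rw [PrimeSpectrum.mem_zeroLocus, SetLike.coe_subset_coe]
        exact (hN _ (l i).2).le⟩
      step := fun i => l.step i }
  have hlt : (⟨⟨p, hp⟩, by rw [PrimeSpectrum.mem_zeroLocus]⟩ :
      PrimeSpectrum.zeroLocus (R := R) (p : Set R)) < l''.head := hN _ l.head.2
  have h1 := Order.LTSeries.length_le_krullDim (l''.cons _ hlt)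
  rw [RelSeries.cons_length, hpd] at h1
  have h3 : l''.length = d := hl
  rw [h3] at h1
  have h4 : d + 1 ≤ d := by exact_mod_cast h1
  lia

section Top
variable [IsNoetherianRing R] (I : Ideal R) (d : ℕ) (hd : ringKrullDim R = d)

include hd in
lemma Hsucc_vanish (X : Type u) [AddCommGroup X] [Module R X] :
    Subsingleton ((localCohomology I (d + 1)).obj (ModuleCat.of R X) : ModuleCat.{u} R) := by
  apply vanish I X (d + 1)
  refine lt_of_le_of_lt ((Module.supportDim_le_ringKrullDim R X).trans hd.le) ?_
  exact_mod_cast Nat.lt_succ_self d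

omit [IsNoetherianRing R] in
lemma R1 {N₁ N₂ N₃ : Type u} [AddCommGroup N₁] [Module R N₁] [AddCommGroup N₂] [Module R N₂]
    [AddCommGroup N₃] [Module R N₃] (f : N₁ →ₗ[R] N₂) (g : N₂ →ₗ[R] N₃)
    (hf : Function.Injective f) (hg : Function.Surjective g) (hfg : Function.Exact f g)
    (h1 : Subsingleton ((localCohomology I d).obj (ModuleCat.of R N₁) : ModuleCat.{u} R))
    (h3 : Subsingleton ((localCohomology I d).obj (ModuleCat.of R N₃) : ModuleCat.{u} R)) :
    Subsingleton ((localCohomology I d).obj (ModuleCat.of R N₂) : ModuleCat.{u} R) := by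
  let S : ShortComplex (ModuleCat.{u} R) :=
    ShortComplex.mk (ModuleCat.ofHom f) (ModuleCat.ofHom g) (by
      apply ModuleCat.hom_ext
      apply LinearMap.ext
      intro x
      exact hfg.apply_apply_eq_zero x)
  have hS : S.ShortExact := ModuleCat.shortComplex_shortExact S hfg hf hg
  have hz : ∀ x : ((localCohomology I d).obj (ModuleCat.of R N₂) : ModuleCat.{u} R), x = 0 := by
    intro x
    obtain ⟨x₁, hx₁⟩ := H_exact_mid I d hS x (h3.elim _ _)
    rw [← hx₁, h1.elim x₁ 0, map_zero]
  exact ⟨fun x y => by rw [hz x, hz y]⟩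

include hd in
lemma R2 {N₂ N₃ : Type u} [AddCommGroup N₂] [Module R N₂]
    [AddCommGroup N₃] [Module R N₃] (g : N₂ →ₗ[R] N₃) (hg : Function.Surjective g)
    (h2 : Subsingleton ((localCohomology I d).obj (ModuleCat.of R N₂) : ModuleCat.{u} R)) :
    Subsingleton ((localCohomology I d).obj (ModuleCat.of R N₃) : ModuleCat.{u} R) := by
  let S : ShortComplex (ModuleCat.{u} R) :=
    ShortComplex.mk (ModuleCat.ofHom (LinearMap.ker g).subtype) (ModuleCat.ofHom g) (by
      apply ModuleCat.hom_ext
      apply LinearMap.ext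
      intro x
      exact x.2)
  have hS : S.ShortExact := ModuleCat.shortComplex_shortExact S
    (LinearMap.exact_subtype_ker_map g) (Submodule.injective_subtype _) hg
  have hsurj := H_surjective_of_vanish I d hS (Hsucc_vanish I d hd (LinearMap.ker g))
  refine ⟨fun x y => ?_⟩
  obtain ⟨x', rfl⟩ := hsurj x
  obtain ⟨y', rfl⟩ := hsurj y
  rw [h2.elim x' y']

include hd in
theorem top_vanish (M : Type u) [AddCommGroup M] [Module R M] [Module.Finite R M]
    (hsupp : ∀ p ∈ minimalPrimes R, ringKrullDim (R ⧸ p) = d → ∀ hp : p.IsPrime,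
      (⟨p, hp⟩ : PrimeSpectrum R) ∈ Module.support R M)
    (hvan : Subsingleton ((localCohomology I d).obj (ModuleCat.of R M) : ModuleCat.{u} R)) :
    ∀ (N : Type u) [AddCommGroup N] [Module R N],
      Subsingleton ((localCohomology I d).obj (ModuleCat.of R N) : ModuleCat.{u} R) := by
  have hprime : ∀ q : PrimeSpectrum R,
      Subsingleton ((localCohomology I d).obj (ModuleCat.of R (R ⧸ q.asIdeal)) : ModuleCat.{u} R) := by
    intro q
    by_cases hq : ringKrullDim (R ⧸ q.asIdeal) = d
    · have hqmin := mem_minimalPrimes_of_dim d hd q.asIdeal hq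
      have hqsupp : q ∈ Module.support R M := hsupp q.asIdeal hqmin hq q.2
      have hnot : ¬ Subsingleton (M →ₗ[R] (R ⧸ q.asIdeal)) := by
        intro hsub
        obtain ⟨r, hr, hreg⟩ := IsSMulRegular.subsingleton_linearMap_iff.1 hsub
        have hrp : r ∈ q.asIdeal := Module.annihilator_le_of_mem_support hqsupp hr
        have h1 : r • (1 : R ⧸ q.asIdeal) = r • (0 : R ⧸ q.asIdeal) := by
          rw [smul_zero]
          change Ideal.Quotient.mk q.asIdeal (r * 1) = 0
          rw [mul_one]
          exact Ideal.Quotient.eq_zero_iff_mem.2 hrp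
        have h2 : (1 : R ⧸ q.asIdeal) = 0 := hreg h1
        have h3 : (1 : R) ∈ q.asIdeal := Ideal.Quotient.eq_zero_iff_mem.1 h2
        exact q.2.ne_top ((Ideal.eq_top_iff_one q.asIdeal).2 h3)
      have hnt : Nontrivial (M →ₗ[R] (R ⧸ q.asIdeal)) := not_subsingleton_iff_nontrivial.1 hnot
      obtain ⟨φ, hφ⟩ := exists_ne (0 : M →ₗ[R] (R ⧸ q.asIdeal))
      obtain ⟨x, hx⟩ : ∃ x, φ x ≠ 0 := by
        by_contra hcon
        push Not at hcon
        exact hφ (LinearMap.ext hcon)
      obtain ⟨a, ha⟩ := Ideal.Quotient.mk_surjective (φ x)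
      have hap : a ∉ q.asIdeal :=
        fun hap => hx (by rw [← ha]; exact Ideal.Quotient.eq_zero_iff_mem.2 hap)
      have hN'supp : ∀ q' ∈ Module.support R ((R ⧸ q.asIdeal) ⧸ LinearMap.range φ),
          q.asIdeal < q'.asIdeal := by
        intro q' hq'
        have hann := Module.annihilator_le_of_mem_support hq'
        have hple : q.asIdeal ≤ q'.asIdeal := by
          intro b hb
          apply hann
          rw [Module.mem_annihilator]
          intro y
          obtain ⟨y', rfl⟩ := Submodule.mkQ_surjective _ y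
          obtain ⟨c, rfl⟩ := Ideal.Quotient.mk_surjective y'
          rw [← map_smul]
          have : b • (Ideal.Quotient.mk q.asIdeal c) = 0 := by
            change Ideal.Quotient.mk q.asIdeal (b * c) = 0
            exact Ideal.Quotient.eq_zero_iff_mem.2 (Ideal.mul_mem_right _ _ hb)
          rw [this, map_zero]
        have haq : a ∈ q'.asIdeal := by
          apply hann
          rw [Module.mem_annihilator]
          intro y
          obtain ⟨y', rfl⟩ := Submodule.mkQ_surjective _ y
          obtain ⟨c, rfl⟩ := Ideal.Quotient.mk_surjective y'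
          rw [← map_smul, Submodule.mkQ_apply, Submodule.Quotient.mk_eq_zero]
          refine ⟨c • x, ?_⟩
          rw [map_smul, ← ha]
          change Ideal.Quotient.mk q.asIdeal (c * a) = Ideal.Quotient.mk q.asIdeal (a * c)
          rw [mul_comm]
        exact SetLike.lt_iff_le_and_exists.2 ⟨hple, a, haq, hap⟩
      have hN' : Subsingleton ((localCohomology I d).obj
          (ModuleCat.of R ((R ⧸ q.asIdeal) ⧸ LinearMap.range φ)) : ModuleCat.{u} R) :=
        vanish I _ d (supportDim_lt_of_support_above d q.asIdeal hq _ hN'supp)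
      have hK' : Subsingleton ((localCohomology I d).obj
          (ModuleCat.of R (LinearMap.range φ)) : ModuleCat.{u} R) :=
        R2 I d hd φ.rangeRestrict φ.surjective_rangeRestrict hvan
      exact R1 I d (LinearMap.range φ).subtype (LinearMap.range φ).mkQ
        (Submodule.injective_subtype _) (Submodule.mkQ_surjective _)
        (LinearMap.exact_subtype_mkQ _) hK' hN'
    · apply vanish I _ d
      rw [Module.supportDim_quotient_eq_ringKrullDim]
      exact lt_of_le_of_ne ((ringKrullDim_quotient_le _).trans hd.le) hq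
  have hfg : ∀ (N : Type u) [AddCommGroup N] [Module R N], Module.Finite R N →
      Subsingleton ((localCohomology I d).obj (ModuleCat.of R N) : ModuleCat.{u} R) := by
    intro N _ _ hNfin
    induction hNfin using IsNoetherianRing.induction_on_isQuotientEquivQuotientPrime R with
    | subsingleton N => exact H_subsingleton_of_subsingleton I d N
    | quotient N q e => exact R2 I d hd e.symm.toLinearMap e.symm.surjective (hprime q)
    | exact N₁ N₂ N₃ f g hf hg hfg h₁ h₃ => exact R1 I d f g hf hg hfg h₁ h₃
  intro N _ _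
  have hz : ∀ x : ((localCohomology I d).obj (ModuleCat.of R N) : ModuleCat.{u} R), x = 0 := by
    intro x
    obtain ⟨N', hN', x', rfl⟩ := H_from_fg I N d x
    have hsub := hfg N' (Module.Finite.iff_fg.2 hN')
    rw [hsub.elim x' 0, map_zero]
  exact ⟨fun x y => by rw [hz x, hz y]⟩

end Top

end Aux



/-- Over a Noetherian ring of dimension d, if H^d_I(M) = 0 for one finite module M whose support
contains every minimal prime p with dim R/p = d, then H^i_I vanishes in degrees ≥ d on all modules. -/
theorem result (R : Type u) [CommRing R] [IsNoetherianRing R] (I : Ideal R) (d : ℕ) (hd : ringKrullDim R = d) (M : Type u) [AddCommGroup M] [Module R M] [Module.Finite R M] (hsupp : ∀ p ∈ minimalPrimes R, ringKrullDim (R ⧸ p) = d → ∀ hp : p.IsPrime, (⟨p, hp⟩ : PrimeSpectrum R) ∈ Module.support R M) (hvan : Subsingleton (LocCoh.H I d M)) (N : Type u) [AddCommGroup N] [Module R N] (i : ℕ) (hi : d ≤ i) : Subsingleton (LocCoh.H I i N) := by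
  rcases Nat.eq_or_lt_of_le hi with rfl | hlt
  · exact top_vanish I d hd M hsupp hvan N
  · apply Groth.Agent.Lib.helper19.LCGroth.vanish I N i
    refine lt_of_le_of_lt ((Module.supportDim_le_ringKrullDim R N).trans hd.le) ?_
    exact_mod_cast hlt

end Groth.Agent.S0333
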