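import Groth.Statements.S0326
import Mathlib
import Groth.Agent.Lib.Helper19.LCBridge
import Groth.Agent.Lib.Helper19.LCRes

set_option autoImplicit false
universe u v
open LocCoh

namespace Groth.Agent.S0326

-- MARK
section Aux
open CategoryTheory Groth.Agent.Lib.helper19.LCBridge Groth.Agent.Lib.helper19.LCRes

variable {R : Type u} [CommRing R]

theorem H_bot_vanish (M : Type u) [AddCommGroup M] [Module R M] (i : ℕ) (hi : 0 < i) :
    Subsingleton ((localCohomology (⊥ : Ideal R) i).obj (ModuleCat.of R M) : ModuleCat.{u} R) := by
  obtain ⟨q, rfl⟩ : ∃ q, i = q + 1 := ⟨i - 1, by lia⟩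
  apply subsingleton_of_stages
  intro n
  cases n with
  | zero =>
    have hsub : Subsingleton (R ⧸ (⊥ : Ideal R) ^ 0) := by
      rw [pow_zero, Ideal.one_eq_top]
      exact Submodule.Quotient.subsingleton_iff.2 rfl
    have h0 : 𝟙 (ModuleCat.of R (R ⧸ (⊥ : Ideal R) ^ 0)) = 0 := by
      apply ModuleCat.hom_ext
      apply LinearMap.ext
      intro x
      exact Subsingleton.elim _ _
    refine ⟨fun x y => ?_⟩
    rw [← Abelian.Ext.mk₀_id_comp x, ← Abelian.Ext.mk₀_id_comp y, h0, Abelian.Ext.mk₀_zero,
      Abelian.Ext.zero_comp, Abelian.Ext.zero_comp]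
  | succ n =>
    have hproj : Module.Projective R (R ⧸ (⊥ : Ideal R) ^ (n + 1)) := by
      have hb : (⊥ : Ideal R) ^ (n + 1) = ⊥ := by
        rw [pow_succ, Ideal.mul_bot]
      exact Module.Projective.of_equiv (Submodule.quotEquivOfEqBot _ hb).symm
    have : Projective (ModuleCat.of R (R ⧸ (⊥ : Ideal R) ^ (n + 1))) :=
      (IsProjective.iff_projective _).1 hproj
    exact ⟨fun x y => by
      rw [Abelian.Ext.eq_zero_of_projective x, Abelian.Ext.eq_zero_of_projective y]⟩

end Aux



/-- For a Noetherian ring R and an ideal of R generated by a finite set of r elements, local cohomology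
with support in that ideal vanishes in all degrees above r, for every R-module. This is the
Noetherian case of the published statement. -/
theorem result (R : Type u) [CommRing R] [IsNoetherianRing R] (s : Finset R) : LocCoh.CdLE R (Ideal.span (s : Set R)) s.card := by
  classical
  induction s using Finset.induction_on with
  | empty =>
    intro M _ _ i hi
    have h0 : Ideal.span ((∅ : Finset R) : Set R) = ⊥ := by
      rw [Finset.coe_empty, Ideal.span_empty]
    rw [h0]
    exact H_bot_vanish M i (by simpa using hi)
  | insert b s hb ih =>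
    intro M _ _ i hi
    have h0 : Ideal.span ((insert b s : Finset R) : Set R) =
        Ideal.span (s : Set R) ⊔ Ideal.span {b} := by
      rw [Finset.coe_insert, Ideal.span_insert, sup_comm]
    rw [h0]
    rw [Finset.card_insert_of_notMem hb] at hi
    exact Groth.Agent.Lib.helper19.LCRes.vanish_sup_span (Ideal.span (s : Set R)) b s.card
      (fun X _ _ q hq => ih X q hq) M i hi

end Groth.Agent.S0326
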