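import Groth.Statements.S18637
import Mathlib
import Groth.Agent.Lib.Helper19.GrMod
import Groth.Agent.Lib.Helper17.ExtPrime
import Groth.Agent.S13216
import Groth.Agent.S13211
import Groth.Agent.S13220

set_option autoImplicit false
universe u
open GrLC

namespace Groth.Agent.S18637

-- MARK
section Aux
open CategoryTheory Abelian

variable {R : Type u} [CommRing R]

/-- if `Ext^1(R/b, N) = 0` then every linear map `b → N` extends to `R` -/
theorem exists_extension_of_ext_one (N : Type u) [AddCommGroup N] [Module R N] (I : Ideal R)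
    (h : Subsingleton (Ext.{u} (ModuleCat.of R (R ⧸ I)) (ModuleCat.of R N) 1)) (g : I →ₗ[R] N) :
    ∃ g' : R →ₗ[R] N, ∀ (x : R) (mem : x ∈ I), g' x = g ⟨x, mem⟩ := by
  have hex : Function.Exact (Submodule.subtype I) (Submodule.mkQ I) := by
    intro x
    simp [Ideal.Quotient.eq_zero_iff_mem]
  let S : ShortComplex (ModuleCat.{u} R) :=
    ModuleCat.shortComplexOfCompEqZero (Submodule.subtype I) (Submodule.mkQ I)
      hex.linearMap_comp_eq_zero
  have hS : S.ShortExact := ModuleCat.shortComplex_shortExact S hex I.injective_subtype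
    (Submodule.mkQ_surjective I)
  obtain ⟨φ, hφ⟩ := Ext.contravariant_sequence_exact₁ hS (ModuleCat.of R N) (Ext.mk₀ (ModuleCat.ofHom g))
    (zero_add 1) (Subsingleton.elim _ _)
  obtain ⟨φ, rfl⟩ := Ext.homEquiv₀.symm.surjective φ
  have key : S.f ≫ φ = ModuleCat.ofHom g := Ext.homEquiv₀.symm.injective (by simpa using hφ)
  refine ⟨φ.hom, fun x hx => ?_⟩
  have := congrArg (fun t => t.hom ⟨x, hx⟩) key
  exact this

/-- Baer-type criterion: a module all of whose elements are killed by powers of a maximal ideal `m`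
and with `Ext^1(R/m, E) = 0` is injective (Noetherian ring). -/
theorem injective_of_torsion_of_ext_one [IsNoetherianRing R] (m : Ideal R) [hm : m.IsMaximal]
    (E : Type u) [AddCommGroup E] [Module R E]
    (htors : ∀ x : E, ∃ n : ℕ, ∀ r ∈ m ^ n, r • x = 0)
    (hext : Subsingleton (Ext.{u} (ModuleCat.of R (R ⧸ m)) (ModuleCat.of R E) 1)) :
    Module.Injective R E := by
  classical
  apply Module.Baer.injective
  intro a f
  -- a uniform power of `m` killing the image of `f`
  have hfg : (a : Submodule R R).FG := IsNoetherian.noetherian a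
  obtain ⟨s, hs⟩ := hfg
  have hn : ∃ n : ℕ, ∀ y ∈ s, ∀ (hy : y ∈ a), ∀ r ∈ m ^ n, r • f ⟨y, hy⟩ = 0 := by
    clear hs
    induction s using Finset.induction_on with
    | empty => exact ⟨0, fun y hy => absurd hy (Finset.notMem_empty y)⟩
    | insert z s _ ih =>
      obtain ⟨n, hn⟩ := ih
      by_cases hz : z ∈ a
      · obtain ⟨n', hn'⟩ := htors (f ⟨z, hz⟩)
        refine ⟨n + n', ?_⟩
        intro y hy hya r hr
        rcases Finset.mem_insert.1 hy with rfl | hy
        · exact hn' r (Ideal.pow_le_pow_right (Nat.le_add_left n' n) hr)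
        · exact hn y hy hya r (Ideal.pow_le_pow_right (Nat.le_add_right n n') hr)
      · refine ⟨n, ?_⟩
        intro y hy hya r hr
        rcases Finset.mem_insert.1 hy with rfl | hy
        · exact absurd hya hz
        · exact hn y hy hya r hr
  obtain ⟨n, hn⟩ := hn
  -- `f` kills `m^n • a`
  have hA : ∀ (y : R) (hy : y ∈ a), ∀ r ∈ m ^ n, r • f ⟨y, hy⟩ = 0 := by
    intro y hy
    have hs' : Submodule.span R (s : Set R) = a := hs
    have hy' : y ∈ Submodule.span R (s : Set R) := by rw [hs']; exact hy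
    have hgen : ∀ (z : R) (hz : z ∈ Submodule.span R (s : Set R)),
        ∀ hza : z ∈ a, ∀ r ∈ m ^ n, r • f ⟨z, hza⟩ = 0 := by
      intro z hz
      induction hz using Submodule.span_induction with
      | mem z hz => exact fun hza r hr => hn z hz hza r hr
      | zero =>
        intro hza r _
        have : (⟨0, hza⟩ : a) = 0 := rfl
        rw [this, map_zero, smul_zero]
      | add z w hz hw ihz ihw =>
        intro hza r hr
        have hz' : z ∈ a := by rw [← hs']; exact hz
        have hw' : w ∈ a := by rw [← hs']; exact hw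
        have : (⟨z + w, hza⟩ : a) = ⟨z, hz'⟩ + ⟨w, hw'⟩ := rfl
        rw [this, map_add, smul_add, ihz hz' r hr, ihw hw' r hr, add_zero]
      | smul c z hz ihz =>
        intro hza r hr
        have hz' : z ∈ a := by rw [← hs']; exact hz
        have : (⟨c • z, hza⟩ : a) = c • ⟨z, hz'⟩ := rfl
        rw [this, map_smul, smul_comm, ihz hz' r hr, smul_zero]
    exact hgen y hy' hy
  have hkill : ∀ (y : R) (hy : y ∈ a), y ∈ m ^ n • (a : Submodule R R) → f ⟨y, hy⟩ = 0 := by
    intro y hy hmem
    revert hy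
    induction hmem using Submodule.smul_induction_on' with
    | smul r hr z hz =>
      intro hy
      have : (⟨r • z, hy⟩ : a) = r • ⟨z, hz⟩ := rfl
      rw [this, map_smul]
      exact hA z hz r hr
    | add x hx y hy ihx ihy =>
      intro hxy
      have hx' : x ∈ a := Submodule.smul_le_right hx
      have hy' : y ∈ a := Submodule.smul_le_right hy
      have : (⟨x + y, hxy⟩ : a) = ⟨x, hx'⟩ + ⟨y, hy'⟩ := rfl
      rw [this, map_add, ihx hx', ihy hy', add_zero]
  -- Artin-Rees
  obtain ⟨k, hk⟩ := Ideal.exists_pow_inf_eq_pow_smul m (a : Submodule R R)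
  have hAR : ∀ y : R, y ∈ m ^ (n + k + 1) → y ∈ a → y ∈ m ^ n • (a : Submodule R R) := by
    intro y hym hya
    have h1 : y ∈ m ^ (n + k) • (⊤ : Submodule R R) ⊓ (a : Submodule R R) := by
      refine ⟨?_, hya⟩
      rw [smul_eq_mul, Ideal.mul_top]
      exact Ideal.pow_le_pow_right (Nat.le_succ _) hym
    rw [hk (n + k) (Nat.le_add_left k n), Nat.add_sub_cancel] at h1
    exact Submodule.smul_mono le_rfl inf_le_right h1
  have hwd : ∀ (y : R) (hy : y ∈ a) (y' : R) (hy' : y' ∈ a), y - y' ∈ m ^ (n + k + 1) →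
      f ⟨y, hy⟩ = f ⟨y', hy'⟩ := by
    intro y hy y' hy' hd
    rw [← sub_eq_zero, ← map_sub]
    exact hkill (y - y') (a.sub_mem hy hy') (hAR _ hd (a.sub_mem hy hy'))
  -- the extension of `f` by zero on `m ^ (n+k+1)`
  let b : Ideal R := a ⊔ m ^ (n + k + 1)
  have hdec : ∀ x : b, ∃ y : R, ∃ _ : y ∈ a, (x : R) - y ∈ m ^ (n + k + 1) := by
    intro x
    obtain ⟨y, hy, z, hz, hyz⟩ := Submodule.mem_sup.1 x.2
    refine ⟨y, hy, ?_⟩
    rw [← hyz, add_sub_cancel_left]
    exact hz
  choose y0 hy0 hy0' using hdec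
  let f' : b →ₗ[R] E :=
    { toFun := fun x => f ⟨y0 x, hy0 x⟩
      map_add' := by
        intro x x'
        rw [← map_add]
        apply hwd
        have h1 := hy0' x
        have h2 := hy0' x'
        have h3 := hy0' (x + x')
        have : y0 (x + x') - (y0 x + y0 x') =
            ((x : R) - y0 x) + ((x' : R) - y0 x') - (((x + x' : b) : R) - y0 (x + x')) := by
          rw [Submodule.coe_add]; ring
        rw [this]
        exact sub_mem (add_mem h1 h2) h3
      map_smul' := by
        intro c x
        rw [RingHom.id_apply, ← map_smul]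
        apply hwd
        have h1 := hy0' x
        have h3 := hy0' (c • x)
        have : y0 (c • x) - c • y0 x = c • ((x : R) - y0 x) - (((c • x : b) : R) - y0 (c • x)) := by
          rw [Submodule.coe_smul]; simp only [smul_eq_mul]; ring
        rw [this]
        exact sub_mem (Ideal.mul_mem_left _ c h1) h3 }
  have hb : Subsingleton (Ext.{u} (ModuleCat.of R (R ⧸ b)) (ModuleCat.of R E) 1) := by
    apply Groth.Agent.Lib.helper17.ExtPrime.subsingleton_ext_of_primes (ModuleCat.of R E) 1 b
    · intro q hq hbq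
      have h1 : m ^ (n + k + 1) ≤ q := le_trans le_sup_right hbq
      have h2 : m ≤ q := Ideal.IsPrime.le_of_pow_le h1
      have h3 : m = q := hm.eq_of_le hq.ne_top h2
      rw [← h3]
      exact hext
    · intro r hr
      rw [Module.mem_annihilator]
      intro x
      obtain ⟨y, rfl⟩ := Ideal.Quotient.mk_surjective x
      show Ideal.Quotient.mk b (r * y) = 0
      exact Ideal.Quotient.eq_zero_iff_mem.2 (Ideal.mul_mem_right y b hr)
  obtain ⟨g', hg'⟩ := exists_extension_of_ext_one E b hb f'
  refine ⟨g', fun x hx => ?_⟩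
  rw [hg' x (le_sup_left (a := a) hx)]
  show f ⟨y0 ⟨x, _⟩, _⟩ = f ⟨x, hx⟩
  apply hwd
  have h1 := hy0' ⟨x, le_sup_left (a := a) hx⟩
  have : y0 ⟨x, le_sup_left (a := a) hx⟩ - x = -(x - y0 ⟨x, le_sup_left (a := a) hx⟩) := by ring
  rw [this]
  exact neg_mem h1

end Aux



/-- Let R be a commutative Noetherian ℤ-graded ring and m a maximal ideal of R which is graded. If e :
R/m → E is a *injective envelope of R/m in the category of graded R-modules (E graded and
*injective, e degree-preserving and injective, every nonzero graded submodule of E meeting the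
image), then e is an injective hull of R/m as an ordinary R-module: E is an injective R-module and e
is an essential injection. -/
theorem result (R : Type u) [CommRing R] [IsNoetherianRing R] (𝒜 : ℤ → AddSubgroup R) [GradedRing 𝒜] (m : HomogeneousIdeal 𝒜) [m.toIdeal.IsMaximal] (E' : Type u) [AddCommGroup E'] [Module R E'] (𝓔 : ℤ → AddSubgroup E') [DirectSum.Decomposition 𝓔] [SetLike.GradedSMul 𝒜 𝓔] (e : (R ⧸ m.toIdeal) →ₗ[R] E') (he : GrLC.IsStarInjHull 𝒜 (GrLC.quotGr 𝒜 m) 𝓔 e) : InjHull.IsInjectiveHull e := by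
  classical
  let _ : DirectSum.Decomposition (GrLC.quotGr 𝒜 m) :=
    Groth.Agent.Lib.helper19.GrMod.quotDecomposition 𝒜 m.toIdeal m.isHomogeneous
  have : SetLike.GradedSMul 𝒜 (GrLC.quotGr 𝒜 m) :=
    Groth.Agent.Lib.helper19.GrMod.quot_gradedSMul 𝒜 𝒜 m.toIdeal
  have hess : InjHull.IsEssentialInj e :=
    Groth.Agent.S13211.result R 𝒜 (R ⧸ m.toIdeal) (GrLC.quotGr 𝒜 m) E' 𝓔 e he.toIsStarEss
  have hprime : m.toIdeal.IsPrime := Ideal.IsMaximal.isPrime inferInstance
  have htop := Groth.Agent.S13220.result R 𝒜 m E' 𝓔 e he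
  have htors : ∀ x : E', ∃ n : ℕ, ∀ r ∈ m.toIdeal ^ n, r • x = 0 := by
    intro x
    have hx : x ∈ GrLC.gam m.toIdeal E' := by rw [htop]; exact Submodule.mem_top
    exact hx
  have hext : Subsingleton (CategoryTheory.Abelian.Ext.{u} (ModuleCat.of R (R ⧸ m.toIdeal)) (ModuleCat.of R E') 1) :=
    Groth.Agent.S13216.result R 𝒜 (R ⧸ m.toIdeal) (GrLC.quotGr 𝒜 m) E' 𝓔 he.starInj 1 le_rfl
  have hinj : Module.Injective R E' := injective_of_torsion_of_ext_one m.toIdeal E' htors hext
  exact { injective := hess.injective, essential := hess.essential, isInjective := hinj }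

end Groth.Agent.S18637
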