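import Groth.Statements.S0379
import Mathlib
import Groth.Agent.S11614
import Groth.Agent.S11617

set_option autoImplicit false
universe u v
open LocCoh

namespace Groth.Agent.S0379

-- MARK
section Aux
open CategoryTheory
open scoped TensorProduct

variable {A : Type u} [CommRing A] [IsNoetherianRing A] {B : Type u} [CommRing B]
  [IsNoetherianRing B] [Algebra A B] (I : Ideal A)

/-- vanishing of `H^i_I` on all `A`-modules passes to `H^i_{IB}` on all `B`-modules -/
theorem vanish_map (i : ℕ)
    (h : ∀ (M : Type u) [AddCommGroup M] [Module A M],
      Subsingleton ((localCohomology I i).obj (ModuleCat.of A M) : ModuleCat.{u} A))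
    (N : Type u) [AddCommGroup N] [Module B N] :
    Subsingleton ((localCohomology (I.map (algebraMap A B)) i).obj (ModuleCat.of B N) :
      ModuleCat.{u} B) := by
  let _ : Module A N := Module.compHom N (algebraMap A B)
  have : IsScalarTower A B N := IsScalarTower.of_algebraMap_smul (fun _ _ => rfl)
  obtain ⟨φ, -⟩ := Groth.Agent.S11614.main (R := A) (R' := B) N I i
  have := h N
  exact φ.toEquiv.subsingleton

/-- the converse for faithfully flat extensions -/
theorem vanish_of_map [Module.FaithfullyFlat A B] (i : ℕ)
    (h : ∀ (N : Type u) [AddCommGroup N] [Module B N],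
      Subsingleton ((localCohomology (I.map (algebraMap A B)) i).obj (ModuleCat.of B N) :
        ModuleCat.{u} B))
    (M : Type u) [AddCommGroup M] [Module A M] :
    Subsingleton ((localCohomology I i).obj (ModuleCat.of A M) : ModuleCat.{u} A) := by
  obtain ⟨e⟩ := Groth.Agent.S11617.main B I M i
  have := h (B ⊗[A] M)
  have hsub : Subsingleton (B ⊗[A] ((localCohomology I i).obj (ModuleCat.of A M) :
      ModuleCat.{u} A)) := e.toEquiv.subsingleton
  exact Module.FaithfullyFlat.lTensor_reflects_triviality A B _

end Aux



/-- For a homomorphism of Noetherian rings A → B, if local cohomology with support in I vanishes above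
degree d on all A-modules then local cohomology with support in IB vanishes above degree d on all
B-modules; if B is faithfully flat over A the converse holds too. -/
theorem result (A : Type u) [CommRing A] [IsNoetherianRing A] (B : Type u) [CommRing B] [IsNoetherianRing B] [Algebra A B] (I : Ideal A) (d : ℕ) : (LocCoh.CdLE A I d → LocCoh.CdLE B (I.map (algebraMap A B)) d) ∧ (Module.FaithfullyFlat A B → LocCoh.CdLE B (I.map (algebraMap A B)) d → LocCoh.CdLE A I d) := by
  constructor
  · intro h N _ _ i hi
    exact vanish_map I i (fun M _ _ => h M i hi) N
  · intro hff h M _ _ i hi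
    exact vanish_of_map I i (fun N _ _ => h N i hi) M

end Groth.Agent.S0379
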