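import Groth.Statements.S5763
import Mathlib.RingTheory.Ideal.HasGoingUp
import Mathlib.RingTheory.KrullDimension.Basic

set_option autoImplicit false
universe u
open EGA41

namespace Groth.Agent.S5763

/-- Let ρ : A → B be a ring homomorphism making B an integral A-algebra. Then dim(B) ≤ dim(A), and if ρ
is injective then dim(B) = dim(A) (Krull dimensions). -/
theorem result (A B : Type u) [CommRing A] [CommRing B] [Algebra A B]
    [Algebra.IsIntegral A B] :
    ringKrullDim B ≤ ringKrullDim A ∧
      (Function.Injective (algebraMap A B) → ringKrullDim B = ringKrullDim A) := by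
  have hmono : StrictMono (PrimeSpectrum.comap (algebraMap A B)) := by
    intro P Q hPQ
    have : P.asIdeal < Q.asIdeal := hPQ
    exact Ideal.IsIntegral.comap_lt_comap (R := A) this
  refine ⟨Order.krullDim_le_of_strictMono _ hmono, fun hinj => le_antisymm
    (Order.krullDim_le_of_strictMono _ hmono) ?_⟩
  unfold ringKrullDim
  rw [Order.krullDim]
  refine iSup_le fun l => ?_
  have hker : (⊥ : Ideal B).comap (algebraMap A B) ≤ (RelSeries.head l).asIdeal := by
    rw [← RingHom.ker_eq_comap_bot, (RingHom.injective_iff_ker_eq_bot _).1 hinj]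
    exact bot_le
  obtain ⟨P, -, hP, hPover⟩ :=
    Ideal.exists_ideal_over_prime_of_isIntegral (RelSeries.head l).asIdeal (⊥ : Ideal B) hker
  have : P.IsPrime := hP
  have : P.LiesOver (RelSeries.head l).asIdeal := ⟨hPover.symm⟩
  obtain ⟨L, hlen, -, -⟩ := Ideal.exists_ltSeries_of_hasGoingUp l P
  rw [← hlen]
  exact Order.LTSeries.length_le_krullDim L

end Groth.Agent.S5763
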