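import Groth.Agent.LibDT29b

/-! helper29's library, part c: properties of `η_M = toDT I M`. -/

universe u
open CategoryTheory CategoryTheory.Limits Opposite
namespace Groth.Agent.LibDT29
variable {R : Type u} [CommRing R] (I : Ideal R)

section Eta
variable (M : Type u) [AddCommGroup M] [Module R M]

/-- the map `r ↦ r • m` on `I^n` -/
def smulMap (n : ℕ) (m : M) : ↥(I ^ n) →ₗ[R] M :=
  (LinearMap.lsmul R M).flip m ∘ₗ (Submodule.subtype (I ^ n))

theorem toDT_eq_rep' (n : ℕ) (m : M) :
    LocCoh.toDT I M m = rep I (ModuleCat.of R M) n (smulMap I M n m) := by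
  rw [toDT_eq_rep, rep_restrict I (ModuleCat.of R M) (Nat.zero_le n)]
  rfl

theorem smul_rep (n : ℕ) (f : ↥(I ^ n) →ₗ[R] M) (a : R) (ha : a ∈ I ^ n) :
    a • rep I (ModuleCat.of R M) n f = LocCoh.toDT I M (f ⟨a, ha⟩) := by
  rw [toDT_eq_rep' I M n, ← rep_smul]
  congr 1
  ext y
  simp only [LinearMap.smul_apply, smulMap, LinearMap.comp_apply, Submodule.subtype_apply,
    LinearMap.flip_apply, LinearMap.lsmul_apply]
  rw [← map_smul, ← map_smul]
  congr 1
  apply Subtype.ext
  simp [mul_comm]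

theorem toDT_coker_torsion :
    LocCoh.IsPowerTorsion I (LocCoh.DT I M ⧸ LinearMap.range (LocCoh.toDT I M)) := by
  intro x
  obtain ⟨y, rfl⟩ := Submodule.Quotient.mk_surjective _ x
  obtain ⟨n, f, rfl⟩ := rep_surj I (ModuleCat.of R M) y
  refine ⟨n, fun a ha => ?_⟩
  rw [← Submodule.Quotient.mk_smul, Submodule.Quotient.mk_eq_zero, smul_rep I M n f a ha]
  exact LinearMap.mem_range_self _ _

theorem ker_toDT : LinearMap.ker (LocCoh.toDT I M) = DRing.torsionSub I M := by
  ext m
  rw [LinearMap.mem_ker, toDT_eq_rep, rep_eq_zero_iff]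
  constructor
  · rintro ⟨k, hk, h⟩
    refine ⟨k, fun a ha => ?_⟩
    have := LinearMap.congr_fun h ⟨a, ha⟩
    simpa using this
  · rintro ⟨k, hk⟩
    refine ⟨k, Nat.zero_le k, ?_⟩
    ext ⟨a, ha⟩
    simpa using hk a ha

theorem toDT_natural {M' : Type u} [AddCommGroup M'] [Module R M'] (φ : M →ₗ[R] M') (m : M) :
    ((LocCoh.idealTransform I).map (ModuleCat.ofHom φ)).hom (LocCoh.toDT I M m) =
      LocCoh.toDT I M' (φ m) := by
  rw [toDT_eq_rep, toDT_eq_rep, map_rep]
  congr 1
  ext y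
  simp

theorem torsionSub_DT_eq_bot [IsNoetherianRing R] : DRing.torsionSub I (LocCoh.DT I M) = ⊥ := by
  rw [eq_bot_iff]
  rintro x ⟨t, ht⟩
  obtain ⟨n, f, rfl⟩ := rep_surj I (ModuleCat.of R M) x
  rw [Submodule.mem_bot, rep_eq_zero_iff]
  -- for each a ∈ I^t, a • f vanishes on some I^k
  have h1 : ∀ a : ↥(I ^ t), ∃ k, ∃ (hk : n ≤ k),
      ((a : R) • f) ∘ₗ Submodule.inclusion (Ideal.pow_le_pow_right hk) = 0 := by
    intro a
    have := ht a a.2
    rw [← rep_smul, rep_eq_zero_iff] at this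
    exact this
  -- uniform k over generators of I^t
  obtain ⟨S, hS⟩ := (Module.Finite.fg_top : (⊤ : Submodule R ↥(I ^ t)).FG)
  choose κ hκ hκ' using h1
  let k := n + S.sup κ
  have hnk : n ≤ k := Nat.le_add_right _ _
  have h2 : ∀ a : ↥(I ^ t), ((a : R) • f) ∘ₗ Submodule.inclusion (Ideal.pow_le_pow_right hnk) = 0 := by
    intro a
    have ha : a ∈ Submodule.span R (S : Set ↥(I ^ t)) := by rw [hS]; trivial
    induction ha using Submodule.span_induction with
    | mem x hx =>
      have hle : κ x ≤ k := le_trans (Finset.le_sup hx) (Nat.le_add_left _ _)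
      ext z
      have := LinearMap.congr_fun (hκ' x) (Submodule.inclusion (Ideal.pow_le_pow_right hle) z)
      exact this
    | zero => ext z; simp
    | add x y _ _ ihx ihy =>
      ext z
      have hx := LinearMap.congr_fun ihx z
      have hy := LinearMap.congr_fun ihy z
      simp only [LinearMap.comp_apply, LinearMap.smul_apply, LinearMap.zero_apply] at hx hy ⊢
      rw [Submodule.coe_add, add_smul, hx, hy, add_zero]
    | smul r x _ ihx =>
      ext z
      have hx := LinearMap.congr_fun ihx z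
      simp only [LinearMap.comp_apply, LinearMap.smul_apply, LinearMap.zero_apply] at hx ⊢
      rw [Submodule.coe_smul, smul_eq_mul, mul_smul, hx, smul_zero]
  -- now f kills I^t * I^k
  let f' : ↥(I ^ k) →ₗ[R] M := f ∘ₗ Submodule.inclusion (Ideal.pow_le_pow_right hnk)
  have h3 : ∀ a ∈ I ^ t, ∀ y : ↥(I ^ k), a • f' y = 0 := by
    intro a ha y
    have := LinearMap.congr_fun (h2 ⟨a, ha⟩) y
    exact this
  have h4 := kill I k t f' h3
  refine ⟨t + k, le_trans hnk (Nat.le_add_left k t), ?_⟩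
  ext z
  exact LinearMap.congr_fun h4 z

end Eta

end Groth.Agent.LibDT29
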