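import Groth.Statements.S0329
import Mathlib
import Groth.Agent.Lib.Helper19.LCBridge
import Groth.Agent.Lib.Helper19.LCLes
import Groth.Agent.Lib.Helper19.LCLes2
import Groth.Agent.Lib.Helper19.LCZero
import Groth.Agent.Lib.Helper19.LCFactor
import Groth.Agent.Lib.Helper19.LCGroth
import Groth.Agent.S11589

set_option autoImplicit false
universe u v
open LocCoh

namespace Groth.Agent.S0329

-- MARK
section Aux
open CategoryTheory Groth.Agent.Lib.helper19.LCBridge Groth.Agent.Lib.helper19.LCLes
  Groth.Agent.Lib.helper19.LCLes2 Groth.Agent.Lib.helper19.LCZero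
  Groth.Agent.Lib.helper19.LCFactor Groth.Agent.Lib.helper19.LCGroth
open Pointwise

variable {R : Type u} [CommRing R] [IsNoetherianRing R] (I : Ideal R)

/-- `H^0_I` of a finite module is finite -/
lemma finite_H_zero (M : Type u) [AddCommGroup M] [Module R M] [Module.Finite R M] :
    Module.Finite R ((localCohomology I 0).obj (ModuleCat.of R M) : ModuleCat.{u} R) := by
  have : IsNoetherian R M := isNoetherian_of_isNoetherianRing_of_finite R M
  have : Module.Finite R (DRing.torsionSub I M) := inferInstance
  exact Module.Finite.equiv (LinearEquiv.ofBijective (gammaToH I (ModuleCat.of R M))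
    (gammaToH_bijective I (ModuleCat.of R M)))

omit [IsNoetherianRing R] in
lemma smul_exact (N : Type u) [AddCommGroup N] [Module R N] (r : R) :
    Function.Exact (LinearMap.lsmul R N r) (Submodule.mkQ (r • (⊤ : Submodule R N))) := by
  intro y
  rw [Submodule.mkQ_apply, Submodule.Quotient.mk_eq_zero,
    Submodule.mem_smul_pointwise_iff_exists]
  constructor
  · rintro ⟨x, _, hx⟩
    exact ⟨x, hx⟩
  · rintro ⟨x, hx⟩
    exact ⟨x, trivial, hx⟩

/-- the short complex `N --r--> N --> N/rN` -/
noncomputable def smulS (N : Type u) [AddCommGroup N] [Module R N] (r : R) :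
    ShortComplex (ModuleCat.{u} R) :=
  ShortComplex.mk (ModuleCat.ofHom (LinearMap.lsmul R N r))
    (ModuleCat.ofHom (Submodule.mkQ (r • (⊤ : Submodule R N)))) (by
      apply ModuleCat.hom_ext
      apply LinearMap.ext
      intro x
      exact (smul_exact N r).apply_apply_eq_zero x)

omit [IsNoetherianRing R] in
lemma smulS_shortExact (N : Type u) [AddCommGroup N] [Module R N] (r : R)
    (hreg : IsSMulRegular N r) : (smulS N r).ShortExact :=
  ModuleCat.shortComplex_shortExact (smulS N r) (smul_exact N r) hreg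
    (Submodule.mkQ_surjective _)

omit [IsNoetherianRing R] in
lemma smulS_map (N : Type u) [AddCommGroup N] [Module R N] (r : R) (i : ℕ)
    (x : ((localCohomology I i).obj (ModuleCat.of R N) : ModuleCat.{u} R)) :
    ((localCohomology I i).map (smulS N r).f).hom x = r • x := by
  have hf : (smulS N r).f = r • 𝟙 (ModuleCat.of R N) := by
    apply ModuleCat.hom_ext
    apply LinearMap.ext
    intro y
    rfl
  rw [hf]
  exact H_map_smul_id I i (ModuleCat.of R N) r x

omit [IsNoetherianRing R] in
/-- one step: if a regular `r` kills `H^{i+1}(N)` and `H^i(N/rN)` is finite, so is `H^{i+1}(N)` -/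
lemma finite_H_succ_of_regular (i : ℕ) (N : Type u) [AddCommGroup N] [Module R N]
    (r : R) (hreg : IsSMulRegular N r)
    (hkill : ∀ x : ((localCohomology I (i + 1)).obj (ModuleCat.of R N) : ModuleCat.{u} R),
      r • x = 0)
    (hQ : Module.Finite R ((localCohomology I i).obj (ModuleCat.of R (QuotSMulTop r N)) :
      ModuleCat.{u} R)) :
    Module.Finite R ((localCohomology I (i + 1)).obj (ModuleCat.of R N) : ModuleCat.{u} R) := by
  have hS := smulS_shortExact N r hreg
  have hQ' : Module.Finite R ((localCohomology I i).obj (smulS N r).X₃ : ModuleCat.{u} R) := hQ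
  have hsurj : Function.Surjective (δH I i hS) := by
    intro x
    exact exact_at_X₁ I i hS x ((smulS_map I N r (i + 1) x).trans (hkill x))
  exact Module.Finite.of_surjective (δH I i hS) hsurj

omit [IsNoetherianRing R] in
/-- killing passes to the quotient by a regular element, doubling the exponent -/
lemma kill_quot (j : ℕ) (N : Type u) [AddCommGroup N] [Module R N]
    (r : R) (hreg : IsSMulRegular N r) (k : ℕ)
    (h1 : ∀ c ∈ I ^ k, ∀ x : ((localCohomology I j).obj (ModuleCat.of R N) : ModuleCat.{u} R),
      c • x = 0)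
    (h2 : ∀ c ∈ I ^ k,
      ∀ x : ((localCohomology I (j + 1)).obj (ModuleCat.of R N) : ModuleCat.{u} R), c • x = 0) :
    ∀ c ∈ I ^ (k + k),
      ∀ y : ((localCohomology I j).obj (ModuleCat.of R (QuotSMulTop r N)) : ModuleCat.{u} R),
      c • y = 0 := by
  have hS := smulS_shortExact N r hreg
  have key : ∀ y : ((localCohomology I j).obj (smulS N r).X₃ : ModuleCat.{u} R),
      ∀ c ∈ I ^ k * I ^ k, c • y = 0 := by
    intro y c hc
    refine Submodule.mul_induction_on hc ?_ ?_
    · intro a ha b hb
      have hδ : δH I j hS (b • y) = 0 := by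
        rw [map_smul]
        exact h2 b hb _
      obtain ⟨z, hz⟩ := exact_at_X₃ I j hS (b • y) hδ
      rw [mul_smul]
      have hz' : b • y = ((localCohomology I j).map (smulS N r).g).hom z := hz.symm
      rw [hz', ← map_smul]
      have h0 : a • z = 0 := h1 a ha z
      rw [h0, map_zero]
    · intro a b ha hb
      rw [add_smul, ha, hb, add_zero]
  intro c hc y
  rw [pow_add] at hc
  exact key y c hc

/-- Faltings: if powers of `I` kill `H^i_I(M)` for `1 ≤ i ≤ n` then these are finite -/
theorem main (n : ℕ) : ∀ (M : Type u) [AddCommGroup M] [Module R M] [Module.Finite R M] (k : ℕ),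
    (∀ i : ℕ, 1 ≤ i → i ≤ n → ∀ c ∈ I ^ k,
      ∀ x : ((localCohomology I i).obj (ModuleCat.of R M) : ModuleCat.{u} R), c • x = 0) →
    ∀ i : ℕ, i ≤ n →
      Module.Finite R ((localCohomology I i).obj (ModuleCat.of R M) : ModuleCat.{u} R) := by
  induction n with
  | zero =>
    intro M _ _ _ k _ i hi
    obtain rfl : i = 0 := by lia
    exact finite_H_zero I M
  | succ n ih =>
    intro M _ _ _ k hk i hi
    rcases Nat.lt_or_ge i (n + 1) with hlt | hge
    · exact ih M k (fun j hj1 hjn => hk j hj1 (by lia)) i (by lia)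
    obtain rfl : i = n + 1 := by lia
    have hbij := fun j (hj : 0 < j) => Groth.Agent.S11589.result R I M j hj
    have hkN : ∀ j : ℕ, 1 ≤ j → j ≤ n + 1 → ∀ c ∈ I ^ k,
        ∀ y : ((localCohomology I j).obj (ModuleCat.of R (M ⧸ DRing.torsionSub I M)) :
          ModuleCat.{u} R), c • y = 0 := by
      intro j hj1 hjn c hc y
      obtain ⟨x, rfl⟩ := (hbij j (by lia)).2 y
      rw [← map_smul, hk j hj1 hjn c hc x, map_zero]
    obtain ⟨r, hr, hreg⟩ := exists_regular I (M ⧸ DRing.torsionSub I M)
      (torsionSub_quotient_eq_bot I M)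
    have hx : r ^ k ∈ I ^ k := Ideal.pow_mem_pow hr k
    have hxreg : IsSMulRegular (M ⧸ DRing.torsionSub I M) (r ^ k) := hreg.pow k
    have hkQ : ∀ j : ℕ, 1 ≤ j → j ≤ n → ∀ c ∈ I ^ (k + k),
        ∀ y : ((localCohomology I j).obj
          (ModuleCat.of R (QuotSMulTop (r ^ k) (M ⧸ DRing.torsionSub I M))) : ModuleCat.{u} R),
          c • y = 0 := fun j hj1 hjn =>
      kill_quot I j (M ⧸ DRing.torsionSub I M) (r ^ k) hxreg k (hkN j hj1 (by lia))
        (hkN (j + 1) (by lia) (by lia))
    have hQfin := ih (QuotSMulTop (r ^ k) (M ⧸ DRing.torsionSub I M)) (k + k) hkQ n le_rfl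
    have hNfin := finite_H_succ_of_regular I n (M ⧸ DRing.torsionSub I M) (r ^ k) hxreg
      (fun y => hkN (n + 1) (by lia) le_rfl _ hx y) hQfin
    have : IsNoetherian R ((localCohomology I (n + 1)).obj
        (ModuleCat.of R (M ⧸ DRing.torsionSub I M)) : ModuleCat.{u} R) :=
      isNoetherian_of_isNoetherianRing_of_finite R _
    exact Module.Finite.of_injective _ (hbij (n + 1) (by lia)).1

omit [IsNoetherianRing R] in
/-- a finite `I`-power-torsion module is killed by a power of `I` -/
lemma exists_pow_kill (i : ℕ) (M : Type u) [AddCommGroup M] [Module R M]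
    (hfin : Module.Finite R ((localCohomology I i).obj (ModuleCat.of R M) : ModuleCat.{u} R)) :
    ∃ k : ℕ, ∀ c ∈ I ^ k,
      ∀ x : ((localCohomology I i).obj (ModuleCat.of R M) : ModuleCat.{u} R), c • x = 0 := by
  classical
  obtain ⟨T, hT⟩ := (Module.Finite.fg_top :
    (⊤ : Submodule R ((localCohomology I i).obj (ModuleCat.of R M) : ModuleCat.{u} R)).FG)
  have hn := fun e => H_powerTorsion I i (ModuleCat.of R M) e
  choose N hN using hn
  refine ⟨T.sup N, ?_⟩
  intro c hc x
  have hx : x ∈ Submodule.span R (T : Set _) := by rw [hT]; trivial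
  induction hx using Submodule.span_induction with
  | mem g hg => exact hN g c (Ideal.pow_le_pow_right (Finset.le_sup (f := N) hg) hc)
  | zero => rw [smul_zero]
  | add x y _ _ hx hy => rw [smul_add, hx, hy, add_zero]
  | smul r x _ hx => rw [smul_comm, hx, smul_zero]

end Aux



/-- Part (1): ⇔(2) with T = V(I) (Faltings): for a finite module M over a Noetherian ring, the local
cohomology modules H^i_I(M) for i ≤ n are all finitely generated exactly when some ideal J with I
contained in the radical of J kills all of them. -/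
theorem result (R : Type u) [CommRing R] [IsNoetherianRing R] (I : Ideal R) (M : Type u) [AddCommGroup M] [Module R M] [Module.Finite R M] (n : ℕ) : (∀ i : ℕ, i ≤ n → Module.Finite R (LocCoh.H I i M)) ↔ ∃ J : Ideal R, I ≤ J.radical ∧ ∀ i : ℕ, i ≤ n → ∀ a ∈ J, ∀ x : LocCoh.H I i M, a • x = 0 := by
  constructor
  · intro hfin
    have hex : ∀ m : ℕ, m ≤ n + 1 → ∃ k : ℕ, ∀ i : ℕ, i < m → ∀ c ∈ I ^ k,
        ∀ x : LocCoh.H I i M, c • x = 0 := by
      intro m
      induction m with
      | zero => intro _; exact ⟨0, fun i hi => absurd hi (by lia)⟩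
      | succ m ih =>
        intro hm
        obtain ⟨k1, hk1⟩ := ih (by lia)
        obtain ⟨k2, hk2⟩ := exists_pow_kill I m M (hfin m (by lia))
        refine ⟨max k1 k2, fun i hi c hc x => ?_⟩
        rcases Nat.lt_or_ge i m with h | h
        · exact hk1 i h c (Ideal.pow_le_pow_right (le_max_left _ _) hc) x
        · obtain rfl : i = m := by lia
          exact hk2 c (Ideal.pow_le_pow_right (le_max_right _ _) hc) x
    obtain ⟨k, hk⟩ := hex (n + 1) le_rfl
    refine ⟨I ^ k, ?_, fun i hi a ha x => hk i (by lia) a ha x⟩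
    rcases Nat.eq_zero_or_pos k with rfl | hpos
    · rw [pow_zero, Ideal.one_eq_top, Ideal.radical_top]
      exact le_top
    · rw [Ideal.radical_pow I (by lia)]
      exact Ideal.le_radical
  · rintro ⟨J, hIJ, hJ⟩
    obtain ⟨k, hk⟩ := Ideal.exists_pow_le_of_le_radical_of_fg hIJ (IsNoetherian.noetherian I)
    exact main I n M k (fun i _ hi c hc x => hJ i hi c (hk hc) x)

end Groth.Agent.S0329
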