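import Groth.Statements.S5172
import Mathlib
import Groth.Agent.Lib.Helper19.QuotHeight
import Groth.Agent.S11650

set_option autoImplicit false
universe u
open LocCoh

namespace Groth.Agent.S5172

-- MARK
section Aux
open Groth.Agent.Lib.helper19.QuotHeight

variable {A : Type u} [CommRing A]

/-- the height used in `SGA2.relCodim` is the height of `q/p` in `A/p` -/
theorem height_Ici_eq (p q : PrimeSpectrum A) (hpq : p ≤ q) :
    Order.height (⟨q, hpq⟩ : Set.Ici p) = (q.asIdeal.map (Ideal.Quotient.mk p.asIdeal)).height := by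
  have hpq' : p.asIdeal ≤ q.asIdeal := (PrimeSpectrum.asIdeal_le_asIdeal p q).2 hpq
  rw [height_quot_eq p.asIdeal q.asIdeal hpq']
  have hset : Set.Ici p = PrimeSpectrum.zeroLocus (p.asIdeal : Set A) := by
    ext r
    simp only [Set.mem_Ici, PrimeSpectrum.mem_zeroLocus, SetLike.coe_subset_coe]
    exact (PrimeSpectrum.asIdeal_le_asIdeal p r).symm
  exact (Order.height_orderIso (OrderIso.setCongr _ _ hset) (⟨q, hpq⟩ : Set.Ici p)).symm

theorem relCodim_eq (I : Ideal A) (p : PrimeSpectrum A) :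
    SGA2.relCodim I p = ⨅ q : {q : PrimeSpectrum A // p ≤ q ∧ I ≤ q.asIdeal},
      (q.1.asIdeal.map (Ideal.Quotient.mk p.asIdeal)).height := by
  unfold SGA2.relCodim
  exact iInf_congr fun q => height_Ici_eq p q.1 q.2.1

theorem relCodim_le (I : Ideal A) (p q : PrimeSpectrum A) (hpq : p ≤ q) (hI : I ≤ q.asIdeal) :
    SGA2.relCodim I p ≤ (q.asIdeal.map (Ideal.Quotient.mk p.asIdeal)).height := by
  rw [relCodim_eq]
  exact iInf_le (fun q : {q : PrimeSpectrum A // p ≤ q ∧ I ≤ q.asIdeal} =>
    (q.1.asIdeal.map (Ideal.Quotient.mk p.asIdeal)).height) ⟨q, hpq, hI⟩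

theorem one_le_relCodim (I : Ideal A) (p : PrimeSpectrum A) (hI : ¬ I ≤ p.asIdeal) :
    1 ≤ SGA2.relCodim I p := by
  rw [relCodim_eq]
  refine le_iInf fun q => ?_
  have hpq' : p.asIdeal ≤ q.1.asIdeal := (PrimeSpectrum.asIdeal_le_asIdeal p q.1).2 q.2.1
  refine one_le_height_quot p.asIdeal q.1.asIdeal (lt_of_le_of_ne hpq' ?_)
  intro h
  exact hI (h ▸ q.2.2)

/-- peel off the last step of a maximal chain from `p` to `q` -/
theorem exists_pred (p q : Ideal A) [hp : p.IsPrime] [hq : q.IsPrime] (hpq : p ≤ q) (c : ℕ)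
    (hc : (q.map (Ideal.Quotient.mk p)).height = (c + 1 : ℕ)) :
    ∃ p' : Ideal A, ∃ _ : p'.IsPrime, p ≤ p' ∧ p' < q ∧
      (p'.map (Ideal.Quotient.mk p)).height + 1 ≤ (c + 1 : ℕ) ∧
      (q.map (Ideal.Quotient.mk p')).height ≤ 1 := by
  obtain ⟨l, hlen, hhead, hlast⟩ := exists_series_of_le_height_quot p q hpq (c + 1) (le_of_eq hc.symm)
  have hne : l.length ≠ 0 := by rw [hlen]; exact Nat.succ_ne_zero c
  have hrel : l.eraseLast.last < l.last := l.eraseLast_last_rel_last hne
  set P' : PrimeSpectrum A := l.eraseLast.last with hP'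
  have hpP' : p ≤ P'.asIdeal := hhead.trans ((PrimeSpectrum.asIdeal_le_asIdeal _ _).2 (LTSeries.head_le l.eraseLast (Fin.last _)))
  have hP'q : P'.asIdeal < q := by
    have : P' < (⟨q, hq⟩ : PrimeSpectrum A) := hlast ▸ hrel
    exact (PrimeSpectrum.asIdeal_lt_asIdeal _ _).2 this
  have h1 : (c : ℕ∞) ≤ (P'.asIdeal.map (Ideal.Quotient.mk p)).height := by
    have := le_height_quot_of_series p P'.asIdeal hpP' l.eraseLast hhead le_rfl
    have hl : l.eraseLast.length = c := by
      rw [RelSeries.eraseLast_length, hlen]; rfl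
    rw [hl] at this
    exact this
  have h2 := height_quot_add_le p P'.asIdeal q hpP' hP'q.le
  have h3 := one_le_height_quot P'.asIdeal q hP'q
  rw [hc] at h2
  refine ⟨P'.asIdeal, P'.isPrime, hpP', hP'q, ?_, ?_⟩
  · exact (add_le_add le_rfl h3).trans h2
  · have h4 : (c : ℕ∞) + (q.map (Ideal.Quotient.mk P'.asIdeal)).height ≤ (c + 1 : ℕ) :=
      (add_le_add h1 le_rfl).trans h2
    have h5 : ((c + 1 : ℕ) : ℕ∞) = (c : ℕ∞) + 1 := by push_cast; rfl
    rw [h5] at h4
    exact (ENat.add_le_add_iff_left (ENat.natCast_ne_top c)).1 h4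

end Aux



/-- Let A be a Noetherian ring which is a quotient of a regular ring, I an ideal, M a finite A-module
and n ≥ 0; c(p) = codim(V(p) ∩ V(I), V(p)). Then depth M_p > n − c(p) for all primes p ⊉ I if and
only if depth M_p ≥ n for all primes p ⊉ I with c(p) = 1. -/
theorem result (R : Type u) [CommRing R] [IsRegularRing R] (A : Type u) [CommRing A] [IsNoetherianRing A] (π : R →+* A) (hπ : Function.Surjective π) (I : Ideal A) (M : Type u) [AddCommGroup M] [Module A M] [Module.Finite A M] (n : ℕ) : (∀ p : PrimeSpectrum A, ¬ I ≤ p.asIdeal → (n : ℕ∞) < LocCoh.depth (Localization.AtPrime p.asIdeal) (LocalizedModule p.asIdeal.primeCompl M) + SGA2.relCodim I p) ↔ (∀ p : PrimeSpectrum A, ¬ I ≤ p.asIdeal → SGA2.relCodim I p = 1 → (n : ℕ∞) ≤ LocCoh.depth (Localization.AtPrime p.asIdeal) (LocalizedModule p.asIdeal.primeCompl M)) := by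
  constructor
  · intro h p hp hc
    have h1 := h p hp
    rw [hc] at h1
    exact Order.le_of_lt_add_one h1
  · intro h p hp
    rw [relCodim_eq]
    rcases isEmpty_or_nonempty {q : PrimeSpectrum A // p ≤ q ∧ I ≤ q.asIdeal} with hemp | hne
    · rw [iInf_of_empty, add_top]
      exact ENat.natCast_lt_top n
    · obtain ⟨q, hq⟩ := ENat.exists_eq_iInf (fun q : {q : PrimeSpectrum A // p ≤ q ∧ I ≤ q.asIdeal} =>
        (q.1.asIdeal.map (Ideal.Quotient.mk p.asIdeal)).height)
      rw [← hq]
      have hmin : SGA2.relCodim I p = (q.1.asIdeal.map (Ideal.Quotient.mk p.asIdeal)).height := by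
        rw [relCodim_eq]; exact hq.symm
      have hpq' : p.asIdeal ≤ q.1.asIdeal := (PrimeSpectrum.asIdeal_le_asIdeal p q.1).2 q.2.1
      by_cases htop : (q.1.asIdeal.map (Ideal.Quotient.mk p.asIdeal)).height = ⊤
      · rw [htop, add_top]; exact ENat.natCast_lt_top n
      · obtain ⟨c', hc'⟩ := ENat.ne_top_iff_exists.1 htop
        have hc1 : 1 ≤ c' := by
          have := one_le_relCodim I p hp
          rw [hmin, ← hc'] at this
          exact_mod_cast this
        obtain ⟨c, rfl⟩ : ∃ c, c' = c + 1 := ⟨c' - 1, by omega⟩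
        obtain ⟨p', hp'prime, hpp', hp'q, hht, hq1⟩ :=
          exists_pred p.asIdeal q.1.asIdeal hpq' c hc'.symm
        have hIp' : ¬ I ≤ p' := by
          intro hI
          have := relCodim_le I p ⟨p', hp'prime⟩ ((PrimeSpectrum.asIdeal_le_asIdeal _ _).1 hpp') hI
          rw [hmin, ← hc'] at this
          have h2 := (add_le_add this le_rfl).trans hht
          have h3 : ((c + 1 : ℕ) : ℕ∞) + 1 = ((c + 2 : ℕ) : ℕ∞) := by push_cast; ring
          rw [h3] at h2
          have : c + 2 ≤ c + 1 := by exact_mod_cast h2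
          omega
        have hrc : SGA2.relCodim I ⟨p', hp'prime⟩ = 1 := by
          apply le_antisymm
          · exact (relCodim_le I ⟨p', hp'prime⟩ q.1
              ((PrimeSpectrum.asIdeal_le_asIdeal _ _).1 hp'q.le) q.2.2).trans hq1
          · exact one_le_relCodim I ⟨p', hp'prime⟩ hIp'
        have hdep := h ⟨p', hp'prime⟩ hIp' hrc
        have h11650 := Groth.Agent.S11650.result A M p.asIdeal p' hpp'
        have h4 : (n : ℕ∞) ≤ LocCoh.depth (Localization.AtPrime p.asIdeal)
            (LocalizedModule p.asIdeal.primeCompl M) +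
            (p'.map (Ideal.Quotient.mk p.asIdeal)).height := hdep.trans h11650
        rw [← hc']
        have h5 : (n : ℕ∞) + 1 ≤ LocCoh.depth (Localization.AtPrime p.asIdeal)
            (LocalizedModule p.asIdeal.primeCompl M) + ((c + 1 : ℕ) : ℕ∞) := by
          calc (n : ℕ∞) + 1 ≤ (LocCoh.depth (Localization.AtPrime p.asIdeal)
                (LocalizedModule p.asIdeal.primeCompl M) +
                (p'.map (Ideal.Quotient.mk p.asIdeal)).height) + 1 := add_le_add h4 le_rfl
            _ = LocCoh.depth (Localization.AtPrime p.asIdeal)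
                (LocalizedModule p.asIdeal.primeCompl M) +
                ((p'.map (Ideal.Quotient.mk p.asIdeal)).height + 1) := add_assoc _ _ _
            _ ≤ _ := add_le_add le_rfl hht
        exact lt_of_lt_of_le (ENat.lt_add_one_iff (ENat.natCast_ne_top n) |>.2 le_rfl) h5

end Groth.Agent.S5172
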