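import Mathlib
import Groth.Prelude.Def_Flat
import Groth.Agent.Lib.Helper5.FibreDimLocal

/-!
# Bridge: scheme-level `FlatMor.fibreDimAt` of `Spec S → Spec R` vs ring-level local dimension of
`Spec (κ(p) ⊗ S)` (helper29)
-/

set_option autoImplicit false
universe u

namespace Groth.Agent.LibFibreDimBridge29

open AlgebraicGeometry CategoryTheory FlatMor Groth.Agent.Lib.helper5.FibreDimLocal

variable (R S : Type u) [CommRing R] [CommRing S] [Algebra R S]

/-- the fibre dimension of `Spec S → Spec R` at `q` is the local dimension of the subspace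
`comap ⁻¹' {comap q}` of `PrimeSpectrum S` at `q`. -/
theorem fibreDimAt_eq_localDim_preimage_comap (q : PrimeSpectrum S) :
    fibreDimAt (Spec.map (CommRingCat.ofHom (algebraMap R S))) q =
      localDim (PrimeSpectrum.comap (algebraMap R S) ⁻¹' {PrimeSpectrum.comap (algebraMap R S) q})
        ⟨q, rfl⟩ :=
  fibreDimAt_eq_localDim_preimage (Spec.map (CommRingCat.ofHom (algebraMap R S))) q

/-- **Bridge.** -/
theorem fibreDimAt_eq_localDim_fiber (q : PrimeSpectrum S) :
    fibreDimAt (Spec.map (CommRingCat.ofHom (algebraMap R S))) q =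
      localDim (PrimeSpectrum ((PrimeSpectrum.comap (algebraMap R S) q).asIdeal.Fiber S))
        (PrimeSpectrum.preimageHomeomorphFiber R S (PrimeSpectrum.comap (algebraMap R S) q)
          ⟨q, rfl⟩) := by
  rw [fibreDimAt_eq_localDim_preimage_comap]
  exact localDim_eq_of_isOpenEmbedding _
    (PrimeSpectrum.preimageHomeomorphFiber R S
      (PrimeSpectrum.comap (algebraMap R S) q)).isOpenEmbedding ⟨q, rfl⟩

/-- Bridge, in the form used by the ring-level statements: `Q` a prime of the fibre ring. -/
theorem fibreDimAt_comap_includeRight (p : PrimeSpectrum R) (Q : PrimeSpectrum (p.asIdeal.Fiber S)) :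
    fibreDimAt (Spec.map (CommRingCat.ofHom (algebraMap R S)))
        (PrimeSpectrum.comap Algebra.TensorProduct.includeRight.toRingHom Q : PrimeSpectrum S) =
      localDim (PrimeSpectrum (p.asIdeal.Fiber S)) Q := by
  have hq := ((PrimeSpectrum.preimageHomeomorphFiber R S p).symm Q).2
  have hq' : PrimeSpectrum.comap (algebraMap R S)
      ((PrimeSpectrum.preimageHomeomorphFiber R S p).symm Q).1 = p := hq
  have h1 : ((PrimeSpectrum.preimageHomeomorphFiber R S p).symm Q).1 =
      PrimeSpectrum.comap Algebra.TensorProduct.includeRight.toRingHom Q := rfl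
  rw [← h1, fibreDimAt_eq_localDim_preimage_comap]
  have key : ∀ (p' : PrimeSpectrum R) (hp' : p' = p)
      (x : PrimeSpectrum.comap (algebraMap R S) ⁻¹' {p'}),
      (x : PrimeSpectrum S) = ((PrimeSpectrum.preimageHomeomorphFiber R S p).symm Q).1 →
      localDim (PrimeSpectrum.comap (algebraMap R S) ⁻¹' {p'}) x =
        localDim (PrimeSpectrum (p.asIdeal.Fiber S)) Q := by
    intro p' hp' x hx
    subst hp'
    have hx' : x = (PrimeSpectrum.preimageHomeomorphFiber R S p').symm Q := Subtype.ext hx
    rw [hx', localDim_eq_of_isOpenEmbedding _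
      (PrimeSpectrum.preimageHomeomorphFiber R S p').isOpenEmbedding, Homeomorph.apply_symm_apply]
  exact key _ hq' _ rfl

end Groth.Agent.LibFibreDimBridge29
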