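import Groth.Statements.S1783
import Mathlib
import Groth.Agent.Lib.Helper23.RAdj9
import Groth.Agent.Lib.Helper23.FlatBC2
-- import your own Groth.Agent.* helpers here

set_option autoImplicit false
universe u
open CategoryTheory
attribute [local instance] HasDerivedCategory.standard
open Dual2

namespace Groth.Agent.S1783

/-- Let R → A be a ring map of finite type between Noetherian rings, where φ^!(K) is formed from a
presentation ψ : R[x_1, …, x_n] → A as RHom_P(A, K ⊗^L_R P)[n], assuming the derived base change to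
P exists and taking for RHom_P(A, −) a right adjoint of restriction of scalars along ψ. If K in D(R)
has vanishing cohomology below some degree, then so does φ^!(K); if moreover all cohomology modules
of K are finite R-modules, then all cohomology modules of φ^!(K) are finite A-modules. -/
theorem result (R A : Type u) [CommRing R] [CommRing A] [IsNoetherianRing R] [IsNoetherianRing A] [Algebra R A] (n : ℕ) (ψ : MvPolynomial (Fin n) R →ₐ[R] A) (hψ : Function.Surjective ψ) [DRing.HasLBaseChange (algebraMap R (MvPolynomial (Fin n) R))] (Rψ : Dual.D (MvPolynomial (Fin n) R) ⥤ Dual.D A) (adj : DRing.restrictD ψ.toRingHom ⊣ Rψ) (K : Dual.D R) (a : ℤ) (hKa : ∀ i : ℤ, i < a → Subsingleton (Dual.HD R K i)) : (∃ b : ℤ, ∀ i : ℤ, i < b → Subsingleton (Dual.HD A (Dual2.shriekVia n Rψ K) i)) ∧ ((∀ i : ℤ, Module.Finite R (Dual.HD R K i)) → ∀ i : ℤ, Module.Finite A (Dual.HD A (Dual2.shriekVia n Rψ K) i)) := by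
  haveI : Limits.PreservesFiniteLimits
      (ModuleCat.extendScalars.{u, u, u} (algebraMap R (MvPolynomial (Fin n) R))) :=
    Groth.Agent.Lib.helper23.FlatBC.preservesFiniteLimits_extendScalars_algebraMap
  let e : (DRing.LBaseChange (algebraMap R (MvPolynomial (Fin n) R))).obj K ≅
      (Groth.Agent.Lib.helper23.FlatBC.extD (algebraMap R (MvPolynomial (Fin n) R))).obj K :=
    (Groth.Agent.Lib.helper23.FlatBC.lbcIso (algebraMap R (MvPolynomial (Fin n) R))).app K
  have hKPa : ∀ j : ℤ, j < a → Limits.IsZero
      ((DerivedCategory.homologyFunctor (ModuleCat.{u} (MvPolynomial (Fin n) R)) j).obj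
        ((DRing.LBaseChange (algebraMap R (MvPolynomial (Fin n) R))).obj K)) := by
    intro j hj
    haveI := hKa j hj
    exact (Groth.Agent.Lib.helper23.FlatBC.isZero_homology_extD _ K j
      (ModuleCat.isZero_of_subsingleton _)).of_iso
      ((DerivedCategory.homologyFunctor _ j).mapIso e)
  haveI hfin : Module.Finite (MvPolynomial (Fin n) R)
      (Groth.Agent.Lib.helper23.RAdj.BA ψ.toRingHom) :=
    Groth.Agent.Lib.helper23.RAdj.finite_BA_of_surjective ψ.toRingHom hψ
  refine ⟨⟨a - n, fun i hi => ?_⟩, fun hK i => ?_⟩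
  · have h1 := Groth.Agent.Lib.helper23.RAdj.isZero_homology_rightAdjoint ψ.toRingHom Rψ adj _ a
      hKPa ((n : ℤ) + i) (by omega)
    exact ModuleCat.subsingleton_of_isZero (h1.of_iso
      (Groth.Agent.Lib.helper23.FlatBC.homologyShiftIso _ (n : ℤ) i ((n : ℤ) + i) rfl))
  · have hKP : ∀ j : ℤ, Module.Finite (MvPolynomial (Fin n) R)
        ((DerivedCategory.homologyFunctor (ModuleCat.{u} (MvPolynomial (Fin n) R)) j).obj
          ((DRing.LBaseChange (algebraMap R (MvPolynomial (Fin n) R))).obj K)) := by
      intro j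
      haveI := Groth.Agent.Lib.helper23.FlatBC.finite_homology_extD
        (algebraMap R (MvPolynomial (Fin n) R)) K j (hK j)
      exact Module.Finite.equiv
        ((DerivedCategory.homologyFunctor _ j).mapIso e).toLinearEquiv.symm
    haveI := Groth.Agent.Lib.helper23.RAdj.finite_HD_rightAdjoint' ψ.toRingHom Rψ adj _ a
      hKPa hKP ((n : ℤ) + i)
    exact Module.Finite.equiv
      (Groth.Agent.Lib.helper23.FlatBC.homologyShiftIso _ (n : ℤ) i ((n : ℤ) + i)
        rfl).toLinearEquiv.symm

end Groth.Agent.S1783
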