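import Groth.Statements.S1790
import Mathlib
import Groth.Agent.Lib.Helper19.Shriek5
import Groth.Agent.Lib.Helper19.Shriek6
import Groth.Agent.Lib.Helper19.Shriek7
import Groth.Agent.Lib.Helper19.Shriek8

set_option autoImplicit false
universe u
open CategoryTheory
attribute [local instance] HasDerivedCategory.standard
open Dual2

namespace Groth.Agent.S1790




/-- Let R → A be a ring map between Noetherian rings which is flat and of finite type, where φ^!(K) is
formed from a presentation ψ : R[x_1, …, x_n] → A as RHom_P(A, K ⊗^L_R P)[n], assuming the derived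
base change to P exists and taking for RHom_P(A, −) a right adjoint of restriction of scalars along
ψ, and ω_{A/R} = φ^!(R). (a) If q is a prime of A at which the fibre of Spec A → Spec R has local
dimension d and H^i(ω_{A/R}) localized at q is nonzero, then −d ≤ i ≤ 0. (b) If every fibre has
local dimension at most d at every point, then ω_{A/R}, regarded as a complex of R-modules, is
isomorphic to a complex of flat R-modules concentrated in degrees [−d, 0]. -/
theorem result (R A : Type u) [CommRing R] [CommRing A] [IsNoetherianRing R] [IsNoetherianRing A] [Algebra R A] (n : ℕ) (ψ : MvPolynomial (Fin n) R →ₐ[R] A) (hψ : Function.Surjective ψ) [DRing.HasLBaseChange (algebraMap R (MvPolynomial (Fin n) R))] (Rψ : Dual.D (MvPolynomial (Fin n) R) ⥤ Dual.D A) (adj : DRing.restrictD ψ.toRingHom ⊣ Rψ) [Module.Flat R A] (d : ℕ) : (∀ (q : PrimeSpectrum A), FlatMor.fibreDimAt (AlgebraicGeometry.Spec.map (CommRingCat.ofHom (algebraMap R A))) q = d → ∀ i : ℤ, Nontrivial (LocalizedModule q.asIdeal.primeCompl (Dual.HD A (Dual2.shriekVia n Rψ (Dual.inD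 R R)) i)) → -(d : ℤ) ≤ i ∧ i ≤ 0) ∧ ((∀ q : PrimeSpectrum A, FlatMor.fibreDimAt (AlgebraicGeometry.Spec.map (CommRingCat.ofHom (algebraMap R A))) q ≤ (d : WithBot ℕ∞)) → DRing.HasTorAmplitudeIn R (-(d : ℤ)) 0 ((DRing.restrictD (algebraMap R A)).obj (Dual2.shriekVia n Rψ (Dual.inD R R)))) := by
  classical
  refine ⟨?_, ?_⟩
  · intro q hq i hnt
    constructor
    · by_contra hcon
      have hi : i + (d : ℤ) < 0 := by omega
      haveI := Groth.Agent.Lib.helper19.Shriek5.subsingleton_localizedModule_HD_shriekVia R A n ψ hψ q d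
        (le_of_eq hq) Rψ adj i hi
      exact not_subsingleton _ ‹_›
    · by_contra hcon
      have hi : 0 < i := by omega
      haveI := Groth.Agent.Lib.helper19.Shriek7.subsingleton_HD_shriekVia_self_of_pos R A n ψ hψ Rψ adj i hi
      have hs : Subsingleton (LocalizedModule q.asIdeal.primeCompl
          (Dual.HD A (Dual2.shriekVia n Rψ (Dual.inD R R)) i)) := by
        rw [LocalizedModule.subsingleton_iff]
        intro m
        exact ⟨1, Submonoid.one_mem _, by rw [Subsingleton.elim m 0, smul_zero]⟩
      exact not_subsingleton _ hs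
  · intro hd
    haveI : ∀ I : Ideal R, DRing.HasLBaseChange (Ideal.Quotient.mk I) :=
      fun I => Groth.Agent.Lib.helper13.RKF.hasLBaseChange _
    have h0 := Groth.Agent.Lib.helper19.Shriek7.hasTorAmplitudeIn_shriekVia_self R A n ψ hψ Rψ adj
    refine Groth.Agent.Lib.helper19.Shriek6.hasTorAmplitudeIn_of_cyclic _ (-(d : ℤ)) 0 ?_ n
      (Groth.Agent.Lib.helper23.TA.hasTorAmplitudeIn_mono h0 (by omega) le_rfl)
    intro I i hi
    exact Groth.Agent.Lib.helper19.Shriek8.isZero_homology_LBaseChange_restrictD_shriekVia R A n ψ hψ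
      Rψ adj d hd I i (by omega)

end Groth.Agent.S1790
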