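import Groth.Statements.S8953
import Mathlib
import Groth.Agent.S1799
import Groth.Agent.S1784
import Groth.Agent.S8943
import Groth.Agent.Lib.Helper23.RHomEx
import Groth.Agent.Lib.Helper23.FlatBC2
import Groth.Agent.Lib.Helper23.OpenImm3
import Groth.Agent.Lib.Helper13.RKF2
import Groth.Agent.Lib.Helper19.BassFlat2
import Groth.Agent.Lib.Helper19.ShriekOmega1

set_option autoImplicit false
universe u
open CategoryTheory AlgebraicGeometry
open scoped TensorProduct
attribute [local instance] HasDerivedCategory.standard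
open Disc

namespace Groth.Agent.S8953




/-- Let A → B be a quasi-finite map of Noetherian rings, written as a composite A → B′ → B in which the
first map A → B′ is finite and the induced morphism Spec(B) → Spec(B′) is an open immersion, so that
ω_{B/A} = Hom_A(B′, A) ⊗_{B′} B; and let ω^•_{B/A} = φ^!(A[0]) be the algebraic relative dualizing
complex computed through a presentation ψ : A[x_1, …, x_n] → B (derived base change assumed to
exist, RHom_P(B, −) given as a right adjoint of restriction of scalars). Then there is a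
(non-unique) B-linear isomorphism H^0(ω^•_{B/A}) ≅ ω_{B/A}. -/
theorem result (A B B' : Type u) [CommRing A] [CommRing B] [CommRing B'] [IsNoetherianRing A] [IsNoetherianRing B] [Algebra A B] [Algebra A B'] [Algebra B' B] [IsScalarTower A B' B] [Module.Finite A B'] (hopen : IsOpenImmersion (Spec.map (CommRingCat.ofHom (algebraMap B' B)))) (n : ℕ) (ψ : MvPolynomial (Fin n) A →ₐ[A] B) (hψ : Function.Surjective ψ) [DRing.HasLBaseChange (algebraMap A (MvPolynomial (Fin n) A))] (Rψ : Dual.D (MvPolynomial (Fin n) A) ⥤ Dual.D B) (adj : DRing.restrictD ψ.toRingHom ⊣ Rψ) : Nonempty (Dual.HD B (Dual2.shriekVia n Rψ (Dual.inD A A)) 0 ≃ₗ[B] (B ⊗[B'] Disc.Omega A B')) := by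
  classical
  haveI : IsNoetherianRing B' := IsNoetherianRing.of_finite A B'
  haveI : Algebra.FiniteType A B' := inferInstance
  obtain ⟨n₁, ψ₁, hψ₁⟩ := Algebra.FiniteType.iff_quotient_mvPolynomial''.mp
    (inferInstance : Algebra.FiniteType A B')
  haveI : Algebra.FiniteType A B := Algebra.FiniteType.of_surjective ψ hψ
  haveI : Algebra.FiniteType B' B := Algebra.FiniteType.of_restrictScalars_finiteType A B' B
  obtain ⟨m, χ, hχ⟩ := Algebra.FiniteType.iff_quotient_mvPolynomial''.mp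
    (inferInstance : Algebra.FiniteType B' B)
  obtain ⟨Rψ₁, ⟨adj₁⟩⟩ := Groth.Agent.Lib.helper23.RHomEx.exists_rightAdjoint_restrictD ψ₁.toRingHom
  obtain ⟨Rχ, ⟨adjχ⟩⟩ := Groth.Agent.Lib.helper23.RHomEx.exists_rightAdjoint_restrictD χ.toRingHom
  obtain ⟨R', ⟨adjR⟩⟩ := Groth.Agent.Lib.helper23.RHomEx.exists_rightAdjoint_restrictD (algebraMap A B')
  haveI : DRing.HasLBaseChange (algebraMap A (MvPolynomial (Fin n₁) A)) :=
    Groth.Agent.Lib.helper13.RKF.hasLBaseChange _
  haveI : DRing.HasLBaseChange (algebraMap B' (MvPolynomial (Fin m) B')) :=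
    Groth.Agent.Lib.helper13.RKF.hasLBaseChange _
  haveI : DRing.HasLBaseChange (algebraMap B' B) := Groth.Agent.Lib.helper13.RKF.hasLBaseChange _
  have hK : ∀ i : ℤ, i < 0 → Subsingleton (Dual.HD A (Dual.inD A A) i) := fun i hi =>
    ModuleCat.subsingleton_of_isZero (DerivedCategory.isZero_of_isGE (Dual.inD A A) 0 i hi)
  obtain ⟨j1⟩ := Groth.Agent.S1799.result A B' B n₁ ψ₁ hψ₁ Rψ₁ adj₁ m χ hχ Rχ adjχ n ψ hψ Rψ adj
    (Dual.inD A A) 0 hK
  obtain ⟨j2⟩ := Groth.Agent.S8943.result B' B hopen m χ hχ Rχ adjχ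
    (Dual2.shriekVia n₁ Rψ₁ (Dual.inD A A))
  obtain ⟨j3⟩ := Groth.Agent.S1784.result A B' n₁ ψ₁ hψ₁ Rψ₁ adj₁ R' adjR (Dual.inD A A)
  let j : Dual2.shriekVia n Rψ (Dual.inD A A) ≅
      (DRing.LBaseChange (algebraMap B' B)).obj (R'.obj (Dual.inD A A)) :=
    j1 ≪≫ j2 ≪≫ (DRing.LBaseChange (algebraMap B' B)).mapIso j3
  obtain ⟨hflat, -, -⟩ := Groth.Agent.Lib.helper23.OpenImm.flat_epi_open_of_isOpenImmersion B' B hopen
  haveI := hflat
  haveI : CategoryTheory.Limits.PreservesFiniteLimits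
      (ModuleCat.extendScalars.{u, u, u} (algebraMap B' B)) :=
    Groth.Agent.Lib.helper23.FlatBC.preservesFiniteLimits_extendScalars_algebraMap
  let j4 : (DerivedCategory.homologyFunctor (ModuleCat.{u} B) 0).obj
      ((DRing.LBaseChange (algebraMap B' B)).obj (R'.obj (Dual.inD A A))) ≅
      (ModuleCat.extendScalars.{u, u, u} (algebraMap B' B)).obj
        ((DerivedCategory.homologyFunctor (ModuleCat.{u} B') 0).obj (R'.obj (Dual.inD A A))) :=
    (DerivedCategory.homologyFunctor (ModuleCat.{u} B) 0).mapIso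
      ((Groth.Agent.Lib.helper23.FlatBC.lbcIso (algebraMap B' B)).app _) ≪≫
      Groth.Agent.Lib.helper23.FlatBC.homologyExtDIso (algebraMap B' B) _ 0
  obtain ⟨eΩ⟩ := Groth.Agent.Lib.helper19.ShriekOmega1.nonempty_HD_rightAdjoint_equiv_omega R' adjR
  exact ⟨((DerivedCategory.homologyFunctor (ModuleCat.{u} B) 0).mapIso j ≪≫ j4).toLinearEquiv ≪≫ₗ
    (Groth.Agent.Lib.helper19.BassFlat.extendScalarsEquiv B' B _) ≪≫ₗ
    (TensorProduct.AlgebraTensorModule.congr (LinearEquiv.refl B B) eΩ)⟩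

end Groth.Agent.S8953
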