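import Groth.Statements.S0553
import Groth.Agent.Lib.Helper28.Catenary

set_option autoImplicit false
universe u
open CAlg

namespace Groth.Agent.S0553

open Groth.Agent.Lib.helper28

/-- Order embedding `Spec B ↪o Spec A` for a surjective ring hom `A → B`. -/
noncomputable def surjEmb {A B : Type u} [CommRing A] [CommRing B] (f : A →+* B)
    (hf : Function.Surjective f) : PrimeSpectrum B ↪o PrimeSpectrum A :=
  OrderEmbedding.ofMapLEIff (PrimeSpectrum.comap f) (by
    intro p q
    show p.asIdeal.comap f ≤ q.asIdeal.comap f ↔ p.asIdeal ≤ q.asIdeal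
    exact Ideal.comap_le_comap_iff_of_surjective f hf _ _)

theorem range_surjEmb {A B : Type u} [CommRing A] [CommRing B] (f : A →+* B)
    (hf : Function.Surjective f) :
    Set.range (surjEmb f hf) = PrimeSpectrum.zeroLocus (RingHom.ker f : Set A) :=
  range_comap_of_surjective _ f hf

theorem isCatenary_of_surjective {A B : Type u} [CommRing A] [CommRing B] (f : A →+* B)
    (hf : Function.Surjective f) (hA : CAlg.IsCatenary A) : CAlg.IsCatenary B := by
  rw [isCatenary_iff_orderCat] at hA ⊢
  refine OrderCat.of_embedding (surjEmb f hf) ?_ hA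
  rw [range_surjEmb]
  exact (isUpperSet_zeroLocus _).ordConnected

theorem isCatenary_of_isLocalization {A : Type u} [CommRing A] (S : Submonoid A) (B : Type u)
    [CommRing B] [Algebra A B] [IsLocalization S B] (hA : CAlg.IsCatenary A) :
    CAlg.IsCatenary B := by
  rw [isCatenary_iff_orderCat] at hA ⊢
  refine OrderCat.of_embedding (locEmb S B) ?_ hA
  rw [range_locEmb]
  exact (isLowerSet_disjoint S).ordConnected

attribute [local instance] MvPolynomial.algebraMvPolynomial in
theorem forward (R : Type u) [CommRing R] [IsNoetherianRing R]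
    (hR : CAlg.IsUniversallyCatenary R) (m : Ideal R) [m.IsMaximal] :
    CAlg.IsUniversallyCatenary (Localization.AtPrime m) := by
  refine ⟨inferInstance, fun S _ _ hS => ?_⟩
  obtain ⟨n, f, hf⟩ := Algebra.FiniteType.iff_quotient_mvPolynomial''.mp hS
  refine isCatenary_of_surjective f.toRingHom hf ?_
  refine isCatenary_of_isLocalization (A := MvPolynomial (Fin n) R)
    (m.primeCompl.map (MvPolynomial.C (σ := Fin n))) _ ?_
  exact hR.2 _ inferInstance

theorem backward (R : Type u) [CommRing R] [IsNoetherianRing R]
    (h : ∀ (m : Ideal R) [m.IsMaximal], CAlg.IsUniversallyCatenary (Localization.AtPrime m)) :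
    CAlg.IsUniversallyCatenary R := by
  refine ⟨inferInstance, fun S _ _ hS => ?_⟩
  rw [isCatenary_iff_orderCat]
  refine OrderCat.of_cover_lower fun q => ?_
  -- maximal ideal of `R` above the contraction of `q`
  have hq : (q.asIdeal.comap (algebraMap R S)) ≠ ⊤ := Ideal.IsPrime.ne_top inferInstance
  obtain ⟨m, hm, hle⟩ := Ideal.exists_le_maximal _ hq
  let M : Submonoid S := Algebra.algebraMapSubmonoid S m.primeCompl
  let S' := Localization M
  have hft : Algebra.FiniteType (Localization.AtPrime m) S' := by
    have h1 : (algebraMap R S).FiniteType := RingHom.finiteType_algebraMap.mpr hS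
    haveI : IsLocalization (m.primeCompl.map (algebraMap R S)) S' :=
      (inferInstance : IsLocalization M (Localization M))
    have h2 := RingHom.finiteType_localizationPreserves (algebraMap R S) m.primeCompl
      (Localization.AtPrime m) S' h1
    exact RingHom.finiteType_algebraMap.mp h2
  have hcat : CAlg.IsCatenary S' := (h m).2 S' hft
  refine ⟨PrimeSpectrum S', inferInstance, locEmb M S', ?_, ?_, hcat⟩
  · rw [range_locEmb]; exact isLowerSet_disjoint M
  · rw [range_locEmb]
    show Disjoint (M : Set S) (q.asIdeal : Set S)
    rw [Set.disjoint_left]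
    rintro x ⟨r, hr, rfl⟩ hx
    exact hr (hle hx)

/-- A Noetherian ring is universally catenary exactly when its localization at every maximal ideal is
universally catenary. -/
theorem result (R : Type u) [CommRing R]
    [IsNoetherianRing R] :
    CAlg.IsUniversallyCatenary R ↔
      ∀ (m : Ideal R) [m.IsMaximal], CAlg.IsUniversallyCatenary (Localization.AtPrime m) := by
  exact ⟨fun hR m _ => forward R hR m, backward R⟩

end Groth.Agent.S0553
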