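import Groth.Statements.S17768
import Mathlib
import Groth.Agent.Lib.Helper19.StarLocalArt
import Groth.Agent.S13224
import Groth.Agent.S13225
import Groth.Agent.S0817

set_option autoImplicit false
universe u
open GrLC

namespace Groth.Agent.S17768



/-- Let R = ⊕_{n ≥ 0} R_n be a Noetherian positively ℤ-graded ring which is *local with unique
homogeneous maximal ideal m (equivalently R_0 is local), and let M be a finitely generated graded
R-module. Then for every i and every n the homogeneous piece H^i_m(M)_n of the graded local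
cohomology with support in m, computed from any *injective resolution of M in the graded category,
is an Artinian R_0-module. -/
theorem result (R : Type u) [CommRing R] [IsNoetherianRing R] (𝒜 : ℤ → AddSubgroup R) [GradedRing 𝒜] (hpos : ∀ n : ℤ, n < 0 → 𝒜 n = ⊥) (m : HomogeneousIdeal 𝒜) (hm : GrLC.IsStarLocal 𝒜 m) (M : Type u) [AddCommGroup M] [Module R M] [Module.Finite R M] (ℳ : ℤ → AddSubgroup M) [DirectSum.Decomposition ℳ] [SetLike.GradedSMul 𝒜 ℳ] (E : GrLC.StarInjRes 𝒜 ℳ) (i : ℕ) (n : ℤ) : IsArtinian (GrLC.deg0 𝒜) (E.Hcomp m i n) := by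
  classical
  have : m.toIdeal.IsMaximal :=
    Groth.Agent.Lib.helper19.StarLocalArt.isMaximal_of_isCoatom 𝒜 hpos m hm.1
  obtain ⟨e⟩ := Groth.Agent.S13224.result R 𝒜 m M ℳ E i
  have : IsArtinian R (LocCoh.H m.toIdeal i M) := Groth.Agent.S0817.isArtinian_H m.toIdeal i M
  have : IsArtinian R (E.H m i) := isArtinian_of_linearEquiv e.symm
  have hint := Groth.Agent.S13225.result R 𝒜 m M ℳ E i
  have hsmul : ∀ (k j : ℤ) (r : R) (h : E.H m i), r ∈ 𝒜 k → h ∈ E.Hgr m i j →
      r • h ∈ E.Hgr m i (k + j) := by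
    rintro k j r h hr ⟨z, hz, rfl⟩
    refine ⟨r • z, ?_, map_smul _ _ _⟩
    have := SetLike.GradedSMul.smul_mem (A := 𝒜) (B := (E.X i).gr) hr hz
    rwa [vadd_eq_add] at this
  exact Groth.Agent.Lib.helper19.StarLocalArt.isArtinian_piece 𝒜 (E.Hgr m i) hpos hsmul
    hint.addSubgroup_iSupIndep n (E.Hcomp m i n) rfl

end Groth.Agent.S17768
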