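import Groth.Statements.S15417
import Mathlib
import Groth.Agent.Lib.Helper19.GrReg3
import Groth.Agent.Lib.Helper19.GrPoly

set_option autoImplicit false
universe u
open GrSyz

namespace Groth.Agent.S15417

-- MARK
open GrLC Groth.Agent.Lib.helper19.GrLes Groth.Agent.Lib.helper19.GrReg Groth.Agent.Lib.helper19.GrConv
  Groth.Agent.Lib.helper19.GrPoly in
/-- the polynomial ring has regularity `≤ 0` -/
theorem lcreg_poly (k : Type u) [Field k] (n : ℕ) : LCReg (mm k n) (gr k n) 0 :=
  fun E j g hg => Hgr_poly k n E j g (by omega)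

open GrLC Groth.Agent.Lib.helper19.GrLes Groth.Agent.Lib.helper19.GrReg Groth.Agent.Lib.helper19.GrConv
  Groth.Agent.Lib.helper19.GrPoly in
/-- syzygy regularity is local-cohomological regularity, over the standard graded polynomial ring -/
theorem isGenLE_iff_lcreg_poly (k : Type u) [Field k] (n : ℕ)
    (M : Type u) [AddCommGroup M] [Module k M] [Module (MvPolynomial (Fin n) k) M]
    (ℳ : ℤ → Submodule k M) [DirectSum.Decomposition ℳ] [SetLike.GradedSMul (GrSyz.stdGr k (Fin n)) ℳ]
    (F : GrSyz.FreeRes (GrSyz.stdGr k (Fin n)) ℳ)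
    (hF : F.IsMinimal (GrSyz.irrel (GrSyz.stdGr k (Fin n))).toIdeal) (d : ℤ) :
    F.IsGenLE d ↔ LCReg (mm k n) (addGr ℳ) d := by
  classical
  let F' : GrSyz.FreeRes (gr k n) (addGr ℳ) :=
    { rk := F.rk, deg := F.deg, d := F.d, aug := F.aug, d_mem := F.d_mem, aug_mem := F.aug_mem,
      aug_surjective := F.aug_surjective, exact_zero := F.exact_zero, exact_succ := F.exact_succ }
  have hF' : F'.IsMinimal (mm k n).toIdeal := hF
  have hxs : ∀ x ∈ List.ofFn (MvPolynomial.X : Fin n → MvPolynomial (Fin n) k), x ∈ gr k n 1 := by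
    intro x hx
    obtain ⟨i, rfl⟩ := (List.mem_ofFn' _ _).1 hx
    exact X_mem k n i
  have hone : (1 : MvPolynomial (Fin n) k) ∉ (mm k n).toIdeal :=
    Groth.Agent.Lib.helper7.GrSyzBasic.one_not_mem_irrel k (Fin n)
  exact isGenLE_iff_lcreg (mm k n) (lcreg_poly k n) _ hxs (mm_eq k n) hone F' hF' d

open GrLC Groth.Agent.Lib.helper19.GrLes Groth.Agent.Lib.helper19.GrReg Groth.Agent.Lib.helper19.GrConv
  Groth.Agent.Lib.helper19.GrPoly in
/-- regularity `≤ d` in terms of the ends of the graded local cohomology modules -/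
theorem lcreg_iff_endDeg (k : Type u) [Field k] (n : ℕ)
    (M : Type u) [AddCommGroup M] [Module k M] [Module (MvPolynomial (Fin n) k) M]
    (ℳ : ℤ → Submodule k M) [DirectSum.Decomposition ℳ] [SetLike.GradedSMul (GrSyz.stdGr k (Fin n)) ℳ]
    (E : GrLC.StarInjRes (GrSyz.stdGr k (Fin n)) ℳ) (d : ℤ) :
    LCReg (mm k n) (addGr ℳ) d ↔ ∀ i : ℕ, GrLC.endDeg (E.Hgr (GrSyz.irrel (GrSyz.stdGr k (Fin n))) i) +
      (((i : ℤ) : WithTop ℤ) : WithBot (WithTop ℤ)) ≤ ((d : WithTop ℤ) : WithBot (WithTop ℤ)) := by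
  classical
  constructor
  · intro h i
    apply endDeg_add_le
    intro g hne
    rw [cast_add, cast_le]
    by_contra hcon
    push Not at hcon
    apply hne
    have h1 := h (resAdd (GrSyz.stdGr k (Fin n)) ℳ E) i g (by omega)
    rw [resAdd_Hgr] at h1
    exact h1
  · intro h E₂ j g hg
    rw [Hgr_indep E₂ (resAdd (GrSyz.stdGr k (Fin n)) ℳ E) (mm k n) j g, resAdd_Hgr]
    by_contra hne
    have h1 := le_endDeg (E.Hgr (GrSyz.irrel (GrSyz.stdGr k (Fin n))) j) hne
    have h2 : ((g : WithTop ℤ) : WithBot (WithTop ℤ)) + (((j : ℤ) : WithTop ℤ) : WithBot (WithTop ℤ)) ≤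
        ((d : WithTop ℤ) : WithBot (WithTop ℤ)) := le_trans (add_le_add_left h1 _) (h j)
    rw [cast_add, cast_le] at h2
    omega



/-- Let k be a field, S = k[x_0, …, x_r] graded by degree, 𝔪 = (x_0, …, x_r), M a finitely generated
ℤ-graded S-module, F a graded free resolution of M by finite-rank free modules with homogeneous
bases which is minimal (all matrix entries in 𝔪), and d an integer. Then every term F_i is generated
in degrees at most d + i (d is at least the regularity computed from F) if and only if, for every i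
≥ 0, the graded local cohomology module H^i_𝔪(M), computed from any *injective resolution of M in
the graded category, has all its nonzero pieces in degrees at most d − i. (The published statement
is about the regularity read off from the minimal resolution; it is stated here for an arbitrary
minimal resolution, which is what the printed argument handles.) -/
theorem result (k : Type u) [Field k] (r : ℕ)
    (M : Type u) [AddCommGroup M] [Module k M] [Module (MvPolynomial (Fin (r + 1)) k) M]
    [IsScalarTower k (MvPolynomial (Fin (r + 1)) k) M] [Module.Finite (MvPolynomial (Fin (r + 1)) k) M]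
    (ℳ : ℤ → Submodule k M) [DirectSum.Decomposition ℳ] [SetLike.GradedSMul (GrSyz.stdGr k (Fin (r + 1))) ℳ]
    (F : GrSyz.FreeRes (GrSyz.stdGr k (Fin (r + 1))) ℳ) (hF : F.IsMinimal (GrSyz.irrel (GrSyz.stdGr k (Fin (r + 1)))).toIdeal)
    (E : GrLC.StarInjRes (GrSyz.stdGr k (Fin (r + 1))) ℳ) (d : ℤ) :
    F.IsGenLE d ↔ ∀ i : ℕ, GrLC.endDeg (E.Hgr (GrSyz.irrel (GrSyz.stdGr k (Fin (r + 1)))) i) + (((i : ℤ) : WithTop ℤ) : WithBot (WithTop ℤ)) ≤ ((d : WithTop ℤ) : WithBot (WithTop ℤ)) := by
  rw [isGenLE_iff_lcreg_poly k (r + 1) M ℳ F hF d]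
  exact lcreg_iff_endDeg k (r + 1) M ℳ E d

end Groth.Agent.S15417
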