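import Groth.Statements.S0332
import Mathlib
import Groth.Agent.S0379
import Groth.Agent.S0547
import Groth.Agent.Lib.Helper19.H1Cpl
import Groth.Agent.Lib.Helper24.CplCM
import Groth.Agent.Lib.Helper19.HLV5

set_option autoImplicit false
universe u v
open LocCoh

namespace Groth.Agent.S0332




/-- Let R be Noetherian local of dimension d with completion R^; suppose that for every minimal prime p
of R^ with dim R^/p = d the quotient of R^ by I R^ + p has Krull dimension at least 1 (i.e. some
prime containing I R^ + p is not maximal). Then local cohomology with support in I vanishes in all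
degrees ≥ d for every module. -/
theorem result (R : Type u) [CommRing R] [IsLocalRing R] [IsNoetherianRing R] (I : Ideal R) (d : ℕ) (hd : ringKrullDim R = d) (h : ∀ p ∈ minimalPrimes (AdicCompletion (IsLocalRing.maximalIdeal R) R), ringKrullDim (AdicCompletion (IsLocalRing.maximalIdeal R) R ⧸ p) = d → 1 ≤ ringKrullDim (AdicCompletion (IsLocalRing.maximalIdeal R) R ⧸ (I.map (algebraMap R (AdicCompletion (IsLocalRing.maximalIdeal R) R)) ⊔ p))) (M : Type u) [AddCommGroup M] [Module R M] (i : ℕ) (hi : d ≤ i) : Subsingleton (LocCoh.H I i M) := by
  classical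
  haveI := Groth.Agent.Lib.helper19.H1Cpl.isAdicComplete_cpl R
  haveI : Module.FaithfullyFlat R (AdicCompletion (IsLocalRing.maximalIdeal R) R) :=
    Module.FaithfullyFlat.of_flat_of_isLocalHom
  apply Groth.Agent.S0379.vanish_of_map (B := AdicCompletion (IsLocalRing.maximalIdeal R) R) I i
  intro N _ _
  exact Groth.Agent.Lib.helper19.HLV.complete_case (AdicCompletion (IsLocalRing.maximalIdeal R) R) d
    (by rw [Groth.Agent.S0547.result, hd]) (I.map (algebraMap R _)) h N i hi

end Groth.Agent.S0332
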