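import Groth.Statements.S1267
import Mathlib
import Groth.Agent.Lib.Helper8.LocalFlat

set_option autoImplicit false
universe u
open FlatMor

namespace Groth.Agent.S1267

open TensorProduct Function
open Groth.Agent.Lib.helper8.LocalFlat

section
variable {A : Type u} [CommRing A]

/-- Lemma A -/
theorem rTensor_injective_of_torsion (I : Ideal A) (M : Type u) [AddCommGroup M] [Module A M]
    [Module.Flat (A ⧸ I) ((A ⧸ I) ⊗[A] M)]
    {Q₁ Q₂ : Type u} [AddCommGroup Q₁] [Module A Q₁] [Module (A ⧸ I) Q₁] [IsScalarTower A (A ⧸ I) Q₁]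
    [AddCommGroup Q₂] [Module A Q₂] [Module (A ⧸ I) Q₂] [IsScalarTower A (A ⧸ I) Q₂]
    (g : Q₁ →ₗ[A ⧸ I] Q₂) (hg : Injective g) :
    Injective ((g.restrictScalars A).rTensor M) := by
  intro x y hxy
  have h1 : Injective (g.rTensor ((A ⧸ I) ⊗[A] M)) :=
    Module.Flat.rTensor_preserves_injective_linearMap g hg
  obtain ⟨x', rfl⟩ := (AlgebraTensorModule.cancelBaseChange A (A ⧸ I) (A ⧸ I) Q₁ M).surjective x
  obtain ⟨y', rfl⟩ := (AlgebraTensorModule.cancelBaseChange A (A ⧸ I) (A ⧸ I) Q₁ M).surjective y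
  rw [cancelBaseChange_rTensor, cancelBaseChange_rTensor] at hxy
  rw [h1 ((AlgebraTensorModule.cancelBaseChange A (A ⧸ I) (A ⧸ I) Q₂ M).injective hxy)]

/-- Lemma B -/
theorem exists_smul_eq_zero (p : Ideal A) [p.IsPrime] (M : Type u) [AddCommGroup M] [Module A M]
    [Module.Flat A (LocalizedModule p.primeCompl M)]
    {J K : Type u} [AddCommGroup J] [Module A J] [AddCommGroup K] [Module A K]
    (f : J →ₗ[A] K) (hf : Injective f) (x : M ⊗[A] J) (hx : f.lTensor M x = 0) :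
    ∃ s : A, s ∉ p ∧ s • x = 0 := by
  set g := LocalizedModule.mkLinearMap p.primeCompl M with hg
  have h1 : Injective (f.lTensor (LocalizedModule p.primeCompl M)) :=
    Module.Flat.lTensor_preserves_injective_linearMap f hf
  have h2 : g.rTensor J x = 0 := by
    apply h1
    rw [map_zero, ← LinearMap.comp_apply, LinearMap.lTensor_comp_rTensor,
      ← LinearMap.rTensor_comp_lTensor, LinearMap.comp_apply, hx, map_zero]
  haveI : IsLocalizedModule p.primeCompl (AlgebraTensorModule.rTensor A J g) := inferInstance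
  have h3 : AlgebraTensorModule.rTensor A J g x = AlgebraTensorModule.rTensor A J g 0 := by
    rw [map_zero]; exact h2
  obtain ⟨c, hc⟩ := IsLocalizedModule.exists_of_eq (S := p.primeCompl) h3
  refine ⟨c.1, c.2, ?_⟩
  rw [smul_zero] at hc
  exact hc

end

section
variable {A : Type u} [CommRing A]

theorem main (I : Ideal A)
    (U : Set (PrimeSpectrum A)) (hUc : IsCompact U)
    (M : Type u) [AddCommGroup M] [Module A M]
    [Module.Flat (A ⧸ I) ((A ⧸ I) ⊗[A] M)]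
    (hflat : ∀ p ∈ U, Module.Flat A (LocalizedModule p.asIdeal.primeCompl M))
    (I₂ : Ideal A) (hI₂ : ∀ x : A, x ∈ I₂ ↔ x ∈ I ∧ ∀ p ∈ U, ∃ s : A, s ∉ p.asIdeal ∧ s * x ∈ I ^ 2) :
    Module.Flat (A ⧸ I₂) ((A ⧸ I₂) ⊗[A] M) := by
  classical
  have hle : I₂ ≤ I := fun x hx => ((hI₂ x).mp hx).1
  have hsq : I ^ 2 ≤ I₂ := fun x hx =>
    (hI₂ x).mpr ⟨Ideal.pow_le_self two_ne_zero hx, fun p _ => ⟨1, fun h1 => p.2.ne_top ((Ideal.eq_top_iff_one _).mpr h1), by rwa [one_mul]⟩⟩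
  set J : Ideal (A ⧸ I₂) := I.map (Ideal.Quotient.mk I₂) with hJdef
  have hJ2 : J ^ 2 = ⊥ := by
    rw [hJdef, ← Ideal.map_pow, eq_bot_iff]
    calc Ideal.map (Ideal.Quotient.mk I₂) (I ^ 2) ≤ Ideal.map (Ideal.Quotient.mk I₂) I₂ :=
          Ideal.map_mono hsq
      _ = ⊥ := Ideal.map_quotient_self I₂
  have hJnil : IsNilpotent J := ⟨2, hJ2⟩
  -- `J` is an `A ⧸ I`-module
  have htors : Module.IsTorsionBySet A ↥J (I : Set A) := by
    intro y a
    obtain ⟨a, ha⟩ := a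
    apply Subtype.ext
    have h1 : (Ideal.Quotient.mk I₂ a) * (y : A ⧸ I₂) ∈ J ^ 2 := by
      rw [pow_two]
      exact Ideal.mul_mem_mul (Ideal.mem_map_of_mem _ ha) y.2
    rw [hJ2] at h1
    simpa [Algebra.smul_def] using h1
  letI : Module (A ⧸ I) ↥J := htors.module
  haveI : IsScalarTower A (A ⧸ I) ↥J := htors.isScalarTower
  -- the instance needed for the nilpotent criterion
  have hmapI : ∀ a ∈ I, algebraMap A ((A ⧸ I₂) ⧸ J) a = 0 := by
    intro a ha
    have : algebraMap A ((A ⧸ I₂) ⧸ J) a = Ideal.Quotient.mk J (Ideal.Quotient.mk I₂ a) := rfl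
    rw [this, Ideal.Quotient.eq_zero_iff_mem]
    exact Ideal.mem_map_of_mem _ ha
  letI : Algebra (A ⧸ I) ((A ⧸ I₂) ⧸ J) :=
    (Ideal.Quotient.lift I (algebraMap A ((A ⧸ I₂) ⧸ J)) hmapI).toAlgebra
  haveI : IsScalarTower A (A ⧸ I) ((A ⧸ I₂) ⧸ J) := IsScalarTower.of_algebraMap_eq (fun x => rfl)
  haveI : Module.Flat ((A ⧸ I₂) ⧸ J) (((A ⧸ I₂) ⧸ J) ⊗[A ⧸ I₂] ((A ⧸ I₂) ⊗[A] M)) := by
    let e2 := AlgebraTensorModule.cancelBaseChange A (A ⧸ I) ((A ⧸ I₂) ⧸ J) ((A ⧸ I₂) ⧸ J) M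
    let e3 := AlgebraTensorModule.cancelBaseChange A (A ⧸ I₂) ((A ⧸ I₂) ⧸ J) ((A ⧸ I₂) ⧸ J) M
    exact Module.Flat.of_linearEquiv (e3 ≪≫ₗ e2.symm)
  refine flat_of_isNilpotent (R := A ⧸ I₂) J ((A ⧸ I₂) ⊗[A] M) ?_ hJnil
  -- reduce to `A`-tensor products
  suffices hmain : Injective ((J.subtype.restrictScalars A).lTensor M) by
    have hr : Injective ((J.subtype.restrictScalars A).rTensor M) :=
      (LinearMap.lTensor_inj_iff_rTensor_inj M _).mp hmain
    intro x y hxy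
    apply (AlgebraTensorModule.cancelBaseChange A (A ⧸ I₂) (A ⧸ I₂) J M).injective
    apply hr
    rw [cancelBaseChange_rTensor, cancelBaseChange_rTensor, hxy]
  rw [injective_iff_map_eq_zero]
  intro x hx
  -- local annihilators
  have hloc : ∀ p ∈ U, ∃ s : A, s ∉ p.asIdeal ∧ s • x = 0 := by
    intro p hp
    haveI := hflat p hp
    exact exists_smul_eq_zero p.asIdeal M (J.subtype.restrictScalars A)
      (by intro a b hab; exact Subtype.ext hab) x hx
  choose! s hs1 hs2 using hloc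
  obtain ⟨b, hbU, hbfin, hcover⟩ := hUc.elim_finite_subcover_image
    (b := U) (c := fun p => (PrimeSpectrum.basicOpen (s p) : Set (PrimeSpectrum A)))
    (fun p _ => (PrimeSpectrum.basicOpen (s p)).isOpen)
    (fun p hp => Set.mem_iUnion₂.mpr ⟨p, hp, hs1 p hp⟩)
  set t : Finset (PrimeSpectrum A) := hbfin.toFinset with ht
  -- the map θ
  let θ' : ↥J →ₗ[A ⧸ I] (↥t → ↥J) :=
    LinearMap.pi (fun k => (Ideal.Quotient.mk I (s k.1)) • (LinearMap.id : ↥J →ₗ[A ⧸ I] ↥J))
  have hθapp : ∀ (y : ↥J) (k : ↥t), θ' y k = s k.1 • y := by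
    intro y k
    show (Ideal.Quotient.mk I (s k.1)) • y = s k.1 • y
    rw [← algebraMap_smul (A ⧸ I) (s k.1) y]
    rfl
  have hθinj : Injective θ' := by
    rw [injective_iff_map_eq_zero]
    intro y hy
    obtain ⟨y, hyJ⟩ := y
    obtain ⟨a, haI, rfl⟩ := (Ideal.mem_map_iff_of_surjective _ Ideal.Quotient.mk_surjective).mp hyJ
    apply Subtype.ext
    show Ideal.Quotient.mk I₂ a = 0
    rw [Ideal.Quotient.eq_zero_iff_mem, hI₂]
    refine ⟨haI, fun p hp => ?_⟩
    obtain ⟨q, hqb, hq⟩ := Set.mem_iUnion₂.mp (hcover hp)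
    have hqt : q ∈ t := by rw [ht]; exact hbfin.mem_toFinset.mpr hqb
    have h1 : θ' ⟨Ideal.Quotient.mk I₂ a, hyJ⟩ ⟨q, hqt⟩ = 0 := by rw [hy]; rfl
    rw [hθapp] at h1
    have h2 : s q * a ∈ I₂ := by
      have := congrArg Subtype.val h1
      rw [← Ideal.Quotient.eq_zero_iff_mem]
      simpa [Algebra.smul_def] using this
    obtain ⟨s', hs', hs'2⟩ := ((hI₂ _).mp h2).2 p hp
    refine ⟨s' * s q, ?_, by rwa [mul_assoc]⟩
    intro hmem
    rcases p.2.mem_or_mem hmem with h | h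
    · exact hs' h
    · exact hq h
  have hθM : Injective ((θ'.restrictScalars A).lTensor M) :=
    (LinearMap.lTensor_inj_iff_rTensor_inj M _).mpr
      (rTensor_injective_of_torsion I M θ' hθinj)
  apply hθM
  rw [map_zero]
  apply (TensorProduct.piRight A A M (fun _ : ↥t => ↥J)).injective
  rw [map_zero]
  funext k
  have hcomp : (LinearMap.proj k) ∘ₗ (TensorProduct.piRight A A M (fun _ : ↥t => ↥J)).toLinearMap ∘ₗ
      ((θ'.restrictScalars A).lTensor M) = s k.1 • (LinearMap.id : M ⊗[A] ↥J →ₗ[A] M ⊗[A] ↥J) := by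
    apply TensorProduct.ext'
    intro m y
    simp only [LinearMap.coe_comp, LinearEquiv.coe_coe, comp_apply, LinearMap.lTensor_tmul,
      LinearMap.coe_restrictScalars, TensorProduct.piRight_apply, TensorProduct.piRightHom_tmul,
      LinearMap.coe_proj, eval, LinearMap.smul_apply, LinearMap.id_coe, id_eq]
    rw [hθapp, TensorProduct.tmul_smul]
  have := LinearMap.congr_fun hcomp x
  simp only [LinearMap.coe_comp, LinearEquiv.coe_coe, comp_apply, LinearMap.coe_proj, eval,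
    LinearMap.smul_apply, LinearMap.id_coe, id_eq] at this
  rw [this, Pi.zero_apply]
  exact hs2 k.1 (hbU (hbfin.mem_toFinset.mp k.2))

end




/-- Let A be a local ring, I an ideal, U a quasi-compact open subset of Spec A and M an A-module such
that M/IM is flat over A/I and M_p is flat over A for all p in U. Let I₂ be the kernel of I → Γ(U,
I/I²), that is the set of x ∈ I such that for every p ∈ U some s outside p has s·x ∈ I². Then M/I₂M
is flat over A/I₂. -/
theorem result {A : Type u} [CommRing A] [IsLocalRing A] (I : Ideal A)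
    (U : Set (PrimeSpectrum A)) (hU : IsOpen U) (hUc : IsCompact U)
    (M : Type u) [AddCommGroup M] [Module A M]
    [Module.Flat (A ⧸ I) (M ⧸ (I • ⊤ : Submodule A M))]
    (hflat : ∀ p ∈ U, Module.Flat A (LocalizedModule p.asIdeal.primeCompl M))
    (I₂ : Ideal A) (hI₂ : ∀ x : A, x ∈ I₂ ↔ x ∈ I ∧ ∀ p ∈ U, ∃ s : A, s ∉ p.asIdeal ∧ s * x ∈ I ^ 2) :
    Module.Flat (A ⧸ I₂) (M ⧸ (I₂ • ⊤ : Submodule A M)) := by
  haveI : Module.Flat (A ⧸ I) ((A ⧸ I) ⊗[A] M) :=
    flat_of_linearEquiv_of_surjective (R := A) (R₁ := A ⧸ I) (R₂ := A ⧸ I)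
      Ideal.Quotient.mk_surjective Ideal.Quotient.mk_surjective le_rfl
      (TensorProduct.quotTensorEquivQuotSMul M I).symm
  haveI : Module.Flat (A ⧸ I₂) ((A ⧸ I₂) ⊗[A] M) := main I U hUc M hflat I₂ hI₂
  exact flat_of_linearEquiv_of_surjective (R := A) (R₁ := A ⧸ I₂) (R₂ := A ⧸ I₂)
      Ideal.Quotient.mk_surjective Ideal.Quotient.mk_surjective le_rfl
      (TensorProduct.quotTensorEquivQuotSMul M I₂)

end Groth.Agent.S1267
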