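import Groth.Statements.S0303
import Mathlib

set_option autoImplicit false
universe u v
open InjHull

namespace Groth.Agent.S0303

/-- If M → E is an injective hull and M → I is any embedding into an injective module, then E embeds
into I compatibly with M and its image is a direct summand of I. -/
theorem result (R : Type u) [CommRing R] (M : Type u) [AddCommGroup M] [Module R M] (E : Type u) [AddCommGroup E] [Module R E] (I : Type u) [AddCommGroup I] [Module R I] (f : M →ₗ[R] E) (hf : InjHull.IsInjectiveHull f) (i : M →ₗ[R] I) (hi : Function.Injective i) (hI : Module.Injective R I) : ∃ α : E →ₗ[R] I, Function.Injective α ∧ α ∘ₗ f = i ∧ ∃ I' : Submodule R I, IsCompl (LinearMap.range α) I' := by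
  obtain ⟨α, hα⟩ := hI.out f hf.injective i
  have hαinj : Function.Injective α := by
    rw [← LinearMap.ker_eq_bot]
    by_contra hne
    apply hf.essential (LinearMap.ker α) hne
    rw [eq_bot_iff]
    rintro y ⟨hy1, ⟨m, rfl⟩⟩
    have h1 : i m = 0 := by rw [← hα]; exact hy1
    have h2 : m = 0 := hi (h1.trans (map_zero i).symm)
    rw [h2, map_zero]
    exact Submodule.zero_mem _
  obtain ⟨r, hr⟩ := hf.isInjective.out α hαinj LinearMap.id
  refine ⟨α, hαinj, LinearMap.ext hα, LinearMap.ker r, ?_⟩
  constructor
  · rw [Submodule.disjoint_def]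
    rintro y ⟨e, rfl⟩ hy
    have h1 : r (α e) = e := hr e
    rw [LinearMap.mem_ker] at hy
    rw [← h1, hy, map_zero]
  · rw [codisjoint_iff, eq_top_iff]
    intro y _
    have h1 : y = α (r y) + (y - α (r y)) := by abel
    rw [h1]
    refine Submodule.add_mem_sup ⟨r y, rfl⟩ ?_
    rw [LinearMap.mem_ker, map_sub]
    have h2 : r (α (r y)) = r y := hr (r y)
    rw [h2, sub_self]

end Groth.Agent.S0303
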