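import Groth.Statements.S0304
import Groth.Agent.S0299
import Groth.Agent.S0303
import Mathlib

set_option autoImplicit false
universe u v
open InjHull

namespace Groth.Agent.S0304

/-- Let R be a commutative ring and E an indecomposable injective R-module. Then any two nonzero
submodules of E have nonzero intersection, and the set of elements r ∈ R such that r·x = 0 for some
nonzero x ∈ E is a prime ideal of R. -/
theorem result (R : Type u) [CommRing R] (E : Type u) [AddCommGroup E] [Module R E] (hE : InjHull.IsIndecomposable R E) (hinj : Module.Injective R E) : (∀ N N' : Submodule R E, N ≠ ⊥ → N' ≠ ⊥ → N ⊓ N' ≠ ⊥) ∧ ∃ p : Ideal R, p.IsPrime ∧ (p : Set R) = {r : R | ∃ x : E, x ≠ 0 ∧ r • x = 0} := by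
  obtain ⟨hnt, hind⟩ := hE
  have part1 : ∀ N N' : Submodule R E, N ≠ ⊥ → N' ≠ ⊥ → N ⊓ N' ≠ ⊥ := by
    intro N N' hN hN'
    obtain ⟨H, _, _, h, hh⟩ := Groth.Agent.S0299.result R N
    obtain ⟨α, hαinj, hαh, I', hcompl⟩ := Groth.Agent.S0303.result R N H E h hh N.subtype
      N.injective_subtype hinj
    rcases hind _ _ hcompl with h0 | h0
    · exfalso
      apply hN
      rw [eq_bot_iff]
      intro x hx
      have h1 : α (h ⟨x, hx⟩) = x := LinearMap.congr_fun hαh ⟨x, hx⟩
      have hmem : x ∈ LinearMap.range α := ⟨_, h1⟩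
      rw [h0] at hmem
      exact hmem
    · have htop : LinearMap.range α = ⊤ := by
        have := hcompl.sup_eq_top
        rwa [h0, sup_bot_eq] at this
      have h1 : N'.comap α ≠ ⊥ := by
        intro hb
        apply hN'
        rw [eq_bot_iff]
        intro y hy
        obtain ⟨z, rfl⟩ := (LinearMap.range_eq_top.mp htop) y
        have hz : z ∈ N'.comap α := hy
        rw [hb, Submodule.mem_bot] at hz
        rw [hz, map_zero]
        exact Submodule.zero_mem _
      have h2 := hh.essential _ h1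
      obtain ⟨z, hz, hz0⟩ := Submodule.exists_mem_ne_zero_of_ne_bot h2
      obtain ⟨hz1, ⟨n, rfl⟩⟩ := hz
      intro hbot
      have hαn : α (h n) = (n : E) := LinearMap.congr_fun hαh n
      have hmem : (n : E) ∈ N ⊓ N' := ⟨n.2, by rw [← hαn]; exact hz1⟩
      rw [hbot, Submodule.mem_bot] at hmem
      apply hz0
      have hn0 : n = 0 := Subtype.ext hmem
      rw [hn0, map_zero]
  refine ⟨part1, ?_⟩
  let p : Ideal R :=
    { carrier := {r | ∃ x : E, x ≠ 0 ∧ r • x = 0}
      add_mem' := by
        rintro r s ⟨x, hx0, hrx⟩ ⟨y, hy0, hsy⟩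
        have h1 : Submodule.span R {x} ⊓ Submodule.span R {y} ≠ ⊥ :=
          part1 _ _ (by rwa [Ne, Submodule.span_singleton_eq_bot])
            (by rwa [Ne, Submodule.span_singleton_eq_bot])
        obtain ⟨z, hz, hz0⟩ := Submodule.exists_mem_ne_zero_of_ne_bot h1
        obtain ⟨a, ha⟩ := Submodule.mem_span_singleton.mp hz.1
        obtain ⟨b, hb⟩ := Submodule.mem_span_singleton.mp hz.2
        refine ⟨z, hz0, ?_⟩
        rw [add_smul]
        nth_rewrite 1 [← ha]
        rw [← hb, smul_comm r a x, smul_comm s b y, hrx, hsy, smul_zero, smul_zero, add_zero]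
      zero_mem' := by
        obtain ⟨x, hx⟩ := exists_ne (0 : E)
        exact ⟨x, hx, zero_smul R x⟩
      smul_mem' := by
        rintro c r ⟨x, hx0, hrx⟩
        exact ⟨x, hx0, by rw [smul_eq_mul, mul_smul, hrx, smul_zero]⟩ }
  refine ⟨p, ⟨?_, ?_⟩, rfl⟩
  · intro htop
    have h1 : (1 : R) ∈ p := by rw [htop]; trivial
    obtain ⟨x, hx0, hx⟩ := h1
    rw [one_smul] at hx
    exact hx0 hx
  · rintro a b ⟨x, hx0, hx⟩
    by_cases hb : b • x = 0
    · exact Or.inr ⟨x, hx0, hb⟩
    · exact Or.inl ⟨b • x, hb, by rw [← mul_smul]; exact hx⟩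

end Groth.Agent.S0304
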