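import Groth.Statements.S0300
import Mathlib

set_option autoImplicit false
universe u v
open InjHull

namespace Groth.Agent.S0300

/-- Over a Noetherian ring, injectivity of modules is preserved under arbitrary direct sums. -/
theorem result (R : Type u) [CommRing R] [IsNoetherianRing R] {ι : Type u} (E : ι → Type u) [∀ i, AddCommGroup (E i)] [∀ i, Module R (E i)] (hE : ∀ i, Module.Injective R (E i)) : Module.Injective R (DirectSum ι E) := by
  classical
  apply Module.Baer.injective
  intro I g
  obtain ⟨G, hG⟩ := (isNoetherianRing_iff_ideal_fg R).mp inferInstance I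
  have hGI : ∀ a ∈ G, a ∈ I := fun a ha => hG ▸ Submodule.subset_span ha
  let s : Finset ι := G.biUnion (fun a => if ha : a ∈ I then (g ⟨a, ha⟩).support else ∅)
  have hs : ∀ (x : I) (j : ι), j ∉ s → DirectSum.component R ι E j (g x) = 0 := by
    intro x j hj
    let K : Submodule R I := LinearMap.ker ((DirectSum.component R ι E j) ∘ₗ g)
    have hK : Submodule.span R (G : Set R) ≤ K.map I.subtype := by
      refine Submodule.span_le.mpr (fun a ha => ⟨⟨a, hGI a ha⟩, ?_, rfl⟩)
      change DirectSum.component R ι E j (g ⟨a, hGI a ha⟩) = 0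
      rw [← DirectSum.apply_eq_component, ← DFinsupp.notMem_support_iff]
      intro hmem
      apply hj
      rw [Finset.mem_biUnion]
      exact ⟨a, ha, by rw [dif_pos (hGI a ha)]; exact hmem⟩
    have hx : x.1 ∈ Submodule.span R (G : Set R) := by
      change x.1 ∈ Ideal.span (G : Set R)
      rw [hG]; exact x.2
    obtain ⟨y, hy, hyx⟩ := hK hx
    have : y = x := Subtype.ext hyx
    rw [← this]
    exact hy
  have hBaer : ∀ i, Module.Baer R (E i) := fun i => Module.Baer.of_injective (hE i)
  choose g' hg' using fun i => hBaer i I ((DirectSum.component R ι E i) ∘ₗ g)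
  refine ⟨∑ i ∈ s, (DirectSum.lof R ι E i) ∘ₗ g' i, fun x hx => ?_⟩
  apply DirectSum.ext_component R
  intro j
  rw [LinearMap.sum_apply, map_sum]
  simp only [LinearMap.comp_apply]
  by_cases hj : j ∈ s
  · rw [Finset.sum_eq_single j]
    · rw [DirectSum.component.lof_self]
      exact hg' j x hx
    · intro i _ hij
      rw [DirectSum.component.of, dif_neg hij]
    · intro h
      exact absurd hj h
  · rw [hs ⟨x, hx⟩ j hj]
    apply Finset.sum_eq_zero
    intro i hi
    have hij : i ≠ j := fun h => hj (h ▸ hi)
    rw [DirectSum.component.of, dif_neg hij]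

end Groth.Agent.S0300
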