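import Groth.Statements.S0305
import Mathlib

set_option autoImplicit false
universe u v
open InjHull

namespace Groth.Agent.S0305

/-- Let R be a commutative ring, p a prime ideal, and E an injective hull of R/p. Then E is
indecomposable, and E is also an injective hull of the residue field κ(p). -/
theorem result (R : Type u) [CommRing R] (p : Ideal R) [p.IsPrime] (E : Type u) [AddCommGroup E] [Module R E] (f : (R ⧸ p) →ₗ[R] E) (hf : InjHull.IsInjectiveHull f) : InjHull.IsIndecomposable R E ∧ ∃ g : p.ResidueField →ₗ[R] E, InjHull.IsInjectiveHull g := by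
  have hdom : IsDomain (R ⧸ p) := Ideal.Quotient.isDomain p
  have hfmul : ∀ (r : R) (a : R ⧸ p), r • f a = f (Ideal.Quotient.mk p r * a) := by
    intro r a
    rw [← map_smul]
    rfl
  refine ⟨⟨?_, ?_⟩, ?_⟩
  · -- nontrivial
    refine ⟨⟨f 1, f 0, fun h => ?_⟩⟩
    exact one_ne_zero (hf.injective h)
  · -- indecomposable
    intro N N' hc
    by_contra hne
    push Not at hne
    obtain ⟨hN, hN'⟩ := hne
    obtain ⟨y, hy, hy0⟩ := Submodule.exists_mem_ne_zero_of_ne_bot (hf.essential N hN)
    obtain ⟨y', hy', hy0'⟩ := Submodule.exists_mem_ne_zero_of_ne_bot (hf.essential N' hN')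
    obtain ⟨hyN, ⟨a, rfl⟩⟩ := hy
    obtain ⟨hyN', ⟨b, rfl⟩⟩ := hy'
    obtain ⟨r, rfl⟩ := Ideal.Quotient.mk_surjective b
    obtain ⟨s, rfl⟩ := Ideal.Quotient.mk_surjective a
    have h1 : f (Ideal.Quotient.mk p r * Ideal.Quotient.mk p s) ∈ N := by
      rw [← hfmul]
      exact N.smul_mem r hyN
    have h2 : f (Ideal.Quotient.mk p r * Ideal.Quotient.mk p s) ∈ N' := by
      rw [mul_comm, ← hfmul]
      exact N'.smul_mem s hyN'
    have h3 : f (Ideal.Quotient.mk p r * Ideal.Quotient.mk p s) = 0 := by
      have := (Submodule.disjoint_def.mp hc.disjoint) _ h1 h2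
      exact this
    have h4 : Ideal.Quotient.mk p r * Ideal.Quotient.mk p s = 0 :=
      hf.injective (h3.trans (map_zero f).symm)
    rcases mul_eq_zero.mp h4 with h5 | h5
    · exact hy0' (by rw [h5, map_zero])
    · exact hy0 (by rw [h5, map_zero])
  · -- hull of the residue field
    let ι : (R ⧸ p) →ₗ[R] p.ResidueField :=
      (IsScalarTower.toAlgHom R (R ⧸ p) p.ResidueField).toLinearMap
    have hι : ∀ a, ι a = algebraMap (R ⧸ p) p.ResidueField a := fun a => rfl
    have hιinj : Function.Injective ι := Ideal.injective_algebraMap_quotient_residueField p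
    obtain ⟨g, hg⟩ := hf.isInjective.out ι hιinj f
    -- every nonzero element of the residue field has a nonzero multiple in R/p
    have hess : ∀ y : p.ResidueField, y ≠ 0 → ∃ (r : R) (a : R ⧸ p), a ≠ 0 ∧ r • y = ι a := by
      intro y hy
      obtain ⟨a, b, hb, rfl⟩ := IsFractionRing.div_surjective (A := R ⧸ p) y
      obtain ⟨r, rfl⟩ := Ideal.Quotient.mk_surjective b
      have hb0 : algebraMap (R ⧸ p) p.ResidueField (Ideal.Quotient.mk p r) ≠ 0 := by
        intro h0
        have h0' : ι (Ideal.Quotient.mk p r) = ι 0 := h0.trans (map_zero ι).symm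
        exact (nonZeroDivisors.ne_zero hb) (hιinj h0')
      refine ⟨r, a, ?_, ?_⟩
      · rintro rfl
        apply hy
        rw [map_zero, zero_div]
      · rw [hι, Algebra.smul_def, IsScalarTower.algebraMap_apply R (R ⧸ p) p.ResidueField,
          Ideal.Quotient.algebraMap_eq, mul_div_cancel₀ _ hb0]
    refine ⟨g, ⟨⟨?_, ?_⟩, hf.isInjective⟩⟩
    · rw [injective_iff_map_eq_zero]
      intro y hy
      by_contra hy0
      obtain ⟨r, a, ha0, hra⟩ := hess y hy0
      have h1 : f a = 0 := by
        rw [← hg, ← hra, map_smul, hy, smul_zero]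
      exact ha0 (hf.injective (h1.trans (map_zero f).symm))
    · intro N hN
      have h1 := hf.essential N hN
      refine ne_bot_of_le_ne_bot h1 (inf_le_inf_left _ ?_)
      rintro _ ⟨a, rfl⟩
      exact ⟨ι a, hg a⟩

end Groth.Agent.S0305
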