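import Groth.Statements.S0307
import Mathlib
import Groth.Agent.S0299
import Groth.Agent.S0300
import Groth.Agent.S0303
import Groth.Agent.S0305

set_option autoImplicit false
universe u v
open InjHull

namespace Groth.Agent.S0307

set_option linter.style.haveILetI false

section lattice

theorem sSupIndep_insert' {α : Type*} [CompleteLattice α] [IsModularLattice α] {s : Set α} {a : α}
    (hs : sSupIndep s) (ha : Disjoint a (sSup s)) : sSupIndep (insert a s) := by
  intro x hx
  rcases eq_or_ne x a with rfl | hxa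
  · refine ha.mono_right (sSup_le_sSup ?_)
    intro y hy
    rcases hy.1 with rfl | hys
    · exact absurd rfl hy.2
    · exact hys
  · have hxs : x ∈ s := by
      rcases hx with rfl | h
      · exact absurd rfl hxa
      · exact h
    have h1 : insert a s \ {x} = insert a (s \ {x}) := by
      ext y
      simp only [Set.mem_sdiff, Set.mem_insert_iff, Set.mem_singleton_iff]
      constructor
      · rintro ⟨rfl | h, h'⟩
        · exact Or.inl rfl
        · exact Or.inr ⟨h, h'⟩
      · rintro (rfl | ⟨h, h'⟩)
        · exact ⟨Or.inl rfl, fun h => hxa h.symm⟩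
        · exact ⟨Or.inr h, h'⟩
    rw [h1, sSup_insert, sup_comm]
    apply (hs hxs).disjoint_sup_right_of_disjoint_sup_left
    have h2 : x ⊔ sSup (s \ {x}) = sSup s := by
      rw [← sSup_insert, Set.insert_sdiff_singleton, Set.insert_eq_of_mem hxs]
    rw [h2]
    exact ha.symm

end lattice

section mod
variable {R : Type u} [CommRing R]

theorem injective_of_equiv {M N : Type u} [AddCommGroup M] [Module R M] [AddCommGroup N]
    [Module R N] (e : M ≃ₗ[R] N) (h : Module.Injective R M) : Module.Injective R N :=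
  (Module.Baer.of_equiv e (Module.Baer.of_injective h)).injective

theorem indecomposable_of_equiv {M N : Type u} [AddCommGroup M] [Module R M] [AddCommGroup N]
    [Module R N] (e : M ≃ₗ[R] N) (h : InjHull.IsIndecomposable R M) :
    InjHull.IsIndecomposable R N := by
  obtain ⟨hnt, hdec⟩ := h
  refine ⟨e.symm.toEquiv.nontrivial, ?_⟩
  intro P P' hPP'
  have hc : IsCompl (P.comap e.toLinearMap) (P'.comap e.toLinearMap) := by
    constructor
    · rw [disjoint_iff, ← Submodule.comap_inf, hPP'.inf_eq_bot]
      ext x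
      simp
    · rw [codisjoint_iff, eq_top_iff]
      intro x _
      have hx : e x ∈ P ⊔ P' := by rw [hPP'.sup_eq_top]; trivial
      obtain ⟨p, hp, p', hp', hpp'⟩ := Submodule.mem_sup.1 hx
      refine Submodule.mem_sup.2 ⟨e.symm p, ?_, e.symm p', ?_, ?_⟩
      · simpa using hp
      · simpa using hp'
      · rw [← map_add, hpp', LinearEquiv.symm_apply_apply]
  have hbot : ∀ Q : Submodule R N, Q.comap e.toLinearMap = ⊥ → Q = ⊥ := by
    intro Q hQ
    rw [eq_bot_iff]
    intro y hy
    have : e.symm y ∈ Q.comap e.toLinearMap := by simpa using hy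
    rw [hQ] at this
    have h0 : e.symm y = 0 := this
    rw [Submodule.mem_bot, ← e.apply_symm_apply y, h0, map_zero]
  rcases hdec _ _ hc with h1 | h1
  · exact Or.inl (hbot P h1)
  · exact Or.inr (hbot P' h1)

variable [IsNoetherianRing R] {I : Type u} [AddCommGroup I] [Module R I]

/-- an independent family of injective submodules has injective supremum -/
theorem injective_sSup (S : Set (Submodule R I)) (hS : sSupIndep S)
    (hinj : ∀ E ∈ S, Module.Injective R ↥E) : Module.Injective R ↥(sSup S) := by
  classical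
  have hind : iSupIndep ((↑) : S → Submodule R I) := (sSupIndep_iff S).1 hS
  let Φ : (Π₀ i : S, ↥(i.1)) →ₗ[R] I := DFinsupp.lsum ℕ (fun i : S => (i.1).subtype)
  have hΦ : Function.Injective Φ := hind.dfinsupp_lsum_injective
  have hrange : LinearMap.range Φ = sSup S := by
    rw [sSup_eq_iSup']
    exact (Submodule.iSup_eq_range_dfinsupp_lsum _).symm
  have h1 : Module.Injective R (DirectSum S (fun i : S => ↥(i.1))) :=
    Groth.Agent.S0300.result R (fun i : S => ↥(i.1)) (fun i => hinj i.1 i.2)
  have e : (Π₀ i : S, ↥(i.1)) ≃ₗ[R] ↥(sSup S) :=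
    (LinearEquiv.ofInjective Φ hΦ).trans (LinearEquiv.ofEq _ _ hrange)
  exact injective_of_equiv e h1

end mod

theorem main (R : Type u) [CommRing R] [IsNoetherianRing R] (I : Type u) [AddCommGroup I]
    [Module R I] (hI : Module.Injective R I) :
    ∃ (S : Set (Submodule R I)), sSupIndep S ∧ sSup S = ⊤ ∧
      ∀ E ∈ S, InjHull.IsIndecomposable R ↥E ∧ Module.Injective R ↥E := by
  classical
  have zorn := zorn_subset
    (S := {s : Set (Submodule R I) | sSupIndep s ∧
      ∀ E ∈ s, InjHull.IsIndecomposable R ↥E ∧ Module.Injective R ↥E})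
    fun c hc1 hc2 =>
      ⟨⋃₀ c, ⟨iSupIndep_sUnion_of_directed hc2.directedOn fun s hs => (hc1 hs).1,
          fun a ⟨s, sc, as⟩ => (hc1 sc).2 a as⟩,
        fun _ => Set.subset_sUnion_of_mem⟩
  obtain ⟨S, ⟨hSind, hSgood⟩, hSmax⟩ := zorn
  refine ⟨S, hSind, ?_, hSgood⟩
  -- sSup S is injective, hence a direct summand
  have hinjS : Module.Injective R ↥(sSup S) := injective_sSup S hSind (fun E hE => (hSgood E hE).2)
  obtain ⟨r, hr⟩ := Module.Injective.extension_property R ↥(sSup S) ↥(sSup S) I (sSup S).subtype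
    (Submodule.injective_subtype _) (LinearMap.id : ↥(sSup S) →ₗ[R] ↥(sSup S))
  have hcompl : IsCompl (sSup S) (LinearMap.ker r) :=
    LinearMap.isCompl_of_proj (fun x => LinearMap.congr_fun hr x)
  set I' := LinearMap.ker r with hI'
  by_contra htop
  have hI'ne : I' ≠ ⊥ := by
    intro h
    apply htop
    have := hcompl.sup_eq_top
    rwa [h, sup_bot_eq] at this
  -- an associated prime of I'
  haveI : Nontrivial ↥I' := Submodule.nontrivial_iff_ne_bot.2 hI'ne
  obtain ⟨p, hp⟩ := associatedPrimes.nonempty R ↥I'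
  obtain ⟨hprime, x, hx⟩ := (isAssociatedPrime_iff).1 hp
  haveI := hprime
  -- the embedding R/p → I'
  have hle : p ≤ LinearMap.ker (LinearMap.toSpanSingleton R ↥I' x) := by
    intro a ha
    rw [hx, Submodule.mem_colon_singleton, Submodule.mem_bot] at ha
    rw [LinearMap.mem_ker, LinearMap.toSpanSingleton_apply]
    exact ha
  let j : (R ⧸ p) →ₗ[R] ↥I' := Submodule.liftQ p (LinearMap.toSpanSingleton R ↥I' x) hle
  have hj : Function.Injective j := by
    rw [← LinearMap.ker_eq_bot, Submodule.ker_liftQ_eq_bot]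
    intro a ha
    rw [LinearMap.mem_ker, LinearMap.toSpanSingleton_apply] at ha
    rw [hx, Submodule.mem_colon_singleton, Submodule.mem_bot]
    exact ha
  -- the injective hull
  obtain ⟨E, _, _, f, hf⟩ := Groth.Agent.S0299.result R (R ⧸ p)
  have hE := (Groth.Agent.S0305.result R p E f hf).1
  let i : (R ⧸ p) →ₗ[R] I := I'.subtype ∘ₗ j
  have hi : Function.Injective i := (Submodule.injective_subtype _).comp hj
  obtain ⟨α, hα, hαf, -⟩ := Groth.Agent.S0303.result R (R ⧸ p) E I f hf i hi hI
  let E₁ : Submodule R I := LinearMap.range α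
  have eE : E ≃ₗ[R] ↥E₁ := LinearEquiv.ofInjective α hα
  have hE₁ : InjHull.IsIndecomposable R ↥E₁ ∧ Module.Injective R ↥E₁ :=
    ⟨indecomposable_of_equiv eE hE, injective_of_equiv eE hf.isInjective⟩
  -- disjointness
  have hdisj : Disjoint E₁ (sSup S) := by
    rw [disjoint_iff]
    by_contra hne
    have hN : (sSup S).comap α ≠ ⊥ := by
      intro h0
      apply hne
      rw [eq_bot_iff]
      rintro y ⟨⟨e, rfl⟩, hy⟩
      have : e ∈ (sSup S).comap α := hy
      rw [h0] at this
      have he : e = 0 := this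
      rw [he, map_zero]; exact Submodule.zero_mem _
    have hess := hf.essential _ hN
    apply hess
    rw [eq_bot_iff]
    rintro e ⟨he1, ⟨q, rfl⟩⟩
    have h1 : α (f q) ∈ sSup S := he1
    have h2 : α (f q) = i q := LinearMap.congr_fun hαf q
    have h3 : i q ∈ I' := (j q).2
    have h4 : i q ∈ sSup S ⊓ I' := ⟨h2 ▸ h1, h3⟩
    rw [hcompl.inf_eq_bot] at h4
    have h5 : i q = 0 := h4
    have h6 : q = 0 := hi (by rw [h5, map_zero])
    rw [h6, map_zero]; exact Submodule.zero_mem _
  -- maximality
  have hgood : insert E₁ S ∈ {s : Set (Submodule R I) | sSupIndep s ∧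
      ∀ E ∈ s, InjHull.IsIndecomposable R ↥E ∧ Module.Injective R ↥E} := by
    refine ⟨sSupIndep_insert' hSind hdisj, ?_⟩
    intro F hF
    rcases hF with rfl | hF
    · exact hE₁
    · exact hSgood F hF
  have hsub : insert E₁ S ⊆ S := hSmax hgood (Set.subset_insert _ _)
  have hmem : E₁ ∈ S := hsub (Set.mem_insert _ _)
  have hle : E₁ ≤ sSup S := le_sSup hmem
  have hbot : E₁ = ⊥ := by
    rw [eq_bot_iff]
    exact hdisj le_rfl hle
  have hnt : Nontrivial ↥E₁ := hE₁.1.1
  exact (Submodule.nontrivial_iff_ne_bot.1 hnt) hbot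

open Classical in
theorem main2 (R : Type u) [CommRing R] [IsNoetherianRing R] (I : Type u) [AddCommGroup I] [Module R I] (hI : Module.Injective R I) : ∃ (ι : Type u) (E : ι → Submodule R I), DirectSum.IsInternal E ∧ ∀ i, InjHull.IsIndecomposable R ↥(E i) ∧ Module.Injective R ↥(E i) := by
  obtain ⟨S, hind, htop, hgood⟩ := main R I hI
  refine ⟨↥S, fun i => i.1, ?_, fun i => hgood i.1 i.2⟩
  have h1 : iSupIndep (fun i : ↥S => i.1) := (sSupIndep_iff S).1 hind
  have h2 : (⨆ i : ↥S, i.1) = ⊤ := by rw [← sSup_eq_iSup']; exact htop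
  have h := DirectSum.isInternal_submodule_of_iSupIndep_of_iSup_eq_top (A := fun i : ↥S => i.1) h1 h2
  convert h



open Classical in
/-- Over a Noetherian ring every injective module is an internal direct sum of indecomposable injective
submodules. -/
theorem result (R : Type u) [CommRing R] [IsNoetherianRing R] (I : Type u) [AddCommGroup I] [Module R I] (hI : Module.Injective R I) : ∃ (ι : Type u) (E : ι → Submodule R I), DirectSum.IsInternal E ∧ ∀ i, InjHull.IsIndecomposable R ↥(E i) ∧ Module.Injective R ↥(E i) := by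
  exact main2 R I hI

end Groth.Agent.S0307
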