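import Groth.Statements.S5154
import Groth.Agent.Lib.Helper24.Hartshorne
import Groth.Agent.Lib.Helper24.CatEquidim
-- import your own Groth.Agent.* helpers here

set_option autoImplicit false
universe u
open LocCoh

namespace Groth.Agent.S5154

open Groth.Agent.Lib.Helper24 Groth.Agent.Lib.Helper24.CatEquidim IsLocalRing in
/-- All minimal primes below a prime `q` have the same coheight (catenary + depth condition). -/
theorem claimC (A : Type u) [CommRing A] [IsLocalRing A] [IsNoetherianRing A]
    (hc : CAlg.IsCatenary A)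
    (h : ∀ p : PrimeSpectrum A, (2 : ℕ∞) ≤ p.asIdeal.height →
      (2 : ℕ∞) ≤ LocCoh.depth (Localization.AtPrime p.asIdeal) (Localization.AtPrime p.asIdeal)) :
    ∀ (n : ℕ) (q : Ideal A) [q.IsPrime], q.height = n →
      ∀ p₁ ∈ minimalPrimes A, ∀ p₂ ∈ minimalPrimes A, p₁ ≤ q → p₂ ≤ q →
        ringKrullDim (A ⧸ p₁) = ringKrullDim (A ⧸ p₂) := by
  intro n
  induction n using Nat.strong_induction_on with
  | _ n ih =>
  intro q hq hqn p₁ hp₁ p₂ hp₂ hp₁q hp₂q
  haveI hp₁prime : p₁.IsPrime := hp₁.1.1
  haveI hp₂prime : p₂.IsPrime := hp₂.1.1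
  by_cases hn : n ≤ 1
  · -- height ≤ 1
    have hcovOrEq : ∀ p ∈ minimalPrimes A, ∀ (hp : p.IsPrime), p ≤ q → p ≠ q →
        ringKrullDim (A ⧸ p) = ringKrullDim (A ⧸ q) + 1 := by
      intro p hp hpprime hpq hne
      haveI := hpprime
      have hlt : p < q := lt_of_le_of_ne hpq hne
      have hcov : (⟨p, hpprime⟩ : PrimeSpectrum A) ⋖ ⟨q, hq⟩ := by
        refine ⟨hlt, ?_⟩
        rintro ⟨r, hr⟩ hpr hrq
        have hpr' : p < r := hpr
        have hrq' : r < q := hrq
        have h1 := Ideal.height_add_one_le_of_lt_of_isPrime hpr'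
        have h2 := Ideal.height_add_one_le_of_lt_of_isPrime hrq'
        have h3 : (1 : ℕ∞) + 1 ≤ q.height := by
          refine le_trans ?_ h2
          gcongr
          refine le_trans ?_ h1
          simp
        rw [hqn] at h3
        have : (2 : ℕ) ≤ n := by exact_mod_cast h3
        omega
      have := coheight_covBy hc hcov
      rw [← coheight_eq_ringKrullDim_quotient (⟨p, hpprime⟩ : PrimeSpectrum A),
        ← coheight_eq_ringKrullDim_quotient (⟨q, hq⟩ : PrimeSpectrum A), this]
      push_cast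
      rfl
    by_cases h1 : p₁ = q
    · have : p₁ ≤ p₂ := hp₁.2 ⟨hp₂prime, bot_le⟩ (h1 ▸ hp₂q)
      have : p₁ = p₂ := le_antisymm this (h1 ▸ hp₂q)
      rw [this]
    · by_cases h2 : p₂ = q
      · have : p₂ ≤ p₁ := hp₂.2 ⟨hp₁prime, bot_le⟩ (h2 ▸ hp₁q)
        have : p₂ = p₁ := le_antisymm this (h2 ▸ hp₁q)
        rw [this]
      · rw [hcovOrEq p₁ hp₁ hp₁prime hp₁q h1, hcovOrEq p₂ hp₂ hp₂prime hp₂q h2]
  · -- height ≥ 2: Hartshorne
    rw [not_le] at hn
    by_contra hne
    let B := Localization.AtPrime q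
    have hdepth : (2 : ℕ∞) ≤ LocCoh.depth B B := by
      apply h ⟨q, hq⟩
      change (2 : ℕ∞) ≤ q.height
      rw [hqn]
      exact_mod_cast hn
    have hseq : DepthFlat.HasSeq B 2 := Hartshorne.hasSeq_of_le_depth B 2 (by exact_mod_cast hdepth)
    classical
    let T : Finset (Ideal A) := (minimalPrimes.finite_of_isNoetherianRing A).toFinset
    have hT : ∀ p, p ∈ T ↔ p ∈ minimalPrimes A := fun p => Set.Finite.mem_toFinset _
    let S₁ : Finset (Ideal A) :=
      T.filter (fun p => p ≤ q ∧ ringKrullDim (A ⧸ p) = ringKrullDim (A ⧸ p₁))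
    let S₂ : Finset (Ideal A) :=
      T.filter (fun p => p ≤ q ∧ ringKrullDim (A ⧸ p) ≠ ringKrullDim (A ⧸ p₁))
    let I₀ : Ideal A := S₁.inf id
    let J₀ : Ideal A := S₂.inf id
    let I : Ideal B := I₀.map (algebraMap A B)
    let J : Ideal B := J₀.map (algebraMap A B)
    have hunder_le : ∀ P : Ideal B, P.IsPrime → P.comap (algebraMap A B) ≤ q := by
      intro P hP
      have h1 : P ≤ maximalIdeal B := IsLocalRing.le_maximalIdeal hP.ne_top
      have h2 := Ideal.comap_mono (f := algebraMap A B) h1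
      have h3 : (maximalIdeal B).comap (algebraMap A B) = q :=
        IsLocalization.AtPrime.under_maximalIdeal B q
      rw [h3] at h2
      exact h2
    have hcover : ∀ P : Ideal B, P.IsPrime → I ≤ P ∨ J ≤ P := by
      intro P hP
      haveI := hP
      have hrq := hunder_le P hP
      obtain ⟨p, hp, hpr⟩ := Ideal.exists_minimalPrimes_le (I := ⊥)
        (J := P.comap (algebraMap A B)) bot_le
      by_cases hd : ringKrullDim (A ⧸ p) = ringKrullDim (A ⧸ p₁)
      · left
        rw [Ideal.map_le_iff_le_comap]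
        refine le_trans (Finset.inf_le (f := id) (b := p) ?_) hpr
        rw [Finset.mem_filter]
        exact ⟨(hT p).mpr hp, hpr.trans hrq, hd⟩
      · right
        rw [Ideal.map_le_iff_le_comap]
        refine le_trans (Finset.inf_le (f := id) (b := p) ?_) hpr
        rw [Finset.mem_filter]
        exact ⟨(hT p).mpr hp, hpr.trans hrq, hd⟩
    have hmeet : ∀ P : Ideal B, P.IsPrime → I ≤ P → J ≤ P → P = maximalIdeal B := by
      intro P hP hIP hJP
      haveI := hP
      have hrq := hunder_le P hP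
      haveI hrprime : (P.comap (algebraMap A B)).IsPrime := Ideal.comap_isPrime _ P
      obtain ⟨p, hpS, hpr⟩ := (Ideal.IsPrime.inf_le' hrprime).mp (Ideal.map_le_iff_le_comap.mp hIP)
      obtain ⟨p', hp'S, hp'r⟩ :=
        (Ideal.IsPrime.inf_le' hrprime).mp (Ideal.map_le_iff_le_comap.mp hJP)
      rw [Finset.mem_filter] at hpS hp'S
      have hreq : P.comap (algebraMap A B) = q := by
        by_contra hrne
        have hlt : P.comap (algebraMap A B) < q := lt_of_le_of_ne hrq hrne
        have hhtlt := Ideal.height_strict_mono_of_isPrime_of_isPrime hlt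
        obtain ⟨m, hm⟩ := ENat.ne_top_iff_exists.mp
          (Ideal.height_ne_top_of_isPrime (I := P.comap (algebraMap A B)))
        rw [hqn, ← hm] at hhtlt
        have hmn : m < n := by exact_mod_cast hhtlt
        have := ih m hmn (P.comap (algebraMap A B)) hm.symm p ((hT p).mp hpS.1) p'
          ((hT p').mp hp'S.1) hpr hp'r
        exact hp'S.2.2 (this.symm.trans hpS.2.2)
      have := IsLocalization.map_under q.primeCompl B P
      rw [Ideal.under_def, hreq, IsLocalization.AtPrime.map_eq_maximalIdeal q B] at this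
      exact this.symm
    have hprimeB : ∀ p : Ideal A, p.IsPrime → p ≤ q →
        (p.map (algebraMap A B)).IsPrime ∧ (p.map (algebraMap A B)).comap (algebraMap A B) = p := by
      intro p hp hpq
      have hdisj : Disjoint (q.primeCompl : Set A) (p : Set A) := by
        rw [Set.disjoint_left]
        intro a ha hap
        exact ha (hpq hap)
      exact ⟨IsLocalization.isPrime_of_isPrime_disjoint q.primeCompl B p hp hdisj,
        IsLocalization.under_map_of_isPrime_disjoint q.primeCompl B hp hdisj⟩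
    rcases Hartshorne.connected B hseq I J hcover hmeet with hI | hJ
    · obtain ⟨hP₂, hc₂⟩ := hprimeB p₂ hp₂prime hp₂q
      have h1 : I ≤ p₂.map (algebraMap A B) := hI.trans (nilradical_le_prime _)
      have h2 : I₀ ≤ p₂ := by
        have := Ideal.map_le_iff_le_comap.mp h1
        rwa [hc₂] at this
      obtain ⟨p, hpS, hpp₂⟩ := (Ideal.IsPrime.inf_le' hp₂prime).mp h2
      rw [Finset.mem_filter] at hpS
      have hpmin := (hT p).mp hpS.1
      have : p₂ ≤ p := hp₂.2 ⟨hpmin.1.1, bot_le⟩ hpp₂
      have hpeq : p = p₂ := le_antisymm hpp₂ this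
      rw [hpeq] at hpS
      exact hne hpS.2.2.symm
    · obtain ⟨hP₁, hc₁⟩ := hprimeB p₁ hp₁prime hp₁q
      have h1 : J ≤ p₁.map (algebraMap A B) := hJ.trans (nilradical_le_prime _)
      have h2 : J₀ ≤ p₁ := by
        have := Ideal.map_le_iff_le_comap.mp h1
        rwa [hc₁] at this
      obtain ⟨p', hp'S, hp'p₁⟩ := (Ideal.IsPrime.inf_le' hp₁prime).mp h2
      rw [Finset.mem_filter] at hp'S
      have hp'min := (hT p').mp hp'S.1
      have : p₁ ≤ p' := hp₁.2 ⟨hp'min.1.1, bot_le⟩ hp'p₁
      have hpeq : p' = p₁ := le_antisymm hp'p₁ this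
      rw [hpeq] at hp'S
      exact hp'S.2.2 rfl

/-- Let A be a Noetherian local ring which is catenary and such that depth A_p ≥ 2 for every prime p
with dim A_p ≥ 2. Then all irreducible components of Spec A have dimension dim A: for every minimal
prime p, dim A/p = dim A. -/
theorem result (A : Type u) [CommRing A] [IsLocalRing A] [IsNoetherianRing A] (hc : CAlg.IsCatenary A) (h : ∀ p : PrimeSpectrum A, (2 : ℕ∞) ≤ p.asIdeal.height → (2 : ℕ∞) ≤ LocCoh.depth (Localization.AtPrime p.asIdeal) (Localization.AtPrime p.asIdeal)) (p : Ideal A) (hp : p ∈ minimalPrimes A) : ringKrullDim (A ⧸ p) = ringKrullDim A := by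
  obtain ⟨n, hn⟩ := ENat.ne_top_iff_exists.mp
    (Ideal.height_ne_top_of_isPrime (I := IsLocalRing.maximalIdeal A))
  have hC := claimC A hc h n (IsLocalRing.maximalIdeal A) hn.symm
  refine le_antisymm (ringKrullDim_quotient_le p) ?_
  apply Groth.Agent.Lib.Helper24.CatEquidim.ringKrullDim_le_of_forall_minimalPrimes
  intro P hP
  exact (hC P hP p hp (IsLocalRing.le_maximalIdeal hP.1.1.ne_top)
    (IsLocalRing.le_maximalIdeal hp.1.1.ne_top)).le

end Groth.Agent.S5154
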