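import Groth.Statements.S1717
import Groth.Agent.S5154
import Groth.Agent.Lib.Helper24.HensDepth
-- import your own Groth.Agent.* helpers here

set_option autoImplicit false
universe u
open LocCoh

namespace Groth.Agent.S1717

/-- Let A be a catenary Noetherian local ring satisfying Serre's condition (S_2). Then Spec A is
equidimensional: for every minimal prime p of A the dimension of A/p equals the dimension of A. -/
theorem result (A : Type u) [CommRing A] [IsLocalRing A] [IsNoetherianRing A] (hc : CAlg.IsCatenary A) (hS : LocCoh.HasSk 2 A A) (p : Ideal A) (hp : p ∈ minimalPrimes A) : ringKrullDim (A ⧸ p) = ringKrullDim A := by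
  refine Groth.Agent.S5154.result A hc ?_ p hp
  intro q hq
  have hsk := (Groth.Agent.Lib.Helper24.HensDepth.hasSk_iff_skAt 2 A).mp hS q.asIdeal
  unfold Groth.Agent.Lib.Helper24.HensDepth.SkAt at hsk
  rw [Module.supportDim_self_eq_ringKrullDim,
    IsLocalization.AtPrime.ringKrullDim_eq_height q.asIdeal (Localization.AtPrime q.asIdeal)] at hsk
  have e : ((2 : ℕ) : WithBot ℕ∞) = (((2 : ℕ∞)) : WithBot ℕ∞) := rfl
  rw [e] at hsk
  have h2 : ((2 : ℕ∞) : WithBot ℕ∞) ≤ ((q.asIdeal.height : ℕ∞) : WithBot ℕ∞) :=
    WithBot.coe_le_coe.mpr hq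
  rw [min_eq_left h2] at hsk
  exact WithBot.coe_le_coe.mp hsk

end Groth.Agent.S1717
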