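import Groth.Statements.S0317
import Mathlib
import Groth.Agent.S11663
import Groth.Agent.S11681
import Groth.Agent.S0316

set_option autoImplicit false
universe u v
open Matlis

namespace Groth.Agent.S0317

-- MARK
section Aux

variable {R : Type u} [CommRing R] [IsLocalRing R] [IsNoetherianRing R]
  {E : Type u} [AddCommGroup E] [Module R E] (f : IsLocalRing.ResidueField R →ₗ[R] E)
  (hf : InjHull.IsInjectiveHull f)

include hf in
/-- over a complete local ring every endomorphism of `E` is a homothety -/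
lemma end_eq_smul [IsAdicComplete (IsLocalRing.maximalIdeal R) R] (θ : E →ₗ[R] E) :
    ∃ r : R, ∀ e : E, θ e = r • e := by
  obtain ⟨r, hr⟩ := Groth.Agent.S0316.applyₗ_surjective f hf R
    (θ ∘ₗ (LinearMap.applyₗ (1 : R) : (R →ₗ[R] E) →ₗ[R] E))
  refine ⟨r, fun e => ?_⟩
  have h1 := LinearMap.congr_fun hr (LinearMap.toSpanSingleton R E e)
  have h2 : LinearMap.toSpanSingleton R E e r = θ (LinearMap.toSpanSingleton R E e 1) := h1
  rw [LinearMap.toSpanSingleton_apply, LinearMap.toSpanSingleton_apply, one_smul] at h2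
  exact h2.symm

include hf in
/-- an Artinian module embeds in a finite power of `E` -/
lemma exists_embedding (M : Type u) [AddCommGroup M] [Module R M] [IsArtinian R M] :
    ∃ (S : Finset (M →ₗ[R] E)), Function.Injective (LinearMap.pi (fun φ : S => φ.1)) := by
  classical
  obtain ⟨K₀, ⟨S₀, rfl⟩, hmin⟩ := IsArtinian.set_has_minimal
    {K : Submodule R M | ∃ S : Finset (M →ₗ[R] E), K = ⨅ φ ∈ S, LinearMap.ker φ}
    ⟨_, ⟨∅, rfl⟩⟩
  refine ⟨S₀, ?_⟩
  rw [← LinearMap.ker_eq_bot, LinearMap.ker_pi, iInf_subtype]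
  by_contra hne
  obtain ⟨x, hx, hx0⟩ := (Submodule.ne_bot_iff _).1 hne
  obtain ⟨φ', hφ'⟩ := Groth.Agent.S11681.exists_functional f hf M x hx0
  apply hmin (⨅ φ ∈ insert φ' S₀, LinearMap.ker φ) ⟨insert φ' S₀, rfl⟩
  rw [Finset.iInf_insert]
  refine lt_of_le_of_ne inf_le_right ?_
  intro heq
  have : x ∈ LinearMap.ker φ' ⊓ ⨅ φ ∈ S₀, LinearMap.ker φ := by rw [heq]; exact hx
  exact hφ' this.1

section Pi
variable [IsAdicComplete (IsLocalRing.maximalIdeal R) R] (ι : Type u) [Fintype ι] [DecidableEq ι]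

include hf in
/-- functionals on `E^ι` are combinations of the projections -/
lemma dual_pi_eq_sum (θ : (ι → E) →ₗ[R] E) :
    ∃ r : ι → R, θ = ∑ i, r i • (LinearMap.proj i : (ι → E) →ₗ[R] E) := by
  have h : ∀ i : ι, ∃ r : R, ∀ e : E, (θ ∘ₗ LinearMap.single R (fun _ : ι => E) i) e = r • e :=
    fun i => end_eq_smul f hf _
  choose r hr using h
  refine ⟨r, ?_⟩
  apply LinearMap.ext
  intro v
  rw [LinearMap.sum_apply]
  conv_lhs => rw [← Finset.univ_sum_single v, map_sum]
  apply Finset.sum_congr rfl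
  intro i _
  rw [LinearMap.smul_apply, LinearMap.proj_apply]
  exact hr i (v i)

include hf in
lemma finite_dual_pi : Module.Finite R ((ι → E) →ₗ[R] E) := by
  refine Module.Finite.of_surjective
    (Fintype.linearCombination R (fun i : ι => (LinearMap.proj i : (ι → E) →ₗ[R] E))) ?_
  intro θ
  obtain ⟨r, hr⟩ := dual_pi_eq_sum f hf ι θ
  exact ⟨r, by rw [Fintype.linearCombination_apply, hr]⟩

include hf in
lemma applyₗ_surjective_pi :
    Function.Surjective (LinearMap.applyₗ : (ι → E) →ₗ[R] ((ι → E) →ₗ[R] E) →ₗ[R] E) := by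
  intro ξ
  refine ⟨fun i => ξ (LinearMap.proj i), ?_⟩
  apply LinearMap.ext
  intro θ
  obtain ⟨r, rfl⟩ := dual_pi_eq_sum f hf ι θ
  rw [map_sum, map_sum]
  apply Finset.sum_congr rfl
  intro i _
  rw [map_smul, map_smul]
  rfl

end Pi

include hf in
theorem main [IsAdicComplete (IsLocalRing.maximalIdeal R) R]
    (M : Type u) [AddCommGroup M] [Module R M] [IsArtinian R M] :
    Module.Finite R (M →ₗ[R] E) ∧
      Function.Surjective (LinearMap.applyₗ : M →ₗ[R] (M →ₗ[R] E) →ₗ[R] E) := by
  classical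
  have hE : IsArtinian R E :=
    Groth.Agent.S11663.isArtinian_injHull (IsLocalRing.maximalIdeal R) f hf
  obtain ⟨S, hj⟩ := exists_embedding f hf M
  set j : M →ₗ[R] (S → E) := LinearMap.pi (fun φ : S => φ.1) with hjdef
  have hP : IsArtinian R (S → E) := inferInstance
  have hC : IsArtinian R ((S → E) ⧸ LinearMap.range j) := inferInstance
  obtain ⟨S', hj'⟩ := exists_embedding f hf ((S → E) ⧸ LinearMap.range j)
  set j' : ((S → E) ⧸ LinearMap.range j) →ₗ[R] (S' → E) := LinearMap.pi (fun φ : S' => φ.1)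
    with hj'def
  let β : (S → E) →ₗ[R] (S' → E) := j' ∘ₗ (LinearMap.range j).mkQ
  have hβj : ∀ x : M, β (j x) = 0 := by
    intro x
    change j' ((LinearMap.range j).mkQ (j x)) = 0
    have hmem : j x ∈ LinearMap.range j := ⟨x, rfl⟩
    rw [Submodule.mkQ_apply, (Submodule.Quotient.mk_eq_zero _).2 hmem, map_zero]
  have hkerβ : ∀ e : S → E, β e = 0 → ∃ x : M, j x = e := by
    intro e he
    have h1 : (LinearMap.range j).mkQ e = 0 := hj' (he.trans (map_zero j').symm)
    rw [Submodule.mkQ_apply, Submodule.Quotient.mk_eq_zero] at h1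
    exact h1
  -- extension of functionals along `j`
  have hext : ∀ φ : M →ₗ[R] E, ∃ φ' : (S → E) →ₗ[R] E, φ' ∘ₗ j = φ :=
    fun φ => (Module.Baer.of_injective hf.isInjective).extension_property j hj φ
  constructor
  · have := finite_dual_pi f hf S
    refine Module.Finite.of_surjective (LinearMap.lcomp R E j) ?_
    intro φ
    obtain ⟨φ', hφ'⟩ := hext φ
    exact ⟨φ', hφ'⟩
  · intro ξ
    obtain ⟨e, he⟩ := applyₗ_surjective_pi f hf S (ξ ∘ₗ LinearMap.lcomp R E j)
    have he' : ∀ θ : (S → E) →ₗ[R] E, θ e = ξ (θ ∘ₗ j) := fun θ => LinearMap.congr_fun he θ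
    have hβe : β e = 0 := by
      apply Groth.Agent.S11681.applyₗ_injective f hf (S' → E)
      rw [map_zero]
      apply LinearMap.ext
      intro θ'
      change θ' (β e) = 0
      have h1 : θ' (β e) = (θ' ∘ₗ β) e := rfl
      rw [h1, he']
      have h2 : (θ' ∘ₗ β) ∘ₗ j = 0 := by
        apply LinearMap.ext
        intro x
        change θ' (β (j x)) = 0
        rw [hβj, map_zero]
      rw [h2, map_zero]
    obtain ⟨x, rfl⟩ := hkerβ e hβe
    refine ⟨x, ?_⟩
    apply LinearMap.ext
    intro φ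
    obtain ⟨φ', rfl⟩ := hext φ
    change (φ' ∘ₗ j) x = ξ (φ' ∘ₗ j)
    rw [← he']
    rfl

end Aux



/-- Over a complete Noetherian local ring with E an injective hull of the residue field, the E-dual of
an Artinian module is a finite module and the evaluation map into the double E-dual is bijective. -/
theorem result (R : Type u) [CommRing R] [IsLocalRing R] [IsNoetherianRing R] [IsAdicComplete (IsLocalRing.maximalIdeal R) R] (E : Type u) [AddCommGroup E] [Module R E] (f : IsLocalRing.ResidueField R →ₗ[R] E) (hf : InjHull.IsInjectiveHull f) (M : Type u) [AddCommGroup M] [Module R M] [IsArtinian R M] : Module.Finite R (M →ₗ[R] E) ∧ Function.Bijective (LinearMap.applyₗ : M →ₗ[R] (M →ₗ[R] E) →ₗ[R] E) := by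
  obtain ⟨h1, h2⟩ := main f hf M
  exact ⟨h1, Groth.Agent.S11681.applyₗ_injective f hf M, h2⟩

end Groth.Agent.S0317
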