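import Groth.Statements.S17759
import Mathlib
import Groth.Agent.Lib.Helper19.TopLC1
import Groth.Agent.Lib.Helper19.TopLC2

set_option autoImplicit false
universe u
open LocCoh

namespace Groth.Agent.S17759




/-- Let R be a complete Noetherian local ring with maximal ideal m, E an injective hull of its residue
field, I an ideal of R and M a finitely generated R-module whose support has dimension n. Then the
set of associated primes of the Matlis dual Hom_R(H^n_I(M), E) of the top local cohomology module
(the coassociated primes of H^n_I(M)) is the set of prime ideals p of R containing the annihilator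
of M such that R ⧸ p has dimension n and the radical of I + p is m. -/
theorem result (R : Type u) [CommRing R] [IsNoetherianRing R] [IsLocalRing R] [IsAdicComplete (IsLocalRing.maximalIdeal R) R] (E : Type u) [AddCommGroup E] [Module R E] (f : IsLocalRing.ResidueField R →ₗ[R] E) (hf : InjHull.IsInjectiveHull f) (I : Ideal R) (M : Type u) [AddCommGroup M] [Module R M] [Module.Finite R M] (n : ℕ) (hn : Module.supportDim R M = n) : associatedPrimes R (LocCoh.H I n M →ₗ[R] E) = {p : Ideal R | p.IsPrime ∧ Module.annihilator R M ≤ p ∧ ringKrullDim (R ⧸ p) = n ∧ (I ⊔ p).radical = IsLocalRing.maximalIdeal R} := by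
  classical
  open Groth.Agent.Lib.helper19.TopLC in
  refine associatedPrimes_eq_of_key R (LocCoh.H I n M →ₗ[R] E) n (Module.annihilator R M) ?_ _ ?_ ?_
  · intro a ha x
    apply LinearMap.ext
    intro y
    have h0 : a • y = 0 := by
      apply Groth.Agent.Lib.helper19.LCBridge.H_smul_eq_zero I n (ModuleCat.of R M) a _ y
      apply ModuleCat.hom_ext
      apply LinearMap.ext
      intro m
      exact Module.mem_annihilator.mp ha m
    rw [LinearMap.smul_apply, ← map_smul, h0, map_zero, LinearMap.zero_apply]
  · rintro p ⟨hpp, hap, hdim, -⟩
    exact ⟨hpp, hap, hdim⟩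
  · intro p hpp hap
    haveI := hpp
    rw [exists_dual_killed_iff R E f hf (LocCoh.H I n M) p,
      ← H_quotient_nontrivial_iff I n M hn.le p,
      H_quot_nontrivial_iff R M I n hn p hap]
    constructor
    · rintro ⟨h1, h2⟩
      exact ⟨hpp, hap, h1, h2⟩
    · rintro ⟨-, -, h1, h2⟩
      exact ⟨h1, h2⟩

end Groth.Agent.S17759
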