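import Groth.Statements.S4736
import Groth.Agent.Lib.Helper24.FibLoc
-- import your own Groth.Agent.* helpers here

set_option autoImplicit false
universe u
open EGA4

namespace Groth.Agent.S4736

/-- Let A → B be a regular homomorphism of Noetherian rings (flat, with geometrically regular fibres)
and S a multiplicative subset of A. Then the induced homomorphism S⁻¹A → S⁻¹B is regular. (S⁻¹A and
S⁻¹B are given here as arbitrary localizations at S and at its image.) -/
theorem result (A B : Type u) [CommRing A] [CommRing B] [IsNoetherianRing A] [IsNoetherianRing B]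
    [Algebra A B] (h : CAlg.IsRegularHom A B) (S : Submonoid A)
    (A' B' : Type u) [CommRing A'] [CommRing B'] [Algebra A A'] [Algebra B B'] [Algebra A' B'] [Algebra A B']
    [IsScalarTower A A' B'] [IsScalarTower A B B'] [IsLocalization S A']
    [IsLocalization (Algebra.algebraMapSubmonoid B S) B'] :
    CAlg.IsRegularHom A' B' := by
  obtain ⟨hflat, hfib⟩ := h
  haveI := hflat
  refine ⟨Groth.Agent.Lib.Helper24.FibLoc.flat_localization A B S A' B', fun p' hp' => ?_⟩
  constructor
  · haveI : IsNoetherianRing B' :=
      IsLocalization.isNoetherianRing (Algebra.algebraMapSubmonoid B S) B' inferInstance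
    haveI : IsNoetherianRing (TensorProduct A' B' p'.ResidueField) :=
      Algebra.EssFiniteType.isNoetherianRing B' (TensorProduct A' B' p'.ResidueField)
    exact isNoetherianRing_of_ringEquiv _
      (Algebra.TensorProduct.comm A' B' p'.ResidueField).toRingEquiv
  · intro K _ _ hfin
    obtain ⟨inst, hfin', -, htr⟩ := Groth.Agent.Lib.Helper24.FibLoc.transfer' A B S A' B'
      Groth.Agent.Lib.Helper24.FibLoc.locStable_isRegularRing p' K
    letI := inst
    exact htr ((hfib (p'.comap (algebraMap A A'))).2 K (hfin' hfin))

end Groth.Agent.S4736
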