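import Groth.Statements.S2119
import Mathlib.RingTheory.UniqueFactorizationDomain.Kaplansky
import Mathlib.RingTheory.Localization.Ideal

set_option autoImplicit false
universe u
open CAlg

namespace Groth.Agent.S2119

/-- Nagata's criterion for factoriality, final assertion: let `A` be a domain in which every nonzero
nonunit factors into irreducibles, and `S` the multiplicative subset generated by a set of prime
elements. If the localization `S⁻¹A` is a unique factorization domain, then so is `A`. -/
theorem result {A : Type u} [CommRing A] [IsDomain A]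
    (hfac : ∀ a : A, a ≠ 0 → ¬ IsUnit a → ∃ f : Multiset A, (∀ b ∈ f, Irreducible b) ∧ Associated f.prod a) (P : Set A)
    (hP : ∀ p ∈ P, Prime p) [IsDomain (Localization (Submonoid.closure P))]
    (hS : UniqueFactorizationMonoid (Localization (Submonoid.closure P))) : UniqueFactorizationMonoid A := by
  classical
  obtain ⟨S, hSdef⟩ : ∃ S : Submonoid A, S = Submonoid.closure P := ⟨_, rfl⟩
  rw [← hSdef] at hS
  have hdomL : IsDomain (Localization S) := by rw [hSdef]; infer_instance
  have hPS : ∀ q ∈ P, q ∈ S := fun q hq => hSdef ▸ Submonoid.subset_closure hq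
  -- `0 ∉ S`
  have h0S : ∀ s ∈ S, s ≠ 0 := by
    intro s hs
    rw [hSdef] at hs
    induction hs using Submonoid.closure_induction with
    | mem q hq => exact (hP q hq).ne_zero
    | one => exact one_ne_zero
    | mul a b _ _ iha ihb => exact mul_ne_zero iha ihb
  have hSnzd : S ≤ nonZeroDivisors A :=
    le_nonZeroDivisors_of_noZeroDivisors (fun h => h0S 0 h rfl)
  have hinj : Function.Injective (algebraMap A (Localization S)) :=
    IsLocalization.injective (Localization S) hSnzd
  rw [UniqueFactorizationMonoid.iff_exists_prime_mem_of_isPrime]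
  intro 𝔭 h𝔭0 h𝔭
  by_cases hd : Disjoint (S : Set A) (𝔭 : Set A)
  swap
  · rw [Set.not_disjoint_iff] at hd
    obtain ⟨s, hsS, hs𝔭⟩ := hd
    have key : ∀ s ∈ S, s ∈ 𝔭 → ∃ q ∈ P, q ∈ 𝔭 := by
      intro s hs
      rw [hSdef] at hs
      induction hs using Submonoid.closure_induction with
      | mem q hq => exact fun h => ⟨q, hq, h⟩
      | one => exact fun h => absurd ((Ideal.eq_top_iff_one _).mpr h) h𝔭.ne_top
      | mul a b _ _ iha ihb => exact fun h => (h𝔭.mem_or_mem h).elim iha ihb
    obtain ⟨q, hqP, hq𝔭⟩ := key s hsS hs𝔭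
    exact ⟨q, hq𝔭, hP q hqP⟩
  · have hprime : (Ideal.map (algebraMap A (Localization S)) 𝔭).IsPrime :=
      IsLocalization.isPrime_of_isPrime_disjoint S (Localization S) 𝔭 h𝔭 hd
    have hne : Ideal.map (algebraMap A (Localization S)) 𝔭 ≠ ⊥ := by
      intro hbot
      apply h𝔭0
      rw [eq_bot_iff]
      intro x hx
      have h1 : algebraMap A (Localization S) x ∈ Ideal.map (algebraMap A (Localization S)) 𝔭 :=
        Ideal.mem_map_of_mem _ hx
      rw [hbot, Ideal.mem_bot] at h1
      rw [Ideal.mem_bot]
      exact hinj (h1.trans (map_zero _).symm)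
    obtain ⟨π, hπmem, hπ⟩ :=
      (UniqueFactorizationMonoid.iff_exists_prime_mem_of_isPrime.mp hS) _ hne hprime
    obtain ⟨⟨a, s⟩, hπa⟩ := IsLocalization.mk'_surjective S π
    have ha : algebraMap A (Localization S) a = π * algebraMap A (Localization S) s := by
      rw [← hπa, IsLocalization.mk'_spec]
    have hmem_of : ∀ x : A, algebraMap A (Localization S) x ∈
        Ideal.map (algebraMap A (Localization S)) 𝔭 → x ∈ 𝔭 := by
      intro x hx
      have h2 : x ∈ (Ideal.map (algebraMap A (Localization S)) 𝔭).under A := hx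
      rwa [IsLocalization.under_map_of_isPrime_disjoint S (Localization S) h𝔭 hd] at h2
    have ha_mem : a ∈ 𝔭 := by
      apply hmem_of
      rw [ha]
      exact Ideal.mul_mem_right _ _ hπmem
    have ha_prime : Prime (algebraMap A (Localization S) a) := by
      rw [ha]
      exact (associated_mul_unit_right π _ (IsLocalization.map_units (Localization S) s)).prime hπ
    have ha0 : a ≠ 0 := by
      rintro rfl
      rw [map_zero] at ha_prime
      exact ha_prime.ne_zero rfl
    have haunit : ¬ IsUnit a := fun hu => h𝔭.ne_top (Ideal.eq_top_of_isUnit_mem _ ha_mem hu)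
    obtain ⟨f, hfirr, hfa⟩ := hfac a ha0 haunit
    have hfmem : f.prod ∈ 𝔭 := by
      obtain ⟨u, hu⟩ := hfa.symm
      rw [← hu]
      exact Ideal.mul_mem_right _ _ ha_mem
    obtain ⟨b, hbf, hb𝔭⟩ := (h𝔭.multiset_prod_mem_iff_exists_mem f).mp hfmem
    have hbirr : Irreducible b := hfirr b hbf
    have hba : b ∣ a := (Multiset.dvd_prod hbf).trans hfa.dvd
    obtain ⟨c, hc⟩ := hba
    -- image of `b` is prime
    have hb_prime : Prime (algebraMap A (Localization S) b) := by
      have h1 : algebraMap A (Localization S) a =
          algebraMap A (Localization S) b * algebraMap A (Localization S) c := by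
        rw [hc, map_mul]
      have hbnu : ¬ IsUnit (algebraMap A (Localization S) b) := by
        intro hu
        exact hprime.ne_top (Ideal.eq_top_of_isUnit_mem _ (Ideal.mem_map_of_mem _ hb𝔭) hu)
      rcases ha_prime.irreducible.isUnit_or_isUnit h1 with hu | hu
      · exact absurd hu hbnu
      · rw [h1] at ha_prime
        exact (associated_mul_unit_right _ _ hu).symm.prime ha_prime
    -- no `q ∈ P` divides `b`
    have hqb : ∀ q ∈ P, ¬ q ∣ b := by
      rintro q hq ⟨u, hu⟩
      rcases hbirr.isUnit_or_isUnit hu with h | h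
      · exact (hP q hq).not_isUnit h
      · have hq𝔭 : q ∈ 𝔭 := by
          obtain ⟨u', rfl⟩ := h
          have : q = b * ↑u'⁻¹ := by rw [hu, mul_assoc, Units.mul_inv, mul_one]
          rw [this]
          exact Ideal.mul_mem_right _ _ hb𝔭
        exact Set.disjoint_left.mp hd (hPS q hq) hq𝔭
    -- cancellation lemma
    have hcancel : ∀ s ∈ S, ∀ x w : A, s * x = b * w → b ∣ x := by
      intro s hs
      rw [hSdef] at hs
      induction hs using Submonoid.closure_induction with
      | mem q hq =>
        intro x w hxw
        have hqw : q ∣ w := by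
          have : q ∣ b * w := ⟨x, hxw.symm⟩
          exact ((hP q hq).dvd_or_dvd this).resolve_left (hqb q hq)
        obtain ⟨w', rfl⟩ := hqw
        refine ⟨w', ?_⟩
        have : q * x = q * (b * w') := by rw [hxw]; ring
        exact mul_left_cancel₀ (hP q hq).ne_zero this
      | one =>
        intro x w hxw
        exact ⟨w, by rw [← hxw, one_mul]⟩
      | mul s₁ s₂ _ _ ih₁ ih₂ =>
        intro x w hxw
        obtain ⟨w', hw'⟩ := ih₁ (s₂ * x) w (by rw [← hxw, mul_assoc])
        exact ih₂ x w' hw'
    have hdvd_of : ∀ x : A, algebraMap A (Localization S) b ∣ algebraMap A (Localization S) x →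
        b ∣ x := by
      rintro x ⟨y, hy⟩
      obtain ⟨⟨w, t⟩, rfl⟩ := IsLocalization.mk'_surjective S y
      have h1 : algebraMap A (Localization S) (↑t * x) = algebraMap A (Localization S) (b * w) := by
        rw [map_mul, map_mul, hy, mul_comm, mul_assoc, IsLocalization.mk'_spec]
      exact hcancel t t.2 x w (hinj h1)
    refine ⟨b, hb𝔭, hbirr.ne_zero, hbirr.not_isUnit, ?_⟩
    intro x y hxy
    have h1 : algebraMap A (Localization S) b ∣
        algebraMap A (Localization S) x * algebraMap A (Localization S) y := by
      rw [← map_mul]; exact map_dvd _ hxy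
    rcases hb_prime.dvd_or_dvd h1 with h | h
    · exact Or.inl (hdvd_of x h)
    · exact Or.inr (hdvd_of y h)

end Groth.Agent.S2119
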