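import Groth.Statements.S0582
import Mathlib
import Groth.Agent.Lib.Helper8.Kaplansky
import Groth.Agent.Lib.Helper8.KapLocal

set_option autoImplicit false
universe u
open CAlg

namespace Groth.Agent.S0582

/-- A projective module, not necessarily finitely generated, over a local ring is free. -/
theorem result (R : Type u) [CommRing R] [IsLocalRing R] (P : Type u)
    [AddCommGroup P] [Module R P] [Module.Projective R P] : Module.Free R P := by
  classical
  obtain ⟨s, hs⟩ := (Module.projective_def' (R := R) (P := P)).mp inferInstance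
  have hps : ∀ z, Finsupp.linearCombination R id (s z) = z := fun z => LinearMap.congr_fun hs z
  let π : (P →₀ R) →ₗ[R] (P →₀ R) := s ∘ₗ Finsupp.linearCombination R (id : P → P)
  let b := Finsupp.basisSingleOne (R := R) (ι := P)
  let N : P → Submodule R (P →₀ R) := fun i => Submodule.span R {b i}
  have hind : iSupIndep N := b.linearIndependent.iSupIndep_span_singleton
  have htop : ⨆ i, N i = ⊤ := by
    rw [← Submodule.span_range_eq_iSup, b.span_eq]
  have hc : ∀ i, Groth.Agent.Lib.helper8.Kap.CG (N i) :=
    fun i => ⟨{b i}, Set.countable_singleton _, rfl⟩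
  have hπ : ∀ x ∈ LinearMap.range π, π x = x := by
    rintro _ ⟨z, rfl⟩
    simp only [π, LinearMap.comp_apply, hps]
  obtain ⟨𝓛, h1, h2, h3⟩ := Groth.Agent.Lib.helper8.Kap.kaplansky N π hind htop hc hπ
  have hfree : ∀ L ∈ 𝓛, Module.Free R L := by
    intro L hL
    have hd1 : Disjoint L (sSup (𝓛 \ {L})) := h2 hL
    have hAB : L ⊔ sSup (𝓛 \ {L}) = LinearMap.range π := by
      rw [← h3, ← sSup_insert, Set.insert_sdiff_singleton, Set.insert_eq_of_mem hL]
    have hd2 : Disjoint (L ⊔ sSup (𝓛 \ {L})) (LinearMap.ker π) := by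
      rw [hAB, Submodule.disjoint_def]
      intro x hx hk
      rw [← hπ x hx]
      exact hk
    have hcompl : IsCompl L (sSup (𝓛 \ {L}) ⊔ LinearMap.ker π) := by
      refine ⟨hd1.disjoint_sup_right_of_disjoint_sup_left hd2, ?_⟩
      rw [codisjoint_iff, ← sup_assoc, hAB, eq_top_iff]
      intro z _
      have hz : z = π z + (z - π z) := by abel
      rw [hz]
      exact add_mem (Submodule.mem_sup_left ⟨z, rfl⟩)
        (Submodule.mem_sup_right (by rw [LinearMap.mem_ker, map_sub, hπ _ ⟨z, rfl⟩, sub_self]))
    haveI : Module.Projective R L :=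
      Module.Projective.of_split L.subtype (L.projectionOnto _ hcompl)
        (LinearMap.ext fun z => Submodule.projectionOnto_apply_left hcompl z)
    obtain ⟨t, ht, hspan⟩ := Groth.Agent.Lib.helper8.Kap.isCountablyGenerated_of_cg L (h1 L hL)
    obtain ⟨x, hx⟩ := (ht.insert 0).exists_eq_range (Set.insert_nonempty 0 t)
    apply Groth.Agent.Lib.helper8.KapLocal.free_of_span_range_eq_top x
    rw [← hx, Submodule.span_insert_zero, hspan]
  have hint := Groth.Agent.Lib.helper8.Kap.isInternal_comap_of_sSupIndep 𝓛 (LinearMap.range π) h2 h3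
  have hle : ∀ k : 𝓛, (k : Submodule R (P →₀ R)) ≤ LinearMap.range π := fun k => h3 ▸ le_sSup k.2
  haveI : ∀ k : 𝓛, Module.Free R ((k : Submodule R (P →₀ R)).comap (LinearMap.range π).subtype) :=
    fun k =>
      haveI := hfree k k.2
      Module.Free.of_equiv (Submodule.comapSubtypeEquivOfLe (hle k)).symm
  have hQfree : Module.Free R (LinearMap.range π) :=
    Module.Free.of_equiv (LinearEquiv.ofBijective (DirectSum.coeLinearMap _) hint)
  have hsinj : Function.Injective s := Function.LeftInverse.injective hps
  have hQ : LinearMap.range π = LinearMap.range s := by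
    apply le_antisymm
    · rintro _ ⟨z, rfl⟩
      exact ⟨Finsupp.linearCombination R id z, rfl⟩
    · rintro _ ⟨z, rfl⟩
      exact ⟨s z, by simp only [π, LinearMap.comp_apply, hps]⟩
  exact Module.Free.of_equiv
    ((LinearEquiv.ofInjective s hsinj).trans (LinearEquiv.ofEq _ _ hQ.symm)).symm

end Groth.Agent.S0582
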