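import Groth.Statements.S7109
import Mathlib
-- import your own Groth.Agent.* helpers here

set_option autoImplicit false
universe u
open CAlg

namespace Groth.Agent.S7109

/-- Let P be a projective module over a ring R and s an element of P. Then there are a finite free
module R^n and a direct summand K of R^n ⊕ P which is finite free and contains (0, s). -/
theorem result (R : Type u) [CommRing R] (P : Type u) [AddCommGroup P]
    [Module R P] [Module.Projective R P] (s : P) :
    ∃ (n : ℕ) (K K' : Submodule R ((Fin n → R) × P)), IsCompl K K' ∧ Module.Free R K ∧ Module.Finite R K ∧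
      ((0, s) : (Fin n → R) × P) ∈ K := by
  classical
  obtain ⟨σ, hσ⟩ := (Module.projective_def (R := R) (P := P)).mp inferInstance
  let t : Finset P := (σ s).support
  let n := t.card
  let idx : Fin n ≃ t := t.equivFin.symm
  let a : (Fin n → R) →ₗ[R] P := Fintype.linearCombination R (fun i => (idx i : P))
  let b : P →ₗ[R] (Fin n → R) := LinearMap.pi (fun i => (Finsupp.lapply (idx i : P)) ∘ₗ σ)
  have hab : a (b s) = s := by
    have h1 : a (b s) = ∑ i : Fin n, (σ s) (idx i : P) • (idx i : P) := by
      simp [a, b, Fintype.linearCombination_apply]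
    rw [h1, Fintype.sum_equiv idx (fun i => (σ s) (idx i : P) • (idx i : P))
      (fun p : t => (σ s) (p : P) • (p : P)) (fun _ => rfl),
      Finset.sum_coe_sort t (fun p => (σ s) p • p)]
    have h2 := hσ s
    rw [Finsupp.linearCombination_apply, Finsupp.sum] at h2
    simpa using h2
  let U : ((Fin n → R) × P) ≃ₗ[R] ((Fin n → R) × P) :=
    (LinearEquiv.prodComm R _ _).trans
      (((LinearEquiv.refl R P).skewProd (LinearEquiv.refl R (Fin n → R)) b).trans
        (LinearEquiv.prodComm R _ _))
  let T : ((Fin n → R) × P) ≃ₗ[R] ((Fin n → R) × P) :=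
    (LinearEquiv.refl R (Fin n → R)).skewProd (LinearEquiv.refl R P) (-a)
  let Ψ := U.trans T
  have hΨ : (Ψ ((0, s) : (Fin n → R) × P)).2 = 0 := by
    simp [Ψ, U, T, hab]
  refine ⟨n, (Submodule.fst R (Fin n → R) P).comap (Ψ : _ →ₗ[R] _),
    (Submodule.snd R (Fin n → R) P).comap (Ψ : _ →ₗ[R] _), ?_, ?_, ?_, ?_⟩
  · have h0 : IsCompl (Submodule.fst R (Fin n → R) P) (Submodule.snd R (Fin n → R) P) :=
      ⟨disjoint_iff.mpr (Submodule.fst_inf_snd _ _ _), codisjoint_iff.mpr (Submodule.fst_sup_snd _ _ _)⟩
    exact (Submodule.orderIsoMapComap Ψ).symm.isCompl h0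
  · exact Module.Free.of_equiv
      ((LinearEquiv.ofSubmodule' Ψ (Submodule.fst R (Fin n → R) P)).trans (Submodule.fstEquiv R (Fin n → R) P)).symm
  · exact Module.Finite.equiv
      ((LinearEquiv.ofSubmodule' Ψ (Submodule.fst R (Fin n → R) P)).trans (Submodule.fstEquiv R (Fin n → R) P)).symm
  · simpa [Submodule.fst] using hΨ

end Groth.Agent.S7109
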