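import Groth.Statements.S10890
import Mathlib
import Groth.Agent.Lib.Helper22.WeakCB

set_option autoImplicit false
universe u
open CAlgX

namespace Groth.Agent.S10890

section aux
open Matrix Groth.Agent.Lib.helper22.WeakCB

variable {R : Type u} [CommRing R]

theorem minorIdeal_mul_le_right {a b : Type} [Fintype a] [Fintype b] {κ : Type} [Fintype κ]
    [DecidableEq κ] (P : Matrix a κ R) (Q : Matrix κ b R) (k : ℕ) :
    CAlgX.minorIdeal (P * Q) k ≤ CAlgX.minorIdeal Q k := by
  unfold CAlgX.minorIdeal
  apply Ideal.span_le.mpr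
  rintro _ ⟨⟨ρ, γ⟩, rfl⟩
  simp only
  rw [submatrix_mul_eq, det_mul_eq_sum]
  exact Ideal.sum_mem _ fun φ _ => Ideal.mul_mem_left _ _ (Ideal.subset_span ⟨(φ, γ), rfl⟩)

theorem minorIdeal_mul_le_left {a b : Type} [Fintype a] [Fintype b] {κ : Type} [Fintype κ]
    [DecidableEq κ] (P : Matrix a κ R) (Q : Matrix κ b R) (k : ℕ) :
    CAlgX.minorIdeal (P * Q) k ≤ CAlgX.minorIdeal P k := by
  unfold CAlgX.minorIdeal
  apply Ideal.span_le.mpr
  rintro _ ⟨⟨ρ, γ⟩, rfl⟩
  simp only
  rw [submatrix_mul_eq, det_mul_eq_sum']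
  exact Ideal.sum_mem _ fun φ _ => Ideal.mul_mem_left _ _ (Ideal.subset_span ⟨(ρ, φ), rfl⟩)

theorem det_mem_minorIdeal {r : ℕ} (M : Matrix (Fin r) (Fin r) R) :
    M.det ∈ CAlgX.minorIdeal M r :=
  Ideal.subset_span ⟨(id, id), rfl⟩

/-- the forward direction. -/
theorem forward [IsLocalRing R] (n m r : ℕ) (A : Matrix (Fin n) (Fin m) R)
    (N' : Submodule R (Fin n → R)) (hc : IsCompl (LinearMap.range (Matrix.mulVecLin A)) N')
    (hr : Module.finrank R (LinearMap.range (Matrix.mulVecLin A)) = r) :
    CAlgX.minorIdeal A (r + 1) = ⊥ ∧ CAlgX.minorIdeal A r = ⊤ := by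
  classical
  set W := LinearMap.range (Matrix.mulVecLin A) with hW
  let proj : (Fin n → R) →ₗ[R] W := Submodule.projectionOnto W N' hc
  have hproj : ∀ w : W, proj (w : Fin n → R) = w := fun w =>
    Submodule.projectionOnto_apply_left hc w
  have hprojective : Module.Projective R W :=
    Module.Projective.of_split W.subtype proj (by
      ext w : 1
      exact hproj w)
  have hfree : Module.Free R W := Module.free_of_flat_of_isLocalRing
  let b : Module.Basis (Fin r) R W := Module.finBasisOfFinrankEq R W hr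
  have hu : ∀ k, ∃ u : Fin m → R, A *ᵥ u = (b k : Fin n → R) := by
    intro k
    obtain ⟨u, hu⟩ := (b k).2
    exact ⟨u, hu⟩
  choose u hu using hu
  let U : Matrix (Fin m) (Fin r) R := Matrix.of fun j k => u k j
  let P : Matrix (Fin r) (Fin n) R :=
    LinearMap.toMatrix' ((b.equivFun : W →ₗ[R] (Fin r → R)) ∘ₗ proj)
  have hAU : ∀ k, (A * U) *ᵥ (Pi.single k 1) = (b k : Fin n → R) := by
    intro k
    rw [← Matrix.mulVec_mulVec]
    have : U *ᵥ (Pi.single k 1) = u k := by
      ext j
      simp [U, Matrix.mulVec_single]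
    rw [this, hu]
  have hPAU : P * (A * U) = 1 := by
    apply Matrix.toLin'.injective
    apply (Pi.basisFun R (Fin r)).ext
    intro k
    rw [Matrix.toLin'_apply, Pi.basisFun_apply, ← Matrix.mulVec_mulVec, hAU]
    simp only [P, LinearMap.toMatrix'_mulVec, LinearMap.comp_apply, hproj]
    simp [Finsupp.single_eq_pi_single]
  constructor
  · -- r+1 minors vanish
    let Wm : Matrix (Fin n) (Fin r) R := Matrix.of fun i k => (b k : Fin n → R) i
    let C : Matrix (Fin r) (Fin m) R := Matrix.of fun k j =>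
      b.repr ⟨A *ᵥ (Pi.single j 1), LinearMap.mem_range_self (Matrix.mulVecLin A) _⟩ k
    have hA : A = Wm * C := by
      ext i j
      let wj : W := ⟨A *ᵥ (Pi.single j 1), LinearMap.mem_range_self (Matrix.mulVecLin A) _⟩
      have h1 := b.sum_repr wj
      have h2 : (wj : Fin n → R) i = ∑ k, b.repr wj k * (b k : Fin n → R) i := by
        have := congrArg (fun w : W => (w : Fin n → R) i) h1
        simp only [Submodule.coe_sum, Submodule.coe_smul, Finset.sum_apply, Pi.smul_apply,
          smul_eq_mul] at this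
        exact this.symm
      have h3 : (wj : Fin n → R) i = A i j := by
        show (A *ᵥ (Pi.single j 1)) i = A i j
        simp
      rw [← h3, h2, Matrix.mul_apply]
      refine Finset.sum_congr rfl fun k _ => ?_
      simp only [Wm, C, Matrix.of_apply]
      exact mul_comm _ _
    rw [eq_bot_iff]
    unfold CAlgX.minorIdeal
    apply Ideal.span_le.mpr
    rintro _ ⟨⟨ρ, γ⟩, rfl⟩
    simp only
    rw [hA, submatrix_mul_eq, det_mul_eq_sum]
    apply Ideal.sum_mem
    intro φ _
    have hninj : ¬ Function.Injective φ := by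
      intro hinj
      have := Fintype.card_le_of_injective φ hinj
      simp at this
    rw [Function.Injective] at hninj
    push Not at hninj
    obtain ⟨x, y, hxy, hne⟩ := hninj
    have : ((C.submatrix id γ).submatrix φ id).det = 0 := by
      apply Matrix.det_zero_of_row_eq hne
      ext j
      simp [hxy]
    rw [this, mul_zero]
    exact Ideal.zero_mem _
  · rw [Ideal.eq_top_iff_one]
    have h1 := det_mem_minorIdeal (P * (A * U))
    rw [hPAU, Matrix.det_one] at h1
    exact minorIdeal_mul_le_left A U r (minorIdeal_mul_le_right P (A * U) r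
      (by rw [hPAU]; exact h1))

/-- the backward direction. -/
theorem backward [IsLocalRing R] (n m r : ℕ) (A : Matrix (Fin n) (Fin m) R)
    (h1 : CAlgX.minorIdeal A (r + 1) = ⊥) (h2 : CAlgX.minorIdeal A r = ⊤) :
    ∃ N' : Submodule R (Fin n → R), IsCompl (LinearMap.range (Matrix.mulVecLin A)) N' ∧
        Module.finrank R (LinearMap.range (Matrix.mulVecLin A)) = r := by
  classical
  -- a unit minor
  obtain ⟨ρ, γ, hD⟩ : ∃ (ρ : Fin r → Fin n) (γ : Fin r → Fin m), IsUnit (A.submatrix ρ γ).det := by
    by_contra hcon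
    push Not at hcon
    have : CAlgX.minorIdeal A r ≤ IsLocalRing.maximalIdeal R := by
      unfold CAlgX.minorIdeal
      apply Ideal.span_le.mpr
      rintro _ ⟨⟨ρ, γ⟩, rfl⟩
      exact (IsLocalRing.mem_maximalIdeal _).mpr (hcon ρ γ)
    rw [h2] at this
    exact (IsLocalRing.maximalIdeal.isMaximal R).ne_top (top_le_iff.mp this)
  set D := A.submatrix ρ γ with hDdef
  have hDinv : Invertible D := Matrix.invertibleOfIsUnitDet D hD
  set Aγ : Matrix (Fin n) (Fin r) R := A.submatrix id γ with hAγ
  set Aρ : Matrix (Fin r) (Fin m) R := A.submatrix ρ id with hAρ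
  set Pi' : Matrix (Fin r) (Fin n) R := (1 : Matrix (Fin n) (Fin n) R).submatrix ρ id with hPi
  set E : Matrix (Fin m) (Fin r) R := (1 : Matrix (Fin m) (Fin m) R).submatrix id γ with hE
  have hAE : A * E = Aγ := by
    ext i k
    simp [E, Aγ, Matrix.mul_apply, Matrix.one_apply]
  have hPiA : Pi' * Aγ = D := by
    ext k l
    simp [Pi', Aγ, D, Matrix.mul_apply, Matrix.one_apply]
  -- Schur identity
  have hschur : A = Aγ * ⅟D * Aρ := by
    ext i j
    let M : Matrix (Fin r ⊕ Unit) (Fin r ⊕ Unit) R :=
      Matrix.fromBlocks D (Matrix.of fun l _ => A (ρ l) j) (Matrix.of fun _ k => A i (γ k))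
        (Matrix.of fun _ _ => A i j)
    have hM0 : M.det = 0 := by
      let e : Fin (r + 1) ≃ Fin r ⊕ Unit := finSumFinEquiv.symm.trans
        (Equiv.sumCongr (Equiv.refl _) (Equiv.equivPUnit.{1, 1} (Fin 1)))
      have hM : M = A.submatrix (Sum.elim ρ (fun _ => i)) (Sum.elim γ (fun _ => j)) := by
        ext (a | a) (c | c) <;> simp [M, D]
      have h3 : (A.submatrix ((Sum.elim ρ (fun _ => i)) ∘ e) ((Sum.elim γ (fun _ => j)) ∘ e)).det ∈
          CAlgX.minorIdeal A (r + 1) := Ideal.subset_span ⟨(_, _), rfl⟩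
      rw [h1, Ideal.mem_bot] at h3
      have h4 : A.submatrix ((Sum.elim ρ (fun _ => i)) ∘ e) ((Sum.elim γ (fun _ => j)) ∘ e) =
          M.submatrix e e := by
        rw [hM]
        rfl
      rw [h4, Matrix.det_submatrix_equiv_self] at h3
      exact h3
    rw [Matrix.det_fromBlocks₁₁] at hM0
    have h5 := (hD.mul_right_eq_zero).mp hM0
    rw [Matrix.det_unique] at h5
    simp only [Matrix.sub_apply, Matrix.of_apply] at h5
    rw [sub_eq_zero] at h5
    rw [h5]
    simp [Matrix.mul_apply, Aγ, Aρ, Finset.sum_mul]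
  let g : (Fin r → R) →ₗ[R] (Fin n → R) := Matrix.mulVecLin Aγ
  let s : (Fin n → R) →ₗ[R] (Fin r → R) := Matrix.mulVecLin (⅟D * Pi')
  have hsg : ∀ c, s (g c) = c := by
    intro c
    simp only [s, g, Matrix.mulVecLin_apply, Matrix.mulVec_mulVec]
    rw [Matrix.mul_assoc, hPiA, invOf_mul_self, Matrix.one_mulVec]
  have hginj : Function.Injective g := Function.LeftInverse.injective hsg
  have hrange : LinearMap.range (Matrix.mulVecLin A) = LinearMap.range g := by
    apply le_antisymm
    · rintro _ ⟨v, rfl⟩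
      refine ⟨(⅟D * Aρ) *ᵥ v, ?_⟩
      simp only [g, Matrix.mulVecLin_apply, Matrix.mulVec_mulVec]
      rw [← Matrix.mul_assoc, ← hschur]
    · rintro _ ⟨c, rfl⟩
      refine ⟨E *ᵥ c, ?_⟩
      simp only [g, Matrix.mulVecLin_apply, Matrix.mulVec_mulVec, hAE]
  refine ⟨LinearMap.ker s, ?_, ?_⟩
  · rw [hrange]
    constructor
    · rw [Submodule.disjoint_def]
      rintro x ⟨c, rfl⟩ hx
      rw [LinearMap.mem_ker, hsg] at hx
      rw [hx, map_zero]
    · rw [codisjoint_iff, eq_top_iff]
      intro z _
      have : z = g (s z) + (z - g (s z)) := by abel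
      rw [this]
      apply Submodule.add_mem_sup (LinearMap.mem_range_self g _)
      rw [LinearMap.mem_ker, map_sub, hsg, sub_self]
  · rw [hrange, ← (LinearEquiv.ofInjective g hginj).finrank_eq, Module.finrank_fin_fun]

end aux

/-- (i) ⇔ (ii): let R be a local ring, A an n × m matrix over R regarded as a linear map R^m → R^n, and
1 ≤ r ≤ n. Then the image of A is a direct summand of R^n of rank r if and only if every (r+1) ×
(r+1) minor of A is zero and the r × r minors of A generate the unit ideal. (The printed statement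
is over an arbitrary ring with 'direct summand of rank r'; its proof localises at once, and this row
states the local case, where a direct summand of R^n is free and its rank is its finrank.) -/
theorem result (R : Type u) [CommRing R] [IsLocalRing R] (n m r : ℕ)
    (hr : 1 ≤ r) (hrn : r ≤ n) (A : Matrix (Fin n) (Fin m) R) :
    (∃ N' : Submodule R (Fin n → R), IsCompl (LinearMap.range (Matrix.mulVecLin A)) N' ∧
        Module.finrank R (LinearMap.range (Matrix.mulVecLin A)) = r) ↔
      (CAlgX.minorIdeal A (r + 1) = ⊥ ∧ CAlgX.minorIdeal A r = ⊤) := by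
  constructor
  · rintro ⟨N', hc, hfr⟩
    exact forward n m r A N' hc hfr
  · rintro ⟨h1, h2⟩
    exact backward n m r A h1 h2

end Groth.Agent.S10890
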