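import Groth.Statements.S1859
-- import your own Groth.Agent.* helpers here

set_option autoImplicit false
universe u
open CategoryTheory AlgebraicGeometry
open Cyc

namespace Groth.Agent.S1859


/-- Tower law for residue degrees. -/
theorem residueDegree_comp {X Y Z : Scheme.{u}} (f : X ⟶ Y) (g : Y ⟶ Z) (x : X) :
    (f ≫ g).residueDegree x = g.residueDegree (f x) * f.residueDegree x := by
  unfold Scheme.Hom.residueDegree
  let a1 := (g.residueFieldMap (f x)).hom.toAlgebra
  let a2 := (f.residueFieldMap x).hom.toAlgebra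
  let a3 : Algebra (Z.residueField (g (f x))) (X.residueField x) :=
    ((f ≫ g).residueFieldMap x).hom.toAlgebra
  have : IsScalarTower (Z.residueField (g (f x))) (Y.residueField (f x)) (X.residueField x) := by
    refine IsScalarTower.of_algebraMap_eq' ?_
    change ((f ≫ g).residueFieldMap x).hom = _
    rw [Scheme.residueFieldMap_comp]
    rfl
  exact (Module.finrank_mul_finrank (Z.residueField (g (f x))) (Y.residueField (f x))
    (X.residueField x)).symm


/-- Combinatorial core: a double `finsum` over the fibres of `g` and then of `f` is the `finsum`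
over the fibres of `g ∘ f`, provided the relevant support is finite. -/
theorem finsum_fibres {A B C : Type*} (f : A → B) (g : B → C) (z : C) (a wf : A → ℤ) (wg : B → ℤ)
    (hfin : ((g ∘ f) ⁻¹' {z} ∩ Function.support a).Finite) :
    ∑ᶠ y ∈ g ⁻¹' {z}, (∑ᶠ x ∈ f ⁻¹' {y}, a x * wf x) * wg y =
      ∑ᶠ x ∈ (g ∘ f) ⁻¹' {z}, a x * (wf x * wg (f x)) := by
  classical
  set T : Finset A := hfin.toFinset with hT
  have memT : ∀ x, x ∈ T ↔ g (f x) = z ∧ a x ≠ 0 := by
    intro x
    simp [hT]
  -- right-hand side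
  have hR : ∑ᶠ x ∈ (g ∘ f) ⁻¹' {z}, a x * (wf x * wg (f x)) =
      ∑ x ∈ T, a x * (wf x * wg (f x)) := by
    refine finsum_mem_eq_sum_of_subset _ ?_ ?_
    · rintro x ⟨hx1, hx2⟩
      rw [Finset.mem_coe, memT]
      refine ⟨hx1, fun h0 => hx2 ?_⟩
      simp [h0]
    · intro x hx
      exact ((memT x).mp hx).1
  -- inner sums
  have hI : ∀ y, g y = z → ∑ᶠ x ∈ f ⁻¹' {y}, a x * wf x =
      ∑ x ∈ T with f x = y, a x * wf x := by
    intro y hy
    refine finsum_mem_eq_sum_of_subset _ ?_ ?_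
    · rintro x ⟨hx1, hx2⟩
      have hx1' : f x = y := hx1
      rw [Finset.mem_coe, Finset.mem_filter, memT]
      refine ⟨⟨by rw [hx1', hy], fun h0 => hx2 ?_⟩, hx1'⟩
      simp [h0]
    · intro x hx
      rw [Finset.mem_coe, Finset.mem_filter] at hx
      exact hx.2
  -- left-hand side
  have hL : ∑ᶠ y ∈ g ⁻¹' {z}, (∑ᶠ x ∈ f ⁻¹' {y}, a x * wf x) * wg y =
      ∑ y ∈ T.image f, (∑ᶠ x ∈ f ⁻¹' {y}, a x * wf x) * wg y := by
    refine finsum_mem_eq_sum_of_subset _ ?_ ?_
    · rintro y ⟨hy1, hy2⟩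
      have hy1' : g y = z := hy1
      have hne : ∑ᶠ x ∈ f ⁻¹' {y}, a x * wf x ≠ 0 := fun h0 => hy2 (by
        change (∑ᶠ x ∈ f ⁻¹' {y}, a x * wf x) * wg y = 0
        rw [h0, zero_mul])
      obtain ⟨x, hx, hx'⟩ := exists_ne_zero_of_finsum_mem_ne_zero hne
      have hx1 : f x = y := hx
      rw [Finset.mem_coe, Finset.mem_image]
      refine ⟨x, (memT x).mpr ⟨by rw [hx1, hy1'], fun h0 => hx' (by simp [h0])⟩, hx1⟩
    · intro y hy
      rw [Finset.mem_coe, Finset.mem_image] at hy
      obtain ⟨x, hx, rfl⟩ := hy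
      exact ((memT x).mp hx).1
  rw [hL, hR, ← Finset.sum_fiberwise_of_maps_to (s := T) (t := T.image f) (g := f)
    (fun x hx => Finset.mem_image_of_mem f hx)]
  refine Finset.sum_congr rfl fun y hy => ?_
  obtain ⟨x₀, hx₀, rfl⟩ := Finset.mem_image.mp hy
  rw [hI _ ((memT x₀).mp hx₀).1, Finset.sum_mul]
  refine Finset.sum_congr rfl fun x hx => ?_
  rw [(Finset.mem_filter.mp hx).2]
  ring

/-- For proper morphisms f : X → Y and g : Y → Z and a k-cycle α on X, g_*(f_*α) = (g ∘ f)_*α. Here a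
pair (X, δ) with Cyc.IsSetup plays the role of a scheme locally of finite type over a fixed base
with a dimension function (X locally Noetherian with universally catenary local rings, δ a dimension
function), and Cyc.DeltaCompat records that the dimension function upstairs is the induced one. -/
theorem result (X Y Z : Scheme.{u}) (δX : X → ℤ) (δY : Y → ℤ) (δZ : Z → ℤ) (hX : Cyc.IsSetup X δX) (hY : Cyc.IsSetup Y δY) (hZ : Cyc.IsSetup Z δZ) (f : X ⟶ Y) (g : Y ⟶ Z) [IsProper f] [IsProper g] (hf : Cyc.DeltaCompat f δX δY) (hg : Cyc.DeltaCompat g δY δZ) (k : ℤ) (α : AlgebraicCycle X ℤ) (hα : α ∈ Cyc.Zk X δX k) : AlgebraicCycle.map g δY δZ (AlgebraicCycle.map f δX δY α) = AlgebraicCycle.map (f ≫ g) δX δZ α := by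
  classical
  -- weights are multiplicative
  have hw : ∀ x : X, ((AlgebraicCycle.mapCoeff (f ≫ g) δX δZ x : ℕ) : ℤ) =
      (AlgebraicCycle.mapCoeff f δX δY x : ℤ) * (AlgebraicCycle.mapCoeff g δY δZ (f x) : ℤ) := by
    intro x
    obtain ⟨n, -, hn⟩ := hf x
    obtain ⟨m, -, hm⟩ := hg (f x)
    unfold AlgebraicCycle.mapCoeff
    change ((if δX x = δZ (g (f x)) then (f ≫ g).residueDegree x else 0 : ℕ) : ℤ) =
      ((if δX x = δY (f x) then f.residueDegree x else 0 : ℕ) : ℤ) *
      ((if δY (f x) = δZ (g (f x)) then g.residueDegree (f x) else 0 : ℕ) : ℤ)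
    by_cases h1 : δX x = δY (f x)
    · by_cases h2 : δY (f x) = δZ (g (f x))
      · have h3 : δX x = δZ (g (f x)) := h1.trans h2
        rw [if_pos h1, if_pos h2, if_pos h3, residueDegree_comp]
        push_cast
        ring
      · have h3 : ¬ δX x = δZ (g (f x)) := by omega
        rw [if_pos h1, if_neg h2, if_neg h3]
        simp
    · have h3 : ¬ δX x = δZ (g (f x)) := by omega
      rw [if_neg h1, if_neg h3]
      simp
  ext z
  unfold AlgebraicCycle.map
  rw [Function.locallyFinsupp.map_apply, Function.locallyFinsupp.map_apply]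
  simp only [Function.locallyFinsupp.map_apply]
  -- finiteness of the relevant support
  obtain ⟨U, hU, hzU⟩ : ∃ U : Z.Opens, IsCompact (U : Set Z) ∧ z ∈ U := by
    obtain ⟨_, ⟨U, hU, rfl⟩, hzU, -⟩ := Z.isBasis_affineOpens.exists_subset_of_mem_open
      (Set.mem_univ z) isOpen_univ
    exact ⟨U, IsAffineOpen.isCompact hU, hzU⟩
  have hcpt : IsCompact ((f ≫ g) ⁻¹' (U : Set Z)) :=
    (f ≫ g).isSpectralMap.2 U.2 hU
  have hfin : (((f ≫ g) ⁻¹' (U : Set Z)) ∩ Function.support α).Finite :=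
    α.locallyFiniteSupport.finite_inter_support_of_isCompact hcpt
  have key := finsum_fibres (⇑f) (⇑g) z (⇑α) (fun x => (AlgebraicCycle.mapCoeff f δX δY x : ℤ))
    (fun y => (AlgebraicCycle.mapCoeff g δY δZ y : ℤ))
    (hfin.subset (Set.inter_subset_inter_left _ (Set.preimage_mono (by simpa using hzU))))
  rw [key]
  refine finsum_congr fun x => ?_
  refine finsum_congr fun _ => ?_
  rw [hw x]

end Groth.Agent.S1859
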