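import Groth.Statements.S1833
import Groth.Agent.Lib.Helper26.Chi3
import Groth.Agent.Lib.Helper15.RelLen3

set_option autoImplicit false
universe u v
open Pointwise
open CycAlg

namespace Groth.Agent.S1833


open Groth.Agent.Lib.helper26.HS Groth.Agent.Lib.helper26.Chi Pointwise

/-- `ord_{R/p}(x̄) = ℓ_R(R/(p + xR))`. -/
theorem ord_quot_eq {R : Type u} [CommRing R] (p : Ideal R) (x : R) :
    Ring.ord (R ⧸ p) (Ideal.Quotient.mk p x) =
      Module.length R (R ⧸ (p ⊔ Ideal.span {x})) := by
  unfold Ring.ord
  rw [← Module.length_eq_of_surjective (S := R) (R := R ⧸ p)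
    (M := (R ⧸ p) ⧸ Ideal.span {Ideal.Quotient.mk p x}) Ideal.Quotient.mk_surjective]
  have hmap : (Ideal.span {x}).map (Ideal.Quotient.mkₐ R p) =
      Ideal.span {Ideal.Quotient.mk p x} := by
    rw [Ideal.map_span, Set.image_singleton]
    rfl
  have e := (DoubleQuot.quotQuotEquivQuotSupₐ R p (Ideal.span {x})).toLinearEquiv
  rw [hmap] at e
  exact e.length_eq

/-- Let R be Noetherian local, M a finite R-module whose support has dimension at most 1, and x an
element with M/xM supported in dimension ≤ 0. Then length(M/xM) = length(ker(x : M → M)) + Σ_q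
ord_{R/q}(x) · length_{R_q}(M_q), the sum running over the primes q of the support other than the
maximal ideal (stated in ℕ∞; all terms are finite under the hypotheses). -/
theorem result (R : Type u) [CommRing R] [IsNoetherianRing R] [IsLocalRing R] (M : Type u) [AddCommGroup M] [Module R M] [Module.Finite R M] (x : R) (h1 : Module.supportDim R M ≤ 1) (h0 : Module.supportDim R (M ⧸ x • (⊤ : Submodule R M)) ≤ 0) : Module.length R (M ⧸ x • (⊤ : Submodule R M)) = Module.length R (LinearMap.ker (LinearMap.lsmul R M x)) + ∑ᶠ (p : PrimeSpectrum R) (_ : p ∈ Module.support R M ∧ p.asIdeal ≠ IsLocalRing.maximalIdeal R), Ring.ord (R ⧸ p.asIdeal) (Ideal.Quotient.mk p.asIdeal x) * Module.length (Localization.AtPrime p.asIdeal) (LocalizedModule p.asIdeal.primeCompl M) := by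
  classical
  have hmax : ∀ Q ∈ Module.support R M, x ∈ Q.asIdeal → Q.asIdeal.IsMaximal := by
    intro Q hQ hxQ
    apply Groth.Agent.Lib.helper15.RelLen.isMaximal_of_supportDim_le_zero h0 Q
    have := Module.support_quotSMulTop (R := R) (M := M) x
    change Module.support R (M ⧸ x • (⊤ : Submodule R M)) = _ at this
    rw [this]
    refine ⟨hQ, ?_⟩
    rw [PrimeSpectrum.mem_zeroLocus, Set.singleton_subset_iff]
    exact hxQ
  by_cases hxm : x ∈ IsLocalRing.maximalIdeal R
  · have hFL : FL x M := hmax
    have hmain := main x hxm M inferInstance hFL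
    have e1 : Module.length R (M ⧸ x • (⊤ : Submodule R M)) = Module.length R (C x M) := by
      unfold C
      rw [range_lsmul_eq_smul_top]
    rw [e1, hmain]
    congr 1
    unfold sig
    simp only [finsum_eq_if]
    refine finsum_congr (fun p => ?_)
    by_cases hp : p ∈ Module.support R M
    · by_cases hpm : p.asIdeal = IsLocalRing.maximalIdeal R
      · rw [if_neg (fun h : p ∈ Module.support R M ∧ p.asIdeal ≠ IsLocalRing.maximalIdeal R =>
          h.2 hpm), if_neg]
        rw [not_not, hpm]
        exact hxm
      · have hxp : x ∉ p.asIdeal := by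
          intro hxp
          exact hpm (IsLocalRing.eq_maximalIdeal (hmax p hp hxp))
        rw [if_pos hxp, if_pos ⟨hp, hpm⟩, ord_quot_eq, mul_comm]
        rfl
    · have h0' : locLen M p = 0 := locLen_eq_zero_iff.2 hp
      rw [if_neg (fun h : p ∈ Module.support R M ∧ p.asIdeal ≠ IsLocalRing.maximalIdeal R =>
          hp h.1), h0', zero_mul, ite_self]
  · have hu : IsUnit x := by
      by_contra h
      exact hxm ((IsLocalRing.mem_maximalIdeal x).2 h)
    have e1 : x • (⊤ : Submodule R M) = ⊤ := by
      rw [eq_top_iff]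
      intro m _
      obtain ⟨b, hb⟩ := hu.exists_right_inv
      have : m = x • (b • m) := by rw [← mul_smul, hb, one_smul]
      rw [this]
      exact Submodule.smul_mem_pointwise_smul _ x ⊤ Submodule.mem_top
    have e2 : LinearMap.ker (LinearMap.lsmul R M x) = ⊥ := by
      rw [LinearMap.ker_eq_bot]
      intro a b hab
      obtain ⟨c, hc⟩ := hu.exists_left_inv
      have := congrArg (fun z => c • z) hab
      simpa [← mul_smul, hc] using this
    have e3 : ∀ p : PrimeSpectrum R,
        Ring.ord (R ⧸ p.asIdeal) (Ideal.Quotient.mk p.asIdeal x) = 0 :=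
      fun p => Ring.ord_of_isUnit (hu.map _)
    rw [e1, e2]
    simp only [e3, zero_mul, finsum_zero, add_zero]
    rw [Module.length_eq_zero, Module.length_eq_zero]

end Groth.Agent.S1833
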