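import Groth.Statements.S1831
import Groth.Agent.Lib.Helper15.RelLen2

set_option autoImplicit false
universe u v
open CycAlg

namespace Groth.Agent.S1831

/-- If φ is an endomorphism of M with φ^n = 0 (n > 0) and ker φ / im φ^(n-1) has finite length, then for
each 0 ≤ i ≤ n the (2,1)-periodic complex (M, φ^i, φ^(n-i)) has finite-length cohomology modules and
its Herbrand quotient vanishes. -/
theorem result {R : Type u} [CommRing R] {M : Type v} [AddCommGroup M] [Module R M] (φ : M →ₗ[R] M) (n : ℕ) (hn : 0 < n) (hφ : φ ^ n = 0) (hfin : Module.length R (CycAlg.perH φ (φ ^ (n - 1))) < ⊤) (i : ℕ) (hi : i ≤ n) : CycAlg.FinCoh R (φ ^ i) (φ ^ (n - i)) ∧ CycAlg.herbrand R (φ ^ i) (φ ^ (n - i)) = 0 := by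
  classical
  -- the Jordan-type multiplicities
  set d : ℕ → ℕ∞ := fun j =>
    Groth.Agent.Lib.helper15.RelLen.rl (LinearMap.ker φ ⊓ LinearMap.range (φ ^ (j + 1)))
      (LinearMap.ker φ ⊓ LinearMap.range (φ ^ j)) with hd
  have key : ∀ a c : ℕ, Groth.Agent.Lib.helper15.RelLen.rl (LinearMap.range (φ ^ c))
      (LinearMap.ker (φ ^ a)) = ∑ i' ∈ Finset.range a, ∑ k ∈ Finset.range c, d (i' + k) :=
    fun a c => Groth.Agent.Lib.helper15.RelLen.rl_range_pow_ker_pow φ a c
  -- finiteness of the multiplicities below n - 1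
  have hdfin : ∀ j, j < n - 1 → d j < ⊤ := by
    have h1 : Groth.Agent.Lib.helper15.RelLen.rl (LinearMap.range (φ ^ (n - 1)))
        (LinearMap.ker (φ ^ 1)) < ⊤ := by
      rw [pow_one]
      exact hfin
    rw [key 1 (n - 1)] at h1
    simp only [Finset.range_one, Finset.sum_singleton, zero_add] at h1
    intro j hj
    exact ENat.sum_lt_top.mp h1 j (Finset.mem_range.mpr hj)
  have e0 : Module.length R (CycAlg.perH (φ ^ i) (φ ^ (n - i))) =
      ∑ i' ∈ Finset.range i, ∑ k ∈ Finset.range (n - i), d (i' + k) := key i (n - i)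
  have e1 : Module.length R (CycAlg.perH (φ ^ (n - i)) (φ ^ i)) =
      ∑ i' ∈ Finset.range i, ∑ k ∈ Finset.range (n - i), d (i' + k) := by
    have := key (n - i) i
    rw [Finset.sum_comm] at this
    refine this.trans ?_
    refine Finset.sum_congr rfl fun a _ => Finset.sum_congr rfl fun b _ => ?_
    rw [add_comm]
  have hfinA : (∑ i' ∈ Finset.range i, ∑ k ∈ Finset.range (n - i), d (i' + k)) < ⊤ := by
    rw [ENat.sum_lt_top]
    intro a ha
    rw [ENat.sum_lt_top]
    intro b hb
    apply hdfin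
    rw [Finset.mem_range] at ha hb
    omega
  refine ⟨⟨?_, ?_⟩, ?_⟩
  · rw [e0]; exact hfinA
  · rw [e1]; exact hfinA
  · unfold CycAlg.herbrand
    rw [e0, e1, sub_self]

end Groth.Agent.S1831
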