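import Groth.Statements.S1832
import Groth.Agent.Lib.Helper15.RelLen3

set_option autoImplicit false
universe u v
open Pointwise
open CycAlg

namespace Groth.Agent.S1832


open Groth.Agent.Lib.helper15.RelLen in
theorem aux {R : Type u} [CommRing R] [IsNoetherianRing R] {M : Type v} [AddCommGroup M]
    [Module R M] [Module.Finite R M] (φ ψ : M →ₗ[R] M) (hper : CycAlg.IsPeriodic φ ψ) (x : R)
    (hx : Module.supportDim R (M ⧸ x • (⊤ : Submodule R M)) ≤ 0) :
    ∃ a b : ℕ∞, a < ⊤ ∧ b < ⊤ ∧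
      Module.length R (CycAlg.perH (0 : ↥(LinearMap.range φ) →ₗ[R] ↥(LinearMap.range φ))
        (x • LinearMap.id)) = a ∧
      Module.length R (CycAlg.perH (x • LinearMap.id)
        (0 : ↥(LinearMap.range φ) →ₗ[R] ↥(LinearMap.range φ))) = b ∧
      Module.length R (CycAlg.perH (x • φ) ψ) = b + Module.length R (CycAlg.perH φ ψ) ∧
      Module.length R (CycAlg.perH ψ (x • φ)) = Module.length R (CycAlg.perH ψ φ) + a := by
  obtain ⟨f1, f2⟩ := length_lt_top_of_supportDim_quot x hx (LinearMap.range φ)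
  obtain ⟨r1, r2⟩ := rl_range_aux φ x
  obtain ⟨s1, s2⟩ := smul_left_rl φ ψ hper.1 hper.2 x
  refine ⟨_, _, ?_, ?_, rfl, rfl, ?_, ?_⟩
  · change rl _ _ < ⊤
    rw [LinearMap.ker_zero, rl_top]
    exact f1
  · change rl _ _ < ⊤
    rw [LinearMap.range_zero, rl_bot]
    exact f2
  · change rl _ _ = rl _ _ + rl _ _
    rw [r2]
    exact s1
  · change rl _ _ = rl _ _ + rl _ _
    rw [r1]
    exact s2

/-- Over a Noetherian local ring, let (M, φ, ψ) be a (2,1)-periodic complex with M finite and cohomology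
of finite length, and let x be a ring element with M/xM supported in dimension ≤ 0. Then (M, xφ, ψ)
and (M, φ, xψ) again have finite-length cohomology, and their Herbrand quotients differ from that of
(M, φ, ψ) by the Herbrand quotient of (im φ, 0, x), respectively (im ψ, 0, x). -/
theorem result {R : Type u} [CommRing R] [IsNoetherianRing R] [IsLocalRing R] {M : Type v} [AddCommGroup M] [Module R M] [Module.Finite R M] (φ ψ : M →ₗ[R] M) (hper : CycAlg.IsPeriodic φ ψ) (hfin : CycAlg.FinCoh R φ ψ) (x : R) (hx : Module.supportDim R (M ⧸ x • (⊤ : Submodule R M)) ≤ 0) : (CycAlg.FinCoh R (x • φ) ψ ∧ CycAlg.herbrand R (x • φ) ψ = CycAlg.herbrand R φ ψ - CycAlg.herbrand R (0 : ↥(LinearMap.range φ) →ₗ[R] ↥(LinearMap.range φ)) (x • LinearMap.id)) ∧ (CycAlg.FinCoh R φ (x • ψ) ∧ CycAlg.herbrand R φ (x • ψ) = CycAlg.herbrand R φ ψ + CycAlg.herbrand R (0 : ↥(LinearMap.range ψ) →ₗ[R] ↥(LinearMap.range ψ)) (x • LinearMap.id)) := by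
  obtain ⟨a, b, ha, hb, e1, e2, e3, e4⟩ := aux φ ψ hper x hx
  obtain ⟨a', b', ha', hb', e1', e2', e3', e4'⟩ := aux ψ φ ⟨hper.2, hper.1⟩ x hx
  obtain ⟨h0, h1⟩ := hfin
  unfold CycAlg.FinCoh CycAlg.herbrand
  rw [e1, e2, e3, e4, e1', e2', e3', e4']
  generalize Module.length R (CycAlg.perH φ ψ) = p at *
  generalize Module.length R (CycAlg.perH ψ φ) = q at *
  lift a to ℕ using ha.ne
  lift b to ℕ using hb.ne
  lift a' to ℕ using ha'.ne
  lift b' to ℕ using hb'.ne
  lift p to ℕ using h0.ne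
  lift q to ℕ using h1.ne
  refine ⟨⟨⟨?_, ?_⟩, ?_⟩, ⟨⟨?_, ?_⟩, ?_⟩⟩
  · exact ENat.natCast_lt_top _
  · exact ENat.natCast_lt_top _
  · simp only [← Nat.cast_add, ENat.toNat_natCast]
    push_cast
    ring
  · exact ENat.natCast_lt_top _
  · exact ENat.natCast_lt_top _
  · simp only [← Nat.cast_add, ENat.toNat_natCast]
    push_cast
    ring

end Groth.Agent.S1832
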