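import Groth.Statements.S6464
import Mathlib
-- import your own Groth.Agent.* helpers here

set_option autoImplicit false
universe u v
open CycAlg

namespace Groth.Agent.S6464

/-- Let (M, N, φ, ψ) be a 2-periodic complex over a ring R with M and N of finite length. Then its
cohomology modules have finite length and e_R(M, N, φ, ψ) = length_R(M) − length_R(N). (The case M =
N, where the conclusion reads e_R(M, φ, ψ) = 0, is the special case and is not restated.) -/
theorem result {R : Type u} [CommRing R] {M N : Type v} [AddCommGroup M] [Module R M] [AddCommGroup N] [Module R N] (φ : M →ₗ[R] N) (ψ : N →ₗ[R] M) (h : CycAlg.IsPeriodic φ ψ) (hM : Module.length R M < ⊤) (hN : Module.length R N < ⊤) : CycAlg.FinCoh R φ ψ ∧ CycAlg.herbrand R φ ψ = ((Module.length R M).toNat : ℤ) - ((Module.length R N).toNat : ℤ) := by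
  obtain ⟨h1, h2⟩ := h
  have key : ∀ {M N : Type v} [AddCommGroup M] [Module R M] [AddCommGroup N] [Module R N]
      (φ : M →ₗ[R] N) (ψ : N →ₗ[R] M), φ ∘ₗ ψ = 0 →
      Module.length R M = Module.length R (LinearMap.ker φ) + Module.length R (LinearMap.range φ) ∧
      Module.length R (LinearMap.ker φ) = Module.length R (LinearMap.range ψ) +
        Module.length R (CycAlg.perH φ ψ) := by
    intro M N _ _ _ _ φ ψ h1
    constructor
    · exact Module.length_eq_add_of_exact (LinearMap.ker φ).subtype φ.rangeRestrict
        (Submodule.subtype_injective _) φ.surjective_rangeRestrict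
        (by
          intro x
          constructor
          · intro hx
            refine ⟨⟨x, ?_⟩, rfl⟩
            have := congrArg Subtype.val hx
            simpa using this
          · rintro ⟨y, rfl⟩
            apply Subtype.ext
            simp)
    · have hle : LinearMap.range ψ ≤ LinearMap.ker φ := by
        rintro _ ⟨y, rfl⟩
        have := LinearMap.congr_fun h1 y
        simpa using this
      rw [← (Submodule.submoduleOfEquivOfLe hle).length_eq]
      exact Module.length_eq_add_of_exact
        ((LinearMap.range ψ).submoduleOf (LinearMap.ker φ)).subtype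
        ((LinearMap.range ψ).submoduleOf (LinearMap.ker φ)).mkQ
        (Submodule.subtype_injective _) (Submodule.mkQ_surjective _)
        (LinearMap.exact_subtype_mkQ _)
  obtain ⟨e1, e2⟩ := key φ ψ h1
  obtain ⟨e3, e4⟩ := key ψ φ h2
  unfold CycAlg.FinCoh CycAlg.herbrand
  generalize Module.length R M = a at *
  generalize Module.length R N = b at *
  generalize Module.length R (LinearMap.ker φ) = kφ at *
  generalize Module.length R (LinearMap.range φ) = rφ at *
  generalize Module.length R (LinearMap.ker ψ) = kψ at *
  generalize Module.length R (LinearMap.range ψ) = rψ at *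
  generalize Module.length R (CycAlg.perH φ ψ) = h0 at *
  generalize Module.length R (CycAlg.perH ψ φ) = h1' at *
  have hkφ : kφ ≠ ⊤ := by rintro rfl; simp [e1] at hM
  have hrφ : rφ ≠ ⊤ := by rintro rfl; simp [e1] at hM
  have hkψ : kψ ≠ ⊤ := by rintro rfl; simp [e3] at hN
  have hrψ : rψ ≠ ⊤ := by rintro rfl; simp [e3] at hN
  have hh0 : h0 ≠ ⊤ := by rintro rfl; simp at e2; exact hkφ e2
  have hh1 : h1' ≠ ⊤ := by rintro rfl; simp at e4; exact hkψ e4
  lift a to ℕ using hM.ne
  lift b to ℕ using hN.ne
  lift kφ to ℕ using hkφ
  lift rφ to ℕ using hrφ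
  lift kψ to ℕ using hkψ
  lift rψ to ℕ using hrψ
  lift h0 to ℕ using hh0
  lift h1' to ℕ using hh1
  refine ⟨⟨ENat.natCast_lt_top _, ENat.natCast_lt_top _⟩, ?_⟩
  norm_cast at e1 e2 e3 e4
  simp only [ENat.toNat_natCast]
  omega

end Groth.Agent.S6464
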