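import Groth.Statements.S1870
import Groth.Agent.S1869
import Groth.Agent.S6464

set_option autoImplicit false
universe u v
open CycAlg

namespace Groth.Agent.S1870

/-- A morphism of (2,1)-periodic complexes, both with finite-length cohomology, whose kernel and
cokernel have finite length does not change the additive Herbrand quotient: e_R(M, φ, ψ) = e_R(M',
φ', ψ'). -/
theorem result {R : Type u} [CommRing R] {M M' : Type v} [AddCommGroup M] [Module R M] [AddCommGroup M'] [Module R M'] (φ ψ : M →ₗ[R] M) (φ' ψ' : M' →ₗ[R] M') (h : CycAlg.IsPeriodic φ ψ) (h' : CycAlg.IsPeriodic φ' ψ') (f : M →ₗ[R] M') (cφ : φ' ∘ₗ f = f ∘ₗ φ) (cψ : ψ' ∘ₗ f = f ∘ₗ ψ) (hfin : CycAlg.FinCoh R φ ψ) (hfin' : CycAlg.FinCoh R φ' ψ') (hker : Module.length R (LinearMap.ker f) < ⊤) (hcoker : Module.length R (M' ⧸ LinearMap.range f) < ⊤) : CycAlg.herbrand R φ ψ = CycAlg.herbrand R φ' ψ' := by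
  classical
  -- restrictions to the kernel
  have hφK : ∀ x ∈ LinearMap.ker f, φ x ∈ LinearMap.ker f := by
    intro x hx
    have := LinearMap.congr_fun cφ x
    simp only [LinearMap.comp_apply] at this
    rw [LinearMap.mem_ker] at hx ⊢
    rw [← this, hx, map_zero]
  have hψK : ∀ x ∈ LinearMap.ker f, ψ x ∈ LinearMap.ker f := by
    intro x hx
    have := LinearMap.congr_fun cψ x
    simp only [LinearMap.comp_apply] at this
    rw [LinearMap.mem_ker] at hx ⊢
    rw [← this, hx, map_zero]
  have hφI : ∀ x ∈ LinearMap.range f, φ' x ∈ LinearMap.range f := by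
    rintro x ⟨y, rfl⟩
    have := LinearMap.congr_fun cφ y
    simp only [LinearMap.comp_apply] at this
    exact ⟨φ y, this.symm⟩
  have hψI : ∀ x ∈ LinearMap.range f, ψ' x ∈ LinearMap.range f := by
    rintro x ⟨y, rfl⟩
    have := LinearMap.congr_fun cψ y
    simp only [LinearMap.comp_apply] at this
    exact ⟨ψ y, this.symm⟩
  have h1 : ∀ x, φ (ψ x) = 0 := fun x => LinearMap.congr_fun h.1 x
  have h2 : ∀ x, ψ (φ x) = 0 := fun x => LinearMap.congr_fun h.2 x
  have h1' : ∀ x, φ' (ψ' x) = 0 := fun x => LinearMap.congr_fun h'.1 x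
  have h2' : ∀ x, ψ' (φ' x) = 0 := fun x => LinearMap.congr_fun h'.2 x
  let φK : LinearMap.ker f →ₗ[R] LinearMap.ker f := φ.restrict hφK
  let ψK : LinearMap.ker f →ₗ[R] LinearMap.ker f := ψ.restrict hψK
  let φI : LinearMap.range f →ₗ[R] LinearMap.range f := φ'.restrict hφI
  let ψI : LinearMap.range f →ₗ[R] LinearMap.range f := ψ'.restrict hψI
  let φC : (M' ⧸ LinearMap.range f) →ₗ[R] (M' ⧸ LinearMap.range f) :=
    Submodule.mapQ _ _ φ' hφI
  let ψC : (M' ⧸ LinearMap.range f) →ₗ[R] (M' ⧸ LinearMap.range f) :=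
    Submodule.mapQ _ _ ψ' hψI
  have hK : CycAlg.IsPeriodic φK ψK := by
    constructor
    · ext x
      exact h1 x
    · ext x
      exact h2 x
  have hI : CycAlg.IsPeriodic φI ψI := by
    constructor
    · ext x
      exact h1' x
    · ext x
      exact h2' x
  have hC : CycAlg.IsPeriodic φC ψC := by
    constructor
    · ext x
      change Submodule.Quotient.mk (φ' (ψ' x)) = 0
      rw [h1', Submodule.Quotient.mk_zero]
    · ext x
      change Submodule.Quotient.mk (ψ' (φ' x)) = 0
      rw [h2', Submodule.Quotient.mk_zero]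
  obtain ⟨fK, eK⟩ := Groth.Agent.S6464.result φK ψK hK hker hker
  obtain ⟨fC, eC⟩ := Groth.Agent.S6464.result φC ψC hC hcoker hcoker
  rw [sub_self] at eK eC
  -- first short exact sequence: 0 → ker f → M → range f → 0
  have A := Groth.Agent.S1869.result φK ψK φ ψ φI ψI hK h hI
    (LinearMap.ker f).subtype (LinearMap.ker f).subtype f.rangeRestrict f.rangeRestrict
    (by ext x; rfl) (by ext x; rfl)
    (by
      ext x
      have := LinearMap.congr_fun cφ x
      simp only [LinearMap.comp_apply] at this
      exact this)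
    (by
      ext x
      have := LinearMap.congr_fun cψ x
      simp only [LinearMap.comp_apply] at this
      exact this)
    (Submodule.subtype_injective _) (Submodule.subtype_injective _)
    f.surjective_rangeRestrict f.surjective_rangeRestrict
    (by rw [Submodule.range_subtype, LinearMap.ker_rangeRestrict])
    (by rw [Submodule.range_subtype, LinearMap.ker_rangeRestrict])
    (Or.inl ⟨fK, hfin⟩)
  -- second short exact sequence: 0 → range f → M' → coker f → 0
  have B := Groth.Agent.S1869.result φI ψI φ' ψ' φC ψC hI h' hC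
    (LinearMap.range f).subtype (LinearMap.range f).subtype (LinearMap.range f).mkQ
    (LinearMap.range f).mkQ
    (by ext x; rfl) (by ext x; rfl) (by ext x; rfl) (by ext x; rfl)
    (Submodule.subtype_injective _) (Submodule.subtype_injective _)
    (Submodule.mkQ_surjective _) (Submodule.mkQ_surjective _)
    (by rw [Submodule.range_subtype, Submodule.ker_mkQ])
    (by rw [Submodule.range_subtype, Submodule.ker_mkQ])
    (Or.inr (Or.inr ⟨hfin', fC⟩))
  rw [A.2.2.2, B.2.2.2, eK, eC, zero_add, add_zero]

end Groth.Agent.S1870
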