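import Groth.Statements.S14503
import Groth.Agent.Lib.Helper10.LatDist

set_option autoImplicit false
universe u
open IntTh

namespace Groth.Agent.S14503

open Groth.Agent.Lib.helper10.LatDist

lemma length_range {A : Type u} [CommRing A] {W V : Type u} [AddCommGroup W] [Module A W]
    [AddCommGroup V] [Module A V] (e : W →ₗ[A] V) (he : Function.Injective e)
    (I : Submodule A W) :
    Module.length A (↥(LinearMap.range e) ⧸ (I.map e).submoduleOf (LinearMap.range e)) =
      Module.length A (W ⧸ I) := by
  let eR : W ≃ₗ[A] ↥(LinearMap.range e) := LinearEquiv.ofInjective e he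
  have h : I.map (eR : W →ₗ[A] ↥(LinearMap.range e)) =
      (I.map e).submoduleOf (LinearMap.range e) := by
    ext ⟨y, hy⟩
    constructor
    · rintro ⟨x, hxI, hxy⟩
      exact ⟨x, hxI, congrArg Subtype.val hxy⟩
    · rintro ⟨x, hxI, hxy⟩
      exact ⟨x, hxI, Subtype.ext hxy⟩
  exact (Submodule.Quotient.equiv _ _ eR h).length_eq.symm


/-- Let A ⊆ B be a module-finite extension of domains with A Noetherian local of Krull dimension one, K
⊆ L their fraction fields, and r ∈ B nonzero. Then B/rB has finite length as an A-module and
length_A(B/rB) equals the order at the closed point of A of the norm N_{L/K}(r), i.e.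
length_A(A/(a)) − length_A(A/(b)) for N_{L/K}(r) = a/b. -/
theorem result (A : Type u) [CommRing A] [IsDomain A]
    [IsNoetherianRing A] [IsLocalRing A] (hA : ringKrullDim A = 1) (B : Type u) [CommRing B]
    [IsDomain B] [Algebra A B] (hinj : Function.Injective (algebraMap A B)) [Module.Finite A B]
    (K L : Type u) [Field K] [Field L] [Algebra A K] [IsFractionRing A K] [Algebra B L]
    [IsFractionRing B L] [Algebra K L] [Algebra A L] [IsScalarTower A B L] [IsScalarTower A K L]
    [FiniteDimensional K L] (r : B) (hr : r ≠ 0) :
    Module.length A (B ⧸ Ideal.span {r}) < ⊤ ∧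
      ((Module.length A (B ⧸ Ideal.span {r})).toNat : ℤ) =
        CycAlg.ordFrac A K (Algebra.norm K (algebraMap B L r)) := by
  classical
  have : Algebra.IsIntegral A B := inferInstance
  have : Algebra.IsAlgebraic A B := inferInstance
  let e : B →ₗ[A] L := (IsScalarTower.toAlgHom A B L).toLinearMap
  have he_apply : ∀ x, e x = algebraMap B L x := fun x => rfl
  have he : Function.Injective e := IsFractionRing.injective B L
  let M : Submodule A L := LinearMap.range e
  have hM : Submodule.IsLattice K M := by
    refine ⟨?_, ?_⟩
    · change (LinearMap.range e).FG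
      rw [LinearMap.range_eq_map]
      exact Submodule.FG.map _ Module.Finite.fg_top
    · rw [eq_top_iff]
      rintro ℓ -
      obtain ⟨x, y, hy, rfl⟩ := IsFractionRing.div_surjective (A := B) ℓ
      obtain ⟨a, ha, c, hc⟩ := (Algebra.IsAlgebraic.isAlgebraic (R := A) y).exists_nonzero_dvd hy
      have hy0 : algebraMap B L y ≠ 0 := by
        intro h
        exact nonZeroDivisors.ne_zero hy (IsFractionRing.injective B L (by rw [h, map_zero]))
      have haK : algebraMap A K a ≠ 0 := by
        intro h
        exact ha (IsFractionRing.injective A K (by rw [h, map_zero]))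
      have haL : algebraMap A L a ≠ 0 := by
        rw [IsScalarTower.algebraMap_apply A K L]
        intro h
        exact haK ((algebraMap K L).injective (by rw [h, map_zero]))
      have hc' : algebraMap A L a = algebraMap B L y * algebraMap B L c := by
        rw [IsScalarTower.algebraMap_apply A B L, hc, map_mul]
      have hcL : algebraMap B L c ≠ 0 := by
        intro h
        rw [h, mul_zero] at hc'
        exact haL hc'
      have key : algebraMap B L x / algebraMap B L y =
          (algebraMap A K a)⁻¹ • e (x * c) := by
        rw [he_apply, map_mul, Algebra.smul_def, map_inv₀, ← IsScalarTower.algebraMap_apply A K L,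
          hc']
        field_simp
      rw [key]
      exact Submodule.smul_mem _ _ (Submodule.subset_span ⟨x * c, rfl⟩)
  have hρ : algebraMap B L r ≠ 0 := by
    intro h
    exact hr (IsFractionRing.injective B L (by rw [h, map_zero]))
  let φ : L ≃ₗ[K] L := LinearEquiv.ofLinearMap (Algebra.lmul K L (algebraMap B L r))
    (Algebra.lmul K L (algebraMap B L r)⁻¹)
    (by ext x; simp [hρ]) (by ext x; simp [hρ])
  have hφ : φ.toLinearMap = Algebra.lmul K L (algebraMap B L r) := rfl
  have hφ_apply : ∀ x, φ x = algebraMap B L r * x := fun x => rfl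
  let I' : Submodule A B := (Ideal.span {r}).restrictScalars A
  have hN : M.map (φ.toLinearMap.restrictScalars A) = I'.map e := by
    ext y
    constructor
    · rintro ⟨_, ⟨x, rfl⟩, rfl⟩
      refine ⟨r * x, ?_, ?_⟩
      · change r * x ∈ Ideal.span {r}
        exact Ideal.mul_mem_right _ _ (Ideal.mem_span_singleton_self r)
      · rw [LinearMap.restrictScalars_apply, LinearEquiv.coe_coe, hφ_apply, he_apply, he_apply,
          map_mul]
    · rintro ⟨x, hx, rfl⟩
      have hx' : x ∈ Ideal.span {r} := hx
      obtain ⟨c, rfl⟩ := Ideal.mem_span_singleton'.mp hx'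
      refine ⟨e c, ⟨c, rfl⟩, ?_⟩
      rw [LinearMap.restrictScalars_apply, LinearEquiv.coe_coe, hφ_apply, he_apply, he_apply,
        map_mul, mul_comm]
  have hle : M.map (φ.toLinearMap.restrictScalars A) ≤ M := by
    rw [hN]
    rintro _ ⟨x, -, rfl⟩
    exact ⟨x, rfl⟩
  have hlat : Submodule.IsLattice K (M.map (φ.toLinearMap.restrictScalars A)) :=
    isLattice_map K M φ.toLinearMap φ.surjective
  have h1 := dist_map_eq hA K M φ
  have h2 := length_lt_top hA K M (M.map (φ.toLinearMap.restrictScalars A))
  rw [dist_of_le hle] at h1
  rw [inf_eq_right.mpr hle] at h2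
  have h3 : Module.length A (↥M ⧸ (M.map (φ.toLinearMap.restrictScalars A)).submoduleOf M) =
      Module.length A (B ⧸ Ideal.span {r}) := by
    rw [hN]
    exact (length_range e he I').trans
      (Submodule.Quotient.restrictScalarsEquiv A (Ideal.span {r})).length_eq
  rw [h3] at h1 h2
  refine ⟨h2, ?_⟩
  rw [h1, hφ, Algebra.norm_apply]

end Groth.Agent.S14503
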