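import Groth.Statements.S8854
import Mathlib

set_option autoImplicit false
universe u
open SDiv

namespace Groth.Agent.S8854

section helpers


theorem main (R : Type u) [CommRing R] [IsDomain R] [IsNoetherianRing R]
    [UniqueFactorizationMonoid R] (I : Ideal R)
    (h1 : ∀ p : Ideal R, p ∈ associatedPrimes R (R ⧸ I) → p ∈ I.minimalPrimes)
    (h2 : ∀ p : Ideal R, p ∈ I.minimalPrimes → p.height = 1) :
    ∃ f : R, I = Ideal.span {f} := by
  classical
  by_cases hI0 : I = ⊥
  · exact ⟨0, by rw [hI0]; simp⟩
  letI := UniqueFactorizationMonoid.strongNormalizationMonoid (α := R)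
  letI := UniqueFactorizationMonoid.toNormalizedGCDMonoid R
  obtain ⟨T, hT⟩ := (isNoetherianRing_iff_ideal_fg R).1 inferInstance I
  have hTne : T.Nonempty := by
    by_contra hcon
    rw [Finset.not_nonempty_iff_eq_empty] at hcon
    apply hI0
    rw [← hT, hcon]
    simp
  obtain ⟨g, hg, hg1⟩ := Finset.extract_gcd (id : R → R) hTne
  set d := T.gcd id with hd
  have hd0 : d ≠ 0 := by
    intro h0
    apply hI0
    rw [← hT, Ideal.span_eq_bot]
    intro b hb
    have := hg b hb
    rw [h0, zero_mul] at this
    exact this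
  set J : Ideal R := Ideal.span (g '' (T : Set R)) with hJ
  have hIJ : I = Ideal.span {d} * J := by
    rw [hJ, Ideal.span_mul_span, ← hT]
    apply le_antisymm
    · rw [Ideal.span_le]
      intro b hb
      apply Ideal.subset_span
      rw [Set.mem_mul]
      refine ⟨d, rfl, g b, ⟨b, hb, rfl⟩, ?_⟩
      have := hg b hb
      simp only [id] at this
      exact this.symm
    · rw [Ideal.span_le]
      intro x hx
      rw [Set.mem_mul] at hx
      obtain ⟨d', hd', _, ⟨b, hb, rfl⟩, hx⟩ := hx
      rw [Set.mem_singleton_iff] at hd'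
      subst hd'
      have := hg b hb
      simp only [id] at this
      rw [← hx, ← this]
      exact Ideal.subset_span hb
  suffices hJtop : J = ⊤ by
    exact ⟨d, by rw [hIJ, hJtop, Ideal.mul_top]⟩
  by_contra hJne
  haveI : Nontrivial (R ⧸ J) := Ideal.Quotient.nontrivial_iff.2 hJne
  obtain ⟨p, hp⟩ := associatedPrimes.nonempty R (R ⧸ J)
  have hpprime : p.IsPrime := hp.isPrime
  have hJp : J ≤ p := by
    refine le_trans ?_ hp.annihilator_le
    intro x hx
    rw [Submodule.mem_annihilator]
    intro m _
    obtain ⟨r, rfl⟩ := Ideal.Quotient.mk_surjective m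
    rw [← Ideal.Quotient.mk_eq_mk, ← Submodule.Quotient.mk_smul, Submodule.Quotient.mk_eq_zero]
    exact J.mul_mem_right r hx
  -- the injection R/J → R/I
  have hle : J ≤ Submodule.comap (LinearMap.mulLeft R d) I := by
    intro x hx
    rw [Submodule.mem_comap, hIJ]
    exact Ideal.mul_mem_mul (Ideal.mem_span_singleton_self d) hx
  let φ : (R ⧸ J) →ₗ[R] (R ⧸ I) := Submodule.mapQ J I (LinearMap.mulLeft R d) hle
  have hφinj : Function.Injective φ := by
    rw [← LinearMap.ker_eq_bot, LinearMap.ker_eq_bot']
    intro m hm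
    obtain ⟨r, rfl⟩ := Ideal.Quotient.mk_surjective m
    have : φ (Ideal.Quotient.mk J r) = Ideal.Quotient.mk I (d * r) := rfl
    rw [this, Ideal.Quotient.eq_zero_iff_mem, hIJ, Ideal.mem_span_singleton_mul] at hm
    obtain ⟨z, hz, hdz⟩ := hm
    have : z = r := mul_left_cancel₀ hd0 hdz
    rw [Ideal.Quotient.eq_zero_iff_mem, ← this]
    exact hz
  have hpI : p ∈ associatedPrimes R (R ⧸ I) := associatedPrimes.subset_of_injective hφinj hp
  have hpmin := h1 p hpI
  have hph := h2 p hpmin
  obtain ⟨π, hπ⟩ := UniqueFactorizationMonoid.isPrincipal_of_height_eq_one hph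
  have hπ' : p = Ideal.span {π} := hπ
  have hdvd : π ∣ T.gcd g := by
    apply Finset.dvd_gcd
    intro b hb
    have : g b ∈ p := hJp (Ideal.subset_span ⟨b, hb, rfl⟩)
    rw [hπ', Ideal.mem_span_singleton] at this
    exact this
  rw [hg1] at hdvd
  have hunit : IsUnit π := isUnit_of_dvd_one hdvd
  apply hpprime.ne_top
  rw [hπ', Ideal.span_singleton_eq_top]
  exact hunit


end helpers


/-- Let R be a Noetherian unique factorisation domain and I ⊆ R an ideal such that every associated
prime of R/I is minimal over I (R/I has no embedded primes) and every prime minimal over I has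
height 1. Then I is principal: it is generated by one element. -/
theorem result (R : Type u) [CommRing R] [IsDomain R] [IsNoetherianRing R]
    [UniqueFactorizationMonoid R] (I : Ideal R)
    (h1 : ∀ p : Ideal R, p ∈ associatedPrimes R (R ⧸ I) → p ∈ I.minimalPrimes)
    (h2 : ∀ p : Ideal R, p ∈ I.minimalPrimes → p.height = 1) :
    ∃ f : R, I = Ideal.span {f} := by
  exact main R I h1 h2

end Groth.Agent.S8854
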