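import Groth.Statements.S1700
import Mathlib
import Groth.Agent.Lib.Helper21.SubDict
import Groth.Agent.S1570
import Groth.Agent.S1684
import Groth.Agent.S8854
-- import your own Groth.Agent.* helpers here

set_option autoImplicit false
universe u
open CategoryTheory CategoryTheory.Limits AlgebraicGeometry TopologicalSpace
open SDiv

namespace Groth.Agent.S1700

/-- Let X be a Noetherian scheme and 𝓘 a quasi-coherent ideal sheaf with closed subscheme Z such that
(1) Z has no embedded points: every point of Z whose local ring has its maximal ideal associated is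
a maximal point of Z; (2) every maximal point of Z has codimension 1 in X (the local ring of X there
has dimension 1); (3) the local ring of X at every point of Z is a unique factorisation domain. Then
𝓘 is the ideal sheaf of an effective Cartier divisor. -/
theorem result (X : Scheme.{u}) [IsNoetherian X] (𝓘 : X.IdealSheafData)
    (h1 : ∀ z : ↥𝓘.subscheme, IsAssociatedPrime (IsLocalRing.maximalIdeal ↑(𝓘.subscheme.presheaf.stalk z)) ↑(𝓘.subscheme.presheaf.stalk z) → ∀ z' : ↥𝓘.subscheme, z' ⤳ z → z' = z)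
    (h2 : ∀ z : ↥𝓘.subscheme, (∀ z' : ↥𝓘.subscheme, z' ⤳ z → z' = z) →
      ringKrullDim (X.presheaf.stalk (𝓘.subschemeι z)) = 1)
    (h3 : ∀ x : ↥X, x ∈ 𝓘.support → IsDomain (X.presheaf.stalk x) ∧ UniqueFactorizationMonoid (X.presheaf.stalk x)) :
    BlowUp.IsEffCartierIdeal 𝓘 := by
  classical
  apply Groth.Agent.S1570.main
  intro x hxD U hxU
  obtain ⟨hdom, hufm⟩ := h3 x hxD
  haveI : IsNoetherianRing Γ(X, U.1) := IsLocallyNoetherian.component_noetherian U
  -- conditions on the affine chart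
  have H1 : ∀ Q : Ideal Γ(X, U.1), Q ∈ associatedPrimes Γ(X, U.1) (Γ(X, U.1) ⧸ 𝓘.ideal U) →
      Q ∈ (𝓘.ideal U).minimalPrimes := by
    intro Q hQ
    haveI hQp : Q.IsPrime := IsAssociatedPrime.isPrime hQ
    have hIQ : 𝓘.ideal U ≤ Q := by
      obtain ⟨-, y, hy⟩ := (isAssociatedPrime_iff).mp hQ
      intro r hr
      rw [hy, Submodule.mem_colon_singleton, Submodule.mem_bot]
      obtain ⟨b, rfl⟩ := Ideal.Quotient.mk_surjective y
      change Ideal.Quotient.mk (𝓘.ideal U) (r * b) = 0
      rw [Ideal.Quotient.eq_zero_iff_mem]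
      exact Ideal.mul_mem_right _ _ hr
    obtain ⟨z, hz, hzQ⟩ := Groth.Agent.Lib.helper21.SubDict.exists_point_of_prime 𝓘 U Q hIQ
    have hass := Groth.Agent.Lib.helper21.SubDict.assoc_of_assoc 𝓘 U z hz (hzQ ▸ hQ)
    have hmax := h1 z hass
    have := (Groth.Agent.Lib.helper21.SubDict.maximalPoint_iff 𝓘 U z hz).mp hmax
    rwa [hzQ] at this
  have H2 : ∀ Q : Ideal Γ(X, U.1), Q ∈ (𝓘.ideal U).minimalPrimes → Q.height = 1 := by
    intro Q hQ
    haveI := hQ.1.1
    obtain ⟨z, hz, hzQ⟩ := Groth.Agent.Lib.helper21.SubDict.exists_point_of_prime 𝓘 U Q hQ.1.2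
    have hmax := (Groth.Agent.Lib.helper21.SubDict.maximalPoint_iff 𝓘 U z hz).mpr (hzQ ▸ hQ)
    have hdim := h2 z hmax
    letI := TopCat.Presheaf.algebra_section_stalk X.presheaf
      (⟨𝓘.subschemeι z, hz⟩ : U.1)
    haveI : IsLocalization.AtPrime (X.presheaf.stalk (𝓘.subschemeι z))
        (Groth.Agent.Lib.helper21.SubDict.primeU 𝓘 U z hz).asIdeal :=
      U.2.isLocalization_stalk ⟨𝓘.subschemeι z, hz⟩
    have := IsLocalization.AtPrime.ringKrullDim_eq_height
      (Groth.Agent.Lib.helper21.SubDict.primeU 𝓘 U z hz).asIdeal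
      (X.presheaf.stalk (𝓘.subschemeι z))
    rw [hdim, hzQ] at this
    exact_mod_cast this.symm
  -- localize at `x`
  set p := U.2.primeIdealOf ⟨x, hxU⟩ with hp
  letI := TopCat.Presheaf.algebra_section_stalk X.presheaf (⟨x, hxU⟩ : U.1)
  haveI hloc : IsLocalization.AtPrime (X.presheaf.stalk x) p.asIdeal :=
    U.2.isLocalization_stalk ⟨x, hxU⟩
  set J : Ideal (X.presheaf.stalk x) :=
    (𝓘.ideal U).map (algebraMap Γ(X, U.1) (X.presheaf.stalk x)) with hJ
  have hJ' : (𝓘.ideal U).localized' (X.presheaf.stalk x) p.asIdeal.primeCompl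
      (Algebra.linearMap Γ(X, U.1) (X.presheaf.stalk x)) = J := by
    rw [Submodule.localized'_eq_span]
    rfl
  have hminJ : ∀ q : Ideal (X.presheaf.stalk x), q ∈ J.minimalPrimes ↔
      q.comap (algebraMap Γ(X, U.1) (X.presheaf.stalk x)) ∈ (𝓘.ideal U).minimalPrimes := by
    intro q
    rw [hJ, IsLocalization.minimalPrimes_map p.asIdeal.primeCompl (X.presheaf.stalk x) (𝓘.ideal U)]
    rfl
  have h1' : ∀ q : Ideal (X.presheaf.stalk x),
      q ∈ associatedPrimes (X.presheaf.stalk x) (X.presheaf.stalk x ⧸ J) → q ∈ J.minimalPrimes := by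
    intro q hq
    rw [hminJ]
    apply H1
    have hq' : q ∈ associatedPrimes (X.presheaf.stalk x) (X.presheaf.stalk x ⧸
        (𝓘.ideal U).localized' (X.presheaf.stalk x) p.asIdeal.primeCompl
          (Algebra.linearMap Γ(X, U.1) (X.presheaf.stalk x))) := by
      rw [hJ']
      exact hq
    exact Module.associatedPrimes.comap_mem_associatedPrimes_of_mem_associatedPrimes_of_isLocalizedModule_of_fg
      p.asIdeal.primeCompl ((𝓘.ideal U).toLocalizedQuotient' (X.presheaf.stalk x) p.asIdeal.primeCompl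
        (Algebra.linearMap Γ(X, U.1) (X.presheaf.stalk x))) q hq'
      ((isNoetherianRing_iff_ideal_fg _).mp ‹_› _)
  have h2' : ∀ q : Ideal (X.presheaf.stalk x), q ∈ J.minimalPrimes → q.height = 1 := by
    intro q hq
    have := H2 _ ((hminJ q).mp hq)
    rw [← IsLocalization.height_under p.asIdeal.primeCompl q]
    exact this
  obtain ⟨f, hf⟩ := Groth.Agent.S8854.result (X.presheaf.stalk x) J h1' h2'
  -- `f ≠ 0`
  have hIp : 𝓘.ideal U ≤ p.asIdeal := Groth.Agent.S1684.le_primeIdealOf_of_mem_support 𝓘 U x hxU hxD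
  have hJm : J ≤ IsLocalRing.maximalIdeal (X.presheaf.stalk x) := by
    rw [hJ, Ideal.map_le_iff_le_comap]
    have hunder := IsLocalization.AtPrime.under_maximalIdeal (X.presheaf.stalk x) p.asIdeal
    change Ideal.comap _ _ = _ at hunder
    rw [hunder]
    exact hIp
  obtain ⟨q, hqmin, -⟩ := Ideal.exists_minimalPrimes_le hJm
  have hqh := h2' q hqmin
  have hf0 : f ≠ 0 := by
    rintro rfl
    have hJbot : J = ⊥ := by rw [hf]; simp
    haveI := hqmin.1.1
    have : q = ⊥ := by
      have hbotmem : (⊥ : Ideal (X.presheaf.stalk x)) ∈ J.minimalPrimes := by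
        rw [hJbot]
        exact ⟨⟨Ideal.isPrime_bot, le_rfl⟩, fun _ _ _ => bot_le⟩
      exact le_antisymm (hqmin.2 hbotmem.1 bot_le) bot_le
    rw [this, Ideal.height_bot] at hqh
    exact zero_ne_one hqh
  exact ⟨f, mem_nonZeroDivisors_of_ne_zero hf0, hf⟩

end Groth.Agent.S1700
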