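import Groth.Statements.S0452
import Groth.Agent.Lib.Helper7.FreeYoneda
import Groth.Agent.Lib.Helper7.DimShift
import Groth.Agent.S0454

set_option autoImplicit false
universe u
open CategoryTheory
open CohTop

namespace Groth.Agent.S0452


open CategoryTheory Opposite TopologicalSpace Groth.Agent.Lib.helper7

open TopologicalSpace in
/-- If every restriction map of the abelian sheaf F is surjective (F is flasque), then H^(n+1)(U, F) = 0
for every open U of X. -/
theorem result {X : TopCat.{u}} (F : CohTop.Ab X) [TopCat.Sheaf.IsFlasque F]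
    (U : Opens X) (n : ℕ) : Subsingleton (CohTop.HU F (n + 1) U) := by
  let J := Opens.grothendieckTopology X
  have key := DimShift.ext_succ_eq_zero (A := Sheaf J AddCommGrpCat.{u})
    ((FreeYoneda.freeSheaf J).obj U) (fun G => TopCat.Sheaf.IsFlasque G)
    (fun I hI => Groth.Agent.S0454.result I)
    (fun S hS h₁ h₂ => TopCat.Sheaf.IsFlasque.of_shortExact_of_isFlasque₁₂ hS)
    (fun S hS h₁ g => by
      have hepi : Epi (S.g.1.app (op U)) := TopCat.Sheaf.IsFlasque.epi_of_shortExact hS
      rw [AddCommGrpCat.epi_iff_surjective] at hepi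
      obtain ⟨s₂, hs₂⟩ := hepi (FreeYoneda.homEquiv J U S.X₃ g)
      refine ⟨(FreeYoneda.homEquiv J U S.X₂).symm s₂, ?_⟩
      apply (FreeYoneda.homEquiv J U S.X₃).injective
      rw [FreeYoneda.homEquiv_naturality_right, Equiv.apply_symm_apply]
      exact hs₂)
    n F inferInstance
  exact ⟨fun x y => (key x).trans (key y).symm⟩

end Groth.Agent.S0452
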