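import Groth.Statements.S1914
import Groth.Agent.Lib.Helper26.Kos13


set_option autoImplicit false
universe u
open CategoryTheory
attribute [local instance] HasDerivedCategory.standard
open IntMult

namespace Groth.Agent.S1914


open Groth.Agent.Lib.helper26.HS Groth.Agent.Lib.helper26.Kos

theorem setOf_mem_ofFn {A : Type u} {d : ℕ} (x : Fin d → A) :
    {a | a ∈ List.ofFn x} = Set.range x := by
  ext a
  simp [List.mem_ofFn]

/-- The Tor Euler characteristic equals the Koszul Euler characteristic for a regular sequence. -/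
theorem chi_eq (A : Type u) [CommRing A] [IsNoetherianRing A] (l : List A)
    (hl' : RingTheory.Sequence.IsWeaklyRegular A l) (I : Ideal A) (hI : I = Ideal.span {b | b ∈ l})
    (M : Type u) [AddCommGroup M] [Module A M] [Module.Finite A M] :
    IntMult.chi A (A ⧸ I) M = Groth.Agent.Lib.helper26.Kos.chi M l := by
  obtain ⟨hKS, -⟩ := koszul_KS (⊤ : Ideal A) M l (fun _ _ => Submodule.mem_top)
  have hsum : Groth.Agent.Lib.helper26.Kos.chi M l = ∑ p ∈ Finset.range (l.length + 1),
      (-1 : ℤ) ^ p * ((hl (KM M l) (-(p : ℤ))).toNat : ℤ) := by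
    unfold Groth.Agent.Lib.helper26.Kos.chi
    exact finsum_eq_sum (KM M l) l.length (fun m hm => hKS.zero m hm)
  rw [hsum]
  unfold IntMult.chi
  rw [finsum_eq_sum_of_support_subset (s := Finset.range (l.length + 1))]
  · refine Finset.sum_congr rfl (fun p _ => ?_)
    rw [length_tor_eq_hl l hl' I hI M p]
  · intro i hi
    rw [Function.mem_support] at hi
    by_contra hni
    apply hi
    have hlt : l.length < i := by
      simpa using hni
    rw [length_tor_eq_hl l hl' I hI M i]
    have := hKS.zero (ng i) (Or.inl (by simp [ng]; omega))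
    rw [hl_eq_zero_of_subsingleton]
    simp


/-- Let A be a Noetherian local ring, I = (g₁, …, g_c) an ideal generated by a regular sequence and M a
finite A-module with Supp(M/IM) of dimension ≤ 0. Then c! · length_A(M/I^t M)/t^c tends, as t → ∞,
to Σ_i (−1)^i length_A Tor_i^A(A/I, M); that is, e_I(M, c) equals this alternating sum. -/
theorem result (A : Type u) [CommRing A] [IsNoetherianRing A] [IsLocalRing A] (c : ℕ) (g : Fin c → A) (hreg : RingTheory.Sequence.IsRegular A (List.ofFn g)) (M : Type u) [AddCommGroup M] [Module A M] [Module.Finite A M] (h0 : Module.supportDim A (M ⧸ (Ideal.span (Set.range g) • (⊤ : Submodule A M))) ≤ 0) : Filter.Tendsto (fun t : ℕ => (c.factorial : ℝ) * ((Module.length A (M ⧸ (Ideal.span (Set.range g) ^ t • (⊤ : Submodule A M)))).toNat : ℝ) / (t : ℝ) ^ c) Filter.atTop (nhds (IntMult.chi A (A ⧸ Ideal.span (Set.range g)) M : ℝ)) := by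
  have hq : Ideal.span (Set.range g) = Ideal.span {a | a ∈ List.ofFn g} := by
    rw [setOf_mem_ofFn]
  have hfl : IsFiniteLength A (M ⧸ (Ideal.span (Set.range g) • (⊤ : Submodule A M))) :=
    isFiniteLength_of_supportDim_le_zero h0
  have hM : hs (Ideal.span (Set.range g)) M 1 ≠ ⊤ := by
    unfold hs col
    rw [pow_one]
    exact Module.length_ne_top_iff.2 hfl
  have h1 := tendsto_koszul (Ideal.span (Set.range g)) M (List.ofFn g) hq hM
  rw [List.length_ofFn] at h1
  rw [chi_eq A (List.ofFn g) hreg.toIsWeaklyRegular _ hq M]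
  exact h1


end Groth.Agent.S1914
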