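import Groth.Statements.S13802
import Groth.Agent.Lib.Helper2.EtaPtCore

set_option autoImplicit false
universe u
open EtaPt

namespace Groth.Agent.S13802


open Groth.Agent.Lib.helper2.EtaPtLib

/-- For a commutative ring A with finitely many minimal prime ideals, the canonical map q_A from A to
the pointwise ring M_η(A) is integral. Here η is a natural transformation from the identity of the
category of fields to an endofunctor F with F(η_K) bijective and η_K purely inseparable for every
field K, N_η(A) is the product of the F(k(p)) over the primes p of A with diagonal map t_A, and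
M_η(A) ⊆ N_η(A) is the subring of elements sent into the range of t_R by every ring map from A to a
valuation ring R at whose fraction field η is bijective; q_A : A → M_η(A) is the corestriction of
t_A. -/
theorem result (η : EtaPt.FieldEndo.{u}) (A : Type u) [CommRing A]
    (hA : (minimalPrimes A).Finite) : (η.q A).IsIntegral := by
  classical
  rintro ⟨x, hx⟩
  -- for each minimal prime a monic polynomial
  have hex : ∀ I : Ideal A, ∃ P : Polynomial A, P.Monic ∧
      ∀ (h : I.IsPrime), Polynomial.eval₂ (jmap η A ⟨I, h⟩) (x ⟨I, h⟩) P = 0 := by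
    intro I
    by_cases h : I.IsPrime
    · obtain ⟨P, hPm, hP⟩ := isIntegralElem_jmap η hx ⟨I, h⟩
      exact ⟨P, hPm, fun _ => hP⟩
    · exact ⟨1, Polynomial.monic_one, fun h' => absurd h' h⟩
  choose Pf hPm hP using hex
  refine ⟨∏ I ∈ hA.toFinset, Pf I, Polynomial.monic_prod_of_monic _ _ (fun I _ => hPm I), ?_⟩
  apply Subtype.ext
  funext p
  -- component at p
  have hcomp : ∀ (p : PrimeSpectrum A) (P : Polynomial A),
      ((Polynomial.eval₂ (η.q A) (⟨x, hx⟩ : η.M A) P : η.M A) : η.N A) p =
        Polynomial.eval₂ (jmap η A p) (x p) P := by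
    intro p P
    have := Polynomial.hom_eval₂ P (η.q A) (proj η A p) (⟨x, hx⟩ : η.M A)
    exact this
  rw [hcomp, Polynomial.eval₂_finsetProd]
  obtain ⟨I, hI, hIp⟩ := Ideal.exists_minimalPrimes_le (I := ⊥) (J := p.asIdeal) bot_le
  have hIprime : I.IsPrime := hI.1.1
  apply Finset.prod_eq_zero (i := I) (hA.mem_toFinset.2 hI)
  rw [← hcomp]
  exact eq_zero_of_le η (Subtype.mem _) ⟨I, hIprime⟩ p hIp (by
    rw [hcomp]; exact hP I hIprime)

end Groth.Agent.S13802
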