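import Groth.Statements.S13811
import Groth.Agent.Lib.Helper2.EtaPtLib
import Mathlib.RingTheory.IntegralClosure.IsIntegral.Basic

set_option autoImplicit false
universe u
open EtaPt

namespace Groth.Agent.S13811


open Groth.Agent.Lib.helper2.EtaPtLib

/-- If `Nmap f` is injective then `Spec f` is surjective. -/
theorem exists_comap_eq_of_injective (η : EtaPt.FieldEndo.{u}) {A B : Type u} [CommRing A]
    [CommRing B] (f : A →+* B) (hN : Function.Injective (η.Nmap f)) (p : PrimeSpectrum A) :
    ∃ q : PrimeSpectrum B, p = PrimeSpectrum.comap f q := by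
  classical
  by_contra hne
  have hne : ∀ q : PrimeSpectrum B, p ≠ PrimeSpectrum.comap f q := fun q hq => hne ⟨q, hq⟩
  let x : η.N A := Pi.single p 1
  have hx : η.Nmap f x = η.Nmap f 0 := by
    rw [map_zero]
    funext q
    rw [Nmap_apply η f x q (PrimeSpectrum.comap f q) rfl]
    have : x (PrimeSpectrum.comap f q) = 0 := Pi.single_eq_of_ne (hne q).symm _
    rw [this, map_zero]
    rfl
  have h0 := congrFun (hN hx) p
  have h1 : x p = 1 :=
    Pi.single_eq_same (M := fun p : PrimeSpectrum A => η.obj p.asIdeal.ResidueField) p 1
  rw [h1] at h0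
  exact one_ne_zero h0

/-- If `Nmap f` is bijective, `F` of each residue field extension is bijective. -/
theorem map_residue_bijective (η : EtaPt.FieldEndo.{u}) {A B : Type u} [CommRing A]
    [CommRing B] (f : A →+* B) (hN : Function.Surjective (η.Nmap f)) (p : PrimeSpectrum A)
    (q : PrimeSpectrum B) (h : p.asIdeal = q.asIdeal.comap f) :
    Function.Bijective (η.map (Ideal.ResidueField.map p.asIdeal q.asIdeal f h)) := by
  classical
  refine ⟨RingHom.injective _, fun w => ?_⟩
  obtain ⟨x, hx⟩ := hN (Pi.single q w)
  refine ⟨x p, ?_⟩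
  have := congrFun hx q
  rw [Nmap_apply η f x q p h] at this
  rw [this]
  exact Pi.single_eq_same (M := fun q : PrimeSpectrum B => η.obj q.asIdeal.ResidueField) q w

/-- If f : A → B is an integral ring map with N_η(f) bijective, then every ring map from A to a
valuation ring R at whose fraction field η is bijective factors through f. Here η is a natural
transformation from the identity of the category of fields to an endofunctor F with F(η_K) bijective
and η_K purely inseparable for every field K, N_η(A) is the product of the F(k(p)) over the primes p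
of A with diagonal map t_A, and M_η(A) ⊆ N_η(A) is the subring of elements sent into the range of
t_R by every ring map from A to a valuation ring R at whose fraction field η is bijective; q_A : A →
M_η(A) is the corestriction of t_A. -/
theorem result (η : EtaPt.FieldEndo.{u}) {A B : Type u} [CommRing A] [CommRing B] (f : A →+* B)
    (hf : f.IsIntegral) (hN : Function.Bijective (η.Nmap f))
    (R : Type u) [CommRing R] [IsDomain R] [ValuationRing R] (hR : η.InV R) (g : A →+* R) :
    ∃ g' : B →+* R, g'.comp f = g := by
  classical
  have hkp : (RingHom.ker g).IsPrime := RingHom.ker_isPrime g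
  let p : PrimeSpectrum A := ⟨RingHom.ker g, hkp⟩
  obtain ⟨q, hq⟩ := exists_comap_eq_of_injective η f hN.injective p
  have h : p.asIdeal = q.asIdeal.comap f := congrArg PrimeSpectrum.asIdeal hq
  have hbij := map_residue_bijective η f hN.surjective p q h
  have hι : p.asIdeal = (⊥ : Ideal R).comap g := RingHom.ker_eq_comap_bot g
  have hηL : Function.Bijective (η.eta (⊥ : Ideal R).ResidueField) :=
    eta_bijective_of_InV η hR _
  let e1 := RingEquiv.ofBijective _ hbij
  let e2 := RingEquiv.ofBijective _ hηL
  let ι := Ideal.ResidueField.map p.asIdeal (⊥ : Ideal R) g hι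
  let φ := Ideal.ResidueField.map p.asIdeal q.asIdeal f h
  let ψ : q.asIdeal.ResidueField →+* (⊥ : Ideal R).ResidueField :=
    (e2.symm : _ →+* _).comp ((η.map ι).comp ((e1.symm : _ →+* _).comp
      (η.eta q.asIdeal.ResidueField)))
  have hψ : ∀ a : p.asIdeal.ResidueField, ψ (φ a) = ι a := by
    intro a
    show e2.symm (η.map ι (e1.symm (η.eta _ (φ a)))) = ι a
    rw [← eta_natural_apply η φ a]
    have h1 : e1.symm (η.map φ (η.eta _ a)) = η.eta _ a := e1.symm_apply_apply _
    rw [h1, eta_natural_apply η ι a]
    exact e2.symm_apply_apply _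
  let G : B →+* (⊥ : Ideal R).ResidueField := ψ.comp (algebraMap B q.asIdeal.ResidueField)
  have hG : ∀ a, G (f a) = algebraMap R (⊥ : Ideal R).ResidueField (g a) := by
    intro a
    show ψ (algebraMap B q.asIdeal.ResidueField (f a)) = _
    rw [← Ideal.ResidueField.map_algebraMap p.asIdeal q.asIdeal f h a]
    rw [hψ]
    exact Ideal.ResidueField.map_algebraMap p.asIdeal (⊥ : Ideal R) g hι a
  have hGf : G.comp f = (algebraMap R (⊥ : Ideal R).ResidueField).comp g :=
    RingHom.ext hG
  have hrange : ∀ b, G b ∈ (algebraMap R (⊥ : Ideal R).ResidueField).range := by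
    intro b
    obtain ⟨P, hPm, hPb⟩ := hf b
    have hint : IsIntegral R (G b) := by
      refine ⟨P.map g, hPm.map g, ?_⟩
      rw [Polynomial.eval₂_map, ← hGf, ← Polynomial.hom_eval₂, hPb, map_zero]
    obtain ⟨r, hr⟩ := IsIntegrallyClosed.algebraMap_eq_of_integral hint
    exact ⟨r, hr⟩
  have hinj := IsFractionRing.injective R (⊥ : Ideal R).ResidueField
  let e : R ≃+* (algebraMap R (⊥ : Ideal R).ResidueField).range :=
    RingEquiv.ofBijective (algebraMap R (⊥ : Ideal R).ResidueField).rangeRestrict
      ⟨fun a b hab => hinj (congrArg Subtype.val hab),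
        (algebraMap R (⊥ : Ideal R).ResidueField).rangeRestrict_surjective⟩
  let g' : B →+* R := (e.symm : _ →+* R).comp (G.codRestrict _ hrange)
  have hspec : ∀ b, algebraMap R (⊥ : Ideal R).ResidueField (g' b) = G b := by
    intro b
    have := e.apply_symm_apply (G.codRestrict _ hrange b)
    exact congrArg Subtype.val this
  refine ⟨g', RingHom.ext fun a => hinj ?_⟩
  rw [RingHom.comp_apply, hspec, hG]

end Groth.Agent.S13811
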