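import Groth.Statements.S3388
import Mathlib
import Groth.Agent.S0402
import Groth.Agent.Lib.Helper3.FibreDimNat
import Groth.Agent.Lib.Helper3.DimFibre

set_option autoImplicit false
open CategoryTheory AlgebraicGeometry
universe u
open EGA43

namespace Groth.Agent.S3388
open Groth.Agent.Lib.helper3.DimIneq Groth.Agent.Lib.helper3.DimFibre

/-- Let X and Y be irreducible schemes and f : X ⟶ Y a dominant morphism locally of finite type; let e
be the dimension of the fibre over the generic point of Y. Then for every point x of X the local
dimension at x of the fibre through x is at least e. -/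
theorem result {X Y : Scheme.{u}} [IrreducibleSpace X] [IrreducibleSpace Y]
    (f : X ⟶ Y) [LocallyOfFiniteType f] [IsDominant f] (x : X) :
    topologicalKrullDim ↥(f.fiber (genericPoint Y)) ≤ FlatMor.fibreDimAt f x := by
  set ξ := genericPoint X with hξ
  have hcl : closure ({ξ} : Set X) = Set.univ := genericPoint_spec X
  have hgen : ∀ z : X, ξ ⤳ z := fun z => by
    rw [specializes_iff_mem_closure, hcl]; trivial
  -- `f ξ` is the generic point of `Y`
  have hη : genericPoint Y = f ξ := by
    apply genericPoint_eq_of_forall_specializes
    intro y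
    have hdense : DenseRange f := f.denseRange
    have hsub : Set.range f ⊆ closure ({f ξ} : Set Y) := by
      rintro _ ⟨x, rfl⟩
      exact ((hgen x).map f.continuous).mem_closed isClosed_closure (subset_closure rfl)
    have : closure (Set.range f) ⊆ closure ({f ξ} : Set Y) :=
      closure_minimal hsub isClosed_closure
    rw [hdense.closure_range] at this
    rw [specializes_iff_mem_closure]
    exact this trivial
  rw [hη]
  obtain ⟨t, b, ht, -, -⟩ := fibreDimAt_eq_add f ξ
  rw [dim_fiber_generic f ξ hgen t ht]
  obtain ⟨d, hd⟩ := exists_nat_fibreDimAt f x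
  rw [hd]
  have hopen := Groth.Agent.S0402.result f d
  have hx : x ∈ {x : X | FlatMor.fibreDimAt f x ≤ (d : WithBot ℕ∞)} := hd.le
  have hξ' := (hgen x).mem_open hopen hx
  rw [Set.mem_ofPred_eq, fibreDimAt_le_iff] at hξ'
  have := hξ' ξ specializes_rfl rfl
  rw [ht] at this
  exact_mod_cast this

end Groth.Agent.S3388
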