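import Groth.Statements.S17840
import Mathlib
import Groth.Agent.Lib.Helper3.RelDim
import Groth.Agent.S3390
import Groth.Agent.S0403
import Groth.Agent.Lib.Helper17.FibreDim
import Groth.Agent.Lib.Helper3.DimFibre

set_option autoImplicit false
universe u
open CategoryTheory AlgebraicGeometry
open Cyc

namespace Groth.Agent.S17840
open Groth.Agent.Lib.helper3.DimIneq Groth.Agent.Lib.helper3.DimFibre Groth.Agent.Lib.helper3.RelDim Groth.Agent.Lib.helper3.QFinTop

/-- Let (Y, δY) be a locally Noetherian scheme with universally catenary local rings and a dimension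
function, f : X ⟶ Y a flat morphism locally of finite type between irreducible schemes with generic
points ξ and η, and δX the induced function on X, δX(x) = δY(f x) + trdeg_{κ(f x)} κ(x). Put d =
δX(ξ) − δY(η). Then d ≥ 0, every irreducible component of every fibre of f has dimension d, and for
every point x of X the fibre of f over f(x) has dimension d. (The published statement is for schemes
separated of finite type over a Noetherian excellent regular separated base S with δ the S-dimension
— transcendence degree of the residue field minus the dimension of the local ring of S at the image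
point — and for the fibre over every point of Y; the fibre over a point outside f(X) is empty, so
the dimension statement is made here at points of the image; this row allows any dimension function
δY on a locally Noetherian Y with universally catenary local rings, with δX induced from it.) -/
theorem result {X Y : Scheme.{u}} (f : X ⟶ Y) [Flat f] [LocallyOfFiniteType f]
    [IrreducibleSpace X] [IrreducibleSpace Y] (δX : X → ℤ) (δY : Y → ℤ) (hY : Cyc.IsSetup Y δY)
    (hδ : Cyc.DeltaCompat f δX δY) :
    0 ≤ δX (genericPoint X) - δY (genericPoint Y) ∧
      Cyc.HasRelDim f (δX (genericPoint X) - δY (genericPoint Y)).toNat ∧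
      ∀ x : X, topologicalKrullDim ↥(f.fiber (f x)) =
        ((δX (genericPoint X) - δY (genericPoint Y)).toNat : WithBot ℕ∞) := by
  haveI : IsLocallyNoetherian Y := hY.1
  haveI : IsLocallyNoetherian X := LocallyOfFiniteType.isLocallyNoetherian f
  set ξ := genericPoint X with hξ
  have hcl : closure ({ξ} : Set X) = Set.univ := genericPoint_spec X
  have hgen : ∀ z : X, ξ ⤳ z := fun z => by
    rw [specializes_iff_mem_closure, hcl]; trivial
  have hηgen : ∀ y : Y, genericPoint Y ⤳ y := fun y => by
    rw [specializes_iff_mem_closure, (genericPoint_spec Y).def]; trivial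
  have hfξ : f ξ = genericPoint Y := by
    obtain ⟨x', hx', hfx'⟩ := (Flat.generalizingMap f) (hηgen (f ξ))
    have : x' = ξ := (hx'.antisymm (hgen x')).eq
    rw [← this, hfx']
  haveI : IsDominant f := by
    refine ⟨fun y => ?_⟩
    have h1 : closure ({f ξ} : Set Y) ⊆ closure (Set.range f) :=
      closure_mono (by rintro _ rfl; exact ⟨ξ, rfl⟩)
    apply h1
    rw [hfξ, (genericPoint_spec Y).def]; trivial
  obtain ⟨n, hn, hδξ⟩ := hδ ξ
  have hn' : td (f.residueFieldMap ξ).hom = (n : Cardinal.{u}) := hn
  have hdiff : δX ξ - δY (genericPoint Y) = (n : ℤ) := by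
    rw [hδξ, hfξ]; ring
  have htoNat : (δX ξ - δY (genericPoint Y)).toNat = n := by
    rw [hdiff]; simp
  have hgenfib : topologicalKrullDim (f.fiber (genericPoint Y)) = (n : WithBot ℕ∞) := by
    rw [← hfξ]
    exact dim_fiber_generic f ξ hgen n hn'
  have hfd : ∀ x : X, FlatMor.fibreDimAt f x = (n : WithBot ℕ∞) := by
    intro x
    rw [← hgenfib]
    exact Groth.Agent.S3390.result f x
      (Groth.Agent.Lib.helper17.FibreDim.dim_stalk_eq f x (Flat.stalkMap f x))
  refine ⟨by rw [hdiff]; positivity, ?_, ?_⟩
  · rw [htoNat]
    exact hasRelDim_of_forall_fibreDimAt f n hfd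
  · intro x
    rw [htoNat]
    apply le_antisymm
    · rw [Groth.Agent.S0403.dim_le_iff_localDim]
      intro z
      rw [localDim_fiber_eq f (f x) (f.fiberι (f x) z) (fiberι_mem f (f x) z) z rfl, hfd]
    · rw [← hfd x]
      exact Groth.Agent.Lib.helper3.TopDim.localDim_le_dim (f.asFiber x)

end Groth.Agent.S17840
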