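import Groth.Statements.S12908
import Mathlib
import Groth.Agent.Lib.Helper6.McCoy
import Groth.Agent.S12906

set_option autoImplicit false
universe u
open CAlgX

namespace Groth.Agent.S12908

open Groth.Agent.Lib.Helper6 Matrix

theorem minorIdeal_eq_span {R : Type u} [CommRing R] (t : ℕ)
    (Ψ : Matrix (Fin (t+1)) (Fin t) R) :
    CAlgX.minorIdeal Ψ t =
      Ideal.span (Set.range fun i : Fin (t+1) => (Ψ.submatrix i.succAbove id).det) := by
  classical
  apply le_antisymm
  · unfold CAlgX.minorIdeal
    rw [Ideal.span_le]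
    rintro _ ⟨⟨f, g⟩, rfl⟩
    show (Ψ.submatrix f g).det ∈ _
    by_cases hg : Function.Injective g
    · let σ : Equiv.Perm (Fin t) := Equiv.ofBijective g (Finite.injective_iff_bijective.mp hg)
      have h1 : Ψ.submatrix f g = (Ψ.submatrix f id).submatrix id σ := by ext i j; rfl
      rw [h1, Matrix.det_permute']
      apply Ideal.mul_mem_left
      by_cases hf : Function.Injective f
      · have hns : ¬ Function.Surjective f := by
          intro hs
          have := Fintype.card_le_of_surjective f hs
          simp at this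
        rw [Function.Surjective] at hns
        push Not at hns
        obtain ⟨i, hi⟩ := hns
        have hex : ∀ k, ∃ z, i.succAbove z = f k := fun k => Fin.exists_succAbove_eq (hi k)
        choose τ hτ using hex
        have hτinj : Function.Injective τ := by
          intro a b hab
          apply hf; rw [← hτ a, ← hτ b, hab]
        let ρ : Equiv.Perm (Fin t) :=
          Equiv.ofBijective τ (Finite.injective_iff_bijective.mp hτinj)
        have h2 : Ψ.submatrix f id = (Ψ.submatrix i.succAbove id).submatrix ρ id := by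
          ext a b
          simp only [Matrix.submatrix_apply, id_eq]
          rw [show ρ a = τ a from rfl, hτ]
        rw [h2, Matrix.det_permute]
        apply Ideal.mul_mem_left
        exact Ideal.subset_span ⟨i, rfl⟩
      · rw [Function.not_injective_iff] at hf
        obtain ⟨a, b, hab, hne⟩ := hf
        rw [Matrix.det_zero_of_row_eq hne (by ext k; simp [hab])]
        exact Ideal.zero_mem _
    · rw [Function.not_injective_iff] at hg
      obtain ⟨i, j, hij, hne⟩ := hg
      rw [Matrix.det_zero_of_column_eq hne (fun k => by simp [hij])]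
      exact Ideal.zero_mem _
  · rw [Ideal.span_le]
    rintro _ ⟨i, rfl⟩
    exact Ideal.subset_span ⟨(i.succAbove, id), rfl⟩

theorem exists_regular_pair {R : Type u} [CommRing R] (I : Ideal R)
    (h : 2 ≤ LocCoh.idealDepth I R) :
    ∃ x y : R, x ∈ I ∧ y ∈ I ∧ (∀ r, x * r = 0 → r = 0) ∧
      (∀ r s, y * r = x * s → ∃ r', r = x * r') := by
  classical
  unfold LocCoh.idealDepth at h
  split_ifs at h with htop
  · have hI : I = ⊤ := by simpa using htop
    refine ⟨1, 1, by rw [hI]; trivial, by rw [hI]; trivial, fun r hr => by simpa using hr,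
      fun r s hrs => ⟨r, by simp⟩⟩
  · have hex : ∃ rs : List R, (RingTheory.Sequence.IsWeaklyRegular R rs ∧ ∀ r ∈ rs, r ∈ I) ∧
        2 ≤ rs.length := by
      by_contra hcon
      push Not at hcon
      have h1 : (⨆ (rs : List R) (_ : RingTheory.Sequence.IsWeaklyRegular R rs ∧ ∀ r ∈ rs, r ∈ I),
          (rs.length : ℕ∞)) ≤ 1 := by
        refine iSup₂_le (fun rs hrs => ?_)
        have := hcon rs hrs
        exact_mod_cast Nat.lt_succ_iff.mp this
      have h2 : (2 : ℕ∞) ≤ 1 := le_trans h h1
      exact absurd h2 (by norm_num)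
    obtain ⟨rs, ⟨hreg, hmem⟩, hlen⟩ := hex
    match rs, hreg, hmem, hlen with
    | x :: y :: rest, hreg, hmem, _ =>
      rw [RingTheory.Sequence.isWeaklyRegular_cons_iff] at hreg
      obtain ⟨hx, hreg'⟩ := hreg
      rw [RingTheory.Sequence.isWeaklyRegular_cons_iff] at hreg'
      obtain ⟨hy, _⟩ := hreg'
      refine ⟨x, y, hmem x (by simp), hmem y (by simp), ?_, ?_⟩
      · intro r hr
        exact hx (by simpa [smul_eq_mul] using hr)
      · intro r s hrs
        have h0 : (Submodule.Quotient.mk (y * r) : QuotSMulTop x R) = 0 := by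
          rw [Submodule.Quotient.mk_eq_zero, hrs]
          exact Submodule.smul_mem_pointwise_smul s x ⊤ trivial
        have h1 : y • (Submodule.Quotient.mk r : QuotSMulTop x R) = y • 0 := by
          rw [smul_zero, ← Submodule.Quotient.mk_smul, smul_eq_mul]; exact h0
        have h2 := hy h1
        rw [Submodule.Quotient.mk_eq_zero] at h2
        obtain ⟨r', -, hr'⟩ := (Submodule.mem_smul_pointwise_iff_exists _ _ _).mp h2
        exact ⟨r', by rw [← hr', smul_eq_mul]⟩

theorem pow_reg {R : Type u} [CommRing R] (x y : R)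
    (hyreg : ∀ r s, y * r = x * s → ∃ r', r = x * r') (N : ℕ) :
    ∀ r s, y ^ N * r = x * s → ∃ r', r = x * r' := by
  induction N with
  | zero => intro r s h; exact ⟨s, by simpa using h⟩
  | succ N ih =>
    intro r s h
    obtain ⟨r₁, hr₁⟩ := ih (y * r) s (by rw [← h]; ring)
    exact hyreg r r₁ hr₁

theorem result {R : Type u} [CommRing R] [IsNoetherianRing R] (t : ℕ)
    (Ψ : Matrix (Fin (t + 1)) (Fin t) R) (hdepth : 2 ≤ LocCoh.idealDepth (CAlgX.minorIdeal Ψ t) R)
    (a : R) (ha : a ∈ nonZeroDivisors R) :
    LinearMap.ker Ψ.mulVecLin = ⊥ ∧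
      LinearMap.ker (Fintype.linearCombination R
          (fun i : Fin (t + 1) => a * ((-1 : R) ^ (i : ℕ) * (Ψ.submatrix i.succAbove id).det))) =
        LinearMap.range Ψ.mulVecLin ∧
      LinearMap.range (Fintype.linearCombination R
          (fun i : Fin (t + 1) => a * ((-1 : R) ^ (i : ℕ) * (Ψ.submatrix i.succAbove id).det))) =
        Ideal.span {a} * CAlgX.minorIdeal Ψ t := by
  classical
  set d : Fin (t+1) → R := fun i => (Ψ.submatrix i.succAbove id).det with hd
  have hIspan : CAlgX.minorIdeal Ψ t = Ideal.span (Set.range d) := minorIdeal_eq_span t Ψ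
  obtain ⟨x, y, hxI, hyI, hxreg, hyreg⟩ := exists_regular_pair _ hdepth
  rw [hIspan] at hxI hyI
  have hσ : ∀ i : ℕ, ((-1 : R) ^ i) * ((-1 : R) ^ i) = 1 := by
    intro i; rw [← mul_pow]; simp
  -- injectivity
  have hinj : ∀ v : Fin t → R, Ψ *ᵥ v = 0 → v = 0 := by
    intro v hv
    have h1 : ∀ i, d i • v = 0 := by
      intro i
      apply McCoy.det_smul_eq_zero_of_mulVec_eq_zero
      ext k
      exact congrFun hv (i.succAbove k)
    have h2 : ∀ z ∈ Ideal.span (Set.range d), z • v = 0 := by
      intro z hz
      refine Submodule.span_induction (p := fun z _ => z • v = 0) ?_ ?_ ?_ ?_ hz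
      · rintro _ ⟨i, rfl⟩; exact h1 i
      · exact zero_smul _ _
      · intro p q _ _ hp hq; rw [add_smul, hp, hq, add_zero]
      · intro c p _ hp; rw [smul_eq_mul, mul_smul, hp, smul_zero]
    have h3 := h2 x hxI
    ext j
    exact hxreg _ (by simpa using congrFun h3 j)
  have hker1 : LinearMap.ker Ψ.mulVecLin = ⊥ := by
    rw [LinearMap.ker_eq_bot']
    intro v hv; exact hinj v (by simpa using hv)
  -- the relation from S12906
  have hrel : ∀ w : Fin t → R, ∑ i : Fin (t+1), (-1 : R) ^ (i : ℕ) * d i * (Ψ *ᵥ w) i = 0 := by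
    intro w
    simp only [Matrix.mulVec, dotProduct]
    simp_rw [Finset.mul_sum]
    rw [Finset.sum_comm]
    refine Finset.sum_eq_zero (fun j _ => ?_)
    have h := Groth.Agent.S12906.result t Ψ j
    calc ∑ i : Fin (t+1), (-1 : R) ^ (i : ℕ) * d i * (Ψ i j * w j)
        = w j * ∑ i : Fin (t+1), (-1 : R) ^ (i : ℕ) * (Ψ.submatrix i.succAbove id).det * Ψ i j := by
          rw [Finset.mul_sum]; refine Finset.sum_congr rfl (fun i _ => by simp only [hd]; ring)
      _ = 0 := by rw [h, mul_zero]
  refine ⟨hker1, ?_, ?_⟩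
  · apply le_antisymm
    · intro v hv
      rw [LinearMap.mem_ker, Fintype.linearCombination_apply] at hv
      have hv' : ∑ i : Fin (t+1), (-1 : R) ^ (i : ℕ) * d i * v i = 0 := by
        have h0 : (∑ i : Fin (t+1), (-1 : R) ^ (i : ℕ) * d i * v i) * a = 0 := by
          rw [Finset.sum_mul, ← hv]
          refine Finset.sum_congr rfl (fun i _ => ?_)
          simp only [hd, smul_eq_mul]; ring
        exact ha.2 _ h0
      let J : Ideal R := Submodule.comap (LinearMap.toSpanSingleton R (Fin (t+1) → R) v)
        (LinearMap.range Ψ.mulVecLin)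
      have hJ : ∀ r, r ∈ J ↔ ∃ w, Ψ *ᵥ w = r • v := by
        intro r
        simp only [J, Submodule.mem_comap, LinearMap.toSpanSingleton_apply, LinearMap.mem_range,
          Matrix.mulVecLin_apply]
      have hkey : ∀ k, d k * d k ∈ J := by
        intro k
        set Ψk := Ψ.submatrix k.succAbove id with hΨk
        set vk : Fin t → R := fun i' => v (k.succAbove i') with hvk
        set w := Ψk.adjugate *ᵥ vk with hw
        have e0 : Ψk *ᵥ w = d k • vk := by
          rw [hw, Matrix.mulVec_mulVec, Matrix.mul_adjugate, Matrix.smul_mulVec, Matrix.one_mulVec]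
        have e1 : ∀ i', (Ψ *ᵥ w) (k.succAbove i') = d k * v (k.succAbove i') := by
          intro i'
          have := congrFun e0 i'
          exact this
        have e2 := hrel w
        rw [Fin.sum_univ_succAbove _ k] at e2 hv'
        simp_rw [e1] at e2
        have e2' : (-1 : R) ^ (k : ℕ) * d k * (Ψ *ᵥ w) k + d k *
            ∑ i' : Fin t, (-1 : R) ^ ((k.succAbove i' : Fin (t+1)) : ℕ) * d (k.succAbove i') *
              v (k.succAbove i') = 0 := by
          rw [← e2, Finset.mul_sum]
          congr 1
          refine Finset.sum_congr rfl (fun i' _ => by ring)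
        have e3 : (-1 : R) ^ (k : ℕ) * d k * ((Ψ *ᵥ w) k - d k * v k) = 0 := by
          linear_combination e2' - d k * hv'
        have e5 : Ψ *ᵥ (((-1 : R) ^ (k : ℕ) * d k) • w) = ((-1 : R) ^ (k : ℕ) * d k * d k) • v := by
          ext i
          rw [Matrix.mulVec_smul]
          rcases Fin.eq_self_or_eq_succAbove k i with rfl | ⟨i', rfl⟩
          · simp only [Pi.smul_apply, smul_eq_mul]
            linear_combination e3
          · simp only [Pi.smul_apply, smul_eq_mul, e1]
            ring
        have h6 : (-1 : R) ^ (k : ℕ) * d k * d k ∈ J := (hJ _).mpr ⟨_, e5⟩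
        have h7 := J.mul_mem_left ((-1 : R) ^ (k : ℕ)) h6
        have h8 : (-1 : R) ^ (k : ℕ) * ((-1 : R) ^ (k : ℕ) * d k * d k) = d k * d k := by
          rw [← mul_assoc, ← mul_assoc, hσ, one_mul]
        rwa [h8] at h7
      have hrad : Ideal.span (Set.range d) ≤ J.radical := by
        rw [Ideal.span_le]
        rintro _ ⟨k, rfl⟩
        exact ⟨2, by rw [pow_two]; exact hkey k⟩
      obtain ⟨N, hN⟩ := Ideal.exists_pow_le_of_le_radical_of_fg hrad (IsNoetherian.noetherian _)
      have hxN : x ^ N ∈ J := hN (Ideal.pow_mem_pow hxI N)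
      have hyN : y ^ N ∈ J := hN (Ideal.pow_mem_pow hyI N)
      have hyNreg := pow_reg x y hyreg N
      have hstep : ∀ s, x * s ∈ J → s ∈ J := by
        intro s hs
        obtain ⟨p, hp⟩ := (hJ _).mp hs
        obtain ⟨q, hq⟩ := (hJ _).mp (J.mul_mem_right s hyN)
        have h0 : Ψ *ᵥ (y ^ N • p - x • q) = 0 := by
          rw [Matrix.mulVec_sub, Matrix.mulVec_smul, Matrix.mulVec_smul, hp, hq, smul_smul,
            smul_smul, show y ^ N * (x * s) = x * (y ^ N * s) by ring, sub_self]
        have h1 := hinj _ h0
        have h2 : ∀ j, ∃ r', p j = x * r' := fun j => hyNreg (p j) (q j) (by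
          have := congrFun h1 j
          simpa [sub_eq_zero] using this)
        choose p' hp' using h2
        rw [hJ]
        refine ⟨p', ?_⟩
        have h3 : x • (Ψ *ᵥ p' - s • v) = 0 := by
          have h4 : x • p' = p := by ext j; simp [hp' j]
          rw [smul_sub, ← Matrix.mulVec_smul, smul_smul, ← hp, h4, sub_self]
        have h5 : Ψ *ᵥ p' - s • v = 0 := by
          ext i; exact hxreg _ (by simpa using congrFun h3 i)
        exact sub_eq_zero.mp h5
      have h1J : ∀ n, x ^ n ∈ J → (1 : R) ∈ J := by
        intro n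
        induction n with
        | zero => intro h; simpa using h
        | succ n ih => intro h; exact ih (hstep _ (by rwa [pow_succ'] at h))
      obtain ⟨w, hw⟩ := (hJ 1).mp (h1J N hxN)
      exact ⟨w, by simpa using hw⟩
    · rintro _ ⟨w, rfl⟩
      rw [LinearMap.mem_ker, Fintype.linearCombination_apply]
      have h := hrel w
      calc ∑ i : Fin (t+1), (Ψ.mulVecLin w) i • (a * ((-1 : R) ^ (i : ℕ) * (Ψ.submatrix i.succAbove id).det))
          = a * ∑ i : Fin (t+1), (-1 : R) ^ (i : ℕ) * d i * (Ψ *ᵥ w) i := by
            rw [Finset.mul_sum]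
            refine Finset.sum_congr rfl (fun i _ => ?_)
            simp only [hd, smul_eq_mul, Matrix.mulVecLin_apply]; ring
        _ = 0 := by rw [h, mul_zero]
  · rw [hIspan, Fintype.range_linearCombination]
    apply le_antisymm
    · rw [Submodule.span_le]
      rintro _ ⟨i, rfl⟩
      exact Ideal.mul_mem_mul (Ideal.mem_span_singleton_self a)
        (Ideal.mul_mem_left _ _ (Ideal.subset_span ⟨i, rfl⟩))
    · rw [Ideal.mul_le]
      intro r hr s hs
      obtain ⟨c, rfl⟩ := Ideal.mem_span_singleton'.mp hr
      refine Submodule.span_induction (p := fun s _ => c * a * s ∈ Submodule.span R (Set.range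
        (fun i : Fin (t + 1) => a * ((-1 : R) ^ (i : ℕ) * (Ψ.submatrix i.succAbove id).det))))
        ?_ ?_ ?_ ?_ hs
      · rintro _ ⟨i, rfl⟩
        have h9 : c * a * d i = (c * (-1 : R) ^ (i : ℕ)) •
            (a * ((-1 : R) ^ (i : ℕ) * (Ψ.submatrix i.succAbove id).det)) := by
          simp only [hd, smul_eq_mul]
          calc c * a * (Ψ.submatrix i.succAbove id).det
              = c * a * (Ψ.submatrix i.succAbove id).det * ((-1 : R) ^ (i : ℕ) * (-1 : R) ^ (i : ℕ)) := by
                rw [hσ, mul_one]
            _ = _ := by ring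
        rw [h9]
        exact Submodule.smul_mem _ _ (Submodule.subset_span ⟨i, rfl⟩)
      · simp
      · intro p q _ _ hp hq; rw [mul_add]; exact Submodule.add_mem _ hp hq
      · intro e p _ hp
        rw [smul_eq_mul, show c * a * (e * p) = e • (c * a * p) by simp only [smul_eq_mul]; ring]
        exact Submodule.smul_mem _ _ hp

end Groth.Agent.S12908
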