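import Groth.Statements.S11457
import Mathlib
import Groth.Agent.Lib.Helper19.DefCI
import Groth.Agent.Lib.Helper19.DefCI2

set_option autoImplicit false
universe u
open DefT

namespace Groth.Agent.S11457

open TensorProduct Function
open Groth.Agent.Lib.Helper19.DefCI Groth.Agent.Lib.Helper19.DefCI2

section HB
variable {C' A' : Type u} [CommRing C'] [CommRing A'] [Algebra C' A'] (J : Ideal C')

/-- signed maximal minors -/
noncomputable def minors {S : Type u} [CommRing S] {r : ℕ} (φ : Matrix (Fin (r + 1)) (Fin r) S) :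
    Fin (r + 1) → S :=
  fun i => (-1 : S) ^ (i : ℕ) * (φ.submatrix i.succAbove id).det

theorem minors_map {S T : Type u} [CommRing S] [CommRing T] (g : S →+* T) {r : ℕ}
    (φ : Matrix (Fin (r + 1)) (Fin r) S) (i : Fin (r + 1)) :
    g (minors φ i) = minors (φ.map g) i := by
  unfold minors
  rw [map_mul, map_pow, map_neg, map_one, RingHom.map_det]
  rfl

/-- the signed minors give a relation on the rows -/
theorem sum_minors_mul {S : Type u} [CommRing S] {r : ℕ} (φ : Matrix (Fin (r + 1)) (Fin r) S)
    (j : Fin r) : ∑ i, minors φ i * φ i j = 0 := by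
  let M : Matrix (Fin (r + 1)) (Fin (r + 1)) S :=
    Matrix.of fun i k => Fin.cases (φ i j) (fun k' => φ i k') k
  have hdet : M.det = 0 := by
    refine Matrix.det_zero_of_column_eq (i := 0) (j := j.succ) (Fin.succ_ne_zero j).symm ?_
    intro k
    simp [M]
  rw [Matrix.det_succ_column_zero] at hdet
  rw [← hdet]
  refine Finset.sum_congr rfl fun i _ => ?_
  have hsub : M.submatrix i.succAbove Fin.succ = φ.submatrix i.succAbove id := by
    ext a b
    simp [M]
  have hM0 : M i 0 = φ i j := by simp [M]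
  rw [hsub, hM0]
  unfold minors
  ring

theorem linearCombination_minors_mulVec {S : Type u} [CommRing S] {r : ℕ}
    (φ : Matrix (Fin (r + 1)) (Fin r) S) (x : Fin r → S) :
    Fintype.linearCombination S (minors φ) (φ.mulVecLin x) = 0 := by
  rw [Fintype.linearCombination_apply]
  simp only [Matrix.mulVecLin_apply, Matrix.mulVec, dotProduct, smul_eq_mul, Finset.sum_mul]
  rw [Finset.sum_comm]
  refine Finset.sum_eq_zero fun j _ => ?_
  have := sum_minors_mul φ j
  calc ∑ i, φ i j * x j * minors φ i = x j * ∑ i, minors φ i * φ i j := by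
        rw [Finset.mul_sum]; refine Finset.sum_congr rfl fun i _ => by ring
    _ = 0 := by rw [this, mul_zero]

/-- reduction of vectors modulo `J' = J A'` -/
noncomputable def red (n : ℕ) :
    (Fin n → A') →ₗ[A'] (Fin n → A' ⧸ J.map (algebraMap C' A')) :=
  (Algebra.linearMap A' (A' ⧸ J.map (algebraMap C' A'))).compLeft (Fin n)

theorem red_apply (n : ℕ) (v : Fin n → A') (i : Fin n) :
    red J n v i = Ideal.Quotient.mk (J.map (algebraMap C' A')) (v i) := rfl

theorem red_surjective (n : ℕ) : Function.Surjective (red (A' := A') J n) := by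
  intro w
  choose v hv using fun i => Ideal.Quotient.mk_surjective (w i)
  exact ⟨v, funext hv⟩

theorem pi_mem_smul_top (n : ℕ) (v : Fin n → A') (hv : ∀ i, v i ∈ J.map (algebraMap C' A')) :
    v ∈ J • (⊤ : Submodule C' (Fin n → A')) := by
  rw [mem_smul_top_iff (A := A')]
  have : v = ∑ i, v i • (Pi.single i (1 : A') : Fin n → A') := by
    ext k
    simp [Finset.sum_apply, Pi.single_apply]
  rw [this]
  exact Submodule.sum_mem _ fun i _ => Submodule.smul_mem_smul (hv i) Submodule.mem_top

theorem pi_mem_of_mem_smul_top (n : ℕ) (v : Fin n → A')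
    (hv : v ∈ J • (⊤ : Submodule C' (Fin n → A'))) (i : Fin n) :
    v i ∈ J.map (algebraMap C' A') := by
  rw [mem_smul_top_iff (A := A')] at hv
  refine Submodule.smul_induction_on hv ?_ ?_
  · intro b hb w _
    exact Ideal.mul_mem_right _ _ hb
  · intro x y hx hy
    exact Ideal.add_mem _ hx hy

theorem mem_smul_top_iff_red (n : ℕ) (v : Fin n → A') :
    v ∈ J • (⊤ : Submodule C' (Fin n → A')) ↔ red J n v = 0 := by
  constructor
  · intro hv
    ext i
    rw [red_apply]
    exact Ideal.Quotient.eq_zero_iff_mem.mpr (pi_mem_of_mem_smul_top J n v hv i)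
  · intro h
    refine pi_mem_smul_top J n v fun i => ?_
    have := congrFun h i
    rw [red_apply] at this
    exact Ideal.Quotient.eq_zero_iff_mem.mp this

variable {r : ℕ} (φ' : Matrix (Fin (r + 1)) (Fin r) A')

theorem red_mulVec (x : Fin r → A') :
    red J (r + 1) (φ'.mulVecLin x) =
      (φ'.map (Ideal.Quotient.mk (J.map (algebraMap C' A')))).mulVecLin (red J r x) := by
  ext i
  rw [red_apply, Matrix.mulVecLin_apply, Matrix.mulVecLin_apply, RingHom.map_mulVec]
  rfl

theorem mk_linearCombination (v : Fin (r + 1) → A') :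
    Ideal.Quotient.mk (J.map (algebraMap C' A')) (Fintype.linearCombination A' (minors φ') v) =
      Fintype.linearCombination (A' ⧸ J.map (algebraMap C' A'))
        (minors (φ'.map (Ideal.Quotient.mk (J.map (algebraMap C' A'))))) (red J (r + 1) v) := by
  rw [Fintype.linearCombination_apply, Fintype.linearCombination_apply, map_sum]
  refine Finset.sum_congr rfl fun i _ => ?_
  rw [smul_eq_mul, smul_eq_mul, map_mul, minors_map, red_apply]

/-- key computation -/
theorem exists_sub_mulVec_mem
    (hb : LinearMap.range (φ'.map (Ideal.Quotient.mk (J.map (algebraMap C' A')))).mulVecLin =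
      LinearMap.ker (Fintype.linearCombination (A' ⧸ J.map (algebraMap C' A'))
        (minors (φ'.map (Ideal.Quotient.mk (J.map (algebraMap C' A')))))))
    (v : Fin (r + 1) → A')
    (hv : Fintype.linearCombination A' (minors φ') v ∈ J.map (algebraMap C' A')) :
    ∃ w : Fin r → A', v - φ'.mulVecLin w ∈ J • (⊤ : Submodule C' (Fin (r + 1) → A')) := by
  have h1 : red J (r + 1) v ∈ LinearMap.ker (Fintype.linearCombination (A' ⧸ J.map (algebraMap C' A'))
        (minors (φ'.map (Ideal.Quotient.mk (J.map (algebraMap C' A')))))) := by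
    rw [LinearMap.mem_ker, ← mk_linearCombination]
    exact Ideal.Quotient.eq_zero_iff_mem.mpr hv
  rw [← hb] at h1
  obtain ⟨wb, hwb⟩ := h1
  obtain ⟨w, rfl⟩ := red_surjective J r wb
  refine ⟨w, ?_⟩
  rw [mem_smul_top_iff_red, map_sub, red_mulVec, hwb, sub_self]

section Steps
variable [Module.Flat C' A']

local notation "RR" => (A' ⧸ J.map (algebraMap C' A'))
local notation "mkJ" => Ideal.Quotient.mk (J.map (algebraMap C' A'))

theorem flat_coker_bar
    (hb : LinearMap.range (φ'.map mkJ).mulVecLin =
      LinearMap.ker (Fintype.linearCombination RR (minors (φ'.map mkJ))))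
    [Module.Flat (C' ⧸ J) (RR ⧸ Ideal.span (Set.range (minors (φ'.map mkJ))))] :
    Module.Flat (C' ⧸ J) ((Fin (r + 1) → RR) ⧸ LinearMap.range (φ'.map mkJ).mulVecLin) := by
  haveI hR : Module.Flat (C' ⧸ J) RR := flat_quotient_map J
  set I₀ : Ideal RR := Ideal.span (Set.range (minors (φ'.map mkJ))) with hI₀
  haveI : Module.Flat (C' ⧸ J) (RR ⧸ I₀.restrictScalars (C' ⧸ J)) :=
    Module.Flat.of_linearEquiv (Submodule.Quotient.restrictScalarsEquiv (C' ⧸ J) I₀)
  have hI : Module.Flat (C' ⧸ J) ↥(I₀.restrictScalars (C' ⧸ J)) :=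
    flat_submodule_of_flat_quotient _
  have hrange : LinearMap.range (Fintype.linearCombination RR (minors (φ'.map mkJ))) = I₀ :=
    Fintype.range_linearCombination RR _
  let e₁ : ((Fin (r + 1) → RR) ⧸ LinearMap.range (φ'.map mkJ).mulVecLin) ≃ₗ[RR]
      ↥(LinearMap.range (Fintype.linearCombination RR (minors (φ'.map mkJ)))) :=
    (Submodule.quotEquivOfEq _ _ hb) ≪≫ₗ
      (LinearMap.quotKerEquivRange (Fintype.linearCombination RR (minors (φ'.map mkJ))))
  let e₂ : ↥(LinearMap.range (Fintype.linearCombination RR (minors (φ'.map mkJ)))) ≃ₗ[RR] ↥I₀ :=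
    LinearEquiv.ofEq _ _ hrange
  let e₃ : ↥(I₀.restrictScalars (C' ⧸ J)) ≃ₗ[RR] ↥I₀ := Submodule.restrictScalarsEquiv (C' ⧸ J) RR RR I₀
  exact Module.Flat.of_linearEquiv
    (((e₁ ≪≫ₗ e₂).restrictScalars (C' ⧸ J)) ≪≫ₗ (e₃.restrictScalars (C' ⧸ J)).symm)

theorem step1 (hJnil : IsNilpotent J)
    (ha : Function.Injective (φ'.map mkJ).mulVecLin)
    (hb : LinearMap.range (φ'.map mkJ).mulVecLin =
      LinearMap.ker (Fintype.linearCombination RR (minors (φ'.map mkJ))))
    [Module.Flat (C' ⧸ J) (RR ⧸ Ideal.span (Set.range (minors (φ'.map mkJ))))] :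
    Function.Injective (φ'.mulVecLin.restrictScalars C') ∧
      Module.Flat C' ((Fin (r + 1) → A') ⧸ LinearMap.range (φ'.mulVecLin.restrictScalars C')) := by
  haveI : Module.Flat C' (Fin (r + 1) → A') := flat_pi_fin (r + 1)
  haveI := flat_coker_bar J φ' hb
  set u := φ'.mulVecLin.restrictScalars C' with hu
  have hux : ∀ x, u x = φ'.mulVecLin x := fun x => rfl
  have h1 : ∀ x, u x ∈ J • (⊤ : Submodule C' (Fin (r + 1) → A')) →
      x ∈ J • (⊤ : Submodule C' (Fin r → A')) := by
    intro x hx
    rw [mem_smul_top_iff_red, hux, red_mulVec] at hx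
    rw [mem_smul_top_iff_red]
    exact ha (hx.trans (map_zero _).symm)
  -- the comparison map to the cokernel downstairs
  let g : (Fin (r + 1) → A') →ₗ[C'] ((Fin (r + 1) → RR) ⧸ LinearMap.range (φ'.map mkJ).mulVecLin) :=
    ((Submodule.mkQ (LinearMap.range (φ'.map mkJ).mulVecLin)).restrictScalars C') ∘ₗ
      ((red J (r + 1)).restrictScalars C')
  have hg : ∀ v, g v = Submodule.Quotient.mk (red J (r + 1) v) := fun v => rfl
  have hgu : LinearMap.range u ≤ LinearMap.ker g := by
    rintro _ ⟨x, rfl⟩
    rw [LinearMap.mem_ker, hg, hux, red_mulVec, Submodule.Quotient.mk_eq_zero]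
    exact ⟨_, rfl⟩
  let q := (LinearMap.range u).liftQ g hgu
  have hq : ∀ v, q (Submodule.Quotient.mk v) = Submodule.Quotient.mk (red J (r + 1) v) :=
    fun v => rfl
  haveI : FlatMod J ((Fin (r + 1) → A') ⧸ LinearMap.range u) := by
    refine flatMod_of_surjective J q ?_ ?_
    · intro z
      obtain ⟨w, rfl⟩ := Submodule.Quotient.mk_surjective _ z
      obtain ⟨v, rfl⟩ := red_surjective J (r + 1) w
      exact ⟨Submodule.Quotient.mk v, hq v⟩
    · apply le_antisymm
      · intro x hx
        obtain ⟨v, rfl⟩ := Submodule.Quotient.mk_surjective _ x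
        rw [LinearMap.mem_ker, hq, Submodule.Quotient.mk_eq_zero] at hx
        obtain ⟨wb, hwb⟩ := hx
        obtain ⟨w, rfl⟩ := red_surjective J r wb
        have h2 : v - u w ∈ J • (⊤ : Submodule C' (Fin (r + 1) → A')) := by
          rw [mem_smul_top_iff_red, map_sub, hux, red_mulVec, hwb, sub_self]
        have h3 : (Submodule.Quotient.mk v : (Fin (r + 1) → A') ⧸ LinearMap.range u) =
            Submodule.Quotient.mk (v - u w) := by
          rw [Submodule.Quotient.mk_sub, sub_eq_self.mpr]
          exact (Submodule.Quotient.mk_eq_zero _).mpr ⟨w, rfl⟩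
        rw [h3]
        have h4 := Submodule.mem_map_of_mem (f := (LinearMap.range u).mkQ) h2
        rw [Submodule.map_smul''] at h4
        exact Submodule.smul_mono le_rfl le_top h4
      · intro x hx
        refine Submodule.smul_induction_on hx ?_ ?_
        · intro j hj y _
          rw [LinearMap.mem_ker, map_smul, ← algebraMap_smul (C' ⧸ J) j (q y)]
          have : algebraMap C' (C' ⧸ J) j = 0 := Ideal.Quotient.eq_zero_iff_mem.mpr hj
          rw [this, zero_smul]
        · intro y z hy hz
          exact Submodule.add_mem _ hy hz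
  haveI : Module.Flat (C' ⧸ J) ((C' ⧸ J) ⊗[C'] ((Fin (r + 1) → A') ⧸ LinearMap.range u)) := this
  exact injective_and_flat_coker J u hJnil h1

theorem step2 (hJnil : IsNilpotent J)
    (hb : LinearMap.range (φ'.map mkJ).mulVecLin =
      LinearMap.ker (Fintype.linearCombination RR (minors (φ'.map mkJ))))
    [Module.Flat (C' ⧸ J) (RR ⧸ Ideal.span (Set.range (minors (φ'.map mkJ))))]
    [Module.Flat C' ((Fin (r + 1) → A') ⧸ LinearMap.range (φ'.mulVecLin.restrictScalars C'))] :
    LinearMap.ker (Fintype.linearCombination A' (minors φ')) ≤ LinearMap.range φ'.mulVecLin ∧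
      Module.Flat C' (A' ⧸ Ideal.span (Set.range (minors φ'))) := by
  set u := φ'.mulVecLin.restrictScalars C' with hu
  have hux : ∀ x, u x = φ'.mulVecLin x := fun x => rfl
  let u₁ : (Fin (r + 1) → A') →ₗ[C'] A' :=
    (Fintype.linearCombination A' (minors φ')).restrictScalars C'
  have hu₁ : ∀ v, u₁ v = Fintype.linearCombination A' (minors φ') v := fun v => rfl
  have huu : LinearMap.range u ≤ LinearMap.ker u₁ := by
    rintro _ ⟨x, rfl⟩
    rw [LinearMap.mem_ker, hu₁, hux]
    exact linearCombination_minors_mulVec φ' x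
  let ub := (LinearMap.range u).liftQ u₁ huu
  have hub : ∀ v, ub (Submodule.Quotient.mk v) = Fintype.linearCombination A' (minors φ') v :=
    fun v => rfl
  have h1 : ∀ x, ub x ∈ J • (⊤ : Submodule C' A') →
      x ∈ J • (⊤ : Submodule C' ((Fin (r + 1) → A') ⧸ LinearMap.range u)) := by
    intro x hx
    obtain ⟨v, rfl⟩ := Submodule.Quotient.mk_surjective _ x
    rw [hub, Ideal.smul_top_eq_map, Submodule.restrictScalars_mem] at hx
    obtain ⟨w, hw⟩ := exists_sub_mulVec_mem J φ' hb v hx
    have h3 : (Submodule.Quotient.mk v : (Fin (r + 1) → A') ⧸ LinearMap.range u) =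
        Submodule.Quotient.mk (v - u w) := by
      rw [Submodule.Quotient.mk_sub, sub_eq_self.mpr]
      exact (Submodule.Quotient.mk_eq_zero _).mpr ⟨w, rfl⟩
    rw [h3]
    have h4 := Submodule.mem_map_of_mem (f := (LinearMap.range u).mkQ) hw
    rw [Submodule.map_smul''] at h4
    exact Submodule.smul_mono le_rfl le_top h4
  -- range of ub
  set K : Ideal A' := Ideal.span (Set.range (minors φ')) with hK
  have hrange : (K • ⊤ : Submodule A' A').restrictScalars C' = LinearMap.range ub := by
    ext y
    rw [Submodule.restrictScalars_mem, smul_eq_mul, Ideal.mul_top, hK]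
    have hrl := Fintype.range_linearCombination A' (minors φ')
    rw [show (y ∈ Ideal.span (Set.range (minors φ'))) ↔
      y ∈ LinearMap.range (Fintype.linearCombination A' (minors φ')) from by rw [hrl]]
    constructor
    · rintro ⟨v, rfl⟩
      exact ⟨Submodule.Quotient.mk v, hub v⟩
    · rintro ⟨x, rfl⟩
      obtain ⟨v, rfl⟩ := Submodule.Quotient.mk_surjective _ x
      exact ⟨v, (hub v).symm⟩
  have hKmap : K.map mkJ = Ideal.span (Set.range (minors (φ'.map mkJ))) := by
    rw [hK, Ideal.map_span, ← Set.range_comp]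
    congr 2
    funext i
    exact minors_map mkJ φ' i
  have hspan : ((K.map mkJ) • ⊤ : Submodule RR RR) = Ideal.span (Set.range (minors (φ'.map mkJ))) := by
    rw [smul_eq_mul, Ideal.mul_top, hKmap]
  haveI : Module.Flat (C' ⧸ J) (RR ⧸ ((K.map mkJ) • ⊤ : Submodule RR RR)) :=
    Module.Flat.of_linearEquiv ((Submodule.quotEquivOfEq _ _ hspan).restrictScalars (C' ⧸ J))
  have hFM := flatMod_quot J K
  haveI : Module.Flat (C' ⧸ J) ((C' ⧸ J) ⊗[C'] (A' ⧸ LinearMap.range ub)) :=
    FlatMod.of_linearEquiv J (quotEquivOfCarrier A' _ _ hrange) hFM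
  obtain ⟨hinj, hflat⟩ := injective_and_flat_coker J ub hJnil h1
  constructor
  · intro v hv
    have : ub (Submodule.Quotient.mk v) = ub 0 := by
      rw [hub, map_zero]
      exact hv
    have h0 := hinj this
    obtain ⟨x, hx⟩ := (Submodule.Quotient.mk_eq_zero _).mp h0
    exact ⟨x, hx⟩
  · have hK2 : (K • ⊤ : Submodule A' A') = K := by rw [smul_eq_mul, Ideal.mul_top]
    exact Module.Flat.of_linearEquiv
      (((Submodule.quotEquivOfEq _ _ hK2).restrictScalars C').symm ≪≫ₗ
        (quotEquivOfCarrier A' _ _ hrange))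

end Steps

end HB



/-- Let C' be a local Artin ring, J ⊊ C' a proper ideal annihilated by the maximal ideal, C = C'/J, A' a
flat C'-algebra of finite type with smooth special fibre, and A = A'/JA'. Let φ be an (r+1) × r
matrix over A such that 0 → A^r → A^{r+1} → A is exact, the second map sending v to Σ_i v_i f_i with
f_i = (−1)^i det(φ with row i removed), and such that A/(f_0, …, f_r) is flat over C. Then every
matrix φ' over A' lifting φ has the same property over A': multiplication by φ' is injective, its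
image is the kernel of the map given by the signed maximal minors f'_i of φ', and A'/(f'_0, …, f'_r)
is flat over C' (its reduction to A is A/(f_0, …, f_r) since minors commute with reduction). -/
theorem result (C' : Type u) [CommRing C'] [IsLocalRing C'] [IsArtinianRing C'] (J : Ideal C')
    (hJ : IsLocalRing.maximalIdeal C' * J = ⊥) (hJne : J ≠ ⊤) (A' : Type u) [CommRing A'] [Algebra C' A'] [Module.Flat C' A']
    [Algebra.FiniteType C' A']
    [Algebra.Smooth (C' ⧸ IsLocalRing.maximalIdeal C') (A' ⧸ (IsLocalRing.maximalIdeal C').map (algebraMap C' A'))]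
    (r : ℕ) (φ' : Matrix (Fin (r + 1)) (Fin r) A')
    (hφ : (Function.Injective (φ'.map (Ideal.Quotient.mk (J.map (algebraMap C' A')))).mulVecLin ∧
        LinearMap.range (φ'.map (Ideal.Quotient.mk (J.map (algebraMap C' A')))).mulVecLin = LinearMap.ker (Fintype.linearCombination (A' ⧸ J.map (algebraMap C' A')) (fun i : Fin (r + 1) => (-1 : (A' ⧸ J.map (algebraMap C' A'))) ^ (i : ℕ) * ((φ'.map (Ideal.Quotient.mk (J.map (algebraMap C' A')))).submatrix i.succAbove id).det))))
    [Module.Flat (C' ⧸ J) ((A' ⧸ J.map (algebraMap C' A')) ⧸ Ideal.span (Set.range (fun i : Fin (r + 1) => (-1 : (A' ⧸ J.map (algebraMap C' A'))) ^ (i : ℕ) * ((φ'.map (Ideal.Quotient.mk (J.map (algebraMap C' A')))).submatrix i.succAbove id).det)))] :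
    Function.Injective φ'.mulVecLin ∧
      LinearMap.range φ'.mulVecLin = LinearMap.ker (Fintype.linearCombination A' (fun i : Fin (r + 1) => (-1 : A') ^ (i : ℕ) * ((φ').submatrix i.succAbove id).det)) ∧
      Module.Flat C' (A' ⧸ Ideal.span (Set.range (fun i : Fin (r + 1) => (-1 : A') ^ (i : ℕ) * ((φ').submatrix i.succAbove id).det))) := by
  have hJm : J ≤ IsLocalRing.maximalIdeal C' := IsLocalRing.le_maximalIdeal hJne
  have hJnil : IsNilpotent J := by
    refine ⟨2, ?_⟩
    rw [pow_two, Ideal.zero_eq_bot, ← le_bot_iff, ← hJ]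
    exact Ideal.mul_mono_left hJm
  obtain ⟨ha, hb⟩ := hφ
  have hb' : LinearMap.range (φ'.map (Ideal.Quotient.mk (J.map (algebraMap C' A')))).mulVecLin =
      LinearMap.ker (Fintype.linearCombination (A' ⧸ J.map (algebraMap C' A'))
        (minors (φ'.map (Ideal.Quotient.mk (J.map (algebraMap C' A')))))) := hb
  haveI : Module.Flat (C' ⧸ J) ((A' ⧸ J.map (algebraMap C' A')) ⧸
      Ideal.span (Set.range (minors (φ'.map (Ideal.Quotient.mk (J.map (algebraMap C' A'))))))) :=
    ‹_›
  obtain ⟨hinj, hfl⟩ := step1 J φ' hJnil ha hb'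
  haveI := hfl
  obtain ⟨hle, hflat⟩ := step2 J φ' hJnil hb'
  refine ⟨hinj, ?_, hflat⟩
  apply le_antisymm
  · rintro _ ⟨x, rfl⟩
    exact linearCombination_minors_mulVec φ' x
  · exact hle

end Groth.Agent.S11457
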