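import Groth.Statements.S9812
import Mathlib.RingTheory.LocalRing.RingHom.Basic

set_option autoImplicit false
universe u
open CAlg2

namespace Groth.Agent.S9812

/-- At the level of the local ring: an integrally closed local domain is geometrically unibranch.
Consequently a normal scheme is geometrically unibranch. -/
theorem result (A : Type u) [CommRing A] [IsLocalRing A]
    [IsDomain A] [IsIntegrallyClosed A] : CAlg2.IsGeomUnibranch A := by
  have hnil : nilradical A = ⊥ := nilradical_eq_zero A
  let e : red A ≃+* A := (Ideal.quotEquivOfEq hnil).trans (RingEquiv.quotientBot A)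
  have hdom : IsDomain (red A) := MulEquiv.isDomain A e.toMulEquiv
  have hic : IsIntegrallyClosed (red A) := IsIntegrallyClosed.of_equiv e.symm
  have hbot : integralClosure (red A) (FractionRing (red A)) = ⊥ :=
    IsIntegrallyClosed.integralClosure_eq_bot (R := red A) (K := FractionRing (red A))
  have hsurj : Function.Surjective (algebraMap (red A) (normRed A)) := by
    rintro ⟨x, hx⟩
    have hx' : x ∈ (⊥ : Subalgebra (red A) (FractionRing (red A))) := hbot ▸ hx
    obtain ⟨y, hy⟩ := Algebra.mem_bot.mp hx'
    exact ⟨y, Subtype.ext hy⟩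
  have hinj : Function.Injective (algebraMap (red A) (normRed A)) := by
    intro a b hab
    have := congrArg Subtype.val hab
    exact IsFractionRing.injective (red A) (FractionRing (red A)) this
  let e' : red A ≃+* normRed A := RingEquiv.ofBijective (algebraMap (red A) (normRed A)) ⟨hinj, hsurj⟩
  have : IsLocalRing (red A) := e.symm.isLocalRing
  refine ⟨⟨hdom, e'.isLocalRing⟩, ?_⟩
  intro m' _ x
  refine ⟨0, ?_⟩
  simp only [pow_zero, pow_one]
  obtain ⟨y, rfl⟩ := Ideal.Quotient.mk_surjective x
  obtain ⟨z, rfl⟩ := hsurj y
  obtain ⟨w, rfl⟩ := Ideal.Quotient.mk_surjective z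
  exact ⟨w, rfl⟩

end Groth.Agent.S9812
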