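import Groth.Statements.S12211
import Groth.Agent.Lib.Helper26.HS5

set_option autoImplicit false
universe u
open IntMult

namespace Groth.Agent.S12211

open Groth.Agent.Lib.helper26.HS in
theorem hs_one_ne_top (A : Type u) [CommRing A] [IsNoetherianRing A] [IsLocalRing A]
    (I : Ideal A) (hI : ∃ n : ℕ, IsLocalRing.maximalIdeal A ^ n ≤ I)
    (M : Type u) [AddCommGroup M] [Module A M] [Module.Finite A M] : hs I M 1 ≠ ⊤ := by
  unfold hs col
  rw [Module.length_ne_top_iff,
    Groth.Agent.Lib.helper8.StalkLen.isFiniteLength_iff_support_isMaximal]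
  intro Q hQ
  rw [Module.support_quotient, pow_one] at hQ
  obtain ⟨n, hn⟩ := hI
  have h1 : IsLocalRing.maximalIdeal A ^ n ≤ Q.asIdeal := hn.trans hQ.2
  have h2 : IsLocalRing.maximalIdeal A ≤ Q.asIdeal := Q.2.le_of_pow_le h1
  have h3 : Q.asIdeal = IsLocalRing.maximalIdeal A :=
    ((IsLocalRing.maximalIdeal.isMaximal A).eq_of_le Q.2.ne_top h2).symm
  rw [h3]
  exact IsLocalRing.maximalIdeal.isMaximal A

theorem tendsto_shift (d k : ℕ) (a : ℕ → ℕ) (e : ℝ)
    (h : Filter.Tendsto (fun t : ℕ => (d.factorial : ℝ) * (a t : ℝ) / (t : ℝ) ^ d) Filter.atTop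
      (nhds e)) :
    Filter.Tendsto (fun t : ℕ => (d.factorial : ℝ) * (a (t - k) : ℝ) / (t : ℝ) ^ d) Filter.atTop
      (nhds e) := by
  have h1 : Filter.Tendsto (fun t : ℕ => (d.factorial : ℝ) * (a (t - k) : ℝ) / ((t - k : ℕ) : ℝ) ^ d)
      Filter.atTop (nhds e) := h.comp (Filter.tendsto_sub_atTop_nat k)
  have h2 : Filter.Tendsto (fun t : ℕ => (1 - (k : ℝ) / (t : ℝ)) ^ d) Filter.atTop (nhds 1) := by
    have h3 : Filter.Tendsto (fun t : ℕ => (1 - (k : ℝ) / (t : ℝ))) Filter.atTop (nhds (1 - 0)) :=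
      tendsto_const_nhds.sub (tendsto_const_div_atTop_nhds_zero_nat (k : ℝ))
    rw [sub_zero] at h3
    have := h3.pow d
    rwa [one_pow] at this
  have h4 := h1.mul h2
  rw [mul_one] at h4
  refine h4.congr' ?_
  filter_upwards [Filter.eventually_gt_atTop k] with t ht
  have htk : ((t - k : ℕ) : ℝ) = (t : ℝ) - k := by
    rw [Nat.cast_sub (le_of_lt ht)]
  have ht0 : (t : ℝ) ≠ 0 := by
    have : (0 : ℝ) < t := by exact_mod_cast (lt_of_le_of_lt (Nat.zero_le k) ht)
    exact ne_of_gt this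
  have htk0 : (t : ℝ) - k ≠ 0 := by
    have : (k : ℝ) < t := by exact_mod_cast ht
    exact ne_of_gt (sub_pos.2 this)
  rw [htk]
  have h5 : (1 - (k : ℝ) / (t : ℝ)) = ((t : ℝ) - k) / t := by
    field_simp
  rw [h5, div_pow]
  field_simp


/-- Suppose A is a local Noetherian ring and I ⊆ A is an ideal of definition. Given a short exact
sequence 0 → M' → M → M'' → 0 of finite A-modules and a number d with dim Supp(M) ≤ d, we have
e_I(M, d) = e_I(M', d) + e_I(M'', d), where e_I(N, d) denotes the limit as t → ∞ of d! ·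
length_A(N/I^t N)/t^d. Concretely: whenever these limits for M' and M'' exist and equal e' and e'',
the corresponding limit for M exists and equals e' + e''. -/
theorem result (A : Type u) [CommRing A] [IsNoetherianRing A] [IsLocalRing A]
    (I : Ideal A) (hI : I ≤ IsLocalRing.maximalIdeal A ∧ ∃ n : ℕ, IsLocalRing.maximalIdeal A ^ n ≤ I)
    {M' M M'' : Type u} [AddCommGroup M'] [Module A M'] [AddCommGroup M] [Module A M]
    [AddCommGroup M''] [Module A M''] [Module.Finite A M'] [Module.Finite A M] [Module.Finite A M'']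
    (f : M' →ₗ[A] M) (g : M →ₗ[A] M'') (hf : Function.Injective f) (hg : Function.Surjective g)
    (hfg : LinearMap.range f = LinearMap.ker g)
    (d : ℕ) (hd : Module.supportDim A M ≤ d) (e' e'' : ℝ)
    (h' : Filter.Tendsto (fun t : ℕ => (d.factorial : ℝ) * ((Module.length A (M' ⧸ (I ^ t • (⊤ : Submodule A M')))).toNat : ℝ) / (t : ℝ) ^ d) Filter.atTop (nhds e'))
    (h'' : Filter.Tendsto (fun t : ℕ => (d.factorial : ℝ) * ((Module.length A (M'' ⧸ (I ^ t • (⊤ : Submodule A M'')))).toNat : ℝ) / (t : ℝ) ^ d) Filter.atTop (nhds e'')) :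
    Filter.Tendsto (fun t : ℕ => (d.factorial : ℝ) * ((Module.length A (M ⧸ (I ^ t • (⊤ : Submodule A M)))).toNat : ℝ) / (t : ℝ) ^ d) Filter.atTop (nhds (e' + e'')) := by
  open Groth.Agent.Lib.helper26.HS in
  have fM : ∀ t, hs I M t ≠ ⊤ := hs_ne_top I M (hs_one_ne_top A I hI.2 M)
  have fM' : ∀ t, hs I M' t ≠ ⊤ := hs_ne_top I M' (hs_one_ne_top A I hI.2 M')
  have fM'' : ∀ t, hs I M'' t ≠ ⊤ := hs_ne_top I M'' (hs_one_ne_top A I hI.2 M'')
  obtain ⟨k, hk⟩ := exists_hs_le_col_comap I f hf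
  have hex : ∀ t, hs I M t = hs I M'' t + col ((I ^ t • (⊤ : Submodule A M)).comap f) :=
    fun t => hs_exact I f g hg hfg t
  have fg : ∀ t, col ((I ^ t • (⊤ : Submodule A M)).comap f) ≠ ⊤ :=
    fun t => ne_top_of_le_ne_top (fM' t) (col_comap_le_hs I f t)
  -- squeeze for the middle term
  have hmid : Filter.Tendsto (fun t : ℕ => (d.factorial : ℝ) *
      ((col ((I ^ t • (⊤ : Submodule A M)).comap f)).toNat : ℝ) / (t : ℝ) ^ d) Filter.atTop
      (nhds e') := by
    have hlow := tendsto_shift d k (fun t => (hs I M' t).toNat) e' h'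
    refine tendsto_of_tendsto_of_tendsto_of_le_of_le' hlow h' ?_ ?_
    · filter_upwards [Filter.eventually_ge_atTop k] with t ht
      have h1 : (hs I M' (t - k)).toNat ≤
          (col ((I ^ t • (⊤ : Submodule A M)).comap f)).toNat :=
        ENat.toNat_le_toNat (hk t ht) (fg t)
      have h2 : ((hs I M' (t - k)).toNat : ℝ) ≤
          ((col ((I ^ t • (⊤ : Submodule A M)).comap f)).toNat : ℝ) := by exact_mod_cast h1
      show (d.factorial : ℝ) * ((hs I M' (t - k)).toNat : ℝ) / (t : ℝ) ^ d ≤ _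
      gcongr
    · filter_upwards with t
      have h1 : (col ((I ^ t • (⊤ : Submodule A M)).comap f)).toNat ≤ (hs I M' t).toNat :=
        ENat.toNat_le_toNat (col_comap_le_hs I f t) (fM' t)
      have h2 : ((col ((I ^ t • (⊤ : Submodule A M)).comap f)).toNat : ℝ) ≤
          ((hs I M' t).toNat : ℝ) := by exact_mod_cast h1
      show _ ≤ (d.factorial : ℝ) * ((hs I M' t).toNat : ℝ) / (t : ℝ) ^ d
      gcongr
  have hsum := h''.add hmid
  rw [add_comm e'' e'] at hsum
  refine hsum.congr (fun t => ?_)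
  have h1 : (hs I M t).toNat = (hs I M'' t).toNat +
      (col ((I ^ t • (⊤ : Submodule A M)).comap f)).toNat := by
    rw [hex t, ENat.toNat_add (fM'' t) (fg t)]
  show (d.factorial : ℝ) * ((hs I M'' t).toNat : ℝ) / (t : ℝ) ^ d +
    (d.factorial : ℝ) * ((col ((I ^ t • (⊤ : Submodule A M)).comap f)).toNat : ℝ) / (t : ℝ) ^ d =
    (d.factorial : ℝ) * ((hs I M t).toNat : ℝ) / (t : ℝ) ^ d
  rw [h1]
  push_cast
  ring


end Groth.Agent.S12211
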