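import Groth.Statements.S12212
import Groth.Agent.S12211
import Groth.Agent.Lib.Helper26.Mult3


set_option autoImplicit false
universe u
open IntMult

namespace Groth.Agent.S12212


open Groth.Agent.Lib.helper26.HS

theorem exists_lt_of_le_of_ne {x : WithBot ℕ∞} {d : ℕ} (h : x ≤ d) (hne : x ≠ d) (hb : x ≠ ⊥) :
    ∃ d' : ℕ, d' < d ∧ x ≤ d' := by
  induction x using WithBot.recBotCoe with
  | bot => exact absurd rfl hb
  | coe a =>
    have h1 : a ≤ (d : ℕ∞) := by exact_mod_cast h
    have h2 : a ≠ ⊤ := ne_top_of_le_ne_top (ENat.natCast_ne_top d) h1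
    obtain ⟨n, rfl⟩ := ENat.ne_top_iff_exists.1 h2
    have h3 : n ≤ d := by exact_mod_cast h1
    have h4 : n ≠ d := by
      rintro rfl
      exact hne rfl
    exact ⟨n, lt_of_le_of_ne h3 h4, le_rfl⟩


/-- Suppose A is a local Noetherian ring with an ideal of definition I, take M to be a finite A-module,
and fix d with dim Supp(M) ≤ d. Then e_I(M, d) equals Σ_p length_{A_p}(M_p) · e_I(A/p, d), where p
ranges over the primes satisfying dim(A/p) = d (all but finitely many summands vanish); here e_I(N,
d) denotes the limit of d! · length_A(N/I^t N)/t^d, and the formal version says: assuming these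
limits e_p exist for the A-modules A/p, the limit attached to M is the sum shown. -/
theorem result (A : Type u) [CommRing A] [IsNoetherianRing A] [IsLocalRing A]
    (I : Ideal A) (hI : I ≤ IsLocalRing.maximalIdeal A ∧ ∃ n : ℕ, IsLocalRing.maximalIdeal A ^ n ≤ I)
    (M : Type u) [AddCommGroup M] [Module A M] [Module.Finite A M]
    (d : ℕ) (hd : Module.supportDim A M ≤ d) (e : PrimeSpectrum A → ℝ)
    (he : ∀ p : PrimeSpectrum A, ringKrullDim (A ⧸ p.asIdeal) = d →
      Filter.Tendsto (fun t : ℕ => (d.factorial : ℝ) *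
        ((Module.length A ((A ⧸ p.asIdeal) ⧸ (I ^ t • (⊤ : Submodule A (A ⧸ p.asIdeal))))).toNat : ℝ) / (t : ℝ) ^ d)
        Filter.atTop (nhds (e p))) :
    Filter.Tendsto (fun t : ℕ => (d.factorial : ℝ) * ((Module.length A (M ⧸ (I ^ t • (⊤ : Submodule A M)))).toNat : ℝ) / (t : ℝ) ^ d) Filter.atTop
      (nhds (∑ᶠ (p : PrimeSpectrum A) (_ : ringKrullDim (A ⧸ p.asIdeal) = d),
        ((Module.length (Localization.AtPrime p.asIdeal) (LocalizedModule p.asIdeal.primeCompl M)).toNat : ℝ) * e p)) := by
  have hone : ∀ (N : Type u) [AddCommGroup N] [Module A N] [Module.Finite A N], hs I N 1 ≠ ⊤ :=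
    fun N _ _ _ => Groth.Agent.S12211.hs_one_ne_top A I hI.2 N
  have key : ∀ (N : Type u) [AddCommGroup N] [Module A N] (_ : Module.Finite A N),
      Module.supportDim A N ≤ d →
      Filter.Tendsto (fun t : ℕ => (d.factorial : ℝ) * ((hs I N t).toNat : ℝ) / (t : ℝ) ^ d)
        Filter.atTop (nhds (rhs d e N)) := by
    intro N _ _ hfin
    refine IsNoetherianRing.induction_on_isQuotientEquivQuotientPrime A hfin
      (motive := fun N _ _ _ => Module.supportDim A N ≤ d →
        Filter.Tendsto (fun t : ℕ => (d.factorial : ℝ) * ((hs I N t).toNat : ℝ) / (t : ℝ) ^ d)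
          Filter.atTop (nhds (rhs d e N))) ?_ ?_ ?_
    · intro N _ _ _ _ _
      rw [rhs_of_subsingleton]
      have h0 : ∀ t, hs I N t = 0 := fun t => by
        unfold hs col
        exact Module.length_eq_zero
      simp [h0]
    · intro N _ _ _ p' φ hd
      have hd' : ringKrullDim (A ⧸ p'.asIdeal) ≤ d := by
        rw [← Module.supportDim_quotient_eq_ringKrullDim, ← Module.supportDim_eq_of_equiv φ]
        exact hd
      rw [rhs_of_equiv d e φ]
      simp only [hs_of_equiv I φ]
      by_cases hc : ringKrullDim (A ⧸ p'.asIdeal) = d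
      · rw [rhs_quotient_eq d e p' hc]
        exact he p' hc
      · rw [rhs_quotient_ne d e p' hd' hc]
        have hb : ringKrullDim (A ⧸ p'.asIdeal) ≠ ⊥ := by
          have : Nontrivial (A ⧸ p'.asIdeal) := Ideal.Quotient.nontrivial_iff.2 p'.2.ne_top
          intro h
          have h0 := ringKrullDim_nonneg_of_nontrivial (R := A ⧸ p'.asIdeal)
          rw [h] at h0
          simp at h0
        obtain ⟨d', hlt, hle⟩ := exists_lt_of_le_of_ne hd' hc hb
        refine tendsto_zero_of_supportDim_lt I (hone _) d' d ?_ hlt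
        rwa [Module.supportDim_quotient_eq_ringKrullDim]
    · intro N₁ _ _ _ N₂ _ _ _ N₃ _ _ _ f g hf hg H ih1 ih3 hd
      rw [rhs_add_of_exact d e f g hf hg H hd]
      have hd1 : Module.supportDim A N₁ ≤ d := (Module.supportDim_le_of_injective f hf).trans hd
      have hd3 : Module.supportDim A N₃ ≤ d := (Module.supportDim_le_of_surjective g hg).trans hd
      exact Groth.Agent.S12211.result A I hI f g hf hg (LinearMap.exact_iff.1 H).symm d hd _ _
        (ih1 hd1) (ih3 hd3)
  exact key M inferInstance hd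


end Groth.Agent.S12212
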