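import Groth.Statements.S15430
import Groth.Agent.Lib.Helper7.GrSyzPD

set_option autoImplicit false
universe u
open GrSyz

namespace Groth.Agent.S15430


open Groth.Agent.Lib.helper7

/-- Let k be a field, S = k[x_0, …, x_r] graded by degree, 𝔪 = (x_0, …, x_r), M a finitely generated
ℤ-graded S-module and F a minimal graded free resolution of M by free modules of finite rank with
homogeneous bases (all matrix entries in 𝔪). Then the length of F is the projective dimension of M:
for every natural number n, all terms F_i with i > n vanish if and only if M has projective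
dimension at most n as an S-module (all Ext^i_S(M, −) with i > n vanish). -/
theorem result (k : Type u) [Field k] (r : ℕ)
    (M : Type u) [AddCommGroup M] [Module k M] [Module (MvPolynomial (Fin (r + 1)) k) M]
    [IsScalarTower k (MvPolynomial (Fin (r + 1)) k) M] [Module.Finite (MvPolynomial (Fin (r + 1)) k) M]
    (ℳ : ℤ → Submodule k M) [DirectSum.Decomposition ℳ] [SetLike.GradedSMul (GrSyz.stdGr k (Fin (r + 1))) ℳ]
    (F : GrSyz.FreeRes (GrSyz.stdGr k (Fin (r + 1))) ℳ) (hF : F.IsMinimal (GrSyz.irrel (GrSyz.stdGr k (Fin (r + 1)))).toIdeal) (n : ℕ) :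
    F.HasLengthLE n ↔ CategoryTheory.HasProjectiveDimensionLE (ModuleCat.of (MvPolynomial (Fin (r + 1)) k) M) n := by
  classical
  have h1 := GrSyzBasic.one_not_mem_irrel k (Fin (r + 1))
  constructor
  · intro hlen
    cases n with
    | zero =>
      rw [GrSyzPD.pdLE_zero_iff]
      have hrk : F.rk 1 = 0 := hlen 1 (by omega)
      have hinj : Function.Injective F.augLin := by
        rw [← LinearMap.ker_eq_bot, F.exact_zero, eq_bot_iff]
        rintro _ ⟨v, rfl⟩
        have : v = 0 := by
          funext b
          rw [hrk] at b
          exact b.elim0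
        rw [this, map_zero]
        exact Submodule.zero_mem _
      exact Module.Projective.of_equiv (LinearEquiv.ofBijective F.augLin ⟨hinj, F.aug_surjective⟩)
    | succ n =>
      rw [GrSyzPD.pdLE_succ_iff F n]
      have hrk : F.rk (n + 2) = 0 := hlen (n + 2) (by omega)
      have hinj : Function.Injective (F.dLin n) := by
        rw [← LinearMap.ker_eq_bot, F.exact_succ n, eq_bot_iff]
        rintro _ ⟨v, rfl⟩
        have : v = 0 := by
          funext b
          rw [hrk] at b
          exact b.elim0
        rw [this, map_zero]
        exact Submodule.zero_mem _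
      exact Module.Projective.of_equiv (LinearEquiv.ofInjective (F.dLin n) hinj)
  · intro hpd
    cases n with
    | zero =>
      rw [GrSyzPD.pdLE_zero_iff] at hpd
      exact GrSyzPD.hasLengthLE_of_range_eq_bot F hF h1 0
        (GrSyzPD.range_eq_bot_of_projective F hF h1 0 F.augLin F.aug_surjective F.exact_zero)
    | succ n =>
      rw [GrSyzPD.pdLE_succ_iff F n] at hpd
      refine GrSyzPD.hasLengthLE_of_range_eq_bot F hF h1 (n + 1)
        (GrSyzPD.range_eq_bot_of_projective F hF h1 (n + 1) (F.dLin n).rangeRestrict
          (F.dLin n).surjective_rangeRestrict ?_)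
      rw [LinearMap.ker_rangeRestrict, F.exact_succ n]

end Groth.Agent.S15430
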