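import Groth.Statements.S13606
-- import your own Groth.Agent.* helpers here

set_option autoImplicit false
universe u
open CategoryTheory AlgebraicGeometry
open SGA1

namespace Groth.Agent.S13606

theorem appLE_eq_of_eq {X Y : Scheme.{u}} (f f' : X ⟶ Y) (e : f = f') (U : Y.Opens) (V : X.Opens)
    (h1 : V ≤ f ⁻¹ᵁ U) (h2 : V ≤ f' ⁻¹ᵁ U) : f.appLE U V h1 = f'.appLE U V h2 := by
  subst e; rfl

theorem gen {X Y : Scheme.{u}} {G : Type u} [Group G]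
    (ρ : G →* Aut X) (p : X ⟶ Y) (hp : SGA1.IsQuot ρ p) (V' : Y.Opens)
    (W'' : X.Opens) (hW : W'' = p ⁻¹ᵁ V') (s : Γ(X, W'')) :
    s ∈ Set.range (p.appLE V' W'' hW.le).hom ↔
      ∀ g : G, ((ρ g).hom.appLE W'' W''
        (by rw [hW]; exact preimage_le_of_inv ρ p hp.inv g V')).hom s = s := by
  subst hW
  have := hp.range_iff V' s
  rwa [Scheme.Hom.app_eq_appLE] at this



/-- Let a finite group G act on a scheme X and let p : X ⟶ Y be a quotient of X by G (affine,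
G-invariant, sections of O_Y over every open = G-invariant sections of O_X over its preimage). Then
for every open U ⊆ Y, U is the quotient of p⁻¹U by G: the restriction p⁻¹U ⟶ U of p is again a
quotient in the same sense, for the action ρU of G on the G-stable open p⁻¹U induced by ρ (pinned by
compatibility with the inclusion p⁻¹U ⟶ X). -/
theorem result {X Y : Scheme.{u}} {G : Type u} [Group G] [Finite G]
    (ρ : G →* Aut X) (p : X ⟶ Y) (hp : SGA1.IsQuot ρ p) (U : Y.Opens)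
    (ρU : G →* Aut (p ⁻¹ᵁ U).toScheme)
    (hρU : ∀ g : G, (ρU g).hom ≫ (p ⁻¹ᵁ U).ι = (p ⁻¹ᵁ U).ι ≫ (ρ g).hom) :
    SGA1.IsQuot ρU (p ∣_ U) := by
  have haff := hp.affine
  have hinv : ∀ g : G, (ρU g).hom ≫ p ∣_ U = p ∣_ U := by
    intro g
    rw [← cancel_mono U.ι, Category.assoc, morphismRestrict_ι, reassoc_of% (hρU g), hp.inv g]
  refine ⟨IsZariskiLocalAtTarget.restrict (P := @IsAffineHom) haff U, hinv, ?_, ?_⟩
  · intro V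
    have key : Function.Injective (p.app (U.ι ''ᵁ V) ≫
        X.presheaf.map (eqToHom (image_morphismRestrict_preimage p U V)).op).hom := by
      rw [CommRingCat.hom_comp, RingHom.coe_comp]
      refine Function.Injective.comp ?_ (hp.injective _)
      exact (ConcreteCategory.bijective_of_isIso
        (X.presheaf.map (eqToHom (image_morphismRestrict_preimage p U V)).op)).1
    rw [morphismRestrict_app]
    exact key
  · intro V s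
    have hW : (p ⁻¹ᵁ U).ι ''ᵁ ((p ∣_ U) ⁻¹ᵁ V) = p ⁻¹ᵁ (U.ι ''ᵁ V) :=
      image_morphismRestrict_preimage p U V
    have key := gen ρ p hp (U.ι ''ᵁ V) ((p ⁻¹ᵁ U).ι ''ᵁ ((p ∣_ U) ⁻¹ᵁ V)) hW s
    have hL : (p ∣_ U).app V = p.appLE (U.ι ''ᵁ V) ((p ⁻¹ᵁ U).ι ''ᵁ ((p ∣_ U) ⁻¹ᵁ V)) hW.le :=
      morphismRestrict_app' p U V
    have hR : ∀ g : G, (ρU g).hom.appLE ((p ∣_ U) ⁻¹ᵁ V) ((p ∣_ U) ⁻¹ᵁ V)
          (preimage_le_of_inv ρU (p ∣_ U) hinv g V) =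
        (ρ g).hom.appLE ((p ⁻¹ᵁ U).ι ''ᵁ ((p ∣_ U) ⁻¹ᵁ V)) ((p ⁻¹ᵁ U).ι ''ᵁ ((p ∣_ U) ⁻¹ᵁ V))
          (by rw [hW]; exact preimage_le_of_inv ρ p hp.inv g (U.ι ''ᵁ V)) := by
      intro g
      have e1 : (p ∣_ U) ⁻¹ᵁ V ≤ (p ⁻¹ᵁ U).ι ⁻¹ᵁ ((p ⁻¹ᵁ U).ι ''ᵁ ((p ∣_ U) ⁻¹ᵁ V)) := by
        rw [Scheme.Hom.preimage_image_eq]
      have hι : (p ⁻¹ᵁ U).ι.appLE ((p ⁻¹ᵁ U).ι ''ᵁ ((p ∣_ U) ⁻¹ᵁ V)) ((p ∣_ U) ⁻¹ᵁ V) e1 = 𝟙 _ := by
        rw [Scheme.Opens.ι_appLE]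
        exact X.presheaf.map_id _
      have h1 := Scheme.Hom.appLE_comp_appLE (ρU g).hom (p ⁻¹ᵁ U).ι
        ((p ⁻¹ᵁ U).ι ''ᵁ ((p ∣_ U) ⁻¹ᵁ V)) ((p ∣_ U) ⁻¹ᵁ V) ((p ∣_ U) ⁻¹ᵁ V) e1
        (preimage_le_of_inv ρU (p ∣_ U) hinv g V)
      have h2 := Scheme.Hom.appLE_comp_appLE (p ⁻¹ᵁ U).ι (ρ g).hom
        ((p ⁻¹ᵁ U).ι ''ᵁ ((p ∣_ U) ⁻¹ᵁ V)) ((p ⁻¹ᵁ U).ι ''ᵁ ((p ∣_ U) ⁻¹ᵁ V)) ((p ∣_ U) ⁻¹ᵁ V)
        (by rw [hW]; exact preimage_le_of_inv ρ p hp.inv g (U.ι ''ᵁ V)) e1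
      exact (Category.id_comp _).symm.trans ((congrArg (fun t => t ≫ (ρU g).hom.appLE ((p ∣_ U) ⁻¹ᵁ V)
        ((p ∣_ U) ⁻¹ᵁ V) (preimage_le_of_inv ρU (p ∣_ U) hinv g V)) hι.symm).trans (h1.trans
        ((appLE_eq_of_eq _ _ (hρU g) _ _ _ _).trans (h2.symm.trans
        ((congrArg (fun t => (ρ g).hom.appLE ((p ⁻¹ᵁ U).ι ''ᵁ ((p ∣_ U) ⁻¹ᵁ V))
          ((p ⁻¹ᵁ U).ι ''ᵁ ((p ∣_ U) ⁻¹ᵁ V))
          (by rw [hW]; exact preimage_le_of_inv ρ p hp.inv g (U.ι ''ᵁ V)) ≫ t) hι).trans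
          (Category.comp_id _))))))
    have step1 : s ∈ Set.range ((p ∣_ U).app V).hom ↔
        s ∈ Set.range (p.appLE (U.ι ''ᵁ V) ((p ⁻¹ᵁ U).ι ''ᵁ ((p ∣_ U) ⁻¹ᵁ V)) hW.le).hom := by
      rw [hL]
      exact Iff.rfl
    refine step1.trans (key.trans ?_)
    constructor
    · intro h g
      exact (congrArg (fun t => (CommRingCat.Hom.hom t) s) (hR g)).trans (h g)
    · intro h g
      exact (congrArg (fun t => (CommRingCat.Hom.hom t) s) (hR g)).symm.trans (h g)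

end Groth.Agent.S13606
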