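import Groth.Statements.S13596
import Mathlib.RingTheory.Polynomial.Basic
import Mathlib.Algebra.Polynomial.Lifts
import Mathlib.RingTheory.IntegralClosure.IsIntegral.Defs
-- import your own Groth.Agent.* helpers here

set_option autoImplicit false
universe u
open CategoryTheory AlgebraicGeometry
open SGA1

namespace Groth.Agent.S13596

open Polynomial in
theorem integral_of_invariants {A B : Type*} [CommRing A] [CommRing B] (φ : A →+* B)
    {G : Type*} [Group G] [Finite G] (σ : G → (B →+* B))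
    (h1 : ∀ b, σ 1 b = b) (hmul : ∀ g h b, σ h (σ g b) = σ (g * h) b)
    (hinv : ∀ b : B, (∀ g, σ g b = b) → b ∈ Set.range φ) : φ.IsIntegral := by
  cases nonempty_fintype G
  intro b
  let P : B[X] := ∏ g : G, (X - C (σ g b))
  have hmonic : P.Monic := monic_prod_of_monic _ _ (fun _ _ ↦ monic_X_sub_C _)
  have hmap : ∀ h : G, P.map (σ h) = P := by
    intro h
    simp only [P, Polynomial.map_prod, Polynomial.map_sub, Polynomial.map_X, Polynomial.map_C, hmul]
    exact Fintype.prod_equiv (Equiv.mulRight h) _ _ (fun g => rfl)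
  have hcoeff : ∀ n, P.coeff n ∈ Set.range φ := by
    intro n
    apply hinv
    intro g
    rw [← Polynomial.coeff_map, hmap]
  have hlift : P ∈ Polynomial.lifts φ := (P.lifts_iff_coeff_lifts).mpr hcoeff
  obtain ⟨Q, hQ1, -, hQ2⟩ := Polynomial.lifts_and_natDegree_eq_and_monic hlift hmonic
  refine ⟨Q, hQ2, ?_⟩
  rw [← eval_map, hQ1]
  simp only [P, eval_prod]
  apply Finset.prod_eq_zero (Finset.mem_univ (1 : G))
  rw [h1, eval_sub, eval_C, eval_X, sub_self]


theorem appLE_eq_of_eq {X : Scheme.{u}} (f f' : X ⟶ X) (e : f = f') (V : X.Opens)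
    (h1 : V ≤ f ⁻¹ᵁ V) (h2 : V ≤ f' ⁻¹ᵁ V) : f.appLE V V h1 = f'.appLE V V h2 := by
  subst e; rfl

theorem id_appLE' {X : Scheme.{u}} (V : X.Opens) (e : V ≤ (𝟙 X) ⁻¹ᵁ V) :
    Scheme.Hom.appLE (𝟙 X) V V e = 𝟙 _ := by
  simp [Scheme.Hom.appLE]
  have h2 : X.presheaf.map (homOfLE e).op = X.presheaf.map (𝟙 (Opposite.op V)) := by
    congr 1
  erw [h2, X.presheaf.map_id]
  exact Category.id_comp _


/-- Let a finite group G act on a scheme X and let p : X ⟶ Y be a quotient of X by G (affine,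
G-invariant, and identifying the sections of O_Y over every open with the G-invariant sections of
O_X over its preimage). Then p is an integral morphism. -/
theorem result {X Y : Scheme.{u}} {G : Type u} [Group G] [Finite G]
    (ρ : G →* Aut X) (p : X ⟶ Y) (hp : SGA1.IsQuot ρ p) :
    IsIntegralHom p := by
  have haff := hp.affine
  refine { isIntegral_app := fun U hU => ?_ }
  let σ : G → (Γ(X, p ⁻¹ᵁ U) →+* Γ(X, p ⁻¹ᵁ U)) := fun g =>
    ((ρ g).hom.appLE (p ⁻¹ᵁ U) (p ⁻¹ᵁ U) (preimage_le_of_inv ρ p hp.inv g U)).hom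
  apply integral_of_invariants (p.app U).hom σ
  · intro b
    have e : (ρ 1).hom = 𝟙 X := by rw [map_one]; rfl
    have := appLE_eq_of_eq (ρ 1).hom (𝟙 X) e (p ⁻¹ᵁ U) (preimage_le_of_inv ρ p hp.inv 1 U) (by simp)
    simp only [σ, this, id_appLE']
    rfl
  · intro g h b
    have e : (ρ (g * h)).hom = (ρ h).hom ≫ (ρ g).hom := by rw [map_mul]; rfl
    have h3 := appLE_eq_of_eq _ _ e (p ⁻¹ᵁ U) (preimage_le_of_inv ρ p hp.inv (g * h) U)
      (by rw [← e]; exact preimage_le_of_inv ρ p hp.inv (g * h) U)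
    have h4 := Scheme.Hom.appLE_comp_appLE (ρ h).hom (ρ g).hom (p ⁻¹ᵁ U) (p ⁻¹ᵁ U) (p ⁻¹ᵁ U)
      (preimage_le_of_inv ρ p hp.inv g U) (preimage_le_of_inv ρ p hp.inv h U)
    simp only [σ]
    rw [h3, ← h4]
    rfl
  · intro b hb
    exact (hp.range_iff U b).mpr hb

end Groth.Agent.S13596
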