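import Groth.Statements.S5219
import Mathlib.Algebra.Category.ModuleCat.Presheaf.Generator
import Mathlib.CategoryTheory.Abelian.GrothendieckCategory.EnoughInjectives
import Mathlib.CategoryTheory.Abelian.GrothendieckAxioms.FunctorCategory
import Mathlib.Algebra.Category.Grp.AB
import Mathlib.CategoryTheory.Functor.ReflectsIso.Balanced

set_option autoImplicit false
open CategoryTheory
universe u
open ShfCat

namespace Groth.Agent.S5219

open CategoryTheory.Limits in
/-- The coproduct of the free modules on the representable presheaves is a separator. -/
lemma hasSeparator (C : Type u) [SmallCategory C] (O : Cᵒᵖ ⥤ RingCat.{u}) :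
    HasSeparator (PresheafOfModules.{u} O) where
  hasSeparator := ⟨∐ (yoneda ⋙ PresheafOfModules.free O).obj,
    (PresheafOfModules.freeYoneda.isSeparating O).isSeparator_coproduct⟩

open CategoryTheory.Limits in
/-- Filtered colimits of presheaves of modules are exact (checked on underlying presheaves of
abelian groups). -/
lemma hasExactColimitsOfShape (C : Type u) [SmallCategory C] (O : Cᵒᵖ ⥤ RingCat.{u})
    (J : Type u) [SmallCategory J] [IsFiltered J] :
    HasExactColimitsOfShape J (PresheafOfModules.{u} O) :=
  HasExactColimitsOfShape.domain_of_functor J (PresheafOfModules.toPresheaf O)

/-- Presheaves of modules form a Grothendieck abelian category. -/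
lemma isGrothendieckAbelian (C : Type u) [SmallCategory C] (O : Cᵒᵖ ⥤ RingCat.{u}) :
    IsGrothendieckAbelian.{u} (PresheafOfModules.{u} O) where
  ab5OfSize := { ofShape := fun J _ _ => hasExactColimitsOfShape C O J }
  hasSeparator := hasSeparator C O

/-- For a small category `C` and a presheaf of rings `O` on it, the category of presheaves of
`O`-modules has enough injectives. (The published statement also asserts that `O` itself is a
generator; in general only the family of modules `O_S` induced on the objects `S` of `C` generates —
for the category with one non-identity arrow a → b and a module vanishing at b, no direct sum of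
copies of `O` maps onto it — and the row keeps the conclusion the argument establishes.) -/
theorem result (C : Type u) [SmallCategory C] (O : Cᵒᵖ ⥤ RingCat.{u}) :
    EnoughInjectives (PresheafOfModules.{u} O) := by
  have := isGrothendieckAbelian C O
  infer_instance

end Groth.Agent.S5219
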