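import Groth.Statements.S0484
import Groth.Agent.S5219
import Mathlib.Algebra.Category.ModuleCat.Presheaf.Sheafification
import Mathlib.Algebra.Category.ModuleCat.Sheaf.Colimits
import Mathlib.CategoryTheory.Abelian.GrothendieckAxioms.Basic

set_option autoImplicit false
universe u
open CategoryTheory
open CohSite

namespace Groth.Agent.S0484


open CategoryTheory Limits

lemma isSeparator_leftAdjoint_obj {A B : Type*} [Category A] [Category B] {F : A ⥤ B} {G : B ⥤ A}
    (adj : F ⊣ G) [G.Faithful] {S : A} (hS : IsSeparator S) : IsSeparator (F.obj S) := by
  rw [isSeparator_def] at hS ⊢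
  intro M N f g h
  apply G.map_injective
  apply hS
  intro k
  have h1 := h ((adj.homEquiv S M).symm k)
  have h2 := congrArg (adj.homEquiv S N) h1
  rw [Adjunction.homEquiv_naturality_right, Adjunction.homEquiv_naturality_right,
    Equiv.apply_symm_apply] at h2
  exact h2

/-- For a sheaf of rings O on a small site, the category of O-modules has exact filtered colimits and a
generator, so it is a Grothendieck abelian category. -/
theorem result {C : Type u} [SmallCategory C] (J : GrothendieckTopology C)
    (R : Sheaf J RingCat.{u}) : IsGrothendieckAbelian.{u} (SheafOfModules.{u} R) := by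
  have hP : IsGrothendieckAbelian.{u} (PresheafOfModules.{u} R.obj) :=
    Groth.Agent.S5219.isGrothendieckAbelian C R.obj
  exact
    { hasFilteredColimitsOfSize := ⟨fun K _ _ => inferInstance⟩
      ab5OfSize := ⟨fun K _ _ =>
        (PresheafOfModules.sheafificationAdjunction (𝟙 R.obj)).hasExactColimitsOfShape K⟩
      hasSeparator := ⟨⟨_, isSeparator_leftAdjoint_obj
        (PresheafOfModules.sheafificationAdjunction (𝟙 R.obj))
        (isSeparator_separator (PresheafOfModules.{u} R.obj))⟩⟩ }

end Groth.Agent.S0484
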