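import Groth.Statements.S1576
import Mathlib
import Groth.Agent.Lib.Helper16.CohFinite
import Groth.Agent.S2542

set_option autoImplicit false
universe u
open CategoryTheory CategoryTheory.Limits AlgebraicGeometry
open Divisors

namespace Groth.Agent.S1576

section helpers
open CategoryTheory CategoryTheory.Limits AlgebraicGeometry TopologicalSpace

open Opposite
open Groth.Agent.Lib.helper16.CohFinite

theorem finite_affine (X : Scheme.{u}) [IsLocallyNoetherian X]
    (F : X.Modules) (hF : Coh.IsCoh F) {W : X.Opens} (hW : IsAffineOpen W) :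
    {x : X | x ∈ W ∧ Curv2.IsAssPoint F x}.Finite := by
  haveI : F.IsQuasicoherent := hF.1
  haveI : IsNoetherianRing Γ(X, W) := IsLocallyNoetherian.component_noetherian ⟨W, hW⟩
  haveI : Module.Finite Γ(X, W) Γ(F, W) := finite_sections_of_isCoh F hF hW
  have hfin : (associatedPrimes Γ(X, W) Γ(F, W)).Finite := associatedPrimes.finite _ _
  -- map into Spec
  classical
  let φ : X → Ideal Γ(X, W) := fun x =>
    if hx : x ∈ W then (hW.primeIdealOf ⟨x, hx⟩).asIdeal else ⊥
  refine Set.Finite.of_finite_image (f := φ) (hfin.subset ?_) ?_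
  · rintro _ ⟨x, ⟨hxW, hx⟩, rfl⟩
    simp only [φ, dif_pos hxW]
    exact (Groth.Agent.S2542.isAssPoint_iff_isAssociatedPrime F hW x hxW).mp hx
  · rintro x ⟨hxW, -⟩ y ⟨hyW, -⟩ hxy
    simp only [φ, dif_pos hxW, dif_pos hyW] at hxy
    have h1 : hW.primeIdealOf ⟨x, hxW⟩ = hW.primeIdealOf ⟨y, hyW⟩ := PrimeSpectrum.ext hxy
    have h2 := congrArg hW.fromSpec h1
    rwa [hW.fromSpec_primeIdealOf, hW.fromSpec_primeIdealOf] at h2

theorem main (X : Scheme.{u}) [IsLocallyNoetherian X]
    (F : X.Modules) (hF : Coh.IsCoh F) (U : X.Opens) (hU : IsCompact (U : Set X)) :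
    {x : X | x ∈ U ∧ Curv2.IsAssPoint F x}.Finite := by
  obtain ⟨S, hS, e⟩ := isCompact_and_isOpen_iff_finite_and_eq_biUnion_affineOpens.mp ⟨hU, U.2⟩
  have : {x : X | x ∈ U ∧ Curv2.IsAssPoint F x} ⊆
      ⋃ W ∈ S, {x : X | x ∈ (W : X.Opens) ∧ Curv2.IsAssPoint F x} := by
    rintro x ⟨hxU, hx⟩
    have hx' : x ∈ (U : Set X) := hxU
    rw [e] at hx'
    simp only [Set.mem_iUnion] at hx'
    obtain ⟨W, hWS, hxW⟩ := hx'
    exact Set.mem_biUnion hWS ⟨hxW, hx⟩
  exact (hS.biUnion fun W _ => finite_affine X F hF W.2).subset this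


end helpers


/-- Let X be locally Noetherian and F coherent. Then the associated points of F lying in any
quasi-compact open subset form a finite set. -/
theorem result (X : Scheme.{u}) [IsLocallyNoetherian X]
    (F : X.Modules) (hF : Coh.IsCoh F) (U : X.Opens) (hU : IsCompact (U : Set X)) :
    {x : X | x ∈ U ∧ Curv2.IsAssPoint F x}.Finite := by
  exact main X F hF U hU

end Groth.Agent.S1576
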