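import Groth.Statements.S4466
import Groth.Agent.S0843
import Groth.Agent.S0844
import Groth.Agent.S0845
import Groth.Agent.Lib.Helper20.HomogRank

set_option autoImplicit false
universe u
open Coherent

namespace Groth.Agent.S4466

open AlgebraicGeometry CategoryTheory in
/-- Let k be a field, r > 0 and n any integer. Then the Euler characteristic of the twisting sheaf O(n)
on projective r-space over k, namely the alternating sum of the dimensions of H^j(P^r_k, O(n)) for 0
≤ j ≤ r, equals the binomial coefficient C(n+r, r), understood as the binomial polynomial evaluated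
at the integer n+r (so that it makes sense and is correct for negative n too). -/
theorem result (k : Type u) [Field k] (r : ℕ) (hr : 0 < r)
    (n : ℤ) :
    ((Finset.range (r + 1)).sum fun j => (-1 : ℤ) ^ j *
        (Module.finrank k (Coh.HH (CohB1.ProjSpace r k) (Twist.twistProjSpace r k n) j) : ℤ)) =
      Ring.choose (n + r) r := by
  have hvan : ∀ j : ℕ, ¬(j = 0 ∧ 0 ≤ n) → ¬(j = r ∧ n ≤ -((r : ℤ) + 1)) →
      (Module.finrank k (Coh.HH (CohB1.ProjSpace r k) (Twist.twistProjSpace r k n) j) : ℤ) = 0 := by
    intro j h0 hn
    haveI := Groth.Agent.S0844.result k r n j h0 hn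
    rw [Module.finrank_zero_of_subsingleton]
    rfl
  rcases le_or_gt 0 n with hn0 | hn0
  · obtain ⟨d, rfl⟩ := Int.eq_ofNat_of_zero_le hn0
    rw [Finset.sum_eq_single 0]
    · obtain ⟨e⟩ := Groth.Agent.S0843.result k r d
      rw [e.finrank_eq, Groth.Agent.Lib.Helper20.HomogRank.finrank_homogeneousSubmodule]
      rw [pow_zero, one_mul, ← Nat.cast_add, Ring.choose_natCast]
    · intro j _ hj0
      rw [hvan j (fun h => hj0 h.1) (fun h => by omega), mul_zero]
    · intro h
      simp at h
  · rcases lt_or_ge (-((r : ℤ) + 1)) n with hn1 | hn1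
    · rw [Finset.sum_eq_zero]
      · obtain ⟨m, hm⟩ : ∃ m : ℕ, n + r = m := ⟨(n + r).toNat, by omega⟩
        rw [hm, Ring.choose_natCast, Nat.choose_eq_zero_of_lt (by omega)]
        simp
      · intro j _
        rw [hvan j (by omega) (by omega), mul_zero]
    · obtain ⟨k', hk'⟩ : ∃ k' : ℕ, n = -((r : ℤ) + 1 + k') := ⟨(-n - r - 1).toNat, by omega⟩
      subst hk'
      rw [Finset.sum_eq_single r]
      · obtain ⟨e⟩ := Groth.Agent.S0845.result k r k'
        rw [e.finrank_eq, Groth.Agent.Lib.Helper20.HomogRank.finrank_homogeneousSubmodule]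
        have h1 : (-((r : ℤ) + 1 + k') + r) = -(((k' + 1 : ℕ) : ℤ)) := by
          push_cast
          ring
        rw [h1, Ring.choose_neg]
        have h2 : (((k' + 1 : ℕ) : ℤ) + (r : ℤ) - 1) = ((k' + r : ℕ) : ℤ) := by
          push_cast
          ring
        rw [h2, Ring.choose_natCast, Int.negOnePow_def]
        simp [Units.smul_def]
      · intro j hj hjr
        rw [hvan j (by
          intro h
          omega) (fun h => hjr h.1), mul_zero]
      · intro h
        simp at h

end Groth.Agent.S4466
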