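import Groth.Statements.S3754
import Groth.Agent.Lib.Helper20.RelReg

set_option autoImplicit false
universe v u
open CategoryTheory CategoryTheory.Limits AlgebraicGeometry
attribute [local instance] HasDerivedCategory.standard
open KRR

namespace Groth.Agent.S3754

/-- Let Y be a Noetherian scheme, p : P = P^n_Y ⟶ Y the projection, and F a coherent O_P-module which is
regular in the sense of Castelnuovo and Mumford relative to p (R^i p_*(F(-i)) = 0 for all i ≥ 1,
higher direct images of the underlying abelian sheaves). Then F(m) = O(m) ⊗ F is regular for every m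
≥ 0, and R^i p_* F = 0 for all i ≥ 1. -/
theorem result (n : ℕ) (Y : Scheme.{u}) [IsNoetherian Y]
    (F : (KRR.PY n Y).Modules) (hF : Coh.IsCoh F) (hreg : KRR.IsRegSheaf n Y F) :
    (∀ m : ℕ, KRR.IsRegSheaf n Y (KRR.twF n Y (m : ℤ) F)) ∧
    ∀ i : ℕ, 1 ≤ i → IsZero ((Coh.RpushAb (KRR.pr n Y) i).obj (Coh.toAb F)) := by
  haveI : F.IsQuasicoherent := hF.1
  have h0 := (Groth.Agent.Lib.Helper20.RelReg.isRegSheaf_iff n Y F).1 hreg
  have hq : ∀ (V : Y.Opens) (hV : IsAffineOpen V),
      Coh.IsQCoh (Groth.Agent.Lib.Helper20.RelReg.GV n V hV F) := fun V hV =>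
    Groth.Agent.Lib.Helper20.RelReg.isQuasicoherent_GV n V hV F
  refine ⟨fun m => ?_, fun i hi => ?_⟩
  · haveI := Groth.Agent.Lib.Helper20.RelReg.isQuasicoherent_twF n Y F (m : ℤ)
    refine (Groth.Agent.Lib.Helper20.RelReg.isRegSheaf_iff n Y _).2 fun V hV => ?_
    obtain ⟨e⟩ := Groth.Agent.Lib.Helper20.RelReg.nonempty_GV_twF_iso n V hV F (m : ℤ)
    refine Groth.Agent.Lib.Helper20.RelReg.isReg_of_iso e.symm ?_
    rw [Groth.Agent.Lib.Helper20.RelReg.isReg_twist_iff]
    exact Groth.Agent.Lib.Helper20.RegRing.isReg_of_le (hq V hV) (h0 V hV) _ (by omega)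
  · refine (Groth.Agent.Lib.Helper20.RelReg.isZero_rpushAb_iff n Y F i hi).2 fun V hV => ?_
    have h1 := Groth.Agent.Lib.Helper20.RegRing.vanish_of_isReg (hq V hV) (h0 V hV) i hi 0
      (by omega)
    exact Groth.Agent.Lib.Helper20.TwistEquivPn.subsingleton_of_iso
      (Groth.Agent.Lib.Helper20.TwistEquivPn.twistZeroIso n Γ(Y, V) _) i h1

end Groth.Agent.S3754
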