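import Groth.Statements.S3756
import Groth.Agent.S3754
import Groth.Agent.Lib.Helper11.GCLocGeo
import Groth.Agent.Lib.Helper11.RpushAbBridge
import Groth.Agent.Lib.Helper20.FlatPn
import Groth.Agent.Lib.Helper21.InvFibre
import Groth.Agent.Lib.Helper19.ProjSpaceProper
import Groth.Agent.Lib.Lead.RankAdd

set_option autoImplicit false
universe v u
open CategoryTheory CategoryTheory.Limits AlgebraicGeometry
attribute [local instance] HasDerivedCategory.standard
open KRR

namespace Groth.Agent.S3756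

/-- Let Y be a Noetherian scheme, p : P = P^n_Y ⟶ Y, and F a finite locally free O_P-module which is
regular relative to p. Then p_* F is a finite locally free O_Y-module. -/
theorem result (n : ℕ) (Y : Scheme.{u}) [IsNoetherian Y]
    (F : (KRR.PY n Y).Modules) (hF : FlatMod.IsFinLocFree F) (hreg : KRR.IsRegSheaf n Y F) :
    FlatMod.IsFinLocFree ((Scheme.Modules.pushforward (KRR.pr n Y)).obj F) := by
  have hcoh : Coh.IsCoh F := Groth.Agent.Lib.Lead.RankAdd.isCoh_of_isFinLocFree hF
  haveI : F.IsQuasicoherent := hcoh.1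
  haveI : IsProper (KRR.pr n Y) := Groth.Agent.Lib.helper19.ProjSpaceProper.proper_toBase n Y
  haveI : Flat (KRR.pr n Y) := Groth.Agent.Lib.Helper20.FlatPn.flat_toBase n Y
  have hfl : FlatMod.IsFlatOver (KRR.pr n Y) F :=
    Groth.Agent.Lib.helper21.InvFibre.isFlatOver_of_isFinLocFree _ F hF
  have hR : ∀ i : ℕ, 0 < i → IsZero ((Coh.Rpush (KRR.pr n Y) i).obj F) := fun i hi =>
    Groth.Agent.Lib.helper11.RpushAbBridge.isZero_rpush_of_isZero_rpushAb _ i F
      ((Groth.Agent.S3754.result n Y F hcoh hreg).2 i hi)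
  obtain ⟨-, h2⟩ := Groth.Agent.Lib.helper11.GCLoc.push_locFree_of_rpush_zero
    (KRR.pr n Y) F hcoh hfl hR
  intro y
  obtain ⟨U, hyU, e⟩ := h2 y
  exact ⟨U, _, hyU, e⟩

end Groth.Agent.S3756
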