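import Groth.Statements.S19429
import Groth.Agent.Lib.Helper20.RegGG
import Groth.Agent.Lib.Helper20.RelReg
import Groth.Agent.Lib.Helper20.PushReg
import Groth.Agent.Lib.Helper11.CounitEpi

set_option autoImplicit false
universe u
open KRR

namespace Groth.Agent.S19429

open CategoryTheory CategoryTheory.Limits AlgebraicGeometry in
/-- Let T be any scheme, p : P^n_T ⟶ T the projection, and F a quasi-coherent O-module on P^n_T which is
regular relative to p (R^i p_*(F(-i)) = 0 for every i ≥ 1, higher direct images of the underlying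
abelian sheaves). Then the canonical homomorphism p^* p_* F ⟶ F, the counit of the adjunction
between pullback and pushforward of O-modules, is an epimorphism. Stated for the trivial bundle,
i.e. for P^n_T; no Noetherian, separatedness or finiteness hypothesis on T or F. -/
theorem result (n : ℕ) (T : Scheme.{u}) (F : (KRR.PY n T).Modules)
    (hF : Coh.IsQCoh F) (hreg : KRR.IsRegSheaf n T F) :
    Epi ((Scheme.Modules.pullbackPushforwardAdjunction (KRR.pr n T)).counit.app F) := by
  haveI : F.IsQuasicoherent := hF
  have hreg' := (Groth.Agent.Lib.Helper20.RelReg.isRegSheaf_iff n T F).1 hreg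
  refine Groth.Agent.Lib.helper11.CounitEpi.epi_of_forall_restrict _ (fun x => ?_)
  obtain ⟨V, hV, hxV, -⟩ := (TopologicalSpace.Opens.isBasis_iff_nbhd.1 T.isBasis_affineOpens)
    (show (KRR.pr n T).base x ∈ (⊤ : T.Opens) from trivial)
  refine ⟨KRR.pr n T ⁻¹ᵁ V, hxV, ?_⟩
  rw [Groth.Agent.Lib.helper11.CounitEpi.epi_restrict_counit_iff]
  apply Groth.Agent.Lib.helper11.CounitEpi.epi_counit_of_isGloballyGenerated
  haveI : (F.restrict (KRR.pr n T ⁻¹ᵁ V).ι).IsQuasicoherent := inferInstance
  haveI : IsAffineHom (Groth.Agent.Lib.helper12.PnLocal.theta n V hV).hom := inferInstance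
  apply Groth.Agent.Lib.helper20.PushReg.gg_of_gg_push (Groth.Agent.Lib.helper12.PnLocal.theta n V hV).hom
  exact Groth.Agent.Lib.Helper20.RegGG.gg_of_isReg _
    (Groth.Agent.Lib.Helper20.RelReg.isQuasicoherent_GV n V hV F) (hreg' V hV)


end Groth.Agent.S19429
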