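import Groth.Statements.S3755
import Groth.Agent.S19429
import Groth.Agent.S19433
import Groth.Agent.Lib.Helper20.RegKer
import Groth.Agent.Lib.Lead.RpushCoh

set_option autoImplicit false
universe v u
open CategoryTheory CategoryTheory.Limits AlgebraicGeometry
attribute [local instance] HasDerivedCategory.standard
open KRR

namespace Groth.Agent.S3755

/-- Let Y be a Noetherian scheme, p : P = P^n_Y ⟶ Y, and F a coherent O_P-module regular relative to p.
Then the canonical homomorphism p^* p_* F ⟶ F (counit of the adjunction between pullback and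
pushforward of modules) is an epimorphism, and if Z denotes its kernel then Z(1) is regular. -/
theorem result (n : ℕ) (Y : Scheme.{u}) [IsNoetherian Y]
    (F : (KRR.PY n Y).Modules) (hF : Coh.IsCoh F) (hreg : KRR.IsRegSheaf n Y F) :
    Epi ((Scheme.Modules.pullbackPushforwardAdjunction (KRR.pr n Y)).counit.app F) ∧
    KRR.IsRegSheaf n Y (KRR.twF n Y 1 (kernel ((Scheme.Modules.pullbackPushforwardAdjunction (KRR.pr n Y)).counit.app F))) := by
  haveI hq : F.IsQuasicoherent := hF.1
  haveI : IsProper (KRR.pr n Y) := Groth.Agent.Lib.helper19.ProjSpaceProper.proper_toBase n Y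
  have hepi := Groth.Agent.S19429.result n Y F hF.1 hreg
  refine ⟨hepi, ?_⟩
  -- `p_* F` is coherent
  have hpush : Coh.IsCoh ((Scheme.Modules.pushforward (KRR.pr n Y)).obj F) :=
    Groth.Agent.Lib.helper21.ShHomCoh.isCoh_of_iso'
      ((Scheme.Modules.pushforward (KRR.pr n Y)).rightDerivedZeroIsoSelf.app F)
      (Groth.Agent.Lib.Lead.RpushCoh.isCoh_rpush (KRR.pr n Y) F hF 0)
  haveI hpq : ((Scheme.Modules.pushforward (KRR.pr n Y)).obj F).IsQuasicoherent := hpush.1
  haveI hppq : ((Scheme.Modules.pullback (KRR.pr n Y)).obj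
      ((Scheme.Modules.pushforward (KRR.pr n Y)).obj F)).IsQuasicoherent :=
    Groth.Agent.Lib.helper16.QCohPullback.isQuasicoherent_pullback _ _
  let c := (Scheme.Modules.pullbackPushforwardAdjunction (KRR.pr n Y)).counit.app F
  let S : ShortComplex (KRR.PY n Y).Modules := ShortComplex.mk (kernel.ι c) c (kernel.condition c)
  have hS : S.ShortExact :=
    ShortComplex.ShortExact.mk' (ShortComplex.exact_of_f_is_kernel S (kernelIsKernel c))
      (inferInstanceAs (Mono (kernel.ι c))) hepi
  haveI hppq' : ((Scheme.Modules.pushforward (KRR.pr n Y) ⋙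
      Scheme.Modules.pullback (KRR.pr n Y)).obj F).IsQuasicoherent := hppq
  haveI hq' : ((𝟭 (KRR.PY n Y).Modules).obj F).IsQuasicoherent := hq
  have h₁ : Coh.IsQCoh S.X₁ := Groth.Agent.Lib.helper7.CohKer.isQuasicoherent_kernel c
  have hsplit : Epi ((Scheme.Modules.pushforward (KRR.pr n Y)).map S.g) := by
    have h := (Scheme.Modules.pullbackPushforwardAdjunction (KRR.pr n Y)).right_triangle_components F
    have := IsSplitEpi.mk' (SplitEpi.mk _ h)
    infer_instance
  exact Groth.Agent.S19433.result n Y S hS h₁ hppq hq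
    (Groth.Agent.Lib.Helper20.RegKer.isRegSheaf_tw_pullback n Y hpush) hreg hsplit


end Groth.Agent.S3755
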