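import Groth.Statements.S7690
import Mathlib
import Groth.Agent.S0034
import Groth.Agent.Lib.Lead.SerreVan
import Groth.Agent.Lib.Helper19.ProjSpaceProper

set_option autoImplicit false
universe u
open CategoryTheory CategoryTheory.Limits AlgebraicGeometry
open Variety

namespace Groth.Agent.S7690

/-- vanishing of cohomology is invariant under base field extension (qcqs `X`) -/
lemma subsingleton_bc_iff (k : Type u) [Field k] (X : Scheme.{u}) [X.Over (Spec (CommRingCat.of k))]
    [CompactSpace X] [QuasiSeparatedSpace X]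
    (k' : Type u) [Field k'] [Algebra k k'] (X' : Scheme.{u}) [X'.Over (Spec (CommRingCat.of k'))]
    (g : X' ⟶ X)
    (hpb : IsPullback g (X' ↘ Spec (CommRingCat.of k')) (X ↘ Spec (CommRingCat.of k))
      (Spec.map (CommRingCat.ofHom (algebraMap k k'))))
    (F : X.Modules) (hF : Coh.IsQCoh F) (i : ℕ) :
    Subsingleton (Coh.HH X' ((Scheme.Modules.pullback g).obj F) i) ↔
      Subsingleton (Coh.HH X F i) := by
  haveI : Coh.IsQCoh F := hF
  obtain ⟨e⟩ := Groth.Agent.S0034.result k k' X X' g hpb F i
  rw [← e.toEquiv.subsingleton_congr]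
  exact Module.FaithfullyFlat.subsingleton_tensorProduct_iff_right k k'

/-- Let k'/k be a field extension (k' in the universe of k), n ≥ 0, F a coherent module on P^n_k with
pullback F' to P^n_{k'}. For every integer m, F is m-regular exactly when F' is. Here P^n_{k'} is
taken as the base change P^n_k ×_k Spec k' and the m-regularity of F' is spelled out as the
vanishing of H^i(P^n_{k'}, (F(m − i))') for 1 ≤ i ≤ n, (F(m − i))' being the pullback of F ⊗ O(m −
i). -/
theorem result (k : Type u) [Field k] (n : ℕ)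
    (k' : Type u) [Field k'] [Algebra k k'] (F : (CohB1.ProjSpace n k).Modules) (hF : Coh.IsCoh F) (m : ℤ) :
    Curv2.IsMRegular k n F m ↔
      ∀ i : ℕ, 1 ≤ i → i ≤ n →
        Subsingleton (Coh.HH (Curv2.bc k (CohB1.ProjSpace n k) k')
          ((Scheme.Modules.pullback (Curv2.bcFst k (CohB1.ProjSpace n k) k')).obj
            (CohB1.tensorMod F (Twist.twistProjSpace n k (m - i)))) i) := by
  letI : (Curv2.bc k (CohB1.ProjSpace n k) k').Over (Spec (CommRingCat.of k')) :=
    ⟨Curv2.bcSnd k (CohB1.ProjSpace n k) k'⟩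
  have hpb : IsPullback (Curv2.bcFst k (CohB1.ProjSpace n k) k')
      ((Curv2.bc k (CohB1.ProjSpace n k) k') ↘ Spec (CommRingCat.of k'))
      ((CohB1.ProjSpace n k) ↘ Spec (CommRingCat.of k))
      (Spec.map (CommRingCat.ofHom (algebraMap k k'))) :=
    IsPullback.of_hasPullback _ _
  haveI : IsProper ((CohB1.ProjSpace n k) ↘ Spec (CommRingCat.of k)) :=
    Groth.Agent.Lib.helper19.ProjSpaceProper.proper_toSpec n k
  haveI : CompactSpace (CohB1.ProjSpace n k) :=
    (quasiCompact_iff_compactSpace (f := (CohB1.ProjSpace n k) ↘ Spec (CommRingCat.of k))).mp inferInstance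
  haveI : QuasiSeparatedSpace (CohB1.ProjSpace n k) :=
    (quasiSeparated_iff_quasiSeparatedSpace (f := (CohB1.ProjSpace n k) ↘ Spec (CommRingCat.of k))).mp inferInstance
  unfold Curv2.IsMRegular
  refine forall_congr' fun i => forall_congr' fun _ => forall_congr' fun _ => ?_
  exact (subsingleton_bc_iff k (CohB1.ProjSpace n k) k' _ _ hpb _
    (Groth.Agent.Lib.Lead.SerreVan.isCoh_twist n k hF (m - i)).1 i).symm

end Groth.Agent.S7690
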