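import Groth.Statements.S16489
import Groth.Agent.Lib.Lead.RefHull8
-- import your own Groth.Agent.* helpers here

set_option autoImplicit false
set_option backward.isDefEq.respectTransparency false
universe u
open CategoryTheory CategoryTheory.Limits AlgebraicGeometry TopologicalSpace
open VBPn

namespace Groth.Agent.S16489

/-- Let X be an integral locally Noetherian scheme all of whose local rings are regular, and F a
coherent O_X-module. Call F normal when for all open subsets V ⊆ U of X such that every point of U
not in V has local ring O_{X,x} of dimension at least 2, the restriction map F(U) → F(V) is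
bijective. Then F is reflexive (the canonical map F → F^** is an isomorphism) if and only if F is
torsion-free (each stalk F_x is a torsion-free O_{X,x}-module) and normal. The published statement
is for coherent analytic sheaves on a complex manifold, a sheaf being called normal when for every
open U and every analytic subset A ⊆ U of codimension at least 2 the restriction F(U) → F(U ∖ A) is
bijective; this row is its statement for coherent sheaves on a regular integral locally Noetherian
scheme, with normality phrased through open subsets V ⊆ U whose complement in U consists of points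
with local ring of dimension at least 2, where the same argument applies. -/
theorem result (X : Scheme.{u}) [IsIntegral X] [IsLocallyNoetherian X]
    (hreg : ∀ x : X, IsRegularLocalRing (X.presheaf.stalk x)) (F : X.Modules) (hF : Coh.IsCoh F) :
    RefHull.IsReflexive F ↔
      TorSh.IsTorsionFree F ∧
      (∀ (U V : X.Opens) (hVU : V ≤ U), (∀ x : X, x ∈ U → x ∉ V → (2 : WithBot ℕ∞) ≤ ringKrullDim (X.presheaf.stalk x)) →
        Function.Bijective (F.presheaf.map (homOfLE hVU).op)) := by
  constructor
  · intro hrefl
    have hst := (Groth.Agent.Lib.Lead.RH.isReflexive_iff_forall_isReflexiveAt F hF).1 hrefl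
    refine ⟨fun x => ?_, fun U V hVU hdim => ?_⟩
    · haveI : Module.IsReflexive (X.presheaf.stalk x) (F.presheaf.stalk x) := hst x
      infer_instance
    · refine Groth.Agent.Lib.Lead.RH.bijective_res_pair_of_depth F hF hVU fun x hxU hxV => ?_
      haveI := hreg x
      haveI : Module.IsReflexive (X.presheaf.stalk x) (F.presheaf.stalk x) := hst x
      haveI := Groth.Agent.Lib.helper16.CohStalk.finite_stalk_of_isCoh F hF x
      have hd : 2 ≤ LocCoh.depth (X.presheaf.stalk x) (X.presheaf.stalk x) := by
        have h1 := Groth.Agent.Lib.helper26.Depth.depth_eq_ringKrullDim_of_isRegularLocalRing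
          (A := X.presheaf.stalk x)
        have h2 := hdim x hxU hxV
        rw [← h1] at h2
        exact WithBot.coe_le_coe.1 h2
      exact (Groth.Agent.Lib.helper26.Depth.reflexive_depth_Sk
        (IsLocalRing.maximalIdeal (X.presheaf.stalk x)) (F.presheaf.stalk x)).2.1 hd
  · rintro ⟨htf, hn⟩
    rw [Groth.Agent.Lib.Lead.RH.isReflexive_iff_forall_isReflexiveAt F hF]
    refine Groth.Agent.Lib.Lead.RH.isReflexiveAt_of_forall_or_depth F hF fun y => ?_
    by_cases hy : (2 : WithBot ℕ∞) ≤ ringKrullDim (X.presheaf.stalk y)
    · exact Or.inr (Groth.Agent.Lib.Lead.RH.depth_ge_two_of_normal F hF hn y hy)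
    · left
      haveI := hreg y
      haveI : IsPrincipalIdealRing (X.presheaf.stalk y) :=
        Groth.Agent.Lib.Lead.RH.isPrincipalIdealRing_of_regular_dim_le_one _
          (Groth.Agent.Lib.Lead.RH.withBot_enat_le_one_of_not_two_le _ hy)
      haveI := Groth.Agent.Lib.helper16.CohStalk.finite_stalk_of_isCoh F hF y
      haveI := htf y
      haveI := Groth.Agent.Lib.Lead.RH.free_of_torsionFree_of_pid (B := X.presheaf.stalk y)
        (F.presheaf.stalk y)
      exact Groth.Agent.Lib.Lead.RH.isReflexiveAt_of_free F y

end Groth.Agent.S16489
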