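import Groth.Statements.S16490
import Groth.Agent.Lib.Lead.RefHull8
import Groth.Agent.Lib.Helper8.StalkExact
import Groth.Agent.Lib.Helper26.FlatCrit1
import Groth.Agent.Lib.Helper26.DepthKer
-- import your own Groth.Agent.* helpers here

set_option autoImplicit false
set_option backward.isDefEq.respectTransparency false
universe u
open CategoryTheory CategoryTheory.Limits AlgebraicGeometry TopologicalSpace
open VBPn

namespace Groth.Agent.S16490

/-- Let X be an integral locally Noetherian scheme all of whose local rings are regular, and let 0 → F →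
E → Q → 0 be a short exact sequence of coherent O_X-modules in which E is reflexive (the canonical
map E → E^** is an isomorphism) and Q is torsion-free (every stalk Q_x is a torsion-free
O_{X,x}-module). Then F is normal: for all open subsets V ⊆ U of X such that every point of U not in
V has local ring of dimension at least 2, the restriction map F(U) → F(V) is bijective. The
published statement is for coherent analytic sheaves on a complex manifold, a sheaf being called
normal when for every open U and every analytic subset A ⊆ U of codimension at least 2 the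
restriction F(U) → F(U ∖ A) is bijective; this row is its statement for coherent sheaves on a
regular integral locally Noetherian scheme, with normality phrased through open subsets V ⊆ U whose
complement in U consists of points with local ring of dimension at least 2, where the same argument
applies. -/
theorem result (X : Scheme.{u}) [IsIntegral X] [IsLocallyNoetherian X]
    (hreg : ∀ x : X, IsRegularLocalRing (X.presheaf.stalk x)) (S : ShortComplex X.Modules) (hS : S.ShortExact)
    (hF : Coh.IsCoh S.X₁) (hE : Coh.IsCoh S.X₂) (hQ : Coh.IsCoh S.X₃)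
    (hErefl : RefHull.IsReflexive S.X₂) (hQtf : TorSh.IsTorsionFree S.X₃) :
    (∀ (U V : X.Opens) (hVU : V ≤ U), (∀ x : X, x ∈ U → x ∉ V → (2 : WithBot ℕ∞) ≤ ringKrullDim (X.presheaf.stalk x)) →
        Function.Bijective (S.X₁.presheaf.map (homOfLE hVU).op)) := by
  intro U V hVU hdim
  refine Groth.Agent.Lib.Lead.RH.bijective_res_pair_of_depth S.X₁ hF hVU fun x hxU hxV => ?_
  haveI := hreg x
  have hst := (Groth.Agent.Lib.Lead.RH.isReflexive_iff_forall_isReflexiveAt S.X₂ hE).1 hErefl x
  haveI : Module.IsReflexive (X.presheaf.stalk x) (S.X₂.presheaf.stalk x) := hst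
  haveI := Groth.Agent.Lib.helper16.CohStalk.finite_stalk_of_isCoh S.X₁ hF x
  haveI := Groth.Agent.Lib.helper16.CohStalk.finite_stalk_of_isCoh S.X₂ hE x
  haveI := Groth.Agent.Lib.helper16.CohStalk.finite_stalk_of_isCoh S.X₃ hQ x
  haveI := hQtf x
  have h2 := hdim x hxU hxV
  have hd : 2 ≤ LocCoh.depth (X.presheaf.stalk x) (X.presheaf.stalk x) := by
    have h1 := Groth.Agent.Lib.helper26.Depth.depth_eq_ringKrullDim_of_isRegularLocalRing
      (A := X.presheaf.stalk x)
    rw [← h1] at h2
    exact WithBot.coe_le_coe.1 h2
  have hE2 := (Groth.Agent.Lib.helper26.Depth.reflexive_depth_Sk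
    (IsLocalRing.maximalIdeal (X.presheaf.stalk x)) (S.X₂.presheaf.stalk x)).2.1 hd
  -- a nonzero element of the maximal ideal
  have hm : IsLocalRing.maximalIdeal (X.presheaf.stalk x) ≠ ⊥ := by
    intro hm
    have hf : IsField (X.presheaf.stalk x) := IsLocalRing.isField_iff_maximalIdeal_eq.mpr hm
    have h0 : ringKrullDim (X.presheaf.stalk x) = 0 := by
      letI := hf.toField
      exact ringKrullDim_eq_zero_of_field _
    rw [h0] at h2
    exact absurd h2 (by decide)
  obtain ⟨a, ham, ha0⟩ := Submodule.exists_mem_ne_zero_of_ne_bot hm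
  have hQ1 : 1 ≤ LocCoh.idealDepth (IsLocalRing.maximalIdeal (X.presheaf.stalk x))
      (S.X₃.presheaf.stalk x) := by
    refine Groth.Agent.Lib.helper26.FlatCrit.one_le_idealDepth_of_forall _ _ fun q hq => ?_
    have hreg' : IsRegular a := IsRegular.of_ne_zero ha0
    have h3 := (Module.IsTorsionFree.isSMulRegular hreg' :
      IsSMulRegular (S.X₃.presheaf.stalk x) a)
    exact h3 (by change a • q = a • 0; rw [hq a ham, smul_zero])
  have hker := Groth.Agent.Lib.helper26.Depth.two_le_idealDepth_ker
    (IsLocalRing.maximalIdeal (X.presheaf.stalk x)) (RefHull.stalkMapₗ S.g x) hE2 hQ1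
  haveI : Mono S.f := hS.mono_f
  have hex : Function.Exact (RefHull.stalkMapₗ S.f x) (RefHull.stalkMapₗ S.g x) :=
    Groth.Agent.Lib.helper8.StalkLen.stalkAdd_exact S.f S.g S.zero hS.exact x
  have hinj : Function.Injective (RefHull.stalkMapₗ S.f x) :=
    Groth.Agent.Lib.helper8.StalkLen.stalkAdd_injective_of_mono S.f x
  let e : S.X₁.presheaf.stalk x ≃ₗ[X.presheaf.stalk x]
      LinearMap.ker (RefHull.stalkMapₗ S.g x) :=
    LinearEquiv.ofBijective
      (LinearMap.codRestrict (LinearMap.ker (RefHull.stalkMapₗ S.g x)) (RefHull.stalkMapₗ S.f x)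
        (fun v => (hex _).2 ⟨v, rfl⟩))
      ⟨fun v w hvw => hinj (congrArg Subtype.val hvw),
        fun ⟨w, hw⟩ => by
          obtain ⟨v, hv⟩ := (hex w).1 hw
          exact ⟨v, Subtype.ext hv⟩⟩
  change 2 ≤ LocCoh.idealDepth (IsLocalRing.maximalIdeal (X.presheaf.stalk x))
    (S.X₁.presheaf.stalk x)
  rw [Groth.Agent.Lib.helper26.Depth.idealDepth_congr (I := IsLocalRing.maximalIdeal (X.presheaf.stalk x)) e]
  exact hker

end Groth.Agent.S16490
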