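import Groth.Statements.S1689
import Mathlib
import Groth.Agent.Lib.Lead.VBCurve2
import Groth.Agent.Lib.Lead.VBCurve4
import Groth.Agent.Lib.Helper21.ReflexiveFree
-- import your own Groth.Agent.* helpers here

set_option autoImplicit false
universe u
open CategoryTheory CategoryTheory.Limits AlgebraicGeometry TopologicalSpace
open SDiv

namespace Groth.Agent.S1689

/-- Let X be a locally Noetherian scheme of dimension at most 2 all of whose local rings are regular,
and F a coherent module on X. Then F is reflexive (every stalk is a reflexive module over the local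
ring) if and only if F is finite locally free. -/
theorem result (X : Scheme.{u}) [IsLocallyNoetherian X]
    (hreg : ∀ x : ↥X, IsRegularLocalRing (X.presheaf.stalk x)) (hdim : topologicalKrullDim ↥X ≤ 2) (F : X.Modules)
    (hF : Coh.IsCoh F) : (∀ x : ↥X, Module.IsReflexive (X.presheaf.stalk x) (F.presheaf.stalk x)) ↔ FlatMod.IsFinLocFree F := by
  haveI : F.IsQuasicoherent := hF.1
  constructor
  · intro href
    rw [← Groth.Agent.Lib.helper16.FLF.isFinLocFree_iff_fp_free_stalks]
    refine ⟨Groth.Agent.Lib.helper16.CohFinite.isFinitePresentation_of_isCoh F hF, fun x => ?_⟩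
    haveI := hreg x
    haveI := Groth.Agent.Lib.helper16.FLF.finite_stalk_of_isFiniteType F hF.2 x
    haveI := href x
    exact Groth.Agent.Lib.helper21.ReflexiveFree.free_of_isReflexive_of_dim_le_two _
      ((Groth.Agent.Lib.Lead.VBCurve.ringKrullDim_stalk_le X x).trans hdim) _
  · intro hM x
    haveI := (Groth.Agent.Lib.helper16.FLF.free_stalk_of_isFinLocFree F hM x).1
    haveI := Groth.Agent.Lib.helper16.FLF.finite_stalk_of_isFiniteType F hF.2 x
    infer_instance

end Groth.Agent.S1689
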