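import Groth.Statements.S13791
import Mathlib
-- import your own Groth.Agent.* helpers here

set_option autoImplicit false
universe u
open CategoryTheory
open CohSite

namespace Groth.Agent.S13791

section Aux
open CategoryTheory CategoryTheory.Limits CategoryTheory.Abelian
namespace S13791aux

variable {C : Type u} [SmallCategory C] (J : GrothendieckTopology C)

/-- the map of underlying sheaves of sets of constant sheaves induced by a function -/
noncomputable def setMap {A B : AddCommGrpCat.{u}} (σ : A → B) :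
    (sheafCompose J (forget AddCommGrpCat.{u})).obj ((constantSheaf J AddCommGrpCat.{u}).obj A) ⟶
      (sheafCompose J (forget AddCommGrpCat.{u})).obj ((constantSheaf J AddCommGrpCat.{u}).obj B) :=
  (constantCommuteCompose J (forget AddCommGrpCat.{u})).hom.app A ≫
    (constantSheaf J (Type u)).map (TypeCat.ofHom σ) ≫
      (constantCommuteCompose J (forget AddCommGrpCat.{u})).inv.app B

lemma setMap_comp {A B : AddCommGrpCat.{u}} (σ : A → B) (g : B ⟶ A) (h : ∀ a, g (σ a) = a) :
    setMap J σ ≫ (sheafCompose J (forget AddCommGrpCat.{u})).map ((constantSheaf J AddCommGrpCat.{u}).map g) =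
      𝟙 _ := by
  have nat := (constantCommuteCompose J (forget AddCommGrpCat.{u})).inv.naturality g
  dsimp only [Functor.comp_map] at nat
  unfold setMap
  rw [Category.assoc, Category.assoc, ← nat, ← Functor.map_comp_assoc]
  have : TypeCat.ofHom σ ≫ (forget AddCommGrpCat.{u}).map g = 𝟙 _ := by
    ext a
    exact h a
  rw [this]
  simp

/-- the function on sections -/
noncomputable def tau {A B : AddCommGrpCat.{u}} (σ : A → B) (U : Cᵒᵖ) :
    ((constantSheaf J AddCommGrpCat.{u}).obj A).obj.obj U → ((constantSheaf J AddCommGrpCat.{u}).obj B).obj.obj U :=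
  ((setMap J σ).hom.app U : _ ⟶ _)

lemma tau_nat {A B : AddCommGrpCat.{u}} (σ : A → B) {U V : Cᵒᵖ} (h : U ⟶ V)
    (s : ((constantSheaf J AddCommGrpCat.{u}).obj A).obj.obj U) :
    ((constantSheaf J AddCommGrpCat.{u}).obj B).obj.map h (tau J σ U s) =
      tau J σ V (((constantSheaf J AddCommGrpCat.{u}).obj A).obj.map h s) := by
  have := ConcreteCategory.congr_hom ((setMap J σ).hom.naturality h) s
  exact this.symm

lemma tau_comp {A B : AddCommGrpCat.{u}} (σ : A → B) (g : B ⟶ A) (h : ∀ a, g (σ a) = a) (U : Cᵒᵖ)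
    (s : ((constantSheaf J AddCommGrpCat.{u}).obj A).obj.obj U) :
    ((constantSheaf J AddCommGrpCat.{u}).map g).hom.app U (tau J σ U s) = s := by
  have := congrArg (fun t => t.hom.app U) (setMap_comp J σ g h)
  exact ConcreteCategory.congr_hom this s

/-- additive map out of `ULift ℤ` determined by the image of one -/
noncomputable def ofOne {M : AddCommGrpCat.{u}} (m : M) : AddCommGrpCat.of (ULift.{u} ℤ) ⟶ M :=
  AddCommGrpCat.ofHom (((zmultiplesHom M) m).comp AddEquiv.ulift.toAddMonoidHom)

lemma ofOne_one {M : AddCommGrpCat.{u}} (m : M) : ofOne m (ULift.up 1) = m := by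
  simp only [ofOne, AddCommGrpCat.hom_ofHom, AddMonoidHom.coe_comp, Function.comp_apply]
  show (zmultiplesHom M) m (1 : ℤ) = m
  simp

lemma hom_ext_ulift {M : AddCommGrpCat.{u}} {a b : AddCommGrpCat.of (ULift.{u} ℤ) ⟶ M}
    (h : a (ULift.up 1) = b (ULift.up 1)) : a = b := by
  ext ⟨n⟩
  have h1 : (ULift.up n : ULift.{u} ℤ) = n • (ULift.up 1) := by
    ext; simp
  rw [h1, map_zsmul, map_zsmul, h]

/-- lift of a presheaf map from the constant presheaf `ℤ` -/
noncomputable def liftPsi {A B : AddCommGrpCat.{u}} (σ : A → B)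
    (ψ : (Functor.const Cᵒᵖ).obj (AddCommGrpCat.of (ULift.{u} ℤ)) ⟶
      ((constantSheaf J AddCommGrpCat.{u}).obj A).obj) :
    (Functor.const Cᵒᵖ).obj (AddCommGrpCat.of (ULift.{u} ℤ)) ⟶
      ((constantSheaf J AddCommGrpCat.{u}).obj B).obj where
  app U := ofOne (tau J σ U (ψ.app U (ULift.up 1)))
  naturality U V h := by
    apply hom_ext_ulift
    have h1 := ConcreteCategory.congr_hom (ψ.naturality h) (ULift.up 1)
    simp only [Functor.const_obj_obj, Functor.const_obj_map, Category.id_comp] at h1 ⊢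
    rw [ofOne_one]
    erw [ConcreteCategory.comp_apply]
    rw [ofOne_one, tau_nat]
    congr 1

lemma liftPsi_comp {A B : AddCommGrpCat.{u}} (σ : A → B) (g : B ⟶ A) (h : ∀ a, g (σ a) = a)
    (ψ : (Functor.const Cᵒᵖ).obj (AddCommGrpCat.of (ULift.{u} ℤ)) ⟶
      ((constantSheaf J AddCommGrpCat.{u}).obj A).obj) :
    liftPsi J σ ψ ≫ ((constantSheaf J AddCommGrpCat.{u}).map g).hom = ψ := by
  refine NatTrans.ext (funext fun U => ?_)
  apply hom_ext_ulift
  rw [NatTrans.comp_app]
  erw [ConcreteCategory.comp_apply]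
  show ((constantSheaf J AddCommGrpCat.{u}).map g).hom.app U (ofOne _ _) = _
  rw [ofOne_one, tau_comp J σ g h]

lemma exists_lift {A B : AddCommGrpCat.{u}} (σ : A → B) (g : B ⟶ A) (h : ∀ a, g (σ a) = a)
    (φ : (constantSheaf J AddCommGrpCat.{u}).obj (AddCommGrpCat.of (ULift.{u} ℤ)) ⟶
      (constantSheaf J AddCommGrpCat.{u}).obj A) :
    ∃ φ' : (constantSheaf J AddCommGrpCat.{u}).obj (AddCommGrpCat.of (ULift.{u} ℤ)) ⟶
      (constantSheaf J AddCommGrpCat.{u}).obj B, φ' ≫ (constantSheaf J AddCommGrpCat.{u}).map g = φ := by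
  let ψ : (Functor.const Cᵒᵖ).obj (AddCommGrpCat.of (ULift.{u} ℤ)) ⟶
      ((constantSheaf J AddCommGrpCat.{u}).obj A).obj :=
    toSheafify J _ ≫ φ.hom
  refine ⟨ObjectProperty.homMk (sheafifyLift J (liftPsi J σ ψ)
    ((constantSheaf J AddCommGrpCat.{u}).obj B).property), ?_⟩
  apply Sheaf.hom_ext
  apply sheafify_hom_ext _ _ _ ((constantSheaf J AddCommGrpCat.{u}).obj A).property
  rw [ObjectProperty.FullSubcategory.comp_hom]
  erw [← Category.assoc]
  erw [toSheafify_sheafifyLift]
  exact liftPsi_comp J σ g h ψ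

instance : PreservesFiniteLimits (constantSheaf J AddCommGrpCat.{u}) :=
  inferInstanceAs (PreservesFiniteLimits (Functor.const Cᵒᵖ ⋙ presheafToSheaf J AddCommGrpCat.{u}))

instance : PreservesFiniteColimits (constantSheaf J AddCommGrpCat.{u}) :=
  inferInstanceAs (PreservesFiniteColimits (Functor.const Cᵒᵖ ⋙ presheafToSheaf J AddCommGrpCat.{u}))

theorem main {A B : AddCommGrpCat.{u}} (f : A ⟶ B) [Mono f] :
    Function.Injective (Sheaf.H.map ((constantSheaf J AddCommGrpCat.{u}).map f) 1) := by
  rw [injective_iff_map_eq_zero]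
  intro x hx
  rw [Sheaf.H.map_apply] at hx
  let S : ShortComplex AddCommGrpCat.{u} := ShortComplex.mk f (cokernel.π f) (cokernel.condition f)
  have hS : S.ShortExact :=
    { exact := ShortComplex.exact_cokernel f
      mono_f := (inferInstance : Mono f)
      epi_g := (inferInstance : Epi (cokernel.π f)) }
  have hS' := hS.map_of_exact (constantSheaf J AddCommGrpCat.{u})
  obtain ⟨x₃, hx₃⟩ := Ext.covariant_sequence_exact₁ _ hS' x hx (zero_add 1)
  obtain ⟨φ, rfl⟩ := (Ext.mk₀_bijective _ _).2 x₃
  have hsurj : Function.Surjective (cokernel.π f) :=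
    (AddCommGrpCat.epi_iff_surjective _).1 inferInstance
  obtain ⟨φ', hφ'⟩ : ∃ φ' : (constantSheaf J AddCommGrpCat.{u}).obj (AddCommGrpCat.of (ULift.{u} ℤ)) ⟶
      (S.map (constantSheaf J AddCommGrpCat.{u})).X₂,
      φ' ≫ (S.map (constantSheaf J AddCommGrpCat.{u})).g = φ :=
    exists_lift J (Function.surjInv hsurj) (cokernel.π f) (Function.surjInv_eq hsurj) φ
  rw [← hx₃, ← hφ', ← Ext.mk₀_comp_mk₀, Ext.comp_assoc_of_second_deg_zero, hS'.comp_extClass,
    Ext.comp_zero]
  rfl

end S13791aux
end Aux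


/-- On a site, for a short exact sequence 0 → A → B → C → 0 of abelian groups the map H¹(A) → H¹(B) on
the first cohomology of the associated constant sheaves is injective. Stated for an injective
homomorphism f : A → B (C being its cokernel), with H¹ the Ext-based sheaf cohomology of the site. -/
theorem result {C : Type u} [SmallCategory C] (J : GrothendieckTopology C)
    {A B : Type u} [AddCommGroup A] [AddCommGroup B] (f : A →+ B) (hf : Function.Injective f) :
    Function.Injective
      (Sheaf.H.map ((constantSheaf J AddCommGrpCat.{u}).map (AddCommGrpCat.ofHom f)) 1) := by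
  have : Mono (AddCommGrpCat.ofHom f) := (AddCommGrpCat.mono_iff_injective _).2 hf
  exact S13791aux.main J (AddCommGrpCat.ofHom f)

end Groth.Agent.S13791
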