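import Groth.Statements.S9714
import Mathlib

set_option autoImplicit false
universe u
open CategoryTheory CategoryTheory.Limits AlgebraicGeometry
open Mor

namespace Groth.Agent.S9714

section Helpers
variable (k : Type u) [Field k] {X : Scheme.{u}} (f : X ⟶ Spec (CommRingCat.of k))

lemma exists_ringHom [FormallyUnramified f] [LocallyOfFiniteType f] {U : X.Opens}
    (hU : IsAffineOpen U) :
    ∃ φ : CommRingCat.of k ⟶ Γ(X, U), Spec.map φ = hU.fromSpec ≫ f ∧
      φ.hom.FormallyUnramified ∧ φ.hom.FiniteType := by
  let g := hU.fromSpec ≫ f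
  refine ⟨Spec.preimage g, Spec.map_preimage g, ?_, ?_⟩
  · have : FormallyUnramified (Spec.map (Spec.preimage g)) := by
      rw [Spec.map_preimage]
      exact MorphismProperty.comp_mem @FormallyUnramified _ _ inferInstance inferInstance
    exact (HasRingHomProperty.Spec_iff (P := @FormallyUnramified)).1 this
  · have : LocallyOfFiniteType (Spec.map (Spec.preimage g)) := by
      rw [Spec.map_preimage]; infer_instance
    exact (HasRingHomProperty.Spec_iff (P := @LocallyOfFiniteType)).1 this

/-- ring-level facts -/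
lemma ring_facts {A : Type u} [CommRing A] (φ : k →+* A) (h1 : φ.FormallyUnramified)
    (h2 : φ.FiniteType) : IsArtinianRing A ∧ IsReduced A ∧
      (letI := φ.toAlgebra; Module.Finite k A) := by
  algebraize [φ]
  have := Algebra.FormallyUnramified.finite_of_free k A
  exact ⟨IsArtinianRing.of_finite k A, Algebra.FormallyUnramified.isReduced_of_field k A, this⟩

lemma isLocallyArtinian [FormallyUnramified f] [LocallyOfFiniteType f] : IsLocallyArtinian X := by
  constructor
  intro U
  obtain ⟨φ, -, h1, h2⟩ := exists_ringHom k f U.2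
  exact (ring_facts k φ.hom h1 h2).1



variable (k : Type u) [Field k]

lemma exists_field {A : Type u} [CommRing A] (φ : k →+* A) (h1 : φ.FormallyUnramified)
    (h2 : φ.FiniteType) (hA : Subsingleton (PrimeSpectrum A)) [Nontrivial A] :
    ∃ (K : Type u) (_ : Field K) (_ : Algebra k K) (e : A ≃+* K),
      (∀ a, e (φ a) = algebraMap k K a) ∧ FiniteDimensional k K ∧ Algebra.IsSeparable k K := by
  algebraize [φ]
  have hfin := Algebra.FormallyUnramified.finite_of_free k A
  have hred := Algebra.FormallyUnramified.isReduced_of_field k A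
  have hfield : IsField A := PrimeSpectrum.subsingleton_iff_isField_of_isReduced.1 hA
  let F : Field A := hfield.toField
  refine ⟨A, F, inferInstance, RingEquiv.refl A, fun a => rfl, hfin, ?_⟩
  exact (Algebra.FormallyUnramified.iff_isSeparable k A).1 inferInstance



variable (k : Type u) [Field k] {X : Scheme.{u}} (f : X ⟶ Spec (CommRingCat.of k))

theorem forward [FormallyUnramified f] [LocallyOfFiniteType f] :
    ∃ (ι : Type u) (K : ι → Type u) (_ : ∀ i, Field (K i)) (_ : ∀ i, Algebra k (K i)),
        (∀ i, FiniteDimensional k (K i) ∧ Algebra.IsSeparable k (K i)) ∧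
        ∃ e : X ≅ ∐ (fun i => Spec (CommRingCat.of (K i))),
          e.hom ≫ Sigma.desc (fun i => Spec.map (CommRingCat.ofHom (algebraMap k (K i)))) = f := by
  have := isLocallyArtinian k f
  have : DiscreteTopology X := inferInstance
  let V : X → X.Opens := fun x => ⟨{x}, isOpen_discrete _⟩
  have hV : ∀ x, IsAffineOpen (V x) := fun x => .of_subsingleton Set.subsingleton_singleton
  choose φ hφ1 hφ2 hφ3 using fun x => exists_ringHom k f (hV x)
  have hsub : ∀ x, Subsingleton (PrimeSpectrum Γ(X, V x)) := by
    intro x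
    have h1 : Subsingleton (V x) := by
      constructor
      rintro ⟨a, ha⟩ ⟨b, hb⟩
      have ha' : a = x := ha
      have hb' : b = x := hb
      subst ha' hb'
      rfl
    exact (hV x).isoSpec.inv.homeomorph.injective.subsingleton
  have hnt : ∀ x, Nontrivial Γ(X, V x) := by
    intro x
    exact ((hV x).isoSpec.hom ⟨x, rfl⟩ : PrimeSpectrum Γ(X, V x)).nontrivial
  choose K hK1 hK2 e he hfd hsep using fun x =>
    @exists_field k _ _ _ (φ x).hom (hφ2 x) (hφ3 x) (hsub x) (hnt x)
  refine ⟨X, K, hK1, hK2, fun x => ⟨hfd x, hsep x⟩, ?_⟩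
  let ψ : ∀ x, Γ(X, V x) ⟶ CommRingCat.of (K x) := fun x => CommRingCat.ofHom (e x).toRingHom
  have hψ : ∀ x, IsIso (ψ x) := fun x => (e x).toCommRingCatIso.isIso_hom
  let j : ∀ x, Spec (CommRingCat.of (K x)) ⟶ X := fun x => Spec.map (ψ x) ≫ (hV x).fromSpec
  have hj : ∀ x, IsOpenImmersion (j x) := fun x => inferInstance
  have hrange : ∀ x, (j x).opensRange = V x := by
    intro x
    rw [Scheme.Hom.opensRange_comp_of_isIso, (hV x).opensRange_fromSpec]
  have hcov : ⨆ x, (j x).opensRange = ⊤ := by
    rw [eq_top_iff]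
    intro x _
    rw [TopologicalSpace.Opens.mem_iSup]
    exact ⟨x, by rw [hrange]; rfl⟩
  have hdisj : Pairwise (Function.onFun Disjoint (fun x => (j x).opensRange)) := by
    intro x y hxy
    show Disjoint (j x).opensRange (j y).opensRange
    rw [hrange, hrange, ← TopologicalSpace.Opens.coe_disjoint]
    show Disjoint ({x} : Set X) {y}
    simpa using hxy
  obtain ⟨hc⟩ := nonempty_isColimit_cofanMk_of j hcov hdisj
  let ee : X ≅ ∐ (fun x => Spec (CommRingCat.of (K x))) :=
    hc.coconePointUniqueUpToIso (colimit.isColimit _)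
  refine ⟨ee, ?_⟩
  apply hc.hom_ext
  rintro ⟨x⟩
  have h1 : j x ≫ ee.hom = Sigma.ι (fun x => Spec (CommRingCat.of (K x))) x :=
    hc.comp_coconePointUniqueUpToIso_hom (colimit.isColimit _) ⟨x⟩
  show j x ≫ ee.hom ≫ _ = j x ≫ f
  rw [reassoc_of% h1, Sigma.ι_desc]
  have h2 : CommRingCat.ofHom (algebraMap k (K x)) = φ x ≫ ψ x := by
    ext a
    exact (he x a).symm
  rw [h2, Spec.map_comp, hφ1 x]
  rfl



variable (k : Type u) [Field k] {X : Scheme.{u}} (f : X ⟶ Spec (CommRingCat.of k))

theorem backward (ι : Type u) (K : ι → Type u) [∀ i, Field (K i)] [∀ i, Algebra k (K i)]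
    (hK : ∀ i, FiniteDimensional k (K i) ∧ Algebra.IsSeparable k (K i))
    (e : X ≅ ∐ (fun i => Spec (CommRingCat.of (K i))))
    (he : e.hom ≫ Sigma.desc (fun i => Spec.map (CommRingCat.ofHom (algebraMap k (K i)))) = f) :
    FormallyUnramified f ∧ LocallyOfFiniteType f := by
  rw [← he]
  constructor
  · refine MorphismProperty.comp_mem @FormallyUnramified _ _ inferInstance ?_
    refine IsZariskiLocalAtSource.sigmaDesc (P := @FormallyUnramified) (fun i => ?_)
    rw [HasRingHomProperty.Spec_iff (P := @FormallyUnramified)]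
    have := (hK i).2
    show (algebraMap k (K i)).FormallyUnramified
    rw [RingHom.formallyUnramified_algebraMap]
    exact Algebra.FormallyUnramified.of_isSeparable k (K i)
  · refine MorphismProperty.comp_mem @LocallyOfFiniteType _ _ inferInstance ?_
    refine IsZariskiLocalAtSource.sigmaDesc (P := @LocallyOfFiniteType) (fun i => ?_)
    rw [HasRingHomProperty.Spec_iff (P := @LocallyOfFiniteType)]
    have := (hK i).1
    show (algebraMap k (K i)).FiniteType
    rw [RingHom.finiteType_algebraMap]
    infer_instance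

end Helpers

/-- Let k be a field and X a scheme over k. The structure morphism X ⟶ Spec k is unramified (formally
unramified and locally of finite type) if and only if X is isomorphic over k to a disjoint union of
spectra of finite separable field extensions of k. -/
theorem result (k : Type u) [Field k] {X : Scheme.{u}}
    (f : X ⟶ Spec (CommRingCat.of k)) :
    (FormallyUnramified f ∧ LocallyOfFiniteType f) ↔
      ∃ (ι : Type u) (K : ι → Type u) (_ : ∀ i, Field (K i)) (_ : ∀ i, Algebra k (K i)),
        (∀ i, FiniteDimensional k (K i) ∧ Algebra.IsSeparable k (K i)) ∧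
        ∃ e : X ≅ ∐ (fun i => Spec (CommRingCat.of (K i))),
          e.hom ≫ Sigma.desc (fun i => Spec.map (CommRingCat.ofHom (algebraMap k (K i)))) = f := by
  constructor
  · rintro ⟨h1, h2⟩
    exact forward k f
  · rintro ⟨ι, K, hK1, hK2, hK, e, he⟩
    exact backward k f ι K hK e he

end Groth.Agent.S9714
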