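import Groth.Statements.S0658
import Mathlib
import Groth.Agent.S9714

set_option autoImplicit false
open CategoryTheory CategoryTheory.Limits AlgebraicGeometry Opposite
universe u
open EtCore

namespace Groth.Agent.S0658

/-- Let k be a field and φ : U → Spec k a morphism of schemes. Then φ is étale if and only if U is
isomorphic over k to a disjoint union ∐ Spec K_i with each K_i a finite separable field extension of
k. -/
theorem result (k : Type u) [Field k] (U : Scheme.{u}) (φ : U ⟶ Spec (CommRingCat.of k)) :
    AlgebraicGeometry.Etale φ ↔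
      ∃ (ι : Type u) (K : ι → Type u) (_ : ∀ i, Field (K i)) (_ : ∀ i, Algebra k (K i))
        (_ : ∀ i, FiniteDimensional k (K i)) (_ : ∀ i, Algebra.IsSeparable k (K i))
        (e : (∐ fun i => Spec (CommRingCat.of (K i))) ≅ U),
        ∀ i, Sigma.ι (fun i => Spec (CommRingCat.of (K i))) i ≫ e.hom ≫ φ =
          Spec.map (CommRingCat.ofHom (algebraMap k (K i))) := by
  constructor
  · intro h
    obtain ⟨ι, K, hK1, hK2, hK, e, he⟩ := Groth.Agent.S9714.forward k φ
    refine ⟨ι, K, hK1, hK2, fun i => (hK i).1, fun i => (hK i).2, e.symm, fun i => ?_⟩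
    show Sigma.ι _ i ≫ e.inv ≫ φ = _
    rw [← he, Iso.inv_hom_id_assoc, Sigma.ι_desc]
  · rintro ⟨ι, K, hK1, hK2, hfd, hsep, e, he⟩
    have h1 : e.hom ≫ φ = Sigma.desc (fun i => Spec.map (CommRingCat.ofHom (algebraMap k (K i)))) := by
      apply Sigma.hom_ext
      intro i
      rw [he i, Sigma.ι_desc]
    have h2 : φ = e.inv ≫ Sigma.desc (fun i => Spec.map (CommRingCat.ofHom (algebraMap k (K i)))) := by
      rw [← h1, Iso.inv_hom_id_assoc]
    rw [h2]
    refine MorphismProperty.comp_mem @Etale _ _ inferInstance ?_
    refine IsZariskiLocalAtSource.sigmaDesc (P := @Etale) (fun i => ?_)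
    rw [HasRingHomProperty.Spec_iff (P := @Etale)]
    show (algebraMap k (K i)).Etale
    rw [RingHom.etale_algebraMap]
    have := hfd i
    have := hsep i
    have : Algebra.FormallyEtale k (K i) := Algebra.FormallyEtale.of_isSeparable k (K i)
    exact ⟨this, Algebra.FinitePresentation.of_finiteType.mp inferInstance⟩

end Groth.Agent.S0658
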