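import Groth.Statements.S12879
import Mathlib
import Groth.Agent.Lib.Helper21.ExtZShSS
import Groth.Agent.Lib.Helper21.HZshQCoh
import Groth.Agent.Lib.Helper21.ExtShQCoh
import Groth.Agent.Lib.Helper21.SSWeakSerre
import Groth.Agent.Lib.Helper7.QCohExt
-- import your own Groth.Agent.* helpers here

set_option autoImplicit false
universe u
open CategoryTheory CategoryTheory.Limits TopologicalSpace AlgebraicGeometry
open Coherent

namespace Groth.Agent.S12879

open Groth.Agent.Lib.helper21.SSWeakSerre in
/-- quasi-coherent modules form a weak Serre class -/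
theorem weakSerre_isQC (X : Scheme.{u}) :
    WeakSerre (fun M : X.Modules => M.IsQuasicoherent) where
  iso e h := Groth.Agent.Lib.helper21.ExtShQCoh.isQC_of_iso e h
  zero Z hZ := Groth.Agent.Lib.helper7.CohKer.isQuasicoherent_of_isZero hZ
  ker f hA hB := by
    haveI := hA
    haveI := hB
    exact Groth.Agent.Lib.helper7.CohKer.isQuasicoherent_kernel f
  coker f hA hB := by
    haveI := hA
    haveI := hB
    exact Groth.Agent.Lib.helper7.CohKer.isQuasicoherent_cokernel f
  ext S hS h1 h3 := by
    haveI := h1
    haveI := h3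
    exact Groth.Agent.Lib.helper7.QCohExt.isQuasicoherent_of_extension S hS

open ZeroObject in
theorem isQC_extZSh (X : Scheme.{u}) [IsLocallyNoetherian X] (U : X.Opens)
    (F G : X.Modules) (hF : Coh.IsCoh F) (hG : G.IsQuasicoherent)
    [ModSite.HasSheafHom (O := X.sheaf) F] [HasInjectiveResolutions (ModSite.Mod X.sheaf)] (i : ℕ) :
    ((ModSite.extZSh (O := X.sheaf) U F i).obj G).IsQuasicoherent := by
  classical
  haveI : QuasiCompact U.ι := inferInstance
  obtain ⟨E, a, hfin, -, hE⟩ := Groth.Agent.Lib.helper21.ExtZShSS.exists_ss X.sheaf U F G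
    (0 : X.Modules) (0 : X.Modules) (isZero_zero _) (isZero_zero _)
  have hP := weakSerre_isQC X
  have h := Groth.Agent.Lib.helper21.SSWeakSerre.prop_abutment hP E a (i : ℤ) (hfin _) ?_
  · simpa using h
  · rintro ⟨p, q⟩
    obtain ⟨e⟩ := hE p q
    refine hP.iso e.symm ?_
    split_ifs with hpq
    · haveI : G.IsQuasicoherent := hG
      have h1 := Groth.Agent.Lib.helper21.HZshQCoh.isQuasicoherent_HZsh U G q.toNat
      exact Groth.Agent.Lib.helper21.ExtShQCoh.isQC_T p.toNat X F _ hF h1
    · exact Groth.Agent.Lib.helper7.CohKer.isQuasicoherent_of_isZero (isZero_zero _)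

/-- Let X be a locally Noetherian scheme, Z a closed subset with open complement U, F a coherent
O_X-module and G a quasi-coherent O_X-module. Then for every i the local Ext sheaf with supports
ℰxt^i_Z(F, G), the i-th right derived functor of N ↦ Γ_Z(ℋom(F, N)) on O_X-modules evaluated at G,
is quasi-coherent. (The published statement allows Z locally closed; this row takes Z closed. The
internal Hom functor of F and injective resolutions of O_X-modules are the stated instance
hypotheses, both true.) -/
theorem result (X : Scheme.{u}) [IsLocallyNoetherian X] (U : X.Opens)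
    (F G : X.Modules) (hF : Coh.IsCoh F) (hG : Coh.IsQCoh G)
    [ModSite.HasSheafHom (O := X.sheaf) F] [HasInjectiveResolutions (ModSite.Mod X.sheaf)] (i : ℕ) :
    Coh.IsQCoh ((ModSite.extZSh (O := X.sheaf) U F i).obj G) :=
  isQC_extZSh X U F G hF hG i

end Groth.Agent.S12879
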