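import Groth.Statements.S12880
import Mathlib
import Groth.Agent.Lib.Helper21.ExtZShSupp
import Groth.Agent.Lib.Helper21.ShHomCoh3
-- import your own Groth.Agent.* helpers here

set_option autoImplicit false
universe u
open CategoryTheory CategoryTheory.Limits TopologicalSpace AlgebraicGeometry
open Coherent

namespace Groth.Agent.S12880

/-- Let X be a locally Noetherian scheme, Y a closed subset with open complement U, and F, G coherent
O_X-modules such that the support of F is contained in Y (no point of U has a non-zero stalk of F).
Then for every i the local Ext sheaf with supports ℰxt^i_Y(F, G) is coherent. (Internal Hom of F and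
injective resolutions of O_X-modules are the stated instance hypotheses, both true.) -/
theorem isNullOn_of_support (X : Scheme.{u}) (U : X.Opens) (F : X.Modules)
    (hsupp : ∀ x ∈ CohB1.support F, x ∉ (U : Set X)) :
    ModSite.IsNullOn X.sheaf U F := by
  apply Groth.Agent.Lib.helper21.LocZero.isZero_of_sections
  intro Y x
  have hY : Y.unop.left ≤ U := leOfHom Y.unop.hom
  refine TopCat.Presheaf.section_ext ⟨F.presheaf, F.isSheaf⟩ Y.unop.left x 0 (fun y hy => ?_)
  have : Subsingleton (F.presheaf.stalk y) := by
    by_contra h
    exact hsupp y h (hY hy)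
  exact Subsingleton.elim _ _

theorem result (X : Scheme.{u}) [IsLocallyNoetherian X] (U : X.Opens)
    (F G : X.Modules) (hF : Coh.IsCoh F) (hG : Coh.IsCoh G)
    (hsupp : ∀ x ∈ CohB1.support F, x ∉ (U : Set X))
    [ModSite.HasSheafHom (O := X.sheaf) F] [HasInjectiveResolutions (ModSite.Mod X.sheaf)] (i : ℕ) :
    Coh.IsCoh ((ModSite.extZSh (O := X.sheaf) U F i).obj G) := by
  haveI := Groth.Agent.Lib.helper21.ExtShDelta.hasSheafHom X.sheaf ((ModSite.quotOn X.sheaf U).obj F)
  have e := (Groth.Agent.Lib.helper21.ExtZShSupp.extZShIsoOfNull X.sheaf U F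
    (isNullOn_of_support X U F hsupp) i).app G
  have h := Groth.Agent.Lib.helper21.ShHomCoh.isCoh_T i X F G hF hG
  exact Groth.Agent.Lib.helper21.ShHomCoh.isCoh_of_iso' e.symm h

end Groth.Agent.S12880
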