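import Groth.Statements.S0647
import Groth.Agent.Lib.Helper1.ExtZeroStalk

set_option autoImplicit false
open CategoryTheory CategoryTheory.Limits AlgebraicGeometry Opposite
universe u
open EtCore

namespace Groth.Agent.S0647

open Groth.Agent.H1.EtStalk Groth.Agent.H1.EtGerm Groth.Agent.H1.ExtZeroStalk GrothendieckTopology

variable {U X : Scheme.{u}} {j : U ⟶ X} [AlgebraicGeometry.Etale j] [EtShriek.JCont j]
  {Ω : Type u} [Field Ω] [IsSepClosed Ω] {ξ : Spec (CommRingCat.of Ω) ⟶ X}

theorem R1map_π {M N : AddCommGrpCat.{u + 1}} (g : M ⟶ N) (V : U.Etale)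
    (y : Lift ξ ((EtShriek.compEtale j).obj V)) :
    (((Scheme.pointSmallEtale ξ).skyscraperSheafFunctor ⋙ EtShriek.restrAlong j).map g).hom.app
      (op V) ≫ R1π N V y = R1π M V y ≫ g :=
  Pi.map_π (fun _ : Lift ξ ((EtShriek.compEtale j).obj V) => g) y

theorem glue_naturality_right {F : EtCoh.Ab U} {M N : AddCommGrpCat.{u + 1}}
    (d : ∀ ζ : Idx j ξ, (EtCoh.stalk ζ.1).obj F ⟶ M) (g : M ⟶ N) :
    glue (fun ζ => d ζ ≫ g) =
      glue d ≫ ((Scheme.pointSmallEtale ξ).skyscraperSheafFunctor ⋙ EtShriek.restrAlong j).map g := by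
  apply Sheaf.hom_ext
  ext V : 2
  induction V using Opposite.rec with | _ V => ?_
  apply R1_hom_ext
  intro y
  rw [glue_app, glueApp_π, comp_hom_app, Category.assoc, R1map_π, glue_app,
    ← Category.assoc (glueApp d V), glueApp_π, Category.assoc]

theorem main {U X : Scheme.{u}} (j : U ⟶ X) [AlgebraicGeometry.Etale j] [EtShriek.JCont j]
    (F : EtCoh.Ab U) {Ω : Type u} [Field Ω] [IsSepClosed Ω] (ξ : Spec (CommRingCat.of Ω) ⟶ X) :
    Nonempty ((EtCoh.stalk ξ).obj ((EtShriek.extZero j).obj F) ≅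
      ∐ fun u : {u : Spec (CommRingCat.of Ω) ⟶ U // u ≫ j = ξ} => (EtCoh.stalk u.1).obj F) := by
  refine ⟨Coyoneda.ext _ _
    (fun {Z} f => Sigma.desc (unglue ((adj1 j ξ).homEquiv F Z f)))
    (fun {Z} g => ((adj1 j ξ).homEquiv F Z).symm (glue (fun ζ => Sigma.ι (fun u : Idx j ξ => (EtCoh.stalk u.1).obj F) ζ ≫ g))) ?_ ?_ ?_⟩
  · intro Z f
    have : (fun ζ : Idx j ξ => Sigma.ι (fun u : Idx j ξ => (EtCoh.stalk u.1).obj F) ζ ≫
        Sigma.desc (unglue ((adj1 j ξ).homEquiv F Z f))) = unglue ((adj1 j ξ).homEquiv F Z f) := by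
      funext ζ
      exact Sigma.ι_desc _ _
    rw [this, glue_unglue, Equiv.symm_apply_apply]
  · intro Z g
    rw [Equiv.apply_symm_apply, unglue_glue]
    apply Sigma.hom_ext
    intro ζ
    exact Sigma.ι_desc _ _
  · intro Z Z' f g
    have : (fun ζ : Idx j ξ => Sigma.ι (fun u : Idx j ξ => (EtCoh.stalk u.1).obj F) ζ ≫ f ≫ g) =
        fun ζ => (Sigma.ι (fun u : Idx j ξ => (EtCoh.stalk u.1).obj F) ζ ≫ f) ≫ g := by
      funext ζ
      rw [Category.assoc]
    rw [this, glue_naturality_right, Adjunction.homEquiv_naturality_right_symm]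

/-- Stalks of the extension by zero: let j : U → X be an étale morphism of schemes, F an abelian sheaf
on the small étale site of U and ξ : Spec Ω → X a geometric point (Ω separably closed). Then the
stalk of the extension by zero j_!F at ξ is isomorphic to the direct sum, over the geometric points
u : Spec Ω → U with j ∘ u = ξ, of the stalks F_u. Only the existence of an isomorphism is asserted
(the identification is in fact canonical). (Continuity of the composition functor of étale sites
along j is carried as an instance binder.) -/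
theorem result {U X : Scheme.{u}} (j : U ⟶ X) [AlgebraicGeometry.Etale j] [EtShriek.JCont j]
    (F : EtCoh.Ab U) {Ω : Type u} [Field Ω] [IsSepClosed Ω] (ξ : Spec (CommRingCat.of Ω) ⟶ X) :
    Nonempty ((EtCoh.stalk ξ).obj ((EtShriek.extZero j).obj F) ≅
      ∐ fun u : {u : Spec (CommRingCat.of Ω) ⟶ U // u ≫ j = ξ} => (EtCoh.stalk u.1).obj F) := by
  exact main j F ξ

end Groth.Agent.S0647
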