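import Groth.Statements.S0650
import Groth.Agent.Lib.Helper1.ExtZeroToPush
import Groth.Agent.S0647

set_option autoImplicit false
open CategoryTheory CategoryTheory.Limits AlgebraicGeometry Opposite
universe u
open EtCore

namespace Groth.Agent.S0650

open Groth.Agent.H1.EtStalk Groth.Agent.H1.EtGerm Groth.Agent.H1.EtStalkPull
  Groth.Agent.H1.ClopenExt Groth.Agent.H1.ExtZeroStalk Groth.Agent.H1.ExtZeroToPush
  GrothendieckTopology

variable {U X : Scheme.{u}} {j : U ⟶ X} [AlgebraicGeometry.Etale j] [EtShriek.JCont j]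
  {Ω : Type u} [Field Ω] [IsSepClosed Ω] {ξ : Spec (CommRingCat.of Ω) ⟶ X}

theorem unglue_naturality_right {F : EtCoh.Ab U} {M N : AddCommGrpCat.{u + 1}}
    (c : F ⟶ R1 j ξ M) (g : M ⟶ N) (ζ : Idx j ξ) :
    unglue (c ≫ ((Scheme.pointSmallEtale ξ).skyscraperSheafFunctor ⋙
      EtShriek.restrAlong j).map g) ζ = unglue c ζ ≫ g := by
  have h := Groth.Agent.S0647.glue_naturality_right (unglue c) g
  rw [glue_unglue] at h
  rw [← h, unglue_glue]

variable (j ξ) in
/-- the inclusion of the stalk at a point over `ξ` into the stalk of `j_! F` -/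
noncomputable def ι' (F : EtCoh.Ab U) (ζ : Idx j ξ) :
    (EtCoh.stalk ζ.1).obj F ⟶ (EtCoh.stalk ξ).obj ((EtShriek.extZero j).obj F) :=
  unglue ((adj1 j ξ).unit.app F) ζ

theorem joint_epi (F : EtCoh.Ab U) {M : AddCommGrpCat.{u + 1}}
    (m m' : (EtCoh.stalk ξ).obj ((EtShriek.extZero j).obj F) ⟶ M)
    (h : ∀ ζ : Idx j ξ, ι' j ξ F ζ ≫ m = ι' j ξ F ζ ≫ m') : m = m' := by
  apply ((adj1 j ξ).homEquiv F M).injective
  rw [Adjunction.homEquiv_unit, Adjunction.homEquiv_unit]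
  apply (Θ F M).symm.injective
  funext ζ
  change unglue _ ζ = unglue _ ζ
  rw [unglue_naturality_right, unglue_naturality_right]
  exact h ζ

open DirectSum in
open scoped Classical in
/-- every element of the stalk of `j_! F` is a finite sum of elements coming from the stalks of `F`
at the points over `ξ` -/
theorem exists_directSum (F : EtCoh.Ab U)
    (x : (EtCoh.stalk ξ).obj ((EtShriek.extZero j).obj F)) :
    ∃ y : ⨁ ζ : Idx j ξ, (EtCoh.stalk ζ.1).obj F,
      DirectSum.toAddMonoid (fun ζ => (ι' j ξ F ζ).hom) y = x := by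
  let L := (EtCoh.stalk ξ).obj ((EtShriek.extZero j).obj F)
  let φ : (⨁ ζ : Idx j ξ, (EtCoh.stalk ζ.1).obj F) →+ L :=
    DirectSum.toAddMonoid (fun ζ => (ι' j ξ F ζ).hom)
  let S : AddSubgroup L := φ.range
  let q : L ⟶ AddCommGrpCat.of (L ⧸ S) := AddCommGrpCat.ofHom (QuotientAddGroup.mk' S)
  have hq : q = 0 := by
    apply joint_epi
    intro ζ
    ext a
    change QuotientAddGroup.mk' S (ι' j ξ F ζ a) = 0
    rw [QuotientAddGroup.mk'_apply, QuotientAddGroup.eq_zero_iff]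
    exact ⟨DirectSum.of _ ζ a, DirectSum.toAddMonoid_of _ _ _⟩
  have hx : QuotientAddGroup.mk' S x = 0 := by
    have := congrArg (fun f : L ⟶ AddCommGrpCat.of (L ⧸ S) => f x) hq
    exact this
  rw [QuotientAddGroup.mk'_apply, QuotientAddGroup.eq_zero_iff] at hx
  exact hx

omit [AlgebraicGeometry.Etale j] [EtShriek.JCont j] in
theorem bc_map_left_fst {W' W : X.Etale} (k : W' ⟶ W) :
    ((EtCoh.bc j).map k).left ≫ pullback.fst W.hom j = pullback.fst W'.hom j ≫ k.left :=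
  (EtCoh.isPullback_bc_map j k).w

omit [AlgebraicGeometry.Etale j] [EtShriek.JCont j] in
theorem bc_map_left_snd {W' W : X.Etale} (k : W' ⟶ W) :
    ((EtCoh.bc j).map k).left ≫ pullback.snd W.hom j = pullback.snd W'.hom j :=
  MorphismProperty.Over.w ((EtCoh.bc j).map k)

omit [AlgebraicGeometry.Etale j] [EtShriek.JCont j] in
/-- the lift of `ζ0` to `U ×_X W` determined by a lift of `ξ` to `W` -/
noncomputable def pairLift (ζ0 : Idx j ξ) {W : X.Etale} (w : Lift ξ W) :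
    Lift ζ0.1 ((EtCoh.bc j).obj W) :=
  Lift.mk ζ0.1 (show Spec (CommRingCat.of Ω) ⟶ ((EtCoh.bc j).obj W).left from
    pullback.lift (Lift.hom w) ζ0.1 (by rw [Lift.hom_comp w, ζ0.2])) (pullback.lift_snd _ _ _)

omit [AlgebraicGeometry.Etale j] [EtShriek.JCont j] in
theorem pairLift_hom_fst (ζ0 : Idx j ξ) {W : X.Etale} (w : Lift ξ W) :
    Lift.hom (pairLift ζ0 w) ≫ pullback.fst W.hom j = Lift.hom w := pullback.lift_fst _ _ _

omit [AlgebraicGeometry.Etale j] [EtShriek.JCont j] in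
theorem pairLift_hom_snd (ζ0 : Idx j ξ) {W : X.Etale} (w : Lift ξ W) :
    Lift.hom (pairLift ζ0 w) ≫ pullback.snd W.hom j = ζ0.1 := pullback.lift_snd _ _ _

omit [AlgebraicGeometry.Etale j] [EtShriek.JCont j] in
theorem pairLift_map (ζ0 : Idx j ξ) {W' W : X.Etale} (k : W' ⟶ W) (w' : Lift ξ W') :
    Lift.map ((EtCoh.bc j).map k) (pairLift ζ0 w') = pairLift ζ0 (Lift.map k w') := by
  apply Lift.ext
  apply pullback.hom_ext
  · calc (Lift.hom (pairLift ζ0 w') ≫ ((EtCoh.bc j).map k).left) ≫ pullback.fst W.hom j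
        = Lift.hom (pairLift ζ0 w') ≫ (((EtCoh.bc j).map k).left ≫ pullback.fst W.hom j) :=
          Category.assoc _ _ _
      _ = Lift.hom (pairLift ζ0 w') ≫ (pullback.fst W'.hom j ≫ k.left) :=
          congrArg (Lift.hom (pairLift ζ0 w') ≫ ·) (bc_map_left_fst k)
      _ = (Lift.hom (pairLift ζ0 w') ≫ pullback.fst W'.hom j) ≫ k.left :=
          (Category.assoc _ _ _).symm
      _ = Lift.hom w' ≫ k.left := congrArg (· ≫ k.left) (pairLift_hom_fst ζ0 w')
      _ = _ := (pairLift_hom_fst ζ0 (Lift.map k w')).symm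
  · calc (Lift.hom (pairLift ζ0 w') ≫ ((EtCoh.bc j).map k).left) ≫ pullback.snd W.hom j
        = Lift.hom (pairLift ζ0 w') ≫ (((EtCoh.bc j).map k).left ≫ pullback.snd W.hom j) :=
          Category.assoc _ _ _
      _ = Lift.hom (pairLift ζ0 w') ≫ pullback.snd W'.hom j :=
          congrArg (Lift.hom (pairLift ζ0 w') ≫ ·) (bc_map_left_snd k)
      _ = ζ0.1 := pairLift_hom_snd ζ0 w'
      _ = _ := (pairLift_hom_snd ζ0 (Lift.map k w')).symm

variable (j ξ) in
/-- the projection of the stalk of `j_* F` at `ξ` to the stalk of `F` at a point over `ξ` -/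
noncomputable def π (F : EtCoh.Ab U) (ζ0 : Idx j ξ) :
    (EtCoh.stalk ξ).obj ((EtCoh.push j).obj F) ⟶ (EtCoh.stalk ζ0.1).obj F :=
  stalkDesc (F := (EtCoh.push j).obj F)
    (fun W w => germHom ζ0.1 F ((EtCoh.bc j).obj W) (pairLift ζ0 w))
    (by
      intro W' W k w'
      exact (germHom_w F ((EtCoh.bc j).map k) (pairLift ζ0 w')).trans
        (congrArg (germHom ζ0.1 F ((EtCoh.bc j).obj W)) (pairLift_map ζ0 k w')))

theorem germHom_π (F : EtCoh.Ab U) (ζ0 : Idx j ξ) (W : X.Etale) (w : Lift ξ W) :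
    germHom ξ ((EtCoh.push j).obj F) W w ≫ π j ξ F ζ0 =
      germHom ζ0.1 F ((EtCoh.bc j).obj W) (pairLift ζ0 w) :=
  germHom_stalkDesc _ _ _ _

omit [AlgebraicGeometry.Etale j] [EtShriek.JCont j] in
theorem skyUnit_app_π (G : EtCoh.Ab X) (W : X.Etale) (y : Lift ξ W) :
    ((Scheme.pointSmallEtale ξ).skyscraperSheafAdjunction.unit.app G).hom.app (op W) ≫
      Pi.π (fun _ : Lift ξ W => (EtCoh.stalk ξ).obj G) y = germHom ξ G W y := by
  have h1 : (Scheme.pointSmallEtale ξ).skyscraperSheafAdjunction.unit.app G =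
      (Scheme.pointSmallEtale ξ).skyscraperSheafAdjunction.homEquiv G _ (𝟙 _) := by
    rw [Adjunction.homEquiv_unit, CategoryTheory.Functor.map_id]
    exact (Category.comp_id _).symm
  rw [h1]
  have h2 := (Scheme.pointSmallEtale ξ).skyscraperSheafAdjunction_homEquiv_apply_hom
    (F := G) (𝟙 ((Scheme.pointSmallEtale ξ).presheafFiber.obj G.obj))
  have h3 := (Scheme.pointSmallEtale ξ).skyscraperPresheafHomEquiv_app_π
    (𝟙 ((Scheme.pointSmallEtale ξ).presheafFiber.obj G.obj)) W y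
  rw [Category.comp_id] at h3
  exact (congrArg (fun a => a.app (op W) ≫ Pi.π _ y) h2).trans h3

theorem germHom_ι' (F : EtCoh.Ab U) (ζ : Idx j ξ) (V : U.Etale) (y' : Lift ζ.1 V) :
    germHom ζ.1 F V y' ≫ ι' j ξ F ζ =
      ((EtShriek.extZeroAdj j).unit.app F).hom.app (op V) ≫
        germHom ξ ((EtShriek.extZero j).obj F) ((EtShriek.compEtale j).obj V) (up ζ y') := by
  have h1 := germHom_unglue ((adj1 j ξ).unit.app F) ζ V y'
  have h2 : (adj1 j ξ).unit.app F = (EtShriek.extZeroAdj j).unit.app F ≫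
      (EtShriek.restrAlong j).map ((Scheme.pointSmallEtale ξ).skyscraperSheafAdjunction.unit.app
        ((EtShriek.extZero j).obj F)) :=
    Adjunction.comp_unit_app _ _ _
  have h3 : ((adj1 j ξ).unit.app F).hom.app (op V) ≫ R1π _ V (up ζ y') =
      (((EtShriek.extZeroAdj j).unit.app F).hom.app (op V) ≫
        ((Scheme.pointSmallEtale ξ).skyscraperSheafAdjunction.unit.app
          ((EtShriek.extZero j).obj F)).hom.app (op ((EtShriek.compEtale j).obj V))) ≫
        Pi.π (fun _ : Lift ξ ((EtShriek.compEtale j).obj V) =>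
          (EtCoh.stalk ξ).obj ((EtShriek.extZero j).obj F)) (up ζ y') :=
    congrArg (fun c => c.hom.app (op V) ≫ R1π _ V (up ζ y')) h2
  exact h1.trans (h3.trans ((Category.assoc _ _ _).trans
    (congrArg (((EtShriek.extZeroAdj j).unit.app F).hom.app (op V) ≫ ·)
      (skyUnit_app_π ((EtShriek.extZero j).obj F) ((EtShriek.compEtale j).obj V) (up ζ y')))))

variable [IsSeparated j]

theorem germHom_ι'_τ_π (F : EtCoh.Ab U) (ζ ζ0 : Idx j ξ) (V : U.Etale) (y' : Lift ζ.1 V) :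
    germHom ζ.1 F V y' ≫ ι' j ξ F ζ ≫ (EtCoh.stalk ξ).map ((τ j).app F) ≫ π j ξ F ζ0 =
      ηApp j F V ≫ germHom ζ0.1 F (E j V) (pairLift ζ0 (up ζ y')) := by
  have hu : ((EtShriek.extZeroAdj j).unit.app F).hom.app (op V) ≫
      ((τ j).app F).hom.app (op ((EtShriek.compEtale j).obj V)) = ηApp j F V :=
    congrArg (fun c => c.hom.app (op V)) (unit_τ j F)
  calc germHom ζ.1 F V y' ≫ ι' j ξ F ζ ≫ (EtCoh.stalk ξ).map ((τ j).app F) ≫ π j ξ F ζ0
      = (germHom ζ.1 F V y' ≫ ι' j ξ F ζ) ≫ (EtCoh.stalk ξ).map ((τ j).app F) ≫ π j ξ F ζ0 :=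
        (Category.assoc _ _ _).symm
    _ = (((EtShriek.extZeroAdj j).unit.app F).hom.app (op V) ≫
          germHom ξ ((EtShriek.extZero j).obj F) ((EtShriek.compEtale j).obj V) (up ζ y')) ≫
          (EtCoh.stalk ξ).map ((τ j).app F) ≫ π j ξ F ζ0 :=
        congrArg (· ≫ (EtCoh.stalk ξ).map ((τ j).app F) ≫ π j ξ F ζ0) (germHom_ι' F ζ V y')
    _ = ((EtShriek.extZeroAdj j).unit.app F).hom.app (op V) ≫
          (germHom ξ ((EtShriek.extZero j).obj F) ((EtShriek.compEtale j).obj V) (up ζ y') ≫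
          (EtCoh.stalk ξ).map ((τ j).app F)) ≫ π j ξ F ζ0 := by
        simp only [Category.assoc]
    _ = ((EtShriek.extZeroAdj j).unit.app F).hom.app (op V) ≫
          (((τ j).app F).hom.app (op ((EtShriek.compEtale j).obj V)) ≫
            germHom ξ ((EtCoh.push j).obj F) ((EtShriek.compEtale j).obj V) (up ζ y')) ≫
            π j ξ F ζ0 :=
        congrArg (fun c => ((EtShriek.extZeroAdj j).unit.app F).hom.app (op V) ≫ c ≫ π j ξ F ζ0)
          (germHom_naturality ((τ j).app F) ((EtShriek.compEtale j).obj V) (up ζ y'))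
    _ = (((EtShriek.extZeroAdj j).unit.app F).hom.app (op V) ≫
          ((τ j).app F).hom.app (op ((EtShriek.compEtale j).obj V))) ≫
            germHom ξ ((EtCoh.push j).obj F) ((EtShriek.compEtale j).obj V) (up ζ y') ≫
            π j ξ F ζ0 := by
        simp only [Category.assoc]
    _ = ηApp j F V ≫ germHom ξ ((EtCoh.push j).obj F) ((EtShriek.compEtale j).obj V) (up ζ y') ≫
            π j ξ F ζ0 :=
        congrArg (· ≫ germHom ξ ((EtCoh.push j).obj F) ((EtShriek.compEtale j).obj V) (up ζ y') ≫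
            π j ξ F ζ0) hu
    _ = ηApp j F V ≫ germHom ζ0.1 F (E j V) (pairLift ζ0 (up ζ y')) :=
        congrArg (ηApp j F V ≫ ·) (germHom_π F ζ0 ((EtShriek.compEtale j).obj V) (up ζ y'))

omit [EtShriek.JCont j] [IsSeparated j] in
theorem pairLift_up_same (ζ0 : Idx j ξ) (V : U.Etale) (y' : Lift ζ0.1 V) :
    pairLift ζ0 (up ζ0 y') = Lift.map (Γ j V) y' := by
  apply Lift.ext
  apply pullback.hom_ext
  · calc Lift.hom (pairLift ζ0 (up ζ0 y')) ≫ pullback.fst ((EtShriek.compEtale j).obj V).hom j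
        = Lift.hom (up ζ0 y') := pairLift_hom_fst ζ0 (up ζ0 y')
      _ = Lift.hom y' := rfl
      _ = Lift.hom y' ≫ 𝟙 _ := (Category.comp_id _).symm
      _ = Lift.hom y' ≫ ((Γ j V).left ≫ pr j V) := congrArg (Lift.hom y' ≫ ·) (Γ_pr j V).symm
      _ = (Lift.hom y' ≫ (Γ j V).left) ≫ pr j V := (Category.assoc _ _ _).symm
  · calc Lift.hom (pairLift ζ0 (up ζ0 y')) ≫ pullback.snd ((EtShriek.compEtale j).obj V).hom j
        = ζ0.1 := pairLift_hom_snd ζ0 (up ζ0 y')
      _ = Lift.hom y' ≫ V.hom := (Lift.hom_comp y').symm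
      _ = Lift.hom y' ≫ ((Γ j V).left ≫ pullback.snd (V.hom ≫ j) j) :=
          congrArg (Lift.hom y' ≫ ·) (Γ_snd j V).symm
      _ = (Lift.hom y' ≫ (Γ j V).left) ≫ pullback.snd (V.hom ≫ j) j := (Category.assoc _ _ _).symm

theorem ηApp_map_Γ (F : EtCoh.Ab U) (V : U.Etale) :
    ηApp j F V ≫ F.obj.map (Γ j V).op = 𝟙 _ := by
  ext s
  exact map_extZ F (isClopen_Γ j V) s

theorem ηApp_map_cι (F : EtCoh.Ab U) (V : U.Etale) :
    ηApp j F V ≫ F.obj.map (cι (isClopen_Γ j V)).op = 0 := by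
  ext s
  exact map_cι_extZ F (isClopen_Γ j V) s

theorem δ_same (F : EtCoh.Ab U) (ζ0 : Idx j ξ) :
    ι' j ξ F ζ0 ≫ (EtCoh.stalk ξ).map ((τ j).app F) ≫ π j ξ F ζ0 = 𝟙 _ := by
  apply stalk_hom_ext
  intro V y'
  refine (germHom_ι'_τ_π F ζ0 ζ0 V y').trans ?_
  have h1 : germHom ζ0.1 F (E j V) (pairLift ζ0 (up ζ0 y')) =
      F.obj.map (Γ j V).op ≫ germHom ζ0.1 F V y' :=
    (congrArg (germHom ζ0.1 F (E j V)) (pairLift_up_same ζ0 V y')).trans
      (germHom_w F (Γ j V) y').symm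
  calc ηApp j F V ≫ germHom ζ0.1 F (E j V) (pairLift ζ0 (up ζ0 y'))
      = ηApp j F V ≫ F.obj.map (Γ j V).op ≫ germHom ζ0.1 F V y' := congrArg (ηApp j F V ≫ ·) h1
    _ = (ηApp j F V ≫ F.obj.map (Γ j V).op) ≫ germHom ζ0.1 F V y' := (Category.assoc _ _ _).symm
    _ = 𝟙 _ ≫ germHom ζ0.1 F V y' := congrArg (· ≫ germHom ζ0.1 F V y') (ηApp_map_Γ F V)
    _ = germHom ζ0.1 F V y' := Category.id_comp _
    _ = germHom ζ0.1 F V y' ≫ 𝟙 _ := (Category.comp_id _).symm

omit [EtShriek.JCont j] in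
theorem pairLift_not_mem_range (ζ ζ0 : Idx j ξ) (h : ζ ≠ ζ0) (V : U.Etale) (y' : Lift ζ.1 V) :
    (Lift.hom (pairLift ζ0 (up ζ y'))).base default ∉ Set.range (Γ j V).left.base := by
  intro hv
  apply h
  have := (isClopen_Γ j V).open_imm
  have hr : Set.range (Lift.hom (pairLift ζ0 (up ζ y'))).base ⊆ Set.range (Γ j V).left.base := by
    rintro _ ⟨a, rfl⟩
    rw [Subsingleton.elim a default]
    exact hv
  obtain ⟨l', hl'⟩ : ∃ l' : Spec (CommRingCat.of Ω) ⟶ V.left,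
      l' ≫ (Γ j V).left = Lift.hom (pairLift ζ0 (up ζ y')) :=
    ⟨IsOpenImmersion.lift (Γ j V).left _ hr, IsOpenImmersion.lift_fac _ _ hr⟩
  have e1 : l' = Lift.hom y' := by
    calc l' = l' ≫ 𝟙 _ := (Category.comp_id _).symm
      _ = l' ≫ ((Γ j V).left ≫ pr j V) := congrArg (l' ≫ ·) (Γ_pr j V).symm
      _ = (l' ≫ (Γ j V).left) ≫ pr j V := (Category.assoc _ _ _).symm
      _ = Lift.hom (pairLift ζ0 (up ζ y')) ≫ pr j V := congrArg (· ≫ pr j V) hl'
      _ = Lift.hom y' := pairLift_hom_fst ζ0 (up ζ y')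
  apply Subtype.ext
  calc ζ.1 = Lift.hom y' ≫ V.hom := (Lift.hom_comp y').symm
    _ = l' ≫ V.hom := congrArg (· ≫ V.hom) e1.symm
    _ = l' ≫ ((Γ j V).left ≫ pullback.snd (V.hom ≫ j) j) := congrArg (l' ≫ ·) (Γ_snd j V).symm
    _ = (l' ≫ (Γ j V).left) ≫ pullback.snd (V.hom ≫ j) j := (Category.assoc _ _ _).symm
    _ = Lift.hom (pairLift ζ0 (up ζ y')) ≫ pullback.snd (V.hom ≫ j) j :=
        congrArg (· ≫ pullback.snd (V.hom ≫ j) j) hl'
    _ = ζ0.1 := pairLift_hom_snd ζ0 (up ζ y')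

theorem δ_ne (F : EtCoh.Ab U) (ζ ζ0 : Idx j ξ) (h : ζ ≠ ζ0) :
    ι' j ξ F ζ ≫ (EtCoh.stalk ξ).map ((τ j).app F) ≫ π j ξ F ζ0 = 0 := by
  apply stalk_hom_ext
  intro V y'
  refine (germHom_ι'_τ_π F ζ ζ0 V y').trans ?_
  obtain ⟨y'', hy''⟩ := exists_lift_restrictOpen (compl (isClopen_Γ j V)) (pairLift ζ0 (up ζ y'))
    (pairLift_not_mem_range ζ ζ0 h V y')
  have h1 : germHom ζ0.1 F (E j V) (pairLift ζ0 (up ζ y')) =
      F.obj.map (cι (isClopen_Γ j V)).op ≫ germHom ζ0.1 F (cObj (isClopen_Γ j V)) y'' :=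
    (congrArg (germHom ζ0.1 F (E j V)) hy''.symm).trans
      (germHom_w F (cι (isClopen_Γ j V)) y'').symm
  calc ηApp j F V ≫ germHom ζ0.1 F (E j V) (pairLift ζ0 (up ζ y'))
      = ηApp j F V ≫ F.obj.map (cι (isClopen_Γ j V)).op ≫
          germHom ζ0.1 F (cObj (isClopen_Γ j V)) y'' := congrArg (ηApp j F V ≫ ·) h1
    _ = (ηApp j F V ≫ F.obj.map (cι (isClopen_Γ j V)).op) ≫
          germHom ζ0.1 F (cObj (isClopen_Γ j V)) y'' := (Category.assoc _ _ _).symm
    _ = 0 ≫ germHom ζ0.1 F (cObj (isClopen_Γ j V)) y'' :=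
        congrArg (· ≫ germHom ζ0.1 F (cObj (isClopen_Γ j V)) y'') (ηApp_map_cι F V)
    _ = 0 := zero_comp
    _ = germHom ζ.1 F V y' ≫ 0 := comp_zero.symm

open DirectSum in
open scoped Classical in
theorem injective_stalk_τ (F : EtCoh.Ab U) :
    Function.Injective ((EtCoh.stalk ξ).map ((τ j).app F)) := by
  rw [injective_iff_map_eq_zero]
  intro x hx
  obtain ⟨y, rfl⟩ := exists_directSum (j := j) (ξ := ξ) F x
  have hy : y = 0 := by
    apply DFinsupp.ext
    intro ζ0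
    let ψ : (⨁ ζ : Idx j ξ, (EtCoh.stalk ζ.1).obj F) →+ (EtCoh.stalk ζ0.1).obj F :=
      ((π j ξ F ζ0).hom.comp ((EtCoh.stalk ξ).map ((τ j).app F)).hom).comp
        (DirectSum.toAddMonoid (fun ζ => (ι' j ξ F ζ).hom))
    have hψ : ψ = DFinsupp.evalAddMonoidHom ζ0 := by
      apply DirectSum.addHom_ext
      intro ζ a
      change (π j ξ F ζ0) (((EtCoh.stalk ξ).map ((τ j).app F))
        (DirectSum.toAddMonoid (fun ζ => (ι' j ξ F ζ).hom)
          (DirectSum.of (fun ζ : Idx j ξ => (EtCoh.stalk ζ.1).obj F) ζ a))) =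
        (DirectSum.of (fun ζ : Idx j ξ => (EtCoh.stalk ζ.1).obj F) ζ a) ζ0
      rw [DirectSum.toAddMonoid_of]
      change (ι' j ξ F ζ ≫ (EtCoh.stalk ξ).map ((τ j).app F) ≫ π j ξ F ζ0) a = _
      by_cases h : ζ = ζ0
      · subst h
        rw [δ_same]
        exact (DirectSum.of_eq_same (β := fun ζ : Idx j ξ => (EtCoh.stalk ζ.1).obj F) ζ a).symm
      · rw [δ_ne F ζ ζ0 h]
        exact (DirectSum.of_eq_of_ne (β := fun ζ : Idx j ξ => (EtCoh.stalk ζ.1).obj F)
          ζ ζ0 a (Ne.symm h)).symm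
    have h1 : ψ y = 0 := by
      change (π j ξ F ζ0) (((EtCoh.stalk ξ).map ((τ j).app F))
        (DirectSum.toAddMonoid (fun ζ => (ι' j ξ F ζ).hom) y)) = 0
      rw [hx, map_zero]
    rw [hψ] at h1
    exact h1
  rw [hy, map_zero]

theorem main : ∃ τ : EtShriek.extZero j ⟶ EtCoh.push j, ∀ F : EtCoh.Ab U, Mono (τ.app F) :=
  ⟨τ j, fun F => mono_of_stalk _ (fun s => injective_stalk_τ (ξ := geomPt X s) F)⟩

/-- For a separated étale morphism j : U → X there is a natural transformation from extension by zero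
j_! to direct image j_*, on abelian sheaves, whose component at every abelian sheaf on the small
étale site of U is a monomorphism. (Only the existence of such a natural injective comparison map is
stated; the published statement constructs a specific one.) (Continuity of the composition functor
of étale sites, which always holds, is carried as an instance hypothesis.) -/
theorem result {U X : Scheme.{u}} (j : U ⟶ X) [AlgebraicGeometry.Etale j]
    [IsSeparated j] [EtShriek.JCont j] :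
    ∃ τ : EtShriek.extZero j ⟶ EtCoh.push j, ∀ F : EtCoh.Ab U, Mono (τ.app F) := by
  exact main

end Groth.Agent.S0650
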