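import Groth.Statements.S14451
import Mathlib
import Groth.Agent.Lib.Helper27.ExtAdj

set_option autoImplicit false
universe u
open CategoryTheory CategoryTheory.Limits AlgebraicGeometry
open EtCore

namespace Groth.Agent.S14451

open CategoryTheory CategoryTheory.Limits AlgebraicGeometry
open EtCore
open Abelian
open Groth.Agent.Lib.helper27

instance push_preservesFiniteLimits {X Y : Scheme.{u}} (f : X ⟶ Y) :
    PreservesFiniteLimits (EtCoh.push f) :=
  have : PreservesLimitsOfSize.{0, 0} (EtCoh.push f) :=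
    (EtCoh.pullPushAdj f).rightAdjoint_preservesLimits
  PreservesLimitsOfSize.preservesFiniteLimits _

/-- the constant sheaf `ℤ` on `Y_et` -/
noncomputable abbrev ZZ (Y : Scheme.{u}) : EtCoh.Ab Y :=
  (constantSheaf Y.smallEtaleTopology AddCommGrpCat.{u+1}).obj (AddCommGrpCat.of (ULift.{u+1} ℤ))

lemma HofPush_apply {X Y : Scheme.{u}} (f : X ⟶ Y)
    [PreservesFiniteLimits (EtCoh.pull f)] (F : EtCoh.Ab X) (p : ℕ)
    (x : EtCoh.H Y ((EtCoh.push f).obj F) p) :
    EtLim.HofPush f F p x =
      (Ext.mk₀ (EtCore.pullConst f ℤ).inv).comp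
        (ExtAdj.Ψ (EtCoh.pullPushAdj f) (ZZ Y) F p x) (zero_add p) := by
  change ((Ext.mk₀ (EtCore.pullConst f ℤ).inv).comp (x.mapExactFunctor (EtCoh.pull f)) (zero_add p)).comp
      (Ext.mk₀ ((EtCoh.pullPushAdj f).counit.app F)) (add_zero p) = _
  rw [Ext.comp_assoc_of_third_deg_zero]
  rfl

/-- Let f : X ⟶ Y be a morphism of schemes and F an abelian sheaf on the small étale site of X whose
higher direct images R^q f_* F vanish for all q > 0. Then for every p the canonical map H^p(Y, f_*
F) → H^p(X, F) (pull back along f, then apply the counit f⁻¹ f_* F ⟶ F) is bijective. (Exactness of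
f⁻¹, which always holds, is carried as an instance hypothesis.) -/
theorem result {X Y : Scheme.{u}} (f : X ⟶ Y)
    [PreservesFiniteLimits (EtCoh.pull f)] (F : EtCoh.Ab X)
    (hR : ∀ q : ℕ, 0 < q → IsZero ((EtCoh.Rpush f q).obj F)) (p : ℕ) :
    Function.Bijective (EtLim.HofPush f F p) := by
  have hΨ := ExtAdj.Ψ_bijective (EtCoh.pullPushAdj f) (ZZ Y) p F hR
  let e := ExtAdj.extIsoLeft (EtCore.pullConst f ℤ) F p
  have he : ⇑(EtLim.HofPush f F p) = e ∘ ExtAdj.Ψ (EtCoh.pullPushAdj f) (ZZ Y) F p := by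
    funext x
    rw [HofPush_apply]
    rfl
  rw [he]
  exact e.bijective.comp hΨ

end Groth.Agent.S14451
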