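import Groth.Statements.S7439
import Mathlib

set_option autoImplicit false
universe u
open CategoryTheory AlgebraicGeometry
open BddFib

namespace Groth.Agent.S7439

/-- Every immersion has universally bounded fibres, with `1` as a bound for the degrees of its fibres. -/
theorem result {X Y : Scheme.{u}} (f : X ⟶ Y) [IsImmersion f] :
    BddFib.FibreDegLE f 1 := by
  intro y
  have himm : IsImmersion (f.fiberToSpecResidueField y) :=
    inferInstanceAs (IsImmersion (Limits.pullback.snd f (Y.fromSpecResidueField y)))
  have hcl : IsClosedImmersion (f.fiberToSpecResidueField y) :=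
    IsClosedImmersion.of_isPreimmersion _ (isClosed_discrete _)
  obtain ⟨haff, hsurj⟩ := IsClosedImmersion.isAffine_surjective_of_isAffine
    (f.fiberToSpecResidueField y)
  let _ : Algebra (Y.residueField y) Γ(f.fiber y, ⊤) :=
    BddFib.secAlgebra (Y.residueField y) (f.fiberToSpecResidueField y)
  have hsurj' : Function.Surjective (Algebra.linearMap (Y.residueField y) Γ(f.fiber y, ⊤)) := by
    change Function.Surjective ((Scheme.ΓSpecIso (Y.residueField y)).inv ≫
      (f.fiberToSpecResidueField y).appTop)
    intro z
    obtain ⟨w, rfl⟩ := hsurj z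
    obtain ⟨v, rfl⟩ := (ConcreteCategory.bijective_of_isIso
      (Scheme.ΓSpecIso (Y.residueField y)).inv).2 w
    exact ⟨v, rfl⟩
  refine ⟨haff, Module.Finite.of_surjective _ hsurj', ?_⟩
  have := LinearMap.finrank_le_finrank_of_surjective hsurj'
  rwa [Module.finrank_self] at this

end Groth.Agent.S7439
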