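import Groth.Statements.S7575
import Mathlib

set_option autoImplicit false
universe u
open CategoryTheory CategoryTheory.Limits TopologicalSpace Opposite
open ShSp

namespace Groth.Agent.S7575

open TopCat

variable {X : TopCat.{u}} {J : Type u} [Preorder J] [Nonempty J] [IsDirected J (· ≤ ·)]
  (F : J ⥤ X.Sheaf (Type u)) (c : Cocone F) (hc : IsColimit c)

/-- the stalk functor on sheaves -/
noncomputable abbrev St (x : X) : X.Sheaf (Type u) ⥤ Type u :=
  TopCat.Sheaf.forget (Type u) X ⋙ TopCat.Presheaf.stalkFunctor (Type u) x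

/-- the colimit cocone of stalks -/
noncomputable def stColimit (x : X) : IsColimit ((St x).mapCocone c) :=
  isColimitOfPreserves (St x) hc

lemma st_map_germ (x : X) {G H : X.Sheaf (Type u)} (φ : G ⟶ H) (V : Opens X) (hx : x ∈ V)
    (s : G.presheaf.obj (op V)) :
    (St x).map φ (G.presheaf.germ V x hx s) = H.presheaf.germ V x hx (φ.hom.app (op V) s) :=
  TopCat.Presheaf.stalkFunctor_map_germ_apply V x hx φ.hom s

include hc in
/-- **Lemma A**: equality in the colimit sheaf is locally equality at a later stage -/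
lemma local_eq (V : Opens X) (i : J) (s t : (F.obj i).presheaf.obj (op V))
    (h : (c.ι.app i).hom.app (op V) s = (c.ι.app i).hom.app (op V) t) (x : X) (hx : x ∈ V) :
    ∃ (k : J) (f : i ⟶ k) (W : Opens X) (_ : x ∈ W) (iW : W ⟶ V),
      (F.obj k).presheaf.map iW.op ((F.map f).hom.app (op V) s) =
        (F.obj k).presheaf.map iW.op ((F.map f).hom.app (op V) t) := by
  have h1 : ((St x).mapCocone c).ι.app i ((F.obj i).presheaf.germ V x hx s) =
      ((St x).mapCocone c).ι.app i ((F.obj i).presheaf.germ V x hx t) := by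
    show (St x).map (c.ι.app i) _ = (St x).map (c.ι.app i) _
    rw [st_map_germ, st_map_germ, h]
  obtain ⟨k, f, g, hfg⟩ := (Types.FilteredColimit.isColimit_eq_iff _ (stColimit F c hc x)).mp h1
  have hg : g = f := Subsingleton.elim _ _
  rw [hg] at hfg
  have h2 : (F.obj k).presheaf.germ V x hx ((F.map f).hom.app (op V) s) =
      (F.obj k).presheaf.germ V x hx ((F.map f).hom.app (op V) t) := by
    rw [← st_map_germ, ← st_map_germ]
    exact hfg
  obtain ⟨W, hxW, iU, iV, e⟩ := TopCat.Presheaf.germ_eq _ x hx hx _ _ h2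
  have hiV : iV = iU := Subsingleton.elim _ _
  rw [hiV] at e
  exact ⟨k, f, W, hxW, iU, e⟩

include hc in
/-- **Lemma B**: sections of the colimit sheaf locally come from some stage -/
lemma local_lift (V : Opens X) (σ : c.pt.presheaf.obj (op V)) (x : X) (hx : x ∈ V) :
    ∃ (i : J) (W : Opens X) (_ : x ∈ W) (iW : W ⟶ V) (s : (F.obj i).presheaf.obj (op W)),
      (c.ι.app i).hom.app (op W) s = c.pt.presheaf.map iW.op σ := by
  obtain ⟨i, a, ha⟩ := Types.jointly_surjective_of_isColimit (stColimit F c hc x)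
    (c.pt.presheaf.germ V x hx σ)
  obtain ⟨V', hxV', s', rfl⟩ := TopCat.Presheaf.exists_germ_eq (F.obj i).presheaf (x := x) a
  have h1 : c.pt.presheaf.germ V' x hxV' ((c.ι.app i).hom.app (op V') s') =
      c.pt.presheaf.germ V x hx σ := by
    rw [← st_map_germ]; exact ha
  obtain ⟨W, hxW, iU, iV, e⟩ := TopCat.Presheaf.germ_eq _ x hxV' hx _ _ h1
  refine ⟨i, W, hxW, iV, (F.obj i).presheaf.map iU.op s', ?_⟩
  rw [← e]
  exact ConcreteCategory.congr_hom ((c.ι.app i).hom.naturality iU.op) s'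


/-- injectivity of `Ψ` over `V`, in elementary terms -/
def PsiInj (V : Opens X) : Prop :=
  ∀ (i : J) (s t : (F.obj i).presheaf.obj (op V)),
    (c.ι.app i).hom.app (op V) s = (c.ι.app i).hom.app (op V) t →
    ∃ (k : J) (f : i ⟶ k), (F.map f).hom.app (op V) s = (F.map f).hom.app (op V) t

/-- every open cover has a finite refinement -/
def FinRef (V : Opens X) : Prop :=
  ∀ 𝒱 : Set (Opens X), (⨆ W ∈ 𝒱, W) = V →
    ∃ (ι : Type u) (_ : Finite ι) (W : ι → Opens X), (∀ j, ∃ V' ∈ 𝒱, W j ≤ V') ∧ (⨆ j, W j) = V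

omit [Nonempty J] [IsDirected J (· ≤ ·)] in
lemma map_res {i k : J} (f : i ⟶ k) {V W : Opens X} (iW : W ⟶ V)
    (s : (F.obj i).presheaf.obj (op V)) :
    (F.map f).hom.app (op W) ((F.obj i).presheaf.map iW.op s) =
      (F.obj k).presheaf.map iW.op ((F.map f).hom.app (op V) s) :=
  ConcreteCategory.congr_hom ((F.map f).hom.naturality iW.op) s

omit [Nonempty J] [IsDirected J (· ≤ ·)] in
lemma map_map {i k l : J} (f : i ⟶ k) (g : k ⟶ l) (h : i ⟶ l) (V : Opens X)
    (s : (F.obj i).presheaf.obj (op V)) :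
    (F.map g).hom.app (op V) ((F.map f).hom.app (op V) s) = (F.map h).hom.app (op V) s := by
  have : h = f ≫ g := Subsingleton.elim _ _
  rw [this, F.map_comp]
  rfl

omit [Nonempty J] [IsDirected J (· ≤ ·)] in
lemma ι_map {i k : J} (f : i ⟶ k) (V : Opens X) (s : (F.obj i).presheaf.obj (op V)) :
    (c.ι.app k).hom.app (op V) ((F.map f).hom.app (op V) s) = (c.ι.app i).hom.app (op V) s := by
  rw [← c.w f]
  rfl

omit [Nonempty J] [IsDirected J (· ≤ ·)] in
lemma ι_res (i : J) {V W : Opens X} (iW : W ⟶ V) (s : (F.obj i).presheaf.obj (op V)) :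
    (c.ι.app i).hom.app (op W) ((F.obj i).presheaf.map iW.op s) =
      c.pt.presheaf.map iW.op ((c.ι.app i).hom.app (op V) s) :=
  ConcreteCategory.congr_hom ((c.ι.app i).hom.naturality iW.op) s

include hc in
/-- (1'): injective transitions give injectivity of the maps to the colimit -/
lemma eq_of_inj
    (hinj : ∀ (i j : J) (h : i ⟶ j) (V : Opens X), Function.Injective ((F.map h).hom.app (op V)))
    (V : Opens X) (i : J) (s t : (F.obj i).presheaf.obj (op V))
    (h : (c.ι.app i).hom.app (op V) s = (c.ι.app i).hom.app (op V) t) : s = t := by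
  choose k f W hxW iW e using fun x : V => local_eq F c hc V i s t h x.1 x.2
  refine (F.obj i).eq_of_locally_eq' W V iW (fun x hx => Opens.mem_iSup.mpr ⟨⟨x, hx⟩, hxW _⟩)
    s t (fun x => ?_)
  apply hinj i (k x) (f x) (W x)
  rw [map_res, map_res]
  exact e x


omit [Preorder J] [Nonempty J] [IsDirected J (· ≤ ·)] in
lemma res_res (G : X.Sheaf (Type u)) {V W W' : Opens X} (a : W ⟶ V) (b : W' ⟶ W) (c' : W' ⟶ V)
    (r : G.presheaf.obj (op V)) :
    G.presheaf.map b.op (G.presheaf.map a.op r) = G.presheaf.map c'.op r := by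
  have : c'.op = a.op ≫ b.op := Subsingleton.elim _ _
  rw [this, G.presheaf.map_comp]
  rfl

include hc in
/-- (2'): finite refinements give injectivity of `Ψ` -/
lemma psiInj_of_finRef (V : Opens X) (hV : FinRef V) : PsiInj F c V := by
  intro i s t h
  choose k f W hxW iW e using fun x : V => local_eq F c hc V i s t h x.1 x.2
  have hsup : (⨆ W' ∈ Set.range W, W') = V := by
    apply le_antisymm
    · refine iSup₂_le ?_
      rintro _ ⟨x, rfl⟩
      exact (iW x).le
    · intro x hx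
      exact Opens.mem_iSup.mpr ⟨W ⟨x, hx⟩, Opens.mem_iSup.mpr ⟨⟨_, rfl⟩, hxW _⟩⟩
  obtain ⟨ι, hι, W', hW', hW'sup⟩ := hV _ hsup
  choose V' hV'mem hV'le using hW'
  choose x hx using hV'mem
  obtain ⟨K, hK⟩ := Finite.exists_le (fun j => k (x j))
  obtain ⟨K', hK'1, hK'2⟩ := exists_ge_ge K i
  have hle : ∀ j, k (x j) ≤ K' := fun j => (hK j).trans hK'1
  refine ⟨K', homOfLE hK'2, ?_⟩
  have iW' : ∀ j, W' j ⟶ V := fun j => homOfLE (hW'sup ▸ le_iSup W' j)
  refine (F.obj K').eq_of_locally_eq' W' V iW' (le_of_eq hW'sup.symm) _ _ (fun j => ?_)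
  -- factor through stage `k (x j)`
  have hj : W' j ≤ W (x j) := (hV'le j).trans (le_of_eq (hx j).symm)
  have e1 := e (x j)
  have e2 := congrArg ((F.obj (k (x j))).presheaf.map (homOfLE hj).op) e1
  have e3 := congrArg ((F.map (homOfLE (hle j))).hom.app (op (W' j))) e2
  have key : ∀ r : (F.obj i).presheaf.obj (op V),
      (F.obj K').presheaf.map (iW' j).op ((F.map (homOfLE hK'2)).hom.app (op V) r) =
      (F.map (homOfLE (hle j))).hom.app (op (W' j))
        ((F.obj (k (x j))).presheaf.map (homOfLE hj).op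
          ((F.obj (k (x j))).presheaf.map (iW (x j)).op ((F.map (f (x j))).hom.app (op V) r))) := by
    intro r
    rw [map_res, map_res, map_map F (f (x j)) (homOfLE (hle j)) (homOfLE hK'2),
      res_res _ _ _ (iW' j)]
  rw [key, key]
  exact e3

omit [Preorder J] [Nonempty J] [IsDirected J (· ≤ ·)] in
lemma finRef_of_isCompact (V : Opens X) (hV : IsCompact (V : Set X)) : FinRef V := by
  intro 𝒱 hsup
  have hcov : (V : Set X) ⊆ ⋃ W : 𝒱, ((W.1 : Opens X) : Set X) := by
    intro x hx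
    have hx' : x ∈ (⨆ W ∈ 𝒱, W : Opens X) := by rw [hsup]; exact hx
    obtain ⟨W, hxW⟩ := Opens.mem_iSup.mp hx'
    obtain ⟨hW, hxW⟩ := Opens.mem_iSup.mp hxW
    exact Set.mem_iUnion.mpr ⟨⟨W, hW⟩, hxW⟩
  obtain ⟨T, hT⟩ := hV.elim_finite_subcover (fun W : 𝒱 => ((W.1 : Opens X) : Set X))
    (fun W => W.1.isOpen) hcov
  refine ⟨ULift.{u} T, inferInstance, fun j => j.down.1.1, fun j => ⟨_, j.down.1.2, le_rfl⟩, ?_⟩
  apply le_antisymm
  · refine iSup_le fun j => ?_
    rw [← hsup]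
    exact le_iSup₂ (f := fun W (_ : W ∈ 𝒱) => W) j.down.1.1 j.down.1.2
  · intro x hx
    obtain ⟨W, hW⟩ := Set.mem_iUnion.mp (hT hx)
    obtain ⟨hWT, hxW⟩ := Set.mem_iUnion.mp hW
    exact Opens.mem_iSup.mpr ⟨⟨⟨W, hWT⟩⟩, hxW⟩


omit [Preorder J] [Nonempty J] [IsDirected J (· ≤ ·)] in
lemma res_res' (G : X.Presheaf (Type u)) {V W W' : Opens X} (a : W ⟶ V) (b : W' ⟶ W) (c' : W' ⟶ V)
    (r : G.obj (op V)) :
    G.map b.op (G.map a.op r) = G.map c'.op r := by
  have : c'.op = a.op ≫ b.op := Subsingleton.elim _ _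
  rw [this, G.map_comp]
  rfl

/-- **Lemma C**: gluing local lifts over a finite cover with `Ψ` injective on the overlaps -/
lemma exists_lift_of_cover (V : Opens X) {ι : Type u} [Finite ι] (W : ι → Opens X)
    (hW : (⨆ j, W j) = V) (hinj : ∀ j j', PsiInj F c (W j ⊓ W j'))
    (σ : c.pt.presheaf.obj (op V))
    (hl : ∀ j, ∃ (i : J) (s : (F.obj i).presheaf.obj (op (W j))),
      (c.ι.app i).hom.app (op (W j)) s =
        c.pt.presheaf.map (homOfLE (hW ▸ le_iSup W j) : W j ⟶ V).op σ) :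
    ∃ (k : J) (t : (F.obj k).presheaf.obj (op V)), (c.ι.app k).hom.app (op V) t = σ := by
  have iWV : ∀ j, W j ⟶ V := fun j => homOfLE (hW ▸ le_iSup W j)
  choose i s hs using hl
  obtain ⟨K₀, hK₀⟩ := Finite.exists_le i
  -- sections at the common stage `K₀`
  let s' : ∀ j, (F.obj K₀).presheaf.obj (op (W j)) :=
    fun j => (F.map (homOfLE (hK₀ j))).hom.app (op (W j)) (s j)
  have hs' : ∀ j, (c.ι.app K₀).hom.app (op (W j)) (s' j) = c.pt.presheaf.map (iWV j).op σ := by
    intro j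
    rw [ι_map]
    exact hs j
  -- agreement on overlaps at a later stage
  have hov : ∀ p : ι × ι, ∃ (k : J) (f : K₀ ⟶ k),
      (F.map f).hom.app (op (W p.1 ⊓ W p.2))
          ((F.obj K₀).presheaf.map (Opens.infLELeft (W p.1) (W p.2)).op (s' p.1)) =
        (F.map f).hom.app (op (W p.1 ⊓ W p.2))
          ((F.obj K₀).presheaf.map (Opens.infLERight (W p.1) (W p.2)).op (s' p.2)) := by
    rintro ⟨j, j'⟩
    apply hinj j j' K₀
    rw [ι_res, ι_res, hs' j, hs' j', res_res', res_res']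
    exact homOfLE ((inf_le_left : W j ⊓ W j' ≤ W j).trans (iWV j).le)
  choose k f hf using hov
  obtain ⟨K, hK⟩ := Finite.exists_le k
  obtain ⟨K', hK'1, hK'2⟩ := exists_ge_ge K K₀
  have hkK' : ∀ p, k p ≤ K' := fun p => (hK p).trans hK'1
  let t' : ∀ j, (F.obj K').presheaf.obj (op (W j)) :=
    fun j => (F.map (homOfLE hK'2)).hom.app (op (W j)) (s' j)
  have hcompat : TopCat.Presheaf.IsCompatible (F.obj K').1 W t' := by
    intro j j'
    have h1 := congrArg ((F.map (homOfLE (hkK' (j, j')))).hom.app (op (W j ⊓ W j'))) (hf (j, j'))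
    rw [map_map F (f (j, j')) (homOfLE (hkK' (j, j'))) (homOfLE hK'2),
      map_map F (f (j, j')) (homOfLE (hkK' (j, j'))) (homOfLE hK'2), map_res, map_res] at h1
    exact h1
  obtain ⟨t, ht, -⟩ := (F.obj K').existsUnique_gluing' W V iWV (le_of_eq hW.symm) t' hcompat
  refine ⟨K', t, ?_⟩
  refine c.pt.eq_of_locally_eq' W V iWV (le_of_eq hW.symm) _ _ (fun j => ?_)
  have h2 : c.pt.presheaf.map (iWV j).op ((c.ι.app K').hom.app (op V) t) =
      (c.ι.app K').hom.app (op (W j)) ((F.obj K').presheaf.map (iWV j).op t) := (ι_res F c K' _ t).symm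
  have h3 : (F.obj K').presheaf.map (iWV j).op t = t' j := ht j
  calc c.pt.1.map (iWV j).op ((c.ι.app K').hom.app (op V) t)
      = (c.ι.app K').hom.app (op (W j)) (t' j) := by rw [← h3]; exact h2
    _ = (c.ι.app K₀).hom.app (op (W j)) (s' j) := ι_map F c (homOfLE hK'2) (W j) (s' j)
    _ = c.pt.1.map (iWV j).op σ := hs' j


/-- evaluation at `U` on sheaves -/
noncomputable abbrev ev (U : Opens X) : X.Sheaf (Type u) ⥤ Type u :=
  TopCat.Sheaf.forget (Type u) X ⋙ (evaluation (Opens X)ᵒᵖ (Type u)).obj (op U)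

lemma psi_ι (U : Opens X) (i : J) (s : (F.obj i).presheaf.obj (op U)) :
    (colimit.desc (F ⋙ ev U) ((ev U).mapCocone c)) (colimit.ι (F ⋙ ev U) i s) =
      (c.ι.app i).hom.app (op U) s :=
  ConcreteCategory.congr_hom (colimit.ι_desc ((ev U).mapCocone c) i) s

lemma ι_w (U : Opens X) {i k : J} (f : i ⟶ k) (s : (F.obj i).presheaf.obj (op U)) :
    colimit.ι (F ⋙ ev U) k ((F.map f).hom.app (op U) s) = colimit.ι (F ⋙ ev U) i s :=
  ConcreteCategory.congr_hom (colimit.w (F ⋙ ev U) f) s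

lemma psi_injective (U : Opens X) (h : PsiInj F c U) :
    Function.Injective (colimit.desc (F ⋙ ev U) ((ev U).mapCocone c)) := by
  intro a b hab
  obtain ⟨i, s, rfl⟩ := Types.jointly_surjective' a
  obtain ⟨j, t, rfl⟩ := Types.jointly_surjective' b
  obtain ⟨k, hik, hjk⟩ := exists_ge_ge i j
  rw [← ι_w F U (homOfLE hik) s, ← ι_w F U (homOfLE hjk) t] at hab ⊢
  rw [psi_ι, psi_ι] at hab
  obtain ⟨k', f, hf⟩ := h k _ _ hab
  rw [← ι_w F U f, ← ι_w F U f, hf]

lemma psi_surjective (U : Opens X)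
    (h : ∀ σ : c.pt.presheaf.obj (op U), ∃ (k : J) (t : (F.obj k).presheaf.obj (op U)),
      (c.ι.app k).hom.app (op U) t = σ) :
    Function.Surjective (colimit.desc (F ⋙ ev U) ((ev U).mapCocone c)) := by
  intro σ
  obtain ⟨k, t, ht⟩ := h σ
  exact ⟨colimit.ι (F ⋙ ev U) k t, (psi_ι F c U k t).trans ht⟩

include hc in
/-- surjectivity from a finite cover by opens with `Ψ` injective on overlaps, refining local lifts -/
lemma lift_of_finRef (U : Opens X) (σ : c.pt.presheaf.obj (op U))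
    (hfin : ∀ 𝒱 : Set (Opens X), (⨆ W ∈ 𝒱, W) = U →
      ∃ (ι : Type u) (_ : Finite ι) (W : ι → Opens X), (∀ j, ∃ V' ∈ 𝒱, W j ≤ V') ∧
        (⨆ j, W j) = U ∧ ∀ j j', PsiInj F c (W j ⊓ W j')) :
    ∃ (k : J) (t : (F.obj k).presheaf.obj (op U)), (c.ι.app k).hom.app (op U) t = σ := by
  choose i W hxW iW s hs using fun x : U => local_lift F c hc U σ x.1 x.2
  have hsup : (⨆ W' ∈ Set.range W, W') = U := by
    apply le_antisymm
    · refine iSup₂_le ?_
      rintro _ ⟨x, rfl⟩
      exact (iW x).le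
    · intro x hx
      exact Opens.mem_iSup.mpr ⟨W ⟨x, hx⟩, Opens.mem_iSup.mpr ⟨⟨_, rfl⟩, hxW _⟩⟩
  obtain ⟨ι, hι, W', hW', hW'sup, hW'inj⟩ := hfin _ hsup
  choose V' hV'mem hV'le using hW'
  choose x hx using hV'mem
  refine exists_lift_of_cover F c U W' hW'sup hW'inj σ (fun j => ?_)
  have hj : W' j ≤ W (x j) := (hV'le j).trans (le_of_eq (hx j).symm)
  refine ⟨i (x j), (F.obj (i (x j))).presheaf.map (homOfLE hj).op (s (x j)), ?_⟩
  rw [ι_res, hs (x j), res_res']

theorem main {X : TopCat.{u}} {J : Type u} [Preorder J] [Nonempty J] [IsDirected J (· ≤ ·)]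
    (F : J ⥤ X.Sheaf (Type u)) (c : Cocone F) (hc : IsColimit c) (U : Opens X) :
    let ev := TopCat.Sheaf.forget (Type u) X ⋙ (evaluation (Opens X)ᵒᵖ (Type u)).obj (op U)
    let Ψ : colimit (F ⋙ ev) → ev.obj c.pt := colimit.desc (F ⋙ ev) (ev.mapCocone c)
    ((∀ (i j : J) (h : i ⟶ j) (V : Opens X), Function.Injective ((F.map h).1.app (op V))) → Function.Injective Ψ) ∧
    (IsCompact (U : Set X) → Function.Injective Ψ) ∧
    (IsCompact (U : Set X) → (∀ (i j : J) (h : i ⟶ j) (V : Opens X), Function.Injective ((F.map h).1.app (op V))) →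
      Function.Bijective Ψ) ∧
    ((∀ 𝒱 : Set (Opens X), (⨆ V ∈ 𝒱, V) = U →
        ∃ (m : ℕ) (W : Fin m → Opens X), (∀ j, ∃ V ∈ 𝒱, W j ≤ V) ∧ (⨆ j, W j) = U ∧
          ∀ j j', IsCompact ((W j ⊓ W j' : Opens X) : Set X)) →
      Function.Bijective Ψ) := by
  have inj_of : ∀ (hinj : ∀ (i j : J) (h : i ⟶ j) (V : Opens X),
      Function.Injective ((F.map h).1.app (op V))) (V : Opens X), PsiInj F c V := by
    intro hinj V i s t h
    exact ⟨i, 𝟙 i, congrArg _ (eq_of_inj F c hc hinj V i s t h)⟩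
  refine ⟨fun hinj => psi_injective F c U (inj_of hinj U),
    fun hU => psi_injective F c U (psiInj_of_finRef F c hc U (finRef_of_isCompact U hU)),
    fun hU hinj => ⟨psi_injective F c U (inj_of hinj U), psi_surjective F c U (fun σ => ?_)⟩,
    fun hfin => ?_⟩
  · apply lift_of_finRef F c hc U σ
    intro 𝒱 h𝒱
    obtain ⟨ι, hι, W, hW, hWsup⟩ := finRef_of_isCompact U hU 𝒱 h𝒱
    exact ⟨ι, hι, W, hW, hWsup, fun j j' => inj_of hinj _⟩
  · have hfin' : ∀ 𝒱 : Set (Opens X), (⨆ W ∈ 𝒱, W) = U →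
        ∃ (ι : Type u) (_ : Finite ι) (W : ι → Opens X), (∀ j, ∃ V' ∈ 𝒱, W j ≤ V') ∧
          (⨆ j, W j) = U ∧ ∀ j j', PsiInj F c (W j ⊓ W j') := by
      intro 𝒱 h𝒱
      obtain ⟨m, W, hW, hWsup, hWc⟩ := hfin 𝒱 h𝒱
      refine ⟨ULift.{u} (Fin m), inferInstance, fun j => W j.down, fun j => hW j.down, ?_,
        fun j j' => psiInj_of_finRef F c hc _ (finRef_of_isCompact _ (hWc j.down j'.down))⟩
      rw [← hWsup]
      apply le_antisymm
      · exact iSup_le fun j => le_iSup W j.down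
      · exact iSup_le fun j => le_iSup (fun j : ULift.{u} (Fin m) => W j.down) ⟨j⟩
    have hFR : FinRef U := by
      intro 𝒱 h𝒱
      obtain ⟨ι, hι, W, hW, hWsup, -⟩ := hfin' 𝒱 h𝒱
      exact ⟨ι, hι, W, hW, hWsup⟩
    exact ⟨psi_injective F c U (psiInj_of_finRef F c hc U hFR),
      psi_surjective F c U (fun σ => lift_of_finRef F c hc U σ hfin')⟩

/-- Let X be a topological space, I a directed set, (F_i) a system of sheaves of sets on X over I with
colimit F (in sheaves), U ⊆ X open, and Ψ : colim_i F_i(U) → F(U) the canonical map. (1) If all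
transition maps F_i → F_{i'} are injective (on all sections) then Ψ is injective. (2)
Quasi-compactness of U alone already makes Ψ injective. (3) When U is quasi-compact and every
transition map is injective, Ψ is bijective. (4) If every open covering of U can be refined by a
finite open covering U = U_1 ∪ … ∪ U_m with all U_j ∩ U_{j'} quasi-compact, then Ψ is bijective. -/
theorem result {X : TopCat.{u}} {J : Type u} [Preorder J] [Nonempty J] [IsDirected J (· ≤ ·)]
    (F : J ⥤ X.Sheaf (Type u)) (c : Cocone F) (hc : IsColimit c) (U : Opens X) :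
    let ev := TopCat.Sheaf.forget (Type u) X ⋙ (evaluation (Opens X)ᵒᵖ (Type u)).obj (op U)
    let Ψ : colimit (F ⋙ ev) → ev.obj c.pt := colimit.desc (F ⋙ ev) (ev.mapCocone c)
    ((∀ (i j : J) (h : i ⟶ j) (V : Opens X), Function.Injective ((F.map h).1.app (op V))) → Function.Injective Ψ) ∧
    (IsCompact (U : Set X) → Function.Injective Ψ) ∧
    (IsCompact (U : Set X) → (∀ (i j : J) (h : i ⟶ j) (V : Opens X), Function.Injective ((F.map h).1.app (op V))) →
      Function.Bijective Ψ) ∧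
    ((∀ 𝒱 : Set (Opens X), (⨆ V ∈ 𝒱, V) = U →
        ∃ (m : ℕ) (W : Fin m → Opens X), (∀ j, ∃ V ∈ 𝒱, W j ≤ V) ∧ (⨆ j, W j) = U ∧
          ∀ j j', IsCompact ((W j ⊓ W j' : Opens X) : Set X)) →
      Function.Bijective Ψ) := by
  exact main F c hc U

end Groth.Agent.S7575
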