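import Groth.Statements.S8525
import Groth.Agent.Lib.Helper1.EtGerm

set_option autoImplicit false
universe u
open CategoryTheory CategoryTheory.Limits AlgebraicGeometry Opposite
open EtAcyc

namespace Groth.Agent.S8525

open Groth.Agent.H1.EtGerm

theorem main {X : Scheme.{u}} (L : Set ℕ) (F : EtCoh.Ab X) :
    EtAcyc.IsLTorsion L F ↔
      ∀ (Ω : Type u) [Field Ω] [IsSepClosed Ω] (ξ : Spec (CommRingCat.of Ω) ⟶ X)
        (t : (EtCoh.stalk ξ).obj F), ∃ m : ℕ, EtAcyc.PrimesIn L m ∧ m • t = 0 := by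
  constructor
  · intro hF Ω _ _ ξ t
    obtain ⟨U, x, s, rfl⟩ := germ_surjective F t
    obtain ⟨V, g, m, ⟨v, hv⟩, hm, hs⟩ := hF U s (x.hom.base default)
    obtain ⟨y, hy, -⟩ := exists_lift_of_point g x v hv
    refine ⟨m, hm, ?_⟩
    rw [← germ_nsmul, ← hy, ← germ_res, map_nsmul, hs, map_zero]
  · intro h U s x
    obtain ⟨ξ, y, hy⟩ := exists_geomPt_lift U x
    obtain ⟨m, hm, hs⟩ := h _ ξ (germ ξ F U y s)
    rw [← germ_nsmul, germ_eq_zero_iff] at hs
    obtain ⟨V, g, z, hz, hs⟩ := hs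
    refine ⟨V, g, m, ⟨z.hom.base default, ?_⟩, hm, ?_⟩
    · have h1 : (Lift.map g z).hom.base default = x := by rw [hz]; exact hy
      exact h1
    · rw [← map_nsmul]
      exact hs

/-- Let L be a set of primes and F an abelian sheaf on the small etale site of a scheme X. Then F is an
L-torsion sheaf if and only if for every geometric point ξ of X every element of the stalk F_ξ is
killed by a positive integer all of whose prime factors lie in L. -/
theorem result {X : Scheme.{u}} (L : Set ℕ) (F : EtCoh.Ab X) :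
    EtAcyc.IsLTorsion L F ↔
      ∀ (Ω : Type u) [Field Ω] [IsSepClosed Ω] (ξ : Spec (CommRingCat.of Ω) ⟶ X)
        (t : (EtCoh.stalk ξ).obj F), ∃ m : ℕ, EtAcyc.PrimesIn L m ∧ m • t = 0 := by
  exact main L F

end Groth.Agent.S8525
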