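import Groth.Statements.S0073
import Groth.Agent.S0074
import Groth.Prelude.Def_EtCore
import Mathlib.Algebra.Homology.DerivedCategory.Ext.EnoughProjectives
import Mathlib.CategoryTheory.Sites.EpiMono

set_option autoImplicit false
open CategoryTheory CategoryTheory.Limits AlgebraicGeometry Opposite
universe u
open EtBase

namespace Groth.Agent.S0073

theorem ulift_int_hom_ext {A : Type*} [AddCommGroup A] (f g : ULift.{u + 1} ℤ →+ A)
    (h : f ⟨1⟩ = g ⟨1⟩) : f = g := by
  have : f.comp (AddEquiv.ulift (α := ℤ)).symm.toAddMonoidHom =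
      g.comp (AddEquiv.ulift (α := ℤ)).symm.toAddMonoidHom := by
    apply AddMonoidHom.ext_int
    exact h
  ext ⟨n⟩
  exact DFunLike.congr_fun this n

/-- global sections are exact on the spectrum of a strictly henselian local ring: surjectivity -/
theorem sections_surjective_of_epi (R : Type u) [CommRing R] [HenselianLocalRing R]
    [IsSepClosed (IsLocalRing.ResidueField R)] {E G : EtCoh.Ab (Spec (CommRingCat.of R))} (e : E ⟶ G) [Epi e] :
    Function.Surjective (e.hom.app (op (EtCoh.top (Spec (CommRingCat.of R))))) := by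
  let X := Spec (CommRingCat.of R)
  let ξ : Spec (CommRingCat.of (IsLocalRing.ResidueField R)) ⟶ X :=
    Spec.map (CommRingCat.ofHom (IsLocalRing.residue R))
  let Φ := Scheme.pointSmallEtale ξ
  let U₀ : X.Etale := EtCoh.top X
  let x₀ : Φ.fiber.obj U₀ := Over.homMk ξ (Category.comp_id _)
  have : PreservesFilteredColimitsOfSize.{u, u} (forget AddCommGrpCat.{u + 1}) :=
    preservesFilteredColimitsOfSize_shrink.{u, u + 1, u, u + 1} _
  have hE : Function.Bijective (Φ.toPresheafFiber U₀ x₀ E.obj) := Groth.Agent.S0074.result R E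
  have hG : Function.Bijective (Φ.toPresheafFiber U₀ x₀ G.obj) := Groth.Agent.S0074.result R G
  have hls' : Sheaf.IsLocallySurjective e := (Sheaf.isLocallySurjective_iff_epi' (φ := e)).2 inferInstance
  have hls : Presheaf.IsLocallySurjective X.smallEtaleTopology e.hom := hls'
  intro s
  obtain ⟨w, hw⟩ := Φ.toPresheafFiber_map_surjective e.hom (Φ.toPresheafFiber U₀ x₀ G.obj s)
  obtain ⟨t, rfl⟩ := hE.2 w
  refine ⟨t, hG.1 ?_⟩
  rw [← hw]
  exact (Φ.toPresheafFiber_naturality_apply e.hom U₀ x₀ t).symm

/-- Étale cohomology of any abelian sheaf on the spectrum of a strictly henselian local ring vanishes in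
positive degrees. -/
theorem result (R : Type u) [CommRing R] [HenselianLocalRing R]
    [IsSepClosed (IsLocalRing.ResidueField R)] (F : EtCoh.Ab (Spec (CommRingCat.of R)))
    (p : ℕ) (hp : 1 ≤ p) : Subsingleton (EtCoh.H (Spec (CommRingCat.of R)) F p) := by
  let X := Spec (CommRingCat.of R)
  let adj := constantSheafAdj X.smallEtaleTopology AddCommGrpCat.{u + 1} (EtCore.topIsTerminal X)
  let Z : AddCommGrpCat.{u + 1} := AddCommGrpCat.of (ULift.{u + 1} ℤ)
  have hproj : Projective ((constantSheaf X.smallEtaleTopology AddCommGrpCat.{u + 1}).obj Z) := by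
    constructor
    intro E G f e he
    have hsurj := sections_surjective_of_epi R e
    let φ : Z ⟶ G.obj.obj (op (EtCoh.top X)) := adj.homEquiv Z G f
    obtain ⟨t, ht⟩ := hsurj (φ (ULift.up 1))
    let g : Z ⟶ E.obj.obj (op (EtCoh.top X)) :=
      AddCommGrpCat.ofHom ((zmultiplesHom _ t).comp (AddEquiv.ulift (α := ℤ)).toAddMonoidHom)
    have hg : g ≫ e.hom.app (op (EtCoh.top X)) = φ := by
      apply AddCommGrpCat.hom_ext
      apply ulift_int_hom_ext
      change e.hom.app (op (EtCoh.top X)) ((zmultiplesHom _ t) (1 : ℤ)) = φ (ULift.up 1)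
      rw [zmultiplesHom_apply, one_zsmul, ht]
    refine ⟨(adj.homEquiv Z E).symm g, ?_⟩
    have := adj.homEquiv_naturality_right_symm g e
    rw [← this]
    apply (adj.homEquiv Z G).injective
    rw [Equiv.apply_symm_apply]
    exact hg
  obtain ⟨n, rfl⟩ : ∃ n, p = n + 1 := ⟨p - 1, by omega⟩
  exact ⟨fun a b => by
    rw [CategoryTheory.Abelian.Ext.eq_zero_of_projective a,
      CategoryTheory.Abelian.Ext.eq_zero_of_projective b]⟩

end Groth.Agent.S0073
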