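import Groth.Statements.S19130
import Mathlib
import Groth.Agent.S14451
import Groth.Agent.S0073
import Groth.Agent.Lib.Helper21.NormalConst
import Groth.Agent.Lib.Helper21.SepClosedPush
import Groth.Agent.Lib.Helper21.ConstVal
import Groth.Agent.Lib.Helper24.FixedFieldHensel
import Groth.Agent.Lib.Helper27.PullFunEt
-- import your own Groth.Agent.* helpers here

set_option autoImplicit false
universe u
open CategoryTheory CategoryTheory.Limits AlgebraicGeometry Opposite
open EtCoh

namespace Groth.Agent.S19130

section Helpers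

open Groth.Agent.Lib.helper21.ConstVal Groth.Agent.Lib.Helper21.ConstGerm

/-- sections of a constant sheaf over a preconnected object are constant -/
lemma eq_et_of_preconnected {W : Scheme.{u}} {N : AddCommGrpCat.{u + 1}} (T : W.Etale)
    [PreconnectedSpace T.left] (w : T.left) (t : (G W N).obj.obj (op T)) :
    t = et N T (val t w) := by
  apply eq_et_of_val
  intro p
  exact (isLocallyConstant_val t).apply_eq_of_preconnectedSpace p w

lemma et_injective {W : Scheme.{u}} {N : AddCommGrpCat.{u + 1}} (T : W.Etale) (w : T.left) :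
    Function.Injective (et N T) := by
  intro a a' h
  have h1 := congrArg (fun t => val t w) h
  simp only [val_et] at h1
  exact h1

/-- global sections of a constant sheaf on a connected scheme -/
lemma card_sections (Y : Scheme.{u}) [PreconnectedSpace Y] (y : Y) (N : AddCommGrpCat.{u + 1}) :
    Nat.card ((G Y N).obj.obj (op (EtCoh.top Y))) = Nat.card N := by
  haveI : PreconnectedSpace (EtCoh.top Y).left := inferInstanceAs (PreconnectedSpace Y)
  exact (Nat.card_congr (Equiv.ofBijective (et N (EtCoh.top Y))
    ⟨et_injective (EtCoh.top Y) y,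
      fun t => ⟨val t y, (eq_et_of_preconnected (EtCoh.top Y) y t).symm⟩⟩)).symm

/-- the cohomology of the spectrum of a separably closed field vanishes in positive degrees -/
lemma H_subsingleton_sepClosed (Ω : Type u) [Field Ω] [IsSepClosed Ω]
    (F : EtCoh.Ab (Spec (CommRingCat.of Ω))) (i : ℕ) (hi : 1 ≤ i) :
    Subsingleton (EtCoh.H (Spec (CommRingCat.of Ω)) F i) := by
  have hb : Function.Bijective (IsLocalRing.residue Ω) :=
    ⟨(IsLocalRing.residue Ω).injective, IsLocalRing.residue_surjective⟩
  haveI : IsSepClosed (IsLocalRing.ResidueField Ω) :=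
    Groth.Agent.Lib.Helper24.FixedFieldHensel.isSepClosed_of_ringEquiv
      (RingEquiv.ofBijective (IsLocalRing.residue Ω) hb)
  exact Groth.Agent.S0073.result Ω F i hi

/-- vanishing of the cohomology of a direct image from the spectrum of a separably closed field -/
lemma H_push_subsingleton (Ω : Type u) [Field Ω] [IsSepClosed Ω] {Y : Scheme.{u}}
    (g : Spec (CommRingCat.of Ω) ⟶ Y) (F : EtCoh.Ab (Spec (CommRingCat.of Ω))) (i : ℕ)
    (hi : 1 ≤ i) : Subsingleton (EtCoh.H Y ((EtCoh.push g).obj F) i) := by
  have hR : ∀ q : ℕ, 0 < q → Limits.IsZero ((EtCoh.Rpush g q).obj F) := by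
    intro q hq
    obtain ⟨q, rfl⟩ : ∃ q' : ℕ, q = q' + 1 := ⟨q - 1, by omega⟩
    exact Groth.Agent.Lib.Helper21.DerivedComm.isZero_rightDerived_of_exact (EtCoh.push g) q F
  have hb := Groth.Agent.S14451.result g F hR i
  haveI := H_subsingleton_sepClosed Ω F i hi
  exact hb.1.subsingleton

end Helpers

/-- Let p be a prime and Y an integral scheme which is normal (every local ring is integrally closed in
its fraction field) and whose function field is algebraically closed. Then the étale cohomology of
the constant sheaf Z/p on Y is Z/p in degree 0 and vanishes in positive degrees: H^0(Y_et, Z/p) has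
exactly p elements and H^i(Y_et, Z/p) = 0 for i > 0. Moreover, for every nonempty open subscheme j :
U → Y, the unit morphism from the constant sheaf Z/p on Y_et to j_* of its restriction to U is an
isomorphism. -/
theorem result
    (p : ℕ) [Fact p.Prime] (Y : Scheme.{u}) [IsIntegral Y]
    (hnorm : ∀ y : Y, IsIntegrallyClosed (Y.presheaf.stalk y)) [IsAlgClosed Y.functionField] :
    Nat.card (EtCoh.H Y (EtCoh.const Y (ZMod p)) 0) = p ∧
      (∀ i : ℕ, 0 < i → Subsingleton (EtCoh.H Y (EtCoh.const Y (ZMod p)) i)) ∧
      ∀ U : Y.Opens, (U : Set Y).Nonempty →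
        IsIso ((EtCoh.pullPushAdj U.ι).unit.app (EtCoh.const Y (ZMod p))) := by
  have hY : Pi1.IsNormalScheme Y := fun y => ⟨inferInstance, hnorm y⟩
  refine ⟨?_, ?_, ?_⟩
  · have e := (Sheaf.H.equiv₀ (EtCoh.const Y (ZMod p)) (EtCore.topIsTerminal Y)).toEquiv
    rw [Nat.card_congr e]
    haveI : IrreducibleSpace Y := inferInstance
    haveI : PreconnectedSpace Y := inferInstance
    refine (card_sections Y (genericPoint Y) _).trans ?_
    rw [Nat.card_congr Equiv.ulift, Nat.card_zmod]
  · intro i hi
    haveI := Groth.Agent.Lib.helper21.NormalConst.isIso_unit_fromSpecStalk Y hY (ZMod p)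
    let g : Spec (CommRingCat.of Y.functionField) ⟶ Y := Y.fromSpecStalk (genericPoint Y)
    have e : EtCoh.const Y (ZMod p) ≅
        (EtCoh.push g).obj ((EtCoh.pull g).obj (EtCoh.const Y (ZMod p))) :=
      asIso ((EtCoh.pullPushAdj (Y.fromSpecStalk (genericPoint Y))).unit.app
        (EtCoh.const Y (ZMod p)))
    have hsub := H_push_subsingleton Y.functionField g
      ((EtCoh.pull g).obj (EtCoh.const Y (ZMod p))) i hi
    have e' := (EtCoh.HF Y i).mapIso e
    have hb : Function.Bijective (ConcreteCategory.hom e'.hom) :=
      (ConcreteCategory.isIso_iff_bijective _).mp inferInstance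
    haveI : Subsingleton ↑((EtCoh.HF Y i).obj ((EtCoh.push g).obj
        ((EtCoh.pull g).obj (EtCoh.const Y (ZMod p))))) := hsub
    exact hb.1.subsingleton
  · intro U hU
    exact Groth.Agent.Lib.helper21.NormalConst.isIso_unit_opens Y hY U hU (ZMod p)

end Groth.Agent.S19130
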