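import Groth.Statements.S0124
import Groth.Agent.Lib.Helper1.EtMulSeq

set_option autoImplicit false
universe u
open CategoryTheory CategoryTheory.Limits AlgebraicGeometry Opposite
open EtPBC

namespace Groth.Agent.S0124

open Groth.Agent.H1.EtFiltH

theorem main (X : Scheme.{u}) [CompactSpace X] [QuasiSeparatedSpace X]
    (F : EtCoh.Ab X) (hF : EtCoh.IsTorsion F) (n : ℕ) :
    IsAddTorsion (EtCoh.H X F n) := by
  intro x
  obtain ⟨k, hk⟩ := exists_prod_smul_eq_zero F (fun i => ((i : ℤ) + 1)) (by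
    intro U _ t e k
    obtain ⟨V, g, ⟨v, hv⟩, hfin⟩ := hF U t e
    obtain ⟨m, hm0, hm⟩ := isOfFinAddOrder_iff_nsmul_eq_zero.mp hfin
    refine ⟨V, g, m * (k + 1), ⟨v, hv⟩, ?_, ?_⟩
    · nlinarith
    · have hmem : m * (k + 1) - 1 ∈ Finset.Ico k (m * (k + 1)) := by
        rw [Finset.mem_Ico]
        constructor
        · have : k + 1 ≤ m * (k + 1) := by nlinarith
          omega
        · have : 0 < m * (k + 1) := by positivity
          omega
      have hdvd : (m : ℤ) ∣ ∏ i ∈ Finset.Ico k (m * (k + 1)), ((i : ℤ) + 1) := by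
        refine dvd_trans ?_ (Finset.dvd_prod_of_mem (fun i : ℕ => ((i : ℤ) + 1)) hmem)
        have h1 : ((m * (k + 1) - 1 : ℕ) : ℤ) + 1 = (m : ℤ) * ((k : ℤ) + 1) := by
          have : 0 < m * (k + 1) := by positivity
          have h2 : m * (k + 1) - 1 + 1 = m * (k + 1) := by omega
          exact_mod_cast h2
        rw [h1]
        exact dvd_mul_right _ _
      obtain ⟨q, hq⟩ := hdvd
      rw [hq, mul_comm, mul_smul, natCast_zsmul, hm, smul_zero]) n x
  have hcast : (∏ i ∈ Finset.Ico 0 k, ((i : ℤ) + 1)) = ((∏ i ∈ Finset.Ico 0 k, (i + 1) : ℕ) : ℤ) := by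
    push_cast
    rfl
  rw [hcast, natCast_zsmul] at hk
  exact isOfFinAddOrder_iff_nsmul_eq_zero.mpr
    ⟨_, Finset.prod_pos (fun i _ => Nat.succ_pos i), hk⟩

/-- Part (1): if X is quasi-compact and quasi-separated and F is a torsion abelian sheaf on X_et, then
H^n(X_et, F) is a torsion abelian group for every n. -/
theorem result (X : Scheme.{u}) [CompactSpace X] [QuasiSeparatedSpace X]
    (F : EtCoh.Ab X) (hF : EtCoh.IsTorsion F) (n : ℕ) :
    IsAddTorsion (EtCoh.H X F n) := by
  exact main X F hF n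

end Groth.Agent.S0124
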