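import Groth.Statements.S15315

set_option autoImplicit false
universe u
open ArLef

namespace Groth.Agent.S15315

/-- For a Noetherian commutative ring A, elements a, b with a a non-zero-divisor on A/(b), and an ideal
I, one has length(A/(aI + bA)) = length(A/(a, b)) + length(A/(I + bA)) as extended natural numbers;
in particular when two of the three quotients have finite length so does the third. -/
theorem result (A : Type u) [CommRing A] [IsNoetherianRing A] (a b : A) (I : Ideal A)
    (ha : IsSMulRegular (A ⧸ Ideal.span ({b} : Set A)) a) :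
    Module.length A (A ⧸ (Ideal.span {a} * I ⊔ Ideal.span {b})) =
      Module.length A (A ⧸ Ideal.span ({a, b} : Set A)) + Module.length A (A ⧸ (I ⊔ Ideal.span {b})) := by
  -- the three ideals
  set J₁ : Ideal A := I ⊔ Ideal.span {b} with hJ₁
  set J₂ : Ideal A := Ideal.span {a} * I ⊔ Ideal.span {b} with hJ₂
  set J₃ : Ideal A := Ideal.span ({a, b} : Set A) with hJ₃
  have hb₂ : b ∈ J₂ := Ideal.mem_sup_right (Ideal.mem_span_singleton_self b)
  -- multiplication by `a` sends J₁ into J₂
  have h12 : J₁ ≤ Submodule.comap (LinearMap.lsmul A A a) J₂ := by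
    intro x hx
    obtain ⟨i, hi, c, hc, rfl⟩ := Submodule.mem_sup.mp hx
    change a • (i + c) ∈ J₂
    rw [smul_add]
    refine J₂.add_mem (Ideal.mem_sup_left ?_) ?_
    · exact Ideal.mul_mem_mul (Ideal.mem_span_singleton_self a) hi
    · obtain ⟨d, rfl⟩ := Ideal.mem_span_singleton'.mp hc
      change a * (d * b) ∈ J₂
      rw [← mul_assoc]
      exact J₂.mul_mem_left _ hb₂
  have h23 : J₂ ≤ J₃ := by
    refine sup_le ?_ ?_
    · refine Ideal.mul_le.mpr fun r hr s _ => ?_
      obtain ⟨d, rfl⟩ := Ideal.mem_span_singleton'.mp hr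
      rw [mul_assoc, mul_comm a, ← mul_assoc]
      exact J₃.mul_mem_left _ (Ideal.subset_span (by simp))
    · rw [Ideal.span_le]
      rintro x rfl
      exact Ideal.subset_span (by simp)
  let f : (A ⧸ J₁) →ₗ[A] (A ⧸ J₂) := Submodule.mapQ J₁ J₂ (LinearMap.lsmul A A a) h12
  let g : (A ⧸ J₂) →ₗ[A] (A ⧸ J₃) := Submodule.mapQ J₂ J₃ LinearMap.id h23
  have hf : Function.Injective f := by
    rw [← LinearMap.ker_eq_bot, LinearMap.ker_eq_bot']
    intro x hx
    obtain ⟨y, rfl⟩ := Submodule.Quotient.mk_surjective _ x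
    have hx' : a * y ∈ J₂ := by
      have : f (Submodule.Quotient.mk y) = Submodule.Quotient.mk (a • y) := rfl
      rw [this, Submodule.Quotient.mk_eq_zero] at hx
      exact hx
    rw [Submodule.Quotient.mk_eq_zero]
    obtain ⟨p, hp, c, hc, hpc⟩ := Submodule.mem_sup.mp hx'
    -- p ∈ (a) * I means p = a * i with i ∈ I
    have hp' : ∃ i ∈ I, p = a * i := by
      obtain ⟨i, hi, rfl⟩ := Ideal.mem_span_singleton_mul.mp hp
      exact ⟨i, hi, rfl⟩
    obtain ⟨i, hi, rfl⟩ := hp'
    -- a * (y - i) ∈ (b)
    have h1 : a * (y - i) ∈ Ideal.span ({b} : Set A) := by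
      have : a * (y - i) = c := by rw [mul_sub, ← hpc]; ring
      rw [this]; exact hc
    have h2 : (Ideal.Quotient.mk (Ideal.span ({b} : Set A)) (y - i)) = 0 := by
      apply ha
      change a • (Ideal.Quotient.mk (Ideal.span ({b} : Set A)) (y - i)) = a • 0
      rw [smul_zero, ← Ideal.Quotient.mk_eq_mk, ← Submodule.Quotient.mk_smul,
        Ideal.Quotient.mk_eq_mk, Ideal.Quotient.eq_zero_iff_mem]
      exact h1
    rw [Ideal.Quotient.eq_zero_iff_mem] at h2
    have : y = i + (y - i) := by ring
    rw [this]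
    exact J₁.add_mem (Ideal.mem_sup_left hi) (Ideal.mem_sup_right h2)
  have hg : Function.Surjective g := by
    intro x
    obtain ⟨y, rfl⟩ := Submodule.Quotient.mk_surjective _ x
    exact ⟨Submodule.Quotient.mk y, rfl⟩
  have hex : Function.Exact f g := by
    intro x
    constructor
    · intro hx
      obtain ⟨y, rfl⟩ := Submodule.Quotient.mk_surjective _ x
      have hy : y ∈ J₃ := by
        have : g (Submodule.Quotient.mk y) = Submodule.Quotient.mk y := rfl
        rw [this, Submodule.Quotient.mk_eq_zero] at hx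
        exact hx
      obtain ⟨c, d, rfl⟩ := Ideal.mem_span_pair.mp hy
      refine ⟨Submodule.Quotient.mk c, ?_⟩
      change Submodule.Quotient.mk (a • c) = Submodule.Quotient.mk (c * a + d * b)
      rw [Submodule.Quotient.eq]
      have : a • c - (c * a + d * b) = -(d * b) := by simp [smul_eq_mul]; ring
      rw [this]
      exact J₂.neg_mem (J₂.mul_mem_left _ hb₂)
    · rintro ⟨y, rfl⟩
      obtain ⟨z, rfl⟩ := Submodule.Quotient.mk_surjective _ y
      change Submodule.Quotient.mk (a • z) = 0
      rw [Submodule.Quotient.mk_eq_zero]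
      change a * z ∈ J₃
      rw [mul_comm]
      exact J₃.mul_mem_left _ (Ideal.subset_span (by simp))
  rw [Module.length_eq_add_of_exact f g hf hg hex, add_comm]

end Groth.Agent.S15315
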