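import Groth.Statements.S13359
import Mathlib

set_option autoImplicit false
universe u
open UltraProd

namespace Groth.Agent.S13359

section helpers

section

variable {ι : Type u} (R : ι → Type u) [∀ i, CommRing (R i)]

open Classical in
/-- The idempotent of the product ring attached to a set of indices. -/
noncomputable def idem (E : Set ι) : ∀ i, R i := fun i => if i ∈ E then 1 else 0

theorem idem_add_compl (E : Set ι) : idem R E + idem R Eᶜ = 1 := by
  funext i
  by_cases h : i ∈ E <;> simp [idem, h]

theorem idem_or_compl (P : Ideal (∀ i, R i)) (hP : P ≠ ⊤) (E : Set ι) :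
    idem R E ∉ P ∨ idem R Eᶜ ∉ P := by
  by_contra h
  rw [not_or, not_not, not_not] at h
  apply hP
  rw [Ideal.eq_top_iff_one, ← idem_add_compl R E]
  exact P.add_mem h.1 h.2

/-- componentwise integrality -/
theorem comp_int {A : Type u} [CommRing A] [IsDomain A] [IsIntegrallyClosed A]
    (G : Polynomial A) (hG : G.Monic) (x y : A) (hy : y ≠ 0)
    (h : ∑ j ∈ Finset.range (G.natDegree + 1), G.coeff j * x ^ j * y ^ (G.natDegree - j) = 0) :
    ∃ w, x = w * y := by
  let K := FractionRing A
  have hyK : algebraMap A K y ≠ 0 := by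
    intro h0
    apply hy
    apply IsFractionRing.injective A K
    rw [h0, map_zero]
  have hint : IsIntegral A (algebraMap A K x / algebraMap A K y) := by
    refine ⟨G, hG, ?_⟩
    rw [Polynomial.eval₂_eq_sum_range]
    have h1 := congrArg (algebraMap A K) h
    rw [map_sum, map_zero] at h1
    have h2 : (∑ j ∈ Finset.range (G.natDegree + 1),
        algebraMap A K (G.coeff j) * (algebraMap A K x / algebraMap A K y) ^ j) *
          (algebraMap A K y) ^ G.natDegree = 0 := by
      rw [Finset.sum_mul]
      refine Eq.trans ?_ h1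
      apply Finset.sum_congr rfl
      intro j hj
      have hj' : j ≤ G.natDegree := Nat.lt_succ_iff.mp (Finset.mem_range.mp hj)
      rw [map_mul, map_mul, map_pow, map_pow, div_pow]
      have : (algebraMap A K y) ^ G.natDegree =
          (algebraMap A K y) ^ j * (algebraMap A K y) ^ (G.natDegree - j) := by
        rw [← pow_add]; congr 1; omega
      rw [this, mul_assoc, ← mul_assoc (_ / _), div_mul_cancel₀ _ (pow_ne_zero j hyK), mul_assoc]
    exact (mul_eq_zero.mp h2).resolve_right (pow_ne_zero _ hyK)
  obtain ⟨w, hw⟩ := IsIntegrallyClosed.isIntegral_iff.mp hint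
  refine ⟨w, ?_⟩
  apply IsFractionRing.injective A K
  rw [map_mul, hw]
  exact (div_mul_cancel₀ _ hyK).symm

end


end helpers

/-- If (R_i) is a nonempty family of integrally closed domains, then the localization of the product
ring ∏ R_i at any prime ideal is an integrally closed domain. -/
theorem result {ι : Type u} [Nonempty ι] (R : ι → Type u)
    [∀ i, CommRing (R i)] [∀ i, IsDomain (R i)] [∀ i, IsIntegrallyClosed (R i)]
    (P : Ideal (∀ i, R i)) [P.IsPrime] :
    IsDomain (Localization.AtPrime P) ∧ IsIntegrallyClosed (Localization.AtPrime P) := by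
  classical
  set S := Localization.AtPrime P with hS
  have hPtop : P ≠ ⊤ := Ideal.IsPrime.ne_top inferInstance
  have hdom : IsDomain S := by
    have : Nontrivial S := inferInstance
    have hnzd : NoZeroDivisors S := by
      refine ⟨fun {x y} hxy => ?_⟩
      obtain ⟨⟨a, s⟩, rfl⟩ := IsLocalization.mk'_surjective P.primeCompl x
      obtain ⟨⟨b, t⟩, rfl⟩ := IsLocalization.mk'_surjective P.primeCompl y
      simp only at hxy ⊢
      rw [← IsLocalization.mk'_mul, IsLocalization.mk'_eq_zero_iff] at hxy
      obtain ⟨w, hw⟩ := hxy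
      set E : Set ι := {i | a i = 0} with hE
      rcases idem_or_compl R P hPtop E with h | h
      · left
        rw [IsLocalization.mk'_eq_zero_iff]
        refine ⟨⟨idem R E, h⟩, ?_⟩
        funext i
        by_cases hi : i ∈ E
        · have : a i = 0 := hi
          simp [this]
        · simp [idem, hi]
      · right
        rw [IsLocalization.mk'_eq_zero_iff]
        refine ⟨⟨idem R Eᶜ, h⟩ * w, ?_⟩
        funext i
        have hwi : (w : ∀ i, R i) i * (a i * b i) = 0 := congrFun hw i
        by_cases hi : i ∈ E
        · simp [idem, hi]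
        · have hai : a i ≠ 0 := hi
          have : (w : ∀ i, R i) i * b i = 0 := by
            rcases mul_eq_zero.mp hwi with h1 | h1
            · rw [h1, zero_mul]
            · rcases mul_eq_zero.mp h1 with h2 | h2
              · exact absurd h2 hai
              · rw [h2, mul_zero]
          simp [idem, hi, this]
    exact NoZeroDivisors.to_isDomain S
  refine ⟨hdom, ?_⟩
  let F := FractionRing S
  rw [isIntegrallyClosed_iff F]
  intro z hz
  let A := ∀ i, R i
  let ι' : A →+* F := algebraMap A F
  have hι : ∀ x, ι' x = algebraMap S F (algebraMap A S x) := fun x =>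
    IsScalarTower.algebraMap_apply A S F x
  have hinj : Function.Injective (algebraMap S F) := IsFractionRing.injective S F
  obtain ⟨u, hu⟩ := IsIntegral.exists_multiple_integral_of_isLocalization P.primeCompl (Rₘ := S) z hz
  obtain ⟨G, hGm, hG⟩ := hu
  obtain ⟨a, b, hab⟩ := IsLocalization.exists_mk'_eq (nonZeroDivisors S) z
  obtain ⟨c, s, hcs⟩ := IsLocalization.exists_mk'_eq P.primeCompl a
  obtain ⟨d, t, hdt⟩ := IsLocalization.exists_mk'_eq P.primeCompl (b : S)
  have hz1 : z * ι' (d * s) = ι' (c * t) := by
    have h1 : z * algebraMap S F b = algebraMap S F a := by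
      rw [← hab]; exact IsLocalization.mk'_spec F a b
    have h2 : a * algebraMap A S s = algebraMap A S c := by
      rw [← hcs]; exact IsLocalization.mk'_spec S c s
    have h3 : (b : S) * algebraMap A S t = algebraMap A S d := by
      rw [← hdt]; exact IsLocalization.mk'_spec S d t
    rw [hι, hι, map_mul (algebraMap A S), map_mul (algebraMap A S), ← h3, ← h2]
    simp only [map_mul]
    rw [← h1]
    ring
  have hd0 : ι' (d * s) ≠ 0 := by
    intro h0
    have h1 : algebraMap A S (d * s) = 0 := by
      apply hinj; rw [← hι, h0, map_zero]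
    have h3 : (b : S) * algebraMap A S t = algebraMap A S d := by
      rw [← hdt]; exact IsLocalization.mk'_spec S d t
    rw [map_mul, ← h3] at h1
    have hb : (b : S) ≠ 0 := nonZeroDivisors.coe_ne_zero b
    have ht : algebraMap A S t ≠ 0 := (IsLocalization.map_units S t).ne_zero
    have hs : algebraMap A S s ≠ 0 := (IsLocalization.map_units S s).ne_zero
    exact mul_ne_zero (mul_ne_zero hb ht) hs h1
  set d₁ := d * s with hd₁
  set c₁ := c * t with hc₁
  set n := G.natDegree with hn
  set Hom : A := ∑ j ∈ Finset.range (n + 1), G.coeff j * ((u : A) * c₁) ^ j * d₁ ^ (n - j) with hHom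
  have hHom0 : ι' Hom = 0 := by
    have h1 : ι' Hom = (∑ j ∈ Finset.range (n + 1), ι' (G.coeff j) * (ι' u * z) ^ j) * ι' d₁ ^ n := by
      rw [hHom, map_sum, Finset.sum_mul]
      apply Finset.sum_congr rfl
      intro j hj
      have hj' : j ≤ n := Nat.lt_succ_iff.mp (Finset.mem_range.mp hj)
      rw [map_mul, map_mul, map_pow, map_pow, map_mul, ← hz1]
      have : ι' d₁ ^ n = ι' d₁ ^ j * ι' d₁ ^ (n - j) := by
        rw [← pow_add]; congr 1; omega
      rw [this]
      ring
    rw [h1]
    have h2 : (∑ j ∈ Finset.range (n + 1), ι' (G.coeff j) * (ι' u * z) ^ j) = 0 := by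
      rw [Polynomial.eval₂_eq_sum_range] at hG
      rw [Submonoid.smul_def, Algebra.smul_def] at hG
      exact hG
    rw [h2, zero_mul]
  have hHomS : algebraMap A S Hom = 0 := by
    apply hinj; rw [← hι, hHom0, map_zero]
  rw [IsLocalization.map_eq_zero_iff P.primeCompl] at hHomS
  obtain ⟨v, hv⟩ := hHomS
  set E : Set ι := {i | (v : A) i ≠ 0 ∧ d₁ i ≠ 0} with hE
  have hw : ∀ i, ∃ w : R i, i ∈ E → (u : A) i * c₁ i = w * d₁ i := by
    intro i
    by_cases hi : i ∈ E
    · obtain ⟨hvi, hdi⟩ := hi
      have h1 : (v : A) i * Hom i = 0 := congrFun hv i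
      have h2 : Hom i = 0 := (mul_eq_zero.mp h1).resolve_left hvi
      have hGi : (G.map (Pi.evalRingHom R i)).Monic := hGm.map _
      have hnat : (G.map (Pi.evalRingHom R i)).natDegree = n := hGm.natDegree_map _
      obtain ⟨w, hw⟩ := comp_int (G.map (Pi.evalRingHom R i)) hGi ((u : A) i * c₁ i) (d₁ i) hdi (by
        rw [hnat, ← h2, hHom, Finset.sum_apply]
        apply Finset.sum_congr rfl
        intro j _
        rw [Polynomial.coeff_map]
        rfl)
      exact ⟨w, fun _ => hw⟩
    · exact ⟨0, fun h => absurd h hi⟩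
  choose w hw using hw
  have hEc : idem R Eᶜ ∈ P := by
    have h1 : idem R Eᶜ * ((v : A) * d₁) = 0 := by
      funext i
      by_cases hi : i ∈ E
      · simp [idem, hi]
      · have : (v : A) i = 0 ∨ d₁ i = 0 := by
          by_contra hcon
          push Not at hcon
          exact hi ⟨hcon.1, hcon.2⟩
        rcases this with h | h <;> simp [idem, hi, h]
    have h2 := congrArg (algebraMap A S) h1
    rw [map_mul, map_mul, map_zero] at h2
    have hv0 : algebraMap A S v ≠ 0 := (IsLocalization.map_units S v).ne_zero
    have hd10 : algebraMap A S d₁ ≠ 0 := by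
      intro h0; apply hd0; rw [hι, h0, map_zero]
    have h3 : algebraMap A S (idem R Eᶜ) = 0 :=
      (mul_eq_zero.mp h2).resolve_right (mul_ne_zero hv0 hd10)
    rw [IsLocalization.map_eq_zero_iff P.primeCompl] at h3
    obtain ⟨m, hm⟩ := h3
    have : (m : A) * idem R Eᶜ ∈ P := hm ▸ P.zero_mem
    exact (Ideal.IsPrime.mem_or_mem inferInstance this).resolve_left m.2
  have hEP : idem R E ∉ P := (idem_or_compl R P hPtop E).resolve_right (fun h => h hEc)
  have hfin : algebraMap A S ((u : A) * c₁) = algebraMap A S (w * d₁) := by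
    rw [IsLocalization.eq_iff_exists P.primeCompl]
    refine ⟨⟨idem R E, hEP⟩, ?_⟩
    funext i
    by_cases hi : i ∈ E
    · simp [idem, hi, hw i hi]
    · simp [idem, hi]
  refine ⟨IsLocalization.mk' S w u, ?_⟩
  have h2 : ι' (u : A) ≠ 0 := by
    rw [hι]
    intro h0
    have := hinj (h0.trans (map_zero _).symm)
    exact (IsLocalization.map_units S u).ne_zero this
  apply mul_left_cancel₀ h2
  apply mul_right_cancel₀ hd0
  have h5 : ι' (u : A) * z * ι' d₁ = ι' ((u : A) * c₁) := by
    rw [map_mul ι' (u : A) c₁, ← hz1]; ring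
  have h6 : algebraMap A S (u : A) * IsLocalization.mk' S w u = algebraMap A S w := by
    rw [mul_comm]; exact IsLocalization.mk'_spec S w u
  rw [h5, hι ((u : A) * c₁), hfin, hι (u : A), hι d₁, ← map_mul, ← map_mul, h6, ← map_mul]

end Groth.Agent.S13359
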