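import Groth.Statements.S2211
import Mathlib
-- import your own Groth.Agent.* helpers here

set_option autoImplicit false
universe u
open DPow

namespace Groth.Agent.S2211

theorem not_dvd_choose (p : ℕ) (hp : p.Prime) (q r : ℕ) (hr : r < p) :
    ¬ p ∣ Nat.choose (r + q * p) r := by
  haveI : Fact p.Prime := ⟨hp⟩
  have h := Choose.choose_modEq_choose_mod_mul_choose_div_nat (n := r + q * p) (k := r) (p := p)
  have h1 : (r + q * p) % p = r := by rw [Nat.add_mul_mod_self_right, Nat.mod_eq_of_lt hr]
  have h2 : (r + q * p) / p = q := by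
    rw [Nat.add_mul_div_right _ _ hp.pos, Nat.div_eq_of_lt hr, zero_add]
  rw [h1, h2, Nat.mod_eq_of_lt hr, Nat.div_eq_of_lt hr, Nat.choose_self, Nat.choose_zero_right,
    mul_one] at h
  intro hdvd
  have := (Nat.modEq_zero_iff_dvd.mpr hdvd).symm.trans h
  have h3 : p ∣ 1 := (Nat.modEq_zero_iff_dvd.mp this.symm)
  exact hp.one_lt.ne' (Nat.dvd_one.mp h3)

theorem not_dvd_uniformBell (p : ℕ) (hp : p.Prime) (q : ℕ) : ¬ p ∣ Nat.uniformBell q p := by
  rw [Nat.uniformBell_eq]
  intro hdvd
  obtain ⟨i, _, hi⟩ := (Nat.Prime.prime hp).exists_mem_finset_dvd hdvd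
  have : i * p + p - 1 = (p - 1) + i * p := by
    have := hp.pos
    omega
  rw [this] at hi
  exact not_dvd_choose p hp i (p - 1) (Nat.sub_lt hp.pos one_pos) hi

/-- First part: let p be a prime and A a ring in which every integer prime to p is invertible, I an
ideal of A. Two divided power structures on I coincide exactly when their p-th divided power maps
agree on I. -/
theorem result {A : Type u} [CommRing A] (p : ℕ) (hp : p.Prime)
    (hA : ∀ n : ℕ, ¬ p ∣ n → IsUnit (n : A)) {I : Ideal A} (γ γ' : DividedPowers I) :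
    γ = γ' ↔ ∀ x ∈ I, γ.dpow p x = γ'.dpow p x := by
  constructor
  · rintro rfl x _
    rfl
  intro h
  refine DividedPowers.ext _ _ ?_
  intro n
  induction n using Nat.strong_induction_on with
  | _ n ih =>
    intro x hx
    by_cases hn : n < p
    · have hu : IsUnit ((n.factorial : ℕ) : A) := hA _ (by
        rw [hp.dvd_factorial]; exact not_le.mpr hn)
      apply hu.mul_left_cancel
      rw [γ.factorial_mul_dpow_eq_pow hx, γ'.factorial_mul_dpow_eq_pow hx]
    · rw [not_lt] at hn
      set q := n / p with hq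
      set r := n % p with hr
      have hnqr : n = r + q * p := by rw [hq, hr]; exact (Nat.mod_add_div' n p).symm
      have hrp : r < p := Nat.mod_lt _ hp.pos
      have hq1 : 1 ≤ q := (Nat.one_le_div_iff hp.pos).mpr hn
      have hqn : q < n := Nat.div_lt_self (by omega) hp.one_lt
      have hrn : r < n := lt_of_lt_of_le hrp hn
      have hu1 : IsUnit ((Nat.choose (r + q * p) r : ℕ) : A) := hA _ (not_dvd_choose p hp q r hrp)
      have hu2 : IsUnit ((Nat.uniformBell q p : ℕ) : A) := hA _ (not_dvd_uniformBell p hp q)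
      have e1 : ∀ δ : DividedPowers I, ((Nat.choose (r + q * p) r : ℕ) : A) *
          (((Nat.uniformBell q p : ℕ) : A) * δ.dpow n x) = δ.dpow r x * δ.dpow q (δ.dpow p x) := by
        intro δ
        rw [δ.dpow_comp hp.ne_zero hx, hnqr]
        have := δ.mul_dpow (m := r) (n := q * p) hx
        linear_combination (-(Nat.uniformBell q p : A)) * this
      apply hu2.mul_left_cancel
      apply hu1.mul_left_cancel
      rw [e1 γ, e1 γ', ih r hrn hx, h x hx, ih q hqn (γ'.dpow_mem hp.ne_zero hx)]

end Groth.Agent.S2211
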