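import Groth.Statements.S6860
import Mathlib

set_option autoImplicit false
universe u
open Smoothing

namespace Groth.Agent.S6860

section helpers
open MvPolynomial

variable {A : Type u} [CommRing A]

lemma sub_C_aeval_mem {n : ℕ} (e : Fin n → A) (p : MvPolynomial (Fin n) A) :
    p - C (aeval e p) ∈ Ideal.span (Set.range fun i => (X i - C (e i) : MvPolynomial (Fin n) A)) := by
  induction p using MvPolynomial.induction_on with
  | C a => simp
  | add p q hp hq =>
    have : p + q - C (aeval e (p + q)) = (p - C (aeval e p)) + (q - C (aeval e q)) := by
      rw [map_add, map_add]; ring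
    rw [this]
    exact Ideal.add_mem _ hp hq
  | mul_X p i hp =>
    have : p * X i - C (aeval e (p * X i)) =
        (p - C (aeval e p)) * X i + C (aeval e p) * (X i - C (e i)) := by
      rw [map_mul, aeval_X, map_mul]; ring
    rw [this]
    exact Ideal.add_mem _ (Ideal.mul_mem_right _ _ hp)
      (Ideal.mul_mem_left _ _ (Ideal.subset_span ⟨i, rfl⟩))

noncomputable def preQ {n : ℕ} (e : Fin n → A) :
    Algebra.PreSubmersivePresentation A A (Fin n) (Fin n) where
  val := e
  σ' := fun a => C a
  aeval_val_σ' := by intro s; simp
  relation := fun i => X i - C (e i)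
  span_range_relation_eq_ker := by
    apply le_antisymm
    · rw [Ideal.span_le]
      rintro _ ⟨i, rfl⟩
      change _ ∈ RingHom.ker _
      rw [RingHom.mem_ker]
      change aeval e (X i - C (e i)) = 0
      simp
    · intro p hp
      have h0 : aeval e p = 0 := hp
      have := sub_C_aeval_mem e p
      rwa [h0, map_zero, sub_zero] at this
  map := id
  map_inj := Function.injective_id

lemma preQ_jacobiMatrix {n : ℕ} (e : Fin n → A) : (preQ e).jacobiMatrix = 1 := by
  apply Matrix.ext
  intro i j
  rw [Algebra.PreSubmersivePresentation.jacobiMatrix_apply]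
  change pderiv i (X j - C (e j)) = _
  simp [Matrix.one_apply, pderiv_X, Pi.single_apply, eq_comm]

noncomputable def Q {n : ℕ} (e : Fin n → A) : Algebra.SubmersivePresentation A A (Fin n) (Fin n) where
  __ := preQ e
  jacobian_isUnit := by
    rw [Algebra.PreSubmersivePresentation.jacobian_eq_jacobiMatrix_det, preQ_jacobiMatrix,
      Matrix.det_one, map_one]
    exact isUnit_one



end helpers

/-- Let R → A be standard smooth and E ⊆ A a finite subset. Then A admits a standard smooth presentation
A = R[x₁, …, x_N]/(f₁, …, f_c) (a submersive presentation: finitely many generators and relations,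
an injection from the relations to the variables picking the distinguished variables, and the
Jacobian of the relations with respect to the distinguished variables invertible in A) in which
every element of E is the class of a distinguished variable. (The published statement arranges E to
be exactly the classes of the first n = |E| variables, all of them distinguished, with c ≥ n; this
row states that E is contained in the set of classes of the distinguished variables, which is what
that arrangement gives.) -/
theorem result {R A : Type u} [CommRing R] [CommRing A] [Algebra R A]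
    [Algebra.IsStandardSmooth R A] (E : Finset A) :
    ∃ (ι σ : Type) (_ : Finite ι) (_ : Finite σ) (P : Algebra.SubmersivePresentation R A ι σ),
      (↑E : Set A) ⊆ Set.range (P.val ∘ P.map) := by
  classical
  obtain ⟨ι, σ, hσ, hι, ⟨P⟩⟩ := (Algebra.IsStandardSmooth.out : ∃ (ι σ : Type) (_ : Finite σ), Finite ι ∧ Nonempty (Algebra.SubmersivePresentation R A ι σ))
  let n := E.card
  let e : Fin n → A := fun i => (E.equivFin.symm i : A)
  refine ⟨Fin n ⊕ ι, Fin n ⊕ σ, inferInstance, inferInstance, (Q e).comp P, ?_⟩
  intro a ha
  refine ⟨Sum.inl (E.equivFin ⟨a, ha⟩), ?_⟩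
  change ((Q e).comp P).val (((Q e).comp P).map (Sum.inl (E.equivFin ⟨a, ha⟩))) = a
  have h1 : ((Q e).comp P).map (Sum.inl (E.equivFin ⟨a, ha⟩)) = Sum.inl (E.equivFin ⟨a, ha⟩) := rfl
  rw [h1]
  have h2 : ((Q e).comp P).val (Sum.inl (E.equivFin ⟨a, ha⟩)) = e (E.equivFin ⟨a, ha⟩) := rfl
  rw [h2]
  simp [e]


end Groth.Agent.S6860
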