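import Groth.Statements.S2030
import Mathlib
import Groth.Agent.Lib.Helper7.SmoothingStd
-- import your own Groth.Agent.* helpers here

set_option autoImplicit false
universe u
open Smoothing

namespace Groth.Agent.S2030

section aux

open Module in
theorem stablyFree_of_minors {S : Type u} [CommRing S] {K F Ω : Type u} [AddCommGroup K]
    [Module S K] [AddCommGroup F] [Module S F] [AddCommGroup Ω] [Module S Ω]
    {ι σ T : Type} [Fintype ι] [DecidableEq ι] [Fintype σ] [DecidableEq σ] [Fintype T]
    (φ : K →ₗ[S] F) (ω : F →ₗ[S] Ω) (hex : Function.Exact φ ω) (hω : Function.Surjective ω)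
    (bF : Basis ι S F) (κ : σ → K) (hκ : Submodule.span S (Set.range κ) = ⊤)
    (μ : T → σ → ι) (lam : T → S)
    (hdet : ∑ s, lam s * Matrix.det (Matrix.of fun (i j : σ) => bF.repr (φ (κ j)) (μ s i)) = 1) :
    (∃ ψ : F →ₗ[S] K, ψ ∘ₗ φ = LinearMap.id) ∧
      Nonempty ((Ω × (Fin (Fintype.card σ) → S)) ≃ₗ[S] (Fin (Fintype.card ι) → S)) := by
  classical
  let g : (σ → S) →ₗ[S] K := Fintype.linearCombination S κ
  have hg : ∀ x, g x = ∑ j, x j • κ j := fun x => Fintype.linearCombination_apply S κ x
  have hgsurj : Function.Surjective g := by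
    rw [← LinearMap.range_eq_top, Fintype.range_linearCombination, hκ]
  let M : Matrix ι σ S := Matrix.of fun i j => bF.repr (φ (κ j)) i
  have hMφ : ∀ x : σ → S, bF.equivFun (φ (g x)) = M.mulVec x := by
    intro x
    ext i
    rw [hg, map_sum, map_sum, Finset.sum_apply, Matrix.mulVec, dotProduct]
    refine Finset.sum_congr rfl fun j _ => ?_
    rw [map_smul, map_smul, Pi.smul_apply, smul_eq_mul, mul_comm]
    rfl
  let Ms : T → Matrix σ σ S := fun s => Matrix.of fun i j => M (μ s i) j
  let N : (ι → S) →ₗ[S] (σ → S) :=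
    ∑ s, lam s • ((Matrix.toLin' (Ms s).adjugate).comp (LinearMap.funLeft S S (μ s)))
  have hN : ∀ x : σ → S, N (M.mulVec x) = x := by
    intro x
    have h1 : ∀ s, (LinearMap.funLeft S S (μ s)) (M.mulVec x) = (Ms s).mulVec x := by
      intro s
      ext i
      rfl
    simp only [N, LinearMap.sum_apply, LinearMap.smul_apply, LinearMap.comp_apply, h1,
      Matrix.toLin'_apply, Matrix.mulVec_mulVec, Matrix.adjugate_mul, Matrix.smul_mulVec,
      Matrix.one_mulVec, smul_smul]
    rw [← Finset.sum_smul]
    have : ∑ s, lam s * (Ms s).det = 1 := hdet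
    rw [this, one_smul]
  let ψ : F →ₗ[S] K := g.comp (N.comp bF.equivFun.toLinearMap)
  have hψφg : ∀ x, ψ (φ (g x)) = g x := by
    intro x
    change g (N (bF.equivFun (φ (g x)))) = g x
    rw [hMφ, hN]
  have hψφ : ψ ∘ₗ φ = LinearMap.id := by
    ext k
    obtain ⟨x, rfl⟩ := hgsurj k
    exact hψφg x
  have hginj : Function.Injective g := by
    intro x y hxy
    have := congrArg (fun k => N (bF.equivFun (φ k))) hxy
    simp only [hMφ, hN] at this
    exact this
  refine ⟨⟨ψ, hψφ⟩, ?_⟩
  let eK : (σ → S) ≃ₗ[S] K := LinearEquiv.ofBijective g ⟨hginj, hgsurj⟩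
  let eF : F ≃ₗ[S] K × Ω := ((hex.splitInjectiveEquiv hω) ⟨ψ, hψφ⟩).1
  let e1 : (Ω × (Fin (Fintype.card σ) → S)) ≃ₗ[S] (K × Ω) :=
    (LinearEquiv.prodComm S Ω _).trans
      (LinearEquiv.prodCongr
        ((LinearEquiv.funCongrLeft S S (Fintype.equivFin σ)).trans eK) (LinearEquiv.refl S Ω))
  exact ⟨e1.trans (eF.symm.trans (bF.equivFun.trans
    (LinearEquiv.funCongrLeft S S (Fintype.equivFin ι).symm)))⟩

open MvPolynomial Algebra in
theorem smooth_stablyFree_of_presentation {R S : Type u} [CommRing R] [CommRing S] [Algebra R S]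
    {ι σ T : Type} [Fintype ι] [DecidableEq ι] [Fintype σ] [DecidableEq σ] [Fintype T]
    (PP : Algebra.Presentation R S ι σ) (μ : T → σ → ι) (lam : T → S)
    (hdet : ∑ s, lam s * Matrix.det (Matrix.of fun (i j : σ) =>
      aeval PP.val (pderiv (μ s i) (PP.relation j))) = 1) :
    Algebra.Smooth R S ∧ ∃ p q : ℕ, Nonempty ((Ω[S⁄R] × (Fin p → S)) ≃ₗ[S] (Fin q → S)) := by
  classical
  haveI : Algebra.FinitePresentation R S := PP.finitePresentation_of_isFinite
  have hκ : Submodule.span S (Set.range fun j : σ =>
      (Extension.Cotangent.mk ⟨PP.relation j, PP.relation_mem_ker j⟩ :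
        PP.toExtension.Cotangent)) = ⊤ :=
    Extension.Cotangent.span_eq_top_of_span_eq_ker (P := PP.toExtension) PP.relation
      PP.span_range_relation_eq_ker
  have hrepr : ∀ (i : ι) (j : σ),
      PP.toGenerators.cotangentSpaceBasis.repr (PP.toExtension.cotangentComplex
        (Extension.Cotangent.mk ⟨PP.relation j, PP.relation_mem_ker j⟩)) i =
        aeval PP.val (pderiv i (PP.relation j)) := by
    intro i j
    rw [Extension.cotangentComplex_mk]
    exact PP.toGenerators.cotangentSpaceBasis_repr_one_tmul _ i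
  have hdet' : ∑ s, lam s * Matrix.det (Matrix.of fun (i j : σ) =>
      PP.toGenerators.cotangentSpaceBasis.repr (PP.toExtension.cotangentComplex
        (Extension.Cotangent.mk ⟨PP.relation j, PP.relation_mem_ker j⟩)) (μ s i)) = 1 := by
    simp_rw [hrepr]
    exact hdet
  obtain ⟨⟨ψ, hψ⟩, ⟨e⟩⟩ := stablyFree_of_minors PP.toExtension.cotangentComplex
    PP.toExtension.toKaehler
    PP.toExtension.exact_cotangentComplex_toKaehler PP.toExtension.toKaehler_surjective
    PP.toGenerators.cotangentSpaceBasis _ hκ μ lam hdet'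
  haveI : Algebra.FormallySmooth R PP.toExtension.Ring := inferInstanceAs
    (Algebra.FormallySmooth R (MvPolynomial ι R))
  have hfs : Algebra.FormallySmooth R S :=
    (Algebra.Extension.formallySmooth_iff_split_injection PP.toExtension).mpr ⟨ψ, hψ⟩
  exact ⟨⟨hfs, inferInstance⟩, _, _, ⟨e⟩⟩

open MvPolynomial Algebra in
theorem smooth_stablyFree_of_minors_unit {R : Type u} [CommRing R] {n c : ℕ}
    (v : Fin c → MvPolynomial (Fin n) R) {S : Type u} [CommRing S] [Algebra R S]
    [Algebra (MvPolynomial (Fin n) R ⧸ Ideal.span (Set.range v)) S]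
    [IsScalarTower R (MvPolynomial (Fin n) R ⧸ Ideal.span (Set.range v)) S]
    (t : MvPolynomial (Fin n) R ⧸ Ideal.span (Set.range v)) [IsLocalization.Away t S]
    (hunit : Ideal.span (Set.range fun cols : Fin c → Fin n =>
        algebraMap (MvPolynomial (Fin n) R ⧸ Ideal.span (Set.range v)) S
          (Ideal.Quotient.mk _
            (Matrix.det (Matrix.of fun j k : Fin c => pderiv (cols k) (v j))))) = ⊤) :
    Algebra.Smooth R S ∧ ∃ p q : ℕ, Nonempty ((Ω[S⁄R] × (Fin p → S)) ≃ₗ[S] (Fin q → S)) := by
  classical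
  let img : (Fin c → Fin n) → S := fun cols =>
    algebraMap (MvPolynomial (Fin n) R ⧸ Ideal.span (Set.range v)) S
      (Ideal.Quotient.mk _ (Matrix.det (Matrix.of fun j k : Fin c => pderiv (cols k) (v j))))
  have himg0 : ∀ cols : Fin c → Fin n, ¬ Function.Injective cols → img cols = 0 := by
    intro cols hni
    rw [Function.Injective] at hni
    push Not at hni
    obtain ⟨k₁, k₂, hk, hne⟩ := hni
    have : Matrix.det (Matrix.of fun j k : Fin c => pderiv (cols k) (v j)) = 0 :=
      Matrix.det_zero_of_column_eq hne (fun j => by simp [hk])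
    simp only [img, this, map_zero]
  obtain ⟨coef, hcoef⟩ : ∃ coef : (Fin c → Fin n) → S, ∑ s, coef s * img s = 1 := by
    have h1 : (1 : S) ∈ Ideal.span (Set.range img) := by rw [hunit]; trivial
    exact Ideal.mem_span_range_iff_exists_fun.mp h1
  have htu : IsUnit (algebraMap (MvPolynomial (Fin n) R ⧸ Ideal.span (Set.range v)) S t) :=
    IsLocalization.Away.algebraMap_isUnit t
  obtain ⟨tinv, htinv⟩ := htu.exists_left_inv
  let lam : (Fin c → Fin n) → S := fun s => if Function.Injective s then coef s * tinv else 0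
  obtain ⟨PP, hPP⟩ : ∃ PP : Presentation R S (Unit ⊕ Fin n) (Unit ⊕ Fin c),
      PP = (SubmersivePresentation.localizationAway S t).toPresentation.comp
        (Presentation.naive (v := v)) := ⟨_, rfl⟩
  have hdetinj : ∀ s : Fin c → Fin n, Function.Injective s →
      Matrix.det (Matrix.of fun (i j : Unit ⊕ Fin c) =>
        aeval PP.val (pderiv (Sum.map id s i) (PP.relation j))) =
        img s * algebraMap (MvPolynomial (Fin n) R ⧸ Ideal.span (Set.range v)) S t := by
    intro s hs
    obtain ⟨PPs, hPPs⟩ : ∃ PPs : PreSubmersivePresentation R S (Unit ⊕ Fin n) (Unit ⊕ Fin c),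
        PPs = (SubmersivePresentation.localizationAway S t).toPreSubmersivePresentation.comp
          (PreSubmersivePresentation.naive (v := v) s hs) := ⟨_, rfl⟩
    have hPPs' : PPs.toPresentation = PP := by rw [hPPs, hPP]; rfl
    have hmap : PPs.map = Sum.map id s := by rw [hPPs]; rfl
    have h1 : PPs.jacobian = (PreSubmersivePresentation.naive (v := v) s hs).jacobian •
        (SubmersivePresentation.localizationAway S t).toPreSubmersivePresentation.jacobian := by
      rw [hPPs]
      exact PreSubmersivePresentation.comp_jacobian_eq_jacobian_smul_jacobian _ _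
    have h2 : (PreSubmersivePresentation.naive (v := v) s hs).jacobian =
        Ideal.Quotient.mk _ (Matrix.det (Matrix.of fun j k : Fin c => pderiv (s k) (v j))) := by
      rw [PreSubmersivePresentation.jacobian_eq_jacobiMatrix_det]
      have hmat : (PreSubmersivePresentation.naive (v := v) s hs).jacobiMatrix =
          (Matrix.of fun j k : Fin c => pderiv (s k) (v j)).transpose := by
        ext i j
        rw [PreSubmersivePresentation.jacobiMatrix_naive]
        rfl
      rw [hmat, Matrix.det_transpose]
      rfl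
    have h3 : (SubmersivePresentation.localizationAway S t).toPreSubmersivePresentation.jacobian =
        algebraMap (MvPolynomial (Fin n) R ⧸ Ideal.span (Set.range v)) S t :=
      PreSubmersivePresentation.localizationAway_jacobian t
    have h4 : PPs.jacobian = algebraMap PPs.Ring S PPs.jacobiMatrix.det :=
      PreSubmersivePresentation.jacobian_eq_jacobiMatrix_det _
    have h5 : (Matrix.of fun (i j : Unit ⊕ Fin c) =>
        aeval PPs.val (pderiv (Sum.map id s i) (PPs.relation j))) =
        (algebraMap PPs.Ring S).mapMatrix PPs.jacobiMatrix := by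
      ext i j
      rw [Matrix.of_apply, RingHom.mapMatrix_apply, Matrix.map_apply,
        PreSubmersivePresentation.jacobiMatrix_apply, hmap]
      exact (Generators.algebraMap_apply _ _).symm
    subst hPPs'
    rw [h5, ← RingHom.map_det, ← h4, h1, h2, h3, Algebra.smul_def]
  refine smooth_stablyFree_of_presentation PP (fun s : Fin c → Fin n => Sum.map id s) lam ?_
  rw [← hcoef]
  refine Finset.sum_congr rfl fun s _ => ?_
  by_cases hs : Function.Injective s
  · simp only [lam, if_pos hs]
    rw [hdetinj s hs]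
    calc coef s * tinv * (img s * algebraMap _ S t)
        = coef s * img s * (tinv * algebraMap _ S t) := by ring
      _ = coef s * img s := by rw [htinv, mul_one]
  · simp only [lam, if_neg hs, zero_mul, himg0 s hs, mul_zero]

open MvPolynomial Groth.Agent.Lib.helper7 in
theorem main {R A : Type u} [CommRing R] [CommRing A]
    [Algebra R A] (a : A) (ha : Smoothing.IsStrictlyStandard R A a) :
    Algebra.Smooth R (Localization.Away a) ∧
      ∃ p q : ℕ, Nonempty ((Ω[Localization.Away a⁄R] × (Fin p → Localization.Away a)) ≃ₗ[Localization.Away a]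
        (Fin q → Localization.Away a)) := by
  classical
  obtain ⟨P, hmem, hkt⟩ := ha
  obtain ⟨at', hat⟩ := P.surj a
  obtain ⟨v, hv⟩ : ∃ v : Fin P.c → MvPolynomial (Fin P.n) R,
      v = fun j => P.rel (Fin.castLE P.hcm j) := ⟨_, rfl⟩
  have hker : RingHom.ker P.hom.toRingHom = Ideal.span (Set.range P.rel) := P.ker_eq
  have hrel : ∀ j, P.hom (P.rel j) = 0 := by
    intro j
    have : P.rel j ∈ RingHom.ker P.hom.toRingHom := by
      rw [hker]
      exact Ideal.subset_span ⟨j, rfl⟩
    exact this
  have hfg : (RingHom.ker P.hom.toRingHom).FG := by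
    rw [hker]
    exact Submodule.fg_span (Set.finite_range _)
  have hkill : ∀ x ∈ RingHom.ker P.hom.toRingHom,
      at' * x ∈ Ideal.span (Set.range v) ⊔ (RingHom.ker P.hom.toRingHom) ^ 2 := by
    intro x hx
    rw [hker] at hx ⊢
    have hsub : Ideal.span (P.rel '' {j' : Fin P.m | (j' : ℕ) < P.c}) ≤
        Ideal.span (Set.range v) := by
      apply Ideal.span_mono
      rintro _ ⟨j', hj', rfl⟩
      exact ⟨⟨j', hj'⟩, by rw [hv]; rfl⟩
    induction hx using Submodule.span_induction with
    | mem y hy =>
      obtain ⟨j, rfl⟩ := hy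
      by_cases hj : (j : ℕ) < P.c
      · apply Submodule.mem_sup_left
        apply Ideal.mul_mem_left
        exact Ideal.subset_span ⟨⟨j, hj⟩, by rw [hv]; rfl⟩
      · have := hkt at' hat j (not_lt.mp hj)
        exact (sup_le_sup_right hsub _) this
    | zero => rw [mul_zero]; exact Submodule.zero_mem _
    | add y z _ _ hy hz => rw [mul_add]; exact Submodule.add_mem _ hy hz
    | smul r y _ hy =>
      rw [smul_eq_mul, mul_left_comm]
      exact Ideal.mul_mem_left _ _ hy
  have hvrel : ∀ j, P.hom (v j) = 0 := fun j => by rw [hv]; exact hrel _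
  have hJle : Ideal.span (Set.range v) ≤ RingHom.ker P.hom.toRingHom := by
    rw [Ideal.span_le]
    rintro _ ⟨j, rfl⟩
    exact hvrel j
  obtain ⟨π, hπ⟩ : ∃ π : (MvPolynomial (Fin P.n) R ⧸ Ideal.span (Set.range v)) →ₐ[R] A,
      ∀ x, π (Ideal.Quotient.mk _ x) = P.hom x :=
    ⟨Ideal.Quotient.liftₐ _ P.hom (fun x hx => hJle hx), fun x => rfl⟩
  have hπsurj : Function.Surjective π := by
    intro y
    obtain ⟨x, rfl⟩ := P.surj y
    exact ⟨Ideal.Quotient.mk _ x, hπ x⟩
  have hkerπ : RingHom.ker π.toRingHom =
      (RingHom.ker P.hom.toRingHom).map (Ideal.Quotient.mk (Ideal.span (Set.range v))) := by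
    ext y
    obtain ⟨x, rfl⟩ := Ideal.Quotient.mk_surjective y
    rw [Ideal.mem_map_iff_of_surjective _ Ideal.Quotient.mk_surjective]
    constructor
    · intro hx
      exact ⟨x, by rw [RingHom.mem_ker]; rw [RingHom.mem_ker] at hx; exact (hπ x).symm.trans hx, rfl⟩
    · rintro ⟨x', hx', hxx'⟩
      rw [RingHom.mem_ker]
      rw [RingHom.mem_ker] at hx'
      change π (Ideal.Quotient.mk _ x) = 0
      rw [← hxx', hπ]
      exact hx'
  have hkerfg : (RingHom.ker π.toRingHom).FG := by
    rw [hkerπ]
    exact Ideal.FG.map hfg _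
  have hkill' : ∀ y ∈ RingHom.ker π.toRingHom,
      Ideal.Quotient.mk (Ideal.span (Set.range v)) at' * y ∈
        RingHom.ker π.toRingHom * RingHom.ker π.toRingHom := by
    intro y hy
    rw [hkerπ] at hy
    obtain ⟨x, hx, rfl⟩ := (Ideal.mem_map_iff_of_surjective _ Ideal.Quotient.mk_surjective).mp hy
    rw [← map_mul, hkerπ, ← Ideal.map_mul, ← pow_two]
    obtain ⟨j, hj, q, hq, hjq⟩ := Submodule.mem_sup.mp (hkill x hx)
    rw [← hjq, map_add, Ideal.Quotient.eq_zero_iff_mem.mpr hj, zero_add]
    exact Ideal.mem_map_of_mem _ hq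
  obtain ⟨h, d, hh, hhd⟩ := SmoothingStd.exists_kill (RingHom.ker π.toRingHom) hkerfg _ hkill'
  obtain ⟨t, ht⟩ : ∃ t, t = Ideal.Quotient.mk (Ideal.span (Set.range v)) at' * h := ⟨_, rfl⟩
  have htker : ∀ x, π x = 0 → t * x = 0 := by
    intro x hx
    rw [ht, mul_assoc, hh x hx, mul_zero]
  have hπt : π t = a ^ (d + 1) := by
    have h1 : π h = π (Ideal.Quotient.mk (Ideal.span (Set.range v)) at') ^ d := by
      have := hhd
      rw [RingHom.mem_ker] at this
      have h2 : π (h - Ideal.Quotient.mk (Ideal.span (Set.range v)) at' ^ d) = 0 := this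
      rw [map_sub, sub_eq_zero, map_pow] at h2
      exact h2
    rw [ht, map_mul, h1, hπ, hat, pow_succ']
  let _ : Algebra (MvPolynomial (Fin P.n) R ⧸ Ideal.span (Set.range v)) A := π.toRingHom.toAlgebra
  have : IsScalarTower R (MvPolynomial (Fin P.n) R ⧸ Ideal.span (Set.range v)) A :=
    ⟨fun r s x => by
      change π (r • s) * x = r • (π s * x)
      rw [map_smul, smul_mul_assoc]⟩
  have : IsScalarTower (MvPolynomial (Fin P.n) R ⧸ Ideal.span (Set.range v)) A (Localization.Away a) :=
    inferInstance
  have : IsScalarTower R (MvPolynomial (Fin P.n) R ⧸ Ideal.span (Set.range v)) (Localization.Away a) :=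
    inferInstance
  have : IsLocalization.Away t (Localization.Away a) :=
    SmoothingStd.away_of_surjective_of_smul_ker (A := A) hπsurj t a (d + 1) (Nat.succ_pos d) hπt htker
  refine smooth_stablyFree_of_minors_unit v t ?_
  -- the minors generate the unit ideal
  have hunit : IsUnit (algebraMap A (Localization.Away a) a) :=
    IsLocalization.Away.algebraMap_isUnit a
  apply Ideal.eq_top_of_isUnit_mem _ _ hunit
  have hle : Ideal.span (Set.range fun cols : Fin P.c → Fin P.n =>
      P.hom (Smoothing.jacobianMinor P.rel (Fin.castLE P.hcm) cols)) ≤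
      (Ideal.span (Set.range fun cols : Fin P.c → Fin P.n =>
        algebraMap (MvPolynomial (Fin P.n) R ⧸ Ideal.span (Set.range v)) (Localization.Away a)
          (Ideal.Quotient.mk _
            (Matrix.det (Matrix.of fun j k : Fin P.c => pderiv (cols k) (v j)))))).comap
        (algebraMap A (Localization.Away a)) := by
    rw [Ideal.span_le]
    rintro _ ⟨cols, rfl⟩
    rw [SetLike.mem_coe, Ideal.mem_comap]
    refine Ideal.subset_span ⟨cols, ?_⟩
    simp only
    rw [IsScalarTower.algebraMap_apply (MvPolynomial (Fin P.n) R ⧸ Ideal.span (Set.range v)) A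
      (Localization.Away a)]
    congr 1
    change π (Ideal.Quotient.mk _ _) = _
    rw [hπ, hv]
    rfl
  exact hle hmem

end aux


/-- If `a` is strictly standard in the finitely presented `R`-algebra `A`, then the localization `A_a`
is smooth over `R` and its module of Kaehler differentials over `R` is stably free (free after
adding a finite free module). -/
theorem result {R A : Type u} [CommRing R] [CommRing A]
    [Algebra R A] (a : A) (ha : Smoothing.IsStrictlyStandard R A a) :
    Algebra.Smooth R (Localization.Away a) ∧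
      ∃ p q : ℕ, Nonempty ((Ω[Localization.Away a⁄R] × (Fin p → Localization.Away a)) ≃ₗ[Localization.Away a]
        (Fin q → Localization.Away a)) := by
  exact main a ha

end Groth.Agent.S2030
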