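import Groth.Agent.LibJac29
import Mathlib.RingTheory.Support
import Mathlib.RingTheory.LocalRing.ResidueField.Ideal
import Mathlib.RingTheory.Spectrum.Prime.Topology
import Mathlib.LinearAlgebra.Matrix.Adjugate

/-!
# Split injectivity of `u : N → L` (`N` finite, `L` projective) is local (helper29)

* `exists_retraction_up_to_of_injective_residueField` : if `κ(p) ⊗ u` is injective then there are
  `f ∉ p` and `r : L → N` with `r ∘ u = f • id`.
* `injective_residueField_of_retraction_up_to` : the converse.
* `isOpen_setOf_injective_residueField`.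
* `exists_retraction_of_forall_maximal`.
-/

set_option autoImplicit false

namespace Groth.Agent.LibSplitLoc29

open TensorProduct Groth.Agent.LibJac29

universe u v w

variable {C : Type u} [CommRing C] {N : Type v} {L : Type w} [AddCommGroup N] [Module C N]
  [AddCommGroup L] [Module C L] (u : N →ₗ[C] L)

theorem injective_residueField_of_retraction_up_to (p : Ideal C) [p.IsPrime] (f : C) (hf : f ∉ p)
    (r : L →ₗ[C] N) (hr : r ∘ₗ u = f • LinearMap.id) :
    Function.Injective (u.baseChange p.ResidueField) := by
  have h1 : r.baseChange p.ResidueField ∘ₗ u.baseChange p.ResidueField =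
      (algebraMap C p.ResidueField f) • LinearMap.id := by
    rw [← LinearMap.baseChange_comp, hr]
    ext x
    simp [TensorProduct.smul_tmul']
  have hf0 : algebraMap C p.ResidueField f ≠ 0 := by
    rw [Ne, Ideal.algebraMap_residueField_eq_zero]
    exact hf
  intro x y hxy
  have h2 := congrArg (r.baseChange p.ResidueField) hxy
  have h3 := LinearMap.congr_fun h1 x
  have h4 := LinearMap.congr_fun h1 y
  simp only [LinearMap.comp_apply, LinearMap.smul_apply, LinearMap.id_apply] at h3 h4
  rw [h3, h4] at h2
  exact smul_right_injective _ hf0 h2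

/-- a finite module whose fibre at `p` vanishes is killed by some `s ∉ p` -/
lemma exists_notMem_annihilator {X : Type*} [AddCommGroup X] [Module C X] [Module.Finite C X]
    (p : Ideal C) [p.IsPrime] (h : Subsingleton (p.ResidueField ⊗[C] X)) :
    ∃ s ∉ p, ∀ x : X, s • x = 0 := by
  have h1 : (⟨p, inferInstance⟩ : PrimeSpectrum C) ∉ Module.support C X := by
    rw [Module.mem_support_iff_nontrivial_residueField_tensorProduct]
    exact not_nontrivial_iff_subsingleton.mpr h
  rw [Module.mem_support_iff_of_finite, SetLike.not_le_iff_exists] at h1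
  obtain ⟨s, hs, hsp⟩ := h1
  exact ⟨s, hsp, fun x => Module.mem_annihilator.mp hs x⟩

variable [Module.Finite C N] [Module.Projective C L]

theorem exists_retraction_up_to_of_injective_residueField (p : Ideal C) [p.IsPrime]
    (h : Function.Injective (u.baseChange p.ResidueField)) :
    ∃ f ∉ p, ∃ r : L →ₗ[C] N, r ∘ₗ u = f • LinearMap.id := by
  classical
  -- a basis of the fibre of `N` coming from elements of `N`
  have hT : ⊤ ≤ Submodule.span p.ResidueField
      (TensorProduct.mk C p.ResidueField N 1 '' (Set.univ : Set N)) := by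
    rw [← Submodule.baseChange_span, Submodule.span_univ, Submodule.baseChange_top]
  let b0 := Module.Basis.ofSpan hT
  have hfin := Module.Finite.finite_basis b0
  obtain ⟨m, ⟨e⟩⟩ := Finite.exists_equiv_fin _ (h := hfin)
  let b := b0.reindex e
  have hb : ∀ i, ∃ n : N, (1 : p.ResidueField) ⊗ₜ[C] n = b i := by
    intro i
    have h2 : b i ∈ Set.range b0 := ⟨e.symm i, by simp [b]⟩
    obtain ⟨n, -, hn⟩ := Module.Basis.ofSpan_subset hT h2
    exact ⟨n, hn⟩
  choose n hn using hb
  -- dual functionals
  have hw : LinearIndependent p.ResidueField (fun i => u.baseChange p.ResidueField (b i)) :=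
    b.linearIndependent.map' _ (LinearMap.ker_eq_bot.mpr h)
  obtain ⟨Λ, hΛ⟩ := exists_dual_of_linearIndependent _ hw
  have hwi : ∀ i, u.baseChange p.ResidueField (b i) = (1 : p.ResidueField) ⊗ₜ[C] u (n i) := by
    intro i
    rw [← hn i, LinearMap.baseChange_tmul]
  -- clear denominators
  obtain ⟨t, ht, ψ, hψ⟩ := exists_functionals_clear_denominators p.primeCompl
    (Localization.AtPrime p) p.ResidueField IsLocalRing.residue_surjective (M := L)
    (fun j => (Λ j).restrictScalars C ∘ₗ TensorProduct.mk C p.ResidueField L 1) (fun i => u (n i))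
  -- the matrix
  let D : Matrix (Fin m) (Fin m) C := Matrix.of fun i j => ψ j (u (n i))
  have hDmap : (algebraMap C p.ResidueField).mapMatrix D =
      (algebraMap C p.ResidueField t) • (1 : Matrix (Fin m) (Fin m) p.ResidueField) := by
    ext i j
    have h1 := hψ i j
    simp only [LinearMap.coe_comp, LinearMap.coe_restrictScalars, Function.comp_apply,
      TensorProduct.mk_apply, ← hwi, hΛ] at h1
    simp only [RingHom.mapMatrix_apply, Matrix.map_apply, Matrix.of_apply, D, Matrix.smul_apply,
      Matrix.one_apply, smul_eq_mul]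
    exact h1
  have hdet : D.det ∉ p := by
    rw [← Ideal.algebraMap_residueField_eq_zero, RingHom.map_det, hDmap, Matrix.det_smul,
      Matrix.det_one, mul_one]
    apply pow_ne_zero
    rw [Ne, Ideal.algebraMap_residueField_eq_zero]
    exact ht
  -- Nakayama: the `n i` generate `N` up to some `s ∉ p`
  let N' : Submodule C N := Submodule.span C (Set.range n)
  have hsub : Subsingleton (p.ResidueField ⊗[C] (N ⧸ N')) := by
    refine ⟨fun x y => ?_⟩
    have h0 : ∀ z : p.ResidueField ⊗[C] (N ⧸ N'), z = 0 := by
      intro z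
      obtain ⟨z, rfl⟩ := LinearMap.lTensor_surjective p.ResidueField (Submodule.mkQ_surjective N') z
      have hz : z ∈ Submodule.span p.ResidueField (Set.range b) := by rw [b.span_eq]; trivial
      induction hz using Submodule.span_induction with
      | mem w hw =>
        obtain ⟨i, rfl⟩ := hw
        rw [← hn i, LinearMap.lTensor_tmul, Submodule.mkQ_apply,
          (Submodule.Quotient.mk_eq_zero N').mpr (Submodule.subset_span ⟨i, rfl⟩), tmul_zero]
      | zero => rw [map_zero]
      | add a c _ _ ha hc => rw [map_add, ha, hc, add_zero]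
      | smul a c _ hc =>
        have : LinearMap.lTensor p.ResidueField N'.mkQ (a • c) =
            a • LinearMap.lTensor p.ResidueField N'.mkQ c := by
          have := (N'.mkQ.baseChange p.ResidueField).map_smul a c
          exact this
        rw [this, hc, smul_zero]
    rw [h0 x, h0 y]
  obtain ⟨s, hs, hsN⟩ := exists_notMem_annihilator p hsub
  have hsN' : ∀ x : N, s • x ∈ N' := by
    intro x
    have := hsN (Submodule.Quotient.mk x)
    rwa [← Submodule.Quotient.mk_smul, Submodule.Quotient.mk_eq_zero] at this
  -- the retraction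
  let r₀ : L →ₗ[C] N := ∑ i, ∑ j, (D.adjugate j i) • (ψ j).smulRight (n i)
  have hr₀ : ∀ i', r₀ (u (n i')) = D.det • n i' := by
    intro i'
    simp only [r₀, LinearMap.sum_apply, LinearMap.smul_apply, LinearMap.smulRight_apply]
    have h1 : ∀ i, ∑ j, D.adjugate j i • ψ j (u (n i')) • n i =
        ((D * D.adjugate) i' i) • n i := by
      intro i
      rw [Matrix.mul_apply, Finset.sum_smul]
      apply Finset.sum_congr rfl
      intro j _
      rw [smul_smul, mul_comm]
      rfl
    simp only [h1, Matrix.mul_adjugate, Matrix.smul_apply, Matrix.one_apply, smul_eq_mul,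
      mul_ite, mul_one, mul_zero, ite_smul, zero_smul]
    rw [Finset.sum_ite_eq]
    simp
  have hr₀' : ∀ x ∈ N', r₀ (u x) = D.det • x := by
    intro x hx
    induction hx using Submodule.span_induction with
    | mem w hw => obtain ⟨i, rfl⟩ := hw; exact hr₀ i
    | zero => simp
    | add a c _ _ ha hc => rw [map_add, map_add, ha, hc, smul_add]
    | smul a c _ hc => rw [map_smul, map_smul, hc, smul_comm]
  refine ⟨D.det * s, ?_, s • r₀, ?_⟩
  · exact fun hmem => (Ideal.IsPrime.mem_or_mem inferInstance hmem).elim hdet hs
  · ext x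
    simp only [LinearMap.comp_apply, LinearMap.smul_apply, LinearMap.id_apply]
    rw [← map_smul, ← map_smul, hr₀' _ (hsN' x), smul_smul]

theorem isOpen_setOf_injective_residueField :
    IsOpen {p : PrimeSpectrum C | Function.Injective (u.baseChange p.asIdeal.ResidueField)} := by
  rw [isOpen_iff_forall_mem_open]
  intro p hp
  obtain ⟨f, hf, r, hr⟩ := exists_retraction_up_to_of_injective_residueField u p.asIdeal hp
  refine ⟨PrimeSpectrum.basicOpen f, ?_, (PrimeSpectrum.basicOpen f).isOpen, hf⟩
  intro q hq
  exact injective_residueField_of_retraction_up_to u q.asIdeal f hq r hr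

theorem exists_retraction_of_forall_maximal
    (h : ∀ (m : Ideal C) [m.IsMaximal], Function.Injective (u.baseChange m.ResidueField)) :
    ∃ r : L →ₗ[C] N, r ∘ₗ u = LinearMap.id := by
  let 𝔞 : Ideal C :=
    { carrier := {f | ∃ r : L →ₗ[C] N, r ∘ₗ u = f • LinearMap.id}
      add_mem' := by
        rintro a b ⟨r₁, h₁⟩ ⟨r₂, h₂⟩
        exact ⟨r₁ + r₂, by rw [LinearMap.add_comp, h₁, h₂, add_smul]⟩
      zero_mem' := ⟨0, by rw [LinearMap.zero_comp, zero_smul]⟩
      smul_mem' := by
        rintro c a ⟨r, hr⟩
        exact ⟨c • r, by rw [LinearMap.smul_comp, hr, smul_smul, smul_eq_mul]⟩ }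
  suffices h1 : 𝔞 = ⊤ by
    have : (1 : C) ∈ 𝔞 := h1 ▸ Submodule.mem_top
    obtain ⟨r, hr⟩ := this
    exact ⟨r, by rw [hr, one_smul]⟩
  by_contra hne
  obtain ⟨m, hm, hle⟩ := Ideal.exists_le_maximal 𝔞 hne
  obtain ⟨f, hf, r, hr⟩ := exists_retraction_up_to_of_injective_residueField u m (h m)
  exact hf (hle ⟨r, hr⟩)

end Groth.Agent.LibSplitLoc29
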