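import Groth.Agent.LibLocExt29
import Groth.Agent.LibSplitLoc29

/-!
# The formally smooth locus of a quotient of a formally smooth algebra (helper29)

`P` an extension of `C` over `A` with `P.Ring` formally smooth over `A` and `I/I²` finite.
-/

set_option autoImplicit false
set_option linter.style.haveILetI false

namespace Groth.Agent.LibFSLocus29

open TensorProduct Algebra Groth.Agent.LibLocExt29 Groth.Agent.LibSplitLoc29

universe u

variable {A C : Type u} [CommRing A] [CommRing C] [Algebra A C]
  (Pe : Algebra.Extension.{u} A C) [Algebra.FormallySmooth A Pe.Ring]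

theorem formallySmooth_of_retraction_up_to (T : Type u) [CommRing T] [Algebra A T] [Algebra C T]
    [IsScalarTower A C T] (M : Submonoid C) [IsLocalization M T] (f : C)
    (hf : IsUnit (algebraMap C T f)) (r : Pe.CotangentSpace →ₗ[C] Pe.Cotangent)
    (hr : r ∘ₗ Pe.cotangentComplex = f • LinearMap.id) : Algebra.FormallySmooth A T := by
  rw [formallySmooth_localization_iff T Pe M]
  refine ⟨(↑(hf.unit⁻¹) : T) • r.baseChange T, ?_⟩
  rw [LinearMap.smul_comp, ← LinearMap.baseChange_comp, hr]
  ext x
  simp only [AlgebraTensorModule.curry_apply, TensorProduct.curry_apply,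
    LinearMap.coe_restrictScalars, LinearMap.smul_apply, LinearMap.baseChange_tmul,
    LinearMap.id_apply]
  rw [← TensorProduct.smul_tmul, TensorProduct.smul_tmul']
  congr 1
  rw [Algebra.smul_def f (1 : T), mul_one, smul_eq_mul, IsUnit.val_inv_mul]

theorem injective_residueField_of_formallySmooth (p : Ideal C) [p.IsPrime]
    [Algebra.FormallySmooth A (Localization.AtPrime p)] :
    Function.Injective (Pe.cotangentComplex.baseChange p.ResidueField) := by
  obtain ⟨l, hl⟩ := (formallySmooth_localization_iff (Localization.AtPrime p) Pe
    p.primeCompl).mp inferInstance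
  have h1 : Function.Injective ((Pe.cotangentComplex.baseChange
      (Localization.AtPrime p)).baseChange p.ResidueField) := by
    have : (l.baseChange p.ResidueField) ∘ₗ ((Pe.cotangentComplex.baseChange
        (Localization.AtPrime p)).baseChange p.ResidueField) = LinearMap.id := by
      rw [← LinearMap.baseChange_comp, hl, LinearMap.baseChange_id]
    exact Function.LeftInverse.injective (fun x => LinearMap.congr_fun this x)
  let e1 := AlgebraTensorModule.cancelBaseChange C (Localization.AtPrime p) p.ResidueField
    p.ResidueField Pe.Cotangent
  let e2 := AlgebraTensorModule.cancelBaseChange C (Localization.AtPrime p) p.ResidueField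
    p.ResidueField Pe.CotangentSpace
  have comm : e2.toLinearMap ∘ₗ ((Pe.cotangentComplex.baseChange
      (Localization.AtPrime p)).baseChange p.ResidueField) =
      (Pe.cotangentComplex.baseChange p.ResidueField) ∘ₗ e1.toLinearMap := by
    ext x
    simp [e1, e2]
  have h2 : Function.Injective ((Pe.cotangentComplex.baseChange p.ResidueField) ∘ₗ
      e1.toLinearMap) := by
    rw [← comm]
    exact e2.injective.comp h1
  intro x y hxy
  obtain ⟨x', rfl⟩ := e1.surjective x
  obtain ⟨y', rfl⟩ := e1.surjective y
  exact congrArg e1 (h2 hxy)

section Main

variable {B : Type u} [CommRing B] [Algebra A B] [Algebra B C] [IsScalarTower A B C]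

/-- the extension `B → C` -/
noncomputable abbrev ext (hsurj : Function.Surjective (algebraMap B C)) :
    Algebra.Extension.{u} A C :=
  { Ring := B, σ := Function.surjInv hsurj, algebraMap_σ := Function.surjInv_eq hsurj }

variable (hsurj : Function.Surjective (algebraMap B C))

lemma finite_cotangent [Module.Finite B (RingHom.ker (algebraMap B C)).Cotangent] :
    Module.Finite C (ext (A := A) hsurj).Cotangent := by
  have h1 : Module.Finite (ext (A := A) hsurj).Ring (ext (A := A) hsurj).Cotangent :=
    Module.Finite.equiv (ext (A := A) hsurj).cotangentEquivCotangentKer.symm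
  exact Module.Finite.of_restrictScalars_finite (ext (A := A) hsurj).Ring _ _

variable [Algebra.FormallySmooth A B] [Module.Finite B (RingHom.ker (algebraMap B C)).Cotangent]

include hsurj

theorem injective_iff_formallySmooth (p : Ideal C) [p.IsPrime] :
    Function.Injective ((ext (A := A) hsurj).cotangentComplex.baseChange p.ResidueField) ↔
      Algebra.FormallySmooth A (Localization.AtPrime p) := by
  have := finite_cotangent (A := A) hsurj
  have : Algebra.FormallySmooth A (ext (A := A) hsurj).Ring := ‹Algebra.FormallySmooth A B›
  constructor
  · intro h
    obtain ⟨f, hf, r, hr⟩ := exists_retraction_up_to_of_injective_residueField _ p h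
    exact formallySmooth_of_retraction_up_to (ext (A := A) hsurj) (Localization.AtPrime p)
      p.primeCompl f (IsLocalization.map_units _ (⟨f, hf⟩ : p.primeCompl)) r hr
  · intro h
    exact injective_residueField_of_formallySmooth (ext (A := A) hsurj) p

theorem formallySmooth_iff_forall_maximal :
    Algebra.FormallySmooth A C ↔
      ∀ (m : Ideal C) [m.IsMaximal], Algebra.FormallySmooth A (Localization.AtPrime m) := by
  have := finite_cotangent (A := A) hsurj
  have : Algebra.FormallySmooth A (ext (A := A) hsurj).Ring := ‹Algebra.FormallySmooth A B›
  constructor
  · intro h m _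
    have : Algebra.FormallySmooth C (Localization.AtPrime m) :=
      Algebra.FormallySmooth.of_isLocalization m.primeCompl
    exact Algebra.FormallySmooth.comp A C (Localization.AtPrime m)
  · intro h
    rw [(ext (A := A) hsurj).formallySmooth_iff_split_injection]
    refine exists_retraction_of_forall_maximal _ fun m _ => ?_
    exact (injective_iff_formallySmooth hsurj m).mpr (h m)

theorem isOpen_formallySmooth_locus :
    IsOpen {p : PrimeSpectrum C | Algebra.FormallySmooth A (Localization.AtPrime p.asIdeal)} := by
  have := finite_cotangent (A := A) hsurj
  have : Algebra.FormallySmooth A (ext (A := A) hsurj).Ring := ‹Algebra.FormallySmooth A B›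
  have h := isOpen_setOf_injective_residueField (ext (A := A) hsurj).cotangentComplex
  convert h using 2
  ext p
  exact (injective_iff_formallySmooth hsurj p.asIdeal).symm

theorem formallySmooth_atPrime_iff_exists_away (p : Ideal C) [p.IsPrime] :
    Algebra.FormallySmooth A (Localization.AtPrime p) ↔
      ∃ f : C, f ∉ p ∧ Algebra.FormallySmooth A (Localization.Away f) := by
  have := finite_cotangent (A := A) hsurj
  have : Algebra.FormallySmooth A (ext (A := A) hsurj).Ring := ‹Algebra.FormallySmooth A B›
  constructor
  · intro h
    obtain ⟨f, hf, r, hr⟩ := exists_retraction_up_to_of_injective_residueField _ p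
      ((injective_iff_formallySmooth (A := A) hsurj p).mpr h)
    exact ⟨f, hf, formallySmooth_of_retraction_up_to (ext (A := A) hsurj) (Localization.Away f)
      (Submonoid.powers f) f (IsLocalization.Away.algebraMap_isUnit f) r hr⟩
  · rintro ⟨f, hf, h⟩
    have hle : Submonoid.powers f ≤ p.primeCompl := by
      rintro _ ⟨n, rfl⟩
      exact fun hmem => hf (Ideal.IsPrime.mem_of_pow_mem inferInstance n hmem)
    letI : Algebra (Localization.Away f) (Localization.AtPrime p) :=
      IsLocalization.localizationAlgebraOfSubmonoidLe _ _ (Submonoid.powers f) p.primeCompl hle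
    haveI : IsScalarTower C (Localization.Away f) (Localization.AtPrime p) :=
      IsLocalization.localization_isScalarTower_of_submonoid_le _ _ (Submonoid.powers f) p.primeCompl hle
    haveI : IsLocalization (Submonoid.map (algebraMap C (Localization.Away f)) p.primeCompl)
        (Localization.AtPrime p) :=
      IsLocalization.isLocalization_of_submonoid_le _ _ (Submonoid.powers f) p.primeCompl hle
    haveI : Algebra.FormallySmooth (Localization.Away f) (Localization.AtPrime p) :=
      Algebra.FormallySmooth.of_isLocalization
        (Submonoid.map (algebraMap C (Localization.Away f)) p.primeCompl)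
    haveI : IsScalarTower A (Localization.Away f) (Localization.AtPrime p) := by
      refine IsScalarTower.of_algebraMap_eq fun a => ?_
      rw [IsScalarTower.algebraMap_apply A C (Localization.AtPrime p),
        IsScalarTower.algebraMap_apply A C (Localization.Away f),
        ← IsScalarTower.algebraMap_apply C (Localization.Away f) (Localization.AtPrime p)]
    exact Algebra.FormallySmooth.comp A (Localization.Away f) (Localization.AtPrime p)

end Main

end Groth.Agent.LibFSLocus29
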