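import Mathlib.LinearAlgebra.Matrix.Rank
import Mathlib.LinearAlgebra.Matrix.NonsingularInverse
import Mathlib.LinearAlgebra.LinearIndependent.Lemmas
import Mathlib.LinearAlgebra.Dimension.Constructions

/-!
# Selecting a basis from a finite spanning family; nonzero maximal minors (helper29)

* `exists_embedding_linearIndependent` : from a family `v : Fin m → V` over a field, an injective
  `rows : Fin c ↪ Fin m` with `v ∘ rows` linearly independent and of the same span.
* `exists_minor_ne_zero` : a `c × n` matrix over a field with linearly independent rows has a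
  nonzero `c × c` minor.
-/

set_option autoImplicit false

namespace Groth.Agent.LibMinor29

universe u v

variable {K : Type u} [Field K]

theorem exists_embedding_linearIndependent {V : Type v} [AddCommGroup V] [Module K V] {m : ℕ}
    (w : Fin m → V) :
    ∃ (c : ℕ) (rows : Fin c ↪ Fin m), LinearIndependent K (w ∘ rows) ∧
      Submodule.span K (Set.range (w ∘ rows)) = Submodule.span K (Set.range w) := by
  classical
  obtain ⟨κ, a, ha, hspan, hli⟩ := exists_linearIndependent' K w
  have : Finite κ := Finite.of_injective a ha
  have : Fintype κ := Fintype.ofFinite κ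
  let e : Fin (Fintype.card κ) ≃ κ := (Fintype.equivFin κ).symm
  refine ⟨Fintype.card κ, ⟨a ∘ e, ha.comp e.injective⟩, ?_, ?_⟩
  · exact hli.comp e e.injective
  · rw [← hspan]
    congr 1
    ext x
    constructor
    · rintro ⟨i, rfl⟩; exact ⟨e i, rfl⟩
    · rintro ⟨j, rfl⟩; exact ⟨e.symm j, by simp⟩

theorem exists_minor_ne_zero {c n : ℕ} (M : Matrix (Fin c) (Fin n) K)
    (hM : LinearIndependent K M.row) :
    ∃ cols : Fin c ↪ Fin n, (M.submatrix id cols).det ≠ 0 := by
  classical
  have hrank : M.rank = c := by simpa using hM.rank_matrix
  have hspan : Submodule.span K (Set.range M.col) = ⊤ := by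
    apply Submodule.eq_top_of_finrank_eq
    rw [← Matrix.rank_eq_finrank_span_cols, hrank]
    simp
  obtain ⟨c', a, hli, hsp⟩ := exists_embedding_linearIndependent (K := K) M.col
  rw [hspan] at hsp
  have hc : c' = c := by
    let b := Module.Basis.mk hli hsp.ge
    have := Module.finrank_eq_card_basis b
    simpa using this.symm
  subst hc
  refine ⟨a, ?_⟩
  have h2 : LinearIndependent K (M.submatrix id a).col := by
    have h3 : (M.submatrix id a).col = M.col ∘ a := by
      ext i j; rfl
    rw [h3]
    exact hli
  have := Matrix.linearIndependent_cols_iff_isUnit.mp h2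
  exact ((Matrix.isUnit_iff_isUnit_det _).mp this).ne_zero

end Groth.Agent.LibMinor29
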