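import Groth.Statements.S2108
import Groth.Agent.LibFSLocus29
import Groth.Agent.LibMinor29
-- import your own Groth.Agent.* helpers here

set_option autoImplicit false
universe u
open Smoothing

namespace Groth.Agent.S2108

open TensorProduct KaehlerDifferential Groth.Agent.LibSplitLoc29

section X
variable {R A : Type u} [CommRing R] [CommRing A] [Algebra R A] (Pe : Algebra.Extension.{u} R A)

/-- Nakayama: if the classes of `g ∘ rows` span the fibre of `I/I²` at `q`, then `I` is generated
by `g ∘ rows` modulo `I²` after multiplying by some `σ` invertible at `q`. -/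
lemma exists_mul_mem {m c : ℕ} (g : Fin m → Pe.Ring) (hg : Ideal.span (Set.range g) = Pe.ker)
    (q : Ideal A) [q.IsPrime] (rows : Fin c → Fin m)
    (hspan : Submodule.span q.ResidueField (Set.range fun j : Fin c =>
      (1 : q.ResidueField) ⊗ₜ[A] (Algebra.Extension.Cotangent.mk
        ⟨g (rows j), hg.le (Ideal.subset_span ⟨rows j, rfl⟩)⟩ : Pe.Cotangent)) = ⊤) :
    ∃ σ : Pe.Ring, algebraMap Pe.Ring A σ ∉ q ∧
      ∀ ℓ, σ * g ℓ ∈ Ideal.span (Set.range (g ∘ rows)) ⊔ Pe.ker ^ 2 := by
  classical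
  have hgk : ∀ i, g i ∈ Pe.ker := fun i => hg.le (Ideal.subset_span ⟨i, rfl⟩)
  set nn : Fin m → Pe.Cotangent := fun i => Algebra.Extension.Cotangent.mk ⟨g i, hgk i⟩ with hnn
  have hspanN : Submodule.span A (Set.range nn) = ⊤ :=
    Algebra.Extension.Cotangent.span_eq_top_of_span_eq_ker g hg
  have : Module.Finite A Pe.Cotangent := ⟨⟨Finset.univ.image nn, by
    rw [Finset.coe_image, Finset.coe_univ, Set.image_univ]; exact hspanN⟩⟩
  let S₀ : Submodule A Pe.Cotangent := Submodule.span A (Set.range (nn ∘ rows))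
  have hsub : Subsingleton (q.ResidueField ⊗[A] (Pe.Cotangent ⧸ S₀)) := by
    have hsurj : Function.Surjective (S₀.mkQ.baseChange q.ResidueField) :=
      LinearMap.lTensor_surjective _ (Submodule.mkQ_surjective _)
    refine ⟨fun x y => ?_⟩
    have h0 : ∀ z, S₀.mkQ.baseChange q.ResidueField z = 0 := by
      intro z
      have hz : z ∈ Submodule.span q.ResidueField (Set.range fun j : Fin c =>
          (1 : q.ResidueField) ⊗ₜ[A] nn (rows j)) := by
        rw [hspan]; exact Submodule.mem_top
      induction hz using Submodule.span_induction with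
      | mem z hz =>
        obtain ⟨j, rfl⟩ := hz
        rw [LinearMap.baseChange_tmul]
        have : S₀.mkQ (nn (rows j)) = 0 := by
          rw [Submodule.mkQ_apply, Submodule.Quotient.mk_eq_zero]
          exact Submodule.subset_span ⟨j, rfl⟩
        rw [this, TensorProduct.tmul_zero]
      | zero => exact map_zero _
      | add a b _ _ ha hb => rw [map_add, ha, hb, add_zero]
      | smul r a _ ha => rw [map_smul, ha, smul_zero]
    obtain ⟨x', rfl⟩ := hsurj x
    obtain ⟨y', rfl⟩ := hsurj y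
    rw [h0, h0]
  obtain ⟨s, hs, hsx⟩ := exists_notMem_annihilator q hsub
  obtain ⟨σ, rfl⟩ := Pe.algebraMap_surjective s
  refine ⟨σ, hs, fun ℓ => ?_⟩
  have h1 : algebraMap Pe.Ring A σ • nn ℓ ∈ S₀ := by
    have := hsx (S₀.mkQ (nn ℓ))
    rwa [← map_smul, Submodule.mkQ_apply, Submodule.Quotient.mk_eq_zero] at this
  obtain ⟨coef, hcoef⟩ := (Submodule.mem_span_range_iff_exists_fun A).mp h1
  choose α hα using fun j => Pe.algebraMap_surjective (coef j)
  have h2 : (Algebra.Extension.Cotangent.mk
      (⟨σ * g ℓ - ∑ j, α j * g (rows j),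
        Pe.ker.sub_mem (Pe.ker.mul_mem_left _ (hgk ℓ))
          (Pe.ker.sum_mem fun j _ => Pe.ker.mul_mem_left _ (hgk _))⟩ : Pe.ker) : Pe.Cotangent) = 0 := by
    have e1 : (⟨σ * g ℓ - ∑ j, α j * g (rows j),
        Pe.ker.sub_mem (Pe.ker.mul_mem_left _ (hgk ℓ))
          (Pe.ker.sum_mem fun j _ => Pe.ker.mul_mem_left _ (hgk _))⟩ : Pe.ker) =
        σ • (⟨g ℓ, hgk ℓ⟩ : Pe.ker) - ∑ j, α j • (⟨g (rows j), hgk _⟩ : Pe.ker) := by
      apply Subtype.ext
      simp
    rw [e1, map_sub, map_smul, map_sum]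
    simp only [map_smul]
    rw [sub_eq_zero, ← algebraMap_smul A σ, ← hcoef]
    refine Finset.sum_congr rfl fun j _ => ?_
    rw [← hα j, algebraMap_smul]
    rfl
  rw [Algebra.Extension.Cotangent.mk_eq_zero_iff] at h2
  have h3 : σ * g ℓ = (σ * g ℓ - ∑ j, α j * g (rows j)) + ∑ j, α j * g (rows j) := by ring
  rw [h3, add_comm]
  refine Submodule.add_mem_sup ?_ h2
  refine Ideal.sum_mem _ fun j _ => Ideal.mul_mem_left _ _ (Ideal.subset_span ⟨j, rfl⟩)

/-- the core of the Jacobian criterion for a presentation with free differentials -/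
lemma core [Algebra.FormallySmooth R Pe.Ring] {n m : ℕ}
    (b0 : Module.Basis (Fin n) Pe.Ring Ω[Pe.Ring⁄R]) (pd : Fin n → Pe.Ring → Pe.Ring)
    (hpd : ∀ i x, b0.repr (KaehlerDifferential.D R Pe.Ring x) i = pd i x)
    (g : Fin m → Pe.Ring) (hg : Ideal.span (Set.range g) = Pe.ker)
    (q : Ideal A) [q.IsPrime] [Algebra.FormallySmooth R (Localization.AtPrime q)] :
    ∃ (c : ℕ) (rows : Fin c ↪ Fin m) (cols : Fin c ↪ Fin n) (σ : Pe.Ring),
      algebraMap Pe.Ring A σ ∉ q ∧
      algebraMap Pe.Ring A (Matrix.det (Matrix.of fun j k => pd (cols k) (g (rows j)))) ∉ q ∧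
      ∀ ℓ, σ * g ℓ ∈ Ideal.span (Set.range (g ∘ rows)) ⊔ Pe.ker ^ 2 := by
  classical
  have hgk : ∀ i, g i ∈ Pe.ker := fun i => hg.le (Ideal.subset_span ⟨i, rfl⟩)
  have hinj : Function.Injective (Pe.cotangentComplex.baseChange q.ResidueField) :=
    Groth.Agent.LibFSLocus29.injective_residueField_of_formallySmooth Pe q
  let nn : Fin m → Pe.Cotangent := fun i => Algebra.Extension.Cotangent.mk ⟨g i, hgk i⟩
  have hspanN : Submodule.span A (Set.range nn) = ⊤ :=
    Algebra.Extension.Cotangent.span_eq_top_of_span_eq_ker g hg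
  let v : Fin m → q.ResidueField ⊗[A] Pe.Cotangent := fun i => (1 : q.ResidueField) ⊗ₜ[A] nn i
  have hspanv : Submodule.span q.ResidueField (Set.range v) = ⊤ := by
    have h1 : Set.range v = TensorProduct.mk A q.ResidueField Pe.Cotangent 1 '' Set.range nn := by
      ext x
      constructor
      · rintro ⟨i, rfl⟩; exact ⟨nn i, ⟨i, rfl⟩, rfl⟩
      · rintro ⟨_, ⟨i, rfl⟩, rfl⟩; exact ⟨i, rfl⟩
    rw [h1, ← Submodule.baseChange_span, hspanN, Submodule.baseChange_top]
  obtain ⟨c, rows, hli, hsp⟩ := Groth.Agent.LibMinor29.exists_embedding_linearIndependent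
    (K := q.ResidueField) v
  rw [hspanv] at hsp
  have hw : LinearIndependent q.ResidueField
      ((Pe.cotangentComplex.baseChange q.ResidueField) ∘ (v ∘ rows)) :=
    hli.map' _ (LinearMap.ker_eq_bot.mpr hinj)
  let B : Module.Basis (Fin n) q.ResidueField (q.ResidueField ⊗[A] Pe.CotangentSpace) :=
    (b0.baseChange A).baseChange q.ResidueField
  let Mat : Matrix (Fin c) (Fin n) q.ResidueField := Matrix.of fun j i =>
    algebraMap A q.ResidueField (algebraMap Pe.Ring A (pd i (g (rows j))))
  have hMat : ∀ j, Mat.row j = B.equivFun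
      ((Pe.cotangentComplex.baseChange q.ResidueField) (v (rows j))) := by
    intro j
    ext i
    have h1 : (Pe.cotangentComplex.baseChange q.ResidueField) (v (rows j)) =
        (1 : q.ResidueField) ⊗ₜ[A] ((1 : A) ⊗ₜ[Pe.Ring]
          (KaehlerDifferential.D R Pe.Ring (g (rows j)))) := by
      change (Pe.cotangentComplex.baseChange q.ResidueField)
        ((1 : q.ResidueField) ⊗ₜ[A] Algebra.Extension.Cotangent.mk ⟨g (rows j), hgk _⟩) = _
      rw [LinearMap.baseChange_tmul, Algebra.Extension.cotangentComplex_mk]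
    rw [h1, Module.Basis.equivFun_apply, Module.Basis.baseChange_repr_tmul,
      Module.Basis.baseChange_repr_tmul, hpd]
    simp only [Mat, Matrix.row, Matrix.of_apply, Algebra.smul_def, mul_one]
  have hrow : LinearIndependent q.ResidueField Mat.row := by
    have := hw.map' B.equivFun.toLinearMap (LinearMap.ker_eq_bot.mpr B.equivFun.injective)
    have h : Mat.row = (B.equivFun.toLinearMap ∘
        (Pe.cotangentComplex.baseChange q.ResidueField) ∘ (v ∘ rows)) := funext hMat
    rw [h]
    exact this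
  obtain ⟨cols, hdet⟩ := Groth.Agent.LibMinor29.exists_minor_ne_zero Mat hrow
  obtain ⟨σ, hσ, hσmem⟩ := exists_mul_mem Pe g hg q rows hsp
  refine ⟨c, rows, cols, σ, hσ, ?_, hσmem⟩
  have hM2 : (algebraMap A q.ResidueField).mapMatrix ((algebraMap Pe.Ring A).mapMatrix
      (Matrix.of fun j k => pd (cols k) (g (rows j)))) = Mat.submatrix id cols := by
    ext j k; rfl
  rw [← Ideal.algebraMap_residueField_eq_zero, RingHom.map_det, RingHom.map_det, hM2]
  exact hdet

end X


/-- Let `A = R[x_1, …, x_n]/(f_1, …, f_m)` and `𝔮` a prime of `A` at which `R → A` is smooth. Then there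
are `a ∈ A ∖ 𝔮`, an integer `c` and injections picking `c` relations and `c` variables such that `a`
is a multiple of the image of the corresponding Jacobian minor and `a f_ℓ` lies in the ideal
generated by the chosen relations plus the square of the relation ideal, for every `ℓ`. -/
theorem result {R A : Type u} [CommRing R] [CommRing A] [Algebra R A] {n m : ℕ}
    (f : Fin m → MvPolynomial (Fin n) R) (φ : MvPolynomial (Fin n) R →ₐ[R] A) (hφ : Function.Surjective φ)
    (hker : RingHom.ker φ.toRingHom = Ideal.span (Set.range f)) (q : Ideal A) [q.IsPrime] [Algebra.IsSmoothAt R q] :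
    ∃ a : A, a ∉ q ∧ ∃ (c : ℕ) (rows : Fin c ↪ Fin m) (cols : Fin c ↪ Fin n) (a' : A),
      a = a' * φ (Smoothing.jacobianMinor f rows cols) ∧
      ∀ a₁ : MvPolynomial (Fin n) R, φ a₁ = a → ∀ ℓ : Fin m,
        a₁ * f ℓ ∈ Ideal.span (Set.range (f ∘ rows)) ⊔ Ideal.span (Set.range f) ^ 2 := by
  classical
  letI : Algebra (MvPolynomial (Fin n) R) A := φ.toAlgebra
  have : IsScalarTower R (MvPolynomial (Fin n) R) A :=
    IsScalarTower.of_algebraMap_eq' φ.comp_algebraMap.symm
  have hsurj : Function.Surjective (algebraMap (MvPolynomial (Fin n) R) A) := hφ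
  have hfsP : Algebra.FormallySmooth R (Groth.Agent.LibFSLocus29.ext (A := R) hsurj).Ring :=
    inferInstanceAs (Algebra.FormallySmooth R (MvPolynomial (Fin n) R))
  obtain ⟨c, rows, cols, σ, hσ, hminor, hσmem⟩ :=
    core (Groth.Agent.LibFSLocus29.ext (A := R) hsurj)
      (KaehlerDifferential.mvPolynomialBasis R (Fin n)) (fun i x => MvPolynomial.pderiv i x)
      (fun i x => KaehlerDifferential.mvPolynomialBasis_repr_apply R (Fin n) x i)
      f hker.symm q
  refine ⟨φ σ * φ (Smoothing.jacobianMinor f rows cols), ?_, c, rows, cols, φ σ, rfl, ?_⟩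
  · exact fun h => (Ideal.IsPrime.mem_or_mem inferInstance h).elim hσ hminor
  · intro a₁ ha₁ ℓ
    have h1 : a₁ - σ * Smoothing.jacobianMinor f rows cols ∈ Ideal.span (Set.range f) := by
      rw [← hker, RingHom.mem_ker]
      change φ (a₁ - σ * Smoothing.jacobianMinor f rows cols) = 0
      rw [map_sub, map_mul, ha₁, sub_self]
    have h2 : a₁ * f ℓ = Smoothing.jacobianMinor f rows cols * (σ * f ℓ) +
        (a₁ - σ * Smoothing.jacobianMinor f rows cols) * f ℓ := by ring
    rw [h2]
    refine Ideal.add_mem _ (Ideal.mul_mem_left _ _ ?_) ?_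
    · have := hσmem ℓ
      rw [← hker]
      exact this
    · refine Ideal.mem_sup_right ?_
      rw [pow_two]
      exact Ideal.mul_mem_mul h1 (Ideal.subset_span ⟨ℓ, rfl⟩)

end Groth.Agent.S2108
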