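import Groth.Statements.S2026
import Mathlib
import Groth.Agent.S2030
import Groth.Agent.S2108
-- import your own Groth.Agent.* helpers here

set_option autoImplicit false
universe u
open Smoothing

namespace Groth.Agent.S2026

section aux

theorem exists_perm_extending {m c : ℕ} (e₁ e₂ : Fin c ↪ Fin m) :
    ∃ σ : Equiv.Perm (Fin m), ∀ j, σ (e₁ j) = e₂ j := by
  classical
  let e : {x // x ∈ Set.range e₁} ≃ {x // x ∈ Set.range e₂} :=
    (Equiv.ofInjective e₁ e₁.injective).symm.trans (Equiv.ofInjective e₂ e₂.injective)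
  refine ⟨e.extendSubtype, fun j => ?_⟩
  rw [Equiv.extendSubtype_apply_of_mem e (e₁ j) ⟨j, rfl⟩]
  change ((Equiv.ofInjective e₂ e₂.injective) ((Equiv.ofInjective e₁ e₁.injective).symm
    ⟨e₁ j, ⟨j, rfl⟩⟩) : Fin m) = e₂ j
  rw [Equiv.ofInjective_symm_apply]
  rfl

theorem isStrictlyStandard_of_isElementaryStandard {R A : Type u} [CommRing R] [CommRing A]
    [Algebra R A] (a : A) (ha : IsElementaryStandard R A a) : IsStrictlyStandard R A a := by
  obtain ⟨P, ⟨a', ha'⟩, hkt⟩ := ha
  refine ⟨P, ?_, hkt⟩
  rw [ha']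
  exact Ideal.mul_mem_left _ _ (Ideal.subset_span ⟨Fin.castLE P.hcn, rfl⟩)

theorem mem_singularIdeal_of_isStrictlyStandard {R A : Type u} [CommRing R] [CommRing A]
    [Algebra R A] [Algebra.FinitePresentation R A] (a : A) (ha : IsStrictlyStandard R A a) :
    a ∈ singularIdeal R A := by
  have hsm : Algebra.Smooth R (Localization.Away a) := (Groth.Agent.S2030.result a ha).1
  have hsub := (Algebra.basicOpen_subset_smoothLocus_iff_smooth (R := R) (A := A) (f := a)).mpr hsm
  rw [singularIdeal, PrimeSpectrum.mem_vanishingIdeal]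
  intro x hx
  by_contra hax
  exact hx (hsub hax)

open MvPolynomial in
theorem isElementaryStandard_of_data {R A : Type u} [CommRing R] [CommRing A] [Algebra R A]
    {n m : ℕ} (f : Fin m → MvPolynomial (Fin n) R) (φ : MvPolynomial (Fin n) R →ₐ[R] A)
    (hφ : Function.Surjective φ) (hker : RingHom.ker φ.toRingHom = Ideal.span (Set.range f))
    (a : A) (c : ℕ) (rows : Fin c ↪ Fin m) (cols : Fin c ↪ Fin n) (a' : A)
    (ha : a = a' * φ (Smoothing.jacobianMinor f rows cols))
    (hkill : ∀ a₁ : MvPolynomial (Fin n) R, φ a₁ = a → ∀ ℓ : Fin m,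
      a₁ * f ℓ ∈ Ideal.span (Set.range (f ∘ rows)) ⊔ Ideal.span (Set.range f) ^ 2) :
    IsElementaryStandard R A a := by
  classical
  have hcm : c ≤ m := by simpa using Fintype.card_le_of_embedding rows
  have hcn : c ≤ n := by simpa using Fintype.card_le_of_embedding cols
  obtain ⟨σm, hσm⟩ := exists_perm_extending (Fin.castLEEmb hcm) rows
  obtain ⟨σn, hσn⟩ := exists_perm_extending (Fin.castLEEmb hcn) cols
  have hσm' : ∀ j : Fin c, σm (Fin.castLE hcm j) = rows j := hσm
  have hσn' : ∀ k : Fin c, σn (Fin.castLE hcn k) = cols k := hσn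
  -- the renaming isomorphisms
  let ρ : MvPolynomial (Fin n) R ≃ₐ[R] MvPolynomial (Fin n) R := renameEquiv R σn.symm
  have hρ : ∀ p, ρ p = rename σn.symm p := fun p => rfl
  have hρsymm : ∀ p, ρ.symm p = rename σn p := fun p => rfl
  let rel : Fin m → MvPolynomial (Fin n) R := fun j => ρ (f (σm j))
  let hom : MvPolynomial (Fin n) R →ₐ[R] A := φ.comp ρ.symm.toAlgHom
  have hhom : ∀ p, hom p = φ (ρ.symm p) := fun p => rfl
  have hrange : Set.range rel = ρ '' Set.range f := by
    ext x
    constructor
    · rintro ⟨j, rfl⟩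
      exact ⟨f (σm j), ⟨σm j, rfl⟩, rfl⟩
    · rintro ⟨_, ⟨j, rfl⟩, rfl⟩
      exact ⟨σm.symm j, by simp [rel]⟩
  have hspanrel : Ideal.span (Set.range rel) = (Ideal.span (Set.range f)).map ρ.toRingEquiv.toRingHom := by
    rw [Ideal.map_span, hrange]
    rfl
  have hkerhom : RingHom.ker hom.toRingHom = Ideal.span (Set.range rel) := by
    rw [hspanrel, ← hker]
    ext x
    rw [RingHom.mem_ker]
    change φ (ρ.symm x) = 0 ↔ _
    rw [Ideal.mem_map_iff_of_surjective ρ.toRingEquiv.toRingHom ρ.surjective]
    constructor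
    · intro hx
      exact ⟨ρ.symm x, hx, ρ.apply_symm_apply x⟩
    · rintro ⟨y, hy, rfl⟩
      change φ (ρ.symm (ρ y)) = 0
      rw [ρ.symm_apply_apply]
      exact hy
  let P : MarkedPresentation R A :=
    { n := n, m := m, c := c, hcn := hcn, hcm := hcm, rel := rel, hom := hom
      surj := hφ.comp ρ.symm.surjective
      ker_eq := hkerhom }
  -- the Jacobian minor
  have hminor : Smoothing.jacobianMinor rel (Fin.castLE hcm) (Fin.castLE hcn) =
      ρ (Smoothing.jacobianMinor f rows cols) := by
    unfold Smoothing.jacobianMinor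
    rw [AlgEquiv.map_det]
    congr 1
    ext j k
    simp only [Matrix.of_apply, AlgEquiv.mapMatrix_apply, Matrix.map_apply, rel, hσm']
    rw [hρ, hρ]
    have : Fin.castLE hcn k = σn.symm (cols k) := by rw [← hσn', Equiv.symm_apply_apply]
    rw [this, MvPolynomial.pderiv_rename σn.symm.injective]
  refine ⟨P, ⟨a', ?_⟩, ?_⟩
  · change a = a' * hom (Smoothing.jacobianMinor rel (Fin.castLE hcm) (Fin.castLE hcn))
    rw [hminor, hhom, ρ.symm_apply_apply]
    exact ha
  · intro a₁ ha₁ j hj
    change a₁ * rel j ∈ Ideal.span (rel '' {j' : Fin m | (j' : ℕ) < c}) ⊔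
      Ideal.span (Set.range rel) ^ 2
    have h1 := hkill (ρ.symm a₁) ha₁ (σm j)
    have h2 : ρ (ρ.symm a₁ * f (σm j)) ∈
        (Ideal.span (Set.range (f ∘ rows)) ⊔ Ideal.span (Set.range f) ^ 2).map
          ρ.toRingEquiv.toRingHom := Ideal.mem_map_of_mem _ h1
    rw [map_mul, ρ.apply_symm_apply, Ideal.map_sup, Ideal.map_pow, ← hspanrel] at h2
    have hsub : (Ideal.span (Set.range (f ∘ rows))).map ρ.toRingEquiv.toRingHom ≤
        Ideal.span (rel '' {j' : Fin m | (j' : ℕ) < c}) := by
      rw [Ideal.map_span, Ideal.span_le]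
      rintro _ ⟨_, ⟨j', rfl⟩, rfl⟩
      refine Ideal.subset_span ⟨Fin.castLE hcm j', ?_, ?_⟩
      · simp
      · simp only [rel, hσm']
        rfl
    exact (sup_le_sup_right hsub _) h2

theorem main {R A : Type u} [CommRing R] [CommRing A]
    [Algebra R A] [Algebra.FinitePresentation R A] :
    Smoothing.singularIdeal R A = (Ideal.span {a : A | Smoothing.IsStrictlyStandard R A a}).radical ∧
      Smoothing.singularIdeal R A =
        (Ideal.span {a : A | Smoothing.IsElementaryStandard R A a}).radical := by
  classical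
  have hrad : (singularIdeal R A).IsRadical := PrimeSpectrum.isRadical_vanishingIdeal _
  have hSS : Ideal.span {a : A | IsStrictlyStandard R A a} ≤ singularIdeal R A := by
    rw [Ideal.span_le]
    intro a ha
    exact mem_singularIdeal_of_isStrictlyStandard a ha
  have hES : Ideal.span {a : A | IsElementaryStandard R A a} ≤
      Ideal.span {a : A | IsStrictlyStandard R A a} :=
    Ideal.span_mono fun a ha => isStrictlyStandard_of_isElementaryStandard a ha
  have hle : singularIdeal R A ≤ (Ideal.span {a : A | IsElementaryStandard R A a}).radical := by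
    rw [Ideal.radical_eq_sInf]
    refine le_sInf ?_
    rintro q ⟨hq, hqprime⟩
    haveI := hqprime
    -- `q` is not in the smooth locus
    have hns : (⟨q, hqprime⟩ : PrimeSpectrum A) ∈ (Algebra.smoothLocus R A)ᶜ := by
      intro hsm
      have hsm' : Algebra.IsSmoothAt R q := hsm
      obtain ⟨n, φ, hφ, hfg⟩ := (Algebra.FinitePresentation.out : ∃ (n : ℕ)
        (f : MvPolynomial (Fin n) R →ₐ[R] A), Function.Surjective f ∧ (RingHom.ker f.toRingHom).FG)
      obtain ⟨m, f, hf⟩ := Submodule.fg_iff_exists_fin_generating_family.mp hfg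
      have hker : RingHom.ker φ.toRingHom = Ideal.span (Set.range f) := hf.symm
      obtain ⟨a, haq, c, rows, cols, a', ha, hkill⟩ :=
        Groth.Agent.S2108.result f φ hφ hker q
      have hstd : IsElementaryStandard R A a :=
        isElementaryStandard_of_data f φ hφ hker a c rows cols a' ha hkill
      exact haq (hq (Ideal.subset_span hstd))
    intro x hx
    rw [singularIdeal, PrimeSpectrum.mem_vanishingIdeal] at hx
    exact hx _ hns
  refine ⟨le_antisymm (hle.trans (Ideal.radical_mono hES)) ?_, le_antisymm hle ?_⟩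
  · exact hrad.radical_le_iff.mpr hSS
  · exact hrad.radical_le_iff.mpr (hES.trans hSS)

end aux


/-- For a finitely presented `R`-algebra `A`, the singular ideal (functions vanishing on the non-smooth
locus) coincides with the radical of the ideal spanned by all strictly standard elements, and
equally with the radical of the ideal spanned by all elementary standard elements. -/
theorem result {R A : Type u} [CommRing R] [CommRing A]
    [Algebra R A] [Algebra.FinitePresentation R A] :
    Smoothing.singularIdeal R A = (Ideal.span {a : A | Smoothing.IsStrictlyStandard R A a}).radical ∧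
      Smoothing.singularIdeal R A =
        (Ideal.span {a : A | Smoothing.IsElementaryStandard R A a}).radical := by
  exact main

end Groth.Agent.S2026
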