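import Groth.Statements.S2025
import Mathlib
import Groth.Agent.Lib.Helper22.SymKaehler

set_option autoImplicit false
universe u
open Smoothing

namespace Groth.Agent.S2025

/-- If `A` is smooth over `R` there is a smooth `A`-algebra `B` with an `A`-algebra retraction `B → A`
such that `B` is standard smooth over `R`. -/
theorem result {R A : Type u} [CommRing R] [CommRing A]
    [Algebra R A] [Algebra.Smooth R A] :
    ∃ (B : Type u) (_ : CommRing B) (_ : Algebra R B) (_ : Algebra A B) (_ : IsScalarTower R A B),
      Algebra.Smooth A B ∧ Nonempty (B →ₐ[A] A) ∧ Algebra.IsStandardSmooth R B := by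
  classical
  obtain ⟨n, ⟨P⟩⟩ := (Algebra.FiniteType.iff_exists_generators (R := R) (S := A)).mp inferInstance
  haveI : Algebra.FormallySmooth R P.toExtension.Ring :=
    inferInstanceAs (Algebra.FormallySmooth R (MvPolynomial (Fin n) R))
  obtain ⟨ρ, hρ⟩ := (Algebra.Extension.formallySmooth_iff_split_injection P.toExtension).mp
    inferInstance
  have hex := P.toExtension.exact_cotangentComplex_toKaehler
  have h12 := hex.split_tfae'.out 1 2
  obtain ⟨split, -, -⟩ := h12.mp ⟨P.toExtension.toKaehler_surjective, ρ, hρ⟩
  haveI : Module.Projective A P.toExtension.Cotangent :=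
    Module.Projective.of_split P.toExtension.cotangentComplex ρ hρ
  have hρs : Function.Surjective ρ := fun c => ⟨P.toExtension.cotangentComplex c, congr($hρ c)⟩
  haveI : Module.Finite A P.toExtension.CotangentSpace :=
    Module.Finite.of_basis P.cotangentSpaceBasis
  haveI : Module.Finite A P.toExtension.Cotangent := Module.Finite.of_surjective ρ hρs
  have hx : Algebra.adjoin R (Set.range P.val) = ⊤ := by
    rw [Algebra.adjoin_range_eq_range_aeval, AlgHom.range_eq_top]
    exact P.aeval_val_surjective
  have hπδ : P.toExtension.toKaehler ∘ₗ P.toExtension.cotangentComplex = 0 :=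
    LinearMap.ext fun c => hex.apply_apply_eq_zero c
  have hπ : ∀ i, P.toExtension.toKaehler (P.cotangentSpaceBasis i) =
      KaehlerDifferential.D R A (P.val i) := P.toKaehler_cotangentSpaceBasis
  have hkey := Groth.Agent.Lib.helper22.SymKaehler.top_le_span_sup R A P.toExtension.Cotangent
    P.toExtension.CotangentSpace P.cotangentSpaceBasis P.val hx P.toExtension.cotangentComplex
    P.toExtension.toKaehler ρ hρ hπδ hπ
  haveI : Algebra.FormallySmooth A (SymmetricAlgebra A P.toExtension.Cotangent) :=
    Groth.Agent.Lib.helper22.SymKaehler.formallySmooth_sym A _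
  haveI : Algebra.FinitePresentation A (SymmetricAlgebra A P.toExtension.Cotangent) :=
    Groth.Agent.Lib.helper22.SymKaehler.finitePresentation_sym A _
  haveI : Algebra.Smooth A (SymmetricAlgebra A P.toExtension.Cotangent) := ⟨inferInstance, inferInstance⟩
  haveI : Algebra.Smooth R (SymmetricAlgebra A P.toExtension.Cotangent) :=
    Algebra.Smooth.comp R A (SymmetricAlgebra A P.toExtension.Cotangent)
  obtain ⟨g, hg1, hg2⟩ := Submodule.exists_sub_one_mem_and_smul_le_of_fg_of_le_sup
    (N' := ⊤) (P := ⊤) (Module.Finite.fg_top) le_rfl hkey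
  haveI : Algebra.Smooth (SymmetricAlgebra A P.toExtension.Cotangent) (Localization.Away g) :=
    Algebra.Smooth.of_isLocalization_Away g
  haveI : Algebra.Smooth A (Localization.Away g) :=
    Algebra.Smooth.comp A (SymmetricAlgebra A P.toExtension.Cotangent) (Localization.Away g)
  haveI : Algebra.Smooth R (Localization.Away g) := Algebra.Smooth.comp R A (Localization.Away g)
  have hspan := Groth.Agent.Lib.helper22.SymKaehler.span_D_localization_eq_top (R := R)
    (B := Localization.Away g) _ g hg2
  obtain ⟨ε⟩ := Groth.Agent.Lib.helper22.SymKaehler.nonempty_kaehler_equiv_pi R A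
    P.toExtension.Cotangent P.toExtension.CotangentSpace P.cotangentSpaceBasis split
    (Localization.Away g) g
  have hstd := Groth.Agent.Lib.helper22.SymKaehler.isStandardSmooth_of_span ε _ hspan
  have hg1' : SymmetricAlgebra.algebraMapInv (R := A) (M := P.toExtension.Cotangent) g = 1 := by
    have := RingHom.mem_ker.mp hg1
    rwa [map_sub, map_one, sub_eq_zero] at this
  let r : Localization.Away g →ₐ[A] A :=
    IsLocalization.liftAlgHom (M := Submonoid.powers g)
      (f := SymmetricAlgebra.algebraMapInv (R := A) (M := P.toExtension.Cotangent)) (by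
        rintro ⟨_, k, rfl⟩
        simp [hg1'])
  exact ⟨Localization.Away g, inferInstance, inferInstance, inferInstance, inferInstance,
    inferInstance, ⟨r⟩, hstd⟩

end Groth.Agent.S2025
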