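import Groth.Statements.S2044
import Mathlib
import Groth.Agent.Lib.Helper26.EtaleLiftIdem
import Groth.Agent.Lib.Helper26.IdemRange

set_option autoImplicit false
universe u
open CAlg

namespace Groth.Agent.S2044

open Groth.Agent.Lib.helper26 in
/-- A finite projective module is the range of an idempotent matrix. -/
theorem exists_idem_matrix (k : Type u) [CommRing k] (P : Type u) [AddCommGroup P] [Module k P]
    [Module.Finite k P] [Module.Projective k P] :
    ∃ (n : ℕ) (M : Matrix (Fin n) (Fin n) k), M * M = M ∧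
      Nonempty (P ≃ₗ[k] LinearMap.range M.mulVecLin) := by
  obtain ⟨n, f, hf⟩ := Module.Finite.exists_fin' k P
  obtain ⟨s, hs⟩ := Module.projective_lifting_property f LinearMap.id hf
  have hsinj : Function.Injective s := by
    intro x y hxy
    have := congrArg f hxy
    have h1 : ∀ x, f (s x) = x := fun x => LinearMap.congr_fun hs x
    rwa [h1, h1] at this
  set p : (Fin n → k) →ₗ[k] (Fin n → k) := s ∘ₗ f with hp
  have hpp : p ∘ₗ p = p := by
    apply LinearMap.ext
    intro x
    change s (f (s (f x))) = s (f x)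
    congr 1
    exact LinearMap.congr_fun hs (f x)
  refine ⟨n, LinearMap.toMatrix' p, ?_, ?_⟩
  · rw [← LinearMap.toMatrix'_comp, hpp]
  · have h1 : (LinearMap.toMatrix' p).mulVecLin = p := by
      rw [← Matrix.toLin'_apply', Matrix.toLin'_toMatrix']
    rw [h1]
    have h2 : LinearMap.range p = LinearMap.range s := by
      rw [hp, LinearMap.range_comp_of_range_eq_top _ (LinearMap.range_eq_top.mpr hf)]
    rw [h2]
    exact ⟨LinearEquiv.ofInjective s hsinj⟩


open TensorProduct in
/-- Let `I ⊆ A` be an ideal and `P` a finite projective `A/I`-module. Then there is an étale `A`-algebra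
`A'` with `A/I → A'/IA'` bijective and a finite projective `A'`-module whose reduction modulo `IA'`
is the base change of `P`. -/
theorem result {A : Type u} [CommRing A] (I : Ideal A) (P : Type u)
    [AddCommGroup P] [Module (A ⧸ I) P] [Module.Finite (A ⧸ I) P] [Module.Projective (A ⧸ I) P] :
    ∃ (A' : Type u) (_ : CommRing A') (_ : Algebra A A'), Algebra.Etale A A' ∧
      Function.Bijective (algebraMap (A ⧸ I) (A' ⧸ I.map (algebraMap A A'))) ∧
      ∃ (P' : Type u) (_ : AddCommGroup P') (_ : Module A' P'), Module.Finite A' P' ∧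
        Module.Projective A' P' ∧
        Nonempty (((A' ⧸ I.map (algebraMap A A')) ⊗[A'] P') ≃ₗ[A' ⧸ I.map (algebraMap A A')]
          ((A' ⧸ I.map (algebraMap A A')) ⊗[A ⧸ I] P)) := by
  classical
  obtain ⟨n, Mb, hMb, ⟨eP⟩⟩ := exists_idem_matrix (A ⧸ I) P
  -- lift the matrix
  set M : Matrix (Fin n) (Fin n) A := Mb.map (Function.surjInv Ideal.Quotient.mk_surjective) with hM
  have hMmap : M.map (Ideal.Quotient.mk I) = Mb := by
    ext i j
    simp [hM, Function.surjInv_eq]
  have hz : ∀ i j, (M ^ 2 - M) i j ∈ I := by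
    intro i j
    rw [← Ideal.Quotient.eq_zero_iff_mem]
    have : (Ideal.Quotient.mk I).mapMatrix (M ^ 2 - M) = 0 := by
      rw [map_sub, map_pow, RingHom.mapMatrix_apply, hMmap, pow_two, hMb, sub_self]
    have h2 := congrFun (congrFun this i) j
    simpa [RingHom.mapMatrix_apply] using h2
  set p₀ := (M ^ 2 - M).charpoly with hp₀
  have hp₀monic : p₀.Monic := Matrix.charpoly_monic _
  have hp₀z : Polynomial.aeval (M ^ 2 - M) p₀ = 0 := Matrix.aeval_self_charpoly _
  have hp₀I : ∀ i ≠ p₀.natDegree, p₀.coeff i ∈ I := by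
    intro i hi
    have hcoef := Matrix.coeff_charpoly_mem_ideal_pow (I := I) hz i
    by_cases hin : i < Fintype.card (Fin n)
    · exact Ideal.pow_le_self (by omega) hcoef
    · have hle : p₀.natDegree ≤ Fintype.card (Fin n) := by
        rcases subsingleton_or_nontrivial A with h | h
        · rw [Subsingleton.elim p₀ 0]; simp
        · rw [hp₀, Matrix.charpoly_natDegree_eq_dim]
      rw [Polynomial.coeff_eq_zero_of_natDegree_lt (by omega)]
      exact I.zero_mem
  set f : Polynomial A := (p₀ * Polynomial.X).comp (Polynomial.X ^ 2 - Polynomial.X) with hf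
  have hfmonic : f.Monic := Groth.Agent.Lib.helper26.EtaleLift.monic_comp_aux p₀ hp₀monic
  have hfmap := Groth.Agent.Lib.helper26.EtaleLift.map_comp_aux I p₀ hp₀monic hp₀I
  have hfM : Polynomial.aeval M f = 0 := by
    rw [hf, Groth.Agent.Lib.helper26.EtaleLift.aeval_comp_aux, hp₀z, zero_mul]
  obtain ⟨A', i1, i2, hét, hbij, Q, R, S, ⟨T, hT⟩, hQ, hS⟩ :=
    Groth.Agent.Lib.helper26.EtaleLift.exists_idempotent_polynomial I f hfmonic p₀.natDegree hfmap
  refine ⟨A', i1, i2, hét, hbij, ?_⟩
  set J' := I.map (algebraMap A A') with hJ'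
  set M' : Matrix (Fin n) (Fin n) A' := (Algebra.ofId A A').mapMatrix M with hM'
  set N' : Matrix (Fin n) (Fin n) A' := Polynomial.aeval M' Q with hN'
  have hN'idem : N' * N' = N' := by
    have h1 : Polynomial.aeval M' (f.map (algebraMap A A')) = 0 := by
      rw [Polynomial.aeval_map_algebraMap, hM', Polynomial.aeval_algHom_apply, hfM, map_zero]
    have h2 := congrArg (Polynomial.aeval M') hT
    rw [map_mul, h1, zero_mul, map_sub, map_pow, sub_eq_zero, pow_two] at h2
    exact h2
  -- reduction of N'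
  let Ψ : Matrix (Fin n) (Fin n) A' →ₐ[A'] Matrix (Fin n) (Fin n) (A' ⧸ J') :=
    (Ideal.Quotient.mkₐ A' J').mapMatrix
  have hΨM' : Ψ M' = Mb.map (algebraMap (A ⧸ I) (A' ⧸ J')) := by
    ext i j
    simp only [Ψ, hM', AlgHom.mapMatrix_apply, Matrix.map_apply, ← hMmap]
    rfl
  have hΨM'idem : (Ψ M') ^ 2 - Ψ M' = 0 := by
    rw [hΨM', pow_two, ← Matrix.map_mul, hMb, sub_self]
  have hΨN' : Ψ N' = Ψ M' := by
    have h1 : Ψ N' = Polynomial.aeval (Ψ M') Q :=
      (Polynomial.aeval_algHom_apply Ψ M' Q).symm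
    have h2 := congrArg (Polynomial.aeval (Ψ M')) hQ
    rw [map_sub, Polynomial.aeval_X, map_add, map_mul, map_sub, map_pow, Polynomial.aeval_X,
      hΨM'idem, zero_mul, zero_add] at h2
    have h3 : Polynomial.aeval (Ψ M') S = 0 := by
      rw [Polynomial.aeval_eq_sum_range]
      apply Finset.sum_eq_zero
      intro i _
      ext a b
      rw [Matrix.smul_apply, Algebra.smul_def, Ideal.Quotient.algebraMap_eq,
        Ideal.Quotient.eq_zero_iff_mem.mpr (hS i), zero_mul]
      rfl
    rw [h3, sub_eq_zero] at h2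
    rw [h1, h2]
  have hmat : N'.map (algebraMap A' (A' ⧸ J')) = Mb.map (algebraMap (A ⧸ I) (A' ⧸ J')) := by
    rw [← hΨM', ← hΨN']
    rfl
  -- the module
  refine ⟨LinearMap.range N'.mulVecLin, inferInstance, inferInstance, inferInstance, ?_, ?_⟩
  · refine Module.Projective.of_split (LinearMap.range N'.mulVecLin).subtype
      (N'.mulVecLin.codRestrict _ (fun x => LinearMap.mem_range_self _ x)) ?_
    ext x : 1
    apply Subtype.ext
    change N'.mulVec (x : Fin n → A') = x
    exact Groth.Agent.Lib.helper26.IdemRange.mulVec_eq_self_of_mem N' hN'idem x.2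
  · obtain ⟨e1⟩ := Groth.Agent.Lib.helper26.IdemRange.nonempty_baseChange_range_equiv
      (R' := A' ⧸ J') N' hN'idem
    obtain ⟨e2⟩ := Groth.Agent.Lib.helper26.IdemRange.nonempty_baseChange_range_equiv
      (R' := A' ⧸ J') Mb hMb
    rw [hmat] at e1
    exact ⟨e1 ≪≫ₗ e2.symm ≪≫ₗ
      (TensorProduct.AlgebraTensorModule.congr (LinearEquiv.refl (A' ⧸ J') (A' ⧸ J')) eP).symm⟩


end Groth.Agent.S2044
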