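import Groth.Statements.S6827
import Mathlib
import Groth.Agent.S2025
import Groth.Agent.S2044
import Groth.Agent.Lib.Helper22.SmoothLiftCore
import Groth.Agent.Lib.Helper22.SmoothLiftStd

set_option autoImplicit false
universe u
open Smoothing

namespace Groth.Agent.S6827

section aux

open TensorProduct KaehlerDifferential

/-- From the output of the projective-lifting statement: an additive surjection `P' → N`
with kernel `J' P'`, semilinear along `B' → B'/J' ≅ B₁/J`. -/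
theorem exists_reduction_map {B₁ B' : Type u} [CommRing B₁] [CommRing B'] [Algebra B₁ B']
    (J : Ideal B₁)
    (hbij : Function.Bijective (algebraMap (B₁ ⧸ J) (B' ⧸ J.map (algebraMap B₁ B'))))
    (N : Type u) [AddCommGroup N] [Module (B₁ ⧸ J) N]
    (P' : Type u) [AddCommGroup P'] [Module B' P']
    (ε : ((B' ⧸ J.map (algebraMap B₁ B')) ⊗[B'] P') ≃ₗ[B' ⧸ J.map (algebraMap B₁ B')]
      ((B' ⧸ J.map (algebraMap B₁ B')) ⊗[B₁ ⧸ J] N)) :
    ∃ (χ : B' ⧸ J.map (algebraMap B₁ B') →+* B₁ ⧸ J) (e : P' →+ N),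
      (∀ x, χ (algebraMap (B₁ ⧸ J) _ x) = x) ∧ (∀ y, algebraMap (B₁ ⧸ J) _ (χ y) = y) ∧
      Function.Surjective e ∧
      (∀ (b : B') (p : P'), e (b • p) = χ (Ideal.Quotient.mk _ b) • e p) ∧
      (∀ p, e p = 0 ↔ p ∈ (J.map (algebraMap B₁ B')) • (⊤ : Submodule B' P')) := by
  let E : (B₁ ⧸ J) ≃+* (B' ⧸ J.map (algebraMap B₁ B')) := RingEquiv.ofBijective _ hbij
  have hE : ∀ x, E x = algebraMap (B₁ ⧸ J) _ x := fun x => rfl
  let χ : B' ⧸ J.map (algebraMap B₁ B') →+* B₁ ⧸ J := E.symm.toRingHom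
  have hχ1 : ∀ x, χ (algebraMap (B₁ ⧸ J) _ x) = x := fun x => E.symm_apply_apply x
  have hχ2 : ∀ y, algebraMap (B₁ ⧸ J) _ (χ y) = y := fun y => E.apply_symm_apply y
  -- μ
  let μ : ((B' ⧸ J.map (algebraMap B₁ B')) ⊗[B₁ ⧸ J] N) →ₗ[B₁ ⧸ J] N :=
    TensorProduct.lift
      { toFun := fun a =>
          { toFun := fun n => χ a • n
            map_add' := fun n m => smul_add _ _ _
            map_smul' := fun x n => by
              simp only [RingHom.id_apply, smul_smul, mul_comm] }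
        map_add' := fun a b => by ext n; simp [add_smul]
        map_smul' := fun x a => by
          ext n
          change χ (x • a) • n = x • (χ a • n)
          rw [Algebra.smul_def x a, map_mul, hχ1, mul_smul] }
  have hμ : ∀ a n, μ (a ⊗ₜ n) = χ a • n := fun a n => rfl
  have hμν : ∀ t, (1 : B' ⧸ J.map (algebraMap B₁ B')) ⊗ₜ[B₁ ⧸ J] (μ t) = t := by
    intro t
    induction t using TensorProduct.induction_on with
    | zero => simp
    | tmul a n =>
      rw [hμ, ← TensorProduct.smul_tmul, Algebra.smul_def, mul_one, hχ2]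
    | add x y hx hy => rw [map_add, TensorProduct.tmul_add, hx, hy]
  have hμinj : Function.Injective μ := by
    intro s t hst
    rw [← hμν s, ← hμν t, hst]
  have hμsmul : ∀ (a : B' ⧸ J.map (algebraMap B₁ B')) t, μ (a • t) = χ a • μ t := by
    intro a t
    induction t using TensorProduct.induction_on with
    | zero => simp
    | tmul a₁ n =>
      rw [TensorProduct.smul_tmul', hμ, hμ, smul_eq_mul, map_mul, mul_smul]
    | add x y hx hy => rw [smul_add, map_add, map_add, smul_add, hx, hy]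
  let e : P' →+ N :=
    { toFun := fun p => μ (ε ((1 : B' ⧸ J.map (algebraMap B₁ B')) ⊗ₜ[B'] p))
      map_zero' := by simp
      map_add' := fun p q => by simp [TensorProduct.tmul_add] }
  have he : ∀ p, e p = μ (ε ((1 : B' ⧸ J.map (algebraMap B₁ B')) ⊗ₜ[B'] p)) := fun p => rfl
  refine ⟨χ, e, hχ1, hχ2, ?_, ?_, ?_⟩
  · intro n
    obtain ⟨t, ht⟩ := ε.surjective ((1 : B' ⧸ J.map (algebraMap B₁ B')) ⊗ₜ[B₁ ⧸ J] n)
    obtain ⟨p, hp⟩ := (Submodule.mkQ_surjective _)
      (TensorProduct.quotTensorEquivQuotSMul P' (J.map (algebraMap B₁ B')) t)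
    refine ⟨p, ?_⟩
    have : (1 : B' ⧸ J.map (algebraMap B₁ B')) ⊗ₜ[B'] p = t := by
      apply (TensorProduct.quotTensorEquivQuotSMul P' (J.map (algebraMap B₁ B'))).injective
      rw [TensorProduct.quotTensorEquivQuotSMul_mk_one_tmul, ← hp]
      rfl
    rw [he, this, ht, hμ, map_one, one_smul]
  · intro b p
    rw [he, he, ← hμsmul, ← map_smul]
    congr 2
    rw [TensorProduct.smul_tmul', smul_eq_mul, mul_one, ← TensorProduct.smul_tmul]
    congr 1
    rw [Algebra.smul_def, mul_one]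
    rfl
  · intro p
    rw [he]
    constructor
    · intro h0
      have h1 : ε ((1 : B' ⧸ J.map (algebraMap B₁ B')) ⊗ₜ[B'] p) = 0 :=
        hμinj (by rw [h0, map_zero])
      have h2 : (1 : B' ⧸ J.map (algebraMap B₁ B')) ⊗ₜ[B'] p = 0 :=
        ε.injective (by rw [h1, map_zero])
      have h3 := congrArg (TensorProduct.quotTensorEquivQuotSMul P' (J.map (algebraMap B₁ B'))) h2
      rw [TensorProduct.quotTensorEquivQuotSMul_mk_one_tmul, map_zero] at h3
      exact (Submodule.Quotient.mk_eq_zero _).mp h3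
    · intro hp
      have h3 : (1 : B' ⧸ J.map (algebraMap B₁ B')) ⊗ₜ[B'] p = 0 := by
        apply (TensorProduct.quotTensorEquivQuotSMul P' (J.map (algebraMap B₁ B'))).injective
        rw [TensorProduct.quotTensorEquivQuotSMul_mk_one_tmul, map_zero]
        exact (Submodule.Quotient.mk_eq_zero _).mpr hp
      rw [h3, map_zero, map_zero]

/-- Transfer of the conormal conditions along a map `B₁ → B'` inducing a surjection
`B₁ → B'/JB'`. -/
theorem conditions_transfer {R B₁ B' : Type u} [CommRing R] [CommRing B₁] [CommRing B']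
    [Algebra R B₁] [Algebra R B'] [Algebra B₁ B'] [IsScalarTower R B₁ B']
    (I : Ideal R) (J : Ideal B₁)
    (hsurj : ∀ b' : B', ∃ b : B₁, b' - algebraMap B₁ B' b ∈ J.map (algebraMap B₁ B'))
    {N : Type u} [AddCommGroup N] [Module B₁ N] [Module B' N] [IsScalarTower B₁ B' N]
    (hJN : ∀ k ∈ J.map (algebraMap B₁ B'), ∀ n : N, k • n = 0)
    (d₁ : Ω[B₁⁄R] →ₗ[B₁] N) (d' : Ω[B'⁄R] →ₗ[B'] N)
    (hd : ∀ b, d' (D R B' (algebraMap B₁ B' b)) = d₁ (D R B₁ b))
    (hc1 : ∀ n : N, ∃ k ∈ J, d₁ (D R B₁ k) = n)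
    (hc2 : ∀ k ∈ J, d₁ (D R B₁ k) = 0 → k ∈ J ^ 2 ⊔ I.map (algebraMap R B₁)) :
    (∀ n : N, ∃ k ∈ J.map (algebraMap B₁ B'), d' (D R B' k) = n) ∧
    (∀ k ∈ J.map (algebraMap B₁ B'), d' (D R B' k) = 0 →
      k ∈ (J.map (algebraMap B₁ B')) ^ 2 ⊔ I.map (algebraMap R B')) := by
  refine ⟨fun n => ?_, ?_⟩
  · obtain ⟨k, hk, hkn⟩ := hc1 n
    exact ⟨algebraMap B₁ B' k, Ideal.mem_map_of_mem _ hk, by rw [hd, hkn]⟩
  · -- d' kills J'^2
    have hsq : ∀ y ∈ (J.map (algebraMap B₁ B')) ^ 2, d' (D R B' y) = 0 := by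
      intro y hy
      rw [pow_two] at hy
      refine Submodule.mul_induction_on hy ?_ ?_
      · intro a ha b hb
        rw [Derivation.leibniz, map_add, map_smul, map_smul, hJN a ha, hJN b hb, add_zero]
      · intro x y hx hy
        rw [map_add, map_add, hx, hy, add_zero]
    -- J' = image of J + J'^2
    have hdec : ∀ k' ∈ J.map (algebraMap B₁ B'), ∃ k₀ ∈ J,
        k' - algebraMap B₁ B' k₀ ∈ (J.map (algebraMap B₁ B')) ^ 2 := by
      intro k' hk'
      refine Submodule.span_induction (p := fun k' _ => ∃ k₀ ∈ J,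
        k' - algebraMap B₁ B' k₀ ∈ (J.map (algebraMap B₁ B')) ^ 2) ?_ ?_ ?_ ?_ hk'
      · rintro _ ⟨k, hk, rfl⟩
        exact ⟨k, hk, by rw [sub_self]; exact Ideal.zero_mem _⟩
      · exact ⟨0, J.zero_mem, by simp⟩
      · rintro x y _ _ ⟨a, ha, hxa⟩ ⟨b, hb, hyb⟩
        refine ⟨a + b, J.add_mem ha hb, ?_⟩
        have : x + y - algebraMap B₁ B' (a + b) =
            (x - algebraMap B₁ B' a) + (y - algebraMap B₁ B' b) := by rw [map_add]; ring
        rw [this]
        exact Ideal.add_mem _ hxa hyb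
      · rintro b' x hx ⟨a, ha, hxa⟩
        obtain ⟨β, hβ⟩ := hsurj b'
        refine ⟨β * a, J.mul_mem_left _ ha, ?_⟩
        have : b' • x - algebraMap B₁ B' (β * a) =
            b' * (x - algebraMap B₁ B' a) + (b' - algebraMap B₁ B' β) * algebraMap B₁ B' a := by
          rw [map_mul, smul_eq_mul]; ring
        rw [this, pow_two]
        refine Ideal.add_mem _ (Ideal.mul_mem_left _ _ (by rwa [pow_two] at hxa)) ?_
        exact Ideal.mul_mem_mul hβ (Ideal.mem_map_of_mem _ ha)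
    intro k' hk' h0
    obtain ⟨k₀, hk₀, hy⟩ := hdec k' hk'
    have h1 : d₁ (D R B₁ k₀) = 0 := by
      have := hsq _ hy
      rw [map_sub, map_sub, h0, zero_sub, neg_eq_zero, hd] at this
      exact this
    have h2 := hc2 k₀ hk₀ h1
    have h3 : algebraMap B₁ B' k₀ ∈ (J.map (algebraMap B₁ B')) ^ 2 ⊔ I.map (algebraMap R B') := by
      have hle : J ^ 2 ⊔ I.map (algebraMap R B₁) ≤
          ((J.map (algebraMap B₁ B')) ^ 2 ⊔ I.map (algebraMap R B')).comap (algebraMap B₁ B') := by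
        refine sup_le ?_ ?_
        · rw [← Ideal.map_le_iff_le_comap, Ideal.map_pow]
          exact le_sup_left
        · rw [← Ideal.map_le_iff_le_comap, Ideal.map_map, ← IsScalarTower.algebraMap_eq]
          exact le_sup_right
      exact hle h2
    have := Ideal.add_mem _ (Ideal.mem_sup_left hy) h3
    rwa [sub_add_cancel] at this

/-- Conormal data of a retraction `ρ : C → A₀` of smooth algebras. -/
theorem exists_conormal_data (R₀ A₀ C : Type u) [CommRing R₀] [CommRing A₀] [CommRing C]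
    [Algebra R₀ A₀] [Algebra R₀ C] [Algebra A₀ C] [IsScalarTower R₀ A₀ C]
    [Algebra.FormallySmooth R₀ A₀] [Algebra.Smooth R₀ C] (ρ : C →ₐ[A₀] A₀) :
    ∃ (N : Type u) (_ : AddCommGroup N) (_ : Module A₀ N), Module.Finite A₀ N ∧
      Module.Projective A₀ N ∧ ∃ δ : C →+ N,
        (∀ c₁ c₂, δ (c₁ * c₂) = ρ c₁ • δ c₂ + ρ c₂ • δ c₁) ∧
        (∀ x : R₀, δ (algebraMap R₀ C x) = 0) ∧
        (∀ n, ∃ κ, ρ κ = 0 ∧ δ κ = n) ∧
        (∀ κ, ρ κ = 0 → δ κ = 0 → κ ∈ (RingHom.ker ρ.toRingHom) ^ 2) := by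
  have hsurj : Function.Surjective (ρ.restrictScalars R₀) := fun a =>
    ⟨algebraMap A₀ C a, ρ.commutes a⟩
  let E : Algebra.Extension R₀ A₀ := Algebra.Extension.ofSurjective (ρ.restrictScalars R₀) hsurj
  haveI : Algebra.FormallySmooth R₀ E.Ring := inferInstanceAs (Algebra.FormallySmooth R₀ C)
  haveI : Algebra.FinitePresentation R₀ E.Ring :=
    inferInstanceAs (Algebra.FinitePresentation R₀ C)
  obtain ⟨l, hl⟩ := (Algebra.Extension.formallySmooth_iff_split_injection E).mp inferInstance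
  have hρ : ∀ c : E.Ring, algebraMap E.Ring A₀ c = ρ c := fun c => rfl
  haveI : Module.Projective A₀ E.Cotangent :=
    Module.Projective.of_split E.cotangentComplex l hl
  have hls : Function.Surjective l := fun c => ⟨E.cotangentComplex c, congr($hl c)⟩
  haveI : Module.Finite A₀ E.CotangentSpace :=
    inferInstanceAs (Module.Finite A₀ (A₀ ⊗[E.Ring] Ω[E.Ring⁄R₀]))
  haveI : Module.Finite A₀ E.Cotangent := Module.Finite.of_surjective l hls
  let δ' : E.Ring →+ E.Cotangent :=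
    { toFun := fun c => l ((1 : A₀) ⊗ₜ[E.Ring] (D R₀ E.Ring c))
      map_zero' := by simp
      map_add' := fun a b => by simp [TensorProduct.tmul_add] }
  let δ : C →+ E.Cotangent := δ'
  have hδ : ∀ c : E.Ring, δ c = l ((1 : A₀) ⊗ₜ[E.Ring] (D R₀ E.Ring c)) := fun c => rfl
  have hsm : ∀ (c : E.Ring) (ω : Ω[E.Ring⁄R₀]),
      l ((1 : A₀) ⊗ₜ[E.Ring] (c • ω)) = algebraMap E.Ring A₀ c • l ((1 : A₀) ⊗ₜ[E.Ring] ω) := by
    intro c ω
    rw [← map_smul]
    congr 1
    rw [TensorProduct.tmul_smul, algebraMap_smul]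
  have hker : ∀ (κ : E.Ring) (hκ : algebraMap E.Ring A₀ κ = 0), δ κ = Algebra.Extension.Cotangent.mk
      (⟨κ, (RingHom.mem_ker).mpr hκ⟩ : E.ker) := by
    intro κ hκ
    have h1 := E.cotangentComplex_mk (⟨κ, (RingHom.mem_ker).mpr hκ⟩ : E.ker)
    rw [hδ]
    change l ((1 : A₀) ⊗ₜ[E.Ring] (D R₀ E.Ring κ)) = _
    rw [← h1]
    exact congr($hl _)
  have hleib : ∀ c₁ c₂ : E.Ring, δ' (c₁ * c₂) =
      algebraMap E.Ring A₀ c₁ • δ' c₂ + algebraMap E.Ring A₀ c₂ • δ' c₁ := by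
    intro c₁ c₂
    change l ((1 : A₀) ⊗ₜ[E.Ring] (D R₀ E.Ring (c₁ * c₂))) = _
    rw [Derivation.leibniz, TensorProduct.tmul_add, map_add, hsm, hsm]
    rfl
  have hzero : ∀ x : R₀, δ' (algebraMap R₀ E.Ring x) = 0 := by
    intro x
    change l ((1 : A₀) ⊗ₜ[E.Ring] (D R₀ E.Ring (algebraMap R₀ E.Ring x))) = _
    rw [Derivation.map_algebraMap, TensorProduct.tmul_zero, map_zero]
  refine ⟨E.Cotangent, inferInstance, inferInstance, inferInstance, inferInstance, δ, ?_, ?_, ?_, ?_⟩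
  · exact hleib
  · exact hzero
  · intro n
    obtain ⟨⟨κ, hκ⟩, rfl⟩ := Algebra.Extension.Cotangent.mk_surjective n
    have hκ' : algebraMap E.Ring A₀ κ = 0 := (RingHom.mem_ker).mp hκ
    exact ⟨κ, hκ', hker κ hκ'⟩
  · intro κ hκ h0
    rw [hker κ hκ, Algebra.Extension.Cotangent.mk_eq_zero_iff] at h0
    exact h0

theorem exists_fg_sup_ker {B₁ C : Type u} [CommRing B₁] [CommRing C] (ψ : B₁ →+* C)
    (hψ : Function.Surjective ψ) (Kb : Ideal C) (hK : Kb.FG) :
    ∃ J'' : Ideal B₁, J''.FG ∧ Kb.comap ψ = J'' ⊔ RingHom.ker ψ := by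
  classical
  obtain ⟨s, hs⟩ := hK
  refine ⟨Ideal.span ((s.image (Function.surjInv hψ) : Finset B₁) : Set B₁), ⟨_, rfl⟩, ?_⟩
  have : Ideal.map ψ (Ideal.span ((s.image (Function.surjInv hψ) : Finset B₁) : Set B₁)) = Kb := by
    rw [Ideal.map_span, ← hs]
    congr 1
    ext c
    simp only [Finset.coe_image, Set.mem_image, Finset.mem_coe, exists_exists_and_eq_and,
      Function.surjInv_eq hψ, exists_eq_right]
  rw [← this, Ideal.comap_map_of_surjective ψ hψ]
  rfl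

theorem main_aux {R : Type u} [CommRing R] (I : Ideal R) (A₀ C : Type u) [CommRing A₀]
    [CommRing C] [Algebra (R ⧸ I) A₀] [Algebra (R ⧸ I) C] [Algebra A₀ C]
    [IsScalarTower (R ⧸ I) A₀ C] [Algebra.Smooth (R ⧸ I) A₀] [Algebra.Smooth (R ⧸ I) C]
    (ρ : C →ₐ[A₀] A₀) (B₁ : Type u) [CommRing B₁] [Algebra R B₁] [Algebra.Smooth R B₁]
    (ψ : B₁ →+* C)
    (hψ1 : ∀ a, ψ (algebraMap R B₁ a) = algebraMap (R ⧸ I) C (Ideal.Quotient.mk I a))
    (hψ2 : Function.Surjective ψ) (hψ3 : RingHom.ker ψ = I.map (algebraMap R B₁)) :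
    ∃ (A : Type u) (_ : CommRing A) (_ : Algebra R A), Algebra.Smooth R A ∧
      Nonempty ((A ⧸ I.map (algebraMap R A)) ≃ₐ[R ⧸ I] A₀) := by
  obtain ⟨N, _, _, hNfin, hNproj, δ, hδmul, hδR, hδsurj, hδker⟩ :=
    exists_conormal_data (R ⧸ I) A₀ C ρ
  let π : B₁ →+* A₀ := ρ.toRingHom.comp ψ
  have hπ : ∀ b, π b = ρ (ψ b) := fun _ => rfl
  have hπsurj : Function.Surjective π := fun a => by
    obtain ⟨b, hb⟩ := hψ2 (algebraMap A₀ C a)
    exact ⟨b, by rw [hπ, hb, ρ.commutes]; rfl⟩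
  have hπR : ∀ r, π (algebraMap R B₁ r) = algebraMap (R ⧸ I) A₀ (Ideal.Quotient.mk I r) := by
    intro r
    rw [hπ, hψ1, IsScalarTower.algebraMap_apply (R ⧸ I) A₀ C, ρ.commutes]
    rfl
  let J : Ideal B₁ := RingHom.ker π
  have hJ : ∀ b, b ∈ J ↔ π b = 0 := fun b => RingHom.mem_ker
  let πbar : B₁ ⧸ J ≃+* A₀ := RingHom.quotientKerEquivOfSurjective hπsurj
  have hπbar : ∀ b, πbar (Ideal.Quotient.mk J b) = π b := fun _ => rfl
  letI modBJ : Module (B₁ ⧸ J) N := Module.compHom N (πbar : B₁ ⧸ J →+* A₀)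
  have hsmulBJ : ∀ (x : B₁ ⧸ J) (n : N), x • n = πbar x • n := fun _ _ => rfl
  haveI : RingHomInvPair (πbar.symm : A₀ →+* B₁ ⧸ J) (πbar : B₁ ⧸ J →+* A₀) :=
    ⟨by ext; simp, by ext; simp⟩
  haveI : RingHomInvPair (πbar : B₁ ⧸ J →+* A₀) (πbar.symm : A₀ →+* B₁ ⧸ J) :=
    ⟨by ext; simp, by ext; simp⟩
  let eN : N ≃ₛₗ[(πbar.symm : A₀ →+* B₁ ⧸ J)] N :=
    { toFun := id
      invFun := id
      map_add' := fun _ _ => rfl
      map_smul' := fun a n => by
        change a • n = (πbar.symm a) • n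
        rw [hsmulBJ, RingEquiv.apply_symm_apply]
      left_inv := fun _ => rfl
      right_inv := fun _ => rfl }
  haveI : Module.Projective (B₁ ⧸ J) N := Module.Projective.of_equiv eN
  haveI : Module.Finite (B₁ ⧸ J) N := Module.Finite.of_surjective eN.toLinearMap eN.surjective
  obtain ⟨B', _, _, hét, hbij, P', _, _, hP'fin, hP'proj, ⟨ε⟩⟩ := Groth.Agent.S2044.result J N
  obtain ⟨χ, e, hχ1, hχ2, hesurj, hesmul, heker⟩ := exists_reduction_map J hbij N P' ε
  letI algRB' : Algebra R B' := Algebra.compHom B' (algebraMap R B₁)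
  haveI towerRB : IsScalarTower R B₁ B' := IsScalarTower.of_algebraMap_eq' rfl
  haveI : Algebra.Smooth B₁ B' := inferInstance
  haveI : Algebra.Smooth R B' := Algebra.Smooth.comp R B₁ B'
  let χ' : B' →+* A₀ := (πbar : B₁ ⧸ J →+* A₀).comp (χ.comp (Ideal.Quotient.mk _))
  have hχ' : ∀ b', χ' b' = πbar (χ (Ideal.Quotient.mk _ b')) := fun _ => rfl
  have hχ'alg : ∀ b, χ' (algebraMap B₁ B' b) = π b := by
    intro b
    rw [hχ', ← Ideal.Quotient.algebraMap_quotient_map_quotient, hχ1, hπbar]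
  letI modB' : Module B' N := Module.compHom N χ'
  letI modB₁ : Module B₁ N := Module.compHom N π
  have hsmulB' : ∀ (b : B') (n : N), b • n = χ' b • n := fun _ _ => rfl
  have hsmulB₁ : ∀ (b : B₁) (n : N), b • n = π b • n := fun _ _ => rfl
  haveI : IsScalarTower B₁ B' N := ⟨fun b b' n => by
    rw [hsmulB', hsmulB₁, hsmulB', Algebra.smul_def, map_mul, hχ'alg, mul_smul]⟩
  letI modR : Module R N :=
    Module.compHom N ((algebraMap (R ⧸ I) A₀).comp (Ideal.Quotient.mk I))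
  have hsmulR : ∀ (r : R) (n : N), r • n = algebraMap (R ⧸ I) A₀ (Ideal.Quotient.mk I r) • n :=
    fun _ _ => rfl
  haveI : IsScalarTower R B₁ N := ⟨fun r b n => by
    rw [hsmulB₁, hsmulR, hsmulB₁, Algebra.smul_def, map_mul, hπR, mul_smul]⟩
  let D₁ : Derivation R B₁ N := Derivation.mk'
    { toFun := fun b => δ (ψ b)
      map_add' := fun a b => by rw [map_add, map_add]
      map_smul' := fun r b => by
        rw [Algebra.smul_def, map_mul, hψ1, hδmul, hδR, smul_zero, add_zero, RingHom.id_apply,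
          hsmulR, IsScalarTower.algebraMap_apply (R ⧸ I) A₀ C, ρ.commutes]
        rfl }
    (fun a b => by
      change δ (ψ (a * b)) = a • δ (ψ b) + b • δ (ψ a)
      rw [map_mul, hδmul, hsmulB₁, hsmulB₁, hπ, hπ])
  have hD₁ : ∀ b, D₁ b = δ (ψ b) := fun _ => rfl
  let d₁ : Ω[B₁⁄R] →ₗ[B₁] N := D₁.liftKaehlerDifferential
  have hd₁ : ∀ b, d₁ (D R B₁ b) = δ (ψ b) := fun b => D₁.liftKaehlerDifferential_comp_D b
  haveI : Algebra.FormallyEtale B₁ B' := inferInstance
  let d' : Ω[B'⁄R] →ₗ[B'] N :=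
    (KaehlerDifferential.isBaseChange_of_formallyEtale R B₁ B').lift d₁
  have hd' : ∀ b, d' (D R B' (algebraMap B₁ B' b)) = d₁ (D R B₁ b) := by
    intro b
    have := IsBaseChange.lift_eq (KaehlerDifferential.isBaseChange_of_formallyEtale R B₁ B') d₁
      (D R B₁ b)
    rwa [KaehlerDifferential.map_D] at this
  let e' : P' →ₗ[B'] N :=
    { toFun := e
      map_add' := e.map_add
      map_smul' := fun b p => by
        rw [hesmul, RingHom.id_apply, hsmulBJ, hsmulB', hχ'] }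
  have he' : ∀ p, e' p = e p := fun _ => rfl
  -- finite generation
  have hKbfg : (RingHom.ker (ρ.restrictScalars (R ⧸ I)).toRingHom).FG :=
    Algebra.FinitePresentation.ker_fG_of_surjective (ρ.restrictScalars (R ⧸ I))
      (fun a => ⟨algebraMap A₀ C a, ρ.commutes a⟩)
  obtain ⟨J'', hJ''fg, hJ''⟩ := exists_fg_sup_ker ψ hψ2 _ hKbfg
  have hJeq : J = J'' ⊔ I.map (algebraMap R B₁) := by
    rw [← hψ3, ← hJ'']
    rfl
  have hJ'eq : J.map (algebraMap B₁ B') =
      J''.map (algebraMap B₁ B') ⊔ I.map (algebraMap R B') := by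
    rw [hJeq, Ideal.map_sup, Ideal.map_map, ← IsScalarTower.algebraMap_eq]
  -- B₁-level conditions
  have hJmap : J.map ψ = RingHom.ker ρ.toRingHom := by
    have : J = (RingHom.ker ρ.toRingHom).comap ψ := rfl
    rw [this, Ideal.map_comap_of_surjective ψ hψ2]
  have hc1 : ∀ n : N, ∃ k ∈ J, d₁ (D R B₁ k) = n := by
    intro n
    obtain ⟨κ, hκ, hκn⟩ := hδsurj n
    obtain ⟨k, rfl⟩ := hψ2 κ
    exact ⟨k, (hJ k).mpr hκ, by rw [hd₁, hκn]⟩
  have hc2 : ∀ k ∈ J, d₁ (D R B₁ k) = 0 → k ∈ J ^ 2 ⊔ I.map (algebraMap R B₁) := by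
    intro k hk h0
    rw [hd₁] at h0
    have h1 := hδker (ψ k) ((hJ k).mp hk) h0
    rw [← hJmap, ← Ideal.map_pow] at h1
    have h2 : k ∈ (Ideal.map ψ (J ^ 2)).comap ψ := h1
    rw [Ideal.comap_map_of_surjective ψ hψ2] at h2
    rw [← hψ3]
    exact h2
  have hsurj' : ∀ b' : B', ∃ b : B₁, b' - algebraMap B₁ B' b ∈ J.map (algebraMap B₁ B') := by
    intro b'
    obtain ⟨b, hb⟩ := Ideal.Quotient.mk_surjective (χ (Ideal.Quotient.mk _ b'))
    refine ⟨b, ?_⟩
    rw [← Ideal.Quotient.eq_zero_iff_mem, map_sub, sub_eq_zero,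
      ← Ideal.Quotient.algebraMap_quotient_map_quotient, hb, hχ2]
  have hJN : ∀ k ∈ J.map (algebraMap B₁ B'), ∀ n : N, k • n = 0 := by
    intro k hk n
    rw [hsmulB', hχ', Ideal.Quotient.eq_zero_iff_mem.mpr hk, map_zero, map_zero, zero_smul]
  obtain ⟨hc1', hc2'⟩ := conditions_transfer I J hsurj' hJN d₁ d' hd' hc1 hc2
  have hker' : LinearMap.ker e' = (J.map (algebraMap B₁ B')) • ⊤ := by
    ext p
    rw [LinearMap.mem_ker, he']
    exact heker p
  obtain ⟨A, _, _, hsm, χA, hχA1, hχA2, hχA3⟩ :=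
    Groth.Agent.Lib.helper22.SmoothLiftCore.exists_smooth_of_data I (J.map (algebraMap B₁ B'))
      (J''.map (algebraMap B₁ B')) (hJ''fg.map _) hJ'eq e' hesurj hker' d' hc1' hc2'
  -- final identification
  let Ψ : A →+* A₀ := ((πbar : B₁ ⧸ J →+* A₀).comp χ).comp χA
  have hΨ : ∀ a, Ψ a = πbar (χ (χA a)) := fun _ => rfl
  have hχinj : Function.Injective χ := by
    intro x y hxy
    rw [← hχ2 x, ← hχ2 y, hxy]
  have hχsurj : Function.Surjective χ := fun x => ⟨_, hχ1 x⟩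
  refine ⟨A, inferInstance, inferInstance, hsm, ?_⟩
  refine Groth.Agent.Lib.helper22.SmoothLiftStd.nonempty_quotient_algEquiv_of_surjective I A A₀ Ψ
    ?_ ?_ ?_
  · intro r
    rw [hΨ, hχA1]
    have : algebraMap R (B' ⧸ J.map (algebraMap B₁ B')) r =
        Ideal.Quotient.mk _ (algebraMap B₁ B' (algebraMap R B₁ r)) := rfl
    rw [this, ← hχ', hχ'alg, hπR]
  · intro a
    obtain ⟨x, hx⟩ := πbar.surjective a
    obtain ⟨y, hy⟩ := hχsurj x
    obtain ⟨z, hz⟩ := hχA2 y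
    exact ⟨z, by rw [hΨ, hz, hy, hx]⟩
  · rw [← hχA3]
    ext a
    rw [RingHom.mem_ker, RingHom.mem_ker, hΨ]
    constructor
    · intro h
      have h1 : χ (χA a) = 0 := πbar.injective (by rw [h, map_zero])
      exact hχinj (by rw [h1, map_zero])
    · intro h
      rw [h, map_zero, map_zero]

end aux

/-- Let R → R₀ be a surjective ring map with kernel I (so R₀ = R/I) and A₀ a smooth R₀-algebra. Then
there is a smooth R-algebra A with A/IA isomorphic to A₀ as an R/I-algebra. -/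
theorem result {R A₀ : Type u} [CommRing R] (I : Ideal R) [CommRing A₀]
    [Algebra (R ⧸ I) A₀] [Algebra.Smooth (R ⧸ I) A₀] :
    ∃ (A : Type u) (_ : CommRing A) (_ : Algebra R A), Algebra.Smooth R A ∧
      Nonempty ((A ⧸ I.map (algebraMap R A)) ≃ₐ[R ⧸ I] A₀) := by
  obtain ⟨C, _, _, _, _, hsmAC, ⟨ρ⟩, hstd⟩ := Groth.Agent.S2025.result (R := R ⧸ I) (A := A₀)
  haveI : Algebra.Smooth (R ⧸ I) C := Algebra.Smooth.comp (R ⧸ I) A₀ C
  obtain ⟨B₁, _, _, hstd₁, ψ, hψ1, hψ2, hψ3⟩ :=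
    Groth.Agent.Lib.helper22.SmoothLiftStd.exists_isStandardSmooth_lift I C
  haveI : Algebra.Smooth R B₁ := inferInstance
  exact main_aux I A₀ C ρ B₁ ψ hψ1 hψ2 hψ3

end Groth.Agent.S6827
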