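import Groth.Statements.S2023
import Mathlib
import Groth.Agent.S6827

set_option autoImplicit false
universe u
open Smoothing

namespace Groth.Agent.S2023

section aux

theorem exists_sum_of_mem_map {R Λ : Type u} [CommRing R] [CommRing Λ] [Algebra R Λ] (I : Ideal R)
    (z : Λ) (hz : z ∈ I.map (algebraMap R Λ)) :
    ∃ (k : ℕ) (e : Fin k → R) (l : Fin k → Λ), (∀ j, e j ∈ I) ∧
      z = ∑ j, algebraMap R Λ (e j) * l j := by
  refine Submodule.span_induction (p := fun z _ => ∃ (k : ℕ) (e : Fin k → R) (l : Fin k → Λ),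
    (∀ j, e j ∈ I) ∧ z = ∑ j, algebraMap R Λ (e j) * l j) ?_ ?_ ?_ ?_ hz
  · rintro _ ⟨r, hr, rfl⟩
    exact ⟨1, fun _ => r, fun _ => 1, fun _ => hr, by simp⟩
  · exact ⟨0, Fin.elim0, Fin.elim0, fun j => j.elim0, by simp⟩
  · rintro x y _ _ ⟨k₁, e₁, l₁, h₁, rfl⟩ ⟨k₂, e₂, l₂, h₂, rfl⟩
    refine ⟨k₁ + k₂, Fin.append e₁ e₂, Fin.append l₁ l₂, ?_, ?_⟩
    · intro j
      refine Fin.addCases (fun i => ?_) (fun i => ?_) j
      · rw [Fin.append_left]; exact h₁ i
      · rw [Fin.append_right]; exact h₂ i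
    · rw [Fin.sum_univ_add]
      simp only [Fin.append_left, Fin.append_right]
  · rintro a x _ ⟨k, e, l, h, rfl⟩
    refine ⟨k, e, fun j => a * l j, h, ?_⟩
    rw [smul_eq_mul, Finset.mul_sum]
    exact Finset.sum_congr rfl fun j _ => by ring

open MvPolynomial in
theorem core {R Λ A S : Type u} [CommRing R] [CommRing Λ] [Algebra R Λ] (I : Ideal R)
    [CommRing A] [Algebra R A] [CommRing S] [Algebra R S] [Algebra.Smooth R S]
    (φ : A →ₐ[R] Λ) (n : ℕ) (α : MvPolynomial (Fin n) R →ₐ[R] A) (hα : Function.Surjective α)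
    (hfg : (RingHom.ker α.toRingHom).FG) (γ : S →ₐ[R] Λ) (c : Fin n → S)
    (h1 : ∀ i, φ (α (X i)) - γ (c i) ∈ I.map (algebraMap R Λ))
    (h2 : ∀ p ∈ RingHom.ker α.toRingHom, aeval c p ∈ I.map (algebraMap R S)) :
    ∃ (B : Type u) (_ : CommRing B) (_ : Algebra R B), Algebra.Smooth R B ∧
      ∃ J : Ideal B, J ≤ I.map (algebraMap R B) ∧ J.FG ∧
        ∃ (g : A →ₐ[R] B ⧸ J) (k : (B ⧸ J) →ₐ[R] Λ), k.comp g = φ := by
  classical
  choose k e l he hz using fun i => exists_sum_of_mem_map I _ (h1 i)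
  let ι := Σ i : Fin n, Fin (k i)
  let B := MvPolynomial ι S
  haveI : Algebra.FinitePresentation S B := inferInstance
  haveI : Algebra.Smooth S B := ⟨inferInstance, inferInstance⟩
  haveI : Algebra.Smooth R B := Algebra.Smooth.comp R S B
  letI algCΛ : Algebra S Λ := γ.toRingHom.toAlgebra
  haveI : IsScalarTower R S Λ := IsScalarTower.of_algebraMap_eq (fun r => (γ.commutes r).symm)
  let κ₀ : B →ₐ[R] Λ := (aeval (fun x : ι => l x.1 x.2) : B →ₐ[S] Λ).restrictScalars R
  have hκ₀X : ∀ x : ι, κ₀ (X x) = l x.1 x.2 := fun x => aeval_X _ x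
  have hκ₀C : ∀ y : S, κ₀ (C y) = γ y := fun y => by
    change aeval (fun x : ι => l x.1 x.2) (C y) = _
    rw [aeval_C]; rfl
  let b : Fin n → B := fun i => C (c i) + ∑ j : Fin (k i), C (algebraMap R S (e i j)) * X ⟨i, j⟩
  have hκ₀b : ∀ i, κ₀ (b i) = φ (α (X i)) := by
    intro i
    simp only [b, map_add, map_sum, map_mul, hκ₀C, hκ₀X, AlgHom.commutes]
    rw [← hz i]
    ring
  let g₀ : MvPolynomial (Fin n) R →ₐ[R] B := aeval b
  have hκg : κ₀.comp g₀ = φ.comp α := by
    apply MvPolynomial.algHom_ext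
    intro i
    simp only [AlgHom.coe_comp, Function.comp_apply, g₀, aeval_X, hκ₀b]
  let J : Ideal B := (RingHom.ker α.toRingHom).map g₀.toRingHom
  have hJfg : J.FG := hfg.map _
  have hJle : J ≤ I.map (algebraMap R B) := by
    rw [Ideal.map_le_iff_le_comap]
    intro p hp
    rw [Ideal.mem_comap]
    -- compare g₀ p with C (aeval c p) modulo I B
    have key : (Ideal.Quotient.mkₐ R (I.map (algebraMap R B))).comp g₀ =
        (Ideal.Quotient.mkₐ R (I.map (algebraMap R B))).comp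
          ((Algebra.ofId S B).restrictScalars R |>.comp (aeval c)) := by
      apply MvPolynomial.algHom_ext
      intro i
      simp only [AlgHom.coe_comp, Function.comp_apply, g₀, aeval_X, Ideal.Quotient.mkₐ_eq_mk,
        AlgHom.coe_restrictScalars']
      rw [Ideal.Quotient.eq]
      change b i - C (c i) ∈ _
      simp only [b, add_sub_cancel_left]
      refine Ideal.sum_mem _ fun j _ => Ideal.mul_mem_right _ _ ?_
      have : (C (algebraMap R S (e i j)) : B) = algebraMap R B (e i j) := rfl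
      rw [this]
      exact Ideal.mem_map_of_mem _ (he i j)
    have h3 := congrArg (fun f => f p) key
    simp only [AlgHom.coe_comp, Function.comp_apply, Ideal.Quotient.mkₐ_eq_mk,
      AlgHom.coe_restrictScalars'] at h3
    rw [Ideal.Quotient.eq] at h3
    have h4 : (Algebra.ofId S B) (aeval c p) ∈ I.map (algebraMap R B) := by
      have hle : I.map (algebraMap R S) ≤ (I.map (algebraMap R B)).comap (algebraMap S B) := by
        rw [Ideal.map_le_iff_le_comap]
        intro r hr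
        rw [Ideal.mem_comap, Ideal.mem_comap, ← IsScalarTower.algebraMap_apply]
        exact Ideal.mem_map_of_mem _ hr
      exact hle (h2 p hp)
    have := Ideal.add_mem _ h3 h4
    rwa [sub_add_cancel] at this
  have hκ₀J : ∀ x ∈ J, κ₀ x = 0 := by
    intro x hx
    have hle : J ≤ RingHom.ker κ₀.toRingHom := by
      rw [Ideal.map_le_iff_le_comap]
      intro p hp
      rw [Ideal.mem_comap, RingHom.mem_ker]
      have := congrArg (fun f => f p) hκg
      simp only [AlgHom.coe_comp, Function.comp_apply] at this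
      change κ₀ (g₀ p) = 0
      rw [this, (RingHom.mem_ker.mp hp : α p = 0), map_zero]
    exact hle hx
  let kk : (B ⧸ J) →ₐ[R] Λ := Ideal.Quotient.liftₐ J κ₀ hκ₀J
  have hkk : ∀ x, kk (Ideal.Quotient.mk J x) = κ₀ x := fun x => rfl
  let g₁ : (MvPolynomial (Fin n) R ⧸ RingHom.ker α.toRingHom) →ₐ[R] B ⧸ J :=
    Ideal.quotientMapₐ J g₀ Ideal.le_comap_map
  have hg₁ : ∀ p, g₁ (Ideal.Quotient.mk _ p) = Ideal.Quotient.mk J (g₀ p) := fun p => rfl
  let eα : (MvPolynomial (Fin n) R ⧸ RingHom.ker α.toRingHom) ≃ₐ[R] A :=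
    Ideal.quotientKerAlgEquivOfSurjective hα
  have heα : ∀ p, eα (Ideal.Quotient.mk _ p) = α p := fun p => rfl
  refine ⟨B, inferInstance, inferInstance, inferInstance, J, hJle, hJfg,
    g₁.comp eα.symm.toAlgHom, kk, ?_⟩
  apply AlgHom.ext
  intro a
  obtain ⟨p, rfl⟩ := hα a
  have : eα.symm (α p) = Ideal.Quotient.mk _ p := by
    rw [AlgEquiv.symm_apply_eq, heα]
  simp only [AlgHom.coe_comp, Function.comp_apply, AlgEquiv.coe_toAlgHom]
  rw [this, hg₁, hkk]
  exact congrArg (fun f => f p) hκg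

open MvPolynomial in
theorem main {R Λ A : Type u} [CommRing R] [CommRing Λ] [Algebra R Λ] (I : Ideal R)
    (hI : I ^ 2 = ⊥) (h : Smoothing.IndSmooth (R ⧸ I) (Λ ⧸ I.map (algebraMap R Λ)))
    [CommRing A] [Algebra R A] [Algebra.FinitePresentation R A] (φ : A →ₐ[R] Λ) :
    ∃ (B : Type u) (_ : CommRing B) (_ : Algebra R B), Algebra.Smooth R B ∧
      ∃ J : Ideal B, J ≤ I.map (algebraMap R B) ∧ J.FG ∧
        ∃ (g : A →ₐ[R] B ⧸ J) (k : (B ⧸ J) →ₐ[R] Λ), k.comp g = φ := by
  obtain ⟨n, α, hα, hfg⟩ := (Algebra.FinitePresentation.out : ∃ (n : ℕ)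
    (f : MvPolynomial (Fin n) R →ₐ[R] A), Function.Surjective f ∧ (RingHom.ker f.toRingHom).FG)
  haveI : Algebra.FinitePresentation (R ⧸ I) (A ⧸ I.map (algebraMap R A)) :=
    Algebra.FinitePresentation.equiv (Algebra.TensorProduct.quotIdealMapEquivQuotTensor A I).symm
  have hle : I.map (algebraMap R A) ≤ (I.map (algebraMap R Λ)).comap φ := by
    rw [Ideal.map_le_iff_le_comap]
    intro r hr
    rw [Ideal.mem_comap, Ideal.mem_comap, φ.commutes]
    exact Ideal.mem_map_of_mem _ hr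
  let φ₁ : (A ⧸ I.map (algebraMap R A)) →ₐ[R] (Λ ⧸ I.map (algebraMap R Λ)) :=
    Ideal.quotientMapₐ _ φ hle
  have hφ₁ : ∀ a, φ₁ (Ideal.Quotient.mk _ a) = Ideal.Quotient.mk _ (φ a) := fun a => rfl
  let φbar : (A ⧸ I.map (algebraMap R A)) →ₐ[R ⧸ I] (Λ ⧸ I.map (algebraMap R Λ)) :=
    { toRingHom := φ₁.toRingHom
      commutes' := by
        intro x
        obtain ⟨r, rfl⟩ := Ideal.Quotient.mk_surjective x
        change φ₁ (algebraMap (R ⧸ I) _ (Ideal.Quotient.mk I r)) = _
        rw [Ideal.Quotient.algebraMap_quotient_map_quotient, hφ₁, φ.commutes,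
          Ideal.Quotient.algebraMap_quotient_map_quotient] }
  have hφbar : ∀ a, φbar (Ideal.Quotient.mk _ a) = Ideal.Quotient.mk _ (φ a) := fun a => rfl
  obtain ⟨Cb, _, _, hCb, gb, hb, hgh⟩ := h (A ⧸ I.map (algebraMap R A)) inferInstance φbar
  obtain ⟨S, _, _, hS, ⟨ε⟩⟩ := Groth.Agent.S6827.result (R := R) (A₀ := Cb) I
  have hsq : (I.map (algebraMap R Λ)) ^ 2 = ⊥ := by
    rw [← Ideal.map_pow, hI, Ideal.map_bot]
  let γ₀ : S →ₐ[R] (Λ ⧸ I.map (algebraMap R Λ)) :=
    { toRingHom := (hb.toRingHom.comp ε.toAlgHom.toRingHom).comp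
        (Ideal.Quotient.mk (I.map (algebraMap R S)))
      commutes' := by
        intro r
        change hb (ε (Ideal.Quotient.mk _ (algebraMap R S r))) = _
        rw [← Ideal.Quotient.algebraMap_quotient_map_quotient, ε.commutes, hb.commutes,
          Ideal.Quotient.algebraMap_quotient_map_quotient]
        rfl }
  have hγ₀ : ∀ s, γ₀ s = hb (ε (Ideal.Quotient.mk _ s)) := fun s => rfl
  let γ : S →ₐ[R] Λ := Algebra.FormallySmooth.lift _ ⟨2, hsq⟩ γ₀
  have hγ : ∀ s, Ideal.Quotient.mk (I.map (algebraMap R Λ)) (γ s) = γ₀ s :=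
    Algebra.FormallySmooth.mk_lift _ ⟨2, hsq⟩ γ₀
  have hsurj : Function.Surjective fun s : S => ε (Ideal.Quotient.mk (I.map (algebraMap R S)) s) :=
    ε.surjective.comp Ideal.Quotient.mk_surjective
  choose c hc using fun i : Fin n => hsurj (gb (Ideal.Quotient.mk _ (α (X i))))
  refine core I φ n α hα hfg γ c ?_ ?_
  · intro i
    rw [← Ideal.Quotient.eq, hγ, hγ₀]
    have := hc i
    simp only at this
    rw [this, ← hφbar, ← hgh]
    rfl
  · intro p hp
    have hp' : α p = 0 := RingHom.mem_ker.mp hp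
    let f₁ : MvPolynomial (Fin n) R →+* Cb :=
      (ε.toAlgHom.toRingHom.comp (Ideal.Quotient.mk (I.map (algebraMap R S)))).comp
        (aeval c : MvPolynomial (Fin n) R →ₐ[R] S).toRingHom
    let f₂ : MvPolynomial (Fin n) R →+* Cb :=
      (gb.toRingHom.comp (Ideal.Quotient.mk (I.map (algebraMap R A)))).comp α.toRingHom
    have hf : f₁ = f₂ := by
      apply MvPolynomial.ringHom_ext
      · intro r
        change ε (Ideal.Quotient.mk _ (aeval c (C r))) = gb (Ideal.Quotient.mk _ (α (C r)))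
        rw [← MvPolynomial.algebraMap_eq, AlgHom.commutes, AlgHom.commutes,
          ← Ideal.Quotient.algebraMap_quotient_map_quotient,
          ← Ideal.Quotient.algebraMap_quotient_map_quotient, ε.commutes, gb.commutes]
      · intro i
        change ε (Ideal.Quotient.mk _ (aeval c (X i))) = gb (Ideal.Quotient.mk _ (α (X i)))
        rw [aeval_X]
        exact hc i
    have h3 : ε (Ideal.Quotient.mk _ (aeval c p)) = 0 := by
      have := congrArg (fun f => f p) hf
      change ε (Ideal.Quotient.mk _ (aeval c p)) = gb (Ideal.Quotient.mk _ (α p)) at this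
      rw [this, hp', map_zero, map_zero]
    rw [map_eq_zero_iff ε ε.injective] at h3
    exact Ideal.Quotient.eq_zero_iff_mem.mp h3

end aux

/-- Let `I` be an ideal of square zero in `R` and `Λ` an `R`-algebra with `Λ/IΛ` ind-smooth over `R/I`.
Any `R`-algebra map `A → Λ` with `A` finitely presented factors through a quotient `B/J`, where `B`
is a smooth `R`-algebra and `J` is a finitely generated ideal contained in `IB`. -/
theorem result {R Λ A : Type u} [CommRing R] [CommRing Λ] [Algebra R Λ] (I : Ideal R)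
    (hI : I ^ 2 = ⊥) (h : Smoothing.IndSmooth (R ⧸ I) (Λ ⧸ I.map (algebraMap R Λ)))
    [CommRing A] [Algebra R A] [Algebra.FinitePresentation R A] (φ : A →ₐ[R] Λ) :
    ∃ (B : Type u) (_ : CommRing B) (_ : Algebra R B), Algebra.Smooth R B ∧
      ∃ J : Ideal B, J ≤ I.map (algebraMap R B) ∧ J.FG ∧
        ∃ (g : A →ₐ[R] B ⧸ J) (k : (B ⧸ J) →ₐ[R] Λ), k.comp g = φ := by
  exact main I hI h φ

end Groth.Agent.S2023
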