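import Groth.Statements.S6821
import Mathlib
import Groth.Agent.S2023
import Groth.Agent.S6827
-- import your own Groth.Agent.* helpers here

set_option autoImplicit false
universe u
open Smoothing

namespace Groth.Agent.S6821

section aux

/-- reduction of an `R`-algebra map modulo `I`, as an `R/I`-algebra map. -/
noncomputable def quotMapBar {R A Λ : Type u} [CommRing R] [CommRing A] [Algebra R A] [CommRing Λ]
    [Algebra R Λ] (I : Ideal R) (φ : A →ₐ[R] Λ) :
    (A ⧸ I.map (algebraMap R A)) →ₐ[R ⧸ I] (Λ ⧸ I.map (algebraMap R Λ)) :=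
  have hle : I.map (algebraMap R A) ≤ (I.map (algebraMap R Λ)).comap φ := by
    rw [Ideal.map_le_iff_le_comap]
    intro r hr
    rw [Ideal.mem_comap, Ideal.mem_comap, φ.commutes]
    exact Ideal.mem_map_of_mem _ hr
  { toRingHom := (Ideal.quotientMapₐ _ φ hle).toRingHom
    commutes' := by
      intro x
      obtain ⟨r, rfl⟩ := Ideal.Quotient.mk_surjective x
      change (Ideal.quotientMapₐ _ φ hle) (algebraMap (R ⧸ I) _ (Ideal.Quotient.mk I r)) = _
      rw [Ideal.Quotient.algebraMap_quotient_map_quotient]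
      change Ideal.Quotient.mk _ (φ (algebraMap R A r)) = _
      rw [φ.commutes, Ideal.Quotient.algebraMap_quotient_map_quotient] }

theorem quotMapBar_mk {R A Λ : Type u} [CommRing R] [CommRing A] [Algebra R A] [CommRing Λ]
    [Algebra R Λ] (I : Ideal R) (φ : A →ₐ[R] Λ) (a : A) :
    quotMapBar I φ (Ideal.Quotient.mk _ a) = Ideal.Quotient.mk _ (φ a) := rfl

open MvPolynomial in
theorem core {R Λ B : Type u} [CommRing R] [CommRing Λ] [Algebra R Λ] (I : Ideal R)
    (hI : I ^ 2 = ⊥) (h : Smoothing.IndSmooth (R ⧸ I) (Λ ⧸ I.map (algebraMap R Λ)))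
    [CommRing B] [Algebra R B] [Algebra.Smooth R B] (φ : B →ₐ[R] Λ)
    {P Q : Type} [Finite P] [Finite Q] (rel : P → MvPolynomial Q B) (yy : Q → Λ)
    (hrel : ∀ p, eval₂ φ.toRingHom yy (rel p) = 0) :
    ∃ (S : Type u) (_ : CommRing S) (_ : Algebra R S), Algebra.Smooth R S ∧
      ∃ (α : B →ₐ[R] S) (β : S →ₐ[R] Λ) (Y : Q → S),
        (∀ p, eval₂ α.toRingHom Y (rel p) ∈ I.map (algebraMap R S)) ∧
        ∀ b, β (α b) - φ b ∈ I.map (algebraMap R Λ) := by
  classical
  let K : Ideal (MvPolynomial Q B) := Ideal.span (Set.range rel)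
  let D := MvPolynomial Q B ⧸ K
  have hKfg : K.FG := by
    refine ⟨(Set.finite_range rel).toFinset, ?_⟩
    simp [K]
  haveI : Algebra.FinitePresentation B D := Algebra.FinitePresentation.quotient hKfg
  haveI : Algebra.FinitePresentation R D := Algebra.FinitePresentation.trans R B D
  -- the map to Λ
  let κ₀ : MvPolynomial Q B →ₐ[R] Λ :=
    { toRingHom := eval₂Hom φ.toRingHom yy
      commutes' := by
        intro r
        change eval₂ φ.toRingHom yy (C (algebraMap R B r)) = _
        rw [eval₂_C]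
        exact φ.commutes r }
  have hκ₀ : ∀ p, κ₀ p = eval₂ φ.toRingHom yy p := fun p => rfl
  have hκ₀K : ∀ x ∈ K, κ₀ x = 0 := by
    have hle : K ≤ RingHom.ker κ₀.toRingHom := by
      rw [Ideal.span_le]
      rintro _ ⟨p, rfl⟩
      exact hrel p
    exact fun x hx => hle hx
  let κ : D →ₐ[R] Λ := Ideal.Quotient.liftₐ K κ₀ hκ₀K
  have hκ : ∀ p, κ (Ideal.Quotient.mk K p) = κ₀ p := fun p => rfl
  haveI : Algebra.FinitePresentation (R ⧸ I) (D ⧸ I.map (algebraMap R D)) :=
    Algebra.FinitePresentation.equiv (Algebra.TensorProduct.quotIdealMapEquivQuotTensor D I).symm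
  obtain ⟨Cb, _, _, hCb, gb, hb, hgh⟩ := h (D ⧸ I.map (algebraMap R D)) inferInstance
    (quotMapBar I κ)
  obtain ⟨S, _, _, hS, ⟨ε⟩⟩ := Groth.Agent.S6827.result (R := R) (A₀ := Cb) I
  have hsq : (I.map (algebraMap R Λ)) ^ 2 = ⊥ := by
    rw [← Ideal.map_pow, hI, Ideal.map_bot]
  have hsqS : (I.map (algebraMap R S)) ^ 2 = ⊥ := by
    rw [← Ideal.map_pow, hI, Ideal.map_bot]
  -- β
  let β₀ : S →ₐ[R] (Λ ⧸ I.map (algebraMap R Λ)) :=
    { toRingHom := (hb.toRingHom.comp ε.toAlgHom.toRingHom).comp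
        (Ideal.Quotient.mk (I.map (algebraMap R S)))
      commutes' := by
        intro r
        change hb (ε (Ideal.Quotient.mk _ (algebraMap R S r))) = _
        rw [← Ideal.Quotient.algebraMap_quotient_map_quotient, ε.commutes, hb.commutes,
          Ideal.Quotient.algebraMap_quotient_map_quotient]
        rfl }
  have hβ₀ : ∀ s, β₀ s = hb (ε (Ideal.Quotient.mk _ s)) := fun s => rfl
  let β : S →ₐ[R] Λ := Algebra.FormallySmooth.lift _ ⟨2, hsq⟩ β₀
  have hβ : ∀ s, Ideal.Quotient.mk (I.map (algebraMap R Λ)) (β s) = β₀ s :=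
    Algebra.FormallySmooth.mk_lift _ ⟨2, hsq⟩ β₀
  -- α
  let α₀ : B →ₐ[R] (S ⧸ I.map (algebraMap R S)) :=
    { toRingHom := ((ε.symm.toAlgHom.toRingHom.comp gb.toRingHom).comp
        (Ideal.Quotient.mk (I.map (algebraMap R D)))).comp
          ((Ideal.Quotient.mk K).comp (C : B →+* MvPolynomial Q B))
      commutes' := by
        intro r
        change ε.symm (gb (Ideal.Quotient.mk _ (Ideal.Quotient.mk K (C (algebraMap R B r))))) = _
        have : (Ideal.Quotient.mk K (C (algebraMap R B r)) : D) = algebraMap R D r := rfl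
        rw [this, ← Ideal.Quotient.algebraMap_quotient_map_quotient, gb.commutes, ε.symm.commutes,
          Ideal.Quotient.algebraMap_quotient_map_quotient]
        rfl }
  have hα₀ : ∀ b, α₀ b = ε.symm (gb (Ideal.Quotient.mk _ (Ideal.Quotient.mk K (C b)))) :=
    fun b => rfl
  let α : B →ₐ[R] S := Algebra.FormallySmooth.lift _ ⟨2, hsqS⟩ α₀
  have hα : ∀ b, Ideal.Quotient.mk (I.map (algebraMap R S)) (α b) = α₀ b :=
    Algebra.FormallySmooth.mk_lift _ ⟨2, hsqS⟩ α₀
  have hsurj : Function.Surjective fun s : S => ε (Ideal.Quotient.mk (I.map (algebraMap R S)) s) :=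
    ε.surjective.comp Ideal.Quotient.mk_surjective
  choose Y hY using fun q : Q => hsurj (gb (Ideal.Quotient.mk _ (Ideal.Quotient.mk K (X q))))
  refine ⟨S, inferInstance, inferInstance, hS, α, β, Y, ?_, ?_⟩
  · intro p
    let f₁ : MvPolynomial Q B →+* Cb :=
      (ε.toAlgHom.toRingHom.comp (Ideal.Quotient.mk (I.map (algebraMap R S)))).comp
        (eval₂Hom α.toRingHom Y)
    let f₂ : MvPolynomial Q B →+* Cb :=
      (gb.toRingHom.comp (Ideal.Quotient.mk (I.map (algebraMap R D)))).comp (Ideal.Quotient.mk K)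
    have hf : f₁ = f₂ := by
      apply MvPolynomial.ringHom_ext
      · intro b
        change ε (Ideal.Quotient.mk _ (eval₂ α.toRingHom Y (C b))) =
          gb (Ideal.Quotient.mk _ (Ideal.Quotient.mk K (C b)))
        rw [eval₂_C]
        change ε (Ideal.Quotient.mk _ (α b)) = _
        rw [hα, hα₀, AlgEquiv.apply_symm_apply]
      · intro q
        change ε (Ideal.Quotient.mk _ (eval₂ α.toRingHom Y (X q))) =
          gb (Ideal.Quotient.mk _ (Ideal.Quotient.mk K (X q)))
        rw [eval₂_X]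
        exact hY q
    have h3 : ε (Ideal.Quotient.mk _ (eval₂ α.toRingHom Y (rel p))) = 0 := by
      have := congrArg (fun f => f (rel p)) hf
      change ε (Ideal.Quotient.mk _ (eval₂ α.toRingHom Y (rel p))) =
        gb (Ideal.Quotient.mk _ (Ideal.Quotient.mk K (rel p))) at this
      rw [this]
      have h0 : Ideal.Quotient.mk K (rel p) = 0 :=
        Ideal.Quotient.eq_zero_iff_mem.mpr (Ideal.subset_span ⟨p, rfl⟩)
      rw [h0, map_zero, map_zero]
    rw [map_eq_zero_iff ε ε.injective] at h3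
    exact Ideal.Quotient.eq_zero_iff_mem.mp h3
  · intro b
    rw [← Ideal.Quotient.eq, hβ, hβ₀, hα, hα₀, AlgEquiv.apply_symm_apply]
    have := congrArg (fun f => f (Ideal.Quotient.mk _ (Ideal.Quotient.mk K (C b)))) hgh
    simp only [AlgHom.coe_comp, Function.comp_apply] at this
    rw [this, quotMapBar_mk, hκ, hκ₀, eval₂_C]
    rfl

open MvPolynomial in
theorem main {R Λ B : Type u} [CommRing R] [CommRing Λ] [Algebra R Λ] [Module.Flat R Λ]
    (I : Ideal R) (hI : I ^ 2 = ⊥) (h : Smoothing.IndSmooth (R ⧸ I) (Λ ⧸ I.map (algebraMap R Λ)))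
    [CommRing B] [Algebra R B] [Algebra.Smooth R B] (φ : B →ₐ[R] Λ) (J : Ideal B)
    (hJ : J ≤ I.map (algebraMap R B)) (hJfg : J.FG) (hφJ : ∀ x ∈ J, φ x = 0) :
    ∃ (B' : Type u) (_ : CommRing B') (_ : Algebra R B'), Algebra.Smooth R B' ∧
      ∃ (α : B →ₐ[R] B') (β : B' →ₐ[R] Λ), (∀ x ∈ J, α x = 0) ∧
        ∀ b : B, β (α b) - φ b ∈ I.map (algebraMap R Λ) := by
  classical
  obtain ⟨m, s, hs⟩ := Submodule.fg_iff_exists_fin_generating_family.mp hJfg
  have hsJ : ∀ t, s t ∈ J := fun t => hs ▸ Submodule.subset_span ⟨t, rfl⟩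
  choose k e b he hsb using fun t =>
    Groth.Agent.S2023.exists_sum_of_mem_map (Λ := B) I (s t) (hJ (hsJ t))
  have hrel0 : ∀ t, ∑ a, e t a • φ (b t a) = 0 := by
    intro t
    have := hφJ (s t) (hsJ t)
    rw [hsb t, map_sum] at this
    rw [← this]
    refine Finset.sum_congr rfl fun a _ => ?_
    rw [map_mul, φ.commutes, Algebra.smul_def]
  have htriv : ∀ t, Module.IsTrivialRelation (e t) (fun a => φ (b t a)) := fun t =>
    Module.Flat.isTrivialRelation_of_sum_smul_eq_zero (R := R) (M := Λ) (hrel0 t)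
  choose κ A y hy' hA using htriv
  have hy : ∀ t a, φ (b t a) = ∑ j, A t a j • y t j := hy'
  let P := Σ t : Fin m, Fin (k t)
  let Q := Σ t : Fin m, Fin (κ t)
  let rel : P → MvPolynomial Q B := fun p =>
    C (b p.1 p.2) - ∑ j : Fin (κ p.1), C (algebraMap R B (A p.1 p.2 j)) * X ⟨p.1, j⟩
  let yy : Q → Λ := fun q => y q.1 q.2
  have hrel : ∀ p, eval₂ φ.toRingHom yy (rel p) = 0 := by
    rintro ⟨t, a⟩
    simp only [rel, eval₂_sub, eval₂_C, eval₂_sum, eval₂_mul, eval₂_X, yy]
    change φ (b t a) - ∑ j, φ (algebraMap R B (A t a j)) * y t j = 0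
    rw [hy t a, sub_eq_zero]
    refine Finset.sum_congr rfl fun j _ => ?_
    rw [φ.commutes, Algebra.smul_def]
  obtain ⟨S, _, _, hS, α, β, Y, h1, h2⟩ := core I hI h φ rel yy hrel
  have hsqS : (I.map (algebraMap R S)) ^ 2 = ⊥ := by
    rw [← Ideal.map_pow, hI, Ideal.map_bot]
  refine ⟨S, inferInstance, inferInstance, hS, α, β, ?_, h2⟩
  have hst : ∀ t, α (s t) = 0 := by
    intro t
    have h1' : ∀ a, α (b t a) - ∑ j, algebraMap R S (A t a j) * Y ⟨t, j⟩ ∈
        I.map (algebraMap R S) := by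
      intro a
      have := h1 ⟨t, a⟩
      simp only [rel, eval₂_sub, eval₂_C, eval₂_sum, eval₂_mul, eval₂_X] at this
      simpa using this
    have hz : ∀ a, algebraMap R S (e t a) *
        (α (b t a) - ∑ j, algebraMap R S (A t a j) * Y ⟨t, j⟩) = 0 := by
      intro a
      have : algebraMap R S (e t a) *
        (α (b t a) - ∑ j, algebraMap R S (A t a j) * Y ⟨t, j⟩) ∈ (I.map (algebraMap R S)) ^ 2 := by
        rw [pow_two]
        exact Ideal.mul_mem_mul (Ideal.mem_map_of_mem _ (he t a)) (h1' a)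
      rwa [hsqS, Ideal.mem_bot] at this
    rw [hsb t, map_sum]
    calc ∑ a, α (algebraMap R B (e t a) * b t a)
        = ∑ a, algebraMap R S (e t a) * ∑ j, algebraMap R S (A t a j) * Y ⟨t, j⟩ := by
          refine Finset.sum_congr rfl fun a _ => ?_
          rw [map_mul, α.commutes]
          have := hz a
          rw [mul_sub, sub_eq_zero] at this
          exact this
      _ = ∑ j, (∑ a, algebraMap R S (e t a * A t a j)) * Y ⟨t, j⟩ := by
          simp_rw [Finset.mul_sum, Finset.sum_mul]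
          rw [Finset.sum_comm]
          refine Finset.sum_congr rfl fun j _ => Finset.sum_congr rfl fun a _ => ?_
          rw [map_mul]; ring
      _ = 0 := by
          refine Finset.sum_eq_zero fun j _ => ?_
          rw [← map_sum, hA t j, map_zero, zero_mul]
  have hle : J ≤ RingHom.ker α.toRingHom := by
    rw [← hs]
    change Ideal.span _ ≤ _
    rw [Ideal.span_le]
    rintro _ ⟨t, rfl⟩
    exact hst t
  exact fun x hx => hle hx

end aux

/-- Let R → Λ be a flat ring map and I ⊆ R an ideal with I² = 0 such that Λ/IΛ is ind-smooth over R/I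
(every map from a finitely presented algebra factors through a smooth one). Let B be a smooth
R-algebra, φ : B → Λ an R-algebra map and J ⊆ IB a finitely generated ideal with φ(J) = 0. Then
there are a smooth R-algebra B' and R-algebra maps α : B → B' and β : B' → Λ with α(J) = 0 and
β(α(b)) − φ(b) ∈ IΛ for all b. -/
theorem result {R Λ B : Type u} [CommRing R] [CommRing Λ] [Algebra R Λ] [Module.Flat R Λ]
    (I : Ideal R) (hI : I ^ 2 = ⊥) (h : Smoothing.IndSmooth (R ⧸ I) (Λ ⧸ I.map (algebraMap R Λ)))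
    [CommRing B] [Algebra R B] [Algebra.Smooth R B] (φ : B →ₐ[R] Λ) (J : Ideal B)
    (hJ : J ≤ I.map (algebraMap R B)) (hJfg : J.FG) (hφJ : ∀ x ∈ J, φ x = 0) :
    ∃ (B' : Type u) (_ : CommRing B') (_ : Algebra R B'), Algebra.Smooth R B' ∧
      ∃ (α : B →ₐ[R] B') (β : B' →ₐ[R] Λ), (∀ x ∈ J, α x = 0) ∧
        ∀ b : B, β (α b) - φ b ∈ I.map (algebraMap R Λ) := by
  exact main I hI h φ J hJ hJfg hφJ

end Groth.Agent.S6821
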