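import Groth.Statements.S2022
import Mathlib
import Groth.Agent.S2023
import Groth.Agent.S6821
-- import your own Groth.Agent.* helpers here

set_option autoImplicit false
universe u
open Smoothing

namespace Groth.Agent.S2022

section aux

open KaehlerDifferential in
theorem exists_derivation_data {R Λ B : Type u} [CommRing R] [CommRing Λ] [Algebra R Λ]
    [CommRing B] [Algebra R B] [Algebra.Smooth R B] (K : Ideal Λ) (hK : K ^ 2 = ⊥)
    (φ ψ : B →ₐ[R] Λ) (h : ∀ b, ψ b - φ b ∈ K) :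
    ∃ (N : ℕ) (c : Fin N → Derivation R B B) (lam : Fin N → Λ), (∀ ν, lam ν ∈ K) ∧
      ∀ b, ψ b - φ b = ∑ ν, φ (c ν b) * lam ν := by
  classical
  letI : Algebra B Λ := φ.toRingHom.toAlgebra
  haveI : IsScalarTower R B Λ := IsScalarTower.of_algebraMap_eq (fun r => (φ.commutes r).symm)
  have hsm : ∀ (b : B) (x : Λ), b • x = φ b * x := fun b x => rfl
  have hKK : ∀ x ∈ K, ∀ y ∈ K, x * y = 0 := by
    intro x hx y hy
    have : x * y ∈ K ^ 2 := by rw [pow_two]; exact Ideal.mul_mem_mul hx hy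
    rwa [hK, Ideal.mem_bot] at this
  let D : Derivation R B Λ := Derivation.mk' (ψ.toLinearMap - φ.toLinearMap) (by
    intro a b
    simp only [LinearMap.sub_apply, AlgHom.toLinearMap_apply, hsm, map_mul]
    have := hKK _ (h a) _ (h b)
    linear_combination this)
  have hD : ∀ b, D b = ψ b - φ b := fun b => rfl
  obtain ⟨N, f, g, -, -, hfg⟩ := Module.Finite.exists_comp_eq_id_of_projective B (Ω[B⁄R])
  let ξ : Ω[B⁄R] →ₗ[B] Λ := D.liftKaehlerDifferential
  have hξ : ∀ b, ξ (KaehlerDifferential.D R B b) = D b := fun b =>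
    D.liftKaehlerDifferential_comp_D b
  have hξK : ∀ ω, ξ ω ∈ K := by
    intro ω
    have hω : ω ∈ Submodule.span B (Set.range (KaehlerDifferential.D R B)) := by
      rw [KaehlerDifferential.span_range_derivation]; trivial
    induction hω using Submodule.span_induction with
    | mem x hx =>
      obtain ⟨b, rfl⟩ := hx
      rw [hξ, hD]; exact h b
    | zero => rw [map_zero]; exact K.zero_mem
    | add x y _ _ hx hy => rw [map_add]; exact K.add_mem hx hy
    | smul a x _ hx => rw [map_smul, hsm]; exact K.mul_mem_left _ hx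
  refine ⟨N, fun ν => ((LinearMap.proj ν).comp g).compDer (KaehlerDifferential.D R B),
    fun ν => ξ (f (Pi.single ν 1)), fun ν => hξK _, ?_⟩
  intro b
  rw [← hD, ← hξ]
  have h1 : KaehlerDifferential.D R B b = f (g (KaehlerDifferential.D R B b)) := by
    have := congrArg (fun l => l (KaehlerDifferential.D R B b)) hfg
    simpa using this.symm
  have h2 : g (KaehlerDifferential.D R B b) =
      ∑ ν, (g (KaehlerDifferential.D R B b) ν) • (Pi.single ν (1 : B) : Fin N → B) := by
    ext i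
    simp [Finset.sum_apply, Pi.single_apply]
  conv_lhs => rw [h1, h2]
  rw [map_sum, map_sum]
  refine Finset.sum_congr rfl fun ν _ => ?_
  rw [map_smul, map_smul, hsm]
  rfl

open MvPolynomial in
theorem exists_twist {R B B' : Type u} [CommRing R] [CommRing B] [Algebra R B] [CommRing B']
    [Algebra R B'] (I : Ideal R) (hI : I ^ 2 = ⊥) (α : B →ₐ[R] B') {Q : Type} [Fintype Q]
    (eps : Q → R) (heps : ∀ q, eps q ∈ I) (cc : Q → Derivation R B B) :
    ∃ α' : B →ₐ[R] MvPolynomial Q B', ∀ b, α' b =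
      C (α b) - ∑ q, algebraMap R (MvPolynomial Q B') (eps q) * (C (α (cc q b)) * X q) := by
  classical
  let T := MvPolynomial Q B'
  have hsq : (I.map (algebraMap R T)) ^ 2 = ⊥ := by
    rw [← Ideal.map_pow, hI, Ideal.map_bot]
  have hKK : ∀ x ∈ I.map (algebraMap R T), ∀ y ∈ I.map (algebraMap R T), x * y = 0 := by
    intro x hx y hy
    have : x * y ∈ (I.map (algebraMap R T)) ^ 2 := by rw [pow_two]; exact Ideal.mul_mem_mul hx hy
    rwa [hsq, Ideal.mem_bot] at this
  let E : B →ₗ[R] T :=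
    ∑ q, (LinearMap.mulLeft R (algebraMap R T (eps q) * X q)).comp
      (((IsScalarTower.toAlgHom R B' T).toLinearMap.comp α.toLinearMap).comp (cc q).toLinearMap)
  have hE : ∀ b, E b = ∑ q, algebraMap R T (eps q) * (C (α (cc q b)) * X q) := by
    intro b
    simp only [E, LinearMap.sum_apply, LinearMap.comp_apply, LinearMap.mulLeft_apply]
    refine Finset.sum_congr rfl fun q _ => ?_
    change algebraMap R T (eps q) * X q * C (α (cc q b)) = _
    ring
  have hEmem : ∀ b, E b ∈ I.map (algebraMap R T) := by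
    intro b
    rw [hE]
    exact Ideal.sum_mem _ fun q _ => Ideal.mul_mem_right _ _ (Ideal.mem_map_of_mem _ (heps q))
  have hEmul : ∀ a b, E (a * b) = C (α a) * E b + C (α b) * E a := by
    intro a b
    simp only [hE, Finset.mul_sum, ← Finset.sum_add_distrib]
    refine Finset.sum_congr rfl fun q _ => ?_
    rw [Derivation.leibniz, smul_eq_mul, smul_eq_mul, map_add, map_mul, map_mul, C_add, C_mul, C_mul]
    ring
  let L : B →ₗ[R] T := (IsScalarTower.toAlgHom R B' T).toLinearMap.comp α.toLinearMap - E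
  have hL : ∀ b, L b = C (α b) - E b := fun b => rfl
  refine ⟨AlgHom.ofLinearMap L ?_ ?_, ?_⟩
  · rw [hL, hE]
    simp
  · intro a b
    rw [hL, hL, hL, hEmul, map_mul, C_mul]
    have := hKK _ (hEmem a) _ (hEmem b)
    linear_combination (-1 : T) * this
  · intro b
    rw [AlgHom.ofLinearMap_apply, hL, hE]

theorem derivation_mem_map {R B : Type u} [CommRing R] [CommRing B] [Algebra R B] (I : Ideal R)
    (d : Derivation R B B) (x : B) (hx : x ∈ I.map (algebraMap R B)) :
    d x ∈ I.map (algebraMap R B) := by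
  obtain ⟨k, e, l, he, rfl⟩ := Groth.Agent.S2023.exists_sum_of_mem_map I x hx
  rw [map_sum]
  refine Ideal.sum_mem _ fun j _ => ?_
  rw [Derivation.leibniz, Derivation.map_algebraMap, smul_zero, add_zero, smul_eq_mul]
  exact Ideal.mul_mem_right _ _ (Ideal.mem_map_of_mem _ (he j))

open MvPolynomial in
theorem correct {R Λ B B' : Type u} [CommRing R] [CommRing Λ] [Algebra R Λ] (I : Ideal R)
    (hI : I ^ 2 = ⊥) [CommRing B] [Algebra R B] [Algebra.Smooth R B] [CommRing B'] [Algebra R B']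
    [Algebra.Smooth R B'] (φ : B →ₐ[R] Λ) (α : B →ₐ[R] B') (β : B' →ₐ[R] Λ)
    (hβα : ∀ b, β (α b) - φ b ∈ I.map (algebraMap R Λ)) (J : Ideal B)
    (hJ : J ≤ I.map (algebraMap R B)) (hαJ : ∀ x ∈ J, α x = 0) :
    ∃ (B'' : Type u) (_ : CommRing B'') (_ : Algebra R B''), Algebra.Smooth R B'' ∧
      ∃ (α' : B →ₐ[R] B'') (β' : B'' →ₐ[R] Λ), (∀ x ∈ J, α' x = 0) ∧ ∀ b, β' (α' b) = φ b := by
  classical
  have hsq : (I.map (algebraMap R Λ)) ^ 2 = ⊥ := by
    rw [← Ideal.map_pow, hI, Ideal.map_bot]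
  have hKK : ∀ x ∈ I.map (algebraMap R Λ), ∀ y ∈ I.map (algebraMap R Λ), x * y = 0 := by
    intro x hx y hy
    have : x * y ∈ (I.map (algebraMap R Λ)) ^ 2 := by rw [pow_two]; exact Ideal.mul_mem_mul hx hy
    rwa [hsq, Ideal.mem_bot] at this
  obtain ⟨N, c, lam, hlam, hD⟩ := exists_derivation_data _ hsq φ (β.comp α) hβα
  choose k e mu he hmu using fun ν => Groth.Agent.S2023.exists_sum_of_mem_map I (lam ν) (hlam ν)
  let Q := Σ ν : Fin N, Fin (k ν)
  obtain ⟨α', hα'⟩ := exists_twist I hI α (Q := Q) (fun q => e q.1 q.2) (fun q => he q.1 q.2)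
    (fun q => c q.1)
  let T := MvPolynomial Q B'
  haveI : Algebra.FinitePresentation B' T := inferInstance
  haveI : Algebra.Smooth B' T := ⟨inferInstance, inferInstance⟩
  haveI : Algebra.Smooth R T := Algebra.Smooth.comp R B' T
  have hsqT : ∀ x ∈ I.map (algebraMap R T), ∀ y ∈ I.map (algebraMap R T), x * y = 0 := by
    intro x hx y hy
    have : x * y ∈ (I.map (algebraMap R T)) ^ 2 := by rw [pow_two]; exact Ideal.mul_mem_mul hx hy
    rwa [← Ideal.map_pow, hI, Ideal.map_bot, Ideal.mem_bot] at this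
  let β' : T →ₐ[R] Λ :=
    { toRingHom := eval₂Hom β.toRingHom (fun q : Q => mu q.1 q.2)
      commutes' := by
        intro r
        change eval₂ β.toRingHom _ (C (algebraMap R B' r)) = _
        rw [eval₂_C]
        exact β.commutes r }
  have hβ'C : ∀ x, β' (C x) = β x := fun x => eval₂_C _ _ x
  have hβ'X : ∀ q : Q, β' (X q) = mu q.1 q.2 := fun q => eval₂_X _ _ q
  refine ⟨T, inferInstance, inferInstance, inferInstance, α', β', ?_, ?_⟩
  · intro x hx
    rw [hα', hαJ x hx, C_0, zero_sub, neg_eq_zero]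
    refine Finset.sum_eq_zero fun q _ => ?_
    have h1 : c q.1 x ∈ I.map (algebraMap R B) := derivation_mem_map I _ x (hJ hx)
    have h2 : (C (α (c q.1 x)) : T) ∈ I.map (algebraMap R T) := by
      have hle : I.map (algebraMap R B) ≤ (I.map (algebraMap R T)).comap
          ((IsScalarTower.toAlgHom R B' T).comp α) := by
        rw [Ideal.map_le_iff_le_comap]
        intro r hr
        rw [Ideal.mem_comap, Ideal.mem_comap, AlgHom.commutes]
        exact Ideal.mem_map_of_mem _ hr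
      exact hle h1
    exact hsqT _ (Ideal.mem_map_of_mem _ (he q.1 q.2)) _ (Ideal.mul_mem_right _ _ h2)
  · intro b
    rw [hα', map_sub, map_sum, hβ'C]
    have hsum : ∑ q : Q, β' (algebraMap R T (e q.1 q.2) * (C (α (c q.1 b)) * X q)) =
        β (α b) - φ b := by
      have := hD b
      simp only [AlgHom.coe_comp, Function.comp_apply] at this
      rw [this, Fintype.sum_sigma]
      refine Finset.sum_congr rfl fun ν _ => ?_
      have h3 : φ (c ν b) * lam ν = β (α (c ν b)) * lam ν := by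
        have := hKK _ (hβα (c ν b)) _ (hlam ν)
        linear_combination (-1 : Λ) * this
      rw [h3]
      conv_rhs => rw [hmu ν]
      rw [Finset.mul_sum]
      refine Finset.sum_congr rfl fun i _ => ?_
      rw [map_mul, map_mul, AlgHom.commutes, hβ'C, hβ'X]
      ring
    rw [hsum]
    ring

theorem sqzero {R Λ : Type u} [CommRing R] [CommRing Λ] [Algebra R Λ] (I : Ideal R)
    (hI : I ^ 2 = ⊥) [Module.Flat R Λ]
    (h : Smoothing.IndSmooth (R ⧸ I) (Λ ⧸ I.map (algebraMap R Λ))) :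
    Smoothing.IndSmooth R Λ := by
  intro A _ _ hA φ
  haveI := hA
  obtain ⟨B, _, _, hB, J, hJ, hJfg, g, k, hkg⟩ := Groth.Agent.S2023.result I hI h φ
  haveI := hB
  let φB : B →ₐ[R] Λ := k.comp (Ideal.Quotient.mkₐ R J)
  have hφB : ∀ b, φB b = k (Ideal.Quotient.mk J b) := fun b => rfl
  have hφBJ : ∀ x ∈ J, φB x = 0 := by
    intro x hx
    rw [hφB, Ideal.Quotient.eq_zero_iff_mem.mpr hx, map_zero]
  obtain ⟨B', _, _, hB', α, β, hαJ, hβα⟩ := Groth.Agent.S6821.result I hI h φB J hJ hJfg hφBJ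
  haveI := hB'
  obtain ⟨B'', _, _, hB'', α', β', hα'J, hβ'α'⟩ := correct I hI φB α β hβα J hJ hαJ
  refine ⟨B'', inferInstance, inferInstance, hB'', (Ideal.Quotient.liftₐ J α' hα'J).comp g, β', ?_⟩
  apply AlgHom.ext
  intro a
  obtain ⟨b, hb⟩ := Ideal.Quotient.mk_surjective (g a)
  simp only [AlgHom.coe_comp, Function.comp_apply]
  rw [← hb]
  change β' (α' b) = _
  rw [hβ'α', hφB, hb, ← hkg]
  rfl

theorem indSmooth_of_ringEquiv {R₁ Λ₁ R₂ Λ₂ : Type u} [CommRing R₁] [CommRing Λ₁] [Algebra R₁ Λ₁]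
    [CommRing R₂] [CommRing Λ₂] [Algebra R₂ Λ₂] (e : R₁ ≃+* R₂) (eΛ : Λ₁ ≃+* Λ₂)
    (hcomm : ∀ r, eΛ (algebraMap R₁ Λ₁ r) = algebraMap R₂ Λ₂ (e r))
    (h : Smoothing.IndSmooth R₁ Λ₁) : Smoothing.IndSmooth R₂ Λ₂ := by
  intro A _ _ hA f
  haveI := hA
  letI : Algebra R₁ R₂ := e.toRingHom.toAlgebra
  letI : Algebra R₁ A := ((algebraMap R₂ A).comp e.toRingHom).toAlgebra
  haveI : IsScalarTower R₁ R₂ A := IsScalarTower.of_algebraMap_eq' rfl
  have hsurj : Function.Surjective (algebraMap R₁ R₂) := e.surjective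
  haveI : Algebra.FinitePresentation R₁ R₂ := by
    refine Algebra.FinitePresentation.of_surjective (f := Algebra.ofId R₁ R₂) hsurj ?_
    have : RingHom.ker (Algebra.ofId R₁ R₂).toRingHom = ⊥ := by
      rw [← RingHom.injective_iff_ker_eq_bot]
      exact e.injective
    rw [this]
    exact Submodule.fg_bot
  haveI : Algebra.FinitePresentation R₁ A := Algebra.FinitePresentation.trans R₁ R₂ A
  haveI : Algebra.FormallyUnramified R₁ R₂ := Algebra.FormallyUnramified.of_surjective
    (Algebra.ofId R₁ R₂) hsurj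
  let f₁ : A →ₐ[R₁] Λ₁ :=
    { toRingHom := eΛ.symm.toRingHom.comp f.toRingHom
      commutes' := by
        intro r
        change eΛ.symm (f (algebraMap R₂ A (e r))) = _
        rw [f.commutes, ← hcomm, RingEquiv.symm_apply_apply] }
  have hf₁ : ∀ a, f₁ a = eΛ.symm (f a) := fun a => rfl
  obtain ⟨B, _, _, hB, g, hh, hgh⟩ := h A inferInstance f₁
  haveI := hB
  letI : Algebra R₂ B := ((algebraMap R₁ B).comp e.symm.toRingHom).toAlgebra
  have halg : ∀ r₂, algebraMap R₂ B r₂ = algebraMap R₁ B (e.symm r₂) := fun r₂ => rfl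
  haveI : IsScalarTower R₁ R₂ B := IsScalarTower.of_algebraMap_eq (fun r => by
    rw [halg]
    change _ = algebraMap R₁ B (e.symm (e r))
    rw [RingEquiv.symm_apply_apply])
  haveI : Algebra.FormallySmooth R₂ B := Algebra.FormallySmooth.of_restrictScalars R₁ R₂ B
  haveI : Algebra.FinitePresentation R₂ B :=
    Algebra.FinitePresentation.of_restrict_scalars_finitePresentation R₁ R₂ B
  have hsm : Algebra.Smooth R₂ B := ⟨inferInstance, inferInstance⟩
  let g₂ : A →ₐ[R₂] B :=
    { toRingHom := g.toRingHom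
      commutes' := by
        intro r₂
        obtain ⟨r, rfl⟩ := e.surjective r₂
        change g (algebraMap R₁ A r) = _
        rw [g.commutes, halg, RingEquiv.symm_apply_apply] }
  let h₂ : B →ₐ[R₂] Λ₂ :=
    { toRingHom := eΛ.toRingHom.comp hh.toRingHom
      commutes' := by
        intro r₂
        change eΛ (hh (algebraMap R₂ B r₂)) = _
        rw [halg, hh.commutes, hcomm, RingEquiv.apply_symm_apply] }
  refine ⟨B, inferInstance, inferInstance, hsm, g₂, h₂, ?_⟩
  apply AlgHom.ext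
  intro a
  change eΛ (hh (g a)) = f a
  have := congrArg (fun F => F a) hgh
  simp only [AlgHom.coe_comp, Function.comp_apply] at this
  rw [this, hf₁, RingEquiv.apply_symm_apply]

theorem flat_quotient {S Λ : Type u} [CommRing S] [CommRing Λ] [Algebra S Λ] [Module.Flat S Λ]
    (I : Ideal S) : Module.Flat (S ⧸ I) (Λ ⧸ I.map (algebraMap S Λ)) :=
  Module.Flat.of_linearEquiv
    (Algebra.TensorProduct.quotIdealMapEquivQuotTensor Λ I).toLinearEquiv

theorem step {S : Type u} [CommRing S] (I J : Ideal S) (hIJ : I ≤ J)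
    (hPI : ∀ (Λ : Type u) [CommRing Λ] [Algebra S Λ] [Module.Flat S Λ],
      Smoothing.IndSmooth (S ⧸ I) (Λ ⧸ I.map (algebraMap S Λ)) → Smoothing.IndSmooth S Λ)
    (hPJI : ∀ (Λ' : Type u) [CommRing Λ'] [Algebra (S ⧸ I) Λ'] [Module.Flat (S ⧸ I) Λ'],
      Smoothing.IndSmooth ((S ⧸ I) ⧸ J.map (Ideal.Quotient.mk I))
        (Λ' ⧸ (J.map (Ideal.Quotient.mk I)).map (algebraMap (S ⧸ I) Λ')) →
      Smoothing.IndSmooth (S ⧸ I) Λ')
    (Λ : Type u) [CommRing Λ] [Algebra S Λ] [Module.Flat S Λ]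
    (h : Smoothing.IndSmooth (S ⧸ J) (Λ ⧸ J.map (algebraMap S Λ))) : Smoothing.IndSmooth S Λ := by
  apply hPI Λ
  haveI : Module.Flat (S ⧸ I) (Λ ⧸ I.map (algebraMap S Λ)) := flat_quotient I
  apply hPJI (Λ ⧸ I.map (algebraMap S Λ))
  have hle : I.map (algebraMap S Λ) ≤ J.map (algebraMap S Λ) := Ideal.map_mono hIJ
  have hid : (J.map (Ideal.Quotient.mk I)).map (algebraMap (S ⧸ I) (Λ ⧸ I.map (algebraMap S Λ))) =
      (J.map (algebraMap S Λ)).map (Ideal.Quotient.mk (I.map (algebraMap S Λ))) := by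
    rw [Ideal.map_map, Ideal.map_map]
    congr 1
  let e : S ⧸ J ≃+* (S ⧸ I) ⧸ J.map (Ideal.Quotient.mk I) :=
    (DoubleQuot.quotQuotEquivQuotOfLE hIJ).symm
  let eΛ : (Λ ⧸ J.map (algebraMap S Λ)) ≃+* ((Λ ⧸ I.map (algebraMap S Λ)) ⧸
      (J.map (Ideal.Quotient.mk I)).map (algebraMap (S ⧸ I) (Λ ⧸ I.map (algebraMap S Λ)))) :=
    (DoubleQuot.quotQuotEquivQuotOfLE hle).symm.trans (Ideal.quotEquivOfEq hid.symm)
  refine indSmooth_of_ringEquiv e eΛ ?_ h
  intro r
  obtain ⟨s, rfl⟩ := Ideal.Quotient.mk_surjective r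
  rfl

theorem main {R Λ : Type u} [CommRing R] [CommRing Λ]
    [Algebra R Λ] (I : Ideal R) (hI : IsNilpotent I) [Module.Flat R Λ]
    (h : Smoothing.IndSmooth (R ⧸ I) (Λ ⧸ I.map (algebraMap R Λ))) :
    Smoothing.IndSmooth R Λ := by
  have key : ∀ (Λ : Type u) [CommRing Λ] [Algebra R Λ] [Module.Flat R Λ],
      Smoothing.IndSmooth (R ⧸ I) (Λ ⧸ I.map (algebraMap R Λ)) → Smoothing.IndSmooth R Λ := by
    refine Ideal.IsNilpotent.induction_on (S := R) I hI
      (P := fun S _ I => ∀ (Λ : Type u) [CommRing Λ] [Algebra S Λ] [Module.Flat S Λ],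
        Smoothing.IndSmooth (S ⧸ I) (Λ ⧸ I.map (algebraMap S Λ)) → Smoothing.IndSmooth S Λ) ?_ ?_
    · intro S _ I hI Λ _ _ _ h
      exact sqzero I hI h
    · intro S _ I J hIJ hPI hPJI Λ _ _ _ h
      exact step I J hIJ hPI hPJI Λ h
  exact key Λ h

end aux


/-- Let `I` be a nilpotent ideal of `R` and `Λ` a flat `R`-algebra such that `Λ/IΛ` is ind-smooth over
`R/I` (every map from a finitely presented algebra factors through a smooth one). Then `Λ` is
ind-smooth over `R`. -/
theorem result {R Λ : Type u} [CommRing R] [CommRing Λ]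
    [Algebra R Λ] (I : Ideal R) (hI : IsNilpotent I) [Module.Flat R Λ]
    (h : Smoothing.IndSmooth (R ⧸ I) (Λ ⧸ I.map (algebraMap R Λ))) :
    Smoothing.IndSmooth R Λ := by
  exact main I hI h

end Groth.Agent.S2022
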