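import Groth.Statements.S9282
import Mathlib

set_option autoImplicit false
universe u
open CAlg

namespace Groth.Agent.S9282


open Algebra MvPolynomial in
theorem key (A B : Type u) [CommRing A]
    [CommRing B] [IsLocalRing A] [IsLocalRing B]
    [Algebra A B]
    (hfs : CAlgX.IsAdicFormallySmooth A B (IsLocalRing.maximalIdeal B))
    (x : Algebra.H1Cotangent A (IsLocalRing.ResidueField B))
    (hx : Algebra.H1Cotangent.map A B (IsLocalRing.ResidueField B) (IsLocalRing.ResidueField B) x = 0) :
    x = 0 := by
  classical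
  set K := IsLocalRing.ResidueField B with hK
  -- the presentation ring over A
  let πA : MvPolynomial K A →ₐ[A] K := aeval (fun k : K => k)
  have hπA_surj : Function.Surjective πA := fun k => ⟨X k, by simp [πA]⟩
  let I : Ideal (MvPolynomial K A) := RingHom.ker πA
  let E := MvPolynomial K A ⧸ (I ^ 2)
  have hI2 : I ^ 2 ≤ RingHom.ker πA := Ideal.pow_le_self (by norm_num)
  let πE : E →ₐ[A] K := Ideal.Quotient.liftₐ (I ^ 2) πA (fun a ha => hI2 ha)
  have hπE_mk : ∀ p : MvPolynomial K A, πE (Ideal.Quotient.mk (I ^ 2) p) = πA p := fun p => rfl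
  have hπE_surj : Function.Surjective πE := fun k => by
    obtain ⟨p, hp⟩ := hπA_surj k
    exact ⟨Ideal.Quotient.mk (I ^ 2) p, by rw [hπE_mk, hp]⟩
  let J : Ideal E := RingHom.ker πE
  have hJ2 : J ^ 2 = ⊥ := by
    rw [eq_bot_iff, pow_two J, Ideal.mul_le]
    intro a ha b hb
    obtain ⟨a, rfl⟩ := Ideal.Quotient.mk_surjective a
    obtain ⟨b, rfl⟩ := Ideal.Quotient.mk_surjective b
    have ha' : a ∈ I := by
      have : πE (Ideal.Quotient.mk (I ^ 2) a) = 0 := ha
      rwa [hπE_mk] at this
    have hb' : b ∈ I := by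
      have : πE (Ideal.Quotient.mk (I ^ 2) b) = 0 := hb
      rwa [hπE_mk] at this
    rw [Ideal.mem_bot, ← map_mul, Ideal.Quotient.eq_zero_iff_mem]
    have := Ideal.mul_mem_mul ha' hb'
    rwa [← pow_two] at this
  let eq : (E ⧸ J) ≃ₐ[A] K := Ideal.quotientKerAlgEquivOfSurjective hπE_surj
  let ψ : B →ₐ[A] E ⧸ J := (eq.symm : K →ₐ[A] E ⧸ J).comp (IsScalarTower.toAlgHom A B K)
  have hψ : ∃ k : ℕ, ∀ b ∈ IsLocalRing.maximalIdeal B ^ k, ψ b = 0 := by
    refine ⟨1, fun b hb => ?_⟩
    rw [pow_one] at hb
    have : algebraMap B K b = 0 := (IsLocalRing.residue_eq_zero_iff b).mpr hb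
    simp only [ψ, AlgHom.comp_apply, IsScalarTower.coe_toAlgHom', this]
    exact map_zero _
  obtain ⟨χ, hχ⟩ := hfs E J hJ2 ψ hψ
  have hχ' : ∀ b : B, πE (χ b) = algebraMap B K b := by
    intro b
    have h1 : (Ideal.Quotient.mkₐ A J) (χ b) = ψ b := by
      rw [← hχ]; rfl
    have h2 : eq ((Ideal.Quotient.mkₐ A J) (χ b)) = πE (χ b) := rfl
    rw [← h2, h1]
    simp [ψ]
  -- the map from the presentation over B
  let Φ : MvPolynomial K B →+* E :=
    eval₂Hom (χ : B →+* E) (fun k => Ideal.Quotient.mk (I ^ 2) (X k))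
  let g : MvPolynomial K A →ₐ[A] MvPolynomial K B := aeval (fun k : K => (X k : MvPolynomial K B))
  have hΦg : ∀ p : MvPolynomial K A, Φ (g p) = Ideal.Quotient.mk (I ^ 2) p := by
    intro p
    have : Φ.comp (g : MvPolynomial K A →+* MvPolynomial K B) = Ideal.Quotient.mk (I ^ 2) := by
      apply MvPolynomial.ringHom_ext
      · intro a
        simp only [RingHom.comp_apply, RingHom.coe_coe, g, Φ]
        rw [← algebraMap_eq, AlgHom.commutes, algebraMap_eq, IsScalarTower.algebraMap_apply A B (MvPolynomial K B), algebraMap_eq, coe_eval₂Hom, eval₂_C]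
        simp only [RingHom.coe_coe, AlgHom.commutes]
        rfl
      · intro k
        simp [g, Φ]
    exact DFunLike.congr_fun this p
  have hπΦ : ∀ q : MvPolynomial K B, πE (Φ q) = aeval (fun k : K => k) q := by
    intro q
    have : (πE : E →+* K).comp Φ = (aeval (fun k : K => k) : MvPolynomial K B →ₐ[B] K) := by
      apply MvPolynomial.ringHom_ext
      · intro b
        simp only [RingHom.comp_apply, RingHom.coe_coe, Φ, coe_eval₂Hom, eval₂_C, hχ']
        simp
      · intro k
        simp only [RingHom.comp_apply, RingHom.coe_coe, Φ, coe_eval₂Hom, eval₂_X, hπE_mk]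
        simp [πA]
    exact DFunLike.congr_fun this q
  -- now the cotangent computation
  have hx1 : Extension.Cotangent.map
      (Generators.defaultHom (Generators.self A K) (Generators.self B K)).toExtensionHom x.1 = 0 := by
    have := congrArg Subtype.val hx
    exact this
  obtain ⟨⟨p, hp⟩, hpx⟩ := Extension.Cotangent.mk_surjective x.1
  rw [← hpx, Extension.Cotangent.map_mk, Extension.Cotangent.mk_eq_zero_iff] at hx1
  apply Extension.h1Cotangentι_ext
  rw [← hpx]
  show Extension.Cotangent.mk _ = 0
  rw [Extension.Cotangent.mk_eq_zero_iff]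
  have hkerA : (Generators.self A K).toExtension.ker = I := by
    rw [← Generators.ker, Generators.ker_eq_ker_aeval_val]
    rfl
  have hkerB : (Generators.self B K).toExtension.ker =
      RingHom.ker (aeval (fun k : K => k) : MvPolynomial K B →ₐ[B] K) := by
    rw [← Generators.ker, Generators.ker_eq_ker_aeval_val]
    rfl
  have hgp : ((Generators.self A K).defaultHom (Generators.self B K)).toExtensionHom.toAlgHom p = g p := by
    rw [Generators.Hom.toExtensionHom_toAlgHom_apply]
    simp only [Generators.Hom.toAlgHom, Generators.defaultHom, g]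
    rfl
  change ((Generators.self A K).defaultHom (Generators.self B K)).toExtensionHom.toAlgHom p ∈
    (Generators.self B K).toExtension.ker ^ 2 at hx1
  rw [hgp, hkerB] at hx1
  show p ∈ (Generators.self A K).toExtension.ker ^ 2
  rw [hkerA]
  -- Φ maps ker² into J² = ⊥
  have hle : RingHom.ker (aeval (fun k : K => k) : MvPolynomial K B →ₐ[B] K) ≤ J.comap Φ := by
    intro q hq
    rw [Ideal.mem_comap]
    show πE (Φ q) = 0
    rw [hπΦ]
    exact hq
  have hle2 : RingHom.ker (aeval (fun k : K => k) : MvPolynomial K B →ₐ[B] K) ^ 2 ≤ (⊥ : Ideal E).comap Φ := by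
    calc _ ≤ (J.comap Φ) ^ 2 := Ideal.pow_right_mono hle 2
      _ ≤ (J ^ 2).comap Φ := Ideal.le_comap_pow _ 2
      _ = _ := by rw [hJ2]
  have h3 := hle2 hx1
  rw [Ideal.mem_comap, Ideal.mem_bot] at h3
  exact Ideal.Quotient.eq_zero_iff_mem.mp ((hΦg p).symm.trans h3)

/-- Let A → B be a local ring map between Noetherian local rings that is formally smooth for the adic
topology of the maximal ideal of B, and write K for the residue field of B. In the Jacobi–Zariski
sequence attached to A → B → K, the map from H_1(NL_{K/A}) to H_1(NL_{K/B}), which is m_B/m_B^2, is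
injective; the remaining terms are exact in general, so that sequence starts with a zero. -/
theorem result (A B : Type u) [CommRing A]
    [CommRing B] [IsLocalRing A] [IsLocalRing B] [IsNoetherianRing A] [IsNoetherianRing B]
    [Algebra A B] [IsLocalHom (algebraMap A B)]
    (hfs : CAlgX.IsAdicFormallySmooth A B (IsLocalRing.maximalIdeal B)) :
    Function.Injective
      (Algebra.H1Cotangent.map A B (IsLocalRing.ResidueField B) (IsLocalRing.ResidueField B)) := by
  classical
  intro x y hxy
  have hsub : Algebra.H1Cotangent.map A B (IsLocalRing.ResidueField B) (IsLocalRing.ResidueField B)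
      (x - y) = 0 := by rw [map_sub, hxy, sub_self]
  have h0 : x - y = 0 := key A B hfs (x - y) hsub
  exact sub_eq_zero.mp h0

end Groth.Agent.S9282
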