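import Groth.Statements.S9319
import Mathlib

set_option autoImplicit false
universe u
open CAlg

namespace Groth.Agent.S9319

universe v

open TensorProduct Algebra KaehlerDifferential MvPolynomial

section Nat
variable {R : Type v} {S T T' : Type u} [CommRing R] [CommRing S] [CommRing T] [CommRing T']
  [Algebra R S] [Algebra R T] [Algebra S T] [IsScalarTower R S T]
  [Algebra R T'] [Algebra S T'] [IsScalarTower R S T'] [Algebra T T'] [IsScalarTower S T T']

variable (R S T T') in
/-- the change of coefficients `T ⊗ Ω → T' ⊗ Ω`. -/
noncomputable def gmap : T ⊗[S] Ω[S⁄R] →ₗ[S] T' ⊗[S] Ω[S⁄R] :=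
  LinearMap.rTensor _ (IsScalarTower.toAlgHom S T T').toLinearMap

@[simp] lemma gmap_tmul (t : T) (w : Ω[S⁄R]) :
    gmap R S T T' (t ⊗ₜ w) = algebraMap T T' t ⊗ₜ w := rfl

lemma gmap_smul (t : T) (y : T ⊗[S] Ω[S⁄R]) :
    gmap R S T T' (t • y) = algebraMap T T' t • gmap R S T T' y := by
  induction y with
  | zero => simp
  | add a b ha hb => rw [smul_add, map_add, ha, hb, map_add, smul_add]
  | tmul a w => simp [smul_tmul', map_mul, Algebra.smul_def]

attribute [local instance] SMulCommClass.of_commMonoid

set_option backward.isDefEq.respectTransparency false in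
lemma δAux_nat (x : (Generators.self S T).Ring) :
    Generators.H1Cotangent.δAux R (Generators.self S T')
      ((Generators.defaultHom (Generators.self S T) (Generators.self S T')).toAlgHom x) =
    gmap R S T T' (Generators.H1Cotangent.δAux R (Generators.self S T) x) := by
  induction x using MvPolynomial.induction_on with
  | C s =>
    simp [MvPolynomial.algebraMap_eq, Generators.H1Cotangent.δAux_C]
  | add x₁ x₂ hx₁ hx₂ => simp only [map_add, hx₁, hx₂]
  | mul_X p n IH =>
    rw [map_mul, Generators.H1Cotangent.δAux_mul, Generators.H1Cotangent.δAux_mul, IH,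
      Generators.Hom.toAlgHom_X]
    simp only [Generators.defaultHom_val, Generators.H1Cotangent.δAux_X, smul_zero, zero_add,
      Function.comp_apply]
    have hσ : (Generators.self S T').σ ((algebraMap T T') ((Generators.self S T).val n)) =
        (X (algebraMap T T' n) : (Generators.self S T').Ring) := rfl
    rw [hσ, Generators.H1Cotangent.δAux_X, smul_zero, zero_add]
    have h1 : ∀ (q : (Generators.self S T').Ring) (y : T' ⊗[S] Ω[S⁄R]),
        q • y = algebraMap (Generators.self S T').Ring T' q • y :=
      fun q y => (IsScalarTower.algebraMap_smul T' q y).symm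
    have h2 : ∀ (q : (Generators.self S T).Ring) (y : T ⊗[S] Ω[S⁄R]),
        q • y = algebraMap (Generators.self S T).Ring T q • y :=
      fun q y => (IsScalarTower.algebraMap_smul T q y).symm
    have h3 : algebraMap (Generators.self S T').Ring T' (X (algebraMap T T' n)) = algebraMap T T' n := by
      simp [Generators.algebraMap_apply]
    have h4 : algebraMap (Generators.self S T).Ring T (X n) = n := by
      simp [Generators.algebraMap_apply]
    rw [h1, h2, h3, h4, gmap_smul]

set_option backward.isDefEq.respectTransparency false in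
lemma δ_nat (y : H1Cotangent S T) :
    H1Cotangent.δ R S T' (H1Cotangent.map S S T T' y) =
      gmap R S T T' (H1Cotangent.δ R S T y) := by
  obtain ⟨y, hy⟩ := y
  obtain ⟨⟨p, hp⟩, rfl⟩ := Extension.Cotangent.mk_surjective y
  unfold H1Cotangent.δ H1Cotangent.map
  have key : ∀ (z : (Generators.self S T').toExtension.H1Cotangent)
      (q : (Generators.self S T').ker), z.1 = Extension.Cotangent.mk q →
      Generators.H1Cotangent.δ (Generators.self S T') (Generators.self R S) z =
        Generators.H1Cotangent.δAux R (Generators.self S T') q.1 := by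
    rintro ⟨z, hz⟩ q rfl
    exact Generators.H1Cotangent.δ_eq_δAux _ _ q hz
  have hp' : ((Generators.self S T).defaultHom (Generators.self S T')).toAlgHom p ∈
      (Generators.self S T').ker := by
    have := (((Generators.self S T).defaultHom (Generators.self S T')).toExtensionHom.mapKer
      (alg := ((Generators.self S T).defaultHom (Generators.self S T')).toAlgHom.toRingHom.toAlgebra)
      rfl ⟨p, hp⟩).2
    exact this
  rw [key _ ⟨_, hp'⟩ (by
    rw [Extension.H1Cotangent.map_apply_coe, Extension.Cotangent.map_mk]
    rfl), Generators.H1Cotangent.δ_eq_δAux]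
  exact δAux_nat p

lemma cancel_eq (t' : T') (u : T ⊗[S] Ω[S⁄R]) :
    TensorProduct.AlgebraTensorModule.cancelBaseChange S T T' T' Ω[S⁄R] (t' ⊗ₜ u) =
      t' • gmap R S T T' u := by
  induction u with
  | zero => simp
  | add a b ha hb => rw [tmul_add, map_add, ha, hb, map_add, smul_add]
  | tmul t w =>
    rw [TensorProduct.AlgebraTensorModule.cancelBaseChange_tmul, gmap_tmul, smul_tmul',
      Algebra.smul_def, smul_eq_mul, mul_comm]

set_option backward.isDefEq.respectTransparency false in
theorem inj_of_subsingleton [Module.Flat T T'] (h : Subsingleton (H1Cotangent R T)) :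
    Function.Injective ((Algebra.H1Cotangent.map S S T T').liftBaseChange T') := by
  have hδinj : Function.Injective (H1Cotangent.δ R S T) := by
    rw [injective_iff_map_eq_zero]
    intro y hy
    obtain ⟨x, rfl⟩ := (H1Cotangent.exact_map_δ R S T y).mp hy
    rw [Subsingleton.elim x 0, map_zero]
  have hDinj : Function.Injective ((H1Cotangent.δ R S T).baseChange T') := by
    have := Module.Flat.lTensor_preserves_injective_linearMap (M := T') _ hδinj
    intro a b hab
    apply this
    exact hab
  have hcomm : ∀ z, H1Cotangent.δ R S T' ((Algebra.H1Cotangent.map S S T T').liftBaseChange T' z) =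
      TensorProduct.AlgebraTensorModule.cancelBaseChange S T T' T' Ω[S⁄R]
        ((H1Cotangent.δ R S T).baseChange T' z) := by
    intro z
    induction z with
    | zero => simp
    | add a b ha hb => simp only [map_add, ha, hb]
    | tmul t' y =>
      rw [LinearMap.liftBaseChange_tmul, map_smul, δ_nat, LinearMap.baseChange_tmul, cancel_eq]
  rw [injective_iff_map_eq_zero]
  intro z hz
  apply hDinj
  apply (TensorProduct.AlgebraTensorModule.cancelBaseChange S T T' T' Ω[S⁄R]).injective
  rw [← hcomm, hz, map_zero, map_zero, map_zero]

end Nat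

set_option backward.isDefEq.respectTransparency false in
theorem subsingleton_h1Cotangent_of_perfectField (k₀ : Type v) (L : Type u) [Field k₀]
    [PerfectField k₀] [Field L] [Algebra k₀ L] : Subsingleton (Algebra.H1Cotangent k₀ L) := by
  classical
  let P := Generators.self k₀ L
  rw [Algebra.H1Cotangent, Extension.subsingleton_h1Cotangent, injective_iff_map_eq_zero]
  intro c hc
  obtain ⟨⟨p, hp⟩, rfl⟩ := Extension.Cotangent.mk_surjective c
  rw [Extension.cotangentComplex_mk] at hc
  -- all partial derivatives vanish at the point
  have hpd : ∀ t : L, aeval P.val (pderiv t p) = 0 := by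
    intro t
    rw [← Generators.cotangentSpaceBasis_repr_one_tmul, hc, map_zero]
    rfl
  -- the finitely generated subfield
  let L₀ := IntermediateField.adjoin k₀ ((p.vars : Finset L) : Set L)
  have hfg : Algebra.EssFiniteType k₀ L₀ := IntermediateField.essFiniteType_iff.mpr ⟨p.vars, rfl⟩
  let ι : L₀ → L := Subtype.val
  have hι : Function.Injective ι := Subtype.val_injective
  obtain ⟨p₀, hp₀⟩ := exists_rename_eq_of_vars_subset_range p ι hι (by
    intro t ht
    exact ⟨⟨t, IntermediateField.subset_adjoin _ _ ht⟩, rfl⟩)
  let P₀ := Generators.self k₀ L₀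
  have hval : ∀ q : MvPolynomial L₀ k₀, ι (aeval P₀.val q) = aeval P.val (rename ι q) := by
    intro q
    rw [aeval_rename]
    exact congrArg (fun φ : MvPolynomial L₀ k₀ →ₐ[k₀] L => φ q)
      (MvPolynomial.comp_aeval (IntermediateField.val L₀) (f := P₀.val))
  -- `p₀` lies in the kernel
  have hp₀ker : p₀ ∈ P₀.toExtension.ker := by
    show algebraMap P₀.Ring L₀ p₀ = 0
    apply hι
    rw [Generators.algebraMap_apply, hval, hp₀]
    exact hp
  -- and is a cycle
  have hc₀ : P₀.toExtension.cotangentComplex (Extension.Cotangent.mk ⟨p₀, hp₀ker⟩) = 0 := by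
    rw [Extension.cotangentComplex_mk]
    apply (P₀.cotangentSpaceBasis.repr).injective
    ext t₀
    rw [Generators.cotangentSpaceBasis_repr_one_tmul, map_zero, Finsupp.zero_apply]
    show ι (aeval P₀.val (pderiv t₀ p₀)) = ι 0
    rw [hval, ← pderiv_rename hι, hp₀, hpd]
    rfl
  -- formal smoothness of the finitely generated subfield
  haveI : Algebra.FormallySmooth k₀ L₀ := Algebra.FormallySmooth.of_perfectField
  have hinj₀ : Function.Injective P₀.toExtension.cotangentComplex :=
    (Extension.subsingleton_h1Cotangent P₀.toExtension).mp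
      (Algebra.FormallySmooth.subsingleton_h1Cotangent)
  have hz₀ : Extension.Cotangent.mk ⟨p₀, hp₀ker⟩ = (0 : P₀.toExtension.Cotangent) :=
    hinj₀ (hc₀.trans (map_zero _).symm)
  rw [Extension.Cotangent.mk_eq_zero_iff] at hz₀
  rw [Extension.Cotangent.mk_eq_zero_iff]
  -- transport along `rename`
  have hle : Ideal.map (rename ι : MvPolynomial L₀ k₀ →ₐ[k₀] MvPolynomial L k₀)
      P₀.toExtension.ker ≤ P.toExtension.ker := by
    rw [Ideal.map_le_iff_le_comap]
    intro q hq
    rw [Ideal.mem_comap]
    show algebraMap P.Ring L (rename ι q) = 0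
    rw [Generators.algebraMap_apply, ← hval]
    have : algebraMap P₀.Ring L₀ q = 0 := hq
    rw [Generators.algebraMap_apply] at this
    rw [this]
    rfl
  have h2 : (rename ι : MvPolynomial L₀ k₀ →ₐ[k₀] MvPolynomial L k₀) p₀ ∈
      Ideal.map (rename ι : MvPolynomial L₀ k₀ →ₐ[k₀] MvPolynomial L k₀)
        (P₀.toExtension.ker ^ 2) := Ideal.mem_map_of_mem _ hz₀
  rw [Ideal.map_pow] at h2
  rw [hp₀] at h2
  exact Ideal.pow_right_mono hle 2 h2

theorem main (k₀ : Type v) {K L M : Type u} [Field k₀] [PerfectField k₀] [Field K] [Field L]
    [Field M] [Algebra K L] [Algebra L M] [Algebra K M] [IsScalarTower K L M]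
    [Algebra k₀ K] [Algebra k₀ L] [Algebra k₀ M] [IsScalarTower k₀ K L] [IsScalarTower k₀ K M] :
    Function.Injective ((Algebra.H1Cotangent.map K K L M).liftBaseChange M) :=
  inj_of_subsingleton (R := k₀) (subsingleton_h1Cotangent_of_perfectField k₀ L)

open TensorProduct in
/-- For a tower of fields `K ⊆ L ⊆ M`, the first map of the Jacobi–Zariski sequence, from `H_1(L_{L/K})
⊗_L M` to `H_1(L_{M/K})`, is injective; here `H_1(L)` denotes the first homology of the naive
cotangent complex and the map is the `M`-linear extension of the functoriality map. (The rest of the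
six-term sequence is exact for any three rings, so for fields it is exact with a zero on the left.) -/
theorem result {K L M : Type u} [Field K] [Field L]
    [Field M] [Algebra K L] [Algebra L M] [Algebra K M] [IsScalarTower K L M] :
    Function.Injective ((Algebra.H1Cotangent.map K K L M).liftBaseChange M) := by
  obtain ⟨p, hp⟩ := CharP.exists K
  rcases CharP.char_is_prime_or_zero K p with hprime | rfl
  · haveI : Fact p.Prime := ⟨hprime⟩
    haveI : CharP L p := charP_of_injective_algebraMap (algebraMap K L).injective p
    haveI : CharP M p := charP_of_injective_algebraMap (algebraMap K M).injective p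
    letI : Algebra (ZMod p) K := ZMod.algebra K p
    letI : Algebra (ZMod p) L := ZMod.algebra L p
    letI : Algebra (ZMod p) M := ZMod.algebra M p
    haveI : IsScalarTower (ZMod p) K L := IsScalarTower.of_algebraMap_eq' (Subsingleton.elim _ _)
    haveI : IsScalarTower (ZMod p) K M := IsScalarTower.of_algebraMap_eq' (Subsingleton.elim _ _)
    exact main (ZMod p)
  · haveI : CharZero K := CharP.charP_to_charZero K
    haveI : CharZero L := charZero_of_injective_algebraMap (algebraMap K L).injective
    haveI : CharZero M := charZero_of_injective_algebraMap (algebraMap K M).injective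
    haveI : IsScalarTower ℚ K L := IsScalarTower.of_algebraMap_eq' (Subsingleton.elim _ _)
    haveI : IsScalarTower ℚ K M := IsScalarTower.of_algebraMap_eq' (Subsingleton.elim _ _)
    exact main ℚ

end Groth.Agent.S9319
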