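import Groth.Statements.S12424
import Mathlib

set_option autoImplicit false
universe u
open Cubic

namespace Groth.Agent.S12424

section helpers
section hh
open MvPolynomial

section quad
variable {k : Type u} [Field k]

/-- scaling of a homogeneous polynomial -/
theorem eval_smul_of_homog {σ : Type*} [Fintype σ] {φ : MvPolynomial σ k} {n : ℕ}
    (h : φ.IsHomogeneous n) (c : k) (y : σ → k) :
    eval (c • y) φ = c ^ n * eval y φ := by
  rw [eval_eq, eval_eq, Finset.mul_sum]
  refine Finset.sum_congr rfl fun d hd => ?_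
  have hdeg : d.degree = n := by
    have := h (mem_support_iff.mp hd)
    rwa [Finsupp.degree_eq_weight_one]
  have : ∏ i ∈ d.support, (c • y) i ^ d i = c ^ n * ∏ i ∈ d.support, y i ^ d i := by
    simp only [Pi.smul_apply, smul_eq_mul, mul_pow, Finset.prod_mul_distrib]
    congr 1
    rw [Finset.prod_pow_eq_pow_sum, ← hdeg]
    rfl
  rw [this]
  ring

theorem eval_aeval_poly {σ : Type*} (F : σ → Polynomial k) (Λ : MvPolynomial σ k) (t : k) :
    Polynomial.eval t (aeval F Λ) = eval (fun i => Polynomial.eval t (F i)) Λ := by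
  have h := MvPolynomial.eval₂_comp_left (Polynomial.evalRingHom t) (algebraMap k (Polynomial k)) F Λ
  rw [aeval_def]
  rw [Polynomial.coe_evalRingHom] at h
  rw [h]
  have : (Polynomial.evalRingHom t).comp (algebraMap k (Polynomial k)) = RingHom.id k := by
    ext x; simp
  rw [this, eval₂_id]
  rfl

/-- root or nonzero constant along an affine line -/
theorem root_or_const [IsAlgClosed k] {Λ : MvPolynomial (Fin 3) k} (y₁ y₂ : Fin 3 → k) :
    (∃ t : k, eval (y₁ + t • y₂) Λ = 0) ∨ (∃ c : k, ∀ t : k, eval (y₁ + t • y₂) Λ = c) := by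
  set P : Polynomial k :=
    aeval (fun i => Polynomial.C (y₁ i) + Polynomial.X * Polynomial.C (y₂ i)) Λ with hP
  have hPe : ∀ t, Polynomial.eval t P = eval (y₁ + t • y₂) Λ := by
    intro t
    rw [hP, eval_aeval_poly]
    have : (fun i => Polynomial.eval t (Polynomial.C (y₁ i) + Polynomial.X * Polynomial.C (y₂ i)))
        = y₁ + t • y₂ := by
      funext i
      simp only [Polynomial.eval_add, Polynomial.eval_C, Polynomial.eval_mul, Polynomial.eval_X,
        Pi.add_apply, Pi.smul_apply, smul_eq_mul]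
    rw [this]
  by_cases hdeg : P.degree = 0
  · right
    refine ⟨P.coeff 0, fun t => ?_⟩
    rw [← hPe, Polynomial.eq_C_of_degree_eq_zero hdeg, Polynomial.eval_C, Polynomial.coeff_C_zero]
  · left
    obtain ⟨t, ht⟩ := IsAlgClosed.exists_root P hdeg
    exact ⟨t, by rw [← hPe]; exact ht⟩

/-- a quadratic form has a nontrivial zero on every plane -/
theorem exists_zero_on_plane [IsAlgClosed k] [CharZero k] {Λ : MvPolynomial (Fin 3) k}
    (hΛ : Λ.IsHomogeneous 2) (y₁ y₂ : Fin 3 → k) :
    ∃ s t : k, (s ≠ 0 ∨ t ≠ 0) ∧ eval (s • y₁ + t • y₂) Λ = 0 := by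
  rcases root_or_const (Λ := Λ) y₁ y₂ with ⟨t, ht⟩ | ⟨c, hc⟩
  · exact ⟨1, t, Or.inl one_ne_zero, by rw [one_smul]; exact ht⟩
  rcases root_or_const (Λ := Λ) y₂ y₁ with ⟨s, hs⟩ | ⟨c', hc'⟩
  · exact ⟨s, 1, Or.inr one_ne_zero, by rw [one_smul, add_comm]; exact hs⟩
  -- both constant: contradiction unless c = 0
  have e1 : c' = c := by
    rw [← hc' 1, ← hc 1, one_smul, one_smul, add_comm]
  have e2 : c' = 2 ^ 2 * c := by
    rw [← hc' 2, ← hc (2 : k)⁻¹, ← eval_smul_of_homog hΛ]
    congr 1
    rw [smul_add, smul_smul, mul_inv_cancel₀ (two_ne_zero), one_smul, add_comm]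
  have hc0 : c = 0 := by
    have h3 : (3 : k) * c = 0 := by linear_combination e1 - e2
    rcases mul_eq_zero.mp h3 with h | h
    · exact absurd h (by norm_num)
    · exact h
  exact ⟨1, 0, Or.inl one_ne_zero, by rw [one_smul, hc 0, hc0]⟩

end quad

section chain
variable {k : Type u} [Field k]

/-- the linear forms -/
noncomputable def Lf (A : Matrix (Fin 4) (Fin 3) k) (i : Fin 4) : MvPolynomial (Fin 3) k :=
  ∑ j : Fin 3, C (A i j) * X j

/-- the substitution homomorphism -/
noncomputable def sb (A : Matrix (Fin 4) (Fin 3) k) :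
    MvPolynomial (Fin 4) k →ₐ[k] MvPolynomial (Fin 3) k := aeval (Lf A)

theorem sb_X (A : Matrix (Fin 4) (Fin 3) k) (i : Fin 4) : sb A (X i) = Lf A i := aeval_X _ _

theorem pderiv_Lf (A : Matrix (Fin 4) (Fin 3) k) (i : Fin 4) (j : Fin 3) :
    pderiv j (Lf A i) = C (A i j) := by
  unfold Lf
  rw [map_sum]
  rw [Finset.sum_eq_single j]
  · rw [Derivation.leibniz, pderiv_C, pderiv_X_self]
    simp
  · intro b _ hb
    rw [Derivation.leibniz, pderiv_C, pderiv_X_of_ne hb]
    simp
  · intro h; exact absurd (Finset.mem_univ j) h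

theorem chain_rule (A : Matrix (Fin 4) (Fin 3) k) (f : MvPolynomial (Fin 4) k) (j : Fin 3) :
    pderiv j (sb A f) = ∑ i : Fin 4, sb A (pderiv i f) * C (A i j) := by
  induction f using MvPolynomial.induction_on with
  | C a =>
    have : sb A (C a) = C a := by unfold sb; simp
    rw [this]
    simp
  | add p q hp hq => simp only [map_add, hp, hq, add_mul, Finset.sum_add_distrib]
  | mul_X p m hp =>
    rw [map_mul, sb_X, Derivation.leibniz, hp, pderiv_Lf]
    simp only [Derivation.leibniz, smul_eq_mul, map_add, map_mul, sb_X, add_mul,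
      Finset.sum_add_distrib]
    rw [Finset.mul_sum]
    have h2 : ∑ i : Fin 4, (sb A) p * (sb A) ((pderiv i) (X m)) * C (A i j)
        = sb A p * C (A m j) := by
      rw [Finset.sum_eq_single m]
      · rw [pderiv_X_self, map_one, mul_one]
      · intro b _ hb
        rw [pderiv_X_of_ne hb.symm, map_zero, mul_zero, zero_mul]
      · intro h; exact absurd (Finset.mem_univ m) h
    rw [h2]
    have h3 : ∀ i : Fin 4, Lf A m * ((sb A) ((pderiv i) p) * C (A i j))
        = Lf A m * (sb A) ((pderiv i) p) * C (A i j) := by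
      intro i; ring
    simp only [h3]

theorem eval_sb (A : Matrix (Fin 4) (Fin 3) k) (p : MvPolynomial (Fin 4) k) (y : Fin 3 → k) :
    eval y (sb A p) = eval (A.mulVec y) p := by
  have h : (eval y).comp (sb A).toRingHom = eval (A.mulVec y) := by
    apply MvPolynomial.ringHom_ext
    · intro a
      simp [sb]
    · intro i
      simp [sb, Lf, Matrix.mulVec, dotProduct]
  exact congrFun (congrArg DFunLike.coe h) p

theorem eval_pderiv_sb (A : Matrix (Fin 4) (Fin 3) k) (f : MvPolynomial (Fin 4) k) (j : Fin 3)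
    (y : Fin 3 → k) :
    eval y (pderiv j (sb A f)) = ∑ i : Fin 4, eval (A.mulVec y) (pderiv i f) * A i j := by
  rw [chain_rule, map_sum]
  refine Finset.sum_congr rfl fun i _ => ?_
  rw [map_mul, eval_sb, eval_C]

end chain

section linalg
variable {k : Type u} [Field k]

theorem mulVec_injective_of_rank (A : Matrix (Fin 4) (Fin 3) k) (hA : A.rank = 3) :
    Function.Injective A.mulVec := by
  have h1 := LinearMap.finrank_range_add_finrank_ker (Matrix.mulVecLin A)
  have h2 : Module.finrank k (LinearMap.range (Matrix.mulVecLin A)) = 3 := hA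
  rw [h2, Module.finrank_fintype_fun_eq_card, Fintype.card_fin] at h1
  have h3 : Module.finrank k (LinearMap.ker (Matrix.mulVecLin A)) = 0 := by omega
  have h4 : LinearMap.ker (Matrix.mulVecLin A) = ⊥ := Submodule.finrank_eq_zero.mp h3
  exact LinearMap.ker_eq_bot.mp h4

theorem exists_complement (A : Matrix (Fin 4) (Fin 3) k) (hA : A.rank = 3) :
    ∃ e : Fin 4 → k, ∀ z : Fin 4 → k, (∀ j, ∑ i, z i * A i j = 0) → ∑ i, z i * e i = 0 → z = 0 := by
  set φ := Matrix.mulVecLin A with hφ
  have h2 : Module.finrank k (LinearMap.range φ) = 3 := hA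
  have hne : LinearMap.range φ ≠ ⊤ := by
    intro h
    rw [h, finrank_top, Module.finrank_fintype_fun_eq_card, Fintype.card_fin] at h2
    omega
  obtain ⟨e, he⟩ : ∃ e, e ∉ LinearMap.range φ := by
    by_contra hcon
    push Not at hcon
    exact hne (Submodule.eq_top_iff'.mpr hcon)
  refine ⟨e, fun z hz1 hz2 => ?_⟩
  let ψ : (Fin 4 → k) →ₗ[k] k :=
    { toFun := fun x => ∑ i, z i * x i
      map_add' := fun x y => by simp [mul_add, Finset.sum_add_distrib]
      map_smul' := fun c x => by simp [Finset.mul_sum, mul_left_comm] }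
  have hr : LinearMap.range φ ≤ LinearMap.ker ψ := by
    rintro _ ⟨y, rfl⟩
    rw [LinearMap.mem_ker]
    show ∑ i, z i * (A.mulVec y) i = 0
    simp only [Matrix.mulVec, dotProduct, Finset.mul_sum]
    rw [Finset.sum_comm]
    apply Finset.sum_eq_zero
    intro j _
    have := hz1 j
    calc ∑ i, z i * (A i j * y j) = (∑ i, z i * A i j) * y j := by
          rw [Finset.sum_mul]; exact Finset.sum_congr rfl fun i _ => by ring
      _ = 0 := by rw [this, zero_mul]
  have hek : e ∈ LinearMap.ker ψ := by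
    rw [LinearMap.mem_ker]; exact hz2
  have hlt : LinearMap.range φ < LinearMap.range φ ⊔ Submodule.span k {e} := by
    apply lt_of_le_of_ne le_sup_left
    intro h
    apply he
    rw [h]
    exact Submodule.mem_sup_right (Submodule.mem_span_singleton_self e)
  have hfr := Submodule.finrank_lt_finrank_of_lt hlt
  have htop : LinearMap.range φ ⊔ Submodule.span k {e} = ⊤ := by
    apply Submodule.eq_top_of_finrank_eq
    have hle := Submodule.finrank_le (LinearMap.range φ ⊔ Submodule.span k {e})
    rw [Module.finrank_fintype_fun_eq_card, Fintype.card_fin] at hle ⊢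
    omega
  have hker : LinearMap.ker ψ = ⊤ := by
    apply top_le_iff.mp
    rw [← htop]
    exact sup_le hr ((Submodule.span_singleton_le_iff_mem _ _).mpr hek)
  funext i
  have h5 : Pi.single i (1 : k) ∈ LinearMap.ker ψ := by rw [hker]; trivial
  rw [LinearMap.mem_ker] at h5
  have h6 : ψ (Pi.single i (1 : k)) = z i := by
    show ∑ m, z m * (Pi.single i (1 : k) : Fin 4 → k) m = z i
    rw [Finset.sum_eq_single i]
    · simp
    · intro b _ hb
      rw [Pi.single_eq_of_ne hb, mul_zero]
    · intro h; exact absurd (Finset.mem_univ i) h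
  rw [← h6, h5]
  rfl

end linalg


section main
variable {k : Type u} [Field k]

theorem sb_homog (A : Matrix (Fin 4) (Fin 3) k) {p : MvPolynomial (Fin 4) k} {n : ℕ}
    (hp : p.IsHomogeneous n) : (sb A p).IsHomogeneous n := by
  have h := IsHomogeneous.aeval (S := k) (n := 1) hp (Lf A) (fun i => by
    unfold Lf
    apply IsHomogeneous.sum
    intro j _
    have := (isHomogeneous_C (Fin 3) (A i j)).mul (isHomogeneous_X k j)
    simpa using this)
  rw [one_mul] at h
  exact h

theorem sing [IsAlgClosed k] [CharZero k]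
    (f : MvPolynomial (Fin 4) k) (hf : f.IsHomogeneous 3)
    (hsm : ∀ v : Fin 4 → k, v ≠ 0 → eval v f = 0 → ∃ i : Fin 4, eval v (pderiv i f) ≠ 0)
    (A : Matrix (Fin 4) (Fin 3) k) (hA : A.rank = 3)
    (y₁ y₂ : Fin 3 → k) (hind : ∀ s t : k, s • y₁ + t • y₂ = 0 → s = 0 ∧ t = 0)
    (hg : ∀ s t : k, eval (s • y₁ + t • y₂) (sb A f) = 0)
    (hdg : ∀ s t : k, ∀ j, eval (s • y₁ + t • y₂) (pderiv j (sb A f)) = 0) : False := by
  obtain ⟨e, he⟩ := exists_complement A hA
  set Λ : MvPolynomial (Fin 3) k := ∑ i, C (e i) * sb A (pderiv i f) with hΛdef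
  have hΛ : Λ.IsHomogeneous 2 := by
    apply IsHomogeneous.sum
    intro i _
    have h1 : (pderiv i f).IsHomogeneous 2 := hf.pderiv
    have := (isHomogeneous_C (Fin 3) (e i)).mul (sb_homog A h1)
    simpa using this
  obtain ⟨s, t, hst, hz⟩ := exists_zero_on_plane hΛ y₁ y₂
  set y₀ := s • y₁ + t • y₂ with hy₀
  have hy0 : y₀ ≠ 0 := by
    intro h
    have := hind s t h
    rcases hst with h' | h'
    · exact h' this.1
    · exact h' this.2
  have hv : A.mulVec y₀ ≠ 0 := by
    intro h
    apply hy0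
    apply mulVec_injective_of_rank A hA
    rw [h, Matrix.mulVec_zero]
  have hfv : eval (A.mulVec y₀) f = 0 := by
    rw [← eval_sb]; exact hg s t
  obtain ⟨i, hi⟩ := hsm _ hv hfv
  apply hi
  have hz0 : (fun i => eval (A.mulVec y₀) (pderiv i f)) = 0 := by
    apply he
    · intro j
      rw [← eval_pderiv_sb]
      exact hdg s t j
    · have : eval y₀ Λ = ∑ i, eval (A.mulVec y₀) (pderiv i f) * e i := by
        rw [hΛdef, map_sum]
        refine Finset.sum_congr rfl fun i _ => ?_
        rw [map_mul, eval_C, eval_sb, mul_comm]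
      rw [← this]
      exact hz
  exact congrFun hz0 i

theorem decomp_deg_one {σ : Type*} {p : MvPolynomial σ k} (hp : p.totalDegree = 1) :
    ∃ p0 p1 : MvPolynomial σ k, p0.IsHomogeneous 0 ∧ p1.IsHomogeneous 1 ∧ p = p0 + p1 := by
  refine ⟨homogeneousComponent 0 p, homogeneousComponent 1 p,
    homogeneousComponent_isHomogeneous 0 p, homogeneousComponent_isHomogeneous 1 p, ?_⟩
  have h := sum_homogeneousComponent p
  rw [hp, Finset.sum_range_succ, Finset.sum_range_one] at h
  exact h.symm

theorem linear_factor {g x l : MvPolynomial (Fin 3) k} (hg : g.IsHomogeneous 3) (hg0 : g ≠ 0)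
    (h : g = x * x * l) (hxu : ¬ IsUnit x) :
    ∃ h₁ l₁ : MvPolynomial (Fin 3) k, h₁.IsHomogeneous 1 ∧ h₁ ≠ 0 ∧ g = h₁ * h₁ * l₁ := by
  have hx0 : x ≠ 0 := by
    rintro rfl
    apply hg0; rw [h]; ring
  have hl0 : l ≠ 0 := by
    rintro rfl
    apply hg0; rw [h]; ring
  have hdeg : g.totalDegree = 3 := hg.totalDegree hg0
  have hdeg2 : g.totalDegree = x.totalDegree + x.totalDegree + l.totalDegree := by
    rw [h, totalDegree_mul_of_isDomain (mul_ne_zero hx0 hx0) hl0,
      totalDegree_mul_of_isDomain hx0 hx0]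
  have hdx : x.totalDegree ≠ 0 := by
    intro h0
    rw [totalDegree_eq_zero_iff_eq_C] at h0
    apply hxu
    rw [h0]
    have hc : coeff 0 x ≠ 0 := by
      intro hc
      apply hx0
      rw [h0, hc, map_zero]
    exact (IsUnit.mk0 _ hc).map C
  have hx1 : x.totalDegree = 1 := by omega
  have hl1 : l.totalDegree = 1 := by omega
  obtain ⟨x0, x1, hx0h, hx1h, rfl⟩ := decomp_deg_one hx1
  obtain ⟨l0, l1, hl0h, hl1h, rfl⟩ := decomp_deg_one hl1
  have hgeq : g = x1 * x1 * l1 := by
    have e : g = x0 * x0 * l0 + (2 * x0 * x1 * l0 + x0 * x0 * l1)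
        + (x1 * x1 * l0 + 2 * x0 * x1 * l1) + x1 * x1 * l1 := by
      rw [h]; ring
    have h0 : (x0 * x0 * l0).IsHomogeneous 0 := (hx0h.mul hx0h).mul hl0h
    have h2c : ((2 : MvPolynomial (Fin 3) k)).IsHomogeneous 0 := by
      have h2 : (2 : MvPolynomial (Fin 3) k) = C 2 := (map_ofNat C 2).symm
      rw [h2]
      exact isHomogeneous_C (Fin 3) (2 : k)
    have h1 : (2 * x0 * x1 * l0 + x0 * x0 * l1).IsHomogeneous 1 :=
      (((h2c.mul hx0h).mul hx1h).mul hl0h).add ((hx0h.mul hx0h).mul hl1h)
    have h2 : (x1 * x1 * l0 + 2 * x0 * x1 * l1).IsHomogeneous 2 :=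
      ((hx1h.mul hx1h).mul hl0h).add (((h2c.mul hx0h).mul hx1h).mul hl1h)
    have h3 : (x1 * x1 * l1).IsHomogeneous 3 := (hx1h.mul hx1h).mul hl1h
    have := congrArg (homogeneousComponent 3) e
    rw [homogeneousComponent_eq_self hg, map_add, map_add, map_add,
      homogeneousComponent_of_mem h0, homogeneousComponent_of_mem h1,
      homogeneousComponent_of_mem h2, homogeneousComponent_eq_self h3] at this
    simpa using this
  refine ⟨x1, l1, hx1h, ?_, hgeq⟩
  rintro rfl
  apply hg0
  rw [hgeq]; ring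

/-- a linear form is a combination of the variables -/
theorem linear_form {h₁ : MvPolynomial (Fin 3) k} (hh : h₁.IsHomogeneous 1) :
    ∃ c : Fin 3 → k, h₁ = ∑ j, C (c j) * X j := by
  have hm : h₁ ∈ homogeneousSubmodule (Fin 3) k 1 := hh
  rw [homogeneousSubmodule_one_eq_span_X, Submodule.mem_span_range_iff_exists_fun] at hm
  obtain ⟨c, hc⟩ := hm
  refine ⟨c, ?_⟩
  rw [← hc]
  refine Finset.sum_congr rfl fun j _ => ?_
  rw [smul_eq_C_mul]

theorem exists_plane (c : Fin 3 → k) :
    ∃ y₁ y₂ : Fin 3 → k, (∀ s t : k, s • y₁ + t • y₂ = 0 → s = 0 ∧ t = 0) ∧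
      ∀ s t : k, ∑ j, c j * (s • y₁ + t • y₂) j = 0 := by
  let ψ : (Fin 3 → k) →ₗ[k] k :=
    { toFun := fun x => ∑ i, c i * x i
      map_add' := fun x y => by simp [mul_add, Finset.sum_add_distrib]
      map_smul' := fun a x => by simp [Finset.mul_sum, mul_left_comm] }
  have h1 := LinearMap.finrank_range_add_finrank_ker ψ
  rw [Module.finrank_fintype_fun_eq_card, Fintype.card_fin] at h1
  have h2 : Module.finrank k (LinearMap.range ψ) ≤ 1 := by
    have := Submodule.finrank_le (LinearMap.range ψ)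
    rwa [Module.finrank_self] at this
  have h3 : 2 ≤ Module.finrank k (LinearMap.ker ψ) := by omega
  obtain ⟨b, hb⟩ := exists_linearIndependent_of_le_finrank h3
  rw [Fintype.linearIndependent_iff] at hb
  refine ⟨(b 0 : Fin 3 → k), (b 1 : Fin 3 → k), fun s t hst => ?_, fun s t => ?_⟩
  · have := hb ![s, t] (by
      rw [Fin.sum_univ_two]
      apply Subtype.ext
      simpa using hst)
    exact ⟨by simpa using this 0, by simpa using this 1⟩
  · have hmem : s • (b 0 : Fin 3 → k) + t • (b 1 : Fin 3 → k) ∈ LinearMap.ker ψ :=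
      Submodule.add_mem _ (Submodule.smul_mem _ _ (b 0).2) (Submodule.smul_mem _ _ (b 1).2)
    rw [LinearMap.mem_ker] at hmem
    exact hmem

end main
end hh


end helpers

/-- Let k be an algebraically closed field of characteristic zero and S = V_+(f) ⊂ P^3_k a smooth cubic
surface, f a nonzero homogeneous cubic in four variables with the Jacobian condition at every
nonzero zero. For every hyperplane H of P^3_k the scheme-theoretic intersection S ∩ H is reduced;
concretely, for every 4 × 3 matrix A of rank 3 over k (a linear parametrisation of H), the ternary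
cubic obtained from f by substituting X_i ↦ Σ_j A_{ij} Y_j is squarefree. -/
theorem result (k : Type u) [Field k] [IsAlgClosed k] [CharZero k]
    (f : MvPolynomial (Fin 4) k) (hf : f.IsHomogeneous 3) (hf0 : f ≠ 0)
    (hsm : ∀ v : Fin 4 → k, v ≠ 0 → MvPolynomial.eval v f = 0 →
      ∃ i : Fin 4, MvPolynomial.eval v (MvPolynomial.pderiv i f) ≠ 0)
    (A : Matrix (Fin 4) (Fin 3) k) (hA : A.rank = 3) :
    Squarefree (MvPolynomial.aeval (fun i : Fin 4 => ∑ j : Fin 3, MvPolynomial.C (A i j) * MvPolynomial.X j) f) := by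
  change Squarefree (sb A f)
  intro x hx
  by_contra hxu
  by_cases hg0 : sb A f = 0
  · refine sing f hf hsm A hA (Pi.single 0 1) (Pi.single 1 1) (fun s t hst => ?_)
      (fun s t => by rw [hg0, map_zero]) (fun s t j => by rw [hg0, map_zero, map_zero])
    have h0 := congrFun hst 0
    have h1 := congrFun hst 1
    simp at h0 h1
    exact ⟨h0, h1⟩
  · obtain ⟨l, hl⟩ := hx
    obtain ⟨h₁, l₁, hh1, hh10, hgeq⟩ := linear_factor (sb_homog A hf) hg0 hl hxu
    obtain ⟨c, hc⟩ := linear_form hh1
    obtain ⟨y₁, y₂, hind, hker⟩ := exists_plane c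
    have hev : ∀ s t : k, MvPolynomial.eval (s • y₁ + t • y₂) h₁ = 0 := by
      intro s t
      rw [hc, map_sum, ← hker s t]
      refine Finset.sum_congr rfl fun j _ => ?_
      rw [map_mul, MvPolynomial.eval_C, MvPolynomial.eval_X]
    refine sing f hf hsm A hA y₁ y₂ hind (fun s t => ?_) (fun s t j => ?_)
    · rw [hgeq, map_mul, map_mul, hev, zero_mul, zero_mul]
    · rw [hgeq]
      simp only [Derivation.leibniz, smul_eq_mul, map_add, map_mul, hev]
      ring

end Groth.Agent.S12424
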