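import Groth.Statements.S10897
import Mathlib
import Groth.Agent.S12424

set_option autoImplicit false
universe u
open Cubic

namespace Groth.Agent.S10897

section helpers
section hh
open MvPolynomial

variable {k : Type u} [Field k]

/-- chain rule for substitution into univariate polynomials -/
theorem deriv_aeval_poly {σ : Type*} [Fintype σ] (F : σ → Polynomial k) (p : MvPolynomial σ k) :
    Polynomial.derivative (aeval F p) =
      ∑ i, aeval F (pderiv i p) * Polynomial.derivative (F i) := by
  classical
  induction p using MvPolynomial.induction_on with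
  | C a => simp
  | add p q hp hq => simp only [map_add, hp, hq, add_mul, Finset.sum_add_distrib]
  | mul_X p m hp =>
    rw [map_mul, aeval_X, Polynomial.derivative_mul, hp]
    simp only [Derivation.leibniz, smul_eq_mul, map_add, map_mul, aeval_X, add_mul,
      Finset.sum_add_distrib]
    have h2 : ∑ i, aeval F p * aeval F (pderiv i (X m : MvPolynomial σ k)) *
        Polynomial.derivative (F i) = aeval F p * Polynomial.derivative (F m) := by
      rw [Finset.sum_eq_single m]
      · rw [pderiv_X_self, map_one, mul_one]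
      · intro b _ hb
        rw [pderiv_X_of_ne hb.symm, map_zero, mul_zero, zero_mul]
      · intro h; exact absurd (Finset.mem_univ m) h
    rw [h2, Finset.sum_mul]
    have h3 : ∀ i, F m * aeval F (pderiv i p) * Polynomial.derivative (F i)
        = aeval F (pderiv i p) * Polynomial.derivative (F i) * F m := by
      intro i; ring
    simp only [h3]
    ring

/-- derivative along a line -/
theorem deriv_line [Infinite k] {σ : Type*} [Fintype σ] (f : MvPolynomial σ k) (v w : σ → k)
    (hline : ∀ t : k, eval (v + t • w) f = 0) :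
    ∑ i, eval v (pderiv i f) * w i = 0 := by
  set F : σ → Polynomial k := fun i => Polynomial.C (v i) + Polynomial.X * Polynomial.C (w i)
    with hF
  have hFe : ∀ t : k, (fun i => Polynomial.eval t (F i)) = v + t • w := by
    intro t
    funext i
    simp only [hF, Polynomial.eval_add, Polynomial.eval_C, Polynomial.eval_mul, Polynomial.eval_X,
      Pi.add_apply, Pi.smul_apply, smul_eq_mul]
  have hP : aeval F f = 0 := by
    apply Polynomial.funext
    intro t
    rw [Groth.Agent.S12424.eval_aeval_poly, hFe, hline, Polynomial.eval_zero]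
  have hd := congrArg (Polynomial.eval 0) (congrArg Polynomial.derivative hP)
  rw [deriv_aeval_poly, Polynomial.derivative_zero, Polynomial.eval_zero,
    Polynomial.eval_finsetSum] at hd
  rw [← hd]
  refine Finset.sum_congr rfl fun i _ => ?_
  rw [Polynomial.eval_mul, Groth.Agent.S12424.eval_aeval_poly, hFe, zero_smul, add_zero]
  congr 1
  simp [hF]


/-- the linear form with coefficients `c` -/
noncomputable def lin {σ : Type*} [Fintype σ] (c : σ → k) : MvPolynomial σ k :=
  ∑ j, C (c j) * X j

theorem eval_lin {σ : Type*} [Fintype σ] (c y : σ → k) : eval y (lin c) = ∑ j, c j * y j := by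
  unfold lin
  rw [map_sum]
  simp only [map_mul, eval_C, eval_X]

theorem lin_homog {σ : Type*} [Fintype σ] (c : σ → k) : (lin c).IsHomogeneous 1 := by
  unfold lin
  apply IsHomogeneous.sum
  intro j _
  have := (isHomogeneous_C σ (c j)).mul (isHomogeneous_X k j)
  simpa using this

theorem lin_ne_zero {σ : Type*} [Fintype σ] (c : σ → k) (hc : c ≠ 0) : lin c ≠ 0 := by
  classical
  obtain ⟨j₀, hj₀⟩ : ∃ j₀, c j₀ ≠ 0 := by
    by_contra h
    push Not at h
    exact hc (funext h)
  intro h
  have := congrArg (eval (Pi.single j₀ (1 : k))) h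
  rw [eval_lin, map_zero, Finset.sum_eq_single j₀] at this
  · simp at this
    exact hj₀ this
  · intro b _ hb
    rw [Pi.single_eq_of_ne hb, mul_zero]
  · intro h; exact absurd (Finset.mem_univ j₀) h

theorem decomp_linear {σ : Type*} [Fintype σ] [DecidableEq σ] (c : σ → k) (j₀ : σ)
    (hc : c j₀ ≠ 0) (g : MvPolynomial σ k) :
    ∃ q r : MvPolynomial σ k, g = lin c * q + r ∧ r ∈ supported k {j | j ≠ j₀} := by
  induction g using MvPolynomial.induction_on with
  | C a => exact ⟨0, C a, by simp, (supported k _).algebraMap_mem a⟩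
  | add p q hp hq =>
    obtain ⟨q1, r1, h1, hr1⟩ := hp
    obtain ⟨q2, r2, h2, hr2⟩ := hq
    exact ⟨q1 + q2, r1 + r2, by rw [h1, h2]; ring, Subalgebra.add_mem _ hr1 hr2⟩
  | mul_X p m hp =>
    obtain ⟨q1, r1, h1, hr1⟩ := hp
    by_cases hm : m = j₀
    · subst hm
      refine ⟨q1 * X m + C (c m)⁻¹ * r1,
        - (C (c m)⁻¹ * r1 * ∑ j ∈ Finset.univ.erase m, C (c j) * X j), ?_, ?_⟩
      · have hl : lin c = C (c m) * X m + ∑ j ∈ Finset.univ.erase m, C (c j) * X j :=
          (Finset.add_sum_erase _ _ (Finset.mem_univ m)).symm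
        rw [h1, hl]
        have hcc : C (c m)⁻¹ * C (c m) = (1 : MvPolynomial σ k) := by
          rw [← C_mul, inv_mul_cancel₀ hc, C_1]
        linear_combination (-(r1 * X m)) * hcc
      · apply Subalgebra.neg_mem
        apply Subalgebra.mul_mem
        · apply Subalgebra.mul_mem _ _ hr1
          exact (supported k _).algebraMap_mem _
        · apply Subalgebra.sum_mem
          intro j hj
          apply Subalgebra.mul_mem
          · exact (supported k _).algebraMap_mem _
          · rw [X_mem_supported]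
            exact Finset.ne_of_mem_erase hj
    · refine ⟨q1 * X m, r1 * X m, by rw [h1]; ring, Subalgebra.mul_mem _ hr1 ?_⟩
      rw [X_mem_supported]
      exact hm

theorem dvd_of_vanish {σ : Type*} [Fintype σ] [Infinite k] (c : σ → k)
    (hc : c ≠ 0) (g : MvPolynomial σ k)
    (hg : ∀ y : σ → k, ∑ j, c j * y j = 0 → eval y g = 0) : lin c ∣ g := by
  classical
  obtain ⟨j₀, hj₀⟩ : ∃ j₀, c j₀ ≠ 0 := by
    by_contra h
    push Not at h
    exact hc (funext h)
  obtain ⟨q, r, hqr, hr⟩ := decomp_linear c j₀ hj₀ g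
  have hr0 : r = 0 := by
    apply MvPolynomial.funext
    intro y
    rw [map_zero]
    set y' := Function.update y j₀ (-(c j₀)⁻¹ * ∑ j ∈ Finset.univ.erase j₀, c j * y j) with hy'
    have hker : ∑ j, c j * y' j = 0 := by
      rw [← Finset.add_sum_erase _ _ (Finset.mem_univ j₀)]
      have : ∑ j ∈ Finset.univ.erase j₀, c j * y' j = ∑ j ∈ Finset.univ.erase j₀, c j * y j := by
        refine Finset.sum_congr rfl fun j hj => ?_
        rw [hy', Function.update_of_ne (Finset.ne_of_mem_erase hj)]
      rw [this, hy', Function.update_self]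
      field_simp
      ring
    have h1 : eval y' r = 0 := by
      have := hg y' hker
      rw [hqr, map_add, map_mul, eval_lin, hker, zero_mul, zero_add] at this
      exact this
    have h2 : eval y r = eval y' r := by
      apply eval₂Hom_congr' rfl _ rfl
      intro i hi _
      have : i ∈ {j | j ≠ j₀} := (mem_supported.mp hr) hi
      rw [hy', Function.update_of_ne this]
    rw [h2, h1]
  exact ⟨q, by rw [hqr, hr0, add_zero]⟩

theorem lin_irreducible {σ : Type*} [Fintype σ] (c : σ → k) (hc : c ≠ 0) :
    Irreducible (lin c) := by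
  have h0 := lin_ne_zero c hc
  have hd : (lin c).totalDegree = 1 := (lin_homog c).totalDegree h0
  rw [irreducible_iff]
  constructor
  · intro hu
    obtain ⟨u, hu⟩ := hu.exists_right_inv
    have hu0 : u ≠ 0 := by
      rintro rfl
      rw [mul_zero] at hu
      exact zero_ne_one hu
    have := congrArg totalDegree hu
    rw [totalDegree_mul_of_isDomain h0 hu0, hd, totalDegree_one] at this
    omega
  · intro a b hab
    have ha0 : a ≠ 0 := by
      rintro rfl
      rw [zero_mul] at hab
      exact h0 hab
    have hb0 : b ≠ 0 := by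
      rintro rfl
      rw [mul_zero] at hab
      exact h0 hab
    have := congrArg totalDegree hab
    rw [totalDegree_mul_of_isDomain ha0 hb0, hd] at this
    have key : ∀ x : MvPolynomial σ k, x ≠ 0 → x.totalDegree = 0 → IsUnit x := by
      intro x hx0 h0
      rw [totalDegree_eq_zero_iff_eq_C] at h0
      rw [h0]
      have hc : coeff 0 x ≠ 0 := by
        intro hc
        apply hx0
        rw [h0, hc, map_zero]
      exact (IsUnit.mk0 _ hc).map C
    rcases Nat.eq_zero_or_pos a.totalDegree with h | h
    · exact Or.inl (key a ha0 h)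
    · exact Or.inr (key b hb0 (by omega))


/-- the functional `x ↦ ∑ z i * x i` -/
noncomputable def dotL {σ : Type*} [Fintype σ] (z : σ → k) : (σ → k) →ₗ[k] k :=
  { toFun := fun x => ∑ i, z i * x i
    map_add' := fun x y => by simp [mul_add, Finset.sum_add_distrib]
    map_smul' := fun c x => by simp [Finset.mul_sum, mul_left_comm] }

theorem dotL_apply {σ : Type*} [Fintype σ] (z x : σ → k) : dotL z x = ∑ i, z i * x i := rfl

theorem dotL_ne_zero {σ : Type*} [Fintype σ] (z : σ → k) (hz : z ≠ 0) : dotL z ≠ 0 := by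
  classical
  obtain ⟨j₀, hj₀⟩ : ∃ j₀, z j₀ ≠ 0 := by
    by_contra h
    push Not at h
    exact hz (funext h)
  intro h
  have := congrArg (fun φ => φ (Pi.single j₀ (1 : k))) h
  simp only [dotL_apply, LinearMap.zero_apply] at this
  rw [Finset.sum_eq_single j₀] at this
  · simp at this
    exact hj₀ this
  · intro b _ hb
    rw [Pi.single_eq_of_ne hb, mul_zero]
  · intro h; exact absurd (Finset.mem_univ j₀) h

end hh


end helpers

/-- Over an algebraically closed field of characteristic zero, through a point s of a smooth cubic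
surface S = V_+(f) ⊂ P^3 there pass at most three lines contained in S, and these lines are
coplanar. With s given by a nonzero vector v with f(v) = 0, the lines through s on S are the
2-dimensional subspaces of k^4 containing v on which f vanishes; there are at most three of them and
one 3-dimensional subspace contains them all. -/
theorem result (k : Type u) [Field k] [IsAlgClosed k] [CharZero k]
    (f : MvPolynomial (Fin 4) k) (hf : f.IsHomogeneous 3) (hf0 : f ≠ 0)
    (hsm : ∀ v : Fin 4 → k, v ≠ 0 → MvPolynomial.eval v f = 0 →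
      ∃ i : Fin 4, MvPolynomial.eval v (MvPolynomial.pderiv i f) ≠ 0)
    (v : Fin 4 → k) (hv : v ≠ 0) (hfv : MvPolynomial.eval v f = 0) :
    {U : Submodule k (Fin 4 → k) | v ∈ U ∧ (Module.finrank k ↥U = 2 ∧ ∀ u ∈ U, MvPolynomial.eval u f = 0)}.Finite ∧
      {U : Submodule k (Fin 4 → k) | v ∈ U ∧ (Module.finrank k ↥U = 2 ∧ ∀ u ∈ U, MvPolynomial.eval u f = 0)}.ncard ≤ 3 ∧
      ∃ H : Submodule k (Fin 4 → k), Module.finrank k ↥H = 3 ∧
        ∀ U : Submodule k (Fin 4 → k), v ∈ U → (Module.finrank k ↥U = 2 ∧ ∀ u ∈ U, MvPolynomial.eval u f = 0) → U ≤ H := by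
  classical
  set 𝒮 : Set (Submodule k (Fin 4 → k)) :=
    {U | v ∈ U ∧ (Module.finrank k ↥U = 2 ∧ ∀ u ∈ U, MvPolynomial.eval u f = 0)} with h𝒮
  -- tangent plane
  obtain ⟨i₀, hi₀⟩ := hsm v hv hfv
  set z : Fin 4 → k := fun i => MvPolynomial.eval v (MvPolynomial.pderiv i f) with hz
  have hz0 : z ≠ 0 := fun h => hi₀ (congrFun h i₀)
  set H : Submodule k (Fin 4 → k) := LinearMap.ker (dotL z) with hH
  have hH3 : Module.finrank k ↥H = 3 := by
    have := Module.Dual.finrank_ker_add_one_of_ne_zero (dotL_ne_zero z hz0)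
    rw [Module.finrank_fintype_fun_eq_card, Fintype.card_fin] at this
    rw [hH]
    omega
  have hUH : ∀ U ∈ 𝒮, U ≤ H := by
    intro U hU u hu
    rw [hH, LinearMap.mem_ker, dotL_apply]
    apply deriv_line f v u
    intro t
    exact hU.2.2 _ (U.add_mem hU.1 (U.smul_mem t hu))
  -- parametrisation
  let b : Module.Basis (Fin 3) k ↥H := Module.finBasisOfFinrankEq k ↥H hH3
  set A : Matrix (Fin 4) (Fin 3) k := Matrix.of fun i j => (b j : Fin 4 → k) i with hA
  have hAmul : ∀ y : Fin 3 → k, A.mulVec y = ∑ j, y j • (b j : Fin 4 → k) := by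
    intro y
    funext i
    simp [Matrix.mulVec, dotProduct, hA, mul_comm]
  have hAH : ∀ y : Fin 3 → k, A.mulVec y ∈ H := by
    intro y
    rw [hAmul]
    exact Submodule.sum_mem _ fun j _ => Submodule.smul_mem _ _ (b j).2
  have hHA : ∀ h ∈ H, ∃ y : Fin 3 → k, A.mulVec y = h := by
    intro h hh
    refine ⟨fun j => b.repr ⟨h, hh⟩ j, ?_⟩
    rw [hAmul]
    calc ∑ j, b.repr ⟨h, hh⟩ j • (b j : Fin 4 → k)
        = ((∑ j, b.repr ⟨h, hh⟩ j • b j : ↥H) : Fin 4 → k) := by
          rw [Submodule.coe_sum]
          rfl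
      _ = h := by rw [b.sum_repr]
  have hrank : A.rank = 3 := by
    have : LinearMap.range (Matrix.mulVecLin A) = H := by
      apply le_antisymm
      · rintro _ ⟨y, rfl⟩
        exact hAH y
      · intro h hh
        obtain ⟨y, hy⟩ := hHA h hh
        exact ⟨y, hy⟩
    unfold Matrix.rank
    rw [this, hH3]
  have hsq := Groth.Agent.S12424.result k f hf hf0 hsm A hrank
  set g : MvPolynomial (Fin 3) k :=
    MvPolynomial.aeval (fun i : Fin 4 => ∑ j : Fin 3, MvPolynomial.C (A i j) * MvPolynomial.X j) f
    with hg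
  have hg0 : g ≠ 0 := hsq.ne_zero
  have hghom : g.IsHomogeneous 3 := Groth.Agent.S12424.sb_homog A hf
  have heval : ∀ y, MvPolynomial.eval y g = MvPolynomial.eval (A.mulVec y) f :=
    fun y => Groth.Agent.S12424.eval_sb A f y
  -- linear forms
  have key : ∀ U ∈ 𝒮, ∃ c : Fin 3 → k, c ≠ 0 ∧ ∀ y : Fin 3 → k,
      (∑ j, c j * y j = 0 ↔ A.mulVec y ∈ U) := by
    intro U hU
    have hlt : U < H := by
      apply lt_of_le_of_ne (hUH U hU)
      intro h
      have := hU.2.1
      rw [h, hH3] at this
      omega
    obtain ⟨h, hhH, hhU⟩ := SetLike.exists_of_lt hlt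
    obtain ⟨ψ, hψh, hψU⟩ := Submodule.exists_dual_map_eq_bot_of_notMem hhU inferInstance
    have hψ : ∀ y : Fin 3 → k, ∑ j, ψ (b j : Fin 4 → k) * y j = ψ (A.mulVec y) := by
      intro y
      rw [hAmul, map_sum]
      refine Finset.sum_congr rfl fun j _ => ?_
      rw [map_smul, smul_eq_mul, mul_comm]
    have hW : U = LinearMap.ker ψ ⊓ H := by
      have hle : U ≤ LinearMap.ker ψ ⊓ H := by
        apply le_inf _ (hUH U hU)
        intro u hu
        rw [LinearMap.mem_ker]
        have : ψ u ∈ U.map ψ := Submodule.mem_map_of_mem hu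
        rw [hψU] at this
        exact (Submodule.mem_bot k).mp this
      have hltW : LinearMap.ker ψ ⊓ H < H := by
        apply lt_of_le_of_ne inf_le_right
        intro hEq
        have : h ∈ LinearMap.ker ψ ⊓ H := by rw [hEq]; exact hhH
        exact hψh (LinearMap.mem_ker.mp this.1)
      have h1 := Submodule.finrank_lt_finrank_of_lt hltW
      have h2 := Submodule.finrank_mono hle
      apply Submodule.eq_of_le_of_finrank_eq hle
      rw [hH3] at h1
      rw [hU.2.1] at h2 ⊢
      omega
    refine ⟨fun j => ψ (b j : Fin 4 → k), ?_, fun y => ?_⟩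
    · intro hc
      obtain ⟨y, hy⟩ := hHA h hhH
      apply hψh
      rw [← hy, ← hψ]
      have hcj : ∀ j, ψ (b j : Fin 4 → k) = 0 := fun j => congrFun hc j
      simp [hcj]
    · rw [hψ y]
      constructor
      · intro h0
        rw [hW]
        exact ⟨LinearMap.mem_ker.mpr h0, hAH y⟩
      · intro hy
        rw [hW] at hy
        exact LinearMap.mem_ker.mp hy.1
  choose! c hc0 hc using key
  have hdvd : ∀ U ∈ 𝒮, lin (c U) ∣ g := by
    intro U hU
    apply dvd_of_vanish (c U) (hc0 U hU) g
    intro y hy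
    rw [heval]
    exact hU.2.2 _ ((hc U hU y).mp hy)
  have hinj : ∀ U ∈ 𝒮, ∀ U' ∈ 𝒮, lin (c U) ∣ lin (c U') → U = U' := by
    intro U hU U' hU' hdiv
    obtain ⟨a, ha⟩ := hdiv
    have hle : U ≤ U' := by
      intro u hu
      obtain ⟨y, rfl⟩ := hHA u (hUH U hU hu)
      rw [← hc U' hU' y, ← eval_lin, ha, map_mul, eval_lin, (hc U hU y).mpr hu, zero_mul]
    apply Submodule.eq_of_le_of_finrank_eq hle
    rw [hU.2.1, hU'.2.1]
  have hcount : ∀ T : Finset (Submodule k (Fin 4 → k)), (↑T : Set _) ⊆ 𝒮 → T.card ≤ 3 := by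
    intro T hT
    have hP : (∏ U ∈ T, lin (c U)) ∣ g := by
      apply Finset.prod_dvd_of_isRelPrime
      · intro U hU U' hU' hne
        exact (lin_irreducible (c U) (hc0 U (hT hU))).isRelPrime_iff_not_dvd.mpr
          (fun hd => hne (hinj U (hT hU) U' (hT hU') hd))
      · intro U hU
        exact hdvd U (hT hU)
    have hPhom : (∏ U ∈ T, lin (c U)).IsHomogeneous (∑ _U ∈ T, 1) :=
      MvPolynomial.IsHomogeneous.prod T _ _ (fun U _ => lin_homog (c U))
    have hP0 : (∏ U ∈ T, lin (c U)) ≠ 0 :=
      Finset.prod_ne_zero_iff.mpr fun U hU => lin_ne_zero (c U) (hc0 U (hT hU))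
    have h1 := MvPolynomial.totalDegree_le_of_dvd_of_isDomain hP hg0
    rw [hPhom.totalDegree hP0, hghom.totalDegree hg0] at h1
    simpa using h1
  have hfin : 𝒮.Finite := by
    by_contra hinf
    obtain ⟨T, hT, hcard⟩ := Set.Infinite.exists_subset_card_eq hinf 4
    have := hcount T hT
    omega
  refine ⟨hfin, ?_, H, hH3, fun U hvU hU => hUH U ⟨hvU, hU⟩⟩
  rw [Set.ncard_eq_toFinset_card 𝒮 hfin]
  apply hcount
  rw [Set.Finite.coe_toFinset]

end Groth.Agent.S10897
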