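import Groth.Statements.S16352
import Mathlib
import Groth.Agent.S12424
import Groth.Agent.S10897

set_option autoImplicit false
universe u
open Cubic

namespace Groth.Agent.S16352

section helpers
section hh
open MvPolynomial

variable {K : Type u} [Field K]

noncomputable def lineP (f : MvPolynomial (Fin 4) K) (u v : Fin 4 → K) : Polynomial K :=
  aeval (fun i => Polynomial.C (u i) + Polynomial.X * Polynomial.C (v i)) f

noncomputable def dd (f : MvPolynomial (Fin 4) K) (u v : Fin 4 → K) : K :=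
  ∑ i, eval u (pderiv i f) * v i

theorem lineP_eval (f : MvPolynomial (Fin 4) K) (u v : Fin 4 → K) (t : K) :
    (lineP f u v).eval t = eval (u + t • v) f := by
  unfold lineP
  rw [Groth.Agent.S12424.eval_aeval_poly]
  congr 2
  funext i
  simp only [Polynomial.eval_add, Polynomial.eval_C, Polynomial.eval_mul, Polynomial.eval_X,
    Pi.add_apply, Pi.smul_apply, smul_eq_mul]

theorem lineP_deriv (f : MvPolynomial (Fin 4) K) (u v : Fin 4 → K) :
    Polynomial.derivative (lineP f u v) = ∑ i, lineP (pderiv i f) u v * Polynomial.C (v i) := by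
  unfold lineP
  rw [Groth.Agent.S10897.deriv_aeval_poly]
  refine Finset.sum_congr rfl fun i _ => ?_
  congr 1
  simp

theorem coeff_zero (f : MvPolynomial (Fin 4) K) (u v : Fin 4 → K) :
    (lineP f u v).coeff 0 = eval u f := by
  rw [Polynomial.coeff_zero_eq_eval_zero, lineP_eval]
  simp

theorem coeff_one (f : MvPolynomial (Fin 4) K) (u v : Fin 4 → K) :
    (lineP f u v).coeff 1 = dd f u v := by
  have h : (Polynomial.derivative (lineP f u v)).eval 0 = (lineP f u v).coeff 1 := by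
    rw [← Polynomial.coeff_zero_eq_eval_zero, Polynomial.coeff_derivative]
    norm_num
  rw [← h, lineP_deriv, Polynomial.eval_finsetSum]
  unfold dd
  refine Finset.sum_congr rfl fun i _ => ?_
  rw [Polynomial.eval_mul, lineP_eval, Polynomial.eval_C]
  simp

theorem lineP_natDegree (f : MvPolynomial (Fin 4) K) (n : ℕ) (hf : f.IsHomogeneous n)
    (u v : Fin 4 → K) : (lineP f u v).natDegree ≤ n := by
  unfold lineP
  have := MvPolynomial.aeval_natDegree_le (m := n) (n := 1) f hf.totalDegree_le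
    (fun i => Polynomial.C (u i) + Polynomial.X * Polynomial.C (v i)) (fun i => by
      refine (Polynomial.natDegree_add_le _ _).trans ?_
      rw [Polynomial.natDegree_C]
      refine max_le (by omega) ?_
      exact (Polynomial.natDegree_mul_C_le _ _).trans Polynomial.natDegree_X_le)
  simpa using this

theorem lineP_reflect [Infinite K] (f : MvPolynomial (Fin 4) K) (n : ℕ) (hf : f.IsHomogeneous n)
    (u v : Fin 4 → K) : lineP f u v = Polynomial.reflect n (lineP f v u) := by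
  apply Polynomial.eq_of_infinite_eval_eq
  refine Set.Infinite.mono ?_ (Set.finite_singleton (0 : K)).infinite_compl
  intro t ht
  have ht0 : t ≠ 0 := ht
  have hinv : t⁻¹ ≠ 0 := inv_ne_zero ht0
  let _ : Invertible (t⁻¹) := invertibleOfNonzero hinv
  have h := Polynomial.eval₂_reflect_mul_pow (RingHom.id K) (t⁻¹) n (lineP f v u)
    (lineP_natDegree f n hf v u)
  rw [invOf_eq_inv, inv_inv, Polynomial.eval₂_id, Polynomial.eval₂_id, lineP_eval] at h
  change Polynomial.eval t (lineP f u v) = Polynomial.eval t (Polynomial.reflect n (lineP f v u))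
  rw [lineP_eval]
  have e : u + t • v = t • (v + t⁻¹ • u) := by
    rw [smul_add, smul_smul, mul_inv_cancel₀ ht0, one_smul, add_comm]
  rw [e, Groth.Agent.S12424.eval_smul_of_homog hf, ← h]
  rw [mul_comm, mul_assoc, ← mul_pow, inv_mul_cancel₀ ht0, one_pow, mul_one]

theorem coeff_rev [Infinite K] (f : MvPolynomial (Fin 4) K) (n : ℕ) (hf : f.IsHomogeneous n)
    (u v : Fin 4 → K) (k : ℕ) (hk : k ≤ n) :
    (lineP f u v).coeff k = (lineP f v u).coeff (n - k) := by
  conv_lhs => rw [lineP_reflect f n hf u v]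
  rw [Polynomial.coeff_reflect, Polynomial.revAt_le hk]

theorem expand3 (f : MvPolynomial (Fin 4) K) (hf : f.IsHomogeneous 3) (u v : Fin 4 → K) (x : K) :
    eval (u + x • v) f = (lineP f u v).coeff 0 + (lineP f u v).coeff 1 * x
      + (lineP f u v).coeff 2 * x ^ 2 + (lineP f u v).coeff 3 * x ^ 3 := by
  have h := Polynomial.as_sum_range_C_mul_X_pow' (p := lineP f u v) (n := 4)
    (by have := lineP_natDegree f 3 hf u v; omega)
  rw [← lineP_eval]
  conv_lhs => rw [h]
  rw [Polynomial.eval_finsetSum]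
  simp only [Finset.sum_range_succ, Finset.sum_range_zero, Polynomial.eval_mul, Polynomial.eval_C,
    Polynomial.eval_pow, Polynomial.eval_X]
  ring

theorem expand2 (f : MvPolynomial (Fin 4) K) (hf : f.IsHomogeneous 2) (u v : Fin 4 → K) (x : K) :
    eval (u + x • v) f = (lineP f u v).coeff 0 + (lineP f u v).coeff 1 * x
      + (lineP f u v).coeff 2 * x ^ 2 := by
  have h := Polynomial.as_sum_range_C_mul_X_pow' (p := lineP f u v) (n := 3)
    (by have := lineP_natDegree f 2 hf u v; omega)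
  rw [← lineP_eval]
  conv_lhs => rw [h]
  rw [Polynomial.eval_finsetSum]
  simp only [Finset.sum_range_succ, Finset.sum_range_zero, Polynomial.eval_mul, Polynomial.eval_C,
    Polynomial.eval_pow, Polynomial.eval_X]
  ring

theorem quad_form [Infinite K] (g : MvPolynomial (Fin 4) K) (hg : g.IsHomogeneous 2)
    (u v : Fin 4 → K) (x y : K) :
    eval (x • u + y • v) g = x ^ 2 * eval u g
      + x * y * (eval (u + v) g - eval u g - eval v g) + y ^ 2 * eval v g := by
  have p0 : (lineP g u v).coeff 0 = eval u g := coeff_zero g u v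
  have p2 : (lineP g u v).coeff 2 = eval v g := by
    rw [coeff_rev g 2 hg u v 2 le_rfl]; exact coeff_zero g v u
  have p1 : (lineP g u v).coeff 1 = eval (u + v) g - eval u g - eval v g := by
    have := expand2 g hg u v 1
    rw [one_smul, p0, p2] at this
    rw [this]; ring
  by_cases hx : x = 0
  · subst hx
    rw [zero_smul, zero_add, Groth.Agent.S12424.eval_smul_of_homog hg]
    ring
  · have e : x • u + y • v = x • (u + (y / x) • v) := by
      rw [smul_add, smul_smul, mul_div_cancel₀ _ hx]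
    rw [e, Groth.Agent.S12424.eval_smul_of_homog hg, expand2 g hg, p0, p1, p2]
    field_simp

theorem cubic_form [Infinite K] (f : MvPolynomial (Fin 4) K) (hf : f.IsHomogeneous 3)
    (u v : Fin 4 → K) (x y : K) :
    eval (x • u + y • v) f = (lineP f u v).coeff 0 * x ^ 3 + (lineP f u v).coeff 1 * x ^ 2 * y
      + (lineP f u v).coeff 2 * x * y ^ 2 + (lineP f u v).coeff 3 * y ^ 3 := by
  by_cases hx : x = 0
  · subst hx
    have p3 : (lineP f u v).coeff 3 = eval v f := by
      rw [coeff_rev f 3 hf u v 3 le_rfl]; exact coeff_zero f v u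
    rw [zero_smul, zero_add, Groth.Agent.S12424.eval_smul_of_homog hf, p3]
    ring
  · have e : x • u + y • v = x • (u + (y / x) • v) := by
      rw [smul_add, smul_smul, mul_div_cancel₀ _ hx]
    rw [e, Groth.Agent.S12424.eval_smul_of_homog hf, expand3 f hf]
    field_simp

theorem factor_quad [IsAlgClosed K] (A B C : K) :
    ∃ α₁ β₁ α₂ β₂ : K,
      (∀ x y : K, A * x ^ 2 + B * x * y + C * y ^ 2 = (α₁ * x + β₁ * y) * (α₂ * x + β₂ * y)) ∧
      (¬ (A = 0 ∧ B = 0 ∧ C = 0) → (α₁ ≠ 0 ∨ β₁ ≠ 0) ∧ (α₂ ≠ 0 ∨ β₂ ≠ 0)) := by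
  by_cases hA : A = 0
  · refine ⟨0, 1, B, C, ?_, ?_⟩
    · intro x y; subst hA; ring
    · intro h
      refine ⟨Or.inr one_ne_zero, ?_⟩
      by_contra h'
      push Not at h'
      exact h ⟨hA, h'.1, h'.2⟩
  · obtain ⟨r, hr⟩ := IsAlgClosed.exists_root
      (Polynomial.C A * Polynomial.X ^ 2 + Polynomial.C B * Polynomial.X + Polynomial.C C)
      (by rw [Polynomial.degree_quadratic hA]; norm_num)
    have hroot : A * r ^ 2 + B * r + C = 0 := by
      simpa [Polynomial.IsRoot] using hr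
    refine ⟨1, -r, A, B + A * r, ?_, ?_⟩
    · intro x y
      linear_combination (y ^ 2) * hroot
    · intro _
      exact ⟨Or.inl one_ne_zero, Or.inl hA⟩

theorem factor_cubic [IsAlgClosed K] (c₀ c₁ c₂ c₃ : K) :
    ∃ α β : Fin 3 → K, ∀ x y : K,
      c₀ * x ^ 3 + c₁ * x ^ 2 * y + c₂ * x * y ^ 2 + c₃ * y ^ 3 = ∏ i, (α i * x + β i * y) := by
  by_cases h0 : c₀ = 0
  · obtain ⟨α₁, β₁, α₂, β₂, hq, -⟩ := factor_quad c₁ c₂ c₃
    refine ⟨![0, α₁, α₂], ![1, β₁, β₂], ?_⟩
    intro x y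
    rw [Fin.prod_univ_three]
    simp only [Matrix.cons_val_zero, Matrix.cons_val_one, Matrix.cons_val]
    linear_combination (x ^ 3) * h0 + y * hq x y
  · obtain ⟨r, hr⟩ := IsAlgClosed.exists_root
      (Polynomial.C c₀ * Polynomial.X ^ 3 + Polynomial.C c₁ * Polynomial.X ^ 2
        + Polynomial.C c₂ * Polynomial.X + Polynomial.C c₃)
      (by rw [Polynomial.degree_cubic h0]; norm_num)
    have hroot : c₀ * r ^ 3 + c₁ * r ^ 2 + c₂ * r + c₃ = 0 := by
      simpa [Polynomial.IsRoot] using hr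
    obtain ⟨α₁, β₁, α₂, β₂, hq, -⟩ := factor_quad c₀ (c₁ + c₀ * r) (c₂ + c₁ * r + c₀ * r ^ 2)
    refine ⟨![1, α₁, α₂], ![-r, β₁, β₂], ?_⟩
    intro x y
    rw [Fin.prod_univ_three]
    simp only [Matrix.cons_val_zero, Matrix.cons_val_one, Matrix.cons_val]
    linear_combination (y ^ 3) * hroot + (x - r * y) * hq x y

theorem key_id [Infinite K] (F : MvPolynomial (Fin 4) K) (hF : F.IsHomogeneous 3)
    (a u : Fin 4 → K) (hFa : eval a F = 0) (hu : dd F a u = 0) (σ : K) :
    eval (u + σ • a) F = eval u F + σ * dd F u a := by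
  rw [expand3 F hF u a σ, coeff_zero, coeff_one]
  have c2 : (lineP F u a).coeff 2 = 0 := by
    rw [coeff_rev F 3 hF u a 2 (by norm_num)]
    have : (3 : ℕ) - 2 = 1 := rfl
    rw [this, coeff_one]; exact hu
  have c3 : (lineP F u a).coeff 3 = 0 := by
    rw [coeff_rev F 3 hF u a 3 le_rfl]
    have : (3 : ℕ) - 3 = 0 := rfl
    rw [this, coeff_zero]; exact hFa
  rw [c2, c3]; ring

theorem evalP (F : MvPolynomial (Fin 4) K) (a x : Fin 4 → K) :
    eval x (∑ i : Fin 4, a i • pderiv i F) = dd F x a := by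
  rw [map_sum]
  unfold dd
  refine Finset.sum_congr rfl fun i _ => ?_
  rw [smul_eval, mul_comm]

theorem P_homog (F : MvPolynomial (Fin 4) K) (hF : F.IsHomogeneous 3) (a : Fin 4 → K) :
    (∑ i : Fin 4, a i • pderiv i F).IsHomogeneous 2 := by
  apply IsHomogeneous.sum
  intro i _
  have h1 : (pderiv i F).IsHomogeneous 2 := hF.pderiv (i := i)
  have := (isHomogeneous_C (Fin 4) (a i)).mul h1
  rw [smul_eq_C_mul]
  simpa using this

theorem dd_shift [Infinite K] (F : MvPolynomial (Fin 4) K) (hF : F.IsHomogeneous 3)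
    (a u : Fin 4 → K) (hFa : eval a F = 0) (hu : dd F a u = 0) (σ : K) :
    dd F (u + σ • a) a = dd F u a := by
  have h : lineP F (u + σ • a) a =
      Polynomial.C (eval u F + σ * dd F u a) + Polynomial.C (dd F u a) * Polynomial.X := by
    apply Polynomial.funext
    intro τ
    rw [lineP_eval]
    have e : u + σ • a + τ • a = u + (σ + τ) • a := by rw [add_smul]; abel
    rw [e, key_id F hF a u hFa hu]
    simp only [Polynomial.eval_add, Polynomial.eval_mul, Polynomial.eval_C, Polynomial.eval_X]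
    ring
  rw [← coeff_one, h]
  simp

theorem frame (g : Fin 4 → K) (hg : g ≠ 0) (a : Fin 4 → K) (ha : a ≠ 0)
    (hga : ∑ i, g i * a i = 0) :
    ∃ (h₁ h₂ : Fin 4 → K) (ξ₁ ξ₂ : (Fin 4 → K) →ₗ[K] K),
      (∑ i, g i * h₁ i = 0) ∧ (∑ i, g i * h₂ i = 0) ∧
      (∀ s x y : K, s • a + x • h₁ + y • h₂ = 0 → s = 0 ∧ x = 0 ∧ y = 0) ∧
      (∀ v : Fin 4 → K, ∑ i, g i * v i = 0 → ∃ s x y : K, v = s • a + x • h₁ + y • h₂) ∧
      (∀ s x y : K, ξ₁ (s • a + x • h₁ + y • h₂) = x) ∧
      (∀ s x y : K, ξ₂ (s • a + x • h₁ + y • h₂) = y) := by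
  classical
  set lam := Groth.Agent.S10897.dotL g with hlam
  have hlam_apply : ∀ v, lam v = ∑ i, g i * v i := fun v => rfl
  obtain ⟨i₀, hi₀⟩ : ∃ i₀, g i₀ ≠ 0 := by
    by_contra h
    push Not at h
    exact hg (funext h)
  set n : Fin 4 → K := Pi.single i₀ 1 with hn
  have hlamn : lam n = g i₀ := by
    rw [hlam_apply, Finset.sum_eq_single i₀]
    · simp [hn]
    · intro j _ hj
      simp [hn, Pi.single_eq_of_ne hj]
    · intro h; exact absurd (Finset.mem_univ _) h
  set H := LinearMap.ker lam with hH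
  have hsurj : LinearMap.range lam = ⊤ := by
    apply LinearMap.range_eq_top.mpr
    intro c
    refine ⟨(c / g i₀) • n, ?_⟩
    rw [map_smul, hlamn, smul_eq_mul, div_mul_cancel₀ _ hi₀]
  have h3 : Module.finrank K ↥H = 3 := by
    rw [hH]
    have := LinearMap.finrank_range_add_finrank_ker lam
    rw [hsurj, finrank_top, Module.finrank_self, Module.finrank_fintype_fun_eq_card,
      Fintype.card_fin] at this
    omega
  have haH : a ∈ H := by rw [hH, LinearMap.mem_ker, hlam_apply]; exact hga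
  have hx₀ : (⟨a, haH⟩ : ↥H) ≠ 0 := fun h => ha (congrArg Subtype.val h)
  obtain ⟨y₁, hy₁⟩ := exists_linearIndependent_pair_of_one_lt_finrank (R := K) (M := ↥H)
    (by omega) hx₀
  obtain ⟨y₂, hy₂⟩ := exists_linearIndependent_cons_of_lt_finrank hy₁ (by omega)
  have hy₂' : LinearIndependent K ![y₂, (⟨a, haH⟩ : ↥H), y₁] := hy₂
  have hl1 : lam (y₁ : Fin 4 → K) = 0 := LinearMap.mem_ker.mp y₁.2
  have hl2 : lam (y₂ : Fin 4 → K) = 0 := LinearMap.mem_ker.mp y₂.2
  have hla : lam a = 0 := LinearMap.mem_ker.mp haH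
  have hli3 : ∀ s x y : K, s • a + x • (y₁ : Fin 4 → K) + y • (y₂ : Fin 4 → K) = 0 →
      s = 0 ∧ x = 0 ∧ y = 0 := by
    intro s x y h
    have h' := Fintype.linearIndependent_iff.mp hy₂' ![y, s, x] (by
      rw [Fin.sum_univ_three]
      apply Subtype.ext
      simp only [Matrix.cons_val_zero, Matrix.cons_val_one, Matrix.cons_val]
      simp only [Submodule.coe_add, Submodule.coe_smul, Submodule.coe_zero]
      rw [← h]; abel)
    exact ⟨by simpa using h' 1, by simpa using h' 2, by simpa using h' 0⟩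
  have hli4 : LinearIndependent K ![a, (y₁ : Fin 4 → K), (y₂ : Fin 4 → K), n] := by
    rw [Fintype.linearIndependent_iff]
    intro c hc
    rw [Fin.sum_univ_four] at hc
    simp only [Matrix.cons_val_zero, Matrix.cons_val_one, Matrix.cons_val] at hc
    have h3' : c 3 = 0 := by
      have h := congrArg lam hc
      rw [map_add, map_add, map_add, map_smul, map_smul, map_smul, map_smul, hla, hl1, hl2, hlamn,
        map_zero] at h
      simp only [smul_eq_mul, mul_zero, zero_add] at h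
      exact (mul_eq_zero.mp h).resolve_right hi₀
    rw [h3', zero_smul, add_zero] at hc
    obtain ⟨h0, h1, h2⟩ := hli3 _ _ _ hc
    intro i
    fin_cases i
    · exact h0
    · exact h1
    · exact h2
    · exact h3'
  let b := basisOfLinearIndependentOfCardEqFinrank hli4
    (by rw [Module.finrank_fintype_fun_eq_card])
  have hb : ⇑b = ![a, (y₁ : Fin 4 → K), (y₂ : Fin 4 → K), n] :=
    coe_basisOfLinearIndependentOfCardEqFinrank hli4 _
  have hb0 : b 0 = a := by rw [hb]; rfl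
  have hb1 : b 1 = (y₁ : Fin 4 → K) := by rw [hb]; rfl
  have hb2 : b 2 = (y₂ : Fin 4 → K) := by rw [hb]; rfl
  have hb3 : b 3 = n := by rw [hb]; rfl
  refine ⟨y₁, y₂, b.coord 1, b.coord 2, hl1, hl2, hli3, ?_, ?_, ?_⟩
  · intro v hv
    have hsum := b.sum_repr v
    rw [Fin.sum_univ_four, hb0, hb1, hb2, hb3] at hsum
    have h3' : b.repr v 3 = 0 := by
      have h := congrArg lam hsum
      rw [map_add, map_add, map_add, map_smul, map_smul, map_smul, map_smul, hla, hl1, hl2, hlamn,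
        hlam_apply v, hv] at h
      simp only [smul_eq_mul, mul_zero, zero_add] at h
      exact (mul_eq_zero.mp h).resolve_right hi₀
    rw [h3', zero_smul, add_zero] at hsum
    exact ⟨_, _, _, hsum.symm⟩
  · intro s x y
    rw [← hb0, ← hb1, ← hb2]
    simp [Module.Basis.coord_apply]
  · intro s x y
    rw [← hb0, ← hb1, ← hb2]
    simp [Module.Basis.coord_apply]

theorem lin_of_map (ξ : (Fin 4 → K) →ₗ[K] K) (v : Fin 4 → K) :
    ∑ j, ξ (Pi.single j 1) * v j = ξ v := by
  conv_rhs => rw [pi_eq_sum_univ' v]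
  rw [map_sum]
  refine Finset.sum_congr rfl fun j _ => ?_
  rw [map_smul, smul_eq_mul, mul_comm]

/-- the T-point case -/
theorem tpoint [IsAlgClosed K] [Infinite K] (F : MvPolynomial (Fin 4) K) (hF : F.IsHomogeneous 3)
    (g : Fin 4 → K) (hg : g ≠ 0) (a h₁ h₂ : Fin 4 → K) (ξ₁ ξ₂ : (Fin 4 → K) →ₗ[K] K)
    (hdec : ∀ v : Fin 4 → K, ∑ i, g i * v i = 0 → ∃ s x y : K, v = s • a + x • h₁ + y • h₂)
    (hξ₁ : ∀ s x y : K, ξ₁ (s • a + x • h₁ + y • h₂) = x)
    (hξ₂ : ∀ s x y : K, ξ₂ (s • a + x • h₁ + y • h₂) = y)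
    (hFH : ∀ s x y : K, eval (s • a + x • h₁ + y • h₂) F = eval (x • h₁ + y • h₂) F) :
    ∃ L₁ L₂ L₃ : MvPolynomial (Fin 4) K, L₁.IsHomogeneous 1 ∧ L₂.IsHomogeneous 1 ∧
      L₃.IsHomogeneous 1 ∧ F - L₁ * L₂ * L₃ ∈ Ideal.span {Groth.Agent.S10897.lin g} := by
  classical
  obtain ⟨α, β, hfac⟩ := factor_cubic ((lineP F h₁ h₂).coeff 0) ((lineP F h₁ h₂).coeff 1)
    ((lineP F h₁ h₂).coeff 2) ((lineP F h₁ h₂).coeff 3)
  set L : Fin 3 → MvPolynomial (Fin 4) K := fun i =>
    Groth.Agent.S10897.lin (fun j => α i * ξ₁ (Pi.single j 1) + β i * ξ₂ (Pi.single j 1)) with hLdef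
  have hLeval : ∀ i (v : Fin 4 → K), eval v (L i) = α i * ξ₁ v + β i * ξ₂ v := by
    intro i v
    rw [hLdef]
    simp only
    rw [Groth.Agent.S10897.eval_lin, ← lin_of_map ξ₁ v, ← lin_of_map ξ₂ v, Finset.mul_sum,
      Finset.mul_sum, ← Finset.sum_add_distrib]
    refine Finset.sum_congr rfl fun j _ => ?_
    ring
  refine ⟨L 0, L 1, L 2, Groth.Agent.S10897.lin_homog _, Groth.Agent.S10897.lin_homog _,
    Groth.Agent.S10897.lin_homog _, ?_⟩
  rw [Ideal.mem_span_singleton]
  apply Groth.Agent.S10897.dvd_of_vanish g hg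
  intro v hv
  obtain ⟨s, x, y, rfl⟩ := hdec v hv
  rw [map_sub, map_mul, map_mul, hLeval, hLeval, hLeval, hξ₁, hξ₂, hFH, cubic_form F hF, hfac,
    Fin.prod_univ_three]
  ring

theorem one_line (a h₁ h₂ : Fin 4 → K) (H : Submodule K (Fin 4 → K))
    (haH : a ∈ H) (h₁H : h₁ ∈ H) (h₂H : h₂ ∈ H)
    (hli3 : ∀ s x y : K, s • a + x • h₁ + y • h₂ = 0 → s = 0 ∧ x = 0 ∧ y = 0)
    (α β : K) (hne : α ≠ 0 ∨ β ≠ 0) :
    ∃ U : Submodule K (Fin 4 → K), Module.finrank K ↥U = 2 ∧ a ∈ U ∧ U ≤ H ∧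
      ∀ v : Fin 4 → K, v ∈ U ↔ ∃ s x y : K, v = s • a + x • h₁ + y • h₂ ∧ α * x + β * y = 0 := by
  set w : Fin 4 → K := β • h₁ - α • h₂ with hw
  have hmem : ∀ v : Fin 4 → K, v ∈ Submodule.span K (Set.range ![a, w]) ↔
      ∃ s t : K, v = s • a + t • w := by
    intro v
    rw [Submodule.mem_span_range_iff_exists_fun]
    constructor
    · rintro ⟨c, hc⟩
      rw [Fin.sum_univ_two] at hc
      exact ⟨c 0, c 1, by simpa using hc.symm⟩
    · rintro ⟨s, t, hst⟩
      refine ⟨![s, t], ?_⟩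
      rw [Fin.sum_univ_two]
      simpa using hst.symm
  have hexp : ∀ s t : K, s • a + t • w = s • a + (t * β) • h₁ + (-(t * α)) • h₂ := by
    intro s t
    rw [hw, smul_sub, smul_smul, smul_smul, neg_smul]
    abel
  refine ⟨Submodule.span K (Set.range ![a, w]), ?_, ?_, ?_, ?_⟩
  · have hli : LinearIndependent K ![a, w] := by
      rw [LinearIndependent.pair_iff]
      intro s t hst
      rw [hexp] at hst
      obtain ⟨hs, h1, h2⟩ := hli3 _ _ _ hst
      refine ⟨hs, ?_⟩
      rcases hne with h | h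
      · have : t * α = 0 := by linear_combination -h2
        exact (mul_eq_zero.mp this).resolve_right h
      · exact (mul_eq_zero.mp h1).resolve_right h
    rw [finrank_span_eq_card hli]
    simp
  · exact Submodule.subset_span ⟨0, by simp⟩
  · intro v hv
    rw [hmem] at hv
    obtain ⟨s, t, rfl⟩ := hv
    rw [hexp]
    exact H.add_mem (H.add_mem (H.smul_mem _ haH) (H.smul_mem _ h₁H)) (H.smul_mem _ h₂H)
  · intro v
    rw [hmem]
    constructor
    · rintro ⟨s, t, rfl⟩
      exact ⟨s, t * β, -(t * α), hexp s t, by ring⟩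
    · rintro ⟨s, x, y, rfl, hxy⟩
      rcases hne with h | h
      · refine ⟨s, -y / α, ?_⟩
        rw [hexp]
        have e1 : -y / α * β = x := by
          field_simp
          linear_combination -hxy
        have e2 : -(-y / α * α) = y := by
          field_simp
        rw [e1, e2]
      · refine ⟨s, x / β, ?_⟩
        rw [hexp]
        have e1 : x / β * β = x := by field_simp
        have e2 : -(x / β * α) = y := by
          field_simp
          linear_combination -hxy
        rw [e1, e2]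

end hh


end helpers

/-- Let K be an algebraically closed field of characteristic zero and S = V(F) ⊂ P^3_K a cubic surface
which is irreducible and not a cone (no nonzero vector v has Σ_i v_i ∂F/∂x_i = 0). Let a be a smooth
point of S which is not a T-point: with ℓ = Σ_i ∂F/∂x_i(a) · x_i the (nonzero) linear form of the
tangent plane T_a S, F is not congruent modulo ℓ to a product of three linear forms (i.e. T_a S ∩ S
is not set-theoretically a union of lines). Let P = Σ_i a_i ∂F/∂x_i be the first polar of a. Then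
V(P) ∩ T_a S is a union of at most two lines through a, and every line through a lying on S lies in
V(P) ∩ T_a S; lines are 2-dimensional subspaces of K^4 and T_a S is the 3-dimensional subspace where
ℓ vanishes. -/
theorem result (K : Type u) [Field K] [IsAlgClosed K] [CharZero K]
    (F : MvPolynomial (Fin 4) K) (hF : F.IsHomogeneous 3) (hirr : Irreducible F)
    (hcone : ¬ ∃ v : Fin 4 → K, v ≠ 0 ∧ ∑ i : Fin 4, v i • MvPolynomial.pderiv i F = 0)
    (a : Fin 4 → K) (ha : a ≠ 0) (hFa : MvPolynomial.eval a F = 0)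
    (hsm : ∃ i : Fin 4, MvPolynomial.eval a (MvPolynomial.pderiv i F) ≠ 0)
    (ℓ : MvPolynomial (Fin 4) K)
    (hℓ : ℓ = ∑ i : Fin 4, MvPolynomial.C (MvPolynomial.eval a (MvPolynomial.pderiv i F)) * MvPolynomial.X i)
    (hT : ¬ ∃ L₁ L₂ L₃ : MvPolynomial (Fin 4) K, L₁.IsHomogeneous 1 ∧ L₂.IsHomogeneous 1 ∧ L₃.IsHomogeneous 1 ∧
      F - L₁ * L₂ * L₃ ∈ Ideal.span {ℓ})
    (P : MvPolynomial (Fin 4) K) (hP : P = ∑ i : Fin 4, a i • MvPolynomial.pderiv i F)
    (H : Submodule K (Fin 4 → K)) (hH : ∀ x : Fin 4 → K, x ∈ H ↔ MvPolynomial.eval x ℓ = 0) :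
    (∃ U₁ U₂ : Submodule K (Fin 4 → K), Module.finrank K ↥U₁ = 2 ∧ Module.finrank K ↥U₂ = 2 ∧ a ∈ U₁ ∧ a ∈ U₂ ∧
        U₁ ≤ H ∧ U₂ ≤ H ∧ {x : Fin 4 → K | x ∈ H ∧ MvPolynomial.eval x P = 0} = (U₁ : Set (Fin 4 → K)) ∪ (U₂ : Set (Fin 4 → K))) ∧
      ∀ U : Submodule K (Fin 4 → K), a ∈ U → Module.finrank K ↥U = 2 → (∀ u ∈ U, MvPolynomial.eval u F = 0) →
        U ≤ H ∧ ∀ u ∈ U, MvPolynomial.eval u P = 0 := by
  classical
  set g : Fin 4 → K := fun i => MvPolynomial.eval a (MvPolynomial.pderiv i F) with hg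
  have hℓ' : ℓ = Groth.Agent.S10897.lin g := hℓ
  have hevℓ : ∀ x : Fin 4 → K, MvPolynomial.eval x ℓ = ∑ i, g i * x i := by
    intro x; rw [hℓ', Groth.Agent.S10897.eval_lin]
  have hg0 : g ≠ 0 := by
    obtain ⟨i, hi⟩ := hsm
    intro h
    exact hi (congrFun h i)
  have hdda : ∀ u : Fin 4 → K, dd F a u = ∑ i, g i * u i := fun u => rfl
  have hga : ∑ i, g i * a i = 0 := by
    apply Groth.Agent.S10897.deriv_line F a a
    intro t
    have e : a + t • a = (1 + t) • a := by rw [add_smul, one_smul]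
    rw [e, Groth.Agent.S12424.eval_smul_of_homog hF, hFa, mul_zero]
  -- part (2)
  refine ⟨?_, ?_⟩
  swap
  · intro U haU _ hUF
    constructor
    · intro u hu
      rw [hH, hevℓ]
      exact Groth.Agent.S10897.deriv_line F a u
        (fun t => hUF _ (U.add_mem haU (U.smul_mem t hu)))
    · intro u hu
      rw [hP, evalP]
      exact Groth.Agent.S10897.deriv_line F u a
        (fun t => hUF _ (U.add_mem hu (U.smul_mem t haU)))
  -- part (1)
  obtain ⟨h₁, h₂, ξ₁, ξ₂, hgh₁, hgh₂, hli3, hdec, hξ₁, hξ₂⟩ := frame g hg0 a ha hga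
  have hmemH : ∀ x : Fin 4 → K, x ∈ H ↔ ∑ i, g i * x i = 0 := by
    intro x; rw [hH, hevℓ]
  have haH : a ∈ H := (hmemH a).mpr hga
  have h₁H : h₁ ∈ H := (hmemH h₁).mpr hgh₁
  have h₂H : h₂ ∈ H := (hmemH h₂).mpr hgh₂
  have hPhom : P.IsHomogeneous 2 := by rw [hP]; exact P_homog F hF a
  have hevP : ∀ x : Fin 4 → K, MvPolynomial.eval x P = dd F x a := by
    intro x; rw [hP, evalP]
  have hddu : ∀ x y : K, dd F a (x • h₁ + y • h₂) = 0 := by
    intro x y
    rw [hdda]
    exact (hmemH _).mp (H.add_mem (H.smul_mem _ h₁H) (H.smul_mem _ h₂H))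
  set A : K := MvPolynomial.eval h₁ P with hA
  set C : K := MvPolynomial.eval h₂ P with hC
  set B : K := MvPolynomial.eval (h₁ + h₂) P - MvPolynomial.eval h₁ P - MvPolynomial.eval h₂ P with hB
  have hPH : ∀ s x y : K, MvPolynomial.eval (s • a + x • h₁ + y • h₂) P
      = A * x ^ 2 + B * x * y + C * y ^ 2 := by
    intro s x y
    have e : s • a + x • h₁ + y • h₂ = (x • h₁ + y • h₂) + s • a := by abel
    rw [e, hevP, dd_shift F hF a _ hFa (hddu x y), ← hevP,
      quad_form P hPhom h₁ h₂ x y]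
    ring
  by_cases hq : A = 0 ∧ B = 0 ∧ C = 0
  · exfalso
    apply hT
    rw [hℓ']
    apply tpoint F hF g hg0 a h₁ h₂ ξ₁ ξ₂ hdec hξ₁ hξ₂
    intro s x y
    have e : s • a + x • h₁ + y • h₂ = (x • h₁ + y • h₂) + s • a := by abel
    rw [e, key_id F hF a _ hFa (hddu x y), ← hevP]
    have := hPH 0 x y
    rw [zero_smul, zero_add] at this
    rw [this, hq.1, hq.2.1, hq.2.2]
    ring
  · obtain ⟨α₁, β₁, α₂, β₂, hfac, hne⟩ := factor_quad A B C
    obtain ⟨hne₁, hne₂⟩ := hne hq
    obtain ⟨U₁, hU₁r, haU₁, hU₁H, hU₁⟩ :=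
      one_line a h₁ h₂ H haH h₁H h₂H hli3 α₁ β₁ hne₁
    obtain ⟨U₂, hU₂r, haU₂, hU₂H, hU₂⟩ :=
      one_line a h₁ h₂ H haH h₁H h₂H hli3 α₂ β₂ hne₂
    refine ⟨U₁, U₂, hU₁r, hU₂r, haU₁, haU₂, hU₁H, hU₂H, ?_⟩
    ext v
    simp only [Set.mem_ofPred_eq, Set.mem_union, SetLike.mem_coe]
    constructor
    · rintro ⟨hvH, hvP⟩
      obtain ⟨s, x, y, rfl⟩ := hdec v ((hmemH v).mp hvH)
      rw [hPH, hfac] at hvP
      rcases mul_eq_zero.mp hvP with h | h
      · exact Or.inl ((hU₁ _).mpr ⟨s, x, y, rfl, h⟩)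
      · exact Or.inr ((hU₂ _).mpr ⟨s, x, y, rfl, h⟩)
    · rintro (hv | hv)
      · obtain ⟨s, x, y, rfl, h⟩ := (hU₁ v).mp hv
        refine ⟨hU₁H hv, ?_⟩
        rw [hPH, hfac, h, zero_mul]
      · obtain ⟨s, x, y, rfl, h⟩ := (hU₂ v).mp hv
        refine ⟨hU₂H hv, ?_⟩
        rw [hPH, hfac, h, mul_zero]

end Groth.Agent.S16352
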