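import Groth.Statements.S18408
import Mathlib
import Groth.Agent.S12424
import Groth.Agent.S10897

set_option autoImplicit false
universe u
open Cubic

namespace Groth.Agent.S18408

section helpers
section hh
open MvPolynomial

/-- directional derivative -/
noncomputable def dd (f : MvPolynomial (Fin 4) ℂ) (u v : Fin 4 → ℂ) : ℂ :=
  ∑ i, eval u (pderiv i f) * v i

theorem dd_add (f : MvPolynomial (Fin 4) ℂ) (u v v' : Fin 4 → ℂ) :
    dd f u (v + v') = dd f u v + dd f u v' := by
  unfold dd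
  rw [← Finset.sum_add_distrib]
  refine Finset.sum_congr rfl fun i _ => ?_
  simp only [Pi.add_apply]; ring

theorem dd_smul (f : MvPolynomial (Fin 4) ℂ) (u : Fin 4 → ℂ) (a : ℂ) (v : Fin 4 → ℂ) :
    dd f u (a • v) = a * dd f u v := by
  unfold dd
  rw [Finset.mul_sum]
  refine Finset.sum_congr rfl fun i _ => ?_
  simp only [Pi.smul_apply, smul_eq_mul]; ring

noncomputable def lineP (f : MvPolynomial (Fin 4) ℂ) (u v : Fin 4 → ℂ) : Polynomial ℂ :=
  aeval (fun i => Polynomial.C (u i) + Polynomial.X * Polynomial.C (v i)) f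

theorem lineP_eval (f : MvPolynomial (Fin 4) ℂ) (u v : Fin 4 → ℂ) (t : ℂ) :
    (lineP f u v).eval t = eval (u + t • v) f := by
  unfold lineP
  rw [Groth.Agent.S12424.eval_aeval_poly]
  congr 2
  funext i
  simp only [Polynomial.eval_add, Polynomial.eval_C, Polynomial.eval_mul, Polynomial.eval_X,
    Pi.add_apply, Pi.smul_apply, smul_eq_mul]

theorem lineP_deriv (f : MvPolynomial (Fin 4) ℂ) (u v : Fin 4 → ℂ) :
    Polynomial.derivative (lineP f u v) = ∑ i, lineP (pderiv i f) u v * Polynomial.C (v i) := by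
  unfold lineP
  rw [Groth.Agent.S10897.deriv_aeval_poly]
  refine Finset.sum_congr rfl fun i _ => ?_
  congr 1
  simp

theorem dd_eq (f : MvPolynomial (Fin 4) ℂ) (u v : Fin 4 → ℂ) :
    dd f u v = (Polynomial.derivative (lineP f u v)).eval 0 := by
  rw [lineP_deriv, Polynomial.eval_finsetSum]
  unfold dd
  refine Finset.sum_congr rfl fun i _ => ?_
  rw [Polynomial.eval_mul, lineP_eval, Polynomial.eval_C]
  simp

theorem dd_of_fun (f : MvPolynomial (Fin 4) ℂ) (u v : Fin 4 → ℂ) (Q : Polynomial ℂ)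
    (h : ∀ t, eval (u + t • v) f = Q.eval t) : dd f u v = (Polynomial.derivative Q).eval 0 := by
  rw [dd_eq]
  have : lineP f u v = Q := by
    apply Polynomial.funext
    intro t
    rw [lineP_eval, h]
  rw [this]

theorem lineP_natDegree (f : MvPolynomial (Fin 4) ℂ) (hf : f.IsHomogeneous 3) (u v : Fin 4 → ℂ) :
    (lineP f u v).natDegree ≤ 3 := by
  unfold lineP
  have := MvPolynomial.aeval_natDegree_le (m := 3) (n := 1) f hf.totalDegree_le
    (fun i => Polynomial.C (u i) + Polynomial.X * Polynomial.C (v i)) (fun i => by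
      refine (Polynomial.natDegree_add_le _ _).trans ?_
      rw [Polynomial.natDegree_C]
      refine max_le (by omega) ?_
      exact (Polynomial.natDegree_mul_C_le _ _).trans Polynomial.natDegree_X_le)
  simpa using this

theorem lineP_expand (f : MvPolynomial (Fin 4) ℂ) (hf : f.IsHomogeneous 3) (u v : Fin 4 → ℂ)
    (x : ℂ) :
    (lineP f u v).eval x = (lineP f u v).coeff 0 + (lineP f u v).coeff 1 * x
      + (lineP f u v).coeff 2 * x ^ 2 + (lineP f u v).coeff 3 * x ^ 3 := by
  have h := Polynomial.as_sum_range_C_mul_X_pow' (p := lineP f u v) (n := 4)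
    (by have := lineP_natDegree f hf u v; omega)
  conv_lhs => rw [h]
  rw [Polynomial.eval_finsetSum]
  simp only [Finset.sum_range_succ, Finset.sum_range_zero, Polynomial.eval_mul, Polynomial.eval_C,
    Polynomial.eval_pow, Polynomial.eval_X]
  ring

theorem taylor_even (f : MvPolynomial (Fin 4) ℂ) (hf : f.IsHomogeneous 3) (p : Fin 4 → ℂ) :
    ∃ L : (Fin 4 → ℂ) →ₗ[ℂ] ℂ, ∀ w : Fin 4 → ℂ,
      (∀ x : ℂ, eval (w + x • p) f = eval (w + (-x) • p) f) →
      ∀ x : ℂ, eval (w + x • p) f = eval w f + x ^ 2 * L w := by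
  classical
  set ℓ : MvPolynomial (Fin 4) ℂ :=
    ∑ i, ∑ j, C (p j * p i / 2) * pderiv j (pderiv i f) with hℓ
  have hℓh : ℓ.IsHomogeneous 1 := by
    apply IsHomogeneous.sum
    intro i _
    apply IsHomogeneous.sum
    intro j _
    have h1 : (pderiv j (pderiv i f)).IsHomogeneous 1 := (hf.pderiv (i := i)).pderiv (i := j)
    have := (isHomogeneous_C (Fin 4) (p j * p i / 2)).mul h1
    simpa using this
  have hm : ℓ ∈ homogeneousSubmodule (Fin 4) ℂ 1 := hℓh
  rw [homogeneousSubmodule_one_eq_span_X, Submodule.mem_span_range_iff_exists_fun] at hm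
  obtain ⟨c, hc⟩ := hm
  refine ⟨Groth.Agent.S10897.dotL c, ?_⟩
  intro w hev x
  have hLw : Groth.Agent.S10897.dotL c w = eval w ℓ := by
    rw [Groth.Agent.S10897.dotL_apply, ← hc, map_sum]
    refine Finset.sum_congr rfl fun i _ => ?_
    simp [smul_eq_C_mul]
  set P := lineP f w p with hP
  have hex := lineP_expand f hf w p
  have hev' : ∀ x : ℂ, P.eval x = P.eval (-x) := by
    intro x
    rw [hP, lineP_eval, lineP_eval]
    exact hev x
  have e1 := hev' 1
  have e2 := hev' 2
  rw [hP, hex, hex] at e1 e2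
  have a3 : P.coeff 3 = 0 := by
    rw [hP]; linear_combination (1/12 : ℂ) * e2 - (1/6 : ℂ) * e1
  have a1 : P.coeff 1 = 0 := by
    rw [hP]; linear_combination (2/3 : ℂ) * e1 - (1/12 : ℂ) * e2
  have a0 : P.coeff 0 = eval w f := by
    rw [Polynomial.coeff_zero_eq_eval_zero, hP, lineP_eval]
    simp
  have a2 : P.coeff 2 = eval w ℓ := by
    have h1 : (Polynomial.derivative (Polynomial.derivative P)).eval 0 = 2 * P.coeff 2 := by
      rw [← Polynomial.coeff_zero_eq_eval_zero, Polynomial.coeff_derivative,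
        Polynomial.coeff_derivative]
      norm_num
      ring
    have h2 : (Polynomial.derivative (Polynomial.derivative P)).eval 0 = 2 * eval w ℓ := by
      rw [hP, lineP_deriv, map_sum, Polynomial.eval_finsetSum, hℓ, map_sum, Finset.mul_sum]
      refine Finset.sum_congr rfl fun i _ => ?_
      rw [Polynomial.derivative_mul, Polynomial.derivative_C, mul_zero, add_zero, lineP_deriv,
        Finset.sum_mul, Polynomial.eval_finsetSum, map_sum, Finset.mul_sum]
      refine Finset.sum_congr rfl fun j _ => ?_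
      rw [Polynomial.eval_mul, Polynomial.eval_mul, lineP_eval, Polynomial.eval_C,
        Polynomial.eval_C, map_mul, eval_C]
      simp only [zero_smul, add_zero]
      ring
    have : (2 : ℂ) * P.coeff 2 = 2 * eval w ℓ := by rw [← h1, h2]
    exact mul_left_cancel₀ two_ne_zero this
  rw [← lineP_eval, ← hP]
  have := hex x
  rw [← hP] at this
  rw [this, a0, a1, a2, a3, hLw]
  ring

theorem lineP_coeff_three (f : MvPolynomial (Fin 4) ℂ) (hf : f.IsHomogeneous 3) (u v : Fin 4 → ℂ) :
    (lineP f u v).coeff 3 = eval v f := by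
  have key : ∀ s : ℂ, s ≠ 0 → (lineP f u v).eval s = s ^ 3 * (lineP f v u).eval s⁻¹ := by
    intro s hs
    rw [lineP_eval, lineP_eval, ← Groth.Agent.S12424.eval_smul_of_homog hf]
    congr 1
    rw [smul_add, smul_smul, mul_inv_cancel₀ hs, one_smul, add_comm]
  have b0 : (lineP f v u).coeff 0 = eval v f := by
    rw [Polynomial.coeff_zero_eq_eval_zero, lineP_eval]
    simp
  have e1 := key 1 (by norm_num)
  have e2 := key 2 (by norm_num)
  have e3 := key 3 (by norm_num)
  have e4 := key 4 (by norm_num)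
  rw [lineP_expand f hf, lineP_expand f hf] at e1 e2 e3 e4
  rw [← b0]
  field_simp at e1 e2 e3 e4
  linear_combination (1/6 : ℂ) * e4 - (1/2 : ℂ) * e3 + (1/2 : ℂ) * e2 - (1/6 : ℂ) * e1

theorem mem_Vp (A : Matrix (Fin 4) (Fin 4) ℂ) (v : Fin 4 → ℂ) :
    v ∈ LinearMap.ker (Matrix.toLin' A - LinearMap.id) ↔ A.mulVec v = v := by
  simp [LinearMap.mem_ker, sub_eq_zero]

theorem mulVec_mulVec_self (A : Matrix (Fin 4) (Fin 4) ℂ) (hAA : A * A = 1) (v : Fin 4 → ℂ) :
    A.mulVec (A.mulVec v) = v := by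
  rw [Matrix.mulVec_mulVec, hAA, Matrix.one_mulVec]

theorem decomp (A : Matrix (Fin 4) (Fin 4) ℂ) (p : Fin 4 → ℂ) (hAA : A * A = 1)
    (h3 : Module.finrank ℂ ↥(LinearMap.ker (Matrix.toLin' A - LinearMap.id)) = 3)
    (hp : p ≠ 0) (hAp : A.mulVec p = -p) (v : Fin 4 → ℂ) :
    ∃ (w : Fin 4 → ℂ) (x : ℂ), A.mulVec w = w ∧ v = w + x • p := by
  set Vp := LinearMap.ker (Matrix.toLin' A - LinearMap.id) with hVp
  set Vm := LinearMap.ker (Matrix.toLin' A + LinearMap.id) with hVm
  have memVm : ∀ u : Fin 4 → ℂ, u ∈ Vm ↔ A.mulVec u = -u := by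
    intro u
    simp [hVm, LinearMap.mem_ker, add_eq_zero_iff_eq_neg]
  have hc : IsCompl Vp Vm := by
    constructor
    · rw [Submodule.disjoint_def]
      intro u h1 h2
      rw [hVp, mem_Vp] at h1
      rw [memVm] at h2
      rw [h1] at h2
      exact self_eq_neg.mp h2
    · rw [codisjoint_iff, eq_top_iff]
      intro u _
      rw [Submodule.mem_sup]
      refine ⟨(1/2 : ℂ) • (u + A.mulVec u), ?_, (1/2 : ℂ) • (u - A.mulVec u), ?_, ?_⟩
      · rw [hVp, mem_Vp, Matrix.mulVec_smul, Matrix.mulVec_add, mulVec_mulVec_self A hAA, add_comm]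
      · rw [memVm, Matrix.mulVec_smul, Matrix.mulVec_sub, mulVec_mulVec_self A hAA, ← smul_neg,
          neg_sub]
      · rw [← smul_add]
        rw [show u + A.mulVec u + (u - A.mulVec u) = (2 : ℂ) • u by rw [two_smul]; abel]
        rw [smul_smul]; norm_num
  have h1 := Submodule.finrank_add_eq_of_isCompl hc
  rw [h3, Module.finrank_fintype_fun_eq_card, Fintype.card_fin] at h1
  have h1' : Module.finrank ℂ ↥Vm = 1 := by omega
  have hpm : p ∈ Vm := (memVm p).mpr hAp
  have hp' : (⟨p, hpm⟩ : ↥Vm) ≠ 0 := by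
    intro h
    apply hp
    exact congrArg Subtype.val h
  have hall := (finrank_eq_one_iff_of_nonzero' (⟨p, hpm⟩ : ↥Vm) hp').mp h1'
  have hv : v ∈ Vp ⊔ Vm := by rw [hc.sup_eq_top]; trivial
  rw [Submodule.mem_sup] at hv
  obtain ⟨w, hw, y, hy, hwy⟩ := hv
  obtain ⟨x, hx⟩ := hall ⟨y, hy⟩
  refine ⟨w, x, (mem_Vp A w).mp hw, ?_⟩
  have : x • p = y := congrArg Subtype.val hx
  rw [this, hwy]

theorem eval_subst (A : Matrix (Fin 4) (Fin 4) ℂ) (f : MvPolynomial (Fin 4) ℂ) (v : Fin 4 → ℂ) :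
    eval v (aeval (fun i : Fin 4 => ∑ j : Fin 4, C (A i j) * X j) f) = eval (A.mulVec v) f := by
  have h : (eval v).comp (aeval (fun i : Fin 4 => ∑ j : Fin 4, C (A i j) * X j)
      : MvPolynomial (Fin 4) ℂ →ₐ[ℂ] MvPolynomial (Fin 4) ℂ).toRingHom = eval (A.mulVec v) := by
    apply MvPolynomial.ringHom_ext
    · intro a
      simp
    · intro i
      simp [Matrix.mulVec, dotProduct]
  exact congrArg (fun φ => φ f) h

theorem invariant (f : MvPolynomial (Fin 4) ℂ) (hf : f.IsHomogeneous 3)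
    (hf0 : f ≠ 0) (hsm : ∀ v : Fin 4 → ℂ, v ≠ 0 → eval v f = 0 → ∃ i : Fin 4, eval v (pderiv i f) ≠ 0)
    (A : Matrix (Fin 4) (Fin 4) ℂ)
    (h3 : Module.finrank ℂ ↥(LinearMap.ker (Matrix.toLin' A - LinearMap.id)) = 3)
    (c : ℂ) (hc : aeval (fun i : Fin 4 => ∑ j : Fin 4, C (A i j) * X j) f = C c * f) :
    ∀ v : Fin 4 → ℂ, eval (A.mulVec v) f = eval v f := by
  have hfun : ∀ v : Fin 4 → ℂ, eval (A.mulVec v) f = c * eval v f := by
    intro v
    rw [← eval_subst, hc, map_mul, eval_C]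
  by_cases hc1 : c = 1
  · intro v; rw [hfun, hc1, one_mul]
  exfalso
  set Vp := LinearMap.ker (Matrix.toLin' A - LinearMap.id) with hVp
  have hzero : ∀ v ∈ Vp, eval v f = 0 := by
    intro v hv
    rw [hVp, mem_Vp] at hv
    have := hfun v
    rw [hv] at this
    have h2 : (1 - c) * eval v f = 0 := by linear_combination this
    rcases mul_eq_zero.mp h2 with h | h
    · exact absurd (by linear_combination -h) hc1
    · exact h
  let b : Module.Basis (Fin 3) ℂ ↥Vp := Module.finBasisOfFinrankEq ℂ ↥Vp h3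
  set B : Matrix (Fin 4) (Fin 3) ℂ := Matrix.of fun i j => (b j : Fin 4 → ℂ) i with hB
  have hmul : ∀ y : Fin 3 → ℂ, B.mulVec y = ((∑ j, y j • b j : ↥Vp) : Fin 4 → ℂ) := by
    intro y
    rw [Submodule.coe_sum]
    funext i
    rw [Finset.sum_apply]
    simp only [Matrix.mulVec, dotProduct, hB, Matrix.of_apply, Submodule.coe_smul, Pi.smul_apply,
      smul_eq_mul]
    refine Finset.sum_congr rfl fun j _ => ?_
    ring
  have hrange : LinearMap.range B.mulVecLin = Vp := by
    apply le_antisymm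
    · rintro _ ⟨y, rfl⟩
      rw [Matrix.mulVecLin_apply, hmul]
      exact Submodule.coe_mem _
    · intro v hv
      refine ⟨b.repr ⟨v, hv⟩, ?_⟩
      rw [Matrix.mulVecLin_apply, hmul]
      have := b.sum_repr ⟨v, hv⟩
      rw [this]
  have hrank : B.rank = 3 := by
    change Module.finrank ℂ (LinearMap.range B.mulVecLin) = 3
    rw [hrange]; exact h3
  have hsq := Groth.Agent.S12424.result ℂ f hf hf0 hsm B hrank
  have hz : (aeval (fun i : Fin 4 => ∑ j : Fin 3, C (B i j) * X j) f : MvPolynomial (Fin 3) ℂ) = 0 := by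
    apply MvPolynomial.funext
    intro y
    rw [map_zero]
    have := Groth.Agent.S12424.eval_sb B f y
    unfold Groth.Agent.S12424.sb Groth.Agent.S12424.Lf at this
    rw [this, hmul]
    exact hzero _ (Submodule.coe_mem _)
  rw [hz] at hsq
  exact not_squarefree_zero hsq

theorem dd_single (f : MvPolynomial (Fin 4) ℂ) (u : Fin 4 → ℂ) (i : Fin 4) :
    dd f u (Pi.single i 1) = eval u (pderiv i f) := by
  unfold dd
  rw [Finset.sum_eq_single i]
  · simp
  · intro j _ hj
    simp [Pi.single_eq_of_ne hj]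
  · intro h; exact absurd (Finset.mem_univ i) h

theorem bad_point (f : MvPolynomial (Fin 4) ℂ)
    (hsm : ∀ v : Fin 4 → ℂ, v ≠ 0 → eval v f = 0 → ∃ i : Fin 4, eval v (pderiv i f) ≠ 0)
    (A : Matrix (Fin 4) (Fin 4) ℂ) (p : Fin 4 → ℂ) (hAp : A.mulVec p = -p)
    (L : (Fin 4 → ℂ) →ₗ[ℂ] ℂ)
    (hb : ∀ w : Fin 4 → ℂ, A.mulVec w = w → ∀ x : ℂ, eval (w + x • p) f = eval w f + x ^ 2 * L w)
    (w₀ w₁ m : Fin 4 → ℂ) (hw₀ : A.mulVec w₀ = w₀) (hw₁ : A.mulVec w₁ = w₁) (hm : A.mulVec m = m)
    (hL0 : L w₀ = 0) (hL1 : L w₁ = 0) (hLm : L m = 1)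
    (hspan : ∀ v : Fin 4 → ℂ, ∃ a b c d : ℂ, v = a • w₀ + b • w₁ + c • m + d • p)
    (ws : Fin 4 → ℂ) (hws : A.mulVec ws = ws) (hLs : L ws = 0) (hws0 : ws ≠ 0)
    (hfs : eval ws f = 0) (hd0 : dd f ws w₀ = 0) (hd1 : dd f ws w₁ = 0) : False := by
  obtain ⟨x, hx⟩ := IsAlgClosed.exists_pow_nat_eq (-(dd f ws m)) (n := 2) (by norm_num)
  set u := ws + x • p with hu
  have hu0 : u ≠ 0 := by
    intro h
    have h2 : A.mulVec u = 0 := by rw [h, Matrix.mulVec_zero]
    rw [hu, Matrix.mulVec_add, Matrix.mulVec_smul, hws, hAp] at h2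
    rw [hu] at h
    apply hws0
    have h3 : (2 : ℂ) • ws = 0 := by
      rw [two_smul]
      have := congrArg₂ (· + ·) h h2
      simp only [add_zero] at this
      rw [← this, smul_neg]; abel
    rcases smul_eq_zero.mp h3 with h4 | h4
    · exact absurd h4 two_ne_zero
    · exact h4
  have hfu : eval u f = 0 := by
    rw [hu, hb ws hws x, hfs, hLs]; ring
  have key1 : ∀ w' : Fin 4 → ℂ, A.mulVec w' = w' → dd f u w' = dd f ws w' + x ^ 2 * L w' := by
    intro w' hw'
    have h1 := dd_of_fun f u w'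
      (lineP f ws w' + Polynomial.C (x ^ 2 * L ws) + Polynomial.C (x ^ 2 * L w') * Polynomial.X)
      (by
        intro t
        have e : u + t • w' = (ws + t • w') + x • p := by rw [hu]; abel
        rw [e, hb (ws + t • w') (by rw [Matrix.mulVec_add, Matrix.mulVec_smul, hws, hw']) x]
        simp only [Polynomial.eval_add, Polynomial.eval_mul, Polynomial.eval_C, Polynomial.eval_X,
          lineP_eval, map_add, map_smul, smul_eq_mul]
        ring)
    rw [h1, dd_eq]
    simp only [Polynomial.derivative_add, Polynomial.derivative_C, Polynomial.derivative_mul,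
      Polynomial.derivative_X, Polynomial.eval_add, Polynomial.eval_mul, Polynomial.eval_C,
      Polynomial.eval_X, Polynomial.eval_zero, Polynomial.eval_one]
    ring
  have key2 : dd f u p = 0 := by
    have h1 := dd_of_fun f u p 0
      (by
        intro t
        have e : u + t • p = ws + (x + t) • p := by rw [hu, add_smul]; abel
        rw [e, hb ws hws, hfs, hLs]
        simp)
    rw [h1]; simp
  obtain ⟨i, hi⟩ := hsm u hu0 hfu
  apply hi
  rw [← dd_single]
  obtain ⟨a, b, c, d, habcd⟩ := hspan (Pi.single i 1)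
  rw [habcd, dd_add, dd_add, dd_add, dd_smul, dd_smul, dd_smul, dd_smul, key1 w₀ hw₀, key1 w₁ hw₁,
    key1 m hm, key2, hd0, hd1, hL0, hL1, hLm]
  linear_combination c * hx

theorem span4 (A : Matrix (Fin 4) (Fin 4) ℂ) (p : Fin 4 → ℂ) (hp : p ≠ 0) (hAp : A.mulVec p = -p)
    (L : (Fin 4 → ℂ) →ₗ[ℂ] ℂ)
    (w₀ w₁ m : Fin 4 → ℂ) (hw₀ : A.mulVec w₀ = w₀) (hw₁ : A.mulVec w₁ = w₁) (hm : A.mulVec m = m)
    (hL0 : L w₀ = 0) (hL1 : L w₁ = 0) (hLm : L m = 1)
    (hind : ∀ a b : ℂ, a • w₀ + b • w₁ = 0 → a = 0 ∧ b = 0) :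
    ∀ v : Fin 4 → ℂ, ∃ a b c d : ℂ, v = a • w₀ + b • w₁ + c • m + d • p := by
  have hli : LinearIndependent ℂ ![w₀, w₁, m, p] := by
    rw [Fintype.linearIndependent_iff]
    intro g hg
    rw [Fin.sum_univ_four] at hg
    simp only [Matrix.cons_val_zero, Matrix.cons_val_one, Matrix.cons_val] at hg
    have hg2 := congrArg A.mulVec hg
    simp only [Matrix.mulVec_add, Matrix.mulVec_smul, hw₀, hw₁, hm, hAp, Matrix.mulVec_zero] at hg2
    have h3 : g 3 = 0 := by
      have h : (2 * g 3) • p = 0 := by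
        have := congrArg₂ (· - ·) hg hg2
        simp only [sub_zero] at this
        rw [← this, mul_smul, two_smul, smul_neg]; abel
      rcases smul_eq_zero.mp h with h4 | h4
      · exact (mul_eq_zero.mp h4).resolve_left two_ne_zero
      · exact absurd h4 hp
    rw [h3, zero_smul, add_zero] at hg
    have h2 : g 2 = 0 := by
      have := congrArg L hg
      simp only [map_add, map_smul, hL0, hL1, hLm, map_zero, smul_eq_mul] at this
      linear_combination this
    rw [h2, zero_smul, add_zero] at hg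
    obtain ⟨h0, h1⟩ := hind _ _ hg
    intro i
    fin_cases i
    · exact h0
    · exact h1
    · exact h2
    · exact h3
  have htop := hli.span_eq_top_of_card_eq_finrank' (by
    rw [Module.finrank_fintype_fun_eq_card])
  intro v
  have hv : v ∈ Submodule.span ℂ (Set.range ![w₀, w₁, m, p]) := by rw [htop]; trivial
  rw [Submodule.mem_span_range_iff_exists_fun] at hv
  obtain ⟨c, hc⟩ := hv
  rw [Fin.sum_univ_four] at hc
  simp only [Matrix.cons_val_zero, Matrix.cons_val_one, Matrix.cons_val] at hc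
  exact ⟨c 0, c 1, c 2, c 3, hc.symm⟩

theorem three_roots (R : Polynomial ℂ) (hdeg : R.natDegree = 3)
    (hsep : ∀ z : ℂ, R.eval z = 0 → (Polynomial.derivative R).eval z = 0 → False) :
    ∃ zf : Fin 3 → ℂ, Function.Injective zf ∧ ∀ i, R.eval (zf i) = 0 := by
  classical
  have hR0 : R ≠ 0 := by
    intro h; rw [h] at hdeg; simp at hdeg
  have hs : R.Separable := by
    rw [Polynomial.separable_def,
      Polynomial.isCoprime_iff_aeval_ne_zero_of_isAlgClosed (k := ℂ) ℂ]
    intro a
    by_contra hcon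
    push Not at hcon
    apply hsep a
    · simpa using hcon.1
    · simpa using hcon.2
  have hnd := Polynomial.nodup_roots hs
  have hcard : R.roots.toFinset.card = 3 := by
    rw [Multiset.toFinset_card_of_nodup hnd, IsAlgClosed.card_roots_eq_natDegree, hdeg]
  obtain ⟨x, y, z, hxy, hxz, hyz, hset⟩ := Finset.card_eq_three.mp hcard
  have hmem : ∀ a ∈ ({x, y, z} : Finset ℂ), R.eval a = 0 := by
    intro a ha
    rw [← hset, Multiset.mem_toFinset, Polynomial.mem_roots hR0] at ha
    exact ha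
  refine ⟨![x, y, z], ?_, ?_⟩
  · intro i j hij
    fin_cases i <;> fin_cases j <;> simp_all
  · intro i
    fin_cases i
    · exact hmem x (by simp)
    · exact hmem y (by simp)
    · exact hmem z (by simp)

theorem eval_zero_homog (f : MvPolynomial (Fin 4) ℂ) (hf : f.IsHomogeneous 3) :
    eval (0 : Fin 4 → ℂ) f = 0 := by
  have := Groth.Agent.S12424.eval_smul_of_homog hf (0 : ℂ) (0 : Fin 4 → ℂ)
  simpa using this

/-- final construction of the three lines from three distinct roots -/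
theorem build (f : MvPolynomial (Fin 4) ℂ) (hf : f.IsHomogeneous 3)
    (A : Matrix (Fin 4) (Fin 4) ℂ) (p : Fin 4 → ℂ) (hp : p ≠ 0) (hAp : A.mulVec p = -p)
    (L : (Fin 4 → ℂ) →ₗ[ℂ] ℂ)
    (hb : ∀ w : Fin 4 → ℂ, A.mulVec w = w → ∀ x : ℂ, eval (w + x • p) f = eval w f + x ^ 2 * L w)
    (w₀ w₁ : Fin 4 → ℂ) (hw₀ : A.mulVec w₀ = w₀) (hw₁ : A.mulVec w₁ = w₁)
    (hL0 : L w₀ = 0) (hL1 : L w₁ = 0)
    (hind : ∀ a b : ℂ, a • w₀ + b • w₁ = 0 → a = 0 ∧ b = 0)
    (zf : Fin 3 → ℂ) (hzf : Function.Injective zf)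
    (hroot : ∀ i, eval (w₁ + zf i • w₀) f = 0) :
    ∃ U : Fin 3 → Submodule ℂ (Fin 4 → ℂ), Function.Injective U ∧
      ∀ i : Fin 3, Module.finrank ℂ ↥(U i) = 2 ∧ p ∈ U i ∧ ∀ u ∈ U i, eval u f = 0 := by
  set ws : Fin 3 → (Fin 4 → ℂ) := fun i => w₁ + zf i • w₀ with hws
  have hAws : ∀ i, A.mulVec (ws i) = ws i := by
    intro i
    simp only [hws, Matrix.mulVec_add, Matrix.mulVec_smul, hw₀, hw₁]
  have hLws : ∀ i, L (ws i) = 0 := by
    intro i
    simp only [hws, map_add, map_smul, hL0, hL1, smul_zero, add_zero]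
  have hws0 : ∀ i, ws i ≠ 0 := by
    intro i h
    have : zf i • w₀ + (1 : ℂ) • w₁ = 0 := by rw [one_smul, add_comm]; exact h
    exact one_ne_zero (hind _ _ this).2
  have hmemU : ∀ i (u : Fin 4 → ℂ), u ∈ Submodule.span ℂ (Set.range ![p, ws i]) ↔
      ∃ a b : ℂ, u = a • p + b • ws i := by
    intro i u
    rw [Submodule.mem_span_range_iff_exists_fun]
    constructor
    · rintro ⟨c, hc⟩
      rw [Fin.sum_univ_two] at hc
      exact ⟨c 0, c 1, by simpa using hc.symm⟩
    · rintro ⟨a, b, hab⟩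
      refine ⟨![a, b], ?_⟩
      rw [Fin.sum_univ_two]
      simpa using hab.symm
  -- if a p + b w = 0 with w in V₊ then a = 0 and b w = 0
  have hsplit : ∀ (a : ℂ) (w : Fin 4 → ℂ), A.mulVec w = w → a • p + w = 0 → a = 0 ∧ w = 0 := by
    intro a w hw h
    have h2 := congrArg A.mulVec h
    rw [Matrix.mulVec_add, Matrix.mulVec_smul, hAp, hw, Matrix.mulVec_zero] at h2
    have h3 : (2 * a) • p = 0 := by
      have := congrArg₂ (· - ·) h h2
      simp only [sub_zero] at this
      rw [← this, mul_smul, two_smul, smul_neg]; abel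
    have ha : a = 0 := by
      rcases smul_eq_zero.mp h3 with h4 | h4
      · exact (mul_eq_zero.mp h4).resolve_left two_ne_zero
      · exact absurd h4 hp
    refine ⟨ha, ?_⟩
    rw [ha, zero_smul, zero_add] at h
    exact h
  refine ⟨fun i => Submodule.span ℂ (Set.range ![p, ws i]), ?_, ?_⟩
  · intro i j hij
    simp only at hij
    have hj : ws j ∈ Submodule.span ℂ (Set.range ![p, ws j]) :=
      Submodule.subset_span ⟨1, by simp⟩
    rw [← hij, hmemU] at hj
    obtain ⟨a, b, hab⟩ := hj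
    have h1 : a • p + (b • ws i - ws j) = 0 := by rw [hab]; abel
    obtain ⟨_, h2⟩ := hsplit a (b • ws i - ws j)
      (by rw [Matrix.mulVec_sub, Matrix.mulVec_smul, hAws, hAws]) h1
    have h3 : (b * zf i - zf j) • w₀ + (b - 1) • w₁ = 0 := by
      rw [← h2]
      simp only [hws, smul_add, sub_smul, mul_smul, one_smul]
      abel
    obtain ⟨h4, h5⟩ := hind _ _ h3
    have hb1 : b = 1 := by linear_combination h5
    rw [hb1, one_mul] at h4
    exact hzf (by linear_combination h4)
  · intro i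
    refine ⟨?_, Submodule.subset_span ⟨0, by simp⟩, ?_⟩
    · have hli : LinearIndependent ℂ ![p, ws i] := by
        rw [LinearIndependent.pair_iff]
        intro a b hab
        obtain ⟨ha, hbw⟩ := hsplit a (b • ws i) (by rw [Matrix.mulVec_smul, hAws]) hab
        refine ⟨ha, ?_⟩
        rcases smul_eq_zero.mp hbw with h | h
        · exact h
        · exact absurd h (hws0 i)
      rw [finrank_span_eq_card hli]
      simp
    · intro u hu
      rw [hmemU] at hu
      obtain ⟨a, b, rfl⟩ := hu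
      rw [add_comm, hb (b • ws i) (by rw [Matrix.mulVec_smul, hAws]) a,
        Groth.Agent.S12424.eval_smul_of_homog hf, map_smul, hLws, hroot i]
      simp

end hh

end helpers

open MvPolynomial in
/-- Let f be a nonzero homogeneous cubic in four variables over ℂ whose surface S = V_+(f) ⊂ P³ is
smooth (at every nonzero zero of f some partial derivative is nonzero); a line on S is a
2-dimensional subspace of ℂ⁴ on which f vanishes, and an Eckardt point of S is a nonzero vector
lying on three distinct lines on S. Let A be an involutory matrix (A² = 1) whose +1-eigenspace is a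
hyperplane and with A·p = −p, such that the substitution X_i ↦ Σ_j A_ij X_j multiplies f by a
constant — that is, a projective involution preserving S whose fixed locus is the disjoint union of
a plane and the point of p, where p is a nonzero vector on S. Then p is an Eckardt point of S. -/
theorem result (f : MvPolynomial (Fin 4) ℂ) (hf : f.IsHomogeneous 3)
    (hf0 : f ≠ 0) (hsm : ∀ v : Fin 4 → ℂ, v ≠ 0 → eval v f = 0 → ∃ i : Fin 4, eval v (pderiv i f) ≠ 0)
    (A : Matrix (Fin 4) (Fin 4) ℂ) (p : Fin 4 → ℂ) (hp : p ≠ 0) (hfp : eval p f = 0)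
    (hA : A * A = 1 ∧ Module.finrank ℂ ↥(LinearMap.ker (Matrix.toLin' A - LinearMap.id)) = 3 ∧
        A.mulVec p = -p ∧ ∃ c : ℂ, aeval (fun i : Fin 4 => ∑ j : Fin 4, C (A i j) * X j) f = C c * f) :
    (∃ U : Fin 3 → Submodule ℂ (Fin 4 → ℂ), Function.Injective U ∧
        ∀ i : Fin 3, Module.finrank ℂ ↥(U i) = 2 ∧ p ∈ U i ∧ ∀ u ∈ U i, eval u f = 0) := by
  obtain ⟨hAA, h3, hAp, c, hc⟩ := hA
  have hinv := invariant f hf hf0 hsm A h3 c hc
  obtain ⟨L, hL⟩ := taylor_even f hf p
  have hb : ∀ w : Fin 4 → ℂ, A.mulVec w = w → ∀ x : ℂ,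
      eval (w + x • p) f = eval w f + x ^ 2 * L w := by
    intro w hw
    apply hL w
    intro x
    rw [← hinv (w + x • p), Matrix.mulVec_add, Matrix.mulVec_smul, hw, hAp, smul_neg, neg_smul]
  have hLne : ∃ m : Fin 4 → ℂ, A.mulVec m = m ∧ L m = 1 := by
    by_contra hcon
    have hL0 : ∀ w : Fin 4 → ℂ, A.mulVec w = w → L w = 0 := by
      intro w hw
      by_contra h
      apply hcon
      exact ⟨(L w)⁻¹ • w, by rw [Matrix.mulVec_smul, hw],
        by rw [map_smul, smul_eq_mul, inv_mul_cancel₀ h]⟩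
    obtain ⟨i, hi⟩ := hsm p hp hfp
    apply hi
    rw [← dd_single]
    obtain ⟨w, x, hw, hwx⟩ := decomp A p hAA h3 hp hAp (Pi.single i 1)
    rw [hwx, dd_add, dd_smul]
    have h1 : dd f p w = 0 := by
      have := dd_of_fun f p w (Polynomial.C (eval w f) * Polynomial.X ^ 3) (by
        intro t
        have e : p + t • w = t • w + (1 : ℂ) • p := by rw [one_smul, add_comm]
        have hAtw : A.mulVec (t • w) = t • w := by rw [Matrix.mulVec_smul, hw]
        rw [e, hb (t • w) hAtw 1, hL0 (t • w) hAtw,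
          Groth.Agent.S12424.eval_smul_of_homog hf]
        simp only [Polynomial.eval_mul, Polynomial.eval_C, Polynomial.eval_pow, Polynomial.eval_X]
        ring)
      rw [this]
      simp
    have h2 : dd f p p = 0 := by
      have := dd_of_fun f p p 0 (by
        intro t
        have e : p + t • p = (0 : Fin 4 → ℂ) + (1 + t) • p := by
          rw [zero_add, add_smul, one_smul]
        rw [e, hb 0 (by rw [Matrix.mulVec_zero]) (1 + t), map_zero, eval_zero_homog f hf]
        simp)
      rw [this]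
      simp
    rw [h1, h2]
    ring
  obtain ⟨m, hm, hLm⟩ := hLne
  set Vp := LinearMap.ker (Matrix.toLin' A - LinearMap.id) with hVp
  set K : Submodule ℂ (Fin 4 → ℂ) := Vp ⊓ LinearMap.ker L with hK
  have hKdim : 2 ≤ Module.finrank ℂ ↥K := by
    rw [hK]
    have h1 := Submodule.finrank_sup_add_finrank_inf_eq Vp (LinearMap.ker L)
    have h2 := LinearMap.finrank_range_add_finrank_ker L
    have h4 : Module.finrank ℂ ↥(LinearMap.range L) ≤ 1 := by
      have := Submodule.finrank_le (LinearMap.range L)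
      rwa [Module.finrank_self] at this
    have h5 : Module.finrank ℂ ↥(Vp ⊔ LinearMap.ker L) ≤ 4 := by
      have := Submodule.finrank_le (Vp ⊔ LinearMap.ker L)
      rwa [Module.finrank_fintype_fun_eq_card, Fintype.card_fin] at this
    rw [Module.finrank_fintype_fun_eq_card, Fintype.card_fin] at h2
    rw [h3] at h1
    omega
  have hKA : ∀ x : ↥K, A.mulVec (x : Fin 4 → ℂ) = x := fun x => (mem_Vp A _).mp x.2.1
  have hKL : ∀ x : ↥K, L (x : Fin 4 → ℂ) = 0 := fun x => LinearMap.mem_ker.mp x.2.2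
  have hpair : ∀ x : ↥K, x ≠ 0 → ∃ y : ↥K, ∀ a b : ℂ,
      a • (x : Fin 4 → ℂ) + b • (y : Fin 4 → ℂ) = 0 → a = 0 ∧ b = 0 := by
    intro x hx
    obtain ⟨y, hy⟩ := exists_linearIndependent_pair_of_one_lt_finrank (R := ℂ) (M := ↥K)
      (by omega) hx
    refine ⟨y, ?_⟩
    intro a b hab
    rw [LinearIndependent.pair_iff] at hy
    apply hy a b
    apply Subtype.ext
    simpa using hab
  by_cases hall : ∀ x : ↥K, eval (x : Fin 4 → ℂ) f = 0
  · -- f vanishes on K: singular point
    exfalso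
    obtain ⟨x, hx⟩ := (Module.finrank_pos_iff_exists_ne_zero (R := ℂ) (M := ↥K)).mp (by omega)
    obtain ⟨y, hy⟩ := hpair x hx
    refine bad_point f hsm A p hAp L hb x y m (hKA x) (hKA y) hm (hKL x) (hKL y) hLm
      (span4 A p hp hAp L x y m (hKA x) (hKA y) hm (hKL x) (hKL y) hLm hy)
      x (hKA x) (hKL x) (fun h => hx (Subtype.ext h)) (hall x) ?_ ?_
    · have := dd_of_fun f x x 0 (by
        intro t
        have e : (x : Fin 4 → ℂ) + t • (x : Fin 4 → ℂ) = ((x + t • x : ↥K) : Fin 4 → ℂ) := by simp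
        rw [e, hall]; simp)
      rw [this]; simp
    · have := dd_of_fun f x y 0 (by
        intro t
        have e : (x : Fin 4 → ℂ) + t • (y : Fin 4 → ℂ) = ((x + t • y : ↥K) : Fin 4 → ℂ) := by simp
        rw [e, hall]; simp)
      rw [this]; simp
  · push Not at hall
    obtain ⟨w₀, hfw₀⟩ := hall
    have hw₀0 : w₀ ≠ 0 := by
      intro h
      apply hfw₀
      rw [h]
      exact eval_zero_homog f hf
    obtain ⟨w₁, hind⟩ := hpair w₀ hw₀0
    set R := lineP f (w₁ : Fin 4 → ℂ) (w₀ : Fin 4 → ℂ) with hR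
    have hdeg : R.natDegree = 3 :=
      Polynomial.natDegree_eq_of_le_of_coeff_ne_zero (lineP_natDegree f hf _ _)
        (by rw [hR, lineP_coeff_three f hf]; exact hfw₀)
    obtain ⟨zf, hzf, hroots⟩ := three_roots R hdeg (by
      intro z hz hz'
      set ws : Fin 4 → ℂ := (w₁ : Fin 4 → ℂ) + z • (w₀ : Fin 4 → ℂ) with hws
      have hAws : A.mulVec ws = ws := by
        rw [hws, Matrix.mulVec_add, Matrix.mulVec_smul, hKA, hKA]
      have hLws : L ws = 0 := by
        rw [hws, map_add, map_smul, hKL, hKL]; simp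
      have hws0 : ws ≠ 0 := by
        intro h
        have : z • (w₀ : Fin 4 → ℂ) + (1 : ℂ) • (w₁ : Fin 4 → ℂ) = 0 := by
          rw [one_smul, add_comm]; exact h
        exact one_ne_zero (hind _ _ this).2
      have hfws : eval ws f = 0 := by
        rw [hws, ← lineP_eval]; exact hz
      have hd0 : dd f ws (w₀ : Fin 4 → ℂ) = 0 := by
        have := dd_of_fun f ws w₀ (R.comp (Polynomial.X + Polynomial.C z)) (by
          intro t
          have e : ws + t • (w₀ : Fin 4 → ℂ) = (w₁ : Fin 4 → ℂ) + (t + z) • (w₀ : Fin 4 → ℂ) := by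
            rw [hws, add_smul]; abel
          rw [e, Polynomial.eval_comp, hR, lineP_eval]
          simp)
        rw [this, Polynomial.derivative_comp, Polynomial.eval_mul, Polynomial.eval_comp]
        simp only [Polynomial.eval_add, Polynomial.eval_X, Polynomial.eval_C, zero_add]
        rw [hz']; simp
      have hdd : dd f ws ws = 0 := by
        have := dd_of_fun f ws ws 0 (by
          intro t
          have e : ws + t • ws = (1 + t) • ws := by rw [add_smul, one_smul]
          rw [e, Groth.Agent.S12424.eval_smul_of_homog hf, hfws]; simp)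
        rw [this]; simp
      have hd1 : dd f ws (w₁ : Fin 4 → ℂ) = 0 := by
        have h1 : dd f ws ws = dd f ws (w₁ : Fin 4 → ℂ) + z * dd f ws (w₀ : Fin 4 → ℂ) := by
          conv_lhs => rw [hws, dd_add, dd_smul]
        rw [hdd, hd0] at h1
        linear_combination -h1
      exact bad_point f hsm A p hAp L hb w₀ w₁ m (hKA w₀) (hKA w₁) hm (hKL w₀) (hKL w₁) hLm
        (span4 A p hp hAp L w₀ w₁ m (hKA w₀) (hKA w₁) hm (hKL w₀) (hKL w₁) hLm hind)
        ws hAws hLws hws0 hfws hd0 hd1)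
    exact build f hf A p hp hAp L hb w₀ w₁ (hKA w₀) (hKA w₁) (hKL w₀) (hKL w₁) hind zf hzf
      (by
        intro i
        rw [← lineP_eval]
        exact hroots i)

end Groth.Agent.S18408
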