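import Groth.Statements.S18410
import Mathlib
import Groth.Agent.S18408

set_option autoImplicit false
universe u
open Cubic

namespace Groth.Agent.S18410

section helpers
section hh
open MvPolynomial
open Groth.Agent.S18408

/-- Hessian bilinear form at `P` -/
noncomputable def hess (f : MvPolynomial (Fin 4) ℂ) (P u v : Fin 4 → ℂ) : ℂ :=
  ∑ i, ∑ j, eval P (pderiv j (pderiv i f)) * u j * v i

theorem hess_lin_left (f : MvPolynomial (Fin 4) ℂ) (P : Fin 4 → ℂ) (a b : ℂ) (u u' v : Fin 4 → ℂ) :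
    hess f P (a • u + b • u') v = a * hess f P u v + b * hess f P u' v := by
  unfold hess
  rw [Finset.mul_sum, Finset.mul_sum, ← Finset.sum_add_distrib]
  refine Finset.sum_congr rfl fun i _ => ?_
  rw [Finset.mul_sum, Finset.mul_sum, ← Finset.sum_add_distrib]
  refine Finset.sum_congr rfl fun j _ => ?_
  simp only [Pi.add_apply, Pi.smul_apply, smul_eq_mul]
  ring

theorem hess_lin_right (f : MvPolynomial (Fin 4) ℂ) (P : Fin 4 → ℂ) (a b : ℂ) (u v v' : Fin 4 → ℂ) :
    hess f P u (a • v + b • v') = a * hess f P u v + b * hess f P u v' := by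
  unfold hess
  rw [Finset.mul_sum, Finset.mul_sum, ← Finset.sum_add_distrib]
  refine Finset.sum_congr rfl fun i _ => ?_
  rw [Finset.mul_sum, Finset.mul_sum, ← Finset.sum_add_distrib]
  refine Finset.sum_congr rfl fun j _ => ?_
  simp only [Pi.add_apply, Pi.smul_apply, smul_eq_mul]
  ring

theorem two_coeff_two (f : MvPolynomial (Fin 4) ℂ) (P v : Fin 4 → ℂ) :
    2 * (lineP f P v).coeff 2 = hess f P v v := by
  have h1 : (Polynomial.derivative (Polynomial.derivative (lineP f P v))).eval 0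
      = 2 * (lineP f P v).coeff 2 := by
    rw [← Polynomial.coeff_zero_eq_eval_zero, Polynomial.coeff_derivative,
      Polynomial.coeff_derivative]
    norm_num
    ring
  rw [← h1, lineP_deriv, map_sum, Polynomial.eval_finsetSum]
  unfold hess
  refine Finset.sum_congr rfl fun i _ => ?_
  rw [Polynomial.derivative_mul, Polynomial.derivative_C, mul_zero, add_zero, lineP_deriv,
    Finset.sum_mul, Polynomial.eval_finsetSum]
  refine Finset.sum_congr rfl fun j _ => ?_
  rw [Polynomial.eval_mul, Polynomial.eval_mul, lineP_eval, Polynomial.eval_C,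
    Polynomial.eval_C]
  simp only [zero_smul, add_zero]

theorem coeff_one (f : MvPolynomial (Fin 4) ℂ) (P v : Fin 4 → ℂ) :
    (lineP f P v).coeff 1 = dd f P v := by
  rw [dd_eq, ← Polynomial.coeff_zero_eq_eval_zero, Polynomial.coeff_derivative]
  norm_num

theorem coeff_zero (f : MvPolynomial (Fin 4) ℂ) (P v : Fin 4 → ℂ) :
    (lineP f P v).coeff 0 = eval P f := by
  rw [Polynomial.coeff_zero_eq_eval_zero, lineP_eval]
  simp

theorem coeff_cubic (a b c : ℂ) :
    (Polynomial.C a * Polynomial.X + Polynomial.C b * Polynomial.X ^ 2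
      + Polynomial.C c * Polynomial.X ^ 3 : Polynomial ℂ).coeff 1 = a ∧
    (Polynomial.C a * Polynomial.X + Polynomial.C b * Polynomial.X ^ 2
      + Polynomial.C c * Polynomial.X ^ 3 : Polynomial ℂ).coeff 2 = b := by
  constructor <;>
  simp [Polynomial.coeff_X_pow, Polynomial.coeff_C_mul]

theorem scaling (f : MvPolynomial (Fin 4) ℂ) (hf : f.IsHomogeneous 3) (P v : Fin 4 → ℂ) (c : ℂ)
    (hfP : eval P f = 0) :
    (lineP f P (v + c • P)).coeff 2 = (lineP f P v).coeff 2 + 2 * c * dd f P v := by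
  set a₁ := (lineP f P v).coeff 1 with ha₁
  set a₂ := (lineP f P v).coeff 2 with ha₂
  set a₃ := (lineP f P v).coeff 3 with ha₃
  have hQ : lineP f P (v + c • P) =
      Polynomial.C a₁ * Polynomial.X + Polynomial.C (2 * c * a₁ + a₂) * Polynomial.X ^ 2
        + Polynomial.C (c ^ 2 * a₁ + c * a₂ + a₃) * Polynomial.X ^ 3 := by
    apply Polynomial.eq_of_infinite_eval_eq
    have hfin : {τ : ℂ | 1 + τ * c = 0}.Finite := by
      apply Set.Subsingleton.finite
      intro τ hτ τ' hτ'
      simp only [Set.mem_ofPred_eq] at hτ hτ'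
      have hc : c ≠ 0 := by
        rintro rfl
        simp at hτ
      have : (τ - τ') * c = 0 := by linear_combination hτ - hτ'
      rcases mul_eq_zero.mp this with h | h
      · exact sub_eq_zero.mp h
      · exact absurd h hc
    refine Set.Infinite.mono ?_ hfin.infinite_compl
    intro τ hτ
    have hτ' : 1 + τ * c ≠ 0 := hτ
    simp only [Set.mem_ofPred_eq]
    rw [lineP_eval]
    have e : P + τ • (v + c • P) = (1 + τ * c) • (P + (τ / (1 + τ * c)) • v) := by
      rw [smul_add, smul_add, smul_smul, smul_smul, add_smul, one_smul, mul_div_cancel₀ _ hτ']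
      abel
    rw [e, Groth.Agent.S12424.eval_smul_of_homog hf, ← lineP_eval, lineP_expand f hf, coeff_zero,
      hfP, ← ha₁, ← ha₂, ← ha₃]
    simp only [Polynomial.eval_add, Polynomial.eval_mul, Polynomial.eval_C, Polynomial.eval_pow,
      Polynomial.eval_X]
    field_simp
    ring
  rw [hQ, (coeff_cubic _ _ _).2, ha₁, coeff_one]
  ring

theorem line_param (U : Submodule ℂ (Fin 4 → ℂ)) (hU : Module.finrank ℂ ↥U = 2) (P : Fin 4 → ℂ)
    (hPU : P ∈ U) (hP0 : P ≠ 0) :
    ∃ v ∈ U, (∀ a b : ℂ, a • P + b • v = 0 → a = 0 ∧ b = 0) ∧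
      ∀ u ∈ U, ∃ a b : ℂ, u = a • P + b • v := by
  have hx : (⟨P, hPU⟩ : ↥U) ≠ 0 := fun h => hP0 (congrArg Subtype.val h)
  obtain ⟨y, hy⟩ := exists_linearIndependent_pair_of_one_lt_finrank (R := ℂ) (M := ↥U)
    (by omega) hx
  refine ⟨y.1, y.2, ?_, ?_⟩
  · intro a b hab
    rw [LinearIndependent.pair_iff] at hy
    apply hy a b
    apply Subtype.ext
    simpa using hab
  · intro u hu
    have htop := hy.span_eq_top_of_card_eq_finrank' (by rw [hU]; simp)
    have hmem : (⟨u, hu⟩ : ↥U) ∈ Submodule.span ℂ (Set.range ![(⟨P, hPU⟩ : ↥U), y]) := by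
      rw [htop]; trivial
    rw [Submodule.mem_span_range_iff_exists_fun] at hmem
    obtain ⟨c, hc⟩ := hmem
    rw [Fin.sum_univ_two] at hc
    refine ⟨c 0, c 1, ?_⟩
    have := congrArg Subtype.val hc
    simpa using this.symm

theorem dd_zero (f : MvPolynomial (Fin 4) ℂ) (P : Fin 4 → ℂ) : dd f P 0 = 0 := by
  unfold dd; simp

theorem eckardt_quadric (f : MvPolynomial (Fin 4) ℂ) (hf : f.IsHomogeneous 3)
    (hsm : ∀ v : Fin 4 → ℂ, v ≠ 0 → eval v f = 0 → ∃ i : Fin 4, eval v (pderiv i f) ≠ 0)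
    (P : Fin 4 → ℂ) (hP0 : P ≠ 0) (hfP : eval P f = 0)
    (hE : ∃ U : Fin 3 → Submodule ℂ (Fin 4 → ℂ), Function.Injective U ∧
        ∀ i : Fin 3, Module.finrank ℂ ↥(U i) = 2 ∧ P ∈ U i ∧ ∀ u ∈ U i, eval u f = 0) :
    ∀ v : Fin 4 → ℂ, dd f P v = 0 → (lineP f P v).coeff 2 = 0 := by
  obtain ⟨U, hUinj, hU⟩ := hE
  choose v hvU hvind hvspan using fun i => line_param (U i) (hU i).1 P (hU i).2.1 hP0
  have hline : ∀ i, lineP f P (v i) = 0 := by
    intro i
    apply Polynomial.funext
    intro t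
    rw [lineP_eval, Polynomial.eval_zero]
    exact (hU i).2.2 _ ((U i).add_mem (hU i).2.1 ((U i).smul_mem t (hvU i)))
  have hd : ∀ i, dd f P (v i) = 0 := by
    intro i; rw [dd_eq, hline i]; simp
  have hq : ∀ i, hess f P (v i) (v i) = 0 := by
    intro i; rw [← two_coeff_two, hline i]; simp
  have hle : ∀ i j, v i ∈ U j → i = j := by
    intro i j hij
    apply hUinj
    apply Submodule.eq_of_le_of_finrank_eq
    · intro u hu
      obtain ⟨a, b, rfl⟩ := hvspan i u hu
      exact (U j).add_mem ((U j).smul_mem a (hU j).2.1) ((U j).smul_mem b hij)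
    · rw [(hU i).1, (hU j).1]
  obtain ⟨i₀, hi₀⟩ := hsm P hP0 hfP
  set v₀ : Fin 4 → ℂ := Pi.single i₀ 1 with hv₀
  have hd0 : dd f P v₀ ≠ 0 := by rw [hv₀, dd_single]; exact hi₀
  have hdP : dd f P P = 0 := by
    have := dd_of_fun f P P 0 (by
      intro t
      have e : P + t • P = (1 + t) • P := by rw [add_smul, one_smul]
      rw [e, Groth.Agent.S12424.eval_smul_of_homog hf, hfP]; simp)
    rw [this]; simp
  have hli : LinearIndependent ℂ ![P, v 0, v 1, v₀] := by
    rw [Fintype.linearIndependent_iff]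
    intro g hg
    rw [Fin.sum_univ_four] at hg
    simp only [Matrix.cons_val_zero, Matrix.cons_val_one, Matrix.cons_val] at hg
    have h3 : g 3 = 0 := by
      have h := congrArg (dd f P) hg
      rw [dd_add, dd_add, dd_add, dd_smul, dd_smul, dd_smul, dd_smul, hdP, hd 0, hd 1,
        dd_zero] at h
      have : g 3 * dd f P v₀ = 0 := by linear_combination h
      exact (mul_eq_zero.mp this).resolve_right hd0
    rw [h3, zero_smul, add_zero] at hg
    have h2 : g 2 = 0 := by
      by_contra h2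
      have hmem : (g 2) • v 1 ∈ U 0 := by
        have e : (g 2) • v 1 = -(g 0 • P + g 1 • v 0) := by
          rw [eq_neg_iff_add_eq_zero, ← hg]; abel
        rw [e]
        exact (U 0).neg_mem ((U 0).add_mem ((U 0).smul_mem _ (hU 0).2.1)
          ((U 0).smul_mem _ (hvU 0)))
      have h10 : v 1 ∈ U 0 := by
        have := (U 0).smul_mem (g 2)⁻¹ hmem
        rwa [smul_smul, inv_mul_cancel₀ h2, one_smul] at this
      exact absurd (hle 1 0 h10) (by decide)
    rw [h2, zero_smul, add_zero] at hg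
    obtain ⟨h0, h1⟩ := hvind 0 _ _ hg
    intro i
    fin_cases i
    · exact h0
    · exact h1
    · exact h2
    · exact h3
  have htop := hli.span_eq_top_of_card_eq_finrank' (by
    rw [Module.finrank_fintype_fun_eq_card])
  -- decomposition of tangent vectors
  have hdec : ∀ w : Fin 4 → ℂ, dd f P w = 0 → ∃ z x y : ℂ, w = z • P + x • v 0 + y • v 1 := by
    intro w hw
    have hmem : w ∈ Submodule.span ℂ (Set.range ![P, v 0, v 1, v₀]) := by rw [htop]; trivial
    rw [Submodule.mem_span_range_iff_exists_fun] at hmem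
    obtain ⟨c, hc⟩ := hmem
    rw [Fin.sum_univ_four] at hc
    simp only [Matrix.cons_val_zero, Matrix.cons_val_one, Matrix.cons_val] at hc
    have h3 : c 3 = 0 := by
      have h := congrArg (dd f P) hc
      rw [dd_add, dd_add, dd_add, dd_smul, dd_smul, dd_smul, dd_smul, hdP, hd 0, hd 1, hw] at h
      have : c 3 * dd f P v₀ = 0 := by linear_combination h
      exact (mul_eq_zero.mp this).resolve_right hd0
    rw [h3, zero_smul, add_zero] at hc
    exact ⟨c 0, c 1, c 2, hc.symm⟩
  set m : ℂ := hess f P (v 0) (v 1) + hess f P (v 1) (v 0) with hm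
  have hq2 : ∀ x y : ℂ, hess f P (x • v 0 + y • v 1) (x • v 0 + y • v 1) = x * y * m := by
    intro x y
    rw [hess_lin_left, hess_lin_right, hess_lin_right, hq 0, hq 1, hm]
    ring
  have hqPi : ∀ z x y : ℂ, 2 * (lineP f P (z • P + x • v 0 + y • v 1)).coeff 2 = x * y * m := by
    intro z x y
    have e : z • P + x • v 0 + y • v 1 = (x • v 0 + y • v 1) + z • P := by abel
    rw [e, scaling f hf P (x • v 0 + y • v 1) z hfP]
    rw [dd_add, dd_smul, dd_smul, hd 0, hd 1, mul_add, two_coeff_two, hq2 x y]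
    ring
  -- third line gives m = 0
  obtain ⟨z, x, y, hzxy⟩ := hdec (v 2) (hd 2)
  have hx : x ≠ 0 := by
    rintro rfl
    have h21 : v 2 ∈ U 1 := by
      rw [hzxy, zero_smul, add_zero]
      exact (U 1).add_mem ((U 1).smul_mem _ (hU 1).2.1) ((U 1).smul_mem _ (hvU 1))
    exact absurd (hle 2 1 h21) (by decide)
  have hy : y ≠ 0 := by
    rintro rfl
    have h20 : v 2 ∈ U 0 := by
      rw [hzxy, zero_smul, add_zero]
      exact (U 0).add_mem ((U 0).smul_mem _ (hU 0).2.1) ((U 0).smul_mem _ (hvU 0))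
    exact absurd (hle 2 0 h20) (by decide)
  have hm0 : m = 0 := by
    have h := hqPi z x y
    rw [← hzxy, hline 2] at h
    simp only [Polynomial.coeff_zero, mul_zero] at h
    have : x * y * m = 0 := h.symm
    rcases mul_eq_zero.mp this with h1 | h1
    · rcases mul_eq_zero.mp h1 with h2 | h2
      · exact absurd h2 hx
      · exact absurd h2 hy
    · exact h1
  intro w hw
  obtain ⟨z', x', y', hw'⟩ := hdec w hw
  have h := hqPi z' x' y'
  rw [← hw', hm0, mul_zero] at h
  exact (mul_eq_zero.mp h).resolve_left two_ne_zero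

theorem frame (f : MvPolynomial (Fin 4) ℂ) (hf : f.IsHomogeneous 3)
    (hf0 : f ≠ 0) (hsm : ∀ v : Fin 4 → ℂ, v ≠ 0 → eval v f = 0 → ∃ i : Fin 4, eval v (pderiv i f) ≠ 0)
    (A : Matrix (Fin 4) (Fin 4) ℂ) (p : Fin 4 → ℂ) (hp : p ≠ 0) (hfp : eval p f = 0)
    (hAA : A * A = 1)
    (h3 : Module.finrank ℂ ↥(LinearMap.ker (Matrix.toLin' A - LinearMap.id)) = 3)
    (hAp : A.mulVec p = -p)
    (hc : ∃ c : ℂ, aeval (fun i : Fin 4 => ∑ j : Fin 4, C (A i j) * X j) f = C c * f) :
    ∃ (L : (Fin 4 → ℂ) →ₗ[ℂ] ℂ) (w₀ w₁ m : Fin 4 → ℂ),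
      (∀ w : Fin 4 → ℂ, A.mulVec w = w → ∀ x : ℂ, eval (w + x • p) f = eval w f + x ^ 2 * L w) ∧
      A.mulVec w₀ = w₀ ∧ A.mulVec w₁ = w₁ ∧ A.mulVec m = m ∧ L w₀ = 0 ∧ L w₁ = 0 ∧ L m = 1 ∧
      (∀ a b : ℂ, a • w₀ + b • w₁ = 0 → a = 0 ∧ b = 0) := by
  obtain ⟨c, hc⟩ := hc
  have hinv := invariant f hf hf0 hsm A h3 c hc
  obtain ⟨L, hL⟩ := taylor_even f hf p
  have hb : ∀ w : Fin 4 → ℂ, A.mulVec w = w → ∀ x : ℂ,
      eval (w + x • p) f = eval w f + x ^ 2 * L w := by
    intro w hw
    apply hL w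
    intro x
    rw [← hinv (w + x • p), Matrix.mulVec_add, Matrix.mulVec_smul, hw, hAp, smul_neg, neg_smul]
  have hLne : ∃ m : Fin 4 → ℂ, A.mulVec m = m ∧ L m = 1 := by
    by_contra hcon
    have hL0 : ∀ w : Fin 4 → ℂ, A.mulVec w = w → L w = 0 := by
      intro w hw
      by_contra h
      apply hcon
      exact ⟨(L w)⁻¹ • w, by rw [Matrix.mulVec_smul, hw],
        by rw [map_smul, smul_eq_mul, inv_mul_cancel₀ h]⟩
    obtain ⟨i, hi⟩ := hsm p hp hfp
    apply hi
    rw [← dd_single]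
    obtain ⟨w, x, hw, hwx⟩ := decomp A p hAA h3 hp hAp (Pi.single i 1)
    rw [hwx, dd_add, dd_smul]
    have h1 : dd f p w = 0 := by
      have := dd_of_fun f p w (Polynomial.C (eval w f) * Polynomial.X ^ 3) (by
        intro t
        have e : p + t • w = t • w + (1 : ℂ) • p := by rw [one_smul, add_comm]
        have hAtw : A.mulVec (t • w) = t • w := by rw [Matrix.mulVec_smul, hw]
        rw [e, hb (t • w) hAtw 1, hL0 (t • w) hAtw,
          Groth.Agent.S12424.eval_smul_of_homog hf]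
        simp only [Polynomial.eval_mul, Polynomial.eval_C, Polynomial.eval_pow, Polynomial.eval_X]
        ring)
      rw [this]
      simp
    have h2 : dd f p p = 0 := by
      have := dd_of_fun f p p 0 (by
        intro t
        have e : p + t • p = (0 : Fin 4 → ℂ) + (1 + t) • p := by
          rw [zero_add, add_smul, one_smul]
        rw [e, hb 0 (by rw [Matrix.mulVec_zero]) (1 + t), map_zero, eval_zero_homog f hf]
        simp)
      rw [this]
      simp
    rw [h1, h2]
    ring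
  obtain ⟨m, hm, hLm⟩ := hLne
  set Vp := LinearMap.ker (Matrix.toLin' A - LinearMap.id) with hVp
  set K : Submodule ℂ (Fin 4 → ℂ) := Vp ⊓ LinearMap.ker L with hK
  have hKdim : 2 ≤ Module.finrank ℂ ↥K := by
    rw [hK]
    have h1 := Submodule.finrank_sup_add_finrank_inf_eq Vp (LinearMap.ker L)
    have h2 := LinearMap.finrank_range_add_finrank_ker L
    have h4 : Module.finrank ℂ ↥(LinearMap.range L) ≤ 1 := by
      have := Submodule.finrank_le (LinearMap.range L)
      rwa [Module.finrank_self] at this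
    have h5 : Module.finrank ℂ ↥(Vp ⊔ LinearMap.ker L) ≤ 4 := by
      have := Submodule.finrank_le (Vp ⊔ LinearMap.ker L)
      rwa [Module.finrank_fintype_fun_eq_card, Fintype.card_fin] at this
    rw [Module.finrank_fintype_fun_eq_card, Fintype.card_fin] at h2
    rw [h3] at h1
    omega
  have hKA : ∀ x : ↥K, A.mulVec (x : Fin 4 → ℂ) = x := fun x => (mem_Vp A _).mp x.2.1
  have hKL : ∀ x : ↥K, L (x : Fin 4 → ℂ) = 0 := fun x => LinearMap.mem_ker.mp x.2.2
  obtain ⟨x, hx⟩ := (Module.finrank_pos_iff_exists_ne_zero (R := ℂ) (M := ↥K)).mp (by omega)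
  obtain ⟨y, hy⟩ := exists_linearIndependent_pair_of_one_lt_finrank (R := ℂ) (M := ↥K)
    (by omega) hx
  refine ⟨L, x, y, m, hb, hKA x, hKA y, hm, hKL x, hKL y, hLm, ?_⟩
  intro a b hab
  rw [LinearIndependent.pair_iff] at hy
  apply hy a b
  apply Subtype.ext
  simpa using hab

/-- the Eckardt involution of `e` fixes the other Eckardt point `e'` on a common line -/
theorem fixes (f : MvPolynomial (Fin 4) ℂ) (hf : f.IsHomogeneous 3)
    (hf0 : f ≠ 0) (hsm : ∀ v : Fin 4 → ℂ, v ≠ 0 → eval v f = 0 → ∃ i : Fin 4, eval v (pderiv i f) ≠ 0)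
    (e e' : Fin 4 → ℂ) (he : e ≠ 0) (he' : e' ∉ Submodule.span ℂ {e})
    (hE' : (∃ U : Fin 3 → Submodule ℂ (Fin 4 → ℂ), Function.Injective U ∧
        ∀ i : Fin 3, Module.finrank ℂ ↥(U i) = 2 ∧ e' ∈ U i ∧ ∀ u ∈ U i, eval u f = 0))
    (hL : ∀ u ∈ Submodule.span ℂ {e, e'}, eval u f = 0)
    (A : Matrix (Fin 4) (Fin 4) ℂ)
    (hA : A * A = 1 ∧ Module.finrank ℂ ↥(LinearMap.ker (Matrix.toLin' A - LinearMap.id)) = 3 ∧
        A.mulVec e = -e ∧ ∃ c : ℂ, aeval (fun i : Fin 4 => ∑ j : Fin 4, C (A i j) * X j) f = C c * f) :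
    A.mulVec e' = e' := by
  obtain ⟨hAA, h3, hAe, hc⟩ := hA
  have hfe : eval e f = 0 := hL e (Submodule.subset_span (by simp))
  have hfe' : eval e' f = 0 := hL e' (Submodule.subset_span (by simp))
  have he'0 : e' ≠ 0 := by
    rintro rfl
    exact he' (Submodule.zero_mem _)
  obtain ⟨L, w₀, w₁, m, hb, hw₀, hw₁, hm, hL0, hL1, hLm, hind⟩ :=
    frame f hf hf0 hsm A e he hfe hAA h3 hAe hc
  obtain ⟨w', x', hw', hew⟩ := decomp A e hAA h3 he hAe e'
  have hw'0 : w' ≠ 0 := by
    rintro rfl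
    apply he'
    rw [hew, zero_add]
    exact Submodule.smul_mem _ _ (Submodule.subset_span rfl)
  -- the line lies on S
  have hw'mem : ∀ t : ℂ, w' + t • e ∈ Submodule.span ℂ ({e, e'} : Set (Fin 4 → ℂ)) := by
    intro t
    have e1 : w' + t • e = e' + (t - x') • e := by rw [hew, sub_smul]; abel
    rw [e1]
    exact Submodule.add_mem _ (Submodule.subset_span (by simp))
      (Submodule.smul_mem _ _ (Submodule.subset_span (by simp)))
  have hfw' : eval w' f = 0 := by
    have := hL _ (hw'mem 0)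
    simpa using this
  have hLw' : L w' = 0 := by
    have := hL _ (hw'mem 1)
    rw [hb w' hw' 1, hfw'] at this
    simpa using this
  -- expansion at e'
  have hexp : ∀ (u : Fin 4 → ℂ), A.mulVec u = u → ∀ y : ℂ,
      lineP f e' (u + y • e) = lineP f w' u +
        (Polynomial.C (x' ^ 2 * L u) * Polynomial.X + Polynomial.C (2 * x' * y * L u) * Polynomial.X ^ 2
          + Polynomial.C (y ^ 2 * L u) * Polynomial.X ^ 3) := by
    intro u hu y
    apply Polynomial.funext
    intro τ
    rw [lineP_eval]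
    have e1 : e' + τ • (u + y • e) = (w' + τ • u) + (x' + τ * y) • e := by
      rw [hew, smul_add, smul_smul, add_smul]; abel
    rw [e1, hb (w' + τ • u) (by rw [Matrix.mulVec_add, Matrix.mulVec_smul, hw', hu]),
      map_add, map_smul, hLw', ← lineP_eval]
    simp only [Polynomial.eval_add, Polynomial.eval_mul, Polynomial.eval_C, Polynomial.eval_pow,
      Polynomial.eval_X, smul_eq_mul]
    ring
  have hdd : ∀ (u : Fin 4 → ℂ), A.mulVec u = u → ∀ y : ℂ,
      dd f e' (u + y • e) = dd f w' u + x' ^ 2 * L u := by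
    intro u hu y
    rw [← coeff_one, hexp u hu y, Polynomial.coeff_add, (coeff_cubic _ _ _).1, coeff_one]
  have hqq : ∀ (u : Fin 4 → ℂ), A.mulVec u = u → ∀ y : ℂ,
      (lineP f e' (u + y • e)).coeff 2 = (lineP f w' u).coeff 2 + 2 * x' * y * L u := by
    intro u hu y
    rw [hexp u hu y, Polynomial.coeff_add, (coeff_cubic _ _ _).2]
  have hquad := eckardt_quadric f hf hsm e' he'0 hfe' hE'
  -- find u in H with φ u = 0 and L u ≠ 0
  have hex : ∃ u : Fin 4 → ℂ, A.mulVec u = u ∧ dd f w' u + x' ^ 2 * L u = 0 ∧ L u ≠ 0 := by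
    by_contra hcon
    push Not at hcon
    set κ : ℂ := dd f w' m + x' ^ 2 * L m with hκ
    have hφ : ∀ u : Fin 4 → ℂ, A.mulVec u = u → dd f w' u + x' ^ 2 * L u = κ * L u := by
      intro u hu
      have h1 := hcon (κ • u - (dd f w' u + x' ^ 2 * L u) • m)
        (by rw [Matrix.mulVec_sub, Matrix.mulVec_smul, Matrix.mulVec_smul, hu, hm])
        (by
          rw [sub_eq_add_neg, ← neg_smul, dd_add, dd_smul, dd_smul, map_add, map_smul, map_smul,
            hκ]
          simp only [smul_eq_mul]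
          ring)
      rw [map_sub, map_smul, map_smul, hLm] at h1
      simp only [smul_eq_mul, mul_one] at h1
      linear_combination -h1
    -- singular point at w' (frame of bad_point with L-values)
    have hd0 : dd f w' w₀ = 0 := by
      have := hφ w₀ hw₀
      rw [hL0] at this
      linear_combination this
    have hd1 : dd f w' w₁ = 0 := by
      have := hφ w₁ hw₁
      rw [hL1] at this
      linear_combination this
    exact bad_point f hsm A e hAe L hb w₀ w₁ m hw₀ hw₁ hm hL0 hL1 hLm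
      (span4 A e he hAe L w₀ w₁ m hw₀ hw₁ hm hL0 hL1 hLm hind)
      w' hw' hLw' hw'0 hfw' hd0 hd1
  obtain ⟨u, hu, hφu, hLu⟩ := hex
  have h0 := hquad (u + (0 : ℂ) • e) (by rw [hdd u hu 0]; exact hφu)
  have h1 := hquad (u + (1 : ℂ) • e) (by rw [hdd u hu 1]; exact hφu)
  rw [hqq u hu 0] at h0
  rw [hqq u hu 1] at h1
  have hx'0 : x' = 0 := by
    have : 2 * x' * L u = 0 := by linear_combination h1 - h0
    rcases mul_eq_zero.mp this with h | h
    · exact (mul_eq_zero.mp h).resolve_left two_ne_zero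
    · exact absurd h hLu
  rw [hew, hx'0, zero_smul, add_zero]
  exact hw'

theorem reflect_form (A : Matrix (Fin 4) (Fin 4) ℂ) (p : Fin 4 → ℂ) (hAA : A * A = 1)
    (h3 : Module.finrank ℂ ↥(LinearMap.ker (Matrix.toLin' A - LinearMap.id)) = 3)
    (hp : p ≠ 0) (hAp : A.mulVec p = -p) (v : Fin 4 → ℂ) :
    ∃ x : ℂ, A.mulVec v = v - (2 * x) • p := by
  obtain ⟨w, x, hw, hv⟩ := decomp A p hAA h3 hp hAp v
  refine ⟨x, ?_⟩
  rw [hv, Matrix.mulVec_add, Matrix.mulVec_smul, hw, hAp, mul_smul, two_smul, smul_neg]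
  abel

end hh

end helpers

open MvPolynomial in
/-- Let f be a nonzero homogeneous cubic in four variables over ℂ whose surface S = V_+(f) ⊂ P³ is
smooth (at every nonzero zero of f some partial derivative is nonzero); a line on S is a
2-dimensional subspace of ℂ⁴ on which f vanishes, and an Eckardt point of S is a nonzero vector
lying on three distinct lines on S. Let e, e′ be non-proportional Eckardt points of S such that f
vanishes on their span (the line joining them lies on S), and let A, A′ be their Eckardt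
involutions: an involutory matrix A (A² = 1) whose +1-eigenspace is a hyperplane and with A·e = −e,
such that the substitution X_i ↦ Σ_j A_ij X_j multiplies f by a constant — that is, a projective
involution preserving S whose fixed locus is the disjoint union of a plane and the point of e, and
likewise A′ for e′. Then the two involutions commute as projective transformations (A·A′ is a scalar
multiple of A′·A) and each fixes the other point (A·e′ is proportional to e′ and A′·e to e). -/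
theorem result (f : MvPolynomial (Fin 4) ℂ) (hf : f.IsHomogeneous 3)
    (hf0 : f ≠ 0) (hsm : ∀ v : Fin 4 → ℂ, v ≠ 0 → eval v f = 0 → ∃ i : Fin 4, eval v (pderiv i f) ≠ 0)
    (e e' : Fin 4 → ℂ) (he : e ≠ 0) (he' : e' ∉ Submodule.span ℂ {e})
    (hE : (∃ U : Fin 3 → Submodule ℂ (Fin 4 → ℂ), Function.Injective U ∧
        ∀ i : Fin 3, Module.finrank ℂ ↥(U i) = 2 ∧ e ∈ U i ∧ ∀ u ∈ U i, eval u f = 0))
    (hE' : (∃ U : Fin 3 → Submodule ℂ (Fin 4 → ℂ), Function.Injective U ∧
        ∀ i : Fin 3, Module.finrank ℂ ↥(U i) = 2 ∧ e' ∈ U i ∧ ∀ u ∈ U i, eval u f = 0))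
    (hL : ∀ u ∈ Submodule.span ℂ {e, e'}, eval u f = 0)
    (A A' : Matrix (Fin 4) (Fin 4) ℂ)
    (hA : A * A = 1 ∧ Module.finrank ℂ ↥(LinearMap.ker (Matrix.toLin' A - LinearMap.id)) = 3 ∧
        A.mulVec e = -e ∧ ∃ c : ℂ, aeval (fun i : Fin 4 => ∑ j : Fin 4, C (A i j) * X j) f = C c * f)
    (hA' : A' * A' = 1 ∧ Module.finrank ℂ ↥(LinearMap.ker (Matrix.toLin' A' - LinearMap.id)) = 3 ∧
        A'.mulVec e' = -e' ∧ ∃ c : ℂ, aeval (fun i : Fin 4 => ∑ j : Fin 4, C (A' i j) * X j) f = C c * f) :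
    (∃ c : ℂ, A * A' = c • (A' * A)) ∧ (∃ d : ℂ, A.mulVec e' = d • e') ∧ (∃ d : ℂ, A'.mulVec e = d • e) := by
  have he'0 : e' ≠ 0 := by
    rintro rfl
    exact he' (Submodule.zero_mem _)
  have hee' : e ∉ Submodule.span ℂ {e'} := by
    intro h
    rw [Submodule.mem_span_singleton] at h
    obtain ⟨c, hc⟩ := h
    have hc0 : c ≠ 0 := by
      rintro rfl
      rw [zero_smul] at hc
      exact he hc.symm
    apply he'
    rw [Submodule.mem_span_singleton]
    refine ⟨c⁻¹, ?_⟩
    rw [← hc, smul_smul, inv_mul_cancel₀ hc0, one_smul]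
  have hL' : ∀ u ∈ Submodule.span ℂ {e', e}, eval u f = 0 := by
    intro u hu
    rw [Set.pair_comm] at hu
    exact hL u hu
  have h1 : A.mulVec e' = e' := fixes f hf hf0 hsm e e' he he' hE' hL A hA
  have h2 : A'.mulVec e = e := fixes f hf hf0 hsm e' e he'0 hee' hE hL' A' hA'
  refine ⟨⟨1, ?_⟩, ⟨1, by rw [h1, one_smul]⟩, ⟨1, by rw [h2, one_smul]⟩⟩
  rw [one_smul]
  obtain ⟨hAA, h3, hAe, -⟩ := hA
  obtain ⟨hAA', h3', hAe', -⟩ := hA'
  have hcomm : ∀ v : Fin 4 → ℂ, (A * A').mulVec v = (A' * A).mulVec v := by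
    intro v
    obtain ⟨x, hx⟩ := reflect_form A e hAA h3 he hAe v
    obtain ⟨x', hx'⟩ := reflect_form A' e' hAA' h3' he'0 hAe' v
    rw [← Matrix.mulVec_mulVec, ← Matrix.mulVec_mulVec, hx, hx', Matrix.mulVec_sub,
      Matrix.mulVec_sub, Matrix.mulVec_smul, Matrix.mulVec_smul, h1, h2, hx, hx']
    abel
  ext i j
  have := congrFun (hcomm (Pi.single j 1)) i
  simpa using this

end Groth.Agent.S18410
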