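import Groth.Statements.S18407
import Mathlib
import Groth.Agent.S18410
import Groth.Agent.S16352

set_option autoImplicit false
universe u
open Cubic

namespace Groth.Agent.S18407

section helpers
section hh
open MvPolynomial
open Groth.Agent.S18408 Groth.Agent.S18410

theorem coeff_rev' (f : MvPolynomial (Fin 4) ℂ) (hf : f.IsHomogeneous 3) (u v : Fin 4 → ℂ)
    (k : ℕ) (hk : k ≤ 3) :
    (lineP f u v).coeff k = (lineP f v u).coeff (3 - k) :=
  Groth.Agent.S16352.coeff_rev f 3 hf u v k hk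

/-- expansion of `f` along the direction of a point `e` of the surface -/
theorem expand_e (f : MvPolynomial (Fin 4) ℂ) (hf : f.IsHomogeneous 3) (e v : Fin 4 → ℂ)
    (hfe : eval e f = 0) (x : ℂ) :
    eval (v + x • e) f = eval v f + x * (hess f e v v / 2) + x ^ 2 * dd f e v := by
  have c1 : (lineP f v e).coeff 1 = hess f e v v / 2 := by
    rw [coeff_rev' f hf v e 1 (by norm_num)]
    have : (3 : ℕ) - 1 = 2 := rfl
    rw [this, ← two_coeff_two]; ring
  have c2 : (lineP f v e).coeff 2 = dd f e v := by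
    rw [coeff_rev' f hf v e 2 (by norm_num)]
    have : (3 : ℕ) - 2 = 1 := rfl
    rw [this, Groth.Agent.S18410.coeff_one]
  have c3 : (lineP f v e).coeff 3 = 0 := by
    rw [lineP_coeff_three f hf v e, hfe]
  rw [← lineP_eval, lineP_expand f hf v e x, Groth.Agent.S18410.coeff_zero, c1, c2, c3]
  ring

theorem dd_self (f : MvPolynomial (Fin 4) ℂ) (hf : f.IsHomogeneous 3) (e : Fin 4 → ℂ)
    (hfe : eval e f = 0) : dd f e e = 0 := by
  have := dd_of_fun f e e 0 (by
    intro t
    have h : e + t • e = (1 + t) • e := by rw [add_smul, one_smul]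
    rw [h, Groth.Agent.S12424.eval_smul_of_homog hf, hfe]; simp)
  rw [this]; simp

theorem exists_mu (f : MvPolynomial (Fin 4) ℂ) (hf : f.IsHomogeneous 3)
    (hsm : ∀ v : Fin 4 → ℂ, v ≠ 0 → eval v f = 0 → ∃ i : Fin 4, eval v (pderiv i f) ≠ 0)
    (e : Fin 4 → ℂ) (he : e ≠ 0) (hfe : eval e f = 0)
    (hE : (∃ U : Fin 3 → Submodule ℂ (Fin 4 → ℂ), Function.Injective U ∧
        ∀ i : Fin 3, Module.finrank ℂ ↥(U i) = 2 ∧ e ∈ U i ∧ ∀ u ∈ U i, eval u f = 0)) :
    ∃ μ : (Fin 4 → ℂ) →ₗ[ℂ] ℂ, (∀ v, hess f e v v / 2 = dd f e v * μ v) ∧ μ e = 2 := by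
  have hquad := eckardt_quadric f hf hsm e he hfe hE
  have hq0 : ∀ u : Fin 4 → ℂ, dd f e u = 0 → hess f e u u = 0 := by
    intro u hu
    rw [← two_coeff_two, hquad u hu, mul_zero]
  obtain ⟨i₀, hi₀⟩ := hsm e he hfe
  set v₀ : Fin 4 → ℂ := (eval e (pderiv i₀ f))⁻¹ • Pi.single i₀ 1 with hv₀
  have hdv₀ : dd f e v₀ = 1 := by
    rw [hv₀, dd_smul, dd_single, inv_mul_cancel₀ hi₀]
  let dL : (Fin 4 → ℂ) →ₗ[ℂ] ℂ :=
    { toFun := dd f e
      map_add' := dd_add f e
      map_smul' := fun a v => by rw [dd_smul]; rfl }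
  let hR : (Fin 4 → ℂ) →ₗ[ℂ] ℂ :=
    { toFun := fun u => hess f e u v₀
      map_add' := fun u u' => by
        have := hess_lin_left f e 1 1 u u' v₀
        simpa using this
      map_smul' := fun a u => by
        have := hess_lin_left f e a 0 u 0 v₀
        simpa using this }
  let hLf : (Fin 4 → ℂ) →ₗ[ℂ] ℂ :=
    { toFun := fun u => hess f e v₀ u
      map_add' := fun u u' => by
        have := hess_lin_right f e 1 1 v₀ u u'
        simpa using this
      map_smul' := fun a u => by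
        have := hess_lin_right f e a 0 v₀ u 0
        simpa using this }
  set μ : (Fin 4 → ℂ) →ₗ[ℂ] ℂ :=
    (1 / 2 : ℂ) • ((hR + hLf).comp (LinearMap.id - dL.smulRight v₀))
      + (hess f e v₀ v₀ / 2) • dL with hμ
  have hμv : ∀ v : Fin 4 → ℂ, μ v = (1 / 2 : ℂ) * (hess f e (v - dd f e v • v₀) v₀
      + hess f e v₀ (v - dd f e v • v₀)) + hess f e v₀ v₀ / 2 * dd f e v := by
    intro v
    rfl
  have h1 : ∀ v, hess f e v v / 2 = dd f e v * μ v := by
    intro v
    set t := dd f e v with ht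
    set u := v - t • v₀ with hu
    have hdu : dd f e u = 0 := by
      rw [hu, sub_eq_add_neg, ← neg_smul, dd_add, dd_smul, hdv₀, ← ht]; ring
    have huu := hq0 u hdu
    have hv : v = (1 : ℂ) • u + t • v₀ := by rw [hu, one_smul]; abel
    have hexp : hess f e v v = hess f e u u + t * (hess f e u v₀ + hess f e v₀ u)
        + t ^ 2 * hess f e v₀ v₀ := by
      conv_lhs => rw [hv, hess_lin_left, hess_lin_right, hess_lin_right]
      ring
    rw [hμv v, ← ht, ← hu, hexp, huu]
    ring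
  refine ⟨μ, h1, ?_⟩
  have hde : dd f e e = 0 := dd_self f hf e hfe
  have E1 := expand_e f hf e v₀ hfe 2
  have E2 := expand_e f hf e (v₀ + e) hfe 1
  have E3 := expand_e f hf e v₀ hfe 1
  have hvec : v₀ + (2 : ℂ) • e = (v₀ + e) + (1 : ℂ) • e := by
    rw [two_smul, one_smul]; abel
  rw [hvec] at E1
  rw [h1 v₀, hdv₀] at E1 E3
  rw [h1 (v₀ + e), dd_add, hdv₀, hde, map_add] at E2
  rw [one_smul] at E3
  rw [E3] at E2
  rw [E2] at E1
  linear_combination E1

noncomputable def invol (e : Fin 4 → ℂ) (μ : (Fin 4 → ℂ) →ₗ[ℂ] ℂ) : Matrix (Fin 4) (Fin 4) ℂ :=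
  1 - Matrix.vecMulVec e (fun j => μ (Pi.single j 1))

theorem invol_mulVec (e : Fin 4 → ℂ) (μ : (Fin 4 → ℂ) →ₗ[ℂ] ℂ) (v : Fin 4 → ℂ) :
    (invol e μ).mulVec v = v - μ v • e := by
  unfold invol
  rw [Matrix.sub_mulVec, Matrix.one_mulVec]
  congr 1
  funext i
  rw [← Groth.Agent.S16352.lin_of_map μ v]
  simp only [Matrix.mulVec, dotProduct, Matrix.vecMulVec_apply, Pi.smul_apply, smul_eq_mul]
  rw [Finset.sum_mul]
  refine Finset.sum_congr rfl fun j _ => ?_
  ring

theorem matrix_ext_mulVec (A B : Matrix (Fin 4) (Fin 4) ℂ)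
    (h : ∀ v : Fin 4 → ℂ, A.mulVec v = B.mulVec v) : A = B := by
  ext i j
  have := congrFun (h (Pi.single j 1)) i
  simpa using this

/-- properties of the involution built from `μ` -/
theorem invol_props (f : MvPolynomial (Fin 4) ℂ) (hf : f.IsHomogeneous 3)
    (e : Fin 4 → ℂ) (he : e ≠ 0) (hfe : eval e f = 0)
    (μ : (Fin 4 → ℂ) →ₗ[ℂ] ℂ) (hμ1 : ∀ v, hess f e v v / 2 = dd f e v * μ v) (hμ2 : μ e = 2) :
    invol e μ * invol e μ = 1 ∧
      Module.finrank ℂ ↥(LinearMap.ker (Matrix.toLin' (invol e μ) - LinearMap.id)) = 3 ∧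
      (invol e μ).mulVec e = -e ∧
      aeval (fun i : Fin 4 => ∑ j : Fin 4, C (invol e μ i j) * X j) f = C 1 * f := by
  refine ⟨?_, ?_, ?_, ?_⟩
  · apply matrix_ext_mulVec
    intro v
    rw [← Matrix.mulVec_mulVec, invol_mulVec, invol_mulVec, Matrix.one_mulVec, map_sub, map_smul,
      hμ2, smul_eq_mul]
    have h2 : μ v - μ v * 2 = -(μ v) := by ring
    rw [h2, neg_smul]
    abel
  · have hker : LinearMap.ker (Matrix.toLin' (invol e μ) - LinearMap.id) = LinearMap.ker μ := by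
      ext v
      rw [mem_Vp, invol_mulVec, LinearMap.mem_ker]
      constructor
      · intro h
        have h' : μ v • e = 0 := by
          have := sub_eq_self.mp h
          exact this
        rcases smul_eq_zero.mp h' with h0 | h0
        · exact h0
        · exact absurd h0 he
      · intro h
        rw [h, zero_smul, sub_zero]
    rw [hker]
    have hsurj : LinearMap.range μ = ⊤ := by
      apply LinearMap.range_eq_top.mpr
      intro c
      refine ⟨(c / 2) • e, ?_⟩
      rw [map_smul, hμ2, smul_eq_mul]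
      ring
    have := LinearMap.finrank_range_add_finrank_ker μ
    rw [hsurj, finrank_top, Module.finrank_self, Module.finrank_fintype_fun_eq_card,
      Fintype.card_fin] at this
    omega
  · rw [invol_mulVec, hμ2, two_smul]
    abel
  · apply MvPolynomial.funext
    intro v
    rw [eval_subst, invol_mulVec, map_mul, eval_C, one_mul, sub_eq_add_neg, ← neg_smul,
      expand_e f hf e v hfe, hμ1 v]
    ring

theorem unique_invol (f : MvPolynomial (Fin 4) ℂ) (hf : f.IsHomogeneous 3)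
    (hf0 : f ≠ 0) (hsm : ∀ v : Fin 4 → ℂ, v ≠ 0 → eval v f = 0 → ∃ i : Fin 4, eval v (pderiv i f) ≠ 0)
    (e : Fin 4 → ℂ) (he : e ≠ 0) (hfe : eval e f = 0)
    (μ : (Fin 4 → ℂ) →ₗ[ℂ] ℂ) (hμ1 : ∀ v, hess f e v v / 2 = dd f e v * μ v) (hμ2 : μ e = 2)
    (A' : Matrix (Fin 4) (Fin 4) ℂ)
    (hA' : A' * A' = 1 ∧ Module.finrank ℂ ↥(LinearMap.ker (Matrix.toLin' A' - LinearMap.id)) = 3 ∧
        A'.mulVec e = -e ∧ ∃ c : ℂ, aeval (fun i : Fin 4 => ∑ j : Fin 4, C (A' i j) * X j) f = C c * f) :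
    A' = invol e μ := by
  obtain ⟨hAA, h3, hAe, c, hc⟩ := hA'
  have hinv := invariant f hf hf0 hsm A' h3 c hc
  obtain ⟨i₀, hi₀⟩ := hsm e he hfe
  have hkey : ∀ w : Fin 4 → ℂ, A'.mulVec w = w → dd f e w * μ w = 0 := by
    intro w hw
    have h1 := expand_e f hf e w hfe 1
    have h2 := expand_e f hf e w hfe (-1)
    have h3' : eval (w + (-1 : ℂ) • e) f = eval (w + (1 : ℂ) • e) f := by
      rw [← hinv (w + (1 : ℂ) • e), Matrix.mulVec_add, Matrix.mulVec_smul, hw, hAe]
      congr 2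
      simp
    rw [h1, h2, hμ1 w] at h3'
    linear_combination (-1 / 2 : ℂ) * h3'
  have hμH : ∀ w : Fin 4 → ℂ, A'.mulVec w = w → μ w = 0 := by
    by_contra hcon
    push Not at hcon
    obtain ⟨w₁, hw₁, hμw₁⟩ := hcon
    have hd1 : dd f e w₁ = 0 := (mul_eq_zero.mp (hkey w₁ hw₁)).resolve_right hμw₁
    have hdH : ∀ w : Fin 4 → ℂ, A'.mulVec w = w → dd f e w = 0 := by
      intro w hw
      by_cases hμw : μ w = 0
      · have hw2 : A'.mulVec (w + w₁) = w + w₁ := by rw [Matrix.mulVec_add, hw, hw₁]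
        have := hkey (w + w₁) hw2
        rw [dd_add, hd1, add_zero, map_add, hμw, zero_add] at this
        exact (mul_eq_zero.mp this).resolve_right hμw₁
      · exact (mul_eq_zero.mp (hkey w hw)).resolve_right hμw
    obtain ⟨w, x, hw, hwx⟩ := decomp A' e hAA h3 he hAe (Pi.single i₀ 1)
    apply hi₀
    rw [← dd_single, hwx, dd_add, dd_smul, hdH w hw, dd_self f hf e hfe]
    ring
  apply matrix_ext_mulVec
  intro v
  obtain ⟨w, x, hw, hv⟩ := decomp A' e hAA h3 he hAe v
  rw [invol_mulVec, hv, Matrix.mulVec_add, Matrix.mulVec_smul, hw, hAe, map_add, map_smul,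
    hμH w hw, hμ2, zero_add, smul_eq_mul, mul_two, add_smul, smul_neg]
  abel

end hh

end helpers

open MvPolynomial in
/-- Let f be a nonzero homogeneous cubic in four variables over ℂ whose surface S = V_+(f) ⊂ P³ is
smooth (at every nonzero zero of f some partial derivative is nonzero); a line on S is a
2-dimensional subspace of ℂ⁴ on which f vanishes, and an Eckardt point of S is a nonzero vector
lying on three distinct lines on S. If e is an Eckardt point of S, there is exactly one involutory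
matrix A (A² = 1) whose +1-eigenspace is a hyperplane and with A·e = −e, such that the substitution
X_i ↦ Σ_j A_ij X_j multiplies f by a constant — that is, a projective involution preserving S whose
fixed locus is the disjoint union of a plane and the point of e. (Normalising A² = 1 and A·e = −e
singles out one matrix in the class of the involution.) -/
theorem result (f : MvPolynomial (Fin 4) ℂ) (hf : f.IsHomogeneous 3)
    (hf0 : f ≠ 0) (hsm : ∀ v : Fin 4 → ℂ, v ≠ 0 → eval v f = 0 → ∃ i : Fin 4, eval v (pderiv i f) ≠ 0)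
    (e : Fin 4 → ℂ) (he : e ≠ 0)
    (hE : (∃ U : Fin 3 → Submodule ℂ (Fin 4 → ℂ), Function.Injective U ∧
        ∀ i : Fin 3, Module.finrank ℂ ↥(U i) = 2 ∧ e ∈ U i ∧ ∀ u ∈ U i, eval u f = 0)) :
    ∃! A : Matrix (Fin 4) (Fin 4) ℂ, A * A = 1 ∧ Module.finrank ℂ ↥(LinearMap.ker (Matrix.toLin' A - LinearMap.id)) = 3 ∧
        A.mulVec e = -e ∧ ∃ c : ℂ, aeval (fun i : Fin 4 => ∑ j : Fin 4, C (A i j) * X j) f = C c * f := by
  have hfe : eval e f = 0 := by
    obtain ⟨U, -, hU⟩ := hE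
    exact (hU 0).2.2 e (hU 0).2.1
  obtain ⟨μ, hμ1, hμ2⟩ := exists_mu f hf hsm e he hfe hE
  obtain ⟨p1, p2, p3, p4⟩ := invol_props f hf e he hfe μ hμ1 hμ2
  refine ⟨invol e μ, ⟨p1, p2, p3, 1, p4⟩, ?_⟩
  intro A' hA'
  exact unique_invol f hf hf0 hsm e he hfe μ hμ1 hμ2 A' hA'

end Groth.Agent.S18407
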