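import Groth.Statements.S18409
import Mathlib
import Groth.Agent.S18407

set_option autoImplicit false
universe u
open Cubic

namespace Groth.Agent.S18409

section helpers
section hh
open MvPolynomial
open Groth.Agent.S18408 Groth.Agent.S18410 Groth.Agent.S18407

/-- restriction of `f` to the line through two points of the surface, the first an Eckardt point -/
theorem g_formula (f : MvPolynomial (Fin 4) ℂ) (hf : f.IsHomogeneous 3) (e e' : Fin 4 → ℂ)
    (hfe : eval e f = 0) (hfe' : eval e' f = 0)
    (μ : (Fin 4 → ℂ) →ₗ[ℂ] ℂ) (hμ1 : ∀ v, hess f e v v / 2 = dd f e v * μ v) (s t : ℂ) :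
    eval (s • e + t • e') f = s * t * dd f e e' * (t * μ e' + s) := by
  rw [add_comm, expand_e f hf e (t • e') hfe s, hμ1, dd_smul, map_smul,
    Groth.Agent.S12424.eval_smul_of_homog hf, hfe', smul_eq_mul]
  ring

theorem pair_rel (f : MvPolynomial (Fin 4) ℂ) (hf : f.IsHomogeneous 3) (e e' : Fin 4 → ℂ)
    (hfe : eval e f = 0) (hfe' : eval e' f = 0)
    (μ : (Fin 4 → ℂ) →ₗ[ℂ] ℂ) (hμ1 : ∀ v, hess f e v v / 2 = dd f e v * μ v)
    (μ' : (Fin 4 → ℂ) →ₗ[ℂ] ℂ) (hμ'1 : ∀ v, hess f e' v v / 2 = dd f e' v * μ' v) :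
    dd f e' e = dd f e e' * μ e' ∧ dd f e e' = dd f e' e * μ' e := by
  have h1 := fun s t => g_formula f hf e e' hfe hfe' μ hμ1 s t
  have h2 : ∀ s t : ℂ, eval (s • e + t • e') f = t * s * dd f e' e * (s * μ' e + t) := fun s t => by
    rw [add_comm (s • e) (t • e')]
    exact g_formula f hf e' e hfe' hfe μ' hμ'1 t s
  have a := h1 1 1
  have b := h2 1 1
  have a' := h1 1 (-1)
  have b' := h2 1 (-1)
  rw [a] at b
  rw [a'] at b'
  constructor
  · linear_combination (-1 / 2 : ℂ) * b + (-1 / 2 : ℂ) * b'
  · linear_combination (1 / 2 : ℂ) * b - (1 / 2 : ℂ) * b'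

theorem indep (e e' : Fin 4 → ℂ) (he : e ≠ 0) (he' : e' ∉ Submodule.span ℂ {e}) (a b : ℂ)
    (h : a • e + b • e' = 0) : a = 0 ∧ b = 0 := by
  have hb : b = 0 := by
    by_contra hb
    apply he'
    rw [Submodule.mem_span_singleton]
    refine ⟨-a / b, ?_⟩
    have h' : b • e' = -(a • e) := eq_neg_of_add_eq_zero_right h
    calc (-a / b) • e = b⁻¹ • (-(a • e)) := by rw [div_eq_inv_mul, mul_smul, neg_smul]
      _ = b⁻¹ • (b • e') := by rw [h']
      _ = e' := by rw [smul_smul, inv_mul_cancel₀ hb, one_smul]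
  subst hb
  rw [zero_smul, add_zero] at h
  exact ⟨(smul_eq_zero.mp h).resolve_right he, rfl⟩

/-- a linear involution preserving `f` maps Eckardt points to Eckardt points -/
theorem eckardt_image (f : MvPolynomial (Fin 4) ℂ) (A : Matrix (Fin 4) (Fin 4) ℂ) (hAA : A * A = 1)
    (hinv : ∀ v, eval (A.mulVec v) f = eval v f) (e' : Fin 4 → ℂ)
    (hE' : ∃ U : Fin 3 → Submodule ℂ (Fin 4 → ℂ), Function.Injective U ∧
        ∀ i : Fin 3, Module.finrank ℂ ↥(U i) = 2 ∧ e' ∈ U i ∧ ∀ u ∈ U i, eval u f = 0) :
    ∃ U : Fin 3 → Submodule ℂ (Fin 4 → ℂ), Function.Injective U ∧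
        ∀ i : Fin 3, Module.finrank ℂ ↥(U i) = 2 ∧ A.mulVec e' ∈ U i ∧
          ∀ u ∈ U i, eval u f = 0 := by
  obtain ⟨U, hUinj, hU⟩ := hE'
  have hT : Function.Injective (Matrix.toLin' A) := by
    intro v w h
    have := congrArg (Matrix.toLin' A) h
    simpa [Matrix.toLin'_apply, Matrix.mulVec_mulVec, hAA] using this
  refine ⟨fun i => (U i).map (Matrix.toLin' A),
    (Submodule.map_injective_of_injective hT).comp hUinj, fun i => ⟨?_, ?_, ?_⟩⟩
  · rw [← (Submodule.equivMapOfInjective _ hT (U i)).finrank_eq]; exact (hU i).1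
  · exact ⟨e', (hU i).2.1, Matrix.toLin'_apply _ _⟩
  · rintro u ⟨u₀, hu₀, rfl⟩
    rw [Matrix.toLin'_apply, hinv]; exact (hU i).2.2 u₀ hu₀

theorem invol_invariant (f : MvPolynomial (Fin 4) ℂ) (hf : f.IsHomogeneous 3)
    (e : Fin 4 → ℂ) (hfe : eval e f = 0)
    (μ : (Fin 4 → ℂ) →ₗ[ℂ] ℂ) (hμ1 : ∀ v, hess f e v v / 2 = dd f e v * μ v) (v : Fin 4 → ℂ) :
    eval ((invol e μ).mulVec v) f = eval v f := by
  rw [invol_mulVec, sub_eq_add_neg, ← neg_smul, expand_e f hf e v hfe, hμ1 v]
  ring

end hh


end helpers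

open MvPolynomial in
/-- Let f be a nonzero homogeneous cubic in four variables over ℂ whose surface S = V_+(f) ⊂ P³ is
smooth (at every nonzero zero of f some partial derivative is nonzero); a line on S is a
2-dimensional subspace of ℂ⁴ on which f vanishes, and an Eckardt point of S is a nonzero vector
lying on three distinct lines on S. Let e and e′ be Eckardt points of S that are not proportional
and let L be their span, a plane in ℂ⁴, i.e. the line of P³ through the two points. Then exactly one
of the two cases occurs: either f vanishes identically on L (the line lies on S), or L contains a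
third Eckardt point e″, proportional to neither e nor e′, and every zero of f in L is proportional
to e, e′ or e″ (the line meets S in exactly three points, all Eckardt points). -/
theorem result (f : MvPolynomial (Fin 4) ℂ) (hf : f.IsHomogeneous 3)
    (hf0 : f ≠ 0) (hsm : ∀ v : Fin 4 → ℂ, v ≠ 0 → eval v f = 0 → ∃ i : Fin 4, eval v (pderiv i f) ≠ 0)
    (e e' : Fin 4 → ℂ) (he : e ≠ 0) (he' : e' ∉ Submodule.span ℂ {e})
    (hE : (∃ U : Fin 3 → Submodule ℂ (Fin 4 → ℂ), Function.Injective U ∧
        ∀ i : Fin 3, Module.finrank ℂ ↥(U i) = 2 ∧ e ∈ U i ∧ ∀ u ∈ U i, eval u f = 0))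
    (hE' : (∃ U : Fin 3 → Submodule ℂ (Fin 4 → ℂ), Function.Injective U ∧
        ∀ i : Fin 3, Module.finrank ℂ ↥(U i) = 2 ∧ e' ∈ U i ∧ ∀ u ∈ U i, eval u f = 0)) :
    Xor (∀ u ∈ Submodule.span ℂ {e, e'}, eval u f = 0)
      (∃ e'' : Fin 4 → ℂ, e'' ∈ Submodule.span ℂ {e, e'} ∧ e'' ∉ Submodule.span ℂ {e} ∧ e'' ∉ Submodule.span ℂ {e'} ∧
        (∃ U : Fin 3 → Submodule ℂ (Fin 4 → ℂ), Function.Injective U ∧
        ∀ i : Fin 3, Module.finrank ℂ ↥(U i) = 2 ∧ e'' ∈ U i ∧ ∀ u ∈ U i, eval u f = 0) ∧
        ∀ u ∈ Submodule.span ℂ {e, e'}, eval u f = 0 →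
          u ∈ Submodule.span ℂ {e} ∨ u ∈ Submodule.span ℂ {e'} ∨ u ∈ Submodule.span ℂ {e''}) := by
  have hfe : MvPolynomial.eval e f = 0 := by
    obtain ⟨U, -, hU⟩ := hE
    exact (hU 0).2.2 e (hU 0).2.1
  have hfe' : MvPolynomial.eval e' f = 0 := by
    obtain ⟨U, -, hU⟩ := hE'
    exact (hU 0).2.2 e' (hU 0).2.1
  have he'0 : e' ≠ 0 := by
    rintro rfl
    exact he' (Submodule.zero_mem _)
  obtain ⟨μ, hμ1, hμ2⟩ := Groth.Agent.S18407.exists_mu f hf hsm e he hfe hE
  obtain ⟨μ', hμ'1, hμ'2⟩ := Groth.Agent.S18407.exists_mu f hf hsm e' he'0 hfe' hE'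
  have hg := g_formula f hf e e' hfe hfe' μ hμ1
  obtain ⟨r1, r2⟩ := pair_rel f hf e e' hfe hfe' μ hμ1 μ' hμ'1
  have hind := indep e e' he he'
  by_cases hd : Groth.Agent.S18408.dd f e e' = 0
  · left
    refine ⟨?_, ?_⟩
    · intro u hu
      obtain ⟨s, t, rfl⟩ := Submodule.mem_span_pair.mp hu
      rw [hg, hd]; ring
    · rintro ⟨e'', hL'', h1, h2, -, hz⟩
      obtain ⟨p, q, rfl⟩ := Submodule.mem_span_pair.mp hL''
      have hq : q ≠ 0 := by
        rintro rfl
        apply h1
        rw [zero_smul, add_zero]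
        exact Submodule.smul_mem _ _ (Submodule.mem_span_singleton_self e)
      have hp : p ≠ 0 := by
        rintro rfl
        apply h2
        rw [zero_smul, zero_add]
        exact Submodule.smul_mem _ _ (Submodule.mem_span_singleton_self e')
      have hu : p • e + (-q) • e' ∈ Submodule.span ℂ {e, e'} :=
        Submodule.mem_span_pair.mpr ⟨p, -q, rfl⟩
      have hfu : MvPolynomial.eval (p • e + (-q) • e') f = 0 := by rw [hg, hd]; ring
      rcases hz _ hu hfu with h | h | h
      · obtain ⟨a, ha⟩ := Submodule.mem_span_singleton.mp h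
        have := hind (a - p) q (by linear_combination (norm := module) ha)
        exact hq this.2
      · obtain ⟨a, ha⟩ := Submodule.mem_span_singleton.mp h
        have := hind p (-q - a) (by linear_combination (norm := module) -ha)
        exact hp this.1
      · obtain ⟨a, ha⟩ := Submodule.mem_span_singleton.mp h
        have := hind (a * p - p) (a * q + q) (by linear_combination (norm := module) ha)
        have ha1 : a = 1 := by
          have h3 : (a - 1) * p = 0 := by linear_combination this.1
          rcases mul_eq_zero.mp h3 with h4 | h4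
          · linear_combination h4
          · exact absurd h4 hp
        have h5 := this.2
        rw [ha1] at h5
        apply hq
        linear_combination (1 / 2 : ℂ) * h5
  · right
    have hm : μ e' ≠ 0 := by
      intro hm
      apply hd
      rw [r2, r1, hm]; ring
    refine ⟨?_, ?_⟩
    · refine ⟨(Groth.Agent.S18407.invol e μ).mulVec e', ?_, ?_, ?_, ?_, ?_⟩
      · rw [Groth.Agent.S18407.invol_mulVec]
        exact Submodule.mem_span_pair.mpr ⟨-μ e', 1, by module⟩
      · rw [Groth.Agent.S18407.invol_mulVec]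
        intro h
        obtain ⟨a, ha⟩ := Submodule.mem_span_singleton.mp h
        have := hind (-μ e' - a) 1 (by linear_combination (norm := module) -ha)
        exact one_ne_zero this.2
      · rw [Groth.Agent.S18407.invol_mulVec]
        intro h
        obtain ⟨a, ha⟩ := Submodule.mem_span_singleton.mp h
        have := hind (-μ e') (1 - a) (by linear_combination (norm := module) -ha)
        exact hm (neg_eq_zero.mp this.1)
      · exact eckardt_image f _ (Groth.Agent.S18407.invol_props f hf e he hfe μ hμ1 hμ2).1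
          (invol_invariant f hf e hfe μ hμ1) e' hE'
      · intro u hu hfu
        obtain ⟨s, t, rfl⟩ := Submodule.mem_span_pair.mp hu
        rw [hg] at hfu
        rcases mul_eq_zero.mp hfu with h | h
        · rcases mul_eq_zero.mp h with h | h
          · rcases mul_eq_zero.mp h with h | h
            · right; left
              rw [h, zero_smul, zero_add]
              exact Submodule.smul_mem _ _ (Submodule.mem_span_singleton_self e')
            · left
              rw [h, zero_smul, add_zero]
              exact Submodule.smul_mem _ _ (Submodule.mem_span_singleton_self e)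
          · exact absurd h hd
        · right; right
          rw [Groth.Agent.S18407.invol_mulVec]
          refine Submodule.mem_span_singleton.mpr ⟨t, ?_⟩
          have hs : s = -(t * μ e') := by linear_combination h
          rw [hs]
          module
    · intro hall
      have hu : (μ e') • e + (1 : ℂ) • e' ∈ Submodule.span ℂ {e, e'} :=
        Submodule.mem_span_pair.mpr ⟨μ e', 1, rfl⟩
      have := hall _ hu
      rw [hg] at this
      have h2 : (2 : ℂ) * (μ e') ^ 2 * Groth.Agent.S18408.dd f e e' = 0 := by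
        linear_combination this
      rcases mul_eq_zero.mp h2 with h | h
      · rcases mul_eq_zero.mp h with h | h
        · norm_num at h
        · exact hm (pow_eq_zero_iff (two_ne_zero) |>.mp h)
      · exact hd h

end Groth.Agent.S18409
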