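import Groth.Statements.S18406
import Mathlib
import Groth.Agent.S18409

set_option autoImplicit false
universe u
open Cubic

namespace Groth.Agent.S18406

section helpers
section hh
open MvPolynomial

noncomputable def dd (f : MvPolynomial (Fin 3) ℂ) (u v : Fin 3 → ℂ) : ℂ :=
  ∑ i, eval u (pderiv i f) * v i

theorem dd_add (f : MvPolynomial (Fin 3) ℂ) (u v v' : Fin 3 → ℂ) :
    dd f u (v + v') = dd f u v + dd f u v' := by
  unfold dd
  rw [← Finset.sum_add_distrib]
  refine Finset.sum_congr rfl fun i _ => ?_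
  simp only [Pi.add_apply]; ring

theorem dd_smul (f : MvPolynomial (Fin 3) ℂ) (u : Fin 3 → ℂ) (a : ℂ) (v : Fin 3 → ℂ) :
    dd f u (a • v) = a * dd f u v := by
  unfold dd
  rw [Finset.mul_sum]
  refine Finset.sum_congr rfl fun i _ => ?_
  simp only [Pi.smul_apply, smul_eq_mul]; ring

noncomputable def lineP (f : MvPolynomial (Fin 3) ℂ) (u v : Fin 3 → ℂ) : Polynomial ℂ :=
  aeval (fun i => Polynomial.C (u i) + Polynomial.X * Polynomial.C (v i)) f

theorem lineP_eval (f : MvPolynomial (Fin 3) ℂ) (u v : Fin 3 → ℂ) (t : ℂ) :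
    (lineP f u v).eval t = eval (u + t • v) f := by
  unfold lineP
  rw [Groth.Agent.S12424.eval_aeval_poly]
  congr 2
  funext i
  simp only [Polynomial.eval_add, Polynomial.eval_C, Polynomial.eval_mul, Polynomial.eval_X,
    Pi.add_apply, Pi.smul_apply, smul_eq_mul]

theorem lineP_deriv (f : MvPolynomial (Fin 3) ℂ) (u v : Fin 3 → ℂ) :
    Polynomial.derivative (lineP f u v) = ∑ i, lineP (pderiv i f) u v * Polynomial.C (v i) := by
  unfold lineP
  rw [Groth.Agent.S10897.deriv_aeval_poly]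
  refine Finset.sum_congr rfl fun i _ => ?_
  congr 1
  simp

theorem dd_eq (f : MvPolynomial (Fin 3) ℂ) (u v : Fin 3 → ℂ) :
    dd f u v = (Polynomial.derivative (lineP f u v)).eval 0 := by
  rw [lineP_deriv, Polynomial.eval_finsetSum]
  unfold dd
  refine Finset.sum_congr rfl fun i _ => ?_
  rw [Polynomial.eval_mul, lineP_eval, Polynomial.eval_C]
  simp

theorem dd_of_fun (f : MvPolynomial (Fin 3) ℂ) (u v : Fin 3 → ℂ) (Q : Polynomial ℂ)
    (h : ∀ t, eval (u + t • v) f = Q.eval t) : dd f u v = (Polynomial.derivative Q).eval 0 := by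
  rw [dd_eq]
  have : lineP f u v = Q := by
    apply Polynomial.funext
    intro t
    rw [lineP_eval, h]
  rw [this]

theorem lineP_natDegree (f : MvPolynomial (Fin 3) ℂ) (hf : f.IsHomogeneous 3) (u v : Fin 3 → ℂ) :
    (lineP f u v).natDegree ≤ 3 := by
  unfold lineP
  have := MvPolynomial.aeval_natDegree_le (m := 3) (n := 1) f hf.totalDegree_le
    (fun i => Polynomial.C (u i) + Polynomial.X * Polynomial.C (v i)) (fun i => by
      refine (Polynomial.natDegree_add_le _ _).trans ?_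
      rw [Polynomial.natDegree_C]
      refine max_le (by omega) ?_
      exact (Polynomial.natDegree_mul_C_le _ _).trans Polynomial.natDegree_X_le)
  simpa using this

theorem lineP_expand (f : MvPolynomial (Fin 3) ℂ) (hf : f.IsHomogeneous 3) (u v : Fin 3 → ℂ)
    (x : ℂ) :
    (lineP f u v).eval x = (lineP f u v).coeff 0 + (lineP f u v).coeff 1 * x
      + (lineP f u v).coeff 2 * x ^ 2 + (lineP f u v).coeff 3 * x ^ 3 := by
  have h := Polynomial.as_sum_range_C_mul_X_pow' (p := lineP f u v) (n := 4)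
    (by have := lineP_natDegree f hf u v; omega)
  conv_lhs => rw [h]
  rw [Polynomial.eval_finsetSum]
  simp only [Finset.sum_range_succ, Finset.sum_range_zero, Polynomial.eval_mul, Polynomial.eval_C,
    Polynomial.eval_pow, Polynomial.eval_X]
  ring

theorem lineP_coeff_three (f : MvPolynomial (Fin 3) ℂ) (hf : f.IsHomogeneous 3) (u v : Fin 3 → ℂ) :
    (lineP f u v).coeff 3 = eval v f := by
  have key : ∀ s : ℂ, s ≠ 0 → (lineP f u v).eval s = s ^ 3 * (lineP f v u).eval s⁻¹ := by
    intro s hs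
    rw [lineP_eval, lineP_eval, ← Groth.Agent.S12424.eval_smul_of_homog hf]
    congr 1
    rw [smul_add, smul_smul, mul_inv_cancel₀ hs, one_smul, add_comm]
  have b0 : (lineP f v u).coeff 0 = eval v f := by
    rw [Polynomial.coeff_zero_eq_eval_zero, lineP_eval]
    simp
  have e1 := key 1 (by norm_num)
  have e2 := key 2 (by norm_num)
  have e3 := key 3 (by norm_num)
  have e4 := key 4 (by norm_num)
  rw [lineP_expand f hf, lineP_expand f hf] at e1 e2 e3 e4
  rw [← b0]
  field_simp at e1 e2 e3 e4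
  linear_combination (1/6 : ℂ) * e4 - (1/2 : ℂ) * e3 + (1/2 : ℂ) * e2 - (1/6 : ℂ) * e1

theorem eval_subst (A : Matrix (Fin 3) (Fin 3) ℂ) (f : MvPolynomial (Fin 3) ℂ) (v : Fin 3 → ℂ) :
    eval v (aeval (fun i : Fin 3 => ∑ j : Fin 3, C (A i j) * X j) f) = eval (A.mulVec v) f := by
  have h : (eval v).comp (aeval (fun i : Fin 3 => ∑ j : Fin 3, C (A i j) * X j)
      : MvPolynomial (Fin 3) ℂ →ₐ[ℂ] MvPolynomial (Fin 3) ℂ).toRingHom = eval (A.mulVec v) := by
    apply MvPolynomial.ringHom_ext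
    · intro a
      simp
    · intro i
      simp [Matrix.mulVec, dotProduct]
  exact congrArg (fun φ => φ f) h

theorem dd_single (f : MvPolynomial (Fin 3) ℂ) (u : Fin 3 → ℂ) (i : Fin 3) :
    dd f u (Pi.single i 1) = eval u (pderiv i f) := by
  unfold dd
  rw [Finset.sum_eq_single i]
  · simp
  · intro j _ hj
    simp [Pi.single_eq_of_ne hj]
  · intro h; exact absurd (Finset.mem_univ i) h

noncomputable def hess (f : MvPolynomial (Fin 3) ℂ) (P u v : Fin 3 → ℂ) : ℂ :=
  ∑ i, ∑ j, eval P (pderiv j (pderiv i f)) * u j * v i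

theorem hess_lin_left (f : MvPolynomial (Fin 3) ℂ) (P : Fin 3 → ℂ) (a b : ℂ) (u u' v : Fin 3 → ℂ) :
    hess f P (a • u + b • u') v = a * hess f P u v + b * hess f P u' v := by
  unfold hess
  rw [Finset.mul_sum, Finset.mul_sum, ← Finset.sum_add_distrib]
  refine Finset.sum_congr rfl fun i _ => ?_
  rw [Finset.mul_sum, Finset.mul_sum, ← Finset.sum_add_distrib]
  refine Finset.sum_congr rfl fun j _ => ?_
  simp only [Pi.add_apply, Pi.smul_apply, smul_eq_mul]
  ring

theorem hess_lin_right (f : MvPolynomial (Fin 3) ℂ) (P : Fin 3 → ℂ) (a b : ℂ) (u v v' : Fin 3 → ℂ) :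
    hess f P u (a • v + b • v') = a * hess f P u v + b * hess f P u v' := by
  unfold hess
  rw [Finset.mul_sum, Finset.mul_sum, ← Finset.sum_add_distrib]
  refine Finset.sum_congr rfl fun i _ => ?_
  rw [Finset.mul_sum, Finset.mul_sum, ← Finset.sum_add_distrib]
  refine Finset.sum_congr rfl fun j _ => ?_
  simp only [Pi.add_apply, Pi.smul_apply, smul_eq_mul]
  ring

theorem two_coeff_two (f : MvPolynomial (Fin 3) ℂ) (P v : Fin 3 → ℂ) :
    2 * (lineP f P v).coeff 2 = hess f P v v := by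
  have h1 : (Polynomial.derivative (Polynomial.derivative (lineP f P v))).eval 0
      = 2 * (lineP f P v).coeff 2 := by
    rw [← Polynomial.coeff_zero_eq_eval_zero, Polynomial.coeff_derivative,
      Polynomial.coeff_derivative]
    norm_num
    ring
  rw [← h1, lineP_deriv, map_sum, Polynomial.eval_finsetSum]
  unfold hess
  refine Finset.sum_congr rfl fun i _ => ?_
  rw [Polynomial.derivative_mul, Polynomial.derivative_C, mul_zero, add_zero, lineP_deriv,
    Finset.sum_mul, Polynomial.eval_finsetSum]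
  refine Finset.sum_congr rfl fun j _ => ?_
  rw [Polynomial.eval_mul, Polynomial.eval_mul, lineP_eval, Polynomial.eval_C,
    Polynomial.eval_C]
  simp only [zero_smul, add_zero]

theorem coeff_one (f : MvPolynomial (Fin 3) ℂ) (P v : Fin 3 → ℂ) :
    (lineP f P v).coeff 1 = dd f P v := by
  rw [dd_eq, ← Polynomial.coeff_zero_eq_eval_zero, Polynomial.coeff_derivative]
  norm_num

theorem coeff_zero (f : MvPolynomial (Fin 3) ℂ) (P v : Fin 3 → ℂ) :
    (lineP f P v).coeff 0 = eval P f := by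
  rw [Polynomial.coeff_zero_eq_eval_zero, lineP_eval]
  simp

theorem lineP_natDegree_n (f : MvPolynomial (Fin 3) ℂ) (n : ℕ) (hf : f.IsHomogeneous n)
    (u v : Fin 3 → ℂ) : (lineP f u v).natDegree ≤ n := by
  unfold lineP
  have := MvPolynomial.aeval_natDegree_le (m := n) (n := 1) f hf.totalDegree_le
    (fun i => Polynomial.C (u i) + Polynomial.X * Polynomial.C (v i)) (fun i => by
      refine (Polynomial.natDegree_add_le _ _).trans ?_
      rw [Polynomial.natDegree_C]
      refine max_le (by omega) ?_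
      exact (Polynomial.natDegree_mul_C_le _ _).trans Polynomial.natDegree_X_le)
  simpa using this

theorem lineP_reflect (f : MvPolynomial (Fin 3) ℂ) (n : ℕ) (hf : f.IsHomogeneous n)
    (u v : Fin 3 → ℂ) : lineP f u v = Polynomial.reflect n (lineP f v u) := by
  apply Polynomial.eq_of_infinite_eval_eq
  refine Set.Infinite.mono ?_ (Set.finite_singleton (0 : ℂ)).infinite_compl
  intro t ht
  have ht0 : t ≠ 0 := ht
  have hinv : t⁻¹ ≠ 0 := inv_ne_zero ht0
  let _ : Invertible (t⁻¹) := invertibleOfNonzero hinv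
  have h := Polynomial.eval₂_reflect_mul_pow (RingHom.id ℂ) (t⁻¹) n (lineP f v u)
    (lineP_natDegree_n f n hf v u)
  rw [invOf_eq_inv, inv_inv, Polynomial.eval₂_id, Polynomial.eval₂_id, lineP_eval] at h
  change Polynomial.eval t (lineP f u v) = Polynomial.eval t (Polynomial.reflect n (lineP f v u))
  rw [lineP_eval]
  have e : u + t • v = t • (v + t⁻¹ • u) := by
    rw [smul_add, smul_smul, mul_inv_cancel₀ ht0, one_smul, add_comm]
  rw [e, Groth.Agent.S12424.eval_smul_of_homog hf, ← h]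
  rw [mul_comm, mul_assoc, ← mul_pow, inv_mul_cancel₀ ht0, one_pow, mul_one]

theorem coeff_rev (f : MvPolynomial (Fin 3) ℂ) (n : ℕ) (hf : f.IsHomogeneous n)
    (u v : Fin 3 → ℂ) (k : ℕ) (hk : k ≤ n) :
    (lineP f u v).coeff k = (lineP f v u).coeff (n - k) := by
  conv_lhs => rw [lineP_reflect f n hf u v]
  rw [Polynomial.coeff_reflect, Polynomial.revAt_le hk]

theorem lin_of_map (ξ : (Fin 3 → ℂ) →ₗ[ℂ] ℂ) (v : Fin 3 → ℂ) :
    ∑ j, ξ (Pi.single j 1) * v j = ξ v := by
  conv_rhs => rw [pi_eq_sum_univ' v]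
  rw [map_sum]
  refine Finset.sum_congr rfl fun j _ => ?_
  rw [map_smul, smul_eq_mul, mul_comm]

theorem expand_e (f : MvPolynomial (Fin 3) ℂ) (hf : f.IsHomogeneous 3) (e v : Fin 3 → ℂ)
    (hfe : eval e f = 0) (x : ℂ) :
    eval (v + x • e) f = eval v f + x * (hess f e v v / 2) + x ^ 2 * dd f e v := by
  have c1 : (lineP f v e).coeff 1 = hess f e v v / 2 := by
    rw [coeff_rev f 3 hf v e 1 (by norm_num)]
    have : (3 : ℕ) - 1 = 2 := rfl
    rw [this, ← two_coeff_two]; ring
  have c2 : (lineP f v e).coeff 2 = dd f e v := by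
    rw [coeff_rev f 3 hf v e 2 (by norm_num)]
    have : (3 : ℕ) - 2 = 1 := rfl
    rw [this, coeff_one]
  have c3 : (lineP f v e).coeff 3 = 0 := by
    rw [lineP_coeff_three f hf v e, hfe]
  rw [← lineP_eval, lineP_expand f hf v e x, coeff_zero, c1, c2, c3]
  ring

theorem dd_self (f : MvPolynomial (Fin 3) ℂ) (hf : f.IsHomogeneous 3) (e : Fin 3 → ℂ)
    (hfe : eval e f = 0) : dd f e e = 0 := by
  have := dd_of_fun f e e 0 (by
    intro t
    have h : e + t • e = (1 + t) • e := by rw [add_smul, one_smul]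
    rw [h, Groth.Agent.S12424.eval_smul_of_homog hf, hfe]; simp)
  rw [this]; simp

noncomputable def invol (e : Fin 3 → ℂ) (μ : (Fin 3 → ℂ) →ₗ[ℂ] ℂ) : Matrix (Fin 3) (Fin 3) ℂ :=
  1 - Matrix.vecMulVec e (fun j => μ (Pi.single j 1))

theorem invol_mulVec (e : Fin 3 → ℂ) (μ : (Fin 3 → ℂ) →ₗ[ℂ] ℂ) (v : Fin 3 → ℂ) :
    (invol e μ).mulVec v = v - μ v • e := by
  unfold invol
  rw [Matrix.sub_mulVec, Matrix.one_mulVec]
  congr 1
  funext i
  rw [← lin_of_map μ v]
  simp only [Matrix.mulVec, dotProduct, Matrix.vecMulVec_apply, Pi.smul_apply, smul_eq_mul]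
  rw [Finset.sum_mul]
  refine Finset.sum_congr rfl fun j _ => ?_
  ring

theorem matrix_ext_mulVec (A B : Matrix (Fin 3) (Fin 3) ℂ)
    (h : ∀ v : Fin 3 → ℂ, A.mulVec v = B.mulVec v) : A = B := by
  ext i j
  have := congrFun (h (Pi.single j 1)) i
  simpa using this

theorem g_formula (f : MvPolynomial (Fin 3) ℂ) (hf : f.IsHomogeneous 3) (e e' : Fin 3 → ℂ)
    (hfe : eval e f = 0) (hfe' : eval e' f = 0)
    (μ : (Fin 3 → ℂ) →ₗ[ℂ] ℂ) (hμ1 : ∀ v, hess f e v v / 2 = dd f e v * μ v) (s t : ℂ) :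
    eval (s • e + t • e') f = s * t * dd f e e' * (t * μ e' + s) := by
  rw [add_comm, expand_e f hf e (t • e') hfe s, hμ1, dd_smul, map_smul,
    Groth.Agent.S12424.eval_smul_of_homog hf, hfe', smul_eq_mul]
  ring

theorem pair_rel (f : MvPolynomial (Fin 3) ℂ) (hf : f.IsHomogeneous 3) (e e' : Fin 3 → ℂ)
    (hfe : eval e f = 0) (hfe' : eval e' f = 0)
    (μ : (Fin 3 → ℂ) →ₗ[ℂ] ℂ) (hμ1 : ∀ v, hess f e v v / 2 = dd f e v * μ v)
    (μ' : (Fin 3 → ℂ) →ₗ[ℂ] ℂ) (hμ'1 : ∀ v, hess f e' v v / 2 = dd f e' v * μ' v) :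
    dd f e' e = dd f e e' * μ e' ∧ dd f e e' = dd f e' e * μ' e := by
  have h1 := fun s t => g_formula f hf e e' hfe hfe' μ hμ1 s t
  have h2 : ∀ s t : ℂ, eval (s • e + t • e') f = t * s * dd f e' e * (s * μ' e + t) := fun s t => by
    rw [add_comm (s • e) (t • e')]
    exact g_formula f hf e' e hfe' hfe μ' hμ'1 t s
  have a := h1 1 1
  have b := h2 1 1
  have a' := h1 1 (-1)
  have b' := h2 1 (-1)
  rw [a] at b
  rw [a'] at b'
  constructor
  · linear_combination (-1 / 2 : ℂ) * b + (-1 / 2 : ℂ) * b'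
  · linear_combination (1 / 2 : ℂ) * b - (1 / 2 : ℂ) * b'

theorem indep (e e' : Fin 3 → ℂ) (he : e ≠ 0) (he' : e' ∉ Submodule.span ℂ {e}) (a b : ℂ)
    (h : a • e + b • e' = 0) : a = 0 ∧ b = 0 := by
  have hb : b = 0 := by
    by_contra hb
    apply he'
    rw [Submodule.mem_span_singleton]
    refine ⟨-a / b, ?_⟩
    have h' : b • e' = -(a • e) := eq_neg_of_add_eq_zero_right h
    calc (-a / b) • e = b⁻¹ • (-(a • e)) := by rw [div_eq_inv_mul, mul_smul, neg_smul]
      _ = b⁻¹ • (b • e') := by rw [h']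
      _ = e' := by rw [smul_smul, inv_mul_cancel₀ hb, one_smul]
  subst hb
  rw [zero_smul, add_zero] at h
  exact ⟨(smul_eq_zero.mp h).resolve_right he, rfl⟩

theorem invol_sq (e : Fin 3 → ℂ) (μ : (Fin 3 → ℂ) →ₗ[ℂ] ℂ) (hμ2 : μ e = 2) :
    invol e μ * invol e μ = 1 := by
  apply matrix_ext_mulVec
  intro v
  rw [← Matrix.mulVec_mulVec, invol_mulVec, invol_mulVec, Matrix.one_mulVec, map_sub, map_smul,
    hμ2, smul_eq_mul]
  have h2 : μ v - μ v * 2 = -(μ v) := by ring
  rw [h2, neg_smul]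
  abel

theorem invol_invariant (f : MvPolynomial (Fin 3) ℂ) (hf : f.IsHomogeneous 3)
    (e : Fin 3 → ℂ) (hfe : eval e f = 0)
    (μ : (Fin 3 → ℂ) →ₗ[ℂ] ℂ) (hμ1 : ∀ v, hess f e v v / 2 = dd f e v * μ v) (v : Fin 3 → ℂ) :
    eval ((invol e μ).mulVec v) f = eval v f := by
  rw [invol_mulVec, sub_eq_add_neg, ← neg_smul, expand_e f hf e v hfe, hμ1 v]
  ring

noncomputable def ddL (f : MvPolynomial (Fin 3) ℂ) (e : Fin 3 → ℂ) : (Fin 3 → ℂ) →ₗ[ℂ] ℂ :=
  { toFun := dd f e
    map_add' := dd_add f e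
    map_smul' := fun a v => by rw [dd_smul]; rfl }

theorem ddL_apply (f : MvPolynomial (Fin 3) ℂ) (e u : Fin 3 → ℂ) : ddL f e u = dd f e u := rfl

/-- three independent vectors span ℂ³ -/
theorem span3 (D : (Fin 3 → ℂ) →ₗ[ℂ] ℂ) (v w z : Fin 3 → ℂ) (hDv : D v = 0) (hDw : D w = 0)
    (hDz : D z ≠ 0) (hind : ∀ a b : ℂ, a • v + b • w = 0 → a = 0 ∧ b = 0) :
    ∀ u : Fin 3 → ℂ, ∃ a b c : ℂ, u = a • v + b • w + c • z := by
  have hli : LinearIndependent ℂ ![v, w, z] := by
    rw [Fintype.linearIndependent_iff]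
    intro g hg
    rw [Fin.sum_univ_three] at hg
    simp only [Matrix.cons_val_zero, Matrix.cons_val_one, Matrix.cons_val] at hg
    have h2 : g 2 = 0 := by
      have := congrArg D hg
      simp only [map_add, map_smul, hDv, hDw, map_zero, smul_eq_mul, mul_zero, zero_add] at this
      exact (mul_eq_zero.mp this).resolve_right hDz
    rw [h2, zero_smul, add_zero] at hg
    obtain ⟨h0, h1⟩ := hind _ _ hg
    intro i
    fin_cases i
    · exact h0
    · exact h1
    · exact h2
  have htop := hli.span_eq_top_of_card_eq_finrank' (by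
    rw [Module.finrank_fintype_fun_eq_card])
  intro u
  have hu : u ∈ Submodule.span ℂ (Set.range ![v, w, z]) := by rw [htop]; trivial
  rw [Submodule.mem_span_range_iff_exists_fun] at hu
  obtain ⟨c, hc⟩ := hu
  rw [Fin.sum_univ_three] at hc
  simp only [Matrix.cons_val_zero, Matrix.cons_val_one, Matrix.cons_val] at hc
  exact ⟨c 0, c 1, c 2, hc.symm⟩

theorem flex_line (f : MvPolynomial (Fin 3) ℂ) (hf : f.IsHomogeneous 3) (v w : Fin 3 → ℂ)
    (hw : ∀ t : ℂ, eval (v + t • w) f = t ^ 3 * eval w f) (α β : ℂ) :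
    lineP f v (α • v + β • w) = Polynomial.C (β ^ 3 * eval w f) * Polynomial.X ^ 3 := by
  apply Polynomial.eq_of_infinite_eval_eq
  have hfin : {τ : ℂ | 1 + τ * α = 0}.Finite := by
    apply Set.Subsingleton.finite
    intro τ hτ τ' hτ'
    simp only [Set.mem_ofPred_eq] at hτ hτ'
    have hc : α ≠ 0 := by
      rintro rfl
      simp at hτ
    have : (τ - τ') * α = 0 := by linear_combination hτ - hτ'
    rcases mul_eq_zero.mp this with h | h
    · exact sub_eq_zero.mp h
    · exact absurd h hc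
  refine Set.Infinite.mono ?_ hfin.infinite_compl
  intro τ hτ
  have hτ' : 1 + τ * α ≠ 0 := hτ
  simp only [Set.mem_ofPred_eq]
  rw [lineP_eval]
  have h1 : (1 + τ * α) * (τ * β / (1 + τ * α)) = τ * β := by field_simp
  have e : v + τ • (α • v + β • w) = (1 + τ * α) • (v + (τ * β / (1 + τ * α)) • w) := by
    rw [smul_add (1 + τ * α), smul_smul, h1]
    module
  rw [e, Groth.Agent.S12424.eval_smul_of_homog hf, hw]
  simp only [Polynomial.eval_mul, Polynomial.eval_C, Polynomial.eval_pow, Polynomial.eval_X]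
  field_simp

theorem flex_quadric (f : MvPolynomial (Fin 3) ℂ) (hf : f.IsHomogeneous 3) (v w : Fin 3 → ℂ)
    (hw : ∀ t : ℂ, eval (v + t • w) f = t ^ 3 * eval w f) (α β : ℂ) :
    hess f v (α • v + β • w) (α • v + β • w) = 0 := by
  rw [← two_coeff_two, flex_line f hf v w hw α β, Polynomial.coeff_C_mul, Polynomial.coeff_X_pow]
  norm_num

theorem mu_of_quadric (f : MvPolynomial (Fin 3) ℂ) (hf : f.IsHomogeneous 3)
    (e : Fin 3 → ℂ) (hfe : eval e f = 0) (v₀ : Fin 3 → ℂ) (hdv₀ : dd f e v₀ = 1)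
    (hq0 : ∀ u : Fin 3 → ℂ, dd f e u = 0 → hess f e u u = 0) :
    ∃ μ : (Fin 3 → ℂ) →ₗ[ℂ] ℂ, (∀ v, hess f e v v / 2 = dd f e v * μ v) ∧ μ e = 2 := by
  let dL : (Fin 3 → ℂ) →ₗ[ℂ] ℂ :=
    { toFun := dd f e
      map_add' := dd_add f e
      map_smul' := fun a v => by rw [dd_smul]; rfl }
  let hR : (Fin 3 → ℂ) →ₗ[ℂ] ℂ :=
    { toFun := fun u => hess f e u v₀
      map_add' := fun u u' => by
        have := hess_lin_left f e 1 1 u u' v₀
        simpa using this
      map_smul' := fun a u => by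
        have := hess_lin_left f e a 0 u 0 v₀
        simpa using this }
  let hLf : (Fin 3 → ℂ) →ₗ[ℂ] ℂ :=
    { toFun := fun u => hess f e v₀ u
      map_add' := fun u u' => by
        have := hess_lin_right f e 1 1 v₀ u u'
        simpa using this
      map_smul' := fun a u => by
        have := hess_lin_right f e a 0 v₀ u 0
        simpa using this }
  set μ : (Fin 3 → ℂ) →ₗ[ℂ] ℂ :=
    (1 / 2 : ℂ) • ((hR + hLf).comp (LinearMap.id - dL.smulRight v₀))
      + (hess f e v₀ v₀ / 2) • dL with hμ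
  have hμv : ∀ v : Fin 3 → ℂ, μ v = (1 / 2 : ℂ) * (hess f e (v - dd f e v • v₀) v₀
      + hess f e v₀ (v - dd f e v • v₀)) + hess f e v₀ v₀ / 2 * dd f e v := by
    intro v
    rfl
  have h1 : ∀ v, hess f e v v / 2 = dd f e v * μ v := by
    intro v
    set t := dd f e v with ht
    set u := v - t • v₀ with hu
    have hdu : dd f e u = 0 := by
      rw [hu, sub_eq_add_neg, ← neg_smul, dd_add, dd_smul, hdv₀, ← ht]; ring
    have huu := hq0 u hdu
    have hv : v = (1 : ℂ) • u + t • v₀ := by rw [hu, one_smul]; abel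
    have hexp : hess f e v v = hess f e u u + t * (hess f e u v₀ + hess f e v₀ u)
        + t ^ 2 * hess f e v₀ v₀ := by
      conv_lhs => rw [hv, hess_lin_left, hess_lin_right, hess_lin_right]
      ring
    rw [hμv v, ← ht, ← hu, hexp, huu]
    ring
  refine ⟨μ, h1, ?_⟩
  have hde : dd f e e = 0 := dd_self f hf e hfe
  have E1 := expand_e f hf e v₀ hfe 2
  have E2 := expand_e f hf e (v₀ + e) hfe 1
  have E3 := expand_e f hf e v₀ hfe 1
  have hvec : v₀ + (2 : ℂ) • e = (v₀ + e) + (1 : ℂ) • e := by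
    rw [two_smul, one_smul]; abel
  rw [hvec] at E1
  rw [h1 v₀, hdv₀] at E1 E3
  rw [h1 (v₀ + e), dd_add, hdv₀, hde, map_add] at E2
  rw [one_smul] at E3
  rw [E3] at E2
  rw [E2] at E1
  linear_combination E1

theorem exists_mu3 (f : MvPolynomial (Fin 3) ℂ) (hf : f.IsHomogeneous 3)
    (hsm : ∀ v : Fin 3 → ℂ, v ≠ 0 → eval v f = 0 → ∃ i : Fin 3, eval v (pderiv i f) ≠ 0)
    (e : Fin 3 → ℂ) (he : e ≠ 0) (hfe : eval e f = 0)
    (hflex : ∃ w : Fin 3 → ℂ, LinearIndependent ℂ ![e, w] ∧
      ∀ t : ℂ, eval (e + t • w) f = t ^ 3 * eval w f) :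
    ∃ μ : (Fin 3 → ℂ) →ₗ[ℂ] ℂ, (∀ v, hess f e v v / 2 = dd f e v * μ v) ∧ μ e = 2 := by
  obtain ⟨w, hli, hw⟩ := hflex
  have hind := LinearIndependent.pair_iff.mp hli
  have hde : dd f e e = 0 := dd_self f hf e hfe
  have hdw : dd f e w = 0 := by
    rw [dd_of_fun f e w (Polynomial.C (eval w f) * Polynomial.X ^ 3) (fun t => by
      rw [hw]; simp; ring)]
    simp
  obtain ⟨i₀, hi₀⟩ := hsm e he hfe
  set v₀ : Fin 3 → ℂ := (eval e (pderiv i₀ f))⁻¹ • Pi.single i₀ 1 with hv₀
  have hdv₀ : dd f e v₀ = 1 := by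
    rw [hv₀, dd_smul, dd_single, inv_mul_cancel₀ hi₀]
  have hq0 : ∀ u : Fin 3 → ℂ, dd f e u = 0 → hess f e u u = 0 := by
    intro u hu
    obtain ⟨a, b, c, rfl⟩ := span3 (ddL f e) e w v₀ hde hdw
      (by rw [ddL_apply, hdv₀]; exact one_ne_zero) hind u
    have hc : c = 0 := by
      rw [dd_add, dd_add, dd_smul, dd_smul, dd_smul, hde, hdw, hdv₀] at hu
      linear_combination hu
    rw [hc, zero_smul, add_zero]
    exact flex_quadric f hf e w hw a b
  exact mu_of_quadric f hf e hfe v₀ hdv₀ hq0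

/-- a smooth plane cubic contains no line -/
theorem no_line (f : MvPolynomial (Fin 3) ℂ) (hf : f.IsHomogeneous 3)
    (hsm : ∀ v : Fin 3 → ℂ, v ≠ 0 → eval v f = 0 → ∃ i : Fin 3, eval v (pderiv i f) ≠ 0)
    (v w : Fin 3 → ℂ) (hind : ∀ a b : ℂ, a • v + b • w = 0 → a = 0 ∧ b = 0)
    (hzero : ∀ a b : ℂ, eval (a • v + b • w) f = 0) : False := by
  have hv0 : v ≠ 0 := by
    rintro rfl
    have := hind 1 0 (by simp)
    exact one_ne_zero this.1
  have hfv : eval v f = 0 := by simpa using hzero 1 0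
  obtain ⟨i₀, hi₀⟩ := hsm v hv0 hfv
  set z : Fin 3 → ℂ := Pi.single i₀ 1 with hz
  have htan : ∀ a b a' b' : ℂ, dd f (a • v + b • w) (a' • v + b' • w) = 0 := by
    intro a b a' b'
    rw [dd_of_fun f _ _ 0 (fun t => by
      have : a • v + b • w + t • (a' • v + b' • w) = (a + t * a') • v + (b + t * b') • w := by
        module
      rw [this, hzero]; simp)]
    simp
  have hdz : dd f v z ≠ 0 := by rw [hz, dd_single]; exact hi₀
  have hspan := span3 (ddL f v) v w z (by simpa [ddL_apply] using htan 1 0 1 0)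
    (by simpa [ddL_apply] using htan 1 0 0 1) hdz hind
  have hne : ∀ a b : ℂ, (a ≠ 0 ∨ b ≠ 0) → dd f (a • v + b • w) z ≠ 0 := by
    intro a b hab h0
    have hu0 : a • v + b • w ≠ 0 := by
      intro h
      obtain ⟨ha, hb⟩ := hind a b h
      rcases hab with h' | h'
      · exact h' ha
      · exact h' hb
    obtain ⟨i, hi⟩ := hsm _ hu0 (hzero a b)
    apply hi
    rw [← dd_single]
    obtain ⟨a', b', c', hc'⟩ := hspan (Pi.single i 1)
    rw [hc', dd_add, dd_smul, h0, mul_zero, add_zero, htan]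
  set P : Polynomial ℂ := ∑ i, lineP (pderiv i f) v w * Polynomial.C (z i) with hP
  have hPev : ∀ t, P.eval t = dd f (v + t • w) z := by
    intro t
    rw [hP, Polynomial.eval_finsetSum]
    unfold dd
    refine Finset.sum_congr rfl fun i _ => ?_
    rw [Polynomial.eval_mul, lineP_eval, Polynomial.eval_C]
  set R : Polynomial ℂ := ∑ i, lineP (pderiv i f) w v * Polynomial.C (z i) with hR
  have hRev : ∀ t, R.eval t = dd f (w + t • v) z := by
    intro t
    rw [hR, Polynomial.eval_finsetSum]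
    unfold dd
    refine Finset.sum_congr rfl fun i _ => ?_
    rw [Polynomial.eval_mul, lineP_eval, Polynomial.eval_C]
  have hPdeg : P.degree = 0 := by
    by_contra h
    obtain ⟨t, ht⟩ := IsAlgClosed.exists_root P h
    have h1 := hne 1 t (Or.inl one_ne_zero)
    rw [one_smul] at h1
    exact h1 (by rw [← hPev]; exact ht)
  have hRdeg : R.degree = 0 := by
    by_contra h
    obtain ⟨t, ht⟩ := IsAlgClosed.exists_root R h
    have h1 := hne t 1 (Or.inr one_ne_zero)
    rw [one_smul, add_comm] at h1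
    exact h1 (by rw [← hRev]; exact ht)
  have hPc := Polynomial.eq_C_of_degree_eq_zero hPdeg
  have hRc := Polynomial.eq_C_of_degree_eq_zero hRdeg
  have hPconst : ∀ t, P.eval t = P.coeff 0 := fun t => by
    conv_lhs => rw [hPc]
    exact Polynomial.eval_C
  have hRconst : ∀ t, R.eval t = R.coeff 0 := fun t => by
    conv_lhs => rw [hRc]
    exact Polynomial.eval_C
  have hrel : ∀ s : ℂ, s ≠ 0 → R.eval s = s ^ 2 * P.eval s⁻¹ := by
    intro s hs
    rw [hRev, hPev]
    have e : w + s • v = s • (v + s⁻¹ • w) := by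
      rw [smul_add, smul_smul, mul_inv_cancel₀ hs, one_smul, add_comm]
    rw [e]
    unfold dd
    rw [Finset.mul_sum]
    refine Finset.sum_congr rfl fun i _ => ?_
    rw [Groth.Agent.S12424.eval_smul_of_homog (hf.pderiv (i := i))]
    ring
  have h1 := hrel 1 one_ne_zero
  have h2 := hrel 2 two_ne_zero
  rw [hPconst, hRconst] at h1 h2
  have hP0 : P.coeff 0 = 0 := by linear_combination (1 / 3 : ℂ) * h1 - (1 / 3 : ℂ) * h2
  have h3 := hne 1 0 (Or.inl one_ne_zero)
  apply h3
  have h4 := hPev 0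
  rw [hPconst, hP0] at h4
  rw [one_smul]
  exact h4.symm

end hh


end helpers

open MvPolynomial in
/-- Let f be a nonzero homogeneous cubic in three variables over ℂ whose plane curve is smooth (at every
nonzero zero of f some partial derivative is nonzero), and let v and v′ be flexes of the curve, that
is nonzero zeros of f through each of which some line meets the curve with multiplicity three (there
is a vector w linearly independent from the point with f(point + t·w) = t³·f(w) for every t). Then a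
projective automorphism of the curve carries the point of v to the point of v′: there are an
invertible matrix A whose substitution X_i ↦ Σ_j A_ij X_j multiplies f by a constant c, and a
constant d with A·v = d·v′. (The published statement gives more: a subgroup of the projective
automorphism group isomorphic to C₃ × C₃ acts simply transitively on the nine flexes; only
transitivity is stated here.) -/
theorem result (f : MvPolynomial (Fin 3) ℂ) (hf : f.IsHomogeneous 3)
    (hf0 : f ≠ 0) (hsm : ∀ v : Fin 3 → ℂ, v ≠ 0 → eval v f = 0 → ∃ i : Fin 3, eval v (pderiv i f) ≠ 0)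
    (v v' : Fin 3 → ℂ) (hv : v ≠ 0) (hv' : v' ≠ 0) (hfv : eval v f = 0) (hfv' : eval v' f = 0)
    (hflex : (∃ w : Fin 3 → ℂ, LinearIndependent ℂ ![v, w] ∧ ∀ t : ℂ, eval (v + t • w) f = t ^ 3 * eval w f))
    (hflex' : (∃ w : Fin 3 → ℂ, LinearIndependent ℂ ![v', w] ∧ ∀ t : ℂ, eval (v' + t • w) f = t ^ 3 * eval w f)) :
    ∃ (A : Matrix (Fin 3) (Fin 3) ℂ) (c d : ℂ), IsUnit A.det ∧
      aeval (fun i : Fin 3 => ∑ j : Fin 3, C (A i j) * X j) f = C c * f ∧ A.mulVec v = d • v' := by
  by_cases hspan : v' ∈ Submodule.span ℂ {v}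
  · obtain ⟨k, hk⟩ := Submodule.mem_span_singleton.mp hspan
    have hk0 : k ≠ 0 := by
      rintro rfl
      rw [zero_smul] at hk
      exact hv' hk.symm
    refine ⟨1, 1, k⁻¹, by simp, ?_, ?_⟩
    · apply MvPolynomial.funext
      intro u
      rw [eval_subst, Matrix.one_mulVec, map_mul, MvPolynomial.eval_C, one_mul]
    · rw [Matrix.one_mulVec, ← hk, smul_smul, inv_mul_cancel₀ hk0, one_smul]
  · obtain ⟨μ, hμ1, hμ2⟩ := exists_mu3 f hf hsm v hv hfv hflex
    obtain ⟨μ', hμ'1, hμ'2⟩ := exists_mu3 f hf hsm v' hv' hfv' hflex'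
    have hind := indep v v' hv hspan
    have hg := g_formula f hf v v' hfv hfv' μ hμ1
    obtain ⟨r1, r2⟩ := pair_rel f hf v v' hfv hfv' μ hμ1 μ' hμ'1
    have hd : dd f v v' ≠ 0 := by
      intro hd
      exact no_line f hf hsm v v' hind (fun a b => by rw [hg, hd]; ring)
    have hmm : μ v' * μ' v = 1 := by
      have h0 : dd f v v' * (μ v' * μ' v - 1) = 0 := by
        have h1 := r2
        rw [r1] at h1
        linear_combination -h1
      rcases mul_eq_zero.mp h0 with h | h
      · exact absurd h hd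
      · linear_combination h
    have hAv : ∀ u, (invol v μ).mulVec u = u - μ u • v := invol_mulVec v μ
    have hA'v : ∀ u, (invol v' μ').mulVec u = u - μ' u • v' := invol_mulVec v' μ'
    have hinvA := invol_invariant f hf v hfv μ hμ1
    have hinvA' := invol_invariant f hf v' hfv' μ' hμ'1
    have hAA := invol_sq v μ hμ2
    have hA'A' := invol_sq v' μ' hμ'2
    have hBB : invol v μ * invol v' μ' * invol v μ * (invol v μ * invol v' μ' * invol v μ) = 1 := by
      calc invol v μ * invol v' μ' * invol v μ * (invol v μ * invol v' μ' * invol v μ)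
          = invol v μ * (invol v' μ' * (invol v μ * invol v μ) * invol v' μ') * invol v μ := by
            simp only [Matrix.mul_assoc]
        _ = 1 := by rw [hAA, Matrix.mul_one, hA'A', Matrix.mul_one, hAA]
    refine ⟨invol v μ * invol v' μ' * invol v μ, 1, μ' v, ?_, ?_, ?_⟩
    · have h1 : (invol v μ * invol v' μ' * invol v μ).det * (invol v μ * invol v' μ' * invol v μ).det = 1 := by
        rw [← Matrix.det_mul, hBB, Matrix.det_one]
      exact IsUnit.of_mul_eq_one _ h1
    · apply MvPolynomial.funext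
      intro u
      rw [eval_subst, map_mul, MvPolynomial.eval_C, one_mul, ← Matrix.mulVec_mulVec,
        ← Matrix.mulVec_mulVec, hinvA, hinvA', hinvA]
    · have e1 : (invol v μ).mulVec v = -v := by
        rw [hAv, hμ2]; module
      have e2 : (invol v' μ').mulVec (-v) = -v + μ' v • v' := by
        rw [hA'v, map_neg]; module
      have e3 : (invol v μ).mulVec (-v + μ' v • v') = μ' v • v' := by
        rw [hAv, map_add, map_neg, map_smul, hμ2, smul_eq_mul]
        have h3 : (-(2 : ℂ) + μ' v * μ v') = -1 := by linear_combination hmm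
        rw [h3]; module
      rw [← Matrix.mulVec_mulVec, ← Matrix.mulVec_mulVec, e1, e2, e3]

end Groth.Agent.S18406
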