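import Groth.Statements.S18404
import Mathlib
-- import your own Groth.Agent.* helpers here

set_option autoImplicit false
universe u
open Cubic

namespace Groth.Agent.S18404

open MvPolynomial in
lemma eval_form (k : ℂ) (u : Fin 3 → ℂ) :
    eval u (HesseCubic.form k) = u 0 ^ 3 + u 1 ^ 3 + u 2 ^ 3 - 3 * k * (u 0 * u 1 * u 2) := by
  simp [HesseCubic.form]

lemma key_abc (k a b c x y z : ℂ) (hk : k ^ 3 ≠ 1)
    (hE0 : a ^ 3 + b ^ 3 + c ^ 3 - 3 * k * (a * b * c) = 0)
    (hE1 : (a ^ 2 - k * b * c) * x + (b ^ 2 - k * a * c) * y + (c ^ 2 - k * a * b) * z = 0)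
    (hE2 : a * x ^ 2 + b * y ^ 2 + c * z ^ 2 - k * (a * y * z + b * x * z + c * x * y) = 0)
    (hd : b * z - c * y ≠ 0 ∨ c * x - a * z ≠ 0 ∨ a * y - b * x ≠ 0) : a * b * c = 0 := by
  have hk' : (1 - k ^ 3) ≠ 0 := fun h => hk (by linear_combination -h)
  have i0 : 8 * (1 - k ^ 3) * (a * b * c) * (b * z - c * y) ^ 2 = 0 := by
    linear_combination
      (2 * k ^ 2 * (b * z - c * y) ^ 2 +
        2 * (2 * (a * x ^ 2 + b * y ^ 2 + c * z ^ 2 - k * (a * y * z + b * x * z + c * x * y)) * (2 * a)
          - (2 * a * x - k * c * y - k * b * z) ^ 2)) * hE0 +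
      (-2 * (2 * ((a ^ 2 - k * b * c) * x + (b ^ 2 - k * a * c) * y + (c ^ 2 - k * a * b) * z) * (2 * a)
          - (2 * a * x - k * c * y - k * b * z) * (2 * (a ^ 2 - k * b * c)))
        + 2 * (2 * (a ^ 2 - k * b * c)) * (2 * a * x - k * c * y - k * b * z)) * hE1 +
      (-2 * (2 * (a ^ 2 - k * b * c)) ^ 2) * hE2
  have i1 : 8 * (1 - k ^ 3) * (a * b * c) * (c * x - a * z) ^ 2 = 0 := by
    linear_combination
      (2 * k ^ 2 * (c * x - a * z) ^ 2 +
        2 * (2 * (a * x ^ 2 + b * y ^ 2 + c * z ^ 2 - k * (a * y * z + b * x * z + c * x * y)) * (2 * b)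
          - (-k * c * x + 2 * b * y - k * a * z) ^ 2)) * hE0 +
      (-2 * (2 * ((a ^ 2 - k * b * c) * x + (b ^ 2 - k * a * c) * y + (c ^ 2 - k * a * b) * z) * (2 * b)
          - (-k * c * x + 2 * b * y - k * a * z) * (2 * (b ^ 2 - k * a * c)))
        + 2 * (2 * (b ^ 2 - k * a * c)) * (-k * c * x + 2 * b * y - k * a * z)) * hE1 +
      (-2 * (2 * (b ^ 2 - k * a * c)) ^ 2) * hE2
  have i2 : 8 * (1 - k ^ 3) * (a * b * c) * (a * y - b * x) ^ 2 = 0 := by
    linear_combination
      (2 * k ^ 2 * (a * y - b * x) ^ 2 +
        2 * (2 * (a * x ^ 2 + b * y ^ 2 + c * z ^ 2 - k * (a * y * z + b * x * z + c * x * y)) * (2 * c)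
          - (-k * b * x - k * a * y + 2 * c * z) ^ 2)) * hE0 +
      (-2 * (2 * ((a ^ 2 - k * b * c) * x + (b ^ 2 - k * a * c) * y + (c ^ 2 - k * a * b) * z) * (2 * c)
          - (-k * b * x - k * a * y + 2 * c * z) * (2 * (c ^ 2 - k * a * b)))
        + 2 * (2 * (c ^ 2 - k * a * b)) * (-k * b * x - k * a * y + 2 * c * z)) * hE1 +
      (-2 * (2 * (c ^ 2 - k * a * b)) ^ 2) * hE2
  have h8 : (8 : ℂ) ≠ 0 := by norm_num
  rcases hd with hd | hd | hd
  · have := pow_ne_zero 2 hd
    rcases mul_eq_zero.1 i0 with h | h
    · rcases mul_eq_zero.1 h with h | h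
      · rcases mul_eq_zero.1 h with h | h
        · exact absurd h h8
        · exact absurd h hk'
      · exact h
    · exact absurd h this
  · have := pow_ne_zero 2 hd
    rcases mul_eq_zero.1 i1 with h | h
    · rcases mul_eq_zero.1 h with h | h
      · rcases mul_eq_zero.1 h with h | h
        · exact absurd h h8
        · exact absurd h hk'
      · exact h
    · exact absurd h this
  · have := pow_ne_zero 2 hd
    rcases mul_eq_zero.1 i2 with h | h
    · rcases mul_eq_zero.1 h with h | h
      · rcases mul_eq_zero.1 h with h | h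
        · exact absurd h h8
        · exact absurd h hk'
      · exact h
    · exact absurd h this

open MvPolynomial in
/-- Let k ∈ ℂ with k³ ≠ 1 and let h = X₀³ + X₁³ + X₂³ − 3k·X₀X₁X₂ be the Hesse cubic. For a nonzero
vector v with h(v) = 0, the corresponding point is a flex of the plane curve of h — some line
through it meets the curve there with multiplicity three, i.e. there is a vector w linearly
independent from v with h(v + t·w) = t³·h(w) for every t — exactly when v is a scalar multiple of
one of the nine vectors (0, 1, −γ), (−γ, 0, 1), (1, −γ, 0) with γ³ = 1. -/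
theorem result (k : ℂ) (hk : k ^ 3 ≠ 1) (v : Fin 3 → ℂ) (hv : v ≠ 0)
    (hCv : eval v (HesseCubic.form k) = 0) :
    (∃ w : Fin 3 → ℂ, LinearIndependent ℂ ![v, w] ∧
        ∀ t : ℂ, eval (v + t • w) (HesseCubic.form k) = t ^ 3 * eval w (HesseCubic.form k)) ↔
      ∃ γ c : ℂ, γ ^ 3 = 1 ∧ (v = c • ![0, 1, -γ] ∨ v = c • ![-γ, 0, 1] ∨ v = c • ![1, -γ, 0]) := by
  have hk' : (1 - k ^ 3) ≠ 0 := fun h => hk (by linear_combination -h)
  have hE0 : v 0 ^ 3 + v 1 ^ 3 + v 2 ^ 3 - 3 * k * (v 0 * v 1 * v 2) = 0 := by
    rw [← eval_form]; exact hCv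
  constructor
  · rintro ⟨w, hlin, hw⟩
    have h1 := hw 1
    have hm1 := hw (-1)
    rw [eval_form, eval_form] at h1 hm1
    simp only [Pi.add_apply, Pi.smul_apply, smul_eq_mul] at h1 hm1
    have hE1 : (v 0 ^ 2 - k * v 1 * v 2) * w 0 + (v 1 ^ 2 - k * v 0 * v 2) * w 1 +
        (v 2 ^ 2 - k * v 0 * v 1) * w 2 = 0 := by
      linear_combination (1 / 6) * h1 - (1 / 6) * hm1
    have hE2 : v 0 * w 0 ^ 2 + v 1 * w 1 ^ 2 + v 2 * w 2 ^ 2 -
        k * (v 0 * w 1 * w 2 + v 1 * w 0 * w 2 + v 2 * w 0 * w 1) = 0 := by
      linear_combination (1 / 6) * h1 + (1 / 6) * hm1 - (1 / 3) * hE0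
    have hcr : crossProduct v w ≠ 0 := crossProduct_ne_zero_iff_linearIndependent.2 hlin
    have hd : v 1 * w 2 - v 2 * w 1 ≠ 0 ∨ v 2 * w 0 - v 0 * w 2 ≠ 0 ∨ v 0 * w 1 - v 1 * w 0 ≠ 0 := by
      by_contra hno
      apply hcr
      have h0 : v 1 * w 2 - v 2 * w 1 = 0 := by
        by_contra h; exact hno (Or.inl h)
      have h1 : v 2 * w 0 - v 0 * w 2 = 0 := by
        by_contra h; exact hno (Or.inr (Or.inl h))
      have h2 : v 0 * w 1 - v 1 * w 0 = 0 := by
        by_contra h; exact hno (Or.inr (Or.inr h))
      rw [cross_apply, h0, h1, h2]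
      funext i
      fin_cases i <;> rfl
    have habc := key_abc k (v 0) (v 1) (v 2) (w 0) (w 1) (w 2) hk hE0 hE1 hE2 hd
    have hvne : v 0 ≠ 0 ∨ v 1 ≠ 0 ∨ v 2 ≠ 0 := by
      by_contra hno
      apply hv
      funext i
      fin_cases i
      · by_contra h; exact hno (Or.inl h)
      · by_contra h; exact hno (Or.inr (Or.inl h))
      · by_contra h; exact hno (Or.inr (Or.inr h))
    rcases mul_eq_zero.1 habc with h | hc
    · rcases mul_eq_zero.1 h with ha | hb
      · -- v 0 = 0
        have h3 : v 1 ^ 3 + v 2 ^ 3 = 0 := by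
          rw [ha] at hE0; linear_combination hE0
        have hb : v 1 ≠ 0 := by
          intro hb
          rw [hb] at h3
          have : v 2 = 0 := by
            have : v 2 ^ 3 = 0 := by linear_combination h3
            exact pow_eq_zero_iff (by norm_num) |>.1 this
          rcases hvne with h | h | h
          · exact h ha
          · exact h hb
          · exact h this
        refine ⟨-(v 2 / v 1), v 1, ?_, Or.inl ?_⟩
        · field_simp
          linear_combination -h3
        · funext i
          fin_cases i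
          · simp [ha]
          · simp
          · simp; field_simp
      · -- v 1 = 0
        have h3 : v 0 ^ 3 + v 2 ^ 3 = 0 := by
          rw [hb] at hE0; linear_combination hE0
        have hc : v 2 ≠ 0 := by
          intro hc
          rw [hc] at h3
          have : v 0 = 0 := by
            have : v 0 ^ 3 = 0 := by linear_combination h3
            exact pow_eq_zero_iff (by norm_num) |>.1 this
          rcases hvne with h | h | h
          · exact h this
          · exact h hb
          · exact h hc
        refine ⟨-(v 0 / v 2), v 2, ?_, Or.inr (Or.inl ?_)⟩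
        · field_simp
          linear_combination -h3
        · funext i
          fin_cases i
          · simp; field_simp
          · simp [hb]
          · simp
    · -- v 2 = 0
      have h3 : v 0 ^ 3 + v 1 ^ 3 = 0 := by
        rw [hc] at hE0; linear_combination hE0
      have ha : v 0 ≠ 0 := by
        intro ha
        rw [ha] at h3
        have : v 1 = 0 := by
          have : v 1 ^ 3 = 0 := by linear_combination h3
          exact pow_eq_zero_iff (by norm_num) |>.1 this
        rcases hvne with h | h | h
        · exact h ha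
        · exact h this
        · exact h hc
      refine ⟨-(v 1 / v 0), v 0, ?_, Or.inr (Or.inr ?_)⟩
      · field_simp
        linear_combination -h3
      · funext i
        fin_cases i
        · simp
        · simp; field_simp
        · simp [hc]
  · rintro ⟨γ, c, hγ, hcase⟩
    have hc : c ≠ 0 := by
      rintro rfl
      apply hv
      rcases hcase with h | h | h <;> rw [h, zero_smul]
    rcases hcase with h | h | h
    · refine ⟨![1, -(k * γ), 0], ?_, ?_⟩
      · rw [LinearIndependent.pair_iff]
        intro s t hst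
        have e0 := congrFun hst 0
        have e1 := congrFun hst 1
        rw [h] at e0 e1
        simp at e0 e1
        subst e0
        simp at e1
        exact ⟨e1.resolve_right hc, rfl⟩
      · intro t
        rw [eval_form, eval_form, h]
        simp
        linear_combination (-c ^ 3) * hγ
    · refine ⟨![0, 1, -(k * γ)], ?_, ?_⟩
      · rw [LinearIndependent.pair_iff]
        intro s t hst
        have e1 := congrFun hst 1
        have e2 := congrFun hst 2
        rw [h] at e1 e2
        simp at e1 e2
        subst e1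
        simp at e2
        exact ⟨e2.resolve_right hc, rfl⟩
      · intro t
        rw [eval_form, eval_form, h]
        simp
        linear_combination (-c ^ 3) * hγ
    · refine ⟨![-(k * γ), 0, 1], ?_, ?_⟩
      · rw [LinearIndependent.pair_iff]
        intro s t hst
        have e0 := congrFun hst 0
        have e2 := congrFun hst 2
        rw [h] at e0 e2
        simp at e0 e2
        subst e2
        simp at e0
        exact ⟨e0.resolve_right hc, rfl⟩
      · intro t
        rw [eval_form, eval_form, h]
        simp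
        linear_combination (-c ^ 3) * hγ

end Groth.Agent.S18404
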