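import Groth.Statements.S19632
import Mathlib
-- import your own Groth.Agent.* helpers here

set_option autoImplicit false
universe u
open DeRham

namespace Groth.Agent.S19632

section helpers
open LaurentPolynomial
variable (k : Type u) [Field k]

/-- the Euler operator `T d/dT` on Laurent polynomials, as a linear map -/
noncomputable def eulerLin : LaurentPolynomial k →ₗ[k] LaurentPolynomial k :=
  (AddMonoidAlgebra.coeffLinearEquiv k).symm.toLinearMap ∘ₗ
    (Finsupp.lsum k (fun n : ℤ => (n : k) • Finsupp.lsingle (R := k) (M := k) n)) ∘ₗ
    (AddMonoidAlgebra.coeffLinearEquiv k).toLinearMap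

lemma eulerLin_single (n : ℤ) (a : k) :
    eulerLin k (AddMonoidAlgebra.single n a) = AddMonoidAlgebra.single n ((n : k) * a) := by
  unfold eulerLin
  rw [LinearMap.comp_apply, LinearMap.comp_apply]
  have h1 : (AddMonoidAlgebra.coeffLinearEquiv k).toLinearMap (AddMonoidAlgebra.single n a : LaurentPolynomial k)
      = Finsupp.single n a := by
    simp [-single_eq_C_mul_T]
  rw [h1]
  rw [Finsupp.lsum_single]
  apply (AddMonoidAlgebra.coeffLinearEquiv k).injective
  simp [-single_eq_C_mul_T]

/-- The Euler derivation. -/
noncomputable def euler : Derivation k (LaurentPolynomial k) (LaurentPolynomial k) :=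
  Derivation.mk' (eulerLin k) (by
    intro a b
    have : ((LinearMap.mul k (LaurentPolynomial k)).compr₂ (eulerLin k)) =
        (LinearMap.mul k (LaurentPolynomial k)).compl₂ (eulerLin k) +
        ((LinearMap.mul k (LaurentPolynomial k)).comp (eulerLin k)) := by
      apply AddMonoidAlgebra.lhom_ext'
      intro m
      apply LinearMap.ext
      intro x
      apply AddMonoidAlgebra.lhom_ext'
      intro n
      apply LinearMap.ext
      intro y
      simp only [LinearMap.comp_apply, LinearMap.compr₂_apply, LinearMap.compl₂_apply, LinearMap.add_apply,
        LinearMap.mul_apply', AddMonoidAlgebra.lsingle_apply, eulerLin_single, 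
        AddMonoidAlgebra.single_mul_single]
      rw [← AddMonoidAlgebra.single_add]
      congr 1
      push_cast
      ring
    have := congrArg (fun L => L a b) this
    simp only [LinearMap.compr₂_apply, LinearMap.compl₂_apply, LinearMap.add_apply, LinearMap.mul_apply',
      LinearMap.comp_apply] at this
    rw [this, smul_eq_mul, smul_eq_mul, mul_comm b])


lemma eulerLin_coeff (f : LaurentPolynomial k) (n : ℤ) :
    (eulerLin k f).coeff n = (n : k) * f.coeff n := by
  have : (Finsupp.lapply (R := k) n) ∘ₗ (AddMonoidAlgebra.coeffLinearEquiv k).toLinearMap ∘ₗ (eulerLin k) =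
      (n : k) • ((Finsupp.lapply (R := k) n) ∘ₗ (AddMonoidAlgebra.coeffLinearEquiv (S := k) (M := ℤ) k).toLinearMap) := by
    apply AddMonoidAlgebra.lhom_ext'
    intro m
    apply LinearMap.ext
    intro x
    simp only [LinearMap.comp_apply, AddMonoidAlgebra.lsingle_apply, eulerLin_single, LinearMap.smul_apply,
      Finsupp.lapply_apply, LinearEquiv.coe_coe, AddMonoidAlgebra.coeffLinearEquiv_apply,
      AddMonoidAlgebra.coeff_single, smul_eq_mul]
    by_cases h : m = n
    · subst h; simp
    · simp [Finsupp.single_eq_of_ne' h]
  have := congrArg (fun L => L f) this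
  simpa using this

theorem main_aux [CharZero k] (f : LaurentPolynomial k) :
    KaehlerDifferential.D k (LaurentPolynomial k) f = 0 ↔ f ∈ Set.range (algebraMap k (LaurentPolynomial k)) := by
  constructor
  · intro h
    have h1 : euler k f = 0 := by
      rw [← (euler k).liftKaehlerDifferential_comp_D, h, map_zero]
    have h2 : ∀ n : ℤ, n ≠ 0 → f.coeff n = 0 := by
      intro n hn
      have := eulerLin_coeff k f n
      have h3 : eulerLin k f = 0 := h1
      rw [h3] at this
      simp at this
      rcases this with h | h
      · exact absurd h hn
      · exact h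
    refine ⟨f.coeff 0, ?_⟩
    apply LaurentPolynomial.ext
    intro n
    by_cases hn : n = 0
    · subst hn; simp
    · rw [h2 n hn]
      simp [LaurentPolynomial.algebraMap_apply, hn]
  · rintro ⟨c, rfl⟩
    exact Derivation.map_algebraMap _ c


end helpers

/-- Let k be a field of characteristic zero and G_m = Spec k[t, t⁻¹] the multiplicative group. The
kernel of the differential d : k[t, t⁻¹] → Ω¹ of the de Rham complex of G_m consists of the
constants: for a Laurent polynomial f, df = 0 if and only if f lies in the image of k. Equivalently
H^0_dR(G_m/k) = k. (Characteristic zero is used: in characteristic p the element t^p is closed.) -/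
theorem result (k : Type u) [Field k] [CharZero k]
    (f : LaurentPolynomial k) :
    KaehlerDifferential.D k (LaurentPolynomial k) f = 0 ↔ f ∈ Set.range (algebraMap k (LaurentPolynomial k)) := by
  exact main_aux k f

end Groth.Agent.S19632
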