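import Groth.Statements.S9405
import Mathlib
import Groth.Agent.Lib.Helper26.FiniteOverHens
import Groth.Agent.Lib.Helper26.PairHensLocal

set_option autoImplicit false
universe u
open CAlg

namespace Groth.Agent.S9405

open TensorProduct in
/-- a finite module over a complete Noetherian ring is complete -/
theorem isAdicComplete_of_finite {R : Type u} [CommRing R] [IsNoetherianRing R] (I : Ideal R)
    [IsAdicComplete I R] (M : Type u) [AddCommGroup M] [Module R M] [Module.Finite R M] :
    IsAdicComplete I M := by
  rw [← AdicCompletion.of_bijective_iff]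
  have hb : Function.Bijective (AdicCompletion.of I R) :=
    AdicCompletion.of_bijective_iff.mpr inferInstance
  let e : R ≃ₗ[R] AdicCompletion I R := LinearEquiv.ofBijective (AdicCompletion.of I R) hb
  let φ : M ≃ₗ[R] AdicCompletion I R ⊗[R] M :=
    (TensorProduct.lid R M).symm.trans (e.rTensor M)
  have hφ : ∀ x : M, φ x = (1 : AdicCompletion I R) ⊗ₜ[R] x := by
    intro x
    show (e.rTensor M) ((TensorProduct.lid R M).symm x) = _
    rw [TensorProduct.lid_symm_apply, LinearEquiv.rTensor_tmul]
    rfl
  have hcomp : ⇑(AdicCompletion.of I M) = ⇑(AdicCompletion.ofTensorProduct I M) ∘ ⇑φ := by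
    funext x
    rw [Function.comp_apply, hφ, AdicCompletion.ofTensorProduct_tmul, one_smul]
  rw [hcomp]
  exact (AdicCompletion.ofTensorProduct_bijective_of_finite_of_isNoetherian I M).comp φ.bijective

/-- change of ring and ideal for adic completeness -/
theorem isAdicComplete_transfer {R B : Type u} [CommRing R] [CommRing B] [Algebra R B]
    (I : Ideal R) (J : Ideal B) (k : ℕ) (hk : 0 < k)
    (h1 : I.map (algebraMap R B) ≤ J) (h2 : J ^ k ≤ I.map (algebraMap R B))
    [hc : IsAdicComplete I B] : IsAdicComplete J B := by
  have hU : ∀ (n : ℕ) (x : B), x ∈ (I ^ n • ⊤ : Submodule R B) ↔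
      x ∈ (I.map (algebraMap R B)) ^ n := by
    intro n x
    rw [Ideal.smul_top_eq_map, Ideal.map_pow]
    rfl
  have hV : ∀ (n : ℕ) (x : B), x ∈ (J ^ n • ⊤ : Submodule B B) ↔ x ∈ J ^ n := by
    intro n x
    rw [smul_eq_mul, Ideal.mul_top]
  have hUV : ∀ (n : ℕ) (x : B), x ∈ (I ^ n • ⊤ : Submodule R B) → x ∈ (J ^ n • ⊤ : Submodule B B) := by
    intro n x hx
    rw [hV]
    exact Ideal.pow_right_mono h1 n ((hU n x).mp hx)
  have hVU : ∀ (n : ℕ) (x : B), x ∈ (J ^ (k * n) • ⊤ : Submodule B B) →
      x ∈ (I ^ n • ⊤ : Submodule R B) := by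
    intro n x hx
    rw [hU]
    rw [hV, pow_mul] at hx
    exact Ideal.pow_right_mono h2 n hx
  have hVmono : ∀ {m n : ℕ}, m ≤ n → ∀ x : B, x ∈ (J ^ n • ⊤ : Submodule B B) →
      x ∈ (J ^ m • ⊤ : Submodule B B) := by
    intro m n hmn x hx
    rw [hV] at hx ⊢
    exact Ideal.pow_le_pow_right hmn hx
  refine { haus' := ?_, prec' := ?_ }
  · intro x hx
    apply hc.toIsHausdorff.haus' x
    intro n
    rw [SModEq.sub_mem, sub_zero]
    apply hVU
    have := hx (k * n)
    rw [SModEq.sub_mem, sub_zero] at this
    exact this
  · intro f hf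
    obtain ⟨L, hL⟩ := hc.toIsPrecomplete.prec' (fun n => f (k * n)) (by
      intro m n hmn
      rw [SModEq.sub_mem]
      apply hVU
      have := hf (Nat.mul_le_mul_left k hmn)
      rw [SModEq.sub_mem] at this
      exact this)
    refine ⟨L, fun n => ?_⟩
    rw [SModEq.sub_mem]
    have h3 : f n - f (k * n) ∈ (J ^ n • ⊤ : Submodule B B) := by
      have := hf (Nat.le_mul_of_pos_left n hk)
      rw [SModEq.sub_mem] at this
      exact this
    have h4 : f (k * n) - L ∈ (J ^ n • ⊤ : Submodule B B) := by
      apply hUV
      have := hL n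
      rw [SModEq.sub_mem] at this
      exact this
    have : f n - L = (f n - f (k * n)) + (f (k * n) - L) := by ring
    rw [this]
    exact Submodule.add_mem _ h3 h4


/-- A module-finite algebra S over a complete Noetherian local ring R is a finite product of complete
Noetherian local rings; precisely, S has finitely many maximal ideals, S maps bijectively onto the
product of its localizations at them, and each of these localizations is Noetherian and complete for
its maximal ideal. -/
theorem result (R : Type u) [CommRing R]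
    [IsLocalRing R] [IsNoetherianRing R] [IsAdicComplete (IsLocalRing.maximalIdeal R) R]
    (S : Type u) [CommRing S] [Algebra R S] [Module.Finite R S] :
    Finite (MaximalSpectrum S) ∧
      Function.Bijective
        (algebraMap S ((m : MaximalSpectrum S) → Localization.AtPrime m.asIdeal)) ∧
      ∀ m : MaximalSpectrum S, IsNoetherianRing (Localization.AtPrime m.asIdeal) ∧
        IsAdicComplete (IsLocalRing.maximalIdeal (Localization.AtPrime m.asIdeal))
          (Localization.AtPrime m.asIdeal) := by
  classical
  have hhensR : HenselianRing R (IsLocalRing.maximalIdeal R) := inferInstance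
  have hhens : HenselianLocalRing R :=
    Groth.Agent.Lib.helper26.PairHens.henselianLocalRing_of_henselianRing R hhensR
  have hint : Algebra.IsIntegral R S := Algebra.IsIntegral.of_finite R S
  have hJle : ∀ m : Ideal S, m.IsMaximal → (IsLocalRing.maximalIdeal R).map (algebraMap R S) ≤ m := by
    intro m hm
    rw [Ideal.map_le_iff_le_comap]
    have : (m.comap (algebraMap R S)).IsMaximal := Ideal.isMaximal_comap_of_isIntegral_of_isMaximal m
    rw [IsLocalRing.eq_maximalIdeal this]
  -- (1)
  have hart : IsArtinianRing (S ⧸ (IsLocalRing.maximalIdeal R).map (algebraMap R S)) :=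
    Groth.Agent.Lib.helper26.FiniteOverHens.isArtinianRing_quotient R S
  have hfinset : {m : Ideal S | m.IsMaximal}.Finite := by
    have h0 : {I : Ideal (S ⧸ (IsLocalRing.maximalIdeal R).map (algebraMap R S)) | I.IsMaximal}.Finite :=
      IsArtinianRing.setOfPred_isMaximal_finite _
    refine (h0.image (Ideal.comap (Ideal.Quotient.mk _))).subset ?_
    intro m hm
    refine ⟨m.map (Ideal.Quotient.mk _), ?_, ?_⟩
    · have hm' : m.IsMaximal := hm
      exact Ideal.IsMaximal.map_of_surjective_of_ker_le Ideal.Quotient.mk_surjective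
        (by rw [Ideal.mk_ker]; exact hJle m hm)
    · rw [Ideal.comap_map_of_surjective _ Ideal.Quotient.mk_surjective, ← RingHom.ker_eq_comap_bot,
        Ideal.mk_ker]
      exact sup_eq_left.mpr (hJle m hm)
  have hfin : Finite (MaximalSpectrum S) := by
    have := hfinset.to_subtype
    exact Finite.of_injective
      (fun m : MaximalSpectrum S => (⟨m.asIdeal, m.isMaximal⟩ : {m : Ideal S | m.IsMaximal}))
      (fun a b hab => MaximalSpectrum.ext (congrArg Subtype.val hab))
  -- kernels
  have hK : ∀ (m : MaximalSpectrum S) (M : Ideal S), M.IsMaximal →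
      RingHom.ker (algebraMap S (Localization.AtPrime m.asIdeal)) ≤ M → M = m.asIdeal := by
    intro m M hM hle
    by_contra hne
    have hmmax : m.asIdeal.IsMaximal := m.isMaximal
    obtain ⟨e, he, heq, hem⟩ :=
      Groth.Agent.Lib.helper26.FiniteOverHens.exists_idempotent_of_isMaximal R S m.asIdeal
    have heM : e ∈ M := hem M hM hne
    have hu : IsUnit (algebraMap S (Localization.AtPrime m.asIdeal) e) :=
      IsLocalization.map_units _ (⟨e, heq⟩ : m.asIdeal.primeCompl)
    have h1 : algebraMap S (Localization.AtPrime m.asIdeal) (1 - e) = 0 := by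
      have h2 : algebraMap S (Localization.AtPrime m.asIdeal) e *
          algebraMap S (Localization.AtPrime m.asIdeal) (1 - e) = 0 := by
        rw [← map_mul, mul_sub, mul_one, he.eq, sub_self, map_zero]
      exact (hu.mul_right_eq_zero).mp h2
    have h3 : 1 - e ∈ M := hle h1
    have h4 : (1 : S) ∈ M := by
      have : (1 : S) = (1 - e) + e := by ring
      rw [this]
      exact Ideal.add_mem _ h3 heM
    exact hM.ne_top ((Ideal.eq_top_iff_one M).mpr h4)
  refine ⟨hfin, ⟨?_, ?_⟩, ?_⟩
  · rw [injective_iff_map_eq_zero]
    intro s hs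
    apply eq_zero_of_localization
    intro J hJ
    exact congrFun hs (⟨J, hJ⟩ : MaximalSpectrum S)
  · intro y
    have hsurj : ∀ m : MaximalSpectrum S, ∃ x : S,
        algebraMap S (Localization.AtPrime m.asIdeal) x = y m := by
      intro m
      have hmmax : m.asIdeal.IsMaximal := m.isMaximal
      exact Groth.Agent.Lib.helper26.FiniteOverHens.surjective_algebraMap_atPrime R S m.asIdeal (y m)
    choose x hx using hsurj
    have hcop : Pairwise (Function.onFun IsCoprime
        (fun m : MaximalSpectrum S => RingHom.ker (algebraMap S (Localization.AtPrime m.asIdeal)))) := by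
      intro m m' hmm'
      show IsCoprime _ _
      rw [Ideal.isCoprime_iff_sup_eq]
      by_contra hne
      obtain ⟨M, hM, hle⟩ := Ideal.exists_le_maximal _ hne
      have h1 := hK m M hM (le_sup_left.trans hle)
      have h2 := hK m' M hM (le_sup_right.trans hle)
      exact hmm' (MaximalSpectrum.ext (h1.symm.trans h2))
    obtain ⟨r, hr⟩ := Ideal.exists_forall_sub_mem_ideal hcop x
    refine ⟨r, ?_⟩
    funext m
    show algebraMap S (Localization.AtPrime m.asIdeal) r = y m
    rw [← hx m, ← sub_eq_zero, ← map_sub]
    exact hr m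
  · intro m
    have hmmax : m.asIdeal.IsMaximal := m.isMaximal
    have hnoeS : IsNoetherianRing S := Algebra.FiniteType.isNoetherianRing R S
    have hnoe : IsNoetherianRing (Localization.AtPrime m.asIdeal) :=
      IsLocalization.isNoetherianRing m.asIdeal.primeCompl _ hnoeS
    refine ⟨hnoe, ?_⟩
    have hfinm : Module.Finite R (Localization.AtPrime m.asIdeal) :=
      Groth.Agent.Lib.helper26.FiniteOverHens.finite_atPrime R S m.asIdeal
    have hc1 : IsAdicComplete (IsLocalRing.maximalIdeal R) (Localization.AtPrime m.asIdeal) :=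
      isAdicComplete_of_finite _ _
    have hloc : IsLocalHom (algebraMap R (Localization.AtPrime m.asIdeal)) :=
      Groth.Agent.Lib.helper26.LocalOfSpec.isLocalHom_algebraMap_of_finite R _
    have h1 : (IsLocalRing.maximalIdeal R).map (algebraMap R (Localization.AtPrime m.asIdeal)) ≤
        IsLocalRing.maximalIdeal (Localization.AtPrime m.asIdeal) :=
      ((IsLocalRing.local_hom_TFAE (algebraMap R (Localization.AtPrime m.asIdeal))).out 0 2).mp hloc
    have hartm : IsArtinianRing (Localization.AtPrime m.asIdeal ⧸
        (IsLocalRing.maximalIdeal R).map (algebraMap R (Localization.AtPrime m.asIdeal))) :=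
      Groth.Agent.Lib.helper26.FiniteOverHens.isArtinianRing_quotient R _
    have hnt : Nontrivial (Localization.AtPrime m.asIdeal ⧸
        (IsLocalRing.maximalIdeal R).map (algebraMap R (Localization.AtPrime m.asIdeal))) :=
      Ideal.Quotient.nontrivial_iff.mpr
        (fun h => (IsLocalRing.maximalIdeal.isMaximal _).ne_top (top_le_iff.mp (h ▸ h1)))
    have hlocq : IsLocalRing (Localization.AtPrime m.asIdeal ⧸
        (IsLocalRing.maximalIdeal R).map (algebraMap R (Localization.AtPrime m.asIdeal))) :=
      IsLocalRing.of_surjective' (Ideal.Quotient.mk _) Ideal.Quotient.mk_surjective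
    obtain ⟨k, hk⟩ := IsArtinianRing.isNilpotent_jacobson_bot (R := Localization.AtPrime m.asIdeal ⧸
        (IsLocalRing.maximalIdeal R).map (algebraMap R (Localization.AtPrime m.asIdeal)))
    rw [IsLocalRing.jacobson_eq_maximalIdeal ⊥ bot_ne_top] at hk
    have hlocπ : IsLocalHom (Ideal.Quotient.mk
        ((IsLocalRing.maximalIdeal R).map (algebraMap R (Localization.AtPrime m.asIdeal)))) :=
      IsLocalHom.of_surjective _ Ideal.Quotient.mk_surjective
    have h2' : (IsLocalRing.maximalIdeal (Localization.AtPrime m.asIdeal)).map (Ideal.Quotient.mk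
        ((IsLocalRing.maximalIdeal R).map (algebraMap R (Localization.AtPrime m.asIdeal)))) ≤
        IsLocalRing.maximalIdeal _ :=
      ((IsLocalRing.local_hom_TFAE _).out 0 2).mp hlocπ
    have h2 : IsLocalRing.maximalIdeal (Localization.AtPrime m.asIdeal) ^ (k + 1) ≤
        (IsLocalRing.maximalIdeal R).map (algebraMap R (Localization.AtPrime m.asIdeal)) := by
      refine (Ideal.pow_le_pow_right (Nat.le_succ k)).trans ?_
      have h3 : (IsLocalRing.maximalIdeal (Localization.AtPrime m.asIdeal) ^ k).map (Ideal.Quotient.mk
          ((IsLocalRing.maximalIdeal R).map (algebraMap R (Localization.AtPrime m.asIdeal)))) ≤ ⊥ := by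
        rw [Ideal.map_pow, ← Ideal.zero_eq_bot, ← hk]
        exact Ideal.pow_right_mono h2' k
      rw [Ideal.map_le_iff_le_comap, ← RingHom.ker_eq_comap_bot, Ideal.mk_ker] at h3
      exact h3
    exact isAdicComplete_transfer (IsLocalRing.maximalIdeal R) _ (k + 1) (Nat.succ_pos k) h1 h2


end Groth.Agent.S9405
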