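import Groth.Statements.S4564
import Groth.Agent.S0568
import Groth.Agent.S9405
import Groth.Agent.Lib.Helper24.NagFT2
import Groth.Agent.Lib.Helper24.CplFinAlg
import Groth.Agent.Lib.Helper24.IntegralHensel

set_option autoImplicit false
universe u
open CAlg

namespace Groth.Agent.S4564

/-- Let A be a complete Noetherian local domain with fraction field K and K' a finite extension of K.
Then the integral closure of A in K' is a local ring, complete for the adic topology of its maximal
ideal. -/
theorem result {A K' : Type u} [CommRing A]
    [IsDomain A] [IsLocalRing A] [IsNoetherianRing A] [IsAdicComplete (IsLocalRing.maximalIdeal A) A]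
    [Field K'] [Algebra A K'] [Algebra (FractionRing A) K'] [IsScalarTower A (FractionRing A) K']
    [FiniteDimensional (FractionRing A) K'] :
    ∃ _ : IsLocalRing (integralClosure A K'),
      IsAdicComplete (IsLocalRing.maximalIdeal (integralClosure A K')) (integralClosure A K') := by
  classical
  have hNag := Groth.Agent.S0568.result A
  have hN2 : CAlg.IsN2 A := Groth.Agent.Lib.Helper24.NagFT.isN2_of_isNagata hNag
  haveI hfin : Module.Finite A (integralClosure A K') := hN2 K' inferInstance
  haveI : HenselianLocalRing A :=
    Groth.Agent.Lib.helper26.PairHens.henselianLocalRing_of_henselianRing A inferInstance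
  haveI : Algebra.IsIntegral A (integralClosure A K') := inferInstance
  haveI hloc : IsLocalRing (integralClosure A K') :=
    Groth.Agent.Lib.Helper24.IntegralHensel.isLocalRing_of_isDomain_of_isIntegral A _
  refine ⟨hloc, ?_⟩
  haveI : IsAdicComplete (IsLocalRing.maximalIdeal A) (integralClosure A K') :=
    Groth.Agent.S9405.isAdicComplete_of_finite (IsLocalRing.maximalIdeal A) _
  obtain ⟨k, hk, hle⟩ :=
    Groth.Agent.Lib.Helper24.CplFinAlg.exists_jacobson_pow_le A (integralClosure A K')
  rw [IsLocalRing.jacobson_eq_maximalIdeal ⊥ bot_ne_top] at hle
  haveI : IsLocalHom (algebraMap A (integralClosure A K')) :=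
    Groth.Agent.Lib.Helper24.IntegralHensel.isLocalHom_of_isIntegral A _
  have h1 : (IsLocalRing.maximalIdeal A).map (algebraMap A (integralClosure A K')) ≤
      IsLocalRing.maximalIdeal (integralClosure A K') :=
    IsLocalRing.map_maximalIdeal_le _
  exact Groth.Agent.S9405.isAdicComplete_transfer (IsLocalRing.maximalIdeal A)
    (IsLocalRing.maximalIdeal (integralClosure A K')) k hk h1 hle

end Groth.Agent.S4564
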