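import Groth.Statements.S6829
import Mathlib

set_option autoImplicit false
universe u
open Smoothing

namespace Groth.Agent.S6829


open TensorProduct MvPolynomial

section
variable {R A R' : Type u} [CommRing R] [CommRing A] [Algebra R A] [CommRing R'] [Algebra R R']

noncomputable def homBC (P : MarkedPresentation R A) :
    MvPolynomial (Fin P.n) R' →ₐ[R'] R' ⊗[R] A :=
  MvPolynomial.aeval (fun i => (1 : R') ⊗ₜ[R] P.hom (X i))

theorem homBC_map (P : MarkedPresentation R A) (f : MvPolynomial (Fin P.n) R) :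
    homBC (R' := R') P (MvPolynomial.map (algebraMap R R') f) = (1 : R') ⊗ₜ[R] P.hom f := by
  have h : (homBC (R' := R') P).toRingHom.comp (MvPolynomial.map (algebraMap R R')) =
      (Algebra.TensorProduct.includeRight : A →ₐ[R] R' ⊗[R] A).toRingHom.comp
        P.hom.toRingHom := by
    apply MvPolynomial.ringHom_ext
    · intro r
      show homBC P (MvPolynomial.map (algebraMap R R') (C r)) = (1 : R') ⊗ₜ[R] P.hom (C r)
      rw [MvPolynomial.map_C]
      unfold homBC
      rw [MvPolynomial.aeval_C, ← MvPolynomial.algebraMap_eq, AlgHom.commutes,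
        Algebra.TensorProduct.algebraMap_apply, Algebra.algebraMap_eq_smul_one r,
        Algebra.algebraMap_eq_smul_one r, TensorProduct.tmul_smul]
      show (r • (1 : R')) ⊗ₜ[R] (1 : A) = r • ((1 : R') ⊗ₜ[R] (1 : A))
      rw [TensorProduct.smul_tmul']
    · intro i
      show homBC P (MvPolynomial.map (algebraMap R R') (X i)) = (1 : R') ⊗ₜ[R] P.hom (X i)
      rw [MvPolynomial.map_X]
      unfold homBC
      rw [MvPolynomial.aeval_X]
  exact RingHom.congr_fun h f

theorem homBC_surj (P : MarkedPresentation R A) :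
    Function.Surjective (homBC (R' := R') P) := by
  intro t
  induction t using TensorProduct.induction_on with
  | zero => exact ⟨0, map_zero _⟩
  | tmul r a =>
    obtain ⟨f, rfl⟩ := P.surj a
    refine ⟨C r * MvPolynomial.map (algebraMap R R') f, ?_⟩
    rw [map_mul, homBC_map]
    unfold homBC
    rw [MvPolynomial.aeval_C, Algebra.TensorProduct.algebraMap_apply,
      Algebra.TensorProduct.tmul_mul_tmul, mul_one, one_mul]
    rfl
  | add x y hx hy =>
    obtain ⟨f, rfl⟩ := hx
    obtain ⟨g, rfl⟩ := hy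
    exact ⟨f + g, map_add _ _ _⟩

theorem homBC_ker (P : MarkedPresentation R A) :
    RingHom.ker (homBC (R' := R') P).toRingHom =
      Ideal.span (Set.range fun j => MvPolynomial.map (algebraMap R R') (P.rel j)) := by
  obtain ⟨J', hJ'⟩ : ∃ J', J' = Ideal.span
    (Set.range fun j => MvPolynomial.map (algebraMap R R') (P.rel j)) := ⟨_, rfl⟩
  rw [← hJ']
  have hrel : ∀ j, P.hom (P.rel j) = 0 := by
    intro j
    have : P.rel j ∈ RingHom.ker P.hom.toRingHom := by
      rw [P.ker_eq]; exact Ideal.subset_span ⟨j, rfl⟩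
    exact this
  apply le_antisymm
  · let ψ₀ : MvPolynomial (Fin P.n) R →ₐ[R] (MvPolynomial (Fin P.n) R' ⧸ J') :=
      (Ideal.Quotient.mkₐ R J').comp (MvPolynomial.mapAlgHom (Algebra.ofId R R'))
    have hψ₀ : ∀ f, ψ₀ f = Ideal.Quotient.mk J' (MvPolynomial.map (algebraMap R R') f) :=
      fun f => rfl
    have H : RingHom.ker P.hom.toRingHom ≤ RingHom.ker ψ₀.toRingHom := by
      rw [P.ker_eq, Ideal.span_le]
      rintro _ ⟨j, rfl⟩
      show ψ₀ (P.rel j) = 0
      rw [hψ₀, Ideal.Quotient.eq_zero_iff_mem, hJ']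
      exact Ideal.subset_span ⟨j, rfl⟩
    let ψ : A →ₐ[R] (MvPolynomial (Fin P.n) R' ⧸ J') :=
      AlgHom.liftOfSurjective P.hom P.surj ψ₀ H
    let Ψ : R' ⊗[R] A →ₐ[R'] (MvPolynomial (Fin P.n) R' ⧸ J') :=
      Algebra.TensorProduct.lift (Algebra.ofId R' _) ψ (fun _ _ => Commute.all _ _)
    have hcomp : Ψ.comp (homBC P) = Ideal.Quotient.mkₐ R' J' := by
      apply MvPolynomial.algHom_ext
      intro i
      show Ψ (homBC P (X i)) = Ideal.Quotient.mk J' (X i)
      unfold homBC
      rw [MvPolynomial.aeval_X]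
      show Algebra.TensorProduct.lift (Algebra.ofId R' _) ψ (fun _ _ => Commute.all _ _)
        ((1 : R') ⊗ₜ[R] P.hom (X i)) = _
      rw [Algebra.TensorProduct.lift_tmul, map_one, one_mul]
      show AlgHom.liftOfSurjective P.hom P.surj ψ₀ H (P.hom (X i)) = _
      rw [AlgHom.liftOfSurjective_apply, hψ₀, MvPolynomial.map_X]
    intro x hx
    have hx' : homBC P x = 0 := hx
    have h0 : Ideal.Quotient.mk J' x = 0 := by
      have h1 := AlgHom.congr_fun hcomp x
      rw [AlgHom.comp_apply, hx', map_zero] at h1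
      exact h1.symm
    exact Ideal.Quotient.eq_zero_iff_mem.mp h0
  · rw [hJ', Ideal.span_le]
    rintro _ ⟨j, rfl⟩
    show homBC P _ = 0
    rw [homBC_map, hrel, TensorProduct.tmul_zero]

noncomputable def bc (P : MarkedPresentation R A) : MarkedPresentation R' (R' ⊗[R] A) where
  n := P.n
  m := P.m
  c := P.c
  hcn := P.hcn
  hcm := P.hcm
  rel := fun j => MvPolynomial.map (algebraMap R R') (P.rel j)
  hom := homBC P
  surj := homBC_surj P
  ker_eq := homBC_ker P

theorem minor_map {n m c : ℕ} (f : Fin m → MvPolynomial (Fin n) R) (rows : Fin c → Fin m)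
    (cols : Fin c → Fin n) :
    jacobianMinor (fun j => MvPolynomial.map (algebraMap R R') (f j)) rows cols =
      MvPolynomial.map (algebraMap R R') (jacobianMinor f rows cols) := by
  unfold jacobianMinor
  rw [RingHom.map_det]
  congr 1
  ext j k
  simp [MvPolynomial.pderiv_map]

theorem killsTail_bc (P : MarkedPresentation R A) (a : A) (hK : KillsTail P a) :
    KillsTail (bc (R' := R') P) ((1 : R') ⊗ₜ[R] a) := by
  intro (a'' : MvPolynomial (Fin P.n) R') ha'' (j : Fin P.m) hj
  obtain ⟨a₀, ha₀⟩ := P.surj a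
  have h1 := hK a₀ ha₀ j hj
  have h2 := Ideal.mem_map_of_mem (MvPolynomial.map (algebraMap R R')) h1
  rw [Ideal.map_sup, Ideal.map_pow, Ideal.map_span, Ideal.map_span, Set.image_image,
    ← Set.range_comp, map_mul] at h2
  have h3 : a'' - MvPolynomial.map (algebraMap R R') a₀ ∈ Ideal.span
      (Set.range fun j => MvPolynomial.map (algebraMap R R') (P.rel j)) := by
    rw [← homBC_ker P]
    show homBC P _ = 0
    rw [map_sub, homBC_map, ha₀]
    exact sub_eq_zero.mpr ha''
  have h4 : MvPolynomial.map (algebraMap R R') (P.rel j) ∈ Ideal.span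
      (Set.range fun j => MvPolynomial.map (algebraMap R R') (P.rel j)) :=
    Ideal.subset_span ⟨j, rfl⟩
  have h5 : (a'' - MvPolynomial.map (algebraMap R R') a₀) *
      MvPolynomial.map (algebraMap R R') (P.rel j) ∈ Ideal.span
      (Set.range fun j => MvPolynomial.map (algebraMap R R') (P.rel j)) ^ 2 := by
    rw [pow_two]; exact Ideal.mul_mem_mul h3 h4
  show a'' * MvPolynomial.map (algebraMap R R') (P.rel j) ∈
    Ideal.span ((fun j => MvPolynomial.map (algebraMap R R') (P.rel j)) ''
      {j' : Fin P.m | (j' : ℕ) < P.c}) ⊔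
    Ideal.span (Set.range fun j => MvPolynomial.map (algebraMap R R') (P.rel j)) ^ 2
  have e : a'' * MvPolynomial.map (algebraMap R R') (P.rel j) =
      MvPolynomial.map (algebraMap R R') a₀ * MvPolynomial.map (algebraMap R R') (P.rel j) +
      (a'' - MvPolynomial.map (algebraMap R R') a₀) *
        MvPolynomial.map (algebraMap R R') (P.rel j) := by ring
  rw [e]
  exact Ideal.add_mem _ h2 (Ideal.mem_sup_right h5)

end


open TensorProduct in
/-- Let A be a finitely presented R-algebra, R → R' a ring map and a ∈ A. If a is elementary standard,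
resp. strictly standard, in A over R, then a ⊗ 1 is elementary standard, resp. strictly standard, in
A ⊗_R R' over R' (written here as 1 ⊗ a in R' ⊗_R A). -/
theorem result {R A R' : Type u} [CommRing R] [CommRing A] [Algebra R A]
    [Algebra.FinitePresentation R A] [CommRing R'] [Algebra R R'] (a : A) :
    (Smoothing.IsElementaryStandard R A a →
        Smoothing.IsElementaryStandard R' (R' ⊗[R] A) ((1 : R') ⊗ₜ[R] a)) ∧
      (Smoothing.IsStrictlyStandard R A a →
        Smoothing.IsStrictlyStandard R' (R' ⊗[R] A) ((1 : R') ⊗ₜ[R] a)) := by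
  refine ⟨?_, ?_⟩
  · rintro ⟨P, ⟨a', ha'⟩, hK⟩
    refine ⟨bc P, ⟨(1 : R') ⊗ₜ[R] a', ?_⟩, killsTail_bc P a hK⟩
    show (1 : R') ⊗ₜ[R] a = (1 : R') ⊗ₜ[R] a' * homBC P (jacobianMinor
      (fun j => MvPolynomial.map (algebraMap R R') (P.rel j)) (Fin.castLE P.hcm)
      (Fin.castLE P.hcn))
    rw [minor_map, homBC_map, Algebra.TensorProduct.tmul_mul_tmul, mul_one, ← ha']
  · rintro ⟨P, hmem, hK⟩
    refine ⟨bc P, ?_, killsTail_bc P a hK⟩
    show (1 : R') ⊗ₜ[R] a ∈ Ideal.span (Set.range fun cols : Fin P.c → Fin P.n =>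
      homBC (R' := R') P (jacobianMinor
        (fun j => MvPolynomial.map (algebraMap R R') (P.rel j)) (Fin.castLE P.hcm) cols))
    have key : (fun cols : Fin P.c → Fin P.n => homBC (R' := R') P (jacobianMinor
        (fun j => MvPolynomial.map (algebraMap R R') (P.rel j)) (Fin.castLE P.hcm) cols)) =
        (fun cols => (Algebra.TensorProduct.includeRight : A →ₐ[R] R' ⊗[R] A)
          (P.hom (jacobianMinor P.rel (Fin.castLE P.hcm) cols))) := by
      funext cols
      rw [minor_map, homBC_map]; rfl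
    rw [key]
    have h1 := Ideal.mem_map_of_mem
      (Algebra.TensorProduct.includeRight : A →ₐ[R] R' ⊗[R] A) hmem
    rw [Ideal.map_span, ← Set.range_comp] at h1
    exact h1


end Groth.Agent.S6829
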