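import Groth.Statements.S9404
import Mathlib

set_option autoImplicit false
universe u
open CAlg

namespace Groth.Agent.S9404

section aux
variable (A B C : Type u) [CommRing A] [IsLocalRing A] [CommRing B] [IsLocalRing B] [Algebra A B]
  [IsLocalHom (algebraMap A B)] [CommRing C] [IsLocalRing C] [Algebra A C]
  [IsLocalHom (algebraMap A C)]


open TensorProduct

/-- the ideal generated by both maximal ideals -/
noncomputable def Jid : Ideal (B ⊗[A] C) :=
  (IsLocalRing.maximalIdeal B).map (Algebra.TensorProduct.includeLeft : B →ₐ[A] B ⊗[A] C) ⊔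
    (IsLocalRing.maximalIdeal C).map (Algebra.TensorProduct.includeRight : C →ₐ[A] B ⊗[A] C)

theorem comap_left_eq [Algebra.IsIntegral A C] (M : Ideal (B ⊗[A] C)) [hM : M.IsMaximal] :
    M.comap (Algebra.TensorProduct.includeLeft : B →ₐ[A] B ⊗[A] C) = IsLocalRing.maximalIdeal B := by
  have h1 : (M.comap (algebraMap B (B ⊗[A] C))).IsMaximal :=
    Ideal.isMaximal_comap_of_isIntegral_of_isMaximal M
  have h2 := IsLocalRing.eq_maximalIdeal h1
  rw [← h2]
  rfl

theorem comap_right_eq [Algebra.IsIntegral A C] (M : Ideal (B ⊗[A] C)) [hM : M.IsMaximal] :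
    M.comap (Algebra.TensorProduct.includeRight : C →ₐ[A] B ⊗[A] C) = IsLocalRing.maximalIdeal C := by
  set q := M.comap (Algebra.TensorProduct.includeRight : C →ₐ[A] B ⊗[A] C) with hq
  have hqp : q.IsPrime := Ideal.comap_isPrime _ M
  have hle : IsLocalRing.maximalIdeal A ≤ q.comap (algebraMap A C) := by
    intro a ha
    rw [Ideal.mem_comap, hq, Ideal.mem_comap]
    have h1 : (Algebra.TensorProduct.includeRight : C →ₐ[A] B ⊗[A] C) (algebraMap A C a) =
        (Algebra.TensorProduct.includeLeft : B →ₐ[A] B ⊗[A] C) (algebraMap A B a) := by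
      rw [AlgHom.commutes, AlgHom.commutes]
    rw [h1]
    have h2 : algebraMap A B a ∈ IsLocalRing.maximalIdeal B := by
      rw [IsLocalRing.mem_maximalIdeal] at ha ⊢
      exact fun h => ha (isUnit_of_map_unit _ _ h)
    rw [← comap_left_eq A B C M] at h2
    exact h2
  have hmax : (q.comap (algebraMap A C)).IsMaximal := by
    have hp : (q.comap (algebraMap A C)).IsPrime := Ideal.comap_isPrime _ q
    have := (IsLocalRing.maximalIdeal.isMaximal A).eq_of_le hp.ne_top hle
    rw [← this]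
    infer_instance
  have hqmax : q.IsMaximal := Ideal.isMaximal_of_isIntegral_of_isMaximal_comap q hmax
  exact IsLocalRing.eq_maximalIdeal hqmax

theorem Jid_le [Algebra.IsIntegral A C] (M : Ideal (B ⊗[A] C)) [hM : M.IsMaximal] :
    Jid A B C ≤ M := by
  unfold Jid
  refine sup_le ?_ ?_
  · rw [Ideal.map_le_iff_le_comap, comap_left_eq A B C M]
  · rw [Ideal.map_le_iff_le_comap, comap_right_eq A B C M]

instance compatInst : TensorProduct.CompatibleSMul A ((IsLocalRing.ResidueField A)) ((IsLocalRing.ResidueField B)) ((IsLocalRing.ResidueField C)) :=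
  .of_algebraMap_surjective _ _ IsLocalRing.residue_surjective

/-- the residue map, first step -/
noncomputable def resMap₀ : B ⊗[A] C →ₐ[A] (IsLocalRing.ResidueField B) ⊗[A] (IsLocalRing.ResidueField C) :=
  Algebra.TensorProduct.map (IsScalarTower.toAlgHom A B ((IsLocalRing.ResidueField B))) (IsScalarTower.toAlgHom A C ((IsLocalRing.ResidueField C)))

/-- the residue map -/
noncomputable def resMap : B ⊗[A] C →ₐ[A] (IsLocalRing.ResidueField B) ⊗[(IsLocalRing.ResidueField A)] (IsLocalRing.ResidueField C) :=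
  (Algebra.TensorProduct.equivOfCompatibleSMul ((IsLocalRing.ResidueField A)) A A ((IsLocalRing.ResidueField B)) ((IsLocalRing.ResidueField C))).toAlgHom.comp (resMap₀ A B C)

theorem resMap_tmul (b : B) (c : C) :
    resMap A B C (b ⊗ₜ c) = (IsLocalRing.residue B b) ⊗ₜ (IsLocalRing.residue C c) := rfl

theorem resMap₀_surjective : Function.Surjective (resMap₀ A B C) :=
  Algebra.TensorProduct.map_surjective (IsScalarTower.toAlgHom A B ((IsLocalRing.ResidueField B)))
    (IsScalarTower.toAlgHom A C ((IsLocalRing.ResidueField C))) IsLocalRing.residue_surjective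
    IsLocalRing.residue_surjective

theorem resMap_apply (x : B ⊗[A] C) : resMap A B C x =
    (Algebra.TensorProduct.equivOfCompatibleSMul ((IsLocalRing.ResidueField A)) A A ((IsLocalRing.ResidueField B)) ((IsLocalRing.ResidueField C))) (resMap₀ A B C x) := rfl

theorem resMap_surjective : Function.Surjective (resMap A B C) := by
  intro y
  obtain ⟨z, hz⟩ := (Algebra.TensorProduct.equivOfCompatibleSMul ((IsLocalRing.ResidueField A)) A A ((IsLocalRing.ResidueField B)) ((IsLocalRing.ResidueField C))).surjective y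
  obtain ⟨x, hx⟩ := resMap₀_surjective A B C z
  exact ⟨x, by rw [resMap_apply, hx, hz]⟩

theorem ker_resMap : RingHom.ker (resMap A B C) = Jid A B C := by
  have h1 : RingHom.ker (resMap A B C) = RingHom.ker (resMap₀ A B C) := by
    ext x
    rw [RingHom.mem_ker, RingHom.mem_ker, resMap_apply]
    exact (map_eq_zero_iff _
      (Algebra.TensorProduct.equivOfCompatibleSMul ((IsLocalRing.ResidueField A)) A A ((IsLocalRing.ResidueField B)) ((IsLocalRing.ResidueField C))).injective)
  rw [h1]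
  unfold resMap₀
  rw [Algebra.TensorProduct.map_ker _ _ IsLocalRing.residue_surjective
    IsLocalRing.residue_surjective]
  unfold Jid
  congr 2
  · exact IsLocalRing.ker_residue (R := B)
  · exact IsLocalRing.ker_residue (R := C)

theorem nontrivial_tensor : Nontrivial (B ⊗[A] C) :=
  (resMap A B C).toRingHom.domain_nontrivial

theorem pow_left (q : ℕ) [ExpChar ((IsLocalRing.ResidueField A)) q] [IsPurelyInseparable ((IsLocalRing.ResidueField A)) ((IsLocalRing.ResidueField C))] (x : B ⊗[A] C) :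
    ∃ (n : ℕ) (b : B), x ^ q ^ n - b ⊗ₜ[A] (1 : C) ∈ Jid A B C := by
  obtain ⟨n, y, hy⟩ :=
    IsPurelyInseparable.exists_pow_pow_mem_range_tensorProduct_of_expChar (k := (IsLocalRing.ResidueField A)) (K := (IsLocalRing.ResidueField C))
      (R := (IsLocalRing.ResidueField B)) q (resMap A B C x)
  obtain ⟨b, rfl⟩ := IsLocalRing.residue_surjective y
  refine ⟨n, b, ?_⟩
  rw [← ker_resMap, RingHom.mem_ker, map_sub, map_pow, ← hy, resMap_tmul, map_one,
    Algebra.TensorProduct.algebraMap_apply]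
  simp

theorem pow_right (q : ℕ) [ExpChar ((IsLocalRing.ResidueField A)) q] [IsPurelyInseparable ((IsLocalRing.ResidueField A)) ((IsLocalRing.ResidueField B))] (x : B ⊗[A] C) :
    ∃ (n : ℕ) (c : C), x ^ q ^ n - (1 : B) ⊗ₜ[A] c ∈ Jid A B C := by
  obtain ⟨n, y, hy⟩ :=
    IsPurelyInseparable.exists_pow_pow_mem_range_tensorProduct_of_expChar (k := (IsLocalRing.ResidueField A)) (K := (IsLocalRing.ResidueField B))
      (R := (IsLocalRing.ResidueField C)) q (Algebra.TensorProduct.comm ((IsLocalRing.ResidueField A)) ((IsLocalRing.ResidueField B)) ((IsLocalRing.ResidueField C)) (resMap A B C x))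
  obtain ⟨c, rfl⟩ := IsLocalRing.residue_surjective y
  refine ⟨n, c, ?_⟩
  rw [← ker_resMap, RingHom.mem_ker, map_sub, map_pow, resMap_tmul, map_one]
  apply (Algebra.TensorProduct.comm ((IsLocalRing.ResidueField A)) ((IsLocalRing.ResidueField B)) ((IsLocalRing.ResidueField C))).injective
  rw [map_sub, map_pow, ← hy, map_zero, Algebra.TensorProduct.comm_tmul,
    Algebra.TensorProduct.algebraMap_apply]
  simp

theorem max_le_left [Algebra.IsIntegral A C]
    (H : ∀ x : B ⊗[A] C, ∃ (n : ℕ) (b : B), 0 < n ∧ x ^ n - b ⊗ₜ[A] (1 : C) ∈ Jid A B C)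
    (M₁ M₂ : Ideal (B ⊗[A] C)) [M₁.IsMaximal] [h₂ : M₂.IsMaximal] : M₁ ≤ M₂ := by
  intro x hx
  obtain ⟨n, b, hn, hb⟩ := H x
  have h1 : b ⊗ₜ[A] (1 : C) ∈ M₁ := by
    have : b ⊗ₜ[A] (1 : C) = x ^ n - (x ^ n - b ⊗ₜ[A] (1 : C)) := by ring
    rw [this]
    exact Ideal.sub_mem _ (Ideal.pow_mem_of_mem _ hx n hn) (Jid_le A B C M₁ hb)
  have h2 : b ∈ IsLocalRing.maximalIdeal B := by
    rw [← comap_left_eq A B C M₁]
    exact h1
  have h3 : b ⊗ₜ[A] (1 : C) ∈ M₂ := by
    rw [← comap_left_eq A B C M₂] at h2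
    exact h2
  have h4 : x ^ n ∈ M₂ := by
    have : x ^ n = (x ^ n - b ⊗ₜ[A] (1 : C)) + b ⊗ₜ[A] (1 : C) := by ring
    rw [this]
    exact Ideal.add_mem _ (Jid_le A B C M₂ hb) h3
  exact h₂.isPrime.mem_of_pow_mem n h4

theorem max_le_right [Algebra.IsIntegral A C]
    (H : ∀ x : B ⊗[A] C, ∃ (n : ℕ) (c : C), 0 < n ∧ x ^ n - (1 : B) ⊗ₜ[A] c ∈ Jid A B C)
    (M₁ M₂ : Ideal (B ⊗[A] C)) [M₁.IsMaximal] [h₂ : M₂.IsMaximal] : M₁ ≤ M₂ := by
  intro x hx
  obtain ⟨n, c, hn, hc⟩ := H x
  have h1 : (1 : B) ⊗ₜ[A] c ∈ M₁ := by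
    have : (1 : B) ⊗ₜ[A] c = x ^ n - (x ^ n - (1 : B) ⊗ₜ[A] c) := by ring
    rw [this]
    exact Ideal.sub_mem _ (Ideal.pow_mem_of_mem _ hx n hn) (Jid_le A B C M₁ hc)
  have h2 : c ∈ IsLocalRing.maximalIdeal C := by
    rw [← comap_right_eq A B C M₁]
    exact h1
  have h3 : (1 : B) ⊗ₜ[A] c ∈ M₂ := by
    rw [← comap_right_eq A B C M₂] at h2
    exact h2
  have h4 : x ^ n ∈ M₂ := by
    have : x ^ n = (x ^ n - (1 : B) ⊗ₜ[A] c) + (1 : B) ⊗ₜ[A] c := by ring
    rw [this]
    exact Ideal.add_mem _ (Jid_le A B C M₂ hc) h3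
  exact h₂.isPrime.mem_of_pow_mem n h4

/-- the tensor product is local as soon as any two maximal ideals are comparable -/
theorem isLocalRing_of_le [Algebra.IsIntegral A C]
    (H : ∀ (M₁ M₂ : Ideal (B ⊗[A] C)) [M₁.IsMaximal] [M₂.IsMaximal], M₁ ≤ M₂) :
    IsLocalRing (B ⊗[A] C) := by
  have := nontrivial_tensor A B C
  obtain ⟨M, hM⟩ := Ideal.exists_maximal (B ⊗[A] C)
  refine IsLocalRing.of_unique_max_ideal ⟨M, hM, fun M' hM' => ?_⟩
  exact (hM'.eq_of_le hM.ne_top (H M' M)) 

theorem isLocalHom_left [Algebra.IsIntegral A C] [IsLocalRing (B ⊗[A] C)] :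
    IsLocalHom (Algebra.TensorProduct.includeLeft : B →ₐ[A] B ⊗[A] C).toRingHom := by
  refine ⟨fun b hb => ?_⟩
  by_contra hbu
  have h1 : b ∈ IsLocalRing.maximalIdeal B := hbu
  rw [← comap_left_eq A B C (IsLocalRing.maximalIdeal (B ⊗[A] C))] at h1
  exact h1 hb

theorem isLocalHom_right [Algebra.IsIntegral A C] [IsLocalRing (B ⊗[A] C)] :
    IsLocalHom (Algebra.TensorProduct.includeRight : C →ₐ[A] B ⊗[A] C).toRingHom := by
  refine ⟨fun c hc => ?_⟩
  by_contra hcu
  have h1 : c ∈ IsLocalRing.maximalIdeal C := hcu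
  rw [← comap_right_eq A B C (IsLocalRing.maximalIdeal (B ⊗[A] C))] at h1
  exact h1 hc

end aux


open TensorProduct in
/-- For local homomorphisms of local rings A → B and A → C with A → C integral, if the residue field of
C or that of B is purely inseparable over the residue field of A, then B ⊗_A C is local and both
structure maps into it are local. -/
theorem result (A : Type u) [CommRing A]
    [IsLocalRing A] (B : Type u) [CommRing B] [IsLocalRing B] [Algebra A B]
    [IsLocalHom (algebraMap A B)] (C : Type u) [CommRing C] [IsLocalRing C] [Algebra A C]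
    [IsLocalHom (algebraMap A C)] [Algebra.IsIntegral A C]
    (h : IsPurelyInseparable (IsLocalRing.ResidueField A) (IsLocalRing.ResidueField C) ∨
      IsPurelyInseparable (IsLocalRing.ResidueField A) (IsLocalRing.ResidueField B)) :
    IsLocalRing (B ⊗[A] C) ∧
      IsLocalHom (Algebra.TensorProduct.includeLeft : B →ₐ[A] B ⊗[A] C).toRingHom ∧
      IsLocalHom (Algebra.TensorProduct.includeRight : C →ₐ[A] B ⊗[A] C).toRingHom := by
  have hq : ExpChar (IsLocalRing.ResidueField A) (ringExpChar (IsLocalRing.ResidueField A)) :=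
    inferInstance
  have hqpos : ∀ n : ℕ, 0 < (ringExpChar (IsLocalRing.ResidueField A)) ^ n := fun n =>
    pow_pos (expChar_pos (IsLocalRing.ResidueField A) _) n
  have hloc : IsLocalRing (B ⊗[A] C) := by
    rcases h with h | h
    · refine isLocalRing_of_le A B C (fun M₁ M₂ _ _ => max_le_left A B C (fun x => ?_) M₁ M₂)
      obtain ⟨n, b, hb⟩ := pow_left A B C (ringExpChar (IsLocalRing.ResidueField A)) x
      exact ⟨_, b, hqpos n, hb⟩
    · refine isLocalRing_of_le A B C (fun M₁ M₂ _ _ => max_le_right A B C (fun x => ?_) M₁ M₂)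
      obtain ⟨n, c, hc⟩ := pow_right A B C (ringExpChar (IsLocalRing.ResidueField A)) x
      exact ⟨_, c, hqpos n, hc⟩
  exact ⟨hloc, isLocalHom_left A B C, isLocalHom_right A B C⟩

end Groth.Agent.S9404
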