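import Groth.Statements.S13198
import Mathlib
import Groth.Agent.S9404

set_option autoImplicit false
universe u
open scoped TensorProduct
open Hensel

namespace Groth.Agent.S13198

/-- Let R be a local ring which is strictly henselian (henselian, with separably closed residue field),
A a local ring which is an integral R-algebra with local structure map and whose residue field is
purely inseparable over that of R, and B a local ring with a local homomorphism R → B. Then A ⊗_R B
is a local ring, the map B → A ⊗_R B is local, and the residue field extension of A ⊗_R B over B is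
purely inseparable: every element of A ⊗_R B has a p^n-th power, p the characteristic exponent of
the residue field of B, congruent modulo the maximal ideal to an element 1 ⊗ b. -/
theorem result
    (R A B : Type u) [CommRing R] [HenselianLocalRing R] [IsSepClosed (IsLocalRing.ResidueField R)]
    [CommRing A] [IsLocalRing A] [Algebra R A] [IsLocalHom (algebraMap R A)] [Algebra.IsIntegral R A]
    [IsPurelyInseparable (IsLocalRing.ResidueField R) (IsLocalRing.ResidueField A)]
    [CommRing B] [IsLocalRing B] [Algebra R B] [IsLocalHom (algebraMap R B)] :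
    ∃ _ : IsLocalRing (A ⊗[R] B),
      IsLocalHom (Algebra.TensorProduct.includeRight : B →ₐ[R] A ⊗[R] B).toRingHom ∧
      ∀ x : A ⊗[R] B, ∃ (n : ℕ) (b : B),
        x ^ (ringExpChar (IsLocalRing.ResidueField B)) ^ n - (1 : A) ⊗ₜ[R] b ∈ IsLocalRing.maximalIdeal (A ⊗[R] B) := by
  have hq : ExpChar (IsLocalRing.ResidueField R) (ringExpChar (IsLocalRing.ResidueField B)) :=
    RingHom.expChar (algebraMap (IsLocalRing.ResidueField R) (IsLocalRing.ResidueField B))
      (algebraMap (IsLocalRing.ResidueField R) (IsLocalRing.ResidueField B)).injective _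
  have hqpos : ∀ n : ℕ, 0 < (ringExpChar (IsLocalRing.ResidueField B)) ^ n := fun n =>
    pow_pos (expChar_pos (IsLocalRing.ResidueField B) _) n
  have hloc' : IsLocalRing (B ⊗[R] A) := by
    refine Groth.Agent.S9404.isLocalRing_of_le R B A
      (fun M₁ M₂ _ _ => Groth.Agent.S9404.max_le_left R B A (fun x => ?_) M₁ M₂)
    obtain ⟨n, b, hb⟩ := Groth.Agent.S9404.pow_left R B A
      (ringExpChar (IsLocalRing.ResidueField B)) x
    exact ⟨_, b, hqpos n, hb⟩
  let e : A ⊗[R] B ≃ₐ[R] B ⊗[R] A := Algebra.TensorProduct.comm R A B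
  have hloc : IsLocalRing (A ⊗[R] B) := e.symm.toRingEquiv.isLocalRing
  refine ⟨hloc, ⟨fun b hb => ?_⟩, fun x => ?_⟩
  · have h1 : IsUnit (e ((Algebra.TensorProduct.includeRight : B →ₐ[R] A ⊗[R] B) b)) :=
      hb.map e
    have h2 : e ((Algebra.TensorProduct.includeRight : B →ₐ[R] A ⊗[R] B) b) =
        (Algebra.TensorProduct.includeLeft : B →ₐ[R] B ⊗[R] A) b := by
      simp [e]
    rw [h2] at h1
    have := Groth.Agent.S9404.isLocalHom_left R B A
    exact this.map_nonunit b h1
  · obtain ⟨n, b, hb⟩ := Groth.Agent.S9404.pow_left R B A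
      (ringExpChar (IsLocalRing.ResidueField B)) (e x)
    refine ⟨n, b, ?_⟩
    have h1 : (e x) ^ (ringExpChar (IsLocalRing.ResidueField B)) ^ n - b ⊗ₜ[R] (1 : A) ∈
        IsLocalRing.maximalIdeal (B ⊗[R] A) :=
      Groth.Agent.S9404.Jid_le R B A (IsLocalRing.maximalIdeal (B ⊗[R] A)) hb
    have h2 : e (x ^ (ringExpChar (IsLocalRing.ResidueField B)) ^ n - (1 : A) ⊗ₜ[R] b) =
        (e x) ^ (ringExpChar (IsLocalRing.ResidueField B)) ^ n - b ⊗ₜ[R] (1 : A) := by
      simp [e]
    rw [IsLocalRing.mem_maximalIdeal, mem_nonunits_iff] at h1 ⊢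
    intro hu
    apply h1
    rw [← h2]
    exact hu.map e

end Groth.Agent.S13198
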