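import Groth.Statements.S9460
import Mathlib
import Groth.Agent.Lib.Helper24.StrictHensProps

set_option autoImplicit false
universe u
open Hensel

namespace Groth.Agent.S9460

section aux

open IsLocalRing

theorem exists_ringEquiv_strict
    (R : Type u) [CommRing R] (p : Ideal R) [p.IsPrime]
    (P : Type u) [CommRing P] [IsLocalRing P] [Algebra R P] [IsLocalization.AtPrime P p]
    (Rh : Type u) [CommRing Rh] [IsLocalRing Rh] [Algebra P Rh] [IsLocalHom (algebraMap P Rh)]
    [hRhS : Hensel.IsStrictHenselization P Rh]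
    (S : Type u) [CommRing S] (q : Ideal S) [q.IsPrime]
    (L : Type u) [CommRing L] [IsLocalRing L] [Algebra S L] [IsLocalization.AtPrime L q]
    (Sh : Type u) [CommRing Sh] [IsLocalRing Sh] [Algebra L Sh] [IsLocalHom (algebraMap L Sh)]
    [hShS : Hensel.IsStrictHenselization L Sh]
    (α : R →+* S) (hα : p ≤ q.comap α)
    (T : Type u) [CommRing T] {F : Type*} [FunLike F T Sh] [RingHomClass F T Sh] (Φ : F)
    (i₁ : Rh →+* T) (i₂ : S →+* T)
    (h1 : ∀ s, Φ (i₂ s) = algebraMap L Sh (algebraMap S L s))
    (h3 : ∀ r, i₁ (algebraMap P Rh (algebraMap R P r)) = i₂ (α r))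
    (h5 : ∀ (D : Type u) [CommRing D] (g₁ g₂ : T →+* D), g₁.comp i₁ = g₂.comp i₁ →
      g₁.comp i₂ = g₂.comp i₂ → g₁ = g₂)
    (TQ : Type u) [CommRing TQ] [IsLocalRing TQ] [Algebra T TQ]
    [IsLocalization.AtPrime TQ (Ideal.comap Φ (maximalIdeal Sh))]
    (E : Type u) [CommRing E] [IsLocalRing E] [Algebra TQ E] [IsLocalHom (algebraMap TQ E)]
    [hE : Hensel.IsStrictHenselization TQ E] :
    ∃ e : E ≃+* Sh, ∀ d : T, e (algebraMap TQ E (algebraMap T TQ d)) = Φ d := by
  set Q := Ideal.comap Φ (maximalIdeal Sh) with hQ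
  let Φr : T →+* Sh := RingHomClass.toRingHom Φ
  have hΦr : ∀ d, Φr d = Φ d := fun d => rfl
  have hunit : ∀ y : Q.primeCompl, IsUnit (Φr y) := by
    intro y
    have hy : (y : T) ∉ Q := y.2
    have hy2 : ¬ (Φ (y : T) ∈ maximalIdeal Sh) := hy
    rw [mem_maximalIdeal, mem_nonunits_iff, not_not] at hy2
    exact hy2
  let Ψ : TQ →+* Sh := IsLocalization.lift hunit
  have hΨ : ∀ d, Ψ (algebraMap T TQ d) = Φ d := fun d => IsLocalization.lift_eq hunit d
  have hSh : HenselianLocalRing Sh := Hensel.IsStrictHenselization.henselian (R := L)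
  -- `Ψ` is local
  have hΨloc : IsLocalHom Ψ := by
    apply ((IsLocalRing.local_hom_TFAE Ψ).out 0 2).mpr
    rw [← IsLocalization.AtPrime.map_eq_maximalIdeal Q TQ, Ideal.map_map,
      Ideal.map_le_iff_le_comap]
    intro d hd
    rw [Ideal.mem_comap, RingHom.comp_apply, hΨ]
    exact hd
  -- `i₂ s ∈ Q ↔ s ∈ q`
  have hlocLSh : IsLocalHom (algebraMap L Sh) := inferInstance
  have hmLSh : (maximalIdeal L).map (algebraMap L Sh) ≤ maximalIdeal Sh :=
    ((IsLocalRing.local_hom_TFAE (algebraMap L Sh)).out 0 2).mp hlocLSh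
  have hi₂Q : ∀ s, i₂ s ∈ Q ↔ s ∈ q := by
    intro s
    rw [hQ, Ideal.mem_comap, h1]
    constructor
    · intro h
      by_contra hs
      have h4 : IsUnit (algebraMap S L s) := IsLocalization.map_units L (⟨s, hs⟩ : q.primeCompl)
      exact (mem_maximalIdeal _).mp h (h4.map _)
    · intro hs
      have h4 : algebraMap S L s ∈ maximalIdeal L :=
        (IsLocalization.AtPrime.to_map_mem_maximal_iff L q s).mpr hs
      exact hmLSh (Ideal.mem_map_of_mem _ h4)
  -- the map `lam : L → TQ`
  have hlamunit : ∀ y : q.primeCompl, IsUnit (((algebraMap T TQ).comp i₂) y) := by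
    intro y
    have : i₂ (y : S) ∉ Q := fun h => y.2 ((hi₂Q _).mp h)
    exact IsLocalization.map_units TQ (⟨i₂ y, this⟩ : Q.primeCompl)
  let lam : L →+* TQ := IsLocalization.lift hlamunit
  have hlam : ∀ s, lam (algebraMap S L s) = algebraMap T TQ (i₂ s) :=
    fun s => IsLocalization.lift_eq hlamunit s
  have hlamloc : IsLocalHom lam := by
    apply ((IsLocalRing.local_hom_TFAE lam).out 0 2).mpr
    rw [← IsLocalization.AtPrime.map_eq_maximalIdeal q L, Ideal.map_map,
      Ideal.map_le_iff_le_comap]
    intro s hs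
    rw [Ideal.mem_comap, RingHom.comp_apply, hlam]
    exact (IsLocalization.AtPrime.to_map_mem_maximal_iff TQ Q _).mpr ((hi₂Q s).mpr hs)
  have hΨlam : Ψ.comp lam = algebraMap L Sh := by
    apply IsLocalization.ringHom_ext q.primeCompl
    ext s
    show Ψ (lam (algebraMap S L s)) = algebraMap L Sh (algebraMap S L s)
    rw [hlam, hΨ, h1]
  -- the map `ρ : Rh → Sh` is local
  let ρ : Rh →+* Sh := Φr.comp i₁
  have hρloc : IsLocalHom ρ := by
    apply ((IsLocalRing.local_hom_TFAE ρ).out 0 2).mpr
    rw [← Groth.Agent.Lib.Helper24.StrictHens.map_maximalIdeal_of_isStrictHenselization P Rh,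
      ← IsLocalization.AtPrime.map_eq_maximalIdeal p P, Ideal.map_map, Ideal.map_map,
      Ideal.map_le_iff_le_comap]
    intro r hr
    rw [Ideal.mem_comap]
    show Φ (i₁ (algebraMap P Rh (algebraMap R P r))) ∈ maximalIdeal Sh
    rw [h3, h1]
    have h4 : algebraMap S L (α r) ∈ maximalIdeal L :=
      (IsLocalization.AtPrime.to_map_mem_maximal_iff L q _).mpr (hα hr)
    exact hmLSh (Ideal.mem_map_of_mem _ h4)
  -- algebra structures
  letI algTQSh : Algebra TQ Sh := Ψ.toAlgebra
  haveI locTQSh : IsLocalHom (algebraMap TQ Sh) := hΨloc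
  letI algLTQ : Algebra L TQ := lam.toAlgebra
  haveI locLTQ : IsLocalHom (algebraMap L TQ) := hlamloc
  haveI towLTQSh : IsScalarTower L TQ Sh := IsScalarTower.of_algebraMap_eq (fun x => by
    show algebraMap L Sh x = Ψ (lam x)
    rw [← hΨlam]; rfl)
  have hstrict : Hensel.IsStrictHenselization TQ Sh := by
    refine { henselian := hSh, isSepClosure := ?_, universal := ?_ }
    · have h0 : IsSepClosure (ResidueField L) (ResidueField Sh) := hShS.isSepClosure
      haveI := h0.separable
      exact ⟨h0.sep_closed,
        Algebra.isSeparable_tower_top_of_isSeparable (ResidueField L) (ResidueField TQ) (ResidueField Sh)⟩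
    · intro D _ _ f hf τ hτ
      have hτ' : ∀ y : TQ, τ (residue Sh (Ψ y)) = residue D (f y) := by
        intro y
        have := RingHom.congr_fun hτ (residue TQ y)
        exact this
      -- the map from `L`
      let fL : L →+* D := f.comp lam
      haveI hfLloc : IsLocalHom fL := by
        constructor
        intro a ha
        have h1' : IsUnit (lam a) := (isUnit_map_iff f (lam a)).mp ha
        exact (isUnit_map_iff lam a).mp h1'
      have hτL : τ.comp (IsLocalRing.ResidueField.map (algebraMap L Sh)) =
          IsLocalRing.ResidueField.map fL := by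
        apply Ideal.Quotient.ringHom_ext
        ext x
        show τ (residue Sh (algebraMap L Sh x)) = residue D (f (lam x))
        rw [← hτ', ← hΨlam]; rfl
      obtain ⟨g, ⟨hg1, hg2⟩, hguniq⟩ := hShS.universal D fL τ hτL
      have hg1' : ∀ x, g (algebraMap L Sh x) = f (lam x) := fun x => RingHom.congr_fun hg1 x
      set fT : T →+* D := f.comp (algebraMap T TQ) with hfT
      -- compare on `Rh`
      have hRh : (g.comp Φr).comp i₁ = fT.comp i₁ := by
        set v : P →+* D := (fT.comp i₁).comp (algebraMap P Rh) with hv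
        -- residue computation for `w₂ = fT ∘ i₁`
        have hw2res : ∀ x : Rh, residue D (fT (i₁ x)) = τ (residue Sh (ρ x)) := by
          intro x
          show residue D (f (algebraMap T TQ (i₁ x))) = τ (residue Sh (Φ (i₁ x)))
          rw [← hτ', hΨ]
        haveI hvloc : IsLocalHom v := by
          constructor
          intro a ha
          -- residue D (v a) ≠ 0
          have h1' : residue D (v a) ≠ 0 := (residue_ne_zero_iff_isUnit _).mpr ha
          have h2' : residue D (v a) = τ (residue Sh (ρ (algebraMap P Rh a))) := hw2res _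
          rw [h2'] at h1'
          have h3' : residue Sh (ρ (algebraMap P Rh a)) ≠ 0 := by
            intro h0
            rw [h0, map_zero] at h1'
            exact h1' rfl
          have h4' : IsUnit (ρ (algebraMap P Rh a)) := (residue_ne_zero_iff_isUnit _).mp h3'
          have h5' : IsUnit (algebraMap P Rh a) := (isUnit_map_iff ρ _).mp h4'
          exact (isUnit_map_iff (algebraMap P Rh) a).mp h5'
        let τ' : ResidueField Rh →+* ResidueField D := τ.comp (IsLocalRing.ResidueField.map ρ)
        have hτ'' : τ'.comp (IsLocalRing.ResidueField.map (algebraMap P Rh)) =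
            IsLocalRing.ResidueField.map v := by
          apply Ideal.Quotient.ringHom_ext
          ext x
          show τ (residue Sh (ρ (algebraMap P Rh x))) = residue D (v x)
          exact (hw2res _).symm
        obtain ⟨w, -, hwuniq⟩ := hRhS.universal D v τ' hτ''
        have e1 : (g.comp Φr).comp i₁ = w := by
          apply hwuniq
          refine ⟨?_, ?_⟩
          · apply IsLocalization.ringHom_ext p.primeCompl
            ext r
            show g (Φ (i₁ (algebraMap P Rh (algebraMap R P r)))) =
              fT (i₁ (algebraMap P Rh (algebraMap R P r)))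
            rw [h3, h1, hg1', hlam]
            rfl
          · intro x
            show residue D (g (Φ (i₁ x))) = τ (residue Sh (ρ x))
            rw [hg2]; rfl
        have e2 : fT.comp i₁ = w := by
          apply hwuniq
          exact ⟨rfl, fun x => hw2res x⟩
        rw [e1, e2]
      have hcomp : g.comp Φr = fT := by
        apply h5 D _ _ hRh
        ext s
        show g (Φ (i₂ s)) = fT (i₂ s)
        rw [h1, hg1', hlam]
        rfl
      have hgΨ : g.comp Ψ = f := by
        apply IsLocalization.ringHom_ext Q.primeCompl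
        ext d
        show g (Ψ (algebraMap T TQ d)) = f (algebraMap T TQ d)
        rw [hΨ]
        exact RingHom.congr_fun hcomp d
      refine ⟨g, ⟨hgΨ, hg2⟩, ?_⟩
      rintro g' ⟨hg'1, hg'2⟩
      apply hguniq
      refine ⟨?_, hg'2⟩
      have hg'1' : g'.comp Ψ = f := hg'1
      show g'.comp (algebraMap L Sh) = f.comp lam
      rw [← hΨlam, ← RingHom.comp_assoc, hg'1']
  obtain ⟨e⟩ := Groth.Agent.Lib.Helper24.StrictHens.exists_algEquiv TQ E Sh
  refine ⟨e.toRingEquiv, fun d => ?_⟩
  show e (algebraMap TQ E (algebraMap T TQ d)) = Φ d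
  rw [e.commutes]
  exact hΨ d


end aux


open TensorProduct in
/-- Let R → S be a ring map, q a prime of S over p, and R^{sh}, S^{sh} strict henselizations of R_p and
S_q, S^{sh} carrying a compatible R^{sh}-algebra structure (a map R^{sh} → S^{sh} over R; these
correspond to the embeddings of separable closures in the published statement). Let φ : R^{sh} ⊗_R S
→ S^{sh} be the induced map and Q the preimage under φ of the maximal ideal (a prime over the
maximal ideal of R^{sh} and over q). Then S^{sh} is a strict henselization of (R^{sh} ⊗_R S)_Q: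
every strict henselization E of that local ring admits a ring isomorphism E ≅ S^{sh} compatible with
the two maps from R^{sh} ⊗_R S. -/
theorem result (R : Type u) [CommRing R]
    (S : Type u) [CommRing S] [Algebra R S] (p : Ideal R) [p.IsPrime] (q : Ideal S) [q.IsPrime]
    [q.LiesOver p]
    (Rh : Type u) [CommRing Rh] [IsLocalRing Rh] [Algebra (Localization.AtPrime p) Rh]
    [IsLocalHom (algebraMap (Localization.AtPrime p) Rh)]
    [Hensel.IsStrictHenselization (Localization.AtPrime p) Rh] [Algebra R Rh]
    [IsScalarTower R (Localization.AtPrime p) Rh]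
    (Sh : Type u) [CommRing Sh] [IsLocalRing Sh] [Algebra (Localization.AtPrime q) Sh]
    [IsLocalHom (algebraMap (Localization.AtPrime q) Sh)]
    [Hensel.IsStrictHenselization (Localization.AtPrime q) Sh] [Algebra S Sh]
    [IsScalarTower S (Localization.AtPrime q) Sh] [Algebra R Sh] [IsScalarTower R S Sh]
    [Algebra Rh Sh] [IsScalarTower R Rh Sh]
    (E : Type u) [CommRing E] [IsLocalRing E]
    [Algebra (Localization.AtPrime (Ideal.comap (Algebra.TensorProduct.lift (IsScalarTower.toAlgHom R Rh Sh) (IsScalarTower.toAlgHom R S Sh)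
          (fun _ _ => Commute.all _ _)) (IsLocalRing.maximalIdeal Sh))) E]
    [IsLocalHom (algebraMap (Localization.AtPrime
      (Ideal.comap (Algebra.TensorProduct.lift (IsScalarTower.toAlgHom R Rh Sh) (IsScalarTower.toAlgHom R S Sh)
          (fun _ _ => Commute.all _ _)) (IsLocalRing.maximalIdeal Sh))) E)]
    [Hensel.IsStrictHenselization (Localization.AtPrime
      (Ideal.comap (Algebra.TensorProduct.lift (IsScalarTower.toAlgHom R Rh Sh) (IsScalarTower.toAlgHom R S Sh)
          (fun _ _ => Commute.all _ _)) (IsLocalRing.maximalIdeal Sh))) E] :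
    ∃ e : E ≃+* Sh, ∀ d : Rh ⊗[R] S,
      e (algebraMap (Localization.AtPrime
        (Ideal.comap (Algebra.TensorProduct.lift (IsScalarTower.toAlgHom R Rh Sh) (IsScalarTower.toAlgHom R S Sh)
          (fun _ _ => Commute.all _ _)) (IsLocalRing.maximalIdeal Sh))) E
        (algebraMap (Rh ⊗[R] S) _ d)) = (Algebra.TensorProduct.lift (IsScalarTower.toAlgHom R Rh Sh) (IsScalarTower.toAlgHom R S Sh)
          (fun _ _ => Commute.all _ _)) d := by
  have hα : p ≤ q.comap (algebraMap R S) := by
    have h := Ideal.LiesOver.over (P := q) (p := p)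
    rw [h]
  refine exists_ringEquiv_strict R p (Localization.AtPrime p) Rh
    S q (Localization.AtPrime q) Sh (algebraMap R S) hα (Rh ⊗[R] S)
    (Algebra.TensorProduct.lift (IsScalarTower.toAlgHom R Rh Sh) (IsScalarTower.toAlgHom R S Sh)
          (fun _ _ => Commute.all _ _))
    (Algebra.TensorProduct.includeLeft (R := R) (S := R) (A := Rh) (B := S)).toRingHom
    (Algebra.TensorProduct.includeRight (R := R) (A := Rh) (B := S)).toRingHom
    ?_ ?_ ?_ _ E
  · intro s
    show (Algebra.TensorProduct.lift (IsScalarTower.toAlgHom R Rh Sh) (IsScalarTower.toAlgHom R S Sh)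
          (fun _ _ => Commute.all _ _)) ((1 : Rh) ⊗ₜ[R] s) = _
    rw [Algebra.TensorProduct.lift_tmul, map_one, one_mul]
    show algebraMap S Sh s = _
    rw [IsScalarTower.algebraMap_apply S (Localization.AtPrime q) Sh]
  · intro r
    show (algebraMap (Localization.AtPrime p) Rh (algebraMap R (Localization.AtPrime p) r)) ⊗ₜ[R] (1 : S)
      = (1 : Rh) ⊗ₜ[R] (algebraMap R S r)
    rw [← IsScalarTower.algebraMap_apply R (Localization.AtPrime p) Rh, Algebra.algebraMap_eq_smul_one,
      Algebra.algebraMap_eq_smul_one, TensorProduct.smul_tmul]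
  · intro D _ g₁ g₂ h₁ h₂
    apply RingHom.ext
    intro x
    induction x using TensorProduct.induction_on with
    | zero => simp
    | tmul a b =>
      have e : a ⊗ₜ[R] b = (a ⊗ₜ[R] (1 : S)) * ((1 : Rh) ⊗ₜ[R] b) := by
        rw [Algebra.TensorProduct.tmul_mul_tmul, mul_one, one_mul]
      rw [e, map_mul, map_mul]
      have e1 := RingHom.congr_fun h₁ a
      have e2 := RingHom.congr_fun h₂ b
      simp only [RingHom.comp_apply] at e1 e2
      congr 1
    | add x y hx hy => rw [map_add, map_add, hx, hy]

end Groth.Agent.S9460
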