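import Mathlib.RingTheory.MvPolynomial.Localization
import Mathlib.RingTheory.Localization.LocalizationLocalization
import Mathlib.RingTheory.Localization.Ideal
import Mathlib.RingTheory.Localization.AtPrime.Basic
import Mathlib.RingTheory.LocalRing.ResidueField.Ideal
import Mathlib.RingTheory.Polynomial.Basic

/-!
# helper29: `R[x]_{q'} / p R[x]_{q'} ≃ κ(p)[x]_{Q}` for `Q` the prime of `κ(p)[x]` over `q'`

`exists_fibreLocEquiv`: the ring isomorphism, compatible with the maps from `R[x]`.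
-/

set_option autoImplicit false

namespace Groth.Agent.LibFibreLocEquiv29

open MvPolynomial IsLocalRing

universe u

attribute [local instance] MvPolynomial.algebraMvPolynomial

variable {R₀ : Type u} [CommRing R₀] {n : ℕ} (q₀' : Ideal (MvPolynomial (Fin n) R₀)) [q₀'.IsPrime]
  (p₀ : Ideal R₀) [p₀.IsPrime]
  (Q₀ : Ideal (MvPolynomial (Fin n) p₀.ResidueField)) [Q₀.IsPrime]

theorem exists_fibreLocEquiv
    (hQ₀ : Q₀.comap (MvPolynomial.map (algebraMap R₀ p₀.ResidueField)) = q₀') :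
    ∃ θ : (Localization.AtPrime q₀' ⧸ (p₀.map (C : R₀ →+* MvPolynomial (Fin n) R₀)).map
        (algebraMap (MvPolynomial (Fin n) R₀) (Localization.AtPrime q₀'))) ≃+*
        Localization.AtPrime Q₀,
      ∀ y : MvPolynomial (Fin n) R₀,
        θ (Ideal.Quotient.mk _ (algebraMap (MvPolynomial (Fin n) R₀) (Localization.AtPrime q₀') y)) =
          algebraMap (MvPolynomial (Fin n) p₀.ResidueField) (Localization.AtPrime Q₀)
            (MvPolynomial.map (algebraMap R₀ p₀.ResidueField) y) := by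
  classical
  set I₀ : Ideal (Localization.AtPrime q₀') := (p₀.map (C : R₀ →+* MvPolynomial (Fin n) R₀)).map
        (algebraMap (MvPolynomial (Fin n) R₀) (Localization.AtPrime q₀')) with hI₀
  let f : MvPolynomial (Fin n) R₀ →+* MvPolynomial (Fin n) (R₀ ⧸ p₀) :=
    MvPolynomial.map (Ideal.Quotient.mk p₀)
  have hf : Function.Surjective f := MvPolynomial.map_surjective _ Ideal.Quotient.mk_surjective
  have hkerf : RingHom.ker f = p₀.map (C : R₀ →+* MvPolynomial (Fin n) R₀) := by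
    rw [MvPolynomial.ker_map, Ideal.mk_ker]
  have hbase : ∀ a ∈ p₀, algebraMap R₀ (Localization.AtPrime q₀' ⧸ I₀) a = 0 := by
    intro a ha
    rw [IsScalarTower.algebraMap_apply R₀ (Localization.AtPrime q₀') (Localization.AtPrime q₀' ⧸ I₀),
      Ideal.Quotient.algebraMap_eq, Ideal.Quotient.eq_zero_iff_mem, hI₀,
      IsScalarTower.algebraMap_apply R₀ (MvPolynomial (Fin n) R₀) (Localization.AtPrime q₀'),
      MvPolynomial.algebraMap_eq]
    exact Ideal.mem_map_of_mem _ (Ideal.mem_map_of_mem _ ha)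
  let base : R₀ ⧸ p₀ →+* Localization.AtPrime q₀' ⧸ I₀ :=
    Ideal.Quotient.lift p₀ (algebraMap R₀ (Localization.AtPrime q₀' ⧸ I₀)) hbase
  let ψ : MvPolynomial (Fin n) (R₀ ⧸ p₀) →+* Localization.AtPrime q₀' ⧸ I₀ :=
    eval₂Hom base (fun i => Ideal.Quotient.mk I₀
      (algebraMap (MvPolynomial (Fin n) R₀) (Localization.AtPrime q₀') (X i)))
  have hψ : ψ.comp f = (Ideal.Quotient.mk I₀).comp
      (algebraMap (MvPolynomial (Fin n) R₀) (Localization.AtPrime q₀')) := by
    apply MvPolynomial.ringHom_ext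
    · intro a
      simp only [RingHom.coe_comp, Function.comp_apply, f, map_C, ψ, coe_eval₂Hom, eval₂_C, base,
        Ideal.Quotient.lift_mk]
      rw [IsScalarTower.algebraMap_apply R₀ (Localization.AtPrime q₀')
        (Localization.AtPrime q₀' ⧸ I₀), Ideal.Quotient.algebraMap_eq,
        IsScalarTower.algebraMap_apply R₀ (MvPolynomial (Fin n) R₀) (Localization.AtPrime q₀'),
        MvPolynomial.algebraMap_eq]
    · intro i
      simp [f, ψ]
  let algE : Algebra (MvPolynomial (Fin n) (R₀ ⧸ p₀)) (Localization.AtPrime q₀' ⧸ I₀) :=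
    RingHom.toAlgebra (R := MvPolynomial (Fin n) (R₀ ⧸ p₀)) (S := Localization.AtPrime q₀' ⧸ I₀) ψ
  have hloc1 : IsLocalization (q₀'.primeCompl.map f) (Localization.AtPrime q₀' ⧸ I₀) := by
    refine IsLocalization.of_surjective (R' := MvPolynomial (Fin n) (R₀ ⧸ p₀))
      (S' := Localization.AtPrime q₀' ⧸ I₀) q₀'.primeCompl (Localization.AtPrime q₀') f hf
      (Ideal.Quotient.mk I₀) Ideal.Quotient.mk_surjective hψ.symm ?_
    rw [Ideal.mk_ker, hkerf, hI₀]
  let q₁ : Ideal (MvPolynomial (Fin n) (R₀ ⧸ p₀)) :=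
    Q₀.comap (algebraMap (MvPolynomial (Fin n) (R₀ ⧸ p₀)) (MvPolynomial (Fin n) p₀.ResidueField))
  have hq₁ : q₁.IsPrime := Ideal.comap_isPrime _ _
  have hkey : ∀ y : MvPolynomial (Fin n) R₀,
      algebraMap (MvPolynomial (Fin n) (R₀ ⧸ p₀)) (MvPolynomial (Fin n) p₀.ResidueField) (f y) =
        MvPolynomial.map (algebraMap R₀ p₀.ResidueField) y := by
    intro y
    rw [MvPolynomial.algebraMap_def, MvPolynomial.map_map,
      IsScalarTower.algebraMap_eq R₀ (R₀ ⧸ p₀) p₀.ResidueField]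
    rfl
  have hmem : ∀ y : MvPolynomial (Fin n) R₀, f y ∈ q₁ ↔ y ∈ q₀' := by
    intro y
    rw [← hQ₀, Ideal.mem_comap, Ideal.mem_comap, hkey]
  have hsub : q₀'.primeCompl.map f = q₁.primeCompl := by
    ext x
    obtain ⟨y, rfl⟩ := hf x
    constructor
    · rintro ⟨y', hy', hyy⟩
      change f y ∉ q₁
      rw [← hyy, hmem]
      exact hy'
    · intro hx
      exact ⟨y, fun hy => hx ((hmem y).mpr hy), rfl⟩
  rw [hsub] at hloc1
  have hloc1' : IsLocalization.AtPrime (Localization.AtPrime q₀' ⧸ I₀) q₁ := hloc1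
  have htower : IsScalarTower (MvPolynomial (Fin n) (R₀ ⧸ p₀))
      (MvPolynomial (Fin n) p₀.ResidueField) (Localization.AtPrime Q₀) := inferInstance
  have hloc2 : IsLocalization.AtPrime (Localization.AtPrime Q₀) q₁ :=
    IsLocalization.isLocalization_isLocalization_atPrime_isLocalization
      ((nonZeroDivisors (R₀ ⧸ p₀)).map (C : (R₀ ⧸ p₀) →+* MvPolynomial (Fin n) (R₀ ⧸ p₀)))
      (Localization.AtPrime Q₀) Q₀
  let θ : (Localization.AtPrime q₀' ⧸ I₀) ≃ₐ[MvPolynomial (Fin n) (R₀ ⧸ p₀)]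
      Localization.AtPrime Q₀ :=
    IsLocalization.algEquiv q₁.primeCompl _ _
  refine ⟨θ.toRingEquiv, fun y => ?_⟩
  have h1 : Ideal.Quotient.mk I₀ (algebraMap (MvPolynomial (Fin n) R₀) (Localization.AtPrime q₀') y) =
      algebraMap (MvPolynomial (Fin n) (R₀ ⧸ p₀)) (Localization.AtPrime q₀' ⧸ I₀) (f y) :=
    (RingHom.congr_fun hψ y).symm
  change θ _ = _
  rw [h1, θ.commutes,
    IsScalarTower.algebraMap_apply (MvPolynomial (Fin n) (R₀ ⧸ p₀))
      (MvPolynomial (Fin n) p₀.ResidueField) (Localization.AtPrime Q₀), hkey]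

end Groth.Agent.LibFibreLocEquiv29
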