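import Mathlib
import Groth.Prelude.Def_RegImm

/-!
# `S_g` for `S = R[x₁..xₙ]/(F)`, `g = h̄`, is `R[x₁..xₙ₊₁]/(F, h·xₙ₊₁ - 1)` (helper29)
-/

set_option autoImplicit false
universe u

namespace Groth.Agent.LibAwayPres29

open MvPolynomial

variable {R : Type u} [CommRing R] {n c : ℕ} (F : Fin c → MvPolynomial (Fin n) R)
  (h : MvPolynomial (Fin n) R)

/-- the equations `(F, h·xₙ₊₁ - 1)`. -/
noncomputable def eqsPlus : Fin (c + 1) → MvPolynomial (Fin (n + 1)) R :=
  Fin.snoc (α := fun _ => MvPolynomial (Fin (n + 1)) R) (fun i => rename Fin.castSucc (F i))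
    (rename Fin.castSucc h * X (Fin.last n) - 1)

lemma eqsPlus_castSucc (i : Fin c) : eqsPlus F h i.castSucc = rename Fin.castSucc (F i) := by
  simp [eqsPlus]

lemma eqsPlus_last : eqsPlus F h (Fin.last c) = rename Fin.castSucc h * X (Fin.last n) - 1 := by
  simp [eqsPlus]

/-- `S → S'`. -/
noncomputable def alpha :
    Synt.RelGCIRing R n c F →ₐ[R] Synt.RelGCIRing R (n + 1) (c + 1) (eqsPlus F h) :=
  Ideal.Quotient.liftₐ _ ((Ideal.Quotient.mkₐ R _).comp (rename Fin.castSucc)) (by
    intro x hx
    have hle : Ideal.span (Set.range F) ≤ RingHom.ker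
        ((Ideal.Quotient.mkₐ R (Ideal.span (Set.range (eqsPlus F h)))).comp
          (rename Fin.castSucc : MvPolynomial (Fin n) R →ₐ[R] _)).toRingHom := by
      rw [Ideal.span_le]
      rintro _ ⟨i, rfl⟩
      change Ideal.Quotient.mk _ (rename Fin.castSucc (F i)) = 0
      rw [Ideal.Quotient.eq_zero_iff_mem, ← eqsPlus_castSucc F h i]
      exact Ideal.subset_span ⟨_, rfl⟩
    exact hle hx)

lemma alpha_mk (q : MvPolynomial (Fin n) R) :
    alpha F h (Ideal.Quotient.mk _ q) = Ideal.Quotient.mk _ (rename Fin.castSucc q) := rfl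

lemma alpha_g_mul :
    alpha F h (Ideal.Quotient.mk _ h) * Ideal.Quotient.mk _ (X (Fin.last n)) = 1 := by
  rw [alpha_mk, ← map_mul, ← sub_eq_zero, ← map_one (Ideal.Quotient.mk _), ← map_sub,
    Ideal.Quotient.eq_zero_iff_mem, ← eqsPlus_last F h]
  exact Ideal.subset_span ⟨_, rfl⟩

/-- `S_g → S'`. -/
noncomputable def fwd :
    Localization.Away (Ideal.Quotient.mk (Ideal.span (Set.range F)) h) →ₐ[R]
      Synt.RelGCIRing R (n + 1) (c + 1) (eqsPlus F h) :=
  IsLocalization.liftAlgHom (M := Submonoid.powers (Ideal.Quotient.mk (Ideal.span (Set.range F)) h))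
    (f := alpha F h) (by
      rintro ⟨y, k, rfl⟩
      rw [map_pow]
      exact (IsUnit.of_mul_eq_one _ (alpha_g_mul F h)).pow k)

lemma fwd_algebraMap (s : Synt.RelGCIRing R n c F) :
    fwd F h (algebraMap _ _ s) = alpha F h s := by
  simp [fwd]

/-- the images of the variables in `S_g`. -/
noncomputable def vars : Fin (n + 1) →
    Localization.Away (Ideal.Quotient.mk (Ideal.span (Set.range F)) h) :=
  Fin.snoc (α := fun _ => Localization.Away (Ideal.Quotient.mk (Ideal.span (Set.range F)) h))
    (fun i => algebraMap (Synt.RelGCIRing R n c F) _ (Ideal.Quotient.mk _ (X i)))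
    (IsLocalization.Away.invSelf (Ideal.Quotient.mk (Ideal.span (Set.range F)) h))

lemma aeval_vars_rename (q : MvPolynomial (Fin n) R) :
    aeval (vars F h) (rename Fin.castSucc q) =
      algebraMap (Synt.RelGCIRing R n c F) _ (Ideal.Quotient.mk _ q) := by
  rw [aeval_rename]
  have h1 : vars F h ∘ Fin.castSucc =
      fun i => algebraMap (Synt.RelGCIRing R n c F)
        (Localization.Away (Ideal.Quotient.mk (Ideal.span (Set.range F)) h))
        (Ideal.Quotient.mk _ (X i)) := by
    funext i
    simp [vars]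
  rw [h1]
  let φ : MvPolynomial (Fin n) R →ₐ[R]
      Localization.Away (Ideal.Quotient.mk (Ideal.span (Set.range F)) h) :=
    (IsScalarTower.toAlgHom R (Synt.RelGCIRing R n c F) _).comp
      (Ideal.Quotient.mkₐ R (Ideal.span (Set.range F)))
  have h2 := aeval_unique φ
  have h3 : (φ ∘ X) = fun i => algebraMap (Synt.RelGCIRing R n c F)
      (Localization.Away (Ideal.Quotient.mk (Ideal.span (Set.range F)) h))
      (Ideal.Quotient.mk _ (X i)) := rfl
  rw [h3] at h2
  rw [← h2]
  rfl

/-- `S' → S_g`. -/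
noncomputable def bwd :
    Synt.RelGCIRing R (n + 1) (c + 1) (eqsPlus F h) →ₐ[R]
      Localization.Away (Ideal.Quotient.mk (Ideal.span (Set.range F)) h) :=
  Ideal.Quotient.liftₐ _ (aeval (vars F h)) (by
    intro x hx
    have hle : Ideal.span (Set.range (eqsPlus F h)) ≤ RingHom.ker
        (aeval (vars F h) : MvPolynomial (Fin (n + 1)) R →ₐ[R] _).toRingHom := by
      rw [Ideal.span_le]
      rintro _ ⟨i, rfl⟩
      change aeval (vars F h) (eqsPlus F h i) = 0
      induction i using Fin.lastCases with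
      | last =>
        rw [eqsPlus_last, map_sub, map_mul, map_one, aeval_vars_rename, aeval_X]
        have : vars F h (Fin.last n) =
            IsLocalization.Away.invSelf (Ideal.Quotient.mk (Ideal.span (Set.range F)) h) := by
          simp [vars]
        rw [this, IsLocalization.Away.mul_invSelf, sub_self]
      | cast i =>
        have h0 : Ideal.Quotient.mk (Ideal.span (Set.range F)) (F i) = 0 :=
          Ideal.Quotient.eq_zero_iff_mem.mpr (Ideal.subset_span (Set.mem_range_self i))
        rw [eqsPlus_castSucc, aeval_vars_rename, h0, map_zero]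
    exact hle hx)

lemma bwd_mk (q : MvPolynomial (Fin (n + 1)) R) :
    bwd F h (Ideal.Quotient.mk _ q) = aeval (vars F h) q := rfl

lemma bwd_fwd (y : Localization.Away (Ideal.Quotient.mk (Ideal.span (Set.range F)) h)) :
    bwd F h (fwd F h y) = y := by
  have : ((bwd F h).toRingHom.comp (fwd F h).toRingHom) = RingHom.id _ := by
    apply IsLocalization.ringHom_ext
      (Submonoid.powers (Ideal.Quotient.mk (Ideal.span (Set.range F)) h))
    refine RingHom.ext fun s => ?_
    obtain ⟨q, rfl⟩ := Ideal.Quotient.mk_surjective s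
    simp only [AlgHom.toRingHom_eq_coe, RingHom.coe_comp, RingHom.coe_coe, Function.comp_apply,
      RingHomCompTriple.comp_eq]
    rw [fwd_algebraMap, alpha_mk, bwd_mk, aeval_vars_rename]
  exact congrArg (fun f => f y) this

lemma fwd_bwd (z : Synt.RelGCIRing R (n + 1) (c + 1) (eqsPlus F h)) :
    fwd F h (bwd F h z) = z := by
  have : ((fwd F h).comp (bwd F h)).comp (Ideal.Quotient.mkₐ R _) =
      (AlgHom.id R _).comp (Ideal.Quotient.mkₐ R (Ideal.span (Set.range (eqsPlus F h)))) := by
    apply MvPolynomial.algHom_ext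
    intro i
    simp only [AlgHom.coe_comp, Function.comp_apply, Ideal.Quotient.mkₐ_eq_mk, AlgHom.coe_id, id_eq]
    rw [bwd_mk, aeval_X]
    induction i using Fin.lastCases with
    | last =>
      have h1 : vars F h (Fin.last n) =
          IsLocalization.Away.invSelf (Ideal.Quotient.mk (Ideal.span (Set.range F)) h) := by
        simp [vars]
      rw [h1]
      -- uniqueness of inverses
      have h2 : fwd F h (IsLocalization.Away.invSelf
          (Ideal.Quotient.mk (Ideal.span (Set.range F)) h)) *
          alpha F h (Ideal.Quotient.mk _ h) = 1 := by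
        rw [← fwd_algebraMap, ← map_mul, mul_comm, IsLocalization.Away.mul_invSelf, map_one]
      have h3 := alpha_g_mul F h
      calc fwd F h (IsLocalization.Away.invSelf (Ideal.Quotient.mk (Ideal.span (Set.range F)) h))
          = fwd F h (IsLocalization.Away.invSelf (Ideal.Quotient.mk (Ideal.span (Set.range F)) h)) *
            (alpha F h (Ideal.Quotient.mk _ h) * Ideal.Quotient.mk _ (X (Fin.last n))) := by
              rw [h3, mul_one]
        _ = Ideal.Quotient.mk _ (X (Fin.last n)) := by rw [← mul_assoc, h2, one_mul]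
    | cast i =>
      have h1 : vars F h i.castSucc = algebraMap (Synt.RelGCIRing R n c F) _
          (Ideal.Quotient.mk _ (X i)) := by
        simp [vars]
      rw [h1, fwd_algebraMap, alpha_mk, rename_X]
  obtain ⟨q, rfl⟩ := Ideal.Quotient.mk_surjective z
  exact congrArg (fun f => f q) this

/-- **`S_g ≃ₐ[R] R[x₁..xₙ₊₁]/(F, h·xₙ₊₁ - 1)`.** -/
noncomputable def awayEquiv :
    Localization.Away (Ideal.Quotient.mk (Ideal.span (Set.range F)) h) ≃ₐ[R]
      Synt.RelGCIRing R (n + 1) (c + 1) (eqsPlus F h) :=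
  AlgEquiv.ofAlgHom (fwd F h) (bwd F h)
    (AlgHom.ext fun z => fwd_bwd F h z) (AlgHom.ext fun y => bwd_fwd F h y)

end Groth.Agent.LibAwayPres29
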