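import Mathlib
import Groth.Agent.Lib.Helper26.AffEquidim

/-!
# Components of `k[x₁..xₙ]/(F₁..F_c)` have dimension `≥ n - c`; complete intersections over a field
are equidimensional (helper29)
-/

set_option autoImplicit false
universe u

namespace Groth.Agent.LibEquidimCI29

open Groth.Agent.Lib.helper26.DimFormula

variable (k : Type u) [Field k] (n c : ℕ) (Fb : Fin c → MvPolynomial (Fin n) k)

lemma exists_nat_of_bounds {x : WithBot ℕ∞} {a : ℕ} (h0 : 0 ≤ x) (ha : x ≤ (a : WithBot ℕ∞)) :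
    ∃ e : ℕ, x = (e : WithBot ℕ∞) := by
  induction x with
  | bot => exact absurd h0 (by simp)
  | coe y =>
    induction y with
    | top =>
      exfalso
      have : ((⊤ : ℕ∞) : WithBot ℕ∞) ≤ ((a : ℕ∞) : WithBot ℕ∞) := ha
      rw [WithBot.coe_le_coe] at this
      exact absurd this (by simp)
    | coe e => exact ⟨e, rfl⟩

/-- for a minimal prime `𝔮'` over `(F₁..F_c)` in `k[x₁..xₙ]`: `ht 𝔮' ≤ c` and
`ht 𝔮' + dim k[x]/𝔮' = n`. -/
theorem exists_height_dim (𝔮' : Ideal (MvPolynomial (Fin n) k))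
    (h𝔮' : 𝔮' ∈ (Ideal.span (Set.range Fb)).minimalPrimes) :
    ∃ h e : ℕ, h ≤ c ∧ h + e = n ∧
      ringKrullDim (MvPolynomial (Fin n) k ⧸ 𝔮') = (e : WithBot ℕ∞) := by
  classical
  have hprime : 𝔮'.IsPrime := h𝔮'.1.1
  have hht : 𝔮'.height ≤ c := by
    have hspan : Ideal.span (Set.range Fb) =
        Ideal.span ((Finset.univ.image Fb : Finset _) : Set (MvPolynomial (Fin n) k)) := by
      congr 1
      ext x
      simp
    rw [hspan] at h𝔮'
    refine le_trans (Ideal.height_le_card_of_mem_minimalPrimes_span_finset h𝔮') ?_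
    exact_mod_cast (Finset.card_image_le.trans (by simp))
  obtain ⟨h, hh⟩ := ENat.ne_top_iff_exists.mp (Ideal.height_ne_top_of_isPrime (I := 𝔮'))
  have key := height_add_dim_quotient_of_domain k (MvPolynomial (Fin n) k) 𝔮'
  have hdimP : ringKrullDim (MvPolynomial (Fin n) k) = (n : WithBot ℕ∞) := by
    rw [MvPolynomial.ringKrullDim_of_isNoetherianRing, ringKrullDim_eq_zero_of_field]
    simp
  rw [hdimP, ← hh] at key
  have h0 : 0 ≤ ringKrullDim (MvPolynomial (Fin n) k ⧸ 𝔮') := ringKrullDim_nonneg_of_nontrivial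
  have hle : ringKrullDim (MvPolynomial (Fin n) k ⧸ 𝔮') ≤ (n : WithBot ℕ∞) := by
    rw [← hdimP]
    exact ringKrullDim_quotient_le 𝔮'
  obtain ⟨e, he⟩ := exists_nat_of_bounds h0 hle
  rw [he] at key
  refine ⟨h, e, ?_, ?_, he⟩
  · rw [← hh] at hht
    exact_mod_cast hht
  · exact_mod_cast key

/-- every component of `k[x]/(F₁..F_c)` has dimension `≥ n - c`. -/
theorem le_dim_quotient_minimalPrimes (𝔮' : Ideal (MvPolynomial (Fin n) k))
    (h𝔮' : 𝔮' ∈ (Ideal.span (Set.range Fb)).minimalPrimes) :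
    ((n - c : ℕ) : WithBot ℕ∞) ≤ ringKrullDim (MvPolynomial (Fin n) k ⧸ 𝔮') := by
  obtain ⟨h, e, hhc, hhe, hdim⟩ := exists_height_dim k n c Fb 𝔮' h𝔮'
  rw [hdim]
  exact_mod_cast (by omega : n - c ≤ e)

/-- a nonzero `k[x]/(F₁..F_c)` has dimension `≥ n - c`. -/
theorem le_dim_quotient
    [Nontrivial (MvPolynomial (Fin n) k ⧸ Ideal.span (Set.range Fb))] :
    ((n - c : ℕ) : WithBot ℕ∞) ≤
      ringKrullDim (MvPolynomial (Fin n) k ⧸ Ideal.span (Set.range Fb)) := by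
  have hne : Ideal.span (Set.range Fb) ≠ ⊤ := Ideal.Quotient.nontrivial_iff.mp inferInstance
  obtain ⟨𝔮', h𝔮'⟩ := Ideal.nonempty_minimalPrimes hne
  refine (le_dim_quotient_minimalPrimes k n c Fb 𝔮' h𝔮').trans ?_
  exact ringKrullDim_le_of_surjective (Ideal.Quotient.factor h𝔮'.1.2)
    (Ideal.Quotient.factor_surjective h𝔮'.1.2)

/-- complete intersections are equidimensional. -/
theorem dim_quotient_minimalPrimes_eq
    (hdim : ringKrullDim (MvPolynomial (Fin n) k ⧸ Ideal.span (Set.range Fb)) =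
      ((n - c : ℕ) : WithBot ℕ∞))
    (𝔮 : Ideal (MvPolynomial (Fin n) k ⧸ Ideal.span (Set.range Fb)))
    (h𝔮 : 𝔮 ∈ minimalPrimes (MvPolynomial (Fin n) k ⧸ Ideal.span (Set.range Fb))) :
    ringKrullDim ((MvPolynomial (Fin n) k ⧸ Ideal.span (Set.range Fb)) ⧸ 𝔮) =
      ((n - c : ℕ) : WithBot ℕ∞) := by
  have hprime : 𝔮.IsPrime := h𝔮.1.1
  have h𝔮' : 𝔮.comap (Ideal.Quotient.mk (Ideal.span (Set.range Fb))) ∈
      (Ideal.span (Set.range Fb)).minimalPrimes := by
    rw [Ideal.minimalPrimes_eq_comap]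
    exact ⟨𝔮, h𝔮, rfl⟩
  have hle : Ideal.span (Set.range Fb) ≤ 𝔮.comap (Ideal.Quotient.mk (Ideal.span (Set.range Fb))) :=
    h𝔮'.1.2
  have hmap : (𝔮.comap (Ideal.Quotient.mk (Ideal.span (Set.range Fb)))).map
      (Ideal.Quotient.mk (Ideal.span (Set.range Fb))) = 𝔮 :=
    Ideal.map_comap_of_surjective _ Ideal.Quotient.mk_surjective 𝔮
  have e := DoubleQuot.quotQuotEquivQuotOfLE hle
  rw [hmap] at e
  rw [ringKrullDim_eq_of_ringEquiv e]
  apply le_antisymm
  · rw [← hdim]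
    exact ringKrullDim_le_of_surjective (Ideal.Quotient.factor hle)
      (Ideal.Quotient.factor_surjective hle)
  · exact le_dim_quotient_minimalPrimes k n c Fb _ h𝔮'

end Groth.Agent.LibEquidimCI29
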