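import Mathlib
import Groth.Prelude.Def_Flat
import Groth.Agent.LibFibreDimBridge29
import Groth.Agent.S5792

/-!
# Fibre dimensions of a principal localization (helper29)

If the fibre dimension of `Spec S → Spec R` is `≤ d` at all points of `D(g)`, then all fibre rings
of `S_g` over `R` have Krull dimension `≤ d`.
-/

set_option autoImplicit false
universe u

namespace Groth.Agent.LibFibreDimAway29

open AlgebraicGeometry CategoryTheory FlatMor Groth.Agent.Lib.helper5.FibreDimLocal

variable (R S : Type u) [CommRing R] [CommRing S] [Algebra R S]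

/-- fibre dimension of `Spec S_g → Spec R` in terms of that of `Spec S → Spec R`. -/
theorem fibreDimAt_away (g : S) (q'' : PrimeSpectrum (Localization.Away g)) :
    fibreDimAt (Spec.map (CommRingCat.ofHom (algebraMap R (Localization.Away g)))) q'' =
      fibreDimAt (Spec.map (CommRingCat.ofHom (algebraMap R S)))
        (PrimeSpectrum.comap (algebraMap S (Localization.Away g)) q'' : PrimeSpectrum S) := by
  have hw : Spec.map (CommRingCat.ofHom (algebraMap S (Localization.Away g))) ≫
      Spec.map (CommRingCat.ofHom (algebraMap R S)) =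
      Spec.map (CommRingCat.ofHom (algebraMap R (Localization.Away g))) ≫ 𝟙 _ := by
    rw [Category.comp_id, ← Spec.map_comp, ← CommRingCat.ofHom_comp,
      ← IsScalarTower.algebraMap_eq]
  exact fibreDimAt_eq_of_comm
    (Spec.map (CommRingCat.ofHom (algebraMap S (Localization.Away g)))) (𝟙 _)
    (Spec.map (CommRingCat.ofHom (algebraMap R (Localization.Away g))))
    (Spec.map (CommRingCat.ofHom (algebraMap R S))) hw
    (PrimeSpectrum.localization_away_isOpenEmbedding (Localization.Away g) g)
    (fun _ _ h => h) q''

theorem ringKrullDim_fiber_away_le (g : S) (d : ℕ)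
    (hd : ∀ q : PrimeSpectrum S, g ∉ q.asIdeal →
      fibreDimAt (Spec.map (CommRingCat.ofHom (algebraMap R S))) q ≤ (d : WithBot ℕ∞))
    (p' : PrimeSpectrum R) :
    ringKrullDim (p'.asIdeal.Fiber (Localization.Away g)) ≤ (d : WithBot ℕ∞) := by
  rw [← PrimeSpectrum.topologicalKrullDim_eq_ringKrullDim, Groth.Agent.S5792.result]
  apply iSup_le
  intro Q''
  rw [← Groth.Agent.LibFibreDimBridge29.fibreDimAt_comap_includeRight R (Localization.Away g) p' Q'',
    fibreDimAt_away]
  apply hd
  intro hg
  have hunit : IsUnit (algebraMap S (Localization.Away g) g) :=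
    IsLocalization.Away.algebraMap_isUnit g
  exact (PrimeSpectrum.comap Algebra.TensorProduct.includeRight.toRingHom Q'').2.ne_top
    (Ideal.eq_top_of_isUnit_mem _ hg hunit)

end Groth.Agent.LibFibreDimAway29
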