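import Mathlib

/-!
# A basic open neighbourhood of a whole fibre inside a given open set (helper29)

For `R → S`, a prime `p` of `R`, and an open `W ⊆ Spec S` containing all primes over `p`, there is
`g ∈ S` with `D(g) ⊆ W` and `1 ⊗ g` a unit of `κ(p) ⊗ S`.
-/

set_option autoImplicit false
universe u

namespace Groth.Agent.LibFibreNbhd29

open TensorProduct

variable (R S : Type u) [CommRing R] [CommRing S] [Algebra R S]

lemma one_tmul_eq_zero_of_mem_map (p : Ideal R) [p.IsPrime] (y : S)
    (hy : y ∈ p.map (algebraMap R S)) : ((1 : p.ResidueField) ⊗ₜ[R] y : p.Fiber S) = 0 := by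
  have hle : p.map (algebraMap R S) ≤ RingHom.ker
      (Algebra.TensorProduct.includeRight : S →ₐ[R] p.Fiber S).toRingHom := by
    rw [Ideal.map_le_iff_le_comap]
    intro r hr
    rw [Ideal.mem_comap, RingHom.mem_ker]
    change (1 : p.ResidueField) ⊗ₜ[R] (algebraMap R S r) = 0
    rw [Algebra.algebraMap_eq_smul_one, ← TensorProduct.smul_tmul, Algebra.smul_def, mul_one,
      Ideal.algebraMap_residueField_eq_zero.mpr hr, TensorProduct.zero_tmul]
  exact hle hy

theorem exists_unit_fiber_basicOpen_subset (p : Ideal R) [p.IsPrime]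
    (W : Set (PrimeSpectrum S)) (hW : IsOpen W)
    (hp : ∀ q : PrimeSpectrum S, q.asIdeal.comap (algebraMap R S) = p → q ∈ W) :
    ∃ g : S, IsUnit ((1 : p.ResidueField) ⊗ₜ[R] g : p.Fiber S) ∧
      ∀ q : PrimeSpectrum S, g ∉ q.asIdeal → q ∈ W := by
  set IZ : Ideal S := PrimeSpectrum.vanishingIdeal Wᶜ with hIZ
  have hZ : PrimeSpectrum.zeroLocus (IZ : Set S) = Wᶜ := by
    rw [hIZ, PrimeSpectrum.zeroLocus_vanishingIdeal_eq_closure, hW.isClosed_compl.closure_eq]
  -- `p` is not in the image of `Spec (S/IZ)`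
  have hnot : (⟨p, inferInstance⟩ : PrimeSpectrum R) ∉
      Set.range (PrimeSpectrum.comap (algebraMap R (S ⧸ IZ))) := by
    rintro ⟨qb, hqb⟩
    let q : PrimeSpectrum S := PrimeSpectrum.comap (Ideal.Quotient.mk IZ) qb
    have hqZ : q ∈ PrimeSpectrum.zeroLocus (IZ : Set S) := by
      intro x hx
      change Ideal.Quotient.mk IZ x ∈ qb.asIdeal
      rw [Ideal.Quotient.eq_zero_iff_mem.mpr hx]
      exact qb.asIdeal.zero_mem
    have hqp : q.asIdeal.comap (algebraMap R S) = p := by
      have h1 : qb.asIdeal.comap (algebraMap R (S ⧸ IZ)) = p := by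
        have := congrArg PrimeSpectrum.asIdeal hqb
        rw [PrimeSpectrum.comap_asIdeal] at this
        exact this
      rw [← h1]
      change (qb.asIdeal.comap (Ideal.Quotient.mk IZ)).comap (algebraMap R S) = _
      rw [Ideal.comap_comap]
      rfl
    rw [hZ] at hqZ
    exact hqZ (hp q hqp)
  rw [PrimeSpectrum.mem_range_comap_iff] at hnot
  have hlt : ¬ (p.map (algebraMap R (S ⧸ IZ))).comap (algebraMap R (S ⧸ IZ)) ≤ p := by
    intro hle
    exact hnot (le_antisymm hle Ideal.le_comap_map)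
  obtain ⟨u, hu, hup⟩ := SetLike.not_le_iff_exists.mp hlt
  rw [Ideal.mem_comap] at hu
  have hmm : p.map (algebraMap R (S ⧸ IZ)) =
      (p.map (algebraMap R S)).map (Ideal.Quotient.mk IZ) := by
    rw [Ideal.map_map]
    rfl
  rw [hmm, Ideal.mem_map_iff_of_surjective _ Ideal.Quotient.mk_surjective] at hu
  obtain ⟨y, hy, hyu⟩ := hu
  refine ⟨algebraMap R S u - y, ?_, ?_⟩
  · rw [TensorProduct.tmul_sub, one_tmul_eq_zero_of_mem_map R S p y hy, sub_zero,
      Algebra.algebraMap_eq_smul_one, ← TensorProduct.smul_tmul, Algebra.smul_def, mul_one]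
    have hunit : IsUnit (algebraMap R p.ResidueField u) := by
      rw [isUnit_iff_ne_zero, ne_eq, Ideal.algebraMap_residueField_eq_zero]
      exact hup
    exact hunit.map (Algebra.TensorProduct.includeLeft : p.ResidueField →ₐ[R] p.Fiber S)
  · intro q hq
    by_contra hqW
    have hqZ : q ∈ PrimeSpectrum.zeroLocus (IZ : Set S) := by
      rw [hZ]
      exact hqW
    apply hq
    apply hqZ
    change algebraMap R S u - y ∈ IZ
    rw [← Ideal.Quotient.eq_zero_iff_mem, map_sub, hyu]
    exact sub_self _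

end Groth.Agent.LibFibreNbhd29
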