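import Mathlib.RingTheory.TensorProduct.MvPolynomial
import Mathlib.RingTheory.TensorProduct.Quotient
import Mathlib.RingTheory.Ideal.Quotient.Operations
import Mathlib.RingTheory.LocalRing.ResidueField.Ideal
import Mathlib.RingTheory.LocalRing.ResidueField.Fiber

/-!
# Base change of `R[x₁,…,xₙ]/(F₁,…,F_c)` (helper29)

* `tensorEquiv A F` : `A ⊗[R] (R[x]/(F)) ≃ₐ[A] A[x]/(F̄)`.
* `primeOver` : for a prime `q'` of `R[x]` over `p`, a prime of `κ(p)[x]` contracting to `q'`.
-/

set_option autoImplicit false

namespace Groth.Agent.LibRelGCI29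

open TensorProduct MvPolynomial

universe u v

section

variable {R : Type u} [CommRing R] (A : Type v) [CommRing A] [Algebra R A] {n c : ℕ}
  (F : Fin c → MvPolynomial (Fin n) R)

/-- the reduction of the equations -/
noncomputable abbrev Fbar : Fin c → MvPolynomial (Fin n) A :=
  fun i => MvPolynomial.map (algebraMap R A) (F i)

lemma map_span_eq :
    ((Ideal.span (Set.range F)).map (Algebra.TensorProduct.includeRight (R := R) (A := A)
      (B := MvPolynomial (Fin n) R))).map (MvPolynomial.algebraTensorAlgEquiv R A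
        (σ := Fin n)) = Ideal.span (Set.range (Fbar A F)) := by
  rw [Ideal.map_span, Ideal.map_span]
  congr 1
  ext x
  simp only [Set.mem_image, Set.mem_range, exists_exists_eq_and]
  constructor
  · rintro ⟨i, rfl⟩
    exact ⟨i, by simp [Fbar]⟩
  · rintro ⟨i, rfl⟩
    exact ⟨i, by simp [Fbar]⟩

/-- `A ⊗[R] (R[x]/(F)) ≃ₐ[A] A[x]/(F̄)`. -/
noncomputable def tensorEquiv :
    A ⊗[R] (MvPolynomial (Fin n) R ⧸ Ideal.span (Set.range F)) ≃ₐ[A]
      MvPolynomial (Fin n) A ⧸ Ideal.span (Set.range (Fbar A F)) :=
  (Algebra.TensorProduct.tensorQuotientEquiv (R := R) A (MvPolynomial (Fin n) R) A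
    (Ideal.span (Set.range F))).trans
    (Ideal.quotientEquivAlg _ _ (MvPolynomial.algebraTensorAlgEquiv R A (σ := Fin n))
      (map_span_eq A F).symm)

lemma tensorEquiv_tmul (a : A) (P : MvPolynomial (Fin n) R) :
    tensorEquiv A F (a ⊗ₜ Ideal.Quotient.mk _ P) =
      Ideal.Quotient.mk _ (a • MvPolynomial.map (algebraMap R A) P) := by
  simp [tensorEquiv]

end

section primeOver

variable {R : Type u} [CommRing R] {n : ℕ} (q' : Ideal (MvPolynomial (Fin n) R)) [q'.IsPrime]
  (p : Ideal R) [p.IsPrime] (hp : p = q'.comap (C : R →+* MvPolynomial (Fin n) R))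

/-- evaluation `κ(p)[x] → κ(q')`. -/
noncomputable def evalRes : MvPolynomial (Fin n) p.ResidueField →+* q'.ResidueField :=
  eval₂Hom (Ideal.ResidueField.map p q' C hp)
    (fun i => algebraMap (MvPolynomial (Fin n) R) q'.ResidueField (X i))

lemma evalRes_comp_map :
    (evalRes q' p hp).comp (MvPolynomial.map (algebraMap R p.ResidueField)) =
      algebraMap (MvPolynomial (Fin n) R) q'.ResidueField := by
  apply MvPolynomial.ringHom_ext
  · intro r
    simp [evalRes]
  · intro i
    simp [evalRes]

/-- the prime of `κ(p)[x]` over `q'`. -/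
noncomputable def primeOver : Ideal (MvPolynomial (Fin n) p.ResidueField) :=
  RingHom.ker (evalRes q' p hp)

instance : (primeOver q' p hp).IsPrime := RingHom.ker_isPrime _

lemma comap_primeOver :
    (primeOver q' p hp).comap (MvPolynomial.map (algebraMap R p.ResidueField)) = q' := by
  rw [primeOver, RingHom.comap_ker, evalRes_comp_map, Ideal.ker_algebraMap_residueField]

lemma map_mem_primeOver_iff (f : MvPolynomial (Fin n) R) :
    MvPolynomial.map (algebraMap R p.ResidueField) f ∈ primeOver q' p hp ↔ f ∈ q' := by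
  rw [← Ideal.mem_comap, comap_primeOver]

end primeOver

end Groth.Agent.LibRelGCI29
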