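import Mathlib
import Groth.Prelude.Def_RegImm
import Groth.Prelude.Def_Flat
import Groth.Agent.LibRelGCI29
import Groth.Agent.LibEquidimCI29
import Groth.Agent.LibFibreDimAway29
import Groth.Agent.LibFibreNbhd29
import Groth.Agent.LibAwayPres29
import Groth.Agent.S0402

/-!
# Principal localizations of `R[x]/(F)` that are relative global complete intersections (helper29)
-/

set_option autoImplicit false
universe u

namespace Groth.Agent.LibRelGCIAway29

open AlgebraicGeometry CategoryTheory FlatMor MvPolynomial TensorProduct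
  Groth.Agent.LibRelGCI29 Groth.Agent.LibAwayPres29

variable (R : Type u) [CommRing R] (n c : ℕ) (F : Fin c → MvPolynomial (Fin n) R)

/-- if the fibre dimension of `Spec R[x]/(F) → Spec R` is `≤ n - c` on `D(h̄)`, then
`(F, h·xₙ₊₁ - 1)` presents a relative global complete intersection. -/
theorem isRelGCI_eqsPlus (hcn : c ≤ n) (h : MvPolynomial (Fin n) R)
    (hd : ∀ q : PrimeSpectrum (Synt.RelGCIRing R n c F),
      Ideal.Quotient.mk (Ideal.span (Set.range F)) h ∉ q.asIdeal →
      fibreDimAt (Spec.map (CommRingCat.ofHom (algebraMap R (Synt.RelGCIRing R n c F)))) q ≤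
        ((n - c : ℕ) : WithBot ℕ∞)) :
    Synt.IsRelGCI R (n + 1) (c + 1) (eqsPlus F h) := by
  intro p' hnt
  refine ⟨Nat.succ_le_succ hcn, ?_⟩
  have hnc : n + 1 - (c + 1) = n - c := Nat.add_sub_add_right n 1 c
  rw [hnc]
  apply le_antisymm
  · have e : p'.asIdeal.Fiber (Localization.Away (Ideal.Quotient.mk (Ideal.span (Set.range F)) h)) ≃ₐ[p'.asIdeal.ResidueField]
        p'.asIdeal.Fiber (Synt.RelGCIRing R (n + 1) (c + 1) (eqsPlus F h)) :=
      Algebra.TensorProduct.congr AlgEquiv.refl (awayEquiv F h)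
    rw [← ringKrullDim_eq_of_ringEquiv e.toRingEquiv]
    exact Groth.Agent.LibFibreDimAway29.ringKrullDim_fiber_away_le R (Synt.RelGCIRing R n c F)
      (Ideal.Quotient.mk (Ideal.span (Set.range F)) h) (n - c) hd p'
  · let e := tensorEquiv p'.asIdeal.ResidueField (eqsPlus F h)
    have : Nontrivial (MvPolynomial (Fin (n + 1)) p'.asIdeal.ResidueField ⧸
        Ideal.span (Set.range (Fbar p'.asIdeal.ResidueField (eqsPlus F h)))) :=
      e.symm.toEquiv.nontrivial
    rw [ringKrullDim_eq_of_ringEquiv e.toRingEquiv, ← hnc]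
    exact Groth.Agent.LibEquidimCI29.le_dim_quotient p'.asIdeal.ResidueField (n + 1) (c + 1) _

lemma locallyOfFiniteType_spec :
    LocallyOfFiniteType (Spec.map (CommRingCat.ofHom (algebraMap R (Synt.RelGCIRing R n c F)))) := by
  rw [HasRingHomProperty.Spec_iff (P := @LocallyOfFiniteType)]
  exact RingHom.finiteType_algebraMap.mpr inferInstance

/-- the open locus where the fibre dimension is `≤ n - c`. -/
theorem isOpen_fibreDim_le :
    IsOpen {q : PrimeSpectrum (Synt.RelGCIRing R n c F) |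
      fibreDimAt (Spec.map (CommRingCat.ofHom (algebraMap R (Synt.RelGCIRing R n c F)))) q ≤
        ((n - c : ℕ) : WithBot ℕ∞)} := by
  have := locallyOfFiniteType_spec R n c F
  exact Groth.Agent.S0402.result
    (Spec.map (CommRingCat.ofHom (algebraMap R (Synt.RelGCIRing R n c F)))) (n - c)

/-- points over a prime whose fibre has dimension `n - c` lie in that locus. -/
theorem mem_of_fiber_dim (p : Ideal R) [p.IsPrime]
    (hdim : ringKrullDim (p.Fiber (Synt.RelGCIRing R n c F)) ≤ ((n - c : ℕ) : WithBot ℕ∞))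
    (q : PrimeSpectrum (Synt.RelGCIRing R n c F))
    (hq : q.asIdeal.comap (algebraMap R (Synt.RelGCIRing R n c F)) = p) :
    fibreDimAt (Spec.map (CommRingCat.ofHom (algebraMap R (Synt.RelGCIRing R n c F)))) q ≤
      ((n - c : ℕ) : WithBot ℕ∞) := by
  have hq' : q ∈ PrimeSpectrum.comap (algebraMap R (Synt.RelGCIRing R n c F)) ⁻¹'
      {(⟨p, inferInstance⟩ : PrimeSpectrum R)} := PrimeSpectrum.ext hq
  set Q := PrimeSpectrum.preimageHomeomorphFiber R (Synt.RelGCIRing R n c F) ⟨p, inferInstance⟩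
    ⟨q, hq'⟩ with hQ
  have h1 : (PrimeSpectrum.comap Algebra.TensorProduct.includeRight.toRingHom Q :
      PrimeSpectrum (Synt.RelGCIRing R n c F)) = q := by
    have := (PrimeSpectrum.preimageHomeomorphFiber R (Synt.RelGCIRing R n c F)
      ⟨p, inferInstance⟩).symm_apply_apply ⟨q, hq'⟩
    exact congrArg Subtype.val this
  rw [← h1, Groth.Agent.LibFibreDimBridge29.fibreDimAt_comap_includeRight R
    (Synt.RelGCIRing R n c F) ⟨p, inferInstance⟩ Q]
  refine le_trans ?_ hdim
  rw [← PrimeSpectrum.topologicalKrullDim_eq_ringKrullDim, Groth.Agent.S5792.result]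
  exact le_iSup (fun x => localDim (PrimeSpectrum (p.Fiber (Synt.RelGCIRing R n c F))) x) Q

/-- **Stacks 00SX-type statement at a prime.** -/
theorem exists_away_isRelGCI_of_fiber_dim (p : Ideal R) [p.IsPrime] (hcn : c ≤ n)
    (hdim : ringKrullDim (p.Fiber (Synt.RelGCIRing R n c F)) ≤ ((n - c : ℕ) : WithBot ℕ∞)) :
    ∃ h : MvPolynomial (Fin n) R,
      IsUnit ((1 : p.ResidueField) ⊗ₜ[R] (Ideal.Quotient.mk (Ideal.span (Set.range F)) h) :
        p.Fiber (Synt.RelGCIRing R n c F)) ∧
      Synt.IsRelGCI R (n + 1) (c + 1) (eqsPlus F h) := by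
  obtain ⟨g, hgu, hgW⟩ := Groth.Agent.LibFibreNbhd29.exists_unit_fiber_basicOpen_subset R
    (Synt.RelGCIRing R n c F) p _ (isOpen_fibreDim_le R n c F)
    (fun q hq => mem_of_fiber_dim R n c F p hdim q hq)
  obtain ⟨h, rfl⟩ := Ideal.Quotient.mk_surjective g
  exact ⟨h, hgu, isRelGCI_eqsPlus R n c F hcn h hgW⟩

end Groth.Agent.LibRelGCIAway29
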