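import Mathlib
import Groth.Prelude.Def_Flat
import Groth.Agent.Lib.Helper5.LocalDimFT
import Groth.Agent.Lib.Helper3.FTFieldRing

/-!
# helper29: `dim_q Spec B = ht q + trdeg_k (B/q)` for `B` of finite type over a field `k`
-/

set_option autoImplicit false
set_option linter.style.haveILetI false

namespace Groth.Agent.LibLocalDimFormula29

universe u

open Groth.Agent.Lib.helper3.FTField Groth.Agent.Lib.helper5.LocalDimFT

variable (k : Type u) [Field k] {B : Type u} [CommRing B] [Algebra k B] [Algebra.FiniteType k B]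

theorem localDim_eq_height_add_trdeg (q : Ideal B) [q.IsPrime] (a b : ℕ)
    (ha : q.height = a) (hb : Algebra.trdeg k (B ⧸ q) = b) :
    FlatMor.localDim (PrimeSpectrum B) ⟨q, inferInstance⟩ = ((a + b : ℕ) : WithBot ℕ∞) := by
  haveI : IsNoetherianRing B := Algebra.FiniteType.isNoetherianRing k B
  apply localDim_primeSpectrum_eq k q (a + b)
  · intro p hp hpq
    haveI := hp.1.1
    rw [← height_map_add_trdeg k p q hpq, hb]
    have h1 : (q.map (Ideal.Quotient.mk p)).height ≤ (a : ℕ∞) := ha ▸ height_map_le p q hpq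
    have h2 : ((q.map (Ideal.Quotient.mk p)).height : Cardinal.{u}) ≤ ((a : ℕ∞) : Cardinal.{u}) :=
      Cardinal.ofENat_le_ofENat_of_le h1
    push_cast at h2 ⊢
    exact add_le_add_left h2 _
  · obtain ⟨q0, hq0, hq0q, hht⟩ := exists_minimalPrimes_height_map_eq q
    haveI := hq0.1.1
    refine ⟨q0, hq0, hq0q, ?_⟩
    rw [← height_map_add_trdeg k q0 q hq0q, hb, hht, ha]
    push_cast
    rfl

end Groth.Agent.LibLocalDimFormula29
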