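import Mathlib
import Groth.Agent.Lib.Helper26.CMRegSeq
import Groth.Agent.Lib.Helper26.CMPoly2
import Groth.Agent.Lib.Helper26.CMCat3

/-!
# Complete intersections over a field are regular sequences locally (helper29)

If `k[x₁..xₙ]/(F₁..F_c)` has dimension `n - c` (`c ≤ n`), then `F₁..F_c` is a regular sequence in
`k[x]_Q` for every prime `Q ⊇ (F)`.
-/

set_option autoImplicit false
universe u

namespace Groth.Agent.LibRelGCIFib29

open Groth.Agent.Lib.helper26.DimFormula Groth.Agent.Lib.helper26.CMPoly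
  Groth.Agent.Lib.helper26.CMCat

lemma ofList_ofFn {A : Type*} [CommRing A] {c : ℕ} (F : Fin c → A) :
    Ideal.ofList (List.ofFn F) = Ideal.span (Set.range F) := by
  unfold Ideal.ofList
  congr 1
  ext x
  simp [List.mem_ofFn]

theorem regular_of_dim (k : Type u) [Field k] (n c : ℕ) (hcn : c ≤ n)
    (Fb : Fin c → MvPolynomial (Fin n) k)
    (hdim : ringKrullDim (MvPolynomial (Fin n) k ⧸ Ideal.span (Set.range Fb)) =
      ((n - c : ℕ) : WithBot ℕ∞))
    (Q : Ideal (MvPolynomial (Fin n) k)) [Q.IsPrime] (hQ : Ideal.span (Set.range Fb) ≤ Q) :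
    RingTheory.Sequence.IsRegular (Localization.AtPrime Q)
      ((List.ofFn Fb).map (algebraMap (MvPolynomial (Fin n) k) (Localization.AtPrime Q))) := by
  have := isCohenMacaulayRing_field k
  have := isCohenMacaulayRing_mvPolynomial k n
  have heq : ∀ p ∈ minimalPrimes (MvPolynomial (Fin n) k),
      ringKrullDim (MvPolynomial (Fin n) k ⧸ p) = n := by
    intro p hp
    rw [IsDomain.minimalPrimes_eq_singleton_bot, Set.mem_singleton_iff] at hp
    subst hp
    rw [ringKrullDim_eq_of_ringEquiv (RingEquiv.quotientBot (MvPolynomial (Fin n) k)),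
      MvPolynomial.ringKrullDim_of_isNoetherianRing, ringKrullDim_eq_zero_of_field]
    simp
  have hlen : (List.ofFn Fb).length = c := List.length_ofFn
  have hof := ofList_ofFn Fb
  refine (cm_equidim_regular k (MvPolynomial (Fin n) k) n heq (List.ofFn Fb) (by rw [hlen]; exact hcn)
    ?_ ?_).2 Q (by rw [hof]; exact hQ)
  · rw [hof]
    intro h
    exact (inferInstance : Q.IsPrime).ne_top (top_le_iff.mp (h ▸ hQ))
  · rw [hof, hlen, hdim]

end Groth.Agent.LibRelGCIFib29
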