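import Mathlib
import Groth.Prelude.Def_Flat
import Groth.Agent.LibLocalDimFormula29
import Groth.Agent.LibRelGCIFib29
import Groth.Agent.Lib.Helper17.CIField7

/-!
# helper29: regularity of `F̄` at a prime of `k[x]` versus the local dimension of `k[x]/(F̄)`

For `Fb : Fin c → k[x_1..x_n]`, a prime `Q ⊇ (Fb)` and `Q₀` its image in `B = k[x]/(Fb)`:
* `localDim_of_regular`: `Fb` weakly regular on `k[x]_Q` ⇒ `c ≤ n` and `dim_{Q₀} Spec B = n - c`;
* `regular_of_localDim_le`: `c ≤ n`, `dim_{Q₀} Spec B ≤ n - c` ⇒ `Fb` regular on `k[x]_Q`.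
-/

set_option autoImplicit false
set_option linter.style.haveILetI false
set_option linter.unusedSectionVars false

namespace Groth.Agent.LibRegLocalDim29

universe u

open RingTheory.Sequence IsLocalRing Groth.Agent.Lib.helper17.CIField
  Groth.Agent.Lib.helper3.FTField

variable (k : Type u) [Field k] {n c : ℕ} (Fb : Fin c → MvPolynomial (Fin n) k)
  (Q : Ideal (MvPolynomial (Fin n) k)) [Q.IsPrime]

omit [Q.IsPrime] in
lemma exists_height_trdeg [Q.IsPrime] : ∃ a b : ℕ, Q.height = a ∧
    Algebra.trdeg k (MvPolynomial (Fin n) k ⧸ Q) = b ∧ a + b = n := by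
  have key := Groth.Agent.Lib.helper26.DimFormula.height_add_trdeg_quotient k
    (MvPolynomial (Fin n) k) Q
  rw [MvPolynomial.trdeg_of_isDomain] at key
  obtain ⟨b, hb⟩ := exists_nat_trdeg_quotient k Q
  have hfin : Q.height ≠ ⊤ := Ideal.height_ne_top (Ideal.IsPrime.ne_top inferInstance)
  obtain ⟨a, ha⟩ := ENat.ne_top_iff_exists.mp hfin
  refine ⟨a, b, ha.symm, hb, ?_⟩
  rw [← ha, hb] at key
  simp only [Cardinal.mk_fintype, Fintype.card_fin, Cardinal.lift_natCast,
    Cardinal.ofENat_nat] at key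
  exact_mod_cast key

variable (hQ : Ideal.span (Set.range Fb) ≤ Q)

include hQ in
lemma map_isPrime : (Q.map (Ideal.Quotient.mk (Ideal.span (Set.range Fb)))).IsPrime :=
  Ideal.map_isPrime_of_surjective Ideal.Quotient.mk_surjective (by rw [Ideal.mk_ker]; exact hQ)

include hQ in
lemma comap_map : (Q.map (Ideal.Quotient.mk (Ideal.span (Set.range Fb)))).comap
    (Ideal.Quotient.mk (Ideal.span (Set.range Fb))) = Q := by
  rw [Ideal.comap_map_of_surjective _ Ideal.Quotient.mk_surjective, ← RingHom.ker_eq_comap_bot,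
    Ideal.mk_ker]
  exact sup_eq_left.mpr hQ

include hQ in
/-- `dim (k[x]_Q / (Fb)) = ht Q₀`. -/
lemma dim_quot_eq_height :
    haveI := map_isPrime k Fb Q hQ
    ringKrullDim (Localization.AtPrime Q ⧸ (Ideal.span (Set.range Fb)).map
      (algebraMap (MvPolynomial (Fin n) k) (Localization.AtPrime Q))) =
      ((Q.map (Ideal.Quotient.mk (Ideal.span (Set.range Fb)))).height : WithBot ℕ∞) := by
  haveI := map_isPrime k Fb Q hQ
  have hφ : Function.Surjective (Ideal.Quotient.mkₐ k (Ideal.span (Set.range Fb))) :=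
    Ideal.Quotient.mkₐ_surjective k _
  have hq'eq : Q = (Q.map (Ideal.Quotient.mk (Ideal.span (Set.range Fb)))).comap
      (Ideal.Quotient.mkₐ k (Ideal.span (Set.range Fb))).toRingHom := (comap_map k Fb Q hQ).symm
  have hker : RingHom.ker (Ideal.Quotient.mkₐ k (Ideal.span (Set.range Fb))).toRingHom =
      Ideal.span (Set.range Fb) := Ideal.mk_ker
  have hπ := locHomₐ_surjective k (Ideal.Quotient.mkₐ k (Ideal.span (Set.range Fb))) hφ
    (Q.map (Ideal.Quotient.mk (Ideal.span (Set.range Fb)))) Q hq'eq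
  have hkπ := ker_locHomₐ k (Ideal.Quotient.mkₐ k (Ideal.span (Set.range Fb))) hφ
    (Q.map (Ideal.Quotient.mk (Ideal.span (Set.range Fb)))) Q hq'eq
  rw [hker] at hkπ
  rw [ringKrullDim_eq_of_ringEquiv ((Ideal.quotEquivOfEq hkπ.symm).trans
    (RingHom.quotientKerEquivOfSurjective hπ)),
    IsLocalization.AtPrime.ringKrullDim_eq_height
      (Q.map (Ideal.Quotient.mk (Ideal.span (Set.range Fb))))]

include hQ in
lemma trdeg_quot_map :
    haveI := map_isPrime k Fb Q hQ
    Algebra.trdeg k ((MvPolynomial (Fin n) k ⧸ Ideal.span (Set.range Fb)) ⧸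
      Q.map (Ideal.Quotient.mk (Ideal.span (Set.range Fb)))) =
      Algebra.trdeg k (MvPolynomial (Fin n) k ⧸ Q) :=
  AlgEquiv.trdeg_eq (DoubleQuot.quotQuotEquivQuotOfLEₐ k hQ)

include hQ in
lemma map_le_maximalIdeal : (Ideal.span (Set.range Fb)).map
    (algebraMap (MvPolynomial (Fin n) k) (Localization.AtPrime Q)) ≤
      maximalIdeal (Localization.AtPrime Q) := by
  rw [← Localization.AtPrime.map_eq_maximalIdeal]
  exact Ideal.map_mono hQ

lemma ofList_map_eq : Ideal.ofList ((List.ofFn Fb).map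
    (algebraMap (MvPolynomial (Fin n) k) (Localization.AtPrime Q))) =
    (Ideal.span (Set.range Fb)).map
      (algebraMap (MvPolynomial (Fin n) k) (Localization.AtPrime Q)) := by
  rw [← Groth.Agent.LibRelGCIFib29.ofList_ofFn, Ideal.map_ofList]

include hQ in
theorem height_add_eq_of_regular
    (hreg : IsWeaklyRegular (Localization.AtPrime Q)
      ((List.ofFn Fb).map (algebraMap (MvPolynomial (Fin n) k) (Localization.AtPrime Q)))) :
    ((Q.map (Ideal.Quotient.mk (Ideal.span (Set.range Fb)))).height : WithBot ℕ∞) + (c : WithBot ℕ∞) =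
      (Q.height : WithBot ℕ∞) := by
  have hne : Ideal.ofList ((List.ofFn Fb).map
      (algebraMap (MvPolynomial (Fin n) k) (Localization.AtPrime Q))) •
        (⊤ : Submodule (Localization.AtPrime Q) (Localization.AtPrime Q)) ≠ ⊤ := by
    rw [smul_eq_mul, Ideal.mul_top, ofList_map_eq]
    intro htop
    have := map_le_maximalIdeal k Fb Q hQ
    rw [htop] at this
    exact (maximalIdeal.isMaximal _).ne_top (top_le_iff.mp this)
  have hR : IsRegular (Localization.AtPrime Q) ((List.ofFn Fb).map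
      (algebraMap (MvPolynomial (Fin n) k) (Localization.AtPrime Q))) := ⟨hreg, hne.symm⟩
  have h1 := ringKrullDim_add_length_eq_ringKrullDim_of_isRegular _ hR
  rw [List.length_map, List.length_ofFn, ofList_map_eq k Fb Q,
    dim_quot_eq_height k Fb Q hQ, IsLocalization.AtPrime.ringKrullDim_eq_height Q] at h1
  exact h1

include hQ in
theorem localDim_of_regular
    (hreg : IsWeaklyRegular (Localization.AtPrime Q)
      ((List.ofFn Fb).map (algebraMap (MvPolynomial (Fin n) k) (Localization.AtPrime Q)))) :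
    c ≤ n ∧ FlatMor.localDim (PrimeSpectrum (MvPolynomial (Fin n) k ⧸ Ideal.span (Set.range Fb)))
      ⟨Q.map (Ideal.Quotient.mk _), map_isPrime k Fb Q hQ⟩ = ((n - c : ℕ) : WithBot ℕ∞) := by
  haveI := map_isPrime k Fb Q hQ
  obtain ⟨a, b, ha, hb, hab⟩ := exists_height_trdeg k Q
  have h1 := height_add_eq_of_regular k Fb Q hQ hreg
  have hfin : (Q.map (Ideal.Quotient.mk (Ideal.span (Set.range Fb)))).height ≠ ⊤ :=
    Ideal.height_ne_top (Ideal.IsPrime.ne_top inferInstance)
  obtain ⟨d, hd⟩ := ENat.ne_top_iff_exists.mp hfin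
  rw [← hd, ha] at h1
  have hdc : d + c = a := by exact_mod_cast h1
  have hb' := (trdeg_quot_map k Fb Q hQ).trans hb
  have h2 := Groth.Agent.LibLocalDimFormula29.localDim_eq_height_add_trdeg k
    (Q.map (Ideal.Quotient.mk (Ideal.span (Set.range Fb)))) d b hd.symm hb'
  refine ⟨by omega, ?_⟩
  rw [h2]
  congr 2
  omega

include hQ in
theorem regular_of_localDim_le (hcn : c ≤ n)
    (h : FlatMor.localDim (PrimeSpectrum (MvPolynomial (Fin n) k ⧸ Ideal.span (Set.range Fb)))
      ⟨Q.map (Ideal.Quotient.mk _), map_isPrime k Fb Q hQ⟩ ≤ ((n - c : ℕ) : WithBot ℕ∞)) :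
    IsRegular (Localization.AtPrime Q)
      ((List.ofFn Fb).map (algebraMap (MvPolynomial (Fin n) k) (Localization.AtPrime Q))) := by
  classical
  haveI := map_isPrime k Fb Q hQ
  obtain ⟨a, b, ha, hb, hab⟩ := exists_height_trdeg k Q
  have hfin : (Q.map (Ideal.Quotient.mk (Ideal.span (Set.range Fb)))).height ≠ ⊤ :=
    Ideal.height_ne_top (Ideal.IsPrime.ne_top inferInstance)
  obtain ⟨d, hd⟩ := ENat.ne_top_iff_exists.mp hfin
  have hb' := (trdeg_quot_map k Fb Q hQ).trans hb
  have h2 := Groth.Agent.LibLocalDimFormula29.localDim_eq_height_add_trdeg k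
    (Q.map (Ideal.Quotient.mk (Ideal.span (Set.range Fb)))) d b hd.symm hb'
  rw [h2] at h
  have h3 : d + b ≤ n - c := by exact_mod_cast h
  set rs := (List.ofFn Fb).map (algebraMap (MvPolynomial (Fin n) k) (Localization.AtPrime Q))
    with hrs
  have hlen : rs.length = c := by rw [hrs, List.length_map, List.length_ofFn]
  have hmem : ∀ x ∈ rs, x ∈ maximalIdeal (Localization.AtPrime Q) := by
    intro x hx
    apply map_le_maximalIdeal k Fb Q hQ
    rw [← ofList_map_eq k Fb Q]
    exact Ideal.subset_span hx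
  have hdimq : ringKrullDim (Localization.AtPrime Q ⧸ Ideal.ofList rs) = (d : WithBot ℕ∞) := by
    rw [hrs, ofList_map_eq k Fb Q, dim_quot_eq_height k Fb Q hQ, ← hd]
    rfl
  have hdimL : ringKrullDim (Localization.AtPrime Q) = (a : WithBot ℕ∞) := by
    rw [IsLocalization.AtPrime.ringKrullDim_eq_height Q, ha]
    rfl
  -- Krull's height theorem
  have hK := ringKrullDim_le_ringKrullDim_quotient_add_card (R := Localization.AtPrime Q)
    rs.toFinset (by
      rw [List.coe_toFinset, IsLocalRing.ringJacobson_eq_maximalIdeal]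
      intro x hx
      exact hmem x hx)
  have hspan : Ideal.span ((rs.toFinset : Finset (Localization.AtPrime Q)) : Set _) =
      Ideal.ofList rs := by
    rw [List.coe_toFinset]
  rw [hspan, hdimq, hdimL] at hK
  have hcard : rs.toFinset.card ≤ c := hlen ▸ List.toFinset_card_le rs
  have hK' : a ≤ d + rs.toFinset.card := by exact_mod_cast hK
  apply isRegular_of_dim_quot (Localization.AtPrime Q) rs hmem
  rw [hdimq, hdimL, hlen]
  have : d + c = a := by omega
  exact_mod_cast this

end Groth.Agent.LibRegLocalDim29
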