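import Mathlib.RingTheory.MvPolynomial.Localization
import Mathlib.RingTheory.Localization.LocalizationLocalization
import Mathlib.RingTheory.Localization.Ideal
import Mathlib.RingTheory.Localization.AtPrime.Basic
import Mathlib.RingTheory.LocalRing.ResidueField.Ideal
import Mathlib.RingTheory.Regular.RegularSequence
import Mathlib.RingTheory.Polynomial.Basic

/-!
# The closed fibre of `R₀[x]_{q₀'}` over `(R₀)_{p₀}` is a localization of `κ(p₀)[x]` (helper29)

`transfer` : a sequence of polynomials whose image is weakly regular on `κ(p₀)[x]_{Q₀}` is weakly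
regular on `R₀[x]_{q₀'} / m_{p₀} R₀[x]_{q₀'}`.
-/

set_option autoImplicit false

namespace Groth.Agent.LibFibreLoc29

open MvPolynomial RingTheory.Sequence IsLocalRing

universe u

attribute [local instance] MvPolynomial.algebraMvPolynomial

variable {R₀ : Type u} [CommRing R₀] {n : ℕ} (q₀' : Ideal (MvPolynomial (Fin n) R₀)) [q₀'.IsPrime]
  (p₀ : Ideal R₀) [p₀.IsPrime] [q₀'.LiesOver p₀]
  [Algebra (Localization.AtPrime p₀) (Localization.AtPrime q₀')]
  [Localization.AtPrime.IsLiesOverAlgebra p₀ q₀']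

/-- the ideal of the closed fibre -/
lemma map_maximalIdeal_eq :
    (maximalIdeal (Localization.AtPrime p₀)).map
      (algebraMap (Localization.AtPrime p₀) (Localization.AtPrime q₀')) =
    (p₀.map (C : R₀ →+* MvPolynomial (Fin n) R₀)).map
      (algebraMap (MvPolynomial (Fin n) R₀) (Localization.AtPrime q₀')) := by
  rw [← Localization.AtPrime.map_eq_maximalIdeal, Ideal.map_map, Ideal.map_map,
    ← IsScalarTower.algebraMap_eq R₀ (Localization.AtPrime p₀) (Localization.AtPrime q₀'),
    ← MvPolynomial.algebraMap_eq,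
    ← IsScalarTower.algebraMap_eq R₀ (MvPolynomial (Fin n) R₀) (Localization.AtPrime q₀')]

variable (Q₀ : Ideal (MvPolynomial (Fin n) p₀.ResidueField)) [Q₀.IsPrime]

omit [Algebra (Localization.AtPrime p₀) (Localization.AtPrime q₀')]
  [Localization.AtPrime.IsLiesOverAlgebra p₀ q₀'] [q₀'.LiesOver p₀] in
theorem transfer_aux (I₀ : Ideal (Localization.AtPrime q₀'))
    (hI₀ : I₀ = (p₀.map (C : R₀ →+* MvPolynomial (Fin n) R₀)).map
      (algebraMap (MvPolynomial (Fin n) R₀) (Localization.AtPrime q₀')))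
    (hQ₀ : Q₀.comap (MvPolynomial.map (algebraMap R₀ p₀.ResidueField)) = q₀')
    (ys : List (MvPolynomial (Fin n) R₀))
    (h : IsWeaklyRegular (Localization.AtPrime Q₀)
      ((ys.map (MvPolynomial.map (algebraMap R₀ p₀.ResidueField))).map
        (algebraMap (MvPolynomial (Fin n) p₀.ResidueField) (Localization.AtPrime Q₀)))) :
    IsWeaklyRegular (Localization.AtPrime q₀' ⧸ I₀)
      (ys.map (algebraMap (MvPolynomial (Fin n) R₀) (Localization.AtPrime q₀'))) := by
  classical
  let f : MvPolynomial (Fin n) R₀ →+* MvPolynomial (Fin n) (R₀ ⧸ p₀) :=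
    MvPolynomial.map (Ideal.Quotient.mk p₀)
  have hf : Function.Surjective f := MvPolynomial.map_surjective _ Ideal.Quotient.mk_surjective
  have hkerf : RingHom.ker f = p₀.map (C : R₀ →+* MvPolynomial (Fin n) R₀) := by
    rw [MvPolynomial.ker_map, Ideal.mk_ker]
  -- the algebra structure `D₁ → E₀`
  have hbase : ∀ a ∈ p₀, algebraMap R₀ (Localization.AtPrime q₀' ⧸ I₀) a = 0 := by
    intro a ha
    rw [IsScalarTower.algebraMap_apply R₀ (Localization.AtPrime q₀') (Localization.AtPrime q₀' ⧸ I₀),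
      Ideal.Quotient.algebraMap_eq, Ideal.Quotient.eq_zero_iff_mem, hI₀,
      IsScalarTower.algebraMap_apply R₀ (MvPolynomial (Fin n) R₀) (Localization.AtPrime q₀'),
      MvPolynomial.algebraMap_eq]
    exact Ideal.mem_map_of_mem _ (Ideal.mem_map_of_mem _ ha)
  let base : R₀ ⧸ p₀ →+* Localization.AtPrime q₀' ⧸ I₀ :=
    Ideal.Quotient.lift p₀ (algebraMap R₀ (Localization.AtPrime q₀' ⧸ I₀)) hbase
  let ψ : MvPolynomial (Fin n) (R₀ ⧸ p₀) →+* Localization.AtPrime q₀' ⧸ I₀ :=
    eval₂Hom base (fun i => Ideal.Quotient.mk I₀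
      (algebraMap (MvPolynomial (Fin n) R₀) (Localization.AtPrime q₀') (X i)))
  have hψ : ψ.comp f = (Ideal.Quotient.mk I₀).comp
      (algebraMap (MvPolynomial (Fin n) R₀) (Localization.AtPrime q₀')) := by
    apply MvPolynomial.ringHom_ext
    · intro a
      simp only [RingHom.coe_comp, Function.comp_apply, f, map_C, ψ, coe_eval₂Hom, eval₂_C, base,
        Ideal.Quotient.lift_mk]
      rw [IsScalarTower.algebraMap_apply R₀ (Localization.AtPrime q₀')
        (Localization.AtPrime q₀' ⧸ I₀), Ideal.Quotient.algebraMap_eq,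
        IsScalarTower.algebraMap_apply R₀ (MvPolynomial (Fin n) R₀) (Localization.AtPrime q₀'),
        MvPolynomial.algebraMap_eq]
    · intro i
      simp [f, ψ]
  let algE : Algebra (MvPolynomial (Fin n) (R₀ ⧸ p₀)) (Localization.AtPrime q₀' ⧸ I₀) :=
    RingHom.toAlgebra (R := MvPolynomial (Fin n) (R₀ ⧸ p₀)) (S := Localization.AtPrime q₀' ⧸ I₀) ψ
  have hloc1 : IsLocalization (q₀'.primeCompl.map f) (Localization.AtPrime q₀' ⧸ I₀) := by
    refine IsLocalization.of_surjective (R' := MvPolynomial (Fin n) (R₀ ⧸ p₀))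
      (S' := Localization.AtPrime q₀' ⧸ I₀) q₀'.primeCompl (Localization.AtPrime q₀') f hf
      (Ideal.Quotient.mk I₀) Ideal.Quotient.mk_surjective hψ.symm ?_
    rw [Ideal.mk_ker, hkerf, hI₀]
  -- the prime of `D₁`
  let q₁ : Ideal (MvPolynomial (Fin n) (R₀ ⧸ p₀)) :=
    Q₀.comap (algebraMap (MvPolynomial (Fin n) (R₀ ⧸ p₀)) (MvPolynomial (Fin n) p₀.ResidueField))
  have hq₁ : q₁.IsPrime := Ideal.comap_isPrime _ _
  have hkey : ∀ y : MvPolynomial (Fin n) R₀,
      algebraMap (MvPolynomial (Fin n) (R₀ ⧸ p₀)) (MvPolynomial (Fin n) p₀.ResidueField) (f y) =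
        MvPolynomial.map (algebraMap R₀ p₀.ResidueField) y := by
    intro y
    rw [MvPolynomial.algebraMap_def, MvPolynomial.map_map,
      IsScalarTower.algebraMap_eq R₀ (R₀ ⧸ p₀) p₀.ResidueField]
    rfl
  have hmem : ∀ y : MvPolynomial (Fin n) R₀, f y ∈ q₁ ↔ y ∈ q₀' := by
    intro y
    rw [← hQ₀, Ideal.mem_comap, Ideal.mem_comap, hkey]
  have hsub : q₀'.primeCompl.map f = q₁.primeCompl := by
    ext x
    obtain ⟨y, rfl⟩ := hf x
    constructor
    · rintro ⟨y', hy', hyy⟩
      change f y ∉ q₁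
      rw [← hyy, hmem]
      exact hy'
    · intro hx
      exact ⟨y, fun hy => hx ((hmem y).mpr hy), rfl⟩
  rw [hsub] at hloc1
  have hloc1' : IsLocalization.AtPrime (Localization.AtPrime q₀' ⧸ I₀) q₁ := hloc1
  -- `C₀` as a localization of `D₁`
  have htower : IsScalarTower (MvPolynomial (Fin n) (R₀ ⧸ p₀))
      (MvPolynomial (Fin n) p₀.ResidueField) (Localization.AtPrime Q₀) := inferInstance
  have hloc2 : IsLocalization.AtPrime (Localization.AtPrime Q₀) q₁ :=
    IsLocalization.isLocalization_isLocalization_atPrime_isLocalization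
      ((nonZeroDivisors (R₀ ⧸ p₀)).map (C : (R₀ ⧸ p₀) →+* MvPolynomial (Fin n) (R₀ ⧸ p₀)))
      (Localization.AtPrime Q₀) Q₀
  -- the comparison
  let θ : (Localization.AtPrime q₀' ⧸ I₀) ≃ₐ[MvPolynomial (Fin n) (R₀ ⧸ p₀)]
      Localization.AtPrime Q₀ :=
    IsLocalization.algEquiv q₁.primeCompl _ _
  -- regularity over `D₁`
  have h1 : IsWeaklyRegular (Localization.AtPrime Q₀) (ys.map f) := by
    rw [← isWeaklyRegular_map_algebraMap_iff (Localization.AtPrime Q₀) (Localization.AtPrime Q₀)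
      (ys.map f)]
    convert h using 1
    simp only [List.map_map]
    apply List.map_congr_left
    intro y _
    simp only [Function.comp_apply]
    rw [IsScalarTower.algebraMap_apply (MvPolynomial (Fin n) (R₀ ⧸ p₀))
      (MvPolynomial (Fin n) p₀.ResidueField) (Localization.AtPrime Q₀), hkey]
  have h2 : IsWeaklyRegular (Localization.AtPrime q₀' ⧸ I₀) (ys.map f) :=
    (LinearEquiv.isWeaklyRegular_congr θ.toLinearEquiv (ys.map f)).mpr h1
  rw [← isWeaklyRegular_map_algebraMap_iff (Localization.AtPrime q₀' ⧸ I₀)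
    (Localization.AtPrime q₀' ⧸ I₀) (ys.map f)] at h2
  rw [← isWeaklyRegular_map_algebraMap_iff (Localization.AtPrime q₀' ⧸ I₀)
    (Localization.AtPrime q₀' ⧸ I₀)
    (ys.map (algebraMap (MvPolynomial (Fin n) R₀) (Localization.AtPrime q₀')))]
  convert h2 using 1
  simp only [List.map_map]
  apply List.map_congr_left
  intro y _
  simp only [Function.comp_apply]
  exact (RingHom.congr_fun hψ y).symm

theorem transfer (hQ₀ : Q₀.comap (MvPolynomial.map (algebraMap R₀ p₀.ResidueField)) = q₀')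
    (ys : List (MvPolynomial (Fin n) R₀))
    (h : IsWeaklyRegular (Localization.AtPrime Q₀)
      ((ys.map (MvPolynomial.map (algebraMap R₀ p₀.ResidueField))).map
        (algebraMap (MvPolynomial (Fin n) p₀.ResidueField) (Localization.AtPrime Q₀)))) :
    IsWeaklyRegular (Localization.AtPrime q₀' ⧸ (maximalIdeal (Localization.AtPrime p₀)).map
        (algebraMap (Localization.AtPrime p₀) (Localization.AtPrime q₀')))
      (ys.map (algebraMap (MvPolynomial (Fin n) R₀) (Localization.AtPrime q₀'))) :=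
  transfer_aux q₀' p₀ Q₀ _ (map_maximalIdeal_eq q₀' p₀) hQ₀ ys h

end Groth.Agent.LibFibreLoc29
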