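import Groth.Agent.LibRegDescent29
import Mathlib.RingTheory.TensorProduct.MvPolynomial
import Mathlib.RingTheory.Flat.Localization
import Mathlib.RingTheory.Flat.Stability
import Mathlib.RingTheory.Flat.FaithfullyFlat.Algebra
import Mathlib.RingTheory.LocalRing.ResidueField.Ideal
import Mathlib.RingTheory.Localization.AtPrime.Basic

/-!
# Descent of regular sequences in localized polynomial rings along a field extension (helper29)
-/

set_option autoImplicit false

namespace Groth.Agent.LibFieldDescent29

open RingTheory.Sequence MvPolynomial Groth.Agent.LibRegDescent29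

universe u v

attribute [local instance] MvPolynomial.algebraMvPolynomial

variable {k₀ : Type u} {k : Type v} [Field k₀] [Field k] [Algebra k₀ k] {n : ℕ}
  (Q : Ideal (MvPolynomial (Fin n) k)) [Q.IsPrime]

instance flat_mvPolynomial : Module.Flat (MvPolynomial (Fin n) k₀) (MvPolynomial (Fin n) k) :=
  Module.Flat.isBaseChange k₀ (MvPolynomial (Fin n) k₀) k (MvPolynomial (Fin n) k)
    (Algebra.IsPushout.out (R := k₀) (S := MvPolynomial (Fin n) k₀) (R' := k)
      (S' := MvPolynomial (Fin n) k))

theorem isWeaklyRegular_comap (fs : List (MvPolynomial (Fin n) k₀))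
    (h : IsWeaklyRegular (Localization.AtPrime Q)
      ((fs.map (MvPolynomial.map (algebraMap k₀ k))).map
        (algebraMap (MvPolynomial (Fin n) k) (Localization.AtPrime Q)))) :
    IsWeaklyRegular (Localization.AtPrime (Q.comap (MvPolynomial.map (algebraMap k₀ k))))
      (fs.map (algebraMap (MvPolynomial (Fin n) k₀)
        (Localization.AtPrime (Q.comap (MvPolynomial.map (algebraMap k₀ k)))))) := by
  let Q₀ : Ideal (MvPolynomial (Fin n) k₀) := Q.comap (MvPolynomial.map (algebraMap k₀ k))
  have hQ₀ : Q₀.IsPrime := Ideal.comap_isPrime _ _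
  have hlo : Q.LiesOver Q₀ := ⟨rfl⟩
  let _ : Algebra (Localization.AtPrime Q₀) (Localization.AtPrime Q) :=
    Localization.AtPrime.algebraOfLiesOver Q₀ Q
  have hflat : Module.Flat (Localization.AtPrime Q₀) (Localization.AtPrime Q) := inferInstance
  have hloc : IsLocalHom (algebraMap (Localization.AtPrime Q₀) (Localization.AtPrime Q)) :=
    inferInstance
  have hff : Module.FaithfullyFlat (Localization.AtPrime Q₀) (Localization.AtPrime Q) :=
    Module.FaithfullyFlat.of_flat_of_isLocalHom
  have hlist : (fs.map (algebraMap (MvPolynomial (Fin n) k₀) (Localization.AtPrime Q₀))).map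
      (algebraMap (Localization.AtPrime Q₀) (Localization.AtPrime Q)) =
      (fs.map (MvPolynomial.map (algebraMap k₀ k))).map
        (algebraMap (MvPolynomial (Fin n) k) (Localization.AtPrime Q)) := by
    simp only [List.map_map]
    apply List.map_congr_left
    intro f _
    simp only [Function.comp_apply]
    rw [← IsScalarTower.algebraMap_apply (MvPolynomial (Fin n) k₀) (Localization.AtPrime Q₀)
      (Localization.AtPrime Q),
      IsScalarTower.algebraMap_apply (MvPolynomial (Fin n) k₀) (MvPolynomial (Fin n) k)
      (Localization.AtPrime Q)]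
    rfl
  apply isWeaklyRegular_of_faithfullyFlat (S := Localization.AtPrime Q)
  rw [hlist]
  exact h

end Groth.Agent.LibFieldDescent29
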