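import Groth.Agent.LibFlatQuots29
import Mathlib.RingTheory.Regular.Flat
import Mathlib.RingTheory.Flat.Localization
import Mathlib.RingTheory.Localization.BaseChange
import Mathlib.RingTheory.IsTensorProduct

/-!
# Localization of regular sequences with flat quotients (helper29)

* `flat_of_isLocalizedModule'` : a localization (w.r.t. a submonoid of an `R`-algebra `A`) of an
  `A`-module flat over `R` is flat over `R`.
* `isWeaklyRegular_and_flatQuots_of_isLocalization` : weak regularity and `R`-flatness of the partial
  quotients pass to localizations.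
-/

set_option autoImplicit false

namespace Groth.Agent.LibFlatRegLoc29

open TensorProduct RingTheory.Sequence Module Groth.Agent.LibFlatQuots29
open scoped Pointwise

universe u v₀ v₁

section FL

variable {R : Type u} {A : Type*} [CommRing R] [CommRing A] [Algebra R A] (S : Submonoid A)
  {M : Type*} {M' : Type*} [AddCommGroup M] [Module R M] [Module A M] [IsScalarTower R A M]
  [AddCommGroup M'] [Module R M'] [Module A M'] [IsScalarTower R A M']

theorem flat_of_isLocalizedModule' (g : M →ₗ[A] M') [IsLocalizedModule S g] [Module.Flat R M] :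
    Module.Flat R M' := by
  have H := (Module.Flat.iff_lTensor_injectiveₛ (R := R) (M := M)).mp inferInstance
  rw [Module.Flat.iff_lTensor_injectiveₛ]
  intro P _ _ N
  have h1 := H N
  rw [← AlgebraTensorModule.coe_lTensor (A := A)] at h1 ⊢
  rw [← IsLocalizedModule.map_lTensor A S N.subtype g]
  exact IsLocalizedModule.map_injective S _ _ _ h1

end FL

variable {R : Type u} {B₀ : Type*} {B : Type*} [CommRing R] [CommRing B₀] [CommRing B]
  [Algebra R B₀] [Algebra B₀ B] [Algebra R B] [IsScalarTower R B₀ B]
  (S : Submonoid B₀) [IsLocalization S B]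

include S in
/-- the main induction -/
theorem isWeaklyRegular_and_flatQuots_of_isLocalization :
    ∀ (ys : List B₀) {N₀ : Type v₀} {N : Type v₁} [AddCommGroup N₀] [Module B₀ N₀] [Module R N₀]
      [IsScalarTower R B₀ N₀] [AddCommGroup N] [Module B N] [Module B₀ N] [IsScalarTower B₀ B N]
      [Module R N] [IsScalarTower R B N] {f : N₀ →ₗ[B₀] N} (_ : IsBaseChange B f),
      IsWeaklyRegular N₀ ys → FlatQuots R ys N₀ →
      IsWeaklyRegular N (ys.map (algebraMap B₀ B)) ∧
        FlatQuots R (ys.map (algebraMap B₀ B)) N := by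
  have hBflat : Module.Flat B₀ B := IsLocalization.flat B S
  have htower : ∀ {N : Type v₁} [AddCommGroup N] [Module B N] [Module B₀ N] [IsScalarTower B₀ B N]
      [Module R N] [IsScalarTower R B N], IsScalarTower R B₀ N := by
    intro N _ _ _ _ _ _
    refine ⟨fun r b n => ?_⟩
    have h : algebraMap B₀ B (r • b) = r • algebraMap B₀ B b := by
      rw [Algebra.smul_def, map_mul, ← IsScalarTower.algebraMap_apply, Algebra.smul_def]
    rw [← algebraMap_smul B (r • b) n, ← algebraMap_smul B b n, h, smul_assoc]
  intro ys
  induction ys with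
  | nil =>
    intro N₀ N _ _ _ _ _ _ _ _ _ _ f hf _ hfl
    have := flatQuots_nil_iff.mp hfl
    have := htower (N := N)
    have hloc : IsLocalizedModule S f := (isLocalizedModule_iff_isBaseChange S B f).mpr hf
    exact ⟨by simp, by
      rw [List.map_nil, flatQuots_nil_iff]
      exact flat_of_isLocalizedModule' S f⟩
  | cons y ys ih =>
    intro N₀ N _ _ _ _ _ _ _ _ _ _ f hf hreg hfl
    rw [isWeaklyRegular_cons_iff] at hreg
    rw [flatQuots_cons_iff] at hfl
    obtain ⟨hy, hys⟩ := hreg
    obtain ⟨hfl0, hfl1⟩ := hfl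
    have := htower (N := N)
    have hloc : IsLocalizedModule S f := (isLocalizedModule_iff_isBaseChange S B f).mpr hf
    have e := (QuotSMulTop.algebraMapTensorEquivTensorQuotSMulTop y N₀ B).symm ≪≫ₗ
      QuotSMulTop.congr ((algebraMap B₀ B) y) hf.equiv
    have hg : IsBaseChange B <|
        e.toLinearMap.restrictScalars B₀ ∘ₗ TensorProduct.mk B₀ B (QuotSMulTop y N₀) 1 :=
      IsBaseChange.of_equiv e (fun _ ↦ by simp)
    obtain ⟨h1, h2⟩ := ih hg hys hfl1
    rw [List.map_cons, isWeaklyRegular_cons_iff, flatQuots_cons_iff]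
    exact ⟨⟨hy.of_flat_of_isBaseChange hf, h1⟩, flat_of_isLocalizedModule' S f, h2⟩

end Groth.Agent.LibFlatRegLoc29
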