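import Groth.Agent.LibFlatRegBC29
import Groth.Agent.LibFlatRegLoc29
import Mathlib.RingTheory.Localization.LocalizationLocalization
import Mathlib.RingTheory.Localization.AtPrime.Basic

/-!
# Transfer of "regular with flat quotients" from a Noetherian model (helper29)

`R₀ → R` arbitrary, `P = R ⊗[R₀] P₀` (`Algebra.IsPushout R₀ R P₀ P`), `q'` a prime of `P` with
contraction `q₀'` to `P₀`.  If `ys : List P₀` is weakly regular on `(P₀)_{q₀'}` with all partial
quotients flat over `R₀`, then its image is weakly regular on `P_{q'}` with all partial quotients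
flat over `R`.
-/

set_option autoImplicit false

namespace Groth.Agent.LibFlatRegT329

open TensorProduct RingTheory.Sequence Module Groth.Agent.LibFlatQuots29
  Groth.Agent.LibFlatRegBC29 Groth.Agent.LibFlatRegLoc29

universe u

variable {R₀ R P₀ P : Type u} [CommRing R₀] [CommRing R] [CommRing P₀] [CommRing P]
  [Algebra R₀ R] [Algebra R₀ P₀] [Algebra R P] [Algebra P₀ P] [Algebra R₀ P]
  [IsScalarTower R₀ R P] [IsScalarTower R₀ P₀ P] [Algebra.IsPushout R₀ R P₀ P]
  (q' : Ideal P) [q'.IsPrime] (q₀' : Ideal P₀) [q₀'.IsPrime]

theorem transfer (hq : q₀' = q'.comap (algebraMap P₀ P)) (ys : List P₀)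
    (hreg : IsWeaklyRegular (Localization.AtPrime q₀')
      (ys.map (algebraMap P₀ (Localization.AtPrime q₀'))))
    (hfl : FlatQuots R₀ (ys.map (algebraMap P₀ (Localization.AtPrime q₀')))
      (Localization.AtPrime q₀')) :
    IsWeaklyRegular (Localization.AtPrime q')
        ((ys.map (algebraMap P₀ P)).map (algebraMap P (Localization.AtPrime q'))) ∧
      FlatQuots R ((ys.map (algebraMap P₀ P)).map (algebraMap P (Localization.AtPrime q')))
        (Localization.AtPrime q') := by
  -- the intermediate localization
  have htower1 : IsScalarTower R₀ (Localization.AtPrime q₀')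
      (Localization (Algebra.algebraMapSubmonoid P q₀'.primeCompl)) := by
    apply IsScalarTower.of_algebraMap_eq'
    rw [IsScalarTower.algebraMap_eq R₀ P₀ (Localization.AtPrime q₀'), ← RingHom.comp_assoc,
      ← IsScalarTower.algebraMap_eq P₀ (Localization.AtPrime q₀'),
      IsScalarTower.algebraMap_eq P₀ P (Localization (Algebra.algebraMapSubmonoid P q₀'.primeCompl)),
      RingHom.comp_assoc, ← IsScalarTower.algebraMap_eq R₀ P₀ P,
      ← IsScalarTower.algebraMap_eq R₀ P]
  have hpo1 : Algebra.IsPushout R₀ P₀ R P := Algebra.IsPushout.symm inferInstance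
  have hpo2 : Algebra.IsPushout P₀ (Localization.AtPrime q₀') P
      (Localization (Algebra.algebraMapSubmonoid P q₀'.primeCompl)) :=
    Algebra.IsPushout.symm (Algebra.isPushout_of_isLocalization q₀'.primeCompl _ _ _)
  have hpo3 : Algebra.IsPushout R₀ (Localization.AtPrime q₀') R
      (Localization (Algebra.algebraMapSubmonoid P q₀'.primeCompl)) :=
    (Algebra.IsPushout.comp_iff R₀ P₀ R P).mpr hpo2
  have hpo : Algebra.IsPushout R₀ R (Localization.AtPrime q₀')
      (Localization (Algebra.algebraMapSubmonoid P q₀'.primeCompl)) := hpo3.symm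
  obtain ⟨h1, h2⟩ := isWeaklyRegular_and_flatQuots_of_isBaseChange (R₀ := R₀) (R := R)
    (B₀ := Localization.AtPrime q₀')
    (B := Localization (Algebra.algebraMapSubmonoid P q₀'.primeCompl))
    (ys.map (algebraMap P₀ (Localization.AtPrime q₀')))
    (IsBaseChange.linearMap (Localization.AtPrime q₀')
      (Localization (Algebra.algebraMapSubmonoid P q₀'.primeCompl))) hreg hfl
  -- the second localization
  have hle : Algebra.algebraMapSubmonoid P q₀'.primeCompl ≤ q'.primeCompl := by
    rintro _ ⟨x, hx, rfl⟩
    intro hx'
    apply hx
    rw [hq]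
    exact hx'
  let alg2 : Algebra (Localization (Algebra.algebraMapSubmonoid P q₀'.primeCompl))
      (Localization.AtPrime q') :=
    IsLocalization.localizationAlgebraOfSubmonoidLe _ _ _ _ hle
  have htower2 : IsScalarTower P (Localization (Algebra.algebraMapSubmonoid P q₀'.primeCompl))
      (Localization.AtPrime q') :=
    IsLocalization.localization_isScalarTower_of_submonoid_le _ _ _ _ hle
  have hloc2 : IsLocalization (q'.primeCompl.map
      (algebraMap P (Localization (Algebra.algebraMapSubmonoid P q₀'.primeCompl))))
      (Localization.AtPrime q') :=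
    IsLocalization.isLocalization_of_submonoid_le _ _ _ _ hle
  have htower3 : IsScalarTower R (Localization (Algebra.algebraMapSubmonoid P q₀'.primeCompl))
      (Localization.AtPrime q') := by
    apply IsScalarTower.of_algebraMap_eq'
    rw [IsScalarTower.algebraMap_eq R P (Localization.AtPrime q'),
      IsScalarTower.algebraMap_eq P (Localization (Algebra.algebraMapSubmonoid P q₀'.primeCompl))
        (Localization.AtPrime q'), RingHom.comp_assoc,
      ← IsScalarTower.algebraMap_eq R P]
  obtain ⟨h3, h4⟩ := isWeaklyRegular_and_flatQuots_of_isLocalization (R := R)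
    (B₀ := Localization (Algebra.algebraMapSubmonoid P q₀'.primeCompl))
    (B := Localization.AtPrime q')
    (q'.primeCompl.map
      (algebraMap P (Localization (Algebra.algebraMapSubmonoid P q₀'.primeCompl))))
    _ (IsBaseChange.linearMap (Localization (Algebra.algebraMapSubmonoid P q₀'.primeCompl))
      (Localization.AtPrime q')) h1 h2
  -- identify the lists
  have hlist : ((ys.map (algebraMap P₀ (Localization.AtPrime q₀'))).map
      (algebraMap (Localization.AtPrime q₀')
        (Localization (Algebra.algebraMapSubmonoid P q₀'.primeCompl)))).map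
      (algebraMap (Localization (Algebra.algebraMapSubmonoid P q₀'.primeCompl))
        (Localization.AtPrime q')) =
      (ys.map (algebraMap P₀ P)).map (algebraMap P (Localization.AtPrime q')) := by
    simp only [List.map_map]
    apply List.map_congr_left
    intro y _
    simp only [Function.comp_apply]
    rw [← IsScalarTower.algebraMap_apply P₀ (Localization.AtPrime q₀'),
      IsScalarTower.algebraMap_apply P₀ P
        (Localization (Algebra.algebraMapSubmonoid P q₀'.primeCompl)),
      ← IsScalarTower.algebraMap_apply P
        (Localization (Algebra.algebraMapSubmonoid P q₀'.primeCompl))]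
  rw [hlist] at h3 h4
  exact ⟨h3, h4⟩

end Groth.Agent.LibFlatRegT329
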