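import Mathlib.RingTheory.Regular.RegularSequence
import Mathlib.RingTheory.Flat.Basic
import Mathlib.RingTheory.Flat.Stability

/-!
# Flatness of all partial quotients `M/(y₁,…,yᵢ)M` over a base ring (helper29)
-/

set_option autoImplicit false

namespace Groth.Agent.LibFlatQuots29

open Submodule RingTheory.Sequence

universe uK uA uM

variable (K : Type uK) {A : Type uA} [CommRing K] [CommRing A] [Algebra K A]

/-- all quotients `M/(y₁..yᵢ)M` are flat over `K`. -/
def FlatQuots (ys : List A) (M : Type uM) [AddCommGroup M] [Module A M] [Module K M]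
    [IsScalarTower K A M] : Prop :=
  ∀ i ≤ ys.length, Module.Flat K (M ⧸ (Ideal.ofList (ys.take i) • ⊤ : Submodule A M))

variable {K}
variable {M : Type uM} [AddCommGroup M] [Module A M] [Module K M] [IsScalarTower K A M]

lemma flat_quot_nil_iff :
    Module.Flat K (M ⧸ (Ideal.ofList ([] : List A) • ⊤ : Submodule A M)) ↔ Module.Flat K M := by
  have h : (Ideal.ofList ([] : List A) • ⊤ : Submodule A M) = ⊥ := by
    rw [Ideal.ofList_nil, bot_smul]
  let e : (M ⧸ (Ideal.ofList ([] : List A) • ⊤ : Submodule A M)) ≃ₗ[K] M :=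
    (quotEquivOfEqBot _ h).restrictScalars K
  exact ⟨fun _ => Module.Flat.of_linearEquiv e.symm, fun _ => Module.Flat.of_linearEquiv e⟩

lemma flatQuots_zero {ys : List A} (h : FlatQuots K ys M) : Module.Flat K M := by
  have := h 0 (Nat.zero_le _)
  rw [List.take_zero] at this
  exact flat_quot_nil_iff.mp this

lemma flatQuots_nil_iff : FlatQuots K ([] : List A) M ↔ Module.Flat K M := by
  constructor
  · exact flatQuots_zero
  · intro h i hi
    have : i = 0 := by simpa using hi
    subst this
    rw [List.take_zero]
    exact flat_quot_nil_iff.mpr h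

lemma flatQuots_cons_iff (y : A) (ys : List A) :
    FlatQuots K (y :: ys) M ↔ Module.Flat K M ∧ FlatQuots K ys (QuotSMulTop y M) := by
  have key : ∀ i, Module.Flat K (M ⧸ (Ideal.ofList ((y :: ys).take (i + 1)) • ⊤ : Submodule A M)) ↔
      Module.Flat K (QuotSMulTop y M ⧸
        (Ideal.ofList (ys.take i) • ⊤ : Submodule A (QuotSMulTop y M))) := by
    intro i
    rw [List.take_succ_cons]
    let e := (quotOfListConsSMulTopEquivQuotSMulTopInner M y (ys.take i)).restrictScalars K
    exact ⟨fun _ => Module.Flat.of_linearEquiv e.symm, fun _ => Module.Flat.of_linearEquiv e⟩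
  constructor
  · intro h
    refine ⟨flatQuots_zero h, fun i hi => ?_⟩
    exact (key i).mp (h (i + 1) (by simpa using hi))
  · rintro ⟨h0, h⟩ i hi
    cases i with
    | zero =>
      rw [List.take_zero]
      exact flat_quot_nil_iff.mpr h0
    | succ i =>
      exact (key i).mpr (h i (by simpa using hi))

/-- change of the base ring along a flat map -/
lemma FlatQuots.of_flat_base (K₀ : Type*) [CommRing K₀] [Algebra K₀ K] [Algebra K₀ A]
    [IsScalarTower K₀ K A] [Module.Flat K₀ K] [Module K₀ M] [IsScalarTower K₀ K M]
    [IsScalarTower K₀ A M] {ys : List A} (h : FlatQuots K ys M) : FlatQuots K₀ ys M := by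
  intro i hi
  have := h i hi
  exact Module.Flat.trans K₀ K _

end Groth.Agent.LibFlatQuots29
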