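import Mathlib
import Groth.Agent.Lib.Helper24.FlatDepth8
import Groth.Agent.LibFlatQuots29

/-!
# Stacks 00ME iterated, with flatness of all partial quotients (helper29)

`R → S` local homomorphism of Noetherian local rings, `S` flat over `R`.  A sequence weakly regular
on the closed fibre `S/m_R S` is weakly regular on `S`, and all `S/(y₁..yᵢ)` are flat over `R`.
-/

set_option autoImplicit false
universe u

namespace Groth.Agent.LibRelGCINoeth29

open TensorProduct IsLocalRing RingTheory.Sequence Groth.Agent.LibFlatQuots29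
  Groth.Agent.Lib.Helper24.FlatDepth
open scoped Pointwise

variable (R S : Type u) [CommRing R] [CommRing S] [Algebra R S] [IsLocalRing R] [IsLocalRing S]
  [IsNoetherianRing R] [IsNoetherianRing S] [IsLocalHom (algebraMap R S)]

theorem isWeaklyRegular_and_flatQuots_tensor : ∀ (ys : List S) (N : Type u) [AddCommGroup N]
    [Module S N] [Module R N] [IsScalarTower R S N] [Module.Flat R N] [Module.Finite S N],
    IsWeaklyRegular (N ⊗[R] (R ⧸ maximalIdeal R)) ys →
      IsWeaklyRegular N ys ∧ FlatQuots R ys N := by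
  intro ys
  induction ys with
  | nil =>
    intro N _ _ _ _ _ _ _
    exact ⟨IsWeaklyRegular.nil S _, flatQuots_nil_iff.mpr inferInstance⟩
  | cons y ys ih =>
    intro N _ _ _ _ _ _ h
    obtain ⟨hy, hys⟩ := (isWeaklyRegular_cons_iff _ y ys).mp h
    have hflat : Module.Flat R (QuotSMulTop y N) := flat_quotSMulTop R S N y hy
    have h1 : IsWeaklyRegular ((QuotSMulTop y N) ⊗[R] (R ⧸ maximalIdeal R)) ys :=
      (LinearEquiv.isWeaklyRegular_congr (quotEquivLeft R S N (R ⧸ maximalIdeal R) y) ys).mp hys
    obtain ⟨h2, h3⟩ := ih (QuotSMulTop y N) h1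
    have hyN : IsSMulRegular N y :=
      ((TensorProduct.AlgebraTensorModule.rid R S N).isSMulRegular_congr y).mp
        (isSMulRegular_tensor R S N y hy R)
    exact ⟨(isWeaklyRegular_cons_iff _ y ys).mpr ⟨hyN, h2⟩,
      (flatQuots_cons_iff y ys).mpr ⟨inferInstance, h3⟩⟩

variable [Module.Flat R S]

/-- A sequence weakly regular on the closed fibre `S/m_R S` is weakly regular on `S` with flat
partial quotients. -/
theorem isWeaklyRegular_and_flatQuots_of_closedFibre (ys : List S)
    (h : IsWeaklyRegular (S ⧸ (maximalIdeal R).map (algebraMap R S)) ys) :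
    IsWeaklyRegular S ys ∧ FlatQuots R ys S := by
  have hI : (maximalIdeal R).map (algebraMap R S) • (⊤ : Submodule S S) =
      (maximalIdeal R).map (algebraMap R S) := by
    rw [smul_eq_mul, Ideal.mul_top]
  let e : S ⊗[R] (R ⧸ maximalIdeal R) ≃ₗ[S] (S ⧸ (maximalIdeal R).map (algebraMap R S)) :=
    (tensorQuotEquiv R S S (maximalIdeal R)).trans (Submodule.quotEquivOfEq _ _ hI)
  have h1 : IsWeaklyRegular (S ⊗[R] (R ⧸ maximalIdeal R)) ys :=
    (LinearEquiv.isWeaklyRegular_congr e ys).mpr h
  exact isWeaklyRegular_and_flatQuots_tensor R S ys S h1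

end Groth.Agent.LibRelGCINoeth29
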