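import Mathlib
import Groth.Prelude.Def_RegImm
import Groth.Agent.LibRelGCI29
import Groth.Agent.LibRelGCIFib29
import Groth.Agent.LibRelGCINoeth29
import Groth.Agent.LibFieldDescent29
import Groth.Agent.LibFibreLoc29
import Groth.Agent.LibFlatRegT329

/-!
# Relative global complete intersections: regularity and flatness at a prime (helper29)

Stacks 00SV for an arbitrary base ring, via descent to `ℤ[coefficients]` at a single prime.
-/

set_option autoImplicit false
universe u

namespace Groth.Agent.LibRelGCIMain29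

open MvPolynomial RingTheory.Sequence IsLocalRing Groth.Agent.LibFlatQuots29
  Groth.Agent.LibRelGCI29

attribute [local instance] MvPolynomial.algebraMvPolynomial

/-- Noetherian case, with the fibre hypothesis at the prime only. -/
theorem noeth (R₀ : Type u) [CommRing R₀] [IsNoetherianRing R₀] {n : ℕ}
    (q₀' : Ideal (MvPolynomial (Fin n) R₀)) [q₀'.IsPrime]
    (p₀ : Ideal R₀) [p₀.IsPrime] (hp₀ : p₀ = q₀'.comap (C : R₀ →+* MvPolynomial (Fin n) R₀))
    (Q₀ : Ideal (MvPolynomial (Fin n) p₀.ResidueField)) [Q₀.IsPrime]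
    (hQ₀ : Q₀.comap (MvPolynomial.map (algebraMap R₀ p₀.ResidueField)) = q₀')
    (ys : List (MvPolynomial (Fin n) R₀))
    (h : IsWeaklyRegular (Localization.AtPrime Q₀)
      ((ys.map (MvPolynomial.map (algebraMap R₀ p₀.ResidueField))).map
        (algebraMap (MvPolynomial (Fin n) p₀.ResidueField) (Localization.AtPrime Q₀)))) :
    IsWeaklyRegular (Localization.AtPrime q₀')
        (ys.map (algebraMap (MvPolynomial (Fin n) R₀) (Localization.AtPrime q₀'))) ∧
      FlatQuots R₀ (ys.map (algebraMap (MvPolynomial (Fin n) R₀) (Localization.AtPrime q₀')))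
        (Localization.AtPrime q₀') := by
  have hlo : q₀'.LiesOver p₀ := ⟨hp₀⟩
  let _ : Algebra (Localization.AtPrime p₀) (Localization.AtPrime q₀') :=
    Localization.AtPrime.algebraOfLiesOver p₀ q₀'
  have h5 := Groth.Agent.LibFibreLoc29.transfer q₀' p₀ Q₀ hQ₀ ys h
  obtain ⟨h6, h7⟩ := Groth.Agent.LibRelGCINoeth29.isWeaklyRegular_and_flatQuots_of_closedFibre
    (Localization.AtPrime p₀) (Localization.AtPrime q₀') _ h5
  exact ⟨h6, h7.of_flat_base R₀⟩

/-- transfer from a Noetherian model `R₀ → R`. -/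
theorem main_of_model (R₀ R : Type u) [CommRing R₀] [IsNoetherianRing R₀] [CommRing R]
    [Algebra R₀ R] (n c : ℕ) (hcn : c ≤ n) (F₀ : Fin c → MvPolynomial (Fin n) R₀)
    (F : Fin c → MvPolynomial (Fin n) R)
    (hF₀ : ∀ i, MvPolynomial.map (algebraMap R₀ R) (F₀ i) = F i)
    (q' : Ideal (MvPolynomial (Fin n) R)) [q'.IsPrime] (hq' : Ideal.span (Set.range F) ≤ q')
    (p : Ideal R) [p.IsPrime] (hp : p = q'.comap (C : R →+* MvPolynomial (Fin n) R))
    (hdim : ringKrullDim (MvPolynomial (Fin n) p.ResidueField ⧸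
      Ideal.span (Set.range (Fbar p.ResidueField F))) = ((n - c : ℕ) : WithBot ℕ∞))
    (q₀' : Ideal (MvPolynomial (Fin n) R₀)) [q₀'.IsPrime]
    (hq₀ : q₀' = q'.comap (algebraMap (MvPolynomial (Fin n) R₀) (MvPolynomial (Fin n) R)))
    (p₀ : Ideal R₀) [p₀.IsPrime] (hp₀ : p₀ = q₀'.comap (C : R₀ →+* MvPolynomial (Fin n) R₀)) :
    IsWeaklyRegular (Localization.AtPrime q')
        ((List.ofFn F).map (algebraMap (MvPolynomial (Fin n) R) (Localization.AtPrime q'))) ∧
      FlatQuots R ((List.ofFn F).map (algebraMap (MvPolynomial (Fin n) R) (Localization.AtPrime q')))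
        (Localization.AtPrime q') := by
  -- step 1: regularity on the fibre over `κ(p)`
  have hQ : Ideal.span (Set.range (Fbar p.ResidueField F)) ≤ primeOver q' p hp := by
    rw [Ideal.span_le]
    rintro _ ⟨l, rfl⟩
    exact (map_mem_primeOver_iff q' p hp (F l)).mpr (hq' (Ideal.subset_span ⟨l, rfl⟩))
  have h1 := (Groth.Agent.LibRelGCIFib29.regular_of_dim p.ResidueField n c hcn
    (Fbar p.ResidueField F) hdim (primeOver q' p hp) hQ).toIsWeaklyRegular
  -- the residue field extension
  have hp₀p : p₀ = p.comap (algebraMap R₀ R) := by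
    rw [hp₀, hq₀, hp, Ideal.comap_comap, Ideal.comap_comap]
    congr 1
    ext r
    simp
  let _ : Algebra p₀.ResidueField p.ResidueField :=
    (Ideal.ResidueField.map p₀ p (algebraMap R₀ R) hp₀p).toAlgebra
  have htow : ∀ f : MvPolynomial (Fin n) R₀,
      MvPolynomial.map (algebraMap p₀.ResidueField p.ResidueField)
        (MvPolynomial.map (algebraMap R₀ p₀.ResidueField) f) =
      MvPolynomial.map (algebraMap R p.ResidueField) (MvPolynomial.map (algebraMap R₀ R) f) := by
    intro f
    have hcomp : (algebraMap p₀.ResidueField p.ResidueField).comp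
        (algebraMap R₀ p₀.ResidueField) =
        (algebraMap R p.ResidueField).comp (algebraMap R₀ R) :=
      RingHom.ext fun r => Ideal.ResidueField.map_algebraMap p₀ p (algebraMap R₀ R) hp₀p r
    rw [MvPolynomial.map_map, MvPolynomial.map_map, hcomp]
  -- step 4: descent to `κ(p₀)`
  have h4 := Groth.Agent.LibFieldDescent29.isWeaklyRegular_comap (k₀ := p₀.ResidueField)
    (primeOver q' p hp) (List.ofFn (Fbar p₀.ResidueField F₀)) (by
      convert h1 using 2
      rw [List.map_ofFn]
      congr 1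
      funext i
      simp only [Function.comp_apply, Fbar]
      rw [htow, hF₀])
  -- step 5, 6: the Noetherian case
  have hQ₀ : ((primeOver q' p hp).comap
      (MvPolynomial.map (algebraMap p₀.ResidueField p.ResidueField))).comap
      (MvPolynomial.map (algebraMap R₀ p₀.ResidueField)) = q₀' := by
    rw [Ideal.comap_comap, hq₀]
    ext f
    simp only [Ideal.mem_comap, RingHom.coe_comp, Function.comp_apply]
    rw [htow, map_mem_primeOver_iff]
    rfl
  have hQ₀prime : ((primeOver q' p hp).comap
      (MvPolynomial.map (algebraMap p₀.ResidueField p.ResidueField))).IsPrime :=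
    Ideal.comap_isPrime _ _
  obtain ⟨h6, h7⟩ := noeth R₀ q₀' p₀ hp₀ _ hQ₀ (List.ofFn F₀) (by
    convert h4 using 2
    rw [List.map_ofFn]
    rfl)
  -- step 7: transfer to `R`
  obtain ⟨h8, h9⟩ := Groth.Agent.LibFlatRegT329.transfer (R₀ := R₀) (R := R) q' q₀' hq₀
    (List.ofFn F₀) h6 h7
  have hlist : (List.ofFn F₀).map (algebraMap (MvPolynomial (Fin n) R₀) (MvPolynomial (Fin n) R)) =
      List.ofFn F := by
    rw [List.map_ofFn]
    congr 1
    funext i
    exact hF₀ i
  rw [hlist] at h8 h9
  exact ⟨h8, h9⟩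

end Groth.Agent.LibRelGCIMain29
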