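import Mathlib
import Groth.Prelude.Def_RegImm
import Groth.Agent.LibRelGCIMain29

/-!
# Relative complete intersections: regularity and flatness at a prime, from regularity on the
fibre at that prime only (helper29)

`main_local`: `F` weakly regular on `κ(p)[x]_{Q'}` (`Q'` the prime over `q'`) ⇒ `F` weakly regular
on `R[x]_{q'}` with all successive quotients flat over `R`. No global hypothesis on fibres.
-/

set_option autoImplicit false
universe u

namespace Groth.Agent.LibRelGCILocal29

open MvPolynomial RingTheory.Sequence IsLocalRing Groth.Agent.LibFlatQuots29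
  Groth.Agent.LibRelGCI29 Groth.Agent.LibRelGCIMain29

attribute [local instance] MvPolynomial.algebraMvPolynomial

theorem main_local_of_model (R₀ R : Type u) [CommRing R₀] [IsNoetherianRing R₀] [CommRing R]
    [Algebra R₀ R] (n c : ℕ) (F₀ : Fin c → MvPolynomial (Fin n) R₀)
    (F : Fin c → MvPolynomial (Fin n) R)
    (hF₀ : ∀ i, MvPolynomial.map (algebraMap R₀ R) (F₀ i) = F i)
    (q' : Ideal (MvPolynomial (Fin n) R)) [q'.IsPrime]
    (p : Ideal R) [p.IsPrime] (hp : p = q'.comap (C : R →+* MvPolynomial (Fin n) R))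
    (h1 : IsWeaklyRegular (Localization.AtPrime (primeOver q' p hp))
      ((List.ofFn (Fbar p.ResidueField F)).map
        (algebraMap (MvPolynomial (Fin n) p.ResidueField) (Localization.AtPrime (primeOver q' p hp)))))
    (q₀' : Ideal (MvPolynomial (Fin n) R₀)) [q₀'.IsPrime]
    (hq₀ : q₀' = q'.comap (algebraMap (MvPolynomial (Fin n) R₀) (MvPolynomial (Fin n) R)))
    (p₀ : Ideal R₀) [p₀.IsPrime] (hp₀ : p₀ = q₀'.comap (C : R₀ →+* MvPolynomial (Fin n) R₀)) :
    IsWeaklyRegular (Localization.AtPrime q')
        ((List.ofFn F).map (algebraMap (MvPolynomial (Fin n) R) (Localization.AtPrime q'))) ∧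
      FlatQuots R ((List.ofFn F).map (algebraMap (MvPolynomial (Fin n) R) (Localization.AtPrime q')))
        (Localization.AtPrime q') := by
  -- the residue field extension
  have hp₀p : p₀ = p.comap (algebraMap R₀ R) := by
    rw [hp₀, hq₀, hp, Ideal.comap_comap, Ideal.comap_comap]
    congr 1
    ext r
    simp
  let _ : Algebra p₀.ResidueField p.ResidueField :=
    (Ideal.ResidueField.map p₀ p (algebraMap R₀ R) hp₀p).toAlgebra
  have htow : ∀ f : MvPolynomial (Fin n) R₀,
      MvPolynomial.map (algebraMap p₀.ResidueField p.ResidueField)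
        (MvPolynomial.map (algebraMap R₀ p₀.ResidueField) f) =
      MvPolynomial.map (algebraMap R p.ResidueField) (MvPolynomial.map (algebraMap R₀ R) f) := by
    intro f
    have hcomp : (algebraMap p₀.ResidueField p.ResidueField).comp
        (algebraMap R₀ p₀.ResidueField) =
        (algebraMap R p.ResidueField).comp (algebraMap R₀ R) :=
      RingHom.ext fun r => Ideal.ResidueField.map_algebraMap p₀ p (algebraMap R₀ R) hp₀p r
    rw [MvPolynomial.map_map, MvPolynomial.map_map, hcomp]
  -- step 4: descent to `κ(p₀)`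
  have h4 := Groth.Agent.LibFieldDescent29.isWeaklyRegular_comap (k₀ := p₀.ResidueField)
    (primeOver q' p hp) (List.ofFn (Fbar p₀.ResidueField F₀)) (by
      convert h1 using 2
      rw [List.map_ofFn]
      congr 1
      funext i
      simp only [Function.comp_apply, Fbar]
      rw [htow, hF₀])
  -- step 5, 6: the Noetherian case
  have hQ₀ : ((primeOver q' p hp).comap
      (MvPolynomial.map (algebraMap p₀.ResidueField p.ResidueField))).comap
      (MvPolynomial.map (algebraMap R₀ p₀.ResidueField)) = q₀' := by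
    rw [Ideal.comap_comap, hq₀]
    ext f
    simp only [Ideal.mem_comap, RingHom.coe_comp, Function.comp_apply]
    rw [htow, map_mem_primeOver_iff]
    rfl
  have hQ₀prime : ((primeOver q' p hp).comap
      (MvPolynomial.map (algebraMap p₀.ResidueField p.ResidueField))).IsPrime :=
    Ideal.comap_isPrime _ _
  obtain ⟨h6, h7⟩ := noeth R₀ q₀' p₀ hp₀ _ hQ₀ (List.ofFn F₀) (by
    convert h4 using 2
    rw [List.map_ofFn]
    rfl)
  -- step 7: transfer to `R`
  obtain ⟨h8, h9⟩ := Groth.Agent.LibFlatRegT329.transfer (R₀ := R₀) (R := R) q' q₀' hq₀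
    (List.ofFn F₀) h6 h7
  have hlist : (List.ofFn F₀).map (algebraMap (MvPolynomial (Fin n) R₀) (MvPolynomial (Fin n) R)) =
      List.ofFn F := by
    rw [List.map_ofFn]
    congr 1
    funext i
    exact hF₀ i
  rw [hlist] at h8 h9
  exact ⟨h8, h9⟩

theorem main_local (R : Type u) [CommRing R] (n c : ℕ)
    (F : Fin c → MvPolynomial (Fin n) R)
    (q' : Ideal (MvPolynomial (Fin n) R)) [q'.IsPrime]
    (p : Ideal R) [p.IsPrime] (hp : p = q'.comap (C : R →+* MvPolynomial (Fin n) R))
    (h1 : IsWeaklyRegular (Localization.AtPrime (primeOver q' p hp))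
      ((List.ofFn (Fbar p.ResidueField F)).map
        (algebraMap (MvPolynomial (Fin n) p.ResidueField) (Localization.AtPrime (primeOver q' p hp))))) :
    IsWeaklyRegular (Localization.AtPrime q')
        ((List.ofFn F).map (algebraMap (MvPolynomial (Fin n) R) (Localization.AtPrime q'))) ∧
      FlatQuots R ((List.ofFn F).map (algebraMap (MvPolynomial (Fin n) R) (Localization.AtPrime q')))
        (Localization.AtPrime q') := by
  classical
  -- the Noetherian model
  let T : Set R := ⋃ i, ((F i).coeffs : Set R)
  have hT : T.Finite := Set.finite_iUnion fun i => (F i).coeffs.finite_toSet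
  let R₀ : Subalgebra ℤ R := Algebra.adjoin ℤ T
  have hft : Algebra.FiniteType ℤ R₀ := Algebra.FiniteType.adjoin_of_finite hT
  have hnoeth : IsNoetherianRing R₀ := Algebra.FiniteType.isNoetherianRing ℤ R₀
  have hex : ∀ i, ∃ f₀ : MvPolynomial (Fin n) R₀, MvPolynomial.map (algebraMap R₀ R) f₀ = F i := by
    intro i
    have : F i ∈ Set.range (MvPolynomial.map (algebraMap R₀ R)) := by
      rw [MvPolynomial.mem_range_map_iff_coeffs_subset]
      intro x hx
      have hxT : x ∈ T := Set.mem_iUnion.mpr ⟨i, hx⟩
      exact ⟨⟨x, Algebra.subset_adjoin hxT⟩, rfl⟩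
    exact this
  choose F₀ hF₀ using hex
  exact main_local_of_model R₀ R n c F₀ F hF₀ q' p hp h1
    (q'.comap (algebraMap (MvPolynomial (Fin n) R₀) (MvPolynomial (Fin n) R))) rfl
    (Ideal.comap C (q'.comap (algebraMap (MvPolynomial (Fin n) R₀) (MvPolynomial (Fin n) R)))) rfl

end Groth.Agent.LibRelGCILocal29
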