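import Mathlib
import Groth.Prelude.Def_RegImm
import Groth.Prelude.Def_Flat
import Groth.Agent.LibRelGCI29
import Groth.Agent.LibFibreDimBridge29
import Groth.Agent.LibRegLocalDim29
import Groth.Agent.LibRelGCILocal29

/-!
# helper29: `R[x]/(F)` at a single point

For `F : Fin c → R[x_1..x_n]`, a prime `q' ⊇ (F)` of `R[x]` over `p`, `Q'` the prime of `κ(p)[x]` over
`q'` and `q₀` the image of `q'` in `S = R[x]/(F)`:
* `fibreDimAt_eq_localDim_primeOver`: `dim_{q₀}(fibre) = dim_{Q'/(F̄)} Spec κ(p)[x]/(F̄)`;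
* `regular_of_fibreDimAt_le`: `c ≤ n`, `dim_{q₀}(fibre) ≤ n - c` ⇒ `F` weakly regular on `R[x]_{q'}`
  with successive quotients flat over `R`;
* `fibreDimAt_of_regular`: `F̄` weakly regular on `κ(p)[x]_{Q'}` ⇒ `c ≤ n`, `dim_{q₀}(fibre) = n - c`.
-/

set_option autoImplicit false
set_option linter.style.haveILetI false
set_option linter.unusedSectionVars false

namespace Groth.Agent.LibRelGCIPoint29

universe u

open AlgebraicGeometry CategoryTheory FlatMor MvPolynomial RingTheory.Sequence
  Groth.Agent.LibRelGCI29 Groth.Agent.LibFlatQuots29 Groth.Agent.Lib.helper5.FibreDimLocal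

variable (R : Type u) [CommRing R] (n c : ℕ) (F : Fin c → MvPolynomial (Fin n) R)
  (q' : Ideal (MvPolynomial (Fin n) R)) [q'.IsPrime] (hq' : Ideal.span (Set.range F) ≤ q')
  (p : Ideal R) [p.IsPrime] (hp : p = q'.comap (C : R →+* MvPolynomial (Fin n) R))

include hq' in
lemma map_mk_isPrime : (q'.map (Ideal.Quotient.mk (Ideal.span (Set.range F)))).IsPrime :=
  Ideal.map_isPrime_of_surjective Ideal.Quotient.mk_surjective (by rw [Ideal.mk_ker]; exact hq')

include hq' in
lemma comap_map_mk : (q'.map (Ideal.Quotient.mk (Ideal.span (Set.range F)))).comap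
    (Ideal.Quotient.mk (Ideal.span (Set.range F))) = q' := by
  rw [Ideal.comap_map_of_surjective _ Ideal.Quotient.mk_surjective, ← RingHom.ker_eq_comap_bot,
    Ideal.mk_ker]
  exact sup_eq_left.mpr hq'

include hq' in
lemma span_Fbar_le : Ideal.span (Set.range (Fbar p.ResidueField F)) ≤ primeOver q' p hp := by
  rw [Ideal.span_le]
  rintro _ ⟨l, rfl⟩
  exact (map_mem_primeOver_iff q' p hp (F l)).mpr (hq' (Ideal.subset_span ⟨l, rfl⟩))

/-- the point of `Spec (R[x]/(F))` given by `q'`. -/
noncomputable def pt : PrimeSpectrum (Synt.RelGCIRing R n c F) :=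
  ⟨q'.map (Ideal.Quotient.mk (Ideal.span (Set.range F))), map_mk_isPrime R n c F q' hq'⟩

/-- the point of `Spec (κ(p)[x]/(F̄))` given by `Q'`. -/
noncomputable def ptFib : PrimeSpectrum (MvPolynomial (Fin n) p.ResidueField ⧸
    Ideal.span (Set.range (Fbar p.ResidueField F))) :=
  ⟨(primeOver q' p hp).map (Ideal.Quotient.mk _),
    Groth.Agent.LibRegLocalDim29.map_isPrime p.ResidueField (Fbar p.ResidueField F)
      (primeOver q' p hp) (span_Fbar_le R n c F q' hq' p hp)⟩

theorem fibreDimAt_eq_localDim_primeOver :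
    fibreDimAt (Spec.map (CommRingCat.ofHom (algebraMap R (Synt.RelGCIRing R n c F))))
      (pt R n c F q' hq') =
    localDim (PrimeSpectrum (MvPolynomial (Fin n) p.ResidueField ⧸
      Ideal.span (Set.range (Fbar p.ResidueField F)))) (ptFib R n c F q' hq' p hp) := by
  let e := tensorEquiv p.ResidueField F
  let φ : PrimeSpectrum (p.Fiber (Synt.RelGCIRing R n c F)) ≃ₜ
      PrimeSpectrum (MvPolynomial (Fin n) p.ResidueField ⧸
        Ideal.span (Set.range (Fbar p.ResidueField F))) :=
    PrimeSpectrum.homeomorphOfRingEquiv e.toRingEquiv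
  set Q₁ := ptFib R n c F q' hq' p hp with hQ₁
  set Q := φ.symm Q₁ with hQ
  have h1 : localDim (PrimeSpectrum (p.Fiber (Synt.RelGCIRing R n c F))) Q =
      localDim _ (φ Q) := localDim_eq_of_isOpenEmbedding φ φ.isOpenEmbedding Q
  rw [hQ, φ.apply_symm_apply] at h1
  rw [← h1]
  have h2 := Groth.Agent.LibFibreDimBridge29.fibreDimAt_comap_includeRight
    (R := R) (S := Synt.RelGCIRing R n c F) ⟨p, inferInstance⟩ (φ.symm Q₁)
  rw [← h2]
  congr 1
  -- identify the point
  apply PrimeSpectrum.ext
  ext s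
  obtain ⟨P, rfl⟩ := Ideal.Quotient.mk_surjective s
  change Ideal.Quotient.mk _ P ∈ q'.map (Ideal.Quotient.mk _) ↔
    e ((1 : p.ResidueField) ⊗ₜ[R] Ideal.Quotient.mk _ P) ∈
      (primeOver q' p hp).map (Ideal.Quotient.mk _)
  rw [tensorEquiv_tmul, one_smul]
  rw [← Ideal.mem_comap, comap_map_mk R n c F q' hq', ← Ideal.mem_comap,
    Groth.Agent.LibRegLocalDim29.comap_map p.ResidueField (Fbar p.ResidueField F)
      (primeOver q' p hp) (span_Fbar_le R n c F q' hq' p hp), map_mem_primeOver_iff]

theorem fibreDimAt_of_regular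
    (hreg : IsWeaklyRegular (Localization.AtPrime (primeOver q' p hp))
      ((List.ofFn (Fbar p.ResidueField F)).map
        (algebraMap (MvPolynomial (Fin n) p.ResidueField)
          (Localization.AtPrime (primeOver q' p hp))))) :
    c ≤ n ∧ fibreDimAt (Spec.map (CommRingCat.ofHom (algebraMap R (Synt.RelGCIRing R n c F))))
      (pt R n c F q' hq') = ((n - c : ℕ) : WithBot ℕ∞) := by
  rw [fibreDimAt_eq_localDim_primeOver R n c F q' hq' p hp]
  exact Groth.Agent.LibRegLocalDim29.localDim_of_regular p.ResidueField (Fbar p.ResidueField F)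
    (primeOver q' p hp) (span_Fbar_le R n c F q' hq' p hp) hreg

theorem regular_fibre_of_fibreDimAt_le (hcn : c ≤ n)
    (h : fibreDimAt (Spec.map (CommRingCat.ofHom (algebraMap R (Synt.RelGCIRing R n c F))))
      (pt R n c F q' hq') ≤ ((n - c : ℕ) : WithBot ℕ∞)) :
    IsRegular (Localization.AtPrime (primeOver q' p hp))
      ((List.ofFn (Fbar p.ResidueField F)).map
        (algebraMap (MvPolynomial (Fin n) p.ResidueField)
          (Localization.AtPrime (primeOver q' p hp)))) := by
  rw [fibreDimAt_eq_localDim_primeOver R n c F q' hq' p hp] at h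
  exact Groth.Agent.LibRegLocalDim29.regular_of_localDim_le p.ResidueField (Fbar p.ResidueField F)
    (primeOver q' p hp) (span_Fbar_le R n c F q' hq' p hp) hcn h

theorem regular_of_fibreDimAt_le (hcn : c ≤ n)
    (h : fibreDimAt (Spec.map (CommRingCat.ofHom (algebraMap R (Synt.RelGCIRing R n c F))))
      (pt R n c F q' hq') ≤ ((n - c : ℕ) : WithBot ℕ∞)) :
    IsWeaklyRegular (Localization.AtPrime q')
        ((List.ofFn F).map (algebraMap (MvPolynomial (Fin n) R) (Localization.AtPrime q'))) ∧
      FlatQuots R ((List.ofFn F).map (algebraMap (MvPolynomial (Fin n) R) (Localization.AtPrime q')))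
        (Localization.AtPrime q') :=
  Groth.Agent.LibRelGCILocal29.main_local R n c F q' (q'.comap C) rfl
    (regular_fibre_of_fibreDimAt_le R n c F q' hq' (q'.comap C) rfl hcn h).toIsWeaklyRegular

end Groth.Agent.LibRelGCIPoint29
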