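import Mathlib

/-!
# helper29: generators of an ideal modulo its square, semilocally

* `exists_gens_mod_maximal`: if `I P_Q` is generated by `≤ n` elements (`Q` maximal), there are
  `n` elements of `I` generating `I` modulo `Q I`.
* `exists_gens_mod_sq`: if `P ⧸ I` has finitely many maximal ideals and `I` is generated by `n`
  elements modulo `Q I` for every maximal `Q ⊇ I`, then by `n` elements modulo `I²`.
* `exists_mul_le_span`: `I ≤ J ⊔ I²`, `I` f.g. ⇒ some `r ≡ 1 mod I` has `r I ≤ J`.
-/

set_option autoImplicit false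
set_option linter.style.haveILetI false

namespace Groth.Agent.LibSemilocalGen29

open Ideal

universe u

variable {P : Type u} [CommRing P]

lemma exists_gens_mod_maximal (I Q : Ideal P) [hQ : Q.IsMaximal] (n : ℕ)
    (t : Fin n → Localization.AtPrime Q)
    (hI : Ideal.span (Set.range t) = I.map (algebraMap P (Localization.AtPrime Q))) :
    ∃ a : Fin n → P, (∀ i, a i ∈ I) ∧ I ≤ Ideal.span (Set.range a) ⊔ Q * I := by
  classical
  have hmem : ∀ i, t i ∈ I.map (algebraMap P (Localization.AtPrime Q)) := fun i => by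
    rw [← hI]; exact Ideal.subset_span (Set.mem_range_self i)
  have hex : ∀ i, ∃ a : P, a ∈ I ∧ ∃ u : P, u ∈ Q.primeCompl ∧
      t i * algebraMap P (Localization.AtPrime Q) u = algebraMap P _ a := by
    intro i
    obtain ⟨⟨⟨a, ha⟩, ⟨u, hu⟩⟩, h⟩ :=
      (IsLocalization.mem_map_algebraMap_iff Q.primeCompl (Localization.AtPrime Q)).mp (hmem i)
    exact ⟨a, ha, u, hu, h⟩
  choose a ha u hu hau using hex
  refine ⟨a, ha, ?_⟩
  -- the span of the `a i` localizes to the span of the `t i`
  have hspan : (Ideal.span (Set.range a)).map (algebraMap P (Localization.AtPrime Q)) =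
      I.map (algebraMap P (Localization.AtPrime Q)) := by
    rw [← hI, Ideal.map_span]
    apply le_antisymm
    · rw [Ideal.span_le]
      rintro _ ⟨_, ⟨i, rfl⟩, rfl⟩
      rw [← hau i]
      exact Ideal.mul_mem_right _ _ (Ideal.subset_span (Set.mem_range_self i))
    · rw [Ideal.span_le]
      rintro _ ⟨i, rfl⟩
      have hunit : IsUnit (algebraMap P (Localization.AtPrime Q) (u i)) :=
        IsLocalization.map_units (Localization.AtPrime Q) ⟨u i, hu i⟩
      obtain ⟨v, hv⟩ := hunit.exists_right_inv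
      have : t i = algebraMap P _ (a i) * v := by
        rw [← hau i, mul_assoc, hv, mul_one]
      rw [this]
      exact Ideal.mul_mem_right _ _ (Ideal.subset_span ⟨a i, ⟨i, rfl⟩, rfl⟩)
  intro b hb
  have hb' : algebraMap P (Localization.AtPrime Q) b ∈
      (Ideal.span (Set.range a)).map (algebraMap P (Localization.AtPrime Q)) := by
    rw [hspan]; exact Ideal.mem_map_of_mem _ hb
  obtain ⟨⟨⟨a', ha'⟩, ⟨w, hw⟩⟩, h⟩ :=
    (IsLocalization.mem_map_algebraMap_iff Q.primeCompl (Localization.AtPrime Q)).mp hb'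
  simp only at h
  rw [← map_mul, IsLocalization.eq_iff_exists Q.primeCompl] at h
  obtain ⟨⟨w', hw'⟩, h⟩ := h
  simp only at h
  -- `v * b ∈ span a` with `v = w' * w ∉ Q`
  have hv : w' * w ∉ Q := fun hmem => by
    rcases (Ideal.IsMaximal.isPrime hQ).mem_or_mem hmem with h1 | h1
    · exact hw' h1
    · exact hw h1
  have hvb : w' * w * b ∈ Ideal.span (Set.range a) := by
    have : w' * w * b = w' * a' := by rw [← h]; ring
    rw [this]; exact Ideal.mul_mem_left _ _ ha'
  obtain ⟨z, i, hi, hz⟩ := hQ.exists_inv hv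
  have : b = z * (w' * w * b) + i * b := by
    have : b = (z * (w' * w) + i) * b := by rw [hz, one_mul]
    calc b = (z * (w' * w) + i) * b := this
      _ = _ := by ring
  rw [this]
  exact Submodule.add_mem_sup (Ideal.mul_mem_left _ _ hvb) (Ideal.mul_mem_mul hi hb)

lemma le_of_forall_maximal_le_sup (I N : Ideal P) (hI : I.FG)
    (h : ∀ Q : Ideal P, Q.IsMaximal → I ≤ N ⊔ Q * I) : I ≤ N := by
  classical
  by_contra hne
  -- the colon ideal
  let C : Ideal P := N.colon (I : Set P)
  have hC : C ≠ ⊤ := by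
    intro htop
    apply hne
    intro b hb
    have h1 : (1 : P) ∈ C := htop ▸ Submodule.mem_top
    have := Submodule.mem_colon.mp h1 b hb
    simpa using this
  obtain ⟨Q, hQ, hCQ⟩ := Ideal.exists_le_maximal C hC
  have hle : (I : Submodule P P) ≤ N ⊔ Q • (I : Submodule P P) := by
    simpa [Ideal.smul_eq_mul] using h Q hQ
  obtain ⟨r, hr1, hr⟩ := Submodule.exists_sub_one_mem_and_smul_le_of_fg_of_le_sup
    (N := N) (N' := I) (P := I) hI le_rfl hle
  have hrC : r ∈ C := by
    rw [Submodule.mem_colon]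
    intro b hb
    exact hr (Submodule.smul_mem_pointwise_smul b r I hb)
  have h1 : (1 : P) ∈ Q := by
    have := Q.sub_mem (hCQ hrC) hr1
    simpa using this
  exact hQ.ne_top ((Ideal.eq_top_iff_one Q).mpr h1)

lemma exists_gens_mod_sq (I : Ideal P) (hI : I.FG) [Finite (MaximalSpectrum (P ⧸ I))] (n : ℕ)
    (h : ∀ Q : Ideal P, Q.IsMaximal → I ≤ Q →
      ∃ a : Fin n → P, (∀ i, a i ∈ I) ∧ I ≤ Ideal.span (Set.range a) ⊔ Q * I) :
    ∃ f : Fin n → P, (∀ i, f i ∈ I) ∧ I ≤ Ideal.span (Set.range f) ⊔ I * I := by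
  classical
  let ι := MaximalSpectrum (P ⧸ I)
  haveI : Fintype ι := Fintype.ofFinite ι
  let Qs : ι → Ideal P := fun j => j.asIdeal.comap (Ideal.Quotient.mk I)
  have hQmax : ∀ j, (Qs j).IsMaximal := fun j =>
    Ideal.comap_isMaximal_of_surjective _ Ideal.Quotient.mk_surjective (K := j.asIdeal)
      (H := j.isMaximal)
  have hIQ : ∀ j, I ≤ Qs j := fun j x hx => by
    change Ideal.Quotient.mk I x ∈ j.asIdeal
    rw [Ideal.Quotient.eq_zero_iff_mem.mpr hx]; exact j.asIdeal.zero_mem
  have hinj : Function.Injective Qs := by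
    intro j l hjl
    apply MaximalSpectrum.ext
    have := congrArg (Ideal.map (Ideal.Quotient.mk I)) hjl
    simpa [Qs, Ideal.map_comap_of_surjective _ Ideal.Quotient.mk_surjective] using this
  have hcop : Pairwise fun j l => IsCoprime (Qs j) (Qs l) := fun j l hjl => by
    haveI := hQmax j; haveI := hQmax l
    exact Ideal.isCoprime_of_isMaximal (fun hh => hjl (hinj hh))
  have hcrt : ∀ j : ι, ∃ e : P, ∀ l, e - (Pi.single j (1 : P) : ι → P) l ∈ Qs l := fun j =>
    Ideal.exists_forall_sub_mem_ideal hcop _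
  choose e he using hcrt
  have hex := fun j => h (Qs j) (hQmax j) (hIQ j)
  choose a ha hale using hex
  let f : Fin n → P := fun i => ∑ j, e j * a j i
  have hf : ∀ i, f i ∈ I := fun i => Ideal.sum_mem _ fun j _ => Ideal.mul_mem_left _ _ (ha j i)
  refine ⟨f, hf, ?_⟩
  apply le_of_forall_maximal_le_sup I _ hI
  intro Q hQ
  by_cases hIQ' : I ≤ Q
  · -- `Q = Qs l`
    have hcm : (Q.map (Ideal.Quotient.mk I)).comap (Ideal.Quotient.mk I) = Q := by
      rw [Ideal.comap_map_of_surjective _ Ideal.Quotient.mk_surjective,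
        ← RingHom.ker_eq_comap_bot, Ideal.mk_ker]
      exact sup_eq_left.mpr hIQ'
    have hmax : (Q.map (Ideal.Quotient.mk I)).IsMaximal := by
      rcases Ideal.map_eq_top_or_isMaximal_of_surjective (Ideal.Quotient.mk I) Ideal.Quotient.mk_surjective hQ
        with h1 | h1
      · exfalso
        rw [h1, Ideal.comap_top] at hcm
        exact hQ.ne_top hcm.symm
      · exact h1
    let l : ι := ⟨Q.map (Ideal.Quotient.mk I), hmax⟩
    have hl : Qs l = Q := hcm
    have h1 := hale l
    rw [hl] at h1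
    refine h1.trans (sup_le ?_ le_sup_right)
    rw [Ideal.span_le]
    rintro _ ⟨i, rfl⟩
    have hdiff : a l i - f i ∈ Q * I := by
      have : a l i - f i = ∑ j, ((Pi.single j (1 : P) : ι → P) l - e j) * a j i := by
        simp only [f, sub_mul, Finset.sum_sub_distrib]
        congr 1
        rw [Finset.sum_eq_single l]
        · simp
        · intro j _ hjl
          simp [hjl.symm]
        · intro hl'; exact absurd (Finset.mem_univ l) hl'
      rw [this]
      refine Ideal.sum_mem _ fun j _ => Ideal.mul_mem_mul ?_ (ha j i)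
      have := he j l
      rw [hl] at this
      have := Q.neg_mem this
      simpa using this
    have : a l i = f i + (a l i - f i) := by ring
    rw [this]
    exact Submodule.add_mem_sup
      (Submodule.mem_sup_left (Ideal.subset_span (Set.mem_range_self i))) hdiff
  · have htop : Q ⊔ I = ⊤ := by
      by_contra hne
      exact hIQ' ((hQ.eq_of_le hne le_sup_left) ▸ le_sup_right)
    intro b hb
    obtain ⟨q, hq, c, hc, hqc⟩ := Submodule.mem_sup.mp ((Ideal.eq_top_iff_one _).mp htop)
    have : b = c * b + q * b := by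
      have : b = (q + c) * b := by rw [hqc, one_mul]
      calc b = (q + c) * b := this
        _ = _ := by ring
    rw [this]
    exact Submodule.add_mem_sup (Submodule.mem_sup_right (Ideal.mul_mem_mul hc hb))
      (Ideal.mul_mem_mul hq hb)

lemma exists_mul_mem (I J : Ideal P) (hI : I.FG) (h : I ≤ J ⊔ I * I) :
    ∃ r : P, r - 1 ∈ I ∧ ∀ b ∈ I, r * b ∈ J := by
  have hle : (I : Submodule P P) ≤ J ⊔ I • (I : Submodule P P) := by
    simpa [Ideal.smul_eq_mul] using h
  obtain ⟨r, hr1, hr⟩ := Submodule.exists_sub_one_mem_and_smul_le_of_fg_of_le_sup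
    (N := J) (N' := I) (P := I) hI le_rfl hle
  exact ⟨r, hr1, fun b hb => hr (Submodule.smul_mem_pointwise_smul b r I hb)⟩

/-- If `r ≡ 1 mod I` and `r I ≤ J ≤ I`, then `P ⧸ I` is the localization of `P ⧸ J` away from
(the idempotent) `r`. -/
lemma isLocalization_away_factor (J I : Ideal P) (hJI : J ≤ I) (r : P) (hr1 : r - 1 ∈ I)
    (hr : ∀ b ∈ I, r * b ∈ J) :
    @IsLocalization.Away (P ⧸ J) _ (Ideal.Quotient.mk J r) (P ⧸ I) _
      (Ideal.Quotient.factor hJI).toAlgebra := by
  letI : Algebra (P ⧸ J) (P ⧸ I) := (Ideal.Quotient.factor hJI).toAlgebra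
  have hidem : IsIdempotentElem (Ideal.Quotient.mk J r) := by
    change Ideal.Quotient.mk J r * Ideal.Quotient.mk J r = Ideal.Quotient.mk J r
    rw [← map_mul, Ideal.Quotient.eq]
    have : r * r - r = r * (r - 1) := by ring
    rw [this]
    exact hr _ hr1
  refine IsLocalization.away_of_isIdempotentElem_of_mul hidem ?_ ?_
  · intro x y
    obtain ⟨a, rfl⟩ := Ideal.Quotient.mk_surjective x
    obtain ⟨b, rfl⟩ := Ideal.Quotient.mk_surjective y
    change Ideal.Quotient.factor hJI (Ideal.Quotient.mk J a) =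
      Ideal.Quotient.factor hJI (Ideal.Quotient.mk J b) ↔ _
    rw [Ideal.Quotient.factor_mk, Ideal.Quotient.factor_mk, Ideal.Quotient.eq, ← map_mul,
      ← map_mul, Ideal.Quotient.eq]
    constructor
    · intro hab
      have : r * a - r * b = r * (a - b) := by ring
      rw [this]; exact hr _ hab
    · intro hab
      have h1 : r * (a - b) ∈ I := by
        have : r * a - r * b = r * (a - b) := by ring
        rw [← this]; exact hJI hab
      have : a - b = r * (a - b) - (r - 1) * (a - b) := by ring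
      rw [this]
      exact I.sub_mem h1 (I.mul_mem_right _ hr1)
  · intro z
    obtain ⟨a, rfl⟩ := Ideal.Quotient.mk_surjective z
    exact ⟨Ideal.Quotient.mk J a, Ideal.Quotient.factor_mk hJI a⟩

section Flat

open TensorProduct

variable {A : Type u} [CommRing A] [Algebra A P]

/-- If `P ⧸ I` is flat over `A`, then `I ∩ 𝔪 P = 𝔪 I`. -/
lemma mem_smul_top_of_flat (I : Ideal P) [Module.Flat A (P ⧸ I)] (m : Ideal A) (b : I)
    (hb : (b : P) ∈ m.map (algebraMap A P)) : b ∈ m • (⊤ : Submodule A I) := by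
  let g : I →ₗ[A] P := I.subtype.restrictScalars A
  let fq : P →ₗ[A] P ⧸ I := (Ideal.Quotient.mkₐ A I).toLinearMap
  have hfq : Function.Surjective fq := Ideal.Quotient.mk_surjective
  have hg : Function.Injective g := Subtype.val_injective
  have hex : Function.Exact g fq := by
    intro x
    constructor
    · intro hx
      exact ⟨⟨x, Ideal.Quotient.eq_zero_iff_mem.mp hx⟩, rfl⟩
    · rintro ⟨y, rfl⟩
      exact Ideal.Quotient.eq_zero_iff_mem.mpr y.2
  have hinj := LinearMap.lTensor_injective_of_exact_of_flat fq hfq g hg hex (A ⧸ m)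
  have h0 : g.lTensor (A ⧸ m) ((1 : A ⧸ m) ⊗ₜ[A] b) = 0 := by
    rw [LinearMap.lTensor_tmul]
    apply (TensorProduct.quotTensorEquivQuotSMul P m).injective
    rw [map_zero, TensorProduct.quotTensorEquivQuotSMul_mk_one_tmul,
      Submodule.Quotient.mk_eq_zero, Ideal.smul_top_eq_map]
    exact hb
  have h1 : (1 : A ⧸ m) ⊗ₜ[A] b = 0 := hinj (by rw [h0, map_zero])
  have h2 := congrArg (TensorProduct.quotTensorEquivQuotSMul I m) h1
  rw [map_zero, TensorProduct.quotTensorEquivQuotSMul_mk_one_tmul,
    Submodule.Quotient.mk_eq_zero] at h2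
  exact h2

instance isScalarTower_cotangent (I : Ideal P) : IsScalarTower A (P ⧸ I) I.Cotangent :=
  ⟨fun a q x => by
    obtain ⟨p, rfl⟩ := Ideal.Quotient.mk_surjective q
    have h1 : a • (Ideal.Quotient.mk I p) = Ideal.Quotient.mk I (a • p) := rfl
    rw [h1]
    change (algebraMap P (P ⧸ I) (a • p)) • x = a • ((algebraMap P (P ⧸ I) p) • x)
    rw [algebraMap_smul, algebraMap_smul, smul_assoc]⟩

lemma finite_cotangent (I : Ideal P) (hI : I.FG) [Module.Finite A (P ⧸ I)] :
    Module.Finite A I.Cotangent := by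
  haveI : Module.Finite P I := Module.Finite.iff_fg.mpr hI
  haveI : Module.Finite P I.Cotangent :=
    Module.Finite.of_surjective I.toCotangent I.toCotangent_surjective
  haveI : Module.Finite (P ⧸ I) I.Cotangent :=
    Module.Finite.of_restrictScalars_finite P (P ⧸ I) I.Cotangent
  exact Module.Finite.trans (P ⧸ I) I.Cotangent

/-- Lifting generators modulo the square from the closed fibre, for a finite flat quotient. -/
lemma le_sup_sq_of_flat [IsLocalRing A] (I J : Ideal P) (hI : I.FG) (hJI : J ≤ I)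
    [Module.Finite A (P ⧸ I)] [Module.Flat A (P ⧸ I)]
    (h : I ≤ J ⊔ I * I ⊔ (IsLocalRing.maximalIdeal A).map (algebraMap A P)) :
    I ≤ J ⊔ I * I := by
  haveI := finite_cotangent (A := A) I hI
  set m := IsLocalRing.maximalIdeal A with hm
  let π : I →ₗ[P] I.Cotangent := I.toCotangent
  let W : Submodule A I.Cotangent :=
    (Submodule.map π (Submodule.comap I.subtype J)).restrictScalars A
  have hsq : I * I ≤ I := Ideal.mul_le_left
  have key : (⊤ : Submodule A I.Cotangent) ≤ W ⊔ m • (⊤ : Submodule A I.Cotangent) := by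
    intro x _
    obtain ⟨⟨b, hb⟩, rfl⟩ := I.toCotangent_surjective x
    obtain ⟨js, hjs, d, hd, hb'⟩ := Submodule.mem_sup.mp (h hb)
    obtain ⟨j, hj, s', hs', hjs'⟩ := Submodule.mem_sup.mp hjs
    have hjI : j ∈ I := hJI hj
    have hsI : s' ∈ I := hsq hs'
    have hdI : d ∈ I := by
      have : d = b - j - s' := by rw [← hb', ← hjs']; ring
      rw [this]; exact I.sub_mem (I.sub_mem hb hjI) hsI
    have hdm : (⟨d, hdI⟩ : I) ∈ m • (⊤ : Submodule A I) :=
      mem_smul_top_of_flat I m ⟨d, hdI⟩ hd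
    have hsplit : I.toCotangent ⟨b, hb⟩ =
        I.toCotangent ⟨j, hjI⟩ + I.toCotangent ⟨s', hsI⟩ + I.toCotangent ⟨d, hdI⟩ := by
      rw [← map_add, ← map_add]
      congr 1
      apply Subtype.ext
      simp only [Submodule.coe_add]
      rw [hjs', hb']
    rw [hsplit]
    have hs0 : I.toCotangent ⟨s', hsI⟩ = 0 := by
      rw [Ideal.toCotangent_eq_zero, pow_two]; exact hs'
    rw [hs0, add_zero]
    refine Submodule.add_mem_sup ?_ ?_
    · exact ⟨⟨j, hjI⟩, hj, rfl⟩
    · have hmap : Submodule.map (π.restrictScalars A) (m • (⊤ : Submodule A I)) =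
          m • Submodule.map (π.restrictScalars A) ⊤ := Submodule.map_smul'' _ _ _
      have h1 : (π.restrictScalars A) ⟨d, hdI⟩ ∈
          Submodule.map (π.restrictScalars A) (m • (⊤ : Submodule A I)) :=
        Submodule.mem_map_of_mem hdm
      rw [hmap] at h1
      exact Submodule.smul_mono le_rfl le_top h1
  have htop : (⊤ : Submodule A I.Cotangent) ≤ W :=
    Submodule.le_of_le_smul_of_le_jacobson_bot Module.Finite.fg_top
      (IsLocalRing.maximalIdeal_le_jacobson ⊥) key
  intro b hb
  obtain ⟨⟨j, hjI⟩, hj, hjb⟩ := htop (Submodule.mem_top (x := I.toCotangent ⟨b, hb⟩))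
  have hj' : j ∈ J := hj
  have hjb' : I.toCotangent ⟨j, hjI⟩ = I.toCotangent ⟨b, hb⟩ := hjb
  rw [Ideal.toCotangent_eq, pow_two] at hjb'
  have : b = j + -(j - b) := by ring
  rw [this]
  exact Submodule.add_mem_sup hj' ((I * I).neg_mem hjb')

end Flat

end Groth.Agent.LibSemilocalGen29
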