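import Mathlib
import Groth.Prelude.Def_RegImm
import Groth.Prelude.Def_Flat
import Groth.Agent.LibFibreLocEquiv29
import Groth.Agent.LibSemilocalGen29
import Groth.Agent.LibRelGCIPoint29
import Groth.Agent.LibRelGCIAway29
import Groth.Agent.Lib.Helper17.RegExchange

/-!
# helper29: local structure of flat, finitely presented algebras with a complete intersection fibre
-/

set_option autoImplicit false
set_option linter.style.haveILetI false
set_option linter.unusedSectionVars false

namespace Groth.Agent.LibSyntLocal29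

universe u

open MvPolynomial RingTheory.Sequence IsLocalRing Groth.Agent.LibRelGCI29

section Clear

variable {R : Type u} [CommRing R] {n : ℕ} (p : Ideal R) [p.IsPrime]

/-- clearing denominators of a polynomial over `κ(p)`. -/
lemma exists_smul_eq_map (P : MvPolynomial (Fin n) p.ResidueField) :
    ∃ s ∈ p.primeCompl, ∃ P' : MvPolynomial (Fin n) R,
      MvPolynomial.map (algebraMap R p.ResidueField) P' = (algebraMap R p.ResidueField s) • P := by
  induction P using MvPolynomial.induction_on with
  | C a =>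
    obtain ⟨x, y, hy, hxy⟩ := IsFractionRing.div_surjective (A := R ⧸ p) a
    obtain ⟨r, rfl⟩ := Ideal.Quotient.mk_surjective x
    obtain ⟨s, rfl⟩ := Ideal.Quotient.mk_surjective y
    have hs : s ∉ p := by
      intro hsp
      have : (Ideal.Quotient.mk p s) = 0 := Ideal.Quotient.eq_zero_iff_mem.mpr hsp
      rw [this] at hy
      exact zero_notMem_nonZeroDivisors hy
    refine ⟨s, hs, C r, ?_⟩
    have h1 : algebraMap (R ⧸ p) p.ResidueField (Ideal.Quotient.mk p r) =
        algebraMap R p.ResidueField r := rfl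
    have h2 : algebraMap (R ⧸ p) p.ResidueField (Ideal.Quotient.mk p s) =
        algebraMap R p.ResidueField s := rfl
    rw [h1, h2] at hxy
    have hne : algebraMap R p.ResidueField s ≠ 0 := by
      intro h0
      rw [← RingHom.mem_ker, Ideal.ker_algebraMap_residueField] at h0
      exact hs h0
    rw [map_C, MvPolynomial.smul_eq_C_mul, ← map_mul, ← hxy, mul_div_cancel₀ _ hne]
  | add P₁ P₂ h₁ h₂ =>
    obtain ⟨s₁, hs₁, P₁', h₁'⟩ := h₁
    obtain ⟨s₂, hs₂, P₂', h₂'⟩ := h₂
    refine ⟨s₁ * s₂, p.primeCompl.mul_mem hs₁ hs₂, C s₂ * P₁' + C s₁ * P₂', ?_⟩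
    rw [map_add, map_mul, map_mul, h₁', h₂', map_C, map_C, map_mul, smul_add,
      MvPolynomial.smul_eq_C_mul, MvPolynomial.smul_eq_C_mul, MvPolynomial.smul_eq_C_mul,
      MvPolynomial.smul_eq_C_mul, map_mul]
    ring
  | mul_X P i h =>
    obtain ⟨s, hs, P', h'⟩ := h
    refine ⟨s, hs, P' * X i, ?_⟩
    rw [map_mul, h', map_X, smul_mul_assoc]

lemma algebraMap_ne_zero {s : R} (hs : s ∈ p.primeCompl) : algebraMap R p.ResidueField s ≠ 0 := by
  intro h0
  rw [← RingHom.mem_ker, Ideal.ker_algebraMap_residueField] at h0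
  exact hs h0

/-- elements of the extended ideal `I κ(p)[x]` come from `I` up to a unit of `κ(p)`. -/
lemma exists_mem_map_eq_smul (I : Ideal (MvPolynomial (Fin n) R))
    (a : MvPolynomial (Fin n) p.ResidueField)
    (ha : a ∈ I.map (MvPolynomial.map (algebraMap R p.ResidueField))) :
    ∃ s ∈ p.primeCompl, ∃ f ∈ I,
      MvPolynomial.map (algebraMap R p.ResidueField) f = (algebraMap R p.ResidueField s) • a := by
  unfold Ideal.map at ha
  induction ha using Submodule.span_induction with
  | mem x hx =>
    obtain ⟨g, hg, rfl⟩ := hx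
    exact ⟨1, p.primeCompl.one_mem, g, hg, by rw [map_one, one_smul]⟩
  | zero => exact ⟨1, p.primeCompl.one_mem, 0, I.zero_mem, by simp⟩
  | add x y _ _ hx hy =>
    obtain ⟨s₁, hs₁, f₁, hf₁, h₁⟩ := hx
    obtain ⟨s₂, hs₂, f₂, hf₂, h₂⟩ := hy
    refine ⟨s₁ * s₂, p.primeCompl.mul_mem hs₁ hs₂, C s₂ * f₁ + C s₁ * f₂,
      I.add_mem (I.mul_mem_left _ hf₁) (I.mul_mem_left _ hf₂), ?_⟩
    rw [map_add, map_mul, map_mul, h₁, h₂, map_C, map_C, map_mul, smul_add,
      MvPolynomial.smul_eq_C_mul, MvPolynomial.smul_eq_C_mul, MvPolynomial.smul_eq_C_mul,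
      MvPolynomial.smul_eq_C_mul, map_mul]
    ring
  | smul c x _ hx =>
    obtain ⟨s, hs, f, hf, h⟩ := hx
    obtain ⟨sc, hsc, c', hc'⟩ := exists_smul_eq_map p c
    refine ⟨sc * s, p.primeCompl.mul_mem hsc hs, c' * f, I.mul_mem_left _ hf, ?_⟩
    rw [map_mul, hc', h, map_mul, smul_eq_mul, MvPolynomial.smul_eq_C_mul,
      MvPolynomial.smul_eq_C_mul, MvPolynomial.smul_eq_C_mul, map_mul]
    ring

end Clear

section Gens

lemma exists_gens_of_span_eq {P : Type u} [CommRing P] (I Q : Ideal P) [Q.IsPrime] (c : ℕ)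
    (t : Fin c → Localization.AtPrime Q)
    (hI : Ideal.span (Set.range t) = I.map (algebraMap P (Localization.AtPrime Q))) :
    ∃ a : Fin c → P, (∀ i, a i ∈ I) ∧
      (Ideal.span (Set.range a)).map (algebraMap P (Localization.AtPrime Q)) =
        I.map (algebraMap P (Localization.AtPrime Q)) := by
  classical
  have hmem : ∀ i, t i ∈ I.map (algebraMap P (Localization.AtPrime Q)) := fun i => by
    rw [← hI]; exact Ideal.subset_span (Set.mem_range_self i)
  have hex : ∀ i, ∃ a : P, a ∈ I ∧ ∃ u : P, u ∈ Q.primeCompl ∧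
      t i * algebraMap P (Localization.AtPrime Q) u = algebraMap P _ a := by
    intro i
    obtain ⟨⟨⟨a, ha⟩, ⟨u, hu⟩⟩, h⟩ :=
      (IsLocalization.mem_map_algebraMap_iff Q.primeCompl (Localization.AtPrime Q)).mp (hmem i)
    exact ⟨a, ha, u, hu, h⟩
  choose a ha u hu hau using hex
  refine ⟨a, ha, ?_⟩
  rw [← hI, Ideal.map_span]
  apply le_antisymm
  · rw [Ideal.span_le]
    rintro _ ⟨_, ⟨i, rfl⟩, rfl⟩
    rw [← hau i]
    exact Ideal.mul_mem_right _ _ (Ideal.subset_span (Set.mem_range_self i))
  · rw [Ideal.span_le]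
    rintro _ ⟨i, rfl⟩
    have hunit : IsUnit (algebraMap P (Localization.AtPrime Q) (u i)) :=
      IsLocalization.map_units (Localization.AtPrime Q) ⟨u i, hu i⟩
    obtain ⟨v, hv⟩ := hunit.exists_right_inv
    have : t i = algebraMap P _ (a i) * v := by
      rw [← hau i, mul_assoc, hv, mul_one]
    rw [this]
    exact Ideal.mul_mem_right _ _ (Ideal.subset_span ⟨a i, ⟨i, rfl⟩, rfl⟩)

variable {R : Type u} [CommRing R] {n : ℕ} (I : Ideal (MvPolynomial (Fin n) R))
  (q' : Ideal (MvPolynomial (Fin n) R)) [q'.IsPrime]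
  (p : Ideal R) [p.IsPrime] (hp : p = q'.comap (C : R →+* MvPolynomial (Fin n) R))

/-- lifting a regular system of generators of `I κ(p)[x]_{Q'}` to elements of `I`. -/
theorem exists_regular_lift (rs : List (Localization.AtPrime (primeOver q' p hp)))
    (hreg : IsRegular (Localization.AtPrime (primeOver q' p hp)) rs)
    (hrs : Ideal.ofList rs = (I.map (MvPolynomial.map (algebraMap R p.ResidueField))).map
      (algebraMap (MvPolynomial (Fin n) p.ResidueField) (Localization.AtPrime (primeOver q' p hp)))) :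
    ∃ (c : ℕ) (f : Fin c → MvPolynomial (Fin n) R), (∀ i, f i ∈ I) ∧
      IsRegular (Localization.AtPrime (primeOver q' p hp))
        ((List.ofFn (Fbar p.ResidueField f)).map
          (algebraMap (MvPolynomial (Fin n) p.ResidueField)
            (Localization.AtPrime (primeOver q' p hp)))) ∧
      (Ideal.span (Set.range (Fbar p.ResidueField f))).map
          (algebraMap (MvPolynomial (Fin n) p.ResidueField)
            (Localization.AtPrime (primeOver q' p hp))) =
        (I.map (MvPolynomial.map (algebraMap R p.ResidueField))).map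
          (algebraMap (MvPolynomial (Fin n) p.ResidueField)
            (Localization.AtPrime (primeOver q' p hp))) := by
  classical
  have hspan : Ideal.span (Set.range rs.get) = Ideal.ofList rs := by
    unfold Ideal.ofList
    congr 1
    ext x
    simp [List.mem_iff_get]
  obtain ⟨a, ha, haspan⟩ := exists_gens_of_span_eq
    (I.map (MvPolynomial.map (algebraMap R p.ResidueField))) (primeOver q' p hp) rs.length rs.get
    (hspan.trans hrs)
  have hex := fun i => exists_mem_map_eq_smul p I (a i) (ha i)
  choose s hs f hf hfs using hex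
  have hsame : Ideal.span (Set.range (Fbar p.ResidueField f)) = Ideal.span (Set.range a) := by
    apply le_antisymm
    · rw [Ideal.span_le]
      rintro _ ⟨i, rfl⟩
      change MvPolynomial.map (algebraMap R p.ResidueField) (f i) ∈ _
      rw [hfs i, MvPolynomial.smul_eq_C_mul]
      exact Ideal.mul_mem_left _ _ (Ideal.subset_span (Set.mem_range_self i))
    · rw [Ideal.span_le]
      rintro _ ⟨i, rfl⟩
      have hne := algebraMap_ne_zero p (hs i)
      have : a i = C (algebraMap R p.ResidueField (s i))⁻¹ *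
          MvPolynomial.map (algebraMap R p.ResidueField) (f i) := by
        rw [hfs i, MvPolynomial.smul_eq_C_mul, ← mul_assoc, ← map_mul, inv_mul_cancel₀ hne, map_one,
          one_mul]
      rw [this]
      exact Ideal.mul_mem_left _ _ (Ideal.subset_span ⟨i, rfl⟩)
  have hmapeq : (Ideal.span (Set.range (Fbar p.ResidueField f))).map
      (algebraMap (MvPolynomial (Fin n) p.ResidueField)
        (Localization.AtPrime (primeOver q' p hp))) =
      (I.map (MvPolynomial.map (algebraMap R p.ResidueField))).map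
        (algebraMap (MvPolynomial (Fin n) p.ResidueField)
          (Localization.AtPrime (primeOver q' p hp))) := by
    rw [hsame, haspan]
  refine ⟨rs.length, f, hf, ?_, hmapeq⟩
  apply Groth.Agent.Lib.helper17.RegExchange.isRegular_of_ofList_eq rs _ ?_ hreg ?_
  · rw [List.length_map, List.length_ofFn]
  · rw [Groth.Agent.LibRegLocalDim29.ofList_map_eq, hmapeq, hrs]

end Gens

section Flat

lemma map_map_map {A B C D : Type*} [CommRing A] [CommRing B] [CommRing C] [CommRing D]
    (f : A →+* B) (g : B →+* C) (h : C →+* D) (K : Ideal A) :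
    ((K.map f).map g).map h = K.map ((h.comp g).comp f) := by
  rw [Ideal.map_map, Ideal.map_map]

variable {R : Type u} [CommRing R]

/-- flatness + Nakayama, abstract form. -/
theorem le_of_flat_of_map_mk_eq (p : Ideal R) (L : Type u) [CommRing L] [IsLocalRing L] [Algebra R L]
    (IL JL pL : Ideal L) (hJIL : JL ≤ IL) (hFG : IL.FG) (hflat : Module.Flat R (L ⧸ IL))
    (hpLeq : pL = p.map (algebraMap R L)) (hpmax : pL ≤ maximalIdeal L)
    (hA : Ideal.map (Ideal.Quotient.mk pL) IL = Ideal.map (Ideal.Quotient.mk pL) JL) :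
    IL ≤ JL := by
  classical
  -- Step B
  have hB : IL ≤ JL ⊔ pL := by
    intro x hx
    have h1 : Ideal.Quotient.mk pL x ∈ Ideal.map (Ideal.Quotient.mk pL) JL := by
      rw [← hA]; exact Ideal.mem_map_of_mem _ hx
    have h2 : x ∈ (Ideal.map (Ideal.Quotient.mk pL) JL).comap (Ideal.Quotient.mk pL) := h1
    rwa [Ideal.comap_map_of_surjective _ Ideal.Quotient.mk_surjective, ← RingHom.ker_eq_comap_bot,
      Ideal.mk_ker] at h2
  -- Step C
  have hC : IL ≤ JL ⊔ pL • IL := by
    intro x hx
    obtain ⟨j, hj, d, hd, hjd⟩ := Submodule.mem_sup.mp (hB hx)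
    have hdI : d ∈ IL := by
      have : d = x - j := by rw [← hjd]; ring
      rw [this]; exact IL.sub_mem hx (hJIL hj)
    rw [hpLeq] at hd
    have hmem := Groth.Agent.LibSemilocalGen29.mem_smul_top_of_flat (A := R) (P := L) IL p
      ⟨d, hdI⟩ hd
    have hmap : Submodule.map (IL.subtype.restrictScalars R) (p • (⊤ : Submodule R IL)) =
        p • Submodule.map (IL.subtype.restrictScalars R) ⊤ := Submodule.map_smul'' _ _ _
    have h1 : (IL.subtype.restrictScalars R) ⟨d, hdI⟩ ∈
        Submodule.map (IL.subtype.restrictScalars R) (p • (⊤ : Submodule R IL)) :=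
      Submodule.mem_map_of_mem hmem
    rw [hmap] at h1
    have h2 : Submodule.map (IL.subtype.restrictScalars R) ⊤ = IL.restrictScalars R := by
      ext y
      simp
    rw [h2, ← Ideal.smul_restrictScalars, ← hpLeq] at h1
    have h3 : d ∈ pL • IL := h1
    rw [← hjd]
    exact Submodule.add_mem_sup hj h3
  -- Step D
  have hjac : pL ≤ Ideal.jacobson (⊥ : Ideal L) :=
    le_trans hpmax (IsLocalRing.maximalIdeal_le_jacobson ⊥)
  exact Submodule.le_of_le_smul_of_le_jacobson_bot hFG hjac hC

variable {n : ℕ} (I J : Ideal (MvPolynomial (Fin n) R))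
  (q' : Ideal (MvPolynomial (Fin n) R)) [q'.IsPrime]
  (p : Ideal R) [p.IsPrime] (hp : p = q'.comap (C : R →+* MvPolynomial (Fin n) R))

include hp in
/-- flatness + Nakayama: if `J ≤ I` have the same extension to `κ(p)[x]_{Q'}` and `R[x]_{q'}/I` is
flat over `R`, then `J` and `I` have the same extension to `R[x]_{q'}`. -/
theorem map_le_map_of_flat (hJI : J ≤ I) (hI : I.FG)
    (hflat : Module.Flat R (Localization.AtPrime q' ⧸
      I.map (algebraMap (MvPolynomial (Fin n) R) (Localization.AtPrime q'))))
    (hfib : (J.map (MvPolynomial.map (algebraMap R p.ResidueField))).map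
        (algebraMap (MvPolynomial (Fin n) p.ResidueField)
          (Localization.AtPrime (primeOver q' p hp))) =
      (I.map (MvPolynomial.map (algebraMap R p.ResidueField))).map
        (algebraMap (MvPolynomial (Fin n) p.ResidueField)
          (Localization.AtPrime (primeOver q' p hp)))) :
    I.map (algebraMap (MvPolynomial (Fin n) R) (Localization.AtPrime q')) ≤
      J.map (algebraMap (MvPolynomial (Fin n) R) (Localization.AtPrime q')) := by
  classical
  obtain ⟨θ, hθ⟩ := Groth.Agent.LibFibreLocEquiv29.exists_fibreLocEquiv q' p (primeOver q' p hp)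
    (comap_primeOver q' p hp)
  have hcomp : θ.toRingHom.comp
      ((Ideal.Quotient.mk ((p.map (C : R →+* MvPolynomial (Fin n) R)).map
        (algebraMap (MvPolynomial (Fin n) R) (Localization.AtPrime q')))).comp
        (algebraMap (MvPolynomial (Fin n) R) (Localization.AtPrime q'))) =
      (algebraMap (MvPolynomial (Fin n) p.ResidueField)
        (Localization.AtPrime (primeOver q' p hp))).comp
        (MvPolynomial.map (algebraMap R p.ResidueField)) := RingHom.ext fun y => hθ y
  have hmapθ : ∀ K : Ideal (MvPolynomial (Fin n) R),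
      Ideal.map θ.toRingHom
        (Ideal.map (Ideal.Quotient.mk ((p.map (C : R →+* MvPolynomial (Fin n) R)).map
          (algebraMap (MvPolynomial (Fin n) R) (Localization.AtPrime q'))))
          (K.map (algebraMap (MvPolynomial (Fin n) R) (Localization.AtPrime q')))) =
      (K.map (MvPolynomial.map (algebraMap R p.ResidueField))).map
        (algebraMap (MvPolynomial (Fin n) p.ResidueField)
          (Localization.AtPrime (primeOver q' p hp))) := by
    intro K
    calc _ = Ideal.map θ.toRingHom (Ideal.map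
          ((Ideal.Quotient.mk ((p.map (C : R →+* MvPolynomial (Fin n) R)).map
            (algebraMap (MvPolynomial (Fin n) R) (Localization.AtPrime q')))).comp
            (algebraMap (MvPolynomial (Fin n) R) (Localization.AtPrime q'))) K) :=
          congrArg _ (Ideal.map_map _ _)
      _ = Ideal.map (θ.toRingHom.comp
          ((Ideal.Quotient.mk ((p.map (C : R →+* MvPolynomial (Fin n) R)).map
            (algebraMap (MvPolynomial (Fin n) R) (Localization.AtPrime q')))).comp
            (algebraMap (MvPolynomial (Fin n) R) (Localization.AtPrime q')))) K := Ideal.map_map _ _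
      _ = Ideal.map ((algebraMap (MvPolynomial (Fin n) p.ResidueField)
            (Localization.AtPrime (primeOver q' p hp))).comp
            (MvPolynomial.map (algebraMap R p.ResidueField))) K := by rw [hcomp]
      _ = _ := (Ideal.map_map _ _).symm
  refine le_of_flat_of_map_mk_eq p (Localization.AtPrime q') _ _
    ((p.map (C : R →+* MvPolynomial (Fin n) R)).map
      (algebraMap (MvPolynomial (Fin n) R) (Localization.AtPrime q')))
    (Ideal.map_mono hJI) (Ideal.FG.map hI _) hflat ?_ ?_ ?_
  · rw [Ideal.map_map, ← MvPolynomial.algebraMap_eq,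
      ← IsScalarTower.algebraMap_eq R (MvPolynomial (Fin n) R) (Localization.AtPrime q')]
  · rw [← Localization.AtPrime.map_eq_maximalIdeal]
    apply Ideal.map_mono
    rw [hp]
    exact Ideal.map_comap_le
  · have h1 := hmapθ I
    have h2 := hmapθ J
    rw [← hfib, ← h2] at h1
    have hbij : Function.Bijective θ.toRingHom := θ.bijective
    have := congrArg (Ideal.comap θ.toRingHom) h1
    rwa [Ideal.comap_map_of_bijective _ hbij, Ideal.comap_map_of_bijective _ hbij] at this

end Flat

section Main

open AlgebraicGeometry CategoryTheory FlatMor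

lemma exists_mul_mem_of_map_le {P : Type u} [CommRing P] (I J q : Ideal P) [hq : q.IsPrime]
    (hI : I.FG)
    (h : I.map (algebraMap P (Localization.AtPrime q)) ≤
      J.map (algebraMap P (Localization.AtPrime q))) :
    ∃ v, v ∉ q ∧ ∀ b ∈ I, v * b ∈ J := by
  classical
  obtain ⟨s, rfl⟩ := hI
  have hex : ∀ g : P, g ∈ s → ∃ v, v ∉ q ∧ v * g ∈ J := by
    intro g hg
    have h1 : algebraMap P (Localization.AtPrime q) g ∈
        J.map (algebraMap P (Localization.AtPrime q)) :=
      h (Ideal.mem_map_of_mem _ (Ideal.subset_span hg))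
    obtain ⟨⟨⟨a, ha⟩, ⟨m, hm⟩⟩, h2⟩ :=
      (IsLocalization.mem_map_algebraMap_iff q.primeCompl (Localization.AtPrime q)).mp h1
    simp only at h2
    rw [← map_mul, IsLocalization.eq_iff_exists q.primeCompl] at h2
    obtain ⟨⟨m', hm'⟩, h3⟩ := h2
    simp only at h3
    refine ⟨m' * m, ?_, ?_⟩
    · intro hmem
      rcases hq.mem_or_mem hmem with h4 | h4
      · exact hm' h4
      · exact hm h4
    · have : m' * m * g = m' * a := by rw [← h3]; ring
      rw [this]
      exact J.mul_mem_left _ ha
  choose! v hv hvJ using hex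
  refine ⟨∏ g ∈ s, v g, ?_, ?_⟩
  · intro hmem
    obtain ⟨g, hg, hgq⟩ := (Ideal.IsPrime.prod_mem_iff).mp hmem
    exact hv g hg hgq
  · intro b hb
    induction hb using Submodule.span_induction with
    | mem x hx =>
      have hx' : x ∈ s := hx
      rw [← Finset.mul_prod_erase s v hx']
      have : (v x * ∏ g ∈ s.erase x, v g) * x = (∏ g ∈ s.erase x, v g) * (v x * x) := by ring
      rw [this]
      exact J.mul_mem_left _ (hvJ x hx')
    | zero => rw [mul_zero]; exact J.zero_mem
    | add x y _ _ hx hy => rw [mul_add]; exact J.add_mem hx hy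
    | smul a x _ hx =>
      rw [smul_eq_mul, mul_left_comm]
      exact J.mul_mem_left _ hx

variable {R : Type u} [CommRing R] (n : ℕ) (I : Ideal (MvPolynomial (Fin n) R))
  (q' : Ideal (MvPolynomial (Fin n) R)) [q'.IsPrime]
  (p : Ideal R) [p.IsPrime] (hp : p = q'.comap (C : R →+* MvPolynomial (Fin n) R))

/-- **Local structure.** `I` a finitely generated ideal of `R[x_1..x_n]`, `q' ⊇ I` a prime over `p`
such that `(R[x]/I)_{q'}` is flat over `R` and `I κ(p)[x]_{Q'}` is generated by a regular sequence.
Then there are `f_1..f_c ∈ I` and `h ∉ q'` with `h I ⊆ (f)` and all fibres of `R[x]/(f)` of local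
dimension `≤ n - c` on `D(h)`. -/
theorem exists_relGCI_nhd (hI : I.FG) (hIq : I ≤ q')
    (hflat : Module.Flat R (Localization.AtPrime q' ⧸
      I.map (algebraMap (MvPolynomial (Fin n) R) (Localization.AtPrime q'))))
    (hci : ∃ rs : List (Localization.AtPrime (primeOver q' p hp)),
      IsRegular (Localization.AtPrime (primeOver q' p hp)) rs ∧
      Ideal.ofList rs = (I.map (MvPolynomial.map (algebraMap R p.ResidueField))).map
        (algebraMap (MvPolynomial (Fin n) p.ResidueField)
          (Localization.AtPrime (primeOver q' p hp)))) :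
    ∃ (c : ℕ) (f : Fin c → MvPolynomial (Fin n) R) (h : MvPolynomial (Fin n) R),
      (∀ i, f i ∈ I) ∧ h ∉ q' ∧ (∀ b ∈ I, h * b ∈ Ideal.span (Set.range f)) ∧ c ≤ n ∧
      ∀ q : PrimeSpectrum (Synt.RelGCIRing R n c f),
        Ideal.Quotient.mk (Ideal.span (Set.range f)) h ∉ q.asIdeal →
        fibreDimAt (Spec.map (CommRingCat.ofHom (algebraMap R (Synt.RelGCIRing R n c f)))) q ≤
          ((n - c : ℕ) : WithBot ℕ∞) := by
  classical
  obtain ⟨rs, hreg, hrs⟩ := hci
  obtain ⟨c, f, hfI, hfreg, hfmap⟩ := exists_regular_lift I q' p hp rs hreg hrs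
  have hJI : Ideal.span (Set.range f) ≤ I := by
    rw [Ideal.span_le]; rintro _ ⟨i, rfl⟩; exact hfI i
  have hfq : Ideal.span (Set.range f) ≤ q' := hJI.trans hIq
  obtain ⟨hcn, hdim⟩ := Groth.Agent.LibRelGCIPoint29.fibreDimAt_of_regular R n c f q' hfq p hp
    hfreg.toIsWeaklyRegular
  have hopen := Groth.Agent.LibRelGCIAway29.isOpen_fibreDim_le R n c f
  have hmem : Groth.Agent.LibRelGCIPoint29.pt R n c f q' hfq ∈
      {q : PrimeSpectrum (Synt.RelGCIRing R n c f) |
        fibreDimAt (Spec.map (CommRingCat.ofHom (algebraMap R (Synt.RelGCIRing R n c f)))) q ≤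
          ((n - c : ℕ) : WithBot ℕ∞)} := le_of_eq hdim
  obtain ⟨_, ⟨_, ⟨g₂, rfl⟩, rfl⟩, hg₂mem, hg₂sub⟩ :=
    PrimeSpectrum.isBasis_basic_opens.exists_subset_of_mem_open hmem hopen
  obtain ⟨h₂, rfl⟩ := Ideal.Quotient.mk_surjective g₂
  have hh₂ : h₂ ∉ q' := by
    intro hmem'
    apply hg₂mem
    exact Ideal.mem_map_of_mem _ hmem'
  have hJmapι : (Ideal.span (Set.range f)).map (MvPolynomial.map (algebraMap R p.ResidueField)) =
      Ideal.span (Set.range (Fbar p.ResidueField f)) := by
    rw [Ideal.map_span, ← Set.range_comp]; rfl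
  have hle := map_le_map_of_flat I (Ideal.span (Set.range f)) q' p hp hJI hI hflat
    (by rw [hJmapι]; exact hfmap)
  obtain ⟨h₁, hh₁, hmul⟩ := exists_mul_mem_of_map_le I (Ideal.span (Set.range f)) q' hI hle
  refine ⟨c, f, h₁ * h₂, hfI, ?_, ?_, hcn, ?_⟩
  · intro hmem'
    rcases (inferInstance : q'.IsPrime).mem_or_mem hmem' with h4 | h4
    · exact hh₁ h4
    · exact hh₂ h4
  · intro b hb
    have : h₁ * h₂ * b = h₂ * (h₁ * b) := by ring
    rw [this]
    exact Ideal.mul_mem_left _ _ (hmul b hb)
  · intro q hq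
    apply hg₂sub
    change Ideal.Quotient.mk _ h₂ ∉ q.asIdeal
    intro hmem'
    apply hq
    rw [map_mul]
    exact Ideal.mul_mem_left _ _ hmem'

end Main

section Away

variable {R : Type u} [CommRing R] {n c : ℕ} (f : Fin c → MvPolynomial (Fin n) R)
  (I : Ideal (MvPolynomial (Fin n) R)) (hJI : Ideal.span (Set.range f) ≤ I)
  (h : MvPolynomial (Fin n) R) (hmul : ∀ b ∈ I, h * b ∈ Ideal.span (Set.range f))

include hmul in
/-- if `h I ⊆ J ⊆ I` then `(P/I)_h` is the localization of `P/J` away from `h`. -/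
lemma isLocalization_away_of_mul_mem :
    @IsLocalization.Away (MvPolynomial (Fin n) R ⧸ Ideal.span (Set.range f)) _
      (Ideal.Quotient.mk (Ideal.span (Set.range f)) h)
      (Localization.Away (Ideal.Quotient.mk I h)) _
      ((algebraMap (MvPolynomial (Fin n) R ⧸ I) (Localization.Away (Ideal.Quotient.mk I h))).comp
        (Ideal.Quotient.factor hJI)).toAlgebra := by
  letI : Algebra (MvPolynomial (Fin n) R ⧸ Ideal.span (Set.range f))
      (Localization.Away (Ideal.Quotient.mk I h)) :=
    ((algebraMap (MvPolynomial (Fin n) R ⧸ I) (Localization.Away (Ideal.Quotient.mk I h))).comp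
      (Ideal.Quotient.factor hJI)).toAlgebra
  have halg : ∀ a : MvPolynomial (Fin n) R,
      algebraMap (MvPolynomial (Fin n) R ⧸ Ideal.span (Set.range f))
        (Localization.Away (Ideal.Quotient.mk I h)) (Ideal.Quotient.mk _ a) =
      algebraMap (MvPolynomial (Fin n) R ⧸ I) (Localization.Away (Ideal.Quotient.mk I h))
        (Ideal.Quotient.mk I a) := fun a => rfl
  refine IsLocalization.Away.mk _ ?_ ?_ ?_
  · rw [halg]
    exact IsLocalization.Away.algebraMap_isUnit _
  · intro z
    obtain ⟨k, a, hka⟩ := IsLocalization.Away.surj (Ideal.Quotient.mk I h) z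
    obtain ⟨a, rfl⟩ := Ideal.Quotient.mk_surjective a
    refine ⟨k, Ideal.Quotient.mk _ a, ?_⟩
    rw [halg, halg]
    exact hka
  · intro a b hab
    obtain ⟨a, rfl⟩ := Ideal.Quotient.mk_surjective a
    obtain ⟨b, rfl⟩ := Ideal.Quotient.mk_surjective b
    rw [halg, halg] at hab
    obtain ⟨k, hk⟩ := IsLocalization.Away.exists_of_eq (Ideal.Quotient.mk I h) hab
    refine ⟨k + 1, ?_⟩
    rw [← map_pow, ← map_mul, ← map_mul, Ideal.Quotient.eq] at hk ⊢
    have : h ^ (k + 1) * a - h ^ (k + 1) * b = h * (h ^ k * a - h ^ k * b) := by ring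
    rw [this]
    exact hmul _ hk

include hmul hJI in
theorem nonempty_away_equiv :
    Nonempty (Localization.Away (Ideal.Quotient.mk I h) ≃ₐ[R]
      Synt.RelGCIRing R (n + 1) (c + 1) (Groth.Agent.LibAwayPres29.eqsPlus f h)) := by
  letI : Algebra (MvPolynomial (Fin n) R ⧸ Ideal.span (Set.range f))
      (Localization.Away (Ideal.Quotient.mk I h)) :=
    ((algebraMap (MvPolynomial (Fin n) R ⧸ I) (Localization.Away (Ideal.Quotient.mk I h))).comp
      (Ideal.Quotient.factor hJI)).toAlgebra
  haveI : IsScalarTower R (MvPolynomial (Fin n) R ⧸ Ideal.span (Set.range f))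
      (Localization.Away (Ideal.Quotient.mk I h)) :=
    ⟨fun r x y => by
      rw [Algebra.smul_def (r • x) y, Algebra.smul_def x y, Algebra.smul_def r x, map_mul,
        Algebra.smul_def r (_ * y), mul_assoc]
      congr 1⟩
  haveI := isLocalization_away_of_mul_mem f I hJI h hmul
  let e1 : Localization.Away (Ideal.Quotient.mk (Ideal.span (Set.range f)) h)
      ≃ₐ[MvPolynomial (Fin n) R ⧸ Ideal.span (Set.range f)]
      Localization.Away (Ideal.Quotient.mk I h) :=
    IsLocalization.algEquiv (Submonoid.powers (Ideal.Quotient.mk (Ideal.span (Set.range f)) h)) _ _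
  exact ⟨(e1.restrictScalars R).symm.trans (Groth.Agent.LibAwayPres29.awayEquiv f h)⟩

end Away

end Groth.Agent.LibSyntLocal29
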