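import Mathlib
import Groth.Prelude.Def_RegImm
import Groth.Prelude.Def_Flat
import Groth.Agent.LibSyntLocal29
import Groth.Agent.LibSyntTransport29
import Groth.Agent.Lib.Helper17.CIField7

/-!
# helper29: transport lemmas for presentations, localizations and fibres
-/

set_option autoImplicit false
set_option linter.style.haveILetI false
set_option linter.unusedSectionVars false

namespace Groth.Agent.LibSyntPres29

universe u

open MvPolynomial RingTheory.Sequence IsLocalRing Groth.Agent.LibRelGCI29

section Generic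

variable {R : Type u} [CommRing R]

lemma exists_pres (A B : Type u) [CommRing A] [CommRing B] [Algebra A B]
    [hfp : Algebra.FinitePresentation A B] :
    ∃ (n c : ℕ) (G : Fin c → MvPolynomial (Fin n) A),
      Nonempty (Synt.RelGCIRing A n c G ≃ₐ[A] B) := by
  classical
  obtain ⟨n, φ, hφ, hker⟩ := hfp
  obtain ⟨s, hs⟩ := hker
  refine ⟨n, s.card, fun i => (s.equivFin.symm i).1, ?_⟩
  have hrange : Set.range (fun i => ((s.equivFin.symm i).1 : MvPolynomial (Fin n) A)) =
      (s : Set _) := by
    ext x
    constructor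
    · rintro ⟨i, rfl⟩; exact (s.equivFin.symm i).2
    · intro hx; exact ⟨s.equivFin ⟨x, hx⟩, by simp⟩
  have hI : Ideal.span (Set.range (fun i => ((s.equivFin.symm i).1 : MvPolynomial (Fin n) A))) =
      RingHom.ker φ := by
    rw [hrange]; exact hs
  exact ⟨(Ideal.quotientEquivAlgOfEq A hI).trans (Ideal.quotientKerAlgEquivOfSurjective hφ)⟩

/-- `(S_g)_{𝔮₂} ≃ S_{𝔮₂ ∩ S}` over `R`. -/
noncomputable def atPrimeAwayEquiv {S : Type u} [CommRing S] [Algebra R S] (g : S)
    (𝔮₂ : Ideal (Localization.Away g)) [𝔮₂.IsPrime] :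
    Localization.AtPrime 𝔮₂ ≃ₐ[R]
      Localization.AtPrime (𝔮₂.comap (algebraMap S (Localization.Away g))) :=
  haveI : IsLocalization.AtPrime (Localization.AtPrime 𝔮₂)
      (𝔮₂.comap (algebraMap S (Localization.Away g))) :=
    IsLocalization.isLocalization_isLocalization_atPrime_isLocalization (Submonoid.powers g)
      (Localization.AtPrime 𝔮₂) 𝔮₂
  (IsLocalization.algEquiv (𝔮₂.comap (algebraMap S (Localization.Away g))).primeCompl
    (Localization.AtPrime 𝔮₂)
    (Localization.AtPrime (𝔮₂.comap (algebraMap S (Localization.Away g))))).restrictScalars R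

theorem map_primeCompl_comap {A B : Type u} [CommRing A] [CommRing B] [Algebra R A]
    [Algebra R B] (e : A ≃ₐ[R] B) (𝔮 : Ideal B) [𝔮.IsPrime] :
    Submonoid.map e (𝔮.comap (e : A →+* B)).primeCompl = 𝔮.primeCompl := by
  ext x
  constructor
  · rintro ⟨y, hy, rfl⟩
    exact fun h => hy h
  · intro hx
    refine ⟨e.symm x, ?_, by simp⟩
    intro h
    apply hx
    have h' : (e : A →+* B) (e.symm x) ∈ 𝔮 := h
    simpa using h'

/-- localizations at corresponding primes of isomorphic algebras. -/
noncomputable def atPrimeEquivOfAlgEquiv {A B : Type u} [CommRing A] [CommRing B] [Algebra R A]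
    [Algebra R B] (e : A ≃ₐ[R] B) (𝔮 : Ideal B) [𝔮.IsPrime] :
    Localization.AtPrime (𝔮.comap (e : A →+* B)) ≃ₐ[R] Localization.AtPrime 𝔮 :=
  IsLocalization.algEquivOfAlgEquiv (M := (𝔮.comap (e : A →+* B)).primeCompl)
    (T := 𝔮.primeCompl) (Localization.AtPrime (𝔮.comap (e : A →+* B)))
    (Localization.AtPrime 𝔮) e (map_primeCompl_comap e 𝔮)

variable {P : Type u} [CommRing P] [Algebra R P] (I : Ideal P) (q₀ : Ideal (P ⧸ I)) [q₀.IsPrime]

/-- the local surjection `P_{q'} → (P/I)_{q₀}` as an `R`-algebra map. -/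
noncomputable def locHomₐ :
    Localization.AtPrime (q₀.comap (Ideal.Quotient.mk I)) →ₐ[R] Localization.AtPrime q₀ :=
  { Localization.localRingHom (q₀.comap (Ideal.Quotient.mk I)) q₀ (Ideal.Quotient.mk I) rfl with
    commutes' := by
      intro c
      change Localization.localRingHom (q₀.comap (Ideal.Quotient.mk I)) q₀ (Ideal.Quotient.mk I) rfl
        (algebraMap R (Localization.AtPrime (q₀.comap (Ideal.Quotient.mk I))) c) = _
      rw [IsScalarTower.algebraMap_apply R P (Localization.AtPrime (q₀.comap (Ideal.Quotient.mk I))),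
        Localization.localRingHom_to_map,
        IsScalarTower.algebraMap_apply R (P ⧸ I) (Localization.AtPrime q₀)]
      rfl }

theorem locHomₐ_surjective : Function.Surjective (locHomₐ (R := R) I q₀) :=
  RingHom.surjective_localRingHom_of_surjective (Ideal.Quotient.mk I)
    Ideal.Quotient.mk_surjective q₀

theorem ker_locHomₐ : RingHom.ker (locHomₐ (R := R) I q₀).toRingHom =
    I.map (algebraMap P (Localization.AtPrime (q₀.comap (Ideal.Quotient.mk I)))) := by
  have hT : Submonoid.map (Ideal.Quotient.mk I) (q₀.comap (Ideal.Quotient.mk I)).primeCompl =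
      q₀.primeCompl :=
    Submonoid.map_comap_eq_of_surjective Ideal.Quotient.mk_surjective q₀.primeCompl
  have := IsLocalization.ker_map (M := (q₀.comap (Ideal.Quotient.mk I)).primeCompl)
    (S := Localization.AtPrime (q₀.comap (Ideal.Quotient.mk I))) (Localization.AtPrime q₀)
    (Ideal.Quotient.mk I) hT
  rw [Ideal.mk_ker] at this
  exact this

/-- `P_{q'} / I P_{q'} ≃ (P/I)_{q₀}` over `R`. -/
noncomputable def locQuotEquiv :
    (Localization.AtPrime (q₀.comap (Ideal.Quotient.mk I)) ⧸
      I.map (algebraMap P (Localization.AtPrime (q₀.comap (Ideal.Quotient.mk I))))) ≃ₐ[R]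
      Localization.AtPrime q₀ :=
  (Ideal.quotientEquivAlgOfEq R (ker_locHomₐ (R := R) I q₀).symm).trans
    (Ideal.quotientKerAlgEquivOfSurjective (locHomₐ_surjective (R := R) I q₀))

end Generic

end Groth.Agent.LibSyntPres29
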