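import Mathlib
import Groth.Prelude.Def_RegImm
import Groth.Prelude.Def_Flat
import Groth.Agent.LibSyntPres29

/-!
# helper29: a flat finitely presented algebra with a complete intersection fibre local ring is,
near the point, a relative global complete intersection
-/

set_option autoImplicit false
set_option linter.style.haveILetI false
set_option linter.unusedSectionVars false

namespace Groth.Agent.LibSyntKey29

universe u

open MvPolynomial RingTheory.Sequence IsLocalRing Groth.Agent.LibRelGCI29 TensorProduct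
open Groth.Agent.LibSyntPres29 Groth.Agent.LibSyntLocal29 Groth.Agent.Lib.helper17.CIField

section Unique

variable {R : Type u} [CommRing R] {n : ℕ} (q' : Ideal (MvPolynomial (Fin n) R)) [q'.IsPrime]
  (p : Ideal R) [p.IsPrime]

lemma mem_iff_of_comap_eq (Q' : Ideal (MvPolynomial (Fin n) p.ResidueField)) [Q'.IsPrime]
    (hQ' : Q'.comap (MvPolynomial.map (algebraMap R p.ResidueField)) = q')
    (P : MvPolynomial (Fin n) p.ResidueField) :
    P ∈ Q' ↔ ∃ s ∈ p.primeCompl, ∃ P' ∈ q',
      MvPolynomial.map (algebraMap R p.ResidueField) P' = (algebraMap R p.ResidueField s) • P := by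
  constructor
  · intro hP
    obtain ⟨s, hs, P', hP'⟩ := exists_smul_eq_map p P
    refine ⟨s, hs, P', ?_, hP'⟩
    rw [← hQ', Ideal.mem_comap, hP', MvPolynomial.smul_eq_C_mul]
    exact Q'.mul_mem_left _ hP
  · rintro ⟨s, hs, P', hP'q, hP'⟩
    have h1 : (algebraMap R p.ResidueField s) • P ∈ Q' := by
      rw [← hP', ← Ideal.mem_comap, hQ']
      exact hP'q
    have hne := algebraMap_ne_zero p hs
    have h2 : P = C (algebraMap R p.ResidueField s)⁻¹ * ((algebraMap R p.ResidueField s) • P) := by
      rw [MvPolynomial.smul_eq_C_mul, ← mul_assoc, ← map_mul, inv_mul_cancel₀ hne, map_one, one_mul]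
    rw [h2]
    exact Q'.mul_mem_left _ h1

variable (hp : p = q'.comap (C : R →+* MvPolynomial (Fin n) R))

/-- the prime of `κ(p)[x]` over `q'` is unique. -/
lemma eq_primeOver (Q' : Ideal (MvPolynomial (Fin n) p.ResidueField)) [Q'.IsPrime]
    (hQ' : Q'.comap (MvPolynomial.map (algebraMap R p.ResidueField)) = q') :
    Q' = primeOver q' p hp := by
  ext P
  rw [mem_iff_of_comap_eq q' p Q' hQ', mem_iff_of_comap_eq q' p (primeOver q' p hp)
    (comap_primeOver q' p hp)]

end Unique

section Transport

theorem isCIOver_atPrime_algEquiv_iff (k : Type u) [Field k] {A B : Type u} [CommRing A]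
    [CommRing B] [Algebra k A] [Algebra k B] (e : A ≃ₐ[k] B) (𝔮 : Ideal B) [𝔮.IsPrime] :
    Synt.IsCIOver k (Localization.AtPrime (𝔮.comap (e : A →+* B))) ↔
      Synt.IsCIOver k (Localization.AtPrime 𝔮) :=
  ⟨isCIOver_of_algEquiv k _ _ (atPrimeEquivOfAlgEquiv e 𝔮),
    isCIOver_of_algEquiv k _ _ (atPrimeEquivOfAlgEquiv e 𝔮).symm⟩

lemma exists_regular_congr_prime {P : Type u} [CommRing P] (J : Ideal P) {𝔮₁ 𝔮₂ : Ideal P}
    [𝔮₁.IsPrime] [𝔮₂.IsPrime] (h : 𝔮₁ = 𝔮₂) :
    (∃ rs : List (Localization.AtPrime 𝔮₁), IsRegular (Localization.AtPrime 𝔮₁) rs ∧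
      Ideal.ofList rs = J.map (algebraMap P (Localization.AtPrime 𝔮₁))) ↔
    (∃ rs : List (Localization.AtPrime 𝔮₂), IsRegular (Localization.AtPrime 𝔮₂) rs ∧
      Ideal.ofList rs = J.map (algebraMap P (Localization.AtPrime 𝔮₂))) := by
  subst h
  rfl

lemma flat_atPrime_congr {R S : Type u} [CommRing R] [CommRing S] [Algebra R S] {𝔮₁ 𝔮₂ : Ideal S}
    [𝔮₁.IsPrime] [𝔮₂.IsPrime] (h : 𝔮₁ = 𝔮₂) :
    Module.Flat R (Localization.AtPrime 𝔮₁) ↔ Module.Flat R (Localization.AtPrime 𝔮₂) := by
  subst h
  rfl

end Transport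

section CIpt

variable (R : Type u) [CommRing R] (n c : ℕ) (G : Fin c → MvPolynomial (Fin n) R)
  {T : Type u} [CommRing T] [Algebra R T] (e : Synt.RelGCIRing R n c G ≃ₐ[R] T)
  (p : Ideal R) [p.IsPrime]
  (qT : Ideal T) [qT.IsPrime]
  (hp : p = ((qT.comap (e : Synt.RelGCIRing R n c G →+* T)).comap
    (Ideal.Quotient.mk (Ideal.span (Set.range G)))).comap (C : R →+* MvPolynomial (Fin n) R))
  (QT : Ideal (p.Fiber T)) [QT.IsPrime]
  (hQT : QT.comap (Algebra.TensorProduct.includeRight.toRingHom) = qT)

lemma map_span_range_eq :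
    (Ideal.span (Set.range G)).map (MvPolynomial.map (algebraMap R p.ResidueField)) =
      Ideal.span (Set.range (Fbar p.ResidueField G)) := by
  rw [Ideal.map_span]
  congr 1
  ext x
  simp only [Set.mem_image, Set.mem_range, exists_exists_eq_and, Fbar]

/-- `κ(p) ⊗ T ≃ κ(p)[x]/(Ḡ)` for `T ≃ R[x]/(G)`. -/
noncomputable def fibreEquiv :
    p.Fiber T ≃ₐ[p.ResidueField]
      MvPolynomial (Fin n) p.ResidueField ⧸ Ideal.span (Set.range (Fbar p.ResidueField G)) :=
  (Algebra.TensorProduct.congr (AlgEquiv.refl : p.ResidueField ≃ₐ[p.ResidueField] p.ResidueField)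
    e.symm).trans (tensorEquiv p.ResidueField G)

lemma fibreEquiv_symm_mk (P : MvPolynomial (Fin n) R) :
    (fibreEquiv R n c G e p).symm
      (Ideal.Quotient.mk _ (MvPolynomial.map (algebraMap R p.ResidueField) P)) =
      (1 : p.ResidueField) ⊗ₜ[R] e (Ideal.Quotient.mk (Ideal.span (Set.range G)) P) := by
  rw [AlgEquiv.symm_apply_eq]
  simp only [fibreEquiv, AlgEquiv.trans_apply, Algebra.TensorProduct.congr_apply,
    Algebra.TensorProduct.map_tmul]
  have h1 : ((AlgEquiv.refl : p.ResidueField ≃ₐ[p.ResidueField] p.ResidueField) :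
      p.ResidueField →ₐ[p.ResidueField] p.ResidueField) 1 = 1 := map_one _
  have h2 : ((e.symm : T ≃ₐ[R] Synt.RelGCIRing R n c G) : T →ₐ[R] Synt.RelGCIRing R n c G)
      (e (Ideal.Quotient.mk (Ideal.span (Set.range G)) P)) =
      Ideal.Quotient.mk (Ideal.span (Set.range G)) P := e.symm_apply_apply _
  rw [h1, h2, tensorEquiv_tmul, one_smul]

include hQT in
/-- the fibre local ring at a point of `T ≃ R[x]/(G)` is a complete intersection iff the reduced
equations are generated by a regular sequence in `κ(p)[x]` localized at the point. -/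
theorem isCIOver_fibre_iff :
    Synt.IsCIOver p.ResidueField (Localization.AtPrime QT) ↔
      ∃ rs : List (Localization.AtPrime
          (primeOver ((qT.comap (e : Synt.RelGCIRing R n c G →+* T)).comap
            (Ideal.Quotient.mk (Ideal.span (Set.range G)))) p hp)),
        IsRegular (Localization.AtPrime
          (primeOver ((qT.comap (e : Synt.RelGCIRing R n c G →+* T)).comap
            (Ideal.Quotient.mk (Ideal.span (Set.range G)))) p hp)) rs ∧
        Ideal.ofList rs = ((Ideal.span (Set.range G)).map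
          (MvPolynomial.map (algebraMap R p.ResidueField))).map
            (algebraMap (MvPolynomial (Fin n) p.ResidueField) (Localization.AtPrime
              (primeOver ((qT.comap (e : Synt.RelGCIRing R n c G →+* T)).comap
                (Ideal.Quotient.mk (Ideal.span (Set.range G)))) p hp))) := by
  set E := fibreEquiv R n c G e p with hE
  rw [← isCIOver_atPrime_algEquiv_iff p.ResidueField E.symm QT]
  set Q₅ : Ideal (MvPolynomial (Fin n) p.ResidueField ⧸
    Ideal.span (Set.range (Fbar p.ResidueField G))) := QT.comap (E.symm : _ →+* _) with hQ₅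
  have hsurj : Function.Surjective (Ideal.Quotient.mkₐ p.ResidueField
      (Ideal.span (Set.range (Fbar p.ResidueField G)))) := Ideal.Quotient.mkₐ_surjective _ _
  rw [isCIOver_atPrime_iff p.ResidueField (Ideal.Quotient.mkₐ p.ResidueField
    (Ideal.span (Set.range (Fbar p.ResidueField G)))) hsurj Q₅
    (Q₅.comap (Ideal.Quotient.mkₐ p.ResidueField
      (Ideal.span (Set.range (Fbar p.ResidueField G)))).toRingHom) rfl]
  have hker : RingHom.ker (Ideal.Quotient.mkₐ p.ResidueField
      (Ideal.span (Set.range (Fbar p.ResidueField G)))).toRingHom =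
      (Ideal.span (Set.range G)).map (MvPolynomial.map (algebraMap R p.ResidueField)) := by
    rw [map_span_range_eq]
    exact Ideal.mk_ker
  rw [hker]
  apply exists_regular_congr_prime
  apply eq_primeOver
  ext P
  have key : E.symm (Ideal.Quotient.mk _ (MvPolynomial.map (algebraMap R p.ResidueField) P)) ∈ QT ↔
      e (Ideal.Quotient.mk (Ideal.span (Set.range G)) P) ∈ qT := by
    rw [hE, fibreEquiv_symm_mk, ← hQT, Ideal.mem_comap]
    rfl
  exact key

end CIpt

section Key

/-- `A_a ≃ B_{e a}` for an algebra isomorphism `e : A ≃ B`. -/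
noncomputable def awayEquivOfAlgEquiv {R A B : Type u} [CommRing R] [CommRing A] [CommRing B]
    [Algebra R A] [Algebra R B] (e : A ≃ₐ[R] B) (a : A) :
    Localization.Away a ≃ₐ[R] Localization.Away (e a) :=
  IsLocalization.algEquivOfAlgEquiv (M := Submonoid.powers a) (T := Submonoid.powers (e a))
    (Localization.Away a) (Localization.Away (e a)) e (by rw [Submonoid.map_powers])

variable (R T : Type u) [CommRing R] [CommRing T] [Algebra R T]

/-- **Key theorem.** A finitely presented `R`-algebra `T`, flat at a prime `qT`, whose fibre local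
ring at the corresponding point is a complete intersection, is a relative global complete
intersection on a basic open neighbourhood of `qT`. -/
theorem exists_away_relGCI [Algebra.FinitePresentation R T]
    (p : Ideal R) [p.IsPrime] (qT : Ideal T) [qT.IsPrime] [qT.LiesOver p]
    (QT : Ideal (p.Fiber T)) [QT.IsPrime]
    (hQT : QT.comap (Algebra.TensorProduct.includeRight.toRingHom) = qT)
    (hflat : Module.Flat R (Localization.AtPrime qT))
    (hci : Synt.IsCIOver p.ResidueField (Localization.AtPrime QT)) :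
    ∃ h : T, h ∉ qT ∧ ∃ (n c : ℕ) (F : Fin c → MvPolynomial (Fin n) R), Synt.IsRelGCI R n c F ∧
      Nonempty (Localization.Away h ≃ₐ[R] Synt.RelGCIRing R n c F) := by
  obtain ⟨n, c, G, ⟨e⟩⟩ := exists_pres R T
  have hp : p = ((qT.comap (e : Synt.RelGCIRing R n c G →+* T)).comap
      (Ideal.Quotient.mk (Ideal.span (Set.range G)))).comap (C : R →+* MvPolynomial (Fin n) R) := by
    rw [Ideal.LiesOver.over (p := p) (P := qT)]
    ext r
    have h1 : e (Ideal.Quotient.mk (Ideal.span (Set.range G)) (C r)) = algebraMap R T r := by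
      have : Ideal.Quotient.mk (Ideal.span (Set.range G)) (C r) =
          algebraMap R (Synt.RelGCIRing R n c G) r := rfl
      rw [this, e.commutes]
    change algebraMap R T r ∈ qT ↔ e (Ideal.Quotient.mk (Ideal.span (Set.range G)) (C r)) ∈ qT
    rw [h1]
  have hIq : Ideal.span (Set.range G) ≤ (qT.comap (e : Synt.RelGCIRing R n c G →+* T)).comap
      (Ideal.Quotient.mk (Ideal.span (Set.range G))) := by
    intro x hx
    rw [Ideal.mem_comap, Ideal.Quotient.eq_zero_iff_mem.mpr hx]
    exact Ideal.zero_mem _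
  have hIfg : (Ideal.span (Set.range G)).FG := Submodule.fg_span (Set.finite_range G)
  have hflat' : Module.Flat R (Localization.AtPrime
      ((qT.comap (e : Synt.RelGCIRing R n c G →+* T)).comap
        (Ideal.Quotient.mk (Ideal.span (Set.range G)))) ⧸
      (Ideal.span (Set.range G)).map (algebraMap (MvPolynomial (Fin n) R) (Localization.AtPrime
        ((qT.comap (e : Synt.RelGCIRing R n c G →+* T)).comap
          (Ideal.Quotient.mk (Ideal.span (Set.range G))))))) :=
    Module.Flat.of_linearEquiv
      ((locQuotEquiv (R := R) (Ideal.span (Set.range G))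
        (qT.comap (e : Synt.RelGCIRing R n c G →+* T))).trans
        (atPrimeEquivOfAlgEquiv e qT)).toLinearEquiv
  have hci' := (isCIOver_fibre_iff R n c G e p qT hp QT hQT).mp hci
  obtain ⟨c', f, h, hfI, hhq, hmul, hcn, hdim⟩ :=
    exists_relGCI_nhd n (Ideal.span (Set.range G)) _ p hp hIfg hIq hflat' hci'
  have hJI : Ideal.span (Set.range f) ≤ Ideal.span (Set.range G) := by
    rw [Ideal.span_le]; rintro _ ⟨i, rfl⟩; exact hfI i
  obtain ⟨e'⟩ := nonempty_away_equiv f (Ideal.span (Set.range G)) hJI h hmul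
  refine ⟨e (Ideal.Quotient.mk (Ideal.span (Set.range G)) h), hhq, n + 1, c' + 1,
    Groth.Agent.LibAwayPres29.eqsPlus f h,
    Groth.Agent.LibRelGCIAway29.isRelGCI_eqsPlus R n c' f hcn h hdim, ⟨?_⟩⟩
  exact (awayEquivOfAlgEquiv e (Ideal.Quotient.mk (Ideal.span (Set.range G)) h)).symm.trans e'

end Key

end Groth.Agent.LibSyntKey29
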