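import Mathlib
import Groth.Prelude.Def_RegImm
import Groth.Prelude.Def_Flat
import Groth.Prelude.Def_LCI2
import Groth.Agent.LibSyntKey29
import Groth.Agent.Lib.Helper17.LciFibre2

/-!
# helper29: a flat algebra with Koszul-regular presentation kernel is syntomic
-/

set_option autoImplicit false
set_option linter.style.haveILetI false
set_option linter.unusedSectionVars false

namespace Groth.Agent.LibSyntOfLCI29

universe u

open MvPolynomial RingTheory.Sequence IsLocalRing Groth.Agent.LibRelGCI29 TensorProduct
open Groth.Agent.LibSyntPres29 Groth.Agent.LibSyntLocal29 Groth.Agent.Lib.helper17.CIField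
open Groth.Agent.LibSyntKey29

section FG

variable {A : Type u} [CommRing A]

/-- a Koszul-regular ideal is finitely generated. -/
theorem fg_of_isKoszulRegularIdeal (J : Ideal A) (hJ : LCI.IsKoszulRegularIdeal J) : J.FG := by
  classical
  set t : Set A := {g | (J.map (algebraMap A (Localization.Away g))).FG} with ht
  have hspan : Ideal.span t = ⊤ := by
    by_contra hne
    obtain ⟨m, hm, hle⟩ := Ideal.exists_le_maximal _ hne
    by_cases hJm : J ≤ m
    · obtain ⟨g, hg, l, -, hl⟩ := hJ ⟨m, hm.isPrime⟩ hJm
      apply hg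
      apply hle
      apply Ideal.subset_span
      change (J.map (algebraMap A (Localization.Away g))).FG
      rw [hl]
      exact ⟨l.toFinset, by congr 1; ext x; simp⟩
    · obtain ⟨a, haJ, ham⟩ := SetLike.not_le_iff_exists.mp hJm
      apply ham
      apply hle
      apply Ideal.subset_span
      change (J.map (algebraMap A (Localization.Away a))).FG
      have : J.map (algebraMap A (Localization.Away a)) = ⊤ := by
        apply Ideal.eq_top_of_isUnit_mem _ (Ideal.mem_map_of_mem _ haJ)
        exact IsLocalization.Away.algebraMap_isUnit a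
      rw [this]
      exact ⟨{1}, by simp⟩
  exact Ideal.fg_of_localizationSpan t hspan (fun g => g.2)

end FG

section Local

open CAlgX Groth.Agent.Lib.helper17.H1Reg Groth.Agent.Lib.Helper24.FlatDepth
  Groth.Agent.Lib.helper17.LciFibre

variable (A : Type u) [CommRing A] (P : Type u) [CommRing P] [Algebra A P] (J : Ideal P)
  [Module.Flat A (P ⧸ J)] (p : Ideal A) [p.IsPrime] (Q : Ideal P) [Q.IsPrime] [Q.LiesOver p]

/-- (after helper17 `gor_fibLoc_quotient`) in the fibre local ring `P_Q/pP_Q`, a Koszul-regular
ideal with flat quotient is generated by a regular sequence. -/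
theorem exists_regular_fibLoc (hJQ : J ≤ Q) (g : P) (hg : g ∉ Q)
    (l : List (Localization.Away g)) (hl : LCI.IsKoszulRegularSeq (Localization.Away g) l)
    (hJl : J.map (algebraMap P (Localization.Away g)) = Ideal.span {x | x ∈ l})
    [IsNoetherianRing (FibLoc A P p Q)] :
    ∃ rs : List (FibLoc A P p Q), IsRegular (FibLoc A P p Q) rs ∧
      Ideal.ofList rs = J.map (algebraMap P (FibLoc A P p Q)) := by
  have hgu : IsUnit (algebraMap P (Localization.AtPrime Q) g) :=
    IsLocalization.map_units (Localization.AtPrime Q) (⟨g, hg⟩ : Q.primeCompl)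
  let φ : Localization.Away g →+* Localization.AtPrime Q := IsLocalization.Away.lift g hgu
  letI : Algebra (Localization.Away g) (Localization.AtPrime Q) := φ.toAlgebra
  haveI : IsScalarTower P (Localization.Away g) (Localization.AtPrime Q) :=
    IsScalarTower.of_algebraMap_eq (fun x => (IsLocalization.Away.lift_eq g hgu x).symm)
  haveI hloc : IsLocalization (Q.primeCompl.map (algebraMap P (Localization.Away g)))
      (Localization.AtPrime Q) :=
    IsLocalization.isLocalization_of_submonoid_le (Localization.Away g) (Localization.AtPrime Q)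
      (Submonoid.powers g) Q.primeCompl (Submonoid.powers_le.mpr hg)
  have h1 := Groth.Agent.Lib.helper7.KoszulLow.isH1Regular_of_isKoszulRegularSeq _ l hl
  have h2 := isH1Regular_localization (S := Localization.AtPrime Q)
    (Q.primeCompl.map (algebraMap P (Localization.Away g))) l.get h1
  set f' : Fin l.length → Localization.AtPrime Q :=
    fun i => algebraMap (Localization.Away g) (Localization.AtPrime Q) (l.get i) with hf'
  have hI : J.map (algebraMap P (Localization.AtPrime Q)) = Ideal.span (Set.range f') := by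
    rw [IsScalarTower.algebraMap_eq P (Localization.Away g) (Localization.AtPrime Q),
      ← Ideal.map_map, hJl, Ideal.map_span]
    congr 1
    ext y
    constructor
    · rintro ⟨x, hx, rfl⟩
      obtain ⟨i, rfl⟩ := List.mem_iff_get.mp hx
      exact ⟨i, rfl⟩
    · rintro ⟨i, rfl⟩
      exact ⟨l.get i, List.get_mem l i, rfl⟩
  -- flatness of `P_Q / J P_Q` over `A`
  haveI hfl0 : Module.Flat (P ⧸ J)
      (Localization.AtPrime Q ⧸ J.map (algebraMap P (Localization.AtPrime Q))) :=
    IsLocalization.flat _ (Algebra.algebraMapSubmonoid (P ⧸ J) Q.primeCompl)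
  haveI : IsScalarTower A (P ⧸ J)
      (Localization.AtPrime Q ⧸ J.map (algebraMap P (Localization.AtPrime Q))) :=
    IsScalarTower.of_algebraMap_eq (fun a => by
      rw [IsScalarTower.algebraMap_apply A P (P ⧸ J),
        IsScalarTower.algebraMap_apply A (Localization.AtPrime Q)
          (Localization.AtPrime Q ⧸ J.map (algebraMap P (Localization.AtPrime Q))),
        IsScalarTower.algebraMap_apply A P (Localization.AtPrime Q)]
      rfl)
  haveI hfl1 : Module.Flat A
      (Localization.AtPrime Q ⧸ J.map (algebraMap P (Localization.AtPrime Q))) :=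
    Module.Flat.trans A (P ⧸ J) _
  haveI hfl2 : Module.Flat A (Localization.AtPrime Q ⧸ Ideal.span (Set.range f')) := by
    rw [← hI]; exact hfl1
  have hIp : (p.map (algebraMap A P)).map (algebraMap P (Localization.AtPrime Q)) =
      p.map (algebraMap A (Localization.AtPrime Q)) := by
    rw [Ideal.map_map, ← IsScalarTower.algebraMap_eq]
  have h3 := isH1Regular_quotient_of_flat' (A := A) f' h2 p _ hIp
  set f'' : Fin l.length → FibLoc A P p Q := fun i => Ideal.Quotient.mk _ (f' i) with hf''
  have hmem : ∀ i, f'' i ∈ maximalIdeal (FibLoc A P p Q) := by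
    intro i
    have h4 : f' i ∈ maximalIdeal (Localization.AtPrime Q) := by
      have h5 : f' i ∈ J.map (algebraMap P (Localization.AtPrime Q)) := by
        rw [hI]; exact Ideal.subset_span ⟨i, rfl⟩
      rw [← Localization.AtPrime.map_eq_maximalIdeal]
      exact Ideal.map_mono hJQ h5
    rw [mem_maximalIdeal, mem_nonunits_iff] at h4 ⊢
    intro hu
    apply h4
    haveI : IsLocalHom (Ideal.Quotient.mk ((p.map (algebraMap A P)).map
        (algebraMap P (Localization.AtPrime Q)))) :=
      IsLocalHom.of_surjective _ Ideal.Quotient.mk_surjective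
    exact (isUnit_map_iff (Ideal.Quotient.mk _) (f' i)).1 hu
  have h6 : RingTheory.Sequence.IsRegular (FibLoc A P p Q) (List.ofFn f'') :=
    isRegular_of_isH1Regular f'' hmem h3
  have h8 : Ideal.ofList (List.ofFn f'') = J.map (algebraMap P (FibLoc A P p Q)) := by
    rw [Groth.Agent.Lib.helper17.H1Reg.ofList_ofFn]
    have : algebraMap P (FibLoc A P p Q) =
        (Ideal.Quotient.mk ((p.map (algebraMap A P)).map
          (algebraMap P (Localization.AtPrime Q)))).comp (algebraMap P (Localization.AtPrime Q)) :=
      rfl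
    rw [this, ← Ideal.map_map, hI, Ideal.map_span]
    congr 1
    ext y
    constructor
    · rintro ⟨i, rfl⟩
      exact ⟨f' i, ⟨i, rfl⟩, rfl⟩
    · rintro ⟨x, ⟨i, rfl⟩, rfl⟩
      exact ⟨i, rfl⟩
  exact ⟨_, h6, h8⟩

end Local

section Poly

open Groth.Agent.Lib.Helper24.FlatDepth

lemma isRegular_map_ringEquiv {A B : Type u} [CommRing A] [CommRing B] (e : A ≃+* B)
    (rs : List A) : IsRegular A rs ↔ IsRegular B (rs.map e) :=
  e.toAddEquiv.isRegular_congr <| List.forall₂_map_right_iff.mpr <|
    List.forall₂_same.mpr fun r _ x => map_mul e r x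

variable (R : Type u) [CommRing R] (n : ℕ) (J : Ideal (MvPolynomial (Fin n) R))
  [Module.Flat R (MvPolynomial (Fin n) R ⧸ J)] (hK : LCI.IsKoszulRegularIdeal J)
  (q' : Ideal (MvPolynomial (Fin n) R)) [q'.IsPrime] (hJq : J ≤ q')
  (p : Ideal R) [p.IsPrime] (hp : p = q'.comap (C : R →+* MvPolynomial (Fin n) R))

include hK hJq in
/-- in `κ(p)[x]` localized at the prime over `q'`, the extension of a Koszul-regular ideal with
flat quotient is generated by a regular sequence. -/
theorem exists_regular_primeOver :
    ∃ rs : List (Localization.AtPrime (primeOver q' p hp)),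
      IsRegular (Localization.AtPrime (primeOver q' p hp)) rs ∧
      Ideal.ofList rs = (J.map (MvPolynomial.map (algebraMap R p.ResidueField))).map
        (algebraMap (MvPolynomial (Fin n) p.ResidueField)
          (Localization.AtPrime (primeOver q' p hp))) := by
  haveI : q'.LiesOver p := ⟨hp⟩
  obtain ⟨θ, hθ⟩ := Groth.Agent.LibFibreLocEquiv29.exists_fibreLocEquiv q' p (primeOver q' p hp)
    (comap_primeOver q' p hp)
  have hideal : (p.map (algebraMap R (MvPolynomial (Fin n) R))).map
      (algebraMap (MvPolynomial (Fin n) R) (Localization.AtPrime q')) =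
      (p.map (C : R →+* MvPolynomial (Fin n) R)).map
        (algebraMap (MvPolynomial (Fin n) R) (Localization.AtPrime q')) := by
    rw [MvPolynomial.algebraMap_eq]
  obtain ⟨θ', hθ'⟩ : ∃ θ' : FibLoc R (MvPolynomial (Fin n) R) p q' ≃+*
      Localization.AtPrime (primeOver q' p hp), ∀ y : MvPolynomial (Fin n) R,
        θ' (algebraMap (MvPolynomial (Fin n) R) (FibLoc R (MvPolynomial (Fin n) R) p q') y) =
          algebraMap (MvPolynomial (Fin n) p.ResidueField)
            (Localization.AtPrime (primeOver q' p hp))
            (MvPolynomial.map (algebraMap R p.ResidueField) y) := by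
    refine ⟨(Ideal.quotEquivOfEq hideal).trans θ, fun y => ?_⟩
    rw [← hθ y]
    rfl
  clear hθ θ
  haveI : IsNoetherianRing (FibLoc R (MvPolynomial (Fin n) R) p q') :=
    isNoetherianRing_of_ringEquiv _ θ'.symm
  obtain ⟨g, hg, l, hl, hJl⟩ := hK ⟨q', inferInstance⟩ hJq
  obtain ⟨rs, hreg, hrs⟩ := exists_regular_fibLoc R (MvPolynomial (Fin n) R) J p q' hJq g hg l hl hJl
  have hreg' := (isRegular_map_ringEquiv θ' rs).mp hreg
  refine ⟨rs.map θ', hreg', ?_⟩
  have h1 : Ideal.ofList (rs.map θ') = (Ideal.ofList rs).map (θ' : FibLoc R (MvPolynomial (Fin n) R) p q' →+*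
      Localization.AtPrime (primeOver q' p hp)) := by
    exact (Ideal.map_ofList (θ' : FibLoc R (MvPolynomial (Fin n) R) p q' →+*
      Localization.AtPrime (primeOver q' p hp)) rs).symm
  have hcomp : (θ' : FibLoc R (MvPolynomial (Fin n) R) p q' →+*
      Localization.AtPrime (primeOver q' p hp)).comp
      (algebraMap (MvPolynomial (Fin n) R) (FibLoc R (MvPolynomial (Fin n) R) p q')) =
      (algebraMap (MvPolynomial (Fin n) p.ResidueField)
        (Localization.AtPrime (primeOver q' p hp))).comp
        (MvPolynomial.map (algebraMap R p.ResidueField)) :=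
    RingHom.ext fun y => hθ' y
  rw [h1, hrs, Ideal.map_map, hcomp]
  exact (Ideal.map_map _ _).symm

end Poly

section Main

variable (R S : Type u) [CommRing R] [CommRing S] [Algebra R S]

theorem isSyntomic_of_flat_of_isLCI (hfl : Module.Flat R S) (hlci : LCI.IsLCI R S) :
    Synt.IsSyntomic R S := by
  classical
  obtain ⟨hft, n, f, hsurj, hK⟩ := hlci
  have hJfg := fg_of_isKoszulRegularIdeal _ hK
  have hfp : Algebra.FinitePresentation R S := Algebra.FinitePresentation.of_surjective hsurj hJfg
  refine ⟨hfl, hfp, fun p => ?_⟩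
  obtain ⟨s, hs⟩ := hJfg
  set G : Fin s.card → MvPolynomial (Fin n) R := fun i => (s.equivFin.symm i).1 with hG
  have hrange : Set.range G = (s : Set _) := by
    ext x
    constructor
    · rintro ⟨i, rfl⟩; exact (s.equivFin.symm i).2
    · intro hx; exact ⟨s.equivFin ⟨x, hx⟩, by simp [hG]⟩
  have hI : Ideal.span (Set.range G) = RingHom.ker f.toRingHom := by
    rw [hrange]; exact hs
  let e : Synt.RelGCIRing R n s.card G ≃ₐ[R] S :=
    (Ideal.quotientEquivAlgOfEq R hI).trans (Ideal.quotientKerAlgEquivOfSurjective hsurj)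
  haveI : Module.Flat R (MvPolynomial (Fin n) R ⧸ Ideal.span (Set.range G)) :=
    Module.Flat.of_linearEquiv e.toLinearEquiv
  have hK' : LCI.IsKoszulRegularIdeal (Ideal.span (Set.range G)) := by rw [hI]; exact hK
  haveI : Algebra.FiniteType p.asIdeal.ResidueField (p.asIdeal.Fiber S) := inferInstance
  rw [isLCIOver_iff_forall_isCIOver]
  intro Q
  have hp : p.asIdeal = (((Q.asIdeal.comap (Algebra.TensorProduct.includeRight.toRingHom)).comap
      (e : Synt.RelGCIRing R n s.card G →+* S)).comap
      (Ideal.Quotient.mk (Ideal.span (Set.range G)))).comap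
      (C : R →+* MvPolynomial (Fin n) R) := by
    ext r
    rw [Ideal.ext_iff.mp (Ideal.over_def Q.asIdeal p.asIdeal) r]
    have h1 : e (Ideal.Quotient.mk (Ideal.span (Set.range G)) (C r)) = algebraMap R S r := by
      have : Ideal.Quotient.mk (Ideal.span (Set.range G)) (C r) =
          algebraMap R (Synt.RelGCIRing R n s.card G) r := rfl
      rw [this, e.commutes]
    have h2 : (Algebra.TensorProduct.includeRight : S →ₐ[R] p.asIdeal.Fiber S)
        (algebraMap R S r) = algebraMap R (p.asIdeal.Fiber S) r :=
      (Algebra.TensorProduct.includeRight : S →ₐ[R] p.asIdeal.Fiber S).commutes r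
    change algebraMap R (p.asIdeal.Fiber S) r ∈ Q.asIdeal ↔
      (Algebra.TensorProduct.includeRight : S →ₐ[R] p.asIdeal.Fiber S)
        (e (Ideal.Quotient.mk (Ideal.span (Set.range G)) (C r))) ∈ Q.asIdeal
    rw [h1, h2]
  have hJq : Ideal.span (Set.range G) ≤
      ((Q.asIdeal.comap (Algebra.TensorProduct.includeRight.toRingHom)).comap
      (e : Synt.RelGCIRing R n s.card G →+* S)).comap
      (Ideal.Quotient.mk (Ideal.span (Set.range G))) := by
    intro x hx
    rw [Ideal.mem_comap, Ideal.Quotient.eq_zero_iff_mem.mpr hx]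
    exact Ideal.zero_mem _
  exact (isCIOver_fibre_iff R n s.card G e p.asIdeal
    (Q.asIdeal.comap (Algebra.TensorProduct.includeRight.toRingHom)) hp Q.asIdeal rfl).mpr
    (exists_regular_primeOver R n (Ideal.span (Set.range G)) hK' _ hJq p.asIdeal hp)

end Main

end Groth.Agent.LibSyntOfLCI29
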