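import Mathlib
import Groth.Prelude.Def_RegImm
import Groth.Prelude.Def_LCI2
import Groth.Agent.LibSyntOfLCI29
import Groth.Agent.Lib.Helper24.SmoothRegular
import Groth.Agent.Lib.Helper17.CIField6

/-!
# Quotients of smooth algebras by Koszul-regular ideals with flat quotient are syntomic (helper29)

* `algEquivAux₂_includeRight` : Mathlib's `Ideal.Fiber.algEquivAux₂` is compatible with the maps
  from `S`.
* `isCIOver_atPrime_fiber_quotient` : `A → B` smooth, `J ⊆ B` a Koszul-regular ideal with `B/J`
  flat over `A`: all local rings of all fibres of `B/J` are complete intersections.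
* `isSyntomic_quotient_of_smooth` : then `B/J` is syntomic over `A`.
-/

set_option autoImplicit false
set_option linter.style.haveILetI false
set_option linter.unusedSectionVars false
universe u

namespace Groth.Agent.LibSyntSmoothQuot29

open Algebra TensorProduct RingTheory.Sequence IsLocalRing
open Groth.Agent.Lib.helper17.CIField Groth.Agent.LibSyntOfLCI29
open Groth.Agent.Lib.Helper24.FlatDepth

section Compat

variable {R S : Type u} [CommRing R] [CommRing S] [Algebra R S] (p : Ideal R) [p.IsPrime]

theorem algEquivAux₂_includeRight (q : Ideal (p.Fiber S)) [q.IsPrime] (s : S) :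
    Ideal.Fiber.algEquivAux₂ p q (algebraMap (p.Fiber S) (Localization.AtPrime q) (1 ⊗ₜ s)) =
      Ideal.Quotient.mk _ (algebraMap S (Localization.AtPrime (q.comap includeRight)) s) := by
  unfold Ideal.Fiber.algEquivAux₂
  simp only [AlgEquiv.trans_apply, AlgEquiv.restrictScalars_apply]
  letI : Algebra S (p.Fiber S) := rightAlgebra
  have h1 : (Localization.localAlgEquiv (Ideal.comap (Ideal.Fiber.algEquivAux₁ p).symm q) q
      (Ideal.Fiber.algEquivAux₁ p).symm rfl).symm
        ((algebraMap (p.Fiber S) (Localization.AtPrime q)) (1 ⊗ₜ[R] s)) =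
        algebraMap _ (Localization.AtPrime (Ideal.comap (Ideal.Fiber.algEquivAux₁ p).symm q))
          (Ideal.Fiber.algEquivAux₁ p (1 ⊗ₜ[R] s)) := by
    rw [AlgEquiv.symm_apply_eq]
    simp [Localization.localAlgEquiv, Localization.localRingHom_to_map]
  rw [h1]
  have h2 : Ideal.Fiber.algEquivAux₁ p ((1 : p.ResidueField) ⊗ₜ[R] s) = algebraMap S _ s := by
    rw [← AlgEquiv.commutes (Ideal.Fiber.algEquivAux₁ p) s]
    rfl
  rw [h2]
  have h3 : algebraMap S (Localization (algebraMapSubmonoid S p.primeCompl) ⧸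
      Ideal.map (algebraMap S (Localization (algebraMapSubmonoid S p.primeCompl)))
        (Ideal.map (algebraMap R S) p)) s =
      algebraMap (S ⧸ Ideal.map (algebraMap R S) p) _ (Ideal.Quotient.mk _ s) := rfl
  rw [h3, ← IsScalarTower.algebraMap_apply (S ⧸ Ideal.map (algebraMap R S) p), AlgEquiv.commutes]
  rfl

end Compat

section H1At

open CAlgX Groth.Agent.Lib.helper17.H1Reg Groth.Agent.Lib.helper17.LciFibre

variable {P : Type u} [CommRing P]

/-- `J` is generated at the prime `Q` by an `H_1`-regular sequence. -/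
def H1At (J Q : Ideal P) [Q.IsPrime] : Prop :=
  ∃ (m : ℕ) (f' : Fin m → Localization.AtPrime Q), CAlgX.IsH1Regular f' ∧
    J.map (algebraMap P (Localization.AtPrime Q)) = Ideal.span (Set.range f')

theorem h1At_of_isKoszulRegularSeq (l : List P) (hl : LCI.IsKoszulRegularSeq P l)
    (Q : Ideal P) [Q.IsPrime] : H1At (Ideal.ofList l) Q := by
  have h1 := Groth.Agent.Lib.helper7.KoszulLow.isH1Regular_of_isKoszulRegularSeq _ l hl
  have h2 := isH1Regular_localization (S := Localization.AtPrime Q) Q.primeCompl l.get h1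
  refine ⟨l.length, _, h2, ?_⟩
  rw [Ideal.ofList, Ideal.map_span]
  congr 1
  ext y
  constructor
  · rintro ⟨x, hx, rfl⟩
    obtain ⟨i, rfl⟩ := List.mem_iff_get.mp hx
    exact ⟨i, rfl⟩
  · rintro ⟨i, rfl⟩
    exact ⟨l.get i, List.get_mem l i, rfl⟩

theorem h1At_of_away (J Q : Ideal P) [Q.IsPrime] (g : P) (hg : g ∉ Q)
    (l : List (Localization.Away g)) (hl : LCI.IsKoszulRegularSeq (Localization.Away g) l)
    (hJl : J.map (algebraMap P (Localization.Away g)) = Ideal.span {x | x ∈ l}) : H1At J Q := by
  have hgu : IsUnit (algebraMap P (Localization.AtPrime Q) g) :=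
    IsLocalization.map_units (Localization.AtPrime Q) (⟨g, hg⟩ : Q.primeCompl)
  let φ : Localization.Away g →+* Localization.AtPrime Q := IsLocalization.Away.lift g hgu
  letI : Algebra (Localization.Away g) (Localization.AtPrime Q) := φ.toAlgebra
  haveI : IsScalarTower P (Localization.Away g) (Localization.AtPrime Q) :=
    IsScalarTower.of_algebraMap_eq (fun x => (IsLocalization.Away.lift_eq g hgu x).symm)
  haveI hloc : IsLocalization (Q.primeCompl.map (algebraMap P (Localization.Away g)))
      (Localization.AtPrime Q) :=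
    IsLocalization.isLocalization_of_submonoid_le (Localization.Away g) (Localization.AtPrime Q)
      (Submonoid.powers g) Q.primeCompl (Submonoid.powers_le.mpr hg)
  have h1 := Groth.Agent.Lib.helper7.KoszulLow.isH1Regular_of_isKoszulRegularSeq _ l hl
  have h2 := isH1Regular_localization (S := Localization.AtPrime Q)
    (Q.primeCompl.map (algebraMap P (Localization.Away g))) l.get h1
  refine ⟨l.length, _, h2, ?_⟩
  rw [IsScalarTower.algebraMap_eq P (Localization.Away g) (Localization.AtPrime Q),
    ← Ideal.map_map, hJl, Ideal.map_span]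
  congr 1
  ext y
  constructor
  · rintro ⟨x, hx, rfl⟩
    obtain ⟨i, rfl⟩ := List.mem_iff_get.mp hx
    exact ⟨i, rfl⟩
  · rintro ⟨i, rfl⟩
    exact ⟨l.get i, List.get_mem l i, rfl⟩

theorem h1At_of_isKoszulRegularIdeal (J : Ideal P) (hJ : LCI.IsKoszulRegularIdeal J)
    (Q : Ideal P) [Q.IsPrime] (hJQ : J ≤ Q) : H1At J Q := by
  obtain ⟨g, hg, l, hl, hJl⟩ := hJ ⟨Q, inferInstance⟩ hJQ
  exact h1At_of_away J Q g hg l hl hJl

variable (A : Type u) [CommRing A] [Algebra A P] (J : Ideal P)
  [Module.Flat A (P ⧸ J)] (p : Ideal A) [p.IsPrime] (Q : Ideal P) [Q.IsPrime] [Q.LiesOver p]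

/-- in the fibre local ring `P_Q/pP_Q`, an ideal with flat quotient which is generated at `Q` by an
`H_1`-regular sequence is generated by a regular sequence. -/
theorem exists_regular_fibLoc_of_h1At (hJQ : J ≤ Q) (h : H1At J Q)
    [IsNoetherianRing (FibLoc A P p Q)] :
    ∃ rs : List (FibLoc A P p Q), IsRegular (FibLoc A P p Q) rs ∧
      Ideal.ofList rs = J.map (algebraMap P (FibLoc A P p Q)) := by
  obtain ⟨m, f', h2, hI⟩ := h
  haveI hfl0 : Module.Flat (P ⧸ J)
      (Localization.AtPrime Q ⧸ J.map (algebraMap P (Localization.AtPrime Q))) :=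
    IsLocalization.flat _ (Algebra.algebraMapSubmonoid (P ⧸ J) Q.primeCompl)
  haveI : IsScalarTower A (P ⧸ J)
      (Localization.AtPrime Q ⧸ J.map (algebraMap P (Localization.AtPrime Q))) :=
    IsScalarTower.of_algebraMap_eq (fun a => by
      rw [IsScalarTower.algebraMap_apply A P (P ⧸ J),
        IsScalarTower.algebraMap_apply A (Localization.AtPrime Q)
          (Localization.AtPrime Q ⧸ J.map (algebraMap P (Localization.AtPrime Q))),
        IsScalarTower.algebraMap_apply A P (Localization.AtPrime Q)]
      rfl)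
  haveI hfl1 : Module.Flat A
      (Localization.AtPrime Q ⧸ J.map (algebraMap P (Localization.AtPrime Q))) :=
    Module.Flat.trans A (P ⧸ J) _
  haveI hfl2 : Module.Flat A (Localization.AtPrime Q ⧸ Ideal.span (Set.range f')) := by
    rw [← hI]; exact hfl1
  have hIp : (p.map (algebraMap A P)).map (algebraMap P (Localization.AtPrime Q)) =
      p.map (algebraMap A (Localization.AtPrime Q)) := by
    rw [Ideal.map_map, ← IsScalarTower.algebraMap_eq]
  have h3 := isH1Regular_quotient_of_flat' (A := A) f' h2 p _ hIp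
  set f'' : Fin m → FibLoc A P p Q := fun i => Ideal.Quotient.mk _ (f' i) with hf''
  have hmem : ∀ i, f'' i ∈ maximalIdeal (FibLoc A P p Q) := by
    intro i
    have h4 : f' i ∈ maximalIdeal (Localization.AtPrime Q) := by
      have h5 : f' i ∈ J.map (algebraMap P (Localization.AtPrime Q)) := by
        rw [hI]; exact Ideal.subset_span ⟨i, rfl⟩
      rw [← Localization.AtPrime.map_eq_maximalIdeal]
      exact Ideal.map_mono hJQ h5
    rw [mem_maximalIdeal, mem_nonunits_iff] at h4 ⊢
    intro hu
    apply h4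
    haveI : IsLocalHom (Ideal.Quotient.mk ((p.map (algebraMap A P)).map
        (algebraMap P (Localization.AtPrime Q)))) :=
      IsLocalHom.of_surjective _ Ideal.Quotient.mk_surjective
    exact (isUnit_map_iff (Ideal.Quotient.mk _) (f' i)).1 hu
  have h6 : RingTheory.Sequence.IsRegular (FibLoc A P p Q) (List.ofFn f'') :=
    isRegular_of_isH1Regular f'' hmem h3
  have h8 : Ideal.ofList (List.ofFn f'') = J.map (algebraMap P (FibLoc A P p Q)) := by
    rw [Groth.Agent.Lib.helper17.H1Reg.ofList_ofFn]
    have : algebraMap P (FibLoc A P p Q) =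
        (Ideal.Quotient.mk ((p.map (algebraMap A P)).map
          (algebraMap P (Localization.AtPrime Q)))).comp (algebraMap P (Localization.AtPrime Q)) :=
      rfl
    rw [this, ← Ideal.map_map, hI, Ideal.map_span]
    congr 1
    ext y
    constructor
    · rintro ⟨i, rfl⟩
      exact ⟨f' i, ⟨i, rfl⟩, rfl⟩
    · rintro ⟨x, ⟨i, rfl⟩, rfl⟩
      exact ⟨i, rfl⟩
  exact ⟨_, h6, h8⟩

end H1At

section Main

variable (A B : Type u) [CommRing A] [CommRing B] [Algebra A B]
  (J : Ideal B) (p : Ideal A) [p.IsPrime]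

/-- the base change of the quotient map `B → B/J` to the fibre over `p`. -/
noncomputable def fibQuot : p.Fiber B →ₐ[p.ResidueField] p.Fiber (B ⧸ J) :=
  Algebra.TensorProduct.map (AlgHom.id p.ResidueField p.ResidueField) (Ideal.Quotient.mkₐ A J)

theorem fibQuot_surjective : Function.Surjective (fibQuot A B J p) :=
  Algebra.TensorProduct.map_surjective _ _ Function.surjective_id
    (Ideal.Quotient.mkₐ_surjective A J)

theorem ker_fibQuot : RingHom.ker (fibQuot A B J p).toRingHom =
    J.map (includeRight : B →ₐ[A] p.Fiber B).toRingHom := by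
  have h := Algebra.TensorProduct.lTensor_ker (A := p.ResidueField) (Ideal.Quotient.mkₐ A J)
    (Ideal.Quotient.mkₐ_surjective A J)
  have h2 : RingHom.ker (Ideal.Quotient.mkₐ A J) = J := by
    ext x
    rw [RingHom.mem_ker]
    exact Ideal.Quotient.eq_zero_iff_mem
  rw [h2] at h
  exact h

theorem map_primeCompl_of_surjective {S P : Type u} [CommRing S] [CommRing P] (f : S →+* P)
    (hf : Function.Surjective f) (Q : Ideal P) [Q.IsPrime] :
    Submonoid.map f (Q.comap f).primeCompl = Q.primeCompl := by
  ext x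
  constructor
  · rintro ⟨y, hy, rfl⟩
    exact fun h => hy h
  · intro hx
    obtain ⟨y, rfl⟩ := hf x
    exact ⟨y, fun h => hx h, rfl⟩

variable [Algebra.Smooth A B] [Module.Flat A (B ⧸ J)]

include A in
theorem isCIOver_atPrime_fiber_quotient (hJ : ∀ (r : Ideal B) [r.IsPrime], J ≤ r → H1At J r)
    (Q : Ideal (p.Fiber (B ⧸ J))) [Q.IsPrime] :
    Synt.IsCIOver p.ResidueField (Localization.AtPrime Q) := by
  have hφs := fibQuot_surjective A B J p
  set QB : Ideal (p.Fiber B) := Q.comap (fibQuot A B J p).toRingHom with hQB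
  haveI : QB.IsPrime := Ideal.comap_isPrime _ _
  haveI : Algebra.Smooth p.ResidueField (p.Fiber B) := inferInstance
  haveI : IsRegularRing (p.Fiber B) :=
    Groth.Agent.Lib.Helper24.SmoothRegular.isRegularRing_of_smooth p.ResidueField (p.Fiber B)
  haveI : IsRegularLocalRing (Localization.AtPrime QB) := inferInstance
  let π : Localization.AtPrime QB →ₐ[p.ResidueField] Localization.AtPrime Q :=
    Localization.localAlgHom QB Q (fibQuot A B J p) rfl
  have hπs : Function.Surjective π :=
    RingHom.surjective_localRingHom_of_surjective (fibQuot A B J p).toRingHom hφs Q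
  have hkerπ : RingHom.ker π.toRingHom =
      (J.map (includeRight : B →ₐ[A] p.Fiber B).toRingHom).map
        (algebraMap (p.Fiber B) (Localization.AtPrime QB)) := by
    rw [← ker_fibQuot]
    exact IsLocalization.ker_map (Localization.AtPrime Q) (fibQuot A B J p).toRingHom
      (map_primeCompl_of_surjective _ hφs Q) (S := Localization.AtPrime QB)
  -- the prime of `B` under `QB`
  set rB : Ideal B := QB.comap (includeRight : B →ₐ[A] p.Fiber B) with hrB
  haveI : rB.IsPrime := Ideal.comap_isPrime _ _
  haveI : rB.LiesOver p := by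
    constructor
    rw [Ideal.over_def QB p, hrB, Ideal.under_def, Ideal.under_def]
    ext a
    simp only [Ideal.mem_comap]
    rw [AlgHom.commutes]
  have hJr : J ≤ rB := by
    intro x hx
    change (fibQuot A B J p) ((1 : p.ResidueField) ⊗ₜ[A] x) ∈ Q
    have : (fibQuot A B J p) ((1 : p.ResidueField) ⊗ₜ[A] x) = 0 := by
      change (1 : p.ResidueField) ⊗ₜ[A] (Ideal.Quotient.mk J x) = 0
      rw [Ideal.Quotient.eq_zero_iff_mem.mpr hx, TensorProduct.tmul_zero]
    rw [this]
    exact Q.zero_mem
  let θ : Localization.AtPrime QB ≃ₐ[A] FibLoc A B p rB := Ideal.Fiber.algEquivAux₂ p QB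
  haveI : IsNoetherianRing (FibLoc A B p rB) := isNoetherianRing_of_ringEquiv _ θ.toRingEquiv
  obtain ⟨rs₀, hreg₀, hrs₀⟩ := exists_regular_fibLoc_of_h1At A J p rB hJr (hJ rB hJr)
  let τ : FibLoc A B p rB ≃+* Localization.AtPrime QB := θ.symm.toRingEquiv
  have hreg := (isRegular_map_ringEquiv (A := FibLoc A B p rB) (B := Localization.AtPrime QB)
    τ rs₀).mp hreg₀
  have hcomp : (τ : FibLoc A B p rB →+* Localization.AtPrime QB).comp
      (algebraMap B (FibLoc A B p rB)) =
      (algebraMap (p.Fiber B) (Localization.AtPrime QB)).comp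
        (includeRight : B →ₐ[A] p.Fiber B).toRingHom := by
    refine RingHom.ext fun s => ?_
    change θ.symm (algebraMap B (FibLoc A B p rB) s) =
      algebraMap (p.Fiber B) (Localization.AtPrime QB) ((1 : p.ResidueField) ⊗ₜ[A] s)
    rw [AlgEquiv.symm_apply_eq]
    exact (algEquivAux₂_includeRight p QB s).symm
  have hideal : Ideal.ofList (rs₀.map τ) = RingHom.ker π.toRingHom := by
    rw [hkerπ]
    have h1 : Ideal.ofList (rs₀.map τ) =
        (Ideal.ofList rs₀).map (τ : FibLoc A B p rB →+* Localization.AtPrime QB) :=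
      (Ideal.map_ofList (τ : FibLoc A B p rB →+* Localization.AtPrime QB) rs₀).symm
    rw [h1, hrs₀, Ideal.map_map, hcomp]
    exact (Ideal.map_map _ _).symm
  have hmem : ∀ r ∈ rs₀.map τ, r ∈ maximalIdeal (Localization.AtPrime QB) := by
    intro r hr
    rw [mem_maximalIdeal, mem_nonunits_iff]
    intro hu
    apply hreg.top_ne_smul
    have h2 : r ∈ Ideal.ofList (rs₀.map τ) := Ideal.subset_span hr
    have h3 : Ideal.ofList (rs₀.map τ) = ⊤ := Ideal.eq_top_of_isUnit_mem _ h2 hu
    rw [h3]
    simp
  refine ⟨Localization.AtPrime QB, inferInstance, inferInstance, inferInstance, inferInstance,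
    rs₀.map τ, hmem, hreg, ⟨?_⟩⟩
  exact (Ideal.quotientKerAlgEquivOfSurjective hπs).symm.trans
    (Ideal.quotientEquivAlgOfEq p.ResidueField hideal.symm)

include A in
/-- `A → B` smooth, `J ⊆ B` finitely generated and generated at every prime by an `H_1`-regular
sequence, `B/J` flat over `A`: then `B/J` is syntomic over `A`. -/
theorem isSyntomic_quotient_of_h1At (hJfg : J.FG)
    (hJ : ∀ (r : Ideal B) [r.IsPrime], J ≤ r → H1At J r) : Synt.IsSyntomic A (B ⧸ J) := by
  haveI : Algebra.FinitePresentation A (B ⧸ J) :=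
    Algebra.FinitePresentation.of_surjective (f := Ideal.Quotient.mkₐ A J)
      (Ideal.Quotient.mkₐ_surjective A J) (by
        have h2 : RingHom.ker (Ideal.Quotient.mkₐ A J).toRingHom = J := by
          ext x
          rw [RingHom.mem_ker]
          exact Ideal.Quotient.eq_zero_iff_mem
        rw [h2]; exact hJfg)
  refine ⟨inferInstance, inferInstance, fun p => ?_⟩
  haveI : Algebra.FiniteType p.asIdeal.ResidueField (p.asIdeal.Fiber (B ⧸ J)) := inferInstance
  rw [isLCIOver_iff_forall_isCIOver]
  intro Q
  exact isCIOver_atPrime_fiber_quotient A B J p.asIdeal hJ Q.asIdeal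

include A in
theorem isSyntomic_quotient_of_isKoszulRegularIdeal (hJ : LCI.IsKoszulRegularIdeal J) :
    Synt.IsSyntomic A (B ⧸ J) :=
  isSyntomic_quotient_of_h1At A B J (fg_of_isKoszulRegularIdeal J hJ)
    (fun r _ hr => h1At_of_isKoszulRegularIdeal J hJ r hr)

omit [Module.Flat A (B ⧸ J)] in
theorem isSyntomic_quotient_of_isKoszulRegularSeq (l : List B)
    [Module.Flat A (B ⧸ Ideal.ofList l)] (hl : LCI.IsKoszulRegularSeq B l) :
    Synt.IsSyntomic A (B ⧸ Ideal.ofList l) := by
  classical
  exact isSyntomic_quotient_of_h1At A B (Ideal.ofList l)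
    ⟨l.toFinset, by rw [Ideal.ofList]; congr 1; ext x; simp⟩
    (fun r _ _ => h1At_of_isKoszulRegularSeq l hl r)

end Main

end Groth.Agent.LibSyntSmoothQuot29
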