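import Mathlib
import Groth.Prelude.Def_RegImm
import Groth.Agent.LibRelGCIMain29

/-!
# Relative global complete intersections: regularity and flatness at a prime, any base (helper29)

Stacks 00SV (1), (2) for an arbitrary base ring `R`.
-/

set_option autoImplicit false
universe u

namespace Groth.Agent.LibRelGCIMain29

open MvPolynomial RingTheory.Sequence IsLocalRing Groth.Agent.LibFlatQuots29
  Groth.Agent.LibRelGCI29

attribute [local instance] MvPolynomial.algebraMvPolynomial

lemma fibre_dim {R : Type u} [CommRing R] (n c : ℕ)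
    (F : Fin c → MvPolynomial (Fin n) R) (hF : Synt.IsRelGCI R n c F)
    (q' : Ideal (MvPolynomial (Fin n) R)) [q'.IsPrime] (hJq' : Ideal.span (Set.range F) ≤ q')
    (p : Ideal R) [p.IsPrime] (hp : p = q'.comap (C : R →+* MvPolynomial (Fin n) R)) :
    c ≤ n ∧ ringKrullDim (MvPolynomial (Fin n) p.ResidueField ⧸
      Ideal.span (Set.range (Fbar p.ResidueField F))) = ((n - c : ℕ) : WithBot ℕ∞) := by
  have hQ : Ideal.span (Set.range (Fbar p.ResidueField F)) ≤ primeOver q' p hp := by
    rw [Ideal.span_le]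
    rintro _ ⟨l, rfl⟩
    exact (map_mem_primeOver_iff q' p hp (F l)).mpr (hJq' (Ideal.subset_span ⟨l, rfl⟩))
  have hnt : Nontrivial (MvPolynomial (Fin n) p.ResidueField ⧸
      Ideal.span (Set.range (Fbar p.ResidueField F))) := by
    rw [Ideal.Quotient.nontrivial_iff]
    intro h
    exact (inferInstance : (primeOver q' p hp).IsPrime).ne_top (top_le_iff.mp (h ▸ hQ))
  have hnt' : Nontrivial (p.Fiber (Synt.RelGCIRing R n c F)) :=
    (tensorEquiv p.ResidueField F).toEquiv.nontrivial
  obtain ⟨hcn, hdim⟩ := hF ⟨p, inferInstance⟩ hnt'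
  refine ⟨hcn, ?_⟩
  rw [← hdim]
  exact (ringKrullDim_eq_of_ringEquiv (tensorEquiv p.ResidueField F).toRingEquiv).symm

/-- Stacks 00SV (1), (2): for a relative global complete intersection `R[x]/(F)` and a prime
`q' ⊇ (F)` of `R[x]`, `F` is a weakly regular sequence on `R[x]_{q'}` with all successive
quotients flat over `R`. -/
theorem main (R : Type u) [CommRing R] (n c : ℕ)
    (F : Fin c → MvPolynomial (Fin n) R) (hF : Synt.IsRelGCI R n c F)
    (q' : Ideal (MvPolynomial (Fin n) R)) [q'.IsPrime] (hq' : Ideal.span (Set.range F) ≤ q') :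
    IsWeaklyRegular (Localization.AtPrime q')
        ((List.ofFn F).map (algebraMap (MvPolynomial (Fin n) R) (Localization.AtPrime q'))) ∧
      FlatQuots R ((List.ofFn F).map (algebraMap (MvPolynomial (Fin n) R) (Localization.AtPrime q')))
        (Localization.AtPrime q') := by
  classical
  obtain ⟨hcn, hdim⟩ := fibre_dim n c F hF q' hq' (q'.comap C) rfl
  -- the Noetherian model
  let T : Set R := ⋃ i, ((F i).coeffs : Set R)
  have hT : T.Finite := Set.finite_iUnion fun i => (F i).coeffs.finite_toSet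
  let R₀ : Subalgebra ℤ R := Algebra.adjoin ℤ T
  have hft : Algebra.FiniteType ℤ R₀ := Algebra.FiniteType.adjoin_of_finite hT
  have hnoeth : IsNoetherianRing R₀ := Algebra.FiniteType.isNoetherianRing ℤ R₀
  have hex : ∀ i, ∃ f₀ : MvPolynomial (Fin n) R₀, MvPolynomial.map (algebraMap R₀ R) f₀ = F i := by
    intro i
    have : F i ∈ Set.range (MvPolynomial.map (algebraMap R₀ R)) := by
      rw [MvPolynomial.mem_range_map_iff_coeffs_subset]
      intro x hx
      have hxT : x ∈ T := Set.mem_iUnion.mpr ⟨i, hx⟩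
      exact ⟨⟨x, Algebra.subset_adjoin hxT⟩, rfl⟩
    exact this
  choose F₀ hF₀ using hex
  exact main_of_model R₀ R n c hcn F₀ F hF₀ q' hq' (q'.comap C) rfl hdim
    (q'.comap (algebraMap (MvPolynomial (Fin n) R₀) (MvPolynomial (Fin n) R))) rfl
    (Ideal.comap C (q'.comap (algebraMap (MvPolynomial (Fin n) R₀) (MvPolynomial (Fin n) R)))) rfl

end Groth.Agent.LibRelGCIMain29
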