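import Groth.Statements.S9147
import Groth.Agent.LibRelGCIMain29b
-- import your own Groth.Agent.* helpers here

set_option autoImplicit false
universe u
open Synt

namespace Groth.Agent.S9147

open Groth.Agent.LibFlatQuots29 Groth.Agent.LibRelGCI29 TensorProduct

/-- flatness of a relative global complete intersection -/
theorem flat (R : Type u) [CommRing R] (n c : ℕ) (F : Fin c → MvPolynomial (Fin n) R)
    (h : Synt.IsRelGCI R n c F) : Module.Flat R (Synt.RelGCIRing R n c F) := by
  have hloc : ∀ (m : Ideal (MvPolynomial (Fin n) R)) [m.IsMaximal],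
      IsLocalizedModule.AtPrime m
        (IsScalarTower.toAlgHom (MvPolynomial (Fin n) R)
          (MvPolynomial (Fin n) R ⧸ Ideal.span (Set.range F))
          (Localization.AtPrime m ⧸ (Ideal.span (Set.range F)).map
            (algebraMap (MvPolynomial (Fin n) R) (Localization.AtPrime m)))).toLinearMap := by
    intro m _
    have : IsLocalization (Algebra.algebraMapSubmonoid
        (MvPolynomial (Fin n) R ⧸ Ideal.span (Set.range F)) m.primeCompl)
        (Localization.AtPrime m ⧸ (Ideal.span (Set.range F)).map
          (algebraMap (MvPolynomial (Fin n) R) (Localization.AtPrime m))) := inferInstance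
    exact (isLocalizedModule_iff_isLocalization (S := m.primeCompl)
      (A := MvPolynomial (Fin n) R ⧸ Ideal.span (Set.range F))
      (Aₛ := Localization.AtPrime m ⧸ (Ideal.span (Set.range F)).map
        (algebraMap (MvPolynomial (Fin n) R) (Localization.AtPrime m)))).mpr this
  refine @Module.flat_of_isLocalized_maximal R (MvPolynomial (Fin n) R) _ _ _
    (MvPolynomial (Fin n) R ⧸ Ideal.span (Set.range F)) _ _ _ _
    (fun m _ => Localization.AtPrime m ⧸ (Ideal.span (Set.range F)).map
      (algebraMap (MvPolynomial (Fin n) R) (Localization.AtPrime m))) _ _ _ _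
    (fun m _ => (IsScalarTower.toAlgHom (MvPolynomial (Fin n) R)
          (MvPolynomial (Fin n) R ⧸ Ideal.span (Set.range F))
          (Localization.AtPrime m ⧸ (Ideal.span (Set.range F)).map
            (algebraMap (MvPolynomial (Fin n) R) (Localization.AtPrime m)))).toLinearMap) hloc ?_
  intro m hm
  by_cases hJm : Ideal.span (Set.range F) ≤ m
  · have hfl := (Groth.Agent.LibRelGCIMain29.main R n c F h m hJm).2 c
      (by rw [List.length_map, List.length_ofFn])
    have heq : (Ideal.ofList (((List.ofFn F).map
        (algebraMap (MvPolynomial (Fin n) R) (Localization.AtPrime m))).take c) • ⊤ :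
        Submodule (Localization.AtPrime m) (Localization.AtPrime m)) =
        (Ideal.span (Set.range F)).map
          (algebraMap (MvPolynomial (Fin n) R) (Localization.AtPrime m)) := by
      rw [smul_eq_mul, Ideal.mul_top, List.take_of_length_le (by
        rw [List.length_map, List.length_ofFn]), ← Ideal.map_ofList,
        Groth.Agent.LibRelGCIFib29.ofList_ofFn]
    exact Module.Flat.of_linearEquiv
      ((Submodule.quotEquivOfEq _ _ heq).restrictScalars R).symm
  · have htop : Ideal.map (algebraMap (MvPolynomial (Fin n) R) (Localization.AtPrime m))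
        (Ideal.span (Set.range F)) = ⊤ := by
      obtain ⟨x, hxJ, hxm⟩ := SetLike.not_le_iff_exists.mp hJm
      apply Ideal.eq_top_of_isUnit_mem _ (Ideal.mem_map_of_mem _ hxJ)
      exact IsLocalization.map_units (Localization.AtPrime m) (⟨x, hxm⟩ : m.primeCompl)
    have : Subsingleton (Localization.AtPrime m ⧸ (Ideal.span (Set.range F)).map
        (algebraMap (MvPolynomial (Fin n) R) (Localization.AtPrime m))) := by
      rw [htop]
      exact Ideal.Quotient.subsingleton_iff.mpr rfl
    infer_instance

/-- the fibres are global complete intersections -/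
theorem fibre (R : Type u) [CommRing R] (n c : ℕ) (F : Fin c → MvPolynomial (Fin n) R)
    (h : Synt.IsRelGCI R n c F) (p : PrimeSpectrum R) :
    Synt.IsLCIOver p.asIdeal.ResidueField (p.asIdeal.Fiber (Synt.RelGCIRing R n c F)) := by
  refine ⟨inferInstance, fun q => ⟨1, ?_, Or.inr ?_⟩⟩
  · exact fun h => q.2.ne_top ((Ideal.eq_top_iff_one _).mpr h)
  have hnt : Nontrivial (p.asIdeal.Fiber (Synt.RelGCIRing R n c F)) := by
    refine ⟨⟨0, 1, fun h01 => q.2.ne_top ((Ideal.eq_top_iff_one _).mpr ?_)⟩⟩
    rw [← h01]
    exact q.asIdeal.zero_mem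
  obtain ⟨hcn, hdim⟩ := h p hnt
  refine ⟨n, c, hcn, ?_⟩
  let ι : p.asIdeal.Fiber (Synt.RelGCIRing R n c F) ≃ₐ[p.asIdeal.Fiber (Synt.RelGCIRing R n c F)]
      Localization.Away (1 : p.asIdeal.Fiber (Synt.RelGCIRing R n c F)) :=
    IsLocalization.atOne _ _
  let e := tensorEquiv p.asIdeal.ResidueField F
  let φ : MvPolynomial (Fin n) p.asIdeal.ResidueField →ₐ[p.asIdeal.ResidueField]
      Localization.Away (1 : p.asIdeal.Fiber (Synt.RelGCIRing R n c F)) :=
    ((ι.toAlgHom.restrictScalars p.asIdeal.ResidueField).comp e.symm.toAlgHom).comp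
      (Ideal.Quotient.mkₐ p.asIdeal.ResidueField
        (Ideal.span (Set.range (Fbar p.asIdeal.ResidueField F))))
  refine ⟨φ, Fbar p.asIdeal.ResidueField F, ?_, ?_, ?_⟩
  · intro y
    obtain ⟨t, rfl⟩ := ι.surjective y
    obtain ⟨z, rfl⟩ := e.symm.surjective t
    obtain ⟨f, rfl⟩ := Ideal.Quotient.mk_surjective z
    exact ⟨f, rfl⟩
  · ext f
    rw [RingHom.mem_ker]
    change ι (e.symm (Ideal.Quotient.mk _ f)) = 0 ↔ _
    rw [map_eq_zero_iff _ ι.injective, map_eq_zero_iff _ e.symm.injective,
      Ideal.Quotient.eq_zero_iff_mem]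
  · have h1 := ringKrullDim_eq_of_ringEquiv
      (R := p.asIdeal.Fiber (Synt.RelGCIRing R n c F))
      (S := Localization.Away (1 : p.asIdeal.Fiber (Synt.RelGCIRing R n c F))) ι.toRingEquiv
    rw [← h1, hdim]


/-- A relative global complete intersection over a ring R is syntomic over R, in particular flat. -/
theorem result (R : Type u) [CommRing R] (n c : ℕ) (F : Fin c → MvPolynomial (Fin n) R)
    (h : Synt.IsRelGCI R n c F) : Synt.IsSyntomic R (Synt.RelGCIRing R n c F) := by
  refine ⟨flat R n c F h, ?_, fibre R n c F h⟩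
  exact Algebra.FinitePresentation.quotient (Submodule.fg_span (Set.finite_range F))

end Groth.Agent.S9147
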