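import Mathlib
import Groth.Prelude.Def_RegImm
import Groth.Agent.LibRelGCI29

/-!
# Fibres of `R[x]/(F)` over primes containing `I` vs fibres of `(R/I)[x]/(F̄)` (helper29)
-/

set_option autoImplicit false
universe u

namespace Groth.Agent.LibFiberQuot29

open MvPolynomial Groth.Agent.LibRelGCI29

variable (R : Type u) [CommRing R] (n c : ℕ) (F : Fin c → MvPolynomial (Fin n) R)

/-- `K[x]/(F) ≃ K'[x]/(σ F)` for a field isomorphism `σ`. -/
noncomputable def quotMapEquiv {K K' : Type u} [Field K] [Field K'] (σ : K ≃+* K')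
    (Fb : Fin c → MvPolynomial (Fin n) K) :
    (MvPolynomial (Fin n) K ⧸ Ideal.span (Set.range Fb)) ≃+*
      (MvPolynomial (Fin n) K' ⧸ Ideal.span (Set.range fun i => MvPolynomial.map (σ : K →+* K') (Fb i))) :=
  Ideal.quotientEquiv _ _ (MvPolynomial.mapEquiv (Fin n) σ) (by
    rw [Ideal.map_span, ← Set.range_comp]
    congr 1)

theorem nonempty_fiber_equiv (I : Ideal R) (pb : Ideal (R ⧸ I)) [pb.IsPrime] :
    Nonempty ((pb.comap (Ideal.Quotient.mk I)).Fiber (Synt.RelGCIRing R n c F) ≃+*
      pb.Fiber (Synt.RelGCIRing (R ⧸ I) n c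
        (fun i => MvPolynomial.map (Ideal.Quotient.mk I) (F i)))) := by
  have hbij := (RingHom.surjectiveOnStalks_of_surjective
    (Ideal.Quotient.mk_surjective (I := I))).residueFieldMap_bijective
    (pb.comap (Ideal.Quotient.mk I)) pb rfl
  let σ : (pb.comap (Ideal.Quotient.mk I)).ResidueField ≃+* pb.ResidueField :=
    RingEquiv.ofBijective _ hbij
  let e1 := tensorEquiv (pb.comap (Ideal.Quotient.mk I)).ResidueField F
  let e2 := tensorEquiv pb.ResidueField (fun i => MvPolynomial.map (Ideal.Quotient.mk I) (F i))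
  let e3 := quotMapEquiv n c σ (Fbar (pb.comap (Ideal.Quotient.mk I)).ResidueField F)
  have hF : (fun i => MvPolynomial.map (σ : _ →+* pb.ResidueField)
      (Fbar (pb.comap (Ideal.Quotient.mk I)).ResidueField F i)) =
      Fbar pb.ResidueField (fun i => MvPolynomial.map (Ideal.Quotient.mk I) (F i)) := by
    funext i
    have hcomp : (σ : _ →+* pb.ResidueField).comp
        (algebraMap R (pb.comap (Ideal.Quotient.mk I)).ResidueField) =
        (algebraMap (R ⧸ I) pb.ResidueField).comp (Ideal.Quotient.mk I) :=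
      RingHom.ext fun r => Ideal.ResidueField.map_algebraMap _ _ _ rfl r
    simp only [Fbar]
    rw [MvPolynomial.map_map, MvPolynomial.map_map, hcomp]
  rw [hF] at e3
  exact ⟨(e1.toRingEquiv.trans e3).trans e2.toRingEquiv.symm⟩

end Groth.Agent.LibFiberQuot29
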