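import Mathlib
import Groth.Prelude.Def_RegImm
import Groth.Prelude.Def_Flat
import Groth.Agent.LibRelGCIAway29
import Groth.Agent.LibFiberQuot29

/-!
# Principal localizations of `R[x]/(F)` that are relative global complete intersections, near
`V(I)` (helper29)
-/

set_option autoImplicit false
universe u

namespace Groth.Agent.LibRelGCIAway29

open AlgebraicGeometry CategoryTheory FlatMor MvPolynomial TensorProduct
  Groth.Agent.LibRelGCI29 Groth.Agent.LibAwayPres29

/-- a basic open neighbourhood of `V(J)` inside an open `W ⊇ V(J)`, given by `g ≡ 1 mod J`. -/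
theorem exists_basicOpen_subset_of_ideal {S : Type u} [CommRing S] (J : Ideal S)
    (W : Set (PrimeSpectrum S)) (hW : IsOpen W)
    (hJ : ∀ q : PrimeSpectrum S, J ≤ q.asIdeal → q ∈ W) :
    ∃ g : S, Ideal.Quotient.mk J g = 1 ∧ ∀ q : PrimeSpectrum S, g ∉ q.asIdeal → q ∈ W := by
  set IZ : Ideal S := PrimeSpectrum.vanishingIdeal Wᶜ with hIZ
  have hZ : PrimeSpectrum.zeroLocus (IZ : Set S) = Wᶜ := by
    rw [hIZ, PrimeSpectrum.zeroLocus_vanishingIdeal_eq_closure, hW.isClosed_compl.closure_eq]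
  have htop : IZ ⊔ J = ⊤ := by
    by_contra hne
    obtain ⟨m, hm, hle⟩ := Ideal.exists_le_maximal _ hne
    let q : PrimeSpectrum S := ⟨m, hm.isPrime⟩
    have hqW : q ∈ W := hJ q (le_sup_right.trans hle)
    have hqZ : q ∈ PrimeSpectrum.zeroLocus (IZ : Set S) := fun x hx => hle (Ideal.mem_sup_left hx)
    rw [hZ] at hqZ
    exact hqZ hqW
  obtain ⟨a, ha, b, hb, hab⟩ := Submodule.mem_sup.mp ((Ideal.eq_top_iff_one _).mp htop)
  refine ⟨a, ?_, ?_⟩
  · have : a = 1 - b := by rw [← hab]; ring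
    rw [this, map_sub, map_one, Ideal.Quotient.eq_zero_iff_mem.mpr hb, sub_zero]
  · intro q hq
    by_contra hqW
    have hqZ : q ∈ PrimeSpectrum.zeroLocus (IZ : Set S) := by
      rw [hZ]
      exact hqW
    exact hq (hqZ ha)

variable (R : Type u) [CommRing R] (n c : ℕ) (F : Fin c → MvPolynomial (Fin n) R)

/-- points over `V(I)`, when `(R/I)[x]/(F̄)` is a relative global complete intersection. -/
theorem le_and_fibreDimAt_le_of_quotient (I : Ideal R)
    (hI : Synt.IsRelGCI (R ⧸ I) n c (fun i => MvPolynomial.map (Ideal.Quotient.mk I) (F i)))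
    (pb : Ideal (R ⧸ I)) [pb.IsPrime] (q : PrimeSpectrum (Synt.RelGCIRing R n c F))
    (hq : q.asIdeal.comap (algebraMap R (Synt.RelGCIRing R n c F)) =
      pb.comap (Ideal.Quotient.mk I)) :
    c ≤ n ∧
      fibreDimAt (Spec.map (CommRingCat.ofHom (algebraMap R (Synt.RelGCIRing R n c F)))) q ≤
        ((n - c : ℕ) : WithBot ℕ∞) := by
  have hnt : Nontrivial ((pb.comap (Ideal.Quotient.mk I)).Fiber (Synt.RelGCIRing R n c F)) :=
    (PrimeSpectrum.nontrivial_iff_mem_rangeComap
      (⟨pb.comap (Ideal.Quotient.mk I), inferInstance⟩ : PrimeSpectrum R)).mpr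
      ⟨q, PrimeSpectrum.ext hq⟩
  obtain ⟨e⟩ := Groth.Agent.LibFiberQuot29.nonempty_fiber_equiv R n c F I pb
  have hnt' : Nontrivial (pb.Fiber (Synt.RelGCIRing (R ⧸ I) n c
      (fun i => MvPolynomial.map (Ideal.Quotient.mk I) (F i)))) := e.symm.toEquiv.nontrivial
  obtain ⟨hcn, hdim⟩ := hI ⟨pb, inferInstance⟩ hnt'
  refine ⟨hcn, mem_of_fiber_dim R n c F _ ?_ q hq⟩
  rw [ringKrullDim_eq_of_ringEquiv
    (R := (pb.comap (Ideal.Quotient.mk I)).Fiber (Synt.RelGCIRing R n c F))
    (S := pb.Fiber (Synt.RelGCIRing (R ⧸ I) n c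
      (fun i => MvPolynomial.map (Ideal.Quotient.mk I) (F i)))) e, hdim]

theorem le_and_fibreDimAt_le_of_map_le (I : Ideal R)
    (hI : Synt.IsRelGCI (R ⧸ I) n c (fun i => MvPolynomial.map (Ideal.Quotient.mk I) (F i)))
    (q : PrimeSpectrum (Synt.RelGCIRing R n c F))
    (hq : I.map (algebraMap R (Synt.RelGCIRing R n c F)) ≤ q.asIdeal) :
    c ≤ n ∧
      fibreDimAt (Spec.map (CommRingCat.ofHom (algebraMap R (Synt.RelGCIRing R n c F)))) q ≤
        ((n - c : ℕ) : WithBot ℕ∞) := by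
  have hIp : I ≤ q.asIdeal.comap (algebraMap R (Synt.RelGCIRing R n c F)) :=
    Ideal.map_le_iff_le_comap.mp hq
  have hprime : ((q.asIdeal.comap (algebraMap R (Synt.RelGCIRing R n c F))).map
      (Ideal.Quotient.mk I)).IsPrime :=
    Ideal.map_isPrime_of_surjective Ideal.Quotient.mk_surjective (by rwa [Ideal.mk_ker])
  refine le_and_fibreDimAt_le_of_quotient R n c F I hI
    ((q.asIdeal.comap (algebraMap R (Synt.RelGCIRing R n c F))).map (Ideal.Quotient.mk I)) q ?_
  rw [Ideal.comap_map_of_surjective _ Ideal.Quotient.mk_surjective, ← RingHom.ker_eq_comap_bot,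
    Ideal.mk_ker, sup_eq_left.mpr hIp]

/-- **Stacks 00SX-type statement near `V(I)`.** -/
theorem exists_away_isRelGCI_of_quotient (I : Ideal R)
    (hI : Synt.IsRelGCI (R ⧸ I) n c (fun i => MvPolynomial.map (Ideal.Quotient.mk I) (F i))) :
    ∃ h : MvPolynomial (Fin n) R,
      Ideal.Quotient.mk (I.map (algebraMap R (Synt.RelGCIRing R n c F)))
        (Ideal.Quotient.mk (Ideal.span (Set.range F)) h) = 1 ∧
      Synt.IsRelGCI R (n + 1) (c + 1) (eqsPlus F h) := by
  by_cases hcn : c ≤ n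
  · obtain ⟨g, hg1, hgW⟩ := exists_basicOpen_subset_of_ideal
      (I.map (algebraMap R (Synt.RelGCIRing R n c F))) _ (isOpen_fibreDim_le R n c F)
      (fun q hq => (le_and_fibreDimAt_le_of_map_le R n c F I hI q hq).2)
    obtain ⟨h, rfl⟩ := Ideal.Quotient.mk_surjective g
    exact ⟨h, hg1, isRelGCI_eqsPlus R n c F hcn h hgW⟩
  · have htop : I.map (algebraMap R (Synt.RelGCIRing R n c F)) = ⊤ := by
      by_contra hne
      obtain ⟨m, hm, hle⟩ := Ideal.exists_le_maximal _ hne
      exact hcn (le_and_fibreDimAt_le_of_map_le R n c F I hI ⟨m, hm.isPrime⟩ hle).1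
    refine ⟨0, ?_, ?_⟩
    · have : Subsingleton (Synt.RelGCIRing R n c F ⧸
          I.map (algebraMap R (Synt.RelGCIRing R n c F))) := by
        rw [htop]
        exact Ideal.Quotient.subsingleton_iff.mpr rfl
      exact Subsingleton.elim _ _
    · intro p' hnt
      exfalso
      have h1 : (1 : Synt.RelGCIRing R (n + 1) (c + 1) (eqsPlus F 0)) = 0 := by
        rw [← map_one (Ideal.Quotient.mk _), Ideal.Quotient.eq_zero_iff_mem, ← Ideal.neg_mem_iff]
        have : eqsPlus F (0 : MvPolynomial (Fin n) R) (Fin.last c) = -1 := by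
          rw [eqsPlus_last, map_zero, zero_mul, zero_sub]
        rw [← this]
        exact Ideal.subset_span ⟨_, rfl⟩
      have h2 : (1 : p'.asIdeal.Fiber (Synt.RelGCIRing R (n + 1) (c + 1) (eqsPlus F 0))) = 0 := by
        rw [Algebra.TensorProduct.one_def, h1, TensorProduct.tmul_zero]
      exact not_subsingleton _ (subsingleton_of_zero_eq_one
        (M₀ := p'.asIdeal.Fiber (Synt.RelGCIRing R (n + 1) (c + 1) (eqsPlus F 0))) h2.symm)

end Groth.Agent.LibRelGCIAway29
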