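import Groth.Statements.S9170
import Groth.Agent.LibRelGCIMain29b
import Groth.Agent.Lib.Helper11.QuasiRegCot
-- import your own Groth.Agent.* helpers here

set_option autoImplicit false
universe u
open Synt

namespace Groth.Agent.S9170

open Groth.Agent.LibFlatQuots29 Groth.Agent.Lib.helper11.QuasiReg

/-- local-global principle for quasi-regularity in degree one -/
lemma coeff_mem (R : Type u) [CommRing R] (n c : ℕ)
    (F : Fin c → MvPolynomial (Fin n) R) (h : Synt.IsRelGCI R n c F)
    (a : Fin c → MvPolynomial (Fin n) R)
    (hsum : ∑ i, a i * F i ∈ Ideal.span (Set.range F) ^ 2) (i : Fin c) :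
    a i ∈ Ideal.span (Set.range F) := by
  apply Ideal.mem_of_localization_maximal
  intro m hm
  by_cases hJm : Ideal.span (Set.range F) ≤ m
  · have hwr := (Groth.Agent.LibRelGCIMain29.main R n c F h m hJm).1
    rw [List.map_ofFn] at hwr
    have hqr := QR_of_isWeaklyRegular c _ hwr
    have hmap : Ideal.map (algebraMap (MvPolynomial (Fin n) R) (Localization.AtPrime m))
        (Ideal.span (Set.range F)) =
        Ideal.span (Set.range (algebraMap (MvPolynomial (Fin n) R) (Localization.AtPrime m) ∘ F)) := by
      rw [Ideal.map_span, ← Set.range_comp]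
    rw [hmap]
    refine coeff_mem_of_sum_mem_sq _ hqr
      (fun j => algebraMap (MvPolynomial (Fin n) R) (Localization.AtPrime m) (a j)) ?_ i
    rw [← hmap, ← Ideal.map_pow]
    have := Ideal.mem_map_of_mem (algebraMap (MvPolynomial (Fin n) R) (Localization.AtPrime m)) hsum
    simpa only [map_sum, map_mul, Function.comp_apply] using this
  · have htop : Ideal.map (algebraMap (MvPolynomial (Fin n) R) (Localization.AtPrime m))
        (Ideal.span (Set.range F)) = ⊤ := by
      obtain ⟨x, hxJ, hxm⟩ := SetLike.not_le_iff_exists.mp hJm
      apply Ideal.eq_top_of_isUnit_mem _ (Ideal.mem_map_of_mem _ hxJ)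
      exact IsLocalization.map_units (Localization.AtPrime m) (⟨x, hxm⟩ : m.primeCompl)
    rw [htop]
    exact Submodule.mem_top


/-- For a relative global complete intersection S = R[x_1, …, x_n]/(f_1, …, f_c) over a ring R and a
prime q' of the polynomial ring containing the ideal (f_1, …, f_c): (1) f_1, …, f_c is a regular
sequence in the localization R[x]_{q'} (a local ring); (2) every quotient R[x]_{q'}/(f_1, …, f_i) is
flat over R; (3) the conormal module (f)/(f)² is free over S with basis the classes of the f_i
(stated as: these classes are linearly independent over S and span). -/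
theorem result (R : Type u) [CommRing R] (n c : ℕ)
    (F : Fin c → MvPolynomial (Fin n) R) (h : Synt.IsRelGCI R n c F)
    (q' : Ideal (MvPolynomial (Fin n) R)) [q'.IsPrime] (hq' : Ideal.span (Set.range F) ≤ q') :
    RingTheory.Sequence.IsRegular (Localization.AtPrime q')
        ((List.ofFn F).map (algebraMap (MvPolynomial (Fin n) R) (Localization.AtPrime q'))) ∧
      (∀ i ≤ c, Module.Flat R (Localization.AtPrime q' ⧸ Ideal.ofList
        (((List.ofFn F).take i).map (algebraMap (MvPolynomial (Fin n) R) (Localization.AtPrime q'))))) ∧
      LinearIndependent (Synt.RelGCIRing R n c F)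
        (fun i : Fin c => (Ideal.span (Set.range F)).toCotangent ⟨F i, Ideal.subset_span (Set.mem_range_self i)⟩) ∧
      Submodule.span (Synt.RelGCIRing R n c F) (Set.range
        (fun i : Fin c => (Ideal.span (Set.range F)).toCotangent ⟨F i, Ideal.subset_span (Set.mem_range_self i)⟩)) = ⊤ := by
  obtain ⟨hwr, hfl⟩ := Groth.Agent.LibRelGCIMain29.main R n c F h q' hq'
  refine ⟨?_, ?_, ?_, ?_⟩
  · rw [IsLocalRing.isRegular_iff_isWeaklyRegular_of_subset_maximalIdeal]
    · exact hwr
    · intro r hr
      rw [List.mem_map] at hr
      obtain ⟨f, hf, rfl⟩ := hr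
      rw [List.mem_ofFn] at hf
      obtain ⟨l, rfl⟩ := hf
      rw [← Localization.AtPrime.map_eq_maximalIdeal]
      exact Ideal.mem_map_of_mem _ (hq' (Ideal.subset_span ⟨l, rfl⟩))
  · intro i hi
    have h1 := hfl i (by rw [List.length_map, List.length_ofFn]; exact hi)
    rw [← List.map_take] at h1
    have heq : (Ideal.ofList (((List.ofFn F).take i).map
        (algebraMap (MvPolynomial (Fin n) R) (Localization.AtPrime q'))) • ⊤ :
        Submodule (Localization.AtPrime q') (Localization.AtPrime q')) =
        Ideal.ofList (((List.ofFn F).take i).map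
        (algebraMap (MvPolynomial (Fin n) R) (Localization.AtPrime q'))) := by
      rw [smul_eq_mul, Ideal.mul_top]
    exact Module.Flat.of_linearEquiv
      ((Submodule.quotEquivOfEq _ _ heq).restrictScalars R).symm
  · rw [Fintype.linearIndependent_iff]
    intro cbar hc i
    choose a hcc using fun i => Ideal.Quotient.mk_surjective (cbar i)
    have h1 : ∑ i, cbar i • (Ideal.span (Set.range F)).toCotangent
          ⟨F i, Ideal.subset_span (Set.mem_range_self i)⟩ =
        (Ideal.span (Set.range F)).toCotangent
          (∑ i, a i • (⟨F i, Ideal.subset_span (Set.mem_range_self i)⟩ :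
            Ideal.span (Set.range F))) := by
      rw [← toCotangent_sum_smul]
      apply Finset.sum_congr rfl
      intro i _
      rw [hcc]
    rw [h1, Ideal.toCotangent_eq_zero] at hc
    have h2 : ((∑ i, a i • (⟨F i, Ideal.subset_span (Set.mem_range_self i)⟩ :
        Ideal.span (Set.range F)) : Ideal.span (Set.range F)) : MvPolynomial (Fin n) R) =
        ∑ i, a i * F i := by
      rw [Submodule.coe_sum]
      apply Finset.sum_congr rfl
      intro i _
      rfl
    rw [h2] at hc
    have h3 := coeff_mem R n c F h a hc i
    rw [← hcc i]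
    exact Ideal.Quotient.eq_zero_iff_mem.2 h3
  · exact cot_span_of_span (Ideal.span (Set.range F))
      (fun i => ⟨F i, Ideal.subset_span (Set.mem_range_self i)⟩) rfl

end Groth.Agent.S9170
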