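import Groth.Statements.S6359
import Mathlib
-- import your own Groth.Agent.* helpers here

set_option autoImplicit false
universe u
open CAlg

namespace Groth.Agent.S6359


open TensorProduct in
theorem key (R : Type u) [CommRing R] {M N M' : Type u}
    [AddCommGroup M] [Module R M] [AddCommGroup N] [Module R N] [AddCommGroup M'] [Module R M']
    (f : M →ₗ[R] N) (g : M →ₗ[R] M')
    (hdom : ∀ (Q : Type u) [AddCommGroup Q] [Module R Q],
      LinearMap.ker (f.rTensor Q) ≤ LinearMap.ker (g.rTensor Q))
    {m n : ℕ} (a : Fin m → Fin n → R) (x : Fin m → M) (y : Fin n → N)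
    (hxy : ∀ k, f (x k) = ∑ j, a k j • y j) :
    ∃ z : Fin n → M', ∀ k, g (x k) = ∑ j, a k j • z j := by
  classical
  let B : (Fin n → R) →ₗ[R] (Fin m → R) := Fintype.linearCombination R (fun j => (fun k => a k j))
  have hB : ∀ v k, B v k = ∑ j, v j * a k j := by
    intro v k
    simp [B, Fintype.linearCombination_apply]
  let Q := (Fin m → R) ⧸ LinearMap.range B
  let q : (Fin m → R) →ₗ[R] Q := (LinearMap.range B).mkQ
  have hqB : ∀ v, q (B v) = 0 := fun v =>
    (Submodule.Quotient.mk_eq_zero _).mpr (LinearMap.mem_range_self B v)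
  let ξ : M ⊗[R] Q := ∑ k, x k ⊗ₜ[R] q (Pi.single k 1)
  have hcol : ∀ j, (∑ k, a k j • (Pi.single k 1 : Fin m → R)) = B (Pi.single j 1) := by
    intro j
    funext k
    rw [hB]
    simp [Finset.sum_apply, Pi.single_apply]
  have h1 : f.rTensor Q ξ = 0 := by
    simp only [ξ, map_sum, LinearMap.rTensor_tmul, hxy]
    simp only [TensorProduct.sum_tmul, TensorProduct.smul_tmul]
    rw [Finset.sum_comm]
    apply Finset.sum_eq_zero
    intro j _
    rw [← TensorProduct.tmul_sum]
    simp only [← map_smul, ← map_sum]
    rw [hcol, hqB, TensorProduct.tmul_zero]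
  have h2 : g.rTensor Q ξ = 0 := hdom Q h1
  have h3 : (q.lTensor M') (∑ k, g (x k) ⊗ₜ[R] (Pi.single k 1 : Fin m → R)) = 0 := by
    rw [← h2]
    simp [ξ, map_sum]
  have hex : Function.Exact (B.lTensor M') (q.lTensor M') :=
    lTensor_exact M' (LinearMap.exact_map_mkQ_range B) (Submodule.mkQ_surjective _)
  obtain ⟨w, hw⟩ := (hex _).mp h3
  have hform : ∀ (w : M' ⊗[R] (Fin n → R)) (k : Fin m),
      TensorProduct.piScalarRight R R M' (Fin m) (B.lTensor M' w) k =
        ∑ j, a k j • (TensorProduct.piScalarRight R R M' (Fin n) w) j := by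
    intro w k
    induction w using TensorProduct.induction_on with
    | zero => simp
    | tmul p v =>
      simp only [LinearMap.lTensor_tmul, TensorProduct.piScalarRight_apply,
        TensorProduct.piScalarRightHom_tmul, hB, Finset.sum_smul, smul_smul]
      refine Finset.sum_congr rfl fun j _ => ?_
      rw [mul_comm]
    | add w1 w2 h1 h2 =>
      simp only [map_add, Pi.add_apply, h1, h2, smul_add, Finset.sum_add_distrib]
  refine ⟨TensorProduct.piScalarRight R R M' (Fin n) w, fun k => ?_⟩
  rw [← hform, hw]
  simp [TensorProduct.piScalarRight_apply, TensorProduct.piScalarRightHom_tmul, map_sum,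
    Finset.sum_apply, Pi.single_apply]


/-- Let f : M → N and g : M → M' be maps of R-modules such that the cokernel of f is finitely presented.
Then g dominates f (for every module Q the kernel of f ⊗ id_Q is contained in the kernel of g ⊗
id_Q) if and only if g factors through f. -/
theorem result (R : Type u) [CommRing R] {M N M' : Type u}
    [AddCommGroup M] [Module R M] [AddCommGroup N] [Module R N] [AddCommGroup M'] [Module R M']
    (f : M →ₗ[R] N) (g : M →ₗ[R] M') [Module.FinitePresentation R (N ⧸ LinearMap.range f)] :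
    (∀ (Q : Type u) [AddCommGroup Q] [Module R Q], LinearMap.ker (f.rTensor Q) ≤ LinearMap.ker (g.rTensor Q)) ↔
      ∃ h : N →ₗ[R] M', g = h ∘ₗ f := by
  classical
  constructor
  · intro hdom
    -- `ker f ≤ ker g`
    have hker : ∀ x0 : M, f x0 = 0 → g x0 = 0 := by
      intro x0 hx0
      have h1 : (x0 ⊗ₜ[R] (1 : R)) ∈ LinearMap.ker (f.rTensor R) := by
        rw [LinearMap.mem_ker, LinearMap.rTensor_tmul, hx0, TensorProduct.zero_tmul]
      have h2 := hdom R h1
      rw [LinearMap.mem_ker, LinearMap.rTensor_tmul] at h2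
      have h3 := congrArg (TensorProduct.rid R M') h2
      simpa using h3
    obtain ⟨n, m, π, A, hπ, hex⟩ :=
      Module.FinitePresentation.exists_fin' R (N ⧸ LinearMap.range f)
    let q : N →ₗ[R] (N ⧸ LinearMap.range f) := (LinearMap.range f).mkQ
    have hqf : ∀ x0, q (f x0) = 0 := fun x0 =>
      (Submodule.Quotient.mk_eq_zero _).mpr (LinearMap.mem_range_self f x0)
    obtain ⟨u, hu⟩ := Module.projective_lifting_property q π (Submodule.mkQ_surjective _)
    have hu' : ∀ v, q (u v) = π v := fun v => LinearMap.congr_fun hu v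
    let em : Fin m → (Fin m → R) := fun k => fun k' => if k = k' then 1 else 0
    let en : Fin n → (Fin n → R) := fun j => fun j' => if j = j' then 1 else 0
    let a : Fin m → Fin n → R := fun k j => A (em k) j
    let y : Fin n → N := fun j => u (en j)
    have hx : ∀ k, ∃ xk : M, f xk = u (A (em k)) := by
      intro k
      have h0 : q (u (A (em k))) = 0 := by rw [hu', hex.apply_apply_eq_zero]
      exact LinearMap.mem_range.mp ((Submodule.Quotient.mk_eq_zero _).mp h0)
    choose x hxf using hx
    have hxy : ∀ k, f (x k) = ∑ j, a k j • y j := by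
      intro k
      rw [hxf, LinearMap.pi_apply_eq_sum_univ u (A (em k))]
    obtain ⟨z, hz⟩ := key R f g hdom a x y hxy
    let z' : (Fin n → R) →ₗ[R] M' := Fintype.linearCombination R z
    let x' : (Fin m → R) →ₗ[R] M := Fintype.linearCombination R x
    have hAw : ∀ (w : Fin m → R) (j : Fin n), A w j = ∑ k, w k * a k j := by
      intro w j
      rw [LinearMap.pi_apply_eq_sum_univ A w]
      simp [a, em, Finset.sum_apply]
    have hfx' : ∀ w, f (x' w) = u (A w) := by
      intro w
      have h0 : u (A w) = (u ∘ₗ A) w := rfl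
      rw [h0, LinearMap.pi_apply_eq_sum_univ (u ∘ₗ A) w]
      simp only [x', Fintype.linearCombination_apply, map_sum, map_smul, hxf, LinearMap.comp_apply]
      rfl
    have hzA : ∀ w, z' (A w) = g (x' w) := by
      intro w
      simp only [z', x', Fintype.linearCombination_apply, map_sum, map_smul, hz, hAw,
        Finset.sum_smul, Finset.smul_sum, smul_smul]
      rw [Finset.sum_comm]
    let Φ : M × (Fin n → R) →ₗ[R] N := f.coprod u
    let H : M × (Fin n → R) →ₗ[R] M' := g.coprod z'
    have hΦ : Function.Surjective Φ := by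
      intro n0
      obtain ⟨v, hv⟩ := hπ (q n0)
      have h0 : q (n0 - u v) = 0 := by rw [map_sub, hu', hv, sub_self]
      obtain ⟨x0, hx0⟩ := LinearMap.mem_range.mp ((Submodule.Quotient.mk_eq_zero _).mp h0)
      refine ⟨(x0, v), ?_⟩
      simp [Φ, LinearMap.coprod_apply, hx0]
    have hle : LinearMap.ker Φ ≤ LinearMap.ker H := by
      rintro ⟨x0, v⟩ hp
      rw [LinearMap.mem_ker, LinearMap.coprod_apply] at hp
      simp only at hp
      have hπv : π v = 0 := by
        rw [← hu']
        have : u v = -(f x0) := eq_neg_of_add_eq_zero_right hp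
        rw [this, map_neg, hqf, neg_zero]
      obtain ⟨w, rfl⟩ := (hex v).mp hπv
      have h1 : f (x0 + x' w) = 0 := by rw [map_add, hfx', hp]
      have h2 := hker _ h1
      rw [LinearMap.mem_ker, LinearMap.coprod_apply]
      simp only
      rw [hzA, ← map_add, h2]
    let e := Φ.quotKerEquivOfSurjective hΦ
    refine ⟨(LinearMap.ker Φ).liftQ H hle ∘ₗ e.symm.toLinearMap, ?_⟩
    ext x0
    have h1 : e.symm (f x0) = Submodule.Quotient.mk (x0, 0) := by
      rw [LinearEquiv.symm_apply_eq, LinearMap.quotKerEquivOfSurjective_apply_mk]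
      simp [Φ, LinearMap.coprod_apply]
    simp only [LinearMap.comp_apply, LinearEquiv.coe_coe, h1]
    rw [Submodule.liftQ_apply]
    simp [H, LinearMap.coprod_apply]
  · rintro ⟨h, rfl⟩ Q _ _ t ht
    rw [LinearMap.mem_ker] at ht ⊢
    rw [LinearMap.rTensor_comp, LinearMap.comp_apply, ht, map_zero]

end Groth.Agent.S6359
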