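import Groth.Statements.S0583
import Mathlib
import Groth.Agent.Lib.Helper8.Kaplansky

set_option autoImplicit false
universe u
open scoped Classical
open CAlg

namespace Groth.Agent.S0583

/-- If a module is an internal direct sum of countably generated submodules, then any direct summand of
it is again an internal direct sum of countably generated submodules. -/
theorem result (R : Type u) [CommRing R] (M : Type u)
    [AddCommGroup M] [Module R M] (ι : Type u) (N : ι → Submodule R M) (hN : DirectSum.IsInternal N)
    (hc : ∀ i, CAlg.IsCountablyGenerated R (N i)) (P Q : Submodule R M) (hPQ : IsCompl P Q) :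
    ∃ (κ : Type u) (L : κ → Submodule R P), DirectSum.IsInternal L ∧
      ∀ k, CAlg.IsCountablyGenerated R (L k) := by
  have hind := hN.submodule_iSupIndep
  have htop := hN.submodule_iSup_eq_top
  obtain ⟨𝓛, h1, h2, h3⟩ := Groth.Agent.Lib.helper8.Kap.kaplansky N (P.projection Q hPQ) hind htop
    (fun i => Groth.Agent.Lib.helper8.Kap.cg_of_isCountablyGenerated _ (hc i)) (by
      intro x hx
      rw [Submodule.range_projection] at hx
      exact Submodule.projection_apply_of_mem_left hPQ hx)
  rw [Submodule.range_projection] at h3
  have hle : ∀ k : 𝓛, (k : Submodule R M) ≤ P := fun k => h3 ▸ le_sSup k.2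
  refine ⟨𝓛, fun k => (k : Submodule R M).comap P.subtype, ?_, ?_⟩
  · refine @DirectSum.isInternal_submodule_of_iSupIndep_of_iSup_eq_top _ _ _ (fun a b => Classical.propDecidable (a = b)) _ _ _ _ ?_ ?_
    · intro k
      rw [Submodule.disjoint_def]
      intro x hx1 hx2
      have hind' : iSupIndep (fun k : 𝓛 => (k : Submodule R M)) := (sSupIndep_iff 𝓛).mp h2
      have hd := hind' k
      rw [Submodule.disjoint_def] at hd
      have hx2' : (x : M) ∈ ⨆ (j : 𝓛) (_ : j ≠ k), (j : Submodule R M) := by
        have hm : (x : M) ∈ (⨆ (j : 𝓛) (_ : j ≠ k),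
            (j : Submodule R M).comap P.subtype).map P.subtype := Submodule.mem_map_of_mem hx2
        rw [Submodule.map_iSup] at hm
        have hmono : (⨆ (j : 𝓛), Submodule.map P.subtype (⨆ (_ : j ≠ k),
            (j : Submodule R M).comap P.subtype)) ≤ ⨆ (j : 𝓛) (_ : j ≠ k), (j : Submodule R M) := by
          refine iSup_mono fun j => ?_
          rw [Submodule.map_iSup]
          exact iSup_mono fun _ => Submodule.map_comap_le _ _
        exact hmono hm
      exact Subtype.ext (hd (x : M) hx1 hx2')
    · apply Submodule.map_injective_of_injective P.injective_subtype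
      rw [Submodule.map_iSup, Submodule.map_top, Submodule.range_subtype]
      have hmc : ∀ k : 𝓛, ((k : Submodule R M).comap P.subtype).map P.subtype = k := fun k => by
        rw [Submodule.map_comap_subtype, inf_eq_right]
        exact hle k
      simp_rw [hmc]
      rw [← sSup_eq_iSup', h3]
  · intro k
    exact Groth.Agent.Lib.helper8.Kap.isCountablyGenerated_of_linearEquiv
      (Submodule.comapSubtypeEquivOfLe (hle k)).symm
      (Groth.Agent.Lib.helper8.Kap.isCountablyGenerated_of_cg _ (h1 k k.2))

end Groth.Agent.S0583
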