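import Groth.Statements.S0584
import Mathlib
import Groth.Agent.Lib.Helper6.MLProj
import Groth.Agent.S0583

set_option autoImplicit false
universe u
open scoped Classical
open CAlg

namespace Groth.Agent.S0584

theorem isCompl_range_ker {R : Type u} [CommRing R] {M F : Type u} [AddCommGroup M] [Module R M]
    [AddCommGroup F] [Module R F] (s : M →ₗ[R] F) (p : F →ₗ[R] M) (h : p ∘ₗ s = LinearMap.id) :
    IsCompl (LinearMap.range s) (LinearMap.ker p) := by
  have hps : ∀ m, p (s m) = m := fun m => LinearMap.congr_fun h m
  constructor
  · rw [Submodule.disjoint_def]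
    rintro x ⟨m, rfl⟩ hx
    rw [LinearMap.mem_ker, hps] at hx
    rw [hx, map_zero]
  · rw [codisjoint_iff, eq_top_iff]
    intro x _
    have hx : x = s (p x) + (x - s (p x)) := by abel
    rw [hx]
    refine Submodule.add_mem_sup ⟨p x, rfl⟩ ?_
    rw [LinearMap.mem_ker, map_sub, hps, sub_self]

theorem exists_decomp_of_retract_free (R : Type u) [CommRing R] (M : Type u) [AddCommGroup M]
    [Module R M] {F : Type u} [AddCommGroup F] [Module R F] {ι₀ : Type u} (b : Module.Basis ι₀ R F)
    (s : M →ₗ[R] F) (p : F →ₗ[R] M) (hs : p ∘ₗ s = LinearMap.id) :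
    ∃ (ι : Type u) (N : ι → Submodule R M), DirectSum.IsInternal N ∧
      ∀ i, CAlg.IsCountablyGenerated R (N i) := by
  let N : ι₀ → Submodule R F := fun m => Submodule.span R {b m}
  have hind : iSupIndep N := b.linearIndependent.iSupIndep_span_singleton
  have htop : iSup N = ⊤ := by
    rw [show iSup N = ⨆ m, Submodule.span R {b m} from rfl, ← Submodule.span_range_eq_iSup]
    exact b.span_eq
  have hN : DirectSum.IsInternal N :=
    DirectSum.isInternal_submodule_of_iSupIndep_of_iSup_eq_top hind htop
  have hc : ∀ m, CAlg.IsCountablyGenerated R (N m) := fun m =>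
    Groth.Agent.Lib.helper8.Kap.isCountablyGenerated_of_cg (N m)
      ⟨{b m}, Set.countable_singleton _, rfl⟩
  have hPQ : IsCompl (LinearMap.range s) (LinearMap.ker p) := isCompl_range_ker s p hs
  obtain ⟨κ, L, hL, hLc⟩ := Groth.Agent.S0583.result R F ι₀ N hN hc _ _ hPQ
  have hsinj : Function.Injective s := by
    intro a a' haa'
    have := congrArg p haa'
    rwa [← LinearMap.comp_apply, ← LinearMap.comp_apply, hs] at this
  let e : M ≃ₗ[R] ↥(LinearMap.range s) := LinearEquiv.ofInjective s hsinj
  refine ⟨κ, fun k => (L k).comap e.toLinearMap, ?_, ?_⟩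
  · rw [DirectSum.isInternal_submodule_iff_iSupIndep_and_iSup_eq_top]
    constructor
    · exact hL.submodule_iSupIndep.map_orderIso (Submodule.orderIsoMapComap e).symm
    · have h1 : (⨆ k, (Submodule.orderIsoMapComap e).symm (L k)) =
          (Submodule.orderIsoMapComap e).symm (⨆ k, L k) :=
        ((Submodule.orderIsoMapComap e).symm.map_iSup L).symm
      have h2 : (⨆ k, (L k).comap e.toLinearMap) = ⊤ := by
        rw [show (⨆ k, (L k).comap e.toLinearMap) =
          (⨆ k, (Submodule.orderIsoMapComap e).symm (L k)) from rfl, h1,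
          hL.submodule_iSup_eq_top]
        exact (Submodule.orderIsoMapComap e).symm.map_top
      exact h2
  · intro k
    exact Groth.Agent.Lib.helper8.Kap.isCountablyGenerated_of_linearEquiv
      (LinearEquiv.ofSubmodule' e (L k)).symm (hLc k)

theorem exists_decomp_of_projective (R : Type u) [CommRing R] (M : Type u) [AddCommGroup M]
    [Module R M] [hP : Module.Projective R M] :
    ∃ (ι : Type u) (N : ι → Submodule R M), DirectSum.IsInternal N ∧
      ∀ i, CAlg.IsCountablyGenerated R (N i) := by
  obtain ⟨s, hs⟩ := Module.projective_def'.mp hP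
  exact exists_decomp_of_retract_free R M (Finsupp.basisSingleOne (R := R) (ι := M)) s
    (Finsupp.linearCombination R id) hs

theorem projective_of_decomp (R : Type u) [CommRing R] (M : Type u) [AddCommGroup M]
    [Module R M] [Module.Flat R M] (hML : CAlg.IsMittagLeffler R M) (ι : Type u)
    (N : ι → Submodule R M) (hN : DirectSum.IsInternal N)
    (hc : ∀ i, CAlg.IsCountablyGenerated R (N i)) : Module.Projective R M := by
  let e : (DirectSum ι fun i => ↥(N i)) ≃ₗ[R] M :=
    LinearEquiv.ofBijective (DirectSum.coeLinearMap N) hN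
  have hproj : ∀ i, Module.Projective R ↥(N i) := by
    intro i
    let r : M →ₗ[R] ↥(N i) := DirectSum.component R ι (fun i => ↥(N i)) i ∘ₗ e.symm.toLinearMap
    have hr : r ∘ₗ (N i).subtype = LinearMap.id := by
      apply LinearMap.ext
      intro x
      have h1 : e (DirectSum.lof R ι (fun i => ↥(N i)) i x) = (x : M) :=
        DirectSum.coeLinearMap_of N i x
      have h2 : e.symm (x : M) = DirectSum.lof R ι (fun i => ↥(N i)) i x := by
        rw [← h1, LinearEquiv.symm_apply_apply]
      show DirectSum.component R ι (fun i => ↥(N i)) i (e.symm ((N i).subtype x)) = x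
      rw [Submodule.subtype_apply, h2, DirectSum.component.lof_self]
    have : Module.Flat R ↥(N i) := Module.Flat.of_retract (N i).subtype r hr
    exact Groth.Agent.Lib.helper6.MLDom.projective_of_flat_ml_countable R ↥(N i)
      (Groth.Agent.Lib.helper6.MLDom.ml_of_retract (N i).subtype r hr hML) (hc i)
  have : Module.Projective R (DirectSum ι fun i => ↥(N i)) :=
    inferInstanceAs (Module.Projective R (Π₀ i, ↥(N i)))
  exact Module.Projective.of_equiv e



/-- Projectivity of a module is equivalent to the conjunction of three conditions — flatness, the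
Mittag-Leffler property, and being an internal direct sum of countably generated submodules. -/
theorem result (R : Type u) [CommRing R] (M : Type u)
    [AddCommGroup M] [Module R M] :
    Module.Projective R M ↔ (Module.Flat R M ∧ CAlg.IsMittagLeffler R M ∧
      ∃ (ι : Type u) (N : ι → Submodule R M), DirectSum.IsInternal N ∧
        ∀ i, CAlg.IsCountablyGenerated R (N i)) := by
  constructor
  · intro hP
    exact ⟨inferInstance, Groth.Agent.Lib.helper6.MLDom.ml_of_projective R M,
      exists_decomp_of_projective R M⟩
  · rintro ⟨hF, hML, ι, N, hN, hc⟩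
    exact projective_of_decomp R M hML ι N hN hc


end Groth.Agent.S0584
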