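import Groth.Statements.S1193
import Mathlib

set_option autoImplicit false
universe u
open FlatMor

namespace Groth.Agent.S1193

attribute [local instance] Algebra.TensorProduct.rightAlgebra

section general

variable {S F M : Type*} [CommRing S] [CommRing F] [Algebra S F] [AddCommGroup M] [Module S M]
  [Module F M] [IsScalarTower S F M]

omit [IsScalarTower S F M] in
lemma colon_mem_iff (x : M) (s : S) : s ∈ (⊥ : Submodule S M).colon {x} ↔ s • x = 0 := by
  rw [Submodule.mem_colon_singleton, Submodule.mem_bot]

lemma comap_isAssociatedPrime (P : Ideal F) (hP : IsAssociatedPrime P M) :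
    IsAssociatedPrime (P.comap (algebraMap S F)) M := by
  obtain ⟨hprime, x, hx⟩ := hP
  refine ⟨Ideal.comap_isPrime _ _, x, ?_⟩
  ext s
  rw [Ideal.mem_comap, hx, Ideal.mem_radical_iff, Ideal.mem_radical_iff]
  constructor
  · rintro ⟨n, hn⟩
    refine ⟨n, ?_⟩
    rw [Submodule.mem_colon_singleton, Submodule.mem_bot] at hn ⊢
    rw [← map_pow, algebraMap_smul] at hn
    exact hn
  · rintro ⟨n, hn⟩
    refine ⟨n, ?_⟩
    rw [Submodule.mem_colon_singleton, Submodule.mem_bot] at hn ⊢
    rw [← map_pow, algebraMap_smul]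
    exact hn

omit [Module F M] [IsScalarTower S F M] [Algebra S F] in
lemma not_mem_nzsd_of_mem_ass (q' : Ideal S) (hq' : IsAssociatedPrime q' M) (s : S) (hs : s ∈ q') :
    s ∉ nonZeroSMulDivisors S M := by
  classical
  obtain ⟨hprime, x, hx⟩ := hq'
  have hx0 : x ≠ 0 := by
    rintro rfl
    apply hprime.ne_top
    rw [hx, Ideal.radical_eq_top, Ideal.eq_top_iff_one, Submodule.mem_colon_singleton]
    simp
  rw [hx, Ideal.mem_radical_iff] at hs
  have hs' : ∃ n, s ^ n • x = 0 := by
    obtain ⟨n, hn⟩ := hs
    exact ⟨n, by rwa [Submodule.mem_colon_singleton, Submodule.mem_bot] at hn⟩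
  have hn := Nat.find_spec hs'
  have hmin := fun k => Nat.find_min hs' (m := k)
  set n := Nat.find hs' with hndef
  have hn0 : n ≠ 0 := by
    intro h0
    rw [h0, pow_zero, one_smul] at hn
    exact hx0 hn
  obtain ⟨k, hk⟩ := Nat.exists_eq_succ_of_ne_zero hn0
  intro hmem
  rw [mem_nonZeroSMulDivisors_iff] at hmem
  have h1 : s • (s ^ k • x) = 0 := by
    rw [← mul_smul, ← pow_succ', ← Nat.succ_eq_add_one, ← hk]
    exact hn
  exact hmin k (by omega) (hmem _ h1)

lemma exists_ass_of_not_mem_nzsd [IsNoetherianRing F] (s : S) (hs : s ∉ nonZeroSMulDivisors S M) :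
    ∃ q' ∈ associatedPrimes S M, s ∈ q' := by
  rw [mem_nonZeroSMulDivisors_iff] at hs
  push Not at hs
  obtain ⟨x, hsx, hx0⟩ := hs
  obtain ⟨P, hP, hle⟩ := exists_le_isAssociatedPrime_of_isNoetherianRing F x hx0
  refine ⟨P.comap (algebraMap S F), comap_isAssociatedPrime P hP, ?_⟩
  rw [Ideal.mem_comap]
  apply hle
  rw [Submodule.mem_colon_singleton, Submodule.mem_bot, algebraMap_smul]
  exact hsx

lemma ass_subset_image (hsurj : Function.Surjective (algebraMap S F)) :
    associatedPrimes S M ⊆ (Ideal.comap (algebraMap S F)) '' (associatedPrimes F M) := by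
  rintro q' ⟨hprime, x, hx⟩
  have hker : RingHom.ker (algebraMap S F) ≤ q' := by
    intro s hs
    rw [RingHom.mem_ker] at hs
    rw [hx]
    apply Ideal.le_radical
    rw [Submodule.mem_colon_singleton, Submodule.mem_bot, ← algebraMap_smul F s x, hs, zero_smul]
  have hcm : (Ideal.map (algebraMap S F) q').comap (algebraMap S F) = q' := by
    rw [Ideal.comap_map_of_surjective' _ hsurj]
    exact sup_eq_left.mpr hker
  have hP : (Ideal.map (algebraMap S F) q').IsPrime :=
    Ideal.map_isPrime_of_surjective hsurj hker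
  refine ⟨Ideal.map (algebraMap S F) q', ⟨hP, x, ?_⟩, hcm⟩
  ext f
  obtain ⟨s, rfl⟩ := hsurj f
  rw [← Ideal.mem_comap, hcm, Ideal.mem_radical_iff]
  conv_lhs => rw [hx]
  rw [Ideal.mem_radical_iff]
  constructor
  · rintro ⟨n, hn⟩
    refine ⟨n, ?_⟩
    rw [Submodule.mem_colon_singleton, Submodule.mem_bot] at hn ⊢
    rw [← map_pow, algebraMap_smul]
    exact hn
  · rintro ⟨n, hn⟩
    refine ⟨n, ?_⟩
    rw [Submodule.mem_colon_singleton, Submodule.mem_bot] at hn ⊢
    rw [← map_pow, algebraMap_smul] at hn
    exact hn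

lemma ass_finite [IsNoetherianRing F] [Module.Finite F M]
    (hsurj : Function.Surjective (algebraMap S F)) : (associatedPrimes S M).Finite :=
  ((associatedPrimes.finite F M).image _).subset (ass_subset_image hsurj)

end general

section main

variable {S M : Type*} [CommRing S] [AddCommGroup M] [Module S M]

lemma main (hfin : (associatedPrimes S M).Finite)
    (hzd : ∀ s : S, s ∉ nonZeroSMulDivisors S M ↔ ∃ q' ∈ associatedPrimes S M, s ∈ q') :
    (∀ (q : Ideal S) [q.IsPrime], Disjoint (q : Set S) (nonZeroSMulDivisors S M) ↔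
        ∃ q' ∈ associatedPrimes S M, q ≤ q') ∧
    {Q : Ideal (Localization (nonZeroSMulDivisors S M)) | Q.IsMaximal}.Finite ∧
    (∀ Q : Ideal (Localization (nonZeroSMulDivisors S M)), Q.IsMaximal ↔ (Q.IsPrime ∧
        Maximal (fun r => r ∈ associatedPrimes S M)
          (Q.comap (algebraMap S (Localization (nonZeroSMulDivisors S M)))))) := by
  classical
  set Sg := nonZeroSMulDivisors S M with hSg
  set L := Localization Sg with hL
  -- part 1
  have part1 : ∀ (q : Ideal S), q.IsPrime → (Disjoint (q : Set S) Sg ↔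
      ∃ q' ∈ associatedPrimes S M, q ≤ q') := by
    intro q hq
    constructor
    · intro hdisj
      have hsub : (q : Set S) ⊆ ⋃ i ∈ hfin.toFinset, ((fun (I : Ideal S) => I) i : Set S) := by
        intro s hs
        have hns : s ∉ Sg := fun h => Set.disjoint_left.mp hdisj hs h
        obtain ⟨q', hq', hsq'⟩ := (hzd s).mp hns
        simp only [Set.mem_iUnion]
        exact ⟨q', (Set.Finite.mem_toFinset hfin).mpr hq', hsq'⟩
      have := (Ideal.subset_union_prime (s := hfin.toFinset) (f := fun (I : Ideal S) => I)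
        (I := q) ⊥ ⊥ (fun i hi _ _ => ((Set.Finite.mem_toFinset hfin).mp hi).isPrime)).mp hsub
      obtain ⟨q', hq', hle⟩ := this
      exact ⟨q', (Set.Finite.mem_toFinset hfin).mp hq', hle⟩
    · rintro ⟨q', hq', hle⟩
      rw [Set.disjoint_left]
      intro s hs hsSg
      exact (hzd s).mpr ⟨q', hq', hle hs⟩ hsSg
  have hdisj_ass : ∀ q' ∈ associatedPrimes S M, Disjoint (Sg : Set S) (q' : Set S) := by
    intro q' hq'
    have hp : q'.IsPrime := hq'.isPrime
    exact ((part1 q' hp).mpr ⟨q', hq', le_rfl⟩).symm
  -- part 3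
  have part3 : ∀ Q : Ideal L, Q.IsMaximal ↔ (Q.IsPrime ∧
        Maximal (fun r => r ∈ associatedPrimes S M) (Q.comap (algebraMap S L))) := by
    intro Q
    constructor
    · intro hQ
      have hQp : Q.IsPrime := hQ.isPrime
      refine ⟨hQp, ?_⟩
      obtain ⟨hqp, hqd⟩ := (IsLocalization.isPrime_iff_isPrime_disjoint Sg L Q).mp hQp
      rw [Ideal.under_def] at hqp hqd
      obtain ⟨q', hq', hle⟩ := (part1 _ hqp).mp hqd.symm
      -- claim: any associated prime above comap Q equals comap Q
      have claim : ∀ q'' ∈ associatedPrimes S M, Q.comap (algebraMap S L) ≤ q'' →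
          q'' = Q.comap (algebraMap S L) := by
        intro q'' hq'' hle''
        have hp'' : q''.IsPrime := hq''.isPrime
        have hd'' := hdisj_ass q'' hq''
        have hQ'' : (Ideal.map (algebraMap S L) q'').IsPrime :=
          IsLocalization.isPrime_of_isPrime_disjoint Sg L q'' hp'' hd''
        have h1 : Q ≤ Ideal.map (algebraMap S L) q'' := by
          have h2 := IsLocalization.map_under Sg L Q
          rw [Ideal.under_def] at h2
          rw [← h2]
          exact Ideal.map_mono hle''
        have h3 : Q = Ideal.map (algebraMap S L) q'' := hQ.eq_of_le hQ''.ne_top h1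
        have h4 := IsLocalization.under_map_of_isPrime_disjoint Sg L hp'' hd''
        rw [Ideal.under_def] at h4
        rw [h3, h4]
      have heq := claim q' hq' hle
      refine ⟨heq ▸ hq', ?_⟩
      intro y hy hley
      exact (claim y hy hley).le
    · rintro ⟨hQp, hmax⟩
      obtain ⟨Q1, hQ1, hle1⟩ := Ideal.exists_le_maximal Q hQp.ne_top
      have hQ1p : Q1.IsPrime := hQ1.isPrime
      obtain ⟨hqp, hqd⟩ := (IsLocalization.isPrime_iff_isPrime_disjoint Sg L Q1).mp hQ1p
      rw [Ideal.under_def] at hqp hqd
      obtain ⟨q', hq', hle⟩ := (part1 _ hqp).mp hqd.symm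
      have hle2 : Q.comap (algebraMap S L) ≤ Q1.comap (algebraMap S L) := Ideal.comap_mono hle1
      have h5 : q' ≤ Q.comap (algebraMap S L) := hmax.2 hq' (hle2.trans hle)
      have h6 : Q1.comap (algebraMap S L) = Q.comap (algebraMap S L) :=
        le_antisymm (hle.trans h5) hle2
      have h7 := IsLocalization.map_under Sg L Q
      have h8 := IsLocalization.map_under Sg L Q1
      rw [Ideal.under_def] at h7 h8
      have : Q = Q1 := by rw [← h7, ← h8, h6]
      rw [this]
      exact hQ1
  refine ⟨fun q hq => part1 q hq, ?_, part3⟩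
  -- part 2
  have hinj : Function.Injective (fun Q : Ideal L => Q.comap (algebraMap S L)) := by
    intro Q1 Q2 h
    have h7 := IsLocalization.map_under Sg L Q1
    have h8 := IsLocalization.map_under Sg L Q2
    rw [Ideal.under_def] at h7 h8
    simp only at h
    rw [← h7, ← h8, h]
  refine (hfin.preimage (hinj.injOn)).subset ?_
  intro Q hQ
  exact ((part3 Q).mp hQ).2.1

end main

open IsLocalRing in
/-- Let R be a local ring, S an R-algebra whose closed fibre ring is Noetherian and N an S-module whose
closed fibre module N/𝔪N is finite. Let Σ be the set of elements of S acting injectively on N/𝔪N.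
Then a prime of S is disjoint from Σ exactly when it lies inside an associated prime of N/𝔪N (the
primes of the localization at Σ), the localization of S at Σ has finitely many maximal ideals, and
an ideal of that localization is maximal exactly when it is prime and contracts to a maximal member
of the set of associated primes of N/𝔪N. -/
theorem result {R S : Type u} [CommRing R] [IsLocalRing R] [CommRing S] [Algebra R S]
    (N : Type u) [AddCommGroup N] [Module S N] [Module R N] [IsScalarTower R S N]
    [IsNoetherianRing ((maximalIdeal R).Fiber S)]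
    [Module.Finite ((maximalIdeal R).Fiber S) (FlatCA.fiberMod (maximalIdeal R) S N)] :
    (∀ (q : Ideal S) [q.IsPrime], Disjoint (q : Set S) (FlatCA.nzdFiber R S N) ↔
        ∃ q' ∈ associatedPrimes S (FlatCA.fiberMod (maximalIdeal R) S N), q ≤ q') ∧
    {Q : Ideal (Localization (FlatCA.nzdFiber R S N)) | Q.IsMaximal}.Finite ∧
    (∀ Q : Ideal (Localization (FlatCA.nzdFiber R S N)), Q.IsMaximal ↔ (Q.IsPrime ∧
        Maximal (fun r => r ∈ associatedPrimes S (FlatCA.fiberMod (maximalIdeal R) S N))
          (Q.comap (algebraMap S (Localization (FlatCA.nzdFiber R S N)))))) := by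
  have hsurj : Function.Surjective (algebraMap S ((maximalIdeal R).Fiber S)) :=
    Algebra.TensorProduct.includeRight_surjective S
      (Ideal.algebraMap_residueField_surjective (maximalIdeal R))
  have : IsScalarTower S ((maximalIdeal R).Fiber S) (FlatCA.fiberMod (maximalIdeal R) S N) :=
    inferInstanceAs (IsScalarTower S ((maximalIdeal R).Fiber S)
      (TensorProduct S ((maximalIdeal R).Fiber S) N))
  have hfin := ass_finite (S := S) (F := (maximalIdeal R).Fiber S)
    (M := FlatCA.fiberMod (maximalIdeal R) S N) hsurj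
  have hzd : ∀ s : S, s ∉ nonZeroSMulDivisors S (FlatCA.fiberMod (maximalIdeal R) S N) ↔
      ∃ q' ∈ associatedPrimes S (FlatCA.fiberMod (maximalIdeal R) S N), s ∈ q' := by
    intro s
    constructor
    · exact exists_ass_of_not_mem_nzsd (F := (maximalIdeal R).Fiber S) s
    · rintro ⟨q', hq', hs⟩
      exact not_mem_nzsd_of_mem_ass q' hq' s hs
  exact main hfin hzd

end Groth.Agent.S1193
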