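import Groth.Statements.S1200
import Groth.Agent.Lib.Helper3.UnivInjAss1

set_option autoImplicit false
universe u
open FlatMor

namespace Groth.Agent.S1200

/-- Let R → S be a map of Noetherian rings, I an ideal of R and N a finite S-module which is flat over
R. Assume that for every prime q of S, over p in R, whose extension to the fibre ring over p is an
associated prime of the fibre module of N, the ideal IS + q is proper. Then the canonical map from N
to its I-adic completion is universally injective as a map of R-modules. -/
theorem result {R S : Type u} [CommRing R] [CommRing S] [Algebra R S] [IsNoetherianRing R] [IsNoetherianRing S] (I : Ideal R)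
    (N : Type u) [AddCommGroup N] [Module S N] [Module R N] [IsScalarTower R S N] [Module.Finite S N] [Module.Flat R N]
    (h : ∀ (p : Ideal R) (q : Ideal S) [p.IsPrime] [q.IsPrime] [q.LiesOver p],
      FlatCA.fiberIdeal p q ∈ associatedPrimes (p.Fiber S) (FlatCA.fiberMod p S N) → I.map (algebraMap R S) ⊔ q ≠ ⊤) :
    FlatCA.UnivInj R (AdicCompletion.of I N) := by
  refine Groth.Agent.Lib.helper3.UnivInjCompl.lTensor_injective_of_forall_fg _ ?_
  intro Q _ _ hQ
  rw [LinearMap.lTensor_inj_iff_rTensor_inj]
  refine Groth.Agent.Lib.helper3.UnivInjCompl.rTensor_of_injective (S := S) I N Q ?_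
  intro q hq
  obtain ⟨p, hp, hqp, hlo, hass⟩ := Groth.Agent.Lib.helper3.UnivInjAss.ass_tensor (S := S) N Q q hq
  exact h p q hass

end Groth.Agent.S1200
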