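import Groth.Statements.S1203
import Groth.Agent.Lib.Helper3.CgProj1
import Groth.Agent.S1200
import Groth.Agent.S1198
import Groth.Agent.S6338
import Groth.Agent.S0584

set_option autoImplicit false
universe u
open FlatMor

namespace Groth.Agent.S1203

/-- Let R be a Noetherian ring complete with respect to an ideal I, S a finite type R-algebra and N a
finite S-module which is flat over R, such that N/IN is a projective R/I-module and such that for
every prime q of S, over p in R, whose extension to the fibre ring over p is an associated prime of
the fibre module of N, the ideal IS + q is proper. Then N is a projective R-module. -/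
theorem result {R S : Type u} [CommRing R] [CommRing S] [Algebra R S] [IsNoetherianRing R] (I : Ideal R) [IsAdicComplete I R]
    [Algebra.FiniteType R S]
    (N : Type u) [AddCommGroup N] [Module S N] [Module R N] [IsScalarTower R S N] [Module.Finite S N] [Module.Flat R N]
    [Module.Projective (R ⧸ I) (N ⧸ (I • ⊤ : Submodule R N))]
    (h : ∀ (p : Ideal R) (q : Ideal S) [p.IsPrime] [q.IsPrime] [q.LiesOver p],
      FlatCA.fiberIdeal p q ∈ associatedPrimes (p.Fiber S) (FlatCA.fiberMod p S N) → I.map (algebraMap R S) ⊔ q ≠ ⊤) :
    Module.Projective R N := by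
  haveI : IsNoetherianRing S := Algebra.FiniteType.isNoetherianRing R S
  have hui : FlatCA.UnivInj R (AdicCompletion.of I N) := Groth.Agent.S1200.result I N h
  obtain ⟨_, hML⟩ := Groth.Agent.S1198.result R I N
  have hui' : CAlgX.UniversallyInjective R (AdicCompletion.of I N) := by
    intro Q _ _
    exact (LinearMap.lTensor_inj_iff_rTensor_inj _ _).mp (hui Q)
  have hMLN : CAlg.IsMittagLeffler R N :=
    Groth.Agent.S6338.result R (AdicCompletion.of I N) hui' hML
  rw [Groth.Agent.S0584.result]
  refine ⟨inferInstance, hMLN, PUnit, fun _ => ⊤, ?_, fun _ => ?_⟩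
  · exact @Groth.Agent.Lib.helper3.CgProj.isInternal_top R _ N _ _
      (fun a b => Classical.propDecidable (a = b))
  exact Groth.Agent.Lib.helper3.CgProj.isCountablyGenerated_top N
    (Groth.Agent.Lib.helper3.CgProj.isCountablyGenerated_of_finite_of_finiteType (S := S) N)

end Groth.Agent.S1203
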