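import Groth.Statements.S7051
import Mathlib
import Groth.Agent.Lib.Helper23.DCompl
-- import your own Groth.Agent.* helpers here

set_option autoImplicit false
universe u
attribute [local instance] HasDerivedCategory.standard
open DRing

namespace Groth.Agent.S7051

/-- For a commutative ring A, an ideal I and a linear map u between A-modules M and N which are derived
complete with respect to I (placed in degree 0), the kernel of u and the cokernel N/u(M) are again
derived complete with respect to I. -/
theorem result {A : Type u} [CommRing A] (I : Ideal A)
    (M N : Type u) [AddCommGroup M] [Module A M] [AddCommGroup N] [Module A N] (u : M →ₗ[A] N)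
    (hM : DRing.IsDerivedComplete I (Dual.inD A M)) (hN : DRing.IsDerivedComplete I (Dual.inD A N)) :
    DRing.IsDerivedComplete I (Dual.inD A (LinearMap.ker u)) ∧
      DRing.IsDerivedComplete I (Dual.inD A (N ⧸ LinearMap.range u)) := by
  have key : ∀ f : A, f ∈ I → _ := fun f hf =>
    Groth.Agent.Lib.helper23.DCompl.ker_coker f u (fun n => hM f hf n) (fun n => hN f hf n)
  exact ⟨fun f hf n => (key f hf).1 n, fun f hf n => (key f hf).2 n⟩

end Groth.Agent.S7051
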