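import Groth.Statements.S12080
import Mathlib

set_option autoImplicit false
universe u
open TensorProduct
open CAlg

namespace Groth.Agent.S12080

/-- (1) ⇒ (2): let `M` be a finite locally free `R`-module of rank `1`, i.e. there is a set `s ⊆ R`
generating the unit ideal with `M_f ≅ R_f` as `R_f`-modules for every `f ∈ s`. Then the evaluation
map `Hom_R(M, R) ⊗_R M → R` is bijective, so `M` is invertible with inverse its dual. -/
theorem result (R : Type u) [CommRing R] (M : Type u) [AddCommGroup M]
    [Module R M] (s : Set R) (hs : Ideal.span s = ⊤)
    (hfree : ∀ f ∈ s, Nonempty (LocalizedModule.Away f M ≃ₗ[Localization.Away f] Localization.Away f)) :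
    Module.Invertible R M := by
  have hfp : Module.FinitePresentation R M := by
    apply Module.FinitePresentation.of_localizationSpan s hs
    intro g
    obtain ⟨e⟩ := hfree g.1 g.2
    exact Module.FinitePresentation.of_equiv e.symm
  constructor
  refine bijective_of_isLocalized_span s hs
    (fun r => (Module.Dual (Localization.Away r.1) (LocalizedModule.Away r.1 M)) ⊗[R]
      (LocalizedModule.Away r.1 M))
    (fun r => TensorProduct.map
      (IsLocalizedModule.mapExtendScalars (Submonoid.powers r.1)
        (LocalizedModule.mkLinearMap (Submonoid.powers r.1) M)
        (Algebra.linearMap R (Localization.Away r.1)) (Localization.Away r.1))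
      (LocalizedModule.mkLinearMap (Submonoid.powers r.1) M))
    (fun r => Localization.Away r.1)
    (fun r => Algebra.linearMap R (Localization.Away r.1))
    (contractLeft R M) ?_
  intro r
  obtain ⟨e⟩ := hfree r.1 r.2
  have hinv : Module.Invertible (Localization.Away r.1) (LocalizedModule.Away r.1 M) :=
    Module.Invertible.congr e.symm
  -- the candidate map
  let E := IsLocalization.moduleTensorEquiv (Submonoid.powers r.1) (Localization.Away r.1)
    (Module.Dual (Localization.Away r.1) (LocalizedModule.Away r.1 M)) (LocalizedModule.Away r.1 M)
  let G : (Module.Dual (Localization.Away r.1) (LocalizedModule.Away r.1 M)) ⊗[R]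
      (LocalizedModule.Away r.1 M) →ₗ[R] Localization.Away r.1 :=
    ((contractLeft (Localization.Away r.1) (LocalizedModule.Away r.1 M)) ∘ₗ
      E.symm.toLinearMap).restrictScalars R
  have hG : Function.Bijective G := by
    change Function.Bijective ((contractLeft (Localization.Away r.1) (LocalizedModule.Away r.1 M)) ∘
      E.symm)
    exact hinv.bijective.comp E.symm.bijective
  suffices h : IsLocalizedModule.map (Submonoid.powers r.1)
      (TensorProduct.map
        (IsLocalizedModule.mapExtendScalars (Submonoid.powers r.1)
          (LocalizedModule.mkLinearMap (Submonoid.powers r.1) M)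
          (Algebra.linearMap R (Localization.Away r.1)) (Localization.Away r.1))
        (LocalizedModule.mkLinearMap (Submonoid.powers r.1) M))
      (Algebra.linearMap R (Localization.Away r.1)) (contractLeft R M) = G by
    rw [h]
    exact hG
  apply IsLocalizedModule.linearMap_ext (Submonoid.powers r.1)
    (TensorProduct.map
        (IsLocalizedModule.mapExtendScalars (Submonoid.powers r.1)
          (LocalizedModule.mkLinearMap (Submonoid.powers r.1) M)
          (Algebra.linearMap R (Localization.Away r.1)) (Localization.Away r.1))
        (LocalizedModule.mkLinearMap (Submonoid.powers r.1) M))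
    (Algebra.linearMap R (Localization.Away r.1))
  rw [IsLocalizedModule.map_comp]
  apply TensorProduct.ext'
  intro φ m
  simp only [LinearMap.comp_apply, TensorProduct.map_tmul, contractLeft_apply,
    Algebra.linearMap_apply]
  have hGx : ∀ x, G x = (contractLeft (Localization.Away r.1) (LocalizedModule.Away r.1 M))
      (E.symm x) := fun x => rfl
  rw [hGx]
  have hE : E.symm ((IsLocalizedModule.mapExtendScalars (Submonoid.powers r.1)
          (LocalizedModule.mkLinearMap (Submonoid.powers r.1) M)
          (Algebra.linearMap R (Localization.Away r.1)) (Localization.Away r.1)) φ ⊗ₜ[R]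
        (LocalizedModule.mkLinearMap (Submonoid.powers r.1) M) m) =
      ((IsLocalizedModule.mapExtendScalars (Submonoid.powers r.1)
          (LocalizedModule.mkLinearMap (Submonoid.powers r.1) M)
          (Algebra.linearMap R (Localization.Away r.1)) (Localization.Away r.1)) φ) ⊗ₜ[Localization.Away r.1]
        ((LocalizedModule.mkLinearMap (Submonoid.powers r.1) M) m) := rfl
  rw [hE, contractLeft_apply, IsLocalizedModule.mapExtendScalars_apply_apply,
    IsLocalizedModule.map_apply]
  rfl

end Groth.Agent.S12080
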