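import Mathlib.RingTheory.Smooth.NoetherianDescent
import Mathlib.RingTheory.Etale.Basic
import Mathlib.RingTheory.FinitePresentation
import Mathlib.RingTheory.Polynomial.Basic

/-!
# Descent of finitely presented / smooth / étale algebras to a finite stage of a filtered system
(helper29)

`Sys G g`: a family of ring maps `g i : G i → A` which is jointly surjective, directed, and such
that elements killed by `g i` are killed by a transition map.  Any finitely generated `ℤ`-subalgebra
of `A` lifts to some `G i` (`exists_lift_subalgebra`), hence finitely presented (smooth, étale)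
`A`-algebras descend to some `G i`.
-/

set_option autoImplicit false
set_option linter.style.haveILetI false

namespace Groth.Agent.LibColimDescent29

open TensorProduct

universe u v

/-- a "filtered colimit" presentation of `A`, in elementary terms -/
structure Sys {A : Type u} [CommRing A] {ι : Type v} (G : ι → Type u) [∀ i, CommRing (G i)]
    (g : ∀ i, G i →+* A) : Prop where
  nonempty : Nonempty ι
  surj : ∀ a : A, ∃ i, ∃ x : G i, g i x = a
  dir : ∀ i j, ∃ (k : ι) (fi : G i →+* G k) (fj : G j →+* G k),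
    (g k).comp fi = g i ∧ (g k).comp fj = g j
  ker : ∀ i (x : G i), g i x = 0 → ∃ (k : ι) (f : G i →+* G k), (g k).comp f = g i ∧ f x = 0

namespace Sys

variable {A : Type u} [CommRing A] {ι : Type v} {G : ι → Type u} [∀ i, CommRing (G i)]
  {g : ∀ i, G i →+* A} (hS : Sys G g)

include hS

lemma exists_lift_finset (s : Finset A) : ∃ (i : ι) (y : A → G i), ∀ a ∈ s, g i (y a) = a := by
  classical
  induction s using Finset.induction_on with
  | empty =>
    obtain ⟨i⟩ := hS.nonempty
    exact ⟨i, fun _ => 0, by simp⟩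
  | insert a s _ ih =>
    obtain ⟨i, y, hy⟩ := ih
    obtain ⟨j, x, hx⟩ := hS.surj a
    obtain ⟨k, fi, fj, hfi, hfj⟩ := hS.dir i j
    refine ⟨k, fun b => if b = a then fj x else fi (y b), fun b hb => ?_⟩
    by_cases hba : b = a
    · subst hba
      simp only [if_true]
      rw [← RingHom.comp_apply, hfj, hx]
    · simp only [if_neg hba]
      rw [← RingHom.comp_apply, hfi]
      exact hy b ((Finset.mem_insert.mp hb).resolve_left hba)

lemma exists_kill_finset (i : ι) (T : Finset (G i)) (hT : ∀ t ∈ T, g i t = 0) :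
    ∃ (k : ι) (f : G i →+* G k), (g k).comp f = g i ∧ ∀ t ∈ T, f t = 0 := by
  classical
  induction T using Finset.induction_on with
  | empty => exact ⟨i, RingHom.id _, RingHom.comp_id _, by simp⟩
  | insert t T _ ih =>
    obtain ⟨k, f, hf, hfT⟩ := ih fun t' ht' => hT t' (Finset.mem_insert_of_mem ht')
    have h0 : g k (f t) = 0 := by
      rw [← RingHom.comp_apply, hf]
      exact hT t (Finset.mem_insert_self t T)
    obtain ⟨k', f', hf', hft⟩ := hS.ker k (f t) h0
    refine ⟨k', f'.comp f, ?_, fun t' ht' => ?_⟩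
    · rw [← RingHom.comp_assoc, hf', hf]
    · rcases Finset.mem_insert.mp ht' with rfl | h
      · exact hft
      · rw [RingHom.comp_apply, hfT t' h, map_zero]

/-- a finitely generated subring of `A` lifts to some stage -/
theorem exists_lift_subalgebra (A₀ : Subalgebra ℤ A) (hfg : A₀.FG) :
    ∃ (i : ι) (ψ : A₀ →+* G i), ∀ a : A₀, g i (ψ a) = a := by
  classical
  obtain ⟨s, hs⟩ := hfg
  let φ : MvPolynomial s ℤ →ₐ[ℤ] A := MvPolynomial.aeval (fun x : s => (x : A))
  have hrange : φ.range = A₀ := by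
    rw [← hs, ← Algebra.adjoin_range_eq_range_aeval]
    congr 1
    ext a
    simp
  have hφmem : ∀ p, φ p ∈ A₀ := fun p => hrange ▸ AlgHom.mem_range_self φ p
  let φ' : MvPolynomial s ℤ →+* A₀ := (φ.codRestrict A₀ hφmem).toRingHom
  have hφ'surj : Function.Surjective φ' := by
    rintro ⟨a, ha⟩
    rw [← hrange] at ha
    obtain ⟨p, hp⟩ := ha
    exact ⟨p, Subtype.ext hp⟩
  obtain ⟨i, y, hy⟩ := hS.exists_lift_finset s
  let φi : MvPolynomial s ℤ →+* G i :=
    (MvPolynomial.aeval (fun x : s => y (x : A)) : MvPolynomial s ℤ →ₐ[ℤ] G i).toRingHom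
  have hgφi : (g i).comp φi = φ.toRingHom := by
    apply MvPolynomial.ringHom_ext
    · intro n
      simp [φi, φ]
    · intro x
      simp only [φi, φ, RingHom.comp_apply, AlgHom.toRingHom_eq_coe, RingHom.coe_coe,
        MvPolynomial.aeval_X]
      exact hy x x.2
  have hnoeth : IsNoetherianRing (MvPolynomial s ℤ) := inferInstance
  obtain ⟨T, hT⟩ := (isNoetherianRing_iff_ideal_fg _).mp hnoeth (RingHom.ker φ.toRingHom)
  obtain ⟨k, f, hf, hfT⟩ := hS.exists_kill_finset i (T.image φi) (by
    intro t ht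
    obtain ⟨p, hp, rfl⟩ := Finset.mem_image.mp ht
    rw [← RingHom.comp_apply, hgφi]
    have : p ∈ RingHom.ker φ.toRingHom := hT ▸ Ideal.subset_span hp
    exact this)
  let φk : MvPolynomial s ℤ →+* G k := f.comp φi
  have hker : RingHom.ker φ' ≤ RingHom.ker φk := by
    have h1 : RingHom.ker φ' = RingHom.ker φ.toRingHom := by
      ext p
      simp only [RingHom.mem_ker, φ']
      constructor
      · intro h
        exact congrArg Subtype.val h
      · intro h
        exact Subtype.ext h
    rw [h1, ← hT, Ideal.span_le]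
    intro p hp
    exact hfT _ (Finset.mem_image_of_mem _ hp)
  refine ⟨k, φ'.liftOfSurjective hφ'surj ⟨φk, hker⟩, fun a => ?_⟩
  obtain ⟨p, rfl⟩ := hφ'surj a
  rw [RingHom.liftOfRightInverse_comp_apply]
  change g k (f (φi p)) = φ p
  rw [← RingHom.comp_apply, hf, ← RingHom.comp_apply, hgφi]
  rfl

section Descent

variable (B : Type u) [CommRing B] [Algebra A B]

/-- the general descent statement, for any property descending to f.g. subrings and stable under
base change -/
theorem exists_descent (Q : ∀ (R : Type u) (S : Type u) [CommRing R] [CommRing S] [Algebra R S], Prop)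
    (hbc : ∀ (R S T : Type u) [CommRing R] [CommRing S] [CommRing T] [Algebra R S] [Algebra R T],
      Q R S → Q T (T ⊗[R] S))
    (hdesc : ∃ (A₀ : Subalgebra ℤ A) (B₀ : Type u) (_ : CommRing B₀) (_ : Algebra A₀ B₀),
      A₀.FG ∧ Q A₀ B₀ ∧ Nonempty (B ≃ₐ[A] A ⊗[A₀] B₀)) :
    ∃ (i : ι) (Bi : Type u) (_ : CommRing Bi) (_ : Algebra (G i) Bi), Q (G i) Bi ∧
      (letI : Algebra (G i) A := (g i).toAlgebra
       Nonempty (B ≃ₐ[A] A ⊗[G i] Bi)) := by
  obtain ⟨A₀, B₀, _, _, hfg, hQ, ⟨e⟩⟩ := hdesc
  obtain ⟨i, ψ, hψ⟩ := hS.exists_lift_subalgebra A₀ hfg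
  letI : Algebra A₀ (G i) := ψ.toAlgebra
  letI : Algebra (G i) A := (g i).toAlgebra
  haveI : IsScalarTower A₀ (G i) A := IsScalarTower.of_algebraMap_eq fun a => (hψ a).symm
  refine ⟨i, G i ⊗[A₀] B₀, inferInstance, inferInstance, hbc A₀ B₀ (G i) hQ, ?_⟩
  exact ⟨e.trans (Algebra.TensorProduct.cancelBaseChange A₀ (G i) A A B₀).symm⟩

theorem exists_smooth [Algebra.Smooth A B] :
    ∃ (i : ι) (Bi : Type u) (_ : CommRing Bi) (_ : Algebra (G i) Bi), Algebra.Smooth (G i) Bi ∧
      (letI : Algebra (G i) A := (g i).toAlgebra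
       Nonempty (B ≃ₐ[A] A ⊗[G i] Bi)) :=
  hS.exists_descent B (fun R S _ _ _ => Algebra.Smooth R S)
    (fun R S T _ _ _ _ _ h => by haveI := h; infer_instance)
    (Algebra.Smooth.exists_subalgebra_fg ℤ A B)

theorem exists_etale [Algebra.Etale A B] :
    ∃ (i : ι) (Bi : Type u) (_ : CommRing Bi) (_ : Algebra (G i) Bi), Algebra.Etale (G i) Bi ∧
      (letI : Algebra (G i) A := (g i).toAlgebra
       Nonempty (B ≃ₐ[A] A ⊗[G i] Bi)) :=
  hS.exists_descent B (fun R S _ _ _ => Algebra.Etale R S)
    (fun R S T _ _ _ _ _ h => by haveI := h; infer_instance)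
    (Algebra.Etale.exists_subalgebra_fg ℤ A B)

omit hS in
lemma exists_subalgebra_fg_of_finitePresentation [Algebra.FinitePresentation A B] :
    ∃ (A₀ : Subalgebra ℤ A) (B₀ : Type u) (_ : CommRing B₀) (_ : Algebra A₀ B₀),
      A₀.FG ∧ Algebra.FinitePresentation A₀ B₀ ∧ Nonempty (B ≃ₐ[A] A ⊗[A₀] B₀) := by
  let P := Algebra.Presentation.ofFinitePresentation A B
  let A₀ := Algebra.adjoin ℤ P.coeffs
  have : P.HasCoeffs A₀ := ⟨by simp [A₀]⟩
  exact ⟨A₀, (P.ModelOfHasCoeffs A₀ :), inferInstance, inferInstance,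
    ⟨P.finite_coeffs.toFinset, by simp [A₀]⟩, inferInstance,
    ⟨(P.tensorModelOfHasCoeffsEquiv A₀).symm⟩⟩

theorem exists_finitePresentation [Algebra.FinitePresentation A B] :
    ∃ (i : ι) (Bi : Type u) (_ : CommRing Bi) (_ : Algebra (G i) Bi),
      Algebra.FinitePresentation (G i) Bi ∧
      (letI : Algebra (G i) A := (g i).toAlgebra
       Nonempty (B ≃ₐ[A] A ⊗[G i] Bi)) :=
  hS.exists_descent B (fun R S _ _ _ => Algebra.FinitePresentation R S)
    (fun R S T _ _ _ _ _ h => by haveI := h; infer_instance)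
    (exists_subalgebra_fg_of_finitePresentation B)

end Descent

end Sys

end Groth.Agent.LibColimDescent29
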