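import Groth.Agent.LibColimDescent29
import Mathlib.Algebra.Category.Ring.FilteredColimits
import Mathlib.CategoryTheory.Limits.ConcreteCategory.Basic

/-!
# A filtered colimit in `CommRingCat` gives a `Sys` (helper29)
-/

set_option autoImplicit false

namespace Groth.Agent.LibColimDescent29

open CategoryTheory CategoryTheory.Limits

universe u

theorem sys_of_isColimit {I : Type u} [SmallCategory I] [IsFiltered I]
    (D : I ⥤ CommRingCat.{u}) (c : Cocone D) (hc : IsColimit c) :
    Sys (A := c.pt) (fun i => D.obj i) (fun i => (c.ι.app i).hom) where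
  nonempty := IsFiltered.nonempty
  surj a := by
    obtain ⟨i, y, hy⟩ := Concrete.isColimit_exists_rep D hc a
    exact ⟨i, y, hy⟩
  dir i j := by
    refine ⟨IsFiltered.max i j, (D.map (IsFiltered.leftToMax i j)).hom,
      (D.map (IsFiltered.rightToMax i j)).hom, ?_, ?_⟩
    · rw [← CommRingCat.hom_comp, c.w]
    · rw [← CommRingCat.hom_comp, c.w]
  ker i x hx := by
    obtain ⟨k, f, g, hfg⟩ := Concrete.isColimit_exists_of_rep_eq D hc x (0 : D.obj i)
      (by rw [map_zero]; exact hx)
    refine ⟨k, (D.map f).hom, ?_, ?_⟩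
    · rw [← CommRingCat.hom_comp, c.w]
    · rw [map_zero] at hfg
      exact hfg

end Groth.Agent.LibColimDescent29
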