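import Groth.Statements.S7050
import Mathlib
import Groth.Agent.Lib.Helper23.DCompl9
-- import your own Groth.Agent.* helpers here

set_option autoImplicit false
universe u
attribute [local instance] HasDerivedCategory.standard
open DRing

namespace Groth.Agent.S7050

/-- For a commutative ring A, an ideal I and an object K of D(A), K is derived complete with respect to
I if and only if each of its cohomology modules, placed in degree 0, is derived complete with
respect to I. -/
theorem result {A : Type u} [CommRing A] (I : Ideal A) (K : Dual.D A) :
    DRing.IsDerivedComplete I K ↔ ∀ i : ℤ, DRing.IsDerivedComplete I (Dual.inD A (Dual.HD A K i)) := by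
  constructor
  · intro hK i f hf n
    have h := (Groth.Agent.Lib.helper23.DCompl.general_criterion f K).1 (hK f hf)
    exact Groth.Agent.Lib.helper23.DCompl.En_of_seqC f (h i) n
  · intro h f hf
    exact (Groth.Agent.Lib.helper23.DCompl.general_criterion f K).2 (fun i =>
      Groth.Agent.Lib.helper23.DCompl.seqC_of_En f (h i f hf 0) (h i f hf 1))

end Groth.Agent.S7050
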