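import Groth.Statements.S0310
import Mathlib

set_option autoImplicit false
universe u v
open Matlis

namespace Groth.Agent.S0310

/-- Over a local ring, a module killed elementwise by powers of the maximal ideal and whose socle has
finite dimension n over the residue field embeds into the n-fold sum of an injective hull of the
residue field. -/
theorem result (R : Type u) [CommRing R] [IsLocalRing R] (E : Type u) [AddCommGroup E] [Module R E] (f : IsLocalRing.ResidueField R →ₗ[R] E) (hf : InjHull.IsInjectiveHull f) (M : Type u) [AddCommGroup M] [Module R M] (hM : LocCoh.IsPowerTorsion (IsLocalRing.maximalIdeal R) M) (n : ℕ) [Module.Finite (R ⧸ IsLocalRing.maximalIdeal R) ↥(LocCoh.torsionBy (IsLocalRing.maximalIdeal R) M)] (hn : Module.finrank (R ⧸ IsLocalRing.maximalIdeal R) ↥(LocCoh.torsionBy (IsLocalRing.maximalIdeal R) M) = n) : ∃ g : M →ₗ[R] (Fin n → E), Function.Injective g := by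
  classical
  letI : Field (R ⧸ IsLocalRing.maximalIdeal R) := Ideal.Quotient.field _
  let b : Module.Basis (Fin n) (R ⧸ IsLocalRing.maximalIdeal R)
      ↥(LocCoh.torsionBy (IsLocalRing.maximalIdeal R) M) :=
    Module.finBasisOfFinrankEq (R ⧸ IsLocalRing.maximalIdeal R) _ hn
  let e : ↥(LocCoh.torsionBy (IsLocalRing.maximalIdeal R) M) ≃ₗ[R]
      (Fin n → R ⧸ IsLocalRing.maximalIdeal R) := b.equivFun.restrictScalars R
  let fn : (Fin n → R ⧸ IsLocalRing.maximalIdeal R) →ₗ[R] (Fin n → E) := f.compLeft (Fin n)
  have hfn : Function.Injective fn := fun u v h => funext fun j => hf.injective (congrFun h j)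
  let φ : ↥(LocCoh.torsionBy (IsLocalRing.maximalIdeal R) M) →ₗ[R] (Fin n → E) :=
    fn ∘ₗ e.toLinearMap
  have hφ : Function.Injective φ := hfn.comp e.injective
  have hE := hf.isInjective
  have hEn : Module.Injective R (Fin n → E) := inferInstance
  obtain ⟨g, hg⟩ := hEn.out (LocCoh.torsionBy (IsLocalRing.maximalIdeal R) M).subtype
    (Submodule.injective_subtype _) φ
  refine ⟨g, ?_⟩
  rw [injective_iff_map_eq_zero]
  intro x hx
  by_contra hx0
  have hex : ∃ a : R, a • x ≠ 0 ∧ ∀ r ∈ IsLocalRing.maximalIdeal R, r • (a • x) = 0 := by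
    have hN := hM x
    have hspec := Nat.find_spec hN
    have hmin := fun k => Nat.find_min hN (m := k)
    rcases h0 : Nat.find hN with _ | N'
    · exfalso
      rw [h0] at hspec
      apply hx0
      have := hspec 1 (by rw [pow_zero, Ideal.one_eq_top]; trivial)
      rwa [one_smul] at this
    · have h1 := hmin N' (by rw [h0]; exact Nat.lt_succ_self N')
      push Not at h1
      obtain ⟨a, ha, hax⟩ := h1
      refine ⟨a, hax, fun r hr => ?_⟩
      rw [← mul_smul]
      rw [h0] at hspec
      apply hspec
      rw [pow_succ']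
      exact Ideal.mul_mem_mul hr ha
  obtain ⟨a, hax, hsoc⟩ := hex
  have hmem : a • x ∈ LocCoh.torsionBy (IsLocalRing.maximalIdeal R) M := by
    rw [Submodule.mem_torsionBySet_iff]
    rintro ⟨r, hr⟩
    exact hsoc r hr
  have h1 : φ ⟨a • x, hmem⟩ = 0 := by
    rw [← hg]
    change g (a • x) = 0
    rw [map_smul, hx, smul_zero]
  have h2 : (⟨a • x, hmem⟩ : ↥(LocCoh.torsionBy (IsLocalRing.maximalIdeal R) M)) = 0 :=
    hφ (h1.trans (map_zero φ).symm)
  exact hax (congrArg Subtype.val h2)

end Groth.Agent.S0310
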