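import Groth.Statements.S5078
import Mathlib

set_option autoImplicit false
universe u v
open Hensel

namespace Groth.Agent.S5078

/-- Linear maps preserve congruences modulo `I ^ n • ⊤`. -/
theorem smodEq_map {A : Type*} [CommRing A] (I : Ideal A) {M N : Type*} [AddCommGroup M]
    [Module A M] [AddCommGroup N] [Module A N] (g : M →ₗ[A] N) {x y : M} {n : ℕ}
    (h : x ≡ y [SMOD (I ^ n • ⊤ : Submodule A M)]) :
    g x ≡ g y [SMOD (I ^ n • ⊤ : Submodule A N)] := by
  rw [SModEq.sub_mem] at h ⊢
  rw [← map_sub]
  exact Submodule.smul_top_le_comap_smul_top (I ^ n) g h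

/-- A retract of an adically complete module is adically complete. -/
theorem isAdicComplete_of_retract {A : Type*} [CommRing A] (I : Ideal A) {M N : Type*}
    [AddCommGroup M] [Module A M] [AddCommGroup N] [Module A N] [IsAdicComplete I N]
    (f : N →ₗ[A] M) (g : M →ₗ[A] N) (hfg : f ∘ₗ g = .id) : IsAdicComplete I M := by
  have hfg' : ∀ x, f (g x) = x := fun x => by
    have := congrArg (fun h : M →ₗ[A] M => h x) hfg
    simpa using this
  refine { toIsHausdorff := ⟨fun x hx => ?_⟩, toIsPrecomplete := ⟨fun s hs => ?_⟩ }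
  · have : g x = 0 := IsHausdorff.haus' (I := I) (g x) fun n => by
      simpa using smodEq_map I g (hx n)
    rw [← hfg' x, this, map_zero]
  · obtain ⟨L, hL⟩ := IsPrecomplete.prec' (I := I) (fun k => g (s k))
      (fun {m n} hmn => smodEq_map I g (hs hmn))
    refine ⟨f L, fun n => ?_⟩
    simpa [hfg'] using smodEq_map I f (hL n)

/-- Finite powers of an adically complete ring are adically complete. -/
theorem isAdicComplete_pi {A : Type*} [CommRing A] (I : Ideal A) [IsAdicComplete I A]
    (ι : Type*) [Finite ι] : IsAdicComplete I (ι → A) := by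
  classical
  cases nonempty_fintype ι
  have key : ∀ (k : ℕ) (y : ι → A), (∀ i, y i ∈ I ^ k) → y ∈ (I ^ k • ⊤ : Submodule A (ι → A)) := by
    intro k y hy
    have : y = ∑ i, y i • (Pi.single i (1 : A) : ι → A) := by
      ext j
      simp [Finset.sum_apply, Pi.single_apply]
    rw [this]
    exact Submodule.sum_mem _ fun i _ => Submodule.smul_mem_smul (hy i) Submodule.mem_top
  have key' : ∀ (k : ℕ) (x y : ι → A), x ≡ y [SMOD (I ^ k • ⊤ : Submodule A (ι → A))] →
      ∀ i, x i ≡ y i [SMOD (I ^ k • ⊤ : Submodule A A)] := fun k x y h i =>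
    smodEq_map I (LinearMap.proj i : (ι → A) →ₗ[A] A) h
  refine { toIsHausdorff := ⟨fun x hx => ?_⟩, toIsPrecomplete := ⟨fun s hs => ?_⟩ }
  · funext i
    exact IsHausdorff.haus' (I := I) (x i) fun n => key' n x 0 (hx n) i
  · have : ∀ i, ∃ L : A, ∀ n, s n i ≡ L [SMOD (I ^ n • ⊤ : Submodule A A)] := fun i =>
      IsPrecomplete.prec' (I := I) (fun k => s k i) (fun {m n} hmn => key' m _ _ (hs hmn) i)
    choose L hL using this
    refine ⟨L, fun n => ?_⟩
    rw [SModEq.sub_mem]
    refine key n _ fun i => ?_
    have := hL i n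
    rw [SModEq.sub_mem] at this
    simpa using this

/-- Let A be a ring, I an ideal such that A is I-adically separated and complete, and M a finitely
generated projective A-module. Then M is I-adically separated and complete. -/
theorem result {A : Type u} [CommRing A] (I : Ideal A) [IsAdicComplete I A]
    (M : Type v) [AddCommGroup M] [Module A M] [Module.Finite A M] [Module.Projective A M] :
    IsAdicComplete I M := by
  obtain ⟨n, f, g, -, -, hfg⟩ := Module.Finite.exists_comp_eq_id_of_projective A M
  have := isAdicComplete_pi I (Fin n)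
  exact isAdicComplete_of_retract I f g hfg

end Groth.Agent.S5078
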