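import Groth.Statements.S0550
import Mathlib

set_option autoImplicit false
universe u
open CAlg

namespace Groth.Agent.S0550


theorem mem_smul_top_finsupp {R : Type u} [CommRing R] (J : Ideal R) {α : Type u} (y : α →₀ R) :
    y ∈ (J • ⊤ : Submodule R (α →₀ R)) ↔ ∀ t, y t ∈ J := by
  classical
  constructor
  · intro hy
    refine Submodule.smul_induction_on hy (fun r hr z _ t => ?_) (fun y z hy hz t => ?_)
    · rw [Finsupp.smul_apply, smul_eq_mul]; exact J.mul_mem_right _ hr
    · rw [Finsupp.add_apply]; exact J.add_mem (hy t) (hz t)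
  · intro h
    have e := Finsupp.sum_single y
    rw [Finsupp.sum] at e
    rw [← e]
    refine Submodule.sum_mem _ (fun t _ => ?_)
    have e2 : Finsupp.single t (y t) = (y t) • Finsupp.single t (1 : R) := by
      rw [Finsupp.smul_single, smul_eq_mul, mul_one]
    rw [e2]
    exact Submodule.smul_mem_smul (h t) Submodule.mem_top

theorem mem_smul_top_pi' {R : Type u} [CommRing R] (J : Ideal R) {k : ℕ} (v : Fin k → R)
    (hv : ∀ i, v i ∈ J) : v ∈ (J • ⊤ : Submodule R (Fin k → R)) := by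
  have hsum : v = ∑ i, v i • (Pi.single i (1 : R) : Fin k → R) := by
    funext t
    rw [Finset.sum_apply]
    simp only [Pi.smul_apply, Pi.single_apply, smul_eq_mul, mul_ite, mul_one, mul_zero,
      Finset.sum_ite_eq, Finset.mem_univ, if_true]
  rw [hsum]
  exact Submodule.sum_mem _ (fun i _ => Submodule.smul_mem_smul (hv i) Submodule.mem_top)

theorem apply_mem_of_mem_smul_top_pi {R : Type u} [CommRing R] (J : Ideal R) {k : ℕ} (v : Fin k → R)
    (hv : v ∈ (J • ⊤ : Submodule R (Fin k → R))) (i : Fin k) : v i ∈ J := by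
  refine Submodule.smul_induction_on hv (fun r hr z _ => ?_) (fun y z hy hz => ?_)
  · show r * z i ∈ J
    exact J.mul_mem_right _ hr
  · show y i + z i ∈ J
    exact J.add_mem hy hz

theorem lc_apply {R : Type u} [CommRing R] {s k : ℕ} (b : Fin s → Fin k → R) (u : Fin s → R)
    (i : Fin k) : Fintype.linearCombination R b u i = ∑ j, u j * b j i := by
  rw [Fintype.linearCombination_apply, Finset.sum_apply]
  rfl

theorem lift_coordwise {R : Type u} [CommRing R] {α : Type u} {s k : ℕ} (b : Fin s → Fin k → R)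
    (P : Submodule R (Fin s → R)) (y : Fin k → (α →₀ R))
    (h : ∀ t : α, ∃ v ∈ P, ∀ i, ∑ j, v j * b j i = y i t) :
    ∃ w : Fin s → (α →₀ R), (∀ t, (fun j => w j t) ∈ P) ∧ ∀ i, y i = ∑ j, b j i • w j := by
  classical
  choose v hvP hv using h
  obtain ⟨T, hT⟩ : ∃ T : Finset α, ∀ i t, y i t ≠ 0 → t ∈ T :=
    ⟨Finset.univ.biUnion (fun i => (y i).support), fun i t ht =>
      Finset.mem_biUnion.mpr ⟨i, Finset.mem_univ _, Finsupp.mem_support_iff.mpr ht⟩⟩
  have hcoord : ∀ j t, (∑ t' ∈ T, Finsupp.single t' (v t' j)) t = if t ∈ T then v t j else 0 := by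
    intro j t
    rw [Finsupp.finsetSum_apply]
    simp only [Finsupp.single_apply]
    rw [Finset.sum_ite_eq' T t]
  refine ⟨fun j => ∑ t ∈ T, Finsupp.single t (v t j), fun t => ?_, fun i => ?_⟩
  · by_cases ht : t ∈ T
    · have : (fun j => (∑ t' ∈ T, Finsupp.single t' (v t' j)) t) = v t := by
        funext j
        rw [hcoord, if_pos ht]
      rw [this]
      exact hvP t
    · have : (fun j => (∑ t' ∈ T, Finsupp.single t' (v t' j)) t) = 0 := by
        funext j
        rw [hcoord, if_neg ht]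
        rfl
      rw [this]
      exact P.zero_mem
  · ext t
    rw [Finsupp.finsetSum_apply]
    simp only [Finsupp.smul_apply, smul_eq_mul, hcoord]
    by_cases ht : t ∈ T
    · simp only [if_pos ht]
      rw [← hv t i]
      exact Finset.sum_congr rfl (fun j _ => mul_comm _ _)
    · simp only [if_neg ht, mul_zero, Finset.sum_const_zero]
      by_contra hne
      exact ht (hT i t hne)

theorem ar_lift {R : Type u} [CommRing R] [IsNoetherianRing R] (I : Ideal R) {s k : ℕ}
    (b : Fin s → Fin k → R) :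
    ∃ c : ℕ, ∀ (n : ℕ) (v : Fin k → R), (∀ i, v i ∈ I ^ (n + c)) →
      (∃ u : Fin s → R, ∀ i, ∑ j, u j * b j i = v i) →
      ∃ u ∈ (I ^ n • ⊤ : Submodule R (Fin s → R)), ∀ i, ∑ j, u j * b j i = v i := by
  obtain ⟨c, hc⟩ := Ideal.exists_pow_inf_eq_pow_smul I
    (LinearMap.range (Fintype.linearCombination R b))
  refine ⟨c, fun n v hv ⟨u0, hu0⟩ => ?_⟩
  have h1 : v ∈ (I ^ (n + c) • ⊤ : Submodule R (Fin k → R)) ⊓
      LinearMap.range (Fintype.linearCombination R b) := by
    refine ⟨mem_smul_top_pi' _ v hv, ⟨u0, ?_⟩⟩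
    funext i
    rw [lc_apply, hu0]
  rw [hc (n + c) (Nat.le_add_left c n), Nat.add_sub_cancel] at h1
  have h2 : v ∈ Submodule.map (Fintype.linearCombination R b)
      (I ^ n • ⊤ : Submodule R (Fin s → R)) := by
    rw [Submodule.map_smul'', Submodule.map_top]
    exact Submodule.smul_mono le_rfl inf_le_right h1
  obtain ⟨u, hu, hu2⟩ := h2
  exact ⟨u, hu, fun i => by rw [← lc_apply, hu2]⟩


/-- Over a Noetherian ring `R` with an ideal `I`, the `I`-adic completion of a free module (on any index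
set) is a flat `R`-module. -/
theorem result (R : Type u) [CommRing R] [IsNoetherianRing R]
    (I : Ideal R) (α : Type u) : Module.Flat R (AdicCompletion I (α →₀ R)) := by
  classical
  rw [Module.Flat.iff_forall_isTrivialRelation]
  intro k a x hx
  have hrep : ∀ i, ∃ ξ : AdicCompletion.AdicCauchySequence I (α →₀ R),
      AdicCompletion.mk I (α →₀ R) ξ = x i := fun i => AdicCompletion.mk_surjective I _ (x i)
  choose ξ hξ using hrep
  -- the relation module
  obtain ⟨a', ha'⟩ : ∃ a' : Fin k → Fin 1 → R, ∀ i j, a' i j = a i := ⟨fun i _ => a i, fun _ _ => rfl⟩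
  obtain ⟨s, b, hb⟩ := Submodule.fg_iff_exists_fin_generating_family.mp
    (IsNoetherian.noetherian (LinearMap.ker (Fintype.linearCombination R a')))
  have hbrel : ∀ j, ∑ i, a i * b j i = 0 := by
    intro j
    have h1 : b j ∈ LinearMap.ker (Fintype.linearCombination R a') := by
      rw [← hb]; exact Submodule.subset_span ⟨j, rfl⟩
    have h2 : ∑ i, b j i * a' i 0 = 0 := by
      have h3 := congrFun (LinearMap.mem_ker.mp h1) 0
      rw [lc_apply] at h3
      exact h3
    rw [← h2]
    exact Finset.sum_congr rfl (fun i _ => by rw [ha', mul_comm])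
  have hrel : ∀ v : Fin k → R, ∑ i, v i * a i = 0 →
      ∃ u : Fin s → R, ∀ i, ∑ j, u j * b j i = v i := by
    intro v hv
    have h1 : v ∈ LinearMap.ker (Fintype.linearCombination R a') := by
      rw [LinearMap.mem_ker]
      funext i0
      rw [lc_apply]
      show ∑ j, v j * a' j i0 = 0
      rw [← hv]
      exact Finset.sum_congr rfl (fun i _ => by rw [ha'])
    rw [← hb, ← Fintype.range_linearCombination] at h1
    obtain ⟨u, hu⟩ := h1
    exact ⟨u, fun i => by rw [← lc_apply, hu]⟩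
  obtain ⟨c₁, h₁⟩ := ar_lift I a'
  obtain ⟨c₂, h₂⟩ := ar_lift I b
  obtain ⟨c, hc⟩ : ∃ c, c = c₂ + c₁ := ⟨_, rfl⟩
  -- the relation holds modulo `I ^ n`
  have hΞ : ∀ n, (∑ i, a i • (ξ i) n) ∈ (I ^ n • ⊤ : Submodule R (α →₀ R)) := by
    intro n
    have h1 := congrArg (AdicCompletion.eval I (α →₀ R) n) hx
    rw [map_sum, map_zero] at h1
    have he : ∀ i, AdicCompletion.eval I (α →₀ R) n (a i • x i) =
        Submodule.mkQ (I ^ n • ⊤ : Submodule R (α →₀ R)) (a i • (ξ i) n) := by
      intro i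
      rw [← hξ i]
      rfl
    rw [Finset.sum_congr rfl (fun i _ => he i), ← map_sum] at h1
    exact (Submodule.Quotient.mk_eq_zero _).mp h1
  have hcoordsum : ∀ (f : Fin k → (α →₀ R)) (t : α), (∑ i, a i • f i) t = ∑ i, (f i t) * a i := by
    intro f t
    rw [Finsupp.finsetSum_apply]
    exact Finset.sum_congr rfl (fun i _ => by rw [Finsupp.smul_apply, smul_eq_mul, mul_comm])
  -- step 1 : correct `ξ (n + c)` to an exact relation
  have hz : ∀ n, ∃ z : Fin k → (α →₀ R), (∀ i, z i ∈ (I ^ (n + c₂) • ⊤ : Submodule R (α →₀ R))) ∧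
      (∑ i, a i • (ξ i) (n + c)) = ∑ i, a i • z i := by
    intro n
    obtain ⟨w, hwP, hw⟩ := lift_coordwise a' (I ^ (n + c₂) • ⊤ : Submodule R (Fin k → R))
      (fun _ : Fin 1 => ∑ i, a i • (ξ i) (n + c)) (fun t => by
        have hmem : (∑ i, a i • (ξ i) (n + c)) t ∈ I ^ (n + c₂ + c₁) := by
          have h5 := (mem_smul_top_finsupp _ _).mp (hΞ (n + c)) t
          have e : I ^ (n + c) = I ^ (n + c₂ + c₁) := by rw [hc, Nat.add_assoc]
          rw [← e]
          exact h5
        obtain ⟨u, hu, hu2⟩ := h₁ (n + c₂) (fun _ => (∑ i, a i • (ξ i) (n + c)) t) (fun _ => hmem)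
          ⟨fun i => (ξ i) (n + c) t, fun i0 => by
            rw [hcoordsum]
            exact Finset.sum_congr rfl (fun i _ => by rw [ha'])⟩
        exact ⟨u, hu, hu2⟩)
    refine ⟨w, fun i => ?_, ?_⟩
    · rw [mem_smul_top_finsupp]
      intro t
      exact apply_mem_of_mem_smul_top_pi _ _ (hwP t) i
    · rw [hw 0]
      exact Finset.sum_congr rfl (fun i _ => by rw [ha'])
  choose z hzmem hzeq using hz
  obtain ⟨η, hη⟩ : ∃ η : ℕ → Fin k → (α →₀ R), ∀ n i, η n i = (ξ i) (n + c) - z n i :=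
    ⟨fun n i => (ξ i) (n + c) - z n i, fun _ _ => rfl⟩
  have hηrel : ∀ n, ∑ i, a i • η n i = 0 := by
    intro n
    simp only [hη, smul_sub, Finset.sum_sub_distrib]
    rw [hzeq n, sub_self]
  have hpow_le : ∀ {m n : ℕ}, m ≤ n → (I ^ n • ⊤ : Submodule R (α →₀ R)) ≤ I ^ m • ⊤ :=
    fun h => Submodule.smul_mono_left (Ideal.pow_le_pow_right h)
  -- step 2 : successive differences
  have hδmem : ∀ n i, η (n + 1) i - η n i ∈ (I ^ (n + c₂) • ⊤ : Submodule R (α →₀ R)) := by
    intro n i
    have e1 : η (n + 1) i - η n i =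
        ((ξ i) (n + 1 + c) - (ξ i) (n + c)) - z (n + 1) i + z n i := by
      rw [hη, hη]; abel
    rw [e1]
    refine Submodule.add_mem _ (Submodule.sub_mem _ ?_ ?_) ?_
    · have h1 : (ξ i) (n + c) ≡ (ξ i) (n + 1 + c) [SMOD (I ^ (n + c) • ⊤ : Submodule R (α →₀ R))] :=
        (ξ i).property (by omega)
      have h2 := SModEq.sub_mem.mp h1.symm
      exact hpow_le (by omega) h2
    · exact hpow_le (by omega) (hzmem (n + 1) i)
    · exact hzmem n i
  have hu : ∀ n, ∃ u : Fin s → (α →₀ R), (∀ j, u j ∈ (I ^ n • ⊤ : Submodule R (α →₀ R))) ∧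
      ∀ i, η (n + 1) i - η n i = ∑ j, b j i • u j := by
    intro n
    obtain ⟨w, hwP, hw⟩ := lift_coordwise b (I ^ n • ⊤ : Submodule R (Fin s → R))
      (fun i => η (n + 1) i - η n i) (fun t => by
        refine h₂ n (fun i => (η (n + 1) i - η n i) t)
          (fun i => (mem_smul_top_finsupp _ _).mp (hδmem n i) t) ?_
        refine hrel _ ?_
        have e1 := congrArg (fun f : α →₀ R => f t) (hηrel (n + 1))
        have e2 := congrArg (fun f : α →₀ R => f t) (hηrel n)
        simp only [hcoordsum, Finsupp.coe_zero, Pi.zero_apply] at e1 e2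
        simp only [Finsupp.sub_apply, sub_mul, Finset.sum_sub_distrib, e1, e2, sub_self])
    refine ⟨w, fun j => ?_, hw⟩
    rw [mem_smul_top_finsupp]
    intro t
    exact apply_mem_of_mem_smul_top_pi _ _ (hwP t) j
  choose u humem hueq using hu
  obtain ⟨w₀, -, hw₀⟩ := lift_coordwise b (⊤ : Submodule R (Fin s → R)) (η 0) (fun t => by
    obtain ⟨v, hv⟩ := hrel (fun i => η 0 i t) (by
      have e1 := congrArg (fun f : α →₀ R => f t) (hηrel 0)
      simp only [hcoordsum, Finsupp.coe_zero, Pi.zero_apply] at e1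
      exact e1)
    exact ⟨v, Submodule.mem_top, hv⟩)
  obtain ⟨ω, hω⟩ : ∃ ω : Fin s → ℕ → (α →₀ R), ∀ j n, ω j n = w₀ j + ∑ t ∈ Finset.range n, u t j :=
    ⟨fun j n => w₀ j + ∑ t ∈ Finset.range n, u t j, fun _ _ => rfl⟩
  have hωη : ∀ n i, ∑ j, b j i • ω j n = η n i := by
    intro n
    induction n with
    | zero =>
      intro i
      simp only [hω, Finset.range_zero, Finset.sum_empty, add_zero]
      exact (hw₀ i).symm
    | succ n ih =>
      intro i
      have e1 : ∀ j, ω j (n + 1) = ω j n + u n j := by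
        intro j
        rw [hω, hω, Finset.sum_range_succ, add_assoc]
      simp only [e1, smul_add, Finset.sum_add_distrib]
      rw [ih i, ← hueq n i]
      abel
  have hωc : ∀ j n, ω j n ≡ ω j (n + 1) [SMOD (I ^ n • ⊤ : Submodule R (α →₀ R))] := by
    intro j n
    rw [SModEq.sub_mem]
    have e1 : ω j n - ω j (n + 1) = - u n j := by
      rw [hω, hω, Finset.sum_range_succ]; abel
    rw [e1]
    exact Submodule.neg_mem _ (humem n j)
  refine ⟨s, fun i j => b j i,
    fun j => AdicCompletion.mk I (α →₀ R) (AdicCompletion.AdicCauchySequence.mk I (α →₀ R) (ω j) (hωc j)),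
    fun i => ?_, fun j => hbrel j⟩
  refine AdicCompletion.ext (fun n => ?_)
  have e1 : (x i).val n = Submodule.mkQ (I ^ n • ⊤ : Submodule R (α →₀ R)) ((ξ i) n) := by
    rw [← hξ i]; rfl
  have e2 : (∑ j, b j i • AdicCompletion.mk I (α →₀ R)
      (AdicCompletion.AdicCauchySequence.mk I (α →₀ R) (ω j) (hωc j))).val n =
      Submodule.mkQ (I ^ n • ⊤ : Submodule R (α →₀ R)) (∑ j, b j i • ω j n) := by
    rw [← AdicCompletion.eval_apply, map_sum, map_sum]
    exact Finset.sum_congr rfl (fun j _ => rfl)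
  rw [e1, e2, hωη n i, Submodule.mkQ_apply, Submodule.mkQ_apply, Submodule.Quotient.eq]
  have e3 : (ξ i) n - η n i = ((ξ i) n - (ξ i) (n + c)) + z n i := by
    rw [hη]; abel
  rw [e3]
  refine Submodule.add_mem _ ?_ (hpow_le (by omega) (hzmem n i))
  have h1 : (ξ i) n ≡ (ξ i) (n + c) [SMOD (I ^ n • ⊤ : Submodule R (α →₀ R))] :=
    (ξ i).property (by omega)
  exact SModEq.sub_mem.mp h1


end Groth.Agent.S0550
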