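import Groth.Statements.S2460
import Groth.Agent.Lib.Helper24.SopPS
import Groth.Agent.Lib.Helper24.PSDim
import Groth.Agent.Lib.Helper26.Sop1

set_option autoImplicit false
universe u
open EGA41

namespace Groth.Agent.S2460

open IsLocalRing in
/-- Let A be a complete Noetherian local domain containing a field k₀ such that the residue field of A
is a finite extension of k₀. Then there are n and an injective local k₀-algebra homomorphism from
the power series ring k₀[[T_1, …, T_n]] into A making A a finite module over it. -/
theorem result {k₀ A : Type u} [Field k₀] [CommRing A] [IsDomain A] [IsLocalRing A] [IsNoetherianRing A]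
    [IsAdicComplete (maximalIdeal A) A] [Algebra k₀ A] [Module.Finite k₀ (ResidueField A)] :
    ∃ (n : ℕ) (w : MvPowerSeries (Fin n) k₀ →ₐ[k₀] A), Function.Injective w ∧ IsLocalHom w.toRingHom ∧ w.toRingHom.Finite := by
  classical
  haveI : IsAdicComplete (maximalIdeal k₀) k₀ := by
    rw [IsLocalRing.maximalIdeal_eq_bot]; infer_instance
  -- residue field generators
  obtain ⟨t, ebar, hebar⟩ := Module.Finite.exists_fin (R := k₀) (M := ResidueField A)
  choose e he using fun j => IsLocalRing.residue_surjective (ebar j)
  have hfin : ∀ y : A, ∃ c : Fin t → k₀,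
      y - ∑ j, (algebraMap k₀ A) (c j) * e j ∈ maximalIdeal A := by
    intro y
    have hy : residue A y ∈ Submodule.span k₀ (Set.range ebar) := by rw [hebar]; trivial
    rw [Submodule.mem_span_range_iff_exists_fun] at hy
    obtain ⟨c, hc⟩ := hy
    refine ⟨c, ?_⟩
    rw [← IsLocalRing.residue_eq_zero_iff, map_sub, ← hc, map_sum, sub_eq_zero]
    refine Finset.sum_congr rfl fun j _ => ?_
    rw [map_mul, he j, Algebra.smul_def]
    rfl
  -- a system of parameters
  obtain ⟨s, hs, hcard⟩ :=
    Ideal.exists_finset_card_eq_height_of_isNoetherianRing (maximalIdeal A)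
  let x : Fin s.card → A := fun i => ((s.equivFin.symm i : s) : A)
  have hrange : Set.range x = (s : Set A) := by
    ext a
    constructor
    · rintro ⟨i, rfl⟩
      exact (s.equivFin.symm i).2
    · intro ha
      exact ⟨s.equivFin ⟨a, ha⟩, by simp [x]⟩
  have hrad : (Ideal.span (s : Set A)).radical = maximalIdeal A :=
    Groth.Agent.Lib.helper26.Sop.radical_eq_of_mem_minimalPrimes hs
  have hxm : ∀ i, x i ∈ maximalIdeal A := by
    intro i
    rw [← hrad]
    exact Ideal.le_radical (Ideal.subset_span (s.equivFin.symm i).2)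
  obtain ⟨N, hN⟩ := Ideal.exists_pow_le_of_le_radical_of_fg (le_of_eq hrad.symm)
    ((isNoetherianRing_iff_ideal_fg A).1 inferInstance (maximalIdeal A))
  have hN' : maximalIdeal A ^ N ≤
      (maximalIdeal k₀).map (algebraMap k₀ A) ⊔ Ideal.span (Set.range x) := by
    rw [hrange]
    exact hN.trans le_sup_right
  have hdim : ringKrullDim (MvPowerSeries (Fin s.card) k₀) ≤ ringKrullDim A := by
    refine (Groth.Agent.Lib.Helper24.PSDim.ringKrullDim_mvPowerSeries_field_le k₀ s.card).trans ?_
    rw [← IsLocalRing.maximalIdeal_height_eq_ringKrullDim, ← hcard]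
    rfl
  obtain ⟨f, hfC, hfX, hloc, hffin, hinj⟩ :=
    Groth.Agent.Lib.Helper24.SopPS.ps_finite_injective (algebraMap k₀ A) t e hfin s.card x hxm N
      hN' hdim
  let w : MvPowerSeries (Fin s.card) k₀ →ₐ[k₀] A :=
    { f with
      commutes' := fun c => by
        have := RingHom.congr_fun hfC c
        rw [MvPowerSeries.algebraMap_apply, Algebra.algebraMap_self, RingHom.id_apply]
        exact this }
  exact ⟨s.card, w, hinj, hloc, hffin⟩

end Groth.Agent.S2460
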