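import Groth.Statements.S0546
import Mathlib

set_option autoImplicit false
universe u
open CAlg

namespace Groth.Agent.S0546

lemma decomp {A : Type u} [CommRing A] {M : Type u} [AddCommGroup M] [Module A M]
    (s : Finset A) (N : Submodule A M) (x : M) (hx : x ∈ Ideal.span (s : Set A) • N) :
    ∃ c : A → M, (∀ a, c a ∈ N) ∧ x = ∑ a ∈ s, a • c a := by
  rw [Submodule.span_smul_eq] at hx
  obtain ⟨c, hc, rfl⟩ := (Submodule.mem_set_smul _ _ _).mp hx
  refine ⟨fun a => (c a : M), fun a => (c a).2, ?_⟩
  rw [Finsupp.sum, AddSubmonoid.coe_finsetSum]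
  refine Finset.sum_subset (by exact_mod_cast hc) (fun a _ ha => ?_)
  rw [Finsupp.notMem_support_iff.mp ha]
  simp

/-- If `I ≤ J` are ideals with `I` finitely generated and `M` is `J`-adically complete, then `M` is
`I`-adically complete. -/
theorem result (A : Type u) [CommRing A] (I J : Ideal A) (hIJ : I ≤ J)
    (hI : I.FG) (M : Type u) [AddCommGroup M] [Module A M] [IsAdicComplete J M] :
    IsAdicComplete I M := by
  have hpow : ∀ n, (I ^ n • ⊤ : Submodule A M) ≤ J ^ n • ⊤ := fun n =>
    Submodule.smul_mono_left (Ideal.pow_right_mono hIJ n)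
  have hJle : ∀ {k l : ℕ}, k ≤ l → (J ^ l • ⊤ : Submodule A M) ≤ J ^ k • ⊤ := fun h =>
    Submodule.smul_mono_left (Ideal.pow_le_pow_right h)
  have hH : IsHausdorff J M := inferInstance
  have hP : IsPrecomplete J M := inferInstance
  refine { haus' := ?_, prec' := ?_ }
  · intro x hx
    apply hH.haus
    intro n
    exact (hx n).mono (hpow n)
  · intro f hf
    obtain ⟨L, hL⟩ := hP.prec (f := f) (fun {m n} hmn => (hf hmn).mono (hpow m))
    refine ⟨L, fun n => ?_⟩
    obtain ⟨s, hs⟩ := (Ideal.FG.pow hI : (I ^ n).FG)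
    have hstep : ∀ j : ℕ, ∃ c : A → M, (∀ a, c a ∈ (I ^ j • ⊤ : Submodule A M)) ∧
        f (n + j + 1) - f (n + j) = ∑ a ∈ s, a • c a := by
      intro j
      apply decomp
      rw [hs, ← mul_smul, ← pow_add]
      have := (hf (Nat.le_succ (n + j))).symm
      rwa [SModEq.sub_mem] at this
    choose c hc1 hc2 using hstep
    let T : ℕ → A → M := fun k a => ∑ j ∈ Finset.range k, c j a
    have hT : ∀ a, ∃ Z : M, ∀ k, T k a ≡ Z [SMOD (J ^ k • ⊤ : Submodule A M)] := by
      intro a
      apply hP.prec
      intro k l hkl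
      rw [SModEq.comm, SModEq.sub_mem] -- T l a - T k a
      have : T l a - T k a = ∑ j ∈ Finset.Ico k l, c j a := by
        simp only [T]
        rw [Finset.sum_Ico_eq_sub _ hkl]
      rw [this]
      refine Submodule.sum_mem _ (fun j hj => ?_)
      exact hJle (Finset.mem_Ico.mp hj).1 (hpow j (hc1 j a))
    choose Z hZ using hT
    have hsum : ∀ k, f (n + k) - f n = ∑ a ∈ s, a • T k a := by
      intro k
      induction k with
      | zero => simp [T]
      | succ k ih =>
        have : f (n + (k + 1)) - f n = (f (n + k + 1) - f (n + k)) + (f (n + k) - f n) := by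
          rw [← add_assoc]; abel
        rw [this, ih, hc2 k, ← Finset.sum_add_distrib]
        refine Finset.sum_congr rfl (fun a _ => ?_)
        simp only [T]
        rw [Finset.sum_range_succ, smul_add]
        abel
    have hkey : L - f n - ∑ a ∈ s, a • Z a = 0 := by
      apply hH.haus
      intro k
      rw [SModEq.zero]
      have : L - f n - ∑ a ∈ s, a • Z a
          = (L - f (n + k)) + ∑ a ∈ s, a • (T k a - Z a) := by
        simp only [smul_sub, Finset.sum_sub_distrib]
        rw [← hsum k]
        abel
      rw [this]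
      refine Submodule.add_mem _ ?_ (Submodule.sum_mem _ (fun a _ => ?_))
      · have := (hL (n + k)).symm
        rw [SModEq.sub_mem] at this
        exact hJle (Nat.le_add_left k n) this
      · apply Submodule.smul_mem
        have := hZ a k
        rwa [SModEq.sub_mem] at this
    rw [SModEq.comm, SModEq.sub_mem]
    have : L - f n = ∑ a ∈ s, a • Z a := sub_eq_zero.mp hkey
    rw [this]
    refine Submodule.sum_mem _ (fun a ha => ?_)
    apply Submodule.smul_mem_smul _ Submodule.mem_top
    rw [← hs]
    exact Ideal.subset_span ha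

end Groth.Agent.S0546
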