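import Groth.Statements.S0545
import Mathlib
import Groth.Agent.S0546
import Groth.Agent.S0543

set_option autoImplicit false
universe u
open CAlg

namespace Groth.Agent.S0545


theorem isAdicComplete_congr {R : Type*} [CommRing R] {M : Type*} [AddCommGroup M] [Module R M]
    (I K : Ideal R) (h : ∀ n, (K ^ n • ⊤ : Submodule R M) = I ^ n • ⊤) [IsAdicComplete I M] :
    IsAdicComplete K M := by
  refine { haus' := ?_, prec' := ?_ }
  · intro x hx
    exact IsHausdorff.haus (I := I) inferInstance x (fun n => by rw [← h]; exact hx n)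
  · intro f hf
    obtain ⟨L, hL⟩ := IsPrecomplete.prec (I := I) (M := M) inferInstance (f := f)
      (fun {m n} hmn => by rw [← h]; exact hf hmn)
    exact ⟨L, fun n => by rw [h]; exact hL n⟩

theorem sup_pow_le {R : Type*} [CommRing R] (I J : Ideal R) (n : ℕ) : (I ⊔ J) ^ n ≤ I ⊔ J ^ n := by
  induction n with
  | zero => simp
  | succ n ih =>
    rw [pow_succ]
    calc (I ⊔ J) ^ n * (I ⊔ J) ≤ (I ⊔ J ^ n) * (I ⊔ J) := Ideal.mul_mono_left ih
      _ ≤ I ⊔ J ^ (n + 1) := by
        rw [Ideal.sup_mul, Ideal.mul_sup, Ideal.mul_sup, pow_succ]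
        refine sup_le (sup_le ?_ ?_) (sup_le ?_ ?_)
        · exact Ideal.mul_le_left.trans le_sup_left
        · exact Ideal.mul_le_left.trans le_sup_left
        · exact Ideal.mul_le_right.trans le_sup_left
        · exact le_sup_right

/-- For a Noetherian ring `A` with two ideals `I` and `J`, completeness of `A` along `I` together with
completeness of the quotient `A/I` along the image of `J` forces completeness of `A` along `J`. -/
theorem result (A : Type u) [CommRing A] [IsNoetherianRing A]
    (I J : Ideal A) [IsAdicComplete I A]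
    [IsAdicComplete (Ideal.map (Ideal.Quotient.mk I) J) (A ⧸ I)] : IsAdicComplete J A := by
  classical
  have hIjac : I ≤ (⊥ : Ideal A).jacobson := IsAdicComplete.le_jacobson_bot I
  have hJjac : J ≤ (⊥ : Ideal A).jacobson := by
    have h1 : J.map (Ideal.Quotient.mk I) ≤ (⊥ : Ideal (A ⧸ I)).jacobson :=
      IsAdicComplete.le_jacobson_bot _
    have h2 : J ≤ Ideal.comap (Ideal.Quotient.mk I) (⊥ : Ideal (A ⧸ I)).jacobson :=
      Ideal.map_le_iff_le_comap.mp h1
    rw [Ideal.comap_jacobson_of_surjective Ideal.Quotient.mk_surjective,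
      ← RingHom.ker_eq_comap_bot, Ideal.mk_ker] at h2
    refine h2.trans ?_
    calc I.jacobson ≤ (⊥ : Ideal A).jacobson.jacobson := Ideal.jacobson_mono hIjac
      _ = _ := Ideal.jacobson_idem
  have hKjac : I ⊔ J ≤ (⊥ : Ideal A).jacobson := sup_le hIjac hJjac
  have hH : IsHausdorff (I ⊔ J) A := IsHausdorff.of_le_jacobson (I ⊔ J) A hKjac
  -- `A ⧸ I` is `(I ⊔ J)`-adically complete as an `A`-module
  have hq : IsAdicComplete (I ⊔ J) (A ⧸ I) := by
    have h1 : IsAdicComplete J (A ⧸ I) :=
      (IsAdicComplete.map_algebraMap_iff (R := A) (S := A ⧸ I) (I := J) (M := A ⧸ I)).mp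
        (by assumption)
    refine isAdicComplete_congr J (I ⊔ J) (fun n => ?_)
    refine le_antisymm ?_ (Submodule.smul_mono_left (Ideal.pow_right_mono le_sup_right n))
    refine (Submodule.smul_mono_left (sup_pow_le I J n)).trans ?_
    rw [Submodule.sup_smul]
    refine sup_le ?_ le_rfl
    rw [Submodule.smul_le]
    intro r hr x _
    obtain ⟨x, rfl⟩ := Ideal.Quotient.mk_surjective x
    have : r • (Ideal.Quotient.mk I x) = 0 := by
      rw [Algebra.smul_def, Ideal.Quotient.algebraMap_eq, ← map_mul,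
        Ideal.Quotient.eq_zero_iff_mem]
      exact I.mul_mem_right _ hr
    rw [this]
    exact Submodule.zero_mem _
  -- the completion along `I ⊔ J`
  have hKfg : (I ⊔ J).FG := IsNoetherian.noetherian _
  have hN : IsNoetherianRing (AdicCompletion (I ⊔ J) A) := Groth.Agent.S0543.result A (I ⊔ J)
  have hc : IsAdicComplete ((I ⊔ J).map (algebraMap A (AdicCompletion (I ⊔ J) A)))
      (AdicCompletion (I ⊔ J) A) :=
    (IsAdicComplete.map_algebraMap_iff (R := A) (S := AdicCompletion (I ⊔ J) A) (I := I ⊔ J)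
      (M := AdicCompletion (I ⊔ J) A)).mpr (AdicCompletion.isAdicComplete (I := I ⊔ J) hKfg)
  have hHI : IsHausdorff I (AdicCompletion (I ⊔ J) A) := by
    have h1 : I.map (algebraMap A (AdicCompletion (I ⊔ J) A)) ≤
        (⊥ : Ideal (AdicCompletion (I ⊔ J) A)).jacobson :=
      (Ideal.map_mono le_sup_left).trans
        (IsAdicComplete.le_jacobson_bot ((I ⊔ J).map (algebraMap A (AdicCompletion (I ⊔ J) A))))
    have h2 : IsHausdorff (I.map (algebraMap A (AdicCompletion (I ⊔ J) A)))
        (AdicCompletion (I ⊔ J) A) := IsHausdorff.of_le_jacobson _ _ h1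
    exact (IsHausdorff.map_algebraMap_iff (R := A) (S := AdicCompletion (I ⊔ J) A) (I := I)
      (M := AdicCompletion (I ⊔ J) A)).mp h2
  have hmem : ∀ t : TensorProduct A (AdicCompletion (I ⊔ J) A) ↥I,
      AdicCompletion.map (I ⊔ J) (Submodule.subtype I)
        (AdicCompletion.ofTensorProduct (I ⊔ J) ↥I t) ∈
        (I • ⊤ : Submodule A (AdicCompletion (I ⊔ J) A)) := by
    intro t
    induction t using TensorProduct.induction_on with
    | zero => simp
    | tmul r x =>
      rw [AdicCompletion.ofTensorProduct_tmul, map_smul, AdicCompletion.map_of]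
      have : r • AdicCompletion.of (I ⊔ J) A ((Submodule.subtype I) x) = (x : A) • r := by
        rw [smul_eq_mul, mul_comm, Algebra.smul_def]
        rfl
      rw [this]
      exact Submodule.smul_mem_smul x.2 Submodule.mem_top
    | add t₁ t₂ h₁ h₂ =>
      rw [map_add, map_add]
      exact Submodule.add_mem _ h₁ h₂
  have hsurj : Function.Surjective (AdicCompletion.of (I ⊔ J) A) := by
    have hsub : ∀ f : A →ₗ[A] AdicCompletion (I ⊔ J) A,
        Function.Surjective ((Submodule.mkQ (I • ⊤ : Submodule A (AdicCompletion (I ⊔ J) A)))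
          ∘ₗ f) → Function.Surjective f := fun f h =>
      surjective_of_mkQ_comp_surjective (I := I) h
    refine hsub (AdicCompletion.of (I ⊔ J) A) ?_
    intro w
    obtain ⟨y, rfl⟩ := Submodule.mkQ_surjective _ w
    obtain ⟨ā, hā⟩ := AdicCompletion.of_surjective (I ⊔ J) (A ⧸ I)
      (AdicCompletion.map (I ⊔ J) (Submodule.mkQ I) y)
    obtain ⟨a, rfl⟩ := Submodule.mkQ_surjective I ā
    have h0 : AdicCompletion.map (I ⊔ J) (Submodule.mkQ I)
        (y - AdicCompletion.of (I ⊔ J) A a) = 0 := by
      rw [map_sub, AdicCompletion.map_of, hā, sub_self]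
    obtain ⟨z, hz⟩ := (AdicCompletion.map_exact (I := I ⊔ J) (Submodule.injective_subtype I)
      (LinearMap.exact_subtype_mkQ I) (Submodule.mkQ_surjective I) _).mp h0
    refine ⟨a, ?_⟩
    rw [LinearMap.comp_apply, Submodule.mkQ_apply, Submodule.mkQ_apply, Submodule.Quotient.eq,
      ← neg_sub, Submodule.neg_mem_iff, ← hz]
    obtain ⟨t, rfl⟩ := AdicCompletion.ofTensorProduct_surjective_of_finite (I ⊔ J) ↥I z
    exact hmem t
  have hK : IsAdicComplete (I ⊔ J) A :=
    AdicCompletion.of_bijective_iff.mp ⟨AdicCompletion.of_injective (I ⊔ J) A, hsurj⟩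
  exact Groth.Agent.S0546.result A J (I ⊔ J) le_sup_right (IsNoetherian.noetherian _) A

end Groth.Agent.S0545
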