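import Groth.Statements.S4991
import Groth.Agent.Lib.Helper24.SmoothRegularIff
import Groth.Agent.Lib.Helper24.SmoothStalk
-- import your own Groth.Agent.* helpers here

set_option autoImplicit false
universe u
open CategoryTheory CategoryTheory.Limits AlgebraicGeometry TopologicalSpace
open Unram17

namespace Groth.Agent.S4991

open AlgebraicGeometry

theorem reg_iff (A B : Type u) [CommRing A] [CommRing B] [Algebra A B] [Algebra.Smooth A B]
    [IsNoetherianRing A]
    (q : Ideal B) [q.IsPrime] (p : Ideal A) [p.IsPrime] (hpq : p = q.comap (algebraMap A B)) :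
    IsRegularLocalRing (Localization.AtPrime p) ↔ IsRegularLocalRing (Localization.AtPrime q) := by
  subst hpq
  exact Groth.Agent.Lib.Helper24.SmoothRegularIff.isRegularLocalRing_atPrime_iff_of_smooth A B q


/-- Let Y be locally Noetherian and f : X ⟶ Y locally of finite type, smooth on an open neighbourhood of
a point x with image y. Then the local ring of X at x is regular if and only if the local ring of Y
at y is regular. -/
theorem result {X Y : Scheme.{u}} (f : X ⟶ Y)
    [IsLocallyNoetherian Y] [LocallyOfFiniteType f] (x : ↥X)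
    (hx : ∃ U : X.Opens, x ∈ U ∧ Smooth (U.ι ≫ f)) :
    IsRegularLocalRing ↑(X.presheaf.stalk x) ↔ IsRegularLocalRing ↑(Y.presheaf.stalk (f.base x)) := by
  have H := Groth.Agent.Lib.Helper24.SmoothStalk.formallySmooth_stalkMap_of_smooth_nhd f x hx
  obtain ⟨U, hU, V, hV, hVU, hxV, hφ⟩ := exists_smooth_of_formallySmooth_stalk f x H
  algebraize [(f.appLE U V hVU).hom]
  haveI : Algebra.Smooth Γ(Y, U) Γ(X, V) := inferInstance
  haveI : IsNoetherianRing Γ(Y, U) := IsLocallyNoetherian.component_noetherian ⟨U, hU⟩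
  let q : Ideal Γ(X, V) := (hV.primeIdealOf ⟨x, hxV⟩).asIdeal
  let p : Ideal Γ(Y, U) := (hU.primeIdealOf ⟨f x, hVU hxV⟩).asIdeal
  have hpq : p = q.comap (algebraMap Γ(Y, U) Γ(X, V)) :=
    (congrArg PrimeSpectrum.asIdeal
      (IsAffineOpen.comap_primeIdealOf_appLE U hU V hV hVU hxV)).symm
  letI := X.presheaf.algebra_section_stalk (⟨x, hxV⟩ : V)
  letI := Y.presheaf.algebra_section_stalk (⟨f x, hVU hxV⟩ : U)
  haveI iX : IsLocalization.AtPrime (X.presheaf.stalk x) q := hV.isLocalization_stalk ⟨x, hxV⟩
  haveI iY : IsLocalization.AtPrime (Y.presheaf.stalk (f x)) p :=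
    hU.isLocalization_stalk ⟨f x, hVU hxV⟩
  let eX : Localization.AtPrime q ≃ₐ[Γ(X, V)] X.presheaf.stalk x :=
    IsLocalization.algEquiv q.primeCompl _ _
  let eY : Localization.AtPrime p ≃ₐ[Γ(Y, U)] Y.presheaf.stalk (f x) :=
    IsLocalization.algEquiv p.primeCompl _ _
  have hreg := reg_iff Γ(Y, U) Γ(X, V) q p hpq
  constructor
  · intro h
    haveI : IsRegularLocalRing (Localization.AtPrime q) :=
      IsRegularLocalRing.of_ringEquiv eX.symm.toRingEquiv
    haveI : IsRegularLocalRing (Localization.AtPrime p) := hreg.2 inferInstance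
    exact IsRegularLocalRing.of_ringEquiv eY.toRingEquiv
  · intro h
    haveI : IsRegularLocalRing (Localization.AtPrime p) :=
      IsRegularLocalRing.of_ringEquiv eY.symm.toRingEquiv
    haveI : IsRegularLocalRing (Localization.AtPrime q) := hreg.1 inferInstance
    exact IsRegularLocalRing.of_ringEquiv eX.toRingEquiv

end Groth.Agent.S4991
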