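import Groth.Statements.S1562
import Groth.Agent.Lib.Helper17.RegSmoothSch3
import Groth.Agent.Lib.Helper18.SmoothDescentScheme
import Groth.Agent.Lib.Helper7.GrpPerfect
import Groth.Agent.S4991

set_option autoImplicit false
set_option linter.style.haveILetI false
universe u
open CategoryTheory CategoryTheory.Limits AlgebraicGeometry
open Variety

namespace Groth.Agent.S1562

/-- Let X be locally of finite type over a field k and x a point of X. Then X is geometrically regular
at x (regular local rings at all points over x after every finitely generated field extension) if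
and only if x lies in the smooth locus of X → Spec k. -/
theorem result (k : Type u) [Field k] (X : Scheme.{u}) [X.Over (Spec (CommRingCat.of k))] [LocallyOfFinitePresentation (X ↘ (Spec (CommRingCat.of k)))] (x : X) :
    Curv2.IsGeomRegularAt k X x ↔ x ∈ (X ↘ (Spec (CommRingCat.of k))).smoothLocus := by
  classical
  set f := X ↘ (Spec (CommRingCat.of k)) with hf
  constructor
  · -- geometrically regular ⇒ smooth: base change to `κ(x)`
    intro hgr
    let k' : Type u := X.residueField x
    letI : Algebra k k' := (Groth.Agent.Lib.helper17.RegSmooth.resMap f x).toAlgebra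
    have hess : Algebra.EssFiniteType k k' :=
      Groth.Agent.Lib.helper17.RegSmooth.essFiniteType_resMap f x
    have hFG : (⊤ : IntermediateField k k').FG := IntermediateField.fg_top_iff.mpr hess
    -- the rational point over `x`
    have hcomm : X.fromSpecResidueField x ≫ f =
        𝟙 (Spec (CommRingCat.of k')) ≫ Spec.map (CommRingCat.ofHom (algebraMap k k')) := by
      rw [Category.id_comp]
      exact Groth.Agent.Lib.helper17.RegSmooth.fromSpecResidueField_comp f x
    let s : Spec (CommRingCat.of k') ⟶ Curv2.bc k X k' :=
      Limits.pullback.lift (X.fromSpecResidueField x) (𝟙 _) hcomm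
    have hs : s ≫ Curv2.bcSnd k X k' = 𝟙 _ := Limits.pullback.lift_snd _ _ _
    have hs1 : s ≫ Curv2.bcFst k X k' = X.fromSpecResidueField x := Limits.pullback.lift_fst _ _ _
    let pt : Spec (CommRingCat.of k') := IsLocalRing.closedPoint k'
    have hx' : Curv2.bcFst k X k' (s pt) = x := by
      rw [← Scheme.Hom.comp_apply, hs1]
      exact Scheme.fromSpecResidueField_apply x pt
    have hreg := hgr k' hFG (s pt) hx'
    have hsm : s pt ∈ (Curv2.bcSnd k X k').smoothLocus :=
      (Groth.Agent.Lib.helper17.RegSmooth.mem_smoothLocus_section_iff (Curv2.bcSnd k X k') s hs pt).mpr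
        hreg
    have hpb : IsPullback (Curv2.bcFst k X k') (Curv2.bcSnd k X k') f
        (Spec.map (CommRingCat.ofHom (algebraMap k k'))) := IsPullback.of_hasPullback _ _
    have hflat : ((Spec.map (CommRingCat.ofHom (algebraMap k k'))).stalkMap
        (Curv2.bcSnd k X k' (s pt))).hom.Flat :=
      Flat.stalkMap _ _
    have h1 := Groth.Agent.Lib.Helper18.SmoothDescent.formallySmooth_stalk_descent_of_isPullback
      hpb (s pt) hflat hsm
    have h2 : Curv2.bcFst k X k' (s pt) ∈ f.smoothLocus := h1
    rwa [hx'] at h2
  · -- smooth ⇒ geometrically regular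
    intro hsm k' _ _ _ x' hx'
    have h1 : x' ∈ (Curv2.bcSnd k X k').smoothLocus :=
      Groth.Agent.Lib.helper7.GrpPerfect.mem_smoothLocus_pullback f _ x' (by rw [hx']; exact hsm)
    have h2 := (Groth.Agent.Lib.Helper18.SmoothDescent.exists_smooth_nhd_iff
      (Curv2.bcSnd k X k') x').mpr h1
    rw [Groth.Agent.S4991.result (Curv2.bcSnd k X k') x' h2]
    exact Groth.Agent.Lib.helper17.RegSmooth.isRegularLocalRing_stalk_spec_field _

end Groth.Agent.S1562
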