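import Groth.Statements.S7606
import Mathlib
import Groth.Agent.Lib.Helper17.GeomPoint
import Groth.Agent.Lib.Helper17.RegGeneriz
import Groth.Agent.Lib.Helper24.GeomFG4
import Groth.Agent.Lib.Helper24.GeomLim3

set_option autoImplicit false
set_option linter.style.haveILetI false
universe u
open CategoryTheory CategoryTheory.Limits AlgebraicGeometry
attribute [local instance] Curv2.stalkAlgebra
open Variety

namespace Groth.Agent.S7606

/-- Let X be a locally Noetherian scheme over a field k and x a point of X. These conditions are
equivalent: (1) the scheme X is geometrically regular at x; (2) whenever k'/k is finite and purely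
inseparable, the local ring O_{X_{k'}, x'} is regular at each point x' of X_{k'} lying over x; (3)
the local ring O_{X, x} is geometrically regular over k (k' ⊗_k O_{X, x} is a regular ring for every
finite extension k' of k). Stated as (1) ↔ (2) together with (2) ↔ (3). -/
theorem result (k : Type u) [Field k] (X : Scheme.{u}) [X.Over (Spec (CommRingCat.of k))] [IsLocallyNoetherian X] (x : ↥X) :
    (Curv2.IsGeomRegularAt k X x ↔
      ∀ (k' : Type u) [Field k'] [Algebra k k'] [FiniteDimensional k k'] [IsPurelyInseparable k k'] (x' : ↥(Curv2.bc k X k')),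
        Curv2.bcFst k X k' x' = x → IsRegularLocalRing ↥((Curv2.bc k X k').presheaf.stalk x')) ∧
    ((∀ (k' : Type u) [Field k'] [Algebra k k'] [FiniteDimensional k k'] [IsPurelyInseparable k k'] (x' : ↥(Curv2.bc k X k')),
        Curv2.bcFst k X k' x' = x → IsRegularLocalRing ↥((Curv2.bc k X k').presheaf.stalk x')) ↔
      CAlg.IsGeometricallyRegular k ↥(X.presheaf.stalk x)) := by
  haveI : IsNoetherianRing (X.presheaf.stalk x) := inferInstance
  -- the three conditions
  have hiso : ∀ (R R' : Type u) [CommRing R] [CommRing R'], (R ≃+* R') →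
      IsRegularLocalRing R → IsRegularLocalRing R' := fun R R' _ _ e h => by
    haveI := h
    exact IsRegularLocalRing.of_ringEquiv e
  have hgen : ∀ (R : Type u) [CommRing R] (p m : Ideal R) [p.IsPrime] [m.IsPrime], p ≤ m →
      IsRegularLocalRing (Localization.AtPrime m) → IsRegularLocalRing (Localization.AtPrime p) :=
    fun R _ p m _ _ hle h =>
      Groth.Agent.Lib.helper17.RegGeneriz.isRegularLocalRing_localization_of_le p m hle h
  have h12 : Curv2.IsGeomRegularAt k X x →
      ∀ (k' : Type u) [Field k'] [Algebra k k'] [FiniteDimensional k k'] [IsPurelyInseparable k k']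
        (x' : ↥(Curv2.bc k X k')),
        Curv2.bcFst k X k' x' = x → IsRegularLocalRing ↥((Curv2.bc k X k').presheaf.stalk x') := by
    intro h k' _ _ _ _ x' hx'
    exact h k' (IntermediateField.fg_top k k') x' hx'
  have h23 : (∀ (k' : Type u) [Field k'] [Algebra k k'] [FiniteDimensional k k']
        [IsPurelyInseparable k k'] (x' : ↥(Curv2.bc k X k')),
        Curv2.bcFst k X k' x' = x → IsRegularLocalRing ↥((Curv2.bc k X k').presheaf.stalk x')) →
      CAlg.IsGeometricallyRegular k ↥(X.presheaf.stalk x) := by
    intro h
    refine (Groth.Agent.Lib.Helper24.GeomFG.geom_iff_pi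
      Groth.Agent.Lib.Helper24.GeomFG.geomStable_isRegularRing k (X.presheaf.stalk x)).2 ?_
    intro k' _ _ hfin hpi
    haveI := hfin
    haveI := hpi
    haveI : IsNoetherianRing (TensorProduct k k' (X.presheaf.stalk x)) :=
      Groth.Agent.Lib.Helper24.GeomLim.isNoetherianRing_tensor_finite k _ k'
    rw [isRegularRing_iff]
    intro p hp
    exact Groth.Agent.Lib.helper17.GeomPoint.tensor_of_stalk k X x
      (fun R _ => IsRegularLocalRing R) hiso hgen k' (fun x' hx' => h k' x' hx') p
  have h31 : CAlg.IsGeometricallyRegular k ↥(X.presheaf.stalk x) → Curv2.IsGeomRegularAt k X x := by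
    intro h k' _ _ hfg x' hx'
    have hess : Algebra.EssFiniteType k k' := IntermediateField.fg_top_iff.1 hfg
    have h1 : IsRegularRing (TensorProduct k k' (X.presheaf.stalk x)) :=
      (Groth.Agent.Lib.Helper24.GeomFG.geom_iff_fg
        Groth.Agent.Lib.Helper24.GeomFG.geomStable_isRegularRing k (X.presheaf.stalk x)).1 h k' hess
    exact Groth.Agent.Lib.helper17.GeomPoint.stalk_of_tensor k X x
      (fun R _ => IsRegularLocalRing R) hiso k'
      (fun p _ => IsRegularRing.isRegularLocalRing_localization p) x' hx'
  exact ⟨⟨h12, fun h => h31 (h23 h)⟩, ⟨h23, fun h => h12 (h31 h)⟩⟩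

end Groth.Agent.S7606
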