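import Groth.Statements.S4759
import Mathlib
-- import your own Groth.Agent.* helpers here

set_option autoImplicit false
universe u
open CategoryTheory AlgebraicGeometry
open Lim8

namespace Groth.Agent.S4759

/-- Let S = lim S_i be a cofiltered limit of schemes with affine transition maps, some stage S_{i₀}
being quasi-compact and quasi-separated. Then every constructible subset Z of S is the preimage
under the projection S ⟶ S_i of a constructible subset of S_i, for some index i over i₀. -/
theorem result {I : Type u} [SmallCategory I] [IsCofiltered I]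
    (D : I ⥤ Scheme.{u}) (c : Limits.Cone D) (hc : Limits.IsLimit c)
    [∀ (i j : I) (f : i ⟶ j), IsAffineHom (D.map f)] (i₀ : I) [CompactSpace (D.obj i₀)]
    [QuasiSeparatedSpace (D.obj i₀)] (Z : Set c.pt) (hZ : Topology.IsConstructible Z) :
    ∃ (i : I) (_ : i ⟶ i₀) (Zi : Set (D.obj i)),
      Topology.IsConstructible Zi ∧ (⇑(c.π.app i) ⁻¹' Zi : Set c.pt) = Z := by
  have inst : ∀ {i j : I} (f : i ⟶ j), IsAffineHom (D.map f) := fun {i j} f => inferInstance
  have haff : ∀ i, IsAffineHom (c.π.app i) := fun i => isAffineHom_π_app D c hc i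
  have : CompactSpace c.pt := QuasiCompact.compactSpace_of_compactSpace (c.π.app i₀)
  have hqs : ∀ (i : I) (_ : i ⟶ i₀), QuasiSeparatedSpace (D.obj i) :=
    fun i φ => quasiSeparatedSpace_of_quasiSeparated (D.map φ)
  induction hZ using Topology.IsConstructible.empty_union_induction with
  | open_retrocompact U hUo hUc =>
    have hUcpt : IsCompact U := hUc.isCompact
    obtain ⟨i, V, hV, hVU⟩ := exists_preimage_eq D c hc ⟨U, hUo⟩ hUcpt
    have := hqs (IsCofiltered.min i i₀) (IsCofiltered.minToRight i i₀)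
    refine ⟨IsCofiltered.min i i₀, IsCofiltered.minToRight i i₀,
      (D.map (IsCofiltered.minToLeft i i₀)) ⁻¹' (V : Set (D.obj i)), ?_, ?_⟩
    · exact IsCompact.isConstructible
        (QuasiCompact.isCompact_preimage (f := D.map (IsCofiltered.minToLeft i i₀)) _ V.2 hV)
        (V.2.preimage (D.map (IsCofiltered.minToLeft i i₀)).continuous)
    · have h1 : c.π.app (IsCofiltered.min i i₀) ≫ D.map (IsCofiltered.minToLeft i i₀) =
          c.π.app i := c.w _
      have h2 : (⇑(c.π.app i) ⁻¹' (V : Set (D.obj i)) : Set c.pt) = U :=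
        congrArg (fun W : c.pt.Opens => (W : Set c.pt)) hVU
      rw [← h2, ← h1]
      rfl
  | union s hs t ht hs' ht' =>
    obtain ⟨i, φ, Zi, hZi, rfl⟩ := hs'
    obtain ⟨j, ψ, Zj, hZj, rfl⟩ := ht'
    refine ⟨IsCofiltered.min i j, IsCofiltered.minToLeft i j ≫ φ,
      (D.map (IsCofiltered.minToLeft i j)) ⁻¹' Zi ∪ (D.map (IsCofiltered.minToRight i j)) ⁻¹' Zj,
      ((D.map _).isConstructible_preimage hZi).union ((D.map _).isConstructible_preimage hZj), ?_⟩
    have h1 : c.π.app (IsCofiltered.min i j) ≫ D.map (IsCofiltered.minToLeft i j) =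
        c.π.app i := c.w _
    have h2 : c.π.app (IsCofiltered.min i j) ≫ D.map (IsCofiltered.minToRight i j) =
        c.π.app j := c.w _
    rw [← h1, ← h2]
    rfl
  | compl s hs hs' =>
    obtain ⟨i, φ, Zi, hZi, rfl⟩ := hs'
    exact ⟨i, φ, Ziᶜ, hZi.compl, rfl⟩

end Groth.Agent.S4759
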