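import Groth.Statements.S9207
import Mathlib

set_option autoImplicit false
universe u
open CategoryTheory CategoryTheory.Limits AlgebraicGeometry
open Lim

namespace Groth.Agent.S9207

section aux

variable {I : Type u} [SmallCategory I] (D : I ⥤ Scheme.{u}) (c : Limits.Cone D)
  (i : I) {T : Scheme.{u}} (a : T ⟶ D.obj i)

/-- the diagram `j ↦ T ×_{S_i} S_j` -/
noncomputable def pbDiagram : Over i ⥤ Scheme.{u} where
  obj j := pullback a (D.map j.hom)
  map {j k} f := pullback.map a (D.map j.hom) a (D.map k.hom) (𝟙 T) (D.map f.left) (𝟙 _)
    (by simp) (by rw [Category.comp_id, ← D.map_comp, Over.w f])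
  map_id j := by
    apply pullback.hom_ext <;>
      simp [pullback.map, pullback.lift_fst, pullback.lift_snd]
  map_comp f g := by
    apply pullback.hom_ext <;>
      simp [pullback.map, pullback.lift_fst, pullback.lift_snd, pullback.lift_fst_assoc,
        pullback.lift_snd_assoc]

/-- the projection to the original diagram -/
noncomputable def pbDiagramι : pbDiagram D i a ⟶ Over.forget i ⋙ D where
  app j := pullback.snd _ _
  naturality j k f := by
    simp [pbDiagram, pullback.map, pullback.lift_snd]

/-- the cone `T ×_{S_i} S` -/
noncomputable def pbCone : Cone (pbDiagram D i a) where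
  pt := pullback a (c.π.app i)
  π :=
    { app := fun j => pullback.map a (c.π.app i) a (D.map j.hom) (𝟙 T) (c.π.app j.left) (𝟙 _)
        (by simp) (by rw [Category.comp_id, c.w])
      naturality := fun j k f => by
        apply pullback.hom_ext <;>
          simp [pbDiagram, pullback.map, pullback.lift_fst, pullback.lift_snd,
            pullback.lift_fst_assoc, pullback.lift_snd_assoc] }

lemma pbCone_π_app_fst (j : Over i) :
    (pbCone D c i a).π.app j ≫ pullback.fst a (D.map j.hom) = pullback.fst a (c.π.app i) := by
  change pullback.map a (c.π.app i) a (D.map j.hom) (𝟙 T) (c.π.app j.left) (𝟙 _)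
    (by simp) (by rw [Category.comp_id, c.w]) ≫ pullback.fst a (D.map j.hom) = _
  rw [pullback.map, pullback.lift_fst, Category.comp_id]

lemma pbCone_π_app_snd (j : Over i) :
    (pbCone D c i a).π.app j ≫ pullback.snd a (D.map j.hom) =
      pullback.snd a (c.π.app i) ≫ c.π.app j.left := by
  change pullback.map a (c.π.app i) a (D.map j.hom) (𝟙 T) (c.π.app j.left) (𝟙 _)
    (by simp) (by rw [Category.comp_id, c.w]) ≫ pullback.snd a (D.map j.hom) = _
  rw [pullback.map, pullback.lift_snd]

lemma pbCone_isPullback (j : Over i) :
    IsPullback ((pbCone D c i a).π.app j) (pullback.snd a (c.π.app i))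
      (pullback.snd a (D.map j.hom)) (c.π.app j.left) := by
  have hbig : IsPullback ((pbCone D c i a).π.app j ≫ pullback.fst a (D.map j.hom))
      (pullback.snd a (c.π.app i)) a (c.π.app j.left ≫ D.map j.hom) := by
    rw [pbCone_π_app_fst, c.w]
    exact IsPullback.of_hasPullback _ _
  have hright : IsPullback (pullback.fst a (D.map j.hom)) (pullback.snd a (D.map j.hom)) a
      (D.map j.hom) := IsPullback.of_hasPullback _ _
  exact IsPullback.of_right hbig (pbCone_π_app_snd D c i a j) hright

lemma pbDiagram_map_fst {j k : Over i} (f : j ⟶ k) :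
    (pbDiagram D i a).map f ≫ pullback.fst a (D.map k.hom) = pullback.fst a (D.map j.hom) := by
  change pullback.map a (D.map j.hom) a (D.map k.hom) (𝟙 T) (D.map f.left) (𝟙 _)
    (by simp) (by rw [Category.comp_id, ← D.map_comp, Over.w f]) ≫ pullback.fst a (D.map k.hom) = _
  rw [pullback.map, pullback.lift_fst, Category.comp_id]

lemma pbDiagram_map_snd {j k : Over i} (f : j ⟶ k) :
    (pbDiagram D i a).map f ≫ pullback.snd a (D.map k.hom) =
      pullback.snd a (D.map j.hom) ≫ D.map f.left := by
  change pullback.map a (D.map j.hom) a (D.map k.hom) (𝟙 T) (D.map f.left) (𝟙 _)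
    (by simp) (by rw [Category.comp_id, ← D.map_comp, Over.w f]) ≫ pullback.snd a (D.map k.hom) = _
  rw [pullback.map, pullback.lift_snd]

lemma pbDiagram_map_isPullback {j k : Over i} (f : j ⟶ k) :
    IsPullback ((pbDiagram D i a).map f) (pullback.snd a (D.map j.hom))
      (pullback.snd a (D.map k.hom)) (D.map f.left) := by
  have hbig : IsPullback ((pbDiagram D i a).map f ≫ pullback.fst a (D.map k.hom))
      (pullback.snd a (D.map j.hom)) a (D.map f.left ≫ D.map k.hom) := by
    rw [pbDiagram_map_fst, ← D.map_comp, Over.w f]
    exact IsPullback.of_hasPullback _ _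
  have hright : IsPullback (pullback.fst a (D.map k.hom)) (pullback.snd a (D.map k.hom)) a
      (D.map k.hom) := IsPullback.of_hasPullback _ _
  exact IsPullback.of_right hbig (pbDiagram_map_snd D i a f) hright

end aux

/-- Let S = lim S_i be a cofiltered limit of quasi-compact quasi-separated schemes with affine
transition morphisms, let i be an index and T → S_i a morphism of schemes with T quasi-compact. If
the fibre product T ×_{S_i} S is empty, then T ×_{S_i} S_{i'} is empty for some index i' over i (and
then for every index over i'). -/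
theorem result {I : Type u} [SmallCategory I] [IsCofiltered I]
    (D : I ⥤ Scheme.{u}) (c : Limits.Cone D) (hc : Limits.IsLimit c)
    [∀ (i j : I) (f : i ⟶ j), IsAffineHom (D.map f)] [∀ i, CompactSpace (D.obj i)]
    [∀ i, QuasiSeparatedSpace (D.obj i)] (i : I) {T : Scheme.{u}} (a : T ⟶ D.obj i) [CompactSpace T]
    (h : IsEmpty ↥(pullback a (c.π.app i))) :
    ∃ (i' : I) (φ : i' ⟶ i), IsEmpty ↥(pullback a (D.map φ)) := by
  by_contra hcon
  push Not at hcon
  have hne : ∀ j : Over i, Nonempty ((pbDiagram D i a).obj j) :=
    fun j => hcon j.left j.hom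
  have : CategoryTheory.IsConnected (Over i) := CategoryTheory.isConnected_of_hasTerminal _
  have hlim : IsLimit (pbCone D c i a) :=
    isLimitOfIsPullbackOfIsConnected (pbDiagramι D i a) (pbCone D c i a)
      (c.whisker (Over.forget i))
      { hom := pullback.snd a (c.π.app i)
        w := fun j => (pbCone_π_app_snd D c i a j).symm }
      (fun j => pbCone_isPullback D c i a j)
      ((Functor.Initial.isLimitWhiskerEquiv (Over.forget i) c).symm hc)
  have haff : ∀ {j k : Over i} (f : j ⟶ k), IsAffineHom ((pbDiagram D i a).map f) := by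
    intro j k f
    exact MorphismProperty.of_isPullback (P := @IsAffineHom)
      (pbDiagram_map_isPullback D i a f).flip inferInstance
  have hcpt : ∀ j : Over i, CompactSpace ((pbDiagram D i a).obj j) := by
    intro j
    have hqc : QuasiCompact (pullback.fst a (D.map j.hom)) :=
      MorphismProperty.of_isPullback (P := @QuasiCompact)
        (IsPullback.of_hasPullback a (D.map j.hom)).flip inferInstance
    exact @QuasiCompact.compactSpace_of_compactSpace _ _ (pullback.fst a (D.map j.hom)) hqc _
  have := Scheme.nonempty_of_isLimit (pbDiagram D i a) (pbCone D c i a) hlim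
  exact (not_isEmpty_iff.mpr this) h

end Groth.Agent.S9207
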