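import Groth.Statements.S4962
import Groth.Agent.Lib.Helper24.FibCod14

set_option autoImplicit false
open CategoryTheory AlgebraicGeometry
universe u v w
open EGA43

namespace Groth.Agent.S4962

/-- Let f : X ⟶ Y be a morphism locally of finite presentation and k a natural number. The set of points
x of X such that f is flat at x and the local ring at x of the fibre of f through x satisfies
Serre's condition (S_k) is open in X. -/
theorem result {X Y : Scheme.{u}} (f : X ⟶ Y) [LocallyOfFinitePresentation f]
    (k : ℕ) :
    IsOpen {x : X | (f.stalkMap x).hom.Flat ∧ LocCoh.HasSk k ((f.fiber (f.base x)).presheaf.stalk (f.asFiber x)) ((f.fiber (f.base x)).presheaf.stalk (f.asFiber x))} := by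
  have hP : ∀ (R R' : Type u) [CommRing R] [CommRing R'] [IsLocalRing R] [IsLocalRing R']
      [IsNoetherianRing R] [IsNoetherianRing R'], (R ≃+* R') →
      LocCoh.HasSk k R R → LocCoh.HasSk k R' R' := by
    intro R R' _ _ _ _ _ _ e h
    exact (Groth.Agent.Lib.Helper24.FibCod.hasSk_iff_of_ringEquiv k e).mp h
  exact Groth.Agent.Lib.Helper24.FibCod.isOpen_flat_and_fibre
    (fun R _ _ => LocCoh.HasSk k R R) hP
    (fun A B _ _ _ _ _ => Groth.Agent.Lib.Helper24.FibCod.isOpen_hasSk A B k) f

end Groth.Agent.S4962
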