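import Groth.Statements.S17141
import Groth.Agent.Lib.Helper24.Isoc
import Mathlib.Analysis.Subadditive
-- import your own Groth.Agent.* helpers here

set_option autoImplicit false
universe u v
open Isoc

namespace Groth.Agent.S17141

/-- Let k be a perfect field of characteristic p, a ∈ ℤ, W = W(k) with fraction field L, and (N, F) a
σ^a-F-isocrystal over k (N finite-dimensional over L, F a bijective σ^a-semilinear endomorphism),
with N ≠ 0, and let M be any W-lattice in N. Then for every n ≥ 1 the order ord_M(F^n) (the largest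
r with F^n(M) ⊆ p^r M) is defined, say o(n), and the limit of o(n)/n as n → ∞ exists in ℝ. -/
theorem result (p : ℕ) [Fact p.Prime] (k : Type u) [Field k] [CharP k p] [PerfectRing k p] (a : ℤ)
    (N : Type v) [AddCommGroup N] [Module (WittVector p k) N] [Module (FractionRing (WittVector p k)) N]
    [IsScalarTower (WittVector p k) (FractionRing (WittVector p k)) N]
    [Nontrivial N] (F : N →ₛₗ[Isoc.frob p k a] N) (hF : Isoc.IsIsoc F)
    (M : Submodule (WittVector p k) N) (hM : M.IsLattice (FractionRing (WittVector p k))) :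
    ∃ o : ℕ → ℤ, (∀ n : ℕ, 1 ≤ n → Isoc.IsOrd M F n (o n)) ∧
      ∃ lam : ℝ, Filter.Tendsto (fun n : ℕ => (o n : ℝ) / n) Filter.atTop (nhds lam) := by
  classical
  open Groth.Agent.Lib.helper24.IsocLib in
  have hinj := hF.bijective.injective
  have hMfg : M.FG := Submodule.IsLattice.fg (M := M)
  have hMspan : Submodule.span (FractionRing (WittVector p k)) (M : Set N) = ⊤ :=
    Submodule.IsLattice.span_eq_top (M := M)
  have hne : M ≠ ⊥ := ne_bot_of_span_eq_top (p := p) (k := k) hMspan
  choose o ho using fun n => exists_isOrd F hinj n hMfg hMspan hne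
  refine ⟨o, fun n _ => ho n, ?_⟩
  -- superadditivity
  have hsuper : ∀ m n, o m + o n ≤ o (m + n) := by
    intro m n
    by_contra hlt
    push Not at hlt
    apply (ho (m + n)).2
    calc Isoc.latImg F (m + n) M = Isoc.latImg F m (Isoc.latImg F n M) := latImg_add F m n M
      _ ≤ Isoc.latImg F m (Isoc.pPow (o n) M) := latImg_mono F m (ho n).1
      _ = Isoc.pPow (o n) (Isoc.latImg F m M) := latImg_pPow F m (o n) M
      _ ≤ Isoc.pPow (o n) (Isoc.pPow (o m) M) := pPow_mono _ (ho m).1
      _ = Isoc.pPow (o n + o m) M := pPow_pPow _ _ _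
      _ ≤ Isoc.pPow (o (m + n) + 1) M := pPow_le_of_le (by omega) M
  -- F(M) spans
  have hspanF : Submodule.span (FractionRing (WittVector p k)) (Isoc.latImg F 1 M : Set N) = ⊤ := by
    rw [eq_top_iff]
    rintro y -
    obtain ⟨x, rfl⟩ := hF.bijective.surjective y
    have hx : x ∈ Submodule.span (FractionRing (WittVector p k)) (M : Set N) := hMspan ▸ Submodule.mem_top
    induction hx using Submodule.span_induction with
    | mem x hx =>
      exact Submodule.subset_span ((mem_latImg F (s := 1)).mpr ⟨x, hx, rfl⟩)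
    | zero => rw [map_zero]; exact Submodule.zero_mem _
    | add x y _ _ ihx ihy => rw [map_add]; exact Submodule.add_mem _ ihx ihy
    | smul c x _ ihx => rw [F.map_smulₛₗ]; exact Submodule.smul_mem _ _ ihx
  obtain ⟨c', hc'⟩ := exists_pPow_le (p := p) (k := k) hMfg hspanF
  have hlow : ∀ n : ℕ, Isoc.pPow ((c' : ℤ) * n) M ≤ Isoc.latImg F n M := by
    intro n
    induction n with
    | zero =>
      have : Isoc.latImg F 0 M = M := by
        apply SetLike.coe_injective
        rw [coe_latImg]; simp
      rw [this]; simp [pPow_zero]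
    | succ n ih =>
      calc Isoc.pPow ((c' : ℤ) * (n + 1 : ℕ)) M
          = Isoc.pPow ((c' : ℤ) * n) (Isoc.pPow (c' : ℤ) M) := by
            rw [pPow_pPow]; congr 1
        _ ≤ Isoc.pPow ((c' : ℤ) * n) (Isoc.latImg F 1 M) := pPow_mono _ hc'
        _ = Isoc.latImg F 1 (Isoc.pPow ((c' : ℤ) * n) M) := (latImg_pPow F 1 _ M).symm
        _ ≤ Isoc.latImg F 1 (Isoc.latImg F n M) := latImg_mono F 1 ih
        _ = Isoc.latImg F (n + 1) M := by rw [add_comm, latImg_add]
  have hub : ∀ n : ℕ, o n ≤ (c' : ℤ) * n := by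
    intro n
    by_contra h
    push Not at h
    have h1 : Isoc.pPow ((c' : ℤ) * n) M ≤ Isoc.pPow ((c' : ℤ) * n + 1) M :=
      (hlow n).trans ((ho n).1.trans (pPow_le_of_le (by omega) M))
    rw [← pPow_pPow, pPow_le_pPow_iff] at h1
    exact not_le_pPow_one (p := p) (k := k) hMfg hne h1
  -- Fekete's lemma
  have hsub : Subadditive (fun n => -(o n : ℝ)) := by
    intro m n
    have := hsuper m n
    have h2 : ((o m : ℝ) + o n) ≤ o (m + n) := by exact_mod_cast this
    simp only
    linarith
  have hbdd : BddBelow (Set.range fun n : ℕ => -(o n : ℝ) / n) := by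
    refine ⟨-(c' : ℝ), ?_⟩
    rintro _ ⟨n, rfl⟩
    simp only
    rcases Nat.eq_zero_or_pos n with rfl | hn
    · simp
    · have hn' : (0 : ℝ) < n := by exact_mod_cast hn
      rw [le_div_iff₀ hn']
      have : (o n : ℝ) ≤ (c' : ℝ) * n := by exact_mod_cast hub n
      linarith
  refine ⟨-hsub.lim, ?_⟩
  have h3 := (hsub.tendsto_lim hbdd).neg
  refine h3.congr fun n => ?_
  simp only [neg_div, neg_neg]

end Groth.Agent.S17141
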