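import Groth.Statements.S17142
import Groth.Agent.Lib.Helper24.Isoc
import Mathlib.Analysis.SpecificLimits.Basic
-- import your own Groth.Agent.* helpers here

set_option autoImplicit false
universe u v
open Isoc

namespace Groth.Agent.S17142

/-- Let k be a perfect field of characteristic p, a ∈ ℤ, W = W(k) with fraction field L, and (N, F) a
σ^a-F-isocrystal over k (N finite-dimensional over L, F a bijective σ^a-semilinear endomorphism).
Let M₁, M₂ be W-lattices in N and let o₁(n) = ord_{M₁}(F^n), o₂(n) = ord_{M₂}(F^n) for n ≥ 1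
(largest r with F^n(M_i) ⊆ p^r M_i). If o₁(n)/n → lam₁ and o₂(n)/n → lam₂ then lam₁ = lam₂; so the
limit defining the first Newton slope is independent of the chosen lattice. -/
theorem result (p : ℕ) [Fact p.Prime] (k : Type u) [Field k] [CharP k p] [PerfectRing k p] (a : ℤ)
    (N : Type v) [AddCommGroup N] [Module (WittVector p k) N] [Module (FractionRing (WittVector p k)) N]
    [IsScalarTower (WittVector p k) (FractionRing (WittVector p k)) N]
    (F : N →ₛₗ[Isoc.frob p k a] N) (hF : Isoc.IsIsoc F)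
    (M₁ M₂ : Submodule (WittVector p k) N) (hM₁ : M₁.IsLattice (FractionRing (WittVector p k))) (hM₂ : M₂.IsLattice (FractionRing (WittVector p k)))
    (o₁ o₂ : ℕ → ℤ) (ho₁ : ∀ n : ℕ, 1 ≤ n → Isoc.IsOrd M₁ F n (o₁ n))
    (ho₂ : ∀ n : ℕ, 1 ≤ n → Isoc.IsOrd M₂ F n (o₂ n)) (lam₁ lam₂ : ℝ)
    (h₁ : Filter.Tendsto (fun n : ℕ => (o₁ n : ℝ) / n) Filter.atTop (nhds lam₁))
    (h₂ : Filter.Tendsto (fun n : ℕ => (o₂ n : ℝ) / n) Filter.atTop (nhds lam₂)) :
    lam₁ = lam₂ := by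
  classical
  open Groth.Agent.Lib.helper24.IsocLib in
  obtain ⟨c, hc₁, hc₂⟩ := exists_pPow_le_of_isLattice (p := p) (k := k) M₁ M₂
  -- M₂ ≤ p^{-c} M₁ and M₁ ≤ p^{-c} M₂
  have hM₂ : M₂ ≤ Isoc.pPow (-(c : ℤ)) M₁ := by
    have := pPow_mono (-(c : ℤ)) hc₂
    rwa [pPow_pPow, neg_add_cancel, pPow_zero] at this
  have hM₁ : M₁ ≤ Isoc.pPow (-(c : ℤ)) M₂ := by
    have := pPow_mono (-(c : ℤ)) hc₁
    rwa [pPow_pPow, neg_add_cancel, pPow_zero] at this
  -- key inequality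
  have key : ∀ (Ma Mb : Submodule (WittVector p k) N) (oa ob : ℤ) (n : ℕ),
      Ma ≤ Isoc.pPow (-(c : ℤ)) Mb → Mb ≤ Isoc.pPow (-(c : ℤ)) Ma →
      Isoc.IsOrd Ma F n oa → Isoc.IsOrd Mb F n ob → oa - 2 * c ≤ ob := by
    intro Ma Mb oa ob n hab hba hoa hob
    by_contra hlt
    push Not at hlt
    apply hob.2
    calc Isoc.latImg F n Mb ≤ Isoc.latImg F n (Isoc.pPow (-(c : ℤ)) Ma) := latImg_mono F n hba
      _ ≤ Isoc.pPow (-(c : ℤ)) (Isoc.latImg F n Ma) := latImg_pPow_le F n _ Ma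
      _ ≤ Isoc.pPow (-(c : ℤ)) (Isoc.pPow oa Ma) := pPow_mono _ hoa.1
      _ ≤ Isoc.pPow (-(c : ℤ)) (Isoc.pPow oa (Isoc.pPow (-(c : ℤ)) Mb)) :=
          pPow_mono _ (pPow_mono _ hab)
      _ = Isoc.pPow (oa - 2 * c) Mb := by
          rw [pPow_pPow, pPow_pPow]; congr 1; ring
      _ ≤ Isoc.pPow (ob + 1) Mb := pPow_le_of_le (by omega) Mb
  have hbound : ∀ n : ℕ, 1 ≤ n → |(o₁ n : ℝ) - o₂ n| ≤ 2 * c := by
    intro n hn
    have h12 := key M₁ M₂ (o₁ n) (o₂ n) n hM₁ hM₂ (ho₁ n hn) (ho₂ n hn)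
    have h21 := key M₂ M₁ (o₂ n) (o₁ n) n hM₂ hM₁ (ho₂ n hn) (ho₁ n hn)
    rw [abs_le]
    constructor
    · have : (o₂ n : ℝ) - 2 * c ≤ o₁ n := by exact_mod_cast h21
      linarith
    · have : (o₁ n : ℝ) - 2 * c ≤ o₂ n := by exact_mod_cast h12
      linarith
  -- the difference tends to lam₁ - lam₂ and to 0
  have hdiff : Filter.Tendsto (fun n : ℕ => ((o₁ n : ℝ) - o₂ n) / n) Filter.atTop
      (nhds (lam₁ - lam₂)) := by
    have := h₁.sub h₂
    refine this.congr fun n => ?_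
    simp only [sub_div]
  have hzero : Filter.Tendsto (fun n : ℕ => ((o₁ n : ℝ) - o₂ n) / n) Filter.atTop (nhds 0) := by
    have hlim : Filter.Tendsto (fun n : ℕ => (2 * (c : ℝ)) / n) Filter.atTop (nhds 0) :=
      tendsto_const_div_atTop_nhds_zero_nat _
    have hlim' : Filter.Tendsto (fun n : ℕ => -((2 * (c : ℝ)) / n)) Filter.atTop (nhds 0) := by
      simpa using hlim.neg
    refine tendsto_of_tendsto_of_tendsto_of_le_of_le' hlim' hlim ?_ ?_
    · filter_upwards [Filter.eventually_ge_atTop 1] with n hn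
      have hb := (abs_le.mp (hbound n hn)).1
      have hn' : (0 : ℝ) < n := by exact_mod_cast hn
      rw [← neg_div]
      exact div_le_div_of_nonneg_right hb hn'.le
    · filter_upwards [Filter.eventually_ge_atTop 1] with n hn
      have hb := (abs_le.mp (hbound n hn)).2
      have hn' : (0 : ℝ) < n := by exact_mod_cast hn
      exact div_le_div_of_nonneg_right hb hn'.le
  have := tendsto_nhds_unique hdiff hzero
  linarith

end Groth.Agent.S17142
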