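import Groth.Statements.S17143
import Groth.Agent.Lib.Helper24.Isoc
import Mathlib.Analysis.SpecificLimits.Basic
-- import your own Groth.Agent.* helpers here

set_option autoImplicit false
universe u v
open Isoc

namespace Groth.Agent.S17143

/-- Let k be a perfect field of characteristic p, a ∈ ℤ, W = W(k) with fraction field L, and (N, F) a
σ^a-F-isocrystal over k (N finite-dimensional over L, F a bijective σ^a-semilinear endomorphism)
with first Newton slope λ₁(N, F) = lam. Then for m ∈ ℤ and n ∈ ℕ the twisted iterate (N, p^m F^n), a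
σ^(an)-F-isocrystal, has first Newton slope n · lam + m. (The published statement allows every n ∈
ℤ, with F^n the inverse iterate for n < 0; that case is false in general, since the first slope of
(N, F⁻¹) is minus the LARGEST slope of (N, F): for N = N_0 ⊕ N_1, the sum of the standard
isocrystals of slopes 0 and 1, λ₁(N, F) = 0 while λ₁(N, F⁻¹) = −1. Only n ≥ 0 is stated here.) -/
theorem result (p : ℕ) [Fact p.Prime] (k : Type u) [Field k] [CharP k p] [PerfectRing k p] (a : ℤ)
    (N : Type v) [AddCommGroup N] [Module (WittVector p k) N] [Module (FractionRing (WittVector p k)) N]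
    [IsScalarTower (WittVector p k) (FractionRing (WittVector p k)) N]
    (F : N →ₛₗ[Isoc.frob p k a] N) (hF : Isoc.IsIsoc F) (lam : ℝ) (hlam : Isoc.IsFirstSlope F lam) (m : ℤ) (n : ℕ) :
    Isoc.IsFirstSlope ((p : (FractionRing (WittVector p k))) ^ m • Isoc.iter F n) (n * lam + m) := by
  classical
  open Groth.Agent.Lib.helper24.IsocLib in
  obtain ⟨M, hM, o, ho, hlim⟩ := hlam
  -- M is not contained in pM
  have hMp : ¬ M ≤ Isoc.pPow 1 M := by
    intro h
    apply (ho 1 le_rfl).2
    calc Isoc.latImg F 1 M ≤ Isoc.latImg F 1 (Isoc.pPow 1 M) := latImg_mono F 1 h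
      _ ≤ Isoc.pPow 1 (Isoc.latImg F 1 M) := latImg_pPow_le F 1 1 M
      _ ≤ Isoc.pPow 1 (Isoc.pPow (o 1) M) := pPow_mono 1 (ho 1 le_rfl).1
      _ = Isoc.pPow (o 1 + 1) M := by rw [pPow_pPow, add_comm]
  rcases Nat.eq_zero_or_pos n with hn | hn
  · subst hn
    refine ⟨M, hM, fun j => m * j, ?_, ?_⟩
    · intro j _
      have himg : Isoc.latImg F (0 * j) M = M := by
        unfold Isoc.latImg
        simp
      refine ⟨?_, ?_⟩
      · rw [latImg_smul_iter, himg]
      · rw [latImg_smul_iter, himg, ← pPow_pPow, pPow_le_pPow_iff]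
        exact hMp
    · have : (fun j : ℕ => (((m * j : ℤ)) : ℝ) / j) =ᶠ[Filter.atTop] fun _ => (m : ℝ) := by
        filter_upwards [Filter.eventually_ge_atTop 1] with j hj
        have hj' : (j : ℝ) ≠ 0 := by exact_mod_cast (by omega : j ≠ 0)
        push_cast
        field_simp
      rw [Filter.tendsto_congr' this]
      simp
  · refine ⟨M, hM, fun j => m * j + o (n * j), ?_, ?_⟩
    · intro j hj
      have hnj : 1 ≤ n * j := Nat.mul_pos hn hj
      refine ⟨?_, ?_⟩
      · rw [latImg_smul_iter, ← pPow_pPow]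
        exact pPow_mono _ (ho _ hnj).1
      · rw [latImg_smul_iter, add_assoc, ← pPow_pPow, pPow_le_pPow_iff]
        exact (ho _ hnj).2
    · have hsub : Filter.Tendsto (fun j : ℕ => (o (n * j) : ℝ) / ((n * j : ℕ) : ℝ)) Filter.atTop
          (nhds lam) := by
        have : Filter.Tendsto (fun j : ℕ => n * j) Filter.atTop Filter.atTop :=
          Filter.tendsto_id.const_mul_atTop' hn
        exact hlim.comp this
      have hlim2 : Filter.Tendsto (fun j : ℕ => (m : ℝ) + n * ((o (n * j) : ℝ) / ((n * j : ℕ) : ℝ)))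
          Filter.atTop (nhds (m + n * lam)) := (hsub.const_mul (n : ℝ)).const_add (m : ℝ)
      have heq : (fun j : ℕ => (((m * j + o (n * j) : ℤ)) : ℝ) / j) =ᶠ[Filter.atTop]
          fun j : ℕ => (m : ℝ) + n * ((o (n * j) : ℝ) / ((n * j : ℕ) : ℝ)) := by
        filter_upwards [Filter.eventually_ge_atTop 1] with j hj
        have hj' : (j : ℝ) ≠ 0 := by exact_mod_cast (by omega : j ≠ 0)
        have hn' : (n : ℝ) ≠ 0 := by exact_mod_cast (by omega : n ≠ 0)
        push_cast
        field_simp
      rw [Filter.tendsto_congr' heq, add_comm (n * lam)]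
      exact hlim2

end Groth.Agent.S17143
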