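import Groth.Statements.S17145
import Groth.Agent.S17143
import Groth.Agent.Lib.Helper24.IsocCast
-- import your own Groth.Agent.* helpers here

set_option autoImplicit false
universe u v
open Isoc

namespace Groth.Agent.S17145

open Groth.Agent.Lib.helper24.IsocLib

/-- Let k be a perfect field of characteristic p, a ∈ ℤ, W = W(k) with fraction field L, and (N, F) a
σ^a-F-isocrystal over k (N finite-dimensional over L, F a bijective σ^a-semilinear endomorphism)
with first Newton slope λ₁(N, F) = lam. If r ∈ ℤ and s > 0 satisfy r/s ≤ lam, then there exists a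
W-lattice M in N with F^s(M) ⊆ p^r · M. (The hypothesis is the non-strict inequality λ₁ ≥ r/s, which
is how the lemma is applied later in the section.) -/
theorem result (p : ℕ) [Fact p.Prime] (k : Type u) [Field k] [CharP k p] [PerfectRing k p] (a : ℤ)
    (N : Type v) [AddCommGroup N] [Module (WittVector p k) N] [Module (FractionRing (WittVector p k)) N]
    [IsScalarTower (WittVector p k) (FractionRing (WittVector p k)) N]
    (F : N →ₛₗ[Isoc.frob p k a] N) (hF : Isoc.IsIsoc F) (lam : ℝ) (hlam : Isoc.IsFirstSlope F lam)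
    (r : ℤ) (s : ℕ) (hs : 0 < s) (hrs : (r : ℝ) / s ≤ lam) :
    ∃ M : Submodule (WittVector p k) N, M.IsLattice (FractionRing (WittVector p k)) ∧ Isoc.latImg F s M ≤ Isoc.pPow r M := by
  classical
  set h := Module.finrank (FractionRing (WittVector p k)) N with hh
  -- the twisted iterate F₂ = p^(1 - r(h+1)) F^(s(h+1)) has first slope ≥ 1
  have h2 := Groth.Agent.S17143.result p k a N F hF lam hlam (1 - r * (h + 1)) (s * (h + 1))
  obtain ⟨M, hM, o, ho, hlim⟩ := h2
  have hspos : (0 : ℝ) < s := by exact_mod_cast hs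
  have hrs' : (r : ℝ) ≤ lam * s := (div_le_iff₀ hspos).1 hrs
  have hpos : (0 : ℝ) < ((s * (h + 1) : ℕ) : ℝ) * lam + ((1 - r * (h + 1) : ℤ) : ℝ) := by
    have h1 : (0 : ℝ) ≤ ((h : ℝ) + 1) * (lam * s - r) :=
      mul_nonneg (by positivity) (by linarith)
    push_cast
    nlinarith
  obtain ⟨n, hn0, hn1⟩ := ((hlim.eventually (lt_mem_nhds hpos)).and
    (Filter.eventually_ge_atTop 1)).exists
  have hon : 0 ≤ o n := by
    by_contra hneg
    push Not at hneg
    have h1 : ((o n : ℤ) : ℝ) ≤ 0 := by exact_mod_cast hneg.le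
    have h2 : ((o n : ℤ) : ℝ) / n ≤ 0 := div_nonpos_of_nonpos_of_nonneg h1 (by positivity)
    linarith
  have hle : Isoc.latImg (twIter F (1 - r * (h + 1)) (s * (h + 1))) n M ≤ M := by
    have h1 := (ho n hn1).1
    have h3 : Isoc.pPow (o n) M ≤ M := by
      have := pPow_le_of_le (p := p) (k := k) hon M
      rwa [pPow_zero] at this
    exact h1.trans h3
  obtain ⟨M', hM', hM'le⟩ := isEffective_of_latImg_le _ hM hn1 hle
  -- Manin's lemma for F₁ = p^(-r) F^s
  have hmanin : Isoc.latImg (twIter F (-r) s) (h + 1) M' ≤ Isoc.pPow (-1) M' := by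
    rw [latImg_twIter] at hM'le ⊢
    have h1 := pPow_mono (p := p) (k := k) (-1) hM'le
    rw [pPow_pPow] at h1
    convert h1 using 2
    · push_cast; ring
    · rw [Nat.mul_one]
  obtain ⟨M'', hM'', hM''le⟩ := manin (twIter F (-r) s) (isIsoc_twIter hF (-r) s) hh.symm hM' hmanin
  refine ⟨M'', hM'', ?_⟩
  rw [latImg_twIter] at hM''le
  have h1 := pPow_mono (p := p) (k := k) r hM''le
  rw [pPow_pPow] at h1
  have e1 : r + -r * ((1 : ℕ) : ℤ) = 0 := by push_cast; ring
  rw [e1, pPow_zero, Nat.mul_one] at h1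
  exact h1

end Groth.Agent.S17145
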