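import Groth.Statements.S17146
import Groth.Agent.S17141
import Groth.Agent.S17142
import Groth.Agent.S17143
import Groth.Agent.S17145
import Groth.Agent.Lib.Helper24.IsocSlope
import Mathlib.NumberTheory.DiophantineApproximation.Basic
-- import your own Groth.Agent.* helpers here

set_option autoImplicit false
universe u v
open Isoc

namespace Groth.Agent.S17146

open Groth.Agent.Lib.helper24.IsocLib

/-- Let k be a perfect field of characteristic p, a ∈ ℤ, W = W(k) with fraction field L, and (N, F) a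
σ^a-F-isocrystal over k (N finite-dimensional over L, F a bijective σ^a-semilinear endomorphism) of
height h, with b an L-basis of N indexed by Fin h, d the p-adic order of the determinant coefficient
of F in b, and first Newton slope λ₁(N, F) = lam. Then there exist r ∈ ℤ, s ∈ ℕ with 0 < s ≤ h and a
W-lattice M in N such that lam = r/s and ord_M(F^s) = r, i.e. F^s(M) ⊆ p^r · M and F^s(M) ⊄ p^(r+1)
· M; moreover r · h ≤ s · d, so that λ₁ is a rational number ≤ d/h with denominator at most h. (The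
published statement asserts r ≤ d instead of r · h ≤ s · d; since F may have denominators, d can be
negative and then r ≤ d can fail: for N = N_{-2/3} ⊕ N_{-1/2}, the sum of the standard isocrystals
of slopes −2/3 and −1/2, one has h = 5, d = −3, λ₁ = −2/3, which forces s = 3 and r = −2 > d. What
the published argument gives is r/s = λ₁ ≤ d/h, stated here.) -/
theorem result (p : ℕ) [Fact p.Prime] (k : Type u) [Field k] [CharP k p] [PerfectRing k p] (a : ℤ)
    (N : Type v) [AddCommGroup N] [Module (WittVector p k) N] [Module (FractionRing (WittVector p k)) N]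
    [IsScalarTower (WittVector p k) (FractionRing (WittVector p k)) N]
    (F : N →ₛₗ[Isoc.frob p k a] N) (hF : Isoc.IsIsoc F)
    (h : ℕ) (b : Module.Basis (Fin h) (FractionRing (WittVector p k)) N)
    (d : ℤ) (hd : Isoc.IsOrdP (Isoc.detCoeff b F) d)
    (lam : ℝ) (hlam : Isoc.IsFirstSlope F lam) :
    ∃ (r : ℤ) (s : ℕ) (M : Submodule (WittVector p k) N), 0 < s ∧ s ≤ h ∧ lam = (r : ℝ) / s ∧
      M.IsLattice (FractionRing (WittVector p k)) ∧ Isoc.IsOrd M F s r ∧ r * h ≤ s * d := by
  classical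
  have hpos : 0 < h := by
    rcases Nat.eq_zero_or_pos h with h0 | hp
    · exfalso
      subst h0
      have hsub : Subsingleton N := b.repr.toEquiv.subsingleton
      obtain ⟨M, hM, o, ho, -⟩ := hlam
      exact (ho 1 le_rfl).2 (le_of_eq (Subsingleton.elim _ _))
    · exact hp
  have hnt : Nontrivial N := nontrivial_of_ne _ _ (b.ne_zero ⟨0, hpos⟩)
  have hh : Module.finrank (FractionRing (WittVector p k)) N = h := by
    rw [Module.finrank_eq_card_basis b, Fintype.card_fin]
  obtain ⟨r, s', hs'pos, hs'le, habs⟩ := Real.exists_int_int_abs_mul_sub_le lam hpos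
  obtain ⟨s, rfl⟩ : ∃ s : ℕ, s' = s := ⟨s'.toNat, (Int.toNat_of_nonneg hs'pos.le).symm⟩
  have hspos : 0 < s := by exact_mod_cast hs'pos
  have hsle : s ≤ h := by exact_mod_cast hs'le
  have hF' : Isoc.IsIsoc (twIter F (-r) s) := isIsoc_twIter hF (-r) s
  have hslope' : Isoc.IsFirstSlope (twIter F (-r) s) (s * lam + ((-r : ℤ) : ℝ)) :=
    Groth.Agent.S17143.result p k a N F hF lam hlam (-r) s
  set lam' : ℝ := s * lam + ((-r : ℤ) : ℝ) with hlam'
  have habs' : |lam'| ≤ 1 / ((h : ℝ) + 1) := by
    have h1 : lam' = ((s : ℤ) : ℝ) * lam - r := by rw [hlam']; push_cast; ring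
    rw [h1]; exact habs
  have hlow : -(1 / ((h : ℝ) + 1)) ≤ lam' := (abs_le.1 habs').1
  have hup : lam' ≤ 1 / ((h : ℝ) + 1) := (abs_le.1 habs').2
  have hrs1 : (((-1 : ℤ) : ℝ)) / ((h + 1 : ℕ) : ℝ) ≤ lam' := by
    push_cast; rw [neg_div]; exact hlow
  obtain ⟨M₁, hM₁, hM₁le⟩ := Groth.Agent.S17145.result p k (a * s) N (twIter F (-r) s) hF' lam'
    hslope' (-1) (h + 1) (Nat.succ_pos h) hrs1
  obtain ⟨M₂, hM₂, hst⟩ := manin (twIter F (-r) s) hF' hh hM₁ hM₁le
  obtain ⟨o₂, ho₂, lam₂, hlim₂⟩ :=
    Groth.Agent.S17141.result p k (a * s) N (twIter F (-r) s) hF' M₂ hM₂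
  obtain ⟨M₀, hM₀, o₀, ho₀, hlim₀⟩ := hslope'
  have hlameq : lam' = lam₂ := Groth.Agent.S17142.result p k (a * s) N (twIter F (-r) s) hF' M₀ M₂
    hM₀ hM₂ o₀ o₂ ho₀ ho₂ lam' lam₂ hlim₀ hlim₂
  rw [← hlameq] at hlim₂
  have ho₂nonneg : ∀ n, 1 ≤ n → 0 ≤ o₂ n := by
    intro n hn
    apply le_of_isOrd (twIter F (-r) s) (ho₂ n hn)
    rw [pPow_zero]; exact latImg_le_of_stable (twIter F (-r) s) hst n
  have hlam'nonneg : 0 ≤ lam' := by
    apply ge_of_tendsto hlim₂
    filter_upwards [Filter.eventually_ge_atTop 1] with n hn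
    exact div_nonneg (by exact_mod_cast ho₂nonneg n hn) (by positivity)
  have hkey : ∀ n, ¬ Isoc.latImg (twIter F (-r) s) n M₂ ≤ Isoc.pPow 1 M₂ := by
    intro n hn
    have hh' := nilpotent_chain (twIter F (-r) s) hF' hh hst hn
    have hmul := fun j => latImg_mul_le (twIter F (-r) s) hh' j
    have hoj : ∀ j : ℕ, 1 ≤ j → (j : ℤ) ≤ o₂ (h * j) := by
      intro j hj
      have h1 := le_of_isOrd (twIter F (-r) s) (ho₂ (h * j) (Nat.mul_pos hpos hj)) (hmul j)
      simpa using h1
    have hsub : Filter.Tendsto (fun j : ℕ => h * j) Filter.atTop Filter.atTop :=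
      Filter.tendsto_atTop_mono (fun j => Nat.le_mul_of_pos_left j hpos) Filter.tendsto_id
    have hlim3 := hlim₂.comp hsub
    have hhpos : (0 : ℝ) < h := by exact_mod_cast hpos
    have hge : 1 / (h : ℝ) ≤ lam' := by
      apply ge_of_tendsto hlim3
      filter_upwards [Filter.eventually_ge_atTop 1] with j hj
      simp only [Function.comp_apply]
      have h1 : ((j : ℤ) : ℝ) ≤ (o₂ (h * j) : ℝ) := by exact_mod_cast hoj j hj
      have hjpos : (0 : ℝ) < j := by exact_mod_cast hj
      rw [div_le_div_iff₀ hhpos (by positivity)]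
      push_cast at h1 ⊢
      nlinarith
    have hlt : 1 / ((h : ℝ) + 1) < 1 / (h : ℝ) :=
      one_div_lt_one_div_of_lt hhpos (by linarith)
    linarith
  have hlam'zero : lam' = 0 := by
    by_contra hne
    have hpos' : 0 < lam' := lt_of_le_of_ne hlam'nonneg (Ne.symm hne)
    obtain ⟨n, hn0, hn1⟩ := ((hlim₂.eventually (lt_mem_nhds hpos')).and
      (Filter.eventually_ge_atTop 1)).exists
    have hon : 1 ≤ o₂ n := by
      by_contra hneg
      push Not at hneg
      have h1 : ((o₂ n : ℤ) : ℝ) ≤ 0 := by exact_mod_cast (by omega : o₂ n ≤ 0)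
      have h2 : ((o₂ n : ℤ) : ℝ) / n ≤ 0 := div_nonpos_of_nonpos_of_nonneg h1 (by positivity)
      linarith
    exact hkey n ((ho₂ n hn1).1.trans (pPow_le_of_le hon M₂))
  refine ⟨r, s, M₂, hspos, hsle, ?_, hM₂, ?_, ?_⟩
  · have hs' : (0 : ℝ) < s := by exact_mod_cast hspos
    rw [eq_div_iff hs'.ne']
    rw [hlam'] at hlam'zero
    push_cast at hlam'zero
    linarith
  · constructor
    · have h1 := hst
      rw [latImg_twIter] at h1
      have h2 := pPow_mono (p := p) (k := k) r h1
      rw [pPow_pPow] at h2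
      have e1 : r + -r * ((1 : ℕ) : ℤ) = 0 := by push_cast; ring
      rw [e1, pPow_zero, Nat.mul_one] at h2
      exact h2
    · intro hcon
      apply hkey 1
      rw [latImg_twIter]
      have h2 := pPow_mono (p := p) (k := k) (-r) hcon
      rw [pPow_pPow] at h2
      have e1 : -r + (r + 1) = 1 := by ring
      rw [e1] at h2
      simpa using h2
  · have hord := isOrdP_detCoeff_twIter b F hd (-r) s
    have h1 := (orddet_nonneg_of_stable b (twIter F (-r) s) hM₂ hst hord).1
    linarith

end Groth.Agent.S17146
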