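import Groth.Statements.S17148
import Groth.Agent.Lib.Helper24.Isoc
-- import your own Groth.Agent.* helpers here

set_option autoImplicit false
universe u v
open Isoc

namespace Groth.Agent.S17148

/-- Let k be a perfect field of characteristic p, a ∈ ℤ, W = W(k) with fraction field L, and (N, F) a
σ^a-F-isocrystal over k (N finite-dimensional over L, F a bijective σ^a-semilinear endomorphism)
that is isoclinic of slope μ, i.e. there are a W-lattice M, r ∈ ℤ and s > 0 with r/s = μ and F^s(M)
= p^r · M. Then for every F-stable L-subspace P of N, the sub-isocrystal (P, F|P) is again isoclinic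
of slope μ. -/
theorem result (p : ℕ) [Fact p.Prime] (k : Type u) [Field k] [CharP k p] [PerfectRing k p] (a : ℤ)
    (N : Type v) [AddCommGroup N] [Module (WittVector p k) N] [Module (FractionRing (WittVector p k)) N]
    [IsScalarTower (WittVector p k) (FractionRing (WittVector p k)) N]
    (F : N →ₛₗ[Isoc.frob p k a] N) (hF : Isoc.IsIsoc F) (μ : ℚ) (hμ : Isoc.IsIsoclinic F μ)
    (P : Submodule (FractionRing (WittVector p k)) N) (hP : ∀ x ∈ P, F x ∈ P) :
    Isoc.IsIsoclinic (F.restrict hP) μ := by
  classical
  open Groth.Agent.Lib.helper24.IsocLib in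
  obtain ⟨M, hM, r, s, hs, hμ', h1⟩ := hμ
  have hfin : Module.Finite (FractionRing (WittVector p k)) N := hF.finite
  set ι : ↥P →ₗ[WittVector p k] N := P.subtype.restrictScalars (WittVector p k) with hι
  have hιapp : ∀ x : ↥P, ι x = (x : N) := fun _ => rfl
  have hιinj : Function.Injective ι := Subtype.val_injective
  set M' : Submodule (WittVector p k) ↥P := M.comap ι with hM'
  have hmemM' : ∀ x : ↥P, x ∈ M' ↔ (x : N) ∈ M := fun _ => Iff.rfl
  have hiter : ∀ (t : ℕ) (x : ↥P), (((⇑(F.restrict hP))^[t] x : ↥P) : N) = (⇑F)^[t] (x : N) := by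
    intro t
    induction t with
    | zero => intro x; rfl
    | succ t ih =>
      intro x
      rw [Function.iterate_succ_apply', Function.iterate_succ_apply', ← ih]
      rfl
  -- F restricted to P is surjective
  have hinjP : Function.Injective (F.restrict hP) := by
    intro x y hxy
    apply Subtype.ext
    apply hF.bijective.injective
    have := congrArg (fun z : ↥P => (z : N)) hxy
    exact this
  have hsurjP : Function.Surjective (F.restrict hP) :=
    semilinear_surjective_of_injective (frob_bijective (p := p) (k := k) a).surjective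
      (F.restrict hP) hinjP
  have hp0 : ∀ r : ℤ, ((p : FractionRing (WittVector p k)) ^ r) ≠ 0 :=
    fun r => zpow_ne_zero _ p_ne_zero
  refine ⟨M', ⟨?_, ?_⟩, r, s, hs, hμ', ?_⟩
  · -- finitely generated
    apply Submodule.fg_of_fg_map_injective ι hιinj
    refine Submodule.FG.of_le (Submodule.IsLattice.fg (M := M)) ?_
    rintro _ ⟨x, hx, rfl⟩
    exact hx
  · -- spans
    rw [eq_top_iff]
    rintro x -
    obtain ⟨c, hc⟩ := exists_pow_smul_mem (p := p) (k := k)
      (Submodule.IsLattice.span_eq_top (M := M)) (x : N)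
    have hxM' : ((p : FractionRing (WittVector p k)) ^ c) • x ∈ M' := hc
    have : x = ((p : FractionRing (WittVector p k)) ^ c)⁻¹ •
        (((p : FractionRing (WittVector p k)) ^ c) • x) := by
      rw [smul_smul, inv_mul_cancel₀ (pow_ne_zero _ p_ne_zero), one_smul]
    rw [this]
    exact Submodule.smul_mem _ _ (Submodule.subset_span hxM')
  · ext y
    rw [mem_latImg, mem_pPow]
    constructor
    · rintro ⟨m, hm, rfl⟩
      have hm' : (⇑F)^[s] (m : N) ∈ Isoc.latImg F s M := (mem_latImg F).mpr ⟨m, hm, rfl⟩
      rw [h1, mem_pPow] at hm'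
      obtain ⟨m₂, hm₂M, hm₂eq⟩ := hm'
      have hm₂P : m₂ ∈ P := by
        have : m₂ = ((p : FractionRing (WittVector p k)) ^ r)⁻¹ • (⇑F)^[s] (m : N) := by
          rw [← hm₂eq, smul_smul, inv_mul_cancel₀ (hp0 r), one_smul]
        rw [this, ← hiter]
        exact P.smul_mem _ (Subtype.mem _)
      refine ⟨⟨m₂, hm₂P⟩, hm₂M, ?_⟩
      apply Subtype.ext
      rw [hiter, ← hm₂eq]
      rfl
    · rintro ⟨m', hm', rfl⟩
      have h2 : ((p : FractionRing (WittVector p k)) ^ r) • (m' : N) ∈ Isoc.pPow r M :=
        mem_pPow.mpr ⟨m', hm', rfl⟩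
      rw [← h1, mem_latImg] at h2
      obtain ⟨m, hmM, hmeq⟩ := h2
      obtain ⟨x, hx⟩ := (hsurjP.iterate s) (((p : FractionRing (WittVector p k)) ^ r) • m')
      have hxm : (x : N) = m := by
        apply (hF.bijective.injective.iterate s)
        rw [← hiter, hx, hmeq]
        rfl
      refine ⟨x, ?_, hx⟩
      rw [hmemM', hxm]
      exact hmM

end Groth.Agent.S17148
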