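import Groth.Statements.S17150
import Groth.Agent.Lib.Helper24.Isoc
-- import your own Groth.Agent.* helpers here

set_option autoImplicit false
universe u v w
open Isoc

namespace Groth.Agent.S17150

/-- Let k be a perfect field of characteristic p and a ∈ ℤ; let (N₁, F₁) and (N₂, F₂) be
σ^a-F-isocrystals over k that are isoclinic of slopes μ₁ and μ₂ respectively (in the lattice sense:
F_i^{s_i}(M_i) = p^{r_i} · M_i with r_i/s_i = μ_i), with μ₁ ≠ μ₂. Then every morphism of isocrystals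
f : (N₁, F₁) → (N₂, F₂), i.e. every L-linear map with f ∘ F₁ = F₂ ∘ f, is zero. -/
theorem result (p : ℕ) [Fact p.Prime] (k : Type u) [Field k] [CharP k p] [PerfectRing k p] (a : ℤ)
    (N₁ : Type v) [AddCommGroup N₁] [Module (WittVector p k) N₁] [Module (FractionRing (WittVector p k)) N₁]
    [IsScalarTower (WittVector p k) (FractionRing (WittVector p k)) N₁]
    (N₂ : Type w) [AddCommGroup N₂] [Module (WittVector p k) N₂] [Module (FractionRing (WittVector p k)) N₂]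
    [IsScalarTower (WittVector p k) (FractionRing (WittVector p k)) N₂]
    (F₁ : N₁ →ₛₗ[Isoc.frob p k a] N₁) (F₂ : N₂ →ₛₗ[Isoc.frob p k a] N₂)
    (h₁ : Isoc.IsIsoc F₁) (h₂ : Isoc.IsIsoc F₂)
    (μ₁ μ₂ : ℚ) (hμ₁ : Isoc.IsIsoclinic F₁ μ₁) (hμ₂ : Isoc.IsIsoclinic F₂ μ₂) (hne : μ₁ ≠ μ₂)
    (f : N₁ →ₗ[(FractionRing (WittVector p k))] N₂) (hf : ∀ x : N₁, f (F₁ x) = F₂ (f x)) : f = 0 := by
  classical
  open Groth.Agent.Lib.helper24.IsocLib in
  obtain ⟨M₁, hM₁, r₁, s₁, hs₁, hμ₁', h1⟩ := hμ₁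
  obtain ⟨M₂, hM₂, r₂, s₂, hs₂, hμ₂', h2⟩ := hμ₂
  have h1' : ∀ j : ℕ, Isoc.latImg F₁ (s₁ * s₂ * j) M₁ = Isoc.pPow (r₁ * s₂ * j) M₁ := fun j => by
    have := latImg_mul_of_eq F₁ h1 (s₂ * j)
    rw [← mul_assoc] at this
    rw [this]; congr 1; push_cast; ring
  have h2' : ∀ j : ℕ, Isoc.latImg F₂ (s₁ * s₂ * j) M₂ = Isoc.pPow (r₂ * s₁ * j) M₂ := fun j => by
    have := latImg_mul_of_eq F₂ h2 (s₁ * j)
    rw [← mul_assoc, mul_comm s₂ s₁] at this
    rw [this]; congr 1; push_cast; ring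
  have hR : r₁ * s₂ ≠ r₂ * s₁ := by
    intro h
    apply hne
    rw [← hμ₁', ← hμ₂']
    have hs₁' : (s₁ : ℚ) ≠ 0 := by exact_mod_cast hs₁.ne'
    have hs₂' : (s₂ : ℚ) ≠ 0 := by exact_mod_cast hs₂.ne'
    rw [div_eq_div_iff hs₁' hs₂']
    exact_mod_cast h
  set R₁ : ℤ := r₁ * s₂ with hR₁
  set R₂ : ℤ := r₂ * s₁ with hR₂
  -- K = f(M₁)
  set fW : N₁ →ₗ[WittVector p k] N₂ := f.restrictScalars (WittVector p k) with hfW
  set K : Submodule (WittVector p k) N₂ := M₁.map fW with hKdef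
  have hKfg : K.FG := (Submodule.IsLattice.fg (M := M₁)).map fW
  obtain ⟨c, hc⟩ := exists_pPow_le (p := p) (k := k) hKfg (Submodule.IsLattice.span_eq_top (M := M₂))
  have hK : K ≤ Isoc.pPow (-(c : ℤ)) M₂ := by
    have := pPow_mono (-(c : ℤ)) hc
    rwa [pPow_pPow, neg_add_cancel, pPow_zero] at this
  have hcomm : ∀ (t : ℕ) (x : N₁), (⇑F₂)^[t] (f x) = f ((⇑F₁)^[t] x) := by
    intro t
    induction t with
    | zero => intro x; rfl
    | succ t ih =>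
      intro x
      rw [Function.iterate_succ_apply', Function.iterate_succ_apply', ih, hf]
  have himg : ∀ j : ℕ, Isoc.latImg F₂ (s₁ * s₂ * j) K = Isoc.pPow (R₁ * j) K := by
    intro j
    ext y
    rw [mem_latImg, mem_pPow]
    constructor
    · rintro ⟨_, ⟨m, hm, rfl⟩, rfl⟩
      have hm' : (⇑F₁)^[s₁ * s₂ * j] m ∈ Isoc.latImg F₁ (s₁ * s₂ * j) M₁ :=
        (mem_latImg F₁).mpr ⟨m, hm, rfl⟩
      rw [h1' j, mem_pPow] at hm'
      obtain ⟨m', hm'M, hm'eq⟩ := hm'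
      refine ⟨fW m', ⟨m', hm'M, rfl⟩, ?_⟩
      change _ • f m' = (⇑F₂)^[s₁ * s₂ * j] (f m)
      rw [hcomm, ← hm'eq, map_smul]
    · rintro ⟨_, ⟨m, hm, rfl⟩, rfl⟩
      have hm' : ((p : FractionRing (WittVector p k)) ^ (R₁ * j)) • m ∈
          Isoc.pPow (R₁ * j) M₁ := mem_pPow.mpr ⟨m, hm, rfl⟩
      rw [← h1' j, mem_latImg] at hm'
      obtain ⟨m', hm'M, hm'eq⟩ := hm'
      refine ⟨fW m', ⟨m', hm'M, rfl⟩, ?_⟩
      change (⇑F₂)^[s₁ * s₂ * j] (f m') = _ • f m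
      rw [hcomm, hm'eq, map_smul]
  have hmain : ∀ j : ℕ, K ≤ Isoc.pPow (|R₁ - R₂| * j - c) M₂ := by
    intro j
    rcases lt_or_gt_of_ne hR with hlt | hgt
    · have h3 : Isoc.pPow (R₁ * j) K ≤ Isoc.pPow (R₂ * j - c) M₂ := by
        rw [← himg j]
        calc Isoc.latImg F₂ (s₁ * s₂ * j) K
            ≤ Isoc.latImg F₂ (s₁ * s₂ * j) (Isoc.pPow (-(c : ℤ)) M₂) := latImg_mono _ _ hK
          _ = Isoc.pPow (-(c : ℤ)) (Isoc.latImg F₂ (s₁ * s₂ * j) M₂) := latImg_pPow _ _ _ _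
          _ = Isoc.pPow (-(c : ℤ)) (Isoc.pPow (R₂ * j) M₂) := by rw [h2' j]
          _ = Isoc.pPow (R₂ * j - c) M₂ := by rw [pPow_pPow]; congr 1; ring
      have h4 := pPow_mono (-(R₁ * j)) h3
      rw [pPow_pPow, pPow_pPow, neg_add_cancel, pPow_zero] at h4
      have : |R₁ - R₂| * j - c = -(R₁ * j) + (R₂ * j - c) := by
        rw [abs_of_neg (sub_neg.mpr hlt)]; ring
      rw [this]
      exact h4
    · intro x hx
      apply mem_of_iterate_mem_latImg F₂ h₂.bijective.injective (s := s₁ * s₂ * j)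
      rw [latImg_pPow, h2' j, pPow_pPow]
      have hx' : (⇑F₂)^[s₁ * s₂ * j] x ∈ Isoc.latImg F₂ (s₁ * s₂ * j) K :=
        (mem_latImg F₂).mpr ⟨x, hx, rfl⟩
      rw [himg j] at hx'
      have h5 := pPow_mono (R₁ * j) hK hx'
      rw [pPow_pPow] at h5
      have : |R₁ - R₂| * j - c + R₂ * j = R₁ * j + -(c : ℤ) := by
        rw [abs_of_pos (sub_pos.mpr hgt)]; ring
      rw [this]
      exact h5
  have habs : 1 ≤ |R₁ - R₂| := Int.one_le_abs (sub_ne_zero.mpr hR)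
  have hKbot : K = ⊥ := by
    apply eq_bot_of_forall_le_pPow (p := p) (k := k) (Submodule.IsLattice.fg (M := M₂))
    intro n
    refine (hmain (n + c)).trans (pPow_le_of_le ?_ M₂)
    push_cast
    nlinarith
  -- f vanishes on M₁, hence everywhere
  have hker : (M₁ : Set N₁) ⊆ (LinearMap.ker f : Set N₁) := by
    intro m hm
    have : fW m ∈ K := ⟨m, hm, rfl⟩
    rw [hKbot, Submodule.mem_bot] at this
    exact this
  have htop : LinearMap.ker f = ⊤ := by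
    rw [eq_top_iff, ← Submodule.IsLattice.span_eq_top (M := M₁)]
    exact Submodule.span_le.mpr hker
  exact LinearMap.ker_eq_top.mp htop

end Groth.Agent.S17150
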