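import Groth.Statements.S17151
import Groth.Agent.Lib.Helper24.Isoc
import Mathlib.Order.CompactlyGenerated.Basic
import Mathlib.RingTheory.Noetherian.Basic
-- import your own Groth.Agent.* helpers here

set_option autoImplicit false
universe u v
open Isoc

namespace Groth.Agent.S17151

/-- Let k be a perfect field of characteristic p, a ∈ ℤ, W = W(k) with fraction field L, and (N, F) a
σ^a-F-isocrystal over k (N finite-dimensional over L, F a bijective σ^a-semilinear endomorphism),
and let μ ∈ ℚ. The slope-μ part N_μ of N — the sum of all F-stable L-subspaces P such that (P, F|P)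
is isoclinic of slope μ — is F-stable and is itself isoclinic of slope μ; so it is the largest
F-stable subspace on which F is isoclinic of slope μ. -/
theorem result (p : ℕ) [Fact p.Prime] (k : Type u) [Field k] [CharP k p] [PerfectRing k p] (a : ℤ)
    (N : Type v) [AddCommGroup N] [Module (WittVector p k) N] [Module (FractionRing (WittVector p k)) N]
    [IsScalarTower (WittVector p k) (FractionRing (WittVector p k)) N]
    (F : N →ₛₗ[Isoc.frob p k a] N) (hF : Isoc.IsIsoc F) (μ : ℚ) :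
    ∃ hP : ∀ x ∈ Isoc.slopePart F μ, F x ∈ Isoc.slopePart F μ,
      Isoc.IsIsoclinic (F.restrict hP) μ := by
  classical
  open Groth.Agent.Lib.helper24.IsocLib in
  have hfin : Module.Finite (FractionRing (WittVector p k)) N := hF.finite
  set 𝒮 : Set (Submodule (FractionRing (WittVector p k)) N) :=
    {P | ∃ hP : ∀ x ∈ P, F x ∈ P, Isoc.IsIsoclinic (F.restrict hP) μ} with h𝒮
  have hbot : (⊥ : Submodule (FractionRing (WittVector p k)) N) ∈ 𝒮 := by
    have hst : ∀ x ∈ (⊥ : Submodule (FractionRing (WittVector p k)) N), F x ∈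
        (⊥ : Submodule (FractionRing (WittVector p k)) N) := by
      intro x hx
      rw [Submodule.mem_bot] at hx ⊢
      rw [hx, map_zero]
    refine ⟨hst, (isIsoclinic_restrict_iff F hst μ).mpr ⟨⊥, Submodule.fg_bot, by simp, μ.num, μ.den,
      μ.den_pos, Rat.num_div_den μ, ?_⟩⟩
    rw [latImg_bot, pPow_bot]
  have hsup : SupClosed 𝒮 := by
    rintro P₁ ⟨hP₁, h₁⟩ P₂ ⟨hP₂, h₂⟩
    have hst : ∀ x ∈ P₁ ⊔ P₂, F x ∈ P₁ ⊔ P₂ := by
      intro x hx
      obtain ⟨a, ha, b, hb, rfl⟩ := Submodule.mem_sup.mp hx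
      rw [map_add]
      exact Submodule.add_mem_sup (hP₁ a ha) (hP₂ b hb)
    refine ⟨hst, (isIsoclinic_restrict_iff F hst μ).mpr ?_⟩
    obtain ⟨M₁, hM₁fg, hM₁span, r₁, s₁, hs₁, hμ₁, e₁⟩ := (isIsoclinic_restrict_iff F hP₁ μ).mp h₁
    obtain ⟨M₂, hM₂fg, hM₂span, r₂, s₂, hs₂, hμ₂, e₂⟩ := (isIsoclinic_restrict_iff F hP₂ μ).mp h₂
    have hs₁' : (s₁ : ℚ) ≠ 0 := by exact_mod_cast hs₁.ne'
    have hs₂' : (s₂ : ℚ) ≠ 0 := by exact_mod_cast hs₂.ne'
    have hR : r₁ * s₂ = r₂ * s₁ := by
      have : (r₁ : ℚ) / s₁ = r₂ / s₂ := hμ₁.trans hμ₂.symm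
      rw [div_eq_div_iff hs₁' hs₂'] at this
      exact_mod_cast this
    refine ⟨M₁ ⊔ M₂, hM₁fg.sup hM₂fg, ?_, r₁ * s₂, s₁ * s₂, Nat.mul_pos hs₁ hs₂, ?_, ?_⟩
    · apply le_antisymm
      · rw [Submodule.span_le]
        intro x hx
        obtain ⟨a, ha, b, hb, rfl⟩ := Submodule.mem_sup.mp hx
        refine Submodule.add_mem_sup ?_ ?_
        · rw [← hM₁span]; exact Submodule.subset_span ha
        · rw [← hM₂span]; exact Submodule.subset_span hb
      · refine sup_le ?_ ?_
        · rw [← hM₁span]; exact Submodule.span_mono (SetLike.coe_subset_coe.mpr le_sup_left)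
        · rw [← hM₂span]; exact Submodule.span_mono (SetLike.coe_subset_coe.mpr le_sup_right)
    · rw [← hμ₁]
      push_cast
      field_simp
    · have e₁' := latImg_mul_of_eq F e₁ s₂
      have e₂' := latImg_mul_of_eq F e₂ s₁
      rw [mul_comm s₂ s₁] at e₂'
      rw [latImg_sup, pPow_sup, e₁', e₂', hR]
  have key := CompleteLattice.IsSupFiniteCompact.isSupClosedCompact
    (Submodule (FractionRing (WittVector p k)) N)
    (CompleteLattice.WellFoundedGT.isSupFiniteCompact
      (Submodule (FractionRing (WittVector p k)) N)) 𝒮 ⟨⊥, hbot⟩ hsup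
  exact key

end Groth.Agent.S17151
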