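import Groth.Statements.S4743
import Groth.Agent.Lib.Helper24.FiniteDomains
import Groth.Agent.Lib.Helper24.GeomReducedFinite
import Mathlib

set_option autoImplicit false
universe u
open EGA4

namespace Groth.Agent.S4743

open Groth.Agent.Lib.Helper24.GeomSepAlg in
theorem loc_isReduced_iff (R : Type u) [CommRing R] :
    Loc (fun R _ => IsReduced R) R ↔ IsReduced R := by
  constructor
  · intro h
    exact isReduced_ofLocalizationMaximal R (fun m hm => h m)
  · intro h q hq
    exact isReduced_localizationPreserves q.primeCompl _ h

open TensorProduct in
theorem geomReduced_iff (A : Type u) [CommRing A] [IsLocalRing A] :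
    EGA4.HasGeomReducedFormalFibres A ↔
      ∀ (p : Ideal A) [p.IsPrime] (k' : Type u) [Field k'] [Algebra p.ResidueField k'],
        Module.Finite p.ResidueField k' →
        Groth.Agent.Lib.Helper24.GeomSepAlg.Loc (fun R _ => IsReduced R)
          (k' ⊗[p.ResidueField] p.Fiber (EGA4.Cpl A)) := by
  constructor
  · intro h p _ k' _ _ hfin
    rw [loc_isReduced_iff]
    haveI := h p
    haveI : Algebra.IsAlgebraic p.ResidueField k' := Algebra.IsAlgebraic.of_finite _ _
    infer_instance
  · intro h p _
    apply Groth.Agent.Lib.Helper24.GeomReducedFinite.isGeometricallyReduced_of_forall_finite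
    intro K _ _ hfin
    exact (loc_isReduced_iff _).mp (h p K hfin)

open TensorProduct in
/-- For the property 'geometrically reduced', case of a local ring: let A be a Noetherian local ring
with completion Â. Then the formal fibres of A are geometrically reduced if and only if, for every
finite A-algebra B which is a domain and every prime ideal q of B ⊗_A Â whose contraction to B is
zero, the local ring of B ⊗_A Â at q is reduced. (The published statement is for semi-local rings;
this row takes A local.) -/
theorem result (A : Type u) [CommRing A] [IsNoetherianRing A]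
    [IsLocalRing A] :
    EGA4.HasGeomReducedFormalFibres A ↔
      ∀ (B : Type u) [CommRing B] [IsDomain B] [Algebra A B] [Module.Finite A B]
        (q : Ideal (B ⊗[A] EGA4.Cpl A)) [q.IsPrime],
        q.comap (algebraMap B (B ⊗[A] EGA4.Cpl A)) = ⊥ → IsReduced (Localization.AtPrime q) := by
  rw [geomReduced_iff]
  exact Groth.Agent.Lib.Helper24.FiniteDomains.main (fun R _ => IsReduced R)
    (fun R R' _ _ e h => isReduced_of_injective e.symm.toRingHom e.symm.injective) A (EGA4.Cpl A)

end Groth.Agent.S4743
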