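import Groth.Statements.S2069
import Mathlib
-- import your own Groth.Agent.* helpers here

set_option autoImplicit false
universe u
open CAlg

namespace Groth.Agent.S2069


open TensorProduct

section
variable {R S N : Type u} [CommRing R] [CommRing S]
    [Algebra R S] [AddCommGroup N] [Module S N] [Module R N]
    [IsScalarTower R S N]

/-- `N ⊗_R R/P ≃ N/PN`, `S`-linearly. -/
noncomputable def quotEquiv (P : Ideal R) :
    N ⊗[R] (R ⧸ P) ≃ₗ[S] N ⧸ (P.map (algebraMap R S) • (⊤ : Submodule S N)) :=
  (AlgebraTensorModule.cancelBaseChange R S S N (R ⧸ P)).symm ≪≫ₗ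
    (TensorProduct.congr (LinearEquiv.refl S N) (P.qoutMapEquivTensorQout S).symm) ≪≫ₗ
    tensorQuotEquivQuotSMul N (P.map (algebraMap R S))

theorem isAssociatedPrime_of_injective {A B : Type u} [AddCommGroup A] [Module S A]
    [AddCommGroup B] [Module S B] (f : A →ₗ[S] B) (hf : Function.Injective f) (q : Ideal S)
    (hq : q.IsPrime) (z' : A) (h : q = ((⊥ : Submodule S B).colon {f z'}).radical) :
    IsAssociatedPrime q A := by
  refine ⟨hq, z', ?_⟩
  rw [h]
  congr 1
  ext s
  rw [Submodule.mem_colon_singleton, Submodule.mem_colon_singleton, Submodule.mem_bot,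
    Submodule.mem_bot, ← map_smul, map_eq_zero_iff f hf]

variable [Module.Flat R N]

theorem lTensor_inj {M M' : Type u} [AddCommGroup M] [Module R M] [AddCommGroup M'] [Module R M']
    (f : M' →ₗ[R] M) (hf : Function.Injective f) :
    Function.Injective (AlgebraTensorModule.lTensor S N f) := by
  rw [AlgebraTensorModule.coe_lTensor]
  exact Module.Flat.lTensor_preserves_injective_linearMap f hf

theorem lTensor_ex {M₁ M₂ M₃ : Type u} [AddCommGroup M₁] [Module R M₁] [AddCommGroup M₂]
    [Module R M₂] [AddCommGroup M₃] [Module R M₃] (f : M₁ →ₗ[R] M₂) (g : M₂ →ₗ[R] M₃)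
    (hfg : Function.Exact f g) :
    Function.Exact (AlgebraTensorModule.lTensor S N f) (AlgebraTensorModule.lTensor S N g) := by
  rw [AlgebraTensorModule.coe_lTensor, AlgebraTensorModule.coe_lTensor]
  exact Module.Flat.lTensor_exact N hfg

theorem comap_eq_of_mem (P : Ideal R) [P.IsPrime] (q : Ideal S)
    (hq : q ∈ associatedPrimes S (N ⊗[R] (R ⧸ P))) : q.comap (algebraMap R S) = P := by
  obtain ⟨hqp, z, hz⟩ := hq
  have hz0 : z ≠ 0 := by
    rintro rfl
    apply hqp.ne_top
    rw [hz]; simp
  ext r
  rw [Ideal.mem_comap, hz]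
  constructor
  · rintro ⟨n, hn⟩
    rw [← map_pow, Submodule.mem_colon_singleton, Submodule.mem_bot, algebraMap_smul] at hn
    by_contra hr
    have h1 : IsSMulRegular (R ⧸ P) r := by
      intro a b hab
      obtain ⟨a, rfl⟩ := Ideal.Quotient.mk_surjective a
      obtain ⟨b, rfl⟩ := Ideal.Quotient.mk_surjective b
      simp only [Algebra.smul_def, Ideal.Quotient.algebraMap_eq, ← map_mul] at hab
      rw [Ideal.Quotient.eq] at hab ⊢
      rw [← mul_sub] at hab
      exact (Ideal.IsPrime.mem_or_mem ‹_› hab).resolve_left hr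
    have h2 : IsSMulRegular (N ⊗[R] (R ⧸ P)) r := h1.lTensor N
    exact hz0 ((h2.pow n) (by simp only [hn, smul_zero]))
  · intro hr
    apply Ideal.le_radical
    rw [Submodule.mem_colon_singleton, Submodule.mem_bot, algebraMap_smul]
    clear hz hz0
    induction z using TensorProduct.induction_on with
    | zero => simp
    | tmul n x =>
      rw [TensorProduct.smul_tmul', TensorProduct.smul_tmul]
      obtain ⟨x, rfl⟩ := Ideal.Quotient.mk_surjective x
      have : r • (Ideal.Quotient.mk P x) = 0 := by
        rw [Algebra.smul_def, Ideal.Quotient.algebraMap_eq, ← map_mul]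
        exact Ideal.Quotient.eq_zero_iff_mem.mpr (P.mul_mem_right _ hr)
      rw [this, tmul_zero]
    | add a b ha hb => rw [smul_add, ha, hb, add_zero]

variable [IsNoetherianRing R]

theorem subset_of_finite (M : Type u) [AddCommGroup M] [Module R M] (hM : Module.Finite R M) :
    associatedPrimes S (N ⊗[R] M) ⊆
      ⋃ P ∈ {P : PrimeSpectrum R | Module.annihilator R M ≤ P.asIdeal},
        associatedPrimes S (N ⊗[R] (R ⧸ P.asIdeal)) := by
  induction hM using IsNoetherianRing.induction_on_isQuotientEquivQuotientPrime R with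
  | subsingleton M =>
    rw [associatedPrimes.eq_empty_of_subsingleton]; exact Set.empty_subset _
  | quotient M p e =>
    rw [LinearEquiv.AssociatedPrimes.eq (AlgebraTensorModule.congr (LinearEquiv.refl S N) e)]
    intro q hq
    refine Set.mem_biUnion (x := p) ?_ hq
    rw [Set.mem_setOf_eq, e.annihilator_eq, Ideal.annihilator_quotient]
  | exact M₁ M₂ M₃ f g hf hg hfg h₁ h₃ =>
    intro q hq
    rcases associatedPrimes.subset_union_of_exact (lTensor_inj (S := S) (N := N) f hf)
      (lTensor_ex f g hfg) hq with h | h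
    · obtain ⟨P, hP, hqP⟩ := Set.mem_iUnion₂.mp (h₁ h)
      exact Set.mem_biUnion (x := P) (le_trans (f.annihilator_le_of_injective hf) hP) hqP
    · obtain ⟨P, hP, hqP⟩ := Set.mem_iUnion₂.mp (h₃ h)
      exact Set.mem_biUnion (x := P) (le_trans (g.annihilator_le_of_surjective hg) hP) hqP

theorem exists_submodule {M : Type u} [AddCommGroup M] [Module R M] (I : Ideal R) (z : N ⊗[R] M)
    (hz : ∀ a ∈ I, a • z = 0) :
    ∃ M₁ : Submodule R M, I ≤ Module.annihilator R M₁ ∧
      z ∈ LinearMap.range (M₁.subtype.lTensor N) := by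
  classical
  obtain ⟨t, ht⟩ := (isNoetherianRing_iff_ideal_fg R).mp ‹_› I
  let φ : M →ₗ[R] (t → M) := LinearMap.pi (fun a => LinearMap.lsmul R M a.1)
  refine ⟨LinearMap.ker φ, ?_, ?_⟩
  · intro a ha
    rw [Module.mem_annihilator]
    rintro ⟨m, hm⟩
    ext
    simp only [Submodule.coe_smul, ZeroMemClass.coe_zero]
    rw [← ht] at ha
    induction ha using Submodule.span_induction with
    | mem x hx => exact congrFun hm ⟨x, hx⟩
    | zero => simp
    | add x y _ _ hx hy => rw [add_smul, hx, hy, add_zero]
    | smul c x _ hx => rw [smul_assoc, hx, smul_zero]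
  · have hex := Module.Flat.lTensor_exact N (LinearMap.exact_subtype_ker_map φ)
    rw [← hex.linearMap_ker_eq, LinearMap.mem_ker]
    apply (piRight R R N (fun _ : t => M)).injective
    rw [map_zero]
    have key : (piRight R R N (fun _ : t => M)).toLinearMap ∘ₗ φ.lTensor N =
        LinearMap.pi (fun a => LinearMap.lsmul R (N ⊗[R] M) a.1) := by
      apply TensorProduct.ext'
      intro n m
      ext a
      simp [φ]
    have := LinearMap.congr_fun key z
    simp only [LinearMap.coe_comp, LinearEquiv.coe_coe, Function.comp_apply] at this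
    rw [this]
    ext a
    simp only [LinearMap.pi_apply, LinearMap.lsmul_apply, Pi.zero_apply]
    exact hz a.1 (ht ▸ Submodule.subset_span a.2)

theorem exists_of_finite (M : Type u) [AddCommGroup M] [Module R M] [Module.Finite R M]
    (q : Ideal S) (hq : q ∈ associatedPrimes S (N ⊗[R] M)) :
    ∃ p ∈ associatedPrimes R M, q ∈ associatedPrimes S (N ⊗[R] (R ⧸ p)) := by
  obtain ⟨hqp, z, hz⟩ := hq
  set I : Ideal R := ((⊥ : Submodule S (N ⊗[R] M)).colon {z}).comap (algebraMap R S) with hI
  have hIrad : I.radical = q.comap (algebraMap R S) := by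
    rw [hI, ← Ideal.comap_radical, ← hz]
  have hIz : ∀ a ∈ I, a • z = 0 := by
    intro a ha
    rw [hI, Ideal.mem_comap, Submodule.mem_colon_singleton, Submodule.mem_bot,
      algebraMap_smul] at ha
    exact ha
  obtain ⟨M₁, hM₁, z₁, hz₁⟩ := exists_submodule I z hIz
  have hq₁ : q ∈ associatedPrimes S (N ⊗[R] M₁) := by
    refine isAssociatedPrime_of_injective (AlgebraTensorModule.lTensor S N M₁.subtype)
      (lTensor_inj _ M₁.injective_subtype) q hqp z₁ ?_
    rw [hz]
    congr 3
    exact hz₁.symm
  obtain ⟨P, hP, hqP⟩ := Set.mem_iUnion₂.mp (subset_of_finite (S := S) (N := N) M₁ inferInstance hq₁)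
  have hcomap := comap_eq_of_mem P.asIdeal q hqP
  have hmin : P.asIdeal ∈ (Module.annihilator R M₁).minimalPrimes := by
    refine ⟨⟨P.2, hP⟩, fun P' hP' _ => ?_⟩
    rw [← hcomap, ← hIrad]
    exact (hP'.1.radical_le_iff).mpr (hM₁.trans hP'.2)
  have hass : P.asIdeal ∈ associatedPrimes R M₁ :=
    Module.associatedPrimes.minimalPrimes_annihilator_subset_associatedPrimes R M₁ hmin
  exact ⟨P.asIdeal, associatedPrimes.subset_of_injective M₁.injective_subtype hass, hqP⟩

end


open TensorProduct in
/-- Let `R → S` be a ring map, `M` an `R`-module and `N` an `S`-module flat over `R`. Then a prime of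
`S` is associated to `N ⊗_R M` if and only if it is associated to `N/𝔭N` for some prime `𝔭` of `R`
associated to `M`. -/
theorem result {R S M N : Type u} [CommRing R] [IsNoetherianRing R] [CommRing S]
    [Algebra R S] [AddCommGroup M] [Module R M] [AddCommGroup N] [Module S N] [Module R N]
    [IsScalarTower R S N] [Module.Flat R N] :
    associatedPrimes S (N ⊗[R] M) =
      ⋃ p ∈ associatedPrimes R M, associatedPrimes S (N ⧸ p.map (algebraMap R S) • (⊤ : Submodule S N)) := by
  apply Set.Subset.antisymm
  · intro q hq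
    obtain ⟨hqp, z, hz⟩ := hq
    obtain ⟨M', hfin, hM'⟩ := TensorProduct.exists_finite_submodule_right_of_setFinite {z}
      (Set.finite_singleton z)
    obtain ⟨z', hz'⟩ := hM' (Set.mem_singleton z)
    have hq' : q ∈ associatedPrimes S (N ⊗[R] M') := by
      refine isAssociatedPrime_of_injective (AlgebraTensorModule.lTensor S N M'.subtype)
        (lTensor_inj _ M'.injective_subtype) q hqp z' ?_
      rw [hz]
      congr 3
      exact hz'.symm
    obtain ⟨p, hp, hqp'⟩ := exists_of_finite M' q hq'
    refine Set.mem_biUnion (associatedPrimes.subset_of_injective M'.injective_subtype hp) ?_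
    rwa [← LinearEquiv.AssociatedPrimes.eq (quotEquiv (S := S) (N := N) p)]
  · intro q hq
    obtain ⟨p, hp, hqp⟩ := Set.mem_iUnion₂.mp hq
    rw [← LinearEquiv.AssociatedPrimes.eq (quotEquiv (S := S) (N := N) p)] at hqp
    obtain ⟨hpp, f, hf⟩ := (isAssociatedPrime_iff_exists_injective_linearMap p M).mp hp
    exact associatedPrimes.subset_of_injective
      (lTensor_inj (S := S) (N := N) f hf) hqp

end Groth.Agent.S2069
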