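import Groth.Statements.S6993
import Groth.Agent.Lib.Helper23.RelFP

set_option autoImplicit false
universe u
open CAlg

namespace Groth.Agent.S6993

section helpers
open Groth.Agent.Lib.helper23 MvPolynomial

theorem main {R A B : Type u} [CommRing R] [CommRing A]
    [CommRing B] [Algebra R A] [Algebra A B] [Algebra R B] [IsScalarTower R A B] [Algebra.FinitePresentation R A]
    (M : Type u) [AddCommGroup M] [Module B M] {n k : ℕ}
    (α : MvPolynomial (Fin n) A →ₐ[A] B) (hα : Function.Surjective α)
    (β : MvPolynomial (Fin k) R →ₐ[R] B) (hβ : Function.Surjective β)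
    (hM : @Module.FinitePresentation (MvPolynomial (Fin n) A) M _ _ (Module.compHom M α.toRingHom)) :
    @Module.FinitePresentation (MvPolynomial (Fin k) R) M _ _ (Module.compHom M β.toRingHom) := by
  classical
  obtain ⟨m, π, hπ, hkπ⟩ := Algebra.FinitePresentation.out (R := R) (A := A)
  -- P = R[z][x]
  let ψ : MvPolynomial (Fin n) (MvPolynomial (Fin m) R) →ₐ[R] MvPolynomial (Fin n) A := mapAlgHom π
  have hψ : Function.Surjective ψ := by
    have := map_surjective (σ := Fin n) (π : MvPolynomial (Fin m) R →+* A) hπ
    intro x
    obtain ⟨y, hy⟩ := this x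
    exact ⟨y, by rw [← hy]; rfl⟩
  have hkψ : (RingHom.ker ψ.toRingHom).FG := by
    have h1 : ψ.toRingHom = map (π : MvPolynomial (Fin m) R →+* A) := mapAlgHom_coe_ringHom π
    rw [h1, ker_map]
    exact hkπ.map _
  let γ : MvPolynomial (Fin n) (MvPolynomial (Fin m) R) →ₐ[R] B := (α.restrictScalars R).comp ψ
  have hγ : Function.Surjective γ := hα.comp hψ
  have hMP : @Module.FinitePresentation (MvPolynomial (Fin n) (MvPolynomial (Fin m) R)) M _ _
      (Module.compHom M γ.toRingHom) := by
    have := (fp_compHom_comp_iff (M := M) α.toRingHom ψ.toRingHom hψ hkψ).mpr hM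
    exact this
  -- the lift θ
  choose q hq using fun l : Fin m => hβ (algebraMap A B (π (X l)))
  choose r hr using fun i : Fin n => hβ (α (X i))
  let θ₀ : MvPolynomial (Fin m) R →ₐ[R] MvPolynomial (Fin k) R := aeval q
  have hθ₀ : (β : MvPolynomial (Fin k) R →+* B).comp (θ₀ : MvPolynomial (Fin m) R →+* _) =
      (algebraMap A B).comp (π : MvPolynomial (Fin m) R →+* A) := by
    apply MvPolynomial.ringHom_ext
    · intro c
      simp [θ₀, ← IsScalarTower.algebraMap_apply]
    · intro l
      simp [θ₀, hq l]
  let θr : MvPolynomial (Fin n) (MvPolynomial (Fin m) R) →+* MvPolynomial (Fin k) R :=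
    eval₂Hom (θ₀ : MvPolynomial (Fin m) R →+* MvPolynomial (Fin k) R) r
  have hcomm : ∀ c : R, θr (algebraMap R _ c) = algebraMap R _ c := by
    intro c
    rw [IsScalarTower.algebraMap_apply R (MvPolynomial (Fin m) R) (MvPolynomial (Fin n) (MvPolynomial (Fin m) R)),
      MvPolynomial.algebraMap_eq (R := MvPolynomial (Fin m) R)]
    simp [θr, θ₀]
  let θ : MvPolynomial (Fin n) (MvPolynomial (Fin m) R) →ₐ[R] MvPolynomial (Fin k) R :=
    { θr with commutes' := hcomm }
  have hθ : β.comp θ = γ := by
    apply AlgHom.coe_ringHom_injective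
    apply MvPolynomial.ringHom_ext
    · intro c
      have := congrArg (fun f : MvPolynomial (Fin m) R →+* B => f c) hθ₀
      simp only [RingHom.comp_apply] at this
      simp [θ, θr, γ, ψ]
      exact this
    · intro i
      simp [θ, θr, γ, ψ, hr i]
  exact (fp_iff_of_lift γ hγ β θ hθ M).mp hMP

end helpers


/-- Let R → A → B be finite type homomorphisms of commutative rings with A of finite presentation over
R, M a B-module, and α : A[x_1, ..., x_n] → B, β : R[y_1, ..., y_k] → B surjective algebra
homomorphisms over A and R respectively. If M is finitely presented as an A[x_1, ..., x_n]-module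
through α (finitely presented relative to A), then M is finitely presented as an R[y_1, ...,
y_k]-module through β (finitely presented relative to R). -/
theorem result {R A B : Type u} [CommRing R] [CommRing A]
    [CommRing B] [Algebra R A] [Algebra A B] [Algebra R B] [IsScalarTower R A B] [Algebra.FinitePresentation R A]
    [Algebra.FiniteType A B] (M : Type u) [AddCommGroup M] [Module B M] {n k : ℕ}
    (α : MvPolynomial (Fin n) A →ₐ[A] B) (hα : Function.Surjective α)
    (β : MvPolynomial (Fin k) R →ₐ[R] B) (hβ : Function.Surjective β)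
    (hM : @Module.FinitePresentation (MvPolynomial (Fin n) A) M _ _ (Module.compHom M α.toRingHom)) :
    @Module.FinitePresentation (MvPolynomial (Fin k) R) M _ _ (Module.compHom M β.toRingHom) := by
  exact main M α hα β hβ hM

end Groth.Agent.S6993
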