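import Groth.Statements.S9047
import Groth.Agent.Lib.Helper1.CompactBdd
import Groth.Agent.Lib.Helper1.CoprodFiltered
import Groth.Agent.Lib.Helper1.ExtFreeOn
import Groth.Agent.Lib.Helper27.FiltCohB
import Groth.Agent.Lib.Helper21.ModSh
import Groth.Agent.Lib.Helper21.ModGroth
import Groth.Agent.Lib.Helper25.KInjMain

set_option autoImplicit false
universe u
open CategoryTheory CategoryTheory.Limits Opposite
open ModSite

namespace Groth.Agent.S9047

open Groth.Agent.H1.HomSum Groth.Agent.H1.CoprodFiltered CoproductsFromFiniteFiltered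

variable {C : Type u} [SmallCategory C] [HasPullbacks C] {J : GrothendieckTopology C}
  (O : Sheaf J CommRingCat.{u})
  (B : Set C) (Cov : ∀ (U : C) (ι : Type u), (ι → Over U) → Prop)
  (h1 : ∀ (U : C) (ι : Type u) (Y : ι → Over U), Cov U ι Y → Finite ι ∧ U ∈ B ∧
    Sieve.ofArrows (fun i => (Y i).left) (fun i => (Y i).hom) ∈ J U ∧
    ∀ (p : ℕ) (a : Fin (p + 1) → ι), (∏ᶜ fun k => Y (a k)).left ∈ B)
  (h2 : ∀ U ∈ B, ∀ T ∈ J U, ∃ (ι : Type u) (Y : ι → Over U), Cov U ι Y ∧ ∀ i, T.arrows (Y i).hom)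
  (U : C) (hU : U ∈ B)

include h1 h2 hU in
/-- `H^p(U, -)` on modules commutes with filtered colimits -/
lemma preserves_H_mod (p : ℕ) {Λ : Type u} [SmallCategory Λ] [IsFiltered Λ]
    (F : Λ ⥤ ModSite.Mod O) :
    PreservesColimit F (SheafOfModules.toSheaf (ModSite.ringSh O) ⋙
      (Sheaf.cohomologyPresheafFunctor J p).flip.obj (op U)) := by
  have := Groth.Agent.Lib.Helper21.ModSh.toSheaf_preservesColimits (ModSite.ringSh O)
  have := Groth.Agent.Lib.helper27.FiltCoh.preservesColimit_H J B Cov h1 h2 U hU p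
    (F ⋙ SheafOfModules.toSheaf (ModSite.ringSh O))
  infer_instance

include h1 h2 hU in
lemma H0 {ι : Type u} (Y : ι → ModSite.Mod O) :
    Function.Bijective (homSum (ModSite.freeOn O U) Y (Cofan.mk (∐ Y) (Sigma.ι Y))) := by
  have := Groth.Agent.Lib.Helper21.ModGroth.isGrothendieckAbelian_mod (ModSite.ringSh O)
  have := preserves_H_mod O B Cov h1 h2 U hU 0 (liftToFinsetObj (Discrete.functor Y))
  refine bijective_homSum_of_preserves_filtered Y (ModSite.freeOn O U)
    (SheafOfModules.toSheaf (ModSite.ringSh O) ⋙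
      (Sheaf.cohomologyPresheafFunctor J 0).flip.obj (op U))
    (fun F => (Abelian.Ext.addEquiv₀.toEquiv).trans
      (Groth.Agent.H1.ExtFreeOn.homEquiv O U F).symm) ?_
  intro F F' φ x
  change (Groth.Agent.H1.ExtFreeOn.homEquiv O U F').symm (Abelian.Ext.addEquiv₀
      (x.comp (Abelian.Ext.mk₀ ((SheafOfModules.toSheaf (ModSite.ringSh O)).map φ)) (add_zero 0))) =
    (Groth.Agent.H1.ExtFreeOn.homEquiv O U F).symm (Abelian.Ext.addEquiv₀ x) ≫ φ
  apply (Groth.Agent.H1.ExtFreeOn.homEquiv O U F').injective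
  rw [Equiv.apply_symm_apply, Groth.Agent.H1.ExtFreeOn.homEquiv_naturality,
    Equiv.apply_symm_apply]
  apply Abelian.Ext.addEquiv₀.symm.injective
  rw [AddEquiv.symm_apply_apply]
  change _ = Abelian.Ext.mk₀ (Abelian.Ext.addEquiv₀ x ≫ _)
  rw [← Abelian.Ext.mk₀_comp_mk₀, Abelian.Ext.mk₀_addEquiv₀_apply]

include h1 h2 hU in
lemma Hp {ι : Type u} (Y : ι → ModSite.Mod O) (k : ℕ)
    (hG : IsGrothendieckAbelian.{u} (ModSite.Mod O))
    (hY : ∀ i, Subsingleton (Abelian.Ext.{u} (ModSite.freeOn O U) (Y i) k)) :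
    Subsingleton (Abelian.Ext.{u} (ModSite.freeOn O U) (∐ Y) k) := by
  have hadd : ((Sheaf.cohomologyPresheafFunctor J k).flip.obj (op U)).Additive :=
    inferInstanceAs (Abelian.extFunctorObj
      ((presheafToSheaf J AddCommGrpCat.{u}).obj
        (yoneda.obj U ⋙ AddCommGrpCat.free)) k).Additive
  have := preserves_H_mod O B Cov h1 h2 U hU k (liftToFinsetObj (Discrete.functor Y))
  have hfb : HasFiniteBiproducts (ModSite.Mod O) := Abelian.hasFiniteBiproducts
  have hz : IsZero ((SheafOfModules.toSheaf (ModSite.ringSh O) ⋙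
      (Sheaf.cohomologyPresheafFunctor J k).flip.obj (op U)).obj (∐ Y)) :=
    isZero_map_sigma_of_preserves_filtered Y _ (fun i => by
      obtain ⟨e⟩ := Groth.Agent.H1.ExtFreeOn.ext_freeOn_equiv_HU O U (Y i) k
      have := hY i
      have : Subsingleton ↑((SheafOfModules.toSheaf (ModSite.ringSh O) ⋙
          (Sheaf.cohomologyPresheafFunctor J k).flip.obj (op U)).obj (Y i)) :=
        e.symm.toEquiv.subsingleton
      exact AddCommGrpCat.isZero_of_subsingleton _)
  obtain ⟨e⟩ := Groth.Agent.H1.ExtFreeOn.ext_freeOn_equiv_HU O U (∐ Y) k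
  have : Subsingleton (ModSite.HU O (∐ Y) k U) := AddCommGrpCat.subsingleton_of_isZero hz
  exact e.toEquiv.subsingleton

include h1 h2 hU in
theorem main [HasDerivedCategory.{u} (ModSite.Mod O)]
    {I : Type u} (M : I → DerivedCategory (ModSite.Mod O)) [HasCoproduct M]
    (a : ℤ) (hM : ∀ i, (M i).IsGE a) :
    Function.Bijective (CohDer.homSumToHomCoprod
      ((DerivedCategory.singleFunctor (ModSite.Mod O) 0).obj (ModSite.freeOn O U)) M) := by
  have hG := Groth.Agent.Lib.Helper21.ModGroth.isGrothendieckAbelian_mod (ModSite.ringSh O)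
  rw [homSumToHomCoprod_eq]
  exact Groth.Agent.H1.CompactBdd.bijective_homSum_single
    (fun K => by
      obtain ⟨I, f, hI, hf, -, -⟩ :=
        Groth.Agent.Lib.Helper25.KInjMain.exists_kInjective_resolution K
      exact ⟨I, f, hI, hf⟩)
    (ModSite.freeOn O U) (fun Y => H0 O B Cov h1 h2 U hU Y)
    (fun Y k _ hY => Hp O B Cov h1 h2 U hU Y k hG hY) M a hM
    (Cofan.mk (∐ M) (Sigma.ι M)) (coproductIsCoproduct M)

/-- Let (C, O) be a ringed site with fibre products, B a class of objects and Cov a class of finite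
covering families such that (1) for a family in Cov over U, U and all iterated fibre products of its
members lie in B, and (2) every covering sieve of a member of B contains a family from Cov. Then for
U in B the module j_{U!} O_U behaves as a compact object of D^+(O), meaning: for every family (M_i)
of objects of D(O) which is uniformly bounded below and whose direct sum exists, ⊕_i Hom(j_{U!} O_U,
M_i) → Hom(j_{U!} O_U, ⊕_i M_i) is bijective. The derived category of O-modules is an instance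
hypothesis. -/
theorem result
    {C : Type u} [SmallCategory C] [HasPullbacks C] {J : GrothendieckTopology C} (O : Sheaf J CommRingCat.{u})
    (B : Set C) (Cov : ∀ (U : C) (ι : Type u), (ι → Over U) → Prop)
    (h1 : ∀ (U : C) (ι : Type u) (Y : ι → Over U), Cov U ι Y → Finite ι ∧ U ∈ B ∧
      Sieve.ofArrows (fun i => (Y i).left) (fun i => (Y i).hom) ∈ J U ∧
      ∀ (p : ℕ) (a : Fin (p + 1) → ι), (∏ᶜ fun k => Y (a k)).left ∈ B)
    (h2 : ∀ U ∈ B, ∀ T ∈ J U, ∃ (ι : Type u) (Y : ι → Over U), Cov U ι Y ∧ ∀ i, T.arrows (Y i).hom)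
    [HasDerivedCategory.{u} (ModSite.Mod O)]
    (U : C) (hU : U ∈ B) {I : Type u} (M : I → DerivedCategory (ModSite.Mod O)) [HasCoproduct M]
    (a : ℤ) (hM : ∀ i, (M i).IsGE a) :
    Function.Bijective (CohDer.homSumToHomCoprod
      ((DerivedCategory.singleFunctor (ModSite.Mod O) 0).obj (ModSite.freeOn O U)) M) := by
  exact main O B Cov h1 h2 U hU M a hM

end Groth.Agent.S9047
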