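import Groth.Statements.S0890
import Mathlib
import Groth.Agent.Lib.Helper25.DCohPC
import Groth.Agent.Lib.Helper25.FLFCycles
import Groth.Agent.Lib.Helper16.FLF7
-- import your own Groth.Agent.* helpers here

set_option autoImplicit false
universe u
open CategoryTheory
attribute [local instance] HasDerivedCategory.standard
open DCoh

namespace Groth.Agent.S0890

open AlgebraicGeometry CategoryTheory.Limits Groth.Agent.Lib.helper25.DCohPC in
/-- vanishing of the cohomology of the presenting strictly perfect complex -/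
lemma isZero_homology_of_pcData {X : Scheme.{u}} (m n : ℤ) (hmn : m ≤ n) (K : DCoh.D X) (V : X.Opens)
    (hz : ∀ i : ℤ, n < i → IsZero (DCoh.HD K i))
    {P : CochainComplex (V : Scheme.{u}).Modules ℤ}
    (α : DerivedCategory.Q.obj P ⟶ (DCoh.restrictD V.ι).obj K)
    (h1 : ∀ i : ℤ, m < i → IsIso ((DerivedCategory.homologyFunctor _ i).map α)) (i : ℤ) (hi : n < i) :
    IsZero (P.homology i) := by
  obtain ⟨e⟩ := Groth.Agent.Lib.helper25.DCohHomology.nonempty_HD_restrict_iso V.ι K i
  have := h1 i (by omega)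
  have hz' : IsZero ((Scheme.Modules.restrictFunctor V.ι).obj (DCoh.HD K i)) :=
    (Scheme.Modules.restrictFunctor V.ι).map_isZero (hz i hi)
  exact hz'.of_iso (((DerivedCategory.homologyFunctorFactors _ i).app P).symm ≪≫
    asIso ((DerivedCategory.homologyFunctor _ i).map α) ≪≫ e.symm)


open AlgebraicGeometry CategoryTheory.Limits in
/-- For an m-pseudo-coherent object K of D(O_X): (1) vanishing of the cohomology sheaves above degree m
makes H^m(K) an O_X-module of finite type; (2) vanishing above degree m + 1 makes H^{m+1}(K) an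
O_X-module of finite presentation. -/
theorem result {X : Scheme.{u}} (m : ℤ) (K : DCoh.D X)
    (hK : DCoh.IsPseudoCoherentD m K) :
    ((∀ i : ℤ, m < i → IsZero (DCoh.HD K i)) → CohB1.IsFT (DCoh.HD K m)) ∧
    ((∀ i : ℤ, m + 1 < i → IsZero (DCoh.HD K i)) → CohB1.IsFP (DCoh.HD K (m + 1))) := by
  refine ⟨fun hz => ?_, fun hz => ?_⟩
  · refine Groth.Agent.Lib.helper25.FTLocal.isFT_of_forall_restrict _ (fun x => ?_)
    obtain ⟨V, hxV, P, α, hP, h1, h2⟩ := Groth.Agent.Lib.helper25.DCohPC.exists_pcData hK x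
    refine ⟨V, hxV, ?_⟩
    have hzP : ∀ i : ℤ, m < i → IsZero (P.homology i) :=
      isZero_homology_of_pcData m m le_rfl K V hz α h1
    have hcyc := Groth.Agent.Lib.helper25.FLFCycles.isFinLocFree_cycles hP m hzP m le_rfl
    have hft : CohB1.IsFT (P.cycles m) :=
      Groth.Agent.Lib.helper16.FLF.isFiniteType_of_isFinLocFree _ hcyc
    have hft' : CohB1.IsFT (P.homology m) :=
      Groth.Agent.Lib.helper7.CohKer.isFiniteType_of_epi (P.homologyπ m) hft
    obtain ⟨e⟩ := Groth.Agent.Lib.helper25.DCohHomology.nonempty_HD_restrict_iso V.ι K m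
    have := h2
    exact Groth.Agent.Lib.helper7.CohKer.isFiniteType_of_epi
      (((DerivedCategory.homologyFunctorFactors _ m).app P).inv ≫
        (DerivedCategory.homologyFunctor _ m).map α ≫ e.inv) hft'
  · refine Groth.Agent.Lib.helper25.FTLocal.isFP_of_forall_restrict _ (fun x => ?_)
    obtain ⟨V, hxV, P, α, hP, h1, h2⟩ := Groth.Agent.Lib.helper25.DCohPC.exists_pcData hK x
    refine ⟨V, hxV, ?_⟩
    have hzP : ∀ i : ℤ, m + 1 < i → IsZero (P.homology i) :=
      isZero_homology_of_pcData m (m + 1) (by omega) K V hz α h1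
    have hcyc := Groth.Agent.Lib.helper25.FLFCycles.isFinLocFree_cycles hP (m + 1) hzP (m + 1) le_rfl
    have hfp : CohB1.IsFP (cokernel (P.toCycles m (m + 1))) :=
      Groth.Agent.Lib.helper25.FLFCycles.isFP_cokernel_of_isFinLocFree _ (hP.2 m) hcyc
    obtain ⟨e⟩ := Groth.Agent.Lib.helper25.DCohHomology.nonempty_HD_restrict_iso V.ι K (m + 1)
    have := h1 (m + 1) (by omega)
    have iso : cokernel (P.toCycles m (m + 1)) ≅
        (Scheme.Modules.restrictFunctor V.ι).obj (DCoh.HD K (m + 1)) :=
      IsColimit.coconePointUniqueUpToIso (colimit.isColimit _)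
        (P.homologyIsCokernel m (m + 1) (by simp)) ≪≫
      ((DerivedCategory.homologyFunctorFactors _ (m + 1)).app P).symm ≪≫
        asIso ((DerivedCategory.homologyFunctor _ (m + 1)).map α) ≪≫ e.symm
    exact (SheafOfModules.isFinitePresentation ((V : X.Opens) : Scheme.{u}).ringCatSheaf).prop_of_iso iso hfp

end Groth.Agent.S0890
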