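import Groth.Statements.S1039
import Mathlib
import Groth.Agent.Lib.Helper25.DCohPC5
import Groth.Agent.Lib.Helper25.FTLocal
-- import your own Groth.Agent.* helpers here

set_option autoImplicit false
universe u
open CategoryTheory CategoryTheory.Limits AlgebraicGeometry
attribute [local instance] HasDerivedCategory.standard
open Perf

namespace Groth.Agent.S1039

open AlgebraicGeometry CategoryTheory.Limits CategoryTheory.Pretriangulated DerivedCategory
  Groth.Agent.Lib.helper25.DCohPC Groth.Agent.Lib.helper25.DCohPC3 Groth.Agent.Lib.helper25.DCohPC4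
  Groth.Agent.Lib.helper25.DCohPC5 in
/-- bounded above with coherent cohomology in degrees `≥ m` implies `m`-pseudo-coherent -/
theorem pc_of_coherent_homology {X : Scheme.{u}} [IsLocallyNoetherian X] (m : ℤ) :
    ∀ (n : ℕ) (E : DCoh.D X),
      (∀ i : ℤ, m - 1 + n < i → IsZero ((homologyFunctor _ i).obj E)) →
      (∀ i : ℤ, m ≤ i → Coh.IsCoh ((homologyFunctor _ i).obj E)) → DCoh.IsPseudoCoherentD m E := by
  intro n
  induction n with
  | zero =>
    intro E hz _
    exact isPseudoCoherentD_of_pcData_global
      (pcData_of_isZero_homology (fun i hi => hz i (by simp; omega)))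
  | succ n ih =>
    intro E hz hcoh
    obtain ⟨A, B, hA, hB, f, g, h, hT⟩ :=
      DerivedCategory.TStructure.t.exists_triangle E (m + n - 1) (m + n) (by omega)
    have hA' : ∀ i : ℤ, m + n - 1 < i → IsZero ((homologyFunctor _ i).obj A) :=
      (isLE_iff A (m + n - 1)).1 ⟨hA⟩
    have hB' : ∀ i : ℤ, i < m + n → IsZero ((homologyFunctor _ i).obj B) :=
      (isGE_iff B (m + n)).1 ⟨hB⟩
    -- the first vertex
    have pcA : DCoh.IsPseudoCoherentD m A := by
      refine ih A (fun i hi => hA' i (by omega)) (fun i hi => ?_)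
      by_cases hib : i < m + n
      · have h1 : Mono ((homologyFunctor _ i).map f) :=
          (HomologySequence.mono_homologyMap_mor₁_iff _ hT (i - 1) i (by omega)).2
            ((hB' (i - 1) (by omega)).eq_of_src _ _)
        have h2 : Epi ((homologyFunctor _ i).map f) :=
          (HomologySequence.epi_homologyMap_mor₁_iff _ hT i).2 ((hB' i hib).eq_of_tgt _ _)
        have : IsIso ((homologyFunctor _ i).map f) := isIso_of_mono_of_epi _
        exact Groth.Agent.Lib.helper7.CohKer.isCoh_of_iso (asIso ((homologyFunctor _ i).map f)).symm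
          (hcoh i hi)
      · exact Groth.Agent.Lib.helper7.CohKer.isCoh_of_isZero (hA' i (by omega))
    -- the third vertex
    have hBle : ∀ i : ℤ, m + n < i → IsZero ((homologyFunctor _ i).obj B) := by
      intro i hi
      refine (HomologySequence.exact₃ _ hT i (i + 1) rfl).isZero_of_both_zeros ?_ ?_
      · exact (hz i (by push_cast; omega)).eq_of_src _ _
      · exact (hA' (i + 1) (by omega)).eq_of_tgt _ _
    have : B.IsGE (m + n) := ⟨hB⟩
    have : B.IsLE (m + n) := (isLE_iff B (m + n)).2 hBle
    obtain ⟨H, ⟨eB⟩⟩ := exists_iso_singleFunctor_obj_of_isGE_of_isLE B (m + n)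
    have hH : Coh.IsCoh H := by
      have h1 : Mono ((homologyFunctor _ (m + n)).map g) :=
        (HomologySequence.mono_homologyMap_mor₂_iff _ hT (m + n)).2
          ((hA' (m + n) (by omega)).eq_of_src _ _)
      have h2 : Epi ((homologyFunctor _ (m + n)).map g) :=
        (HomologySequence.epi_homologyMap_mor₂_iff _ hT (m + n) (m + n + 1) rfl).2
          ((hA' (m + n + 1) (by omega)).eq_of_tgt _ _)
      have : IsIso ((homologyFunctor _ (m + n)).map g) := isIso_of_mono_of_epi _
      have e1 : (homologyFunctor _ (m + n)).obj E ≅ (homologyFunctor _ (m + n)).obj B :=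
        asIso ((homologyFunctor _ (m + n)).map g)
      have e2 : (homologyFunctor _ (m + n)).obj ((singleFunctor X.Modules (m + n)).obj H) ≅ H :=
        (homologyFunctorFactors _ (m + n)).app
          ((HomologicalComplex.single X.Modules (ComplexShape.up ℤ) (m + n)).obj H) ≪≫
          HomologicalComplex.singleObjHomologySelfIso (ComplexShape.up ℤ) (m + n) H
      exact Groth.Agent.Lib.helper7.CohKer.isCoh_of_iso
        (e1 ≪≫ (homologyFunctor _ (m + n)).mapIso eB ≪≫ e2) (hcoh (m + n) (by omega))
    have pcB : DCoh.IsPseudoCoherentD m B :=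
      isPseudoCoherentD_of_iso eB.symm (isPseudoCoherentD_singleFunctor_of_isCoh hH (m + n) m)
    exact (isPseudoCoherentD_triangle m _ hT).2.1 pcA pcB


/-- Let X be a Noetherian scheme, E ∈ D(O_X) with quasi-coherent cohomology sheaves and m ∈ ℤ. Then
m-pseudo-coherence of E is equivalent to: Hⁱ(E) is coherent for every i ≥ m and vanishes for i
large. -/
theorem result (X : Scheme.{u}) [IsNoetherian X] (E : DCoh.D X) (hE : DCoh.IsQCohD E) (m : ℤ) :
    DCoh.IsPseudoCoherentD m E ↔ (∀ i : ℤ, m ≤ i → Coh.IsCoh (DCoh.HD E i)) ∧ ∃ b : ℤ, E.IsLE b := by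
  constructor
  · intro hpc
    have H := fun x => Groth.Agent.Lib.helper25.DCohPC.exists_pcData hpc x
    choose V hxV d using H
    choose P α hP hα using d
    have key : ∀ (x : X) (i : ℤ), m ≤ i → ∃ π : (P x).homology i ⟶
        (Scheme.Modules.restrictFunctor (V x).ι).obj (DCoh.HD E i), Epi π ∧ (m < i → IsIso π) := by
      intro x i hi
      obtain ⟨e⟩ := Groth.Agent.Lib.helper25.DCohHomology.nonempty_HD_restrict_iso (V x).ι E i
      refine ⟨((DerivedCategory.homologyFunctorFactors _ i).app (P x)).inv ≫
        (DerivedCategory.homologyFunctor _ i).map (α x) ≫ e.inv, ?_, fun hi' => ?_⟩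
      · have := Groth.Agent.Lib.helper25.IsoAbove.IsoAbove.epi (hα x) i hi
        infer_instance
      · have := (hα x).1 i hi'
        infer_instance
    constructor
    · intro i hi
      refine ⟨hE i, Groth.Agent.Lib.helper25.FTLocal.isFT_of_forall_restrict _ (fun x => ?_)⟩
      obtain ⟨π, hπ, -⟩ := key x i hi
      exact ⟨V x, hxV x, Groth.Agent.Lib.helper7.CohKer.isFiniteType_of_epi π
        (Groth.Agent.Lib.helper25.DCohHomology.isCoh_homology_of_isStrictlyPerfect (hP x) i).2⟩
    · obtain ⟨t, ht⟩ := isCompact_univ.elim_finite_subcover (fun x : X => ((V x : X.Opens) : Set X))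
        (fun x => (V x).isOpen) (fun x _ => Set.mem_iUnion.mpr ⟨x, hxV x⟩)
      have hcov' : ⨆ x : t, V x.1 = ⊤ := by
        rw [eq_top_iff]
        intro x _
        obtain ⟨y, hy⟩ := Set.mem_iUnion.mp (ht (Set.mem_univ x))
        obtain ⟨hyt, hxy⟩ := Set.mem_iUnion.mp hy
        exact TopologicalSpace.Opens.mem_iSup.mpr ⟨⟨y, hyt⟩, hxy⟩
      have hb := fun x => (hP x).1
      choose lo hi hlohi using hb
      obtain ⟨b, hb⟩ := (t.image hi).exists_le
      refine ⟨max b m, (DerivedCategory.isLE_iff _ _).2 ?_⟩
      intro i hib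
      refine Groth.Agent.Lib.helper25.DCohHomology.isZero_of_cover _ (fun x : t => V x.1) hcov' (fun x => ?_)
      obtain ⟨π, -, hπ⟩ := key x.1 i (by omega)
      have := hπ (by omega)
      refine IsZero.of_iso ?_ (asIso π).symm
      have hz : IsZero ((P x.1).X i) := hlohi x.1 i (Or.inr (by
        have := hb (hi x.1) (Finset.mem_image_of_mem hi x.2)
        omega))
      exact HomologicalComplex.ExactAt.isZero_homology (ShortComplex.exact_of_isZero_X₂ _ hz)
  · rintro ⟨hcoh, b, hb⟩
    have hz := (DerivedCategory.isLE_iff E b).1 hb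
    refine pc_of_coherent_homology m (b - m + 1).toNat E (fun i hi => hz i ?_) hcoh
    have : ((b - m + 1).toNat : ℤ) ≥ b - m + 1 := Int.self_le_toNat _
    omega

end Groth.Agent.S1039
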