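import Groth.Statements.S1086
import Mathlib
import Groth.Agent.Lib.Helper25.FilDLib

set_option autoImplicit false
universe v u
open CategoryTheory CategoryTheory.Limits Opposite
open FilD

namespace Groth.Agent.S1086

open Groth.Agent.Lib.helper25.FilDLib

/-- Levelwise exactness of the kernel sequence of a natural transformation. -/
lemma kernel_app_exact {A : Type u} [Category.{v} A] [Abelian A] {F G : ℤᵒᵖ ⥤ A} (φ : F ⟶ G)
    (p : ℤ) :
    (ShortComplex.mk ((kernel.ι φ).app (op p)) (φ.app (op p))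
      (app_w (kernel.ι φ) φ (kernel.condition φ) p)).Exact :=
  (ShortComplex.exact_kernel φ).map ((evaluation ℤᵒᵖ A).obj (op p))

/-- Strictness implies `gr`-exactness of the kernel sequence. -/
lemma gr_exact_of_isStrict {A : Type u} [Category.{v} A] [Abelian A] {X Y : FilD.FilF A}
    (φ : X ⟶ Y) (hφ : FilD.IsStrict φ) (p : ℤ) :
    (ShortComplex.mk _ _ (gr_w (kernel.ι φ.hom) φ.hom (kernel.condition φ.hom) p)).Exact := by
  rw [ShortComplex.exact_iff_exact_up_to_refinements]
  intro T yb hyb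
  dsimp at yb hyb ⊢
  obtain ⟨T₁, π₁, _, y, h1⟩ := surjective_up_to_refinements_of_epi (grπ X.obj p) yb
  have h2 : (y ≫ φ.hom.app (op p)) ≫ grπ Y.obj p = 0 := by
    rw [Category.assoc, grπ_naturality, ← reassoc_of% h1, hyb, comp_zero]
  obtain ⟨T₂, π₂, _, z, h3⟩ := (grπ_exact Y.obj p).exact_up_to_refinements _ h2
  dsimp at z h3
  obtain ⟨T₃, π₃, _, x', h4⟩ := refinement_of_isStrict φ hφ p (p + 1)
    (Int.le_add_one le_rfl) (π₂ ≫ y) z (by rw [Category.assoc, h3]; rfl)
  have h5 : (π₃ ≫ π₂ ≫ y - x' ≫ X.obj.map (FilD.stepHom p)) ≫ φ.hom.app (op p) = 0 := by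
    rw [Preadditive.sub_comp, Category.assoc, Category.assoc, Category.assoc, h3,
      reassoc_of% h4, φ.hom.naturality, sub_self]
  obtain ⟨T₄, π₄, _, κ, h6⟩ := (kernel_app_exact φ.hom p).exact_up_to_refinements _ h5
  dsimp at κ h6
  refine ⟨T₄, π₄ ≫ π₃ ≫ π₂ ≫ π₁, inferInstance, κ ≫ grπ (kernel φ.hom) p, ?_⟩
  have h8 : (π₃ ≫ π₂ ≫ y) ≫ grπ X.obj p =
      (π₃ ≫ π₂ ≫ y - x' ≫ X.obj.map (FilD.stepHom p)) ≫ grπ X.obj p := by
    rw [Preadditive.sub_comp, Category.assoc x', step_grπ, comp_zero, sub_zero]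
  rw [Category.assoc, Category.assoc, Category.assoc, h1]
  calc π₄ ≫ π₃ ≫ π₂ ≫ y ≫ grπ X.obj p = π₄ ≫ (π₃ ≫ π₂ ≫ y) ≫ grπ X.obj p := by
        simp only [Category.assoc]
    _ = (π₄ ≫ (π₃ ≫ π₂ ≫ y - x' ≫ X.obj.map (FilD.stepHom p))) ≫ grπ X.obj p := by
        rw [h8, Category.assoc]
    _ = (κ ≫ grπ (kernel φ.hom) p) ≫ (FilD.gr A p).map (kernel.ι φ.hom) := by
        rw [h6, Category.assoc, Category.assoc, grπ_naturality]

/-- Let φ : X ⟶ Y be a morphism of finite filtered objects of an abelian category and let Ker φ carry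
the induced filtration (the kernel computed levelwise). Then φ is strict if and only if for every p
the sequence grᵖ(Ker φ) ⟶ grᵖ X ⟶ grᵖ Y is exact. -/
theorem result {A : Type u} [Category.{v} A] [Abelian A] {X Y : FilD.FilF A} (φ : X ⟶ Y) :
    FilD.IsStrict φ ↔
      ∀ p : ℤ, ((ShortComplex.mk (kernel.ι φ.hom) φ.hom (kernel.condition φ.hom)).map (FilD.gr A p)).Exact := by
  constructor
  · intro hφ p
    exact gr_exact_of_isStrict φ hφ p
  · intro H
    apply isStrict_of_refinement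
    intro p q h T x y hxy
    exact strict_right (kernel.ι φ.hom) φ.hom (kernel.condition φ.hom)
      (fun p => Y.property.1 _) (fun p => H p) (q - p).toNat p q h (by omega) x y hxy

end Groth.Agent.S1086
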