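import Groth.Statements.S1085
import Mathlib
import Groth.Agent.Lib.Helper25.FilDLib

set_option autoImplicit false
universe v u
open CategoryTheory CategoryTheory.Limits Opposite
open FilD

namespace Groth.Agent.S1085

/-- Let A be an abelian category and S = (X ⟶ Y ⟶ Z) a short complex (composite zero) of finite filtered
objects such that grᵖ X ⟶ grᵖ Y ⟶ grᵖ Z is exact for every p. Then for every p the sequence of p-th
filtration steps Fᵖ X ⟶ Fᵖ Y ⟶ Fᵖ Z is exact, and both morphisms of S are strict. -/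
theorem result {A : Type u} [Category.{v} A] [Abelian A] (S : ShortComplex (FilD.FilF A))
    (hS : ∀ p : ℤ, (S.map (FilD.grF A p)).Exact) :
    (∀ p : ℤ, (S.map ((FilD.IsFinFil A).ι ⋙ (evaluation ℤᵒᵖ A).obj (op p))).Exact) ∧
      FilD.IsStrict S.f ∧ FilD.IsStrict S.g := by
  have w : S.f.hom ≫ S.g.hom = 0 := by
    have := S.zero
    exact congrArg (fun φ => φ.hom) this
  have hZ : ∀ p : ℤ, Mono (S.X₃.obj.map (FilD.stepHom p)) := fun p => S.X₃.property.1 _
  obtain ⟨b, hb⟩ := S.X₂.property.2.1
  have hgr : ∀ p : ℤ, (ShortComplex.mk _ _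
      (Groth.Agent.Lib.helper25.FilDLib.gr_w S.f.hom S.g.hom w p)).Exact := fun p => hS p
  refine ⟨fun p => ?_, ?_, ?_⟩
  · exact Groth.Agent.Lib.helper25.FilDLib.levelwise_exact S.f.hom S.g.hom w hZ b hb hgr p
  · apply Groth.Agent.Lib.helper25.FilDLib.isStrict_of_refinement
    intro p q h T x y hxy
    exact Groth.Agent.Lib.helper25.FilDLib.strict_left S.f.hom S.g.hom w h (S.X₃.property.1 _)
      (Groth.Agent.Lib.helper25.FilDLib.levelwise_exact S.f.hom S.g.hom w hZ b hb hgr q) x y hxy
  · apply Groth.Agent.Lib.helper25.FilDLib.isStrict_of_refinement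
    intro p q h T x y hxy
    exact Groth.Agent.Lib.helper25.FilDLib.strict_right S.f.hom S.g.hom w hZ hgr (q - p).toNat
      p q h (by omega) x y hxy

end Groth.Agent.S1085
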