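import Groth.Statements.S4681
import Mathlib
import Groth.Agent.Lib.Helper17.FlatOver4

set_option autoImplicit false
open CategoryTheory AlgebraicGeometry
universe u
open FDesc

namespace Groth.Agent.S4681


open TensorProduct in
/-- `M` faithfully flat over `A`, flat over `C` ⟹ `A` flat over `C`. -/
theorem flat_of_faithfullyFlat_module {C A M : Type*} [CommRing C] [CommRing A] [Algebra C A]
    [AddCommGroup M] [Module C M] [Module A M] [IsScalarTower C A M]
    [Module.FaithfullyFlat A M] [Module.Flat C M] : Module.Flat C A := by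
  rw [Module.Flat.iff_lTensor_injective']
  intro I
  rw [← AlgebraTensorModule.coe_lTensor (A := A)]
  rw [← Module.FaithfullyFlat.lTensor_injective_iff_injective A M]
  have hM : Function.Injective (I.subtype.lTensor M) :=
    Module.Flat.lTensor_preserves_injective_linearMap _ I.injective_subtype
  have hsq : ∀ x : M ⊗[A] (A ⊗[C] I),
      AlgebraTensorModule.cancelBaseChange C A A M C
        ((AlgebraTensorModule.lTensor A A I.subtype).lTensor M x) =
      I.subtype.lTensor M (AlgebraTensorModule.cancelBaseChange C A A M I x) := by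
    intro x
    induction x using TensorProduct.induction_on with
    | zero => simp
    | add x y hx hy => simp only [map_add, hx, hy]
    | tmul m t =>
      induction t using TensorProduct.induction_on with
      | zero => simp
      | add x y hx hy => simp only [tmul_add, map_add, hx, hy]
      | tmul a i => simp
  intro x₁ x₂ hx
  apply (AlgebraTensorModule.cancelBaseChange C A A M I).injective
  apply hM
  rw [← hsq, ← hsq, hx]

theorem smul_top_ne_top_of_isLocalHom {C A M : Type*} [CommRing C] [CommRing A] [IsLocalRing C]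
    [IsLocalRing A] [Algebra C A] [IsLocalHom (algebraMap C A)] [AddCommGroup M] [Module C M]
    [Module A M] [IsScalarTower C A M]
    (h : IsLocalRing.maximalIdeal A • (⊤ : Submodule A M) ≠ ⊤) :
    IsLocalRing.maximalIdeal C • (⊤ : Submodule C M) ≠ ⊤ := by
  intro htop
  apply h
  rw [eq_top_iff]
  rintro x -
  have hx : x ∈ IsLocalRing.maximalIdeal C • (⊤ : Submodule C M) := by rw [htop]; trivial
  refine Submodule.smul_induction_on hx (fun c hc y _ => ?_) (fun y z hy hz => add_mem hy hz)
  rw [← algebraMap_smul A c y]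
  refine Submodule.smul_mem_smul ?_ trivial
  exact ((IsLocalRing.mem_maximalIdeal _).mpr fun hu =>
    (IsLocalRing.mem_maximalIdeal _).mp hc (isUnit_of_map_unit (algebraMap C A) c hu))

theorem faithfullyFlat_of_flat_of_smul_top_ne_top {A M : Type*} [CommRing A] [IsLocalRing A]
    [AddCommGroup M] [Module A M] [Module.Flat A M]
    (h : IsLocalRing.maximalIdeal A • (⊤ : Submodule A M) ≠ ⊤) : Module.FaithfullyFlat A M :=
  ⟨fun m hm => by rw [IsLocalRing.eq_maximalIdeal hm]; exact h⟩

open CategoryTheory AlgebraicGeometry in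
theorem nonvanishing_comp_iff {X Y Z : Scheme.{u}} (f : X ⟶ Y) (g : Y ⟶ Z) (F : X.Modules) (x : X) :
    (letI := FlatMod.moduleStalkOver (f ≫ g) F x
     IsLocalRing.maximalIdeal (Z.presheaf.stalk ((f ≫ g).base x)) •
      (⊤ : Submodule (Z.presheaf.stalk ((f ≫ g).base x)) (F.presheaf.stalk x)) ≠ ⊤) ↔
    (letI := Module.compHom (F.presheaf.stalk x)
      ((f.stalkMap x).hom.comp (g.stalkMap (f.base x)).hom)
     IsLocalRing.maximalIdeal (Z.presheaf.stalk (g.base (f.base x))) •
      (⊤ : Submodule (Z.presheaf.stalk (g.base (f.base x))) (F.presheaf.stalk x)) ≠ ⊤) := by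
  have e : ((f ≫ g).stalkMap x).hom = (f.stalkMap x).hom.comp (g.stalkMap (f.base x)).hom := by
    rw [Scheme.Hom.stalkMap_comp]; rfl
  unfold FlatMod.moduleStalkOver
  rw [e]
  rfl

open CategoryTheory AlgebraicGeometry in
/-- the local situation at a point `x`: `C = O_{Z,g f x} → A = O_{Y,f x}`, `M = F_x` -/
theorem local_step {X Y Z : Scheme.{u}} (f : X ⟶ Y) (g : Y ⟶ Z) (F : X.Modules) (x : X)
    (hfl : FlatMod.IsFlatOverAt f F x) :
    ((g.stalkMap (f.base x)).hom.Flat → FlatMod.IsFlatOverAt (f ≫ g) F x) ∧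
    ((letI := FlatMod.moduleStalkOver f F x
      IsLocalRing.maximalIdeal (Y.presheaf.stalk (f.base x)) •
        (⊤ : Submodule (Y.presheaf.stalk (f.base x)) (F.presheaf.stalk x)) ≠ ⊤) →
      ((letI := FlatMod.moduleStalkOver (f ≫ g) F x
        IsLocalRing.maximalIdeal (Z.presheaf.stalk ((f ≫ g).base x)) •
          (⊤ : Submodule (Z.presheaf.stalk ((f ≫ g).base x)) (F.presheaf.stalk x)) ≠ ⊤) ∧
       (FlatMod.IsFlatOverAt (f ≫ g) F x → (g.stalkMap (f.base x)).hom.Flat))) := by
  rw [Groth.Agent.Lib.helper17.FlatOver4.isFlatOverAt_comp_iff, nonvanishing_comp_iff]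
  letI algCA : Algebra (Z.presheaf.stalk (g.base (f.base x))) (Y.presheaf.stalk (f.base x)) :=
    (g.stalkMap (f.base x)).hom.toAlgebra
  haveI : IsLocalHom (algebraMap (Z.presheaf.stalk (g.base (f.base x)))
      (Y.presheaf.stalk (f.base x))) := inferInstanceAs (IsLocalHom (g.stalkMap (f.base x)).hom)
  letI mAM : Module (Y.presheaf.stalk (f.base x)) (F.presheaf.stalk x) :=
    FlatMod.moduleStalkOver f F x
  letI mCM : Module (Z.presheaf.stalk (g.base (f.base x))) (F.presheaf.stalk x) :=
    Module.compHom (F.presheaf.stalk x) ((f.stalkMap x).hom.comp (g.stalkMap (f.base x)).hom)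
  haveI : IsScalarTower (Z.presheaf.stalk (g.base (f.base x))) (Y.presheaf.stalk (f.base x))
      (F.presheaf.stalk x) :=
    ⟨fun c a m => by
      change (f.stalkMap x).hom ((g.stalkMap (f.base x)).hom c * a) • m =
        (f.stalkMap x).hom ((g.stalkMap (f.base x)).hom c) • ((f.stalkMap x).hom a • m)
      rw [map_mul, mul_smul]⟩
  haveI : Module.Flat (Y.presheaf.stalk (f.base x)) (F.presheaf.stalk x) := hfl
  refine ⟨fun hg => ?_, fun hnv => ⟨?_, fun hC => ?_⟩⟩
  · haveI : Module.Flat (Z.presheaf.stalk (g.base (f.base x))) (Y.presheaf.stalk (f.base x)) := hg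
    exact Module.Flat.trans (Z.presheaf.stalk (g.base (f.base x))) (Y.presheaf.stalk (f.base x)) _
  · exact smul_top_ne_top_of_isLocalHom (A := Y.presheaf.stalk (f.base x)) hnv
  · haveI : Module.FaithfullyFlat (Y.presheaf.stalk (f.base x)) (F.presheaf.stalk x) :=
      faithfullyFlat_of_flat_of_smul_top_ne_top hnv
    haveI : Module.Flat (Z.presheaf.stalk (g.base (f.base x))) (F.presheaf.stalk x) := hC
    exact flat_of_faithfullyFlat_module (M := F.presheaf.stalk x)

/-- Let f : X → Y and g : Y → Z be morphisms of schemes and F a quasi-coherent O_X-module which is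
faithfully flat relative to Y: flat over Y, and for every point y of Y there is a point x over y
with F_x ⊗ κ(y) ≠ 0. Then g is flat and surjective (faithfully flat) if and only if F is faithfully
flat relative to Z for the morphism f followed by g: flat over Z, and for every point z of Z there
is a point x of X over z with F_x ⊗ κ(z) ≠ 0. -/
theorem result {X Y Z : Scheme.{u}} (f : X ⟶ Y) (g : Y ⟶ Z)
    (F : X.Modules) (hF : Coh.IsQCoh F) (hFfl : FlatMod.IsFlatOver f F)
    (hFff : (∀ y : ↥Y, ∃ x : ↥X, f x = y ∧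
      letI := FlatMod.moduleStalkOver f F x
      IsLocalRing.maximalIdeal (Y.presheaf.stalk (f x)) • (⊤ : Submodule (Y.presheaf.stalk (f x)) (F.presheaf.stalk x)) ≠ ⊤)) :
    (Flat g ∧ Surjective g) ↔
      (FlatMod.IsFlatOver (f ≫ g) F ∧
        (∀ z : ↥Z, ∃ x : ↥X, (f ≫ g) x = z ∧
      letI := FlatMod.moduleStalkOver (f ≫ g) F x
      IsLocalRing.maximalIdeal (Z.presheaf.stalk ((f ≫ g) x)) • (⊤ : Submodule (Z.presheaf.stalk ((f ≫ g) x)) (F.presheaf.stalk x)) ≠ ⊤)) := by
  constructor
  · rintro ⟨hfl, hsurj⟩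
    refine ⟨fun x => (local_step f g F x (hFfl x)).1 (Flat.stalkMap g (f.base x)), fun z => ?_⟩
    obtain ⟨y, rfl⟩ := g.surjective z
    obtain ⟨x, rfl, hnv⟩ := hFff y
    exact ⟨x, rfl, ((local_step f g F x (hFfl x)).2 hnv).1⟩
  · rintro ⟨hfl, hnvZ⟩
    refine ⟨Flat.of_stalkMap g fun y => ?_, ⟨fun z => ?_⟩⟩
    · obtain ⟨x, rfl, hnv⟩ := hFff y
      exact ((local_step f g F x (hFfl x)).2 hnv).2 (hfl x)
    · obtain ⟨x, rfl, -⟩ := hnvZ z
      exact ⟨f.base x, rfl⟩

end Groth.Agent.S4681
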