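import Groth.Statements.S1628
import Groth.Agent.S1535
import Groth.Agent.Lib.Helper15.Regular
-- import your own Groth.Agent.* helpers here

set_option autoImplicit false
universe u
open CategoryTheory CategoryTheory.Limits AlgebraicGeometry
open Variety

namespace Groth.Agent.S1628

/-- If X is smooth over a field k then X is geometrically reduced over k and geometrically regular at
every point. -/
theorem result (k : Type u) [Field k] (X : Scheme.{u}) [X.Over (Spec (CommRingCat.of k))] [Smooth (X ↘ (Spec (CommRingCat.of k)))] :
    GeometricallyReduced (X ↘ (Spec (CommRingCat.of k))) ∧ ∀ x : X, Curv2.IsGeomRegularAt k X x := by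
  constructor
  · refine ⟨fun K _ y Z fst snd hpb => ?_⟩
    have hsm : Smooth snd := MorphismProperty.of_isPullback hpb inferInstance
    letI : Z.Over (Spec (CommRingCat.of K)) := ⟨snd⟩
    haveI : Smooth (Z ↘ (Spec (CommRingCat.of K))) := hsm
    haveI : ∀ z : Z, _root_.IsReduced (Z.presheaf.stalk z) := fun z => by
      haveI := Groth.Agent.S1535.result K Z z
      haveI := Groth.Agent.Lib.helper15.isDomain_of_isRegularLocalRing (Z.presheaf.stalk z)
      infer_instance
    exact isReduced_of_isReduced_stalk Z
  · intro x k' _ _ _ x' _
    letI : (Curv2.bc k X k').Over (Spec (CommRingCat.of k')) := ⟨Curv2.bcSnd k X k'⟩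
    haveI : Smooth ((Curv2.bc k X k') ↘ (Spec (CommRingCat.of k'))) :=
      inferInstanceAs (Smooth (Limits.pullback.snd (X ↘ Spec (CommRingCat.of k))
        (Spec.map (CommRingCat.ofHom (algebraMap k k')))))
    exact Groth.Agent.S1535.result k' (Curv2.bc k X k') x'

end Groth.Agent.S1628
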