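import Groth.Statements.S1204
import Groth.Agent.Lib.Helper3.FibBasis1
import Groth.Agent.Lib.Helper3.GIProj2
import Groth.Agent.Lib.Helper17.FlatSES

set_option autoImplicit false
universe u
open FlatMor

namespace Groth.Agent.S1204

open TensorProduct IsLocalRing in
/-- Let R be a local ring and S a finitely presented flat R-algebra with geometrically integral fibres,
so that 𝔭 = 𝔪_R S is a prime of S; let q be a prime of S over 𝔪_R and N a finite S-module. Then
there is an S-linear map α from a finite free module S^r to N inducing a bijection after base change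
to κ(𝔭); and for any such α the following are equivalent: N_q is flat over R; α is universally
injective over R and the cokernel of α is flat over R at q; α is injective and the cokernel is flat
at q; α localized at 𝔭 is bijective and the cokernel is flat at q; α localized at q is injective and
the cokernel is flat at q. -/
theorem result {R S : Type u} [CommRing R] [IsLocalRing R] [CommRing S] [Algebra R S] [Algebra.FinitePresentation R S] [Module.Flat R S]
    (hgi : FlatCA.GeomIntegralFibres R S) [((maximalIdeal R).map (algebraMap R S)).IsPrime]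
    (q : Ideal S) [q.IsPrime] [q.LiesOver (maximalIdeal R)]
    (N : Type u) [AddCommGroup N] [Module S N] [Module R N] [IsScalarTower R S N] [Module.Finite S N] :
    (∃ (r : ℕ) (α : (Fin r → S) →ₗ[S] N), Function.Bijective (α.baseChange ((maximalIdeal R).map (algebraMap R S)).ResidueField)) ∧
    ∀ (r : ℕ) (α : (Fin r → S) →ₗ[S] N), Function.Bijective (α.baseChange ((maximalIdeal R).map (algebraMap R S)).ResidueField) →
      [FlatCA.FlatAt R q N,
       FlatCA.UnivInj R (α.restrictScalars R) ∧ FlatCA.FlatAt R q (N ⧸ LinearMap.range α),
       Function.Injective α ∧ FlatCA.FlatAt R q (N ⧸ LinearMap.range α),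
       Function.Bijective (LocalizedModule.map ((maximalIdeal R).map (algebraMap R S)).primeCompl α) ∧ FlatCA.FlatAt R q (N ⧸ LinearMap.range α),
       Function.Injective (LocalizedModule.map q.primeCompl α) ∧ FlatCA.FlatAt R q (N ⧸ LinearMap.range α)].TFAE := by
  classical
  set P := (maximalIdeal R).map (algebraMap R S) with hPdef
  haveI hfree : Module.Free R S := Groth.Agent.Lib.helper3.GIProj.free_of_local hgi
  refine ⟨Groth.Agent.Lib.helper3.FibBasis.exists_alpha P N, ?_⟩
  intro r α hα
  have hsurjP : Function.Surjective (LocalizedModule.map P.primeCompl α) :=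
    Groth.Agent.Lib.helper3.FibBasis.map_surjective_of_baseChange_surjective P α hα.2
  -- localized exact sequence at `q`
  have hexq := LocalizedModule.map_exact q.primeCompl α (LinearMap.range α).mkQ
    (LinearMap.exact_map_mkQ_range α)
  have hsurjq := LocalizedModule.map_surjective q.primeCompl (LinearMap.range α).mkQ
    (LinearMap.range α).mkQ_surjective
  tfae_have 1 → 2 := by
    intro h1
    have h1' : Module.Flat R (LocalizedModule q.primeCompl N) := h1
    have huniv : FlatCA.UnivInj R (α.restrictScalars R) := fun Q _ _ =>
      Groth.Agent.Lib.helper3.FibBasis.univInj_of_flatAt q α hα.1 h1' Q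
    refine ⟨huniv, ?_⟩
    show Module.Flat R (LocalizedModule q.primeCompl (N ⧸ LinearMap.range α))
    refine Groth.Agent.Lib.helper3.FibBasis.flat_of_exact_of_univInj
      ((LocalizedModule.map q.primeCompl α).restrictScalars R)
      ((LocalizedModule.map q.primeCompl (LinearMap.range α).mkQ).restrictScalars R)
      hexq hsurjq ?_
    intro I
    apply Groth.Agent.Lib.helper3.FibBasis.rTensor_map_injective q.primeCompl α (R ⧸ I)
    rw [← LinearMap.lTensor_inj_iff_rTensor_inj]
    exact huniv (R ⧸ I)
  tfae_have 2 → 3 := by
    rintro ⟨h2, hC⟩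
    refine ⟨?_, hC⟩
    have h := h2 R
    intro a b hab
    have h3 : (α.restrictScalars R).lTensor R ((1 : R) ⊗ₜ[R] a) =
        (α.restrictScalars R).lTensor R ((1 : R) ⊗ₜ[R] b) := by
      rw [LinearMap.lTensor_tmul, LinearMap.lTensor_tmul]
      show (1 : R) ⊗ₜ[R] α a = (1 : R) ⊗ₜ[R] α b
      rw [hab]
    have h4 := congrArg (TensorProduct.lid R (Fin r → S)) (h h3)
    simpa using h4
  tfae_have 3 → 4 := by
    rintro ⟨h3, hC⟩
    exact ⟨⟨LocalizedModule.map_injective P.primeCompl α h3, hsurjP⟩, hC⟩
  tfae_have 4 → 5 := by
    rintro ⟨h4, hC⟩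
    exact ⟨Groth.Agent.Lib.helper3.FibBasis.map_injective_of_map_injective q α h4.1, hC⟩
  tfae_have 5 → 1 := by
    rintro ⟨h5, hC⟩
    show Module.Flat R (LocalizedModule q.primeCompl N)
    haveI : Module.Flat R (LocalizedModule q.primeCompl (N ⧸ LinearMap.range α)) := hC
    haveI : Module.Flat R (LocalizedModule q.primeCompl (Fin r → S)) :=
      Groth.Agent.Lib.helper3.FpLocal.flat_localizedModule q.primeCompl (Fin r → S)
    exact Groth.Agent.Lib.helper17.FlatSES.flat_mid_of_exact
      ((LocalizedModule.map q.primeCompl α).restrictScalars R)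
      ((LocalizedModule.map q.primeCompl (LinearMap.range α).mkQ).restrictScalars R)
      h5 hsurjq hexq
  tfae_finish

end Groth.Agent.S1204
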