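import Groth.Statements.S1205
import Groth.Agent.Lib.Helper3.FibBasis2
import Groth.Agent.Lib.Helper3.GIProj4
import Groth.Agent.Lib.Helper17.FlatSES
import Groth.Agent.S0387

set_option autoImplicit false
universe u
open FlatMor

namespace Groth.Agent.S1205

open TensorProduct in
/-- Let S be a finitely presented flat R-algebra with geometrically integral fibres, q a prime of S over
the prime 𝔯 of R, so that 𝔭 = 𝔯S is a prime of S, and N a finitely presented S-module. Then there is
an S-linear map α from a finite free module S^r to N inducing a bijection after base change to κ(𝔭);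
and for any such α the following are equivalent: N_q is flat over R; for some f ∈ R outside 𝔯 the
localization α_f is universally injective over R and for some g ∈ S outside q the localization of
the cokernel at g is flat over R; α localized at (the image of) 𝔯 is universally injective over R
and the cokernel is flat over R at q; α localized at 𝔯 is injective and the cokernel is flat at q; α
localized at 𝔭 is bijective and the cokernel is flat at q; α localized at q is injective and the
cokernel is flat at q. (Universal injectivity over R_f or R_𝔯 of a map of modules over these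
localizations is the same as over R, which is how it is written.) -/
theorem result {R S : Type u} [CommRing R] [CommRing S] [Algebra R S] [Algebra.FinitePresentation R S] [Module.Flat R S]
    (hgi : FlatCA.GeomIntegralFibres R S) (rr : Ideal R) [rr.IsPrime] [(rr.map (algebraMap R S)).IsPrime]
    (q : Ideal S) [q.IsPrime] [q.LiesOver rr]
    (N : Type u) [AddCommGroup N] [Module S N] [Module R N] [IsScalarTower R S N] [Module.FinitePresentation S N] :
    (∃ (r : ℕ) (α : (Fin r → S) →ₗ[S] N), Function.Bijective (α.baseChange (rr.map (algebraMap R S)).ResidueField)) ∧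
    ∀ (r : ℕ) (α : (Fin r → S) →ₗ[S] N), Function.Bijective (α.baseChange (rr.map (algebraMap R S)).ResidueField) →
      [FlatCA.FlatAt R q N,
       (∃ f : R, f ∉ rr ∧ FlatCA.UnivInj R ((LocalizedModule.map (Submonoid.powers (algebraMap R S f)) α).restrictScalars R)) ∧
         (∃ g : S, g ∉ q ∧ Module.Flat R (LocalizedModule (Submonoid.powers g) (N ⧸ LinearMap.range α))),
       FlatCA.UnivInj R ((LocalizedModule.map (Algebra.algebraMapSubmonoid S rr.primeCompl) α).restrictScalars R) ∧ FlatCA.FlatAt R q (N ⧸ LinearMap.range α),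
       Function.Injective (LocalizedModule.map (Algebra.algebraMapSubmonoid S rr.primeCompl) α) ∧ FlatCA.FlatAt R q (N ⧸ LinearMap.range α),
       Function.Bijective (LocalizedModule.map (rr.map (algebraMap R S)).primeCompl α) ∧ FlatCA.FlatAt R q (N ⧸ LinearMap.range α),
       Function.Injective (LocalizedModule.map q.primeCompl α) ∧ FlatCA.FlatAt R q (N ⧸ LinearMap.range α)].TFAE := by
  classical
  set P := rr.map (algebraMap R S) with hPdef
  have hgif := Groth.Agent.Lib.helper3.GIProj.GIF.of_geomIntegralFibres hgi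
  haveI : Module.Projective R S :=
    Groth.Agent.Lib.helper3.GIProj.projective_of_geomIntegralFibres hgi
  refine ⟨Groth.Agent.Lib.helper3.FibBasis.exists_alpha P N, ?_⟩
  intro r α hα
  have hqover : rr = q.comap (algebraMap R S) := Ideal.LiesOver.over (p := rr) (P := q)
  have hPq : P ≤ q := by
    rw [hPdef, Ideal.map_le_iff_le_comap, ← hqover]
  have hcomap : ∀ f : R, algebraMap R S f ∈ P → f ∈ rr := fun f hf => by
    rw [hqover]
    exact hPq hf
  have hTP : ∀ t ∈ Algebra.algebraMapSubmonoid S rr.primeCompl, t ∉ P := by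
    rintro t ⟨f, hf, rfl⟩ ht
    exact hf (hcomap f ht)
  have hTq : ∀ t ∈ Algebra.algebraMapSubmonoid S rr.primeCompl, t ∉ q := by
    rintro t ⟨f, hf, rfl⟩ ht
    apply hf
    rw [hqover]
    exact ht
  have hsurjP : Function.Surjective (LocalizedModule.map P.primeCompl α) :=
    Groth.Agent.Lib.helper3.FibBasis.map_surjective_of_baseChange_surjective P α hα.2
  have hexq := LocalizedModule.map_exact q.primeCompl α (LinearMap.range α).mkQ
    (LinearMap.exact_map_mkQ_range α)
  have hsurjq := LocalizedModule.map_surjective q.primeCompl (LinearMap.range α).mkQ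
    (LinearMap.range α).mkQ_surjective
  tfae_have 1 → 3 := by
    intro h1
    have hK : ∀ (Q : Type u) [AddCommGroup Q] [Module R Q] (x : (Fin r → S) ⊗[R] Q),
        (TensorProduct.AlgebraTensorModule.rTensor R Q α) x = 0 →
        ∃ t : Algebra.algebraMapSubmonoid S rr.primeCompl, t • x = 0 := by
      intro Q _ _ x hx
      obtain ⟨f, hf, hfx⟩ := Groth.Agent.Lib.helper3.FibBasis2.killKer_of_flat rr q.primeCompl
        (fun t ht hP => ht (hPq hP)) α hα.1 h1 Q (TensorProduct.comm R _ Q x) (by
          rw [Groth.Agent.Lib.helper3.FibBasis2.lTensor_comm, hx, map_zero])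
      exact ⟨⟨algebraMap R S f, f, hf, rfl⟩,
        Groth.Agent.Lib.helper3.FibBasis2.smul_eq_zero_of_comm f Q x hfx⟩
    refine ⟨(Groth.Agent.Lib.helper3.FibBasis2.univInj_map_iff _ α).mpr hK, ?_⟩
    show Module.Flat R (LocalizedModule q.primeCompl (N ⧸ LinearMap.range α))
    haveI : Module.Flat R (LocalizedModule q.primeCompl N) := h1
    refine Groth.Agent.Lib.helper3.FibBasis.flat_of_exact_of_univInj
      ((LocalizedModule.map q.primeCompl α).restrictScalars R)
      ((LocalizedModule.map q.primeCompl (LinearMap.range α).mkQ).restrictScalars R)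
      hexq hsurjq ?_
    intro I
    rw [Groth.Agent.Lib.helper3.FibBasis2.rTensor_map_injective_iff]
    intro x hx
    obtain ⟨t, ht⟩ := hK (R ⧸ I) x hx
    exact ⟨⟨t.1, hTq t.1 t.2⟩, ht⟩
  tfae_have 3 → 4 := by
    rintro ⟨h3, hC⟩
    refine ⟨?_, hC⟩
    rw [Groth.Agent.Lib.helper3.FibBasis2.univInj_map_iff] at h3
    rw [Groth.Agent.Lib.helper3.FibBasis2.map_injective_iff']
    intro x hx
    obtain ⟨t, ht⟩ := h3 R (x ⊗ₜ[R] (1 : R)) (by
      rw [TensorProduct.AlgebraTensorModule.rTensor_tmul, hx, TensorProduct.zero_tmul])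
    refine ⟨t, ?_⟩
    have h4 := congrArg (TensorProduct.rid R (Fin r → S)) ht
    rw [map_zero] at h4
    have h5 : t • (x ⊗ₜ[R] (1 : R)) = ((t : S) • x) ⊗ₜ[R] (1 : R) := by
      rw [Submonoid.smul_def, TensorProduct.smul_tmul']
    rw [h5, TensorProduct.rid_tmul, one_smul] at h4
    exact h4
  tfae_have 4 → 5 := by
    rintro ⟨h4, hC⟩
    refine ⟨⟨?_, hsurjP⟩, hC⟩
    rw [Groth.Agent.Lib.helper3.FibBasis2.map_injective_iff'] at h4 ⊢
    intro x hx
    obtain ⟨t, ht⟩ := h4 x hx
    exact ⟨⟨t.1, hTP t.1 t.2⟩, ht⟩
  tfae_have 5 → 6 := by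
    rintro ⟨h5, hC⟩
    refine ⟨?_, hC⟩
    have h5i := h5.1
    rw [Groth.Agent.Lib.helper3.FibBasis2.map_injective_iff'] at h5i ⊢
    intro x hx
    obtain ⟨t, ht⟩ := h5i x hx
    obtain ⟨f, hf, hfx⟩ := Groth.Agent.Lib.helper3.FibBasis2.killKer_smul rr hcomap t.1 t.2 R
      ((1 : R) ⊗ₜ[R] x) (by
        rw [LinearMap.lTensor_tmul]
        show (1 : R) ⊗ₜ[R] ((t : S) • x) = 0
        have : (t : S) • x = 0 := ht
        rw [this, TensorProduct.tmul_zero])
    have h6 := congrArg (TensorProduct.lid R (Fin r → S)) hfx
    rw [map_zero, TensorProduct.smul_tmul', TensorProduct.lid_tmul, smul_eq_mul, mul_one] at h6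
    refine ⟨⟨algebraMap R S f, ?_⟩, ?_⟩
    · intro hmem
      apply hf
      rw [hqover]
      exact hmem
    · show algebraMap R S f • x = 0
      rw [algebraMap_smul]
      exact h6
  tfae_have 6 → 1 := by
    rintro ⟨h6, hC⟩
    show Module.Flat R (LocalizedModule q.primeCompl N)
    haveI : Module.Flat R (LocalizedModule q.primeCompl (N ⧸ LinearMap.range α)) := hC
    haveI : Module.Flat R (Fin r → S) :=
      Module.Flat.of_linearEquiv
        (DFinsupp.linearEquivFunOnFintype (R := R) (M := fun _ : Fin r => S)).symm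
    haveI : Module.Flat R (LocalizedModule q.primeCompl (Fin r → S)) :=
      Groth.Agent.Lib.helper3.FpLocal.flat_localizedModule q.primeCompl (Fin r → S)
    exact Groth.Agent.Lib.helper17.FlatSES.flat_mid_of_exact
      ((LocalizedModule.map q.primeCompl α).restrictScalars R)
      ((LocalizedModule.map q.primeCompl (LinearMap.range α).mkQ).restrictScalars R)
      h6 hsurjq hexq
  tfae_have 2 → 3 := by
    rintro ⟨⟨f, hf, hU⟩, ⟨g', hg', hflat⟩⟩
    refine ⟨?_, (Groth.Agent.Lib.helper3.FlatAtLib.flat_away_iff _ g').mp hflat q hg'⟩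
    rw [Groth.Agent.Lib.helper3.FibBasis2.univInj_map_iff] at hU ⊢
    intro Q _ _ x hx
    obtain ⟨⟨t, n, rfl⟩, ht⟩ := hU Q x hx
    refine ⟨⟨(algebraMap R S f) ^ n, f ^ n, ?_, by rw [map_pow]⟩, ht⟩
    exact fun hmem => hf (Ideal.IsPrime.mem_of_pow_mem inferInstance n hmem)
  tfae_have 5 → 2 := by
    rintro ⟨h5, hC⟩
    have h5i := h5.1
    have h5s := h5.2
    rw [Groth.Agent.Lib.helper3.FibBasis2.map_injective_iff'] at h5i
    rw [Groth.Agent.Lib.helper3.FibBasis2.map_surjective_iff'] at h5s
    obtain ⟨g, hg, δ, hδ⟩ := Groth.Agent.Lib.helper3.FibBasis2.exists_quasiInverse P α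
      (fun x hx => by obtain ⟨t, ht⟩ := h5i x hx; exact ⟨t.1, t.2, ht⟩)
      (fun n => by obtain ⟨t, y, hy⟩ := h5s n; exact ⟨t.1, t.2, y, hy⟩)
    constructor
    · haveI : Algebra.HasGoingDown R S := inferInstance
      have hopen := PrimeSpectrum.isOpenMap_comap_of_hasGoingDown_of_finitePresentation
        (R := R) (S := S) _ (PrimeSpectrum.basicOpen g).isOpen
      have hPcomap : P.comap (algebraMap R S) = rr := by
        apply le_antisymm
        · intro f hf
          exact hcomap f hf
        · exact Ideal.le_comap_map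
      have hrr_mem : (⟨rr, inferInstance⟩ : PrimeSpectrum R) ∈
          PrimeSpectrum.comap (algebraMap R S) '' (PrimeSpectrum.basicOpen g : Set _) :=
        ⟨⟨P, inferInstance⟩, hg, PrimeSpectrum.ext hPcomap⟩
      obtain ⟨_, ⟨f, rfl⟩, hrf, hsub⟩ :=
        PrimeSpectrum.isTopologicalBasis_basic_opens.exists_subset_of_mem_open hrr_mem hopen
      refine ⟨f, hrf, ?_⟩
      rw [Groth.Agent.Lib.helper3.FibBasis2.univInj_map_iff]
      intro Q _ _ x hx
      have hgx : g • x = 0 := by
        rw [← Groth.Agent.Lib.helper3.FibBasis2.rTensor_comp_apply α δ g hδ Q x, hx, map_zero]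
      let φ : R →ₗ[R] (Fin r → S) ⊗[R] Q := LinearMap.toSpanSingleton R _ x
      let 𝔞 : Ideal R := LinearMap.ker φ
      have hrad : f ∈ 𝔞.radical := by
        rw [Ideal.radical_eq_sInf, Ideal.mem_sInf]
        rintro r' ⟨hr'a, hr'p⟩
        by_contra hfr'
        haveI := hr'p
        obtain ⟨Q'pt, hQ'g, hQ'eq⟩ := hsub (show (⟨r', inferInstance⟩ : PrimeSpectrum R) ∈
          (PrimeSpectrum.basicOpen f : Set _) from hfr')
        have hQ'comap : Q'pt.asIdeal.comap (algebraMap R S) = r' :=
          congrArg PrimeSpectrum.asIdeal hQ'eq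
        haveI hP' : (r'.map (algebraMap R S)).IsPrime :=
          Groth.Agent.Lib.helper3.GIPrime.map_isPrime hgif r'
        have hP'Q' : r'.map (algebraMap R S) ≤ Q'pt.asIdeal := by
          rw [Ideal.map_le_iff_le_comap, hQ'comap]
        have hgP' : g ∉ r'.map (algebraMap R S) := fun h => hQ'g (hP'Q' h)
        have hcomap' : ∀ f₀ : R, algebraMap R S f₀ ∈ r'.map (algebraMap R S) → f₀ ∈ r' := by
          intro f₀ hf₀
          rw [← hQ'comap]
          exact hP'Q' hf₀
        obtain ⟨f', hf', hf'x⟩ := Groth.Agent.Lib.helper3.FibBasis2.killKer_smul r' hcomap' g hgP'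
          Q (TensorProduct.comm R _ Q x) (by
            have := Groth.Agent.Lib.helper3.FibBasis2.lTensor_comm
              (LinearMap.lsmul S (Fin r → S) g) Q x
            rw [this]
            have h2 : ∀ y : (Fin r → S) ⊗[R] Q, (TensorProduct.AlgebraTensorModule.rTensor R Q
                (LinearMap.lsmul S (Fin r → S) g)) y = g • y := by
              intro y
              induction y using TensorProduct.induction_on with
              | zero => simp
              | add a b ha hb => rw [map_add, smul_add, ha, hb]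
              | tmul m q =>
                rw [TensorProduct.AlgebraTensorModule.rTensor_tmul, TensorProduct.smul_tmul']
                rfl
            rw [h2, hgx, map_zero])
        apply hf'
        apply hr'a
        have h3 := Groth.Agent.Lib.helper3.FibBasis2.smul_eq_zero_of_comm (S := S) f' Q x hf'x
        rw [algebraMap_smul] at h3
        simpa [𝔞, φ] using h3
      obtain ⟨n, hn⟩ := hrad
      have hn' : (f ^ n) • x = 0 := by simpa [𝔞, φ] using hn
      refine ⟨⟨(algebraMap R S f) ^ n, n, rfl⟩, ?_⟩
      show ((algebraMap R S f) ^ n) • x = 0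
      rw [← map_pow, algebraMap_smul]
      exact hn'
    · haveI : Module.FinitePresentation S (N ⧸ LinearMap.range α) :=
        Module.finitePresentation_of_surjective (LinearMap.range α).mkQ
          (LinearMap.range α).mkQ_surjective (by
            rw [Submodule.ker_mkQ, LinearMap.range_eq_map]
            exact (Module.Finite.fg_top).map α)  
      have hopen := Groth.Agent.S0387.result (R := R) (S := S) (M := N ⧸ LinearMap.range α)
      have hq_mem : (⟨q, inferInstance⟩ : PrimeSpectrum S) ∈
          {q : PrimeSpectrum S | Module.Flat R (LocalizedModule q.asIdeal.primeCompl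
            (N ⧸ LinearMap.range α))} := hC
      obtain ⟨_, ⟨g', rfl⟩, hqg', hsub⟩ :=
        PrimeSpectrum.isTopologicalBasis_basic_opens.exists_subset_of_mem_open hq_mem hopen
      refine ⟨g', hqg', ?_⟩
      rw [Groth.Agent.Lib.helper3.FlatAtLib.flat_away_iff]
      intro P' _ hP'
      exact hsub (show (⟨P', inferInstance⟩ : PrimeSpectrum S) ∈
        (PrimeSpectrum.basicOpen g' : Set _) from hP')
  tfae_finish

end Groth.Agent.S1205
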