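import Groth.Statements.S12244
import Groth.Agent.Lib.Helper3.BijRes4

set_option autoImplicit false
universe u
open FlatMor

namespace Groth.Agent.S12244

open Groth.Agent.Lib.helper3 TensorProduct
set_option linter.style.haveILetI false

open TensorProduct in
/-- All schemes are affine. Let R → S be of finite type, N a finite S-module, p ⊆ R and q ⊆ S primes, 𝒟
a complete dévissage of N/S/R over p in the prelude's algebraic form and 𝒜 a datum making it a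
complete dévissage at q (primes qB_i ⊆ B_i over p with purely transcendental residue fields, unique
primes qA_i ⊆ A_i over them, threaded through q and through the maps B_i → A_{i+1}, relative
dimensions d_i of R → B_i equal to the local dimension of the fibre support of M_i at qB_i). Let R →
R' be a ring map and p' a prime over p with κ(p) → κ(p') bijective, S' the base change of S, N' = N
⊗_S S', and q' a prime of S' over q and over p'. Let 𝒟' be a complete dévissage of N'/S'/R' over p'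
of the same length whose rings A'_i, B'_i (i below the length) are base changes of A_i, B_i along R
→ R' compatibly with B_i → A_i, B_i → A_{i+1}, S → A_0 and S' → A'_0, and whose modules M'_i are
base changes of M_i along A_i → A'_i compatibly with N ≅ M_0 and N' ≅ M'_0. Assume moreover that at
every index at or beyond the length the ring B'_i has a prime over p' and A'_i a prime over that one
(the structure's families run over all natural numbers and constrain nothing at those indices, while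
a datum at a point asks for such primes at every index; the condition touches only this
unconstrained tail and holds, for instance, when the tail repeats the last genuine step — without it
the zero ring could sit there and no datum would exist). Then 𝒟' is a complete dévissage at q' with
the same relative dimensions: there is a datum 𝒜' for (𝒟', q') with d' = d whose primes qB'_i, qA'_i
lie over qB_i, qA_i for every step i below the length. -/
theorem result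
    (R S : Type u) [CommRing R] [CommRing S] [Algebra R S] [Algebra.FiniteType R S]
    (N : Type u) [AddCommGroup N] [Module S N] [Module.Finite S N]
    (p : Ideal R) [p.IsPrime] (q : Ideal S) [q.IsPrime] (𝒟 : FlatCA.CompleteDevissage R S N p)
    (𝒜 : FlatCA.CompleteDevissageAt R S N p q 𝒟)
    (R' : Type u) [CommRing R'] [Algebra R R'] (p' : Ideal R') [p'.IsPrime] [hp' : p'.LiesOver p]
    (hκ : Function.Bijective (Ideal.ResidueField.mapₐ p p' (Algebra.ofId R R') hp'.over))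
    (S' : Type u) [CommRing S'] [Algebra R' S'] [Algebra R S'] [Algebra S S'] [IsScalarTower R R' S']
    [IsScalarTower R S S'] [Algebra.IsPushout R R' S S']
    (N' : Type u) [AddCommGroup N'] [Module S' N'] [Module S N'] [IsScalarTower S S' N']
    (f : N →ₗ[S] N') (hf : IsBaseChange S' f)
    (q' : Ideal S') [q'.IsPrime] [q'.LiesOver q] [q'.LiesOver p']
    (𝒟' : FlatCA.CompleteDevissage R' S' N' p') (hn : 𝒟'.n = 𝒟.n)
    (htail : ∀ i, 𝒟.n ≤ i → ∃ (Q : Ideal (𝒟'.B i)) (P : Ideal (𝒟'.A i)),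
      Q.IsPrime ∧ P.IsPrime ∧ Q.LiesOver p' ∧ P.LiesOver Q)
    [aA : ∀ i : Fin 𝒟.n, Algebra (𝒟.A i) (𝒟'.A i)] [rA : ∀ i : Fin 𝒟.n, Algebra R (𝒟'.A i)]
      [∀ i : Fin 𝒟.n, IsScalarTower R (R') (𝒟'.A i)] [∀ i : Fin 𝒟.n, IsScalarTower R (𝒟.A i) (𝒟'.A i)]
      [aB : ∀ i : Fin 𝒟.n, Algebra (𝒟.B i) (𝒟'.B i)] [rB : ∀ i : Fin 𝒟.n, Algebra R (𝒟'.B i)]
      [∀ i : Fin 𝒟.n, IsScalarTower R (R') (𝒟'.B i)] [∀ i : Fin 𝒟.n, IsScalarTower R (𝒟.B i) (𝒟'.B i)]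
      [bA : ∀ i : Fin 𝒟.n, Algebra (𝒟.B i) (𝒟'.A i)] [∀ i : Fin 𝒟.n, IsScalarTower (𝒟.B i) (𝒟.A i) (𝒟'.A i)]
      [∀ i : Fin 𝒟.n, IsScalarTower (𝒟.B i) (𝒟'.B i) (𝒟'.A i)]
      [bA' : ∀ i : Fin 𝒟.n, Algebra (𝒟.B i) (𝒟'.A (i + 1))]
      [∀ i : Fin 𝒟.n, IsScalarTower (𝒟.B i) (𝒟'.B i) (𝒟'.A (i + 1))]
      [sA : Algebra S (𝒟'.A 0)] [IsScalarTower S (S') (𝒟'.A 0)]
      [mA : ∀ i : Fin 𝒟.n, Module (𝒟.A i) (𝒟'.M i)] [∀ i : Fin 𝒟.n, IsScalarTower (𝒟.A i) (𝒟'.A i) (𝒟'.M i)]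
      (gM : ∀ i : Fin 𝒟.n, 𝒟.M i →ₗ[𝒟.A i] 𝒟'.M i)
    (hbc : (letI := aA ⟨0, 𝒟.pos⟩; IsScalarTower S (𝒟.A 0) (𝒟'.A 0)) ∧
      (∀ x : N, 𝒟'.isoN (f x) = gM ⟨0, 𝒟.pos⟩ (𝒟.isoN x)) ∧
      (∀ (i : Fin 𝒟.n) (h : (i : ℕ) + 1 < 𝒟.n),
        letI := aA ⟨i + 1, h⟩; IsScalarTower (𝒟.B i) (𝒟.A (i + 1)) (𝒟'.A (i + 1))) ∧
      ∀ i : Fin 𝒟.n,
        Algebra.IsPushout R R' (𝒟.A i) (𝒟'.A i) ∧ Algebra.IsPushout R R' (𝒟.B i) (𝒟'.B i) ∧
        IsBaseChange (𝒟'.A i) (gM i)) :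
    ∃ 𝒜' : FlatCA.CompleteDevissageAt R' S' N' p' q' 𝒟', 𝒜'.d = 𝒜.d ∧
      ∀ i : Fin 𝒟.n, (𝒜'.qB i).LiesOver (𝒜.qB i) ∧ (𝒜'.qA i).LiesOver (𝒜.qA i) := by
  classical
  have hκs := hκ.2
  haveI := 𝒜.hqB
  haveI := 𝒜.hqA
  haveI := 𝒜.overB
  haveI := 𝒜.overA
  obtain ⟨hb1, hb2, hb3, hb4⟩ := hbc
  have key : ∀ i : ℕ, ∃ (Q : Ideal (𝒟'.B i)) (P : Ideal (𝒟'.A i)), Q.IsPrime ∧ P.IsPrime ∧
      Q.LiesOver p' ∧ P.LiesOver Q ∧ ∀ h : i < 𝒟.n,
        (letI := aB ⟨i, h⟩; Q.LiesOver (𝒜.qB i)) ∧ (letI := aA ⟨i, h⟩; P.LiesOver (𝒜.qA i)) := by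
    intro i
    by_cases h : i < 𝒟.n
    · obtain ⟨j, rfl⟩ : ∃ j : Fin 𝒟.n, (j : ℕ) = i := ⟨⟨i, h⟩, rfl⟩
      obtain ⟨hA, hB, hM⟩ := hb4 j
      haveI := hA
      haveI := hB
      haveI : (𝒜.qA j).LiesOver p := Ideal.LiesOver.trans (𝒜.qA j) (𝒜.qB j) p
      obtain ⟨Q, hQ, hQp, hQq⟩ := BijRes.exists_prime_over p p' hκ (𝒟.B j) (𝒟'.B j) (𝒜.qB j)
      obtain ⟨P, hP, hPp, hPq⟩ := BijRes.exists_prime_over p p' hκ (𝒟.A j) (𝒟'.A j) (𝒜.qA j)
      refine ⟨Q, P, hQ, hP, hQp, ?_, fun _ => ⟨hQq, hPq⟩⟩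
      constructor
      haveI : (P.under (𝒟'.B j)).IsPrime := Ideal.IsPrime.under _ P
      refine (BijRes.eq_of_under_eq p p' hκs (𝒟.B j) (𝒟'.B j) (P.under (𝒟'.B j)) Q ?_
        hQp.over.symm ?_).symm
      · rw [Ideal.under_under]
        exact hPp.over.symm
      · rw [Ideal.under_under, ← Ideal.under_under (B := 𝒟.A j), ← hPq.over,
          ← (𝒜.overA j).over, ← hQq.over]
    · obtain ⟨Q, P, hQ, hP, hQp, hPQ⟩ := htail i (not_lt.mp h)
      exact ⟨Q, P, hQ, hP, hQp, hPQ, fun h' => absurd h' h⟩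
  choose Q P hQ hP hQp hPQ hover using key
  have hn' : ∀ i, i < 𝒟'.n → i < 𝒟.n := fun i hi => hn ▸ hi
  refine ⟨{ qB := Q, qA := P, hqB := hQ, hqA := hP, overB := hQp, overA := hPQ,
            pureTrans := ?_, uniq := ?_, q0 := ?_, qStep := ?_, d := 𝒜.d, relDim := ?_,
            locDim := ?_ }, rfl, fun i => hover i i.2⟩
  · intro i hi
    obtain ⟨j, rfl⟩ : ∃ j : Fin 𝒟.n, (j : ℕ) = i := ⟨⟨i, hn' i hi⟩, rfl⟩
    obtain ⟨hA, hB, hM⟩ := hb4 j
    haveI := hB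
    haveI := hQ j
    haveI := hQp j
    haveI : (Q j).LiesOver (𝒜.qB j) := (hover j j.2).1
    exact BijRes.purelyTranscendental_baseChange p p' hκs (𝒟.B j) (𝒟'.B j) (𝒜.qB j) (Q j)
      (𝒜.pureTrans j j.2)
  · intro i hi Q₁ _ hQ₁
    obtain ⟨j, rfl⟩ : ∃ j : Fin 𝒟.n, (j : ℕ) = i := ⟨⟨i, hn' i hi⟩, rfl⟩
    obtain ⟨hA, hB, hM⟩ := hb4 j
    haveI := hA
    haveI := hB
    haveI := hQ j
    haveI := hP j
    have hQq : (Q j).LiesOver (𝒜.qB j) := (hover j j.2).1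
    have hPq : (P j).LiesOver (𝒜.qA j) := (hover j j.2).2
    haveI : (Q₁.under (𝒟.A j)).IsPrime := Ideal.IsPrime.under _ Q₁
    have h1 : Q₁.under (𝒟.A j) = 𝒜.qA j := by
      apply 𝒜.uniq j j.2
      constructor
      rw [Ideal.under_under, ← Ideal.under_under (B := 𝒟'.B j), ← hQ₁.over, ← hQq.over]
    refine BijRes.eq_of_under_eq p p' hκs (𝒟.A j) (𝒟'.A j) Q₁ (P j) ?_ ?_ ?_
    · rw [← Ideal.under_under (B := 𝒟'.B j), ← hQ₁.over]
      exact (hQp j).over.symm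
    · rw [← Ideal.under_under (B := 𝒟'.B j), ← (hPQ j).over]
      exact (hQp j).over.symm
    · rw [h1]
      exact hPq.over
  · let j0 : Fin 𝒟.n := ⟨0, 𝒟.pos⟩
    letI : Algebra (𝒟.A 0) (𝒟'.A 0) := aA j0
    haveI : IsScalarTower S (𝒟.A 0) (𝒟'.A 0) := hb1
    haveI := hP 0
    haveI := hQ 0
    have hPq : (P 0).LiesOver (𝒜.qA 0) := (hover 0 𝒟.pos).2
    haveI : ((P 0).under S').IsPrime := Ideal.IsPrime.under _ (P 0)
    refine BijRes.eq_of_under_eq p p' hκs S S' ((P 0).under S') q' ?_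
      (Ideal.LiesOver.over (p := p') (P := q')).symm ?_
    · rw [Ideal.under_under, ← Ideal.under_under (B := 𝒟'.B 0), ← (hPQ 0).over]
      exact (hQp 0).over.symm
    · rw [Ideal.under_under, ← Ideal.under_under (B := 𝒟.A 0), ← hPq.over,
        ← Ideal.LiesOver.over (p := q) (P := q')]
      exact 𝒜.q0
  · intro i hi
    have h1 : i + 1 < 𝒟.n := hn' _ hi
    obtain ⟨j, rfl⟩ : ∃ j : Fin 𝒟.n, (j : ℕ) = i := ⟨⟨i, by omega⟩, rfl⟩
    obtain ⟨hA, hB, hM⟩ := hb4 j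
    haveI := hB
    letI : Algebra (𝒟.A (j + 1)) (𝒟'.A (j + 1)) := aA ⟨j + 1, h1⟩
    haveI : IsScalarTower (𝒟.B j) (𝒟.A (j + 1)) (𝒟'.A (j + 1)) := hb3 j h1
    haveI := hP (j + 1)
    haveI := hQ j
    have hPq : (P (j + 1)).LiesOver (𝒜.qA (j + 1)) := (hover (j + 1) h1).2
    have hQq : (Q j).LiesOver (𝒜.qB j) := (hover j j.2).1
    haveI : ((P (j + 1)).under (𝒟'.B j)).IsPrime := Ideal.IsPrime.under _ _
    refine BijRes.eq_of_under_eq p p' hκs (𝒟.B j) (𝒟'.B j) ((P (j + 1)).under (𝒟'.B j)) (Q j) ?_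
      (hQp j).over.symm ?_
    · rw [Ideal.under_under, ← Ideal.under_under (B := 𝒟'.B (j + 1)), ← (hPQ (j + 1)).over]
      exact (hQp (j + 1)).over.symm
    · rw [Ideal.under_under, ← Ideal.under_under (B := 𝒟.A (j + 1)), ← hPq.over, ← hQq.over]
      exact 𝒜.qStep j h1
  · intro i hi
    obtain ⟨j, rfl⟩ : ∃ j : Fin 𝒟.n, (j : ℕ) = i := ⟨⟨i, hn' i hi⟩, rfl⟩
    obtain ⟨hA, hB, hM⟩ := hb4 j
    haveI := hB
    exact BijRes.smoothRelDim_baseChange (𝒜.d j) R R' (𝒟.B j) (𝒟'.B j) (𝒜.relDim j j.2)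
  · intro i hi
    obtain ⟨j, rfl⟩ : ∃ j : Fin 𝒟.n, (j : ℕ) = i := ⟨⟨i, hn' i hi⟩, rfl⟩
    obtain ⟨hA, hB, hM⟩ := hb4 j
    haveI := hA
    haveI := hB
    haveI := 𝒟.finiteBA j j.2
    haveI := 𝒟.finiteM j j.2
    haveI := hQ j
    haveI := hQp j
    haveI : (Q j).LiesOver (𝒜.qB j) := (hover j j.2).1
    exact BijRes.locDim_baseChange p p' hκ (𝒟.B j) (𝒟'.B j) (𝒟.A j) (𝒟'.A j) (𝒟.M j) (𝒟'.M j)
      (gM j) hM (𝒜.qB j) (Q j) (𝒜.d j) (𝒜.locDim j j.2)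

end Groth.Agent.S12244
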