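import Groth.Statements.S1249
import Groth.Agent.Lib.Helper26.ElemDevA4
import Groth.Agent.Lib.Helper26.ElemDevA6
import Groth.Agent.Lib.Helper26.ElemDevC6

set_option linter.style.haveILetI false

set_option autoImplicit false
universe u
open FlatMor

namespace Groth.Agent.S1249

/-- Ring form, X = Spec S and S = Spec R affine: let S be a finite type R-algebra, N a finite S-module
and q a prime of S over p; let x be the point of the fibre Spec(κ(p) ⊗ S) given by q, assume x lies
in the support of the fibre module of N and let n be the local dimension of that support at x. Then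
there is an elementary dévissage of N at q in dimension n: étale neighbourhood rings R' of (R, p)
and S' of (S, q), a finitely presented quotient C of S' with a finite C-module G identified with the
base change of N, a smooth R'-algebra D of relative dimension n with geometrically integral fibres
and a finite map D → C, and compatible primes, with exactly one prime of C over the chosen prime y
of D and κ(y) purely transcendental over κ(p') (see FlatCA.ElemDevissage). -/
theorem result {R S : Type u} [CommRing R] [CommRing S] [Algebra R S] [Algebra.FiniteType R S]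
    (N : Type u) [AddCommGroup N] [Module S N] [Module R N] [IsScalarTower R S N] [Module.Finite S N]
    (p : Ideal R) [p.IsPrime] (q : Ideal S) [q.IsPrime] [q.LiesOver p] (n : ℕ)
    (x : PrimeSpectrum (p.Fiber S)) (hxq : x.asIdeal = FlatCA.fiberIdeal p q)
    (hx : x ∈ Module.support (p.Fiber S) (FlatCA.fiberMod p S N))
    (hn : FlatMor.localDim (Module.support (p.Fiber S) (FlatCA.fiberMod p S N)) ⟨x, hx⟩ = n) :
    Nonempty (FlatCA.ElemDevissage R S N p q n) := by
  obtain ⟨J₀, r, s, hJfg, hJN, hJq, hqf, hcomap⟩ :=
    Groth.Agent.Lib.helper26.ElemDevA.exists_coordinates N p q n x hxq hx hn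
  letI algAS : Algebra (MvPolynomial (Fin n) R) S :=
    (MvPolynomial.aeval (R := R) s).toRingHom.toAlgebra
  haveI : IsScalarTower R (MvPolynomial (Fin n) R) S := IsScalarTower.of_algebraMap_eq fun a =>
    ((MvPolynomial.aeval (R := R) s).commutes a).symm
  refine Groth.Agent.Lib.helper26.ElemDevC.nonempty_elemDevissage_of_coordinates N p q n J₀ hJfg
    hJN hJq ?_ ?_
  · intro _
    have h1 : (MvPolynomial.aeval (R := R) (fun i => Ideal.Quotient.mk J₀ (s i))).toRingHom =
        (Ideal.Quotient.mk J₀).comp (MvPolynomial.aeval (R := R) s).toRingHom := by
      apply MvPolynomial.ringHom_ext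
      · intro c
        simp
      · intro i
        simp
    have heq : (MvPolynomial.aeval (R := R) (fun i => Ideal.Quotient.mk J₀ (s i))).toRingHom.toAlgebra =
        (inferInstance : Algebra (MvPolynomial (Fin n) R) (S ⧸ J₀)) :=
      Algebra.algebra_ext _ _ (fun a => congrArg (fun f : MvPolynomial (Fin n) R →+* S ⧸ J₀ => f a) h1)
    have h2 := hqf
    unfold RingHom.QuasiFiniteAt at h2
    rw [heq] at h2
    exact h2
  · intro _ _
    exact Groth.Agent.Lib.helper26.ElemDevA.purelyTranscendental_polyPrime p n r _ hcomap

end Groth.Agent.S1249
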