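import Groth.Statements.S1285
import Groth.Agent.Lib.Helper3.OneStep2

set_option autoImplicit false
universe u
open FlatMor

namespace Groth.Agent.S1285

open Groth.Agent.Lib.helper3 TensorProduct
set_option linter.style.haveILetI false

/-- Let (C, D, G) be a one-step dévissage of N/S/R over the prime p (see FlatCA.IsOneStepDevissage), and
suppose pD is prime (the generic point of the fibre of Spec D). Then there are r > 0 and a D-linear
map α from D^r to G which becomes bijective after base change to the residue field of pD; moreover
for every such α the support of the fibre module over p of the cokernel of α has dimension strictly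
less than that of the fibre module of N. -/
theorem result {R S : Type u} [CommRing R] [CommRing S] [Algebra R S] [Algebra.FiniteType R S]
    (N : Type u) [AddCommGroup N] [Module S N] [Module R N] [IsScalarTower R S N] [Module.Finite S N] (p : Ideal R) [p.IsPrime]
    (C D G : Type u) [CommRing C] [CommRing D] [Algebra S C] [Algebra R C] [IsScalarTower R S C]
    [Algebra R D] [Algebra D C] [IsScalarTower R D C] [AddCommGroup G] [Module C G] [Module S G] [IsScalarTower S C G]
    [Module D G] [IsScalarTower D C G] [Module R G] [IsScalarTower R D G]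
    (n : ℕ) (h : FlatCA.IsOneStepDevissage R S N p C D G n) [(p.map (algebraMap R D)).IsPrime] :
    (∃ (r : ℕ) (α : (Fin r → D) →ₗ[D] G), 0 < r ∧ Function.Bijective (α.baseChange (p.map (algebraMap R D)).ResidueField)) ∧
    ∀ (r : ℕ) (α : (Fin r → D) →ₗ[D] G), Function.Bijective (α.baseChange (p.map (algebraMap R D)).ResidueField) →
      Module.supportDim (p.Fiber D) (FlatCA.fiberMod p D (G ⧸ LinearMap.range α)) < (n : WithBot ℕ∞) := by
  classical
  obtain ⟨⟨e⟩, hsurj, hfp, hfinDC, hfinCG, hsm, hgi, hdim⟩ := h
  haveI := hfinDC
  haveI := hfinCG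
  haveI : Module.Finite D G := Module.Finite.trans C G
  haveI : IsDomain (p.Fiber D) := OneStep.isDomain_fiber p n hsm hgi
  haveI : (p.map (algebraMap R D)).LiesOver p := OneStep.liesOver_map p
  have hdimD : ringKrullDim (p.Fiber D) ≤ (n : WithBot ℕ∞) := OneStep.ringKrullDim_fiber_le p n hsm
  have hlt : ∀ {x : WithBot ℕ∞}, x + 1 ≤ (n : WithBot ℕ∞) → x < (n : WithBot ℕ∞) := by
    intro x hx
    induction x using WithBot.recBotCoe with
    | bot => exact WithBot.bot_lt_coe _
    | coe x =>
      have h' : ((x + 1 : ℕ∞) : WithBot ℕ∞) ≤ (((n : ℕ∞)) : WithBot ℕ∞) := hx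
      rw [WithBot.coe_le_coe] at h'
      have hx' : x ≠ ⊤ := by
        rintro rfl
        simp at h'
      have := (ENat.add_one_le_iff hx').mp h'
      exact WithBot.coe_lt_coe.mpr this
  have key : ∀ (M : Type u) [AddCommGroup M] [Module D M] [Module R M] [IsScalarTower R D M]
      [Module.Finite D M],
      Subsingleton ((p.map (algebraMap R D)).ResidueField ⊗[D] M) →
      Module.supportDim (p.Fiber D) (FlatCA.fiberMod p D M) < (n : WithBot ℕ∞) := by
    intro M _ _ _ _ _ hM
    have h1 := OneStep.supportDim_succ_le p M (p.map (algebraMap R D))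
      (OneStep.not_annihilator_le_of_subsingleton M _ hM)
    exact hlt (h1.trans hdimD)
  obtain ⟨r, α, hα⟩ := FibBasis.exists_alpha (p.map (algebraMap R D)) G
  refine ⟨⟨r, α, ?_, hα⟩, ?_⟩
  · by_contra hr
    have hr0 : r = 0 := by omega
    subst hr0
    have hsub : Subsingleton ((p.map (algebraMap R D)).ResidueField ⊗[D] G) := by
      haveI : Subsingleton ((p.map (algebraMap R D)).ResidueField ⊗[D] (Fin 0 → D)) := by
        refine ⟨fun a b => ?_⟩
        have hall : ∀ z : (p.map (algebraMap R D)).ResidueField ⊗[D] (Fin 0 → D), z = 0 := by
          intro z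
          induction z using TensorProduct.induction_on with
          | zero => rfl
          | tmul x y =>
            rw [Subsingleton.elim y 0, TensorProduct.tmul_zero]
          | add x y hx hy => rw [hx, hy, add_zero]
        rw [hall a, hall b]
      exact hα.surjective.subsingleton
    have h1 := key G hsub
    have h2 : (n : WithBot ℕ∞) ≤ Module.supportDim (p.Fiber D) (FlatCA.fiberMod p D G) := by
      haveI : Module.Finite S C := Module.Finite.of_surjective (Algebra.linearMap S C) hsurj
      haveI : Module.Finite S G := Module.Finite.trans C G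
      rw [← hdim, OneStep.supportDim_fiberMod_eq p S N, OneStep.supportDim_fiberMod_eq p D G]
      have hT : OneStep.T p S N = OneStep.T p S G := by
        unfold OneStep.T
        rw [e.annihilator_eq]
      rw [hT]
      exact OneStep.krullDim_T_le p G hsurj
    exact absurd (lt_of_lt_of_le h1 h2) (lt_irrefl _)
  · intro r α hα
    apply key
    refine ⟨fun a b => ?_⟩
    have hzero : (LinearMap.range α).mkQ ∘ₗ α = 0 := LinearMap.range_mkQ_comp α
    have hall : ∀ z : (p.map (algebraMap R D)).ResidueField ⊗[D] (G ⧸ LinearMap.range α),
        z = 0 := by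
      intro z
      obtain ⟨y, rfl⟩ := (LinearMap.lTensor_surjective (p.map (algebraMap R D)).ResidueField
        (Submodule.mkQ_surjective (LinearMap.range α))) z
      obtain ⟨x, rfl⟩ := hα.surjective y
      have h3 : (LinearMap.lTensor (p.map (algebraMap R D)).ResidueField (LinearMap.range α).mkQ)
          (α.baseChange (p.map (algebraMap R D)).ResidueField x) =
          (((LinearMap.range α).mkQ ∘ₗ α).baseChange (p.map (algebraMap R D)).ResidueField) x := by
        rw [LinearMap.baseChange_comp]
        rfl
      rw [h3, hzero, LinearMap.baseChange_zero]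
      rfl
    rw [hall a, hall b]

end Groth.Agent.S1285
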