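import Groth.Statements.S1252
import Groth.Agent.Lib.Helper26.DevMain10
import Groth.Agent.Lib.Helper26.DevCons4

set_option linter.style.haveILetI false

set_option autoImplicit false
universe u
open FlatMor

namespace Groth.Agent.S1252

/-- Existence of a complete dévissage after étale localization, in affine algebraic form. Let S be a
finite type R-algebra, N a finite S-module, p a prime of R and q a prime of S over p such that the
point of the fibre ring S ⊗_R κ(p) given by q lies in the support of the fibre module N ⊗_R κ(p) (a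
condition the published statement leaves implicit). Then there are an étale R-algebra R' with a
prime p' over p and an étale S-algebra S' with a prime q' over q, both with trivial residue field
extensions, and a compatible R'-algebra structure on S' with q' lying over p', such that for the
base change N' of N to S' (any module N' with an S-linear map N → N' exhibiting it as the base
change), N'/S'/R' admits a complete dévissage at q' (FlatCA.HasCompleteDevissageAt). -/
theorem result {R S : Type u} [CommRing R] [CommRing S] [Algebra R S] [Algebra.FiniteType R S]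
    (N : Type u) [AddCommGroup N] [Module S N] [Module R N] [IsScalarTower R S N] [Module.Finite S N]
    (p : Ideal R) [p.IsPrime] (q : Ideal S) [q.IsPrime] [q.LiesOver p]
    (hsupp : ∃ x ∈ Module.support (p.Fiber S) (FlatCA.fiberMod p S N), x.asIdeal = FlatCA.fiberIdeal p q) :
    ∃ (R' S' : Type u) (_ : CommRing R') (_ : CommRing S') (_ : Algebra R R') (_ : Algebra S S') (_ : Algebra R' S')
      (_ : Algebra R S') (_ : IsScalarTower R R' S') (_ : IsScalarTower R S S')
      (p' : Ideal R') (q' : Ideal S') (_ : p'.IsPrime) (_ : q'.IsPrime),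
      FlatCA.IsEtaleNhd R R' p p' ∧ FlatCA.IsEtaleNhd S S' q q' ∧ q'.LiesOver p' ∧
      ∀ (N' : Type u) [AddCommGroup N'] [Module S' N'] [Module S N'] [IsScalarTower S S' N']
        (f : N →ₗ[S] N'), IsBaseChange S' f → FlatCA.HasCompleteDevissageAt R' S' N' p' q' := by
  obtain ⟨x, hx, hxq⟩ := hsupp
  haveI : Module.Finite (p.Fiber S) (FlatCA.fiberMod p S N) :=
    Groth.Agent.Lib.helper3.OneStep.finite_fiberMod p N
  -- the local dimension is a natural number
  have hfin : ∃ n : ℕ, FlatMor.localDim (Module.support (p.Fiber S) (FlatCA.fiberMod p S N))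
      ⟨x, hx⟩ = (n : WithBot ℕ∞) := by
    haveI : Algebra.FiniteType p.ResidueField (p.Fiber S) := inferInstance
    obtain ⟨k, f, hf⟩ := Algebra.FiniteType.iff_quotient_mvPolynomial''.mp
      (inferInstance : Algebra.FiniteType p.ResidueField (p.Fiber S))
    have h1 := ringKrullDim_le_of_surjective f.toRingHom hf
    rw [MvPolynomial.ringKrullDim_of_isNoetherianRing, ringKrullDim_eq_zero_of_field] at h1
    have h2 : ringKrullDim (p.Fiber S) ≤ (k : WithBot ℕ∞) := by simpa using h1
    have hlt : topologicalKrullDim ↥(Module.support (p.Fiber S) (FlatCA.fiberMod p S N)) <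
        ((k + 1 : ℕ) : WithBot ℕ∞) := by
      rw [Groth.Agent.Lib.helper3.Shrink.topologicalKrullDim_support]
      refine lt_of_le_of_lt ((Module.supportDim_le_ringKrullDim _ _).trans h2) ?_
      exact_mod_cast Nat.lt_succ_self k
    obtain ⟨m, -, hm⟩ := Groth.Agent.Lib.helper26.DevMain.exists_nat_localDim_lt
      (T := ↥(Module.support (p.Fiber S) (FlatCA.fiberMod p S N))) ⟨x, hx⟩ (k + 1) hlt
    exact ⟨m, hm⟩
  obtain ⟨n, hn⟩ := hfin
  obtain ⟨R', S', _, _, algRR', algSS', algR'S', algRS', twRR'S', twRSS', p', q', hp', hq', hEtR,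
    hEtS, hq'p', N₀, _, modS'N₀, modSN₀, twSS'N₀, f₀, hf₀, hK₀⟩ :=
    Groth.Agent.Lib.helper26.DevMain.mainConcl_of_localDim n N p q x hxq hx hn
  refine ⟨R', S', inferInstance, inferInstance, algRR', algSS', algR'S', algRS', twRR'S', twRSS',
    p', q', hp', hq', hEtR, hEtS, hq'p', ?_⟩
  intro N' _ _ _ _ f hf
  exact Groth.Agent.Lib.helper26.DevCons.hasCompleteDevissageAt_of_linearEquiv p' q'
    (hf₀.equiv.symm ≪≫ₗ hf.equiv) hK₀

end Groth.Agent.S1252
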