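import Groth.Statements.S1208
import Groth.Agent.Lib.Helper26.RGFlat4
import Groth.Agent.Lib.Helper26.RGFlat5
import Groth.Agent.Lib.Helper3.FpLoc3

set_option linter.style.haveILetI false

set_option autoImplicit false
universe u
open FlatMor

namespace Groth.Agent.S1208

open TensorProduct

/-- Let S be a finitely presented R-algebra, N a finite S-module and q a prime of S such that N_q is
flat over R. Then N_q is a finitely presented module over S_q. -/
theorem result {R S : Type u} [CommRing R] [CommRing S] [Algebra R S] [Algebra.FinitePresentation R S]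
    (N : Type u) [AddCommGroup N] [Module S N] [Module R N] [IsScalarTower R S N] [Module.Finite S N]
    (q : Ideal S) [q.IsPrime] (h : FlatCA.FlatAt R q N) :
    Module.FinitePresentation (Localization.AtPrime q) (LocalizedModule q.primeCompl N) := by
  haveI : (q.under R).IsPrime := Ideal.IsPrime.under R q
  haveI : q.LiesOver (q.under R) := ⟨rfl⟩
  haveI : Algebra.FiniteType R S := inferInstance
  obtain ⟨R', S', _, _, algRR', algSS', algR'S', algRS', twRR'S', twRSS', p', q', hp', hq', hEtR,
    hEtS, hq'p', hcore⟩ := Groth.Agent.Lib.helper26.RGFlat.core N (q.under R) q h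
  haveI : Algebra.Etale R R' := hEtR.1
  obtain ⟨SA, _, algRSA, algSSA, algASA, twRSSA, twRASA, hpo⟩ :=
    Groth.Agent.Lib.helper26.RGFlat.exists_pushout_model R S (Localization.AtPrime p')
  obtain ⟨C, _, algSAC, algAC, twASAC, algSC, twSSAC, hEtC, hfp, hfree,
    ⟨x', hx'prime, hx'q, hx'𝔪, hb⟩, -⟩ :=
    Groth.Agent.Lib.helper26.RGFlat.exists_open_data N (q.under R) q p' q' hEtR hEtS hcore
      SA (SA ⊗[S] N) (TensorProduct.mk S SA N 1) (TensorProduct.isBaseChange S N SA)
  haveI := hEtC
  haveI := hx'prime
  haveI : Module.Flat R' (Localization.AtPrime p') := IsLocalization.flat _ p'.primeCompl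
  haveI : Module.Flat R (Localization.AtPrime p') :=
    Module.Flat.trans R R' (Localization.AtPrime p')
  haveI : Module.Flat S SA :=
    Module.Flat.of_linearEquiv
      (Algebra.IsPushout.equiv R S (Localization.AtPrime p') SA).symm.toLinearEquiv
  haveI : Module.Flat SA C := inferInstance
  haveI : Module.Flat S C := Module.Flat.trans S SA C
  have hfC : IsBaseChange C (((TensorProduct.mk SA C (SA ⊗[S] N) 1).restrictScalars S).comp
      (TensorProduct.mk S SA N 1)) :=
    IsBaseChange.comp (TensorProduct.isBaseChange S N SA)
      (TensorProduct.isBaseChange SA (SA ⊗[S] N) C)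
  have hu : ∀ t : q.primeCompl, IsUnit
      (((algebraMap C (Localization x'.primeCompl)).comp (algebraMap S C)) t) := by
    intro t
    have hmem : algebraMap S C t ∈ x'.primeCompl := by
      show algebraMap S C t ∉ x'
      intro hmem
      have hmem' : (t : S) ∈ x'.under S := hmem
      rw [← hx'q.over] at hmem'
      exact t.2 hmem'
    exact IsLocalization.map_units (Localization x'.primeCompl)
      (⟨algebraMap S C t, hmem⟩ : x'.primeCompl)
  have hff := Groth.Agent.Lib.helper3.FpLoc.bc_faithfullyFlat (A := S) (B := C)
    q.primeCompl x'.primeCompl hu (by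
      intro P hP hdisj
      have hPq : P ≤ q := by
        intro a ha
        by_contra hn
        exact (Set.disjoint_left.mp hdisj) (show a ∈ (q.primeCompl : Set S) from hn) ha
      obtain ⟨Q, hQle, hQprime, hQP⟩ :=
        Ideal.exists_ideal_le_liesOver_of_le (p := P) (q := q) x' hPq
      refine ⟨Q, hQprime, ?_, hQP.over.symm⟩
      rw [Set.disjoint_left]
      intro a ha haQ
      exact ha (hQle haQ))
  haveI := hfp
  exact Groth.Agent.Lib.helper3.FpLoc.fp_bc_down (A := S) (B := C) _ hfC
    q.primeCompl x'.primeCompl hu hff inferInstance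

end Groth.Agent.S1208
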