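import Groth.Statements.S11000
import Mathlib

set_option autoImplicit false
universe u v
open FunFld

namespace Groth.Agent.S11000

open Polynomial IntermediateField

/-- If `k` is algebraically closed in `K`, a monic irreducible polynomial over `k` stays
irreducible over `K`. -/
lemma irreducible_map {k : Type u} {K : Type v} [Field k] [Field K] [Algebra k K]
    (hcl : ∀ y : K, IsAlgebraic k y → y ∈ Set.range (algebraMap k K))
    {f : k[X]} (hf : f.Monic) (hirr : Irreducible f) :
    Irreducible (f.map (algebraMap k K)) := by
  have key : ∀ g : K[X], g.Monic → g ∣ f.map (algebraMap k K) →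
      ∃ g₀ : k[X], g₀.map (algebraMap k K) = g ∧ g₀.natDegree = g.natDegree ∧ g₀.Monic := by
    intro g hg hd
    have hg' := integralClosure.mem_lifts_of_monic_of_dvd_map K hf hg hd
    have hg'' : g ∈ lifts (algebraMap k K) := by
      rw [lifts_iff_coeff_lifts] at hg' ⊢
      intro n
      obtain ⟨c, hc⟩ := hg' n
      have hca : IsAlgebraic k (c : K) := c.2.isAlgebraic
      obtain ⟨a, ha⟩ := hcl _ hca
      exact ⟨a, ha.trans hc⟩
    exact lifts_and_natDegree_eq_and_monic hg'' hg
  rw [(hf.map _).irreducible_iff_natDegree]
  refine ⟨?_, ?_⟩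
  · intro h1
    have h2 : (f.map (algebraMap k K)).natDegree = 0 := by rw [h1]; exact natDegree_one
    rw [natDegree_map] at h2
    exact hirr.natDegree_pos.ne' h2
  · intro g h hg hh hgh
    obtain ⟨g₀, hg₀, hdg, hmg⟩ := key g hg ⟨h, hgh.symm⟩
    obtain ⟨h₀, hh₀, hdh, hmh⟩ := key h hh ⟨g, by rw [mul_comm]; exact hgh.symm⟩
    have hprod : g₀ * h₀ = f := by
      apply map_injective (algebraMap k K) (RingHom.injective _)
      rw [Polynomial.map_mul, hg₀, hh₀, hgh]
    rcases (hf.irreducible_iff_natDegree.1 hirr).2 g₀ h₀ hmg hmh hprod with h' | h'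
    · left; rw [← hdg]; exact h'
    · right; rw [← hdh]; exact h'

/-- Over a perfect ground field every function field of one variable is geometric (`k' ⊗_k K` is a field
for all finite `k'/k`). -/
theorem result (k : Type u) (K : Type v) [Field k] [Field K] [Algebra k K] [PerfectField k]
    (hK : FunFld.IsFunctionField k K) : FunFld.IsGeometric k K := by
  intro k' _ _ hfin
  have halg : Algebra.IsAlgebraic k k' := Algebra.IsAlgebraic.of_finite k k'
  have hsep : Algebra.IsSeparable k k' := Algebra.IsAlgebraic.isSeparable_of_perfectField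
  obtain ⟨α, hα⟩ := Field.exists_primitive_element k k'
  let σ : k' →ₐ[k] AlgebraicClosure K := IsAlgClosed.lift
  let τ : K →ₐ[k] AlgebraicClosure K := IsScalarTower.toAlgHom k K (AlgebraicClosure K)
  refine IntermediateField.LinearDisjoint.isField_of_isAlgebraic' (fa := σ) (fb := τ) ?_
    (Or.inl halg)
  set β : AlgebraicClosure K := σ α with hβ
  have hβint : IsIntegral k β := (Algebra.IsIntegral.isIntegral α).map σ
  have hrange : σ.fieldRange = k⟮β⟯ := by
    rw [AlgHom.fieldRange_eq_map, ← hα, IntermediateField.adjoin_map, Set.image_singleton]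
  rw [hrange, IntermediateField.linearDisjoint_iff']
  change k⟮β⟯.LinearDisjoint K
  let pb := IntermediateField.adjoin.powerBasis hβint
  apply IntermediateField.LinearDisjoint.of_basis_left pb.basis
  -- the minimal polynomial over `K`
  have hirr : Irreducible ((minpoly k β).map (algebraMap k K)) :=
    irreducible_map hK.2 (minpoly.monic hβint) (minpoly.irreducible hβint)
  have hmin : (minpoly k β).map (algebraMap k K) = minpoly K β := by
    apply minpoly.eq_of_irreducible_of_monic hirr
    · rw [Polynomial.aeval_map_algebraMap]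
      exact minpoly.aeval k β
    · exact (minpoly.monic hβint).map _
  have hli := linearIndependent_pow (K := K) β
  rw [← hmin, Polynomial.natDegree_map] at hli
  have hfun : (k⟮β⟯.val ∘ pb.basis) = fun i : Fin (minpoly k β).natDegree => β ^ (i : ℕ) := by
    funext i
    change ((pb.basis i : k⟮β⟯) : AlgebraicClosure K) = β ^ (i : ℕ)
    rw [pb.basis_eq_pow]
    simp [pb]
  rw [hfun]
  exact hli

end Groth.Agent.S11000
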