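import Groth.Statements.S0340
import Groth.Agent.Lib.Helper17.ExtPrime
import Groth.Agent.Lib.Helper26.GlobalDim

set_option autoImplicit false
universe u v
open CategoryTheory
open Goren

namespace Groth.Agent.S0340

/-- A Noetherian local ring is Gorenstein exactly when Ext^i(κ, A) vanishes for all large i. -/
theorem result (A : Type u) [CommRing A] [IsLocalRing A] [IsNoetherianRing A] : LocCoh.IsGorensteinLocalRing A ↔ ∃ N : ℕ, ∀ i : ℕ, N ≤ i → Subsingleton (Abelian.Ext (ModuleCat.of A (IsLocalRing.ResidueField A)) (ModuleCat.of A A) i) := by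
  classical
  constructor
  · intro h
    obtain ⟨n, hn⟩ := h.exists_hasInjectiveDimensionLT
    exact ⟨n, fun i hi => CategoryTheory.HasInjectiveDimensionLT.subsingleton _ n i hi _⟩
  · rintro ⟨N, hN⟩
    refine ⟨⟨N + 1, ?_⟩⟩
    refine Groth.Agent.Lib.helper26.GlobalDim.hasInjectiveDimensionLT_of_ext_quotient N
      (ModuleCat.of A A) (fun I => ?_)
    exact Groth.Agent.Lib.helper17.ExtPrime.subsingleton_ext_of_residueField (ModuleCat.of A A) N hN
      (A ⧸ I) (N + 1) (by omega)

end Groth.Agent.S0340
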