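import Groth.Statements.S11175
import Mathlib
import Groth.Agent.Lib.Helper19.HullTools
import Groth.Agent.Lib.Helper19.ExtLen
import Groth.Agent.S5174
import Groth.Agent.S5162
import Groth.Agent.S11665
import Groth.Agent.S0340
import Groth.Agent.S0325
import Groth.Agent.S0318

set_option autoImplicit false
universe u
open CategoryTheory
open Goren

namespace Groth.Agent.S11175

-- MARK
section Aux
open CategoryTheory IsLocalRing Groth.Agent.S5162 Groth.Agent.Lib.helper19.ExtLen
  Groth.Agent.Lib.helper19.HullTools Groth.Agent.Lib.helper19.LCBridge Groth.Agent.S5174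

theorem exists_natCast_eq (B : Type u) [CommRing B] [IsLocalRing B] [IsNoetherianRing B] :
    ∃ d : ℕ, ringKrullDim B = d := by
  have h1 : ringKrullDim B ≠ ⊤ := ringKrullDim_ne_top
  have h2 : ringKrullDim B ≠ ⊥ := ringKrullDim_ne_bot
  obtain ⟨b, hb⟩ := WithBot.ne_bot_iff_exists.mp h2
  have h3 : b ≠ ⊤ := by
    rintro rfl
    exact h1 hb.symm
  obtain ⟨m, hm⟩ := ENat.ne_top_iff_exists.mp h3
  exact ⟨m, by rw [← hb, ← hm]; rfl⟩

section SES
variable {A : Type u} [CommRing A] {G : Type u} [AddCommGroup G] [Module A G]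
variable {N₁ N₂ N₃ : Type u} [AddCommGroup N₁] [Module A N₁] [AddCommGroup N₂] [Module A N₂]
  [AddCommGroup N₃] [Module A N₃] (f : N₁ →ₗ[A] N₂) (g : N₂ →ₗ[A] N₃)
  (hf : Function.Injective f) (hg : Function.Surjective g) (hfg : Function.Exact f g)

include hf hg hfg in
/-- if `f^* : Ext^j(N₂) → Ext^j(N₁)` is surjective then `g^* : Ext^{j+1}(N₃) → Ext^{j+1}(N₂)` is
injective -/
lemma L2'' (j : ℕ)
    (hsurj : ∀ x₁ : Abelian.Ext.{u} (ModuleCat.of A N₁) (ModuleCat.of A G) j,
      ∃ x₂ : Abelian.Ext.{u} (ModuleCat.of A N₂) (ModuleCat.of A G) j,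
        (Abelian.Ext.mk₀ (ModuleCat.ofHom f)).comp x₂ (zero_add j) = x₁)
    (z : Abelian.Ext.{u} (ModuleCat.of A N₃) (ModuleCat.of A G) (j + 1))
    (hz : (Abelian.Ext.mk₀ (ModuleCat.ofHom g)).comp z (zero_add (j + 1)) = 0) : z = 0 := by
  obtain ⟨x₁, hx₁⟩ := Abelian.Ext.contravariant_sequence_exact₃ (sesOf_shortExact f g hf hg hfg)
    _ z hz (add_comm 1 j)
  obtain ⟨x₂, hx₂⟩ := hsurj x₁
  rw [← hx₁, ← hx₂]
  exact (sesOf_shortExact f g hf hg hfg).extClass_comp_assoc x₂

end SES

section Dev
variable {A : Type u} [CommRing A] [IsLocalRing A] {G : Type u} [AddCommGroup G] [Module A G]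

/-- dévissage of vanishing -/
theorem E_of_isFiniteLength (j : ℕ) (hk : E A G (A ⧸ maximalIdeal A) j)
    (F : Type u) [AddCommGroup F] [Module A F] (hF : IsFiniteLength A F) : E A G F j := by
  induction hF with
  | @of_subsingleton M _ _ _ => exact E_of_subsingleton M j
  | @of_simple_quotient M _ _ N _ hN ih =>
    obtain ⟨I, hI, ⟨e⟩⟩ :=
      isSimpleModule_iff_quot_maximal.mp (inferInstance : IsSimpleModule A (M ⧸ N))
    have hI' : I = maximalIdeal A := IsLocalRing.eq_maximalIdeal hI
    subst hI'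
    exact L1 N.subtype N.mkQ N.injective_subtype (Submodule.mkQ_surjective N)
      (LinearMap.exact_subtype_mkQ N) j ih (E_of_equiv e j hk)

end Dev

section Main
variable (A : Type u) [CommRing A] [IsLocalRing A] [IsNoetherianRing A] (d : ℕ)
  (hvan : ∀ i : ℕ, i ≠ d → Subsingleton (LocCoh.H (maximalIdeal A) i A))
  (hinj : Module.Injective A (LocCoh.H (maximalIdeal A) d A))

include hvan hinj in
theorem ext_vanish_above (i : ℕ) (hi : d < i) : E A A (A ⧸ maximalIdeal A) i := by
  set m := maximalIdeal A with hm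
  have hHvan : ∀ i : ℕ, i < d →
      Subsingleton ((localCohomology m i).obj (ModuleCat.of A A) : ModuleCat.{u} A) :=
    fun i hi => hvan i (Nat.ne_of_lt hi)
  have hlowAll := partA (G := A) m d hHvan
  have hL : ∀ (K : Type u) [AddCommGroup K] [Module A K], Module.Finite A K → Tors m K →
      (d = 0 ∨ ∃ j, d = j + 1 ∧ E A A K j) := by
    intro K _ _ hKfin hK
    cases d with
    | zero => exact Or.inl rfl
    | succ j => exact Or.inr ⟨j, rfl, hlowAll K hKfin hK j (Nat.lt_succ_self j)⟩
  induction i using Nat.strong_induction_on with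
  | _ i IH =>
    obtain ⟨j, rfl⟩ : ∃ j, i = j + 1 := ⟨i - 1, by omega⟩
    have hdj : d ≤ j := by omega
    -- reduce to A ⧸ m ^ 1
    let e1 : (A ⧸ m) ≃ₗ[A] (A ⧸ m ^ 1) := Submodule.quotEquivOfEq _ _ (pow_one m).symm
    refine E_of_equiv e1 (j + 1) ?_
    apply E_of_forall_zero
    intro z
    have hz0 : toH' m (j + 1) (ModuleCat.of A A) 1 z = 0 :=
      (hvan (j + 1) (by omega)).elim _ _
    obtain ⟨t, ht, hzt⟩ := (toH'_eq_zero_iff m (j + 1) (ModuleCat.of A A) z).mp hz0
    -- the short exact sequence 0 → K → A/m^t → A/m^1 → 0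
    let g : (A ⧸ m ^ t) →ₗ[A] (A ⧸ m ^ 1) := (quotMap m ht).hom
    have hg : Function.Surjective g := by
      intro q
      obtain ⟨a, rfl⟩ := Ideal.Quotient.mk_surjective q
      exact ⟨Ideal.Quotient.mk _ a, rfl⟩
    let K := LinearMap.ker g
    have hKkill : ∀ a ∈ m ^ t, ∀ y : K, a • y = 0 :=
      fun a ha y => Subtype.ext (kill_Q m t a ha y.1)
    have hKfl : IsFiniteLength A K :=
      (isFiniteLength_quot_of_pow_le (m ^ t) t le_rfl).of_injective (f := K.subtype)
        K.injective_subtype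
    refine L2'' K.subtype g K.injective_subtype hg (LinearMap.exact_subtype_ker_map g) j ?_ z hzt
    intro x₁
    rcases Nat.eq_or_lt_of_le hdj with hdj' | hdj'
    · -- j = d : use the injectivity of H
      subst hdj'
      obtain ⟨ψ, hψ⟩ := hinj.out K.subtype K.injective_subtype (Θ m A d t hKkill x₁)
      obtain ⟨w, hw⟩ := gen_surj m A d hL t (A ⧸ m ^ t) (kill_Q m t) ψ
      refine ⟨w, ?_⟩
      apply gen_inj m A d hL t K hKkill
      apply LinearMap.ext
      intro y
      rw [Θ_natural m A d t (kill_Q m t) hKkill K.subtype w y, hw]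
      exact hψ y
    · -- j > d : the target vanishes
      have hEk : E A A (A ⧸ m) j := IH j (Nat.lt_succ_self j) hdj'
      have hEK : E A A K j := E_of_isFiniteLength j hEk K hKfl
      exact ⟨0, hEK.elim _ _⟩

end Main

end Aux

open CategoryTheory IsLocalRing Groth.Agent.S5162 in


/-- A Noetherian local ring A with maximal ideal m is Gorenstein (A has finite injective dimension as a
module over itself) if and only if there is a natural number d such that the local cohomology
modules H^i_m(A) (direct limits of Ext^i(A/m^n, A)) vanish for all i ≠ d and H^d_m(A) is an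
injective A-module. -/
theorem result (A : Type u) [CommRing A] [IsLocalRing A] [IsNoetherianRing A] : LocCoh.IsGorensteinLocalRing A ↔ ∃ d : ℕ, (∀ i : ℕ, i ≠ d → Subsingleton (LocCoh.H (IsLocalRing.maximalIdeal A) i A)) ∧ Module.Injective A (LocCoh.H (IsLocalRing.maximalIdeal A) d A) := by
  constructor
  · intro hG
    obtain ⟨d, hd⟩ := exists_natCast_eq A
    refine ⟨d, fun i hi => ?_, ?_⟩
    · rcases Nat.lt_or_gt_of_ne hi with h | h
      · apply Groth.Agent.S0318.H_vanish_below (maximalIdeal A) A i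
        rw [Groth.Agent.S11665.depth_eq A d hd]
        exact_mod_cast h
      · exact Groth.Agent.S0325.result A (maximalIdeal A) d (le_of_eq hd) A i h
    · obtain ⟨g, hg⟩ := Groth.Agent.S11665.result A d hd
      exact hg.isInjective
  · rintro ⟨d, hvan, hinj⟩
    refine (Groth.Agent.S0340.result A).mpr ⟨d + 1, fun i hi => ?_⟩
    exact ext_vanish_above A d hvan hinj i (by omega)

end Groth.Agent.S11175
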