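import Groth.Statements.S18656
import Mathlib
import Groth.Agent.Lib.Helper19.GrCok2
import Groth.Agent.Lib.Helper19.LCZero
import Groth.Agent.S13225

set_option autoImplicit false
universe u
open GrLC

namespace Groth.Agent.S18656

-- MARK
open Groth.Agent.Lib.helper19.GrMod Groth.Agent.Lib.helper19.GrLes Groth.Agent.Lib.helper19.GrCok in
theorem piece_succ_eq_bot {R : Type u} [CommRing R] (𝒜 : ℤ → AddSubgroup R) [GradedRing 𝒜]
    {H : Type u} [AddCommGroup H] [Module R H] (ℋ : ℤ → AddSubgroup H)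
    [DirectSum.Decomposition ℋ] [SetLike.GradedSMul 𝒜 ℋ] (xs : List R) (k : ℤ)
    (hxs : ∀ x ∈ xs, x ∈ 𝒜 k)
    (hgen : ∀ y : H, y ∈ Ideal.ofList xs • (⊤ : Submodule R H)) (g : ℤ) (hg : ℋ g = ⊥) :
    ℋ (g + k) = ⊥ := by
  classical
  have key : ∀ r ∈ Ideal.ofList xs, ∀ z : H,
      ((DirectSum.decompose ℋ (r • z) (g + k) : ℋ (g + k)) : H) = 0 := by
    intro r hr
    refine Submodule.span_induction (p := fun r _ => ∀ z : H,
      ((DirectSum.decompose ℋ (r • z) (g + k) : ℋ (g + k)) : H) = 0) ?_ ?_ ?_ ?_ hr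
    · intro x hx z
      rw [decompose_smul_apply 𝒜 ℋ (hxs x hx) z (g + k)]
      have h1 : ((DirectSum.decompose ℋ z (g + k - k) : ℋ (g + k - k)) : H) ∈ ℋ g := by
        have h2 : g + k - k = g := by ring
        rw [coe_decompose_congr ℋ z h2]
        exact SetLike.coe_mem _
      rw [hg] at h1
      rw [(AddSubgroup.mem_bot).1 h1, smul_zero]
    · intro z
      rw [zero_smul, DirectSum.decompose_zero]
      rfl
    · intro r1 r2 _ _ h1 h2 z
      rw [add_smul, DirectSum.decompose_add, DirectSum.add_apply, AddSubgroup.coe_add, h1 z, h2 z,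
        add_zero]
    · intro c r' _ h1 z
      rw [smul_eq_mul, mul_comm, mul_smul]
      exact h1 (c • z)
  rw [eq_bot_iff]
  intro y hy
  rw [AddSubgroup.mem_bot]
  have h1 : ((DirectSum.decompose ℋ y (g + k) : ℋ (g + k)) : H) = y :=
    DirectSum.decompose_of_mem_same ℋ hy
  rw [← h1]
  refine Submodule.smul_induction_on (p := fun y => ((DirectSum.decompose ℋ y (g + k) : ℋ (g + k)) : H) = 0)
    (hgen y) ?_ ?_
  · intro r hr z _
    exact key r hr z
  · intro y1 y2 h1 h2
    rw [DirectSum.decompose_add, DirectSum.add_apply, AddSubgroup.coe_add, h1, h2, add_zero]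

open Groth.Agent.Lib.helper19.GrLes in
theorem piece_ne_bot_of_endDeg {M : Type u} [AddCommGroup M] (ℳ : ℤ → AddSubgroup M) (a : ℤ)
    (ha : endDeg ℳ = ((a : WithTop ℤ) : WithBot (WithTop ℤ))) : ℳ a ≠ ⊥ := by
  intro h
  have h1 : endDeg ℳ ≤ (((a - 1 : ℤ) : WithTop ℤ) : WithBot (WithTop ℤ)) := by
    apply endDeg_le
    intro n hn
    have h2 : ((n : WithTop ℤ) : WithBot (WithTop ℤ)) ≤ endDeg ℳ := le_endDeg ℳ hn
    rw [ha] at h2
    have h3 : n ≤ a := by exact_mod_cast h2
    have h4 : n ≠ a := by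
      rintro rfl
      exact hn h
    have h5 : n ≤ a - 1 := by omega
    exact_mod_cast h5
  rw [ha] at h1
  have h6 : a ≤ a - 1 := by exact_mod_cast h1
  omega


/-- Let R be a graded ring defined over a field k = R_0, generated over k by R_1, of dimension r ≥ 1,
and let a(R) be its a-invariant. Then the homogeneous piece H^r_m(R)_n is nonzero for every n ≤
a(R). Here 'graded ring defined over a field' means R = ⊕_{n ≥ 0} R_n is Noetherian with R_0 a
field, and m = R_+ is its unique graded maximal ideal. The a-invariant a(R) is the largest degree in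
which the graded local cohomology H^n_m(R) (n = dim R, m = R_+), computed from a *injective
resolution of R in the graded category, is nonzero. -/
theorem result (R : Type u) [CommRing R] [IsNoetherianRing R] (𝒜 : ℤ → AddSubgroup R) [GradedRing 𝒜] (hpos : ∀ n : ℤ, n < 0 → 𝒜 n = ⊥) (h0 : IsField (GrLC.deg0 𝒜)) (m : HomogeneousIdeal 𝒜) (hm : GrLC.IsStarLocal 𝒜 m) (hmsp : m.toIdeal = Ideal.span (⋃ n ∈ Set.Ioi (0 : ℤ), (𝒜 n : Set R))) (hstd : Ideal.span (⋃ n ∈ Set.Ioi (0 : ℤ), (𝒜 n : Set R)) = Ideal.span ((𝒜 1 : AddSubgroup R) : Set R)) (r : ℕ) (hr : ringKrullDim R = r) (h1 : 1 ≤ r) (I : GrLC.StarInjRes 𝒜 𝒜) (a : ℤ) (ha : GrLC.endDeg (I.Hgr m r) = ((a : WithTop ℤ) : WithBot (WithTop ℤ))) (n : ℤ) (hn : n ≤ a) : I.Hcomp m r n ≠ ⊥ := by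
  classical
  -- generators of m in degree one
  have hfg : (Ideal.span ((𝒜 1 : AddSubgroup R) : Set R)).FG := IsNoetherian.noetherian _
  obtain ⟨s', hs'sub, hs'eq⟩ := (Submodule.fg_span_iff_fg_span_finset_subset _).1 hfg
  have hxs1 : ∀ x ∈ s'.toList, x ∈ 𝒜 1 := fun x hx => hs'sub (Finset.mem_toList.1 hx)
  have hxsm : Ideal.ofList s'.toList = m.toIdeal := by
    rw [hmsp, hstd]
    show Ideal.span {r | r ∈ s'.toList} = Ideal.span ((𝒜 1 : AddSubgroup R) : Set R)
    have h1 : {r | r ∈ s'.toList} = (s' : Set R) := by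
      ext r
      simp [Finset.mem_toList]
    rw [h1]
    exact hs'eq.symm
  have hps1 : (s'.toList.map (fun x => (x, (1 : ℤ)))).map Prod.fst = s'.toList := by
    rw [List.map_map]
    exact List.map_id _
  -- the residue module
  have hK : (m.toIdeal : Submodule R R).IsHomogeneous 𝒜 := m.isHomogeneous
  letI : DirectSum.Decomposition (Groth.Agent.Lib.helper19.GrMod.quotPiece 𝒜 (m.toIdeal : Submodule R R)) :=
    Groth.Agent.Lib.helper19.GrMod.quotDecomposition 𝒜 _ hK
  letI : SetLike.GradedSMul 𝒜 (Groth.Agent.Lib.helper19.GrMod.quotPiece 𝒜 (m.toIdeal : Submodule R R)) :=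
    Groth.Agent.Lib.helper19.GrMod.quot_gradedSMul 𝒜 𝒜 _
  obtain ⟨F⟩ := Groth.Agent.S13215.result R 𝒜 (R ⧸ (m.toIdeal : Submodule R R))
    (Groth.Agent.Lib.helper19.GrMod.quotPiece 𝒜 (m.toIdeal : Submodule R R))
  have hF : Subsingleton (F.H m r) := by
    obtain ⟨e⟩ := Groth.Agent.S13224.result R 𝒜 m _ _ F r
    have : Subsingleton (LocCoh.H m.toIdeal r (R ⧸ (m.toIdeal : Submodule R R))) := by
      refine Groth.Agent.Lib.helper19.LCZero.H_subsingleton_of_torsion m.toIdeal
        (R ⧸ (m.toIdeal : Submodule R R)) (fun q => ⟨1, fun b hb => ?_⟩) r (by omega)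
      obtain ⟨y, rfl⟩ := Submodule.mkQ_surjective _ q
      rw [← map_smul, Submodule.mkQ_apply, Submodule.Quotient.mk_eq_zero]
      rw [pow_one] at hb
      exact Ideal.mul_mem_right _ _ hb
    exact e.toEquiv.subsingleton
  have hvan : ∀ (K : Type u) [AddCommGroup K] [Module R K],
      Subsingleton (LocCoh.H m.toIdeal (r + 1) K) := by
    intro K _ _
    apply Groth.Agent.Lib.helper19.LCGroth.vanish
    calc Module.supportDim R K ≤ ringKrullDim R := Module.supportDim_le_ringKrullDim R K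
      _ = (r : WithBot ℕ∞) := hr
      _ < ((r + 1 : ℕ) : WithBot ℕ∞) := by exact_mod_cast Nat.lt_succ_self r
  have hgen := Groth.Agent.Lib.helper19.GrCok.mem_ofList_smul_top m r hvan
    (s'.toList.map (fun x => (x, (1 : ℤ)))) R 𝒜 I (R ⧸ (m.toIdeal : Submodule R R))
    (Groth.Agent.Lib.helper19.GrMod.quotPiece 𝒜 (m.toIdeal : Submodule R R)) F
    (m.toIdeal : Submodule R R).mkQ (Groth.Agent.Lib.helper19.GrMod.mkQ_isGrHom 𝒜 _)
    (Submodule.mkQ_surjective _)
    (by rw [Submodule.ker_mkQ, hps1, hxsm, smul_eq_mul, Ideal.mul_top])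
    (by
      intro p hp
      obtain ⟨x, hx, rfl⟩ := List.mem_map.1 hp
      exact hxs1 x hx) hF
  rw [hps1] at hgen
  have hint := Groth.Agent.S13225.result R 𝒜 m R 𝒜 I r
  letI : DirectSum.Decomposition (I.Hgr m r) := hint.chooseDecomposition
  letI : SetLike.GradedSMul 𝒜 (I.Hgr m r) :=
    ⟨fun _ _ _ _ hx hy => Groth.Agent.Lib.helper19.GrLes.smul_mem_Hgr I m r hx hy⟩
  have hstep : ∀ g, I.Hgr m r g = ⊥ → I.Hgr m r (g + 1) = ⊥ := fun g hg =>
    piece_succ_eq_bot 𝒜 (I.Hgr m r) s'.toList 1 hxs1 hgen g hg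
  have hiter : ∀ j : ℕ, I.Hgr m r n = ⊥ → I.Hgr m r (n + j) = ⊥ := by
    intro j h
    induction j with
    | zero => simpa using h
    | succ j ih =>
      have h2 := hstep _ ih
      rw [add_assoc] at h2
      exact_mod_cast h2
  intro hbot
  have h1 : I.Hgr m r n = ⊥ := by
    show (I.Hcomp m r n).toAddSubgroup = ⊥
    rw [hbot]
    exact Submodule.bot_toAddSubgroup
  have h2 := hiter (a - n).toNat h1
  have h3 : n + ((a - n).toNat : ℤ) = a := by omega
  rw [h3] at h2
  exact piece_ne_bot_of_endDeg (I.Hgr m r) a ha h2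

end Groth.Agent.S18656
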