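import Groth.Statements.S17609
import Groth.Agent.Lib.Helper26.PairHensFP

set_option autoImplicit false
universe u
open Hensel

namespace Groth.Agent.S17609

open Groth.Agent.Lib.helper26.PairHens Groth.Agent.Lib.helper26.PairNbhd TensorProduct in
theorem aux (A : Type u) [CommRing A] (I : Ideal A)
    (R : Type u) [CommRing R] [Algebra A R] [Algebra.FinitePresentation A R]
    (B : Type u) [CommRing B] [Algebra R B] [Algebra A B] [IsScalarTower A R B]
    (hB : Hens2.IsPairHenselization R (I.map (algebraMap A R)) B)
    (S : Type u) [CommRing S] [Algebra A S]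
    (C : Type u) [CommRing C] [Algebra S C] [Algebra A C] [IsScalarTower A S C]
    (hC : Hens2.IsPairHenselization S (I.map (algebraMap A S)) C)
    [Algebra B C] [IsScalarTower A B C]
    (S' : Type u) [CommRing S'] [Algebra S S'] [Algebra A S'] [IsScalarTower A S S']
    [Algebra.Etale S S'] [Algebra.FinitePresentation A S']
    (hnb : IsNbhd (I.map (algebraMap A S)) S')
    (ρ : R →ₐ[A] S') (ψ : S' →ₐ[S] C)
    (hψρ : ∀ r, ψ (ρ r) = algebraMap B C (algebraMap R B r)) :
    ∃ (T : Type u) (_ : CommRing T) (_ : Algebra B T) (_ : Algebra T C) (_ : IsScalarTower B T C),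
      Algebra.FinitePresentation B T ∧
      Hens2.IsPairHenselization T ((I.map (algebraMap A B)).map (algebraMap B T)) C := by
  let _ : Algebra R S' := ρ.toRingHom.toAlgebra
  have ht1 : IsScalarTower A R S' := IsScalarTower.of_algHom ρ
  have hfp : Algebra.FinitePresentation R S' :=
    Algebra.FinitePresentation.of_restrict_scalars_finitePresentation (R := A) (A := R) (B := S')
  let _ : Algebra S' C := ψ.toRingHom.toAlgebra
  have ht2 : IsScalarTower S S' C := IsScalarTower.of_algHom ψ
  have hC' := isPairHenselization_of_tower hC S' hnb
  let _ : Algebra R C := ((algebraMap B C).comp (algebraMap R B)).toAlgebra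
  have ht3 : IsScalarTower R B C := IsScalarTower.of_algebraMap_eq fun _ => rfl
  have ht4 : IsScalarTower R S' C := IsScalarTower.of_algebraMap_eq fun r => (hψρ r).symm
  let μ : B ⊗[R] S' →ₐ[R] C :=
    Algebra.TensorProduct.productMap (IsScalarTower.toAlgHom R B C) (IsScalarTower.toAlgHom R S' C)
  let _ : Algebra (B ⊗[R] S') C := μ.toRingHom.toAlgebra
  have ht5 : IsScalarTower B (B ⊗[R] S') C := by
    refine IsScalarTower.of_algebraMap_eq (R := B) (S := B ⊗[R] S') (A := C) ?_
    intro b
    show algebraMap B C b = μ (b ⊗ₜ 1)
    rw [Algebra.TensorProduct.productMap_left_apply]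
    rfl
  have hcompat : ∀ s : S', algebraMap (B ⊗[R] S') C (1 ⊗ₜ s) = algebraMap S' C s := by
    intro s
    show μ (1 ⊗ₜ s) = _
    rw [Algebra.TensorProduct.productMap_right_apply]
    rfl
  have hideal1 : (I.map (algebraMap A R)).map (algebraMap R S') =
      (I.map (algebraMap A S)).map (algebraMap S S') := by
    rw [Ideal.map_map, Ideal.map_map, ← IsScalarTower.algebraMap_eq, ← IsScalarTower.algebraMap_eq]
  have hC'' : Hens2.IsPairHenselization S' ((I.map (algebraMap A R)).map (algebraMap R S')) C := by
    rw [hideal1]; exact hC'
  have key := isPairHenselization_tensor hB S' C hC'' hcompat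
  have hideal2 : (I.map (algebraMap A R)).map (algebraMap R (B ⊗[R] S')) =
      (I.map (algebraMap A B)).map (algebraMap B (B ⊗[R] S')) := by
    rw [Ideal.map_map, Ideal.map_map]
    congr 1
    ext a
    simp only [RingHom.comp_apply]
    rw [IsScalarTower.algebraMap_apply R B (B ⊗[R] S'), ← IsScalarTower.algebraMap_apply A R B]
  rw [hideal2] at key
  exact ⟨B ⊗[R] S', inferInstance, inferInstance, inferInstance, ht5, inferInstance, key⟩


/-- Let (A, I) be a Henselian pair and let B, C be Henselizations of the pairs (R, IR), (S, IS) for
finitely presented A-algebras R and S, with their induced A-algebra structures (so A → B and A → C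
are Henselian finitely presented). Then every A-algebra map B → C (encoded as a B-algebra structure
on C compatible with that of A) is Henselian finitely presented: there are a finitely presented
B-algebra T and a T-algebra structure on C compatible with that of B for which C is a Henselization
of the pair (T, IBT). -/
theorem result (A : Type u) [CommRing A] (I : Ideal A) [HenselianRing A I]
    (R : Type u) [CommRing R] [Algebra A R] [Algebra.FinitePresentation A R]
    (B : Type u) [CommRing B] [Algebra R B] [Algebra A B] [IsScalarTower A R B]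
    (hB : Hens2.IsPairHenselization R (I.map (algebraMap A R)) B)
    (S : Type u) [CommRing S] [Algebra A S] [Algebra.FinitePresentation A S]
    (C : Type u) [CommRing C] [Algebra S C] [Algebra A C] [IsScalarTower A S C]
    (hC : Hens2.IsPairHenselization S (I.map (algebraMap A S)) C)
    [Algebra B C] [IsScalarTower A B C] :
    ∃ (T : Type u) (_ : CommRing T) (_ : Algebra B T) (_ : Algebra T C) (_ : IsScalarTower B T C),
      Algebra.FinitePresentation B T ∧
      Hens2.IsPairHenselization T ((I.map (algebraMap A B)).map (algebraMap B T)) C := by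
  let γ : R →ₐ[A] C := (IsScalarTower.toAlgHom A B C).comp (IsScalarTower.toAlgHom A R B)
  obtain ⟨k, ρ, ψ, hψρ⟩ := Groth.Agent.Lib.helper26.PairHens.exists_stage_algHom hC R γ
  have := k.etale
  have hfp1 : Algebra.FinitePresentation S k.C := inferInstance
  have hfp2 : Algebra.FinitePresentation A k.C := Algebra.FinitePresentation.trans A S k.C
  exact aux A I R B hB S C hC k.C k.isNbhd ρ ψ (fun r => hψρ r)


end Groth.Agent.S17609
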