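import Groth.Statements.S1202
import Groth.Agent.Lib.Helper26.RGProj2
import Groth.Agent.S1252

set_option linter.style.haveILetI false

set_option autoImplicit false
universe u
open FlatMor

namespace Groth.Agent.S1202

open TensorProduct in
/-- Ring form, X = Spec S and S = Spec R affine: let S be a finitely presented R-algebra, N a finitely
presented S-module and q a prime of S over p such that N_q is flat over R. Then there are an étale
R-algebra R' with a prime p' over p having the same residue field, an étale S-algebra S' with a
prime q' over q having the same residue field, and a compatible R'-algebra structure on S' with q'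
over p', such that S' ⊗_S N is a projective R'-module. -/
theorem result {R S : Type u} [CommRing R] [CommRing S] [Algebra R S] [Algebra.FinitePresentation R S]
    (N : Type u) [AddCommGroup N] [Module S N] [Module R N] [IsScalarTower R S N] [Module.FinitePresentation S N]
    (p : Ideal R) [p.IsPrime] (q : Ideal S) [q.IsPrime] [q.LiesOver p] (hflat : FlatCA.FlatAt R q N) :
    ∃ (R' S' : Type u) (_ : CommRing R') (_ : CommRing S') (_ : Algebra R R') (_ : Algebra S S') (_ : Algebra R' S')
      (_ : Algebra R S') (_ : IsScalarTower R R' S') (_ : IsScalarTower R S S')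
      (p' : Ideal R') (q' : Ideal S') (_ : p'.IsPrime) (_ : q'.IsPrime),
      FlatCA.IsEtaleNhd R R' p p' ∧ FlatCA.IsEtaleNhd S S' q q' ∧ q'.LiesOver p' ∧
      Module.Projective R' (RestrictScalars R' S' (S' ⊗[S] N)) := by
  obtain ⟨g, hgq, hflg⟩ := Groth.Agent.Lib.helper26.RGProj.exists_flat_away N q hflat
  haveI hqgprime : (q.map (algebraMap S (Localization.Away g))).IsPrime :=
    Groth.Agent.Lib.helper3.Shrink.isPrime_map_away g (Localization.Away g) q hgq
  haveI hqgq : (q.map (algebraMap S (Localization.Away g))).LiesOver q :=
    ⟨(Groth.Agent.Lib.helper3.Shrink.under_map_away g (Localization.Away g) q hgq).symm⟩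
  haveI hqgp : (q.map (algebraMap S (Localization.Away g))).LiesOver p :=
    Ideal.LiesOver.trans _ q p
  haveI := hflg
  have key : Groth.Agent.Lib.helper26.RGProj.ProjConcl R (Localization.Away g)
      (LocalizedModule (Submonoid.powers g) N) p (q.map (algebraMap S (Localization.Away g))) := by
    by_cases hsupp : ∃ x ∈ Module.support (p.Fiber (Localization.Away g))
        (FlatCA.fiberMod p (Localization.Away g) (LocalizedModule (Submonoid.powers g) N)),
        x.asIdeal = FlatCA.fiberIdeal p (q.map (algebraMap S (Localization.Away g)))
    · haveI : Algebra.FinitePresentation S (Localization.Away g) :=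
        IsLocalization.Away.finitePresentation g
      haveI : Algebra.FinitePresentation R (Localization.Away g) :=
        Algebra.FinitePresentation.trans R S (Localization.Away g)
      haveI : Algebra.FiniteType R (Localization.Away g) := inferInstance
      obtain ⟨R₁, S₁, _, _, algRR₁, algSgS₁, algR₁S₁, algRS₁, twRR₁S₁, twRSgS₁, p₁, q₁, hp₁, hq₁,
        hEtR, hEtS, hq₁p₁, hall⟩ :=
        Groth.Agent.S1252.result (LocalizedModule (Submonoid.powers g) N) p
          (q.map (algebraMap S (Localization.Away g))) hsupp
      haveI : Algebra.Etale R R₁ := hEtR.1
      haveI : Algebra.Etale (Localization.Away g) S₁ := hEtS.1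
      obtain ⟨D, -⟩ := hall (S₁ ⊗[Localization.Away g] (LocalizedModule (Submonoid.powers g) N))
        (TensorProduct.mk (Localization.Away g) S₁ (LocalizedModule (Submonoid.powers g) N) 1)
        (TensorProduct.isBaseChange (Localization.Away g)
          (LocalizedModule (Submonoid.powers g) N) S₁)
      haveI flR : Module.Flat R
          (S₁ ⊗[Localization.Away g] (LocalizedModule (Submonoid.powers g) N)) :=
        Groth.Agent.Lib.helper26.RGProj.flat_of_isBaseChange (R := R) (S := Localization.Away g)
          (S₁ := S₁) (LocalizedModule (Submonoid.powers g) N) _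
          (TensorProduct.mk (Localization.Away g) S₁ (LocalizedModule (Submonoid.powers g) N) 1)
          (TensorProduct.isBaseChange (Localization.Away g)
            (LocalizedModule (Submonoid.powers g) N) S₁)
      haveI flR₁ : Module.Flat R₁
          (S₁ ⊗[Localization.Away g] (LocalizedModule (Submonoid.powers g) N)) :=
        (Groth.Agent.Lib.helper3.FlatAtLib.flat_iff_of_etale (R := R) (R' := R₁) _).mp flR
      haveI : Algebra.FinitePresentation R₁ S₁ := by
        haveI : Algebra.FinitePresentation (Localization.Away g) S₁ := inferInstance
        haveI : Algebra.FinitePresentation R S₁ :=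
          Algebra.FinitePresentation.trans R (Localization.Away g) S₁
        haveI : Algebra.FiniteType R R₁ := inferInstance
        exact Algebra.FinitePresentation.of_restrict_scalars_finitePresentation R R₁ S₁
      haveI := hq₁p₁
      have h2 := Groth.Agent.Lib.helper26.RGProj.projConcl_of_devissage
        (S₁ ⊗[Localization.Away g] (LocalizedModule (Submonoid.powers g) N)) p₁ q₁ D
      exact Groth.Agent.Lib.helper26.RGProj.projConcl_trans
        (LocalizedModule (Submonoid.powers g) N)
        (S₁ ⊗[Localization.Away g] (LocalizedModule (Submonoid.powers g) N))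
        (TensorProduct.mk (Localization.Away g) S₁ (LocalizedModule (Submonoid.powers g) N) 1)
        (TensorProduct.isBaseChange (Localization.Away g)
          (LocalizedModule (Submonoid.powers g) N) S₁)
        p (q.map (algebraMap S (Localization.Away g))) p₁ q₁ hEtR hEtS h2
    · obtain ⟨g', hg'ann, hg'q⟩ := Groth.Agent.Lib.helper26.DevMain.exists_annihilator_notMem p
        (LocalizedModule (Submonoid.powers g) N) (q.map (algebraMap S (Localization.Away g))) hsupp
      exact Groth.Agent.Lib.helper26.RGProj.projConcl_of_annihilator
        (LocalizedModule (Submonoid.powers g) N) p (q.map (algebraMap S (Localization.Away g)))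
        g' hg'ann hg'q
  haveI : IsLocalization.Away (1 : R) R :=
    IsLocalization.away_of_isUnit_of_bijective R isUnit_one Function.bijective_id
  haveI hpp : p.LiesOver p := ⟨rfl⟩
  have hbc : IsBaseChange (Localization.Away g)
      (LocalizedModule.mkLinearMap (Submonoid.powers g) N) :=
    (isLocalizedModule_iff_isBaseChange (Submonoid.powers g) (Localization.Away g) _).mp
      inferInstance
  exact Groth.Agent.Lib.helper26.RGProj.projConcl_trans (R := R) (S := S) (R₁ := R)
    (S₁ := Localization.Away g) N (LocalizedModule (Submonoid.powers g) N)
    (LocalizedModule.mkLinearMap (Submonoid.powers g) N) hbc p q p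
    (q.map (algebraMap S (Localization.Away g)))
    (Groth.Agent.Lib.helper26.DevMain.isEtaleNhd_away (1 : R) R p p)
    (Groth.Agent.Lib.helper26.DevMain.isEtaleNhd_away g (Localization.Away g) q _) key

end Groth.Agent.S1202
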