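import Groth.Statements.S1217
import Groth.Agent.Lib.Helper26.Purity10
import Groth.Agent.Lib.Helper26.Purity11

set_option autoImplicit false
set_option linter.style.haveILetI false
universe u
open FlatMor

namespace Groth.Agent.S1217

/-- Ring form, X = Spec B affine: let B be a finite type A-algebra, N a finite B-module, p a prime of A,
and A' an A-algebra with a prime p' over p such that the local ring of A' at p' is flat over A. Let
B', N' be the base changes of B, N to A'. If N' is pure along the fibre over p' then N is pure along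
the fibre over p, and likewise for universal purity. -/
theorem result {A B : Type u} [CommRing A] [CommRing B] [Algebra A B] [Algebra.FiniteType A B]
    (N : Type u) [AddCommGroup N] [Module B N] [Module.Finite B N] (p : Ideal A) [p.IsPrime]
    (A' B' N' : Type u) [CommRing A'] [CommRing B'] [Algebra A A'] [Algebra B B'] [Algebra A' B'] [Algebra A B']
    [IsScalarTower A B B'] [IsScalarTower A A' B'] [Algebra.IsPushout A B A' B']
    [AddCommGroup N'] [Module B' N'] [Module B N'] [IsScalarTower B B' N'] (f : N →ₗ[B] N') (hf : IsBaseChange B' f)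
    (p' : Ideal A') [p'.IsPrime] [p'.LiesOver p] [Module.Flat A (Localization.AtPrime p')] :
    (FlatCA.IsPureAlong A' B' N' p' → FlatCA.IsPureAlong A B N p) ∧
    (FlatCA.IsUnivPureAlong A' B' N' p' → FlatCA.IsUnivPureAlong A B N p) := by
  classical
  have key : ∀ (A₁ B₁ N₁ : Type u) [CommRing A₁] [CommRing B₁] [Algebra A A₁] [Algebra B B₁]
      [Algebra A₁ B₁] [Algebra A B₁] [IsScalarTower A B B₁] [IsScalarTower A A₁ B₁]
      [AddCommGroup N₁] [Module B₁ N₁] [Module B N₁] [IsScalarTower B B₁ N₁] [Module A₁ N₁]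
      [IsScalarTower A₁ B₁ N₁] (f₁ : N →ₗ[B] N₁) (t' t₁ : Ideal A₁) [t'.IsPrime] [t₁.IsPrime]
      (P : Ideal B₁) [P.IsPrime], FlatCA.IsImpurity A B N p A₁ B₁ N₁ f₁ t' t₁ P →
      (FlatCA.IsUnivPureAlong A' B' N' p' → False) ∧
      (FlatCA.IsEtaleNhd A A₁ p t₁ → FlatCA.IsPureAlong A' B' N' p' → False) := by
    intro A₁ B₁ N₁ _ _ _ _ _ _ _ _ _ _ _ _ _ _ f₁ t' t₁ _ _ P _ himp
    letI := Algebra.TensorProduct.rightAlgebra (R := A) (A := A') (B := A₁)
    haveI : t₁.LiesOver p := himp.2.2.2.1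
    obtain ⟨t'', v, ht'', hv, hle, hv₁, hv₂, ht''₂⟩ :=
      Groth.Agent.Lib.helper26.Purity.exists_primes_tensor_of_flat A' A₁ p p' t' t₁ himp.2.2.1
    haveI : v.LiesOver t₁ := ⟨hv₂.symm⟩
    haveI : t''.LiesOver t' := ⟨ht''₂.symm⟩
    haveI hvp' : v.LiesOver p' := ⟨hv₁.symm⟩
    have h := Groth.Agent.Lib.helper26.Purity.not_pure_of_isImpurity_of_le N p A' B' N' f p'
      A₁ B₁ N₁ f₁ t' t₁ P (TensorProduct A A' A₁) t'' v hf himp hle
    refine ⟨h.1, fun hEt => h.2 ?_⟩
    obtain ⟨hEt₁, hlo, hbij⟩ := hEt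
    haveI := hEt₁
    refine ⟨inferInstance, hvp', ?_⟩
    exact Groth.Agent.Lib.helper26.Purity.residueField_bijective_of_tensor A' A₁ p p' t₁
      hbij.2 v hv₂
  refine ⟨?_, ?_⟩
  · intro hpure A₁ B₁ N₁ _ _ _ _ _ _ _ _ _ _ _ _ _ _ f₁ t' t₁ _ _ P _ hEt himp
    exact (key A₁ B₁ N₁ f₁ t' t₁ P himp).2 hEt hpure
  · intro hpure A₁ B₁ N₁ _ _ _ _ _ _ _ _ _ _ _ _ _ _ f₁ t' t₁ _ _ P _ himp
    exact (key A₁ B₁ N₁ f₁ t' t₁ P himp).1 hpure

end Groth.Agent.S1217
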