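import Groth.Statements.S1247
import Groth.Agent.Lib.Helper26.Purity15
import Groth.Agent.Lib.Helper26.Purity25

set_option linter.style.haveILetI false

set_option autoImplicit false
universe u
open FlatMor

namespace Groth.Agent.S1247

/-- Ring form, X = Spec B and S = Spec A affine with A Noetherian: let B be a finite type A-algebra, N a
finite B-module and p a prime of A. If there is an impurity of N above p then there is one whose
base change A → A' is of finite type and quasi-finite at the point t. -/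
theorem result {A B : Type u} [CommRing A] [IsNoetherianRing A] [CommRing B] [Algebra A B] [Algebra.FiniteType A B]
    (N : Type u) [AddCommGroup N] [Module B N] [Module.Finite B N] (p : Ideal A) [p.IsPrime]
    (h : FlatCA.HasImpurity A B N p (fun _ _ _ _ => True)) :
    FlatCA.HasImpurity A B N p (fun A' _ _ t => ∃ _ : t.IsPrime, Algebra.FiniteType A A' ∧ Algebra.QuasiFiniteAt A t) := by
  obtain ⟨A', B', N', _, _, _, _, _, _, _, _, _, _, _, _, _, _, f, t', t, _, _, P, _, himp, -⟩ := h
  obtain ⟨A₁, B₁, N₁, _, _, _, _, _, _, _, _, _, _, _, _, _, _, f₁, t₁', t₁, _, _, P₁, _, himp₁,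
    hft⟩ := Groth.Agent.Lib.helper26.Purity.exists_isImpurity_finiteType N p A' B' N' f t' t P himp
  haveI := hft
  obtain ⟨t₂, _, himp₂, hmax⟩ :=
    Groth.Agent.Lib.helper26.Purity.exists_isImpurity_isMaximal_fiberIdeal N p A₁ B₁ N₁ f₁ t₁' t₁
      P₁ himp₁
  refine Groth.Agent.Lib.helper26.Purity.hasImpurity_quasiFiniteAt_of_isImpurity N p A₁ B₁ N₁ f₁
    t₂ t₁' P₁ himp₂ ?_
  intro t₃ ht₃ ht₃p hle
  haveI : t₂.LiesOver p := himp₂.2.2.2.1
  have h1 : FlatCA.fiberIdeal p t₂ ≤ FlatCA.fiberIdeal p t₃ := Ideal.map_mono hle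
  haveI : (FlatCA.fiberIdeal p t₃).IsPrime :=
    Groth.Agent.Lib.helper3.UnivInjAss.fiberIdeal_isPrime p t₃
  have h2 : FlatCA.fiberIdeal p t₂ = FlatCA.fiberIdeal p t₃ :=
    hmax.eq_of_le (Ideal.IsPrime.ne_top inferInstance) h1
  rw [← Groth.Agent.Lib.helper26.Purity.comap_fiberIdeal p t₃, ← h2,
    Groth.Agent.Lib.helper26.Purity.comap_fiberIdeal p t₂]

end Groth.Agent.S1247
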