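import Groth.Statements.S1248
import Groth.Agent.Lib.Helper26.Purity14
import Groth.Agent.Lib.Helper24.HensAtPrime

set_option autoImplicit false
set_option linter.style.haveILetI false
universe u
open FlatMor

namespace Groth.Agent.S1248

open IsLocalRing in
/-- Ring form, X = Spec B affine: let B be a finite type A-algebra, N a finite B-module and p a prime of
A. If there is an impurity of N above p whose base change ring A' is a henselization of the local
ring A_p (compatibly with A → A_p) and whose point t is the maximal ideal, then there is an impurity
of N above p for which (A', t) is an elementary étale ring map at p. -/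
theorem result {A B : Type u} [CommRing A] [CommRing B] [Algebra A B] [Algebra.FiniteType A B]
    (N : Type u) [AddCommGroup N] [Module B N] [Module.Finite B N] (p : Ideal A) [p.IsPrime]
    (h : FlatCA.HasImpurity A B N p (fun A' _ _ t => ∃ (_ : IsLocalRing A') (_ : Algebra (Localization.AtPrime p) A')
        (_ : IsScalarTower A (Localization.AtPrime p) A') (_ : IsLocalHom (algebraMap (Localization.AtPrime p) A')),
        Hensel.IsHenselization (Localization.AtPrime p) A' ∧ t = maximalIdeal A')) :
    FlatCA.HasImpurity A B N p (fun A' _ _ t => ∃ _ : t.IsPrime, FlatCA.IsEtaleNhd A A' p t) := by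
  classical
  obtain ⟨A', B', N', _, _, _, _, _, _, _, _, _, _, _, _, _, _, f, t', t, _, _, P, _, himp,
    hloc, halg, htow, hlh, hhens, rfl⟩ := h
  letI := fun (G : Type u) [CommRing G] [Algebra A G] =>
    Algebra.TensorProduct.rightAlgebra (R := A) (A := G) (B := B)
  obtain ⟨F⟩ := Groth.Agent.Lib.Helper24.IndEtaleProps.nonempty_family
    (Groth.Agent.Lib.Helper24.HensAtPrime.isIndEtale_atPrime A p A')
  obtain ⟨i, hi⟩ := Groth.Agent.Lib.helper26.Purity.exists_stage_isImpurity N p A' B' N' f t'
    (maximalIdeal A') P himp F.C F.φ F.hobj F.hker F.hsurj
  obtain ⟨hq, hbij⟩ := Groth.Agent.Lib.Helper24.HensAtPrime.pair_of_algHom A p A' (F.C i) (F.φ i)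
    ((maximalIdeal A').comap (F.φ i).toRingHom) rfl
  refine ⟨F.C i, TensorProduct A (F.C i) B, TensorProduct B (TensorProduct A (F.C i) B) N,
    inferInstance, inferInstance, inferInstance, inferInstance,
    inferInstance, inferInstance, inferInstance, inferInstance, inferInstance, inferInstance,
    inferInstance, inferInstance, inferInstance, inferInstance, _, _, _, inferInstance,
    inferInstance, _, inferInstance, hi, inferInstance, inferInstance, ⟨hq⟩, ?_⟩
  exact hbij

end Groth.Agent.S1248
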