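import Groth.Statements.S9000
import Groth.Agent.Lib.Helper26.Purity16
import Groth.Agent.Lib.Helper26.Purity18
import Groth.Agent.Lib.Helper24.HensAtPrime

set_option autoImplicit false
set_option linter.style.haveILetI false
universe u
open FlatMor

namespace Groth.Agent.S9000

open IsLocalRing in
/-- For Spec B → Spec A of finite type, a finite B-module N and a prime p of A, an impurity of N above p
over an elementary etale neighbourhood of (A, p) yields an impurity of N above p over the
henselization of the local ring of A at p, based at its closed point. (The other implications of the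
published equivalence are separate results: from the henselization to an elementary etale
neighbourhood, and between elementary etale neighbourhoods and base rings quasi-finite at the
point.) -/
theorem result {A B : Type u} [CommRing A] [CommRing B] [Algebra A B] [Algebra.FiniteType A B] (N : Type u) [AddCommGroup N] [Module B N] [Module.Finite B N] (p : Ideal A) [p.IsPrime] (h : FlatCA.HasImpurity A B N p (fun A' _ _ t => ∃ _ : t.IsPrime, FlatCA.IsEtaleNhd A A' p t)) : FlatCA.HasImpurity A B N p (fun A' _ _ t => ∃ (_ : IsLocalRing A') (_ : Algebra (Localization.AtPrime p) A') (_ : IsScalarTower A (Localization.AtPrime p) A') (_ : IsLocalHom (algebraMap (Localization.AtPrime p) A')), Hensel.IsHenselization (Localization.AtPrime p) A' ∧ t = maximalIdeal A') := by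
  classical
  obtain ⟨A₁, B₁, N₁, _, _, _, _, _, _, _, _, _, _, _, _, _, _, f₁, t', t₁, _, _, P, _, himp, _,
    hEt, hlo, hbij⟩ := h
  haveI := hEt
  obtain ⟨H, _, _, _, _, _⟩ :=
    Groth.Agent.Lib.helper24.Henselization.exists_isHenselization (Localization.AtPrime p)
  letI algAH : Algebra A H :=
    ((algebraMap (Localization.AtPrime p) H).comp (algebraMap A (Localization.AtPrime p))).toAlgebra
  haveI : IsScalarTower A (Localization.AtPrime p) H := IsScalarTower.of_algebraMap_eq fun _ => rfl
  obtain ⟨φ, hφ⟩ := Groth.Agent.Lib.Helper24.HensAtPrime.exists_algHom A p H A₁ t₁ hlo.over hbij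
  -- flatness of `H` over `A₁`
  haveI : Module.Flat (Localization.AtPrime p) H :=
    (Groth.Agent.Lib.helper24.Henselization.faithfullyFlat_of_isHenselization
      (Localization.AtPrime p) H).toFlat
  haveI : Module.Flat A H := Module.Flat.trans A (Localization.AtPrime p) H
  have hflat := Groth.Agent.Lib.helper26.Purity.flat_of_etale_of_algHom φ
  letI algA₁H : Algebra A₁ H := φ.toRingHom.toAlgebra
  haveI : Module.Flat A₁ H := hflat
  haveI : IsScalarTower A A₁ H := IsScalarTower.of_algebraMap_eq fun a => (φ.commutes a).symm
  haveI : (maximalIdeal H).LiesOver t₁ := ⟨hφ.symm⟩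
  obtain ⟨t'', hle'', ht'', ht''o⟩ :=
    Ideal.exists_ideal_le_liesOver_of_le (p := t') (q := t₁) (maximalIdeal H) himp.2.2.1
  exact Groth.Agent.Lib.helper26.Purity.hasImpurity_of_isImpurity_of_le N p A₁ B₁ N₁ f₁ t' t₁ P H
    t'' (maximalIdeal H) himp hle'' _
    ⟨inferInstance, inferInstance, inferInstance, inferInstance, inferInstance, rfl⟩

end Groth.Agent.S9000
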