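import Groth.Statements.S5767
-- import your own Groth.Agent.* helpers here

set_option autoImplicit false
universe u
open EGA41

namespace Groth.Agent.S5767

/-- A Noetherian semi-local ring has finite Krull dimension. -/
theorem ringKrullDim_lt_top_of_semilocal (A : Type u) [CommRing A] [IsNoetherianRing A]
    [Finite (MaximalSpectrum A)] : ringKrullDim A < ⊤ := by
  classical
  have : Fintype (MaximalSpectrum A) := Fintype.ofFinite _
  let n : ℕ∞ := Finset.univ.sup fun m : MaximalSpectrum A => m.asIdeal.height
  have hn : n < ⊤ := by
    rw [Finset.sup_lt_iff (by simp)]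
    intro m _
    have := m.isMaximal
    exact Ideal.height_lt_top m.isMaximal.ne_top
  have : ringKrullDim A ≤ (n : WithBot ℕ∞) := by
    rw [ringKrullDim_le_iff_isMaximal_height_le]
    intro m hm
    exact_mod_cast Finset.le_sup (f := fun m : MaximalSpectrum A => m.asIdeal.height)
      (Finset.mem_univ ⟨m, hm⟩)
  exact this.trans_lt (by rw [← WithBot.coe_top]; exact WithBot.coe_lt_coe.mpr hn)

/-- For `p` in the support of `M`, `dim A/p ≤ dim M`. -/
theorem ringKrullDim_quotient_le_supportDim (A : Type u) [CommRing A] (M : Type u)
    [AddCommGroup M] [Module A M] (p : PrimeSpectrum A) (hp : p ∈ Module.support A M) :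
    ringKrullDim (A ⧸ p.asIdeal) ≤ Module.supportDim A M := by
  rw [ringKrullDim_quotient]
  refine Order.krullDim_le_of_strictMono
    (f := fun q : PrimeSpectrum.zeroLocus (p.asIdeal : Set A) =>
      (⟨q.1, Module.mem_support_mono (by exact q.2) hp⟩ : Module.support A M)) ?_
  intro a b hab
  exact hab

/-- Let A be a semi-local Noetherian ring, M a finitely generated A-module and x an element of the
Jacobson radical of A. One always has dim(M/xM) ≥ dim(M) - 1; equality dim(M/xM) = dim(M) - 1 holds
if and only if x belongs to none of the prime ideals p of Supp(M) with dim(A/p) = dim(M). Stated as: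
dim(M/xM) + 1 = dim(M) iff x avoids those primes. -/
theorem result (A : Type u) [CommRing A] [IsNoetherianRing A]
    [Finite (MaximalSpectrum A)] (M : Type u) [AddCommGroup M] [Module A M] [Module.Finite A M] (x : A)
    (hx : x ∈ Ring.jacobson A) :
    Module.supportDim A (QuotSMulTop x M) + 1 = Module.supportDim A M ↔
      ∀ p : PrimeSpectrum A, p ∈ Module.support A M →
        ringKrullDim (A ⧸ p.asIdeal) = Module.supportDim A M → x ∉ p.asIdeal := by
  have hxJ : x ∈ (Module.annihilator A M).jacobson := Ideal.ringJacobson_le_jacobson hx
  have hge := Module.supportDim_le_supportDim_quotSMulTop_succ_of_mem_jacobson (M := M) hxJ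
  have hfin : Module.supportDim A M < ⊤ :=
    (Module.supportDim_le_ringKrullDim A M).trans_lt (ringKrullDim_lt_top_of_semilocal A)
  constructor
  · intro heq p hp hpd hxp
    have hp' : p ∈ Module.support A (QuotSMulTop x M) := by
      rw [Module.support_quotSMulTop]
      exact ⟨hp, by simpa using hxp⟩
    have h1 := ringKrullDim_quotient_le_supportDim A (QuotSMulTop x M) p hp'
    rw [hpd] at h1
    have h2 : Module.supportDim A M + 1 ≤ Module.supportDim A M := by
      calc Module.supportDim A M + 1 ≤ Module.supportDim A (QuotSMulTop x M) + 1 := by gcongr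
        _ = Module.supportDim A M := heq
    have hbot : Module.supportDim A M ≠ ⊥ := by
      rw [Module.supportDim_ne_bot_iff_nontrivial]
      by_contra hM
      rw [not_nontrivial_iff_subsingleton] at hM
      have : Module.support A M = ∅ := Module.support_eq_empty_iff.mpr hM
      rw [this] at hp
      exact hp
    obtain ⟨n, hn⟩ : ∃ n : ℕ, Module.supportDim A M = n := by
      lift Module.supportDim A M to ℕ∞ using hbot with d hd
      lift d to ℕ using (by rintro rfl; exact (lt_irrefl _ hfin)) with n
      exact ⟨n, rfl⟩
    rw [hn] at h2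
    have : ((n + 1 : ℕ) : WithBot ℕ∞) ≤ (n : ℕ) := by exact_mod_cast h2
    have := (WithBot.coe_le_coe.mp this)
    have := (ENat.natCast_le_natCast.mp this)
    omega
  · intro h
    refine le_antisymm ?_ hge
    nontriviality M
    nontriviality (QuotSMulTop x M)
    have : Nonempty (Module.support A (QuotSMulTop x M)) :=
      Module.nonempty_support_of_nontrivial.to_subtype
    have key : ∀ q : LTSeries (Module.support A (QuotSMulTop x M)),
        ((q.length : ℕ∞) : WithBot ℕ∞) + 1 ≤ Module.supportDim A M := by
      intro q
      have hq0 : q.head.1 ∈ Module.support A M ∩ PrimeSpectrum.zeroLocus {x} := by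
        rw [← Module.support_quotSMulTop]; exact q.head.2
      have hq0M : q.head.1 ∈ Module.support A M := hq0.1
      have hx0 : x ∈ q.head.1.asIdeal := by simpa using hq0.2
      have h1 := ringKrullDim_quotient_le_supportDim A M q.head.1 hq0M
      have h2 : ringKrullDim (A ⧸ q.head.1.asIdeal) ≠ Module.supportDim A M :=
        fun e => h q.head.1 hq0M e hx0
      have h3 : ringKrullDim (A ⧸ q.head.1.asIdeal) < Module.supportDim A M := lt_of_le_of_ne h1 h2
      have h4 : ((q.length : ℕ∞) : WithBot ℕ∞) ≤ ringKrullDim (A ⧸ q.head.1.asIdeal) := by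
        rw [ringKrullDim_quotient]
        let q' : LTSeries (PrimeSpectrum.zeroLocus (q.head.1.asIdeal : Set A)) :=
          { length := q.length
            toFun := fun i => ⟨(q i).1, by
              rw [PrimeSpectrum.mem_zeroLocus]
              exact q.monotone (Fin.zero_le _)⟩
            step := fun i => q.step i }
        exact_mod_cast Order.LTSeries.length_le_krullDim q'
      have h5 : ((q.length : ℕ) : WithBot ℕ∞) < Module.supportDim A M := by
        exact_mod_cast lt_of_le_of_lt h4 h3
      exact_mod_cast ENat.WithBot.add_one_le_iff.mpr h5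
    have hbot : Module.supportDim A M ≠ ⊥ :=
      (Module.supportDim_ne_bot_iff_nontrivial A M).mpr inferInstance
    obtain ⟨d, hd⟩ : ∃ d : ℕ∞, Module.supportDim A M = d :=
      ⟨(Module.supportDim A M).unbot hbot, (WithBot.coe_unbot _ hbot).symm⟩
    rw [hd] at key ⊢
    rw [Module.supportDim, Order.krullDim_eq_iSup_length]
    have key' : ∀ q : LTSeries (Module.support A (QuotSMulTop x M)),
        (q.length : ℕ∞) + 1 ≤ d := fun q => by exact_mod_cast key q
    have : (⨆ q : LTSeries (Module.support A (QuotSMulTop x M)), (q.length : ℕ∞)) + 1 ≤ d := by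
      rw [ENat.iSup_add]
      exact iSup_le key'
    exact_mod_cast this


end Groth.Agent.S5767
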