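import Groth.Statements.S0623
import Mathlib
import Groth.Agent.Lib.Helper18.JCont
import Groth.Agent.Lib.Helper1.ExtZeroStalk
import Groth.Agent.S0101

set_option autoImplicit false
open CategoryTheory CategoryTheory.Limits AlgebraicGeometry Opposite
universe u
open EtCore

namespace Groth.Agent.S0623

open CategoryTheory CategoryTheory.Limits AlgebraicGeometry Opposite
open EtCore
open Abelian
open Groth.Agent.Lib.Helper18.JCont

/-- direct images preserve injectives -/
lemma injective_push {X Y : Scheme.{u}} (f : X ⟶ Y) (I : EtCoh.Ab X) [Injective I] :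
    Injective ((EtCoh.push f).obj I) := by
  have := Groth.Agent.S0101.result f
  exact Injective.injective_of_adjoint (EtCoh.pullPushAdj f) I

/-- inverse images along étale morphisms preserve injectives -/
lemma injective_pull_of_etale {U Y : Scheme.{u}} (j : U ⟶ Y) [Etale j] (J : EtCoh.Ab Y)
    [Injective J] : Injective ((EtCoh.pull j).obj J) := by
  have := Groth.Agent.H1.ExtZeroStalk.preservesFiniteLimits_extZero j
  have h1 : Injective ((EtShriek.restrAlong j).obj J) :=
    Injective.injective_of_adjoint (EtShriek.extZeroAdj j) J
  exact Injective.of_iso ((Groth.Agent.H1.EtStalkPull.restrIsoPull j).app J) h1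

/-- For a morphism f : X -> Y and an injective abelian sheaf I on the small etale site of X, the
pushforward f_* I is acyclic: its etale cohomology over any scheme V etale over Y (computed after
pulling back to V) vanishes in positive degrees, and for any g : Y -> Z the higher direct images R^q
g_* (f_* I) vanish for q > 0. Part (1) on Cech cohomology is not included. -/
theorem result {X Y Z : Scheme.{u}} (f : X ⟶ Y) (g : Y ⟶ Z) (I : EtCoh.Ab X)
    [Injective I] (q : ℕ) (hq : 1 ≤ q) :
    (∀ V : Y.Etale, Subsingleton (EtCoh.H V.left ((EtCoh.pull V.hom).obj ((EtCoh.push f).obj I)) q)) ∧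
    IsZero ((EtCoh.Rpush g q).obj ((EtCoh.push f).obj I)) := by
  have hI := injective_push f I
  obtain ⟨n, rfl⟩ : ∃ n, q = n + 1 := ⟨q - 1, by omega⟩
  refine ⟨fun V => ?_, ?_⟩
  · have : Etale V.hom := V.prop
    have := injective_pull_of_etale V.hom ((EtCoh.push f).obj I)
    exact ⟨fun a b => (Ext.eq_zero_of_injective a).trans (Ext.eq_zero_of_injective b).symm⟩
  · exact Functor.isZero_rightDerived_obj_injective_succ _ n _

end Groth.Agent.S0623
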