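import Groth.Statements.S0931
import Groth.Agent.Lib.Helper1.HDUSections

set_option autoImplicit false
universe u
open CategoryTheory
open CohSite

namespace Groth.Agent.S0931

open Groth.Agent.H1.HDUSections

theorem main {C : Type u} [SmallCategory C] {J : GrothendieckTopology C}
    [HasDerivedCategory.{u} (Sheaf J AddCommGrpCat.{u})] (K : DerivedCategory (Sheaf J AddCommGrpCat.{u}))
    (q : ℤ) :
    Nonempty ((presheafToSheaf J AddCommGrpCat.{u}).obj (CohCx.HDUPresheaf K q) ≅ CohCx.HD K q) := by
  have hW : J.W (rhoNat K q) := J.W_of_isLocallyBijective (rhoNat K q)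
  rw [GrothendieckTopology.W_iff] at hW
  exact ⟨asIso ((presheafToSheaf J AddCommGrpCat.{u}).map (rhoNat K q)) ≪≫
    asIso ((sheafificationAdjunction J AddCommGrpCat.{u}).counit.app (CohCx.HD K q))⟩

/-- Let K be an object of the derived category of abelian sheaves on a site and q an integer. Then the
sheafification of the presheaf U ↦ H^q(U, K) is isomorphic to the q-th cohomology sheaf H^q(K). -/
theorem result {C : Type u} [SmallCategory C] {J : GrothendieckTopology C}
    [HasDerivedCategory.{u} (Sheaf J AddCommGrpCat.{u})] (K : DerivedCategory (Sheaf J AddCommGrpCat.{u}))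
    (q : ℤ) :
    Nonempty ((presheafToSheaf J AddCommGrpCat.{u}).obj (CohCx.HDUPresheaf K q) ≅ CohCx.HD K q) := by
  exact main K q

end Groth.Agent.S0931
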