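import Groth.Statements.S0483
import Groth.Agent.Lib.Helper7.FreeYoneda
import Groth.Agent.Lib.Helper7.DimShift
import Mathlib.CategoryTheory.Sites.EpiMono

set_option autoImplicit false
universe u
open CategoryTheory
open CohSite

namespace Groth.Agent.S0483

open CategoryTheory Opposite Groth.Agent.Lib.helper7 Abelian

lemma res_eq {C : Type u} [SmallCategory C] (J : GrothendieckTopology C)
    (F : Sheaf J AddCommGrpCat.{u}) (m : ℕ) {U V : C} (f : V ⟶ U)
    (ξ : CohSite.HU F m U) :
    CohSite.res F m f ξ =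
      (Ext.mk₀ ((FreeYoneda.freeSheaf J).map f)).comp
        (ξ : Ext.{u} ((FreeYoneda.freeSheaf J).obj U) F m)
        (zero_add m) := rfl

/-- The sieve of arrows along which `ξ` pulls back to zero. -/
def killSieve {C : Type u} [SmallCategory C] (J : GrothendieckTopology C)
    {G : Sheaf J AddCommGrpCat.{u}} {U : C} {m : ℕ}
    (ξ : Ext.{u} ((FreeYoneda.freeSheaf J).obj U) G m) : Sieve U where
  arrows V i := (Ext.mk₀ ((FreeYoneda.freeSheaf J).map i)).comp ξ (zero_add m) = 0
  downward_closed := by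
    intro V W i hi j
    show (Ext.mk₀ ((FreeYoneda.freeSheaf J).map (j ≫ i))).comp ξ (zero_add m) = 0
    rw [Functor.map_comp, ← Ext.mk₀_comp_mk₀, Ext.comp_assoc_of_second_deg_zero, hi,
      Ext.comp_zero]

lemma key {C : Type u} [SmallCategory C] (J : GrothendieckTopology C) (n : ℕ) :
    ∀ (S : ShortComplex (Sheaf J AddCommGrpCat.{u})) (hS : S.ShortExact)
    [Injective S.X₂] (U : C)
    (ξ : Ext.{u} ((FreeYoneda.freeSheaf J).obj U) S.X₁ (n + 1)),
      killSieve J ξ ∈ J U := by
  induction n with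
  | zero =>
    intro S hS _ U ξ
    have h1 : ξ.comp (Ext.mk₀ S.f) (add_zero 1) = 0 := Ext.eq_zero_of_injective _
    obtain ⟨η, hη⟩ := Ext.covariant_sequence_exact₁ _ hS ξ h1 (zero_add 1)
    obtain ⟨g, rfl⟩ := (Ext.mk₀_bijective _ S.X₃).2 η
    have hepi : Epi S.g := hS.epi_g
    have hls : Sheaf.IsLocallySurjective S.g := (Sheaf.isLocallySurjective_iff_epi' _ S.g).mpr hepi
    have hmem : Presheaf.imageSieve S.g.hom (FreeYoneda.homEquiv J U _ g) ∈ J U :=
      hls.imageSieve_mem _
    refine J.superset_covering ?_ hmem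
    intro V i ⟨t, ht⟩
    show (Ext.mk₀ ((FreeYoneda.freeSheaf J).map i)).comp ξ (zero_add 1) = 0
    have hfac : (FreeYoneda.freeSheaf J).map i ≫ g =
        (FreeYoneda.homEquiv J V _).symm t ≫ S.g := by
      apply (FreeYoneda.homEquiv J V _).injective
      rw [FreeYoneda.homEquiv_naturality_left, FreeYoneda.homEquiv_naturality_right,
        Equiv.apply_symm_apply]
      exact ht.symm
    rw [← hη, ← Ext.comp_assoc_of_second_deg_zero, Ext.mk₀_comp_mk₀, hfac, ← Ext.mk₀_comp_mk₀,
      Ext.comp_assoc_of_second_deg_zero, hS.comp_extClass, Ext.comp_zero]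
  | succ n ih =>
    intro S hS _ U ξ
    have h1 : ξ.comp (Ext.mk₀ S.f) (add_zero (n + 1 + 1)) = 0 := Ext.eq_zero_of_injective _
    obtain ⟨η, hη⟩ := Ext.covariant_sequence_exact₁ _ hS ξ h1
      (rfl : n + 1 + 1 = n + 1 + 1)
    have hmem := ih (DimShift.injSES S.X₃) (DimShift.injSES_shortExact S.X₃) U η
    refine J.superset_covering ?_ hmem
    intro V i hi
    show (Ext.mk₀ ((FreeYoneda.freeSheaf J).map i)).comp ξ (zero_add (n + 1 + 1)) = 0
    have hres' : (Ext.mk₀ ((FreeYoneda.freeSheaf J).map i)).comp η (zero_add (n + 1)) =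
        (0 : Ext.{u} ((FreeYoneda.freeSheaf J).obj V) S.X₃ (n + 1)) :=
      hi
    rw [← hη, ← Ext.comp_assoc (a₁₂ := n + 1) _ _ _ (by lia) (by lia) (by lia), hres',
      Ext.zero_comp]

/-- For an abelian sheaf F on a small site, an object U and a class ξ in H^(n+1)(U, F), there is a
covering sieve of U such that ξ pulls back to zero along every arrow of the sieve. -/
theorem result {C : Type u} [SmallCategory C] (J : GrothendieckTopology C)
    (F : Sheaf J AddCommGrpCat.{u}) (U : C) (n : ℕ) (ξ : CohSite.HU F (n + 1) U) :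
    ∃ (S : J.Cover U), ∀ (a : S.Arrow), CohSite.res F (n + 1) a.f ξ = 0 := by
  have hk := key.{u} J n (DimShift.injSES F) (DimShift.injSES_shortExact.{u} F) U ξ
  refine ⟨⟨killSieve J (ξ : Ext.{u} ((FreeYoneda.freeSheaf J).obj U) F (n + 1)), hk⟩, fun a => ?_⟩
  rw [res_eq]
  exact a.hf

end Groth.Agent.S0483
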