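import Groth.Statements.S15442
import Mathlib
-- import your own Groth.Agent.* helpers here

set_option autoImplicit false
universe u v
open CategoryTheory AlgebraicGeometry
open WeilCoh

namespace Groth.Agent.S15442

/-- Let H^* be a Weil cohomology theory, with coefficient field K of characteristic zero, on nonsingular
connected projective varieties over the algebraically closed field k, and X such a variety. Then the
structure morphism K → H^0(X) is an isomorphism: c ↦ c · 1 is a bijection from K onto the degree-0
part of the cohomology ring. -/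
theorem result (k : Type u) [Field k] [IsAlgClosed k] (K : Type v) [Field K] [CharZero K]
    (T : WeilCoh.Theory k K) (X : WeilCoh.Var k) :
    Function.Bijective (fun c : K =>
      (⟨c • (1 : T.H X), (T.gr X 0).smul_mem c (SetLike.one_mem_graded (T.gr X))⟩ : ↥(T.gr X 0))) := by
  set d : ℤ := (WeilCoh.dim X.obj.left : ℤ) with hd
  have hperf := T.duality X 0 (2 * d) (by ring)
  -- the top degree is one-dimensional
  let eTop : ↥(T.gr X (2 * d)) ≃ₗ[K] K :=
    LinearEquiv.ofBijective ((T.tr X).domRestrict (T.gr X (2 * d))) (T.tr_bijective X)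
  have htop : Module.finrank K ↥(T.gr X (2 * d)) = 1 := by
    rw [eTop.finrank_eq, Module.finrank_self]
  -- degree zero is one-dimensional
  let e0 : ↥(T.gr X 0) ≃ₗ[K] Module.Dual K ↥(T.gr X (2 * d)) :=
    LinearEquiv.ofBijective _ hperf.bijective_left
  have h0 : Module.finrank K ↥(T.gr X 0) = 1 := by
    rw [e0.finrank_eq, Subspace.dual_finrank_eq, htop]
  -- `1 ≠ 0`
  have hone : (1 : T.H X) ≠ 0 := by
    intro h10
    have hsub : ∀ a : T.H X, a = 0 := fun a => by rw [← mul_one a, h10, mul_zero]
    obtain ⟨a, ha⟩ := (T.tr_bijective X).2 1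
    have : ((T.tr X).domRestrict (T.gr X (2 * d))) a = 0 := by
      change T.tr X a.1 = 0
      rw [hsub a.1, map_zero]
    rw [this] at ha
    exact zero_ne_one ha
  let one0 : ↥(T.gr X 0) := ⟨1, SetLike.one_mem_graded (T.gr X)⟩
  let ψ : K →ₗ[K] ↥(T.gr X 0) := LinearMap.toSpanSingleton K _ one0
  have hψ : (fun c : K =>
      (⟨c • (1 : T.H X), (T.gr X 0).smul_mem c (SetLike.one_mem_graded (T.gr X))⟩ : ↥(T.gr X 0))) = ⇑ψ := by
    funext c
    rfl
  rw [hψ]
  have hinj : Function.Injective ψ := by
    rw [injective_iff_map_eq_zero]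
    intro c hc
    have hc' : c • (1 : T.H X) = 0 := congrArg Subtype.val hc
    rcases smul_eq_zero.mp hc' with h | h
    · exact h
    · exact (hone h).elim
  have hfr : Module.finrank K K = Module.finrank K ↥(T.gr X 0) := by
    rw [h0, Module.finrank_self]
  exact ⟨hinj, (LinearMap.injective_iff_surjective_of_finrank_eq_finrank hfr).mp hinj⟩

end Groth.Agent.S15442
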