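import Groth.Statements.S0883
import Groth.Agent.Lib.Helper1.NegVanish
import Groth.Agent.Lib.Helper1.AbSheafRlim
import Groth.Agent.Lib.Helper25.KInjMain
import Groth.Agent.Lib.Helper25.DerAdjK
import Groth.Agent.Lib.Helper25.DerBC2
import Groth.Agent.Lib.Helper27.PullConst

set_option autoImplicit false
universe u
open CategoryTheory
open CohTop

namespace Groth.Agent.S0883

open TopologicalSpace Opposite CategoryTheory.Limits DerivedCategory
open Groth.Agent.Lib.helper7.FreeYoneda Groth.Agent.Lib.helper27 Groth.Agent.H1.LocProjGen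
  Groth.Agent.H1.NegVanish Groth.Agent.H1.AbSheafRlim Groth.Agent.H1.SingleHom

section adj

variable {X Y : TopCat.{u}} (f : X ⟶ Y)
  [HasDerivedCategory.{u} (CohTop.Ab X)] [HasDerivedCategory.{u + 1} (CohTop.Ab Y)]

theorem hKinj (K : CochainComplex (CohTop.Ab X) ℤ) :
    ∃ (I : CochainComplex (CohTop.Ab X) ℤ) (f : K ⟶ I), I.IsKInjective ∧ QuasiIso f := by
  obtain ⟨I, f, hI, hf, -, -⟩ := Groth.Agent.Lib.Helper25.KInjMain.exists_kInjective_resolution K
  exact ⟨I, f, hI, hf⟩

theorem exists_adj :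
    ∃ (RG : DerivedCategory (CohTop.Ab X) ⥤ DerivedCategory (CohTop.Ab Y)),
      Nonempty ((CohTop.pull f).mapDerivedCategory ⊣ RG) := by
  have hD : ((CohTop.push f).mapHomotopyCategory (ComplexShape.up ℤ) ⋙
      DerivedCategory.Qh).HasRightDerivedFunctor
      (HomotopyCategory.quasiIso (CohTop.Ab X) (ComplexShape.up ℤ)) :=
    Groth.Agent.Lib.Helper25.DerBC.hasRightDerivedFunctor (hKinj (X := X)) _
  obtain ⟨adj', -⟩ := Groth.Agent.Lib.Helper25.DerAdjK.exists_adjunction (hKinj (X := X))
    (PullConst.pbAdj f)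
    (((CohTop.push f).mapHomotopyCategory (ComplexShape.up ℤ) ⋙
      DerivedCategory.Qh).totalRightDerived DerivedCategory.Qh
      (HomotopyCategory.quasiIso (CohTop.Ab X) (ComplexShape.up ℤ)))
    (((CohTop.push f).mapHomotopyCategory (ComplexShape.up ℤ) ⋙
      DerivedCategory.Qh).totalRightDerivedUnit DerivedCategory.Qh
      (HomotopyCategory.quasiIso (CohTop.Ab X) (ComplexShape.up ℤ)))
  exact ⟨_, ⟨adj'⟩⟩

end adj

section theta

variable {X Y : TopCat.{u}} (f : X ⟶ Y)

local notation "JX" => Opens.grothendieckTopology X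
local notation "JY" => Opens.grothendieckTopology Y

/-- the generator of `ℤ_V` -/
noncomputable def gen (V : Opens Y) : ((freeSheaf (Opens.grothendieckTopology Y)).obj V).obj.obj (op V) :=
  homEquiv _ V _ (𝟙 _)

/-- the canonical section of `f⁻¹ ℤ_V` over `f⁻¹ V` -/
noncomputable def sec (V : Opens Y) :
    ((CohTop.pull f).obj ((freeSheaf (Opens.grothendieckTopology Y)).obj V)).obj.obj
      (op ((Opens.map f).obj V)) :=
  ((PullConst.pbAdj f).unit.app ((freeSheaf (Opens.grothendieckTopology Y)).obj V)).hom.app (op V)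
    (gen V)

/-- the comparison map `ℤ_{f⁻¹ V} ⟶ f⁻¹ ℤ_V` -/
noncomputable def alpha (V : Opens Y) :
    (freeSheaf (Opens.grothendieckTopology X)).obj ((Opens.map f).obj V) ⟶
      (CohTop.pull f).obj ((freeSheaf (Opens.grothendieckTopology Y)).obj V) :=
  (homEquiv _ _ _).symm (sec f V)

lemma homEquiv_unit (V : Opens Y) :
    homEquiv (Opens.grothendieckTopology Y) V _
      ((PullConst.pbAdj f).unit.app ((freeSheaf (Opens.grothendieckTopology Y)).obj V)) =
      sec f V := by
  have := homEquiv_naturality_right (Opens.grothendieckTopology Y) V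
    ((PullConst.pbAdj f).unit.app ((freeSheaf (Opens.grothendieckTopology Y)).obj V)) (𝟙 _)
  rw [Category.id_comp] at this
  exact this

lemma key (V : Opens Y) (G : CohTop.Ab X)
    (b : (CohTop.pull f).obj ((freeSheaf (Opens.grothendieckTopology Y)).obj V) ⟶ G) :
    homEquiv (Opens.grothendieckTopology X) ((Opens.map f).obj V) G (alpha f V ≫ b) =
      homEquiv (Opens.grothendieckTopology Y) V ((CohTop.push f).obj G)
        ((PullConst.pbAdj f).homEquiv _ _ b) := by
  rw [homEquiv_naturality_right, Adjunction.homEquiv_unit, homEquiv_naturality_right,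
    homEquiv_unit]
  unfold alpha
  rw [Equiv.apply_symm_apply]
  rfl

instance (V : Opens Y) : IsIso (alpha f V) := by
  apply isIso_of_coyoneda_map_bijective
  intro G
  have h1 : (fun b : (CohTop.pull f).obj ((freeSheaf (Opens.grothendieckTopology Y)).obj V) ⟶ G =>
      alpha f V ≫ b) = (homEquiv (Opens.grothendieckTopology X) ((Opens.map f).obj V) G).symm ∘
      (homEquiv (Opens.grothendieckTopology Y) V ((CohTop.push f).obj G)) ∘
      ((PullConst.pbAdj f).homEquiv _ _) := by
    funext b
    apply (homEquiv (Opens.grothendieckTopology X) ((Opens.map f).obj V) G).injective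
    simp only [Function.comp_apply, Equiv.apply_symm_apply]
    exact key f V G b
  rw [h1]
  exact (Equiv.bijective _).comp ((Equiv.bijective _).comp (Equiv.bijective _))

lemma gen_naturality {V V' : Opens Y} (g : V' ⟶ V) :
    ((freeSheaf (Opens.grothendieckTopology Y)).map g).hom.app (op V') (gen V') =
      ((freeSheaf (Opens.grothendieckTopology Y)).obj V).obj.map g.op (gen V) := by
  have h1 := homEquiv_naturality_right (Opens.grothendieckTopology Y) V'
    ((freeSheaf (Opens.grothendieckTopology Y)).map g) (𝟙 _)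
  have h2 := homEquiv_naturality_left (Opens.grothendieckTopology Y) g _
    (𝟙 ((freeSheaf (Opens.grothendieckTopology Y)).obj V))
  rw [Category.id_comp] at h1
  rw [Category.comp_id] at h2
  unfold gen
  rw [← h1, ← h2]

lemma alpha_naturality {V V' : Opens Y} (g : V' ⟶ V) :
    (freeSheaf (Opens.grothendieckTopology X)).map ((Opens.map f).map g) ≫ alpha f V =
      alpha f V' ≫ (CohTop.pull f).map ((freeSheaf (Opens.grothendieckTopology Y)).map g) := by
  apply (homEquiv (Opens.grothendieckTopology X) ((Opens.map f).obj V') _).injective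
  rw [homEquiv_naturality_left, homEquiv_naturality_right]
  unfold alpha
  rw [Equiv.apply_symm_apply, Equiv.apply_symm_apply]
  unfold sec
  have hnat : (freeSheaf (Opens.grothendieckTopology Y)).map g ≫
      (PullConst.pbAdj f).unit.app ((freeSheaf (Opens.grothendieckTopology Y)).obj V) =
      (PullConst.pbAdj f).unit.app ((freeSheaf (Opens.grothendieckTopology Y)).obj V') ≫
        (CohTop.push f).map ((CohTop.pull f).map ((freeSheaf (Opens.grothendieckTopology Y)).map g)) :=
    (PullConst.pbAdj f).unit.naturality ((freeSheaf (Opens.grothendieckTopology Y)).map g)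
  have h2 := NatTrans.naturality_apply
    ((PullConst.pbAdj f).unit.app ((freeSheaf (Opens.grothendieckTopology Y)).obj V)).hom g.op (gen V)
  change _ = (((PullConst.pbAdj f).unit.app ((freeSheaf (Opens.grothendieckTopology Y)).obj V')) ≫
    (CohTop.push f).map ((CohTop.pull f).map ((freeSheaf (Opens.grothendieckTopology Y)).map g))).hom.app
      (op V') (gen V')
  rw [← hnat]
  change _ = ((PullConst.pbAdj f).unit.app ((freeSheaf (Opens.grothendieckTopology Y)).obj V)).hom.app
    (op V') (((freeSheaf (Opens.grothendieckTopology Y)).map g).hom.app (op V') (gen V'))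
  rw [gen_naturality]
  exact h2.symm

/-- `ℤ_{(-)} ⋙ f⁻¹ ≅ f⁻¹(-) ⋙ ℤ_{(-)}` -/
noncomputable def theta :
    freeSheaf (Opens.grothendieckTopology Y) ⋙ CohTop.pull f ≅
      Opens.map f ⋙ freeSheaf (Opens.grothendieckTopology X) :=
  (NatIso.ofComponents (fun V => asIso (alpha f V))
    (fun {V' V} g => alpha_naturality f g)).symm

end theta

section conv

variable {X : TopCat.{u}} [HasDerivedCategory.{u} (CohTop.Ab X)]

lemma subsingleton_HDU_iff (K : DerivedCategory (CohTop.Ab X)) (j : ℤ) (W : Opens X) :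
    Subsingleton (CohCx.HDU K j W) ↔
      ∀ σ : Xj (freeSheaf (Opens.grothendieckTopology X)) W j ⟶ K, σ = 0 := by
  let i₁ := ((singleFunctors (CohTop.Ab X)).shiftIso j 0 j (add_zero j)).app
    ((freeSheaf (Opens.grothendieckTopology X)).obj W)
  constructor
  · intro hs σ
    have h1 : i₁.inv ≫ σ⟦j⟧' = i₁.inv ≫ (0 : _ ⟶ K)⟦j⟧' := hs.elim _ _
    have h2 : σ⟦j⟧' = (0 : _ ⟶ K)⟦j⟧' := (cancel_epi _).1 h1
    exact (shiftFunctor (DerivedCategory (CohTop.Ab X)) j).map_injective h2
  · intro hz
    have key : ∀ τ : CohCx.HDU K j W, τ = 0 := by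
      intro τ
      obtain ⟨σ, hσ⟩ := (shiftFunctor (DerivedCategory (CohTop.Ab X)) j).map_surjective (i₁.hom ≫ τ)
      rw [hz σ, Functor.map_zero] at hσ
      rw [← cancel_epi i₁.hom, ← hσ, comp_zero]
    exact ⟨fun a b => by rw [key a, key b]⟩

end conv

theorem main {X Y : TopCat.{u}} (f : X ⟶ Y)
    [HasDerivedCategory.{u} (CohTop.Ab X)] (B : Set (Opens Y)) (hB : Opens.IsBasis B)
    (K : DerivedCategory (CohTop.Ab X))
    (h : ∀ V ∈ B, ∀ i : ℤ, i < 0 → Subsingleton (CohCx.HDU K i ((Opens.map f).obj V))) :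
    (∀ (V : Opens Y) (i : ℤ), i < 0 → Subsingleton (CohCx.HDU K i ((Opens.map f).obj V))) ∧
    Presheaf.IsSheaf (Opens.grothendieckTopology Y) ((Opens.map f).op ⋙ CohCx.HDUPresheaf K 0) := by
  let _ : HasDerivedCategory.{u + 1} (CohTop.Ab Y) := HasDerivedCategory.standard _
  obtain ⟨RG, ⟨adj⟩⟩ := exists_adj f
  have hP := locProj_freeSheaf (Opens.grothendieckTopology Y)
  have hcov : ∀ U : Opens Y, ∃ (ι : Type u) (W : ι → Opens Y) (g : ∀ i, W i ⟶ U),
      Sieve.ofArrows W g ∈ Opens.grothendieckTopology Y U ∧ ∀ i, W i ∈ B := by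
    intro U
    refine ⟨{W : Opens Y // W ∈ B ∧ W ≤ U}, fun W => W.1, fun W => homOfLE W.2.2, ?_,
      fun W => W.2.1⟩
    intro x hx
    obtain ⟨W, hWB, hxW, hWU⟩ := (Opens.isBasis_iff_nbhd.1 hB) hx
    exact ⟨W, homOfLE hWU, Sieve.ofArrows_mk _ _ (⟨W, hWB, hWU⟩ : {W : Opens Y // W ∈ B ∧ W ≤ U}),
      hxW⟩
  have h0 : ∀ V ∈ B, ∀ j : ℤ, j < 0 →
      ∀ σ : Xj (freeSheaf (Opens.grothendieckTopology X)) ((Opens.map f).obj V) j ⟶ K, σ = 0 :=
    fun V hV j hj => (subsingleton_HDU_iff K j _).1 (h V hV j hj)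
  constructor
  · intro V i hi
    rw [subsingleton_HDU_iff]
    exact hom_eq_zero (freeSheaf (Opens.grothendieckTopology X)) hP (CohTop.pull f) adj
      (Opens.map f) (theta f) B hcov K h0 V i hi
  · let K₀ := K⟦(0 : ℤ)⟧
    let e₀ : K₀ ≅ K := (shiftFunctorZero (DerivedCategory (CohTop.Ab X)) ℤ).app K
    have h0' : ∀ V ∈ B, ∀ j : ℤ, j < 0 →
        ∀ σ : Xj (freeSheaf (Opens.grothendieckTopology X)) ((Opens.map f).obj V) j ⟶ K₀, σ = 0 := by
      intro V hV j hj σ
      have := h0 V hV j hj (σ ≫ e₀.hom)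
      rw [← cancel_mono e₀.hom, this, zero_comp]
    have hGE := isGE_RG (freeSheaf (Opens.grothendieckTopology X)) hP (CohTop.pull f) adj
      (Opens.map f) (theta f) B hcov K₀ h0'
    let F0 : CohTop.Ab Y := (homologyFunctor (CohTop.Ab Y) 0).obj (RG.obj K₀)
    let E : ∀ V : Opens Y,
        (Xj (freeSheaf (Opens.grothendieckTopology X)) ((Opens.map f).obj V) 0 ⟶ K₀) ≃
          F0.obj.obj (op V) := fun V =>
      (secEquiv (freeSheaf (Opens.grothendieckTopology X)) (CohTop.pull f) adj
        (Opens.map f) (theta f) K₀ hGE V).trans (homEquiv (Opens.grothendieckTopology Y) V F0)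
    have hE : ∀ {V V' : Opens Y} (g : V' ⟶ V)
        (σ : Xj (freeSheaf (Opens.grothendieckTopology X)) ((Opens.map f).obj V) 0 ⟶ K₀),
        E V' (res (freeSheaf (Opens.grothendieckTopology X)) ((Opens.map f).map g) 0 ≫ σ) =
          F0.obj.map g.op (E V σ) := by
      intro V V' g σ
      simp only [E, Equiv.trans_apply]
      rw [secEquiv_naturality, homEquiv_naturality_left]
    rw [Presheaf.isSheaf_iff_isSheaf_forget (Opens.grothendieckTopology Y) _
      (forget AddCommGrpCat.{u})]
    have hF0 : Presheaf.IsSheaf (Opens.grothendieckTopology Y) (F0.obj ⋙ forget AddCommGrpCat.{u}) :=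
      (Presheaf.isSheaf_iff_isSheaf_forget (Opens.grothendieckTopology Y) _
        (forget AddCommGrpCat.{u})).1 F0.property
    refine (Presheaf.isSheaf_of_iso_iff ?_).2 hF0
    refine NatIso.ofComponents (fun V => Equiv.toIso (E V.unop)) ?_
    intro V V' g
    ext σ
    exact hE g.unop σ

open TopologicalSpace in
/-- Part (1) (abelian sheaves; the assertion about Rf_* K is not included): given a continuous map f : X
-> Y, a basis B of opens of Y and an object K of the derived category of abelian sheaves on X such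
that H^i(f^{-1}V, K) = 0 for all i < 0 and V in B. Then H^i(f^{-1}V, K) = 0 for i < 0 and every open
V of Y, and the presheaf V ↦ H^0(f^{-1}V, K) is a sheaf on Y. -/
theorem result {X Y : TopCat.{u}} (f : X ⟶ Y)
    [HasDerivedCategory.{u} (CohTop.Ab X)] (B : Set (Opens Y)) (hB : Opens.IsBasis B)
    (K : DerivedCategory (CohTop.Ab X))
    (h : ∀ V ∈ B, ∀ i : ℤ, i < 0 → Subsingleton (CohCx.HDU K i ((Opens.map f).obj V))) :
    (∀ (V : Opens Y) (i : ℤ), i < 0 → Subsingleton (CohCx.HDU K i ((Opens.map f).obj V))) ∧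
    Presheaf.IsSheaf (Opens.grothendieckTopology Y) ((Opens.map f).op ⋙ CohCx.HDUPresheaf K 0) := by
  exact main f B hB K h

end Groth.Agent.S0883
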