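import Groth.Statements.S6810
import Mathlib

set_option autoImplicit false
open CategoryTheory CategoryTheory.Limits
universe v u
open CategoryTheory CategoryTheory.SimplicialObject CategoryTheory.SimplicialObject.Truncated

namespace Groth.Agent.S6810

instance finite_truncated (m : ℕ) : Finite (SimplexCategory.Truncated m) := by
  apply Finite.of_injective (fun a : SimplexCategory.Truncated m => (⟨a.1.len, Nat.lt_succ_of_le a.2⟩ : Fin (m + 1)))
  intro a b h
  simp only [Fin.mk.injEq] at h
  cases a; cases b
  congr
  exact SimplexCategory.ext h

instance finite_costr (m : ℕ) (Y : SimplexCategoryᵒᵖ) : Finite (CostructuredArrow (SimplexCategory.Truncated.inclusion m).op Y) := by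
  apply Finite.of_injective (fun X : CostructuredArrow (SimplexCategory.Truncated.inclusion m).op Y =>
    (⟨X.left.unop, X.hom.unop⟩ : Σ a : SimplexCategory.Truncated m, (Y.unop ⟶ a.1)))
  intro X X' h
  obtain ⟨l, r, f⟩ := X
  obtain ⟨l', r', f'⟩ := X'
  simp only [Sigma.mk.injEq] at h
  obtain ⟨h1, h2⟩ := h
  have hl : l = l' := by
    have := congrArg Opposite.op h1
    simpa using this
  subst hl
  have hf : f = f' := by
    have := eq_of_heq h2
    exact Quiver.Hom.unop_inj this
  subst hf
  obtain rfl : r = r' := Subsingleton.elim _ _
  rfl


/-- In a category with finite colimits every truncated simplicial object has a pointwise left Kan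
extension along the inclusion of the truncated simplex category, i.e. the left adjoints `i_{m!}` of
truncation exist and are given by the colimit formula. -/
theorem result {C : Type u} [Category.{v} C] [HasFiniteColimits C] (m : ℕ) (U : (SimplexCategory.Truncated m)ᵒᵖ ⥤ C) : (SimplexCategory.Truncated.inclusion m).op.HasPointwiseLeftKanExtension U := by
  intro Y
  classical
  letI : FinCategory (CostructuredArrow (SimplexCategory.Truncated.inclusion m).op Y) :=
    { fintypeObj := Fintype.ofFinite _
      fintypeHom := fun j j' => by
        haveI : Finite (j ⟶ j') := by
          apply Finite.of_injective (fun φ : j ⟶ j' => φ.left.unop.hom)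
          intro φ ψ h
          ext
          exact Quiver.Hom.unop_inj (ObjectProperty.hom_ext _ h)
        exact Fintype.ofFinite _ }
  unfold Functor.HasPointwiseLeftKanExtensionAt
  infer_instance

end Groth.Agent.S6810
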