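import Groth.Statements.S12801
import Mathlib
-- import your own Groth.Agent.* helpers here

set_option autoImplicit false
open CategoryTheory
universe v₂ u₂ v u
open Stk

namespace Groth.Agent.S12801

section helpers
section
variable {C : Type u} [Category.{v} C] {𝒳 : Type u₂} [Category.{v₂} 𝒳] (p : 𝒳 ⥤ C)

/-- the easy inclusion -/
theorem pushforward_pullback_le {x y : 𝒳} (f : y ⟶ x) (S : Sieve x) :
    (S.pullback f).functorPushforward p ≤ (S.functorPushforward p).pullback (p.map f) := by
  rintro V g ⟨z, d, c, hd, rfl⟩
  exact ⟨z, d ≫ f, c, hd, by simp⟩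

/-- the inclusion needing fibred in groupoids -/
theorem pullback_pushforward_le (hp : FibCat.IsFibGrpd p) {x y : 𝒳} (f : y ⟶ x) (S : Sieve x) :
    (S.functorPushforward p).pullback (p.map f) ≤ (S.pullback f).functorPushforward p := by
  rintro V g ⟨z, b, a, hb, hga⟩
  obtain ⟨z', a', ha'⟩ := hp.exists_lift a
  have := hp.isStronglyCartesian f
  have : p.IsHomLift (a ≫ p.map b) (a' ≫ b) := inferInstance
  have : p.IsHomLift (g ≫ p.map f) (a' ≫ b) := by rw [hga]; infer_instance
  let χ : z' ⟶ y := Functor.IsStronglyCartesian.map p (p.map f) f (g := g) rfl (a' ≫ b)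
  have hχ : χ ≫ f = a' ≫ b := Functor.IsStronglyCartesian.fac p (p.map f) f rfl (a' ≫ b)
  have : p.IsHomLift g χ := Functor.IsStronglyCartesian.map_isHomLift p (p.map f) f rfl (a' ≫ b)
  refine ⟨z', χ, eqToHom (IsHomLift.domain_eq p g χ).symm, ?_, ?_⟩
  · change S (χ ≫ f)
    rw [hχ]
    exact S.downward_closed hb a'
  · have := IsHomLift.fac p g χ
    simpa using this

theorem main (hp : FibCat.IsFibGrpd p) (J : GrothendieckTopology C) {x : 𝒳} (S : Sieve x) :
    S ∈ p.restrictedTopology J x ↔ S.functorPushforward p ∈ J (p.obj x) := by
  refine ⟨fun h => ?_, Functor.mem_restrictedTopology_of_functorPushforward_mem⟩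
  change Precoverage.Saturate _ x S at h
  induction h with
  | of X R hR =>
    rw [← Sieve.generate_map_eq_functorPushforward]
    exact hR
  | top X =>
    rw [Sieve.functorPushforward_top]
    exact J.top_mem _
  | pullback X S _ Y f ih =>
    exact J.superset_covering (pullback_pushforward_le p hp f S) (J.pullback_stable (p.map f) ih)
  | transitive X S R _ _ ihS ihR =>
    refine J.transitive ihS _ ?_
    rintro V g ⟨z, b, a, hb, rfl⟩
    rw [Sieve.pullback_comp]
    apply J.pullback_stable
    exact J.superset_covering (pushforward_pullback_le p b R) (ihR hb)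
end
end helpers

/-- Let `p : 𝒳 ⥤ C` make `𝒳` fibred in groupoids over `C` and let `J` be a Grothendieck topology on `C`.
A sieve `S` on an object `x` of `𝒳` belongs to the topology on `𝒳` generated by the sieves whose
image under `p` generates a covering sieve if and only if the image of `S` under `p` generates a
covering sieve of `p x`: the sieves whose image covers already satisfy the axioms of a topology (the
topology on `𝒳` inherited from `C`). (The published statement is for a fibred category, with
coverings the families of strongly cartesian morphisms `{x_i ⟶ x}` such that `{p x_i ⟶ p x}` is a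
covering; this row is the case of a category fibred in groupoids, where every morphism is strongly
cartesian, in sieve form.) -/
theorem result {C : Type u} [Category.{v} C] {𝒳 : Type u₂} [Category.{v₂} 𝒳] (p : 𝒳 ⥤ C)
    (hp : FibCat.IsFibGrpd p) (J : GrothendieckTopology C) {x : 𝒳} (S : Sieve x) :
    S ∈ p.restrictedTopology J x ↔ S.functorPushforward p ∈ J (p.obj x) := by
  exact main p hp J S

end Groth.Agent.S12801
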