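import Groth.Statements.S6414
-- import your own Groth.Agent.* helpers here

set_option autoImplicit false
open CategoryTheory
universe v₁ u₁ v₂ u₂ v₃ u₃
open FibCat

namespace Groth.Agent.S6414

theorem isHomLift_iff {𝒮 : Type u₁} [Category.{v₁} 𝒮] {𝒳 : Type u₂} [Category.{v₂} 𝒳]
    (p : 𝒳 ⥤ 𝒮) {a b : 𝒳} (f : p.obj a ⟶ p.obj b) (φ : a ⟶ b) :
    p.IsHomLift f φ ↔ f = p.map φ := by
  constructor
  · intro h
    exact IsHomLift.eq_of_isHomLift p f φ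
  · rintro rfl
    exact Functor.IsHomLift.map φ

/-- A morphism that is strongly cartesian with respect to `F : 𝒜 ⥤ ℬ` and whose image is strongly
cartesian with respect to `G : ℬ ⥤ 𝒞` is strongly cartesian with respect to `F ⋙ G`. -/
theorem result {𝒜 : Type u₁} [Category.{v₁} 𝒜] {ℬ : Type u₂} [Category.{v₂} ℬ] {𝒞 : Type u₃} [Category.{v₃} 𝒞] (F : 𝒜 ⥤ ℬ) (G : ℬ ⥤ 𝒞) {x y : 𝒜} (φ : x ⟶ y)
    [F.IsStronglyCartesian (F.map φ) φ] [G.IsStronglyCartesian (G.map (F.map φ)) (F.map φ)] :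
    (F ⋙ G).IsStronglyCartesian ((F ⋙ G).map φ) φ := by
  rename_i hF hG
  refine { toIsHomLift := Functor.IsHomLift.map φ, universal_property' := ?_ }
  intro a' g φ' hφ'
  have e1 : g ≫ G.map (F.map φ) = G.map (F.map φ') :=
    (isHomLift_iff (F ⋙ G) (g ≫ (F ⋙ G).map φ) φ').mp hφ'
  have hG1 : G.IsHomLift (g ≫ G.map (F.map φ)) (F.map φ') :=
    (isHomLift_iff G (a := F.obj a') (b := F.obj y) (g ≫ G.map (F.map φ)) (F.map φ')).mpr e1
  obtain ⟨ψ, ⟨hψ1, hψ2⟩, hψu⟩ :=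
    @Functor.IsStronglyCartesian.universal_property' _ _ _ _ G _ _ _ _ (G.map (F.map φ))
      (F.map φ) hG (F.obj a') g (F.map φ') hG1
  have eψ : g = G.map ψ := (isHomLift_iff G (a := F.obj a') (b := F.obj x) g ψ).mp hψ1
  have hF1 : F.IsHomLift (ψ ≫ F.map φ) φ' :=
    (isHomLift_iff F (ψ ≫ F.map φ) φ').mpr hψ2
  obtain ⟨χ, ⟨hχ1, hχ2⟩, hχu⟩ :=
    @Functor.IsStronglyCartesian.universal_property' _ _ _ _ F _ _ _ _ (F.map φ)
      φ hF a' ψ φ' hF1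
  have eχ : ψ = F.map χ := (isHomLift_iff F ψ χ).mp hχ1
  refine ⟨χ, ⟨(isHomLift_iff (F ⋙ G) g χ).mpr ?_, hχ2⟩, ?_⟩
  · rw [eψ, eχ]; rfl
  · rintro χ' ⟨hχ'1, hχ'2⟩
    have e2 : g = G.map (F.map χ') := (isHomLift_iff (F ⋙ G) g χ').mp hχ'1
    have e3 : F.map χ' = ψ := by
      apply hψu
      refine ⟨(isHomLift_iff G (a := F.obj a') (b := F.obj x) g (F.map χ')).mpr e2, ?_⟩
      rw [← F.map_comp, hχ'2]
    apply hχu
    exact ⟨(isHomLift_iff F ψ χ').mpr e3.symm, hχ'2⟩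

end Groth.Agent.S6414
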