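import Groth.Statements.S6416
import Groth.Agent.S6414

set_option autoImplicit false
open CategoryTheory
universe v₁ u₁ v₂ u₂ v₃ u₃
open FibCat

namespace Groth.Agent.S6416

/-- The composite of two functors fibred in groupoids is fibred in groupoids. -/
theorem result {𝒜 : Type u₁} [Category.{v₁} 𝒜] {ℬ : Type u₂} [Category.{v₂} ℬ] {𝒞 : Type u₃} [Category.{v₃} 𝒞] (F : 𝒜 ⥤ ℬ) (G : ℬ ⥤ 𝒞) (hF : FibCat.IsFibGrpd F) (hG : FibCat.IsFibGrpd G) : FibCat.IsFibGrpd (F ⋙ G) := by
  refine { exists_lift := ?_, isStronglyCartesian := ?_ }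
  · intro x V f
    obtain ⟨y', φ', hφ'⟩ := hG.exists_lift (x := F.obj x) f
    obtain ⟨y, φ, hφ⟩ := hF.exists_lift (x := x) φ'
    refine ⟨y, φ, ?_⟩
    have h1 : F.obj y = y' := IsHomLift.domain_eq F φ' φ
    subst h1
    have h2 : G.obj (F.obj y) = V := IsHomLift.domain_eq G f φ'
    subst h2
    have e1 : φ' = F.map φ := IsHomLift.eq_of_isHomLift F φ' φ
    subst e1
    have e2 : f = G.map (F.map φ) := IsHomLift.eq_of_isHomLift G f (F.map φ)
    subst e2
    exact Functor.IsHomLift.map (p := F ⋙ G) φ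
  · intro y x φ
    have h1 : F.IsStronglyCartesian (F.map φ) φ := hF.isStronglyCartesian φ
    have h2 : G.IsStronglyCartesian (G.map (F.map φ)) (F.map φ) := hG.isStronglyCartesian (F.map φ)
    exact Groth.Agent.S6414.result F G φ

end Groth.Agent.S6416
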