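import Groth.Statements.S3134
import Mathlib

set_option autoImplicit false
open Polynomial
open SGA4h

namespace Groth.Agent.S3134


theorem jacobi_trace {R : Type*} [CommRing R] {m : Type*} [Fintype m] [DecidableEq m]
    (A : Matrix m m R) :
    ((-(X * Polynomial.derivative A.charpolyRev) : R[X]) : PowerSeries R) =
      (A.charpolyRev : PowerSeries R) *
        PowerSeries.mk (fun n => if n = 0 then 0 else (A ^ n).trace) := by
  classical
  obtain ⟨P, hP⟩ : ∃ P, P = A.charpolyRev := ⟨_, rfl⟩
  rw [← hP]
  obtain ⟨inl, hinl⟩ : ∃ inl : PowerSeries R →+* DualNumber (PowerSeries R),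
      inl = TrivSqZeroExt.inlHom (PowerSeries R) (PowerSeries R) := ⟨_, rfl⟩
  obtain ⟨ε, hε⟩ : ∃ ε : DualNumber (PowerSeries R), ε = DualNumber.eps := ⟨_, rfl⟩
  have hεε : ε * ε = 0 := by rw [hε]; exact DualNumber.eps_mul_eps
  have hcancel : ∀ a b : PowerSeries R, inl a * ε = inl b * ε → a = b := by
    intro a b h
    have h1 := congrArg TrivSqZeroExt.snd h
    rw [hinl, hε] at h1
    simpa using h1
  obtain ⟨f, hf⟩ : ∃ f : R →+* DualNumber (PowerSeries R),
      f = inl.comp (PowerSeries.C : R →+* PowerSeries R) := ⟨_, rfl⟩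
  obtain ⟨x, hx⟩ : ∃ x : DualNumber (PowerSeries R), x = inl PowerSeries.X := ⟨_, rfl⟩
  have hE : ∀ p : R[X], (p.map f).eval x = inl (p : PowerSeries R) := by
    intro p
    rw [eval_map]
    have hh : (Polynomial.eval₂RingHom f x) = inl.comp (Polynomial.coeToPowerSeries.ringHom) := by
      apply Polynomial.ringHom_ext
      · intro r
        simp [hf]
      · simp [hx]
    exact RingHom.congr_fun hh p
  have hy : (ε * x) ^ 2 = 0 := by rw [mul_pow, pow_two ε, hεε, zero_mul]
  have h1 := Polynomial.eval_add_of_sq_eq_zero (P.map f) x (ε * x) hy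
  rw [derivative_map, hE, hE] at h1
  have h2 : ∀ z : DualNumber (PowerSeries R),
      (P.map f).eval z = (1 - z • A.map f).det := by
    intro z
    rw [eval_map, hP, Matrix.charpolyRev]
    have h21 := RingHom.map_det (Polynomial.eval₂RingHom f z) (1 - (X : R[X]) • A.map C)
    rw [Polynomial.coe_eval₂RingHom] at h21
    rw [h21]
    congr 1
    refine Matrix.ext fun i j => ?_
    rw [RingHom.mapMatrix_apply, Matrix.map_apply, Matrix.sub_apply, Matrix.sub_apply,
      Matrix.smul_apply, Matrix.smul_apply, Matrix.map_apply, Matrix.map_apply, smul_eq_mul,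
      smul_eq_mul, Polynomial.coe_eval₂RingHom, eval₂_sub, eval₂_mul, eval₂_X, eval₂_C]
    congr 1
    by_cases hij : i = j
    · rw [Matrix.one_apply, Matrix.one_apply, if_pos hij, if_pos hij, eval₂_one]
    · rw [Matrix.one_apply, Matrix.one_apply, if_neg hij, if_neg hij, eval₂_zero]
  obtain ⟨N, hN⟩ : ∃ N : Matrix m m (PowerSeries R),
      N = Matrix.of (fun i j => PowerSeries.mk (fun n => (A ^ n) i j)) := ⟨_, rfl⟩
  have hNcoef : ∀ i j n, PowerSeries.coeff n (N i j) = (A ^ n) i j := by
    intro i j n
    rw [hN, Matrix.of_apply, PowerSeries.coeff_mk]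
  have hMN : (1 - (PowerSeries.X : PowerSeries R) •
      A.map (PowerSeries.C : R →+* PowerSeries R)) * N = 1 := by
    refine Matrix.ext fun i k => ?_
    rw [Matrix.sub_mul, Matrix.one_mul, Matrix.sub_apply, Matrix.smul_mul, Matrix.smul_apply,
      smul_eq_mul]
    refine PowerSeries.ext fun n => ?_
    rw [map_sub, hNcoef, Matrix.mul_apply]
    cases n with
    | zero =>
      rw [PowerSeries.coeff_zero_X_mul, sub_zero, pow_zero]
      by_cases hik : i = k
      · simp [Matrix.one_apply, hik]
      · simp [Matrix.one_apply, hik]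
    | succ n =>
      rw [PowerSeries.coeff_succ_X_mul, map_sum]
      have hj : ∀ j, PowerSeries.coeff n
          ((A.map (PowerSeries.C : R →+* PowerSeries R)) i j * N j k) = A i j * (A ^ n) j k := by
        intro j
        rw [Matrix.map_apply, PowerSeries.coeff_C_mul, hNcoef]
      rw [Finset.sum_congr rfl (fun j _ => hj j), ← Matrix.mul_apply, ← pow_succ', sub_self]
      by_cases hik : i = k
      · simp [Matrix.one_apply, hik]
      · simp [Matrix.one_apply, hik]
  have hxa : x • A.map f = ((PowerSeries.X : PowerSeries R) •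
      A.map (PowerSeries.C : R →+* PowerSeries R)).map inl := by
    refine Matrix.ext fun i j => ?_
    rw [Matrix.map_apply, Matrix.smul_apply, Matrix.smul_apply, Matrix.map_apply,
      Matrix.map_apply, smul_eq_mul, smul_eq_mul, map_mul, hx, hf, RingHom.comp_apply]
  have hmapM : (1 - x • A.map f) = (1 - (PowerSeries.X : PowerSeries R) •
      A.map (PowerSeries.C : R →+* PowerSeries R)).map inl := by
    rw [hxa]
    refine Matrix.ext fun i j => ?_
    rw [Matrix.map_apply, Matrix.sub_apply, Matrix.sub_apply, map_sub, Matrix.map_apply]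
    congr 1
    by_cases hij : i = j
    · simp [Matrix.one_apply, hij]
    · simp [Matrix.one_apply, hij]
  have hMND : (1 - x • A.map f) * N.map inl = 1 := by
    rw [hmapM, ← Matrix.map_mul, hMN, Matrix.map_one inl (map_zero _) (map_one _)]
  have hfac : (1 - (x + ε * x) • A.map f) =
      (1 - x • A.map f) * (1 + ε • (-(N.map inl * (x • A.map f)))) := by
    rw [Matrix.mul_add, Matrix.mul_one, Matrix.mul_smul, Matrix.mul_neg, ← Matrix.mul_assoc,
      hMND, Matrix.one_mul, add_smul, smul_neg, mul_smul]
    abel
  have h3 := Matrix.det_one_add_smul ε (-(N.map inl * (x • A.map f)))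
  rw [pow_two, hεε, mul_zero, add_zero] at h3
  obtain ⟨T, hTdef⟩ : ∃ T : PowerSeries R, T = Matrix.trace (N * ((PowerSeries.X : PowerSeries R) •
      A.map (PowerSeries.C : R →+* PowerSeries R))) := ⟨_, rfl⟩
  have htr : Matrix.trace (-(N.map inl * (x • A.map f))) = inl (-T) := by
    rw [map_neg, Matrix.trace_neg, hTdef]
    congr 1
    rw [hxa, ← Matrix.map_mul]
    exact (AddMonoidHom.map_trace inl _).symm
  have h4 : (P.map f).eval (x + ε * x) = inl (P : PowerSeries R) * (1 + inl (-T) * ε) := by
    rw [h2, hfac, Matrix.det_mul, h3, ← h2, hE, htr]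
  have h5 : inl (((derivative P : R[X]) : PowerSeries R) * PowerSeries.X) * ε
      = inl ((P : PowerSeries R) * (-T)) * ε := by
    have h6 := h1.symm.trans h4
    rw [map_mul, map_mul, ← hx]
    linear_combination h6
  have hkey := hcancel _ _ h5
  have hT : T = PowerSeries.mk (fun n => if n = 0 then 0 else (A ^ n).trace) := by
    have hterm : ∀ i j, N i j * ((PowerSeries.X : PowerSeries R) •
        A.map (PowerSeries.C : R →+* PowerSeries R)) j i
        = PowerSeries.X * (N i j * PowerSeries.C (A j i)) := by
      intro i j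
      rw [Matrix.smul_apply, Matrix.map_apply, smul_eq_mul]
      show N i j * (PowerSeries.X * PowerSeries.C (A j i)) = _
      ring
    refine PowerSeries.ext fun n => ?_
    rw [PowerSeries.coeff_mk, hTdef]
    cases n with
    | zero =>
      rw [if_pos rfl]
      simp only [Matrix.trace, Matrix.diag_apply, Matrix.mul_apply, map_sum]
      apply Finset.sum_eq_zero; intro i _
      apply Finset.sum_eq_zero; intro j _
      rw [hterm, PowerSeries.coeff_zero_X_mul]
    | succ n =>
      rw [if_neg (Nat.succ_ne_zero n)]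
      simp only [Matrix.trace, Matrix.diag_apply, Matrix.mul_apply, map_sum]
      rw [pow_succ]
      apply Finset.sum_congr rfl; intro i _
      rw [Matrix.mul_apply]
      apply Finset.sum_congr rfl; intro j _
      rw [hterm, PowerSeries.coeff_succ_X_mul, PowerSeries.coeff_mul_C, hNcoef]
  rw [← hT]
  have hcoe : ((-(X * Polynomial.derivative P) : R[X]) : PowerSeries R)
      = -(PowerSeries.X * ((derivative P : R[X]) : PowerSeries R)) := by
    have h7 := map_neg (Polynomial.coeToPowerSeries.ringHom (R := R)) (X * Polynomial.derivative P)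
    rw [map_mul] at h7
    simpa using h7
  rw [hcoe]
  linear_combination (-1 : PowerSeries R) * hkey


/-- For a square matrix A over a commutative ring, with P(T) = det(1 − A·T), one has −T·P′(T) = P(T) ·
Σ_{n ≥ 1} Tr(Aⁿ) Tⁿ as formal power series (equivalently T d/dT log P(T)⁻¹ = Σ_{n≥1} Tr(Aⁿ) Tⁿ). -/
theorem result (R : Type) [CommRing R] (m : Type) [Fintype m] [DecidableEq m]
    (A : Matrix m m R) :
    ((-(X * Polynomial.derivative A.charpolyRev) : R[X]) : PowerSeries R) =
      (A.charpolyRev : PowerSeries R) * PowerSeries.mk (fun n => if n = 0 then 0 else (A ^ n).trace) := by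
  exact jacobi_trace A


end Groth.Agent.S3134
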