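import Groth.Statements.S13056
import Mathlib
import Groth.Agent.S3134

set_option autoImplicit false
universe u v
open Zeta

namespace Groth.Agent.S13056


theorem uniq {K : Type*} [Field K] [CharZero K] (F G g' : PowerSeries K)
    (hF : PowerSeries.derivative K F = F * g') (hG : PowerSeries.derivative K G = G * g')
    (h0 : PowerSeries.coeff 0 F = PowerSeries.coeff 0 G) : F = G := by
  refine PowerSeries.ext fun n => ?_
  induction n using Nat.strong_induction_on with
  | _ n ih =>
    cases n with
    | zero => exact h0
    | succ k =>
      have h1 : PowerSeries.coeff k (PowerSeries.derivative K F) =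
          PowerSeries.coeff k (PowerSeries.derivative K G) := by
        rw [hF, hG, PowerSeries.coeff_mul, PowerSeries.coeff_mul]
        refine Finset.sum_congr rfl fun p hp => ?_
        rw [ih p.1 (Nat.lt_succ_of_le (Finset.HasAntidiagonal.antidiagonal.fst_le hp))]
      rw [PowerSeries.coeff_derivative, PowerSeries.coeff_derivative] at h1
      have hk : ((k : K) + 1) ≠ 0 := Nat.cast_add_one_ne_zero k
      exact mul_right_cancel₀ hk h1



/-- For an endomorphism φ of a finite-dimensional vector space over a field K, det(Id − tφ) = exp(−∑_{m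
≥ 1} tr(φ^m) t^m / m) as power series in t. Stated for a square matrix M, with det(1 − tM) Mathlib's
reversed characteristic polynomial, and over a field of characteristic zero (the exponential series
needs ℚ ⊆ K; this is the case in which the identity is used). -/
theorem result {K : Type u} [Field K] [CharZero K]
    {n : Type v} [Fintype n] [DecidableEq n] (M : Matrix n n K) :
    ((M.charpolyRev : Polynomial K) : PowerSeries K) =
      PowerSeries.subst (PowerSeries.mk fun m : ℕ => -(Matrix.trace (M ^ m)) / (m : K))
        (PowerSeries.exp K) := by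
  obtain ⟨g, hg⟩ : ∃ g : PowerSeries K,
      g = PowerSeries.mk fun m : ℕ => -(Matrix.trace (M ^ m)) / (m : K) := ⟨_, rfl⟩
  rw [← hg]
  have hgc : ∀ m, PowerSeries.coeff m g = -(Matrix.trace (M ^ m)) / (m : K) := by
    intro m; rw [hg, PowerSeries.coeff_mk]
  have hg0 : PowerSeries.constantCoeff g = 0 := by
    rw [← PowerSeries.coeff_zero_eq_constantCoeff_apply, hgc 0, Nat.cast_zero, div_zero]
  have hsub : PowerSeries.HasSubst g := PowerSeries.HasSubst.of_constantCoeff_zero' hg0
  obtain ⟨g', hg'⟩ : ∃ g', g' = PowerSeries.derivative K g := ⟨_, rfl⟩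
  obtain ⟨T, hT⟩ : ∃ T : PowerSeries K,
      T = PowerSeries.mk (fun n => if n = 0 then 0 else (M ^ n).trace) := ⟨_, rfl⟩
  have hXg : (PowerSeries.X : PowerSeries K) * g' = -T := by
    refine PowerSeries.ext fun n => ?_
    cases n with
    | zero =>
      rw [PowerSeries.coeff_zero_X_mul, map_neg, hT, PowerSeries.coeff_mk, if_pos rfl, neg_zero]
    | succ k =>
      rw [PowerSeries.coeff_succ_X_mul, hg', PowerSeries.coeff_derivative, hgc, map_neg, hT,
        PowerSeries.coeff_mk, if_neg (Nat.succ_ne_zero k)]
      have hk : ((k : K) + 1) ≠ 0 := Nat.cast_add_one_ne_zero k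
      rw [Nat.cast_succ]
      exact div_mul_cancel₀ _ hk
  have hP : PowerSeries.derivative K (M.charpolyRev : PowerSeries K) =
      (M.charpolyRev : PowerSeries K) * g' := by
    have hj : ((-(Polynomial.X * Polynomial.derivative M.charpolyRev) : Polynomial K) :
        PowerSeries K) = (M.charpolyRev : PowerSeries K) * T := by
      rw [hT]; exact Groth.Agent.S3134.jacobi_trace M
    have hcoe : ((-(Polynomial.X * Polynomial.derivative M.charpolyRev) : Polynomial K) :
        PowerSeries K) =
        -(PowerSeries.X * PowerSeries.derivative K (M.charpolyRev : PowerSeries K)) := by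
      rw [PowerSeries.derivative_coe, Polynomial.coe_neg, Polynomial.coe_mul, Polynomial.coe_X]
    rw [hcoe] at hj
    have hX : (PowerSeries.X : PowerSeries K) *
        PowerSeries.derivative K (M.charpolyRev : PowerSeries K) =
        PowerSeries.X * ((M.charpolyRev : PowerSeries K) * g') := by
      rw [mul_left_comm, hXg, mul_neg, ← hj, neg_neg]
    refine PowerSeries.ext fun k => ?_
    have := congrArg (PowerSeries.coeff (k+1)) hX
    rwa [PowerSeries.coeff_succ_X_mul, PowerSeries.coeff_succ_X_mul] at this
  have hQ : PowerSeries.derivative K (PowerSeries.subst g (PowerSeries.exp K)) =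
      PowerSeries.subst g (PowerSeries.exp K) * g' := by
    rw [PowerSeries.derivative_subst hsub, PowerSeries.derivative_exp, hg']
  refine uniq _ _ g' hP hQ ?_
  have h1 : PowerSeries.coeff 0 (M.charpolyRev : PowerSeries K) = 1 := by
    rw [Polynomial.coeff_coe, Polynomial.coeff_zero_eq_eval_zero, Matrix.eval_charpolyRev]
  have h2 : PowerSeries.coeff 0 (PowerSeries.subst g (PowerSeries.exp K)) = 1 := by
    rw [PowerSeries.coeff_subst' hsub, finsum_eq_single _ 0]
    · rw [pow_zero, PowerSeries.coeff_zero_eq_constantCoeff_apply,
        PowerSeries.coeff_zero_eq_constantCoeff_apply, PowerSeries.constantCoeff_exp,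
        map_one, one_smul]
    · intro d hd
      rw [PowerSeries.coeff_zero_eq_constantCoeff_apply (g ^ d), map_pow, hg0, zero_pow hd,
        smul_zero]
  rw [h1, h2]


end Groth.Agent.S13056
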