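import Groth.Statements.S13051
import Groth.Agent.Lib.Helper11.ExpLog
import Mathlib.Algebra.BigOperators.Field
import Mathlib.RingTheory.PowerSeries.Inverse
import Mathlib.RingTheory.PowerSeries.Trunc

set_option autoImplicit false
universe u
open CategoryTheory AlgebraicGeometry
open Zeta

namespace Groth.Agent.S13051

open PowerSeries Groth.Agent.Lib.helper11 in
/-- the remainder series -/
theorem core {k : Type u} [Field k] {X : Scheme.{u}}
    (f : X ⟶ Spec (CommRingCat.of k)) (n : ℕ) :
    ∃ F : PowerSeries ℚ, (∀ m ≤ n, coeff m F = 0) ∧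
      Zeta.zetaFun f * ∏ r ∈ Finset.Icc 1 n, (1 - PowerSeries.X ^ r) ^ Zeta.degCount f r = E F := by
  classical
  set S : PowerSeries ℚ := ∑ r ∈ Finset.Icc 1 n, (Zeta.degCount f r) • Lr (K := ℚ) r with hS
  have hS0 : constantCoeff S = 0 := by
    rw [hS, map_sum]
    refine Finset.sum_eq_zero fun r _ => ?_
    rw [map_nsmul, constantCoeff_Lr, smul_zero]
  refine ⟨Zeta.logZeta f - S, ?_, ?_⟩
  · intro m hm
    rw [map_sub, Zeta.logZeta, coeff_mk, hS, map_sum, sub_eq_zero]
    simp only [map_nsmul]
    simp only [Lr, coeff_mk, nsmul_eq_mul]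
    rcases Nat.eq_zero_or_pos m with rfl | hm0
    · simp
    · have hdiv : m.divisors = (Finset.Icc 1 n).filter (· ∣ m) := by
        ext e
        simp only [Nat.mem_divisors, Finset.mem_filter, Finset.mem_Icc]
        constructor
        · rintro ⟨hd, _⟩
          have := Nat.le_of_dvd hm0 hd
          have := Nat.pos_of_dvd_of_pos hd hm0
          exact ⟨⟨by omega, by omega⟩, hd⟩
        · rintro ⟨_, hd⟩
          exact ⟨hd, by omega⟩
      rw [Zeta.nPts, hdiv, Finset.sum_filter]
      push_cast
      rw [Finset.sum_div]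
      refine Finset.sum_congr rfl fun r _ => ?_
      split_ifs
      · ring
      · simp
  · have hF0 : constantCoeff (Zeta.logZeta f - S) = 0 := by
      rw [map_sub, hS0, sub_zero, ← coeff_zero_eq_constantCoeff_apply, Zeta.logZeta, coeff_mk]
      simp
    have hz : Zeta.zetaFun f = E (Zeta.logZeta f) := rfl
    have hsplit : Zeta.logZeta f = (Zeta.logZeta f - S) + S := by ring
    rw [hz]
    conv_lhs => rw [hsplit]
    rw [E_add hF0 hS0, hS, E_sum, mul_assoc, ← Finset.prod_mul_distrib]
    · have : ∏ r ∈ Finset.Icc 1 n, E (Zeta.degCount f r • Lr (K := ℚ) r) *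
          (1 - PowerSeries.X ^ r) ^ Zeta.degCount f r = 1 := by
        refine Finset.prod_eq_one fun r hr => ?_
        have hr1 : 1 ≤ r := (Finset.mem_Icc.mp hr).1
        rw [E_nsmul (constantCoeff_Lr r), ← mul_pow, E_Lr_mul r hr1, one_pow]
      rw [this, mul_one]
    · intro r _
      rw [map_nsmul, constantCoeff_Lr, smul_zero]


/-- For a scheme X of finite type over a finite field k, Z(X, t) = ∏ over the closed points x of (1 −
t^{deg x})^{−1}, that is ∏_{r ≥ 1} (1 − t^r)^{−a_r} with a_r the number of closed points of residue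
degree r; equivalently, for every n the product Z(X, t) · ∏_{r = 1}^{n} (1 − t^r)^{a_r} is ≡ 1
modulo t^{n+1}. In particular Z(X, t) has integer coefficients. (Stated for any scheme of finite
type over k; reducedness plays no role.) -/
theorem result {k : Type u} [Field k] [Finite k] {X : Scheme.{u}}
    (f : X ⟶ Spec (CommRingCat.of k)) [LocallyOfFiniteType f] [QuasiCompact f] :
    (∀ n : ℕ, PowerSeries.trunc (n + 1)
        (Zeta.zetaFun f * ∏ r ∈ Finset.Icc 1 n, (1 - PowerSeries.X ^ r) ^ Zeta.degCount f r) = 1) ∧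
      ∀ n : ℕ, ∃ z : ℤ, PowerSeries.coeff n (Zeta.zetaFun f) = (z : ℚ) := by
  classical
  constructor
  · intro n
    obtain ⟨F, hF, hEq⟩ := core f n
    rw [hEq]
    have hF0 : PowerSeries.constantCoeff F = 0 := by
      rw [← PowerSeries.coeff_zero_eq_constantCoeff_apply]; exact hF 0 (Nat.zero_le n)
    ext m
    rw [PowerSeries.coeff_trunc, Polynomial.coeff_one]
    by_cases hm0 : m = 0
    · subst hm0
      rw [if_pos (Nat.succ_pos n), if_pos rfl, PowerSeries.coeff_zero_eq_constantCoeff_apply,
        Groth.Agent.Lib.helper11.constantCoeff_E hF0]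
    · rw [if_neg hm0]
      by_cases hlt : m < n + 1
      · rw [if_pos hlt]
        exact Groth.Agent.Lib.helper11.coeff_E_eq_zero n hF m (by omega) (by omega)
      · rw [if_neg hlt]
  · intro n
    obtain ⟨F, hF, hEq⟩ := core f n
    have hF0 : PowerSeries.constantCoeff F = 0 := by
      rw [← PowerSeries.coeff_zero_eq_constantCoeff_apply]; exact hF 0 (Nat.zero_le n)
    -- integral inverse of the product
    set A : PowerSeries ℤ := ∏ r ∈ Finset.Icc 1 n, (1 - PowerSeries.X ^ r) ^ Zeta.degCount f r with hA
    have hAunit : IsUnit A := by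
      rw [PowerSeries.isUnit_iff_constantCoeff, hA, map_prod]
      have : ∏ r ∈ Finset.Icc 1 n,
          PowerSeries.constantCoeff ((1 - PowerSeries.X ^ r : PowerSeries ℤ) ^ Zeta.degCount f r) = 1 := by
        refine Finset.prod_eq_one fun r hr => ?_
        have hr1 : 1 ≤ r := (Finset.mem_Icc.mp hr).1
        rw [map_pow, map_sub, map_one, map_pow, PowerSeries.constantCoeff_X,
          zero_pow (by omega), sub_zero, one_pow]
      rw [this]
      exact isUnit_one
    obtain ⟨B, hB⟩ := hAunit.exists_right_inv
    have hmapA : PowerSeries.map (Int.castRingHom ℚ) A =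
        ∏ r ∈ Finset.Icc 1 n, (1 - PowerSeries.X ^ r : PowerSeries ℚ) ^ Zeta.degCount f r := by
      rw [hA, map_prod]
      refine Finset.prod_congr rfl fun r _ => ?_
      rw [map_pow, map_sub, map_one, map_pow, PowerSeries.map_X]
    have hz : Zeta.zetaFun f = Groth.Agent.Lib.helper11.E F * PowerSeries.map (Int.castRingHom ℚ) B := by
      rw [← hEq, ← hmapA, mul_assoc, ← map_mul, hB, map_one, mul_one]
    refine ⟨PowerSeries.coeff n B, ?_⟩
    rw [hz, PowerSeries.coeff_mul, Finset.sum_eq_single (0, n)]
    · rw [PowerSeries.coeff_zero_eq_constantCoeff_apply,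
        Groth.Agent.Lib.helper11.constantCoeff_E hF0, one_mul, PowerSeries.coeff_map]
      rfl
    · rintro ⟨i, j⟩ hij hne
      have hsum : i + j = n := Finset.mem_antidiagonal.mp hij
      have hi : i ≠ 0 := by
        rintro rfl
        apply hne
        simp only [zero_add] at hsum
        rw [hsum]
      rw [Groth.Agent.Lib.helper11.coeff_E_eq_zero n hF i (by omega) (by omega), zero_mul]
    · intro h
      exact absurd (Finset.mem_antidiagonal.mpr (zero_add n)) h

end Groth.Agent.S13051
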