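import Groth.Statements.S18824
import Mathlib
-- import your own Groth.Agent.* helpers here

set_option autoImplicit false
universe u
open CategoryTheory MonoidalCategory CartesianMonoidalCategory MonObj AlgebraicGeometry
open AlgGrp

namespace Groth.Agent.S18824

section
variable {S : Scheme.{u}} {G X : Over S} [GrpObj G]

/-- the module-object structure given by an action -/
@[reducible] def modOfAction (a : AlgGrp.Action G X) : ModObj G X where
  smul := a.act
  one_smul := a.one_act
  mul_smul := a.mul_act

lemma smul_eq (a : AlgGrp.Action G X) {T : Over S} (g : T ⟶ G) (x : T ⟶ X) :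
    letI := modOfAction a
    g • x = lift g x ≫ a.act := rfl

lemma act_eq (a : AlgGrp.Action G X) :
    letI := modOfAction a
    a.act = (fst G X) • (snd G X) := by
  letI := modOfAction a
  rw [smul_eq, lift_fst_snd, Category.id_comp]

/-- the shear map `(g, x) ↦ (g, g x)` is an isomorphism -/
lemma shear_iso (a : AlgGrp.Action G X) : IsIso (lift (fst G X) a.act) := by
  letI := modOfAction a
  have hact := act_eq a
  refine ⟨⟨lift (fst G X) ((fst G X)⁻¹ • snd G X), ?_, ?_⟩⟩
  · apply CartesianMonoidalCategory.hom_ext
    · rw [Category.assoc, lift_fst, lift_fst, Category.id_comp]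
    · rw [Category.assoc, lift_snd, Category.id_comp, ModObj.comp_smul, GrpObj.comp_inv, lift_fst,
        lift_snd, hact, ← mul_smul, inv_mul_cancel, one_smul]
  · apply CartesianMonoidalCategory.hom_ext
    · rw [Category.assoc, lift_fst, lift_fst, Category.id_comp]
    · rw [Category.assoc, lift_snd, Category.id_comp]
      conv_lhs => rw [hact]
      rw [ModObj.comp_smul, lift_fst, lift_snd, ← mul_smul, mul_inv_cancel, one_smul]

/-- common refinement of two points with the same image -/
lemma refine_pt {X Y B : Over S} (a : X ⟶ B) (b : Y ⟶ B) (x : X.left) (y : Y.left)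
    (h : a.left x = b.left y) :
    ∃ (Z : Over S) (z : Z.left) (p : Z ⟶ X) (q : Z ⟶ Y),
      p ≫ a = q ≫ b ∧ p.left z = x ∧ q.left z = y := by
  obtain ⟨t, ht1, ht2⟩ :=
    Scheme.Pullback.exists_preimage_pullback (f := a.left) (g := b.left) x y h
  have hw : Limits.pullback.snd a.left b.left ≫ Y.hom =
      Limits.pullback.fst a.left b.left ≫ X.hom := by
    rw [← Over.w a, ← Over.w b, ← Category.assoc, ← Category.assoc, Limits.pullback.condition]
  refine ⟨Over.mk (Limits.pullback.fst a.left b.left ≫ X.hom), t,
    Over.homMk (Limits.pullback.fst _ _) rfl, Over.homMk (Limits.pullback.snd _ _) hw, ?_,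
    ht1, ht2⟩
  apply Over.OverMorphism.ext
  exact Limits.pullback.condition

end

/-- Let k be a field, G a locally algebraic group over k (a group k-scheme locally of finite type)
acting on a k-scheme X through a : G ×_k X → X, and U an open subset of X. Let G·U ⊆ X be the image
under a of G ×_k U (the preimage of U under the projection). Then G·U is open in X, contains U, is
G-stable in the sense that a maps G ×_k (G·U) into G·U, and is the smallest such set: every G-stable
open subset of X containing U contains G·U. -/
theorem result (k : Type u) [Field k]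
    (G X : Over (Spec (CommRingCat.of k))) [GrpObj G] [LocallyOfFiniteType G.hom] (a : AlgGrp.Action G X)
    (U : Set ↥X.left) (hU : IsOpen U) :
    IsOpen (a.act.left.base '' ((CartesianMonoidalCategory.snd G X).left.base ⁻¹' U)) ∧
      U ⊆ a.act.left.base '' ((CartesianMonoidalCategory.snd G X).left.base ⁻¹' U) ∧
      a.act.left.base '' ((CartesianMonoidalCategory.snd G X).left.base ⁻¹'
          (a.act.left.base '' ((CartesianMonoidalCategory.snd G X).left.base ⁻¹' U))) ⊆
        a.act.left.base '' ((CartesianMonoidalCategory.snd G X).left.base ⁻¹' U) ∧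
      ∀ W : Set ↥X.left, IsOpen W → U ⊆ W →
        a.act.left.base '' ((CartesianMonoidalCategory.snd G X).left.base ⁻¹' W) ⊆ W →
          a.act.left.base '' ((CartesianMonoidalCategory.snd G X).left.base ⁻¹' U) ⊆ W := by
  letI := modOfAction a
  have hact := act_eq a
  refine ⟨?_, ?_, ?_, ?_⟩
  · -- openness
    have h2 : IsIso (lift (fst G X) a.act) := shear_iso a
    have h3 : IsIso (lift (fst G X) a.act).left :=
      inferInstanceAs (IsIso ((Over.forget _).map (lift (fst G X) a.act)))
    have h4 : UniversallyOpen G.hom := inferInstance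
    have h5 : UniversallyOpen (snd G X).left := by
      rw [Over.snd_left]
      infer_instance
    have hfac : a.act = lift (fst G X) a.act ≫ snd G X := by rw [lift_snd]
    have h6 : UniversallyOpen a.act.left := by
      rw [hfac, Over.comp_left]
      infer_instance
    exact a.act.left.isOpenMap _ (hU.preimage (Scheme.Hom.continuous _))
  · intro u hu
    refine ⟨(lift (1 : X ⟶ G) (𝟙 X)).left u, ?_, ?_⟩
    · show (snd G X).left ((lift (1 : X ⟶ G) (𝟙 X)).left u) ∈ U
      rw [← Scheme.Hom.comp_apply, ← Over.comp_left, lift_snd]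
      exact hu
    · show a.act.left ((lift (1 : X ⟶ G) (𝟙 X)).left u) = u
      rw [← Scheme.Hom.comp_apply, ← Over.comp_left, ← smul_eq a, one_smul]
      rfl
  · rintro _ ⟨p, ⟨p', hp'U, hp'⟩, rfl⟩
    obtain ⟨Z, z, π, π', e, hπ, hπ'⟩ := refine_pt (snd G X) a.act p p' hp'.symm
    have e1 : π ≫ a.act = ((π ≫ fst G X) * (π' ≫ fst G X)) • (π' ≫ snd G X) := by
      conv_lhs => rw [hact]
      rw [ModObj.comp_smul, e]
      conv_lhs => rw [hact]
      rw [ModObj.comp_smul, mul_smul]
    refine ⟨(lift ((π ≫ fst G X) * (π' ≫ fst G X)) (π' ≫ snd G X)).left z, ?_, ?_⟩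
    · show (snd G X).left ((lift ((π ≫ fst G X) * (π' ≫ fst G X)) (π' ≫ snd G X)).left z) ∈ U
      rw [← Scheme.Hom.comp_apply, ← Over.comp_left, lift_snd, Over.comp_left,
        Scheme.Hom.comp_apply, hπ']
      exact hp'U
    · show a.act.left ((lift ((π ≫ fst G X) * (π' ≫ fst G X)) (π' ≫ snd G X)).left z) =
        a.act.left p
      rw [← Scheme.Hom.comp_apply, ← Over.comp_left, ← smul_eq a, ← e1, Over.comp_left,
        Scheme.Hom.comp_apply, hπ]
  · intro W _ hUW hW
    exact (Set.image_mono (Set.preimage_mono hUW)).trans hW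

end Groth.Agent.S18824
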