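import Groth.Statements.S8255
import Mathlib
-- import your own Groth.Agent.* helpers here

set_option autoImplicit false
universe u
open CategoryTheory CategoryTheory.Limits AlgebraicGeometry Opposite TopologicalSpace
open EGA2

namespace Groth.Agent.S8255

open RelSpec in
/-- Over an affine open the comparison map is an isomorphism. -/
theorem isIso_gammaAff {S : Scheme.{u}} (A : RelSpec.QCAlg S) (U : S.Opens) (hU : IsAffineOpen U) :
    IsIso (A.gammaAff U hU) := by
  have hW : (A.ι U hU) ''ᵁ ⊤ = A.π ⁻¹ᵁ U := by
    rw [A.π_preimage U hU, Scheme.Hom.image_top_eq_opensRange]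
  have e : ⊤ ≤ A.ι U hU ⁻¹ᵁ ((A.ι U hU) ''ᵁ ⊤) := by
    rw [Scheme.Hom.preimage_image_eq]
  rw [← A.gammaAff_eq hU hW e]
  have : IsIso ((A.ι U hU).appLE ((A.ι U hU) ''ᵁ ⊤) ⊤ e) := by
    have := (Scheme.Hom.appIso_hom' (A.ι U hU) ⊤)
    rw [← this]
    infer_instance
  infer_instance

/-- Let S be a scheme and A a quasi-coherent O_S-algebra, and let π : Spec(A) → S be its relative
spectrum (glued from the affine schemes Spec A(U), U an affine open of S). Then the canonical
comparison map π_* O_{Spec(A)} → A (which over an affine open U is restriction to the chart Spec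
A(U) followed by Γ(Spec R) = R) is an isomorphism; in other words the direct-image algebra of
Spec(A) is A. -/
theorem result {S : Scheme.{u}} (A : RelSpec.QCAlg S) : IsIso A.gammaMap := by
  let F : TopCat.Sheaf CommRingCat.{u} S.carrier :=
    (TopCat.Sheaf.pushforward CommRingCat.{u} A.π.base).obj A.spec.sheaf
  let F' : TopCat.Sheaf CommRingCat.{u} S.carrier := ⟨A.presheaf, A.isSheaf⟩
  let α : F ⟶ F' := ⟨A.gammaMap⟩
  have hiso : IsIso (Functor.whiskerLeft (Scheme.AffineZariskiSite.toOpensFunctor S).op α.hom) := by
    have h1 : Functor.whiskerLeft (Scheme.AffineZariskiSite.toOpensFunctor S).op α.hom =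
        A.gammaRestrict := A.gammaMap_restrict
    rw [h1]
    have hall : ∀ U, IsIso (A.gammaRestrict.app U) := fun U => isIso_gammaAff A U.unop.1 U.unop.2
    exact @NatIso.isIso_of_isIso_app _ _ _ _ _ _ A.gammaRestrict hall
  have h2 : IsIso α := Functor.IsCoverDense.iso_of_restrict_iso
    (G := Scheme.AffineZariskiSite.toOpensFunctor S) (K := Opens.grothendieckTopology S) α hiso
  have h3 : IsIso ((sheafToPresheaf _ _).map α) := Functor.map_isIso _ α
  exact h3

end Groth.Agent.S8255
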