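import Groth.Statements.S3569
import Mathlib
import Groth.Agent.Lib.Helper28.RelSpecMap

set_option autoImplicit false
universe u
open CategoryTheory CategoryTheory.Limits AlgebraicGeometry
open EGA2

namespace Groth.Agent.S3569

open TopologicalSpace Opposite Groth.Agent.Lib.helper28.RelSpecMap

theorem algHom_app {X Y S : Scheme.{u}} (f : X ⟶ S) (g : Y ⟶ S) (h : Y ⟶ X) (w : h ≫ f = g)
    (V : S.Opens) :
    (AffAlg.algHom f g h w).app (op V) =
      h.appLE (f ⁻¹ᵁ V) (g ⁻¹ᵁ V) (by subst w; exact le_rfl) := by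
  subst w
  have h1 : (AffAlg.algHom f (h ≫ f) h rfl).app (op V) = h.app (f ⁻¹ᵁ V) := by
    simp only [AffAlg.algHom]
    rfl
  rw [h1, Scheme.Hom.appLE]
  have h2 : (homOfLE (le_refl ((h ≫ f) ⁻¹ᵁ V))).op = 𝟙 _ := rfl
  have h3 : Y.presheaf.map (homOfLE (le_refl ((h ≫ f) ⁻¹ᵁ V))).op = 𝟙 _ := by
    rw [h2]; exact Y.presheaf.map_id _
  exact ((congrArg (h.app (f ⁻¹ᵁ V) ≫ ·) h3).trans (Category.comp_id _)).symm

/-- A morphism landing in an affine open is determined by its ring map. -/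
theorem ι_comp_eq {X Y : Scheme.{u}} (k : Y ⟶ X) {U : X.Opens} (hU : IsAffineOpen U)
    (V : Y.Opens) (e : V ≤ k ⁻¹ᵁ U) :
    V.ι ≫ k = V.toSpecΓ ≫ Spec.map (k.appLE U V e) ≫ hU.fromSpec := by
  rw [Scheme.Opens.toSpecΓ_SpecMap_appLE_assoc, IsAffineOpen.toSpecΓ_fromSpec,
    Scheme.Hom.resLE_comp_ι]

theorem presheafHom_ext' {S : Scheme.{u}} {P Q : TopCat.Presheaf CommRingCat.{u} S.carrier}
    (hQ : Q.IsSheaf) (a b : P ⟶ Q)
    (h : ∀ U : S.AffineZariskiSite, a.app (op U.1) = b.app (op U.1)) : a = b := by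
  apply (Functor.IsCoverDense.restrictHomEquivHom (G := Scheme.AffineZariskiSite.toOpensFunctor S)
    (K := Opens.grothendieckTopology S) (ℱ := P)
    (ℱ' := (⟨Q, hQ⟩ : TopCat.Sheaf CommRingCat.{u} S.carrier))).symm.injective
  ext U : 2
  exact h U.unop

theorem toSpecΓ_SpecMap_injective {Y : Scheme.{u}} (V : Y.Opens) {R : CommRingCat.{u}}
    (φ ψ : R ⟶ Γ(Y, V)) (h : V.toSpecΓ ≫ Spec.map φ = V.toSpecΓ ≫ Spec.map ψ) : φ = ψ := by
  have h1 := congrArg (fun k => Scheme.Hom.appTop k) h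
  simp only [Scheme.Hom.comp_appTop, Scheme.Opens.toSpecΓ_appTop] at h1
  rw [Scheme.ΓSpecIso_naturality_assoc, Scheme.ΓSpecIso_naturality_assoc] at h1
  have h2 := (cancel_epi _).mp h1
  exact (cancel_mono _).mp h2

section

variable {X Y S : Scheme.{u}} (f : X ⟶ S) [IsAffineHom f] (g : Y ⟶ S) (ω : AffAlg.algHoms f g)

/-- The local piece of the morphism attached to `ω`. -/
noncomputable def chart (V : S.affineOpens) : (g ⁻¹ᵁ V.1).toScheme ⟶ X :=
  (g ⁻¹ᵁ V.1).toSpecΓ ≫ Spec.map (ω.1.app (op V.1)) ≫ (V.2.preimage f).fromSpec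

theorem chart_res {V' V : S.affineOpens} (i : V'.1 ≤ V.1) :
    Y.homOfLE (g.preimage_mono i) ≫ chart f g ω V = chart f g ω V' := by
  have hnat := ω.1.naturality (homOfLE i).op
  have hnat' : ω.1.app (op V.1) ≫ Y.presheaf.map (homOfLE (g.preimage_mono i)).op =
      X.presheaf.map (homOfLE (f.preimage_mono i)).op ≫ ω.1.app (op V'.1) := hnat.symm
  rw [chart, chart, ← Scheme.Opens.toSpecΓ_SpecMap_presheaf_map_assoc, ← Category.assoc (Spec.map _),
    ← Spec.map_comp, hnat', Spec.map_comp, Category.assoc, IsAffineOpen.map_fromSpec]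

theorem chart_comp (V : S.affineOpens) : chart f g ω V ≫ f = (g ⁻¹ᵁ V.1).ι ≫ g := by
  have h1 : f.app V.1 ≫ ω.1.app (op V.1) = g.app V.1 := congrArg (fun k => k.app (op V.1)) ω.2
  rw [chart, Category.assoc, Category.assoc,
    ← IsAffineOpen.SpecMap_appLE_fromSpec f V.2 (V.2.preimage f) le_rfl,
    ← Category.assoc (Spec.map _), ← Spec.map_comp, ← Scheme.Hom.app_eq_appLE, h1,
    Scheme.Hom.app_eq_appLE, ← ι_comp_eq g V.2 (g ⁻¹ᵁ V.1) le_rfl]

theorem exists_affine_mem (s : S) : ∃ V : S.affineOpens, s ∈ V.1 := by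
  obtain ⟨_, ⟨U, hU, rfl⟩, hxU, -⟩ := S.isBasis_affineOpens.exists_subset_of_mem_open
    (Set.mem_univ s) isOpen_univ
  exact ⟨⟨U, hU⟩, hxU⟩

theorem exists_glue : ∃ h : Y ⟶ X, ∀ V : S.affineOpens, (g ⁻¹ᵁ V.1).ι ≫ h = chart f g ω V := by
  have key := existsUnique_of_charts_local (X := Y) (Y := X) (ι := S.affineOpens)
    (U := fun V => (g ⁻¹ᵁ V.1).toScheme) (fun V => (g ⁻¹ᵁ V.1).ι) ?_
    (fun V => chart f g ω V) ?_
  · exact ⟨key.choose, key.choose_spec.1⟩
  · intro y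
    obtain ⟨V, hV⟩ := exists_affine_mem (g.base y)
    refine ⟨V, ?_⟩
    rw [Scheme.Opens.range_ι]
    exact hV
  · intro V₁ V₂ y h1 h2
    rw [Scheme.Opens.range_ι] at h1 h2
    obtain ⟨_, ⟨W, hW, rfl⟩, hyW, hWle⟩ := S.isBasis_affineOpens.exists_subset_of_mem_open
      (show g.base y ∈ ((V₁.1 ⊓ V₂.1 : S.Opens) : Set S) from ⟨h1, h2⟩) (V₁.1 ⊓ V₂.1).isOpen
    have i1 : W ≤ V₁.1 := fun z hz => (hWle hz).1
    have i2 : W ≤ V₂.1 := fun z hz => (hWle hz).2
    refine ⟨(g ⁻¹ᵁ W).toScheme, Y.homOfLE (g.preimage_mono i1), Y.homOfLE (g.preimage_mono i2),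
      ?_, ?_, ?_, ?_⟩
    · rw [Scheme.homOfLE_ι, Scheme.homOfLE_ι]
    · rw [chart_res f g ω (V' := ⟨W, hW⟩) (V := V₁) i1, chart_res f g ω (V' := ⟨W, hW⟩) (V := V₂) i2]
    · rw [Scheme.homOfLE_ι]
      infer_instance
    · rw [Scheme.homOfLE_ι, Scheme.Opens.range_ι]
      exact hyW

end

/-- Let f : X → S be an affine morphism and g : Y → S any morphism. Then h ↦ A(h) = f_*(h^♯) is a
bijection from the set of S-morphisms Y → X onto the set of O_S-algebra homomorphisms f_*O_X →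
g_*O_Y (morphisms of sheaves of rings compatible with the structure maps from O_S). -/
theorem result {X Y S : Scheme.{u}} (f : X ⟶ S) [IsAffineHom f] (g : Y ⟶ S) :
    Function.Bijective (AffAlg.algOf f g) := by
  constructor
  · intro h₁ h₂ heq
    apply Subtype.ext
    apply hom_ext_of_local
    intro y
    obtain ⟨V, hV⟩ := exists_affine_mem (g.base y)
    refine ⟨_, (g ⁻¹ᵁ V.1).ι, inferInstance, ?_, ?_⟩
    · rw [Scheme.Opens.range_ι]
      exact hV
    · have e1 := algHom_app f g h₁.1 h₁.2 V.1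
      have e2 := algHom_app f g h₂.1 h₂.2 V.1
      have e3 : (AffAlg.algHom f g h₁.1 h₁.2).app (op V.1) =
          (AffAlg.algHom f g h₂.1 h₂.2).app (op V.1) :=
        congrArg (fun k : AffAlg.algHoms f g => k.1.app (op V.1)) heq
      rw [ι_comp_eq h₁.1 (V.2.preimage f) (g ⁻¹ᵁ V.1) (by rw [← Scheme.Hom.comp_preimage, h₁.2]),
        ι_comp_eq h₂.1 (V.2.preimage f) (g ⁻¹ᵁ V.1) (by rw [← Scheme.Hom.comp_preimage, h₂.2]),
        ← e1, ← e2, e3]
  · intro ω
    obtain ⟨h, hh⟩ := exists_glue f g ω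
    have w : h ≫ f = g := by
      apply hom_ext_of_local
      intro y
      obtain ⟨V, hV⟩ := exists_affine_mem (g.base y)
      refine ⟨_, (g ⁻¹ᵁ V.1).ι, inferInstance, ?_, ?_⟩
      · rw [Scheme.Opens.range_ι]
        exact hV
      · rw [← Category.assoc, hh V, chart_comp]
    refine ⟨⟨h, w⟩, ?_⟩
    apply Subtype.ext
    change AffAlg.algHom f g h w = ω.1
    apply presheafHom_ext' (TopCat.Sheaf.pushforward_sheaf_of_sheaf g.base Y.sheaf.2)
    intro U
    rw [algHom_app]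
    apply toSpecΓ_SpecMap_injective (g ⁻¹ᵁ U.1)
    have hmono : Mono (U.2.preimage f).fromSpec := inferInstance
    rw [← cancel_mono (U.2.preimage f).fromSpec, Category.assoc, Category.assoc,
      ← ι_comp_eq h (U.2.preimage f) (g ⁻¹ᵁ U.1)]
    exact hh ⟨U.1, U.2⟩

end Groth.Agent.S3569
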