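import Groth.Statements.S8292
import Groth.Agent.Lib.Lead.GenDegOne2
import Groth.Agent.Lib.Lead.RelProjLocal
import Groth.Agent.Lib.Lead.ProjChart
-- import your own Groth.Agent.* helpers here

set_option autoImplicit false
set_option backward.isDefEq.respectTransparency false
universe u
open CategoryTheory CategoryTheory.Limits AlgebraicGeometry Opposite TopologicalSpace
open scoped HomogeneousIdeal
noncomputable section
open EGA2

namespace Groth.Agent.S8292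

/-- Let 𝒮 be a quasi-coherent positively graded O_Y-algebra generated by 𝒮_1, M a quasi-coherent
O_Y-module and u : M → 𝒮_1 a surjective module map; let ū : Sym(M) → 𝒮 be the graded algebra
homomorphism extending u. Then the morphism Proj(𝒮) → P(M) = Proj(Sym(M)) induced by ū is a closed
immersion. -/
theorem result {Y PT PS : Scheme.{u}} (𝒮 𝒯 : RelProj.QCGrAlg Y)
    (hgen : 𝒮.IsGenDegOne) (M : Y.Modules) (hM : Coh.IsQCoh M)
    (u : M ⟶ 𝒮.toModule)
    (hu1 : ∀ (U : Y.Opens) (hU : IsAffineOpen U) (x : Γ(M, U)), (u.app U) x ∈ 𝒮.deg U hU 1)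
    (husurj : ∀ (U : Y.Opens) (hU : IsAffineOpen U) (s : 𝒮.presheaf.obj (op U)), s ∈ 𝒮.deg U hU 1 →
      ∃ x : Γ(M, U), (u.app U) x = s)
    (j : M ⟶ 𝒯.toModule) (hT : RelProj.IsGrSymAlg M 𝒯 j)
    (ubar : 𝒯.toQCAlg ⟶ 𝒮.toQCAlg) (hubar : RelProj.IsGradedHom ubar)
    (hju : j ≫ RelSpec.QCAlg.Hom.toModuleMap ubar = u)
    (hirr : ∀ (U : Y.Opens) (hU : IsAffineOpen U),
      (𝒮.deg U hU)₊ ≤ ((𝒯.deg U hU)₊).map (RelProj.gradedHomAt ubar hubar U hU))
    (pT : PT ⟶ Y) (pS : PS ⟶ Y)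
    (chartT : ∀ (U : Y.Opens) (hU : IsAffineOpen U), (((pT ⁻¹ᵁ U : PT.Opens) : Scheme.{u}) ≅ Proj (𝒯.deg U hU)))
    (chartS : ∀ (U : Y.Opens) (hU : IsAffineOpen U), (((pS ⁻¹ᵁ U : PS.Opens) : Scheme.{u}) ≅ Proj (𝒮.deg U hU)))
    (hPT : RelProj.IsRelProj 𝒯 pT chartT) (hPS : RelProj.IsRelProj 𝒮 pS chartS)
    (h : PS ⟶ PT) (hh : RelProj.IsRelProjMap ubar hubar hirr chartT chartS h) : IsClosedImmersion h := by
  refine Groth.Agent.Lib.Lead.RelProjLocal.of_forall_affine ubar hubar hirr @IsClosedImmersion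
    hPT hPS h hh ?_
  intro U hU
  have hsurj1 : ∀ b ∈ 𝒮.deg U hU 1, ∃ a ∈ 𝒯.deg U hU 1,
      RelProj.gradedHomAt ubar hubar U hU a = b := by
    intro b hb
    obtain ⟨x, hx⟩ := husurj U hU b hb
    refine ⟨(j.app U) x, hT.2 U hU x, ?_⟩
    rw [← hx, ← hju]
    rfl
  have hTN := Groth.Agent.Lib.Lead.GenDegOne.surjOn_of_surjOn_one
    (RelProj.gradedHomAt ubar hubar U hU) (hgen U hU) hsurj1
  refine Groth.Agent.Lib.Lead.ProjMapG.map_of_forall_away @IsClosedImmersion _ _ ?_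
  intro i hi s hs
  exact IsClosedImmersion.spec_of_surjective _
    (Groth.Agent.Lib.Lead.ProjChart.away_map_surjective_of_tnSurj
      (RelProj.gradedHomAt ubar hubar U hU) ⟨1, hTN⟩ hi s hs)


end Groth.Agent.S8292
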