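import Groth.Statements.S7595
import Mathlib

set_option autoImplicit false
universe u
open CategoryTheory CategoryTheory.Limits AlgebraicGeometry
open Variety

namespace Groth.Agent.S7595

/-- Let X be a scheme over a field k, K an extension field of k and T an irreducible component of X.
Then each point of the inverse image of T in X_K lies on some irreducible component of X_K that is
contained in this inverse image; so the inverse image of T is the union of the irreducible
components of X_K lying inside it. -/
theorem result (k : Type u) [Field k] (X : Scheme.{u}) [X.Over (Spec (CommRingCat.of k))] (K : Type u) [Field K] [Algebra k K]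
    (T : Set ↥X) (hT : T ∈ irreducibleComponents ↥X) :
    (Curv2.bcFst k X K).base ⁻¹' T = ⋃₀ {Z : Set ↥(Curv2.bc k X K) | Z ∈ irreducibleComponents ↥(Curv2.bc k X K) ∧ Z ⊆ (Curv2.bcFst k X K).base ⁻¹' T} := by
  have hflat : Flat (Curv2.bcFst k X K) := by
    have h0 : Flat (Spec.map (CommRingCat.ofHom (algebraMap k K))) := inferInstance
    exact MorphismProperty.pullback_fst (P := @Flat) _ _ h0
  have hgen : GeneralizingMap (Curv2.bcFst k X K) := Flat.generalizingMap _
  apply Set.Subset.antisymm
  · intro z hz
    obtain ⟨η, hη⟩ := QuasiSober.sober hT.1 (isClosed_of_mem_irreducibleComponents _ hT)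
    have h1 : η ⤳ (Curv2.bcFst k X K) z := hη.specializes hz
    obtain ⟨z', hz', hpz'⟩ := hgen h1
    refine ⟨irreducibleComponent z', ⟨irreducibleComponent_mem_irreducibleComponents z', ?_⟩,
      hz'.mem_closed isClosed_irreducibleComponent mem_irreducibleComponent⟩
    obtain ⟨ζ, hζ⟩ := QuasiSober.sober (isIrreducible_irreducibleComponent (x := z'))
      isClosed_irreducibleComponent
    have h2 : ζ ⤳ z' := hζ.specializes mem_irreducibleComponent
    have h3 : (Curv2.bcFst k X K) ζ ⤳ η := by
      have := h2.map (Curv2.bcFst k X K).continuous
      rwa [hpz'] at this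
    have h4 : T ⊆ closure {(Curv2.bcFst k X K) ζ} := by
      rw [← hη.def]
      exact closure_minimal (Set.singleton_subset_iff.mpr h3.mem_closure) isClosed_closure
    have h5 : closure {(Curv2.bcFst k X K) ζ} ⊆ T :=
      hT.2 (isIrreducible_singleton.closure) h4
    intro w hw
    have h6 : ζ ⤳ w := hζ.specializes hw
    exact h5 (h6.map (Curv2.bcFst k X K).continuous).mem_closure
  · exact Set.sUnion_subset fun Z hZ => hZ.2

end Groth.Agent.S7595
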