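import Groth.Statements.S7598
import Mathlib
import Groth.Agent.Lib.Helper3.GalAct

set_option autoImplicit false
universe u
open CategoryTheory CategoryTheory.Limits AlgebraicGeometry
open Variety

namespace Groth.Agent.S7598

/-- Let k̄ be a separable algebraic closure of a field k and X a scheme over k. Two irreducible
components Z', Z'' of X_{k̄} have the same image in X if and only if Z'' is the image of Z' under
the action of some k-automorphism of k̄ on X_{k̄} (the fibres of the map on irreducible components
are the Galois orbits). -/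
theorem result (k : Type u) [Field k] (X : Scheme.{u}) [X.Over (Spec (CommRingCat.of k))]
    (Z' Z'' : Set ↥(Curv2.bc k X (SeparableClosure k))) (hZ' : Z' ∈ irreducibleComponents ↥(Curv2.bc k X (SeparableClosure k)))
    (hZ'' : Z'' ∈ irreducibleComponents ↥(Curv2.bc k X (SeparableClosure k))) :
    (Curv2.bcFst k X (SeparableClosure k)).base '' Z' = (Curv2.bcFst k X (SeparableClosure k)).base '' Z'' ↔
      ∃ σ : SeparableClosure k ≃ₐ[k] SeparableClosure k, (Curv2.galAct k X (SeparableClosure k) σ).base '' Z' = Z'' := by
  have hnorm : Normal k (SeparableClosure k) := inferInstance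
  constructor
  · intro himg
    obtain ⟨ζ', hζ'⟩ := QuasiSober.sober hZ'.1 (isClosed_of_mem_irreducibleComponents _ hZ')
    obtain ⟨ζ'', hζ''⟩ := QuasiSober.sober hZ''.1 (isClosed_of_mem_irreducibleComponents _ hZ'')
    have hclosed : IsClosedMap (Curv2.bcFst k X (SeparableClosure k)).base :=
      Groth.Agent.Lib.helper3.GeomAlg.isClosedMap_fst_of_isAlgebraic
        (X ↘ Spec (CommRingCat.of k)) (SeparableClosure k)
    have hgen : ∀ (Z : Set ↥(Curv2.bc k X (SeparableClosure k))) (ζ : ↥(Curv2.bc k X (SeparableClosure k))),
        IsGenericPoint ζ Z → IsGenericPoint ((Curv2.bcFst k X (SeparableClosure k)).base ζ)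
          ((Curv2.bcFst k X (SeparableClosure k)).base '' Z) := by
      intro Z ζ hζ
      have h1 := hζ.image (Curv2.bcFst k X (SeparableClosure k)).continuous
      have h2 : closure ((Curv2.bcFst k X (SeparableClosure k)).base '' Z) =
          (Curv2.bcFst k X (SeparableClosure k)).base '' Z :=
        (hclosed Z (hζ.def ▸ isClosed_closure)).closure_eq
      rw [h2] at h1
      exact h1
    have e1 := hgen Z' ζ' hζ'
    have e2 := hgen Z'' ζ'' hζ''
    rw [himg] at e1
    have heq : (Curv2.bcFst k X (SeparableClosure k)).base ζ' =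
        (Curv2.bcFst k X (SeparableClosure k)).base ζ'' := e1.eq e2
    obtain ⟨σ, hσ⟩ := Groth.Agent.Lib.helper3.GalAct.exists_galAct_eq k X (SeparableClosure k)
      ζ' ζ'' heq
    refine ⟨σ, ?_⟩
    have h3 := (Groth.Agent.Lib.helper3.GalAct.galHomeo k X (SeparableClosure k) σ).image_closure {ζ'}
    rw [Set.image_singleton] at h3
    have h4 : (Groth.Agent.Lib.helper3.GalAct.galHomeo k X (SeparableClosure k) σ) ζ' = ζ'' := hσ
    rw [h4, hζ'.def, hζ''.def] at h3
    exact h3
  · rintro ⟨σ, rfl⟩
    rw [Set.image_image]
    congr 1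
    ext z
    exact (Groth.Agent.Lib.helper3.GalAct.galAct_fst_apply k X (SeparableClosure k) σ z).symm

end Groth.Agent.S7598
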