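import Groth.Statements.S1670
import Mathlib
import Groth.Agent.Lib.Helper3.GalAct
import Groth.Agent.Lib.Helper3.IrrCompImage
import Groth.Agent.S7595
import Groth.Agent.S7598

set_option autoImplicit false
universe u
open CategoryTheory CategoryTheory.Limits AlgebraicGeometry
open Variety

namespace Groth.Agent.S1670


open Groth.Agent.Lib.helper3 in
/-- an irreducible component of `X_K` whose image lies in the irreducible component `T` maps onto `T` -/
theorem image_eq (k : Type u) [Field k] (X : Scheme.{u}) [X.Over (Spec (CommRingCat.of k))]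
    (K : Type u) [Field K] [Algebra k K]
    (T : Set X) (hT : T ∈ irreducibleComponents (X : Type u))
    (T' : Set (Curv2.bc k X K)) (hT' : T' ∈ irreducibleComponents (Curv2.bc k X K : Type u))
    (h : (Curv2.bcFst k X K).base '' T' ⊆ T) : (Curv2.bcFst k X K).base '' T' = T := by
  have h1 : (Curv2.bcFst k X K).base '' T' ∈ irreducibleComponents (X : Type u) :=
    IrrCompImage.image_mem_irreducibleComponents (X ↘ (Spec (CommRingCat.of k))) K hT'
  exact Set.Subset.antisymm h (h1.2 hT.1 h)

open Groth.Agent.Lib.helper3 in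
theorem finite_aux (k : Type u) [Field k] (X : Scheme.{u}) [X.Over (Spec (CommRingCat.of k))]
    [LocallyOfFiniteType (X ↘ (Spec (CommRingCat.of k)))]
    (K : Type u) [Field K] [Algebra k K] [Algebra.IsAlgebraic k K]
    (T : Set X) (hT : T ∈ irreducibleComponents (X : Type u)) :
    {T' : Set (Curv2.bc k X K) | T' ∈ irreducibleComponents (Curv2.bc k X K : Type u) ∧
        (Curv2.bcFst k X K).base '' T' ⊆ T}.Finite := by
  obtain ⟨η, hη⟩ := QuasiSober.sober hT.1 (isClosed_of_mem_irreducibleComponents _ hT)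
  obtain ⟨_, ⟨U, hU : IsAffineOpen U, rfl⟩, hηU, -⟩ :=
    X.isBasis_affineOpens.exists_subset_of_mem_open (Set.mem_univ η) isOpen_univ
  have hlf : LocallyOfFiniteType (Curv2.bcSnd k X K) :=
    MorphismProperty.pullback_snd (P := @LocallyOfFiniteType) _ _ inferInstance
  have hln : IsLocallyNoetherian (Curv2.bc k X K) :=
    LocallyOfFiniteType.isLocallyNoetherian (Curv2.bcSnd k X K)
  have haff : IsAffineHom (Curv2.bcFst k X K) :=
    MorphismProperty.pullback_fst (P := @IsAffineHom) _ _ inferInstance
  let V : (Curv2.bc k X K).Opens := (Curv2.bcFst k X K) ⁻¹ᵁ U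
  have hV : IsAffineOpen V := hU.preimage (Curv2.bcFst k X K)
  have hnr : IsNoetherianRing Γ(Curv2.bc k X K, V) := hln.component_noetherian ⟨V, hV⟩
  have hns : TopologicalSpace.NoetherianSpace ↥V := noetherianSpace_of_isAffineOpen V hV
  have hfin : (irreducibleComponents ↥V).Finite :=
    TopologicalSpace.NoetherianSpace.finite_irreducibleComponents
  have hclosed : IsClosedMap (Curv2.bcFst k X K).base :=
    GeomAlg.isClosedMap_fst_of_isAlgebraic (X ↘ Spec (CommRingCat.of k)) K
  -- generic points lie in `V`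
  have hgen : ∀ T' : Set (Curv2.bc k X K), T' ∈ irreducibleComponents (Curv2.bc k X K : Type u) →
      (Curv2.bcFst k X K).base '' T' ⊆ T → ∃ ζ, IsGenericPoint ζ T' ∧ ζ ∈ V := by
    intro T' hT' hsub
    obtain ⟨ζ, hζ⟩ := QuasiSober.sober hT'.1 (isClosed_of_mem_irreducibleComponents _ hT')
    refine ⟨ζ, hζ, ?_⟩
    have h1 := hζ.image (Curv2.bcFst k X K).continuous
    have h2 : closure ((Curv2.bcFst k X K).base '' T') = (Curv2.bcFst k X K).base '' T' :=
      (hclosed T' (isClosed_of_mem_irreducibleComponents _ hT')).closure_eq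
    rw [h2, image_eq k X K T hT T' hT' hsub] at h1
    have h3 : (Curv2.bcFst k X K).base ζ = η := h1.eq hη
    change (Curv2.bcFst k X K).base ζ ∈ U
    rw [h3]
    exact hηU
  refine Set.Finite.of_injOn (f := fun T' => (Subtype.val : ↥V → _) ⁻¹' T') (t := irreducibleComponents ↥V)
    ?_ ?_ hfin
  · rintro T' ⟨hT', hsub⟩
    obtain ⟨ζ, hζ, hζV⟩ := hgen T' hT' hsub
    exact preimage_mem_irreducibleComponents hT' V.isOpenEmbedding'
      ⟨ζ, hζ.mem, ⟨⟨ζ, hζV⟩, rfl⟩⟩
  · rintro T' ⟨hT', hsub⟩ T'' ⟨hT'', hsub''⟩ heq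
    obtain ⟨ζ, hζ, hζV⟩ := hgen T' hT' hsub
    obtain ⟨ζ', hζ', hζ'V⟩ := hgen T'' hT'' hsub''
    have heq' : (Subtype.val : ↥V → _) ⁻¹' T' = (Subtype.val : ↥V → _) ⁻¹' T'' := heq
    have h1 : ζ ∈ T'' := by
      have : (⟨ζ, hζV⟩ : ↥V) ∈ (Subtype.val : ↥V → _) ⁻¹' T' := hζ.mem
      rw [heq'] at this
      exact this
    have h2 : T' ⊆ T'' := by
      rw [← hζ.def]
      exact closure_minimal (Set.singleton_subset_iff.mpr h1)
        (isClosed_of_mem_irreducibleComponents _ hT'')
    exact Set.Subset.antisymm h2 (hT'.2 hT''.1 h2)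

/-- Let X be locally of finite type over k, K a separable closure of k, and T an irreducible component
of X. Then the inverse image of T in X_K is the union of the finitely many irreducible components of
X_K mapping into T, and these form a single orbit under the action of the k-automorphisms of K on
X_K. -/
theorem result (k : Type u) [Field k] (X : Scheme.{u}) [X.Over (Spec (CommRingCat.of k))] [LocallyOfFiniteType (X ↘ (Spec (CommRingCat.of k)))]
    (T : Set X) (hT : T ∈ irreducibleComponents (X : Type u)) :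
    {T' : Set (Curv2.bc k X (SeparableClosure k)) | T' ∈ irreducibleComponents (Curv2.bc k X (SeparableClosure k) : Type u) ∧
        (Curv2.bcFst k X (SeparableClosure k)).base '' T' ⊆ T}.Finite ∧
      (Curv2.bcFst k X (SeparableClosure k)).base ⁻¹' T = ⋃₀ {T' : Set (Curv2.bc k X (SeparableClosure k)) | T' ∈ irreducibleComponents (Curv2.bc k X (SeparableClosure k) : Type u) ∧
        (Curv2.bcFst k X (SeparableClosure k)).base '' T' ⊆ T} ∧
      ∀ T' T'' : Set (Curv2.bc k X (SeparableClosure k)), T' ∈ irreducibleComponents (Curv2.bc k X (SeparableClosure k) : Type u) →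
        T'' ∈ irreducibleComponents (Curv2.bc k X (SeparableClosure k) : Type u) →
        (Curv2.bcFst k X (SeparableClosure k)).base '' T' ⊆ T → (Curv2.bcFst k X (SeparableClosure k)).base '' T'' ⊆ T →
        ∃ σ : (SeparableClosure k) ≃ₐ[k] (SeparableClosure k), (Curv2.galAct k X (SeparableClosure k) σ).base '' T' = T'' := by
  refine ⟨finite_aux k X (SeparableClosure k) T hT, ?_, ?_⟩
  · have h := Groth.Agent.S7595.result k X (SeparableClosure k) T hT
    rw [h]
    congr 1
    ext Z
    simp only [Set.mem_ofPred_eq, Set.image_subset_iff]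
  · intro T' T'' hT' hT'' hsub' hsub''
    refine (Groth.Agent.S7598.result k X T' T'' hT' hT'').mp ?_
    rw [image_eq k X (SeparableClosure k) T hT T' hT' hsub',
      image_eq k X (SeparableClosure k) T hT T'' hT'' hsub'']

end Groth.Agent.S1670
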