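import Groth.Statements.S12084
import Groth.Agent.Lib.Helper15.Fitting
import Groth.Agent.Lib.Helper15.FittLink

set_option autoImplicit false
universe u
open Fitt

namespace Groth.Agent.S12084

section aux
open Groth.Agent.Lib.helper15.Fitting Groth.Agent.Lib.helper15.FittLink

theorem minor_mem' {R : Type*} [CommRing R] {ι : Type*} [Fintype ι] {κ : Type*} [Fintype κ]
    [DecidableEq κ]
    (K : Submodule R (ι → R)) (z : κ → (ι → R)) (e : κ → ι) (hz : ∀ b, z b ∈ K) :
    (Matrix.of fun a b => z b (e a)).det ∈ detIdeal K (Fintype.card κ) := by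
  let φ := Fintype.equivFin κ
  have := minor_mem K (Fintype.card κ) (fun b => z (φ.symm b)) (fun a => e (φ.symm a))
    (fun b => hz _)
  have h2 : (Matrix.of fun a b => z (φ.symm b) (e (φ.symm a))) =
      (Matrix.of fun a b => z b (e a)).submatrix φ.symm φ.symm := rfl
  rwa [h2, Matrix.det_submatrix_equiv_self] at this

theorem det_eq_zero_of_rows {R : Type*} [CommRing R] {m : Type*} [Fintype m] [DecidableEq m]
    (M : Matrix m m R) (A B : Finset m)
    (h : ∀ a ∈ A, ∀ b, b ∉ B → M a b = 0) (hc : B.card < A.card) : M.det = 0 := by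
  rw [← Matrix.det_transpose, Matrix.det_apply]
  apply Finset.sum_eq_zero
  intro σ _
  obtain ⟨a, ha, hb⟩ : ∃ a ∈ A, σ a ∉ B := by
    by_contra hcon
    push Not at hcon
    have := Finset.card_le_card_of_injOn σ hcon (σ.injective.injOn)
    omega
  rw [Finset.prod_eq_zero (Finset.mem_univ a), smul_zero]
  rw [Matrix.transpose_apply]
  exact h a ha _ hb

theorem detIdeal_sum_le {R : Type*} [CommRing R] {ι ι' : Type*} [Fintype ι] [Fintype ι']
    (K : Submodule R (ι → R)) (K' : Submodule R (ι' → R))
    (L : Submodule R (ι ⊕ ι' → R))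
    (hL : ∀ v, v ∈ L ↔ v ∘ Sum.inl ∈ K ∧ v ∘ Sum.inr ∈ K') (J : ℕ) (I : Ideal R)
    (hI : ∀ j j', j + j' = J → detIdeal K j * detIdeal K' j' ≤ I) : detIdeal L J ≤ I := by
  classical
  set S₁ : Set (ι ⊕ ι' → R) := {v | v ∘ Sum.inl ∈ K ∧ v ∘ Sum.inr = 0} with hS₁
  set S₂ : Set (ι ⊕ ι' → R) := {v | v ∘ Sum.inl = 0 ∧ v ∘ Sum.inr ∈ K'} with hS₂
  have hLS : L ≤ Submodule.span R (S₁ ∪ S₂) := by
    intro v hv
    rw [hL] at hv
    have hdec : v = Sum.elim (v ∘ Sum.inl) (0 : ι' → R) + Sum.elim (0 : ι → R) (v ∘ Sum.inr) := by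
      ext (i | i) <;> simp
    rw [hdec]
    apply Submodule.add_mem
    · apply Submodule.subset_span
      left
      refine ⟨?_, ?_⟩
      · simpa using hv.1
      · ext i
        simp
    · apply Submodule.subset_span
      right
      refine ⟨?_, ?_⟩
      · ext i
        simp
      · simpa using hv.2
  refine (detIdeal_mono hLS J).trans ?_
  rw [detIdeal_span]
  apply Ideal.span_le.mpr
  rintro d ⟨z, e, hz, rfl⟩
  set p : Fin J → Prop := fun a => (e a).isLeft = true with hp
  set q : Fin J → Prop := fun b => z b ∈ S₁ with hq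
  have h1 : ∀ a b, p a → ¬ q b → z b (e a) = 0 := by
    intro a b ha hb
    have h2 : z b ∈ S₂ := (hz b).resolve_left hb
    have h3 := congrFun h2.1 ((e a).getLeft ha)
    simpa using h3
  have h2 : ∀ a b, ¬ p a → q b → z b (e a) = 0 := by
    intro a b ha hb
    have ha' : (e a).isRight = true := by
      simpa [hp] using ha
    have h3 := congrFun hb.2 ((e a).getRight ha')
    simpa using h3
  set M : Matrix (Fin J) (Fin J) R := Matrix.of fun a b => z b (e a) with hM
  have hcardp := Finset.card_filter_add_card_filter_not (s := (Finset.univ : Finset (Fin J))) p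
  have hcardq := Finset.card_filter_add_card_filter_not (s := (Finset.univ : Finset (Fin J))) q
  by_cases hcard : (Finset.univ.filter p).card = (Finset.univ.filter q).card
  · -- matched
    have hc1 : Fintype.card {a // p a} = Fintype.card {b // q b} := by
      rw [Fintype.card_subtype, Fintype.card_subtype]
      exact hcard
    have hc2 : Fintype.card {a // ¬ p a} = Fintype.card {b // ¬ q b} := by
      rw [Fintype.card_subtype, Fintype.card_subtype]
      omega
    let e₁ := Fintype.equivOfCardEq hc1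
    let e₂ := Fintype.equivOfCardEq hc2
    let σ : Equiv.Perm (Fin J) := Equiv.subtypeCongr e₁ e₂
    have hσ : ∀ a, p a → q (σ a) := by
      intro a ha
      have : σ a = (e₁ ⟨a, ha⟩ : Fin J) := by
        simp [σ, Equiv.subtypeCongr, Equiv.sumCompl_symm_apply_of_pos, ha]
      rw [this]
      exact (e₁ ⟨a, ha⟩).2
    have hσ' : ∀ a, ¬ p a → ¬ q (σ a) := by
      intro a ha
      have : σ a = (e₂ ⟨a, ha⟩ : Fin J) := by
        simp [σ, Equiv.subtypeCongr, Equiv.sumCompl_symm_apply_of_neg, ha]
      rw [this]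
      exact (e₂ ⟨a, ha⟩).2
    set N : Matrix (Fin J) (Fin J) R := M.submatrix id σ with hN
    have hdetN : N.det = ((Equiv.Perm.sign σ : ℤ) : R) * M.det := Matrix.det_permute' σ M
    have hs : ((Equiv.Perm.sign σ : ℤ) : R) * ((Equiv.Perm.sign σ : ℤ) : R) = 1 := by
      rw [← Int.cast_mul, ← Units.val_mul, Int.units_mul_self]
      simp
    have hdetM : M.det = ((Equiv.Perm.sign σ : ℤ) : R) * N.det := by
      rw [hdetN, ← mul_assoc, hs, one_mul]
    rw [hdetM]
    apply Ideal.mul_mem_left
    rw [Matrix.twoBlockTriangular_det N p (fun i hi j hj => h2 i (σ j) hi (hσ j hj))]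
    have hX : (Matrix.toSquareBlockProp N p).det ∈ detIdeal K (Fintype.card {a // p a}) := by
      have := minor_mem' K (fun b : {a // p a} => z (σ b) ∘ Sum.inl)
        (fun a : {a // p a} => (e a).getLeft a.2) (fun b => (hσ b b.2).1)
      convert this using 2
      ext a b
      simp [Matrix.toSquareBlockProp, N, M]
    have hY : (Matrix.toSquareBlockProp N fun a => ¬ p a).det ∈
        detIdeal K' (Fintype.card {a // ¬ p a}) := by
      have hr : ∀ a : {a // ¬ p a}, (e a).isRight = true := by
        intro a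
        have := a.2
        simpa [hp] using this
      have := minor_mem' K' (fun b : {a // ¬ p a} => z (σ b) ∘ Sum.inr)
        (fun a : {a // ¬ p a} => (e a).getRight (hr a))
        (fun b => ((hz (σ b)).resolve_left (hσ' b b.2)).2)
      convert this using 2
      ext a b
      simp [Matrix.toSquareBlockProp, N, M]
    refine hI _ _ ?_ (Ideal.mul_mem_mul hX hY)
    rw [Fintype.card_subtype, Fintype.card_subtype]
    simpa using hcardp
  · have hzero : M.det = 0 := by
      rcases lt_or_gt_of_ne hcard with hlt | hgt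
      · -- fewer p-rows than q-columns: more ¬p rows than ¬q columns
        apply det_eq_zero_of_rows M (Finset.univ.filter fun a => ¬ p a)
          (Finset.univ.filter fun b => ¬ q b)
        · intro a ha b hb
          simp only [Finset.mem_filter, Finset.mem_univ, true_and, not_not] at ha hb
          exact h2 a b ha hb
        · omega
      · apply det_eq_zero_of_rows M (Finset.univ.filter p) (Finset.univ.filter q)
        · intro a ha b hb
          simp only [Finset.mem_filter, Finset.mem_univ, true_and] at ha hb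
          exact h1 a b ha hb
        · omega
    rw [hzero]
    exact I.zero_mem

theorem mul_le_detIdeal_sum {R : Type*} [CommRing R] {ι ι' : Type*} [Fintype ι] [Fintype ι']
    (K : Submodule R (ι → R)) (K' : Submodule R (ι' → R))
    (L : Submodule R (ι ⊕ ι' → R))
    (hL : ∀ v, v ∈ L ↔ v ∘ Sum.inl ∈ K ∧ v ∘ Sum.inr ∈ K') (j j' : ℕ) :
    detIdeal K j * detIdeal K' j' ≤ detIdeal L (j + j') := by
  classical
  rw [detIdeal, detIdeal, Ideal.span_mul_span']
  apply Ideal.span_le.mpr
  rintro _ ⟨d, ⟨z, e, hz, rfl⟩, d', ⟨z', e', hz', rfl⟩, rfl⟩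
  let Z : Fin j ⊕ Fin j' → (ι ⊕ ι' → R) :=
    Sum.elim (fun b => Sum.elim (z b) (0 : ι' → R)) (fun b => Sum.elim (0 : ι → R) (z' b))
  have hZ : ∀ b, Z b ∈ L := by
    rintro (b | b)
    · rw [hL]
      refine ⟨?_, ?_⟩
      · simpa [Z] using hz b
      · have : (Z (Sum.inl b)) ∘ Sum.inr = 0 := by
          ext i
          simp [Z]
        rw [this]
        exact K'.zero_mem
    · rw [hL]
      refine ⟨?_, ?_⟩
      · have : (Z (Sum.inr b)) ∘ Sum.inl = 0 := by
          ext i
          simp [Z]
        rw [this]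
        exact K.zero_mem
      · simpa [Z] using hz' b
  have key := minor_mem' L Z (Sum.map e e') hZ
  have hcard : Fintype.card (Fin j ⊕ Fin j') = j + j' := by simp
  rw [hcard] at key
  have hblock : (Matrix.of fun a b => Z b (Sum.map e e' a)) =
      Matrix.fromBlocks (Matrix.of fun a b => z b (e a)) 0 0 (Matrix.of fun a b => z' b (e' a)) := by
    ext (a | a) (b | b) <;> simp [Z]
  rw [hblock, Matrix.det_fromBlocks_zero₂₁] at key
  exact key

end aux

/-- For finite `R`-modules `M`, `M'` and every `l`, the `l`-th Fitting ideal of `M ⊕ M'` equals `∑_{k +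
k' = l} Fit_k(M) · Fit_{k'}(M')`; in particular `Fit_0(M ⊕ M') = Fit_0(M) · Fit_0(M')`. -/
theorem result (R : Type u) [CommRing R] (M M' : Type u) [AddCommGroup M] [Module R M]
    [AddCommGroup M'] [Module R M'] [Module.Finite R M] [Module.Finite R M'] (l : ℕ) :
    Fitt.ideal R (M × M') l = ∑ k ∈ Finset.range (l + 1), Fitt.ideal R M k * Fitt.ideal R M' (l - k) := by
  classical
  obtain ⟨n, x, hx⟩ := Module.Finite.exists_fin (R := R) (M := M)
  obtain ⟨n', x', hx'⟩ := Module.Finite.exists_fin (R := R) (M := M')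
  set y : Fin n ⊕ Fin n' → M × M' := Sum.elim (fun i => (x i, 0)) (fun i => (0, x' i)) with hy
  have hyspan : Submodule.span R (Set.range y) = ⊤ := by
    rw [eq_top_iff, ← LinearMap.sup_range_inl_inr (R := R) (M := M) (M₂ := M')]
    apply sup_le
    · rw [LinearMap.range_eq_map, ← hx, Submodule.map_span, Submodule.span_le]
      rintro _ ⟨_, ⟨i, rfl⟩, rfl⟩
      exact Submodule.subset_span ⟨Sum.inl i, rfl⟩
    · rw [LinearMap.range_eq_map, ← hx', Submodule.map_span, Submodule.span_le]
      rintro _ ⟨_, ⟨i, rfl⟩, rfl⟩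
      exact Submodule.subset_span ⟨Sum.inr i, rfl⟩
  have hyspan' : Submodule.span R (Set.range (y ∘ finSumFinEquiv.symm)) = ⊤ := by
    rw [finSumFinEquiv.symm.surjective.range_comp]
    exact hyspan
  have hL : ∀ v, v ∈ Groth.Agent.Lib.helper15.Fitting.rel R y ↔
      v ∘ Sum.inl ∈ Groth.Agent.Lib.helper15.Fitting.rel R x ∧
      v ∘ Sum.inr ∈ Groth.Agent.Lib.helper15.Fitting.rel R x' := by
    intro v
    rw [Groth.Agent.Lib.helper15.Fitting.mem_rel, Groth.Agent.Lib.helper15.Fitting.mem_rel,
      Groth.Agent.Lib.helper15.Fitting.mem_rel, Fintype.sum_sum_type]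
    simp [hy, Prod.ext_iff, Prod.fst_sum, Prod.snd_sum]
  rw [Groth.Agent.Lib.helper15.FittLink.fitt_eq (y ∘ finSumFinEquiv.symm) hyspan' l,
    Groth.Agent.Lib.helper15.Fitting.detIdeal_rel_comp_equiv]
  have hterm : ∀ k, Fitt.ideal R M k * Fitt.ideal R M' (l - k) =
      Groth.Agent.Lib.helper15.Fitting.detIdeal (Groth.Agent.Lib.helper15.Fitting.rel R x) (n - k) *
      Groth.Agent.Lib.helper15.Fitting.detIdeal (Groth.Agent.Lib.helper15.Fitting.rel R x')
        (n' - (l - k)) := by
    intro k
    rw [Groth.Agent.Lib.helper15.FittLink.fitt_eq x hx k,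
      Groth.Agent.Lib.helper15.FittLink.fitt_eq x' hx' (l - k)]
  simp_rw [hterm]
  rw [Ideal.sum_eq_sup]
  apply le_antisymm
  · apply detIdeal_sum_le _ _ _ hL
    intro j j' hjj
    by_cases hj : n < j
    · rw [Groth.Agent.Lib.helper15.Fitting.detIdeal_eq_bot_of_card_lt _ (by simpa using hj)]
      simp
    by_cases hj' : n' < j'
    · rw [Groth.Agent.Lib.helper15.Fitting.detIdeal_eq_bot_of_card_lt (j := j') _
        (by simpa using hj')]
      simp
    have hmem : n - j ∈ Finset.range (l + 1) := by
      rw [Finset.mem_range]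
      omega
    refine le_trans ?_ (Finset.le_sup hmem)
    have e1 : n - (n - j) = j := by omega
    have e2 : n' - (l - (n - j)) = j' := by omega
    simp only [e1, e2]
    exact le_rfl
  · apply Finset.sup_le
    intro k hk
    rw [Finset.mem_range] at hk
    refine (mul_le_detIdeal_sum _ _ _ hL _ _).trans ?_
    apply Groth.Agent.Lib.helper15.Fitting.detIdeal_anti
    omega

end Groth.Agent.S12084
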