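import Groth.Statements.S6891
import Mathlib

set_option autoImplicit false
universe u
open Fitt

namespace Groth.Agent.S6891

lemma det_smul_eq_zero {R : Type u} [CommRing R] {M : Type u} [AddCommGroup M] [Module R M]
    {n : ℕ} (x : Fin n → M) (a : Matrix (Fin n) (Fin n) R)
    (ha : ∀ i : Fin n, ∑ j, a i j • x j = 0) (j : Fin n) : a.det • x j = 0 := by
  have h1 : ∑ l, (a.adjugate * a) j l • x l = a.det • x j := by
    rw [Matrix.adjugate_mul]
    simp [Matrix.smul_apply, Matrix.one_apply, ite_smul, Finset.sum_ite_eq]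
  rw [← h1]
  have h2 : ∀ l, (a.adjugate * a) j l • x l = ∑ i, a.adjugate j i • (a i l • x l) := by
    intro l
    rw [Matrix.mul_apply, Finset.sum_smul]
    refine Finset.sum_congr rfl fun i _ => ?_
    rw [mul_smul]
  simp_rw [h2]
  rw [Finset.sum_comm]
  refine Finset.sum_eq_zero fun i _ => ?_
  rw [← Finset.smul_sum, ha i, smul_zero]

lemma ideal_zero_le_annihilator {R : Type u} [CommRing R] (M : Type u) [AddCommGroup M]
    [Module R M] : Fitt.ideal R M 0 ≤ Module.annihilator R M := by
  unfold Fitt.ideal
  rw [Ideal.span_le]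
  rintro d ⟨n, x, a, hx, ha, rfl⟩
  rw [SetLike.mem_coe, Module.mem_annihilator]
  intro m
  have hm : m ∈ Submodule.span R (Set.range x) := by rw [hx]; trivial
  induction hm using Submodule.span_induction with
  | mem y hy =>
    obtain ⟨j, rfl⟩ := hy
    exact det_smul_eq_zero x a (fun i => ha i (by simp)) j
  | zero => simp
  | add y z _ _ hy hz => rw [smul_add, hy, hz, add_zero]
  | smul c y _ hy => rw [smul_comm, hy, smul_zero]

/-- Let `M` be a finite `R`-module. Then `Fit_0(M) ⊆ Ann_R(M)`, the closed set `V(Fit_0(M))` equals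
`Supp(M)`, and for an ideal `I` one has `Fit_0(R/I) = I`. -/
theorem result {R : Type u} [CommRing R] (M : Type u) [AddCommGroup M]
    [Module R M] [Module.Finite R M] (I : Ideal R) :
    Fitt.ideal R M 0 ≤ Module.annihilator R M ∧
    PrimeSpectrum.zeroLocus (Fitt.ideal R M 0 : Set R) = Module.support R M ∧
    Fitt.ideal R (R ⧸ I) 0 = I := by
  refine ⟨ideal_zero_le_annihilator M, ?_, ?_⟩
  · rw [Module.support_eq_zeroLocus]
    apply subset_antisymm
    · intro p hp
      rw [PrimeSpectrum.mem_zeroLocus] at hp ⊢
      intro r hr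
      obtain ⟨n, x, hx⟩ := Module.Finite.exists_fin (R := R) (M := M)
      have hmem : r ^ n ∈ Fitt.ideal R M 0 := by
        apply Ideal.subset_span
        refine ⟨n, x, r • (1 : Matrix (Fin n) (Fin n) R), hx, ?_, ?_⟩
        · intro i _
          have hr' : ∀ m : M, r • m = 0 := Module.mem_annihilator.1 hr
          simp [Matrix.smul_apply, Matrix.one_apply, hr']
        · simp
      exact p.2.mem_of_pow_mem n (hp hmem)
    · exact PrimeSpectrum.zeroLocus_anti_mono (ideal_zero_le_annihilator M)
  · apply le_antisymm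
    · refine (ideal_zero_le_annihilator (R ⧸ I)).trans ?_
      rw [Ideal.annihilator_quotient]
    · intro r hr
      apply Ideal.subset_span
      refine ⟨1, fun _ => (1 : R ⧸ I), Matrix.of fun _ _ => r, ?_, ?_, ?_⟩
      · rw [eq_top_iff]
        rintro y -
        obtain ⟨s, rfl⟩ := Ideal.Quotient.mk_surjective y
        have : (Ideal.Quotient.mk I s) = s • (1 : R ⧸ I) := by
          rw [Algebra.smul_def, mul_one]; rfl
        rw [this]
        exact Submodule.smul_mem _ _ (Submodule.subset_span ⟨0, rfl⟩)
      · intro i _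
        simp only [Finset.univ_unique, Matrix.of_apply, Finset.sum_singleton]
        rw [Algebra.smul_def, mul_one]
        exact Ideal.Quotient.eq_zero_iff_mem.2 hr
      · simp [Matrix.det_unique]

end Groth.Agent.S6891
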