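import Groth.Statements.S6883
import Mathlib

set_option autoImplicit false
universe u
open TensorProduct
open CAlg

namespace Groth.Agent.S6883


/-- internal flatness of `M/KM` over `R/K`: tensoring with `M` preserves injections of `K`-torsion modules -/
def FlatMod {R : Type u} [CommRing R] (K : Ideal R) (M : Type u) [AddCommGroup M] [Module R M] : Prop :=
  ∀ (P' P : Type u) [AddCommGroup P'] [AddCommGroup P] [Module R P'] [Module R P] (f : P' →ₗ[R] P),
    Function.Injective f → (∀ k ∈ K, ∀ p : P', k • p = 0) → (∀ k ∈ K, ∀ p : P, k • p = 0) →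
    Function.Injective (f.rTensor M)

theorem FlatMod.mono {R : Type u} [CommRing R] {K K' : Ideal R} {M : Type u} [AddCommGroup M] [Module R M]
    (h : FlatMod K M) (hle : K ≤ K') : FlatMod K' M :=
  fun P' P _ _ _ _ f hf h1 h2 => h P' P f hf (fun k hk => h1 k (hle hk)) (fun k hk => h2 k (hle hk))

theorem quot_tors {R : Type u} [CommRing R] (I : Ideal R) (k : R) (hk : k ∈ I) (p : R ⧸ I) : k • p = 0 := by
  refine Eq.trans (Algebra.smul_def k p) ?_
  rw [Ideal.Quotient.algebraMap_eq, Ideal.Quotient.eq_zero_iff_mem.mpr hk, zero_mul]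

/-- the contraction of `I S` to `R` -/
abbrev Kc {R : Type u} [CommRing R] (S : Type u) [CommRing S] [Algebra R S] (I : Ideal R) : Ideal R :=
  RingHom.ker (algebraMap R (S ⧸ I.map (algebraMap R S)))

theorem mem_Kc {R : Type u} [CommRing R] {S : Type u} [CommRing S] [Algebra R S] {I : Ideal R} {x : R} :
    x ∈ Kc S I ↔ algebraMap R S x ∈ I.map (algebraMap R S) := by
  rw [Kc, RingHom.mem_ker, IsScalarTower.algebraMap_apply R S (S ⧸ I.map (algebraMap R S)),
    Ideal.Quotient.algebraMap_eq, Ideal.Quotient.eq_zero_iff_mem]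

theorem le_Kc {R : Type u} [CommRing R] {S : Type u} [CommRing S] [Algebra R S] (I : Ideal R) :
    I ≤ Kc S I := fun _ hx => mem_Kc.mpr (Ideal.mem_map_of_mem _ hx)

theorem rTensor_inj_of_flat {R : Type u} [CommRing R] {S : Type u} [CommRing S] [Algebra R S]
    {M : Type u} [AddCommGroup M] [Module R M] [Module.Flat S (S ⊗[R] M)]
    {N' N : Type u} [AddCommGroup N'] [AddCommGroup N] [Module R N'] [Module R N] [Module S N'] [Module S N]
    [IsScalarTower R S N'] [IsScalarTower R S N] (f : N' →ₗ[S] N) (hf : Function.Injective f) :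
    Function.Injective ((f.restrictScalars R).rTensor M) := by
  obtain ⟨e', he'⟩ : ∃ e' : N' ⊗[S] (S ⊗[R] M) ≃ₗ[S] N' ⊗[R] M,
      ∀ n s m, e' (n ⊗ₜ[S] (s ⊗ₜ[R] m)) = (s • n) ⊗ₜ[R] m :=
    ⟨AlgebraTensorModule.cancelBaseChange R S S N' M,
      fun n s m => AlgebraTensorModule.cancelBaseChange_tmul R S S n m s⟩
  obtain ⟨e, he⟩ : ∃ e : N ⊗[S] (S ⊗[R] M) ≃ₗ[S] N ⊗[R] M,
      ∀ n s m, e (n ⊗ₜ[S] (s ⊗ₜ[R] m)) = (s • n) ⊗ₜ[R] m :=
    ⟨AlgebraTensorModule.cancelBaseChange R S S N M,
      fun n s m => AlgebraTensorModule.cancelBaseChange_tmul R S S n m s⟩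
  have hflat : Function.Injective (f.rTensor (S ⊗[R] M)) :=
    Module.Flat.rTensor_preserves_injective_linearMap f hf
  have hsq : ∀ x, e (f.rTensor (S ⊗[R] M) x) = (f.restrictScalars R).rTensor M (e' x) := by
    intro x
    induction x using TensorProduct.induction_on with
    | zero => simp only [map_zero]
    | add x y hx hy => simp only [map_add, hx, hy]
    | tmul n y =>
      induction y using TensorProduct.induction_on with
      | zero => simp only [TensorProduct.tmul_zero, map_zero]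
      | add y z hy hz => simp only [TensorProduct.tmul_add, map_add, hy, hz]
      | tmul s m =>
        rw [LinearMap.rTensor_tmul, he, he', LinearMap.rTensor_tmul, LinearMap.restrictScalars_apply,
          map_smul]
  intro a b hab
  obtain ⟨a', rfl⟩ := e'.surjective a
  obtain ⟨b', rfl⟩ := e'.surjective b
  rw [← hsq, ← hsq] at hab
  rw [hflat (e.injective hab)]

theorem flatMod_of_flat_quot {R : Type u} [CommRing R] (K : Ideal R) (M : Type u) [AddCommGroup M]
    [Module R M] [Module.Flat (R ⧸ K) ((R ⧸ K) ⊗[R] M)] : FlatMod K M := by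
  intro P' P _ _ _ _ f hf hP' hP
  have tP' : Module.IsTorsionBySet R P' (K : Set R) := fun x a => hP' a.1 a.2 x
  have tP : Module.IsTorsionBySet R P (K : Set R) := fun x a => hP a.1 a.2 x
  letI : Module (R ⧸ K) P' := tP'.module
  letI : Module (R ⧸ K) P := tP.module
  haveI : IsScalarTower R (R ⧸ K) P' := tP'.isScalarTower
  haveI : IsScalarTower R (R ⧸ K) P := tP.isScalarTower
  let fbar : P' →ₗ[R ⧸ K] P :=
    { toFun := f
      map_add' := f.map_add
      map_smul' := fun c x => by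
        obtain ⟨r, rfl⟩ := Ideal.Quotient.mk_surjective c
        show f (Ideal.Quotient.mk K r • x) = Ideal.Quotient.mk K r • f x
        rw [tP'.mk_smul, tP.mk_smul, f.map_smul] }
  have h := rTensor_inj_of_flat (R := R) (S := R ⧸ K) (M := M) fbar hf
  have hfb : fbar.restrictScalars R = f := LinearMap.ext fun _ => rfl
  rw [hfb] at h
  exact h

theorem flat_bc {R : Type u} [CommRing R] {S : Type u} [CommRing S] [Algebra R S] (S₁ : Type u)
    [CommRing S₁] [Algebra R S₁] [Algebra S S₁] [IsScalarTower R S S₁] (M : Type u) [AddCommGroup M]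
    [Module R M] [Module.Flat S (S ⊗[R] M)] : Module.Flat S₁ (S₁ ⊗[R] M) := by
  haveI : Module.Flat S₁ (S₁ ⊗[S] (S ⊗[R] M)) := Module.Flat.baseChange S S₁ (S ⊗[R] M)
  exact Module.Flat.of_linearEquiv (AlgebraTensorModule.cancelBaseChange R S S₁ S₁ M).symm

theorem flat_of_two_ideals {R : Type u} [CommRing R] {M : Type u} [AddCommGroup M] [Module R M]
    (I J : Ideal R) (hIJ : ∀ a ∈ I, ∀ b ∈ J, b * a = 0)
    (hI : FlatMod I M) (hJ : FlatMod J M)
    (hinj : Function.Injective (I.subtype.rTensor M)) : Module.Flat R M := by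
  rw [Module.Flat.iff_rTensor_injective']
  intro 𝔞
  rw [injective_iff_map_eq_zero]
  intro z hz
  obtain ⟨ψ, hψ⟩ : ∃ ψ : 𝔞 →ₗ[R] (R ⧸ I), ψ = (Submodule.mkQ I) ∘ₗ 𝔞.subtype := ⟨_, rfl⟩
  have hfac : (LinearMap.range ψ).subtype ∘ₗ ψ.rangeRestrict = ψ := LinearMap.ext fun _ => rfl
  have h1 : ((LinearMap.range ψ).subtype).rTensor M (ψ.rangeRestrict.rTensor M z) = 0 := by
    rw [← LinearMap.rTensor_comp_apply, hfac, hψ, LinearMap.rTensor_comp_apply, hz, map_zero]
  have h2 : Function.Injective ((LinearMap.range ψ).subtype.rTensor M) :=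
    hI _ _ _ (Submodule.injective_subtype _)
      (fun k hk p => Subtype.ext (quot_tors I k hk p.1)) (fun k hk p => quot_tors I k hk p)
  have h3 : ψ.rangeRestrict.rTensor M z = 0 := h2 (by rw [h1, map_zero])
  have hex := rTensor_exact M (LinearMap.exact_subtype_ker_map ψ.rangeRestrict)
    (LinearMap.surjective_rangeRestrict ψ)
  obtain ⟨w, rfl⟩ := (hex z).mp h3
  have hmem : ∀ x : LinearMap.ker ψ.rangeRestrict, ((x : 𝔞) : R) ∈ I := by
    intro x
    have hx : ψ.rangeRestrict x.1 = 0 := x.2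
    have hx2 : ψ x.1 = 0 := congrArg Subtype.val hx
    have hx3 : (Submodule.mkQ I ∘ₗ 𝔞.subtype) x.1 = 0 := (LinearMap.congr_fun hψ x.1).symm.trans hx2
    exact (Submodule.Quotient.mk_eq_zero I).mp hx3
  obtain ⟨θ, hθdef⟩ : ∃ θ : LinearMap.ker ψ.rangeRestrict →ₗ[R] I,
      ∀ x, ((θ x : I) : R) = ((x : 𝔞) : R) :=
    ⟨LinearMap.codRestrict I (𝔞.subtype ∘ₗ (LinearMap.ker ψ.rangeRestrict).subtype) hmem, fun _ => rfl⟩
  have hθ : Function.Injective θ := by
    intro x y hxy
    have := congrArg (fun t : I => (t : R)) hxy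
    simp only [hθdef] at this
    exact Subtype.ext (Subtype.ext this)
  have hθM : Function.Injective (θ.rTensor M) :=
    hJ _ _ θ hθ
      (fun k hk p => Subtype.ext (Subtype.ext (hIJ _ (hmem p) k hk)))
      (fun k hk p => Subtype.ext (hIJ _ p.2 k hk))
  have hcomp : I.subtype ∘ₗ θ = 𝔞.subtype ∘ₗ (LinearMap.ker ψ.rangeRestrict).subtype :=
    LinearMap.ext fun x => hθdef x
  have h4 : I.subtype.rTensor M (θ.rTensor M w) = 0 := by
    rw [← LinearMap.rTensor_comp_apply, hcomp, LinearMap.rTensor_comp_apply]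
    exact hz
  have hw : w = 0 := hθM (by rw [map_zero]; exact hinj (by rw [h4, map_zero]))
  rw [hw, map_zero]

theorem inj_of_prod_zero {R : Type u} [CommRing R] {S : Type u} [CommRing S] [Algebra R S]
    (hinj : Function.Injective (algebraMap R S)) {M : Type u} [AddCommGroup M] [Module R M]
    [Module.Flat S (S ⊗[R] M)] (Ka Kb : Ideal R) (hprod : ∀ x ∈ Ka, ∀ y ∈ Kb, y * x = 0)
    (hKb : FlatMod Kb M) : Function.Injective (Ka.subtype.rTensor M) := by
  obtain ⟨𝔄, h𝔄⟩ : ∃ 𝔄 : Ideal S, 𝔄 = Ka.map (algebraMap R S) := ⟨_, rfl⟩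
  have hann : ∀ k ∈ Kb, ∀ s ∈ 𝔄, algebraMap R S k * s = 0 := by
    intro k hk s hs
    rw [h𝔄] at hs
    have hbot : Kb * Ka = ⊥ := by
      rw [eq_bot_iff, Ideal.mul_le]
      intro y hy x hx
      rw [Ideal.mem_bot]; exact hprod x hx y hy
    have h1 : algebraMap R S k * s ∈ Kb.map (algebraMap R S) * Ka.map (algebraMap R S) :=
      Ideal.mul_mem_mul (Ideal.mem_map_of_mem _ hk) hs
    rw [← Ideal.map_mul, hbot, Ideal.map_bot] at h1
    exact Ideal.mem_bot.mp h1
  let j : Ka →ₗ[R] 𝔄 :=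
    { toFun := fun x => ⟨algebraMap R S x.1, by rw [h𝔄]; exact Ideal.mem_map_of_mem _ x.2⟩
      map_add' := fun x y => Subtype.ext (by
        show algebraMap R S ((x : R) + (y : R)) = algebraMap R S (x : R) + algebraMap R S (y : R)
        rw [map_add])
      map_smul' := fun c x => Subtype.ext (by
        show algebraMap R S (c • (x : R)) = c • algebraMap R S (x : R)
        rw [smul_eq_mul, map_mul, Algebra.smul_def]) }
  have hj : Function.Injective j := by
    intro x y hxy
    have := congrArg (fun t : 𝔄 => (t : S)) hxy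
    exact Subtype.ext (hinj this)
  have hjM : Function.Injective (j.rTensor M) :=
    hKb _ _ j hj (fun k hk p => Subtype.ext (hprod p.1 p.2 k hk))
      (fun k hk p => Subtype.ext (by
        show k • (p : S) = 0
        rw [Algebra.smul_def]; exact hann k hk p.1 p.2))
  have hsub : Function.Injective ((𝔄.subtype.restrictScalars R).rTensor M) :=
    rTensor_inj_of_flat (R := R) (S := S) (M := M) 𝔄.subtype (Submodule.injective_subtype _)
  have hcomp : (𝔄.subtype.restrictScalars R) ∘ₗ j = (Algebra.linearMap R S) ∘ₗ Ka.subtype :=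
    LinearMap.ext fun x => rfl
  rw [injective_iff_map_eq_zero]
  intro z hz
  have h1 : (𝔄.subtype.restrictScalars R).rTensor M (j.rTensor M z) = 0 := by
    rw [← LinearMap.rTensor_comp_apply, hcomp, LinearMap.rTensor_comp_apply, hz, map_zero]
  exact hjM (by rw [map_zero]; exact hsub (by rw [h1, map_zero]))

theorem flat_of_zero_divisors {R : Type u} [CommRing R] {S : Type u} [CommRing S] [Algebra R S]
    (hinj : Function.Injective (algebraMap R S)) {M : Type u} [AddCommGroup M] [Module R M]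
    [Module.Flat S (S ⊗[R] M)] (H : ∀ I : Ideal R, I ≠ ⊥ → FlatMod (Kc S I) M)
    (a b : R) (ha : a ≠ 0) (hb : b ≠ 0) (hab : a * b = 0) : Module.Flat R M := by
  have hKa : FlatMod (Kc S (Ideal.span {a})) M :=
    H _ (by rw [Ne, Ideal.span_singleton_eq_bot]; exact ha)
  have hKb : FlatMod (Kc S (Ideal.span {b})) M :=
    H _ (by rw [Ne, Ideal.span_singleton_eq_bot]; exact hb)
  have hprod : ∀ x ∈ Kc S (Ideal.span {a}), ∀ y ∈ Kc S (Ideal.span {b}), y * x = 0 := by
    intro x hx y hy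
    apply hinj
    rw [map_mul, map_zero]
    have h1 : algebraMap R S y * algebraMap R S x ∈
        (Ideal.span {b}).map (algebraMap R S) * (Ideal.span {a}).map (algebraMap R S) :=
      Ideal.mul_mem_mul (mem_Kc.mp hy) (mem_Kc.mp hx)
    rw [← Ideal.map_mul, Ideal.span_singleton_mul_span_singleton, mul_comm b a, hab,
      Ideal.span_singleton_eq_bot.mpr rfl, Ideal.map_bot] at h1
    exact Ideal.mem_bot.mp h1
  exact flat_of_two_ideals _ _ hprod hKa hKb (inj_of_prod_zero hinj _ _ hprod hKb)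

theorem exists_Kc_le {R : Type u} [CommRing R] [IsNoetherianRing R] {S : Type u} [CommRing S]
    [Algebra R S] [Module.Finite R S] (hinj : Function.Injective (algebraMap R S)) (x : R) (e : ℕ) :
    ∃ e' : ℕ, Kc S (Ideal.span {x ^ e'}) ≤ Ideal.span {x ^ e} := by
  obtain ⟨k, hk⟩ := Ideal.exists_pow_inf_eq_pow_smul (Ideal.span {x})
    (LinearMap.range (Algebra.linearMap R S))
  refine ⟨k + e, fun r hr => ?_⟩
  have hr' := mem_Kc.mp hr
  have h1 : algebraMap R S r ∈ (Ideal.span {x}) ^ (k + e) • (⊤ : Submodule R S) ⊓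
      LinearMap.range (Algebra.linearMap R S) := by
    refine ⟨?_, ⟨r, rfl⟩⟩
    rw [Ideal.smul_top_eq_map, Ideal.span_singleton_pow]
    exact hr'
  rw [hk (k + e) (Nat.le_add_right k e), Nat.add_sub_cancel_left] at h1
  have h2 : (Ideal.span {x}) ^ e • ((Ideal.span {x}) ^ k • (⊤ : Submodule R S) ⊓
      LinearMap.range (Algebra.linearMap R S)) ≤
      Submodule.map (Algebra.linearMap R S) ((Ideal.span {x}) ^ e : Ideal R) := by
    rw [Submodule.smul_le]
    rintro i hi n ⟨-, ⟨r', rfl⟩⟩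
    refine ⟨i * r', Ideal.mul_mem_right _ _ hi, ?_⟩
    rw [Algebra.linearMap_apply, Algebra.linearMap_apply, map_mul, Algebra.smul_def]
  obtain ⟨r', hr'mem, heq⟩ := h2 h1
  have : r' = r := hinj heq
  rw [← this, ← Ideal.span_singleton_pow]
  exact hr'mem

theorem exists_retraction (R : Type u) [CommRing R] [IsDomain R] [IsNoetherianRing R] (S : Type u)
    [CommRing S] [Algebra R S] [Module.Finite R S] (hinj : Function.Injective (algebraMap R S)) :
    ∃ ρ : S →ₗ[R] R, ρ 1 ≠ 0 := by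
  haveI : Module.Flat R (FractionRing R) := IsLocalization.flat (FractionRing R) (nonZeroDivisors R)
  let ι : FractionRing R →ₗ[FractionRing R] FractionRing R ⊗[R] S :=
    { toFun := fun k => k ⊗ₜ[R] (1 : S)
      map_add' := fun a b => TensorProduct.add_tmul a b 1
      map_smul' := fun c k => by rw [RingHom.id_apply, TensorProduct.smul_tmul'] }
  have hι : LinearMap.ker ι = ⊥ := by
    rw [LinearMap.ker_eq_bot]
    have h1 : Function.Injective ((Algebra.linearMap R S).lTensor (FractionRing R)) :=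
      Module.Flat.lTensor_preserves_injective_linearMap _ hinj
    have ha : ∀ k : FractionRing R, ι k =
        (Algebra.linearMap R S).lTensor (FractionRing R) ((TensorProduct.rid R (FractionRing R)).symm k) := by
      intro k
      rw [TensorProduct.rid_symm_apply, LinearMap.lTensor_tmul, Algebra.linearMap_apply, map_one]
      rfl
    intro a b hab
    rw [ha, ha] at hab
    exact (TensorProduct.rid R (FractionRing R)).symm.injective (h1 hab)
  obtain ⟨φ, hφ⟩ := LinearMap.exists_leftInverse_of_injective ι hι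
  obtain ⟨g₀, hg₀def⟩ : ∃ g₀ : S →ₗ[R] FractionRing R,
      ∀ s, g₀ s = φ ((1 : FractionRing R) ⊗ₜ[R] s) :=
    ⟨(φ.restrictScalars R) ∘ₗ ((TensorProduct.mk R (FractionRing R) S) 1), fun _ => rfl⟩
  have hg₀ : g₀ 1 = 1 := by
    rw [hg₀def]
    exact LinearMap.congr_fun hφ 1
  haveI : Module.FinitePresentation R S := Module.finitePresentation_of_finite R S
  obtain ⟨ρ, s, hs⟩ := Module.FinitePresentation.exists_lift_of_isLocalizedModule
    (nonZeroDivisors R) (Algebra.linearMap R (FractionRing R)) g₀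
  refine ⟨ρ, fun h0 => ?_⟩
  have h1 := LinearMap.congr_fun hs 1
  rw [LinearMap.comp_apply, h0, map_zero, LinearMap.smul_apply, hg₀] at h1
  have h2 : algebraMap R (FractionRing R) (s : R) = 0 := by
    rw [Algebra.algebraMap_eq_smul_one]; exact h1.symm
  have h3 : (s : R) = 0 := (IsFractionRing.injective R (FractionRing R)) (by rw [h2, map_zero])
  exact nonZeroDivisors.coe_ne_zero s h3

theorem mem_smul_top_of_tmul_eq_zero {R : Type u} [CommRing R] {S : Type u} [CommRing S] [Algebra R S]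
    {M : Type u} [AddCommGroup M] [Module R M] (J : Ideal S)
    (hF : FlatMod (RingHom.ker (algebraMap R (S ⧸ J))) M) (n : M)
    (hn : (1 : S) ⊗ₜ[R] n = (0 : S ⊗[R] M)) :
    n ∈ (RingHom.ker (algebraMap R (S ⧸ J))) • (⊤ : Submodule R M) := by
  obtain ⟨φ, hφ1, hφ⟩ : ∃ φ : R ⧸ RingHom.ker (algebraMap R (S ⧸ J)) →ₗ[R] S ⧸ J,
      φ 1 = 1 ∧ Function.Injective φ := by
    refine ⟨Submodule.liftQ _ (Algebra.linearMap R (S ⧸ J))
      (fun x hx => by rw [LinearMap.mem_ker, Algebra.linearMap_apply]; exact RingHom.mem_ker.mp hx),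
      ?_, ?_⟩
    · show algebraMap R (S ⧸ J) 1 = 1
      exact map_one _
    · rw [← LinearMap.ker_eq_bot]
      refine Submodule.ker_liftQ_eq_bot _ _ _ (fun x hx => ?_)
      rw [LinearMap.mem_ker, Algebra.linearMap_apply] at hx
      exact RingHom.mem_ker.mpr hx
  have hφM := hF _ _ φ hφ (fun k hk p => quot_tors _ k hk p)
    (fun k hk p => by
      refine Eq.trans (Algebra.smul_def k p) ?_
      rw [RingHom.mem_ker.mp hk, zero_mul])
  have h2 : ((1 : S ⧸ J) ⊗ₜ[R] n) = (0 : (S ⧸ J) ⊗[R] M) := by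
    have := congrArg ((Ideal.Quotient.mkₐ R J).toLinearMap.rTensor M) hn
    rw [LinearMap.rTensor_tmul, map_zero, AlgHom.toLinearMap_apply, map_one] at this
    exact this
  have h1 : φ.rTensor M ((1 : R ⧸ RingHom.ker (algebraMap R (S ⧸ J))) ⊗ₜ[R] n) = 0 := by
    rw [LinearMap.rTensor_tmul, hφ1]
    exact h2
  have h3 : ((1 : R ⧸ RingHom.ker (algebraMap R (S ⧸ J))) ⊗ₜ[R] n) = 0 := hφM (by rw [h1, map_zero])
  have h5 := quotTensorEquivQuotSMul_mk_tmul (RingHom.ker (algebraMap R (S ⧸ J))) (1 : R) n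
  rw [map_one, one_smul] at h5
  have h6 : (Submodule.Quotient.mk n :
      M ⧸ (RingHom.ker (algebraMap R (S ⧸ J))) • (⊤ : Submodule R M)) = 0 :=
    h5.symm.trans ((congrArg (quotTensorEquivQuotSMul M _) h3).trans (map_zero _))
  exact (Submodule.Quotient.mk_eq_zero _).mp h6

theorem torsion_free_of_domain {R : Type u} [CommRing R] [IsDomain R] [IsNoetherianRing R] {S : Type u}
    [CommRing S] [IsDomain S] [Algebra R S] [Module.Finite R S]
    (hinj : Function.Injective (algebraMap R S)) {M : Type u} [AddCommGroup M] [Module R M]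
    [Module.Flat S (S ⊗[R] M)] (H : ∀ I : Ideal R, I ≠ ⊥ → FlatMod (Kc S I) M)
    (x : R) (hx : x ≠ 0) (m : M) (hm : x • m = 0) : m = 0 := by
  obtain ⟨ρ, hρ⟩ := exists_retraction R S hinj
  obtain ⟨g, hg⟩ : ∃ g, g = ρ 1 := ⟨_, rfl⟩
  have hg0 : g ≠ 0 := hg ▸ hρ
  have ha : ∀ (y : R), y ≠ 0 → ∀ n : M, (1 : S) ⊗ₜ[R] (y • n) = (0 : S ⊗[R] M) →
      (1 : S) ⊗ₜ[R] n = (0 : S ⊗[R] M) := by
    intro y hy n hn
    have hy' : algebraMap R S y ∈ nonZeroDivisors S :=
      mem_nonZeroDivisors_of_ne_zero (fun h => hy (hinj (by rw [h, map_zero])))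
    have hreg := Module.Flat.isSMulRegular_of_nonZeroDivisors (M := S ⊗[R] M) hy'
    have e1 : (algebraMap R S y) ⊗ₜ[R] n = (0 : S ⊗[R] M) := by
      rw [Algebra.algebraMap_eq_smul_one, TensorProduct.smul_tmul]; exact hn
    apply hreg
    show algebraMap R S y • ((1 : S) ⊗ₜ[R] n) = algebraMap R S y • (0 : S ⊗[R] M)
    rw [smul_zero, TensorProduct.smul_tmul', smul_eq_mul, mul_one]; exact e1
  have hb : ∀ n : M, (1 : S) ⊗ₜ[R] n = (0 : S ⊗[R] M) → g • n = 0 := by
    intro n hn
    have := congrArg (fun t => TensorProduct.lid R M (ρ.rTensor M t)) hn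
    simp only [LinearMap.rTensor_tmul, TensorProduct.lid_tmul, map_zero] at this
    rw [hg]; exact this
  have hc : ∀ n : M, (1 : S) ⊗ₜ[R] n = (0 : S ⊗[R] M) → n = 0 := by
    intro t ht
    obtain ⟨e', he'⟩ := exists_Kc_le hinj g 1
    have hne : Ideal.span {g ^ e'} ≠ ⊥ := by
      rw [Ne, Ideal.span_singleton_eq_bot]; exact pow_ne_zero _ hg0
    have h1 := mem_smul_top_of_tmul_eq_zero (Ideal.map (algebraMap R S) (Ideal.span {g ^ e'}))
      (H _ hne) t ht
    have h2 : t ∈ (Ideal.span {g ^ 1}) • (⊤ : Submodule R M) :=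
      Submodule.smul_mono_left he' h1
    rw [pow_one, Submodule.ideal_span_singleton_smul, Submodule.mem_smul_pointwise_iff_exists] at h2
    obtain ⟨m', -, hm'⟩ := h2
    have h3 : (1 : S) ⊗ₜ[R] m' = (0 : S ⊗[R] M) := ha g hg0 m' (by rw [hm']; exact ht)
    rw [← hm', hb m' h3]
  exact hc m (ha x hx m (by rw [hm, TensorProduct.tmul_zero]))

theorem flat_of_domain {R : Type u} [CommRing R] [IsDomain R] [IsNoetherianRing R] {S : Type u}
    [CommRing S] [IsDomain S] [Algebra R S] [Module.Finite R S]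
    (hinj : Function.Injective (algebraMap R S)) {M : Type u} [AddCommGroup M] [Module R M]
    [Module.Flat S (S ⊗[R] M)] (H : ∀ I : Ideal R, I ≠ ⊥ → FlatMod (Kc S I) M) :
    Module.Flat R M := by
  have htf : ∀ (x : R), x ≠ 0 → ∀ m : M, x • m = 0 → m = 0 :=
    fun x hx m hm => torsion_free_of_domain hinj H x hx m hm
  rw [Module.Flat.iff_rTensor_injective']
  intro 𝔞
  rw [injective_iff_map_eq_zero]
  intro z hz
  by_cases h𝔞 : 𝔞 = ⊥
  · subst h𝔞
    have hall : ∀ z : (⊥ : Ideal R) ⊗[R] M, z = 0 := by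
      intro z
      induction z using TensorProduct.induction_on with
      | zero => rfl
      | tmul a m =>
        have : a = 0 := Subtype.ext ((Submodule.mem_bot R).mp a.2)
        rw [this, TensorProduct.zero_tmul]
      | add x y hx hy => rw [hx, hy, add_zero]
    exact hall z
  obtain ⟨h, hh, hh0⟩ := Submodule.exists_mem_ne_zero_of_ne_bot h𝔞
  obtain ⟨μ, hμ⟩ : ∃ μ : 𝔞 ⊗[R] M →ₗ[R] M,
      ∀ z, μ z = TensorProduct.lid R M (𝔞.subtype.rTensor M z) :=
    ⟨(TensorProduct.lid R M).toLinearMap ∘ₗ (𝔞.subtype.rTensor M), fun _ => rfl⟩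
  have hμt : ∀ (a : 𝔞) (m : M), μ (a ⊗ₜ[R] m) = (a : R) • m := by
    intro a m
    rw [hμ, LinearMap.rTensor_tmul, TensorProduct.lid_tmul]; rfl
  have hi : ∀ z : 𝔞 ⊗[R] M, h • z = (⟨h, hh⟩ : 𝔞) ⊗ₜ[R] (μ z) := by
    intro z
    induction z using TensorProduct.induction_on with
    | zero => rw [smul_zero, map_zero, TensorProduct.tmul_zero]
    | tmul a m =>
      rw [hμt, ← TensorProduct.smul_tmul, TensorProduct.smul_tmul']
      congr 1
      exact Subtype.ext (mul_comm _ _)
    | add x y hx hy => rw [smul_add, map_add, TensorProduct.tmul_add, hx, hy]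
  have hμz : μ z = 0 := by rw [hμ, hz, map_zero]
  obtain ⟨k, hk⟩ := Ideal.exists_pow_inf_eq_pow_smul (Ideal.span {h}) (𝔞 : Submodule R R)
  have hAR : ∀ r ∈ 𝔞, r ∈ Ideal.span {h ^ (k + 1)} → ∃ a' ∈ 𝔞, h * a' = r := by
    intro r hr hr2
    have h1 : r ∈ (Ideal.span {h}) ^ (k + 1) • (⊤ : Submodule R R) ⊓ (𝔞 : Submodule R R) := by
      refine ⟨?_, hr⟩
      rw [Ideal.span_singleton_pow, Ideal.smul_eq_mul, Ideal.mul_top]
      exact hr2
    rw [hk (k + 1) (Nat.le_add_right k 1), Nat.add_sub_cancel_left, pow_one] at h1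
    have h2 : r ∈ Ideal.span {h} • (𝔞 : Submodule R R) :=
      Submodule.smul_mono le_rfl inf_le_right h1
    exact Ideal.mem_span_singleton_mul.mp h2
  obtain ⟨e', he'⟩ := exists_Kc_le (S := S) hinj h (k + 1)
  have hne : Ideal.span {h ^ e'} ≠ ⊥ := by
    rw [Ne, Ideal.span_singleton_eq_bot]; exact pow_ne_zero _ hh0
  have hF := H _ hne
  obtain ⟨ψ, hψ⟩ : ∃ ψ : 𝔞 →ₗ[R] (R ⧸ Ideal.span {h ^ (k + 1)}),
      ψ = (Submodule.mkQ (Ideal.span {h ^ (k + 1)})) ∘ₗ 𝔞.subtype := ⟨_, rfl⟩
  have hfac : (LinearMap.range ψ).subtype ∘ₗ ψ.rangeRestrict = ψ := LinearMap.ext fun _ => rfl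
  have h1 : ((LinearMap.range ψ).subtype).rTensor M (ψ.rangeRestrict.rTensor M z) = 0 := by
    rw [← LinearMap.rTensor_comp_apply, hfac, hψ, LinearMap.rTensor_comp_apply, hz, map_zero]
  have h2 : Function.Injective ((LinearMap.range ψ).subtype.rTensor M) :=
    hF _ _ _ (Submodule.injective_subtype _)
      (fun k' hk' p => Subtype.ext (quot_tors _ k' (he' hk') p.1))
      (fun k' hk' p => quot_tors _ k' (he' hk') p)
  have h3 : ψ.rangeRestrict.rTensor M z = 0 := h2 (by rw [h1, map_zero])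
  have hex := rTensor_exact M (LinearMap.exact_subtype_ker_map ψ.rangeRestrict)
    (LinearMap.surjective_rangeRestrict ψ)
  obtain ⟨w, hw⟩ := (hex z).mp h3
  have hmem : ∀ x : LinearMap.ker ψ.rangeRestrict, ((x : 𝔞) : R) ∈ Ideal.span {h ^ (k + 1)} := by
    intro x
    have hx : ψ.rangeRestrict x.1 = 0 := x.2
    have hx2 : ψ x.1 = 0 := congrArg Subtype.val hx
    have hx3 : (Submodule.mkQ (Ideal.span {h ^ (k + 1)}) ∘ₗ 𝔞.subtype) x.1 = 0 :=
      (LinearMap.congr_fun hψ x.1).symm.trans hx2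
    exact (Submodule.Quotient.mk_eq_zero _).mp hx3
  have hv : ∀ w : (LinearMap.ker ψ.rangeRestrict) ⊗[R] M, ∃ z₁ : 𝔞 ⊗[R] M,
      (LinearMap.ker ψ.rangeRestrict).subtype.rTensor M w = h • z₁ := by
    intro w
    induction w using TensorProduct.induction_on with
    | zero => exact ⟨0, by rw [map_zero, smul_zero]⟩
    | tmul x m =>
      obtain ⟨a', ha', hxa⟩ := hAR _ x.1.2 (hmem x)
      refine ⟨(⟨a', ha'⟩ : 𝔞) ⊗ₜ[R] m, ?_⟩
      rw [LinearMap.rTensor_tmul, TensorProduct.smul_tmul']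
      congr 1
      exact Subtype.ext hxa.symm
    | add x y hx hy =>
      obtain ⟨z₁, hz₁⟩ := hx
      obtain ⟨z₂, hz₂⟩ := hy
      exact ⟨z₁ + z₂, by rw [map_add, hz₁, hz₂, smul_add]⟩
  obtain ⟨z₁, hz₁⟩ := hv w
  have hz' : z = h • z₁ := by rw [← hw, hz₁]
  have hμz₁ : μ z₁ = 0 := by
    have : h • μ z₁ = 0 := by rw [← map_smul, ← hz', hμz]
    exact htf h hh0 _ this
  rw [hz', hi z₁, hμz₁, TensorProduct.tmul_zero]

theorem step (R : Type u) [CommRing R] [IsNoetherianRing R] (S : Type u) [CommRing S] [Algebra R S]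
    [Module.Finite R S] (hinj : Function.Injective (algebraMap R S)) (M : Type u) [AddCommGroup M]
    [Module R M] [Module.Flat S (S ⊗[R] M)]
    (H : ∀ I : Ideal R, I ≠ ⊥ → FlatMod (Kc S I) M) : Module.Flat R M := by
  by_cases hzd : ∃ a b : R, a ≠ 0 ∧ b ≠ 0 ∧ a * b = 0
  · obtain ⟨a, b, ha, hb, hab⟩ := hzd
    exact flat_of_zero_divisors hinj H a b ha hb hab
  · by_cases hR : Subsingleton R
    · haveI := hR
      haveI : Subsingleton M := Module.subsingleton R M
      infer_instance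
    · haveI : Nontrivial R := not_subsingleton_iff_nontrivial.mp hR
      haveI : NoZeroDivisors R := ⟨fun {a b} hab => by
        by_contra hcon
        rw [not_or] at hcon
        exact hzd ⟨a, b, hcon.1, hcon.2, hab⟩⟩
      haveI : IsDomain R := NoZeroDivisors.to_isDomain R
      haveI : Algebra.IsIntegral R S := Algebra.IsIntegral.of_finite R S
      obtain ⟨q, -, hq, hqc⟩ := Ideal.exists_ideal_over_prime_of_isIntegral (⊥ : Ideal R) (⊥ : Ideal S)
        (fun x hx => by
          rw [Ideal.mem_comap, Ideal.mem_bot] at hx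
          rw [Ideal.mem_bot]
          exact hinj (by rw [hx, map_zero]))
      haveI := hq
      have hinj₁ : Function.Injective (algebraMap R (S ⧸ q)) := by
        rw [injective_iff_map_eq_zero]
        intro x hx
        rw [IsScalarTower.algebraMap_apply R S (S ⧸ q), Ideal.Quotient.algebraMap_eq,
          Ideal.Quotient.eq_zero_iff_mem] at hx
        have : x ∈ q.comap (algebraMap R S) := hx
        rw [hqc] at this
        exact Ideal.mem_bot.mp this
      haveI : Module.Flat (S ⧸ q) ((S ⧸ q) ⊗[R] M) := flat_bc (R := R) (S := S) (S ⧸ q) M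
      refine flat_of_domain hinj₁ (fun I hI => (H I hI).mono ?_)
      intro x hx
      rw [mem_Kc] at hx ⊢
      rw [IsScalarTower.algebraMap_eq R S (S ⧸ q), ← Ideal.map_map]
      exact Ideal.mem_map_of_mem _ hx

theorem main_ind (R : Type u) [CommRing R] [IsNoetherianRing R] (K : Ideal R) :
    ∀ (R' : Type u) [CommRing R'] (φ : R →+* R'), Function.Surjective φ → RingHom.ker φ = K →
    ∀ (S : Type u) [CommRing S] [Algebra R' S] [Module.Finite R' S],
      Function.Injective (algebraMap R' S) →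
    ∀ (M' : Type u) [AddCommGroup M'] [Module R' M'], Module.Flat S (S ⊗[R'] M') →
      Module.Flat R' M' := by
  refine IsNoetherian.induction (P := fun K : Submodule R R =>
    ∀ (R' : Type u) [CommRing R'] (φ : R →+* R'), Function.Surjective φ → RingHom.ker φ = K →
    ∀ (S : Type u) [CommRing S] [Algebra R' S] [Module.Finite R' S],
      Function.Injective (algebraMap R' S) →
    ∀ (M' : Type u) [AddCommGroup M'] [Module R' M'], Module.Flat S (S ⊗[R'] M') →
      Module.Flat R' M') ?_ K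
  intro K IH R' _ φ hφ hker S _ _ _ hinj M' _ _ hflat
  haveI : IsNoetherianRing R' := isNoetherianRing_of_surjective R R' φ hφ
  haveI := hflat
  refine step R' S hinj M' ?_
  intro I' hI'
  have hlt : K < (RingHom.ker (algebraMap R' (S ⧸ I'.map (algebraMap R' S)))).comap φ := by
    rw [SetLike.lt_iff_le_and_exists]
    refine ⟨fun x hx => ?_, ?_⟩
    · rw [← hker] at hx
      rw [Ideal.mem_comap, RingHom.mem_ker.mp hx]; exact zero_mem _
    · obtain ⟨y, hy, hy0⟩ := Submodule.exists_mem_ne_zero_of_ne_bot hI'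
      obtain ⟨x, rfl⟩ := hφ y
      refine ⟨x, le_Kc (S := S) I' hy, fun hx => hy0 ?_⟩
      rw [← hker] at hx; exact RingHom.mem_ker.mp hx
  haveI hfl1 : Module.Flat (S ⧸ I'.map (algebraMap R' S)) ((S ⧸ I'.map (algebraMap R' S)) ⊗[R'] M') :=
    flat_bc (R := R') (S := S) _ M'
  show FlatMod (RingHom.ker (algebraMap R' (S ⧸ I'.map (algebraMap R' S)))) M'
  generalize I'.map (algebraMap R' S) = J at hlt hfl1 ⊢
  letI : Algebra (R' ⧸ RingHom.ker (algebraMap R' (S ⧸ J))) (S ⧸ J) :=
    (RingHom.kerLift (algebraMap R' (S ⧸ J))).toAlgebra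
  haveI : IsScalarTower R' (R' ⧸ RingHom.ker (algebraMap R' (S ⧸ J))) (S ⧸ J) :=
    IsScalarTower.of_algebraMap_eq (fun x => rfl)
  haveI : Module.Finite (R' ⧸ RingHom.ker (algebraMap R' (S ⧸ J))) (S ⧸ J) :=
    Module.Finite.of_restrictScalars_finite R' _ _
  haveI : Module.Flat (S ⧸ J) ((S ⧸ J) ⊗[R' ⧸ RingHom.ker (algebraMap R' (S ⧸ J))]
      ((R' ⧸ RingHom.ker (algebraMap R' (S ⧸ J))) ⊗[R'] M')) :=
    Module.Flat.of_linearEquiv (AlgebraTensorModule.cancelBaseChange R'
      (R' ⧸ RingHom.ker (algebraMap R' (S ⧸ J))) (S ⧸ J) (S ⧸ J) M')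
  haveI : Module.Flat (R' ⧸ RingHom.ker (algebraMap R' (S ⧸ J)))
      ((R' ⧸ RingHom.ker (algebraMap R' (S ⧸ J))) ⊗[R'] M') :=
    IH _ hlt (R' ⧸ RingHom.ker (algebraMap R' (S ⧸ J)))
      ((Ideal.Quotient.mk (RingHom.ker (algebraMap R' (S ⧸ J)))).comp φ)
      (Ideal.Quotient.mk_surjective.comp hφ)
      (by rw [← RingHom.comap_ker, Ideal.mk_ker]) (S ⧸ J)
      (RingHom.kerLift_injective _) _ inferInstance
  exact flatMod_of_flat_quot (RingHom.ker (algebraMap R' (S ⧸ J))) M'


/-- For an injective ring map `R → S` between Noetherian rings making `S` a finite `R`-module, and an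
`R`-module `M`, flatness of `S ⊗_R M` over `S` implies flatness of `M` over `R`. -/
theorem result (R S : Type u) [CommRing R] [IsNoetherianRing R]
    [CommRing S] [IsNoetherianRing S] [Algebra R S] [Module.Finite R S] (hinj : Function.Injective (algebraMap R S))
    (M : Type u) [AddCommGroup M] [Module R M] [Module.Flat S (S ⊗[R] M)] : Module.Flat R M := by
  exact main_ind R ⊥ R (RingHom.id R) Function.surjective_id
    ((RingHom.injective_iff_ker_eq_bot (RingHom.id R)).mp Function.injective_id) S hinj M inferInstance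


end Groth.Agent.S6883
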