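import Groth.Statements.S6918
import Mathlib

set_option autoImplicit false
universe u
open FlatMor

namespace Groth.Agent.S6918

open TensorProduct

/-- flatness passes to a localization which factors through a flat module -/
theorem flat_of_factor {A B : Type*} [CommRing A] [CommRing B] [Algebra A B]
    {N L L0 : Type*} [AddCommGroup N] [Module A N] [Module B N] [IsScalarTower A B N]
    [AddCommGroup L] [Module A L] [Module B L] [IsScalarTower A B L]
    [AddCommGroup L0] [Module A L0] [Module B L0] [IsScalarTower A B L0] [Module.Flat A L0]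
    (T : Submonoid B) (g : N →ₗ[B] L) [IsLocalizedModule T g]
    (g0 : N →ₗ[B] L0) (ψ : L0 →ₗ[B] L) (hψ : ∀ n, ψ (g0 n) = g n) : Module.Flat A L := by
  classical
  apply Module.Flat.of_forall_isTrivialRelation
  intro l f x hfx
  choose d hd using fun i => IsLocalizedModule.surj T g (x i)
  set t : T := ∏ i, (d i).2 with ht
  have hti : ∀ i, ∃ c : T, t = c * (d i).2 := fun i =>
    ⟨∏ j ∈ Finset.univ.erase i, (d j).2, by
      rw [ht, mul_comm]
      exact (Finset.mul_prod_erase Finset.univ (fun j => (d j).2) (Finset.mem_univ i)).symm⟩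
  choose c hc using hti
  set n' : Fin l → N := fun i => (c i : B) • (d i).1 with hn'
  have hx : ∀ i, (t : B) • x i = g (n' i) := by
    intro i
    have h1 : ((d i).2 : B) • x i = g (d i).1 := hd i
    rw [hn']
    simp only [map_smul]
    rw [← h1, hc i, Submonoid.coe_mul, mul_smul]
  have h0 : g (∑ i, f i • n' i) = 0 := by
    rw [map_sum]
    have : ∀ i, g (f i • n' i) = (t : B) • (f i • x i) := by
      intro i
      rw [LinearMap.map_smul_of_tower, ← hx i, smul_comm]
    simp_rw [this]
    rw [← Finset.smul_sum, hfx, smul_zero]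
  obtain ⟨u, hu⟩ := (IsLocalizedModule.eq_zero_iff T g).1 h0
  have hu' : (u : B) • ∑ i, f i • n' i = 0 := hu
  have h1 : ∑ i, f i • g0 ((u : B) • n' i) = 0 := by
    have : ∀ i, f i • g0 ((u : B) • n' i) = g0 ((u : B) • (f i • n' i)) := by
      intro i
      rw [← LinearMap.map_smul_of_tower, smul_comm]
    simp_rw [this]
    rw [← map_sum, ← Finset.smul_sum, hu', map_zero]
  obtain ⟨k, a, y, hy1, hy2⟩ := Module.Flat.isTrivialRelation_of_sum_smul_eq_zero h1
  have hunit := IsLocalizedModule.map_units g (u * t)
  have hbij : Function.Bijective (fun z : L => ((u * t : T) : B) • z) := by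
    have := (Module.End.isUnit_iff _).1 hunit
    exact this
  choose y' hy' using fun j => hbij.2 (ψ (y j))
  refine ⟨k, a, y', ?_, hy2⟩
  intro i
  apply hbij.1
  show ((u * t : T) : B) • x i = ((u * t : T) : B) • ∑ j, a i j • y' j
  rw [Finset.smul_sum]
  have e1 : ((u * t : T) : B) • x i = ψ (g0 ((u : B) • n' i)) := by
    rw [hψ, map_smul, ← hx i, Submonoid.coe_mul, mul_smul]
  have hy1' : g0 ((u : B) • n' i) = ∑ j, a i j • y j := hy1 i
  rw [e1, hy1', map_sum]
  apply Finset.sum_congr rfl
  intro j _
  rw [LinearMap.map_smul_of_tower, smul_comm]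
  congr 1
  exact (hy' j).symm

theorem isScalarTower_localizedModule {R S : Type*} [CommRing R] [CommRing S] [Algebra R S]
    {M : Type*} [AddCommGroup M] [Module S M] [Module R M] [IsScalarTower R S M]
    (T : Submonoid S) : IsScalarTower R S (LocalizedModule T M) :=
  IsScalarTower.of_algebraMap_smul (fun r x => by
    induction x using LocalizedModule.induction_on with
    | h m s => rw [LocalizedModule.smul'_mk, LocalizedModule.smul'_mk, algebraMap_smul])

theorem result' {R S R' S' : Type u} [CommRing R] [CommRing S] [CommRing R'] [CommRing S']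
    [Algebra R S] [Algebra R R'] [Algebra S S'] [Algebra R' S'] [Algebra R S'] [IsScalarTower R S S']
    [IsScalarTower R R' S'] [Algebra.IsPushout R S R' S']
    (I : Ideal R) (I' : Ideal R') (hII' : I.map (algebraMap R R') ≤ I')
    {M M' : Type u} [AddCommGroup M] [Module S M] [Module R M] [IsScalarTower R S M]
    [AddCommGroup M'] [Module S' M'] [Module R' M'] [IsScalarTower R' S' M'] [Module S M'] [IsScalarTower S S' M']
    (f : M →ₗ[S] M') (hf : IsBaseChange S' f) (J : Ideal S)
    (h : (∀ (q : Ideal S) [q.IsPrime], I.map (algebraMap R S) ⊔ J ≤ q → FlatCA.FlatAt R q M)) :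
    (∀ (q : Ideal S') [q.IsPrime], I'.map (algebraMap R' S') ⊔ J.map (algebraMap S S') ≤ q → FlatCA.FlatAt R' q M') := by
  intro q' _ hq'
  set q : Ideal S := q'.comap (algebraMap S S') with hq
  haveI : q.IsPrime := Ideal.comap_isPrime _ _
  have hqle : I.map (algebraMap R S) ⊔ J ≤ q := by
    apply sup_le
    · rw [Ideal.map_le_iff_le_comap]
      intro a ha
      show algebraMap S S' (algebraMap R S a) ∈ q'
      rw [← IsScalarTower.algebraMap_apply R S S', IsScalarTower.algebraMap_apply R R' S']
      exact hq' (Ideal.mem_sup_left (Ideal.mem_map_of_mem _ (hII' (Ideal.mem_map_of_mem _ ha))))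
    · intro a ha
      exact hq' (Ideal.mem_sup_right (Ideal.mem_map_of_mem _ ha))
  have hflat : Module.Flat R (LocalizedModule q.primeCompl M) := h q hqle
  haveI := isScalarTower_localizedModule (R := R) (M := M) q.primeCompl
  haveI : Algebra.IsPushout R R' S S' := Algebra.IsPushout.symm inferInstance
  -- L0 flat over R'
  haveI hL0 : Module.Flat R' (S' ⊗[S] (LocalizedModule q.primeCompl M)) :=
    Module.Flat.of_linearEquiv
      (Algebra.IsPushout.cancelBaseChange R R' S S' (LocalizedModule q.primeCompl M))
  -- the maps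
  let g := LocalizedModule.mkLinearMap q'.primeCompl M'
  let mkq := LocalizedModule.mkLinearMap q.primeCompl M
  let g0 : M' →ₗ[S'] S' ⊗[S] (LocalizedModule q.primeCompl M) :=
    (LinearMap.baseChange S' mkq) ∘ₗ hf.equiv.symm.toLinearMap
  have hunits : ∀ x : q.primeCompl, IsUnit (algebraMap S (Module.End S
      (LocalizedModule q'.primeCompl M')) x) := by
    intro x
    rw [Module.End.isUnit_iff]
    have hx' : algebraMap S S' x ∈ q'.primeCompl := x.2
    have h1 := (Module.End.isUnit_iff _).1 (IsLocalizedModule.map_units g ⟨_, hx'⟩)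
    convert h1 using 1
    ext z
    simp only [Module.algebraMap_end_apply]
    rw [algebraMap_smul]
  let φ : LocalizedModule q.primeCompl M →ₗ[S] LocalizedModule q'.primeCompl M' :=
    IsLocalizedModule.lift q.primeCompl mkq ((g.restrictScalars S) ∘ₗ f) hunits
  let ψ : S' ⊗[S] (LocalizedModule q.primeCompl M) →ₗ[S'] LocalizedModule q'.primeCompl M' :=
    LinearMap.liftBaseChange S' φ
  have hψ : ∀ m', ψ (g0 m') = g m' := by
    have : ψ ∘ₗ g0 = g := by
      apply hf.algHom_ext
      intro m
      show ψ (LinearMap.baseChange S' mkq (hf.equiv.symm (f m))) = g (f m)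
      rw [hf.equiv_symm_apply, LinearMap.baseChange_tmul, LinearMap.liftBaseChange_tmul, one_smul]
      exact IsLocalizedModule.lift_apply q.primeCompl mkq _ hunits m
    intro m'
    exact LinearMap.congr_fun this m'
  exact flat_of_factor (A := R') (B := S') q'.primeCompl g g0 ψ hψ



/-- Let `R → S` be a ring map, `J ⊆ S` an ideal, `M` an `S`-module, `I ⊆ R` an ideal, `R → R'` a ring
map and `I' ⊇ IR'`; put `S' = S ⊗_R R'`, `M' = M ⊗_R R'`. If `M_𝔮` is flat over `R` for all primes
`𝔮 ⊇ IS + J` of `S`, then `M'_{𝔮'}` is flat over `R'` for all primes `𝔮' ⊇ I'S' + JS'` of `S'`. (The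
published statement passes from an arbitrary pair `(R', I')` over `R` to a further pair `(R'',
I'')`; this row takes the first pair to be `(R, I)`.) -/
theorem result {R S R' S' : Type u} [CommRing R] [CommRing S] [CommRing R'] [CommRing S']
    [Algebra R S] [Algebra R R'] [Algebra S S'] [Algebra R' S'] [Algebra R S'] [IsScalarTower R S S']
    [IsScalarTower R R' S'] [Algebra.IsPushout R S R' S']
    (I : Ideal R) (I' : Ideal R') (hII' : I.map (algebraMap R R') ≤ I')
    {M M' : Type u} [AddCommGroup M] [Module S M] [Module R M] [IsScalarTower R S M]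
    [AddCommGroup M'] [Module S' M'] [Module R' M'] [IsScalarTower R' S' M'] [Module S M'] [IsScalarTower S S' M']
    (f : M →ₗ[S] M') (hf : IsBaseChange S' f) (J : Ideal S)
    (h : (∀ (q : Ideal S) [q.IsPrime], I.map (algebraMap R S) ⊔ J ≤ q → FlatCA.FlatAt R q M)) :
    (∀ (q : Ideal S') [q.IsPrime], I'.map (algebraMap R' S') ⊔ J.map (algebraMap S S') ≤ q → FlatCA.FlatAt R' q M') := by
  exact Groth.Agent.S6918.result' I I' hII' f hf J h

end Groth.Agent.S6918
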