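import Groth.Statements.S4852
import Mathlib
import Groth.Agent.Lib.Helper19.NilpFlat

set_option autoImplicit false
universe u
open TensorProduct
open EGA43

namespace Groth.Agent.S4852

open Function Groth.Agent.Lib.Helper19.NilpFlat Groth.Agent.Lib.helper8.LocalFlat
section
variable {A : Type u} [CommRing A] [Finite (MaximalSpectrum A)]

/-- (a1) the "almost idempotent" element -/
theorem exists_killer {N : ℕ} (hN : (Ring.jacobson A) ^ N = 0) (P : Ideal A) [hP : P.IsMaximal] :
    ∃ t : A, t ∉ P ∧ ∀ z ∈ P ^ N, t * z = 0 := by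
  classical
  have hfin : {I : Ideal A | I.IsMaximal}.Finite := by
    have : {I : Ideal A | I.IsMaximal} = Set.range MaximalSpectrum.asIdeal := by
      ext I
      constructor
      · intro h; exact ⟨⟨I, h⟩, rfl⟩
      · rintro ⟨m, rfl⟩; exact m.isMaximal
    rw [this]
    exact Set.finite_range _
  set s : Finset (Ideal A) := hfin.toFinset.erase P with hs
  have hnot : ¬ (s.inf id ≤ P) := by
    rw [Ideal.IsPrime.inf_le' hP.isPrime]
    rintro ⟨I, hI, hIP⟩
    rw [hs, Finset.mem_erase, Set.Finite.mem_toFinset] at hI
    exact hI.1 (hI.2.eq_of_le hP.ne_top hIP)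
  obtain ⟨b, hb, hbP⟩ := Set.not_subset.mp hnot
  have hJ : s.inf id * P ≤ Ring.jacobson A := by
    rw [Ring.jacobson_eq_sInf_isMaximal]
    refine le_sInf fun I hI => ?_
    by_cases hIP : I = P
    · rw [hIP]; exact Ideal.mul_le_right (I := s.inf id) (J := P)
    · have : I ∈ s := by
        rw [hs, Finset.mem_erase, Set.Finite.mem_toFinset]
        exact ⟨hIP, hI⟩
      exact (Ideal.mul_le_left (I := s.inf id) (J := P)).trans (Finset.inf_le (f := id) this)
  refine ⟨b ^ N, fun h => hbP (hP.isPrime.mem_of_pow_mem N h), fun z hz => ?_⟩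
  have h1 : b ^ N * z ∈ (s.inf id * P) ^ N := by
    rw [mul_pow]
    exact Ideal.mul_mem_mul (Ideal.pow_mem_pow hb N) hz
  have h2 := Ideal.pow_right_mono hJ N h1
  rw [hN] at h2
  exact h2


theorem isNilpotent_maximalIdeal_localization {N : ℕ} (hN : (Ring.jacobson A) ^ N = 0)
    (P : Ideal A) [hP : P.IsMaximal] :
    IsNilpotent (IsLocalRing.maximalIdeal (Localization.AtPrime P)) := by
  obtain ⟨t, htP, ht⟩ := exists_killer hN P
  refine ⟨N, ?_⟩
  rw [← Localization.AtPrime.map_eq_maximalIdeal, ← Ideal.map_pow, Ideal.zero_eq_bot,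
    Ideal.map_eq_bot_iff_le_ker]
  intro z hz
  rw [RingHom.mem_ker, IsLocalization.map_eq_zero_iff P.primeCompl]
  exact ⟨⟨t, htP⟩, ht z hz⟩

theorem eq_zero_of_forall_map_eq_zero {N : ℕ} (hN : (Ring.jacobson A) ^ N = 0)
    (P : Ideal A) [hP : P.IsMaximal] {ι : Type*} (B : ι → Type u) [∀ i, CommRing (B i)]
    [∀ i, Algebra A (B i)] (hB : ∀ a : A, (∀ i, algebraMap A (B i) a = 0) → a = 0)
    (r : Localization.AtPrime P)
    (hr : ∀ i, algebraMap (Localization.AtPrime P)
      (Localization (Algebra.algebraMapSubmonoid (B i) P.primeCompl)) r = 0) : r = 0 := by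
  obtain ⟨t, htP, ht⟩ := exists_killer hN P
  obtain ⟨x, s, rfl⟩ := IsLocalization.exists_mk'_eq P.primeCompl r
  have h1 : ∀ i, ∃ ti : A, ti ∉ P ∧ algebraMap A (B i) (ti * x) = 0 := by
    intro i
    have h2 := hr i
    have h3 : algebraMap (Localization.AtPrime P)
        (Localization (Algebra.algebraMapSubmonoid (B i) P.primeCompl))
        (algebraMap A (Localization.AtPrime P) x) = 0 := by
      rw [← IsLocalization.mk'_spec (Localization.AtPrime P) x s, map_mul, h2, zero_mul]
    rw [← IsScalarTower.algebraMap_apply, IsScalarTower.algebraMap_apply A (B i),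
      IsLocalization.map_eq_zero_iff (Algebra.algebraMapSubmonoid (B i) P.primeCompl)] at h3
    obtain ⟨⟨_, ti, hti, rfl⟩, h4⟩ := h3
    exact ⟨ti, hti, by rw [map_mul]; exact h4⟩
  have h5 : t * x = 0 := by
    apply hB
    intro i
    obtain ⟨ti, hti, h6⟩ := h1 i
    -- 1 = p + a * ti with p ∈ P ^ N
    have hcop : P ^ N ⊔ Ideal.span {ti} = ⊤ := by
      apply Ideal.pow_sup_eq_top
      by_contra hne
      have h8 : P ⊔ Ideal.span {ti} = P := hP.eq_of_le hne le_sup_left |>.symm
      apply hti
      rw [← h8]
      exact Ideal.mem_sup_right (Ideal.mem_span_singleton_self ti)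
    have h1' : (1 : A) ∈ P ^ N ⊔ Ideal.span {ti} := by rw [hcop]; trivial
    obtain ⟨p, hp, q, hq, hpq⟩ := Submodule.mem_sup.mp h1'
    obtain ⟨a, rfl⟩ := Ideal.mem_span_singleton'.mp hq
    have h9 : t * x = (a * t) * (ti * x) := by
      have : t * x = t * x * 1 := (mul_one _).symm
      rw [this, ← hpq, mul_add]
      have h10 : t * p = 0 := ht p hp
      calc t * x * p + t * x * (a * ti) = x * (t * p) + t * x * (a * ti) := by ring
        _ = a * t * (ti * x) := by rw [h10]; ring
    rw [h9, map_mul, h6, mul_zero]
  rw [IsLocalization.mk'_eq_zero_iff]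
  exact ⟨⟨t, htP⟩, h5⟩

end

section
variable {A : Type u} [CommRing A] (P : Ideal A) [P.IsPrime] (B : Type u) [CommRing B] [Algebra A B]
  (M : Type u) [AddCommGroup M] [Module A M]

/-- (b) flatness after localizing both. -/
theorem flat_localized [Module.Flat B (B ⊗[A] M)] :
    Module.Flat (Localization (Algebra.algebraMapSubmonoid B P.primeCompl))
      ((Localization (Algebra.algebraMapSubmonoid B P.primeCompl)) ⊗[Localization.AtPrime P]
        (LocalizedModule P.primeCompl M)) := by
  let e1 : Localization.AtPrime P ⊗[A] M ≃ₗ[Localization.AtPrime P] LocalizedModule P.primeCompl M :=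
    (IsLocalizedModule.isBaseChange P.primeCompl (Localization.AtPrime P)
      (LocalizedModule.mkLinearMap P.primeCompl M)).equiv
  let e0 := AlgebraTensorModule.congr
    (LinearEquiv.refl (Localization (Algebra.algebraMapSubmonoid B P.primeCompl))
      (Localization (Algebra.algebraMapSubmonoid B P.primeCompl))) e1
  let e2 := AlgebraTensorModule.cancelBaseChange A (Localization.AtPrime P)
    (Localization (Algebra.algebraMapSubmonoid B P.primeCompl))
    (Localization (Algebra.algebraMapSubmonoid B P.primeCompl)) M
  let e3 := AlgebraTensorModule.cancelBaseChange A B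
    (Localization (Algebra.algebraMapSubmonoid B P.primeCompl))
    (Localization (Algebra.algebraMapSubmonoid B P.primeCompl)) M
  exact Module.Flat.of_linearEquiv (e0.symm ≪≫ₗ e2 ≪≫ₗ e3.symm)

end





/-- Let A be a semi-local ring (finitely many maximal ideals) whose Jacobson radical is nilpotent, for
instance an Artinian ring, and let (u_i : A → B_i) be a family of ring homomorphisms whose kernels
have zero intersection. Then an A-module M is flat if and only if, for every i, the B_i-module B_i
⊗_A M is flat. -/
theorem result {A : Type u} [CommRing A]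
    [Finite (MaximalSpectrum A)] (hnil : IsNilpotent (Ring.jacobson A))
    {ι : Type u} (B : ι → Type u) [∀ i, CommRing (B i)] [∀ i, Algebra A (B i)]
    (hB : ∀ a : A, (∀ i, algebraMap A (B i) a = 0) → a = 0)
    (M : Type u) [AddCommGroup M] [Module A M] :
    Module.Flat A M ↔ ∀ i, Module.Flat (B i) (B i ⊗[A] M) := by
  constructor
  · intro h i; infer_instance
  · intro h
    obtain ⟨N, hN⟩ := hnil
    apply Module.flat_of_localized_maximal
    intro P hP
    have hJ := isNilpotent_maximalIdeal_localization hN P
    have hfree : Module.Free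
        (Localization.AtPrime P ⧸ IsLocalRing.maximalIdeal (Localization.AtPrime P))
        ((Localization.AtPrime P ⧸ IsLocalRing.maximalIdeal (Localization.AtPrime P))
          ⊗[Localization.AtPrime P] (LocalizedModule P.primeCompl M)) := by
      letI : Field (Localization.AtPrime P ⧸ IsLocalRing.maximalIdeal (Localization.AtPrime P)) :=
        Ideal.Quotient.field _
      infer_instance
    obtain ⟨I, ψ, hψ⟩ := exists_free_lift (IsLocalRing.maximalIdeal (Localization.AtPrime P)) hfree
    have hs : Surjective ψ := surjective_of_lTensor_quot_surjective _ hJ ψ (by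
      have := hψ.2
      rwa [LinearMap.baseChange_eq_ltensor] at this)
    have hinj : Injective ψ := by
      rw [injective_iff_map_eq_zero]
      intro x hx
      ext i0
      apply eq_zero_of_forall_map_eq_zero hN P B hB
      intro i
      haveI := h i
      haveI := flat_localized P (B i) M
      have h1 := coord_eq_zero_of_injective ψ
        (Localization (Algebra.algebraMapSubmonoid (B i) P.primeCompl))
        (baseChange_injective_of_flat (IsLocalRing.maximalIdeal (Localization.AtPrime P)) hJ ψ hψ hs
          (Localization (Algebra.algebraMapSubmonoid (B i) P.primeCompl)))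
      have h2 : algebraMap (Localization.AtPrime P)
          (Localization (Algebra.algebraMapSubmonoid (B i) P.primeCompl)) (x i0) ∈
          (coordIdeal ψ).map (algebraMap (Localization.AtPrime P)
            (Localization (Algebra.algebraMapSubmonoid (B i) P.primeCompl))) :=
        Ideal.mem_map_of_mem _ (Ideal.subset_span ⟨x, hx, i0, rfl⟩)
      rw [h1] at h2
      exact h2
    haveI : Module.Free (Localization.AtPrime P) (LocalizedModule P.primeCompl M) :=
      Module.Free.of_equiv (LinearEquiv.ofBijective ψ ⟨hinj, hs⟩)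
    exact Module.Flat.trans A (Localization.AtPrime P) (LocalizedModule P.primeCompl M)

end Groth.Agent.S4852
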