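import Groth.Statements.S3291
import Mathlib.Tactic

set_option autoImplicit false
universe u
open Finset
open LambdaRing

namespace Groth.Agent.S3291

theorem gamma_one {K : Type u} [CommRing K] [LambdaRing.LambdaOps K] (x : K) :
    LambdaRing.gamma 1 x = x := by
  simp [LambdaRing.gamma, Finset.sum_range_succ, LambdaRing.LambdaOps.lam_one]

theorem smul_mem_filtration {K : Type u} [CommRing K] [LambdaRing.LambdaOps K]
    (P : LambdaRing.PosStructure K) (n : ℕ) (a x : K) (hx : x ∈ LambdaRing.gammaFiltration P n) :
    a * x ∈ LambdaRing.gammaFiltration P n := by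
  unfold LambdaRing.gammaFiltration at hx ⊢
  split_ifs at hx ⊢ with hn
  · trivial
  · induction hx using AddSubgroup.closure_induction with
    | mem x hx =>
      obtain ⟨l, hl, hsum, rfl⟩ := hx
      have haug : P.aug (a - ((P.aug a : ℤ) : K)) = 0 := by
        rw [map_sub, map_intCast]; simp
      have h1 : (a - ((P.aug a : ℤ) : K)) * (l.map fun p => LambdaRing.gamma p.1 p.2).prod ∈
          AddSubgroup.closure {y | ∃ (l : List (ℕ × K)), (∀ p ∈ l, P.aug p.2 = 0) ∧
            n ≤ (l.map Prod.fst).sum ∧ y = (l.map fun p => LambdaRing.gamma p.1 p.2).prod} := by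
        apply AddSubgroup.subset_closure
        refine ⟨(1, a - ((P.aug a : ℤ) : K)) :: l, ?_, ?_, ?_⟩
        · intro p hp
          rcases List.mem_cons.mp hp with rfl | hp
          · exact haug
          · exact hl p hp
        · simp only [List.map_cons, List.sum_cons]; omega
        · simp only [List.map_cons, List.prod_cons, gamma_one]
      have h2 : (P.aug a) • (l.map fun p => LambdaRing.gamma p.1 p.2).prod ∈
          AddSubgroup.closure {y | ∃ (l : List (ℕ × K)), (∀ p ∈ l, P.aug p.2 = 0) ∧
            n ≤ (l.map Prod.fst).sum ∧ y = (l.map fun p => LambdaRing.gamma p.1 p.2).prod} :=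
        AddSubgroup.zsmul_mem _ (AddSubgroup.subset_closure (show _ ∈ {y | ∃ (l : List (ℕ × K)),
          (∀ p ∈ l, P.aug p.2 = 0) ∧ n ≤ (l.map Prod.fst).sum ∧
            y = (l.map fun p => LambdaRing.gamma p.1 p.2).prod} from ⟨l, hl, hsum, rfl⟩)) _
      have h3 : a * (l.map fun p => LambdaRing.gamma p.1 p.2).prod =
          (a - ((P.aug a : ℤ) : K)) * (l.map fun p => LambdaRing.gamma p.1 p.2).prod +
            (P.aug a) • (l.map fun p => LambdaRing.gamma p.1 p.2).prod := by
        rw [zsmul_eq_mul]; ring
      rw [h3]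
      exact add_mem h1 h2
    | zero => rw [mul_zero]; exact zero_mem _
    | add x y _ _ hx hy => rw [mul_add]; exact add_mem hx hy
    | neg x _ hx => rw [mul_neg]; exact neg_mem hx

/-- The γ-filtration F^n K of a λ-ring with positive structure (F^0 = K, F^n for n ≥ 1 generated
additively by products γ^(r₁)(x₁)⋯γ^(r_k)(x_k) with ε(x_i) = 0 and Σ r_i ≥ n) consists of ideals,
and F^m · F^n ⊆ F^(m+n). -/
theorem result (K : Type u) [CommRing K] [LambdaRing.LambdaOps K] (P : LambdaRing.PosStructure K) :
    (∀ (n : ℕ) (a x : K), x ∈ LambdaRing.gammaFiltration P n → a * x ∈ LambdaRing.gammaFiltration P n) ∧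
    ∀ (m n : ℕ) (x y : K), x ∈ LambdaRing.gammaFiltration P m → y ∈ LambdaRing.gammaFiltration P n →
      x * y ∈ LambdaRing.gammaFiltration P (m + n) := by
  refine ⟨fun n a x hx => smul_mem_filtration P n a x hx, ?_⟩
  intro m n x y hx hy
  by_cases hm : m = 0
  · subst hm
    rw [zero_add]
    exact smul_mem_filtration P n x y hy
  by_cases hn : n = 0
  · subst hn
    rw [add_zero, mul_comm]
    exact smul_mem_filtration P m y x hx
  have hmn : m + n ≠ 0 := by omega
  unfold LambdaRing.gammaFiltration at hx hy ⊢
  rw [if_neg hm] at hx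
  rw [if_neg hn] at hy
  rw [if_neg hmn]
  induction hx using AddSubgroup.closure_induction with
  | mem x hx =>
    obtain ⟨l₁, hl₁, hs₁, rfl⟩ := hx
    induction hy using AddSubgroup.closure_induction with
    | mem y hy =>
      obtain ⟨l₂, hl₂, hs₂, rfl⟩ := hy
      apply AddSubgroup.subset_closure
      refine ⟨l₁ ++ l₂, ?_, ?_, ?_⟩
      · intro p hp
        rcases List.mem_append.mp hp with hp | hp
        · exact hl₁ p hp
        · exact hl₂ p hp
      · simp only [List.map_append, List.sum_append]; omega
      · simp only [List.map_append, List.prod_append]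
    | zero => rw [mul_zero]; exact zero_mem _
    | add y z _ _ hy hz => rw [mul_add]; exact add_mem hy hz
    | neg y _ hy => rw [mul_neg]; exact neg_mem hy
  | zero => rw [zero_mul]; exact zero_mem _
  | add x z _ _ hx hz => rw [add_mul]; exact add_mem hx hz
  | neg x _ hx => rw [neg_mul]; exact neg_mem hx

end Groth.Agent.S3291
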