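import Groth.Statements.S8651
import Groth.Agent.Lib.Helper18.LambdaOne
import Mathlib

set_option autoImplicit false
universe u
open Finset
open LambdaRing

namespace Groth.Agent.S8651

open PowerSeries LambdaRing Finset
open Groth.Agent.Lib.helper18

variable {A : Type u} [CommRing A]

theorem uS_mul_one_sub : Groth.Agent.S3289.uS A * (1 - X) = X := by
  have h := (invOneSubPow A 1).val_inv
  rw [invOneSubPow_inv_eq_one_sub_pow, pow_one] at h
  rw [Groth.Agent.S3289.uS, mul_assoc, h, mul_one]

theorem coeff_prod_one_add (n : ℕ) (a : Fin n → A) (k : ℕ) :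
    coeff k (∏ i : Fin n, (1 + C (a i) * X)) =
      ∑ s ∈ (univ : Finset (Fin n)).powersetCard k, ∏ i ∈ s, a i := by
  classical
  have h : ∀ i : Fin n, (1 + C (a i) * X : A⟦X⟧) = C (a i) * X + 1 := fun i => add_comm _ _
  simp only [h]
  rw [Finset.prod_add, map_sum, Finset.powersetCard_eq_filter, Finset.sum_filter]
  apply Finset.sum_congr rfl
  intro t _
  rw [Finset.prod_const_one, mul_one, Finset.prod_mul_distrib, Finset.prod_const, ← map_prod,
    coeff_C_mul, coeff_X_pow]
  split_ifs with h1 h2 h2
  · rw [mul_one]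
  · exact absurd h1.symm h2
  · exact absurd h2.symm h1
  · rw [mul_zero]

variable [LambdaRing.LambdaOps A]

theorem lamSeries_zero : lamSeries (0 : A) = 1 := by
  have h := lamSeries_add (0 : A) 0
  rw [add_zero] at h
  have hu : IsUnit (lamSeries (0 : A)) := by
    rw [isUnit_iff_constantCoeff, ← coeff_zero_eq_constantCoeff_apply, coeff_lamSeries,
      LambdaOps.lam_zero]
    exact isUnit_one
  have h2 : lamSeries (0 : A) * 1 = lamSeries (0 : A) * lamSeries (0 : A) := by
    rw [mul_one]; exact h
  exact (hu.mul_left_cancel h2).symm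

theorem lamSeries_sum {ι : Type*} (s : Finset ι) (y : ι → A) :
    lamSeries (∑ i ∈ s, y i) = ∏ i ∈ s, lamSeries (y i) := by
  classical
  induction s using Finset.induction_on with
  | empty => simp [lamSeries_zero]
  | insert j s hj ih => rw [Finset.sum_insert hj, Finset.prod_insert hj, lamSeries_add, ih]

theorem lamSeries_of_line (y : A) (hy : ∀ j : ℕ, 2 ≤ j → LambdaOps.lam j y = 0) :
    lamSeries y = 1 + C y * X := by
  ext k
  rw [coeff_lamSeries, map_add, coeff_one, coeff_C_mul, coeff_X]
  rcases Nat.lt_or_ge k 2 with hk | hk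
  · interval_cases k
    · simp [LambdaOps.lam_zero]
    · simp [LambdaOps.lam_one]
  · rw [hy k hk, if_neg (by omega), if_neg (by omega), mul_zero, add_zero]

/-- Let A be a pre-λ-ring (λ^0 = 1, λ^1 = id, additive formula) in which λ^k(1) = 0 for all k ≥ 2, and
let y_1, …, y_n ∈ A satisfy λ^j(y_i) = 0 for every j ≥ 2; put x = Σ_i y_i. Then for every k the
element γ^k(x − n) (γ-operations: the coefficients of λ_{t/(1−t)}) equals the k-th elementary
symmetric function of y_1 − 1, …, y_n − 1, namely the sum over the k-element subsets s of the index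
set of Π_{i ∈ s} (y_i − 1); in particular γ^k(x − n) = 0 for k > n. (The published statement is for
a λ-ring; its proof uses only additivity and λ_t(1) = 1 + t, the hypotheses taken here.) -/
theorem result (A : Type u) [CommRing A] [LambdaRing.LambdaOps A]
    (h1 : ∀ k : ℕ, 2 ≤ k → LambdaRing.LambdaOps.lam k (1 : A) = 0) (n : ℕ) (y : Fin n → A)
    (hy : ∀ (i : Fin n) (j : ℕ), 2 ≤ j → LambdaRing.LambdaOps.lam j (y i) = 0) (k : ℕ) :
    LambdaRing.gamma k (∑ i : Fin n, y i - (n : A)) =
      ∑ s ∈ (univ : Finset (Fin n)).powersetCard k, ∏ i ∈ s, (y i - 1) := by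
  set z := ∑ i : Fin n, y i - (n : A) with hz
  have hu := Groth.Agent.S3289.hasSubst_uS (K := A)
  set u := Groth.Agent.S3289.uS A with hudef
  have e1 : lamSeries z * (1 + X) ^ n = ∏ i : Fin n, (1 + C (y i) * X) := by
    rw [← lamSeries_add_natCast h1, hz, sub_add_cancel, lamSeries_sum]
    apply Finset.prod_congr rfl
    intro i _
    exact lamSeries_of_line (y i) (hy i)
  have e2 := congrArg (substAlgHom hu) e1
  rw [map_mul, map_pow, map_add, map_one, substAlgHom_X, map_prod] at e2
  have e3 : ∀ i : Fin n, substAlgHom hu (1 + C (y i) * X : A⟦X⟧) = 1 + C (y i) * u := by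
    intro i
    rw [map_add, map_one, map_mul, substAlgHom_X]
    congr 2
    rw [coe_substAlgHom, subst_C]
    rfl
  rw [Finset.prod_congr rfl (fun i _ => e3 i)] at e2
  have e4 : (1 + u) * (1 - X) = 1 := by
    rw [add_mul, one_mul, uS_mul_one_sub]; ring
  have e5 : substAlgHom hu (lamSeries z) = ∏ i : Fin n, (1 + C (y i - 1) * X) := by
    have e7 : ∀ i : Fin n, (1 + C (y i) * u) * (1 - X) = 1 + C (y i - 1) * X := by
      intro i
      have : (1 + C (y i) * u) * (1 - X) = 1 - X + C (y i) * (u * (1 - X)) := by ring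
      rw [this, uS_mul_one_sub, map_sub, map_one]
      ring
    calc substAlgHom hu (lamSeries z)
        = substAlgHom hu (lamSeries z) * ((1 + u) * (1 - X)) ^ n := by
          rw [e4, one_pow, mul_one]
      _ = (substAlgHom hu (lamSeries z) * (1 + u) ^ n) * (1 - X) ^ n := by
          rw [mul_pow, mul_assoc]
      _ = (∏ i : Fin n, (1 + C (y i) * u)) * ∏ _i : Fin n, (1 - X : A⟦X⟧) := by
          rw [e2, Finset.prod_const, Finset.card_univ, Fintype.card_fin]
      _ = ∏ i : Fin n, ((1 + C (y i) * u) * (1 - X)) := by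
          rw [Finset.prod_mul_distrib]
      _ = ∏ i : Fin n, (1 + C (y i - 1) * X) := Finset.prod_congr rfl (fun i _ => e7 i)
  rw [Groth.Agent.S3289.gamma_eq_coeff, ← coe_substAlgHom hu, e5, coeff_prod_one_add]

end Groth.Agent.S8651
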