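import Groth.Statements.S8649
import Groth.Agent.Lib.Helper18.LambdaOne

set_option autoImplicit false
universe u
open Finset
open LambdaRing

namespace Groth.Agent.S8649

/-- Let K be a pre-λ-ring (λ^0 = 1, λ^1 = id, λ^n(x + y) = Σ λ^p(x) λ^q(y)) in which λ^k(1) = 0 for all
k ≥ 2, so that λ_t(1) = 1 + t. Then the γ-operations, defined as the coefficients of λ_{t/(1−t)}(x)
(γ^0 = 1 and γ^n(x) = Σ_{j=1}^{n} C(n−1, j−1) λ^j(x) for n ≥ 1), satisfy γ^n(x) = λ^n(x + n − 1) for
all x and n. (The published statement is for a λ-ring, where λ_t also respects products and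
composition; its proof uses only additivity and λ_t(1) = 1 + t, which are the hypotheses taken
here.) -/
theorem result (K : Type u) [CommRing K] [LambdaRing.LambdaOps K]
    (h1 : ∀ k : ℕ, 2 ≤ k → LambdaRing.LambdaOps.lam k (1 : K) = 0) (n : ℕ) (x : K) :
    LambdaRing.gamma n x = LambdaRing.LambdaOps.lam n (x + (n : K) - 1) := by
  rcases Nat.eq_zero_or_pos n with hn | hn
  · subst hn
    simp [LambdaRing.gamma, LambdaRing.LambdaOps.lam_zero]
  · obtain ⟨m, rfl⟩ : ∃ m, n = m + 1 := ⟨n - 1, by omega⟩
    have hx : x + ((m + 1 : ℕ) : K) - 1 = x + (m : K) := by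
      rw [Nat.cast_succ]; ring
    rw [hx, ← Lib.helper18.coeff_lamSeries, Lib.helper18.lamSeries_add_natCast h1,
      PowerSeries.coeff_mul,
      Finset.Nat.sum_antidiagonal_eq_sum_range_succ
        (fun i j => PowerSeries.coeff i (LambdaRing.lamSeries x) *
          PowerSeries.coeff j ((1 + PowerSeries.X : PowerSeries K) ^ m)),
      LambdaRing.gamma, if_neg (Nat.succ_ne_zero m)]
    apply Finset.sum_congr rfl
    intro j hj
    rw [Finset.mem_range] at hj
    rw [Lib.helper18.coeff_lamSeries, Lib.helper18.coeff_one_add_X_pow, Nat.add_sub_cancel]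
    rcases Nat.eq_zero_or_pos j with hj0 | hj0
    · subst hj0
      rw [if_pos rfl, mul_zero, Nat.sub_zero, Nat.choose_succ_self, Nat.cast_zero, mul_zero]
    · rw [if_neg hj0.ne', mul_comm]
      congr 2
      apply Nat.choose_symm_of_eq_add
      omega

end Groth.Agent.S8649
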