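import Groth.Statements.S8685
import Groth.Agent.Lib.Helper3.UnivPoly

set_option autoImplicit false
universe u
open LambdaRing

namespace Groth.Agent.S8685

open Groth.Agent.Lib.helper3.UnivPoly MvPolynomial

/-- For all i, j there is a polynomial Q ∈ ℤ[X_1, …, X_{ij}] such that substituting the k-th elementary
symmetric function of ij variables T for X_k yields the j-th elementary symmetric function of the
products of the T_a over the i-element subsets of the variables, and Q is isobaric of weight ij, the
variable X_k having weight k. -/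
theorem result (i j : ℕ) :
    ∃ Q : MvPolynomial (Fin (i * j)) ℤ, LambdaRing.IsCompPoly i j Q := by
  classical
  set N := i * j with hN
  set g := compGen N i j with hg
  have hg' : g = ∑ t ∈ ((Finset.univ : Finset (Fin N)).powersetCard i).powersetCard j,
      ∏ s ∈ t, ∏ a ∈ s, (X a : MvPolynomial (Fin N) ℤ) := by
    rw [hg, compGen, Finset.esymm_map_val]
  have hsym : g.IsSymmetric := by
    intro σ
    rw [hg', map_sum]
    set E := (Finset.mapEmbedding σ.toEmbedding).toEmbedding with hE
    have hP : ((Finset.univ : Finset (Fin N)).powersetCard i).map E =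
        (Finset.univ : Finset (Fin N)).powersetCard i := by
      rw [hE, ← Finset.powersetCard_map, Finset.map_univ_equiv]
    have hPP : (((Finset.univ : Finset (Fin N)).powersetCard i).powersetCard j).map
        (Finset.mapEmbedding E).toEmbedding =
        ((Finset.univ : Finset (Fin N)).powersetCard i).powersetCard j := by
      rw [← Finset.powersetCard_map, hP]
    conv_rhs => rw [← hPP, Finset.sum_map]
    refine Finset.sum_congr rfl fun t _ => ?_
    rw [map_prod]
    show _ = ∏ s ∈ t.map E, ∏ a ∈ s, (X a : MvPolynomial (Fin N) ℤ)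
    rw [Finset.prod_map]
    refine Finset.prod_congr rfl fun s _ => ?_
    rw [map_prod]
    show _ = ∏ a ∈ s.map σ.toEmbedding, (X a : MvPolynomial (Fin N) ℤ)
    rw [Finset.prod_map]
    refine Finset.prod_congr rfl fun a _ => ?_
    rw [rename_X]
    rfl
  have hhom : g.IsHomogeneous N := by
    rw [hg']
    apply IsHomogeneous.sum
    intro t ht
    rw [Finset.mem_powersetCard] at ht
    have h := IsHomogeneous.prod t (fun s => ∏ a ∈ s, (X a : MvPolynomial (Fin N) ℤ))
      (fun _ => i) (fun s hs => by
        have hs' := Finset.mem_powersetCard.mp (ht.1 hs)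
        have h2 := IsHomogeneous.prod s (fun a => (X a : MvPolynomial (Fin N) ℤ)) (fun _ => 1)
          (fun a _ => isHomogeneous_X ℤ a)
        rwa [Finset.sum_const, hs'.2, smul_eq_mul, mul_one] at h2)
    rwa [Finset.sum_const, ht.2, smul_eq_mul, mul_comm] at h
  obtain ⟨Q₀, hQ₀⟩ := esymmAlgHom_fin_surjective ℤ (le_refl N) ⟨g, hsym⟩
  have hQ₀' : aeval (fun k : Fin N => esymm (Fin N) ℤ (k + 1)) Q₀ = g := by
    rw [← esymmAlgHom_apply, hQ₀]
  refine ⟨weightedHomogeneousComponent (fun k : Fin N => (k : ℕ) + 1) N Q₀, ?_,
    weightedHomogeneousComponent_isWeightedHomogeneous _ _⟩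
  rw [aeval_weightedHomogeneousComponent (fun k : Fin N => (k : ℕ) + 1) (1 : Fin N → ℕ) _
    (fun k => isHomogeneous_esymm (Fin N) ℤ _), hQ₀']
  exact weightedHomogeneousComponent_eq_self hhom

end Groth.Agent.S8685
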