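import Groth.Statements.S14229
import Groth.Agent.Lib.Helper3.RootChF

set_option autoImplicit false
universe u v w x
open RootCh RootCh.Facet

namespace Groth.Agent.S14229

/-- For a finite reduced crystallographic root system over a linearly ordered field and a facet F, the
linear subspace spanned by the vectors of F (its affine support, F being a cone) is the span of the
corners of F. -/
theorem result {ι : Type u} {R : Type v} {M : Type w} {N : Type x}
    [Field R] [LinearOrder R] [IsStrictOrderedRing R]
    [AddCommGroup M] [Module R M] [AddCommGroup N] [Module R N] [Finite ι]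
    (P : RootPairing ι R M N) [P.IsRootSystem] [P.IsCrystallographic] [P.IsReduced] (F : RootCh.Facet P) :
    Submodule.span R F.carrier = Submodule.span R F.corners := by
  classical
  obtain ⟨b, hb⟩ := Groth.Agent.Lib.helper3.RootChL.exists_mem_cham F
  obtain ⟨x₀, hx₀⟩ := Groth.Agent.Lib.helper3.RootChL.carrier_nonempty F
  rw [Groth.Agent.Lib.helper3.RootChL.corners_eq_of_mem_cham hb]
  apply le_antisymm
  · rw [Submodule.span_le]
    intro y hy
    rw [Groth.Agent.Lib.helper3.RootChL.eq_sum_fundWeight b y]
    refine Submodule.sum_mem _ fun i _ => ?_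
    by_cases hi : F.sgn i = 1
    · exact Submodule.smul_mem _ _ (Submodule.subset_span ⟨i, hi, rfl⟩)
    · have h1 := (Groth.Agent.Lib.helper3.RootChL.mem_cham_iff F b).1 hb i i.2
      have h0 : F.sgn i = 0 := by
        rcases hs : F.sgn i with _ | _ | _
        · rfl
        · exact absurd hs h1
        · exact absurd hs hi
      rw [Groth.Agent.Lib.helper3.RootChL.sgn_eq_sign hy i] at h0
      rw [sign_eq_zero_iff.1 h0, zero_smul]
      exact Submodule.zero_mem _
  · rw [Submodule.span_le]
    rintro - ⟨i, hi, rfl⟩
    have hmem : x₀ + RootCh.fundWeight b i ∈ F.carrier := by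
      rw [Groth.Agent.Lib.helper3.RootChL.mem_carrier_iff_of_mem_cham hb]
      intro l hl
      rw [map_add, Groth.Agent.Lib.helper3.RootChL.coroot'_fundWeight b i ⟨l, hl⟩]
      split_ifs with hli
      · have hli' : l = i := congrArg Subtype.val hli
        subst hli'
        change F.sgn i = 1 at hi
        have h2 := hi
        rw [Groth.Agent.Lib.helper3.RootChL.sgn_eq_sign hx₀ i, sign_eq_one_iff] at h2
        rw [hi, sign_eq_one_iff]
        linarith
      · rw [add_zero]
        exact (Groth.Agent.Lib.helper3.RootChL.sgn_eq_sign hx₀ l).symm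
    have : RootCh.fundWeight b i = (x₀ + RootCh.fundWeight b i) - x₀ := by abel
    rw [this]
    exact Submodule.sub_mem _ (Submodule.subset_span hmem) (Submodule.subset_span hx₀)

end Groth.Agent.S14229
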