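import Groth.Statements.S14237
import Mathlib.LinearAlgebra.RootSystem.Finite.CanonicalBilinear
import Mathlib.Tactic.Linarith
import Mathlib.Tactic.Ring

set_option autoImplicit false
universe u v w x
open RootCh RootCh.Facet

namespace Groth.Agent.S14237


theorem sum_eq_sum_filter {ι : Type*} {R : Type*} [Field R] [LinearOrder R] [IsStrictOrderedRing R]
    (s : Finset ι) (σ : ι → ι) (hσ : Function.Involutive σ) (f : ι → R)
    (hf : ∀ i, f (σ i) = - f i) [DecidablePred fun i => σ i ∈ s] :
    ∑ i ∈ s, f i = ∑ i ∈ s.filter (fun i => ¬ σ i ∈ s), f i := by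
  rw [← Finset.sum_filter_add_sum_filter_not s (fun i => σ i ∈ s) f]
  suffices h : ∑ i ∈ s.filter (fun i => σ i ∈ s), f i = 0 by rw [h, zero_add]
  have h2 : ∑ i ∈ s.filter (fun i => σ i ∈ s), f i =
      ∑ i ∈ s.filter (fun i => σ i ∈ s), f (σ i) := by
    refine Finset.sum_nbij' σ σ ?_ ?_ ?_ ?_ ?_
    · intro a ha
      rw [Finset.mem_filter] at ha ⊢
      exact ⟨ha.2, by rw [hσ a]; exact ha.1⟩
    · intro a ha
      rw [Finset.mem_filter] at ha ⊢
      exact ⟨ha.2, by rw [hσ a]; exact ha.1⟩
    · intro a _; exact hσ a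
    · intro a _; exact hσ a
    · intro a _; rw [hσ a]
  simp only [hf, Finset.sum_neg_distrib] at h2
  linarith

theorem pos_case {ι : Type u} {R : Type v} {M : Type w} {N : Type x}
    [Field R] [LinearOrder R] [IsStrictOrderedRing R]
    [AddCommGroup M] [Module R M] [AddCommGroup N] [Module R N] [Finite ι]
    (P : RootPairing ι R M N) [P.IsRootSystem] [P.IsCrystallographic] [P.IsReduced]
    (ξ : M) (s : Finset ι) (hs : ∀ i, i ∈ s ↔ 0 ≤ P.coroot' i ξ) (j : ι) :
    (P.coroot' j ξ = 0 → ∑ i ∈ s, P.pairing i j = 0) ∧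
    (0 < P.coroot' j ξ → 0 < ∑ i ∈ s, P.pairing i j) := by
  classical
  have hc : ∀ i, P.coroot' (P.reflectionPerm j i) ξ =
      P.coroot' i ξ - P.coroot' j ξ * P.pairing j i := by
    intro i
    rw [RootPairing.coroot'_reflectionPerm, LinearMap.comp_apply, LinearEquiv.coe_coe, RootPairing.reflection_apply,
      map_sub, map_smul, RootPairing.root_coroot'_eq_pairing, smul_eq_mul]
  have hp : ∀ i, P.pairing (P.reflectionPerm j i) j = - P.pairing i j := by
    intro i
    rw [← RootPairing.pairing_reflectionPerm, RootPairing.pairing_reflectionPerm_self_right]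
  have key := sum_eq_sum_filter s (P.reflectionPerm j) (P.reflectionPerm_involutive j)
    (fun i => P.pairing i j) hp
  constructor
  · intro h0
    rw [key]
    apply Finset.sum_eq_zero
    intro i hi
    rw [Finset.mem_filter] at hi
    exfalso
    apply hi.2
    rw [hs, hc, h0, zero_mul, sub_zero]
    exact (hs i).1 hi.1
  · intro hpos
    rw [key]
    apply Finset.sum_pos
    · intro i hi
      rw [Finset.mem_filter] at hi
      have h1 : 0 ≤ P.coroot' i ξ := (hs i).1 hi.1
      have h2 : P.coroot' (P.reflectionPerm j i) ξ < 0 := by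
        by_contra hcon
        exact hi.2 ((hs _).2 (not_lt.1 hcon))
      rw [hc] at h2
      have h3 : 0 < P.coroot' j ξ * P.pairing j i := by linarith
      have h4 : 0 < P.pairing j i := by
        by_contra hcon
        have : P.coroot' j ξ * P.pairing j i ≤ 0 :=
          mul_nonpos_of_nonneg_of_nonpos hpos.le (not_lt.1 hcon)
        linarith
      have h5 := (P.zero_lt_pairingIn_iff' R (i := j) (j := i)).1
        (by simpa [← P.algebraMap_pairingIn R] using h4)
      simpa [← P.algebraMap_pairingIn R] using h5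
    · refine ⟨j, ?_⟩
      rw [Finset.mem_filter]
      refine ⟨(hs j).2 hpos.le, ?_⟩
      rw [hs, hc, RootPairing.pairing_same]
      intro hcon
      linarith


/-- For a finite reduced crystallographic root system over a linearly ordered field and a facet F with
parabolic set of roots R(F) (the roots whose sign on F is not negative), the sum of the roots of
R(F) lies in F. -/
theorem result {ι : Type u} {R : Type v} {M : Type w} {N : Type x}
    [Field R] [LinearOrder R] [IsStrictOrderedRing R]
    [AddCommGroup M] [Module R M] [AddCommGroup N] [Module R N] [Finite ι]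
    (P : RootPairing ι R M N) [P.IsRootSystem] [P.IsCrystallographic] [P.IsReduced] (F : RootCh.Facet P) :
    (∑ i ∈ (Set.toFinite F.parab).toFinset, P.root i) ∈ F.carrier := by
  obtain ⟨ξ, hξ⟩ := F.exists_sgnVec_eq
  set s := (Set.toFinite F.parab).toFinset with hsdef
  have hsgn : ∀ i, F.sgn i = SignType.sign (P.coroot' i ξ) := by
    intro i
    rw [← hξ]
    rfl
  have hs : ∀ i, i ∈ s ↔ 0 ≤ P.coroot' i ξ := by
    intro i
    rw [hsdef, Set.Finite.mem_toFinset]
    change F.sgn i ≠ -1 ↔ _
    rw [hsgn, Ne, sign_eq_neg_one_iff, not_lt]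
  have hsum : ∀ j, P.coroot' j (∑ i ∈ s, P.root i) = ∑ i ∈ s, P.pairing i j := by
    intro j
    rw [map_sum]
    rfl
  change RootCh.sgnVec P (∑ i ∈ s, P.root i) = F.sgn
  funext j
  change SignType.sign (P.coroot' j (∑ i ∈ s, P.root i)) = F.sgn j
  rw [hsum, hsgn]
  rcases lt_trichotomy (P.coroot' j ξ) 0 with h | h | h
  · -- negative: use -j
    have hneg : P.coroot' (P.reflectionPerm j j) ξ = - P.coroot' j ξ := by
      rw [RootPairing.coroot'_reflectionPerm, LinearMap.comp_apply, LinearEquiv.coe_coe, RootPairing.reflection_apply,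
        map_sub, map_smul, RootPairing.root_coroot'_eq_pairing, smul_eq_mul,
        RootPairing.pairing_same]
      ring
    have h1 := (pos_case P ξ s hs (P.reflectionPerm j j)).2 (by rw [hneg]; linarith)
    simp only [RootPairing.pairing_reflectionPerm_self_right, Finset.sum_neg_distrib] at h1
    rw [sign_neg h, sign_neg (by linarith)]
  · rw [h, (pos_case P ξ s hs j).1 h]
  · rw [sign_pos h, sign_pos ((pos_case P ξ s hs j).2 h)]

end Groth.Agent.S14237
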