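import Groth.Statements.S14230
import Groth.Agent.Lib.Helper3.RootChF

set_option autoImplicit false
universe u v w x
open RootCh RootCh.Facet

namespace Groth.Agent.S14230

/-- For a finite reduced crystallographic root system over a linearly ordered field and a facet F, the
vectors of F are exactly the linear combinations of the corners of F in which every corner of F
occurs with a strictly positive coefficient (written with a finitely supported coefficient function
supported inside the set of corners). -/
theorem result {ι : Type u} {R : Type v} {M : Type w} {N : Type x}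
    [Field R] [LinearOrder R] [IsStrictOrderedRing R]
    [AddCommGroup M] [Module R M] [AddCommGroup N] [Module R N] [Finite ι]
    (P : RootPairing ι R M N) [P.IsRootSystem] [P.IsCrystallographic] [P.IsReduced] (F : RootCh.Facet P) :
    F.carrier = {ξ : M | ∃ c : M →₀ R, (c.support : Set M) ⊆ F.corners ∧
      (∀ m ∈ F.corners, 0 < c m) ∧ c.sum (fun m r => r • m) = ξ} := by
  classical
  obtain ⟨b, hb⟩ := Groth.Agent.Lib.helper3.RootChL.exists_mem_cham F
  have hcor := Groth.Agent.Lib.helper3.RootChL.corners_eq_of_mem_cham hb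
  have hsgn01 : ∀ i : b.support, F.sgn i ≠ 1 → F.sgn i = 0 := by
    intro i hi
    have h1 := (Groth.Agent.Lib.helper3.RootChL.mem_cham_iff F b).1 hb i i.2
    rcases hs : F.sgn i with _ | _ | _
    · rfl
    · exact absurd hs h1
    · exact absurd hs hi
  ext y
  constructor
  · intro hy
    refine ⟨Finsupp.mapDomain (RootCh.fundWeight b) ((Groth.Agent.Lib.helper3.RootChL.fundBasis b).repr y),
      ?_, ?_, ?_⟩
    · intro m hm
      have := Finsupp.mapDomain_support hm
      rw [Finset.mem_image] at this
      obtain ⟨i, hi, rfl⟩ := this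
      rw [hcor]
      refine ⟨i, ?_, rfl⟩
      by_contra hne
      have h0 := hsgn01 i hne
      rw [Groth.Agent.Lib.helper3.RootChL.sgn_eq_sign hy i, sign_eq_zero_iff] at h0
      rw [Finsupp.mem_support_iff, Groth.Agent.Lib.helper3.RootChL.fundBasis_repr] at hi
      exact hi h0
    · intro m hm
      rw [hcor] at hm
      obtain ⟨i, hi, rfl⟩ := hm
      rw [Finsupp.mapDomain_apply (Groth.Agent.Lib.helper3.RootChL.fundWeight_injective b),
        Groth.Agent.Lib.helper3.RootChL.fundBasis_repr]
      change F.sgn i = 1 at hi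
      rw [Groth.Agent.Lib.helper3.RootChL.sgn_eq_sign hy i, sign_eq_one_iff] at hi
      exact hi
    · rw [Finsupp.sum_mapDomain_index (h := fun (m : M) (r : R) => r • m)
        (fun _ => zero_smul _ _) (fun _ _ _ => add_smul _ _ _)]
      have := (Groth.Agent.Lib.helper3.RootChL.fundBasis b).linearCombination_repr y
      rw [Finsupp.linearCombination_apply] at this
      simpa [Groth.Agent.Lib.helper3.RootChL.fundBasis_apply] using this
  · rintro ⟨c, hsupp, hpos, rfl⟩
    rw [Groth.Agent.Lib.helper3.RootChL.mem_carrier_iff_of_mem_cham hb]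
    intro l hl
    have hval : ∀ m ∈ c.support, ∃ i : b.support, F.sgn i = 1 ∧ m = RootCh.fundWeight b i := by
      intro m hm
      have := hsupp hm
      rw [hcor] at this
      obtain ⟨i, hi, rfl⟩ := this
      exact ⟨i, hi, rfl⟩
    have hexp : P.coroot' l (c.sum fun m r => r • m) = ∑ m ∈ c.support, c m * P.coroot' l m := by
      rw [Finsupp.sum, map_sum]
      refine Finset.sum_congr rfl fun m _ => ?_
      rw [map_smul, smul_eq_mul]
    rw [hexp]
    by_cases h1 : F.sgn l = 1
    · rw [h1, sign_eq_one_iff]
      have hmem : RootCh.fundWeight b ⟨l, hl⟩ ∈ F.corners := by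
        rw [hcor]; exact ⟨⟨l, hl⟩, h1, rfl⟩
      have hcpos := hpos _ hmem
      have hin : RootCh.fundWeight b ⟨l, hl⟩ ∈ c.support := Finsupp.mem_support_iff.2 hcpos.ne'
      have hterm : ∀ m ∈ c.support, 0 ≤ c m * P.coroot' l m := by
        intro m hm
        obtain ⟨i, hi, rfl⟩ := hval m hm
        have hci : 0 < c (RootCh.fundWeight b i) := hpos _ (hsupp hm)
        rw [Groth.Agent.Lib.helper3.RootChL.coroot'_fundWeight b i ⟨l, hl⟩]
        split_ifs
        · simp [hci.le]
        · simp
      refine lt_of_lt_of_le ?_ (Finset.single_le_sum hterm hin)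
      rw [RootCh.coroot'_fundWeight_self b ⟨l, hl⟩, mul_one]
      exact hcpos
    · have h0 : F.sgn l = 0 := hsgn01 ⟨l, hl⟩ h1
      rw [h0, sign_eq_zero_iff]
      refine Finset.sum_eq_zero fun m hm => ?_
      obtain ⟨i, hi, rfl⟩ := hval m hm
      rw [Groth.Agent.Lib.helper3.RootChL.coroot'_fundWeight b i ⟨l, hl⟩, if_neg, mul_zero]
      rintro rfl
      exact h1 hi

end Groth.Agent.S14230
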