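import Groth.Statements.S5477
import Groth.Agent.Lib.Helper3.RootD
import Mathlib.LinearAlgebra.RootSystem.Finite.Nondegenerate

set_option autoImplicit false
open RootPairing
open scoped Pointwise
open RootD

namespace Groth.Agent.S5477

open Groth.Agent.Lib.helper3.RootDLib

/-- An automorphism of a root datum acting trivially on the radical (u(m) - m in the rational span of
the roots for all m) is determined by its action on the roots: if it fixes every root it is the
identity. -/
theorem result {ι M N : Type*} [AddCommGroup M] [AddCommGroup N]
    (P : RootPairing ι ℤ M N) [Finite ι] (u : P.Aut)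
    (hs : ∀ m : M, ∃ n : ℕ, 0 < n ∧ n • (u • m - m) ∈ Submodule.span ℤ (Set.range P.root))
    (hfix : ∀ i : ι, u • i = i) : u = 1 := by
  classical
  have : Module.IsReflexive ℤ M := isReflexive_left P
  have _i : Fintype ι := Fintype.ofFinite ι
  have hadj : ∀ (g : P.Aut) (m : M) (n : N),
      P.toLinearMap (g.weightMap m) n = P.toLinearMap m (g.coweightMap n) := by
    intro g m n
    have := LinearMap.congr_fun (RootPairing.Hom.weight_coweight_transpose_apply P P n g.toHom) m
    simpa using this
  have hco : ∀ i, u.coweightMap (P.coroot i) = P.coroot i := by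
    intro i
    rw [RootPairing.Hom.coroot_coweightMap_apply P P i u.toHom]
    congr 1
    rw [Equiv.symm_apply_eq]
    exact (hfix i).symm
  have hsmul : ∀ m : M, u • m = u.weightMap m := fun m => rfl
  have hv : ∀ m : M, u • m - m = 0 := by
    intro m
    obtain ⟨n, hn, hmem⟩ := hs m
    have hpair : ∀ i, P.coroot' i (n • (u • m - m)) = 0 := by
      intro i
      rw [map_nsmul, map_sub]
      change n • (P.toLinearMap (u • m) (P.coroot i) - P.toLinearMap m (P.coroot i)) = 0
      rw [hsmul, hadj, hco, sub_self, smul_zero]
    have hform : P.RootForm (n • (u • m - m)) (n • (u • m - m)) = 0 := by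
      rw [P.rootForm_apply_apply]
      exact Finset.sum_eq_zero (fun i _ => by rw [hpair i, mul_zero])
    have h0 := P.eq_zero_of_mem_rootSpan_of_rootForm_self_eq_zero hmem hform
    rw [← natCast_zsmul] at h0
    rcases smul_eq_zero.mp h0 with h1 | h1
    · omega
    · exact h1
  apply RootPairing.Equiv.weightHom_injective P
  ext m
  have := hv m
  rw [sub_eq_zero] at this
  exact this

end Groth.Agent.S5477
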