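import Groth.Statements.S5452
import Groth.Agent.Lib.Helper3.RootD
import Groth.Agent.S5477
import Mathlib.LinearAlgebra.RootSystem.WeylGroup

set_option autoImplicit false
open RootPairing
open scoped Pointwise
open RootD

namespace Groth.Agent.S5452

open Groth.Agent.Lib.helper3.RootDLib

/-- The Weyl group of a root datum acts faithfully on the set of roots. -/
theorem result {ι M N : Type*} [AddCommGroup M] [AddCommGroup N]
    (P : RootPairing ι ℤ M N) [Finite ι] :
    Function.Injective P.weylGroupToPerm := by
  set Q : Submodule ℤ M := Submodule.span ℤ (Set.range P.root) with hQ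
  have hroot : ∀ (g : P.Aut) (k : ι), P.root (g • k) = g • P.root k :=
    fun g k => RootPairing.Equiv.root_indexEquiv_eq_smul P k g
  have hstab : ∀ (g : P.Aut) (x : M), x ∈ Q → g • x ∈ Q := by
    intro g x hx
    induction hx using Submodule.span_induction with
    | mem x hx =>
      obtain ⟨i, rfl⟩ := hx
      rw [← hroot]
      exact Submodule.subset_span ⟨_, rfl⟩
    | zero => rw [smul_zero]; exact Q.zero_mem
    | add x y _ _ hx hy => rw [smul_add]; exact Q.add_mem hx hy
    | smul a x _ hx => rw [smul_comm]; exact Q.smul_mem a hx
  have hW : ∀ g : P.Aut, g ∈ P.weylGroup → ∀ m : M, g • m - m ∈ Q := by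
    intro g hg
    induction hg using RootPairing.weylGroup.induction with
    | mem i =>
      intro m
      rw [RootPairing.Equiv.reflection_smul, P.reflection_apply, sub_sub_cancel_left]
      exact Q.neg_mem (Q.smul_mem _ (Submodule.subset_span ⟨i, rfl⟩))
    | one => intro m; simp
    | mul x y _ _ hx hy =>
      intro m
      have : (x * y) • m - m = x • (y • m - m) + (x • m - m) := by
        rw [mul_smul, smul_sub]; abel
      rw [this]
      exact Q.add_mem (hstab x _ (hy m)) (hx m)
  rw [injective_iff_map_eq_one]
  intro g hg
  have hfix : ∀ i : ι, (g : P.Aut) • i = i := by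
    intro i
    have := congrArg (fun e : ι ≃ ι => e i) hg
    exact this
  have h1 := Groth.Agent.S5477.result P (g : P.Aut)
    (fun m => ⟨1, Nat.one_pos, by rw [one_smul]; exact hW g g.2 m⟩) hfix
  exact Subtype.ext h1

end Groth.Agent.S5452
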