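import Groth.Statements.S5448
import Groth.Agent.Lib.Helper3.RootD

set_option autoImplicit false
open RootD

namespace Groth.Agent.S5448

open Groth.Agent.Lib.helper3.RootDLib

/-- The elements of a system of simple roots (root-only sense) are indivisible, i.e. none of them is
twice a root. -/
theorem result {ι M N : Type*} [AddCommGroup M] [AddCommGroup N]
    (P : RootPairing ι ℤ M N) [Finite ι] (Δ : Set ι) (hΔ : RootD.IsSimpleSys P Δ)
    (i : ι) (hi : i ∈ Δ) : RootD.IsIndiv P i := by
  classical
  intro j hj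
  have hsi : Finsupp.single i (1 : ℤ) ∈ Finsupp.supported ℤ ℤ Δ :=
    Finsupp.single_mem_supported ℤ 1 hi
  have hri : Finsupp.linearCombination ℤ P.root (Finsupp.single i (1 : ℤ)) = P.root i := by simp
  rcases hΔ.mem_or_neg_mem j with h | h
  · obtain ⟨c, hc, hc0, hcj⟩ := exists_finsupp_of_mem_natSpan P h
    have h2 : (2 : ℤ) • c ∈ Finsupp.supported ℤ ℤ Δ := Submodule.smul_mem _ _ hc
    have := finsupp_eq_of_linearCombination_eq P hΔ.linInd h2 hsi
      (by rw [map_smul, hcj, hj, hri])
    have h3 := DFunLike.congr_fun this i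
    simp only [Finsupp.smul_apply, Finsupp.single_eq_same, smul_eq_mul] at h3
    omega
  · obtain ⟨c, hc, hc0, hcj⟩ := exists_finsupp_of_mem_natSpan P h
    have h2 : (-2 : ℤ) • c ∈ Finsupp.supported ℤ ℤ Δ := Submodule.smul_mem _ _ hc
    have := finsupp_eq_of_linearCombination_eq P hΔ.linInd h2 hsi
      (by rw [map_smul, hcj, hri, ← hj]; simp)
    have h3 := DFunLike.congr_fun this i
    simp only [Finsupp.smul_apply, Finsupp.single_eq_same, smul_eq_mul] at h3
    have := hc0 i
    omega

end Groth.Agent.S5448
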