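import Groth.Statements.S5466
import Groth.Agent.Lib.Helper3.RootD

set_option autoImplicit false
open RootD

namespace Groth.Agent.S5466

open Groth.Agent.Lib.helper3.RootDLib

/-- The reflection in a simple root β maps every positive root not proportional to β to a positive root. -/
theorem result {ι M N : Type*} [AddCommGroup M] [AddCommGroup N]
    (P : RootPairing ι ℤ M N) [Finite ι] (Δ : Set ι) (hΔ : RootD.IsSimpleSys P Δ)
    (k i : ι) (hk : k ∈ RootD.posOf P Δ) (hi : i ∈ Δ)
    (hli : LinearIndependent ℤ ![P.root k, P.root i]) :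
    P.reflectionPerm i k ∈ RootD.posOf P Δ := by
  classical
  obtain ⟨c, hc, hc0, hck⟩ := exists_finsupp_of_mem_natSpan P hk
  have hsi : Finsupp.single i (1 : ℤ) ∈ Finsupp.supported ℤ ℤ Δ :=
    Finsupp.single_mem_supported ℤ 1 hi
  -- some coefficient away from i is positive
  have hex : ∃ j, j ≠ i ∧ 0 < c j := by
    by_contra hcon
    push Not at hcon
    have hceq : c = Finsupp.single i (c i) := by
      ext j
      by_cases hj : j = i
      · subst hj; simp
      · rw [Finsupp.single_eq_of_ne hj]
        exact le_antisymm (hcon j hj) (hc0 j)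
    rw [hceq, Finsupp.linearCombination_single] at hck
    rw [LinearIndependent.pair_iff] at hli
    have := hli 1 (-(c i)) (by rw [← hck]; simp)
    simp at this
  obtain ⟨j, hji, hj⟩ := hex
  -- the reflected root in coordinates
  set p := P.pairing k i with hp
  set c' : ι →₀ ℤ := c - p • Finsupp.single i 1 with hc'
  have hc'supp : c' ∈ Finsupp.supported ℤ ℤ Δ :=
    Submodule.sub_mem _ hc (Submodule.smul_mem _ _ hsi)
  have hc'k : Finsupp.linearCombination ℤ P.root c' = P.root (P.reflectionPerm i k) := by
    rw [P.root_reflectionPerm, P.reflection_apply_root, hc', map_sub, map_smul, hck, ← hp]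
    simp
  have hc'j : c' j = c j := by
    simp [hc', Finsupp.single_eq_of_ne hji]
  rcases hΔ.mem_or_neg_mem (P.reflectionPerm i k) with h | h
  · exact h
  · exfalso
    obtain ⟨d, hd, hd0, hdk⟩ := exists_finsupp_of_mem_natSpan P h
    have := finsupp_eq_of_linearCombination_eq P hΔ.linInd hd (Submodule.neg_mem _ hc'supp)
      (by rw [hdk, map_neg, hc'k])
    have h3 := DFunLike.congr_fun this j
    simp only [Finsupp.coe_neg, Pi.neg_apply, hc'j] at h3
    have := hd0 j
    omega

end Groth.Agent.S5466
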