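import Groth.Statements.S5467
import Groth.Agent.Lib.Helper3.RootD
import Groth.Agent.S5466
import Groth.Agent.S5448

set_option autoImplicit false
open RootD

namespace Groth.Agent.S5467

open Groth.Agent.Lib.helper3.RootDLib

/-- For an indivisible positive non-simple root α there is a simple root β with (β^v, α) > 0 such that
s_β(α) is positive; its order relative to Δ is then smaller than that of α by (β^v, α). -/
theorem result {ι M N : Type*} [AddCommGroup M] [AddCommGroup N]
    (P : RootPairing ι ℤ M N) [Finite ι] (Δ : Set ι) (hΔ : RootD.IsSimpleSys P Δ)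
    (k : ι) (hk : k ∈ RootD.posOf P Δ) (hkΔ : k ∉ Δ) (hind : RootD.IsIndiv P k) :
    ∃ i ∈ Δ, 0 < P.pairing k i ∧ P.reflectionPerm i k ∈ RootD.posOf P Δ := by
  classical
  obtain ⟨c, hc, hc0, hck⟩ := exists_finsupp_of_mem_natSpan P hk
  have h2 : (2 : ℤ) = c.sum (fun j a => a * P.pairing j k) := by
    have := congrArg (P.coroot' k) hck
    rw [P.root_coroot'_eq_pairing, P.pairing_same, Finsupp.linearCombination_apply,
      map_finsuppSum] at this
    rw [← this]
    simp [P.root_coroot'_eq_pairing]
  have hex : ∃ j ∈ c.support, 0 < c j * P.pairing j k := by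
    by_contra hcon
    push Not at hcon
    have : c.sum (fun j a => a * P.pairing j k) ≤ 0 := Finset.sum_nonpos hcon
    omega
  obtain ⟨j, hjs, hj⟩ := hex
  have hjΔ : j ∈ Δ := hc hjs
  have hcj : 0 < c j := lt_of_le_of_ne (hc0 j) (Ne.symm (Finsupp.mem_support_iff.mp hjs))
  have hp : 0 < P.pairing j k := (mul_pos_iff_of_pos_left hcj).mp hj
  have hp' : 0 < P.pairing k j := (pairing_pos_iff P j k).mp hp
  refine ⟨j, hjΔ, hp', ?_⟩
  apply Groth.Agent.S5466.result P Δ hΔ k j hk hjΔ
  by_contra hnli
  rcases proportional_cases P k j hnli with h | h | h | h | h | h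
  · exact hkΔ (P.root.injective h ▸ hjΔ)
  · have := pairing_of_root_eq_smul P k j (-1) (by rw [h]; simp)
    omega
  · exact Groth.Agent.S5448.result P Δ hΔ j hjΔ k h.symm
  · have := pairing_of_root_eq_smul P k j (-2) (by rw [h]; simp)
    omega
  · exact hind j h.symm
  · have := pairing_of_root_eq_smul P j k (-2) (by rw [h]; simp)
    omega

end Groth.Agent.S5467
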