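import Groth.Statements.S5488
import Groth.Agent.Lib.Helper3.RootD

set_option autoImplicit false
open RootPairing
open scoped Pointwise
open RootD

namespace Groth.Agent.S5488

open Groth.Agent.Lib.helper3.RootDLib

/-- The reduced datum of indivisible roots has the same Weyl group: the reflections in indivisible roots
generate W. -/
theorem result {ι M N : Type*} [AddCommGroup M] [AddCommGroup N]
    (P : RootPairing ι ℤ M N) [Finite ι] :
    Subgroup.closure ((fun i : ι => Equiv.reflection P i) '' {i : ι | RootD.IsIndiv P i}) = P.weylGroup := by
  have : Module.IsReflexive ℤ M := isReflexive_left P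
  apply le_antisymm
  · apply Subgroup.closure_mono
    rintro _ ⟨i, -, rfl⟩
    exact ⟨i, rfl⟩
  · rw [RootPairing.weylGroup, Subgroup.closure_le]
    rintro _ ⟨i, rfl⟩
    by_cases hi : RootD.IsIndiv P i
    · exact Subgroup.subset_closure ⟨i, hi, rfl⟩
    · unfold RootD.IsIndiv at hi
      push Not at hi
      obtain ⟨j, hj⟩ := hi
      have hjind : RootD.IsIndiv P j := by
        intro l hl
        have h4 : P.root i = (4 : ℤ) • P.root l := by
          rw [← hj, ← hl, smul_smul]; norm_num
        have := smul_cases_of_root_eq_smul P l i 4 h4
        omega
      have heq : RootPairing.Equiv.reflection P i = RootPairing.Equiv.reflection P j :=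
        (equivReflection_eq_of_smul P j i 2 hj.symm).symm
      rw [heq]
      exact Subgroup.subset_closure ⟨j, hjind, rfl⟩

end Groth.Agent.S5488
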