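import Groth.Statements.S5503
-- import your own Groth.Agent.* helpers here

set_option autoImplicit false
open RootPairing
open scoped Pointwise
open RootD

namespace Groth.Agent.S5503

/-- For an automorphism u of a root datum and a root α, u s_α u⁻¹ = s_{u(α)}; hence W(R) is a normal
subgroup of Aut(R). -/
theorem result {ι M N : Type*} [AddCommGroup M] [AddCommGroup N]
    (P : RootPairing ι ℤ M N) [Finite ι] (u : P.Aut) (i : ι) :
    u * Equiv.reflection P i * u⁻¹ = Equiv.reflection P (u • i) := by
  have hadj : ∀ (g : P.Aut) (m : M) (n : N),
      P.toLinearMap (g.weightMap m) n = P.toLinearMap m (g.coweightMap n) := by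
    intro g m n
    have := LinearMap.congr_fun (RootPairing.Hom.weight_coweight_transpose_apply P P n g.toHom) m
    simpa using this
  apply RootPairing.Equiv.weightHom_injective P
  ext x
  simp only [map_mul, LinearEquiv.mul_apply]
  have h1 : ∀ (g : P.Aut) (y : M), RootPairing.Equiv.weightHom P g y = g.weightMap y := fun g y => rfl
  have h2 : ∀ y : M, RootPairing.Equiv.weightHom P (Equiv.reflection P i) y = P.reflection i y :=
    fun y => rfl
  have h3 : ∀ y : M, RootPairing.Equiv.weightHom P (Equiv.reflection P (u • i)) y
      = P.reflection (u • i) y := fun y => rfl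
  have h4 : ∀ y : M, u.weightMap ((RootPairing.Equiv.weightHom P u⁻¹) y) = y := by
    intro y
    have : (RootPairing.Equiv.weightHom P u) ((RootPairing.Equiv.weightHom P u⁻¹) y) = y := by
      rw [← LinearEquiv.mul_apply, ← map_mul, mul_inv_cancel, map_one]; rfl
    exact this
  rw [h2, h3, P.reflection_apply, P.reflection_apply, h1 u, map_sub, map_smul, h4]
  have h5 : u.weightMap (P.root i) = P.root (u • i) :=
    RootPairing.Hom.root_weightMap_apply P P i u.toHom
  have h6 : u.coweightMap (P.coroot (u • i)) = P.coroot i := by
    have := RootPairing.Hom.coroot_coweightMap_apply P P (u • i) u.toHom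
    rw [this]
    congr 1
    exact u.indexEquiv.symm_apply_apply i
  rw [h5]
  congr 2
  change P.toLinearMap _ (P.coroot i) = P.toLinearMap x (P.coroot (u • i))
  rw [← h6, ← hadj, h4]

end Groth.Agent.S5503
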