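import Groth.Statements.S5508
import Groth.Agent.Lib.Helper3.RootD
import Groth.Agent.S5467
import Groth.Agent.S5488
import Groth.Agent.S5503

set_option autoImplicit false
open RootPairing
open scoped Pointwise
open RootD

namespace Groth.Agent.S5508

open Groth.Agent.Lib.helper3.RootDLib

/-- For an arbitrary (possibly non-reduced) root datum and a system of simple roots Δ in the root-only
sense: the simple reflections generate the Weyl group, and every indivisible root is conjugate under
the Weyl group to a simple root. -/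
theorem result {ι M N : Type*} [AddCommGroup M] [AddCommGroup N]
    (P : RootPairing ι ℤ M N) [Finite ι] (Δ : Set ι) (hΔ : RootD.IsSimpleSys P Δ) :
    Subgroup.closure ((fun i : ι => Equiv.reflection P i) '' Δ) = P.weylGroup ∧
      ∀ k : ι, RootD.IsIndiv P k → ∃ g : P.Aut, g ∈ P.weylGroup ∧ ∃ i ∈ Δ, g • i = k := by
  classical
  have : Module.IsReflexive ℤ M := isReflexive_left P
  set WΔ : Subgroup P.Aut := Subgroup.closure ((fun i : ι => Equiv.reflection P i) '' Δ) with hWΔ
  have hroot : ∀ (g : P.Aut) (k : ι), P.root (g • k) = g • P.root k :=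
    fun g k => RootPairing.Equiv.root_indexEquiv_eq_smul P k g
  have hgenΔ : ∀ i ∈ Δ, Equiv.reflection P i ∈ WΔ := fun i hi =>
    Subgroup.subset_closure ⟨i, hi, rfl⟩
  have hWΔle : WΔ ≤ P.weylGroup := by
    rw [hWΔ, Subgroup.closure_le]
    rintro _ ⟨i, -, rfl⟩
    exact P.reflection_mem_weylGroup i
  -- indivisibility is invariant under automorphisms
  have hindiv : ∀ (g : P.Aut) (k : ι), RootD.IsIndiv P k → RootD.IsIndiv P (g • k) := by
    intro g k hk j hj
    apply hk (g⁻¹ • j)
    rw [hroot, ← smul_comm, hj, hroot, inv_smul_smul]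
  have hrefl : ∀ i k : ι, Equiv.reflection P i • k = P.reflectionPerm i k := fun i k => rfl
  -- positive indivisible roots are conjugate to simple roots under WΔ
  have main : ∀ (n : ℕ) (k : ι) (c : ι →₀ ℤ), c ∈ Finsupp.supported ℤ ℤ Δ → (∀ j, 0 ≤ c j) →
      c.sum (fun _ a => a) = n → Finsupp.linearCombination ℤ P.root c = P.root k →
      RootD.IsIndiv P k → ∃ g : P.Aut, g ∈ WΔ ∧ ∃ i ∈ Δ, g • i = k := by
    intro n
    induction n using Nat.strong_induction_on with
    | _ n ih =>
      intro k c hc hc0 hsum hck hk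
      by_cases hkΔ : k ∈ Δ
      · exact ⟨1, one_mem _, k, hkΔ, one_smul _ _⟩
      · have hkpos : k ∈ RootD.posOf P Δ := by
          change P.root k ∈ RootD.natSpan P Δ
          rw [← hck]
          exact linearCombination_mem_natSpan P c hc hc0
        obtain ⟨i, hiΔ, hp, hk'⟩ := Groth.Agent.S5467.result P Δ hΔ k hkpos hkΔ hk
        obtain ⟨d, hd, hd0, hdk⟩ := exists_finsupp_of_mem_natSpan P hk'
        have hsi : Finsupp.single i (1 : ℤ) ∈ Finsupp.supported ℤ ℤ Δ :=
          Finsupp.single_mem_supported ℤ 1 hiΔ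
        have hdeq : d = c - P.pairing k i • Finsupp.single i 1 := by
          apply finsupp_eq_of_linearCombination_eq P hΔ.linInd hd
            (Submodule.sub_mem _ hc (Submodule.smul_mem _ _ hsi))
          rw [hdk, map_sub, map_smul, hck, P.root_reflectionPerm, P.reflection_apply_root]
          simp
        have hdsum : d.sum (fun _ a => a) = (n : ℤ) - P.pairing k i := by
          have e := Finsupp.sum_sub_index (f := c) (g := P.pairing k i • Finsupp.single i (1 : ℤ))
            (h := fun _ a => a) (fun _ _ _ => rfl)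
          rw [hdeq, e, hsum, Finsupp.smul_single, Finsupp.sum_single_index rfl]
          simp
        have hdnn : 0 ≤ d.sum (fun _ a => a) := Finset.sum_nonneg (fun j _ => hd0 j)
        obtain ⟨n', hn'⟩ := Int.eq_ofNat_of_zero_le hdnn
        have hlt : n' < n := by
          have : (n' : ℤ) < n := by rw [← hn', hdsum]; omega
          exact_mod_cast this
        obtain ⟨g, hg, i', hi', hgi'⟩ := ih n' hlt (P.reflectionPerm i k) d hd hd0 hn' hdk
          (by rw [← hrefl]; exact hindiv _ k hk)
        refine ⟨Equiv.reflection P i * g, mul_mem (hgenΔ i hiΔ) hg, i', hi', ?_⟩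
        rw [mul_smul, hgi', hrefl, P.reflectionPerm_self]
  -- every indivisible root is conjugate to a simple root under WΔ
  have hconj : ∀ k : ι, RootD.IsIndiv P k → ∃ g : P.Aut, g ∈ WΔ ∧ ∃ i ∈ Δ, g • i = k := by
    intro k hk
    rcases hΔ.mem_or_neg_mem k with h | h
    · obtain ⟨c, hc, hc0, hck⟩ := exists_finsupp_of_mem_natSpan P h
      have hnn : 0 ≤ c.sum (fun _ a => a) := Finset.sum_nonneg (fun j _ => hc0 j)
      obtain ⟨n, hn⟩ := Int.eq_ofNat_of_zero_le hnn
      exact main n k c hc hc0 hn hck hk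
    · have hnk : RootD.IsIndiv P (P.reflectionPerm k k) := by
        rw [← hrefl]; exact hindiv _ k hk
      rw [← root_neg] at h
      obtain ⟨c, hc, hc0, hck⟩ := exists_finsupp_of_mem_natSpan P h
      have hnn : 0 ≤ c.sum (fun _ a => a) := Finset.sum_nonneg (fun j _ => hc0 j)
      obtain ⟨n, hn⟩ := Int.eq_ofNat_of_zero_le hnn
      obtain ⟨g, hg, i, hi, hgi⟩ := main n _ c hc hc0 hn hck hnk
      refine ⟨g * Equiv.reflection P i, mul_mem hg (hgenΔ i hi), i, hi, ?_⟩
      apply P.root.injective
      rw [mul_smul, hroot, hrefl, root_neg, smul_neg, ← hroot, hgi, root_neg, neg_neg]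
  refine ⟨le_antisymm hWΔle ?_, fun k hk => ?_⟩
  · rw [← Groth.Agent.S5488.result P, Subgroup.closure_le]
    rintro _ ⟨k, hk, rfl⟩
    obtain ⟨g, hg, i, hi, hgi⟩ := hconj k hk
    have := Groth.Agent.S5503.result P g i
    rw [hgi] at this
    change Equiv.reflection P k ∈ WΔ
    rw [← this]
    exact mul_mem (mul_mem hg (hgenΔ i hi)) (inv_mem hg)
  · obtain ⟨g, hg, i, hi, hgi⟩ := hconj k hk
    exact ⟨g, hWΔle hg, i, hi, hgi⟩

end Groth.Agent.S5508
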