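import Groth.Statements.S5449
import Groth.Agent.Lib.Helper3.RootD

set_option autoImplicit false
open RootD

namespace Groth.Agent.S5449

open Groth.Agent.Lib.helper3.RootDLib

/-- For a system of simple roots Δ, the roots that are non-negative integer combinations of Δ form a
system of positive roots; and a system of positive roots S contains Δ if and only if S is that set. -/
theorem result {ι M N : Type*} [AddCommGroup M] [AddCommGroup N]
    (P : RootPairing ι ℤ M N) [Finite ι] (Δ : Set ι) (hΔ : RootD.IsSimpleSys P Δ)
    (S : Set ι) (hS : RootD.IsPosSys P S) :
    RootD.IsPosSys P (RootD.posOf P Δ) ∧ (Δ ⊆ S ↔ S = RootD.posOf P Δ) := by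
  have hpos := isPosSys_posOf P hΔ
  refine ⟨hpos, ?_, ?_⟩
  · intro hΔS
    apply Set.Subset.antisymm
    · intro k hk
      by_contra hnk
      rcases hpos.cover k with h | h
      · exact hnk h
      · -- the opposite root is positive, hence in S
        have : P.reflectionPerm k k ∈ S := by
          apply hS.sat 1 Nat.one_pos
          rw [one_smul]
          exact natSpan_mono P hΔS h
        exact hS.disjoint hk this
    · intro k hk
      apply hS.sat 1 Nat.one_pos
      rw [one_smul]
      exact natSpan_mono P hΔS hk
  · intro h
    rw [h]
    exact subset_posOf P Δ

end Groth.Agent.S5449
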