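import Groth.Statements.S5450
import Groth.Agent.Lib.Helper3.RootD

set_option autoImplicit false
open RootD

namespace Groth.Agent.S5450

open Groth.Agent.Lib.helper3.RootDLib

/-- A positive root (relative to a system of simple roots Δ) is simple if and only if it is not the sum
of two positive roots. -/
theorem result {ι M N : Type*} [AddCommGroup M] [AddCommGroup N]
    (P : RootPairing ι ℤ M N) [Finite ι] (Δ : Set ι) (hΔ : RootD.IsSimpleSys P Δ)
    (k : ι) (hk : k ∈ RootD.posOf P Δ) :
    k ∈ Δ ↔ ¬ ∃ i j : ι, i ∈ RootD.posOf P Δ ∧ j ∈ RootD.posOf P Δ ∧ P.root k = P.root i + P.root j := by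
  classical
  constructor
  · rintro hkΔ ⟨i, j, hi, hj, hkij⟩
    obtain ⟨c, hc, hc0, hci⟩ := exists_finsupp_of_mem_natSpan P hi
    obtain ⟨d, hd, hd0, hdj⟩ := exists_finsupp_of_mem_natSpan P hj
    have hsk : Finsupp.single k (1 : ℤ) ∈ Finsupp.supported ℤ ℤ Δ :=
      Finsupp.single_mem_supported ℤ 1 hkΔ
    have heq : c + d = Finsupp.single k 1 :=
      finsupp_eq_of_linearCombination_eq P hΔ.linInd (Submodule.add_mem _ hc hd) hsk
        (by rw [map_add, hci, hdj, ← hkij]; simp)
    have hval : ∀ l, c l + d l = (Finsupp.single k (1 : ℤ)) l := fun l => by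
      rw [← heq]; rfl
    have hk1 := hval k
    rw [Finsupp.single_eq_same] at hk1
    have hck := hc0 k
    have hdk := hd0 k
    rcases (by omega : c k = 0 ∨ d k = 0) with h0 | h0
    · have hczero : c = 0 := by
        ext l
        by_cases hl : l = k
        · rw [hl, h0]; rfl
        · have := hval l
          rw [Finsupp.single_eq_of_ne hl] at this
          have h1 := hc0 l
          have h2 := hd0 l
          simp only [Finsupp.coe_zero, Pi.zero_apply]
          omega
      rw [hczero, map_zero] at hci
      exact P.ne_zero i hci.symm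
    · have hdzero : d = 0 := by
        ext l
        by_cases hl : l = k
        · rw [hl, h0]; rfl
        · have := hval l
          rw [Finsupp.single_eq_of_ne hl] at this
          have h1 := hc0 l
          have h2 := hd0 l
          simp only [Finsupp.coe_zero, Pi.zero_apply]
          omega
      rw [hdzero, map_zero] at hdj
      exact P.ne_zero j hdj.symm
  · intro hno
    by_contra hkΔ
    apply hno
    obtain ⟨c, hc, hc0, hck⟩ := exists_finsupp_of_mem_natSpan P hk
    have h2 : (2 : ℤ) = c.sum (fun j a => a * P.pairing j k) := by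
      have := congrArg (P.coroot' k) hck
      rw [P.root_coroot'_eq_pairing, P.pairing_same, Finsupp.linearCombination_apply,
        map_finsuppSum] at this
      rw [← this]
      simp [P.root_coroot'_eq_pairing]
    have hex : ∃ j ∈ c.support, 0 < c j * P.pairing j k := by
      by_contra hcon
      push Not at hcon
      have : c.sum (fun j a => a * P.pairing j k) ≤ 0 := Finset.sum_nonpos hcon
      omega
    obtain ⟨j, hjs, hj⟩ := hex
    have hjΔ : j ∈ Δ := hc hjs
    have hcj : 0 < c j := lt_of_le_of_ne (hc0 j) (Ne.symm (Finsupp.mem_support_iff.mp hjs))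
    have hp : 0 < P.pairing j k := (mul_pos_iff_of_pos_left hcj).mp hj
    have hp' : 0 < P.pairing k j := (pairing_pos_iff P j k).mp hp
    have hkj : k ≠ j := fun h => hkΔ (h ▸ hjΔ)
    have hp'' : 0 < P.pairingIn ℤ k j := by rw [pairingIn_eq]; exact hp'
    obtain ⟨m, hm⟩ := P.root_sub_root_mem_of_pairingIn_pos hp'' hkj
    refine ⟨m, j, ?_, subset_posOf P Δ hjΔ, by rw [hm]; abel⟩
    have hsj : Finsupp.single j (1 : ℤ) ∈ Finsupp.supported ℤ ℤ Δ :=
      Finsupp.single_mem_supported ℤ 1 hjΔ
    have : Finsupp.linearCombination ℤ P.root (c - Finsupp.single j 1) = P.root m := by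
      rw [map_sub, hck, hm]; simp
    change P.root m ∈ RootD.natSpan P Δ
    rw [← this]
    apply linearCombination_mem_natSpan P _ (Submodule.sub_mem _ hc hsj)
    intro l
    simp only [Finsupp.coe_sub, Pi.sub_apply]
    by_cases hl : l = j
    · subst hl
      rw [Finsupp.single_eq_same]; omega
    · rw [Finsupp.single_eq_of_ne hl]
      have := hc0 l
      omega

end Groth.Agent.S5450
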