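import Groth.Statements.S5456
import Groth.Agent.Lib.Helper3.RootD

set_option autoImplicit false
open RootD

namespace Groth.Agent.S5456

open Groth.Agent.Lib.helper3.RootDLib

/-- A set of roots is a system of positive roots if and only if it satisfies (P 1), (P 2) and is closed. -/
theorem result {ι M N : Type*} [AddCommGroup M] [AddCommGroup N]
    (P : RootPairing ι ℤ M N) [Finite ι] (S : Set ι) :
    RootD.IsPosSys P S ↔ ((∀ i ∈ S, P.reflectionPerm i i ∉ S) ∧ (∀ i : ι, i ∈ S ∨ P.reflectionPerm i i ∈ S) ∧
      RootD.IsClosedSub P S) := by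
  classical
  have : Module.IsReflexive ℤ M := isReflexive_left P
  constructor
  · intro hS
    refine ⟨fun i hi => hS.disjoint hi, hS.cover, ?_⟩
    intro i j k hi hj hk
    apply hS.sat 1 Nat.one_pos
    rw [one_smul, hk]
    exact AddSubmonoid.add_mem _ (root_mem_natSpan P hi) (root_mem_natSpan P hj)
  · rintro ⟨hP1, hP2, hcl⟩
    refine ⟨fun i hi => hP1 i hi, hP2, ?_⟩
    intro k n hn hk
    by_contra hkS
    have hnk : P.reflectionPerm k k ∈ S := (hP2 k).resolve_left hkS
    obtain ⟨c, hc, hc0, hck⟩ := exists_finsupp_of_mem_natSpan P hk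
    set d : ι →₀ ℤ := c + (n : ℤ) • Finsupp.single (P.reflectionPerm k k) 1 with hd
    have hdsupp : d ∈ Finsupp.supported ℤ ℤ S :=
      Submodule.add_mem _ hc (Submodule.smul_mem _ _ (Finsupp.single_mem_supported ℤ 1 hnk))
    have hd0 : ∀ j, 0 ≤ d j := by
      intro j
      simp only [hd, Finsupp.coe_add, Finsupp.coe_smul, Pi.add_apply, Pi.smul_apply, smul_eq_mul]
      have h1 : 0 ≤ (Finsupp.single (P.reflectionPerm k k) (1 : ℤ)) j := by
        rw [Finsupp.single_apply]; split_ifs <;> norm_num
      have h2 : (0 : ℤ) ≤ n := by positivity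
      have := hc0 j
      positivity
    have hdlc : Finsupp.linearCombination ℤ P.root d = 0 := by
      rw [hd, map_add, map_smul, hck, Finsupp.linearCombination_single, one_smul, root_neg,
        natCast_zsmul, smul_neg, add_neg_cancel]
    have hzero := eq_zero_of_linearCombination_eq_zero P hcl hP1 d hdsupp hd0 hdlc
    have := DFunLike.congr_fun hzero (P.reflectionPerm k k)
    simp only [hd, Finsupp.coe_add, Finsupp.coe_smul, Pi.add_apply, Pi.smul_apply, smul_eq_mul,
      Finsupp.single_eq_same, mul_one, Finsupp.coe_zero, Pi.zero_apply] at this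
    have h3 := hc0 (P.reflectionPerm k k)
    have h4 : (0 : ℤ) < n := by exact_mod_cast hn
    omega

end Groth.Agent.S5456
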