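import Groth.Statements.S5445
import Groth.Agent.Lib.Helper3.RootD
import Groth.Agent.S5456
import Groth.Agent.S5449
import Groth.Agent.S5450

set_option autoImplicit false
open RootD

namespace Groth.Agent.S5445

open Groth.Agent.Lib.helper3.RootDLib

section aux

variable {ι M N : Type*} [AddCommGroup M] [AddCommGroup N] (P : RootPairing ι ℤ M N)

/-- sign of the canonical form on a pair of roots with non-positive pairing -/
lemma rootForm_root_root_nonpos [Fintype ι] (i j : ι) (h : P.pairing i j ≤ 0) :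
    P.RootForm (P.root i) (P.root j) ≤ 0 := by
  have : Module.IsReflexive ℤ M := isReflexive_left P
  have h1 := (P.posRootForm ℤ).toInvariantForm.two_mul_apply_root_root i j
  simp only [RootPairing.RootPositiveForm.toInvariantForm_form] at h1
  change 2 * P.RootForm (P.root i) (P.root j) =
    P.pairing i j * P.RootForm (P.root j) (P.root j) at h1
  have hpos : 0 < P.RootForm (P.root j) (P.root j) :=
    P.rootForm_pos_of_ne_zero (Submodule.subset_span (Set.mem_range_self j)) (P.ne_zero j)
  nlinarith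

/-- Obtuse subsets of a closed set of roots without opposite pairs are linearly independent. -/
lemma linInd_of_obtuse [Fintype ι] {S Δ : Set ι} (hcl : IsClosedSub P S)
    (hP1 : ∀ i ∈ S, P.reflectionPerm i i ∉ S) (hΔS : Δ ⊆ S)
    (hobt : ∀ i ∈ Δ, ∀ j ∈ Δ, i ≠ j → P.pairing i j ≤ 0) : LinearIndepOn ℤ P.root Δ := by
  classical
  rw [linearIndepOn_iff]
  intro l hl hl0
  set p : ι → Prop := fun i => 0 < l i with hp
  set lp := l.filter p with hlp
  set ln := -(l.filter (fun i => ¬ p i)) with hln
  have hsum : lp - ln = l := by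
    rw [hln, sub_neg_eq_add]; exact Finsupp.filter_add_filter_not l p
  have hlp0 : ∀ j, 0 ≤ lp j := by
    intro j
    rw [hlp, Finsupp.filter_apply]
    split_ifs with h
    · exact h.le
    · exact le_rfl
  have hln0 : ∀ j, 0 ≤ ln j := by
    intro j
    rw [hln, Finsupp.neg_apply, Finsupp.filter_apply]
    by_cases h : p j
    · rw [if_neg (not_not.mpr h)]; simp
    · rw [if_pos h]
      have h' : ¬ 0 < l j := h
      omega
  have hlsub : (l.support : Set ι) ⊆ Δ := (Finsupp.mem_supported ℤ l).mp hl
  have hlpΔ : lp ∈ Finsupp.supported ℤ ℤ Δ := by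
    rw [Finsupp.mem_supported, hlp, Finsupp.support_filter]
    intro x hx
    exact hlsub (Finset.mem_of_mem_filter x hx)
  have hlnΔ : ln ∈ Finsupp.supported ℤ ℤ Δ := by
    rw [Finsupp.mem_supported, hln, Finsupp.support_neg, Finsupp.support_filter]
    intro x hx
    exact hlsub (Finset.mem_of_mem_filter x hx)
  have hxy : Finsupp.linearCombination ℤ P.root lp = Finsupp.linearCombination ℤ P.root ln := by
    rw [← sub_eq_zero, ← map_sub, hsum, hl0]
  have hB : P.RootForm (Finsupp.linearCombination ℤ P.root lp)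
      (Finsupp.linearCombination ℤ P.root ln) ≤ 0 := by
    rw [Finsupp.linearCombination_apply, Finsupp.linearCombination_apply, Finsupp.sum, Finsupp.sum]
    simp only [map_sum, LinearMap.sum_apply, map_smul, LinearMap.smul_apply, smul_eq_mul]
    apply Finset.sum_nonpos
    intro j hj
    apply mul_nonpos_of_nonneg_of_nonpos (hln0 j)
    apply Finset.sum_nonpos
    intro i hi
    apply mul_nonpos_of_nonneg_of_nonpos (hlp0 i)
    have hpi : p i := by
      by_contra hpi
      have : lp i = 0 := by rw [hlp, Finsupp.filter_apply, if_neg hpi]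
      exact (Finsupp.mem_support_iff.mp hi) this
    have hpj : ¬ p j := by
      intro hpj
      have : ln j = 0 := by
        rw [hln, Finsupp.neg_apply, Finsupp.filter_apply, if_neg (not_not.mpr hpj), neg_zero]
      exact (Finsupp.mem_support_iff.mp hj) this
    have hij : i ≠ j := by
      rintro rfl
      exact hpj hpi
    exact rootForm_root_root_nonpos P i j (hobt i (hlpΔ hi) j (hlnΔ hj) hij)
  have hxspan : Finsupp.linearCombination ℤ P.root lp ∈ P.rootSpan ℤ := by
    change _ ∈ Submodule.span ℤ (Set.range P.root)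
    rw [← Finsupp.range_linearCombination]
    exact ⟨lp, rfl⟩
  have hx0 : Finsupp.linearCombination ℤ P.root lp = 0 := by
    apply P.eq_zero_of_mem_rootSpan_of_rootForm_self_eq_zero hxspan
    apply le_antisymm _ (P.zero_le_rootForm _)
    have := hB
    rw [← hxy] at this
    exact this
  have hlp00 : lp = 0 :=
    eq_zero_of_linearCombination_eq_zero P hcl hP1 lp
      (Finsupp.supported_mono hΔS hlpΔ) hlp0 hx0
  have hln00 : ln = 0 :=
    eq_zero_of_linearCombination_eq_zero P hcl hP1 ln
      (Finsupp.supported_mono hΔS hlnΔ) hln0 (by rw [← hxy, hx0])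
  rw [← hsum, hlp00, hln00, sub_zero]

/-- Every element of a closed set of roots without opposite pairs is a non-negative integer
combination of indecomposable elements. -/
lemma mem_natSpan_indec [Finite ι] {S : Set ι} (hcl : IsClosedSub P S)
    (hP1 : ∀ i ∈ S, P.reflectionPerm i i ∉ S) :
    ∀ k ∈ S, P.root k ∈ natSpan P
      {k | k ∈ S ∧ ¬ ∃ i j, i ∈ S ∧ j ∈ S ∧ P.root k = P.root i + P.root j} := by
  set Δ : Set ι := {k | k ∈ S ∧ ¬ ∃ i j, i ∈ S ∧ j ∈ S ∧ P.root k = P.root i + P.root j} with hΔ
  let r : ι → ι → Prop := fun a b => ∃ c : ι →₀ ℤ, c ∈ Finsupp.supported ℤ ℤ S ∧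
    (∀ j, 0 ≤ c j) ∧ c ≠ 0 ∧ P.root b = P.root a + Finsupp.linearCombination ℤ P.root c
  haveI : IsTrans ι r := ⟨by
    rintro a b d ⟨c, hc, hc0, hcne, hab⟩ ⟨c', hc', hc'0, hc'ne, hbd⟩
    refine ⟨c + c', Submodule.add_mem _ hc hc', fun j => add_nonneg (hc0 j) (hc'0 j), ?_, ?_⟩
    · intro h; exact hcne (eq_zero_of_add_eq_zero hc0 hc'0 h)
    · rw [hbd, hab, map_add, add_assoc]⟩
  haveI : Std.Irrefl r := ⟨by
    rintro a ⟨c, hc, hc0, hcne, haa⟩
    apply hcne
    apply eq_zero_of_linearCombination_eq_zero P hcl hP1 c hc hc0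
    exact left_eq_add.mp haa⟩
  have hwf : WellFounded r := Finite.wellFounded_of_trans_of_irrefl r
  intro k
  induction k using hwf.induction with
  | _ k ih =>
    intro hk
    by_cases hkΔ : k ∈ Δ
    · exact root_mem_natSpan P hkΔ
    · have hex : ∃ i j, i ∈ S ∧ j ∈ S ∧ P.root k = P.root i + P.root j := by
        by_contra h; exact hkΔ ⟨hk, h⟩
      obtain ⟨i, j, hi, hj, hkij⟩ := hex
      have hsingle : ∀ j : ι, (Finsupp.single j (1 : ℤ)) ≠ 0 := by
        intro j h
        have := DFunLike.congr_fun h j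
        simp at this
      have hsingle0 : ∀ (j j' : ι), 0 ≤ (Finsupp.single j (1 : ℤ)) j' := by
        intro j j'
        classical
        rw [Finsupp.single_apply]; split_ifs <;> norm_num
      rw [hkij]
      apply add_mem
      · exact ih i ⟨Finsupp.single j 1, Finsupp.single_mem_supported ℤ 1 hj, hsingle0 j, hsingle j,
          by simp [hkij]⟩ hi
      · exact ih j ⟨Finsupp.single i 1, Finsupp.single_mem_supported ℤ 1 hi, hsingle0 i, hsingle i,
          by simp [hkij, add_comm]⟩ hj

end aux

/-- A system of positive roots of a root datum contains exactly one system of simple roots (simple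
systems in the sense of conditions on roots only: linearly independent, every root a non-negative or
non-positive integer combination). -/
theorem result {ι M N : Type*} [AddCommGroup M] [AddCommGroup N]
    (P : RootPairing ι ℤ M N) [Finite ι] (S : Set ι) (hS : RootD.IsPosSys P S) :
    ∃! Δ : Set ι, RootD.IsSimpleSys P Δ ∧ Δ ⊆ S := by
  classical
  have : Module.IsReflexive ℤ M := isReflexive_left P
  have : Fintype ι := Fintype.ofFinite ι
  obtain ⟨hP1, hP2, hcl⟩ := (Groth.Agent.S5456.result P S).mp hS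
  set Δ : Set ι := {k | k ∈ S ∧ ¬ ∃ i j, i ∈ S ∧ j ∈ S ∧ P.root k = P.root i + P.root j}
    with hΔdef
  have hΔS : Δ ⊆ S := fun k hk => hk.1
  have hspan : ∀ k ∈ S, P.root k ∈ natSpan P Δ := mem_natSpan_indec P hcl hP1
  have hobt : ∀ i ∈ Δ, ∀ j ∈ Δ, i ≠ j → P.pairing i j ≤ 0 := by
    intro i hi j hj hij
    by_contra hpos
    push Not at hpos
    have hpos' : 0 < P.pairingIn ℤ i j := by rw [pairingIn_eq]; exact hpos
    obtain ⟨k, hk⟩ := P.root_sub_root_mem_of_pairingIn_pos hpos' hij
    rcases hP2 k with hkS | hkS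
    · exact hi.2 ⟨k, j, hkS, hj.1, by rw [hk]; abel⟩
    · exact hj.2 ⟨P.reflectionPerm k k, i, hkS, hi.1, by rw [root_neg, hk]; abel⟩
  have hsimple : IsSimpleSys P Δ := by
    refine ⟨linInd_of_obtuse P hcl hP1 hΔS hobt, ?_⟩
    intro i
    rcases hP2 i with h | h
    · exact Or.inl (hspan i h)
    · right
      have := hspan _ h
      rwa [root_neg] at this
  refine ⟨Δ, ⟨hsimple, hΔS⟩, ?_⟩
  rintro Δ' ⟨hΔ', hsub'⟩
  have hSeq : S = posOf P Δ' := ((Groth.Agent.S5449.result P Δ' hΔ' S hS).2).mp hsub'
  ext k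
  constructor
  · intro hk
    have hkpos : k ∈ posOf P Δ' := subset_posOf P Δ' hk
    have h1 := (Groth.Agent.S5450.result P Δ' hΔ' k hkpos).mp hk
    refine ⟨hsub' hk, ?_⟩
    rw [hSeq]
    exact h1
  · rintro ⟨hkS, hnd⟩
    have hkpos : k ∈ posOf P Δ' := hSeq ▸ hkS
    apply (Groth.Agent.S5450.result P Δ' hΔ' k hkpos).mpr
    rw [← hSeq]
    exact hnd

end Groth.Agent.S5445
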