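import Groth.Statements.S5506
-- import your own Groth.Agent.* helpers here

set_option autoImplicit false
open RootD

namespace Groth.Agent.S5506

/-- The class of a root under 'joined by a chain of pairwise non-orthogonal roots' is closed and
symmetric, and so is its complement; these classes are the irreducible components. -/
theorem result {ι M N : Type*} [AddCommGroup M] [AddCommGroup N]
    (P : RootPairing ι ℤ M N) [Finite ι] (i : ι) :
    RootD.IsClosedSub P {j : ι | Relation.ReflTransGen (fun a b : ι => ¬ P.IsOrthogonal a b) i j} ∧
      RootD.IsSymmSub P {j : ι | Relation.ReflTransGen (fun a b : ι => ¬ P.IsOrthogonal a b) i j} ∧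
      RootD.IsClosedSub P {j : ι | Relation.ReflTransGen (fun a b : ι => ¬ P.IsOrthogonal a b) i j}ᶜ ∧
      RootD.IsSymmSub P {j : ι | Relation.ReflTransGen (fun a b : ι => ¬ P.IsOrthogonal a b) i j}ᶜ := by
  -- a root sum is non-orthogonal to one of its summands
  have key : ∀ a b k : ι, P.root k = P.root a + P.root b →
      ¬ P.IsOrthogonal a k ∨ ¬ P.IsOrthogonal b k := by
    intro a b k h
    have h2 : P.pairing k k = P.pairing a k + P.pairing b k :=
      RootPairing.pairing_eq_add_of_root_eq_add h
    rw [P.pairing_same] at h2
    by_cases ha : P.pairing a k = 0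
    · right
      intro ho
      rw [ha, ho.1] at h2
      norm_num at h2
    · left
      exact fun ho => ha ho.1
  have hnegorth : ∀ a : ι, ¬ P.IsOrthogonal a (P.reflectionPerm a a) := by
    intro a ho
    have := ho.1
    rw [P.pairing_reflectionPerm_self_right, P.pairing_same] at this
    norm_num at this
  have hsymm : ∀ a b : ι, ¬ P.IsOrthogonal a b → ¬ P.IsOrthogonal b a :=
    fun a b h ho => h ho.symm
  refine ⟨?_, ?_, ?_, ?_⟩
  · intro a b k ha hb h
    rcases key a b k h with h1 | h1
    · exact Relation.ReflTransGen.tail ha h1
    · exact Relation.ReflTransGen.tail hb h1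
  · intro a ha
    exact Relation.ReflTransGen.tail ha (hnegorth a)
  · intro a b k ha hb h hk
    rcases key a b k h with h1 | h1
    · exact ha (Relation.ReflTransGen.tail hk (hsymm _ _ h1))
    · exact hb (Relation.ReflTransGen.tail hk (hsymm _ _ h1))
  · intro a ha hna
    exact ha (Relation.ReflTransGen.tail hna (hsymm _ _ (hnegorth a)))

end Groth.Agent.S5506
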