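import Groth.Statements.S5492
import Groth.Agent.Lib.Helper3.RootD

set_option autoImplicit false
open RootD

namespace Groth.Agent.S5492

open Groth.Agent.Lib.helper3.RootDLib

/-- Off-diagonal entries of the Cartan matrix of a system of simple roots are non-positive: (α^v, β) ≤ 0
for distinct simple roots α, β. -/
theorem result {ι M N : Type*} [AddCommGroup M] [AddCommGroup N]
    (P : RootPairing ι ℤ M N) [Finite ι] (Δ : Set ι) (hΔ : RootD.IsSimpleSys P Δ) (i j : ι)
    (hi : i ∈ Δ) (hj : j ∈ Δ) (hij : i ≠ j) : P.pairing j i ≤ 0 := by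
  classical
  by_contra hpos
  push Not at hpos
  have hpos' : 0 < P.pairingIn ℤ j i := by rw [pairingIn_eq]; exact hpos
  obtain ⟨k, hk⟩ := P.root_sub_root_mem_of_pairingIn_pos hpos' (Ne.symm hij)
  have hsi : Finsupp.single i (1 : ℤ) ∈ Finsupp.supported ℤ ℤ Δ :=
    Finsupp.single_mem_supported ℤ 1 hi
  have hsj : Finsupp.single j (1 : ℤ) ∈ Finsupp.supported ℤ ℤ Δ :=
    Finsupp.single_mem_supported ℤ 1 hj
  rcases hΔ.mem_or_neg_mem k with h | h
  · obtain ⟨c, hc, hc0, hck⟩ := exists_finsupp_of_mem_natSpan P h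
    have := finsupp_eq_of_linearCombination_eq P hΔ.linInd hc (Submodule.sub_mem _ hsj hsi)
      (by rw [hck, hk]; simp)
    have h3 := DFunLike.congr_fun this i
    simp only [Finsupp.coe_sub, Pi.sub_apply, Finsupp.single_eq_same,
      Finsupp.single_eq_of_ne hij] at h3
    have := hc0 i
    omega
  · obtain ⟨c, hc, hc0, hck⟩ := exists_finsupp_of_mem_natSpan P h
    have := finsupp_eq_of_linearCombination_eq P hΔ.linInd hc (Submodule.sub_mem _ hsi hsj)
      (by rw [hck, hk]; simp)
    have h3 := DFunLike.congr_fun this j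
    simp only [Finsupp.coe_sub, Pi.sub_apply, Finsupp.single_eq_same,
      Finsupp.single_eq_of_ne hij.symm] at h3
    have := hc0 j
    omega

end Groth.Agent.S5492
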