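import Groth.Statements.S5455
import Groth.Agent.Lib.Helper3.RootD2
import Groth.Agent.S5445
import Groth.Agent.S5448
import Groth.Agent.S5466
import Groth.Agent.S5449

set_option autoImplicit false
open RootPairing
open scoped Pointwise
open RootD

namespace Groth.Agent.S5455

open Groth.Agent.Lib.helper3.RootDLib

/-- The Weyl group acts transitively on the set of systems of simple roots (root-only sense). -/
theorem result {ι M N : Type*} [AddCommGroup M] [AddCommGroup N]
    (P : RootPairing ι ℤ M N) [Finite ι] (Δ Δ' : Set ι) (hΔ : RootD.IsSimpleSys P Δ)
    (hΔ' : RootD.IsSimpleSys P Δ') :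
    ∃ g : P.Aut, g ∈ P.weylGroup ∧ (fun i : ι => g • i) '' Δ = Δ' := by
  classical
  have : Module.IsReflexive ℤ M := isReflexive_left P
  have hS' : IsPosSys P (posOf P Δ') := isPosSys_posOf P hΔ'
  have main : ∀ (n : ℕ) (Δ : Set ι), IsSimpleSys P Δ → (posOf P Δ \ posOf P Δ').ncard = n →
      ∃ g : P.Aut, g ∈ P.weylGroup ∧ (fun i : ι => g • i) '' Δ = Δ' := by
    intro n
    induction n using Nat.strong_induction_on with
    | _ n ih =>
      intro Δ hΔ hn
      have hS : IsPosSys P (posOf P Δ) := isPosSys_posOf P hΔ
      by_cases hsub : Δ ⊆ posOf P Δ'
      · -- then the positive systems agree, hence the simple systems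
        have heq : posOf P Δ' = posOf P Δ :=
          ((Groth.Agent.S5449.result P Δ hΔ (posOf P Δ') hS').2).mp hsub
        obtain ⟨Δ₀, _, huniq⟩ := Groth.Agent.S5445.result P (posOf P Δ) hS
        have h1 : Δ = Δ₀ := huniq Δ ⟨hΔ, subset_posOf P Δ⟩
        have h2 : Δ' = Δ₀ := huniq Δ' ⟨hΔ', heq ▸ subset_posOf P Δ'⟩
        refine ⟨1, one_mem _, ?_⟩
        rw [h1, h2]
        simp
      · obtain ⟨i, hiΔ, hiS'⟩ := Set.not_subset.mp hsub
        have hi_pos : i ∈ posOf P Δ := subset_posOf P Δ hiΔ
        have hneg_i : -P.root i ∈ natSpan P Δ' := by
          rcases hΔ'.mem_or_neg_mem i with h | h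
          · exact absurd h hiS'
          · exact h
        have hind : IsIndiv P i := Groth.Agent.S5448.result P Δ hΔ i hiΔ
        set s : P.Aut := Equiv.reflection P i with hs
        set Δ₁ : Set ι := (fun j : ι => s • j) '' Δ with hΔ₁
        have hΔ₁s : IsSimpleSys P Δ₁ := isSimpleSys_image P s hΔ
        have hsi : P.root (s • i) = -P.root i := by
          rw [root_smul, hs, RootPairing.Equiv.reflection_smul, P.reflection_apply_self]
        have hsubset : posOf P Δ₁ \ posOf P Δ' ⊂ posOf P Δ \ posOf P Δ' := by
          rw [Set.ssubset_iff_of_subset]
          · refine ⟨i, ⟨hi_pos, hiS'⟩, ?_⟩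
            rintro ⟨hi1, _⟩
            rw [hΔ₁, posOf_image] at hi1
            obtain ⟨k', hk', hk'i⟩ := hi1
            -- k' = s • i
            have hk'eq : k' = s • i := by
              have : s • (s • k') = s • i := by
                change s • k' = i at hk'i
                rw [hk'i]
              rw [← mul_smul] at this
              have hss : s * s = 1 := by
                rw [hs, mul_eq_one_iff_inv_eq, RootPairing.Equiv.reflection_inv]
              rw [hss, one_smul] at this
              exact this
            rw [hk'eq] at hk'
            have : P.reflectionPerm i i ∈ posOf P Δ := by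
              have e : P.reflectionPerm i i = s • i := by
                apply P.root.injective
                rw [root_neg, hsi]
              rw [e]; exact hk'
            exact hS.disjoint hi_pos this
          · rintro k ⟨hk1, hk2⟩
            refine ⟨?_, hk2⟩
            rw [hΔ₁, posOf_image] at hk1
            obtain ⟨k', hk', rfl⟩ := hk1
            change s • k' ∈ posOf P Δ
            by_cases hli : LinearIndependent ℤ ![P.root k', P.root i]
            · exact Groth.Agent.S5466.result P Δ hΔ k' i hk' hiΔ hli
            · exfalso
              have hli' : ¬ LinearIndependent ℤ ![P.root i, P.root k'] := by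
                intro h
                apply hli
                rw [LinearIndependent.pair_symm_iff]
                exact h
              have hrk : P.root (s • k') = P.reflection i (P.root k') := by
                rw [root_smul, hs, RootPairing.Equiv.reflection_smul]
              rcases proportional_cases P i k' hli' with h | h | h | h | h | h
              · -- root k' = root i
                apply hk2
                change P.root (s • k') ∈ natSpan P Δ'
                rw [hrk, h, P.reflection_apply_self]
                exact hneg_i
              · -- root k' = - root i
                have e : P.reflectionPerm i i = k' := by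
                  apply P.root.injective
                  rw [root_neg, h]
                exact hS.disjoint hi_pos (e ▸ hk')
              · -- root k' = 2 root i
                apply hk2
                change P.root (s • k') ∈ natSpan P Δ'
                rw [hrk, h, map_smul, P.reflection_apply_self, two_smul]
                exact add_mem hneg_i hneg_i
              · -- root k' = -(2 root i)
                have hmem : P.root (P.reflectionPerm k' k') ∈ natSpan P Δ := by
                  rw [root_neg, h, neg_neg, two_smul]
                  exact add_mem hi_pos hi_pos
                exact hS.disjoint hk' hmem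
              · -- root i = 2 root k'
                exact hind k' h.symm
              · -- root i = -(2 root k')
                apply hind (P.reflectionPerm k' k')
                rw [root_neg, h, smul_neg]
        have hlt : (posOf P Δ₁ \ posOf P Δ').ncard < n := by
          rw [← hn]
          exact Set.ncard_lt_ncard hsubset (Set.toFinite _)
        obtain ⟨g₁, hg₁, hg₁Δ⟩ := ih _ hlt Δ₁ hΔ₁s rfl
        refine ⟨g₁ * s, mul_mem hg₁ (P.reflection_mem_weylGroup i), ?_⟩
        rw [← hg₁Δ, hΔ₁, Set.image_image]
        simp only [mul_smul]
  exact main _ Δ hΔ rfl

end Groth.Agent.S5455
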