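import Groth.Statements.S5454
import Groth.Agent.Lib.Helper3.RootD2
import Groth.Agent.S5445
import Groth.Agent.S5455
import Groth.Agent.S5449

set_option autoImplicit false
open RootPairing
open scoped Pointwise
open RootD

namespace Groth.Agent.S5454

open Groth.Agent.Lib.helper3.RootDLib

/-- The Weyl group acts transitively on the set of systems of positive roots. -/
theorem result {ι M N : Type*} [AddCommGroup M] [AddCommGroup N]
    (P : RootPairing ι ℤ M N) [Finite ι] (S S' : Set ι) (hS : RootD.IsPosSys P S)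
    (hS' : RootD.IsPosSys P S') :
    ∃ g : P.Aut, g ∈ P.weylGroup ∧ (fun i : ι => g • i) '' S = S' := by
  obtain ⟨Δ, ⟨hΔ, hΔS⟩, _⟩ := Groth.Agent.S5445.result P S hS
  obtain ⟨Δ', ⟨hΔ', hΔS'⟩, _⟩ := Groth.Agent.S5445.result P S' hS'
  have h1 : S = posOf P Δ := ((Groth.Agent.S5449.result P Δ hΔ S hS).2).mp hΔS
  have h2 : S' = posOf P Δ' := ((Groth.Agent.S5449.result P Δ' hΔ' S' hS').2).mp hΔS'
  obtain ⟨g, hg, hgΔ⟩ := Groth.Agent.S5455.result P Δ Δ' hΔ hΔ'
  refine ⟨g, hg, ?_⟩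
  rw [h1, h2, ← posOf_image, hgΔ]

end Groth.Agent.S5454
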