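import Groth.Statements.S14891
import Mathlib

set_option autoImplicit false
universe u
open CAlg

namespace Groth.Agent.S14891

open MvPolynomial IsLocalRing

set_option linter.style.haveILetI false
set_option linter.unusedSectionVars false
set_option linter.unusedVariables false

section
variable {K L Γ₀ Γ₁ : Type u} [Field K] [Field L] [Algebra K L]
    [LinearOrderedCommGroupWithZero Γ₀] [LinearOrderedCommGroupWithZero Γ₁]
    (vK : Valuation K Γ₀) (vL : Valuation L Γ₁) [vK.HasExtension vL]

theorem gauss {ι' : Type*} (y : ι' → vL.valuationSubring)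
    (hy : AlgebraicIndependent (ResidueField vK.valuationSubring)
      (fun j => residue vL.valuationSubring (y j)))
    (R : MvPolynomial ι' K) (hR : R ≠ 0) :
    ∃ c : K, c ≠ 0 ∧ vL (aeval (fun j => (y j : L)) R) = vL (algebraMap K L c) := by
  classical
  obtain ⟨m₀, hm₀, hmax⟩ := Finset.exists_max_image R.support (fun m => vK (coeff m R))
    (MvPolynomial.support_nonempty.mpr hR)
  set c := coeff m₀ R with hc
  have hc0 : c ≠ 0 := mem_support_iff.mp hm₀
  have hvc0 : vK c ≠ 0 := (Valuation.ne_zero_iff _).mpr hc0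
  refine ⟨c, hc0, ?_⟩
  have hle : ∀ m, vK (c⁻¹ * coeff m R) ≤ 1 := by
    intro m
    by_cases hm : m ∈ R.support
    · have := hmax m hm
      rw [map_mul, map_inv₀]
      exact inv_mul_le_one_of_le₀ this zero_le
    · simp [notMem_support_iff.mp hm]
  let a : (ι' →₀ ℕ) → vK.valuationSubring := fun m => ⟨c⁻¹ * coeff m R, hle m⟩
  let Rbar : MvPolynomial ι' (ResidueField vK.valuationSubring) :=
    ∑ m ∈ R.support, monomial m (residue _ (a m))
  have ha0 : a m₀ = 1 := by
    apply Subtype.ext
    simp only [a]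
    rw [← hc, inv_mul_cancel₀ hc0]; rfl
  have hRbar : coeff m₀ Rbar = 1 := by
    simp only [Rbar, coeff_sum, coeff_monomial]
    rw [Finset.sum_ite_eq' R.support m₀]
    simp [hm₀, ha0]
  have hne : aeval (fun j => residue vL.valuationSubring (y j)) Rbar ≠ 0 := by
    intro h
    have := (algebraicIndependent_iff.mp hy) Rbar h
    rw [this] at hRbar; simp at hRbar
  let z' : vL.valuationSubring := ∑ m ∈ R.support,
    algebraMap vK.valuationSubring vL.valuationSubring (a m) * ∏ j ∈ m.support, y j ^ m j
  have hz1 : aeval (fun j => residue vL.valuationSubring (y j)) Rbar = residue _ z' := by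
    simp only [Rbar, z', map_sum, aeval_monomial, map_mul, map_prod, map_pow, Finsupp.prod]
    rfl
  have hz2 : (z' : L) = algebraMap K L c⁻¹ * aeval (fun j => (y j : L)) R := by
    rw [aeval_def, eval₂_eq, Finset.mul_sum]
    simp only [z']
    push_cast
    refine Finset.sum_congr rfl fun m hm => ?_
    rw [Valuation.HasExtension.coe_algebraMap_valuationSubring_eq]
    simp only [a, map_mul, map_inv₀, Algebra.cast]
    ring
  have hv : vL (z' : L) = 1 := by
    have h1 : ¬ (z' ∈ maximalIdeal vL.valuationSubring) := by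
      rw [← residue_eq_zero_iff, ← hz1]; exact hne
    rw [Valuation.mem_maximalIdeal_iff] at h1
    exact le_antisymm ((Valuation.mem_valuationSubring_iff _ _).mp z'.2) (not_lt.mp h1)
  rw [hz2, map_mul, map_inv₀, map_inv₀] at hv
  have hvc : vL (algebraMap K L c) ≠ 0 := by
    rw [Valuation.ne_zero_iff]; simpa using hc0
  field_simp at hv
  exact hv.symm ▸ rfl

theorem key {ι ι' : Type*} (xL : ι → L) (yL : ι' → L) (P : MvPolynomial (ι ⊕ ι') K) :
    aeval (Sum.elim xL yL) P =
      eval₂ ((aeval yL : MvPolynomial ι' K →ₐ[K] L) : MvPolynomial ι' K →+* L) xL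
        (sumAlgEquiv K ι ι' P) := by
  have : ((aeval (Sum.elim xL yL) : MvPolynomial (ι ⊕ ι') K →ₐ[K] L) : _ →+* L) =
      (eval₂Hom ((aeval yL : MvPolynomial ι' K →ₐ[K] L) : MvPolynomial ι' K →+* L) xL).comp
        ((sumAlgEquiv K ι ι').toAlgHom.toRingHom) := by
    apply MvPolynomial.ringHom_ext
    · intro r; simp
    · rintro (i | j) <;> simp
  exact congrArg (fun f => f P) this

theorem main {ι ι' : Type*} {A : Type*} [AddCommGroup A] (π : Additive Lˣ →+ A)
    (hπ1 : ∀ w : Lˣ, w ∈ vL.valuationSubring.unitGroup → π (Additive.ofMul w) = 0)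
    (hπ2 : ∀ k : Kˣ, π (Additive.ofMul (Units.map (algebraMap K L).toMonoidHom k)) = 0)
    (x : ι → Lˣ) (y : ι' → vL.valuationSubring)
    (hx : LinearIndependent ℤ (fun i => π (Additive.ofMul (x i))))
    (hy : AlgebraicIndependent (ResidueField vK.valuationSubring)
      (fun j => residue vL.valuationSubring (y j))) :
    AlgebraicIndependent K (Sum.elim (fun i => (x i : L)) (fun j => (y j : L))) := by
  classical
  rw [algebraicIndependent_iff]
  intro P hP
  by_contra hP0
  set Q := sumAlgEquiv K ι ι' P with hQ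
  have hQ0 : Q ≠ 0 := by
    rw [hQ]; exact (EmbeddingLike.map_ne_zero_iff).mpr hP0
  rw [key, eval₂_eq] at hP
  set term : (ι →₀ ℕ) → L := fun α =>
    (aeval (fun j => (y j : L)) (coeff α Q)) * ∏ i ∈ α.support, (x i : L) ^ α i with hterm
  have hP' : ∑ α ∈ Q.support, term α = 0 := hP
  have hg : ∀ α ∈ Q.support, ∃ c : K, c ≠ 0 ∧
      vL (aeval (fun j => (y j : L)) (coeff α Q)) = vL (algebraMap K L c) :=
    fun α hα => gauss vK vL y hy _ (mem_support_iff.mp hα)
  have hprod : ∀ α : ι →₀ ℕ, (∏ i ∈ α.support, (x i : L) ^ α i) =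
      ((∏ i ∈ α.support, x i ^ α i : Lˣ) : L) := by
    intro α; push_cast; rfl
  have hterm_ne : ∀ α ∈ Q.support, vL (term α) ≠ 0 := by
    intro α hα
    obtain ⟨c, hc0, hc⟩ := hg α hα
    simp only [hterm, map_mul, hc, hprod]
    refine mul_ne_zero ?_ ?_
    · rw [Valuation.ne_zero_iff]; simpa using hc0
    · rw [Valuation.ne_zero_iff]; exact Units.ne_zero _
  have hsum : ∀ γ : ι →₀ ℕ, π (Additive.ofMul (∏ i ∈ γ.support, x i ^ γ i)) =
      Finsupp.linearCombination ℤ (fun i => π (Additive.ofMul (x i)))
        (γ.mapRange (Nat.cast : ℕ → ℤ) rfl) := by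
    intro γ
    rw [Finsupp.linearCombination_apply, Finsupp.sum_mapRange_index (by intro i; simp)]
    simp [Finsupp.sum, ofMul_prod, ofMul_pow, map_sum, map_nsmul]
  have hdist : ∀ α ∈ Q.support, ∀ β ∈ Q.support, vL (term α) = vL (term β) → α = β := by
    intro α hα β hβ hαβ
    obtain ⟨c, hc0, hc⟩ := hg α hα
    obtain ⟨d, hd0, hd⟩ := hg β hβ
    simp only [hterm, map_mul, hc, hd, hprod] at hαβ
    set Xα : Lˣ := ∏ i ∈ α.support, x i ^ α i
    set Xβ : Lˣ := ∏ i ∈ β.support, x i ^ β i
    set c' : Lˣ := Units.map (algebraMap K L).toMonoidHom (Units.mk0 c hc0) with hc'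
    set d' : Lˣ := Units.map (algebraMap K L).toMonoidHom (Units.mk0 d hd0) with hd'
    have hc'v : (c' : L) = algebraMap K L c := rfl
    have hd'v : (d' : L) = algebraMap K L d := rfl
    have hne : vL (algebraMap K L d) * vL (Xβ : L) ≠ 0 := by
      refine mul_ne_zero ?_ ?_
      · rw [Valuation.ne_zero_iff]; simpa using hd0
      · rw [Valuation.ne_zero_iff]; exact Units.ne_zero _
    have hu : (c' * Xα) * (d' * Xβ)⁻¹ ∈ vL.valuationSubring.unitGroup := by
      rw [Valuation.mem_unitGroup_iff]
      rw [Units.val_mul, Units.val_inv_eq_inv_val, Units.val_mul, Units.val_mul, hc'v, hd'v,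
        map_mul, map_inv₀, map_mul, map_mul, hαβ]
      exact mul_inv_cancel₀ hne
    have h1 := hπ1 _ hu
    have h2 : π (Additive.ofMul c') = 0 := hπ2 _
    have h3 : π (Additive.ofMul d') = 0 := hπ2 _
    rw [ofMul_mul, ofMul_inv, ofMul_mul, ofMul_mul, map_add, map_neg, map_add, map_add, h2, h3,
      zero_add, zero_add, add_neg_eq_zero] at h1
    rw [hsum α, hsum β] at h1
    have h4 := hx h1
    exact Finsupp.mapRange_injective _ rfl Nat.cast_injective h4
  obtain ⟨α₀, hα₀, hmax⟩ := Finset.exists_max_image Q.support (fun α => vL (term α))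
    (MvPolynomial.support_nonempty.mpr hQ0)
  have hval : vL (∑ α ∈ Q.support, term α) = vL (term α₀) := by
    refine Valuation.map_sum_eq_of_lt vL hα₀ (fun α hα => ?_)
    rw [Finset.mem_sdiff, Finset.mem_singleton] at hα
    exact lt_of_le_of_ne (hmax α hα.1) (fun h => hα.2 (hdist α hα.1 α₀ hα₀ h))
  rw [hP', map_zero] at hval
  exact hterm_ne α₀ hα₀ hval.symm
end


/-- Let L/K be an extension of valued fields, i.e. v_L is a valuation on L whose restriction to K is
equivalent to v_K. Write E for the rational rank of the quotient of value groups |L^×|/|K^×| — here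
the rank of the abelian group L^× modulo the subgroup generated by the units of the valuation ring
of v_L and the image of K^× — and F for the transcendence degree of the residue field of v_L over
that of v_K. Then E + F ≤ tr.deg(L/K) (an inequality of cardinals). -/
theorem result
    {K L Γ₀ Γ₁ : Type u} [Field K] [Field L] [Algebra K L]
    [LinearOrderedCommGroupWithZero Γ₀] [LinearOrderedCommGroupWithZero Γ₁]
    (vK : Valuation K Γ₀) (vL : Valuation L Γ₁) [vK.HasExtension vL] :
    Module.rank ℤ (Additive Lˣ ⧸ Subgroup.toAddSubgroup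
        (vL.valuationSubring.unitGroup ⊔ (Units.map (algebraMap K L).toMonoidHom).range)) +
      Algebra.trdeg (IsLocalRing.ResidueField vK.valuationSubring)
        (IsLocalRing.ResidueField vL.valuationSubring) ≤ Algebra.trdeg K L := by
  classical
  obtain ⟨s, hs, hsli⟩ := exists_set_linearIndependent_of_isDomain ℤ
    (Additive Lˣ ⧸ Subgroup.toAddSubgroup
        (vL.valuationSubring.unitGroup ⊔ (Units.map (algebraMap K L).toMonoidHom).range))
  obtain ⟨t, ht⟩ := exists_isTranscendenceBasis (IsLocalRing.ResidueField vK.valuationSubring)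
        (IsLocalRing.ResidueField vL.valuationSubring)
  rw [← hs, ← ht.cardinalMk_eq_trdeg]
  have hsurj : ∀ q : Additive Lˣ ⧸ Subgroup.toAddSubgroup
      (vL.valuationSubring.unitGroup ⊔ (Units.map (algebraMap K L).toMonoidHom).range),
      ∃ u : Lˣ, (QuotientAddGroup.mk' _ (Additive.ofMul u)) = q := fun q => by
    obtain ⟨a, rfl⟩ := QuotientAddGroup.mk_surjective q; exact ⟨a.toMul, rfl⟩
  choose xr hxr using hsurj
  have hsurj' : ∀ r : IsLocalRing.ResidueField vL.valuationSubring,
      ∃ b : vL.valuationSubring, IsLocalRing.residue _ b = r := IsLocalRing.residue_surjective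
  choose yr hyr using hsurj'
  have h1 : ∀ w : Lˣ, w ∈ vL.valuationSubring.unitGroup →
      (QuotientAddGroup.mk' (Subgroup.toAddSubgroup
        (vL.valuationSubring.unitGroup ⊔ (Units.map (algebraMap K L).toMonoidHom).range)))
        (Additive.ofMul w) = 0 :=
    fun w hw => (QuotientAddGroup.eq_zero_iff _).mpr
      (show w ∈ (vL.valuationSubring.unitGroup ⊔ (Units.map (algebraMap K L).toMonoidHom).range)
        from Subgroup.mem_sup_left hw)
  have h2 : ∀ k : Kˣ,
      (QuotientAddGroup.mk' (Subgroup.toAddSubgroup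
        (vL.valuationSubring.unitGroup ⊔ (Units.map (algebraMap K L).toMonoidHom).range)))
        (Additive.ofMul (Units.map (algebraMap K L).toMonoidHom k)) = 0 :=
    fun k => (QuotientAddGroup.eq_zero_iff _).mpr
      (show Units.map (algebraMap K L).toMonoidHom k ∈
        (vL.valuationSubring.unitGroup ⊔ (Units.map (algebraMap K L).toMonoidHom).range)
        from Subgroup.mem_sup_right ⟨k, rfl⟩)
  have h3 : LinearIndependent ℤ (fun i : s => (QuotientAddGroup.mk' (Subgroup.toAddSubgroup
        (vL.valuationSubring.unitGroup ⊔ (Units.map (algebraMap K L).toMonoidHom).range)))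
        (Additive.ofMul (xr i))) := by
    simp only [hxr]; exact hsli
  have h4 : AlgebraicIndependent (IsLocalRing.ResidueField vK.valuationSubring)
      (fun j : t => IsLocalRing.residue vL.valuationSubring (yr j)) := by
    simp only [hyr]; exact ht.1
  have hmain := main vK vL _ h1 h2 (fun i : s => xr i) (fun j : t => yr j) h3 h4
  have := hmain.cardinalMk_le_trdeg
  rwa [Cardinal.mk_sum, Cardinal.lift_id, Cardinal.lift_id] at this

end Groth.Agent.S14891
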