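import Groth.Statements.S7127
import Mathlib
-- import your own Groth.Agent.* helpers here

set_option autoImplicit false
universe u
open EtAlg

namespace Groth.Agent.S7127

theorem flat_of_surjective {R' S' M : Type*} [CommRing R'] [CommRing S'] [AddCommGroup M]
    [Algebra R' S'] [Module R' M] [Module S' M] [IsScalarTower R' S' M]
    (h : Function.Surjective (algebraMap R' S')) [Module.Flat R' M] : Module.Flat S' M := by
  haveI : TensorProduct.CompatibleSMul R' S' S' M := .of_algebraMap_surjective S' M h
  exact Module.Flat.of_linearEquiv (TensorProduct.lidOfCompatibleSMul R' S' M).symm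

theorem ringHom_flat_of_comp_surjective {R' S' T' : Type*} [CommRing R'] [CommRing S'] [CommRing T']
    (π : R' →+* S') (g : S' →+* T') (hπ : Function.Surjective π) (h : (g.comp π).Flat) : g.Flat := by
  algebraize [π, g, g.comp π]
  exact flat_of_surjective (R' := R') (S' := S') (M := T') hπ

/-- Let A be a ring and B → C an A-algebra homomorphism between weakly étale A-algebras. Then C is
weakly étale over B. -/
theorem result (A B C : Type u) [CommRing A] [CommRing B] [CommRing C]
    [Algebra A B] [Algebra A C] [Algebra B C] [IsScalarTower A B C] [Algebra.WeaklyEtale A B]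
    [Algebra.WeaklyEtale A C] : Algebra.WeaklyEtale B C := by
  have hπ := RingHom.Flat.mapOfCompatibleSMul (R := A) (S := B) C C
    (Algebra.WeaklyEtale.flat_lmul' A B)
  have hm := RingHom.Flat.mapOfCompatibleSMul (R := A) (S := B) B C
    (Algebra.WeaklyEtale.flat_lmul' A B)
  refine ⟨?_, ?_⟩
  · rw [← RingHom.flat_algebraMap_iff]
    have h1 : (algebraMap B (TensorProduct A B C)).Flat := RingHom.flat_algebraMap_iff.mpr inferInstance
    have h2 : ((Algebra.TensorProduct.lid B C).toAlgHom.toRingHom).Flat :=
      .of_bijective (Algebra.TensorProduct.lid B C).bijective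
    have h3 := (h1.comp hm).comp h2
    convert h3 using 1
    ext b
    simp [Algebra.algebraMap_eq_smul_one]
  · apply ringHom_flat_of_comp_surjective
      (Algebra.TensorProduct.mapOfCompatibleSMul B A C C C).toRingHom _
      (Algebra.TensorProduct.mapOfCompatibleSMul_surjective B A C C C)
    convert Algebra.WeaklyEtale.flat_lmul' A C using 1
    ext x
    all_goals simp

end Groth.Agent.S7127
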