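import Groth.Statements.S10548
import Groth.Agent.Lib.Helper1.LocPFlatComp
import Groth.Agent.Lib.Helper11.AlgSpBasic

set_option autoImplicit false
universe u
open CategoryTheory CategoryTheory.Limits AlgebraicGeometry
open AlgSp

namespace Groth.Agent.S10548

variable {S : Scheme.{u}}

/-- Pointwise source descent of flatness. -/
theorem flat_stalkMap_of_flat_comp {X Y Z : Scheme.{u}} (g : X ⟶ Y) (f : Y ⟶ Z) [Flat g]
    [Flat (g ≫ f)] (x : X) : (f.stalkMap (g x)).hom.Flat := by
  have h1 : ((g ≫ f).stalkMap x).hom.Flat := Flat.stalkMap (g ≫ f) x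
  rw [Scheme.Hom.stalkMap_comp] at h1
  have h2 : (g.stalkMap x).hom.FaithfullyFlat := by
    have hfl : (g.stalkMap x).hom.Flat := Flat.stalkMap g x
    algebraize [(g.stalkMap x).hom]
    have : Module.FaithfullyFlat (Y.presheaf.stalk (g x)) (X.presheaf.stalk x) :=
      @Module.FaithfullyFlat.of_flat_of_isLocalHom _ _ _ _ _ _ _ hfl (g.toLRSHom.prop x)
    assumption
  exact Groth.Agent.Lib.helper22.ringHom_flat_of_comp _ _ h2 h1

theorem locP_flat_of_cover {ι : Type u} {X : Sp S} (Xi : ι → Sp S) (g : ∀ i, Xi i ⟶ X)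
    (hXi : ∀ i, IsAlgSpace (Xi i)) (hcov : IsFpqcCover Xi g) {Y : Sp S} (f : X ⟶ Y)
    (H : ∀ i, LocP @Flat (g i ≫ f)) : LocP @Flat f := by
  intro U V a b h ha hb hsq
  rw [Flat.iff_flat_stalkMap]
  intro u
  -- an affine open neighbourhood of `u`
  obtain ⟨Z, hZ, huZ, -⟩ := exists_isAffineOpen_mem_and_subset (x := u) (U := ⊤) trivial
  let Z' : Over S := Over.mk (Z.ι ≫ U.hom)
  let j : Z' ⟶ U := Over.homMk Z.ι rfl
  have hZ' : IsAffine Z'.left := hZ
  obtain ⟨m, W, c, -, -, hsurj, hlift⟩ := hcov.2 Z' hZ' ((yon S).map j ≫ a)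
  obtain ⟨k, w, hw⟩ := hsurj ⟨u, huZ⟩
  obtain ⟨i, l, hl⟩ := hlift k
  -- the point of `X_i` over `a(u)`
  have hξ : Points.map (g i) (Points.ofPt l w) = Points.ofPt a u := by
    rw [Points.map_ofPt, hl, Groth.Agent.Lib.helper11.ofPt_yon_map_comp,
      Groth.Agent.Lib.helper11.ofPt_yon_map_comp, hw]
    rfl
  obtain ⟨A0, α, a0, hαe, -, hα0⟩ :=
    Groth.Agent.Lib.helper11.exists_chart_ofPt (⟨Xi i, hXi i⟩ : Space S) (Points.ofPt l w)
  -- `B = A0 ×_X U`
  obtain ⟨B, r, β', sqB⟩ := ha.1 (α ≫ g i)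
  have hr : Etale r.left := ha.2 _ _ _ sqB
  obtain ⟨β, rfl⟩ := (yon S).map_surjective β'
  have hchart : RepWith @Etale ((yon S).map r ≫ α) :=
    (RepWith (S := S) @Etale).comp_mem _ _ ((repWith_yon_map_iff @Etale r).2 hr) hαe
  have hβ : Flat β.left := by
    refine (hcov.1 i) ((yon S).map r ≫ α) a β hchart ha ?_
    rw [Category.assoc]; exact sqB.w.symm
  have hβh : Flat (β ≫ h).left := by
    refine (H i) ((yon S).map r ≫ α) b (β ≫ h) hchart hb ?_
    rw [Functor.map_comp, Category.assoc ((yon S).map β), ← hsq, ← Category.assoc ((yon S).map β),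
      sqB.w]
    simp only [Category.assoc]
  have hut : Points.ofPt a u = Points.ofPt (α ≫ g i) a0 := by
    rw [← hξ, ← hα0]; rfl
  obtain ⟨b0, hb1, -⟩ := Groth.Agent.Lib.helper11.exists_of_isPullback_schemes sqB u a0 hut
  have hβh' : Flat (β.left ≫ h.left) := by rw [← Over.comp_left]; exact hβh
  have := flat_stalkMap_of_flat_comp β.left h.left b0
  rw [hb1] at this
  exact this

/-- The property of morphisms of algebraic spaces over S given by f is flat (on etale charts) is fpqc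
local on the source: for a morphism f : X ⟶ Y of algebraic spaces and a fpqc covering of X by
algebraic spaces X_i, f has the property if and only if every composite X_i ⟶ X ⟶ Y has it. -/
theorem result (S : Scheme.{u}) :
    AlgSp.IsLocalOnSource (AlgSp.IsFpqcCover (S := S)) (AlgSp.LocP @Flat) := by
  intro ι X Xi g hX hXi hcov Y f hY
  exact ⟨fun hf i => Groth.Agent.H1.LocPFlatComp.locP_flat_comp hX (g i) f (hcov.1 i) hf,
    fun H => locP_flat_of_cover Xi g hXi hcov f H⟩

end Groth.Agent.S10548
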