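import Groth.Statements.S10530
import Groth.Agent.S10506
import Groth.Agent.S10548

set_option autoImplicit false
universe u
open CategoryTheory CategoryTheory.Limits AlgebraicGeometry
open AlgSp

namespace Groth.Agent.S10530

theorem main (S : Scheme.{u}) :
    AlgSp.IsLocalOnBase (AlgSp.IsFpqcCover (S := S)) (AlgSp.LocP @Flat) := by
  intro ι Y Yi g hY hYi hcov X f hX Xi p q hXi sq
  constructor
  · intro hf i
    exact Groth.Agent.H1.LocPFlatBC.locP_flat_of_isPullback hX hY (hYi i) (sq i) hf
  · intro H
    have hcov' : IsFpqcCover Xi q :=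
      Groth.Agent.S10506.isFpqcCover_of_isPullback hY hX f Yi hYi g Xi q p sq hcov
    refine Groth.Agent.S10548.locP_flat_of_cover Xi q hXi hcov' f (fun i => ?_)
    rw [(sq i).w]
    exact Groth.Agent.H1.LocPFlatComp.locP_flat_comp (hYi i) (p i) (g i) (H i) (hcov.1 i)

/-- The property of morphisms of algebraic spaces over S given by f is flat (on etale charts) is fpqc
local on the base: for an fpqc covering of an algebraic space Y by algebraic spaces Y_i, a morphism
f : X ⟶ Y of algebraic spaces and cartesian squares X_i = Y_i ×_Y X, f has the property if and only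
if every X_i ⟶ Y_i has it. -/
theorem result (S : Scheme.{u}) :
    AlgSp.IsLocalOnBase (AlgSp.IsFpqcCover (S := S)) (AlgSp.LocP @Flat) := by
  exact main S

end Groth.Agent.S10530
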