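import Groth.Statements.S10567
import Groth.Agent.Lib.Helper5.AlgSpSmLocal

set_option autoImplicit false
universe u
open CategoryTheory CategoryTheory.Limits AlgebraicGeometry
open AlgSp

namespace Groth.Agent.S10567

/-- A property P of morphisms of algebraic spaces over S that is smooth local on the source, smooth
local on the base, and stable under postcomposition with smooth morphisms (whenever g : Y ⟶ Z is
smooth and f : X ⟶ Y has P, the composite f ≫ g has P) is smooth local on source-and-target. -/
theorem result {S : Scheme.{u}} (P : MorphismProperty (AlgSp.Sp S))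
    (h1 : AlgSp.IsLocalOnSource (AlgSp.IsSmCover (S := S)) P)
    (h2 : AlgSp.IsLocalOnBase (AlgSp.IsSmCover (S := S)) P)
    (h3 : ∀ ⦃X Y Z : AlgSp.Space S⦄ (f : X ⟶ Y) (g : Y ⟶ Z), P f.hom → AlgSp.LocP @Smooth g.hom → P (f ≫ g).hom) :
    AlgSp.IsSmoothLocalST P := by
  open Groth.Agent.Lib.helper5.SmLocal in
  refine ⟨?_, ?_, ?_⟩
  · intro X Y Z hX hY hZ f g hf hg
    exact precomp_of_isLocalOnSource h1 locP_smooth_id hX hY hZ f g hf hg
  · intro X Y X' Y' hX hY hX' hY' f g f' g' sq hg hf
    exact baseChange_of_isLocalOnBase h2 locP_smooth_id hX hY hX' hY' f g f' g' sq hg hf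
  · intro X Y hX hY f
    constructor
    · intro hf x
      exact ⟨X, Y, 𝟙 X, 𝟙 Y, f, x, hX, hY, locP_smooth_id X, locP_smooth_id Y,
        by rw [Category.id_comp, Category.comp_id], Points.map_id x, hf⟩
    · intro H
      obtain ⟨W, p, hpe, hps⟩ := exists_atlas_points hX
      choose U V a b h v hU hV ha hb hsq hv hPh using fun w : ↥W.left => H (Points.ofPt p w)
      have hcov : AlgSp.IsSmCover (fun w => U w) (fun w => a w) :=
        ⟨ha, fun x => by
          obtain ⟨w, rfl⟩ := hps x
          exact ⟨w, v w, hv w⟩⟩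
      refine (h1 U a hX hU hcov f hY).2 fun w => ?_
      rw [hsq w]
      exact h3 (X := ⟨U w, hU w⟩) (Y := ⟨V w, hV w⟩) (Z := ⟨Y, hY⟩)
        (ObjectProperty.homMk (h w)) (ObjectProperty.homMk (b w)) (hPh w) (hb w)

end Groth.Agent.S10567
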