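import Groth.Statements.S10533
import Groth.Agent.Lib.Helper5.AlgSpAffDesc3

set_option autoImplicit false
universe u
open CategoryTheory CategoryTheory.Limits AlgebraicGeometry
open AlgSp

namespace Groth.Agent.S10533

/-- The property of morphisms of algebraic spaces over S given by f is affine (every base change to an
affine scheme is an affine scheme) is fpqc local on the base: for an fpqc covering of an algebraic
space Y by algebraic spaces Y_i, a morphism f : X ⟶ Y of algebraic spaces and cartesian squares X_i
= Y_i ×_Y X, f has the property if and only if every X_i ⟶ Y_i has it. -/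
theorem result (S : Scheme.{u}) :
    AlgSp.IsLocalOnBase (AlgSp.IsFpqcCover (S := S)) AlgSp.IsAffineMor := by
  intro ι Y Yi g hY hYi hg X f hX Xi p q hXi sq
  have key : ∀ {A B : Sp S} (φ : A ⟶ B), IsAffineMor φ ↔
      Groth.Agent.Lib.helper5.AffDesc.AffineWith (⊤ : MorphismProperty Scheme.{u}) φ := by
    intro A B φ
    constructor
    · intro h Z hZ k
      obtain ⟨W, i, fst, h1, h2⟩ := h hZ k
      exact ⟨W, i, fst, h1, h2, trivial⟩
    · intro h Z hZ k
      obtain ⟨W, i, fst, h1, h2, -⟩ := h hZ k
      exact ⟨W, i, fst, h1, h2⟩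
  constructor
  · intro hf i
    exact (key _).2 (Groth.Agent.Lib.helper5.AffDesc.AffineWith.of_isPullback (sq i) ((key _).1 hf))
  · intro hp Z hZ h
    obtain ⟨W, k, fst, h1, h2, -⟩ :=
      Groth.Agent.Lib.helper5.AffDesc.exists_affine_pullback_of_fpqc ⊤ Yi g hY hg f hX Xi p q sq
        (fun i => (key _).1 (hp i)) hZ h
    exact ⟨W, k, fst, h1, h2⟩

end Groth.Agent.S10533
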