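import Groth.Statements.S12780
import Mathlib
import Groth.Agent.Lib.Helper4.AlgStCoreA

set_option autoImplicit false
open CategoryTheory AlgebraicGeometry
universe u
open AlgSt

namespace Groth.Agent.S12780
open Groth.Agent.Lib.helper4.AlgStCoreA Groth.Agent.Lib.helper4.PshRep Groth.Agent.Lib.helper4.PshDict Groth.Agent.Lib.helper4.FibPaste

/-- Let `𝒳`, `𝒴`, `𝒵` be fibred in groupoids over `(Sch/S)` and `P` a property of morphisms of algebraic
spaces which is stable under base change, fppf local on the base and stable under composition. If `f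
: 𝒳 ⟶ 𝒴` and `g : 𝒴 ⟶ 𝒵` are representable by algebraic spaces and have `P`, then so does `g ∘ f`.
(Stability under base change is asked for every pullback square of fppf sheaves whose four corners
are algebraic spaces, and stability under composition for composable morphisms between algebraic
spaces.) -/
theorem result {S : Scheme.{u}} {𝒳 𝒴 𝒵 : AlgSt.Cat S}
    (h𝒳 : FibCat.IsFibGrpd 𝒳.p) (h𝒴 : FibCat.IsFibGrpd 𝒴.p) (h𝒵 : FibCat.IsFibGrpd 𝒵.p)
    (P : MorphismProperty (AlgSp.Sp S))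
    (hPb : ∀ ⦃X₁ Y₁ X₂ Y₂ : AlgSp.Sp S⦄, AlgSp.IsAlgSpace X₁ → AlgSp.IsAlgSpace Y₁ → AlgSp.IsAlgSpace X₂ →
      AlgSp.IsAlgSpace Y₂ → ∀ (a : X₁ ⟶ Y₁) (b : Y₂ ⟶ Y₁) (a' : X₂ ⟶ Y₂) (b' : X₂ ⟶ X₁),
      IsPullback b' a' a b → P a → P a')
    (hPc : ∀ ⦃X Y Z : AlgSp.Sp S⦄, AlgSp.IsAlgSpace X → AlgSp.IsAlgSpace Y → AlgSp.IsAlgSpace Z →
      ∀ (a : X ⟶ Y) (b : Y ⟶ Z), P a → P b → P (a ≫ b))
    (hP : AlgSp.IsLocalOnBase AlgSp.IsFppfCover P)
    (f : 𝒳 ⥤ᵇ 𝒴) (g : 𝒴 ⥤ᵇ 𝒵) (hf : AlgSt.RepByAlgSpWith P f) (hg : AlgSt.RepByAlgSpWith P g) :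
    AlgSt.RepByAlgSpWith P (BasedFunctor.comp f g) := by
  have hQ : IsoInv P := isoInv_of_baseChange P hPb
  intro U z
  obtain ⟨G, eG, heG, hPG⟩ := hg U z
  obtain ⟨H, e, he, hPH⟩ := coreA h𝒳 h𝒴 P hQ hP f hf G (BasedFunctor.comp eG (FibCat.fpSnd z g))
  refine ⟨H, BasedFunctor.comp e (BasedFunctor.comp (fpPrecomp eG (FibCat.fpSnd z g) f) (pasteR z g f)),
    isEquivOver_comp _ _ he (isEquivOver_comp _ _ (fpPrecomp_isEquivOver _ _ _ heG) (pasteR_isEquivOver z g f)), ?_⟩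
  have key : AlgSt.spMapOfOver (BasedFunctor.comp (BasedFunctor.comp e
        (BasedFunctor.comp (fpPrecomp eG (FibCat.fpSnd z g) f) (pasteR z g f))) (FibCat.fpFst z (BasedFunctor.comp f g))) =
      (ObjectProperty.homMk (pshMapOf (BasedFunctor.comp e (FibCat.fpFst (BasedFunctor.comp eG (FibCat.fpSnd z g)) f))) :
        H.obj ⟶ G.obj) ≫ AlgSt.spMapOfOver (BasedFunctor.comp eG (FibCat.fpFst z g)) := by
    apply ObjectProperty.hom_ext
    rw [spMapOfOver_hom]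
    change _ = pshMapOf (BasedFunctor.comp e (FibCat.fpFst (BasedFunctor.comp eG (FibCat.fpSnd z g)) f)) ≫
      (AlgSt.spMapOfOver (BasedFunctor.comp eG (FibCat.fpFst z g))).hom
    rw [spMapOfOver_hom]
    refine Eq.trans ?_ (pshMapOf_comp (P := H.obj.obj) (Q := G.obj.obj)
      (BasedFunctor.comp e (FibCat.fpFst (BasedFunctor.comp eG (FibCat.fpSnd z g)) f))
      (BasedFunctor.comp (BasedFunctor.comp eG (FibCat.fpFst z g)) (toYon.{u + 1} U)))
    rfl
  rw [key]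
  exact hPc H.property G.property (AlgSp.IsAlgSpace.yon_obj U) _ _ hPH hPG

end Groth.Agent.S12780
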