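import Groth.Agent.FibYoneda
import Groth.Agent.BicatEquiv
import Groth.Prelude.Def_AlgSt
set_option autoImplicit false
set_option backward.isDefEq.respectTransparency false
set_option backward.isDefEq.respectTransparency.types false
open CategoryTheory CategoryTheory.Functor CategoryTheory.Limits
universe v₄ u₄ v₃ u₃ v₂ u₂ v u

namespace Groth.Agent.StkLib
open Groth.Agent.FibEquiv Groth.Agent.FibFiberwise Groth.Agent.FibFp Groth.Agent.FibOver Groth.Agent.FibFpProj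

section inv
variable {C : Type u} [Category.{v} C] {𝒳 : BasedCategory.{v₂, u₂} C} {𝒴 : BasedCategory.{v₃, u₃} C}

/-- fibred in groupoids descends along a fully faithful functor essentially surjective over identities -/
theorem isFibGrpd_source (F : 𝒳 ⥤ᵇ 𝒴) [F.toFunctor.Full] [F.toFunctor.Faithful]
    (hess : ∀ η : 𝒴.obj, ∃ (ξ : 𝒳.obj) (e : F.toFunctor.obj ξ ≅ η), 𝒴.p.IsHomLift (𝟙 (𝒴.p.obj η)) e.hom)
    (h𝒴 : FibCat.IsFibGrpd 𝒴.p) : FibCat.IsFibGrpd 𝒳.p := by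
  refine ⟨?_, ?_⟩
  · intro x V f
    obtain ⟨y', ψ, hψ⟩ := exists_lift_of_eq 𝒴.p h𝒴 (F.w_obj x) f
    obtain ⟨ξ', e, he⟩ := hess y'
    have hV : 𝒴.p.obj y' = V := IsHomLift.domain_eq 𝒴.p f ψ
    have he' : 𝒴.p.IsHomLift (𝟙 V) e.hom := isHomLift_of_eq 𝒴.p hV e.hom
    have h1 : 𝒴.p.IsHomLift f (e.hom ≫ ψ) := by
      have : 𝒴.p.IsHomLift (𝟙 V ≫ f) (e.hom ≫ ψ) := inferInstance
      simpa using this
    refine ⟨ξ', F.toFunctor.preimage (e.hom ≫ ψ), ?_⟩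
    have h2 : 𝒴.p.IsHomLift f (F.toFunctor.map (F.toFunctor.preimage (e.hom ≫ ψ))) := by
      rw [Functor.map_preimage]; exact h1
    exact F.isHomLift_map f _
  · intro x' x φ
    have h1 : 𝒴.p.IsStronglyCartesian (𝒳.p.map φ) (F.toFunctor.map φ) :=
      isStronglyCartesian_of_isFibGrpd 𝒴.p h𝒴 _ _
    exact isStronglyCartesian_of_map F (𝒳.p.map φ) φ

theorem isEquivOver_symm {F : 𝒳 ⥤ᵇ 𝒴} (hF : FibCat.IsEquivOver F) :
    ∃ G : 𝒴 ⥤ᵇ 𝒳, FibCat.IsEquivOver G := by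
  obtain ⟨G, ⟨α⟩, ⟨β⟩⟩ := hF
  exact ⟨G, F, ⟨β⟩, ⟨α⟩⟩

theorem isFibGrpd_of_isEquivOver (F : 𝒳 ⥤ᵇ 𝒴) (hF : FibCat.IsEquivOver F) (h𝒴 : FibCat.IsFibGrpd 𝒴.p) :
    FibCat.IsFibGrpd 𝒳.p := by
  obtain ⟨⟨h1, h2⟩, h3⟩ := of_isEquivOver F hF
  exact isFibGrpd_source F h3 h𝒴

theorem isFibGrpd_iff_of_isEquivOver (F : 𝒳 ⥤ᵇ 𝒴) (hF : FibCat.IsEquivOver F) :
    FibCat.IsFibGrpd 𝒳.p ↔ FibCat.IsFibGrpd 𝒴.p := by
  refine ⟨fun h => ?_, isFibGrpd_of_isEquivOver F hF⟩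
  obtain ⟨G, hG⟩ := isEquivOver_symm hF
  exact isFibGrpd_of_isEquivOver G hG h

theorem thin_source (F : 𝒳 ⥤ᵇ 𝒴) [F.toFunctor.Faithful] (h𝒴 : ∀ U : C, Quiver.IsThin (𝒴.p.Fiber U)) :
    ∀ U : C, Quiver.IsThin (𝒳.p.Fiber U) := by
  intro U a b
  refine ⟨fun m m' => ?_⟩
  apply Functor.Fiber.hom_ext
  apply F.toFunctor.map_injective
  have := h𝒴 U
  have h1 := Subsingleton.elim ((FibCat.fiberFunctor F U).map m) ((FibCat.fiberFunctor F U).map m')
  exact congrArg (fun k => Functor.Fiber.fiberInclusion.map k) h1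

theorem isFibSetoid_of_isEquivOver (F : 𝒳 ⥤ᵇ 𝒴) (hF : FibCat.IsEquivOver F) (h𝒴 : FibCat.IsFibSetoid 𝒴.p) :
    FibCat.IsFibSetoid 𝒳.p := by
  obtain ⟨⟨h1, h2⟩, h3⟩ := of_isEquivOver F hF
  exact ⟨isFibGrpd_source F h3 h𝒴.1, thin_source F h𝒴.2⟩

theorem isFibSetoid_iff_of_isEquivOver (F : 𝒳 ⥤ᵇ 𝒴) (hF : FibCat.IsEquivOver F) :
    FibCat.IsFibSetoid 𝒳.p ↔ FibCat.IsFibSetoid 𝒴.p := by
  refine ⟨fun h => ?_, isFibSetoid_of_isEquivOver F hF⟩
  obtain ⟨G, hG⟩ := isEquivOver_symm hF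
  exact isFibSetoid_of_isEquivOver G hG h

end inv

section stk
variable {C : Type u} [Category.{v} C] {𝒳 𝒴 : BasedCategory.{v₂, u₂} C}

/-- restriction is precomposition in the bicategory of categories over `C` -/
theorem restr_eq_precomp {𝒜 ℬ : BasedCategory.{v₂, u₂} C} (ι : 𝒜 ⥤ᵇ ℬ) (𝒳 : BasedCategory.{v₂, u₂} C) :
    Stk.restr ι 𝒳 = Bicategory.precomp 𝒳 ι := rfl

/-- the square of restrictions and postcompositions -/
def restrPostcompIso {𝒜 ℬ : BasedCategory.{v₂, u₂} C} (ι : 𝒜 ⥤ᵇ ℬ) (F : 𝒳 ⥤ᵇ 𝒴) :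
    Stk.restr ι 𝒳 ⋙ Bicategory.postcomp 𝒜 F ≅ Bicategory.postcomp ℬ F ⋙ Stk.restr ι 𝒴 :=
  Bicategory.associatorNatIsoMiddle (B := BasedCategory.{v₂, u₂} C) (a := 𝒜) (b := ℬ) (c := 𝒳) (d := 𝒴) ι F

theorem postcomp_isEquivalence_of_isEquivOver (𝒜 : BasedCategory.{v₂, u₂} C) (F : 𝒳 ⥤ᵇ 𝒴)
    (hF : FibCat.IsEquivOver F) : (Bicategory.postcomp 𝒜 F).IsEquivalence := by
  obtain ⟨G, ⟨α⟩, ⟨β⟩⟩ := hF
  exact Groth.Agent.BicatEquiv.postcomp_isEquivalence 𝒜 F G α β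

end stk


section stk2
variable {C : Type u} [Category.{v} C] {𝒳 𝒴 : BasedCategory.{v, max u v} C}

theorem full_faithful_of_comp_equiv {A : Type u₂} [Category.{v₂} A] {B : Type u₃} [Category.{v₃} B]
    {D : Type u₄} [Category.{v₄} D] (P : A ⥤ B) (Q : B ⥤ D) [P.IsEquivalence]
    (h : (P ⋙ Q).Full ∧ (P ⋙ Q).Faithful) : Q.Full ∧ Q.Faithful := by
  obtain ⟨h1, h2⟩ := h
  let e : P.inv ⋙ (P ⋙ Q) ≅ Q :=
    (Functor.associator _ _ _).symm ≪≫ Functor.isoWhiskerRight P.asEquivalence.counitIso Q ≪≫ Q.leftUnitor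
  exact ⟨Functor.Full.of_iso e, Functor.Faithful.of_iso e⟩

theorem isStackFor_iff_of_isEquivOver (F : 𝒳 ⥤ᵇ 𝒴) (hF : FibCat.IsEquivOver F) {U : C} (R : Sieve U) :
    Stk.IsStackFor R 𝒳 ↔ Stk.IsStackFor R 𝒴 := by
  have h1 := postcomp_isEquivalence_of_isEquivOver (Stk.sieveCat R) F hF
  have h2 := postcomp_isEquivalence_of_isEquivOver (FibCat.overCat U) F hF
  have e := restrPostcompIso (Stk.sieveIncl R) F
  unfold Stk.IsStackFor Stk.resSieve
  constructor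
  · intro h
    have h3 : (Bicategory.postcomp (FibCat.overCat U) F ⋙ Stk.restr (Stk.sieveIncl R) 𝒴).IsEquivalence :=
      Functor.isEquivalence_of_iso e
    exact Functor.isEquivalence_of_comp_left (Bicategory.postcomp (FibCat.overCat U) F) _
  · intro h
    have h3 : (Stk.restr (Stk.sieveIncl R) 𝒳 ⋙ Bicategory.postcomp (Stk.sieveCat R) F).IsEquivalence :=
      Functor.isEquivalence_of_iso e.symm
    exact Functor.isEquivalence_of_comp_right _ (Bicategory.postcomp (Stk.sieveCat R) F)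

theorem isPrestackFor_iff_of_isEquivOver (F : 𝒳 ⥤ᵇ 𝒴) (hF : FibCat.IsEquivOver F) {U : C} (R : Sieve U) :
    Stk.IsPrestackFor R 𝒳 ↔ Stk.IsPrestackFor R 𝒴 := by
  have h1 := postcomp_isEquivalence_of_isEquivOver (Stk.sieveCat R) F hF
  have h2 := postcomp_isEquivalence_of_isEquivOver (FibCat.overCat U) F hF
  have e := restrPostcompIso (Stk.sieveIncl R) F
  unfold Stk.IsPrestackFor Stk.resSieve
  constructor
  · rintro ⟨hfu, hfa⟩
    have h3 : (Stk.restr (Stk.sieveIncl R) 𝒳 ⋙ Bicategory.postcomp (Stk.sieveCat R) F).Full := inferInstance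
    have h4 : (Stk.restr (Stk.sieveIncl R) 𝒳 ⋙ Bicategory.postcomp (Stk.sieveCat R) F).Faithful := inferInstance
    exact full_faithful_of_comp_equiv (Bicategory.postcomp (FibCat.overCat U) F) _
      ⟨Functor.Full.of_iso e, Functor.Faithful.of_iso e⟩
  · rintro ⟨hfu, hfa⟩
    have h3 : (Bicategory.postcomp (FibCat.overCat U) F ⋙ Stk.restr (Stk.sieveIncl R) 𝒴).Full := inferInstance
    have h4 : (Bicategory.postcomp (FibCat.overCat U) F ⋙ Stk.restr (Stk.sieveIncl R) 𝒴).Faithful := inferInstance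
    have h5 : (Stk.restr (Stk.sieveIncl R) 𝒳 ⋙ Bicategory.postcomp (Stk.sieveCat R) F).Full :=
      Functor.Full.of_iso e.symm
    have h6 : (Stk.restr (Stk.sieveIncl R) 𝒳 ⋙ Bicategory.postcomp (Stk.sieveCat R) F).Faithful :=
      Functor.Faithful.of_iso e.symm
    exact ⟨Functor.Full.of_comp_faithful _ (Bicategory.postcomp (Stk.sieveCat R) F),
      Functor.Faithful.of_comp _ (Bicategory.postcomp (Stk.sieveCat R) F)⟩

theorem isStack_iff_of_isEquivOver (J : GrothendieckTopology C) (F : 𝒳 ⥤ᵇ 𝒴) (hF : FibCat.IsEquivOver F) :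
    Stk.IsStack J 𝒳 ↔ Stk.IsStack J 𝒴 := by
  unfold Stk.IsStack
  rw [isFibGrpd_iff_of_isEquivOver F hF]
  refine and_congr_right fun _ => ?_
  refine forall_congr' fun U => forall_congr' fun R => forall_congr' fun hR => ?_
  exact isStackFor_iff_of_isEquivOver F hF R

theorem isPrestack_iff_of_isEquivOver (J : GrothendieckTopology C) (F : 𝒳 ⥤ᵇ 𝒴) (hF : FibCat.IsEquivOver F) :
    Stk.IsPrestack J 𝒳 ↔ Stk.IsPrestack J 𝒴 := by
  unfold Stk.IsPrestack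
  rw [isFibGrpd_iff_of_isEquivOver F hF]
  refine and_congr_right fun _ => ?_
  refine forall_congr' fun U => forall_congr' fun R => forall_congr' fun hR => ?_
  exact isPrestackFor_iff_of_isEquivOver F hF R

end stk2


section general
variable {C : Type u} [Category.{v} C] {𝒳 : BasedCategory.{v₂, u₂} C} {𝒴 : BasedCategory.{v₃, u₃} C}

/-- postcomposition with a functor over `C`, universe-general -/
def postcompB (𝒜 : BasedCategory.{v₄, u₄} C) (F : 𝒳 ⥤ᵇ 𝒴) : (𝒜 ⥤ᵇ 𝒳) ⥤ (𝒜 ⥤ᵇ 𝒴) where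
  obj H := BasedFunctor.comp H F
  map α := BasedCategory.whiskerRight α F
  map_id H := by apply BasedNatTrans.homCategory.ext; ext a; simp; rfl
  map_comp α β := by apply BasedNatTrans.homCategory.ext; ext a; simp

/-- whiskering an isomorphism of functors over `C` on the left -/
def whiskerLeftIsoB {𝒜 : BasedCategory.{v₄, u₄} C} (H : 𝒜 ⥤ᵇ 𝒳) {K L : 𝒳 ⥤ᵇ 𝒴} (e : K ≅ L) :
    BasedFunctor.comp H K ≅ BasedFunctor.comp H L where
  hom := BasedCategory.whiskerLeft H e.hom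
  inv := BasedCategory.whiskerLeft H e.inv
  hom_inv_id := by
    apply BasedNatTrans.homCategory.ext; ext a
    have := congrArg (fun k => k.toNatTrans.app (H.toFunctor.obj a)) e.hom_inv_id
    exact this
  inv_hom_id := by
    apply BasedNatTrans.homCategory.ext; ext a
    have := congrArg (fun k => k.toNatTrans.app (H.toFunctor.obj a)) e.inv_hom_id
    exact this

theorem postcompB_isEquivalence (𝒜 : BasedCategory.{v₄, u₄} C) (F : 𝒳 ⥤ᵇ 𝒴) (hF : FibCat.IsEquivOver F) :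
    (postcompB 𝒜 F).IsEquivalence := by
  obtain ⟨G, ⟨α⟩, ⟨β⟩⟩ := hF
  let η : 𝟭 (𝒜 ⥤ᵇ 𝒳) ≅ postcompB 𝒜 F ⋙ postcompB 𝒜 G :=
    NatIso.ofComponents (fun H => (whiskerLeftIsoB H α).symm) (by
      intro H H' γ
      apply BasedNatTrans.homCategory.ext; ext a
      exact (α.inv.toNatTrans.naturality (γ.toNatTrans.app a)))
  let ε : postcompB 𝒜 G ⋙ postcompB 𝒜 F ≅ 𝟭 (𝒜 ⥤ᵇ 𝒴) :=
    NatIso.ofComponents (fun H => whiskerLeftIsoB H β) (by
      intro H H' γ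
      apply BasedNatTrans.homCategory.ext; ext a
      exact (β.hom.toNatTrans.naturality (γ.toNatTrans.app a)))
  exact (CategoryTheory.Equivalence.mk (postcompB 𝒜 F) (postcompB 𝒜 G) η ε).isEquivalence_functor

/-- restriction commutes with postcomposition -/
def restrPostcompBIso {𝒜 : BasedCategory.{v₄, u₄} C} {ℬ : BasedCategory.{v₄, u₄} C} (ι : 𝒜 ⥤ᵇ ℬ) (F : 𝒳 ⥤ᵇ 𝒴) :
    Stk.restr ι 𝒳 ⋙ postcompB 𝒜 F ≅ postcompB ℬ F ⋙ Stk.restr ι 𝒴 :=
  NatIso.ofComponents (fun H => Iso.refl _) (by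
    intro H H' γ
    apply BasedNatTrans.homCategory.ext; ext a
    simp
    rfl)

theorem isStackFor_iff_of_isEquivOver' (F : 𝒳 ⥤ᵇ 𝒴) (hF : FibCat.IsEquivOver F) {U : C} (R : Sieve U) :
    Stk.IsStackFor R 𝒳 ↔ Stk.IsStackFor R 𝒴 := by
  have h1 := postcompB_isEquivalence (Stk.sieveCat R) F hF
  have h2 := postcompB_isEquivalence (FibCat.overCat U) F hF
  have e := restrPostcompBIso (Stk.sieveIncl R) F
  unfold Stk.IsStackFor Stk.resSieve
  constructor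
  · intro h
    have h3 : (postcompB (FibCat.overCat U) F ⋙ Stk.restr (Stk.sieveIncl R) 𝒴).IsEquivalence :=
      Functor.isEquivalence_of_iso e
    exact Functor.isEquivalence_of_comp_left (postcompB (FibCat.overCat U) F) _
  · intro h
    have h3 : (Stk.restr (Stk.sieveIncl R) 𝒳 ⋙ postcompB (Stk.sieveCat R) F).IsEquivalence :=
      Functor.isEquivalence_of_iso e.symm
    exact Functor.isEquivalence_of_comp_right _ (postcompB (Stk.sieveCat R) F)

theorem isPrestackFor_iff_of_isEquivOver' (F : 𝒳 ⥤ᵇ 𝒴) (hF : FibCat.IsEquivOver F) {U : C} (R : Sieve U) :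
    Stk.IsPrestackFor R 𝒳 ↔ Stk.IsPrestackFor R 𝒴 := by
  have h1 := postcompB_isEquivalence (Stk.sieveCat R) F hF
  have h2 := postcompB_isEquivalence (FibCat.overCat U) F hF
  have e := restrPostcompBIso (Stk.sieveIncl R) F
  unfold Stk.IsPrestackFor Stk.resSieve
  constructor
  · rintro ⟨hfu, hfa⟩
    have h3 : (Stk.restr (Stk.sieveIncl R) 𝒳 ⋙ postcompB (Stk.sieveCat R) F).Full := inferInstance
    have h4 : (Stk.restr (Stk.sieveIncl R) 𝒳 ⋙ postcompB (Stk.sieveCat R) F).Faithful := inferInstance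
    exact full_faithful_of_comp_equiv (postcompB (FibCat.overCat U) F) _
      ⟨Functor.Full.of_iso e, Functor.Faithful.of_iso e⟩
  · rintro ⟨hfu, hfa⟩
    have h3 : (postcompB (FibCat.overCat U) F ⋙ Stk.restr (Stk.sieveIncl R) 𝒴).Full := inferInstance
    have h4 : (postcompB (FibCat.overCat U) F ⋙ Stk.restr (Stk.sieveIncl R) 𝒴).Faithful := inferInstance
    have h5 : (Stk.restr (Stk.sieveIncl R) 𝒳 ⋙ postcompB (Stk.sieveCat R) F).Full :=
      Functor.Full.of_iso e.symm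
    have h6 : (Stk.restr (Stk.sieveIncl R) 𝒳 ⋙ postcompB (Stk.sieveCat R) F).Faithful :=
      Functor.Faithful.of_iso e.symm
    exact ⟨Functor.Full.of_comp_faithful _ (postcompB (Stk.sieveCat R) F),
      Functor.Faithful.of_comp _ (postcompB (Stk.sieveCat R) F)⟩

theorem isStack_iff_of_isEquivOver' (J : GrothendieckTopology C) (F : 𝒳 ⥤ᵇ 𝒴) (hF : FibCat.IsEquivOver F) :
    Stk.IsStack J 𝒳 ↔ Stk.IsStack J 𝒴 := by
  unfold Stk.IsStack
  rw [isFibGrpd_iff_of_isEquivOver F hF]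
  refine and_congr_right fun _ => ?_
  refine forall_congr' fun U => forall_congr' fun R => forall_congr' fun hR => ?_
  exact isStackFor_iff_of_isEquivOver' F hF R

theorem isPrestack_iff_of_isEquivOver' (J : GrothendieckTopology C) (F : 𝒳 ⥤ᵇ 𝒴) (hF : FibCat.IsEquivOver F) :
    Stk.IsPrestack J 𝒳 ↔ Stk.IsPrestack J 𝒴 := by
  unfold Stk.IsPrestack
  rw [isFibGrpd_iff_of_isEquivOver F hF]
  refine and_congr_right fun _ => ?_
  refine forall_congr' fun U => forall_congr' fun R => forall_congr' fun hR => ?_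
  exact isPrestackFor_iff_of_isEquivOver' F hF R

end general

end Groth.Agent.StkLib
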