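import Groth.Statements.S12775
import Mathlib
import Groth.Agent.Lib.Helper4.PshRep2

set_option autoImplicit false
open CategoryTheory AlgebraicGeometry
universe u
open AlgSt

namespace Groth.Agent.S12775
open Groth.Agent.Lib.helper4.PshDict Groth.Agent.Lib.helper4.PshRep Stk

/-- If `𝒳` and `𝒴` are categories fibred in groupoids over `(Sch/S)` that are both representable by
algebraic spaces, then every 1-morphism `f : 𝒳 ⟶ 𝒴` is representable by algebraic spaces. -/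
theorem result {S : Scheme.{u}} {𝒳 𝒴 : AlgSt.Cat S}
    (h𝒳 : FibCat.IsFibGrpd 𝒳.p) (h𝒴 : FibCat.IsFibGrpd 𝒴.p)
    (hX : AlgSt.RepByAlgSp 𝒳) (hY : AlgSt.RepByAlgSp 𝒴) (f : 𝒳 ⥤ᵇ 𝒴) :
    AlgSt.RepByAlgSp1 f := by
  obtain ⟨X, eX, heX⟩ := hX
  obtain ⟨Y, eY, heY⟩ := hY
  obtain ⟨eYi, ⟨α⟩, ⟨β⟩⟩ := heY
  rw [Groth.Agent.Lib.helper4.AlgStEquiv.repByAlgSp1_iff_top,
    repByAlgSpWith_iff_pshMapOf ⊤ f eX heX eY eYi β ⟨eYi, ⟨α⟩, ⟨β⟩⟩]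
  intro U ξ F' fst snd sq
  obtain ⟨h, hA⟩ := repBySp_of_isAlgSpaceP ((AlgSp.isAlgSpaceP_obj_iff X.obj).2 X.property)
    ((AlgSp.isAlgSpaceP_obj_iff Y.obj).2 Y.property) _ ξ fst snd sq
  exact ⟨h, hA, trivial⟩

end Groth.Agent.S12775
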