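import Groth.Statements.S9936
-- import your own Groth.Agent.* helpers here

set_option autoImplicit false
universe u
open CategoryTheory CategoryTheory.Limits AlgebraicGeometry
open AlgSp

namespace Groth.Agent.S9936

/-- Closed immersions between algebraic spaces are quasi-compact morphisms. -/
theorem result {S : Scheme.{u}} {X Y : AlgSp.Space S} (f : X ⟶ Y)
    (hf : AlgSp.RepWith @IsClosedImmersion f.hom) : AlgSp.IsQuasiCompactMor f.hom := by
  intro Z Z' hZ hZqc g fst snd sq
  obtain ⟨W, p, hpe, hps, hW⟩ := hZqc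
  have hrep := hf.rep
  -- the pullback of `f` along `p ≫ g` is represented by a closed subscheme `V` of `W`
  have sq' := hrep.isPullback (p ≫ g)
  have hcl : IsClosedImmersion (hrep.snd (p ≫ g)).left := hf.property_snd (p ≫ g)
  have hV : CompactSpace ↥(hrep.pullback (p ≫ g)).left := by
    have : CompactSpace ↥W.left := hW
    exact QuasiCompact.compactSpace_of_compactSpace (hrep.snd (p ≫ g)).left
  have hw : hrep.fst (p ≫ g) ≫ f.hom = ((AlgSp.yon S).map (hrep.snd (p ≫ g)) ≫ p) ≫ g := by
    rw [Category.assoc]; exact sq'.w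
  have hleft : IsPullback (sq.lift _ _ hw) ((AlgSp.yon S).map (hrep.snd (p ≫ g))) snd p := by
    refine IsPullback.of_right ?_ (sq.lift_snd _ _ hw) sq
    rw [sq.lift_fst]
    exact sq'
  refine ⟨hrep.pullback (p ≫ g), sq.lift _ _ hw, ?_, ?_, hV⟩
  · exact (AlgSp.repWith_isStableUnderBaseChange (S := S) @Etale).of_isPullback hleft.flip hpe
  · exact (AlgSp.repWith_isStableUnderBaseChange (S := S) @Surjective).of_isPullback hleft.flip hps

end Groth.Agent.S9936
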