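import Groth.Statements.S10277
import Groth.Agent.S9936
import Groth.Agent.S9937
import Groth.Agent.S9953
import Groth.Agent.Lib.Helper18.AlgSp

set_option autoImplicit false
universe u
open CategoryTheory CategoryTheory.Limits AlgebraicGeometry
open AlgSp

namespace Groth.Agent.S10277

open AlgSp

/-- A closed immersion of algebraic spaces is proper. -/
theorem result {S : Scheme.{u}} {X Y : AlgSp.Space S} (i : X ⟶ Y)
    (hi : AlgSp.RepWith @IsClosedImmersion i.hom) : AlgSp.IsProperMor i.hom := by
  refine ⟨Groth.Agent.S9937.result i hi, ⟨Groth.Agent.S9953.result i ?_, Groth.Agent.S9936.result i hi⟩,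
    Groth.Agent.Lib.helper18.isUnivClosedMor_of_repWith_isClosedImmersion _ hi⟩
  exact Groth.Agent.Lib.helper18.repWith_mono (fun _ _ f (hf : IsClosedImmersion f) =>
    (inferInstance : IsImmersion f)) hi

end Groth.Agent.S10277
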