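import Groth.Statements.S10516
import Groth.Agent.Lib.Helper1.LocPStable
import Groth.Agent.S1179

set_option autoImplicit false
universe u
open CategoryTheory CategoryTheory.Limits AlgebraicGeometry
open AlgSp

namespace Groth.Agent.S10516

theorem locP_lft_of_isPullback {S : Scheme.{u}} {X Y Y' X' : Sp S} (hX : IsAlgSpace X) (hY : IsAlgSpace Y)
    (f : X ⟶ Y) (g : Y' ⟶ Y) (fst : X' ⟶ X) (f' : X' ⟶ Y')
    (sq : IsPullback fst f' f g) (hf : LocP @LocallyOfFiniteType f) : LocP @LocallyOfFiniteType f' := by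
  refine Groth.Agent.H1.LocPStable.locP_of_isPullback ?_ ?_ ?_ hX hY f g fst f' sq hf
  · intro X' X Y f g hf hs h
    have : LocallyOfFiniteType (f ≫ g) := h
    exact Groth.Agent.S1179.locallyOfFiniteType_of_etale_comp f g
  · intro X Y Z f g hf hg
    have : LocallyOfFiniteType g := hg
    exact (inferInstance : LocallyOfFiniteType (f ≫ g))
  · intro X Y Z f g hf hg
    have : LocallyOfFiniteType f := hf
    exact (inferInstance : LocallyOfFiniteType (f ≫ g))

theorem main {S : Scheme.{u}} {X X' : AlgSp.Space S} (a : X' ⟶ X) {ι : Type u}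
    (Xi : ι → AlgSp.Space S) (g : ∀ i, Xi i ⟶ X) (Xi' : ι → AlgSp.Space S) (q : ∀ i, Xi' i ⟶ X')
    (p : ∀ i, Xi' i ⟶ Xi i) (sq : ∀ i, IsPullback (q i).hom (p i).hom a.hom (g i).hom)
    (h : AlgSp.IsPhCover (fun i => (Xi i).obj) (fun i => (g i).hom)) :
    AlgSp.IsPhCover (fun i => (Xi' i).obj) (fun i => (q i).hom) := by
  refine ⟨fun i => ?_, fun Z hZ k => ?_⟩
  · exact locP_lft_of_isPullback (Xi i).property X.property (g i).hom a.hom (p i).hom (q i).hom
      (sq i).flip (h.1 i)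
  · obtain ⟨F, hF, hj⟩ := h.2 Z hZ (k ≫ a.hom)
    refine ⟨F, hF, fun j => ?_⟩
    obtain ⟨i, l, hl⟩ := hj j
    obtain ⟨l', hl'1, hl'2⟩ := (sq i).exists_lift
      ((yon S).map (Over.homMk (F.f j) rfl : Over.mk (F.f j ≫ Z.hom) ⟶ Z) ≫ k) l (by
        rw [Category.assoc, hl])
    exact ⟨i, l', hl'1⟩

/-- The base change of a ph covering of an algebraic space `X` by algebraic spaces along a morphism of
algebraic spaces `X' ⟶ X` is a ph covering of `X'`; the base changes `X' ×_X X_i ⟶ X'` are given as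
pullback squares of sheaves whose corners `X'_i` are algebraic spaces. -/
theorem result {S : Scheme.{u}} {X X' : AlgSp.Space S} (a : X' ⟶ X) {ι : Type u}
    (Xi : ι → AlgSp.Space S) (g : ∀ i, Xi i ⟶ X) (Xi' : ι → AlgSp.Space S) (q : ∀ i, Xi' i ⟶ X')
    (p : ∀ i, Xi' i ⟶ Xi i) (sq : ∀ i, IsPullback (q i).hom (p i).hom a.hom (g i).hom)
    (h : AlgSp.IsPhCover (fun i => (Xi i).obj) (fun i => (g i).hom)) :
    AlgSp.IsPhCover (fun i => (Xi' i).obj) (fun i => (q i).hom) := by
  exact main a Xi g Xi' q p sq h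

end Groth.Agent.S10516
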