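import Groth.Statements.S10275
import Groth.Agent.S10516
import Groth.Agent.Lib.Helper18.AlgSp

set_option autoImplicit false
universe u
open CategoryTheory CategoryTheory.Limits AlgebraicGeometry
open AlgSp

namespace Groth.Agent.S10275

theorem isSeparatedMor_of_isPullback {S : Scheme.{u}} {F G F' G' : Sp S}
    {f : F ⟶ G} {g : G' ⟶ G} {fst : F' ⟶ F} {f' : F' ⟶ G'} (sq : IsPullback fst f' f g)
    (hf : IsSeparatedMor f) : IsSeparatedMor f' := by
  have h : (RepWith (S := S) @IsClosedImmersion).diagonal f := hf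
  exact MorphismProperty.of_isPullback (P := (RepWith (S := S) @IsClosedImmersion).diagonal) sq h

theorem isQuasiCompactMor_of_isPullback {S : Scheme.{u}} {F G F' G' : Sp S}
    {f : F ⟶ G} {g : G' ⟶ G} {fst : F' ⟶ F} {f' : F' ⟶ G'} (sq : IsPullback fst f' f g)
    (hf : IsQuasiCompactMor f) : IsQuasiCompactMor f' := by
  intro Z Z' hZ hZq h a b hpb
  exact hf hZ hZq (h ≫ g) (a ≫ fst) b (hpb.paste_horiz sq)

theorem main {S : Scheme.{u}} {X Y Y' X' : AlgSp.Space S} (f : X ⟶ Y) (g : Y' ⟶ Y)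
    (fst : X' ⟶ X) (f' : X' ⟶ Y') (sq : IsPullback fst.hom f'.hom f.hom g.hom) (hf : AlgSp.IsProperMor f.hom) :
    AlgSp.IsProperMor f'.hom := by
  obtain ⟨h1, ⟨h2, h3⟩, h4⟩ := hf
  refine ⟨isSeparatedMor_of_isPullback sq h1, ⟨?_, isQuasiCompactMor_of_isPullback sq h3⟩,
    Groth.Agent.Lib.helper18.univSp_of_isPullback sq h4⟩
  exact Groth.Agent.S10516.locP_lft_of_isPullback X.property Y.property f.hom g.hom fst.hom f'.hom sq h2

/-- A base change of a proper morphism of algebraic spaces is proper. -/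
theorem result {S : Scheme.{u}} {X Y Y' X' : AlgSp.Space S} (f : X ⟶ Y) (g : Y' ⟶ Y)
    (fst : X' ⟶ X) (f' : X' ⟶ Y') (sq : IsPullback fst.hom f'.hom f.hom g.hom) (hf : AlgSp.IsProperMor f.hom) :
    AlgSp.IsProperMor f'.hom := by
  exact main f g fst f' sq hf

end Groth.Agent.S10275
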