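import Groth.Statements.S10276
import Groth.Agent.Lib.Helper1.LocPStable
import Groth.Agent.Lib.Helper5.AlgSpQCFam
import Groth.Agent.S1179

set_option autoImplicit false
universe u
open CategoryTheory CategoryTheory.Limits AlgebraicGeometry
open AlgSp

namespace Groth.Agent.S10276

theorem isSeparatedMor_comp {S : Scheme.{u}} {F G H : Sp S} (f : F ⟶ G) (g : G ⟶ H)
    (hf : IsSeparatedMor f) (hg : IsSeparatedMor g) : IsSeparatedMor (f ≫ g) := by
  have h1 : (RepWith (S := S) @IsClosedImmersion).diagonal f := hf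
  have h2 : (RepWith (S := S) @IsClosedImmersion).diagonal g := hg
  exact ((RepWith (S := S) @IsClosedImmersion).diagonal).comp_mem f g h1 h2

theorem locP_lft_comp {S : Scheme.{u}} {F G H : Sp S} (hG : IsAlgSpace G) (f : F ⟶ G) (g : G ⟶ H)
    (hf : LocP @LocallyOfFiniteType f) (hg : LocP @LocallyOfFiniteType g) :
    LocP @LocallyOfFiniteType (f ≫ g) := by
  refine Groth.Agent.H1.LocPStable.locP_comp ?_ hG f g hf hg
  intro X' X Y f g hf hs h
  have : LocallyOfFiniteType (f ≫ g) := h
  exact Groth.Agent.S1179.locallyOfFiniteType_of_etale_comp f g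

theorem isUnivClosedMor_comp {S : Scheme.{u}} {F G H : Sp S} (hG : IsAlgSpace G)
    (hH : Representable (Limits.diag H))
    {a : F ⟶ G} {b : G ⟶ H} (ha : IsUnivClosedMor a) (hb : IsUnivClosedMor b) :
    IsUnivClosedMor (a ≫ b) := by
  intro W W' hW k u v sqW
  have sq1 : IsPullback (pullback.fst b k) (pullback.snd b k) b k := IsPullback.of_hasPullback b k
  have hW1 : IsAlgSpace (pullback b k) := Groth.Agent.Lib.helper5.isAlgSpace_of_isPullback hH hG hW sq1
  have hc1 : IsClosedMap (Points.map (pullback.snd b k)) := hb hW k _ _ sq1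
  have hl : u ≫ a ≫ b = v ≫ k := sqW.w
  have sq2 : IsPullback u (sq1.lift (u ≫ a) v (by rw [Category.assoc, hl])) a (pullback.fst b k) := by
    refine IsPullback.of_bot ?_ (sq1.lift_fst _ _ _).symm sq1
    rw [sq1.lift_snd]
    exact sqW
  have hc2 : IsClosedMap (Points.map (sq1.lift (u ≫ a) v (by rw [Category.assoc, hl]))) :=
    ha hW1 _ _ _ sq2
  have : Points.map v = Points.map (pullback.snd b k) ∘
      Points.map (sq1.lift (u ≫ a) v (by rw [Category.assoc, hl])) := by
    funext x
    rw [Function.comp_apply, ← Points.map_comp, sq1.lift_snd]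
  show IsClosedMap (Points.map v)
  rw [this]
  exact hc1.comp hc2

theorem main {S : Scheme.{u}} {X Y Z : AlgSp.Space S} (f : X ⟶ Y) (g : Y ⟶ Z)
    (hf : AlgSp.IsProperMor f.hom) (hg : AlgSp.IsProperMor g.hom) : AlgSp.IsProperMor (f ≫ g).hom := by
  obtain ⟨f1, ⟨f2, f3⟩, f4⟩ := hf
  obtain ⟨g1, ⟨g2, g3⟩, g4⟩ := hg
  exact ⟨isSeparatedMor_comp f.hom g.hom f1 g1,
    ⟨locP_lft_comp Y.property f.hom g.hom f2 g2,
      Groth.Agent.Lib.helper5.isQuasiCompactMor_comp Y.property Z.property.diag f3 g3⟩,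
    isUnivClosedMor_comp Y.property Z.property.diag f4 g4⟩

/-- A composition of proper morphisms of algebraic spaces is proper. -/
theorem result {S : Scheme.{u}} {X Y Z : AlgSp.Space S} (f : X ⟶ Y) (g : Y ⟶ Z)
    (hf : AlgSp.IsProperMor f.hom) (hg : AlgSp.IsProperMor g.hom) : AlgSp.IsProperMor (f ≫ g).hom := by
  exact main f g hf hg

end Groth.Agent.S10276
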