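import Groth.Statements.S10519
import Groth.Agent.Lib.Helper5.AlgSpFpqcBase
import Groth.Agent.Lib.Helper7.AlgSpFibre
import Groth.Agent.Lib.Helper5.AlgSpUniv3

set_option autoImplicit false
universe u
open CategoryTheory CategoryTheory.Limits AlgebraicGeometry
open AlgSp

namespace Groth.Agent.S10519

open Groth.Agent.Lib.helper5 Groth.Agent.Lib.helper7.AlgSpFibre in
/-- the base change of `f` to an affine scheme has a compact space of points -/
theorem compact_affine {S : Scheme.{u}} {ι : Type u} {Y : Sp S} (Yi : ι → Sp S) (g : ∀ i, Yi i ⟶ Y)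
    (hg : IsFpqcCover Yi g) {X : Sp S} (f : X ⟶ Y) (Xi : ι → Sp S) (p : ∀ i, Xi i ⟶ Yi i)
    (q : ∀ i, Xi i ⟶ X) (sq : ∀ i, IsPullback (q i) (p i) f (g i))
    (hp : ∀ i, IsQuasiCompactMor (p i))
    (Z : Over S) (hZ : IsAffine Z.left) (h : (yon S).obj Z ⟶ Y) {P : Sp S} (fst : P ⟶ X)
    (snd : P ⟶ (yon S).obj Z) (sqZ : IsPullback fst snd f h) : CompactSpace (Points P) := by
  obtain ⟨m, W, c, hWa, hcf, hcs, hl⟩ :=
    exists_fpqc_refinement Yi g hg f Xi p q sq Z hZ h fst snd sqZ
  choose i l T a s r hsqT hsqr _ _ using hl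
  have hT : ∀ j, CompactSpace (Points (T j)) := fun j => by
    have : IsAffine (W j).left := hWa j
    have hqc : IsQuasiCompactSp ((yon S).obj (W j)) :=
      ⟨W j, 𝟙 _, repWith_id _ _, repWith_id _ _, (inferInstance : CompactSpace ↥(W j).left)⟩
    exact compactSpace_of_isQuasiCompactSp
      (hp (i j) (IsAlgSpace.yon_obj (W j)) hqc (l j) (r j) (s j) (hsqr j))
  constructor
  have : (Set.univ : Set (Points P)) = ⋃ j, Set.range (Points.map (a j)) := by
    refine (Set.eq_univ_of_forall fun y => ?_).symm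
    obtain ⟨z, hz⟩ := (Points.schemeHomeo Z).surjective (Points.map snd y)
    obtain ⟨j, w, hw⟩ := hcs z
    obtain ⟨x, hx, _⟩ := Groth.Agent.Lib.helper10.exists_point_of_isPullback (hsqT j) y
      (Points.schemeHomeo (W j) w) (by rw [Points.map_yon_map_apply, hw, hz])
    exact Set.mem_iUnion.2 ⟨j, x, hx⟩
  rw [this]
  exact isCompact_iUnion fun j => isCompact_range (Points.continuous_map (a j))

/-- The property of morphisms of algebraic spaces over S given by f is quasi-compact is fpqc local on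
the base: for an fpqc covering of an algebraic space Y by algebraic spaces Y_i, a morphism f : X ⟶ Y
of algebraic spaces and cartesian squares X_i = Y_i ×_Y X, f has the property if and only if every
X_i ⟶ Y_i has it. -/
theorem result (S : Scheme.{u}) :
    AlgSp.IsLocalOnBase (AlgSp.IsFpqcCover (S := S)) AlgSp.IsQuasiCompactMor := by
  intro ι Y Yi g hY hYi hg X f hX Xi p q hXi sq
  refine ⟨fun hf i Z Z' hZ hZq g' fst' snd' sq' =>
    hf hZ hZq (g' ≫ g i) (fst' ≫ q i) snd' (sq'.paste_horiz (sq i)), fun hp => ?_⟩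
  intro Z Z' hZ hZq g' fstZ sndZ sqZ
  have hZ' : IsAlgSpace Z' :=
    Groth.Agent.Lib.helper5.isAlgSpace_of_isPullback hY.diag hX hZ sqZ
  have : CompactSpace (Points Z) :=
    Groth.Agent.Lib.helper7.AlgSpFibre.compactSpace_of_isQuasiCompactSp hZq
  obtain ⟨U, a, hae, has⟩ := hZ.atlas
  obtain ⟨V, r, hV, hre, hrs⟩ :=
    Groth.Agent.Lib.helper11.exists_affine_chart_of_compactSpace a hae has
  have sqT : IsPullback (pullback.fst sndZ r) (pullback.snd sndZ r) sndZ r :=
    IsPullback.of_hasPullback _ _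
  have : CompactSpace (Points (pullback sndZ r)) :=
    compact_affine Yi g hg f Xi p q sq hp V hV (r ≫ g') _ _ (sqT.paste_horiz sqZ)
  have hsurj : Function.Surjective (Points.map (pullback.fst sndZ r)) :=
    Groth.Agent.Lib.helper5.isSurjectiveMor_of_isPullback sqT
      (Groth.Agent.Lib.helper5.surjective_map_of_repWith_surjective r hrs)
  have : CompactSpace (Points Z') :=
    Groth.Agent.Lib.helper7.AlgSpFibre.compactSpace_of_surjective _ hsurj
  exact Groth.Agent.Lib.helper7.AlgSpFibre.isQuasiCompactSp_of_compactSpace hZ'.atlas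

end Groth.Agent.S10519
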