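import Groth.Statements.S10520
import Groth.Agent.Lib.Helper5.AlgSpFpqcRep
import Groth.Agent.Lib.Helper15.AlgSpDiag

set_option autoImplicit false
universe u
open CategoryTheory CategoryTheory.Limits AlgebraicGeometry
open AlgSp

namespace Groth.Agent.S10520

open Groth.Agent.Lib.helper5.FpqcRep Groth.Agent.Lib.helper15.AlgSpDiag in
/-- `(RepWith P).diagonal` is fpqc local on the base, for `P` satisfying fpqc descent. -/
theorem diagonal_local (P : MorphismProperty Scheme.{u}) [P.IsStableUnderBaseChange]
    [P.DescendsAlong (@Surjective ⊓ @Flat ⊓ @QuasiCompact)] [IsZariskiLocalAtTarget P]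
    (S : Scheme.{u}) :
    AlgSp.IsLocalOnBase (AlgSp.IsFpqcCover (S := S)) (fun _ _ f => RepWith P (pullback.diagonal f)) := by
  intro ι Y Yi g hY hYi hg X f hX Xi p q hXi sq
  have sqd := fun i => isPullback_diagonal_of_isPullback (sq i)
  refine ⟨fun hf i => (AlgSp.repWith_isStableUnderBaseChange (S := S) P).of_isPullback (sqd i) hf,
    fun hp => ?_⟩
  refine repWith_of_fpqcRefinable P (pullback.diagonal f) (repWith_diagonal_properties hX f).1
    (fun i => pullback (p i) (p i))
    (fun i => pullback.map (p i) (p i) f f (q i) (q i) (g i) (sq i).w.symm (sq i).w.symm) ?_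
    Xi (fun i => pullback.diagonal (p i)) q sqd hp
  intro Z hZ h
  obtain ⟨m, W, c, hWa, hcf, hcs, hl⟩ := hg.2 Z hZ (h ≫ pullback.fst f f ≫ f)
  refine ⟨m, W, c, hWa, hcf, hcs, fun j => ?_⟩
  obtain ⟨i, l, hli⟩ := hl j
  have e1 : ((yon S).map (c j) ≫ h ≫ pullback.fst f f) ≫ f = l ≫ g i := by
    rw [hli]; simp only [Category.assoc]
  have e2 : ((yon S).map (c j) ≫ h ≫ pullback.snd f f) ≫ f = l ≫ g i := by
    rw [hli]; simp only [Category.assoc]; rw [pullback.condition]
  refine ⟨i, pullback.lift ((sq i).lift _ _ e1) ((sq i).lift _ _ e2)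
    (by rw [(sq i).lift_snd, (sq i).lift_snd]), ?_⟩
  apply pullback.hom_ext
  · simp only [Category.assoc, pullback.lift_fst, pullback.lift_fst_assoc, IsPullback.lift_fst]
  · simp only [Category.assoc, pullback.lift_snd, pullback.lift_snd_assoc, IsPullback.lift_fst]

/-- The property of morphisms of algebraic spaces over S given by f is quasi-separated (diagonal
representable and quasi-compact) is fpqc local on the base: for an fpqc covering of an algebraic
space Y by algebraic spaces Y_i, a morphism f : X ⟶ Y of algebraic spaces and cartesian squares X_i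
= Y_i ×_Y X, f has the property if and only if every X_i ⟶ Y_i has it. -/
theorem result (S : Scheme.{u}) :
    AlgSp.IsLocalOnBase (AlgSp.IsFpqcCover (S := S)) AlgSp.IsQuasiSeparatedMor := by
  exact diagonal_local @QuasiCompact S

end Groth.Agent.S10520
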