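import Groth.Statements.S10535
import Groth.Agent.Lib.Helper1.Diagonal
import Groth.Agent.Lib.Helper18.AlgSp
import Groth.Agent.S10520

set_option autoImplicit false
universe u
open CategoryTheory CategoryTheory.Limits AlgebraicGeometry
open AlgSp

namespace Groth.Agent.S10535

/-- For a morphism of algebraic spaces, the diagonal is a closed immersion iff it is universally closed. -/
theorem repWith_isClosedImmersion_diagonal_iff {S : Scheme.{u}} {F G : Sp S} (hF : IsAlgSpace F)
    (hG : IsAlgSpace G) (f : F ⟶ G) :
    RepWith @IsClosedImmersion (pullback.diagonal f) ↔ RepWith @UniversallyClosed (pullback.diagonal f) := by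
  constructor
  · intro h
    exact Groth.Agent.Lib.helper18.repWith_mono (fun _ _ f (hf : IsClosedImmersion f) =>
      (inferInstance : UniversallyClosed f)) h
  · intro hc
    have hlft := Groth.Agent.H1.Diagonal.repWith_lft_diagonal hF hG f
    refine ⟨hlft.1, ?_⟩
    intro T T' g fst snd sq
    show IsClosedImmersion snd.left
    have h1 : LocallyOfFiniteType snd.left := hlft.2 g fst snd sq
    have h2 : UniversallyClosed snd.left := hc.2 g fst snd sq
    have hm0 : Mono ((yon S).map snd) := sq.mono_snd_of_mono
    have hm1 : Mono snd := (yon S).mono_of_mono_map hm0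
    have h3 : Mono snd.left := inferInstance
    have h4 : IsProper snd.left := { }
    exact (IsClosedImmersion.iff_isProper_and_mono _).2 ⟨h4, h3⟩

theorem main (S : Scheme.{u}) :
    AlgSp.IsLocalOnBase (AlgSp.IsFpqcCover (S := S)) AlgSp.IsSeparatedMor := by
  intro ι Y Yi g hY hYi hg X f hX Xi p q hXi sq
  have key := Groth.Agent.S10520.diagonal_local @UniversallyClosed S Yi g hY hYi hg f hX Xi p q hXi sq
  show RepWith @IsClosedImmersion (pullback.diagonal f) ↔
    ∀ i, RepWith @IsClosedImmersion (pullback.diagonal (p i))
  rw [repWith_isClosedImmersion_diagonal_iff hX hY f]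
  simp only [fun i => repWith_isClosedImmersion_diagonal_iff (hXi i) (hYi i) (p i)]
  exact key

/-- The property of morphisms of algebraic spaces over S given by f is separated (diagonal representable
and a closed immersion) is fpqc local on the base: for an fpqc covering of an algebraic space Y by
algebraic spaces Y_i, a morphism f : X ⟶ Y of algebraic spaces and cartesian squares X_i = Y_i ×_Y
X, f has the property if and only if every X_i ⟶ Y_i has it. -/
theorem result (S : Scheme.{u}) :
    AlgSp.IsLocalOnBase (AlgSp.IsFpqcCover (S := S)) AlgSp.IsSeparatedMor := by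
  exact main S

end Groth.Agent.S10535
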