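import Groth.Statements.S12838


set_option autoImplicit false
universe u
open CategoryTheory AlgebraicGeometry
open AlgSt

namespace Groth.Agent.S12838

open MonoidalCategory CartesianMonoidalCategory MonObj GrpObj

set_option linter.unusedSimpArgs false

section
variable {S : Scheme.{u}} (G : Over S) [GrpObj G]

/-- the unit section `t ↦ (1, t)`. -/
noncomputable def esec (T : Over S) : T ⟶ G ⊗ T := lift (toUnit T ≫ η[G]) (𝟙 T)

lemma one_eq (T : Over S) : toUnit T ≫ η[G] = (1 : T ⟶ G) := by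
  rw [Hom.one_def]

lemma top_fst {T T' : Over S} (t : G ⊗ T ⟶ G ⊗ T')
    (heqv : (leftMul G T).act ≫ t = (G ◁ t) ≫ (leftMul G T').act) :
    t ≫ fst G T' = fst G T * (snd G T ≫ esec G T ≫ t ≫ fst G T') := by
  have hk : lift (fst G T) (snd G T ≫ esec G T) ≫ (leftMul G T).act = 𝟙 _ := by
    apply CartesianMonoidalCategory.hom_ext
    · simp only [leftMul, esec, Category.assoc, lift_fst, lift_snd, lift_fst_assoc, lift_snd_assoc, comp_lift, comp_mul, Category.id_comp, one_eq, Category.comp_id]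
      simp
    · simp only [leftMul, esec, Category.assoc, lift_fst, lift_snd, lift_fst_assoc, lift_snd_assoc, comp_lift, comp_mul, Category.id_comp, Category.comp_id]
  calc t ≫ fst G T' = (lift (fst G T) (snd G T ≫ esec G T) ≫ (leftMul G T).act) ≫ t ≫ fst G T' := by
        rw [hk, Category.id_comp]
    _ = _ := by
        rw [Category.assoc, reassoc_of% heqv]
        simp only [leftMul, Category.assoc, lift_fst, lift_snd, lift_fst_assoc, lift_snd_assoc, comp_lift, comp_mul, whiskerLeft_fst, whiskerLeft_snd, whiskerLeft_fst_assoc, whiskerLeft_snd_assoc]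

variable {G} in
lemma act_one {X : Over S} (aX : AlgGrp.Action G X) {T : Over S} (x : T ⟶ X) :
    esec G T ≫ (G ◁ x) ≫ aX.act = x := by
  have h : esec G T ≫ (G ◁ x) = lift (toUnit T) x ≫ (η[G] ▷ X) := by
    apply CartesianMonoidalCategory.hom_ext
    · simp only [esec, Category.assoc, lift_fst, lift_snd, lift_fst_assoc, lift_snd_assoc, whiskerLeft_fst, whiskerLeft_snd, whiskerRight_fst, whiskerRight_snd]
    · simp only [esec, Category.assoc, lift_fst, lift_snd, lift_fst_assoc, lift_snd_assoc, whiskerLeft_fst, whiskerLeft_snd, whiskerRight_fst, whiskerRight_snd, Category.id_comp]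
  rw [reassoc_of% h, aX.one_act, leftUnitor_hom, lift_snd]

variable {G} in
lemma act_mul {X : Over S} (aX : AlgGrp.Action G X) {T : Over S} (a b : T ⟶ G) (y : T ⟶ X) :
    lift (a * b) y ≫ aX.act = lift a (lift b y ≫ aX.act) ≫ aX.act := by
  have hμ : fst (G ⊗ G) X ≫ μ[G] = (fst _ _ ≫ fst G G) * (fst _ _ ≫ snd G G) := by
    rw [Hom.mul_def, ← comp_lift, lift_fst_snd, Category.comp_id]
  have h1 : lift (a * b) y = lift (lift a b) y ≫ (μ[G] ▷ X) := by
    apply CartesianMonoidalCategory.hom_ext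
    · simp only [Category.assoc, lift_fst, lift_snd, lift_fst_assoc, lift_snd_assoc, whiskerRight_fst, whiskerRight_snd, hμ, comp_mul]
    · simp only [Category.assoc, lift_fst, lift_snd, lift_fst_assoc, lift_snd_assoc, whiskerRight_fst, whiskerRight_snd]
  have h2' : lift (lift a b) y ≫ (α_ G G X).hom = lift a (lift b y) := by
    apply CartesianMonoidalCategory.hom_ext
    · simp only [Category.assoc, lift_fst, lift_snd, lift_fst_assoc, lift_snd_assoc, associator_hom_fst]
    · apply CartesianMonoidalCategory.hom_ext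
      · simp only [Category.assoc, lift_fst, lift_snd, lift_fst_assoc, lift_snd_assoc, associator_hom_snd_fst]
      · simp only [Category.assoc, lift_fst, lift_snd, lift_fst_assoc, lift_snd_assoc, associator_hom_snd_snd]
  have h2 : lift (lift a b) y ≫ (α_ G G X).hom ≫ (G ◁ aX.act) = lift a (lift b y ≫ aX.act) := by
    rw [reassoc_of% h2']
    apply CartesianMonoidalCategory.hom_ext
    · simp only [Category.assoc, lift_fst, lift_snd, lift_fst_assoc, lift_snd_assoc, whiskerLeft_fst, whiskerLeft_snd]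
    · simp only [Category.assoc, lift_fst, lift_snd, lift_fst_assoc, lift_snd_assoc, whiskerLeft_fst, whiskerLeft_snd]
  rw [h1, Category.assoc, aX.mul_act, ← h2]
  simp only [Category.assoc]


variable {G} in
lemma part1 {X : Over S} (aX : AlgGrp.Action G X) {T T' : Over S} (f : T ⟶ T') (x : T ⟶ X) (x' : T' ⟶ X)
    (t : G ⊗ T ⟶ G ⊗ T')
    (heqv : (leftMul G T).act ≫ t = (G ◁ t) ≫ (leftMul G T').act)
    (hsnd : t ≫ snd G T' = snd G T ≫ f)
    (hw : t ≫ (G ◁ x') ≫ aX.act = (G ◁ x) ≫ aX.act) :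
    ∃ g : T ⟶ G, lift g (f ≫ x') ≫ aX.act = x ∧
          t = lift (fst G T * (snd G T ≫ g)) (snd G T ≫ f) := by
  have hfst : t ≫ fst G T' = fst G T * (snd G T ≫ esec G T ≫ t ≫ fst G T') :=
    top_fst G t heqv
  refine ⟨esec G T ≫ t ≫ fst G T', ?_, ?_⟩
  · have h1 : lift (esec G T ≫ t ≫ fst G T') (f ≫ x') = esec G T ≫ t ≫ (G ◁ x') := by
      apply CartesianMonoidalCategory.hom_ext
      · simp only [Category.assoc, lift_fst, whiskerLeft_fst]
      · simp only [Category.assoc, lift_snd, whiskerLeft_snd, reassoc_of% hsnd, esec, lift_snd_assoc, Category.id_comp]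
    rw [h1, Category.assoc, Category.assoc, hw, act_one]
  · apply CartesianMonoidalCategory.hom_ext
    · rw [lift_fst]; exact hfst
    · rw [lift_snd]; exact hsnd


variable {G} in
lemma part2_eqv {T T' : Over S} (f : T ⟶ T') (g : T ⟶ G) :
    (leftMul G T).act ≫ lift (fst G T * (snd G T ≫ g)) (snd G T ≫ f) =
      (G ◁ lift (fst G T * (snd G T ≫ g)) (snd G T ≫ f)) ≫ (leftMul G T').act := by
  apply CartesianMonoidalCategory.hom_ext
  · simp only [leftMul, Category.assoc, lift_fst, lift_snd, lift_fst_assoc, lift_snd_assoc, comp_lift, comp_mul, whiskerLeft_fst, whiskerLeft_snd, whiskerLeft_fst_assoc, whiskerLeft_snd_assoc]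
    rw [_root_.mul_assoc]
  · simp only [leftMul, Category.assoc, lift_fst, lift_snd, lift_fst_assoc, lift_snd_assoc, comp_lift, comp_mul, whiskerLeft_fst, whiskerLeft_snd, whiskerLeft_fst_assoc, whiskerLeft_snd_assoc]

variable {G} in
lemma part2_cart {T T' : Over S} (f : T ⟶ T') (g : T ⟶ G) :
    IsPullback (lift (fst G T * (snd G T ≫ g)) (snd G T ≫ f)) (snd G T) (snd G T') f := by
  let ρ : G ⊗ T ⟶ G ⊗ T := lift (fst G T * (snd G T ≫ g)) (snd G T)
  let ρ' : G ⊗ T ⟶ G ⊗ T := lift (fst G T * (snd G T ≫ g)⁻¹) (snd G T)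
  have h1 : ρ ≫ ρ' = 𝟙 _ := by
    simp only [ρ, ρ', comp_lift, comp_mul, comp_inv, lift_fst, lift_snd, lift_snd_assoc, mul_inv_cancel_right, lift_fst_snd]
  have h2 : ρ' ≫ ρ = 𝟙 _ := by
    simp only [ρ, ρ', comp_lift, comp_mul, comp_inv, lift_fst, lift_snd, lift_snd_assoc, inv_mul_cancel_right, lift_fst_snd]
  let e : G ⊗ T ≅ G ⊗ T := ⟨ρ, ρ', h1, h2⟩
  have htop : lift (fst G T * (snd G T ≫ g)) (snd G T ≫ f) = ρ ≫ (G ◁ f) := by
    apply CartesianMonoidalCategory.hom_ext
    · simp only [ρ, Category.assoc, lift_fst, whiskerLeft_fst]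
    · simp only [ρ, Category.assoc, lift_snd, whiskerLeft_snd, lift_snd_assoc]
  rw [htop]
  refine (isPullback_whiskerLeft (G := G) f).of_iso e.symm (Iso.refl _) (Iso.refl _) (Iso.refl _) ?_ ?_ (by simp) (by simp)
  · simp [e, reassoc_of% h2]
  · simp [e, ρ']


variable {G} in
lemma part2_w {X : Over S} (aX : AlgGrp.Action G X) {T T' : Over S} (f : T ⟶ T') (x' : T' ⟶ X) (g : T ⟶ G) :
    lift (fst G T * (snd G T ≫ g)) (snd G T ≫ f) ≫ (G ◁ x') ≫ aX.act =
      (G ◁ (lift g (f ≫ x') ≫ aX.act)) ≫ aX.act := by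
  have h1 : lift (fst G T * (snd G T ≫ g)) (snd G T ≫ f) ≫ (G ◁ x') =
      lift (fst G T * (snd G T ≫ g)) (snd G T ≫ f ≫ x') := by
    apply CartesianMonoidalCategory.hom_ext
    · simp only [Category.assoc, lift_fst, whiskerLeft_fst]
    · simp only [Category.assoc, lift_snd, whiskerLeft_snd, lift_snd_assoc]
  have h2 : (G ◁ (lift g (f ≫ x') ≫ aX.act)) =
      lift (fst G T) (lift (snd G T ≫ g) (snd G T ≫ f ≫ x') ≫ aX.act) := by
    apply CartesianMonoidalCategory.hom_ext
    · simp only [Category.assoc, lift_fst, whiskerLeft_fst]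
    · simp only [Category.assoc, lift_snd, whiskerLeft_snd, comp_lift_assoc]
  rw [reassoc_of% h1, act_mul, h2]

end


open MonoidalCategory CartesianMonoidalCategory MonObj GrpObj in
/-- Let `G` be a group scheme over `S` acting on an `S`-scheme `X`, `f : T ⟶ T'` a morphism of
`S`-schemes, `x` a `T`-point and `x'` a `T'`-point of `X`. In the quotient category `[X/G]` (scheme
torsors for the fppf topology with an equivariant morphism to `X`) the canonical functor `X ⟶ [X/G]`
sends `x` to the trivial torsor `G ×_S T ⟶ T`, with `G` acting by left multiplication on the first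
factor and the equivariant morphism `(h, t) ↦ h · x(t)`, and likewise for `x'`. The morphisms from
the image of `x` to the image of `x'` lying over `f` are exactly the maps `(h, t) ↦ (h · g(t),
f(t))` for those `T`-points `g` of `G` with `g · (x' ∘ f) = x`: every morphism over `f` is of this
form, and every such `g` defines one. -/
theorem result (S : Scheme.{u}) (G : Over S) [GrpObj G] (X : Over S)
    (aX : AlgGrp.Action G X) (T T' : Over S) (f : T ⟶ T') (x : T ⟶ X) (x' : T' ⟶ X) :
    (∀ h : (AlgSt.quotMap Scheme.fppfPrecoverage G aX).obj ((AlgSt.ofOverCat X).obj (Over.mk x)) ⟶ (AlgSt.quotMap Scheme.fppfPrecoverage G aX).obj ((AlgSt.ofOverCat X).obj (Over.mk x')),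
        h.base = f → ∃ g : T ⟶ G, lift g (f ≫ x') ≫ aX.act = x ∧
          h.top = lift (fst G T * (snd G T ≫ g)) (snd G T ≫ f)) ∧
    (∀ g : T ⟶ G, lift g (f ≫ x') ≫ aX.act = x →
        ∃ h : (AlgSt.quotMap Scheme.fppfPrecoverage G aX).obj ((AlgSt.ofOverCat X).obj (Over.mk x)) ⟶ (AlgSt.quotMap Scheme.fppfPrecoverage G aX).obj ((AlgSt.ofOverCat X).obj (Over.mk x')),
          h.base = f ∧ h.top = lift (fst G T * (snd G T ≫ g)) (snd G T ≫ f)) := by
  refine ⟨fun h hb => ?_, fun g hg => ?_⟩
  · have hsnd : h.top ≫ snd G T' = snd G T ≫ f := by rw [← hb]; exact h.cart.w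
    exact part1 aX f x x' h.top h.eqv hsnd h.wφ
  · refine ⟨⟨f, lift (fst G T * (snd G T ≫ g)) (snd G T ≫ f), part2_eqv f g, part2_cart f g, ?_⟩, rfl, rfl⟩
    have := part2_w aX f x' g
    rw [hg] at this
    exact this

end Groth.Agent.S12838
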