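import Groth.Statements.S12839
import Groth.Agent.S12838

set_option autoImplicit false
universe u
open CategoryTheory AlgebraicGeometry
open AlgSt

namespace Groth.Agent.S12839

open MonoidalCategory CartesianMonoidalCategory MonObj GrpObj

set_option linter.unusedSimpArgs false

section
variable {S : Scheme.{u}} {G : Over S} [GrpObj G]

lemma triv_eqv {P : Over S} (aP : AlgGrp.Action G P) {T : Over S} (s : T ⟶ P) :
    (leftMul G T).act ≫ (G ◁ s) ≫ aP.act = (G ◁ ((G ◁ s) ≫ aP.act)) ≫ aP.act := by
  have h1 : (leftMul G T).act ≫ (G ◁ s) =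
      lift (fst G (G ⊗ T) * (snd G (G ⊗ T) ≫ fst G T)) (snd G (G ⊗ T) ≫ snd G T ≫ s) := by
    apply CartesianMonoidalCategory.hom_ext
    · simp only [leftMul, Category.assoc, lift_fst, whiskerLeft_fst]
    · simp only [leftMul, Category.assoc, lift_snd, whiskerLeft_snd, lift_snd_assoc]
  have h2 : (G ◁ ((G ◁ s) ≫ aP.act)) =
      lift (fst G (G ⊗ T)) (lift (snd G (G ⊗ T) ≫ fst G T) (snd G (G ⊗ T) ≫ snd G T ≫ s) ≫ aP.act) := by
    apply CartesianMonoidalCategory.hom_ext
    · simp only [Category.assoc, lift_fst, whiskerLeft_fst]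
    · have h3 : snd G (G ⊗ T) ≫ (G ◁ s) = lift (snd G (G ⊗ T) ≫ fst G T) (snd G (G ⊗ T) ≫ snd G T ≫ s) := by
        apply CartesianMonoidalCategory.hom_ext
        · simp only [Category.assoc, lift_fst, whiskerLeft_fst]
        · simp only [Category.assoc, lift_snd, whiskerLeft_snd]
      simp only [Category.assoc, lift_snd, whiskerLeft_snd]
      rw [reassoc_of% h3]
  rw [reassoc_of% h1, Groth.Agent.S12838.act_mul, h2]

end


/-- Let `G` be a group scheme over `S` acting on an `S`-scheme `X` and let `A` be an object of the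
quotient category `[X/G]` over the `S`-scheme `T` — a `G`-torsor `P ⟶ T` for the fppf topology which
is a scheme, with an equivariant `P ⟶ X`. Then there is an fppf covering family of `T` such that for
every member `f : T' ⟶ T` there are a `T'`-point `x` of `X` and a morphism of `[X/G]` lying over `f`
from the image of `x` under the canonical functor `X ⟶ [X/G]` (the trivial torsor `G ×_S T'` with
`(h, t) ↦ h · x(t)`) to `A`: every object is, fppf-locally on its base, isomorphic to a trivial one. -/
theorem result (S : Scheme.{u}) (G : Over S) [GrpObj G] (X : Over S)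
    (aX : AlgGrp.Action G X) (A : AlgSt.QuotObj Scheme.fppfPrecoverage G aX) :
    ∃ (R : Presieve A.base.left) (_ : R ∈ Scheme.fppfPrecoverage A.base.left),
      ∀ ⦃T' : Scheme.{u}⦄ (f : T' ⟶ A.base.left), R f →
        ∃ (x : Over.mk (f ≫ A.base.hom) ⟶ X)
          (h : (AlgSt.quotMap Scheme.fppfPrecoverage G aX).obj ((AlgSt.ofOverCat X).obj (Over.mk x)) ⟶ A),
          h.base = Over.homMk f rfl := by
  obtain ⟨R, hR, hsec⟩ := A.loc
  refine ⟨R, hR, fun T' f hf => ?_⟩
  obtain ⟨s, hs⟩ := hsec f hf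
  have hs' : s ≫ A.π.left = f := hs
  have hw : s ≫ A.P.hom = f ≫ A.base.hom := by
    rw [← hs', Category.assoc, Over.w A.π]
  let T : Over S := Over.mk (f ≫ A.base.hom)
  let s' : T ⟶ A.P := Over.homMk s hw
  let fT : T ⟶ A.base := Over.homMk f rfl
  have hsf : s' ≫ A.π = fT := by
    ext
    exact hs'
  refine ⟨s' ≫ A.φ, ⟨fT, (G ◁ s') ≫ A.act.act, ?_, ?_, ?_⟩, rfl⟩
  · exact triv_eqv A.act s'
  · have := (isPullback_whiskerLeft (G := G) s').paste_horiz A.cart
    rw [hsf] at this
    exact this
  · change ((G ◁ s') ≫ A.act.act) ≫ A.φ = (G ◁ (s' ≫ A.φ)) ≫ aX.act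
    rw [Category.assoc, A.eqv, MonoidalCategory.whiskerLeft_comp, Category.assoc]

end Groth.Agent.S12839
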