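import Groth.Statements.S12787
import Groth.Agent.FibEquiv
import Groth.Prelude.Def_AlgSt2

set_option autoImplicit false
open CategoryTheory AlgebraicGeometry
universe u
open AlgSt

namespace Groth.Agent.S12787

/-- A category fibred in groupoids over `(Sch/S)` which is representable by an algebraic space is fibred
in setoids. -/
theorem result {S : Scheme.{u}} {𝒳 : AlgSt.Cat S}
    (h𝒳 : FibCat.IsFibGrpd 𝒳.p) (hr : AlgSt.RepByAlgSp 𝒳) :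
    FibCat.IsFibSetoid 𝒳.p := by
  refine ⟨h𝒳, fun U => fun a b => ⟨fun φ ψ => ?_⟩⟩
  obtain ⟨F, e, he⟩ := hr
  obtain ⟨⟨hfull, hfaith⟩, hess⟩ := Groth.Agent.FibEquiv.of_isEquivOver e he
  obtain ⟨a', ea, hea⟩ := hess a.1
  obtain ⟨b', eb, heb⟩ := hess b.1
  have hφ : 𝒳.p.IsHomLift (𝟙 U) φ.1 := φ.2
  have hψ : 𝒳.p.IsHomLift (𝟙 U) ψ.1 := ψ.2
  have hea' : 𝒳.p.IsHomLift (𝟙 U) ea.hom := Groth.Agent.FibEquiv.isHomLift_of_eq 𝒳.p a.2 _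
  have heb' : 𝒳.p.IsHomLift (𝟙 U) eb.hom := Groth.Agent.FibEquiv.isHomLift_of_eq 𝒳.p b.2 _
  have hebi : 𝒳.p.IsHomLift (𝟙 U) eb.inv := IsHomLift.lift_id_inv _ _ _
  have h1 : 𝒳.p.IsHomLift (𝟙 U) (ea.hom ≫ φ.1 ≫ eb.inv) := inferInstance
  have h2 : 𝒳.p.IsHomLift (𝟙 U) (ea.hom ≫ ψ.1 ≫ eb.inv) := inferInstance
  obtain ⟨φ', hφ'⟩ := e.toFunctor.map_surjective (ea.hom ≫ φ.1 ≫ eb.inv)
  obtain ⟨ψ', hψ'⟩ := e.toFunctor.map_surjective (ea.hom ≫ ψ.1 ≫ eb.inv)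
  have h3 : 𝒳.p.IsHomLift (𝟙 U) (e.toFunctor.map φ') := by rw [hφ']; exact h1
  have h4 : 𝒳.p.IsHomLift (𝟙 U) (e.toFunctor.map ψ') := by rw [hψ']; exact h2
  have h5 : (AlgSt.ofSp F.obj).p.IsHomLift (𝟙 U) φ' := e.isHomLift_map _ _
  have h6 : (AlgSt.ofSp F.obj).p.IsHomLift (𝟙 U) ψ' := e.isHomLift_map _ _
  have h7 : φ' = ψ' := by
    apply Stk.EltObj.hom_ext
    have e1 := IsHomLift.fac' (AlgSt.ofSp F.obj).p (𝟙 U) φ'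
    have e2 := IsHomLift.fac' (AlgSt.ofSp F.obj).p (𝟙 U) ψ'
    exact e1.trans e2.symm
  have h8 : ea.hom ≫ φ.1 ≫ eb.inv = ea.hom ≫ ψ.1 ≫ eb.inv := by rw [← hφ', ← hψ', h7]
  apply Subtype.ext
  have h9 := (cancel_epi ea.hom).mp h8
  exact (cancel_mono eb.inv).mp h9

end Groth.Agent.S12787
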