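import Groth.Statements.S10110
import Groth.Agent.Lib.Helper1.MonoRepJ
import Groth.Agent.Lib.Helper1.SmFppfCmp
import Groth.Agent.Lib.Helper5.AlgSpUniv2

set_option autoImplicit false
universe u
open CategoryTheory CategoryTheory.Limits AlgebraicGeometry
open AlgSp

namespace Groth.Agent.S10110

open Groth.Agent.H1.EtFppf Groth.Agent.H1.SmFppf Groth.Agent.H1.MonoRep Opposite

theorem surjective_of_points {S : Scheme.{u}} {A B : Over S} (g : A ⟶ B)
    (h : Function.Surjective (Points.map ((yon S).map g))) : Surjective g.left := by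
  rw [Points.map_yon_map_eq] at h
  constructor
  intro y
  obtain ⟨x, hx⟩ := h (Points.schemeHomeo B y)
  exact ⟨(Points.schemeHomeo A).symm x, (Points.schemeHomeo B).injective hx⟩

theorem main (S : Scheme.{u}) (F : AlgSp.PSp S)
    (h1 : Presheaf.IsSheaf (QuotSh.J Scheme.etalePrecoverage S) F) (U : AlgSp.Space S) (p : U.obj.obj ⟶ F)
    (h2 : AlgSp.RepBySpWith (AlgSp.IsSurjectiveMor ⊓ AlgSp.LocP @Smooth) p) :
    AlgSp.IsAlgSpaceP F := by
  obtain ⟨W, q, hqe, hqs⟩ := U.property.atlas
  have key : ∀ {T : Over S} (ξ : (pyon S).obj T ⟶ F), ∃ (I : Over S) (i₁ : I ⟶ W) (i₂ : I ⟶ T),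
      IsPullback ((pyon S).map i₁) ((pyon S).map i₂) (q.hom ≫ p) ξ ∧ Smooth i₂.left ∧
      Surjective i₂.left := by
    intro T ξ
    have sqX : IsPullback (pullback.fst p ξ) (pullback.snd p ξ) p ξ :=
      IsPullback.of_hasPullback _ _
    obtain ⟨hsh, hXT, hsurj, hsm⟩ := h2 ξ _ _ sqX
    let XT : Sp S := ⟨pullback p ξ, hsh⟩
    let pX : XT ⟶ U.obj := ObjectProperty.homMk (pullback.fst p ξ)
    let pT : XT ⟶ (yon S).obj T := ObjectProperty.homMk (pullback.snd p ξ)
    have hsm' : ∀ {V : Over S} (ψ : (yon S).obj V ⟶ XT) (t : V ⟶ T), RepWith @Etale ψ →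
        ψ ≫ pT = (yon S).map t → Smooth t.left := by
      intro V ψ t hψ ht
      refine hsm ψ (𝟙 _) t hψ (repWith_id _ T) ?_
      rw [Category.comp_id]
      exact ht
    have hmono : ∀ {Z : Sp S} (x y : Z ⟶ XT), x ≫ pX = y ≫ pX → x ≫ pT = y ≫ pT → x = y := by
      intro Z x y e1 e2
      apply ObjectProperty.hom_ext
      refine sqX.hom_ext ?_ ?_
      · exact congrArg (fun φ => φ.hom) e1
      · exact congrArg (fun φ => φ.hom) e2
    obtain ⟨I, j, k, hjm, hjl, sqI, hk⟩ := exists_rep_pullback' hXT q hqe hqs hmono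
      (fun {V} ψ t hψ ht => by
        have : Smooth t.left := hsm' ψ t hψ ht
        infer_instance)
    have hke : RepWith @Etale k :=
      (repWith_isStableUnderBaseChange (S := S) @Etale).of_isPullback sqI hqe
    have hks : RepWith @Surjective k :=
      (repWith_isStableUnderBaseChange (S := S) @Surjective).of_isPullback sqI hqs
    have sqI' : IsPullback ((pyon S).map (j ≫ prod.fst)) k.hom q.hom (pullback.fst p ξ) :=
      sqI.map (sheafToPresheaf (AlgSp.J S) (Type (u + 1)))
    have sqB : IsPullback ((pyon S).map (j ≫ prod.fst)) (k.hom ≫ pullback.snd p ξ) (q.hom ≫ p) ξ :=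
      (sqI'.flip.paste_horiz sqX.flip).flip
    have hk' : k.hom ≫ pullback.snd p ξ = (pyon S).map (j ≫ prod.snd) :=
      congrArg (fun φ => φ.hom) hk
    have sqB' : IsPullback ((pyon S).map (j ≫ prod.fst)) ((pyon S).map (j ≫ prod.snd))
        (q.hom ≫ p) ξ :=
      IsPullback.of_iso sqB (Iso.refl _) (Iso.refl _) (Iso.refl _) (Iso.refl _) (by simp)
        (by rw [Iso.refl_hom, Iso.refl_hom, Category.comp_id, Category.id_comp]; exact hk')
        (by simp) (by simp)
    refine ⟨I, j ≫ prod.fst, j ≫ prod.snd, sqB', ?_, ?_⟩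
    · exact hsm' k _ hke hk
    · apply surjective_of_points
      rw [← hk]
      have h3 : Points.map (k ≫ pT) = Points.map pT ∘ Points.map k := by
        funext x
        exact Points.map_comp _ _ x
      rw [h3]
      exact hsurj.comp (Groth.Agent.Lib.helper5.surjective_map_of_repWith_surjective k hks)
  obtain ⟨R, r₁, r₂, sq, he₂, -⟩ := key (q.hom ≫ p)
  have he₁ : Smooth r₁.left := by
    let σ' := sq.isoIsPullback _ _ sq.flip
    have h3 : σ'.hom ≫ (pyon S).map r₂ = (pyon S).map r₁ := sq.isoIsPullback_hom_fst _ _ sq.flip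
    obtain ⟨σ, hσ⟩ := (pyon S).map_surjective σ'.hom
    haveI : IsIso ((pyon S).map σ) := by rw [hσ]; infer_instance
    haveI : IsIso σ := isIso_of_fully_faithful (pyon S) σ
    haveI : IsIso σ.left := (Over.forget S).map_isIso σ
    have h4 : σ ≫ r₂ = r₁ := (pyon S).map_injective (by rw [Functor.map_comp, hσ, h3])
    rw [← h4, Over.comp_left]
    infer_instance
  refine isAlgSpaceP_of_smooth_presentation F h1 (q.hom ≫ p) r₂ r₁ sq he₂ he₁ ?_
  intro T ξ
  obtain ⟨I, i₁, i₂, sq', h3, h4⟩ := key ξ
  obtain ⟨I', i', l, h5, h6, h7⟩ := exists_etale_local_section i₂ h3 h4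
  refine ⟨I', i', l ≫ i₁, h5, h6, ?_⟩
  rw [← h7, Functor.map_comp, Functor.map_comp, Category.assoc, Category.assoc, sq'.w]

/-- A presheaf of sets on schemes over `S` which is a sheaf for the etale topology and receives a map
from an algebraic space which is representable by algebraic spaces, surjective and smooth, is an
algebraic space (in particular an fppf sheaf). In particular this covers a scheme `U` with a
surjective smooth map to `F` when the diagonal of `F` is representable by algebraic spaces, since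
every map from a scheme to `F` is then representable by algebraic spaces. -/
theorem result (S : Scheme.{u}) (F : AlgSp.PSp S)
    (h1 : Presheaf.IsSheaf (QuotSh.J Scheme.etalePrecoverage S) F) (U : AlgSp.Space S) (p : U.obj.obj ⟶ F)
    (h2 : AlgSp.RepBySpWith (AlgSp.IsSurjectiveMor ⊓ AlgSp.LocP @Smooth) p) :
    AlgSp.IsAlgSpaceP F := by
  exact main S F h1 U p h2

end Groth.Agent.S10110
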