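import Groth.Agent.StkLib
set_option autoImplicit false
set_option backward.isDefEq.respectTransparency false
set_option backward.isDefEq.respectTransparency.types false
open CategoryTheory CategoryTheory.Functor CategoryTheory.Limits
universe v₆ u₆ v₅ u₅ v₄ u₄ v₃ u₃ v₂ u₂ v u

namespace Groth.Agent.StkFp
open Groth.Agent.FibEquiv Groth.Agent.FibFiberwise Groth.Agent.FibFp Groth.Agent.FibOver Groth.Agent.FibFpProj
open Groth.Agent.StkLib

variable {C : Type u} [Category.{v} C] {𝒳 : BasedCategory.{v₂, u₂} C} {𝒴 : BasedCategory.{v₃, u₃} C}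
  {𝒮 : BasedCategory.{v₄, u₄} C} (F : 𝒳 ⥤ᵇ 𝒮) (G : 𝒴 ⥤ᵇ 𝒮)

section mk
variable {ℬ : BasedCategory.{v₆, u₆} C}

/-- 2-morphisms into the 2-fibre product from compatible pairs of 2-morphisms -/
def mkTrans {H H' : ℬ ⥤ᵇ FibCat.fp F G}
    (γ₁ : BasedFunctor.comp H (FibCat.fpFst F G) ⟶ BasedFunctor.comp H' (FibCat.fpFst F G))
    (γ₂ : BasedFunctor.comp H (FibCat.fpSnd F G) ⟶ BasedFunctor.comp H' (FibCat.fpSnd F G))
    (compat : ∀ b : ℬ.obj, F.toFunctor.map (γ₁.toNatTrans.app b) ≫ (H'.toFunctor.obj b).obj.iso.hom =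
      (H.toFunctor.obj b).obj.iso.hom ≫ G.toFunctor.map (γ₂.toNatTrans.app b)) : H ⟶ H' where
  toNatTrans :=
    { app := fun b => ObjectProperty.homMk ⟨γ₁.toNatTrans.app b, γ₂.toNatTrans.app b, compat b⟩
      naturality := fun b b' g => by
        apply ObjectProperty.hom_ext
        apply CategoricalPullback.hom_ext
        · exact γ₁.toNatTrans.naturality g
        · exact γ₂.toNatTrans.naturality g }
  isHomLift' := fun b => by
    apply lift_to F G
    exact γ₁.isHomLift' b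

theorem trans_ext {H H' : ℬ ⥤ᵇ FibCat.fp F G} (γ γ' : H ⟶ H')
    (h1 : BasedCategory.whiskerRight γ (FibCat.fpFst F G) = BasedCategory.whiskerRight γ' (FibCat.fpFst F G))
    (h2 : BasedCategory.whiskerRight γ (FibCat.fpSnd F G) = BasedCategory.whiskerRight γ' (FibCat.fpSnd F G)) :
    γ = γ' := by
  apply BasedNatTrans.homCategory.ext
  refine NatTrans.ext (funext fun b => ?_)
  apply ObjectProperty.hom_ext
  apply CategoricalPullback.hom_ext
  · exact congrArg (fun k => k.toNatTrans.app b) h1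
  · exact congrArg (fun k => k.toNatTrans.app b) h2

end mk


section main
variable {𝒜 : BasedCategory.{v₅, u₅} C} {ℬ : BasedCategory.{v₆, u₆} C} (ι : 𝒜 ⥤ᵇ ℬ)

theorem restr_fp_faithful (h𝒳 : (Stk.restr ι 𝒳).Faithful) (h𝒴 : (Stk.restr ι 𝒴).Faithful) :
    (Stk.restr ι (FibCat.fp F G)).Faithful := by
  refine ⟨fun {H H'} γ γ' h => ?_⟩
  apply trans_ext F G
  · apply (Stk.restr ι 𝒳).map_injective
    refine BasedNatTrans.homCategory.ext _ _ (NatTrans.ext (funext fun a => ?_))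
    exact congrArg (fun k => (k.toNatTrans.app a).hom.fst) h
  · apply (Stk.restr ι 𝒴).map_injective
    refine BasedNatTrans.homCategory.ext _ _ (NatTrans.ext (funext fun a => ?_))
    exact congrArg (fun k => (k.toNatTrans.app a).hom.snd) h

theorem restr_fp_full (h𝒳 : (Stk.restr ι 𝒳).Full) (h𝒴 : (Stk.restr ι 𝒴).Full)
    (h𝒮 : (Stk.restr ι 𝒮).Faithful) :
    (Stk.restr ι (FibCat.fp F G)).Full := by
  refine ⟨fun {H H'} δ => ?_⟩
  let δ₁ : (Stk.restr ι 𝒳).obj (BasedFunctor.comp H (FibCat.fpFst F G)) ⟶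
      (Stk.restr ι 𝒳).obj (BasedFunctor.comp H' (FibCat.fpFst F G)) :=
    BasedCategory.whiskerRight δ (FibCat.fpFst F G)
  let δ₂ : (Stk.restr ι 𝒴).obj (BasedFunctor.comp H (FibCat.fpSnd F G)) ⟶
      (Stk.restr ι 𝒴).obj (BasedFunctor.comp H' (FibCat.fpSnd F G)) :=
    BasedCategory.whiskerRight δ (FibCat.fpSnd F G)
  obtain ⟨γ₁, hγ₁⟩ := (Stk.restr ι 𝒳).map_surjective δ₁
  obtain ⟨γ₂, hγ₂⟩ := (Stk.restr ι 𝒴).map_surjective δ₂
  have hγ₁a : ∀ a : 𝒜.obj, γ₁.toNatTrans.app (ι.toFunctor.obj a) = (δ.toNatTrans.app a).hom.fst := fun a =>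
    congrArg (fun k => k.toNatTrans.app a) hγ₁
  have hγ₂a : ∀ a : 𝒜.obj, γ₂.toNatTrans.app (ι.toFunctor.obj a) = (δ.toNatTrans.app a).hom.snd := fun a =>
    congrArg (fun k => k.toNatTrans.app a) hγ₂
  let L : BasedFunctor.comp (BasedFunctor.comp H (FibCat.fpFst F G)) F ⟶
      BasedFunctor.comp (BasedFunctor.comp H' (FibCat.fpSnd F G)) G :=
    BasedCategory.whiskerRight γ₁ F ≫ BasedCategory.whiskerLeft H' (FibCat.fpIso F G).hom
  let Rr : BasedFunctor.comp (BasedFunctor.comp H (FibCat.fpFst F G)) F ⟶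
      BasedFunctor.comp (BasedFunctor.comp H' (FibCat.fpSnd F G)) G :=
    BasedCategory.whiskerLeft H (FibCat.fpIso F G).hom ≫ BasedCategory.whiskerRight γ₂ G
  have hLR : L = Rr := by
    apply (Stk.restr ι 𝒮).map_injective
    refine BasedNatTrans.homCategory.ext _ _ (NatTrans.ext (funext fun a => ?_))
    change F.toFunctor.map (γ₁.toNatTrans.app (ι.toFunctor.obj a)) ≫ (H'.toFunctor.obj (ι.toFunctor.obj a)).obj.iso.hom =
      (H.toFunctor.obj (ι.toFunctor.obj a)).obj.iso.hom ≫ G.toFunctor.map (γ₂.toNatTrans.app (ι.toFunctor.obj a))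
    rw [hγ₁a, hγ₂a]
    exact (δ.toNatTrans.app a).hom.w
  have compat : ∀ b : ℬ.obj, F.toFunctor.map (γ₁.toNatTrans.app b) ≫ (H'.toFunctor.obj b).obj.iso.hom =
      (H.toFunctor.obj b).obj.iso.hom ≫ G.toFunctor.map (γ₂.toNatTrans.app b) := fun b =>
    congrArg (fun k => k.toNatTrans.app b) hLR
  refine ⟨mkTrans F G γ₁ γ₂ compat, ?_⟩
  refine BasedNatTrans.homCategory.ext _ _ (NatTrans.ext (funext fun a => ?_))
  apply ObjectProperty.hom_ext
  apply CategoricalPullback.hom_ext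
  · exact hγ₁a a
  · exact hγ₂a a


/-- whiskering an isomorphism of functors over `C` on the right -/
def whiskerRightIsoB {𝒵 : BasedCategory.{v₅, u₅} C} {𝒲 : BasedCategory.{v₆, u₆} C} {𝒱 : BasedCategory.{v₄, u₄} C}
    {K L : 𝒵 ⥤ᵇ 𝒲} (e : K ≅ L) (H : 𝒲 ⥤ᵇ 𝒱) :
    BasedFunctor.comp K H ≅ BasedFunctor.comp L H where
  hom := BasedCategory.whiskerRight e.hom H
  inv := BasedCategory.whiskerRight e.inv H
  hom_inv_id := by
    apply BasedNatTrans.homCategory.ext; refine NatTrans.ext (funext fun a => ?_)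
    have h : e.hom.toNatTrans.app a ≫ e.inv.toNatTrans.app a = 𝟙 _ :=
      congrArg (fun k => k.toNatTrans.app a) e.hom_inv_id
    change H.toFunctor.map (e.hom.toNatTrans.app a) ≫ H.toFunctor.map (e.inv.toNatTrans.app a) = 𝟙 _
    rw [← Functor.map_comp, h]
    exact H.toFunctor.map_id _
  inv_hom_id := by
    apply BasedNatTrans.homCategory.ext; refine NatTrans.ext (funext fun a => ?_)
    have h : e.inv.toNatTrans.app a ≫ e.hom.toNatTrans.app a = 𝟙 _ :=
      congrArg (fun k => k.toNatTrans.app a) e.inv_hom_id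
    change H.toFunctor.map (e.inv.toNatTrans.app a) ≫ H.toFunctor.map (e.hom.toNatTrans.app a) = 𝟙 _
    rw [← Functor.map_comp, h]
    exact H.toFunctor.map_id _

theorem restr_fp_essSurj (h𝒳 : (Stk.restr ι 𝒳).EssSurj) (h𝒴 : (Stk.restr ι 𝒴).EssSurj)
    (h𝒮 : (Stk.restr ι 𝒮).Full) (h𝒮' : (Stk.restr ι 𝒮).Faithful) :
    (Stk.restr ι (FibCat.fp F G)).EssSurj := by
  refine ⟨fun K => ?_⟩
  let a := (Stk.restr ι 𝒳).objPreimage (BasedFunctor.comp K (FibCat.fpFst F G))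
  let u : (Stk.restr ι 𝒳).obj a ≅ BasedFunctor.comp K (FibCat.fpFst F G) :=
    (Stk.restr ι 𝒳).objObjPreimageIso _
  let b := (Stk.restr ι 𝒴).objPreimage (BasedFunctor.comp K (FibCat.fpSnd F G))
  let w : (Stk.restr ι 𝒴).obj b ≅ BasedFunctor.comp K (FibCat.fpSnd F G) :=
    (Stk.restr ι 𝒴).objObjPreimageIso _
  let e' : (Stk.restr ι 𝒮).obj (BasedFunctor.comp a F) ≅ (Stk.restr ι 𝒮).obj (BasedFunctor.comp b G) :=
    whiskerRightIsoB u F ≪≫ whiskerLeftIsoB K (FibCat.fpIso F G) ≪≫ (whiskerRightIsoB w G).symm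
  let e : BasedFunctor.comp a F ≅ BasedFunctor.comp b G := (Stk.restr ι 𝒮).preimageIso e'
  have he : (Stk.restr ι 𝒮).map e.hom = e'.hom := by simp [e]
  let H : ℬ ⥤ᵇ FibCat.fp F G := FibCat.fpLift a b e
  have hcomp : ∀ x : 𝒜.obj, F.toFunctor.map (u.hom.toNatTrans.app x) ≫ (K.toFunctor.obj x).obj.iso.hom =
      (H.toFunctor.obj (ι.toFunctor.obj x)).obj.iso.hom ≫ G.toFunctor.map (w.hom.toNatTrans.app x) := by
    intro x
    have h1 : (H.toFunctor.obj (ι.toFunctor.obj x)).obj.iso.hom = e'.hom.toNatTrans.app x := by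
      rw [← he]; rfl
    have h2 : e'.hom.toNatTrans.app x = F.toFunctor.map (u.hom.toNatTrans.app x) ≫
        (K.toFunctor.obj x).obj.iso.hom ≫ G.toFunctor.map (w.inv.toNatTrans.app x) := rfl
    have h3 : w.inv.toNatTrans.app x ≫ w.hom.toNatTrans.app x = 𝟙 _ :=
      congrArg (fun k => k.toNatTrans.app x) w.inv_hom_id
    have h4 : G.toFunctor.map (w.inv.toNatTrans.app x) ≫ G.toFunctor.map (w.hom.toNatTrans.app x) = 𝟙 _ := by
      rw [← Functor.map_comp, h3]
      exact G.toFunctor.map_id _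
    rw [h1, h2, Category.assoc, Category.assoc, h4]
    exact (congrArg (fun k => F.toFunctor.map (u.hom.toNatTrans.app x) ≫ k) (Category.comp_id _)).symm
  let ux : ∀ x : 𝒜.obj, (H.toFunctor.obj (ι.toFunctor.obj x)).obj.fst ≅ (K.toFunctor.obj x).obj.fst := fun x =>
    ((BasedNatTrans.forgetful _ _).mapIso u).app x
  let wx : ∀ x : 𝒜.obj, (H.toFunctor.obj (ι.toFunctor.obj x)).obj.snd ≅ (K.toFunctor.obj x).obj.snd := fun x =>
    ((BasedNatTrans.forgetful _ _).mapIso w).app x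
  have hux : ∀ x, (ux x).hom = u.hom.toNatTrans.app x := fun x => rfl
  have hwx : ∀ x, (wx x).hom = w.hom.toNatTrans.app x := fun x => rfl
  let α : ((Stk.restr ι (FibCat.fp F G)).obj H).toFunctor ≅ K.toFunctor :=
    NatIso.ofComponents
      (fun x => ObjectProperty.isoMk _ (CategoricalPullback.mkIso (ux x) (wx x) (by
        rw [hux, hwx]; exact hcomp x)))
      (by
        intro x x' g
        apply ObjectProperty.hom_ext
        apply CategoricalPullback.hom_ext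
        · exact u.hom.toNatTrans.naturality g
        · exact w.hom.toNatTrans.naturality g)
  refine ⟨H, ⟨BasedNatIso.mkNatIso α ?_⟩⟩
  intro x
  apply lift_to F G
  exact u.hom.isHomLift' x

theorem restr_fp_isEquivalence (h𝒳 : (Stk.restr ι 𝒳).IsEquivalence) (h𝒴 : (Stk.restr ι 𝒴).IsEquivalence)
    (h𝒮 : (Stk.restr ι 𝒮).Full) (h𝒮' : (Stk.restr ι 𝒮).Faithful) :
    (Stk.restr ι (FibCat.fp F G)).IsEquivalence :=
  { faithful := restr_fp_faithful F G ι inferInstance inferInstance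
    full := restr_fp_full F G ι inferInstance inferInstance h𝒮'
    essSurj := restr_fp_essSurj F G ι inferInstance inferInstance h𝒮 h𝒮' }

/-- universe-general form of S12792 -/
theorem isStack_fp (J : GrothendieckTopology C) (h𝒳 : Stk.IsStack J 𝒳) (h𝒴 : Stk.IsStack J 𝒴)
    (h𝒮 : Stk.IsPrestack J 𝒮) : Stk.IsStack J (FibCat.fp F G) := by
  refine ⟨isFibGrpd_fp F G h𝒳.1 h𝒴.1 h𝒮.1, fun U R hR => ?_⟩
  have h1 := h𝒳.2 R hR
  have h2 := h𝒴.2 R hR
  obtain ⟨h3, h4⟩ := h𝒮.2 R hR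
  exact restr_fp_isEquivalence F G (Stk.sieveIncl R) h1 h2 h3 h4


theorem isPrestack_of_isStack {𝒵 : BasedCategory.{v₅, u₅} C} (J : GrothendieckTopology C) (h : Stk.IsStack J 𝒵) :
    Stk.IsPrestack J 𝒵 := by
  refine ⟨h.1, fun U R hR => ?_⟩
  have := h.2 R hR
  unfold Stk.IsStackFor at this
  exact ⟨inferInstance, inferInstance⟩

theorem thin_fp (h𝒳 : ∀ U : C, Quiver.IsThin (𝒳.p.Fiber U)) (h𝒴 : ∀ U : C, Quiver.IsThin (𝒴.p.Fiber U)) :
    ∀ U : C, Quiver.IsThin ((FibCat.fp F G).p.Fiber U) := by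
  intro U a b
  refine ⟨fun m m' => ?_⟩
  apply Functor.Fiber.hom_ext
  have hm : (FibCat.fp F G).p.IsHomLift (𝟙 U) (Functor.Fiber.fiberInclusion.map m) := inferInstance
  have hm' : (FibCat.fp F G).p.IsHomLift (𝟙 U) (Functor.Fiber.fiberInclusion.map m') := inferInstance
  generalize (Functor.Fiber.fiberInclusion.map m) = n at hm
  generalize (Functor.Fiber.fiberInclusion.map m') = n' at hm'
  have h1 : 𝒳.p.IsHomLift (𝟙 U) n.hom.fst := lift_from F G _ n hm
  have h1' : 𝒳.p.IsHomLift (𝟙 U) n'.hom.fst := lift_from F G _ n' hm'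
  have h2 : 𝒴.p.IsHomLift (𝟙 U) n.hom.snd := lift_from_snd F G _ n hm
  have h2' : 𝒴.p.IsHomLift (𝟙 U) n'.hom.snd := lift_from_snd F G _ n' hm'
  have t1 := h𝒳 U
  have t2 := h𝒴 U
  have hfst : n.hom.fst = n'.hom.fst := by
    have := Subsingleton.elim (Functor.Fiber.homMk 𝒳.p U n.hom.fst) (Functor.Fiber.homMk 𝒳.p U n'.hom.fst)
    exact congrArg (fun k => Functor.Fiber.fiberInclusion.map k) this
  have hsnd : n.hom.snd = n'.hom.snd := by
    have := Subsingleton.elim (Functor.Fiber.homMk 𝒴.p U n.hom.snd) (Functor.Fiber.homMk 𝒴.p U n'.hom.snd)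
    exact congrArg (fun k => Functor.Fiber.fiberInclusion.map k) this
  apply ObjectProperty.hom_ext
  apply CategoricalPullback.hom_ext
  · exact hfst
  · exact hsnd

end main

end Groth.Agent.StkFp
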