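import Groth.Statements.S12817
import Mathlib

set_option autoImplicit false
universe u
open CategoryTheory AlgebraicGeometry
open AlgSt

namespace Groth.Agent.S12817

/-- In a category fibred in groupoids, two morphisms with the same target lying over the same
base morphism have isomorphic (in particular connected) sources. -/
theorem exists_hom_of_lifts {C : Type*} [Category C] {𝒳 : Type*} [Category 𝒳] (p : 𝒳 ⥤ C)
    [hp : FibCat.IsFibGrpd p] {R T : C} (c : R ⟶ T) {x y z : 𝒳} (ψ : x ⟶ z) (ψ' : y ⟶ z)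
    [h1 : p.IsHomLift c ψ] [h2 : p.IsHomLift c ψ'] : Nonempty (x ⟶ y) := by
  have sc : p.IsStronglyCartesian c ψ' := by
    obtain ⟨⟩ := h2
    exact hp.isStronglyCartesian ψ'
  exact ⟨Functor.IsStronglyCartesian.map p c ψ' (g := 𝟙 R) (f' := c) (by simp) ψ⟩

/-- Two schemes over `S` which are spectra of fields, mapping to a third, are dominated by a common
spectrum of a field. -/
theorem exists_common_field {S : Scheme.{u}} (X₁ X₂ Y : Over S)
    (K₁ : Type u) [Field K₁] (s₁ : Spec (CommRingCat.of K₁) ⟶ S) (h₁ : X₁ = Over.mk s₁)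
    (K₂ : Type u) [Field K₂] (s₂ : Spec (CommRingCat.of K₂) ⟶ S) (h₂ : X₂ = Over.mk s₂)
    (K₃ : Type u) [Field K₃] (s₃ : Spec (CommRingCat.of K₃) ⟶ S) (h₃ : Y = Over.mk s₃)
    (f₁ : X₁ ⟶ Y) (f₂ : X₂ ⟶ Y) :
    ∃ (M : Type u) (_ : Field M) (str : Spec (CommRingCat.of M) ⟶ S)
      (a : Over.mk str ⟶ X₁) (b : Over.mk str ⟶ X₂), a ≫ f₁ = b ≫ f₂ := by
  subst h₁ h₂ h₃
  have hne : Nonempty ↑(Limits.pullback f₁.left f₂.left) := by
    have i1 : Nonempty ↑(Over.mk s₁).left := by
      change Nonempty (PrimeSpectrum K₁); infer_instance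
    have i2 : Nonempty ↑(Over.mk s₂).left := by
      change Nonempty (PrimeSpectrum K₂); infer_instance
    have i3 : Subsingleton ↑(Over.mk s₃).left := by
      change Subsingleton (PrimeSpectrum K₃); infer_instance
    infer_instance
  obtain ⟨z⟩ := hne
  let P := Limits.pullback f₁.left f₂.left
  refine ⟨P.residueField z, inferInstance,
    P.fromSpecResidueField z ≫ Limits.pullback.fst f₁.left f₂.left ≫ s₁,
    Over.homMk (P.fromSpecResidueField z ≫ Limits.pullback.fst f₁.left f₂.left) (by simp),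
    Over.homMk (P.fromSpecResidueField z ≫ Limits.pullback.snd f₁.left f₂.left) ?_, ?_⟩
  · have w1 := Over.w f₁
    have w2 := Over.w f₂
    simp only [Over.mk_hom] at w1 w2 ⊢
    have e1 : Limits.pullback.snd f₁.left f₂.left ≫ s₂ =
        Limits.pullback.fst f₁.left f₂.left ≫ s₁ := by
      calc _ = Limits.pullback.snd f₁.left f₂.left ≫ f₂.left ≫ s₃ := by rw [w2]
        _ = Limits.pullback.fst f₁.left f₂.left ≫ f₁.left ≫ s₃ := by
          rw [← Category.assoc, ← Limits.pullback.condition, Category.assoc]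
        _ = _ := by rw [w1]
    rw [Category.assoc, e1]
  · apply Over.OverMorphism.ext
    simp only [Over.comp_left, Over.homMk_left, Category.assoc]
    rw [Limits.pullback.condition]


/-- For a category fibred in groupoids over the category of schemes over `S`, the relation on
field-valued points under which `Spec K ⟶ 𝒳` and `Spec L ⟶ 𝒳` are related when some `Spec M ⟶ 𝒳`
maps to both is an equivalence relation, so that the points of `𝒳` are its equivalence classes. (The
published statement is for an algebraic stack; this row takes any category fibred in groupoids over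
the base.) -/
theorem result {S : Scheme.{u}} (𝒳 : AlgSt.Cat S) (h𝒳 : FibCat.IsFibGrpd 𝒳.p) :
    _root_.Equivalence (@AlgSt.FPt.Rel S 𝒳) := by
  have := h𝒳
  refine ⟨fun p => ⟨p, 𝟙 _, 𝟙 _, trivial⟩, ?_, ?_⟩
  · rintro p q ⟨r, a, b, -⟩
    exact ⟨r, b, a, trivial⟩
  · rintro p q s ⟨r, α, β, -⟩ ⟨r', γ, δ, -⟩
    obtain ⟨M, hM, str, a, b, hab⟩ := exists_common_field (𝒳.p.obj r.obj) (𝒳.p.obj r'.obj)
      (𝒳.p.obj q.obj) r.K r.str r.lies r'.K r'.str r'.lies q.K q.str q.lies
      (𝒳.p.map β) (𝒳.p.map γ)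
    obtain ⟨t₀, φ, hφ⟩ := h𝒳.exists_lift a
    obtain ⟨t₀', φ', hφ'⟩ := h𝒳.exists_lift b
    have l1 : 𝒳.p.IsHomLift (a ≫ 𝒳.p.map β) (φ ≫ β) := inferInstance
    have l2 : 𝒳.p.IsHomLift (a ≫ 𝒳.p.map β) (φ' ≫ γ) := by
      rw [hab]; infer_instance
    obtain ⟨χ⟩ := exists_hom_of_lifts 𝒳.p (a ≫ 𝒳.p.map β) (φ ≫ β) (φ' ≫ γ)
    exact ⟨{ K := M, str := str, obj := t₀, lies := CategoryTheory.IsHomLift.domain_eq 𝒳.p a φ },
      φ ≫ α, χ ≫ φ' ≫ δ, trivial⟩

end Groth.Agent.S12817
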