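import Groth.Agent.StkFp
set_option autoImplicit false
set_option backward.isDefEq.respectTransparency false
set_option backward.isDefEq.respectTransparency.types false
set_option linter.unusedSectionVars false
set_option linter.style.haveILetI false
open CategoryTheory CategoryTheory.Functor CategoryTheory.Limits
universe v₆ u₆ v₅ u₅ v₄ u₄ v₃ u₃ v₂ u₂ v u

namespace Groth.Agent.StkLocal
open Groth.Agent.FibEquiv Groth.Agent.FibFiberwise Groth.Agent.FibFp Groth.Agent.FibOver Groth.Agent.FibFpProj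
open Groth.Agent.StkLib Groth.Agent.FibYoneda

variable {C : Type u} [Category.{v} C] {𝒳 : BasedCategory.{v₂, u₂} C} {𝒴 : BasedCategory.{v₃, u₃} C}

/-- descent of an object that is locally in the essential image of a fully faithful functor -/
theorem essImage_of_locally (F : 𝒳 ⥤ᵇ 𝒴) [F.toFunctor.Full] [F.toFunctor.Faithful]
    (h𝒴 : FibCat.IsFibGrpd 𝒴.p) (y : 𝒴.obj) (R : Sieve (𝒴.p.obj y))
    (hX : (Stk.restr (Stk.sieveIncl R) 𝒳).EssSurj)
    (hYfull : (Stk.restr (Stk.sieveIncl R) 𝒴).Full) (hYfaith : (Stk.restr (Stk.sieveIncl R) 𝒴).Faithful)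
    (hloc : ∀ ⦃V : C⦄ (f : V ⟶ 𝒴.p.obj y), R f → ∃ (x : 𝒳.obj) (φ : F.toFunctor.obj x ⟶ y), 𝒴.p.IsHomLift f φ) :
    ∃ (ξ : 𝒳.obj) (e : F.toFunctor.obj ξ ≅ y), 𝒴.p.IsHomLift (𝟙 (𝒴.p.obj y)) e.hom := by
  classical
  have hfib : 𝒴.p.IsFibered := isFibered_of_isFibGrpd 𝒴.p h𝒴
  choose xs φs hφs using hloc
  -- local data
  let X : (Stk.sieveCat R).obj → 𝒳.obj := fun a => xs a.obj.hom a.property
  let Φ : ∀ a : (Stk.sieveCat R).obj, F.toFunctor.obj (X a) ⟶ y := fun a => φs a.obj.hom a.property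
  have hΦ : ∀ a, 𝒴.p.IsHomLift a.obj.hom (Φ a) := fun a => hφs a.obj.hom a.property
  have hΦsc : ∀ a, 𝒴.p.IsStronglyCartesian a.obj.hom (Φ a) := fun a => by
    have := hΦ a
    exact isStronglyCartesian_of_isFibGrpd 𝒴.p h𝒴 _ _
  have hXproj : ∀ a, 𝒳.p.obj (X a) = a.obj.left := fun a => by
    have := hΦ a
    exact (F.w_obj _).symm.trans (IsHomLift.domain_eq 𝒴.p a.obj.hom (Φ a))
  -- transition morphisms
  let χ : ∀ {a b : (Stk.sieveCat R).obj} (k : a ⟶ b), F.toFunctor.obj (X a) ⟶ F.toFunctor.obj (X b) :=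
    fun {a b} k =>
      haveI := hΦsc b
      haveI := hΦ a
      IsStronglyCartesian.map 𝒴.p b.obj.hom (Φ b) (g := k.hom.left) (f' := a.obj.hom) (Over.w k.hom).symm (Φ a)
  have hχlift : ∀ {a b : (Stk.sieveCat R).obj} (k : a ⟶ b), 𝒴.p.IsHomLift k.hom.left (χ k) := by
    intro a b k
    haveI := hΦsc b
    haveI := hΦ a
    dsimp only [χ]
    infer_instance
  have hχfac : ∀ {a b : (Stk.sieveCat R).obj} (k : a ⟶ b), χ k ≫ Φ b = Φ a := by
    intro a b k
    haveI := hΦsc b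
    haveI := hΦ a
    exact IsStronglyCartesian.fac 𝒴.p b.obj.hom (Φ b) (Over.w k.hom).symm (Φ a)
  have hχuniq : ∀ {a b : (Stk.sieveCat R).obj} (k : a ⟶ b) (ψ : F.toFunctor.obj (X a) ⟶ F.toFunctor.obj (X b)),
      𝒴.p.IsHomLift k.hom.left ψ → ψ ≫ Φ b = Φ a → ψ = χ k := by
    intro a b k ψ h1 h2
    haveI := hΦsc b
    haveI := hΦ a
    exact IsStronglyCartesian.map_uniq 𝒴.p b.obj.hom (Φ b) (Over.w k.hom).symm (Φ a) ψ h2
  -- the descent datum as a functor from the sieve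
  let Df : (Stk.sieveCat R).obj ⥤ 𝒳.obj :=
    { obj := X
      map := fun {a b} k => F.toFunctor.preimage (χ k)
      map_id := fun a => by
        apply F.toFunctor.map_injective
        rw [Functor.map_preimage, CategoryTheory.Functor.map_id]
        symm
        apply hχuniq
        · exact IsHomLift.id ((F.w_obj _).trans (hXproj a))
        · simp
      map_comp := fun {a b c} k l => by
        apply F.toFunctor.map_injective
        rw [Functor.map_preimage, Functor.map_comp, Functor.map_preimage, Functor.map_preimage]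
        symm
        apply hχuniq
        · have h1 := hχlift k
          have h2 := hχlift l
          change 𝒴.p.IsHomLift (k.hom.left ≫ l.hom.left) (χ k ≫ χ l)
          infer_instance
        · rw [Category.assoc, hχfac, hχfac] }
  have hDlift : ∀ {a b : (Stk.sieveCat R).obj} (k : a ⟶ b), 𝒳.p.IsHomLift k.hom.left (Df.map k) := by
    intro a b k
    have h1 : 𝒴.p.IsHomLift k.hom.left (F.toFunctor.map (Df.map k)) := by
      change 𝒴.p.IsHomLift k.hom.left (F.toFunctor.map (F.toFunctor.preimage (χ k)))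
      rw [Functor.map_preimage]
      exact hχlift k
    exact F.isHomLift_map _ _
  let D : Stk.sieveCat R ⥤ᵇ 𝒳 :=
    { toFunctor := Df
      w := CategoryTheory.Functor.ext (fun a => hXproj a) (fun a b k => by
        have := hDlift k
        exact IsHomLift.fac' 𝒳.p k.hom.left (Df.map k)) }
  -- extend to the slice
  let Dt : FibCat.overCat (𝒴.p.obj y) ⥤ᵇ 𝒳 := (Stk.restr (Stk.sieveIncl R) 𝒳).objPreimage D
  let δ : (Stk.restr (Stk.sieveIncl R) 𝒳).obj Dt ≅ D := (Stk.restr (Stk.sieveIncl R) 𝒳).objObjPreimageIso D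
  let Y : FibCat.overCat (𝒴.p.obj y) ⥤ᵇ 𝒴 := yBased y
  -- components of the comparison on the sieve
  have hδlift : ∀ a : (Stk.sieveCat R).obj, 𝒳.p.IsHomLift (𝟙 a.obj.left) (δ.hom.toNatTrans.app a) := fun a =>
    δ.hom.isHomLift' a
  let κ : ∀ a : (Stk.sieveCat R).obj, F.toFunctor.obj (X a) ≅ yObj y a.obj := fun a =>
    haveI := hΦsc a
    IsCartesian.domainUniqueUpToIso 𝒴.p a.obj.hom (yMap y a.obj) (Φ a)
  have hκfac : ∀ a, (κ a).hom ≫ yMap y a.obj = Φ a := fun a => by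
    haveI := hΦsc a
    exact IsCartesian.fac 𝒴.p a.obj.hom (yMap y a.obj) (Φ a)
  have hκlift : ∀ a, 𝒴.p.IsHomLift (𝟙 a.obj.left) (κ a).hom := fun a => by
    haveI := hΦsc a
    dsimp only [κ]
    infer_instance
  let comp : ∀ a : (Stk.sieveCat R).obj,
      F.toFunctor.obj (Dt.toFunctor.obj a.obj) ⟶ Y.toFunctor.obj a.obj := fun a =>
    F.toFunctor.map (δ.hom.toNatTrans.app a) ≫ (κ a).hom
  have hcomplift : ∀ a, 𝒴.p.IsHomLift (𝟙 a.obj.left) (comp a) := fun a => by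
    have h1 := hδlift a
    have h2 := hκlift a
    have h3 : 𝒴.p.IsHomLift (𝟙 a.obj.left) (F.toFunctor.map (δ.hom.toNatTrans.app a)) := inferInstance
    have : 𝒴.p.IsHomLift (𝟙 a.obj.left ≫ 𝟙 a.obj.left) (comp a) := inferInstance
    simpa using this
  have hcompfac : ∀ a, comp a ≫ yMap y a.obj = F.toFunctor.map (δ.hom.toNatTrans.app a) ≫ Φ a := fun a => by
    dsimp only [comp]
    rw [Category.assoc, hκfac]
  have hcompiso : ∀ a, IsIso (comp a) := fun a => by
    have : IsIso (δ.hom.toNatTrans.app a) := by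
      exact (inferInstance : IsIso (((BasedNatTrans.forgetful _ _).mapIso δ).app a).hom)
    dsimp only [comp]
    infer_instance
  have hnat : ∀ {a b : (Stk.sieveCat R).obj} (k : a ⟶ b),
      F.toFunctor.map (Dt.toFunctor.map k.hom) ≫ comp b = comp a ≫ Y.toFunctor.map k.hom := by
    intro a b k
    have hk1 : 𝒴.p.IsHomLift k.hom.left (F.toFunctor.map (Dt.toFunctor.map k.hom)) := by
      have : 𝒳.p.IsHomLift k.hom.left (Dt.toFunctor.map k.hom) := map_hom_isHomLift Dt k.hom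
      infer_instance
    have hk2 : 𝒴.p.IsHomLift k.hom.left (Y.toFunctor.map k.hom) := map_hom_isHomLift Y k.hom
    have hb := hcomplift b
    have ha := hcomplift a
    have hl1 : 𝒴.p.IsHomLift k.hom.left (F.toFunctor.map (Dt.toFunctor.map k.hom) ≫ comp b) := by
      have : 𝒴.p.IsHomLift (k.hom.left ≫ 𝟙 b.obj.left) (F.toFunctor.map (Dt.toFunctor.map k.hom) ≫ comp b) :=
        inferInstance
      simpa using this
    have hl2 : 𝒴.p.IsHomLift k.hom.left (comp a ≫ Y.toFunctor.map k.hom) := by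
      have : 𝒴.p.IsHomLift (𝟙 a.obj.left ≫ k.hom.left) (comp a ≫ Y.toFunctor.map k.hom) := inferInstance
      simpa using this
    apply IsStronglyCartesian.ext 𝒴.p b.obj.hom (yMap y b.obj) k.hom.left
    have hδnat : Dt.toFunctor.map k.hom ≫ δ.hom.toNatTrans.app b = δ.hom.toNatTrans.app a ≫ Df.map k :=
      δ.hom.toNatTrans.naturality k
    have hY : Y.toFunctor.map k.hom ≫ yMap y b.obj = yMap y a.obj := yHom_fac y k.hom
    rw [Category.assoc, hcompfac, ← Functor.map_comp_assoc, hδnat, Functor.map_comp_assoc]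
    rw [Category.assoc, hY, hcompfac]
    congr 1
    change F.toFunctor.map (F.toFunctor.preimage (χ k)) ≫ Φ b = Φ a
    rw [Functor.map_preimage, hχfac]
  let E0 : ((Stk.restr (Stk.sieveIncl R) 𝒴).obj (BasedFunctor.comp Dt F)).toFunctor ≅
      ((Stk.restr (Stk.sieveIncl R) 𝒴).obj Y).toFunctor :=
    NatIso.ofComponents (fun a => @asIso _ _ _ _ (comp a) (hcompiso a)) (fun {a b} k => hnat k)
  let E : (Stk.restr (Stk.sieveIncl R) 𝒴).obj (BasedFunctor.comp Dt F) ≅ (Stk.restr (Stk.sieveIncl R) 𝒴).obj Y :=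
    BasedNatIso.mkNatIso E0 (fun a => hcomplift a)
  let E' : BasedFunctor.comp Dt F ≅ Y := (Stk.restr (Stk.sieveIncl R) 𝒴).preimageIso E
  let e₁ : F.toFunctor.obj (Dt.toFunctor.obj (Over.mk (𝟙 (𝒴.p.obj y)))) ≅ Y.toFunctor.obj (Over.mk (𝟙 (𝒴.p.obj y))) :=
    ((BasedNatTrans.forgetful _ _).mapIso E').app (Over.mk (𝟙 (𝒴.p.obj y)))
  have he₁ : 𝒴.p.IsHomLift (𝟙 (𝒴.p.obj y)) e₁.hom := E'.hom.isHomLift' (Over.mk (𝟙 (𝒴.p.obj y)))
  obtain ⟨e₂, he₂⟩ := yBased_id_iso y
  refine ⟨Dt.toFunctor.obj (Over.mk (𝟙 (𝒴.p.obj y))), e₁ ≪≫ e₂, ?_⟩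
  have : 𝒴.p.IsHomLift (𝟙 (𝒴.p.obj y) ≫ 𝟙 (𝒴.p.obj y)) (e₁.hom ≫ e₂.hom) := inferInstance
  simpa using this

end Groth.Agent.StkLocal
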