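import Groth.Statements.S12794
import Mathlib
import Groth.Agent.StkLocal
-- import your own Groth.Agent.* helpers here

set_option autoImplicit false
set_option backward.isDefEq.respectTransparency false
set_option backward.isDefEq.respectTransparency.types false
open CategoryTheory
universe w v u
open Stk

namespace Groth.Agent.S12794

/-- Let `𝒳`, `𝒴` be stacks in groupoids over `C` for the topology `J` and `F : 𝒳 ⟶ 𝒴` a functor over `C`
whose underlying functor is fully faithful. Then `F` is an equivalence over `C` if and only if every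
object `y` of `𝒴` is locally in the essential image: there is a covering sieve `R` of the object
under `y` such that for every arrow `f` of `R` some object `x` of `𝒳` has a morphism `F x ⟶ y` lying
over `f` (equivalently, the pullback of `y` along `f` is isomorphic in its fibre to an object in the
image of `F`). (The published statement is for stacks over the site, not necessarily in groupoids,
and 1-morphisms of stacks; this row treats stacks in groupoids.) -/
theorem result {C : Type u} [Category.{v} C] (J : GrothendieckTopology C) {𝒳 𝒴 : BasedCategory.{v, max u v} C}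
    (h𝒳 : Stk.IsStack J 𝒳) (h𝒴 : Stk.IsStack J 𝒴) (F : 𝒳 ⥤ᵇ 𝒴) [F.toFunctor.Full] [F.toFunctor.Faithful] :
    FibCat.IsEquivOver F ↔
      ∀ y : 𝒴.obj, ∃ R ∈ J (𝒴.p.obj y), ∀ ⦃V : C⦄ (f : V ⟶ 𝒴.p.obj y), R f →
        ∃ (x : 𝒳.obj) (φ : F.obj x ⟶ y), 𝒴.p.IsHomLift f φ := by
  classical
  constructor
  · intro hF y
    refine ⟨⊤, J.top_mem _, fun V f _ => ?_⟩
    obtain ⟨-, hess⟩ := Groth.Agent.FibEquiv.of_isEquivOver F hF
    obtain ⟨y', ψ, hψ⟩ := h𝒴.1.exists_lift (p := 𝒴.p) (x := y) f
    obtain ⟨x, e, he⟩ := hess y'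
    have hV : 𝒴.p.obj y' = V := IsHomLift.domain_eq 𝒴.p f ψ
    have he' : 𝒴.p.IsHomLift (𝟙 V) e.hom := Groth.Agent.FibEquiv.isHomLift_of_eq 𝒴.p hV e.hom
    refine ⟨x, e.hom ≫ ψ, ?_⟩
    have : 𝒴.p.IsHomLift (𝟙 V ≫ f) (e.hom ≫ ψ) := inferInstance
    simpa using this
  · intro h
    apply Groth.Agent.FibEquiv.isEquivOver_of F
    intro y
    obtain ⟨R, hR, hloc⟩ := h y
    have h1 := h𝒳.2 R hR
    have h2 := h𝒴.2 R hR
    unfold Stk.IsStackFor Stk.resSieve at h1 h2
    exact Groth.Agent.StkLocal.essImage_of_locally F h𝒴.1 y R inferInstance inferInstance inferInstance hloc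

end Groth.Agent.S12794
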