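import Groth.Statements.S12818
import Mathlib
import Groth.Agent.S12817

set_option autoImplicit false
universe u
open CategoryTheory AlgebraicGeometry
open AlgSt

namespace Groth.Agent.S12818

/-- In a category fibred in groupoids, two morphisms with the same target lying over the same
base morphism have sources isomorphic over the identity. -/
theorem exists_iso_of_lifts {C : Type*} [Category C] {𝒳 : Type*} [Category 𝒳] (p : 𝒳 ⥤ C)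
    [hp : FibCat.IsFibGrpd p] {R T : C} (c : R ⟶ T) {x y z : 𝒳} (ψ : x ⟶ z) (ψ' : y ⟶ z)
    [h1 : p.IsHomLift c ψ] [h2 : p.IsHomLift c ψ'] :
    ∃ ι : x ≅ y, p.IsHomLift (𝟙 R) ι.hom := by
  have sc : p.IsStronglyCartesian c ψ' := by
    obtain ⟨⟩ := h2
    exact hp.isStronglyCartesian ψ'
  have sc' : p.IsStronglyCartesian c ψ := by
    obtain ⟨⟩ := h1
    exact hp.isStronglyCartesian ψ
  exact ⟨Functor.IsCartesian.domainUniqueUpToIso p c ψ' ψ, inferInstance⟩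

theorem isHomLift_id_of_eq {C : Type*} [Category C] {𝒳 : Type*} [Category 𝒳] (p : 𝒳 ⥤ C)
    {R R' : C} (h : R = R') {x y : 𝒳} (ι : x ⟶ y) (hι : p.IsHomLift (𝟙 R) ι) :
    p.IsHomLift (𝟙 R') ι := by
  subst h; exact hι


/-- For morphisms `f : 𝒳 ⟶ 𝒴` and `g : 𝒵 ⟶ 𝒴` of algebraic stacks over `S`, the map `|𝒵 ×_𝒴 𝒳| → |𝒵|
×_{|𝒴|} |𝒳|` is surjective: a point of `𝒵` and a point of `𝒳` with the same image in `|𝒴|` are the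
two projections of some point of the 2-fibre product. -/
theorem result {S : Scheme.{u}} {𝒳 𝒴 𝒵 : AlgSt.Cat S}
    (h𝒳 : AlgSt.IsAlgStack Scheme.fppfPrecoverage 𝒳) (h𝒴 : AlgSt.IsAlgStack Scheme.fppfPrecoverage 𝒴)
    (h𝒵 : AlgSt.IsAlgStack Scheme.fppfPrecoverage 𝒵) (f : 𝒳 ⥤ᵇ 𝒴) (g : 𝒵 ⥤ᵇ 𝒴)
    (z : AlgSt.Points 𝒵) (x : AlgSt.Points 𝒳) (h : AlgSt.Points.map g z = AlgSt.Points.map f x) :
    ∃ w : AlgSt.Points (FibCat.fp g f),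
      AlgSt.Points.map (FibCat.fpFst g f) w = z ∧ AlgSt.Points.map (FibCat.fpSnd g f) w = x := by
  have hZ : FibCat.IsFibGrpd 𝒵.p := h𝒵.isStack.1
  have hX : FibCat.IsFibGrpd 𝒳.p := h𝒳.isStack.1
  have hY : FibCat.IsFibGrpd 𝒴.p := h𝒴.isStack.1
  obtain ⟨z₀, rfl⟩ := AlgSt.Points.mk_surjective z
  obtain ⟨x₀, rfl⟩ := AlgSt.Points.mk_surjective x
  have hrel : AlgSt.FPt.Rel (z₀.map g) (x₀.map f) := by
    have h' := Quot.eqvGen_exact h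
    exact (Groth.Agent.S12817.result 𝒴 hY).eqvGen_iff.mp h'
  obtain ⟨r, α₀, β₀, -⟩ := hrel
  obtain ⟨α, -⟩ : ∃ α : r.obj ⟶ g.obj z₀.obj, α = α₀ := ⟨α₀, rfl⟩
  obtain ⟨β, -⟩ : ∃ β : r.obj ⟶ f.obj x₀.obj, β = β₀ := ⟨β₀, rfl⟩
  -- base morphisms
  have ha : 𝒴.p.IsHomLift (𝒴.p.map α ≫ eqToHom (g.w_obj z₀.obj)) α := inferInstance
  have hb : 𝒴.p.IsHomLift (𝒴.p.map β ≫ eqToHom (f.w_obj x₀.obj)) β := inferInstance
  obtain ⟨z', φ, hφ⟩ := hZ.exists_lift (𝒴.p.map α ≫ eqToHom (g.w_obj z₀.obj))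
  obtain ⟨x', ψ, hψ⟩ := hX.exists_lift (𝒴.p.map β ≫ eqToHom (f.w_obj x₀.obj))
  have hgφ : 𝒴.p.IsHomLift (𝒴.p.map α ≫ eqToHom (g.w_obj z₀.obj)) (g.map φ) := inferInstance
  have hfψ : 𝒴.p.IsHomLift (𝒴.p.map β ≫ eqToHom (f.w_obj x₀.obj)) (f.map ψ) := inferInstance
  obtain ⟨ι₁, hι₁⟩ := exists_iso_of_lifts 𝒴.p (𝒴.p.map α ≫ eqToHom (g.w_obj z₀.obj)) (g.map φ) α
  obtain ⟨ι₂, hι₂⟩ := exists_iso_of_lifts 𝒴.p (𝒴.p.map β ≫ eqToHom (f.w_obj x₀.obj)) β (f.map ψ)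
  have hz' : 𝒵.p.obj z' = 𝒴.p.obj r.obj :=
    CategoryTheory.IsHomLift.domain_eq 𝒵.p (𝒴.p.map α ≫ eqToHom (g.w_obj z₀.obj)) φ
  have hι : 𝒴.p.IsHomLift (𝟙 (𝒵.p.obj z')) (ι₁ ≪≫ ι₂).hom := by
    apply isHomLift_id_of_eq 𝒴.p hz'.symm
    have : 𝒴.p.IsHomLift (𝟙 (𝒴.p.obj r.obj) ≫ 𝟙 (𝒴.p.obj r.obj)) (ι₁.hom ≫ ι₂.hom) :=
      inferInstance
    simpa using this
  let o : (FibCat.fp g f).obj := ⟨⟨z', x', ι₁ ≪≫ ι₂⟩, hι⟩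
  let w₀ : AlgSt.FPt (FibCat.fp g f) :=
    { K := r.K, str := r.str, obj := o, lies := hz'.trans r.lies }
  refine ⟨AlgSt.Points.mk w₀, ?_, ?_⟩
  · rw [AlgSt.Points.map_mk]
    apply AlgSt.Points.sound
    exact ⟨w₀.map (FibCat.fpFst g f), 𝟙 _, (φ : z' ⟶ z₀.obj), trivial⟩
  · rw [AlgSt.Points.map_mk]
    apply AlgSt.Points.sound
    exact ⟨w₀.map (FibCat.fpSnd g f), 𝟙 _, (ψ : x' ⟶ x₀.obj), trivial⟩

end Groth.Agent.S12818
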