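import Groth.Statements.S2334
import Mathlib
import Groth.Agent.S4450
-- import your own Groth.Agent.* helpers here

set_option autoImplicit false
universe u
open CategoryTheory CategoryTheory.Limits AlgebraicGeometry
open EGA2

namespace Groth.Agent.S2334

open AlgebraicGeometry CategoryTheory Limits in
/-- Restriction of a morphism from `Spec A` (`A` a valuation subring of `κ`) to the fraction
ring of `A` factors through `Spec κ`. -/
lemma fracRestrict_eq {κ : Type u} [Field κ] (A : ValuationSubring κ) :
    ∃ e : Spec (CommRingCat.of (FractionRing A)) ⟶ Spec (CommRingCat.of κ),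
      Spec.map (CommRingCat.ofHom (algebraMap A (FractionRing A))) =
        e ≫ Spec.map (CommRingCat.ofHom A.subtype) := by
  let e : κ ≃ₐ[A] FractionRing A := (FractionRing.algEquiv A κ).symm
  refine ⟨Spec.map (CommRingCat.ofHom (e : κ →+* FractionRing A)), ?_⟩
  rw [← Spec.map_comp, ← CommRingCat.ofHom_comp]
  congr 2
  ext a
  exact (e.commutes a).symm

open AlgebraicGeometry CategoryTheory Limits in
theorem isSeparated_of_dvr {X Y : Scheme.{u}} [IsLocallyNoetherian Y] (f : X ⟶ Y)
    [LocallyOfFiniteType f]
    (H : ∀ (A : Type u) [CommRing A] [IsDomain A] [IsDiscreteValuationRing A]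
      (g₁ g₂ : (Spec (CommRingCat.of A)) ⟶ X), g₁ ≫ f = g₂ ≫ f →
      (Spec.map (CommRingCat.ofHom (algebraMap A (FractionRing A)))) ≫ g₁ =
        (Spec.map (CommRingCat.ofHom (algebraMap A (FractionRing A)))) ≫ g₂ → g₁ = g₂) :
    IsSeparated f := by
  haveI : IsLocallyNoetherian X := LocallyOfFiniteType.isLocallyNoetherian f
  haveI : QuasiSeparated f := inferInstance
  haveI : QuasiCompact (pullback.diagonal f) := QuasiSeparated.quasiCompact_diagonal
  haveI : IsLocallyNoetherian (pullback f f) :=
    LocallyOfFiniteType.isLocallyNoetherian (pullback.fst f f ≫ f)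
  haveI : LocallyOfFiniteType (pullback.diagonal f) := inferInstance
  refine ⟨?_⟩
  apply IsClosedImmersion.of_isPreimmersion
  apply IsClosedMap.isClosed_range
  rw [isClosedMap_iff_specializingMap]
  intro x z' hspec
  by_cases hne : z' = (pullback.diagonal f).base x
  · exact ⟨x, specializes_rfl, hne.symm⟩
  obtain ⟨A, h, hA, hcl, hgen⟩ := Groth.Agent.S4450.result (pullback.diagonal f) x z' hspec hne
  have hfst : Spec.map (CommRingCat.ofHom A.subtype) ≫ h ≫ pullback.fst f f =
      X.fromSpecResidueField x := by
    rw [← Category.assoc, hgen, Category.assoc, pullback.diagonal_fst, Category.comp_id]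
  have hsnd : Spec.map (CommRingCat.ofHom A.subtype) ≫ h ≫ pullback.snd f f =
      X.fromSpecResidueField x := by
    rw [← Category.assoc, hgen, Category.assoc, pullback.diagonal_snd, Category.comp_id]
  have h12 : h ≫ pullback.fst f f = h ≫ pullback.snd f f := by
    refine H A _ _ ?_ ?_
    · rw [Category.assoc, Category.assoc, pullback.condition]
    · obtain ⟨e, he⟩ := fracRestrict_eq A
      rw [he, Category.assoc, Category.assoc, hfst, hsnd]
  have hh : h = (h ≫ pullback.fst f f) ≫ pullback.diagonal f := by
    apply pullback.hom_ext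
    · rw [Category.assoc, pullback.diagonal_fst, Category.comp_id]
    · rw [Category.assoc, pullback.diagonal_snd, Category.comp_id, h12]
  refine ⟨(h ≫ pullback.fst f f).base (IsLocalRing.closedPoint A), ?_, ?_⟩
  · obtain ⟨pt⟩ : Nonempty ↥(Spec (CommRingCat.of (X.residueField x))) := inferInstance
    have h1 : (Spec.map (CommRingCat.ofHom A.subtype)).base pt ⤳ IsLocalRing.closedPoint A :=
      IsLocalRing.specializes_closedPoint _
    have h2 : (h ≫ pullback.fst f f) ((Spec.map (CommRingCat.ofHom A.subtype)) pt) ⤳
        (h ≫ pullback.fst f f) (IsLocalRing.closedPoint ↥A) :=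
      h1.map (h ≫ pullback.fst f f).base.hom.continuous
    have h3 : (h ≫ pullback.fst f f).base ((Spec.map (CommRingCat.ofHom A.subtype)).base pt)
        = x := by
      rw [← Scheme.Hom.comp_apply, hfst]
      exact Scheme.fromSpecResidueField_apply _ _
    rw [h3] at h2
    exact h2
  · rw [← hcl]
    conv_rhs => rw [hh]
    rfl


/-- Locally Noetherian case of the valuative criterion of separatedness: let Y be a locally Noetherian
scheme and f : X → Y locally of finite type. Then f is separated if and only if for every discrete
valuation ring A with fraction field K, any two morphisms Spec A → X with the same composite to Y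
which agree on Spec K are equal. (In the general criterion the diagonal must be assumed
quasi-compact; that is automatic here.) -/
theorem result {X Y : Scheme.{u}} [IsLocallyNoetherian Y] (f : X ⟶ Y) [LocallyOfFiniteType f] :
    IsSeparated f ↔ ∀ (A : Type u) [CommRing A] [IsDomain A] [IsDiscreteValuationRing A] (g₁ g₂ : (Spec (CommRingCat.of A)) ⟶ X),
      g₁ ≫ f = g₂ ≫ f → (Spec.map (CommRingCat.ofHom (algebraMap A (FractionRing A)))) ≫ g₁ = (Spec.map (CommRingCat.ofHom (algebraMap A (FractionRing A)))) ≫ g₂ → g₁ = g₂ := by
  constructor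
  · intro hsep A _ _ _ g₁ g₂ hf hK
    have huniq := IsSeparated.valuativeCriterion f
    let S : ValuativeCommSq f :=
      { R := A
        K := FractionRing A
        i₁ := Spec.map (CommRingCat.ofHom (algebraMap A (FractionRing A))) ≫ g₁
        i₂ := g₁ ≫ f
        commSq := ⟨by rw [Category.assoc]⟩ }
    have hsub := huniq S
    let l₁ : S.commSq.LiftStruct := ⟨g₁, rfl, rfl⟩
    let l₂ : S.commSq.LiftStruct := ⟨g₂, hK.symm, hf.symm⟩
    have := congrArg CommSq.LiftStruct.l (Subsingleton.elim l₁ l₂)
    exact this
  · exact isSeparated_of_dvr f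

end Groth.Agent.S2334
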