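import Groth.Statements.S9213
import Mathlib
import Groth.Agent.Lib.Helper13.UCA4
import Groth.Agent.S4450
import Groth.Agent.S2334
-- import your own Groth.Agent.* helpers here

set_option autoImplicit false
universe u
open CategoryTheory CategoryTheory.Limits AlgebraicGeometry
open Lim

namespace Groth.Agent.S9213

open AlgebraicGeometry CategoryTheory Limits in
/-- A finite type morphism to a locally Noetherian scheme satisfying the existence part of the
valuative criterion for discrete valuation rings is a closed map. -/
theorem isClosedMap_of_dvr {X S : Scheme.{u}} [IsLocallyNoetherian S] (f : X ⟶ S)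
    [LocallyOfFiniteType f] [QuasiCompact f]
    (H : ∀ (A : Type u) [CommRing A] [IsDomain A] [IsDiscreteValuationRing A]
      (x : Spec (CommRingCat.of (FractionRing A)) ⟶ X) (y : Spec (CommRingCat.of A) ⟶ S),
      x ≫ f = Spec.map (CommRingCat.ofHom (algebraMap A (FractionRing A))) ≫ y →
      ∃ l : Spec (CommRingCat.of A) ⟶ X, l ≫ f = y ∧
        Spec.map (CommRingCat.ofHom (algebraMap A (FractionRing A))) ≫ l = x) :
    IsClosedMap f := by
  rw [isClosedMap_iff_specializingMap]
  intro x y' hspec
  by_cases hne : y' = f x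
  · exact ⟨x, specializes_rfl, hne.symm⟩
  obtain ⟨A, h, hA, hcl, hgen⟩ := Groth.Agent.S4450.result f x y' hspec hne
  obtain ⟨e, he⟩ := Groth.Agent.S2334.fracRestrict_eq A
  obtain ⟨l, hl1, hl2⟩ := H A (e ≫ X.fromSpecResidueField x) h (by
    rw [Category.assoc, ← hgen, he, Category.assoc])
  refine ⟨l (IsLocalRing.closedPoint A), ?_, ?_⟩
  · obtain ⟨pt⟩ : Nonempty ↥(Spec (CommRingCat.of (FractionRing A))) := inferInstance
    have h1 : (Spec.map (CommRingCat.ofHom (algebraMap A (FractionRing A)))) pt ⤳
        IsLocalRing.closedPoint A := IsLocalRing.specializes_closedPoint _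
    have h2 : l ((Spec.map (CommRingCat.ofHom (algebraMap A (FractionRing A)))) pt) ⤳
        l (IsLocalRing.closedPoint A) := h1.map l.base.hom.continuous
    have h3 : l ((Spec.map (CommRingCat.ofHom (algebraMap A (FractionRing A)))) pt) = x := by
      rw [← Scheme.Hom.comp_apply, hl2, Scheme.Hom.comp_apply]
      exact Scheme.fromSpecResidueField_apply _ _
    rw [h3] at h2
    exact h2
  · rw [← hcl, ← hl1]
    rfl

open AlgebraicGeometry CategoryTheory Limits in
theorem universallyClosed_of_dvr {X S : Scheme.{u}} [IsLocallyNoetherian S] (f : X ⟶ S)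
    [LocallyOfFiniteType f] [QuasiCompact f]
    (H : ∀ (A : Type u) [CommRing A] [IsDomain A] [IsDiscreteValuationRing A]
      (x : Spec (CommRingCat.of (FractionRing A)) ⟶ X) (y : Spec (CommRingCat.of A) ⟶ S),
      x ≫ f = Spec.map (CommRingCat.ofHom (algebraMap A (FractionRing A))) ≫ y →
      ∃ l : Spec (CommRingCat.of A) ⟶ X, l ≫ f = y ∧
        Spec.map (CommRingCat.ofHom (algebraMap A (FractionRing A))) ≫ l = x) :
    UniversallyClosed f := by
  refine Groth.Agent.Lib.helper13.UCA.universallyClosed_of_affineSpace f fun n => ?_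
  haveI : LocallyOfFiniteType (𝔸(ULift.{u} (Fin n); S) ↘ S) := inferInstance
  haveI : IsLocallyNoetherian 𝔸(ULift.{u} (Fin n); S) :=
    LocallyOfFiniteType.isLocallyNoetherian (𝔸(ULift.{u} (Fin n); S) ↘ S)
  refine isClosedMap_of_dvr (pullback.snd f (𝔸(ULift.{u} (Fin n); S) ↘ S)) ?_
  intro A _ _ _ x y hxy
  obtain ⟨l, hl1, hl2⟩ := H A (x ≫ pullback.fst f _) (y ≫ (𝔸(ULift.{u} (Fin n); S) ↘ S)) (by
    rw [Category.assoc, pullback.condition, ← Category.assoc, hxy, Category.assoc])
  refine ⟨pullback.lift l y hl1, pullback.lift_snd _ _ _, ?_⟩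
  apply pullback.hom_ext
  · rw [Category.assoc, pullback.lift_fst, hl2]
  · rw [Category.assoc, pullback.lift_snd, hxy]


/-- Let S be a locally Noetherian scheme and f : X → S a morphism of finite type. Then f is universally
closed if and only if for every discrete valuation ring A with fraction field K and every
commutative square formed by morphisms Spec K → X and Spec A → S there is some morphism Spec A → X
making the diagram commute (the existence part of the valuative criterion, tested on discrete
valuation rings only). -/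
theorem result {X S : Scheme.{u}} [IsLocallyNoetherian S] (f : X ⟶ S)
    [LocallyOfFiniteType f] [QuasiCompact f] :
    UniversallyClosed f ↔ ∀ (A : Type u) [CommRing A] [IsDomain A] [IsDiscreteValuationRing A]
      (x : Spec (CommRingCat.of (FractionRing A)) ⟶ X) (y : Spec (CommRingCat.of A) ⟶ S),
      x ≫ f = Spec.map (CommRingCat.ofHom (algebraMap A (FractionRing A))) ≫ y → ∃ l : Spec (CommRingCat.of A) ⟶ X, l ≫ f = y ∧ Spec.map (CommRingCat.ofHom (algebraMap A (FractionRing A))) ≫ l = x := by
  constructor
  · intro hf A _ _ _ x y hxy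
    have hex : ValuativeCriterion.Existence f := by
      have := UniversallyClosed.eq_valuativeCriterion ▸ hf
      exact this.1
    let Sq : ValuativeCommSq f :=
      { R := A
        K := FractionRing A
        i₁ := x
        i₂ := y
        commSq := ⟨hxy⟩ }
    obtain ⟨⟨l⟩⟩ := hex Sq
    exact ⟨l.l, l.fac_right, l.fac_left⟩
  · exact universallyClosed_of_dvr f

end Groth.Agent.S9213
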