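import Groth.Statements.S10538
import Groth.Agent.Lib.Helper5.AlgSpQAffDesc2
import Groth.Agent.Lib.Helper5.ImmQCDescent
import Groth.Agent.Lib.Helper1.ZarRep

set_option autoImplicit false
universe u
open CategoryTheory CategoryTheory.Limits AlgebraicGeometry
open AlgSp

namespace Groth.Agent.S10538

/-- The property of morphisms of algebraic spaces over S given by f is a quasi-compact immersion
(representable, every base change to a scheme an immersion of schemes that is quasi-compact) is fpqc
local on the base: for an fpqc covering of an algebraic space Y by algebraic spaces Y_i, a morphism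
f : X ⟶ Y of algebraic spaces and cartesian squares X_i = Y_i ×_Y X, f has the property if and only
if every X_i ⟶ Y_i has it. -/
theorem result (S : Scheme.{u}) :
    AlgSp.IsLocalOnBase (AlgSp.IsFpqcCover (S := S)) (AlgSp.RepWith (@IsImmersion ⊓ @QuasiCompact)) := by
  intro ι Y Yi g hY hYi hg X f hX Xi p q hXi sq
  constructor
  · intro hf i
    exact (RepWith (S := S) (@IsImmersion ⊓ @QuasiCompact)).of_isPullback (sq i) hf
  · intro hp
    -- the base changes are quasi-affine
    have hqa : ∀ i, IsQuasiAffineMor (p i) := by
      intro i Z hZ h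
      obtain ⟨W, k, fst, sqW⟩ := (hp i).1 h
      have hk := (hp i).2 h fst k sqW
      have hk1 : IsImmersion k.left := hk.1
      have hk2 : QuasiCompact k.left := hk.2
      have : IsAffine Z.left := hZ
      have hc : CompactSpace ↥W.left := QuasiCompact.compactSpace_of_compactSpace k.left
      have : Z.left.IsQuasiAffine := inferInstance
      exact ⟨W, k, fst, sqW, Scheme.IsQuasiAffine.of_isImmersion k.left⟩
    have hq : IsQuasiAffineMor f :=
      (Groth.Agent.Lib.helper5.QAffDesc.isLocalOnBase_fpqc_isQuasiAffineMor Yi g hY hYi hg f hX Xi p q hXi sq).2 hqa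
    have hrep : Representable f :=
      (Groth.Agent.H1.ZarRep.repWith_of_affine f @QuasiCompact (fun Z hZ g => by
        obtain ⟨W, i, fst', sq', hW⟩ := hq hZ g
        have : IsAffine Z.left := hZ
        exact ⟨W, i, fst', sq', (inferInstance : QuasiCompact i.left)⟩)).1
    exact Groth.Agent.Lib.helper5.FpqcRep.repWith_of_fpqcRefinable (@IsImmersion ⊓ @QuasiCompact) f hrep Yi g
      hg.2 Xi p q sq hp

end Groth.Agent.S10538
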