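import Groth.Statements.S10613
import Groth.Agent.Lib.Helper1.MonoSp
import Groth.Agent.Lib.Helper5.AlgSpLocPInst
import Groth.Agent.S10621

set_option autoImplicit false
universe u
open CategoryTheory CategoryTheory.Limits AlgebraicGeometry
open AlgSp

namespace Groth.Agent.S10613

open Groth.Agent.H1.MonoSp

theorem locP_mono_prop {S : Scheme.{u}} {P Q : MorphismProperty Scheme.{u}} (hPQ : P ≤ Q)
    {F G : Sp S} (f : F ⟶ G) (h : LocP P f) : LocP Q f :=
  fun _ _ a b k ha hb hsq => hPQ _ (h a b k ha hb hsq)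

theorem unram_of_mono_lft {S : Scheme.{u}} {X Y : AlgSp.Space S} (f : X ⟶ Y)
    (h : AlgSp.LocP @LocallyOfFiniteType f.hom) [Mono f.hom] :
    AlgSp.LocP (@LocallyOfFiniteType ⊓ @FormallyUnramified) f.hom := by
  refine locP_of_mono_lft X.property Y.property f.hom h _ ?_ ?_ ?_
  · intro A B g hg
    have : Etale g := hg
    exact ⟨inferInstance, inferInstance⟩
  · intro A B g hg hl
    have : Mono g := hg
    exact ⟨hl, inferInstance⟩
  · intro A B C g g' hg hg'
    have h1 : LocallyOfFiniteType g := hg.1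
    have h2 : FormallyUnramified g := hg.2
    have h3 : LocallyOfFiniteType g' := hg'.1
    have h4 : FormallyUnramified g' := hg'.2
    exact ⟨inferInstance, MorphismProperty.comp_mem @FormallyUnramified g g' h2 h4⟩

theorem lqf_of_mono_lft {S : Scheme.{u}} {X Y : AlgSp.Space S} (f : X ⟶ Y)
    (h : AlgSp.LocP @LocallyOfFiniteType f.hom) [Mono f.hom] :
    AlgSp.LocP (@LocallyQuasiFinite ⊓ @LocallyOfFiniteType) f.hom := by
  refine locP_of_mono_lft X.property Y.property f.hom h _ ?_ ?_ ?_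
  · intro A B g hg
    have : Etale g := hg
    exact ⟨Groth.Agent.S10265.lqf_of_etale g, inferInstance⟩
  · intro A B g hg hl
    have : Mono g := hg
    have : LocallyOfFiniteType g := hl
    exact ⟨inferInstance, hl⟩
  · intro A B C g g' hg hg'
    have h1 : LocallyQuasiFinite g := hg.1
    have h2 : LocallyOfFiniteType g := hg.2
    have h3 : LocallyQuasiFinite g' := hg'.1
    have h4 : LocallyOfFiniteType g' := hg'.2
    exact ⟨inferInstance, inferInstance⟩

theorem main {S : Scheme.{u}} {X Y : AlgSp.Space S} (f : X ⟶ Y) :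
    ((AlgSp.LocP (@LocallyOfFiniteType ⊓ @FormallyUnramified) f.hom ∧ Mono f.hom) ↔
      (AlgSp.LocP (@LocallyOfFiniteType ⊓ @FormallyUnramified) f.hom ∧ AlgSp.IsUnivInjectiveMor f.hom)) ∧
    ((AlgSp.LocP (@LocallyOfFiniteType ⊓ @FormallyUnramified) f.hom ∧ Mono f.hom) ↔
      (AlgSp.LocP @LocallyOfFiniteType f.hom ∧ Mono f.hom)) ∧
    ((AlgSp.LocP (@LocallyOfFiniteType ⊓ @FormallyUnramified) f.hom ∧ Mono f.hom) ↔
      (AlgSp.IsUnivInjectiveMor f.hom ∧ AlgSp.LocP @LocallyOfFiniteType f.hom ∧ AlgSp.IsFormallyUnramifiedMor f.hom)) ∧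
    (AlgSp.LocP @LocallyOfFiniteType f.hom ∧ Mono f.hom →
      AlgSp.Representable f.hom ∧ AlgSp.IsSeparatedMor f.hom ∧
        AlgSp.LocP (@LocallyQuasiFinite ⊓ @LocallyOfFiniteType) f.hom) := by
  have hfu := (Groth.Agent.S10621.result f).1
  refine ⟨⟨?_, ?_⟩, ⟨?_, ?_⟩, ⟨?_, ?_⟩, ?_⟩
  · rintro ⟨h1, h2⟩
    exact ⟨h1, isUnivInjectiveMor_of_mono f.hom⟩
  · rintro ⟨h1, h2⟩
    exact ⟨h1, mono_of_unramified_univInjective X.property Y.property f.hom h1 h2⟩
  · rintro ⟨h1, h2⟩
    exact ⟨locP_mono_prop inf_le_left f.hom h1, h2⟩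
  · rintro ⟨h1, h2⟩
    exact ⟨unram_of_mono_lft f h1, h2⟩
  · rintro ⟨h1, h2⟩
    exact ⟨isUnivInjectiveMor_of_mono f.hom, locP_mono_prop inf_le_left f.hom h1,
      hfu.2 (locP_mono_prop inf_le_right f.hom h1)⟩
  · rintro ⟨h1, h2, h3⟩
    have h4 : AlgSp.LocP (@LocallyOfFiniteType ⊓ @FormallyUnramified) f.hom :=
      fun _ _ a b k ha hb hsq => ⟨h2 a b k ha hb hsq, hfu.1 h3 a b k ha hb hsq⟩
    exact ⟨h4, mono_of_unramified_univInjective X.property Y.property f.hom h4 h1⟩
  · rintro ⟨h1, h2⟩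
    refine ⟨?_, isSeparatedMor_of_mono f.hom, lqf_of_mono_lft f h1⟩
    intro T ξ
    obtain ⟨I, j, k, sq, -, -⟩ := exists_rep_of_mono_lft X.property Y.property f.hom h1 ξ
    exact ⟨I, j, k, sq⟩

/-- For a morphism f : X ⟶ Y of algebraic spaces over S, these four conditions on f are equivalent: (a)
unramified plus monomorphism; (b) unramified plus universally injective; (c) a monomorphism that is
locally of finite type; (d) universally injective, locally of finite type and formally unramified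
(lifting sense). In that case f is representable by schemes, separated and locally quasi-finite.
(Unramified is the etale-local condition locally of finite type and formally unramified on charts;
monomorphisms are taken in fppf sheaves.) -/
theorem result {S : Scheme.{u}} {X Y : AlgSp.Space S} (f : X ⟶ Y) :
    ((AlgSp.LocP (@LocallyOfFiniteType ⊓ @FormallyUnramified) f.hom ∧ Mono f.hom) ↔
      (AlgSp.LocP (@LocallyOfFiniteType ⊓ @FormallyUnramified) f.hom ∧ AlgSp.IsUnivInjectiveMor f.hom)) ∧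
    ((AlgSp.LocP (@LocallyOfFiniteType ⊓ @FormallyUnramified) f.hom ∧ Mono f.hom) ↔
      (AlgSp.LocP @LocallyOfFiniteType f.hom ∧ Mono f.hom)) ∧
    ((AlgSp.LocP (@LocallyOfFiniteType ⊓ @FormallyUnramified) f.hom ∧ Mono f.hom) ↔
      (AlgSp.IsUnivInjectiveMor f.hom ∧ AlgSp.LocP @LocallyOfFiniteType f.hom ∧ AlgSp.IsFormallyUnramifiedMor f.hom)) ∧
    (AlgSp.LocP @LocallyOfFiniteType f.hom ∧ Mono f.hom →
      AlgSp.Representable f.hom ∧ AlgSp.IsSeparatedMor f.hom ∧
        AlgSp.LocP (@LocallyQuasiFinite ⊓ @LocallyOfFiniteType) f.hom) := by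
  exact main f

end Groth.Agent.S10613
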