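import Groth.Statements.S2121
import Mathlib
import Groth.Agent.Lib.Helper13.UCA2
import Groth.Agent.S2334
-- import your own Groth.Agent.* helpers here

set_option autoImplicit false
universe u
open CategoryTheory AlgebraicGeometry
open Mor

namespace Groth.Agent.S2121

open AlgebraicGeometry CategoryTheory Limits Groth.Agent.Lib.helper13.UCA in
/-- On an affine open, inclusion of the primes of two points means specialization. -/
lemma specializes_of_primeAt_le {Y : Scheme.{u}} {U : Y.Opens} (hU : IsAffineOpen U) (y z : Y)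
    (hy : y ∈ U) (hz : z ∈ U) (h : primeAt U y hy ≤ primeAt U z hz) : y ⤳ z := by
  rw [specializes_iff_forall_open]
  intro W hW hzW
  obtain ⟨s, hs1, hs2⟩ := hU.exists_basicOpen_le (V := ⟨W, hW⟩) ⟨z, hzW⟩ hz
  apply hs1
  by_contra hys
  have : s ∈ primeAt U y hy := (mem_primeAt s).mpr hys
  exact ((mem_primeAt s).mp (h this)) hs2

open AlgebraicGeometry CategoryTheory Limits Groth.Agent.Lib.helper13.UCA in
/-- For a quasi-compact morphism, every point of the closure of the image is a specialization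
of a point of the image. -/
theorem exists_specializes_of_mem_closure {X Y : Scheme.{u}} (f : X ⟶ Y) [QuasiCompact f] (z : Y)
    (hz : z ∈ closure (Set.range f)) : ∃ x : X, f x ⤳ z := by
  classical
  obtain ⟨U, hU, hzU, -⟩ := exists_isAffineOpen_mem_and_subset (X := Y) (x := z) (U := ⊤) trivial
  obtain ⟨s, hs, hcov⟩ := isCompact_iff_finite_and_eq_biUnion_affineOpens.mp
    (f.isCompact_preimage hU.isCompact)
  have hle : ∀ i ∈ s, (i : X.Opens) ≤ f ⁻¹ᵁ U := fun i hi => by
    rw [hcov]; exact le_iSup₂ (f := fun (i : X.affineOpens) (_ : i ∈ s) => (i : X.Opens)) i hi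
  by_contra hcon
  push Not at hcon
  -- for each `i ∈ s`, a section vanishing on `V_i` but not at `z`
  have hsec : ∀ i : X.affineOpens, ∀ hi : i ∈ s, ∃ r : Γ(Y, U), z ∈ Y.basicOpen r ∧
      f.appLE U i (hle i hi) r = 0 := by
    intro i hi
    by_contra hno
    push Not at hno
    have hker : Ideal.comap (f.appLE U i (hle i hi)).hom ⊥ ≤ primeAt U z hzU := by
      intro r hr
      rw [mem_primeAt]
      intro hzr
      exact hno r hzr (by simpa using hr)
    obtain ⟨𝔮, -, h𝔮, h𝔮le⟩ := Ideal.exists_ideal_comap_le_prime (primeAt U z hzU) ⊥ hker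
    obtain ⟨x, hx, rfl⟩ := exists_primeAt_eq i.2 𝔮
    rw [comap_primeAt] at h𝔮le
    exact hcon x (specializes_of_primeAt_le hU _ _ _ _ h𝔮le)
  choose! r hr1 hr2 using hsec
  -- the open neighbourhood `W = ⋂ D(r_i)` of `z` misses the image
  have hWopen : IsOpen ((U : Set Y) ∩ ⋂ i ∈ s, (Y.basicOpen (r i) : Set Y)) :=
    U.isOpen.inter (hs.isOpen_biInter fun i _ => (Y.basicOpen (r i)).isOpen)
  have hzW : z ∈ (U : Set Y) ∩ ⋂ i ∈ s, (Y.basicOpen (r i) : Set Y) := by
    refine ⟨hzU, ?_⟩
    simp only [Set.mem_iInter]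
    exact fun i hi => hr1 i hi
  obtain ⟨_, ⟨hyU, hyW⟩, ⟨x, rfl⟩⟩ := mem_closure_iff.mp hz _ hWopen hzW
  have hx : x ∈ f ⁻¹ᵁ U := hyU
  rw [hcov] at hx
  obtain ⟨i, hx⟩ := TopologicalSpace.Opens.mem_iSup.mp hx
  obtain ⟨hi, hx⟩ := TopologicalSpace.Opens.mem_iSup.mp hx
  simp only [Set.mem_iInter] at hyW
  have h1 : x ∈ X.basicOpen (f.appLE U i (hle i hi) (r i)) := by
    rw [Scheme.basicOpen_appLE]
    exact ⟨hx, hyW i hi⟩
  rw [hr2 i hi, Scheme.basicOpen_zero] at h1
  exact h1


/-- Let `f : X → Y` be quasi-compact and `z` a point in the closure of `f(X)` (the underlying set of the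
scheme theoretic image). Then there are a valuation ring `A` with fraction field `K` and morphisms
`Spec K → X`, `Spec A → Y` forming a commutative square with `f` and `Spec K → Spec A`, such that
the closed point of `Spec A` maps to `z`. -/
theorem result {X Y : Scheme.{u}} (f : X ⟶ Y) [QuasiCompact f] (z : Y)
    (hz : z ∈ closure (Set.range f.base)) :
    ∃ (A : Type u) (_ : CommRing A) (_ : IsDomain A) (_ : ValuationRing A)
      (x : Spec (CommRingCat.of (FractionRing A)) ⟶ X) (y : Spec (CommRingCat.of A) ⟶ Y),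
      x ≫ f = Spec.map (CommRingCat.ofHom (algebraMap A (FractionRing A))) ≫ y ∧
      y.base (IsLocalRing.closedPoint A) = z := by
  obtain ⟨x', h⟩ := exists_specializes_of_mem_closure f z hz
  let φ : Y.presheaf.stalk z ⟶ X.residueField x' :=
    Y.presheaf.stalkSpecializes h ≫ f.stalkMap x' ≫ X.residue x'
  obtain ⟨A, hA, hA_local⟩ := IsLocalRing.exists_factor_valuationRing φ.hom
  let stalk_y_to_A : Y.presheaf.stalk z ⟶ .of A :=
    CommRingCat.ofHom (φ.hom.codRestrict _ hA)
  have w : X.fromSpecResidueField x' ≫ f =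
      Spec.map (CommRingCat.ofHom (algebraMap A (X.residueField x'))) ≫
        Spec.map stalk_y_to_A ≫ Y.fromSpecStalk z := by
    rw [Scheme.fromSpecResidueField, Category.assoc, ← Scheme.SpecMap_stalkMap_fromSpecStalk,
      ← Scheme.SpecMap_stalkSpecializes_fromSpecStalk h]
    simp_rw [← Spec.map_comp_assoc]
    rfl
  obtain ⟨e, he⟩ := Groth.Agent.S2334.fracRestrict_eq A
  refine ⟨A, inferInstance, inferInstance, inferInstance, e ≫ X.fromSpecResidueField x',
    Spec.map stalk_y_to_A ≫ Y.fromSpecStalk z, ?_, ?_⟩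
  · rw [Category.assoc, w, he, Category.assoc]
    rfl
  · rw [Scheme.Hom.comp_apply]
    have : Spec.map stalk_y_to_A (IsLocalRing.closedPoint A) =
        IsLocalRing.closedPoint (Y.presheaf.stalk z) :=
      IsLocalRing.comap_closedPoint (S := A) (φ.hom.codRestrict A.toSubring hA)
    rw [this, Y.fromSpecStalk_closedPoint]

end Groth.Agent.S2121
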