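import Groth.Statements.S5123
import Groth.Agent.Lib.Helper4.DescEtLoc
import Groth.Agent.Lib.Helper4.DescRefineZar
import Groth.Agent.Lib.Helper4.DescUnivInj

set_option autoImplicit false
universe u
open SGA1

namespace Groth.Agent.S5123

open AlgebraicGeometry CategoryTheory CategoryTheory.Limits in
/-- Let g : S' ⟶ S be universally submersive, D a descent datum relative to g (functor-of-points form,
for the one-member family g) whose underlying S'-scheme is etale over S', and (S_i)_{i ∈ ι} a cover
of S by open subschemes. Then D is effective in the fibred category of etale schemes (isomorphic to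
the canonical datum of some etale S-scheme) if and only if for every i the descent datum obtained by
base change along S_i ⟶ S, relative to S' ×_S S_i ⟶ S_i, is the canonical datum of some etale
S_i-scheme. -/
theorem result {S S' : Scheme.{u}} (g : S' ⟶ S) (hg : SGA1.UnivSubmersive g)
    (D : Desc.SchDDFam (fun _ : PUnit.{1} => g)) [Etale (D.obj PUnit.unit).hom]
    {ι : Type u} (V : ι → S.Opens) (hV : ⨆ i, V i = ⊤) :
    (∃ U : Over S, Etale U.hom ∧ Nonempty ((Desc.toDDFam (fun _ : PUnit.{1} => g)).obj U ≅ D)) ↔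
      ∀ i : ι, (∃ U : Over (V i : Scheme.{u}), Etale U.hom ∧
        Nonempty ((Desc.toDDFam (fun _ : PUnit.{1} => pullback.snd g (V i).ι)).obj U ≅
          (Desc.pullDDFam (f := fun _ : PUnit.{1} => g) (f' := fun _ : PUnit.{1} => pullback.snd g (V i).ι)
        (α := id) (p := (V i).ι) (p' := fun _ => pullback.fst g (V i).ι) (fun _ => pullback.condition)).obj D)) := by
  constructor
  · rintro ⟨U, hUe, ⟨θ⟩⟩ i
    haveI := hUe
    obtain ⟨θ'⟩ := Groth.Agent.Lib.Helper4.DescEtLoc.exists_pull_iso_of_iso_etale.{0} g hg D (V i).ι U θ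
    refine ⟨Over.mk (pullback.fst (V i).ι U.hom), ?_, ⟨θ'⟩⟩
    show Etale (pullback.fst (V i).ι U.hom); infer_instance
  · intro H
    choose U hUe hθ using H
    have θ₁ := fun i => Classical.choice (hθ i)
    haveI := hUe
    choose e₁ he₁ using fun i =>
      Groth.Agent.Lib.Helper4.DescEtLoc.exists_univ_push_etale.{0} g hg D (V i).ι (U i) (θ₁ i)
    have hz : Presieve.ofArrows (fun i => (V i : Scheme.{u})) (fun i => (V i).ι) ∈ Scheme.zariskiPrecoverage S := by
      rw [Scheme.ofArrows_mem_precoverage_iff]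
      refine ⟨fun x => ?_, fun i => inferInstance⟩
      have hx : x ∈ ⨆ i, V i := hV.symm ▸ (show x ∈ (⊤ : S.Opens) from trivial)
      rw [TopologicalSpace.Opens.mem_iSup] at hx
      obtain ⟨i, hi⟩ := hx
      exact ⟨i, by simpa using hi⟩
    have hq : Presieve.ofArrows (fun i => (V i : Scheme.{u})) (fun i => (V i).ι) ∈ Scheme.fpqcPrecoverage S :=
      Scheme.zariskiPrecoverage_le_fpqcPrecoverage _ hz
    let E : Desc.SchDDFam (fun i => (V i).ι) :=
      Groth.Agent.Lib.Helper4.DescLocEff.locDD (q := fun i => (V i).ι) (U := U) e₁ he₁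
    obtain ⟨Uo, ⟨θ⟩⟩ := Groth.Agent.Lib.Helper4.DescRefineZar.isEffective_of_zariski hz E
    obtain ⟨ε, hε⟩ := Groth.Agent.Lib.Helper4.DescLocEff.exists_isUniv (q := fun i => (V i).ι) (U := U)
      e₁ he₁ hq Uo θ
    haveI := Groth.Agent.Lib.Helper4.DescGamma.isIso_of_isUniv hε
    refine ⟨Uo, ?_, ⟨asIso ε⟩⟩
    refine IsZariskiLocalAtTarget.of_iSup_eq_top (P := @Etale) V hV (fun i => ?_)
    have h1 := isPullback_morphismRestrict Uo.hom (V i)
    have h2 := IsPullback.of_hasPullback (V i).ι Uo.hom
    have e : Uo.hom ∣_ V i = (h1.isoIsPullback _ _ h2).hom ≫ pullback.fst (V i).ι Uo.hom :=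
      (IsPullback.isoIsPullback_hom_fst _ _ h1 h2).symm
    haveI : IsIso (θ.hom.hom i).left := Groth.Agent.Lib.Helper4.DescUnivInj.isIso_hom_left θ i
    have hw : (θ.hom.hom i).left ≫ (U i).hom = pullback.fst (V i).ι Uo.hom := Over.w (θ.hom.hom i)
    haveI : Etale (pullback.fst (V i).ι Uo.hom) := by
      rw [← hw]
      haveI h3 : Etale (θ.hom.hom i).left := inferInstance
      haveI h4 : Etale (U i).hom := hUe i
      exact MorphismProperty.comp_mem _ _ _ h3 h4
    rw [e]; infer_instance

end Groth.Agent.S5123
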