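import Groth.Statements.S5125
import Groth.Agent.Lib.Helper4.DescStalk
import Groth.Agent.S5123

set_option autoImplicit false
universe u
open SGA1

namespace Groth.Agent.S5125

open AlgebraicGeometry CategoryTheory CategoryTheory.Limits in
/-- Let g : S' ⟶ S be universally submersive and of finite presentation, and D a descent datum relative
to g (functor-of-points form, for the one-member family g) whose underlying S'-scheme is etale and
of finite presentation (quasi-compact and quasi-separated) over S'. Then D is the canonical datum of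
some etale S-scheme if and only if for every point a of S the descent datum induced over Spec
O_{S,a} is the canonical datum of some etale scheme over Spec O_{S,a}. -/
theorem result {S S' : Scheme.{u}} (g : S' ⟶ S) (hg : SGA1.UnivSubmersive g)
    [LocallyOfFinitePresentation g] [QuasiCompact g] [QuasiSeparated g]
    (D : Desc.SchDDFam (fun _ : PUnit.{1} => g)) [Etale (D.obj PUnit.unit).hom]
    [QuasiCompact (D.obj PUnit.unit).hom] [QuasiSeparated (D.obj PUnit.unit).hom] :
    (∃ U : Over S, Etale U.hom ∧ Nonempty ((Desc.toDDFam (fun _ : PUnit.{1} => g)).obj U ≅ D)) ↔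
      ∀ a : S, (∃ U : Over (Spec (S.presheaf.stalk a)), Etale U.hom ∧
        Nonempty ((Desc.toDDFam (fun _ : PUnit.{1} => pullback.snd g (S.fromSpecStalk a))).obj U ≅
          (Desc.pullDDFam (f := fun _ : PUnit.{1} => g) (f' := fun _ : PUnit.{1} => pullback.snd g (S.fromSpecStalk a))
        (α := id) (p := (S.fromSpecStalk a)) (p' := fun _ => pullback.fst g (S.fromSpecStalk a)) (fun _ => pullback.condition)).obj D)) := by
  constructor
  · rintro ⟨U, hU, ⟨θ⟩⟩ a
    haveI := hU
    refine ⟨Over.mk (pullback.fst (S.fromSpecStalk a) U.hom), ?_,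
      Groth.Agent.Lib.Helper4.DescEtLoc.exists_pull_iso_of_iso_etale.{0} g hg D (S.fromSpecStalk a) U θ⟩
    show Etale (pullback.fst (S.fromSpecStalk a) U.hom)
    infer_instance
  · intro h
    have h' : ∀ a : S, ∃ W : S.Opens, a ∈ W ∧ ∃ U : Over (W : Scheme.{u}), Etale U.hom ∧
        Nonempty ((Desc.toDDFam (fun _ : PUnit.{1} => pullback.snd g W.ι)).obj U ≅
          Groth.Agent.Lib.Helper4.DescEtLoc.bcDD.{0} g D W.ι) := by
      intro a
      obtain ⟨Ua, hUa, ⟨θ⟩⟩ := h a
      haveI := hUa
      exact Groth.Agent.Lib.Helper4.DescStalk.exists_nhd_of_stalk.{0} g hg D a Ua θ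
    choose V haV hV using h'
    have hcov : ⨆ a, V a = ⊤ := by
      rw [eq_top_iff]
      intro x _
      exact TopologicalSpace.Opens.mem_iSup.2 ⟨x, haV x⟩
    exact (Groth.Agent.S5123.result g hg D V hcov).mpr hV

end Groth.Agent.S5125
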