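import Groth.Statements.S10272
import Groth.Agent.Lib.Helper5.AlgSpFibreProduct
import Mathlib.AlgebraicGeometry.Morphisms.Finite
import Mathlib.AlgebraicGeometry.Morphisms.Integral

set_option autoImplicit false
universe u
open CategoryTheory CategoryTheory.Limits AlgebraicGeometry
open AlgSp

namespace Groth.Agent.S10272

variable {S : Scheme.{u}}

/-- `f` is affine with `Q`: every base change to an affine scheme is an affine scheme with `Q` over it. -/
def AffQ (Q : MorphismProperty Scheme.{u}) {F G : Sp S} (f : F ⟶ G) : Prop :=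
  ∀ ⦃Z : Over S⦄, IsAffine Z.left → ∀ (g : (yon S).obj Z ⟶ G),
    ∃ (W : Over S) (i : W ⟶ Z) (fst : (yon S).obj W ⟶ F),
      IsPullback fst ((yon S).map i) f g ∧ IsAffine W.left ∧ Q i.left

theorem affQ_of_isPullback (Q : MorphismProperty Scheme.{u}) {F G F' G' : Sp S} {f : F ⟶ G} {g : G' ⟶ G}
    {fst : F' ⟶ F} {f' : F' ⟶ G'} (sq : IsPullback fst f' f g) (hf : AffQ Q f) : AffQ Q f' := by
  intro Z hZ k
  obtain ⟨W, i, fstW, sqW, hW, hi⟩ := hf hZ (k ≫ g)
  obtain ⟨l, hl1, hl2⟩ := sq.exists_lift fstW ((yon S).map i ≫ k) (by rw [sqW.w, Category.assoc])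
  refine ⟨W, i, l, ?_, hW, hi⟩
  refine IsPullback.of_right ?_ hl2 sq
  rw [hl1]
  exact sqW

theorem affQ_comp (Q : MorphismProperty Scheme.{u}) [Q.IsStableUnderComposition] {F G H : Sp S}
    {a : F ⟶ G} {b : G ⟶ H} (ha : AffQ Q a) (hb : AffQ Q b) : AffQ Q (a ≫ b) := by
  intro Z hZ k
  obtain ⟨W₁, i₁, fst₁, sq₁, hW₁, hi₁⟩ := hb hZ k
  obtain ⟨W₂, i₂, fst₂, sq₂, hW₂, hi₂⟩ := ha hW₁ fst₁
  refine ⟨W₂, i₂ ≫ i₁, fst₂, ?_, hW₂, Q.comp_mem _ _ hi₂ hi₁⟩
  rw [Functor.map_comp]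
  exact sq₂.paste_vert sq₁

theorem affQ_of_closedImmersion (Q : MorphismProperty Scheme.{u})
    (hQ : ∀ {A B : Scheme.{u}} (i : A ⟶ B), IsClosedImmersion i → Q i) {F G : Sp S} {f : F ⟶ G}
    (hf : RepWith @IsClosedImmersion f) : AffQ Q f := by
  intro Z hZ k
  obtain ⟨W, i, fst, sq⟩ := hf.1 k
  have hi : IsClosedImmersion i.left := hf.2 k fst i sq
  have hZ' : IsAffine Z.left := hZ
  exact ⟨W, i, fst, sq, isAffine_of_isAffineHom i.left, hQ _ hi⟩

theorem affQ_of_comp_separated (Q : MorphismProperty Scheme.{u}) [Q.IsStableUnderComposition]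
    (hQ : ∀ {A B : Scheme.{u}} (i : A ⟶ B), IsClosedImmersion i → Q i) {F G H : Sp S} (f : F ⟶ G) (g : G ⟶ H)
    (hg : IsSeparatedMor g) (hfg : AffQ Q (f ≫ g)) : AffQ Q f := by
  have sqG : IsPullback (pullback.fst (f ≫ g) g) (pullback.snd (f ≫ g) g) (f ≫ g) g :=
    IsPullback.of_hasPullback _ _
  have sqΓ := pullback_lift_diagonal_isPullback f g
  have hΓ : RepWith @IsClosedImmersion (pullback.lift (𝟙 F) f (by simp) : F ⟶ pullback (f ≫ g) g) :=
    (repWith_isStableUnderBaseChange (S := S) @IsClosedImmersion).of_isPullback sqΓ hg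
  have hΓ2 : (pullback.lift (𝟙 F) f (by simp) : F ⟶ pullback (f ≫ g) g) ≫ pullback.snd (f ≫ g) g = f :=
    pullback.lift_snd _ _ _
  rw [← hΓ2]
  exact affQ_comp Q (affQ_of_closedImmersion Q hQ hΓ) (affQ_of_isPullback Q sqG hfg)

theorem main {X Y Z : AlgSp.Space S} (f : X ⟶ Y) (g : Y ⟶ Z)
    (hg : AlgSp.IsSeparatedMor g.hom) :
    (AlgSp.IsFiniteMor (f ≫ g).hom → AlgSp.IsFiniteMor f.hom) ∧
    (AlgSp.IsIntegralMor (f ≫ g).hom → AlgSp.IsIntegralMor f.hom) := by
  constructor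
  · intro h
    exact affQ_of_comp_separated @IsFinite (fun i hi => by have := hi; infer_instance) f.hom g.hom hg h
  · intro h
    exact affQ_of_comp_separated @IsIntegralHom (fun i hi => by have := hi; infer_instance) f.hom g.hom hg h

/-- If g is separated and the composite of f and g is finite (resp. integral) then f is finite (resp.
integral). -/
theorem result {S : Scheme.{u}} {X Y Z : AlgSp.Space S} (f : X ⟶ Y) (g : Y ⟶ Z)
    (hg : AlgSp.IsSeparatedMor g.hom) :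
    (AlgSp.IsFiniteMor (f ≫ g).hom → AlgSp.IsFiniteMor f.hom) ∧
    (AlgSp.IsIntegralMor (f ≫ g).hom → AlgSp.IsIntegralMor f.hom) := by
  exact main f g hg

end Groth.Agent.S10272
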