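import Groth.Statements.S9944
import Groth.Agent.S10272

set_option autoImplicit false
universe u
open CategoryTheory CategoryTheory.Limits AlgebraicGeometry
open AlgSp

namespace Groth.Agent.S9944

variable {S : Scheme.{u}}

open Groth.Agent.S10272

theorem isAffineMor_iff_affQ {F G : Sp S} (f : F ⟶ G) : IsAffineMor f ↔ AffQ ⊤ f := by
  constructor
  · intro h Z hZ g
    obtain ⟨W, i, fst, sq, hW⟩ := h hZ g
    exact ⟨W, i, fst, sq, hW, trivial⟩
  · intro h Z hZ g
    obtain ⟨W, i, fst, sq, hW, -⟩ := h hZ g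
    exact ⟨W, i, fst, sq, hW⟩

theorem isAffineMor_of_diagonal {F G H : Sp S} (g : F ⟶ G) (q : G ⟶ H)
    (hp : IsAffineMor (g ≫ q)) (hd : IsAffineMor (pullback.diagonal q)) : IsAffineMor g := by
  rw [isAffineMor_iff_affQ] at hp hd ⊢
  have sqG : IsPullback (pullback.fst (g ≫ q) q) (pullback.snd (g ≫ q) q) (g ≫ q) q :=
    IsPullback.of_hasPullback _ _
  have sqΓ := pullback_lift_diagonal_isPullback g q
  have hΓ : AffQ ⊤ (pullback.lift (𝟙 F) g (by simp) : F ⟶ pullback (g ≫ q) q) :=
    affQ_of_isPullback ⊤ sqΓ hd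
  have hΓ2 : (pullback.lift (𝟙 F) g (by simp) : F ⟶ pullback (g ≫ q) q) ≫ pullback.snd (g ≫ q) q = g :=
    pullback.lift_snd _ _ _
  rw [← hΓ2]
  exact affQ_comp ⊤ hΓ (affQ_of_isPullback ⊤ sqG hp)

theorem main {X Y B : AlgSp.Space S} (g : X ⟶ Y) (p : X ⟶ B)
    (q : Y ⟶ B) (comm : g ≫ q = p) (hp : AlgSp.IsAffineMor p.hom) :
    (AlgSp.IsAffineMor (pullback.diagonal q.hom) → AlgSp.IsAffineMor g.hom) ∧
    (AlgSp.IsSeparatedMor q.hom → AlgSp.IsAffineMor g.hom) := by
  subst comm
  have hp' : IsAffineMor (g.hom ≫ q.hom) := hp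
  refine ⟨fun hd => isAffineMor_of_diagonal g.hom q.hom hp' hd, fun hs => ?_⟩
  refine isAffineMor_of_diagonal g.hom q.hom hp' ?_
  rw [isAffineMor_iff_affQ]
  exact affQ_of_closedImmersion ⊤ (fun _ _ => trivial) hs

/-- Let g : X -> Y be a morphism over a base algebraic space B with X affine over B. Then g is affine as
soon as the diagonal of Y over B is affine, and in particular as soon as Y is B-separated. (The
published lemma also has two versions with the absolute diagonal of Y; this row states the versions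
over B.) -/
theorem result {S : Scheme.{u}} {X Y B : AlgSp.Space S} (g : X ⟶ Y) (p : X ⟶ B)
    (q : Y ⟶ B) (comm : g ≫ q = p) (hp : AlgSp.IsAffineMor p.hom) :
    (AlgSp.IsAffineMor (pullback.diagonal q.hom) → AlgSp.IsAffineMor g.hom) ∧
    (AlgSp.IsSeparatedMor q.hom → AlgSp.IsAffineMor g.hom) := by
  exact main g p q comm hp

end Groth.Agent.S9944
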