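import Groth.Statements.S7467
import Mathlib
-- import your own Groth.Agent.* helpers here

set_option autoImplicit false
universe w u
open HTop

namespace Groth.Agent.S7467

open CategoryTheory CategoryTheory.Limits AlgebraicGeometry IsLocalRing

/-- A specialization `z₀ ⤳ z₁` in a scheme is realized by a valuation ring of `κ(z₀)`. -/
theorem exists_valuationRing_of_specializes {P : Scheme.{u}} {z₀ z₁ : P} (hsp : z₀ ⤳ z₁) :
    ∃ (A : ValuationSubring (P.residueField z₀)) (l : Spec (.of A) ⟶ P),
      l (closedPoint A) = z₁ ∧ l ⟨⊥, Ideal.isPrime_bot⟩ = z₀ := by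
  let ψ : P.presheaf.stalk z₁ ⟶ P.residueField z₀ := P.presheaf.stalkSpecializes hsp ≫ P.residue z₀
  obtain ⟨A, hA, hA_local⟩ := IsLocalRing.exists_factor_valuationRing ψ.hom
  let ψA : P.presheaf.stalk z₁ ⟶ .of A := CommRingCat.ofHom (ψ.hom.codRestrict _ hA)
  let g : Spec (.of A) ⟶ P := Spec.map ψA ≫ P.fromSpecStalk z₁
  have w : P.fromSpecResidueField z₀ =
      Spec.map (CommRingCat.ofHom (algebraMap A (P.residueField z₀))) ≫ g := by
    rw [Scheme.fromSpecResidueField, ← Scheme.SpecMap_stalkSpecializes_fromSpecStalk hsp]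
    simp_rw [g, ← Spec.map_comp_assoc]
    rfl
  let p₀ : Spec (.of A) := Spec.map (CommRingCat.ofHom (algebraMap A (P.residueField z₀)))
    (closedPoint (P.residueField z₀))
  have hp₀ : g p₀ = z₀ := by
    rw [← Scheme.Hom.comp_apply, ← w]
    exact Scheme.fromSpecResidueField_apply z₀ _
  have hp₁ : g (closedPoint A) = z₁ := by
    simp only [g, Scheme.Hom.comp_base, TopCat.coe_comp, Function.comp_apply]
    have : Spec.map ψA (closedPoint A) = closedPoint (P.presheaf.stalk z₁) :=
      comap_closedPoint (S := A) (ψ.hom.codRestrict A.toSubring hA)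
    rw [this, P.fromSpecStalk_closedPoint]
  have hp₀' : p₀ = ⟨⊥, Ideal.isPrime_bot⟩ := by
    apply PrimeSpectrum.ext
    show Ideal.comap (algebraMap A (P.residueField z₀))
      (closedPoint (P.residueField z₀)).asIdeal = ⊥
    have : (closedPoint (P.residueField z₀)).asIdeal = ⊥ := IsLocalRing.maximalIdeal_eq_bot
    rw [this, Ideal.comap_bot_of_injective _ (FaithfulSMul.algebraMap_injective _ _)]
  exact ⟨A, g, hp₁, hp₀' ▸ hp₀⟩

/-- Valuative lifting (after extension of valuation rings) along a flat morphism whose image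
contains the image of the closed point. -/
theorem exists_lift_of_flat {Y T : Scheme.{u}} (f : Y ⟶ T) [Flat f]
    (V : CommRingCat.{u}) [IsDomain V] [ValuationRing V] (g : Spec V ⟶ T)
    (hmem : g (closedPoint V) ∈ Set.range f) :
    ∃ (W : CommRingCat.{u}) (_ : IsDomain W) (_ : ValuationRing W) (φ : V ⟶ W),
      IsExtVal V W φ ∧ ∃ g' : Spec W ⟶ Y, g' ≫ f = Spec.map φ ≫ g := by
  obtain ⟨y₁, hy₁⟩ := hmem
  let p : pullback f g ⟶ Spec V := pullback.snd f g
  have hp : Flat p := MorphismProperty.pullback_snd _ _ inferInstance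
  obtain ⟨z₁, hz₁f, hz₁⟩ := Scheme.Pullback.exists_preimage_pullback (f := f) (g := g) y₁
    (closedPoint V) hy₁
  let η : Spec V := ⟨⊥, Ideal.isPrime_bot⟩
  have hη : η ⤳ p z₁ := by
    rw [show p z₁ = closedPoint V from hz₁]
    exact specializes_closedPoint η
  obtain ⟨z₀, hsp, hz₀⟩ := Flat.generalizingMap p hη
  obtain ⟨A, l, hl₁, hl₀⟩ := exists_valuationRing_of_specializes hsp
  obtain ⟨φ, hφ⟩ := Spec.map_surjective (l ≫ p)
  have hloc : IsLocalHom φ.hom := by
    rw [isLocalHom_iff_comap_closedPoint]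
    show Spec.map φ (closedPoint A) = closedPoint V
    rw [hφ, Scheme.Hom.comp_apply, hl₁]
    exact hz₁
  have hinj : Function.Injective φ.hom := by
    rw [RingHom.injective_iff_ker_eq_bot]
    have h1 : Spec.map φ ⟨⊥, Ideal.isPrime_bot⟩ = η := by
      rw [hφ, Scheme.Hom.comp_apply, hl₀, hz₀]
    exact congrArg PrimeSpectrum.asIdeal h1
  refine ⟨.of A, inferInstance, inferInstance, φ, ⟨hinj, hloc⟩, l ≫ pullback.fst f g, ?_⟩
  rw [Category.assoc, pullback.condition, ← Category.assoc, hφ]

/-- A standard fpqc covering, that is a finite family of flat morphisms T_j -> T of affine schemes whose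
images jointly cover the affine scheme T, is a standard V covering (every morphism from the spectrum
of a valuation ring to T lifts to some T_j after an extension of valuation rings). -/
theorem result {T : Scheme.{u}} [IsAffine T] (E : PreZeroHypercover.{w} T) (hfin : Finite E.I₀) (haff : ∀ j, IsAffine (E.X j)) (hflat : ∀ j, Flat (E.f j)) (hsurj : ∀ t : T, ∃ (j : E.I₀) (x : E.X j), E.f j x = t) : HTop.IsStandardV E := by
  refine ⟨inferInstance, hfin, haff, ?_⟩
  intro V _ _ g
  obtain ⟨j, x, hx⟩ := hsurj (g (closedPoint V))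
  have := hflat j
  obtain ⟨W, hW1, hW2, φ, hext, g', hg'⟩ := exists_lift_of_flat (E.f j) V g ⟨x, hx⟩
  exact ⟨W, hW1, hW2, φ, hext, j, g', hg'⟩

end Groth.Agent.S7467
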