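import Groth.Statements.S7476
import Groth.Agent.S7467
-- import your own Groth.Agent.* helpers here

set_option autoImplicit false
universe w w' u
open HTop

namespace Groth.Agent.S7476

open CategoryTheory CategoryTheory.Limits AlgebraicGeometry IsLocalRing

/-- A V covering has the valuative lifting property. -/
theorem hasValLift_of_isVCover {T : Scheme.{u}} (E : PreZeroHypercover.{w} T) (hE : IsVCover E) :
    HasValLift E := by
  intro V _ _ g
  obtain ⟨U, hU, ht⟩ : ∃ U : T.Opens, U ∈ T.affineOpens ∧ g (closedPoint V) ∈ U := by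
    obtain ⟨_, ⟨U, hU, rfl⟩, ht, -⟩ := T.isBasis_affineOpens.exists_subset_of_mem_open
      (Set.mem_univ (g (closedPoint V))) isOpen_univ
    exact ⟨U, hU, ht⟩
  obtain ⟨F, hF, href⟩ := hE ⟨U, hU⟩
  have hrange : Set.range g ⊆ Set.range U.ι := by
    rintro _ ⟨q, rfl⟩
    rw [Scheme.Opens.range_ι]
    have hsp : q ⤳ closedPoint V := specializes_closedPoint q
    exact (hsp.map g.continuous).mem_open U.2 ht
  obtain ⟨W, hW1, hW2, φ, hext, j, g', hg'⟩ := hF.lift V (IsOpenImmersion.lift U.ι g hrange)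
  obtain ⟨i, h, hh⟩ := href j
  refine ⟨W, hW1, hW2, φ, hext, i, g' ≫ h, ?_⟩
  rw [Category.assoc, hh, ← Category.assoc, hg', Category.assoc, IsOpenImmersion.lift_fac]

theorem hasValLift_singleton_univ {X Y : Scheme.{u}} (f : X ⟶ Y)
    (hf : HasValLift (PreZeroHypercover.singleton.{w} f)) :
    HasValLift (PreZeroHypercover.singleton.{w'} f) := by
  intro V _ _ g
  obtain ⟨W, hW1, hW2, φ, hext, _, g', hg'⟩ := hf V g
  exact ⟨W, hW1, hW2, φ, hext, ⟨⟩, g', hg'⟩

/-- For quasi-compact `f`, the valuative lifting property of the singleton family implies that it is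
a V covering. -/
theorem isVCover_of_hasValLift {X Y : Scheme.{u}} (f : X ⟶ Y) [QuasiCompact f]
    (hf : HasValLift (PreZeroHypercover.singleton.{w} f)) :
    IsVCover (PreZeroHypercover.singleton.{w'} f) := by
  classical
  intro U
  have hcomp : IsCompact ((f ⁻¹ᵁ U.1 : X.Opens) : Set X) :=
    f.isCompact_preimage U.2.isCompact
  have h2 : ∀ x : (f ⁻¹ᵁ U.1 : X.Opens), ∃ O : X.Opens, IsAffineOpen O ∧ (x : X) ∈ O ∧
      O ≤ f ⁻¹ᵁ U.1 := fun x => by
    obtain ⟨_, ⟨O, hO, rfl⟩, hx, hle⟩ :=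
      X.isBasis_affineOpens.exists_subset_of_mem_open x.2 (f ⁻¹ᵁ U.1).2
    exact ⟨O, hO, hx, hle⟩
  choose O hOaff hxO hOle using h2
  obtain ⟨t, ht⟩ := hcomp.elim_finite_subcover (fun x => (O x : Set X))
    (fun x => (O x).2) (fun x hx => Set.mem_iUnion.2 ⟨⟨x, hx⟩, hxO _⟩)
  let e : Fin t.card ≃ t := t.equivFin.symm
  let pt : Fin t.card → (f ⁻¹ᵁ U.1 : X.Opens) := fun k => (e k).1
  let F : PreZeroHypercover.{0} (U.1 : Scheme.{u}) :=
    ⟨Fin t.card, fun k => (O (pt k) : Scheme.{u}), fun k => f.resLE U.1 (O (pt k)) (hOle (pt k))⟩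
  have hF : IsStandardV F := by
    refine ⟨U.2, inferInstanceAs (Finite (Fin t.card)), fun k => hOaff (pt k), ?_⟩
    intro V _ _ g
    obtain ⟨W, hW1, hW2, φ, hext, _, g'', hg''⟩ := hf V (g ≫ U.1.ι)
    obtain ⟨g', hg'⟩ : ∃ g' : Spec W ⟶ X, g' ≫ f = Spec.map φ ≫ g ≫ U.1.ι := ⟨g'', hg''⟩
    have hmem : g' (closedPoint W) ∈ ((f ⁻¹ᵁ U.1 : X.Opens) : Set X) := by
      show f (g' (closedPoint W)) ∈ U.1
      rw [← Scheme.Hom.comp_apply, hg']
      simp only [Scheme.Hom.comp_base, TopCat.coe_comp, Function.comp_apply]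
      exact (g _).2
    have hx := ht hmem
    simp only [Set.mem_iUnion] at hx
    obtain ⟨y, hy, hxy⟩ := hx
    let k : Fin t.card := e.symm ⟨y, hy⟩
    have hk : pt k = y := by simp [pt, k]
    have hrange : Set.range g' ⊆ Set.range (O (pt k)).ι := by
      rintro _ ⟨q, rfl⟩
      rw [Scheme.Opens.range_ι, hk]
      have hsp : q ⤳ closedPoint W := specializes_closedPoint q
      exact (hsp.map g'.continuous).mem_open (O y).2 hxy
    refine ⟨W, hW1, hW2, φ, hext, k, IsOpenImmersion.lift (O (pt k)).ι g' hrange, ?_⟩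
    show IsOpenImmersion.lift (O (pt k)).ι g' hrange ≫ f.resLE U.1 (O (pt k)) (hOle (pt k)) =
      Spec.map φ ≫ g
    rw [← cancel_mono U.1.ι, Category.assoc, Scheme.Hom.resLE_comp_ι,
      IsOpenImmersion.lift_fac_assoc, hg', Category.assoc]
  refine ⟨F, hF, fun k => ⟨⟨⟩, (O (pt k)).ι, ?_⟩⟩
  show (O (pt k)).ι ≫ f = f.resLE U.1 (O (pt k)) (hOle (pt k)) ≫ U.1.ι
  rw [Scheme.Hom.resLE_comp_ι]

/-- valuative lifting implies lifting of specializations after any base change -/
theorem spec_lift_of_hasValLift {X Y : Scheme.{u}} (f : X ⟶ Y)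
    (hf : HasValLift (PreZeroHypercover.singleton.{w} f)) (Z : Scheme.{u}) (g : Z ⟶ Y)
    (z' z : Z) (hsp : z' ⤳ z) :
    ∃ w' w : ↑(pullback g f), w' ⤳ w ∧ pullback.fst g f w' = z' ∧ pullback.fst g f w = z := by
  obtain ⟨A, l, hl₁, hl₀⟩ := Groth.Agent.S7467.exists_valuationRing_of_specializes hsp
  obtain ⟨W, hW1, hW2, φ, ⟨hinj, hloc⟩, _, g'', hg''⟩ := hf (.of A) (l ≫ g)
  obtain ⟨g', hg'⟩ : ∃ g' : Spec W ⟶ X, g' ≫ f = Spec.map φ ≫ l ≫ g := ⟨g'', hg''⟩
  let m : Spec W ⟶ pullback g f := pullback.lift (Spec.map φ ≫ l) g' (by rw [Category.assoc, hg'])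
  have hm : m ≫ pullback.fst g f = Spec.map φ ≫ l := pullback.lift_fst _ _ _
  let q₀ : Spec W := ⟨⊥, Ideal.isPrime_bot⟩
  have hq₀ : Spec.map φ q₀ = ⟨⊥, Ideal.isPrime_bot⟩ := by
    apply PrimeSpectrum.ext
    show Ideal.comap φ.hom ⊥ = ⊥
    exact Ideal.comap_bot_of_injective _ hinj
  have hq₁ : Spec.map φ (closedPoint W) = closedPoint A := comap_closedPoint (S := W) φ.hom
  refine ⟨m q₀, m (closedPoint W), (specializes_closedPoint q₀).map m.continuous, ?_, ?_⟩
  · rw [← Scheme.Hom.comp_apply, hm, Scheme.Hom.comp_apply, hq₀, hl₀]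
  · rw [← Scheme.Hom.comp_apply, hm, Scheme.Hom.comp_apply, hq₁, hl₁]

/-- lifting of specializations after base change implies valuative lifting -/
theorem hasValLift_of_spec_lift {X Y : Scheme.{u}} (f : X ⟶ Y)
    (H : ∀ (Z : Scheme.{u}) (g : Z ⟶ Y) (z' z : Z), z' ⤳ z →
      ∃ w' w : ↑(pullback g f), w' ⤳ w ∧ pullback.fst g f w' = z' ∧ pullback.fst g f w = z) :
    HasValLift (PreZeroHypercover.singleton.{w} f) := by
  intro V _ _ g
  let η : Spec V := ⟨⊥, Ideal.isPrime_bot⟩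
  obtain ⟨w', w, hsp, hw', hw⟩ := H (Spec V) g η (closedPoint V) (specializes_closedPoint η)
  obtain ⟨A, l, hl₁, hl₀⟩ := Groth.Agent.S7467.exists_valuationRing_of_specializes hsp
  obtain ⟨φ, hφ⟩ := Spec.map_surjective (l ≫ pullback.fst g f)
  have hloc : IsLocalHom φ.hom := by
    rw [isLocalHom_iff_comap_closedPoint]
    show Spec.map φ (closedPoint A) = closedPoint V
    rw [hφ, Scheme.Hom.comp_apply, hl₁]
    exact hw
  have hinj : Function.Injective φ.hom := by
    rw [RingHom.injective_iff_ker_eq_bot]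
    have h1 : Spec.map φ ⟨⊥, Ideal.isPrime_bot⟩ = η := by
      rw [hφ, Scheme.Hom.comp_apply, hl₀, hw']
    exact congrArg PrimeSpectrum.asIdeal h1
  refine ⟨.of A, inferInstance, inferInstance, φ, ⟨hinj, hloc⟩, ⟨⟩, l ≫ pullback.snd g f, ?_⟩
  show (l ≫ pullback.snd g f) ≫ f = Spec.map φ ≫ g
  rw [Category.assoc, ← pullback.condition, ← Category.assoc, hφ]

/-- Let f : X -> Y be a quasi-compact morphism of schemes. Then the one-member family of f is a V
covering if and only if every morphism from the spectrum of a valuation ring to Y lifts to X after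
an extension of valuation rings; and the latter holds if and only if for every morphism Z -> Y and
every specialization z' ⤳ z of points of Z there is a specialization w' ⤳ w of points of Z x_Y X
mapping to z' ⤳ z. -/
theorem result {X Y : Scheme.{u}} (f : X ⟶ Y) [QuasiCompact f] : (HTop.IsVCover (PreZeroHypercover.singleton f) ↔ HTop.HasValLift (PreZeroHypercover.singleton f)) ∧ (HTop.HasValLift (PreZeroHypercover.singleton f) ↔ ∀ (Z : Scheme.{u}) (g : Z ⟶ Y) (z' z : Z), z' ⤳ z → ∃ w' w : ↑(pullback g f), w' ⤳ w ∧ pullback.fst g f w' = z' ∧ pullback.fst g f w = z) :=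
  ⟨⟨fun h => hasValLift_singleton_univ f (hasValLift_of_isVCover _ h), isVCover_of_hasValLift f⟩,
    ⟨spec_lift_of_hasValLift f, hasValLift_of_spec_lift f⟩⟩

end Groth.Agent.S7476
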