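import Groth.Statements.S7469
-- import your own Groth.Agent.* helpers here

set_option autoImplicit false
universe w u
open HTop

namespace Groth.Agent.S7469

open CategoryTheory CategoryTheory.Limits AlgebraicGeometry in
/-- The base change of a standard V covering along a morphism of affine schemes T' -> T is a standard V
covering of T'. -/
theorem result {T T' : Scheme.{u}} [IsAffine T'] (g : T' ⟶ T) (E : PreZeroHypercover.{w} T) (hE : HTop.IsStandardV E) : HTop.IsStandardV (E.pullback₁ g) := by
  have hT : IsAffine T := hE.isAffine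
  have hfin : Finite E.I₀ := hE.finite_index
  have hobj : ∀ j, IsAffine (E.X j) := hE.isAffine_obj
  refine ⟨inferInstance, hfin, fun j => ?_, ?_⟩
  · change IsAffine (pullback g (E.f j))
    infer_instance
  · intro V _ _ h
    obtain ⟨W, hW1, hW2, φ, hφ, j, g', hg'⟩ := hE.lift V (h ≫ g)
    refine ⟨W, hW1, hW2, φ, hφ, j, ?_⟩
    refine ⟨pullback.lift (Spec.map φ ≫ h) g' (by rw [Category.assoc, hg']), ?_⟩
    change pullback.lift (Spec.map φ ≫ h) g' _ ≫ pullback.fst g (E.f j) = _
    rw [pullback.lift_fst]

end Groth.Agent.S7469
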