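import Groth.Statements.S7471
import Groth.Agent.S7469
import Groth.Agent.S7470

set_option autoImplicit false
universe w u
open HTop

namespace Groth.Agent.S7471

open CategoryTheory CategoryTheory.Limits AlgebraicGeometry

/-- A finite cover of an affine scheme by affine opens is a standard V covering. -/
theorem isStandardV_of_opens {S : Scheme.{u}} [IsAffine S] {n : ℕ} (O : Fin n → S.Opens)
    (hO : ∀ k, IsAffineOpen (O k)) (hcov : ∀ x : S, ∃ k, x ∈ O k) :
    IsStandardV (⟨Fin n, fun k => (O k : Scheme.{u}), fun k => (O k).ι⟩ :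
      PreZeroHypercover.{0} S) := by
  refine ⟨inferInstance, inferInstanceAs (Finite (Fin n)), fun k => hO k, ?_⟩
  intro V _ _ h
  obtain ⟨k, hk⟩ := hcov (h (IsLocalRing.closedPoint V))
  have hrange : Set.range h ⊆ Set.range (O k).ι := by
    rintro _ ⟨p, rfl⟩
    rw [Scheme.Opens.range_ι]
    have hsp : p ⤳ IsLocalRing.closedPoint V := IsLocalRing.specializes_closedPoint p
    exact (hsp.map h.continuous).mem_open (O k).2 hk
  refine ⟨V, inferInstance, inferInstance, 𝟙 V, ⟨Function.injective_id, ?_⟩, k,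
    IsOpenImmersion.lift (O k).ι h hrange, ?_⟩
  · change IsLocalHom (RingHom.id V)
    infer_instance
  · change IsOpenImmersion.lift (O k).ι h hrange ≫ (O k).ι = _
    rw [IsOpenImmersion.lift_fac, Spec.map_id, Category.id_comp]

/-- For a morphism from an affine scheme to the target of a V covering, there is a standard V
covering of the source refining the covering. -/
theorem exists_standardV_refinesOver {S T : Scheme.{u}} [IsAffine S] (gS : S ⟶ T)
    (E : PreZeroHypercover.{w} T) (hE : IsVCover E) :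
    ∃ F : PreZeroHypercover.{0} S, IsStandardV F ∧ RefinesOver gS F E := by
  classical
  have h1 : ∀ x : S, ∃ U : T.affineOpens, gS x ∈ U.1 := fun x => by
    obtain ⟨_, ⟨U, hU, rfl⟩, hx, -⟩ :=
      T.isBasis_affineOpens.exists_subset_of_mem_open (Set.mem_univ (gS x)) isOpen_univ
    exact ⟨⟨U, hU⟩, hx⟩
  choose U hU using h1
  have h2 : ∀ x : S, ∃ O : S.Opens, IsAffineOpen O ∧ x ∈ O ∧ O ≤ gS ⁻¹ᵁ (U x).1 := fun x => by
    obtain ⟨_, ⟨O, hO, rfl⟩, hx, hle⟩ :=
      S.isBasis_affineOpens.exists_subset_of_mem_open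
        (show x ∈ ((gS ⁻¹ᵁ (U x).1 : S.Opens) : Set S) from hU x) (gS ⁻¹ᵁ (U x).1).2
    exact ⟨O, hO, hx, hle⟩
  choose O hOaff hxO hOle using h2
  obtain ⟨t, ht⟩ := isCompact_univ.elim_finite_subcover (fun x => (O x : Set S))
    (fun x => (O x).2) (fun x _ => Set.mem_iUnion.2 ⟨x, hxO x⟩)
  let e : Fin t.card ≃ t := t.equivFin.symm
  let pt : Fin t.card → S := fun k => (e k).1
  have h3 : ∀ k, ∃ F : PreZeroHypercover.{0} ((U (pt k)).1 : Scheme.{u}),
      IsStandardV F ∧ RefinesOver (U (pt k)).1.ι F E := fun k => hE (U (pt k))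
  choose Fk hFk hFkref using h3
  let gk : ∀ k, ((O (pt k)) : Scheme.{u}) ⟶ ((U (pt k)).1 : Scheme.{u}) :=
    fun k => gS.resLE _ _ (hOle (pt k))
  let Z : PreZeroHypercover.{0} S :=
    ⟨Fin t.card, fun k => (O (pt k) : Scheme.{u}), fun k => (O (pt k)).ι⟩
  have hZ : IsStandardV Z := by
    refine isStandardV_of_opens (fun k => O (pt k)) (fun k => hOaff (pt k)) fun x => ?_
    have hx := ht (Set.mem_univ x)
    simp only [Set.mem_iUnion] at hx
    obtain ⟨y, hy, hxy⟩ := hx
    exact ⟨e.symm ⟨y, hy⟩, by simpa [pt] using hxy⟩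
  have hpb : ∀ k, IsStandardV ((Fk k).pullback₁ (gk k)) := fun k => by
    have : IsAffine ((O (pt k)) : Scheme.{u}) := hOaff (pt k)
    exact Groth.Agent.S7469.result (gk k) (Fk k) (hFk k)
  refine ⟨Z.bind (fun k => (Fk k).pullback₁ (gk k)),
    Groth.Agent.S7470.result Z hZ _ hpb, ?_⟩
  intro kj
  obtain ⟨k, j⟩ : Σ k : Fin t.card, (Fk k).I₀ := kj
  obtain ⟨i, h, hh⟩ := hFkref k j
  refine ⟨i, pullback.snd (gk k) ((Fk k).f j) ≫ h, ?_⟩
  have e1 : pullback.snd (gk k) ((Fk k).f j) ≫ (Fk k).f j =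
      pullback.fst (gk k) ((Fk k).f j) ≫ gk k := pullback.condition.symm
  have e2 : gk k ≫ (U (pt k)).1.ι = (O (pt k)).ι ≫ gS := Scheme.Hom.resLE_comp_ι _ _
  have e3 : (pullback.snd (gk k) ((Fk k).f j) ≫ h) ≫ E.f i =
      (pullback.fst (gk k) ((Fk k).f j) ≫ (O (pt k)).ι) ≫ gS := by
    rw [Category.assoc, hh, ← Category.assoc, e1, Category.assoc, e2, Category.assoc]
  exact e3

/-- If E is a V covering of T and T' -> T is any morphism of schemes, then the family of base changes T'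
x_T T_i -> T' is a V covering of T'. -/
theorem result {T T' : Scheme.{u}} (g : T' ⟶ T) (E : PreZeroHypercover.{w} T) (hE : HTop.IsVCover E) : HTop.IsVCover (E.pullback₁ g) := by
  intro U'
  obtain ⟨F, hF, hFref⟩ := exists_standardV_refinesOver (U'.1.ι ≫ g) E hE
  refine ⟨F, hF, fun j => ?_⟩
  obtain ⟨i, h, hh⟩ := hFref j
  refine ⟨i, pullback.lift (F.f j ≫ U'.1.ι) h (by rw [Category.assoc, hh]), ?_⟩
  change pullback.lift (F.f j ≫ U'.1.ι) h _ ≫ pullback.fst g (E.f i) = _
  rw [pullback.lift_fst]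

end Groth.Agent.S7471
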