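import Groth.Statements.S7477
import Groth.Agent.S7471
import Mathlib

set_option autoImplicit false
universe w u
open HTop

namespace Groth.Agent.S7477

open CategoryTheory CategoryTheory.Limits AlgebraicGeometry IsLocalRing

/-- For a family with the valuative lifting property, a subset all of whose preimages are closed is
stable under specialization. -/
lemma stable_of_hasValLift {T : Scheme.{u}} (F : PreZeroHypercover.{w} T) (hF : HasValLift F)
    (Z : Set T) (hZ : ∀ j, IsClosed ((F.f j) ⁻¹' Z)) : StableUnderSpecialization Z := by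
  intro z z' hsp hz
  let ψ : T.presheaf.stalk z' ⟶ T.residueField z := T.presheaf.stalkSpecializes hsp ≫ T.residue z
  obtain ⟨A, hA, hA_local⟩ := IsLocalRing.exists_factor_valuationRing ψ.hom
  let ψA : T.presheaf.stalk z' ⟶ .of A := CommRingCat.ofHom (ψ.hom.codRestrict _ hA)
  let g : Spec (.of A) ⟶ T := Spec.map ψA ≫ T.fromSpecStalk z'
  have w : T.fromSpecResidueField z =
      Spec.map (CommRingCat.ofHom (algebraMap A (T.residueField z))) ≫ g := by
    rw [Scheme.fromSpecResidueField, ← Scheme.SpecMap_stalkSpecializes_fromSpecStalk hsp]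
    simp_rw [g, ← Spec.map_comp_assoc]
    rfl
  obtain ⟨W, _, _, φ, ⟨hinj, hloc⟩, j, g', hg'⟩ := hF (.of A) g
  -- the generic point of `Spec A`
  let p₀ : Spec (.of A) := Spec.map (CommRingCat.ofHom (algebraMap A (T.residueField z)))
    (closedPoint (T.residueField z))
  have hp₀ : g p₀ = z := by
    rw [← Scheme.Hom.comp_apply, ← w]
    exact Scheme.fromSpecResidueField_apply z _
  have hp₁ : g (closedPoint A) = z' := by
    simp only [g, Scheme.Hom.comp_base, TopCat.coe_comp, Function.comp_apply]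
    have : Spec.map ψA (closedPoint A) = closedPoint (T.presheaf.stalk z') :=
      comap_closedPoint (S := A) (ψ.hom.codRestrict A.toSubring hA)
    rw [this, T.fromSpecStalk_closedPoint]
  -- points of `Spec W`
  let q₀ : Spec W := ⟨⊥, Ideal.isPrime_bot⟩
  have hq₀ : Spec.map φ q₀ = p₀ := by
    apply PrimeSpectrum.ext
    show Ideal.comap φ.hom ⊥ = Ideal.comap (algebraMap A (T.residueField z))
      (closedPoint (T.residueField z)).asIdeal
    rw [Ideal.comap_bot_of_injective _ hinj]
    have : (closedPoint (T.residueField z)).asIdeal = ⊥ := IsLocalRing.maximalIdeal_eq_bot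
    rw [this, Ideal.comap_bot_of_injective _ (FaithfulSMul.algebraMap_injective _ _)]
  have hq₁ : Spec.map φ (closedPoint W) = closedPoint A :=
    comap_closedPoint (S := W) φ.hom
  have hsp' : g' q₀ ⤳ g' (closedPoint W) := (specializes_closedPoint q₀).map g'.continuous
  have h0 : F.f j (g' q₀) = z := by
    rw [← Scheme.Hom.comp_apply, hg', Scheme.Hom.comp_apply, hq₀, hp₀]
  have h1 : F.f j (g' (closedPoint W)) = z' := by
    rw [← Scheme.Hom.comp_apply, hg', Scheme.Hom.comp_apply, hq₁, hp₁]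
  have hmem : g' q₀ ∈ (F.f j) ⁻¹' Z := by
    show F.f j (g' q₀) ∈ Z
    rw [h0]; exact hz
  have hmem' : g' (closedPoint W) ∈ (F.f j) ⁻¹' Z :=
    (hZ j).stableUnderSpecialization hsp' hmem
  rw [← h1]
  exact hmem'

lemma surj_of_hasValLift {T : Scheme.{u}} (F : PreZeroHypercover.{w} T) (hF : HasValLift F)
    (t : T) : ∃ j, t ∈ Set.range (F.f j) := by
  obtain ⟨W, _, _, φ, -, j, g', hg'⟩ := hF (.of (T.residueField t)) (T.fromSpecResidueField t)
  refine ⟨j, g' (closedPoint W), ?_⟩
  rw [← Scheme.Hom.comp_apply, hg', Scheme.Hom.comp_apply]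
  exact Scheme.fromSpecResidueField_apply t _

/-- image of a closed set under a morphism of affine schemes is closed if stable under
specialization -/
lemma isClosed_image_of_stable {W T : Scheme.{u}} [IsAffine W] [IsAffine T] (g : W ⟶ T)
    (C : Set W) (hC : IsClosed C) (hst : StableUnderSpecialization (g '' C)) :
    IsClosed (g '' C) := by
  have hg : g = W.isoSpec.hom ≫ Spec.map g.appTop ≫ T.isoSpec.inv := by
    rw [Scheme.isoSpec_hom_naturality_assoc, Iso.hom_inv_id, Category.comp_id]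
  let C' : Set (Spec Γ(W, ⊤)) := W.isoSpec.hom '' C
  have hC' : IsClosed C' := W.isoSpec.hom.homeomorph.isClosedMap _ hC
  have himg : g '' C = T.isoSpec.inv '' (Spec.map g.appTop '' C') := by
    conv_lhs => rw [hg]
    simp only [Scheme.Hom.comp_base, TopCat.hom_comp, ContinuousMap.coe_comp, Set.image_comp, C']
  have himg' : Spec.map g.appTop '' C' = T.isoSpec.hom '' (g '' C) := by
    rw [himg]
    ext x
    constructor
    · intro hx
      exact ⟨T.isoSpec.inv x, ⟨x, hx, rfl⟩, by simp [← Scheme.Hom.comp_apply]⟩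
    · rintro ⟨_, ⟨y, hy, rfl⟩, rfl⟩
      simpa [← Scheme.Hom.comp_apply] using hy
  have hst' : StableUnderSpecialization (Spec.map g.appTop '' C') := by
    rw [himg']
    intro a b hab ha
    obtain ⟨a₀, ha₀, rfl⟩ := ha
    have h1 : T.isoSpec.inv (T.isoSpec.hom a₀) ⤳ T.isoSpec.inv b := hab.map T.isoSpec.inv.continuous
    have h2 : T.isoSpec.inv (T.isoSpec.hom a₀) = a₀ := by simp [← Scheme.Hom.comp_apply]
    rw [h2] at h1
    refine ⟨T.isoSpec.inv b, hst h1 ha₀, ?_⟩
    simp [← Scheme.Hom.comp_apply]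
  have hcl : IsClosed (Spec.map g.appTop '' C') :=
    PrimeSpectrum.isClosed_image_of_stableUnderSpecialization g.appTop.hom C' hC' hst'
  rw [himg]
  exact T.isoSpec.inv.homeomorph.isClosedMap _ hcl

lemma isClosed_of_standardV {T : Scheme.{u}} (F : PreZeroHypercover.{0} T) (hF : IsStandardV F)
    (Z : Set T) (hZ : ∀ j, IsClosed ((F.f j) ⁻¹' Z)) : IsClosed Z := by
  obtain ⟨hT, hfin, haff, hlift⟩ := hF
  let X : ULift.{u} F.I₀ → Scheme.{u} := fun i => F.X i.down
  let g : (∐ X) ⟶ T := Sigma.desc (fun i => F.f i.down)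
  have : ∀ i, IsAffine (X i) := fun i => haff i.down
  have hsub : Z ⊆ Set.range g := by
    intro z _
    obtain ⟨j, x, hx⟩ := surj_of_hasValLift F hlift z
    refine ⟨Sigma.ι X ⟨j⟩ x, ?_⟩
    rw [← Scheme.Hom.comp_apply, Sigma.ι_desc]
    exact hx
  have hZim : g '' (g ⁻¹' Z) = Z := Set.image_preimage_eq_of_subset hsub
  have hC : IsClosed (g ⁻¹' Z) := by
    rw [← (sigmaMk X).isClosed_preimage, isClosed_sigma_iff]
    intro i
    convert hZ i.down using 1
    ext x
    simp only [Set.mem_preimage, sigmaMk_mk]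
    rw [← Scheme.Hom.comp_apply, Sigma.ι_desc]
  rw [← hZim]
  apply isClosed_image_of_stable g _ hC
  rw [hZim]
  exact stable_of_hasValLift F hlift Z hZ

lemma isClosed_of_isVCover {T : Scheme.{u}} (E : PreZeroHypercover.{w} T) (hE : IsVCover E)
    (Z : Set T) (hZ : ∀ i, IsClosed ((E.f i) ⁻¹' Z)) : IsClosed Z := by
  have hcov : TopologicalSpace.IsOpenCover (fun U : T.affineOpens => (U : T.Opens)) :=
    TopologicalSpace.IsOpenCover.mk (iSup_affineOpens_eq_top T)
  rw [hcov.isClosed_iff_coe_preimage]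
  intro U
  obtain ⟨F, hF, href⟩ := hE U
  have key : IsClosed ((U.1.ι) ⁻¹' Z) := by
    apply isClosed_of_standardV F hF
    intro j
    obtain ⟨i, h, hh⟩ := href j
    have : (F.f j) ⁻¹' ((U.1.ι) ⁻¹' Z) = h ⁻¹' ((E.f i) ⁻¹' Z) := by
      ext x
      simp only [Set.mem_preimage]
      rw [← Scheme.Hom.comp_apply, ← Scheme.Hom.comp_apply, hh]
    rw [this]
    exact (hZ i).preimage h.continuous
  exact key

lemma surj_of_isVCover {T : Scheme.{u}} (E : PreZeroHypercover.{w} T) (hE : IsVCover E)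
    (t : T) : ∃ i, t ∈ Set.range (E.f i) := by
  obtain ⟨_, ⟨U, hU, rfl⟩, ht, -⟩ :=
    T.isBasis_affineOpens.exists_subset_of_mem_open (Set.mem_univ t) isOpen_univ
  obtain ⟨F, hF, href⟩ := hE ⟨U, hU⟩
  obtain ⟨j, x, hx⟩ := surj_of_hasValLift F hF.lift ⟨t, ht⟩
  obtain ⟨i, h, hh⟩ := href j
  refine ⟨i, h x, ?_⟩
  rw [← Scheme.Hom.comp_apply, hh, Scheme.Hom.comp_apply, hx]
  rfl

/-- If {f_i : X_i -> X} is a V covering (indexed by a type in the universe of X), then the morphism from
the coproduct of the X_i to X induced by the f_i is universally submersive. -/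
theorem result {X : Scheme.{u}} (E : PreZeroHypercover.{u} X) (hE : HTop.IsVCover E) : SGA1.UnivSubmersive (Sigma.desc E.f) := by
  intro X' Y' i₁ i₂ f' h
  have hE' : IsVCover (E.pullback₁ i₂) := Groth.Agent.S7471.result i₂ E hE
  let l : ∀ i : E.I₀, pullback i₂ (E.f i) ⟶ X' := fun i =>
    h.lift (pullback.fst i₂ (E.f i)) (pullback.snd i₂ (E.f i) ≫ Sigma.ι E.X i)
      (by rw [Category.assoc, Sigma.ι_desc, pullback.condition])
  have hl : ∀ i, l i ≫ f' = pullback.fst i₂ (E.f i) := fun i => h.lift_fst _ _ _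
  show Topology.IsQuotientMap f'
  rw [Topology.isQuotientMap_iff_isClosed]
  refine ⟨fun y => ?_, fun Z => ⟨fun hZ => hZ.preimage f'.continuous, fun hZ => ?_⟩⟩
  · obtain ⟨i, e, he⟩ := surj_of_isVCover _ hE' y
    change E.I₀ at i
    change ↥(pullback i₂ (E.f i)) at e
    refine ⟨l i e, ?_⟩
    rw [← Scheme.Hom.comp_apply, hl]
    exact he
  · apply isClosed_of_isVCover _ hE' Z
    intro i
    change E.I₀ at i
    show IsClosed ((pullback.fst i₂ (E.f i)) ⁻¹' Z)
    have : (pullback.fst i₂ (E.f i)) ⁻¹' Z = (l i) ⁻¹' (f' ⁻¹' Z) := by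
      ext x
      show (pullback.fst i₂ (E.f i)) x ∈ Z ↔ f' (l i x) ∈ Z
      rw [← Scheme.Hom.comp_apply, hl]
    rw [this]
    exact hZ.preimage (l i).continuous

end Groth.Agent.S7477
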