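import Groth.Statements.S7472
import Groth.Agent.S7471

set_option autoImplicit false
universe w u
open HTop

namespace Groth.Agent.S7472

open CategoryTheory CategoryTheory.Limits AlgebraicGeometry in
/-- Let E be a V covering of a scheme T and, for every member T_i of E, let F_i be a V covering of T_i.
Then the composite family of all T_ij -> T is a V covering of T. -/
theorem result {T : Scheme.{u}} (E : PreZeroHypercover.{w} T) (hE : HTop.IsVCover E) (F : ∀ i, PreZeroHypercover.{w} (E.X i)) (hF : ∀ i, HTop.IsVCover (F i)) : HTop.IsVCover (E.bind F) := by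
  intro U
  obtain ⟨FU, hFU, hFUref⟩ := hE U
  choose idx hmap hcomp using hFUref
  have h1 : ∀ j : FU.I₀, ∃ G : PreZeroHypercover.{0} (FU.X j),
      IsStandardV G ∧ RefinesOver (hmap j) G (F (idx j)) := fun j => by
    have : IsAffine (FU.X j) := hFU.isAffine_obj j
    exact Groth.Agent.S7471.exists_standardV_refinesOver (hmap j) (F (idx j)) (hF (idx j))
  choose G hG hGref using h1
  refine ⟨FU.bind G, Groth.Agent.S7470.result FU hFU G hG, ?_⟩
  intro jl
  obtain ⟨j, l⟩ : Σ j : FU.I₀, (G j).I₀ := jl
  obtain ⟨m, h', hh'⟩ := hGref j l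
  refine ⟨⟨idx j, m⟩, h', ?_⟩
  have e3 : h' ≫ ((F (idx j)).f m ≫ E.f (idx j)) = ((G j).f l ≫ FU.f j) ≫ U.1.ι := by
    rw [← Category.assoc, hh', Category.assoc, hcomp, Category.assoc]
  exact e3

end Groth.Agent.S7472
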