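import Groth.Statements.S7473
import Groth.Agent.S7467
-- import your own Groth.Agent.* helpers here

set_option autoImplicit false
universe w u
open HTop

namespace Groth.Agent.S7473

open CategoryTheory CategoryTheory.Limits AlgebraicGeometry

/-- An fpqc covering of a scheme T is a V covering. (Here an fpqc covering is a family in Mathlib's fpqc
precoverage: flat, jointly surjective, and every affine open of T is the union of the images of
finitely many quasi-compact opens of the members. The further clauses for fppf, syntomic, smooth,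
étale and Zariski coverings follow because those coverings are fpqc coverings; the clause for ph
coverings is the standard ph statement applied over each affine open.) -/
theorem result {T : Scheme.{u}} : ∀ 𝒰 : Scheme.Cover Scheme.fpqcPrecoverage T, HTop.IsVCover 𝒰.toPreZeroHypercover := by
  intro 𝒰 U
  have : IsAffine (U.1 : Scheme.{u}) := U.2
  let 𝒰' : Scheme.Cover (Scheme.propQCPrecoverage @Flat) (U.1 : Scheme.{u}) := 𝒰.pullback₁ U.1.ι
  obtain ⟨𝒱, φ, hfin, hopen⟩ := QuasiCompactCover.exists_hom (P := @Flat) 𝒰'.forgetQc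
  obtain ⟨n, ⟨e⟩⟩ := Finite.exists_equiv_fin 𝒱.I₀
  let F : PreZeroHypercover.{0} (U.1 : Scheme.{u}) :=
    ⟨Fin n, fun k => 𝒱.cover.X (e.symm k), fun k => 𝒱.cover.f (e.symm k)⟩
  refine ⟨F, ?_, ?_⟩
  · refine Groth.Agent.S7467.result F (inferInstanceAs (Finite (Fin n))) (fun k => ?_)
      (fun k => 𝒱.cover.map_prop (e.symm k)) (fun t => ?_)
    · show IsAffine (Spec _)
      infer_instance
    · obtain ⟨i, y, hy⟩ := 𝒱.cover.exists_eq t
      obtain ⟨k, rfl⟩ : ∃ k, e.symm k = i := ⟨e i, by simp⟩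
      exact ⟨k, y, hy⟩
  · intro k
    refine ⟨φ.s₀ (e.symm k), φ.h₀ (e.symm k) ≫ pullback.snd U.1.ι (𝒰.f (φ.s₀ (e.symm k))), ?_⟩
    have hw : φ.h₀ (e.symm k) ≫ pullback.fst U.1.ι (𝒰.f (φ.s₀ (e.symm k))) =
        𝒱.cover.f (e.symm k) := φ.w₀ (e.symm k)
    show _ = 𝒱.cover.f (e.symm k) ≫ U.1.ι
    have hc : pullback.snd U.1.ι (𝒰.f (φ.s₀ (e.symm k))) ≫ 𝒰.f (φ.s₀ (e.symm k)) =
        pullback.fst U.1.ι (𝒰.f (φ.s₀ (e.symm k))) ≫ U.1.ι := pullback.condition.symm
    rw [Category.assoc]
    exact (congrArg (φ.h₀ (e.symm k) ≫ ·) hc).trans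
      ((Category.assoc _ _ _).symm.trans (congrArg (· ≫ U.1.ι) hw))

end Groth.Agent.S7473
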