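import Groth.Statements.S8980
import Groth.Agent.S7472
import Groth.Agent.S7473
-- import your own Groth.Agent.* helpers here

set_option autoImplicit false
universe u
open HTop

namespace Groth.Agent.S8980

open CategoryTheory CategoryTheory.Limits AlgebraicGeometry in
/-- A family of morphisms T_i → T, indexed by a type in the universe of T and all locally of finite
presentation, is an h covering if and only if the one-member family given by the induced morphism
from the coproduct of the T_i to T is an h covering. (The published statement also lists, as a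
further equivalent condition, that some h covering refines the family; that equivalence is immediate
from the definitions and is not restated here.) -/
theorem result {T : Scheme.{u}} (E : PreZeroHypercover.{u} T) (hE : ∀ i, LocallyOfFinitePresentation (E.f i)) : HTop.IsHCover E ↔ HTop.IsHCover (PreZeroHypercover.singleton.{0} (Sigma.desc E.f)) := by
  constructor
  · rintro ⟨-, hV⟩
    refine ⟨fun _ => ?_, fun U => ?_⟩
    · show LocallyOfFinitePresentation (Sigma.desc E.f)
      exact IsZariskiLocalAtSource.sigmaDesc hE
    · obtain ⟨F, hF, href⟩ := hV U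
      refine ⟨F, hF, fun j => ?_⟩
      obtain ⟨i, h, hh⟩ := href j
      refine ⟨⟨⟩, h ≫ Sigma.ι E.X i, ?_⟩
      show (h ≫ Sigma.ι E.X i) ≫ Sigma.desc E.f = _
      rw [Category.assoc, Sigma.ι_desc, hh]
  · rintro ⟨-, hV⟩
    refine ⟨hE, ?_⟩
    -- the singleton family indexed in universe `u`
    have hS : IsVCover (PreZeroHypercover.singleton.{u} (Sigma.desc E.f)) := by
      intro U
      obtain ⟨F, hF, href⟩ := hV U
      refine ⟨F, hF, fun j => ?_⟩
      obtain ⟨_, h, hh⟩ := href j
      exact ⟨⟨⟩, h, hh⟩
    let 𝒰 : Scheme.Cover Scheme.fpqcPrecoverage (∐ E.X) :=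
      (sigmaOpenCover E.X).weaken Scheme.zariskiPrecoverage_le_fpqcPrecoverage
    have h𝒰 : IsVCover 𝒰.toPreZeroHypercover := Groth.Agent.S7473.result 𝒰
    have hbind := Groth.Agent.S7472.result (PreZeroHypercover.singleton.{u} (Sigma.desc E.f)) hS
      (fun _ => 𝒰.toPreZeroHypercover) (fun _ => h𝒰)
    intro U
    obtain ⟨F, hF, href⟩ := hbind U
    refine ⟨F, hF, fun j => ?_⟩
    obtain ⟨⟨_, i⟩, h, hh⟩ := href j
    let i' : E.I₀ := i
    let h' : F.X j ⟶ E.X i' := h
    have e2 : Sigma.ι E.X i' ≫ Sigma.desc E.f = E.f i' := Sigma.ι_desc _ _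
    have e1 : h' ≫ (Sigma.ι E.X i' ≫ Sigma.desc E.f) = F.f j ≫ U.1.ι := hh
    refine ⟨i', h', ?_⟩
    rw [← e2]
    exact e1

end Groth.Agent.S8980
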