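import Groth.Statements.S10532
import Groth.Agent.S10546

set_option autoImplicit false
universe u
open CategoryTheory CategoryTheory.Limits AlgebraicGeometry
open AlgSp

namespace Groth.Agent.S10532

/-- The property of morphisms of algebraic spaces over S given by f is an isomorphism is fpqc local on
the base: for an fpqc covering of an algebraic space Y by algebraic spaces Y_i, a morphism f : X ⟶ Y
of algebraic spaces and cartesian squares X_i = Y_i ×_Y X, f has the property if and only if every
X_i ⟶ Y_i has it. -/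
theorem result (S : Scheme.{u}) :
    AlgSp.IsLocalOnBase (AlgSp.IsFpqcCover (S := S)) (MorphismProperty.isomorphisms (AlgSp.Sp S)) := by
  intro ι Y Yi g hY hYi hg X f hX Xi p q hXi sq
  simp only [MorphismProperty.isomorphisms.iff]
  refine ⟨fun hf i => (sq i).isIso_snd_of_isIso, fun hp => ?_⟩
  have hmono : Mono f :=
    Groth.Agent.S10546.mono_of_fpqc Yi g hY hg f hX Xi p q sq (fun i => by have := hp i; infer_instance)
  refine Groth.Agent.Lib.helper5.FpqcIso.isIso_of_mono_of_fpqcLocallyLifts hX hY f ?_
  intro Z hZ h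
  obtain ⟨m, W, c, hWa, hcf, hcs, hl⟩ := hg.2 Z hZ h
  refine ⟨m, W, c, hWa, hcf, hcs, fun j => ?_⟩
  obtain ⟨i, l, hli⟩ := hl j
  have := hp i
  refine ⟨l ≫ inv (p i) ≫ q i, ?_⟩
  rw [Category.assoc, Category.assoc, (sq i).w, IsIso.inv_hom_id_assoc, hli]

end Groth.Agent.S10532
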