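import Groth.Statements.S1541
import Mathlib
import Groth.Agent.Lib.Helper3.StalkBC2
import Groth.Agent.Lib.Helper3.GeomRed2

set_option autoImplicit false
universe u
open CategoryTheory CategoryTheory.Limits AlgebraicGeometry
attribute [local instance] Curv2.resAlgebra Curv2.stalkAlgebra
open Variety

namespace Groth.Agent.S1541

open scoped TensorProduct

/-- Let X be a scheme over a field k and x a point of X. Then X is geometrically reduced at x (all local
rings of all base changes X_{k'} at points over x are reduced) if and only if the local ring 𝒪_{X,x}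
is geometrically reduced as a k-algebra. -/
theorem result (k : Type u) [Field k] (X : Scheme.{u}) [X.Over (Spec (CommRingCat.of k))] (x : X) :
    Curv2.IsGeomReducedAt k X x ↔ Algebra.IsGeometricallyReduced k (X.presheaf.stalk x) := by
  have hj : X.fromSpecStalk x ≫ (X ↘ Spec (CommRingCat.of k)) =
      Spec.map (CommRingCat.ofHom (algebraMap k (X.presheaf.stalk x))) :=
    Groth.Agent.Lib.helper3.StalkBC2.specMap_stalkMap k X x
  constructor
  · intro h
    have hred : _root_.IsReduced ((X.presheaf.stalk x) ⊗[k] AlgebraicClosure k) := by
      apply isReduced_ofLocalizationMaximal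
      intro m hm
      obtain ⟨x', hx', ⟨e⟩⟩ := Groth.Agent.Lib.helper3.StalkBC2.exists_point_of_isMaximal x
        (X ↘ Spec (CommRingCat.of k)) (AlgebraicClosure k) hj m
      have := h (AlgebraicClosure k) x' hx'
      exact isReduced_of_injective e e.injective
    rw [Algebra.isGeometricallyReduced_field_iff]
    exact Groth.Agent.Lib.helper3.GeomRed.isReduced_comm _ _ hred
  · intro h K _ _ x' hx'
    have hred : _root_.IsReduced (K ⊗[k] (X.presheaf.stalk x)) :=
      Groth.Agent.Lib.helper3.GeomRed.isReduced_tensor_of_isGeometricallyReduced k K _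
    have hred' : _root_.IsReduced ((X.presheaf.stalk x) ⊗[k] K) :=
      Groth.Agent.Lib.helper3.GeomRed.isReduced_comm _ _ hred
    obtain ⟨p, ⟨e⟩⟩ := Groth.Agent.Lib.helper3.StalkBC2.exists_prime_of_specializes x
      (X ↘ Spec (CommRingCat.of k)) K hj x' (hx' ▸ specializes_rfl)
    exact isReduced_of_injective e e.injective

end Groth.Agent.S1541
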