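import Groth.Statements.S10347
import Mathlib
import Groth.Agent.Lib.Helper11.AlgSpBasic
import Groth.Agent.Lib.Helper11.SpecDim

set_option autoImplicit false
universe u
open CategoryTheory CategoryTheory.Limits AlgebraicGeometry Topology TopologicalSpace
open AlgSp

namespace Groth.Agent.S10347

open Groth.Agent.Lib.helper11.SpecDim in
theorem dim_le_of_lqf {W V : Scheme.{u}} (h : W ⟶ V) [LocallyQuasiFinite h] :
    topologicalKrullDim W ≤ topologicalKrullDim V := by
  rw [topologicalKrullDim_eq_krullDim, topologicalKrullDim_eq_krullDim]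
  exact Order.krullDim_le_of_strictMono h (strictMono_of_fibres h.continuous
    (eq_of_specializes_of_isDiscrete (fun y => h.isDiscrete_preimage_singleton y)))

open Groth.Agent.Lib.helper11.SpecDim in
theorem dim_le_of_flat_surj {W U : Scheme.{u}} (φ : W ⟶ U) [Flat φ] [Surjective φ] :
    topologicalKrullDim U ≤ topologicalKrullDim W := by
  rw [topologicalKrullDim_eq_krullDim, topologicalKrullDim_eq_krullDim]
  exact krullDim_le_of_generalizingMap φ.continuous (Flat.generalizingMap φ) φ.surjective


/-- For a locally quasi-finite morphism f : X ⟶ Y of algebraic spaces over a scheme S (locally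
quasi-finite and locally of finite type, etale locally on source and target), dim X ≤ dim Y. -/
theorem result {S : Scheme.{u}} {X Y : AlgSp.Space S} (f : X ⟶ Y)
    (hf : AlgSp.LocP (@LocallyQuasiFinite ⊓ @LocallyOfFiniteType) f.hom) :
    AlgSp.dim X.obj ≤ AlgSp.dim Y.obj := by
  unfold AlgSp.dim
  refine iSup_le fun U => iSup_le fun a => iSup_le fun hae => ?_
  obtain ⟨V, q, hqe, hqs⟩ := Y.property.atlas
  obtain ⟨W, snd, fst, hpb⟩ := hqe.rep (a ≫ f.hom)
  obtain ⟨h, rfl⟩ := (yon S).map_surjective fst
  have he : RepWith @Etale ((yon S).map snd) :=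
    (repWith_isStableUnderBaseChange (S := S) @Etale).of_isPullback hpb hqe
  have hs : RepWith @Surjective ((yon S).map snd) :=
    (repWith_isStableUnderBaseChange (S := S) @Surjective).of_isPullback hpb hqs
  have hae' : RepWith @Etale ((yon S).map snd ≫ a) :=
    (repWith_isMultiplicative (S := S) @Etale).comp_mem _ _ he hae
  have het : Etale snd.left := (repWith_yon_map_iff @Etale snd).1 he
  have hsur : Surjective snd.left := (repWith_yon_map_iff @Surjective snd).1 hs
  have hcomm : ((yon S).map snd ≫ a) ≫ f.hom = (yon S).map h ≫ q := by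
    rw [Category.assoc]; exact hpb.w.symm
  have hlqf : LocallyQuasiFinite h.left :=
    (hf ((yon S).map snd ≫ a) q h hae' hqe hcomm).1
  calc topologicalKrullDim ↥U.left ≤ topologicalKrullDim ↥W.left := dim_le_of_flat_surj snd.left
    _ ≤ topologicalKrullDim ↥V.left := dim_le_of_lqf h.left
    _ ≤ _ := by
      refine le_iSup_of_le V (le_iSup_of_le q ?_)
      exact le_iSup (fun _ : RepWith @Etale q => topologicalKrullDim ↥V.left) hqe

end Groth.Agent.S10347
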