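import Groth.Statements.S10278
import Groth.Agent.S10275
import Groth.Agent.S10276
import Groth.Agent.S10277

set_option autoImplicit false
universe u
open CategoryTheory CategoryTheory.Limits AlgebraicGeometry
open AlgSp

namespace Groth.Agent.S10278

theorem main {S : Scheme.{u}} {X Y B : AlgSp.Space S} (f : X ⟶ Y) (p : X ⟶ B)
    (q : Y ⟶ B) (comm : f ≫ q = p) (hq : AlgSp.IsSeparatedMor q.hom) :
    (AlgSp.IsUnivClosedMor p.hom →
      AlgSp.IsUnivClosedMor f.hom ∧ IsClosed (Set.range (AlgSp.Points.map f.hom))) ∧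
    (AlgSp.IsProperMor p.hom → AlgSp.IsProperMor f.hom) := by
  subst comm
  have hpq : (f ≫ q).hom = f.hom ≫ q.hom := rfl
  rw [hpq]
  have sqG : IsPullback (pullback.fst (f.hom ≫ q.hom) q.hom) (pullback.snd (f.hom ≫ q.hom) q.hom)
      (f.hom ≫ q.hom) q.hom := IsPullback.of_hasPullback _ _
  have hG : IsAlgSpace (pullback (f.hom ≫ q.hom) q.hom) :=
    Groth.Agent.Lib.helper5.isAlgSpace_of_isPullback B.property.diag X.property Y.property sqG
  have sqΓ := pullback_lift_diagonal_isPullback f.hom q.hom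
  have hΓ : RepWith @IsClosedImmersion (pullback.lift (𝟙 X.obj) f.hom (by simp) :
      X.obj ⟶ pullback (f.hom ≫ q.hom) q.hom) :=
    (repWith_isStableUnderBaseChange (S := S) @IsClosedImmersion).of_isPullback sqΓ hq
  have hΓ2 : (pullback.lift (𝟙 X.obj) f.hom (by simp) : X.obj ⟶ pullback (f.hom ≫ q.hom) q.hom) ≫
      pullback.snd (f.hom ≫ q.hom) q.hom = f.hom := pullback.lift_snd _ _ _
  constructor
  · intro hp
    have h1 : IsUnivClosedMor (pullback.snd (f.hom ≫ q.hom) q.hom) :=
      Groth.Agent.Lib.helper18.univSp_of_isPullback sqG hp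
    have h2 := Groth.Agent.Lib.helper18.isUnivClosedMor_of_repWith_isClosedImmersion _ hΓ
    have h3 : IsUnivClosedMor f.hom := by
      rw [← hΓ2]
      exact Groth.Agent.S10276.isUnivClosedMor_comp hG Y.property.diag h2 h1
    refine ⟨h3, ?_⟩
    have h4 : IsClosedMap (Points.map f.hom) :=
      h3 Y.property (𝟙 Y.obj) (𝟙 X.obj) f.hom (IsPullback.of_horiz_isIso ⟨by simp⟩)
    exact h4.isClosed_range
  · intro hp
    let G' : Space S := ⟨pullback (f.hom ≫ q.hom) q.hom, hG⟩
    let Γ' : X ⟶ G' := ObjectProperty.homMk (pullback.lift (𝟙 X.obj) f.hom (by simp))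
    let pr1' : G' ⟶ X := ObjectProperty.homMk (pullback.fst (f.hom ≫ q.hom) q.hom)
    let pr2' : G' ⟶ Y := ObjectProperty.homMk (pullback.snd (f.hom ≫ q.hom) q.hom)
    have h1 : IsProperMor Γ'.hom := Groth.Agent.S10277.result Γ' hΓ
    have h2 : IsProperMor pr2'.hom := Groth.Agent.S10275.main (f ≫ q) q pr1' pr2' sqG hp
    have h3 : IsProperMor (Γ' ≫ pr2').hom := Groth.Agent.S10276.main Γ' pr2' h1 h2
    have h4 : Γ' ≫ pr2' = f := ObjectProperty.hom_ext _ hΓ2
    rw [h4] at h3
    exact h3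

/-- Over a separated Y -> B, a morphism X -> Y from a space universally closed (resp. proper) over B is
universally closed with closed image (resp. proper). -/
theorem result {S : Scheme.{u}} {X Y B : AlgSp.Space S} (f : X ⟶ Y) (p : X ⟶ B)
    (q : Y ⟶ B) (comm : f ≫ q = p) (hq : AlgSp.IsSeparatedMor q.hom) :
    (AlgSp.IsUnivClosedMor p.hom →
      AlgSp.IsUnivClosedMor f.hom ∧ IsClosed (Set.range (AlgSp.Points.map f.hom))) ∧
    (AlgSp.IsProperMor p.hom → AlgSp.IsProperMor f.hom) := by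
  exact main f p q comm hq

end Groth.Agent.S10278
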