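import Groth.Statements.S9925
import Groth.Agent.Lib.Helper7.AlgSpFibre
import Groth.Agent.Lib.Helper18.AlgSp
import Groth.Agent.Lib.Helper5.AlgSpFibreProduct
import Groth.Agent.S9917
import Mathlib.AlgebraicGeometry.Morphisms.UniversallyClosed

set_option autoImplicit false
universe u
open CategoryTheory CategoryTheory.Limits AlgebraicGeometry
open AlgSp

namespace Groth.Agent.S9925

open Groth.Agent.Lib.helper11 Groth.Agent.Lib.helper10

open MvPolynomial PrimeSpectrum in
/-- An algebraic space universally closed over a field is quasi-compact (on points). -/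
theorem compactSpace_of_univClosed_field {S : Scheme.{u}} {F : Sp S} (hF : IsAlgSpace F) {K : Type u}
    [Field K] (str : Spec (CommRingCat.of K) ⟶ S) (s : F ⟶ (yon S).obj (Over.mk str))
    (hs : IsUnivClosedMor s) : CompactSpace (Points F) := by
  classical
  obtain ⟨U, a, hae, has⟩ := hF.atlas
  let 𝒰 := U.left.affineCover
  let I := 𝒰.I₀
  let Ui : I → Over S := fun i => Over.mk (𝒰.f i ≫ U.hom)
  let ji : ∀ i, Ui i ⟶ U := fun i => Over.homMk (𝒰.f i) rfl
  let ai : ∀ i, (yon S).obj (Ui i) ⟶ F := fun i => (yon S).map (ji i) ≫ a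
  have hai : ∀ i, RepWith @Etale (ai i) := fun i =>
    (repWith_isMultiplicative (S := S) @Etale).comp_mem _ _
      ((repWith_yon_map_iff @Etale (ji i)).2 (show Etale (𝒰.f i) from inferInstance)) hae
  let O : I → Set (Points F) := fun i => Set.range (Points.ofPt (ai i))
  have hOopen : ∀ i, IsOpen (O i) := fun i => (isOpenMap_ofPt (ai i) (hai i)).isOpen_range
  have hOcpt : ∀ i, IsCompact (O i) := fun i => by
    have : CompactSpace ↥(Ui i).left := by
      show CompactSpace ↥(𝒰.X i)
      infer_instance
    exact isCompact_range (Points.continuous_ofPt (ai i))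
  have hOcov : ∀ x : Points F, ∃ i, x ∈ O i := by
    intro x
    obtain ⟨u, rfl⟩ := surjective_ofPt a has x
    obtain ⟨v, hv⟩ := 𝒰.covers u
    refine ⟨𝒰.idx u, v, ?_⟩
    show Points.ofPt ((yon S).map (ji _) ≫ a) v = _
    rw [ofPt_yon_map_comp]
    exact congrArg _ hv
  let R := MvPolynomial I K
  let T : Over S := Over.mk (Spec.map (CommRingCat.ofHom (MvPolynomial.C : K →+* R)) ≫ str)
  let q : T ⟶ Over.mk str := Over.homMk (Spec.map (CommRingCat.ofHom (MvPolynomial.C : K →+* R))) rfl
  let FT := pullback s ((yon S).map q)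
  let p : FT ⟶ F := pullback.fst _ _
  let fT : FT ⟶ (yon S).obj T := pullback.snd _ _
  have sqT : IsPullback p fT s ((yon S).map q) := IsPullback.of_hasPullback _ _
  have hcl : IsClosedMap (Points.map fT) := hs (IsAlgSpace.yon_obj T) _ _ _ sqT
  let τ : PrimeSpectrum R ≃ₜ Points ((yon S).obj T) := Points.schemeHomeo T
  let fT' : Points FT → PrimeSpectrum R := fun c => τ.symm (Points.map fT c)
  have hfT'c : Continuous fT' := τ.symm.continuous.comp (Points.continuous_map fT)
  have hfT'cl : IsClosedMap fT' := τ.symm.isClosedMap.comp hcl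
  let C : Set (Points FT) :=
    (⋃ i, fT' ⁻¹' (basicOpen (X i : R) : Set (PrimeSpectrum R)) ∩ Points.map p ⁻¹' O i)ᶜ
  have hC : IsClosed C := by
    rw [isClosed_compl_iff]
    exact isOpen_iUnion fun i => ((basicOpen (X i : R)).isOpen.preimage hfT'c).inter
      ((hOopen i).preimage (Points.continuous_map p))
  let ψ : R →ₐ[K] K := MvPolynomial.aeval (fun _ => 1)
  let t : PrimeSpectrum R := PrimeSpectrum.comap ψ.toRingHom ⟨⊥, Ideal.isPrime_bot⟩
  have ht : ∀ i, t ∈ (basicOpen (X i : R) : Set (PrimeSpectrum R)) := by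
    intro i
    show ψ (X i) ∉ (⊥ : Ideal K)
    have e : ψ (X i) = 1 := MvPolynomial.aeval_X (R := K) (S₁ := K) (fun _ : I => (1 : K)) i
    rw [e, Ideal.mem_bot]
    exact one_ne_zero (α := K)
  have htC : t ∈ (fT' '' C)ᶜ := by
    rintro ⟨c, hc, hct⟩
    apply hc
    obtain ⟨i, hi⟩ := hOcov (Points.map p c)
    refine Set.mem_iUnion.2 ⟨i, ?_, hi⟩
    change fT' c ∈ (basicOpen (X i : R) : Set (PrimeSpectrum R))
    rw [hct]
    exact ht i
  have hopen : IsOpen (fT' '' C)ᶜ := (hfT'cl C hC).isOpen_compl
  obtain ⟨_, ⟨g, rfl⟩, htg, hgle⟩ :=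
    PrimeSpectrum.isTopologicalBasis_basic_opens.exists_subset_of_mem_open htC hopen
  let σ : Finset I := g.vars
  let φ : R →+* R := (MvPolynomial.aeval fun i : I => if i ∈ σ then MvPolynomial.X i else 0).toRingHom
  let t' : PrimeSpectrum R := PrimeSpectrum.comap φ t
  have ht'g : t' ∈ (basicOpen g : Set (PrimeSpectrum R)) :=
    show φ g ∉ t.asIdeal from (show φ g = g from aeval_ite_mem_eq_self g subset_rfl).symm ▸ htg
  have h : t' ∉ fT' '' C := hgle ht'g
  suffices hh : ⋃ i ∈ σ, O i = Set.univ from ⟨hh ▸ σ.isCompact_biUnion fun i _ => hOcpt i⟩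
  rw [Set.iUnion₂_eq_univ_iff]
  by_contra hne
  push Not at hne
  obtain ⟨x, hx⟩ := hne
  have hsub : Subsingleton (Points ((yon S).obj (Over.mk str))) := by
    have : Subsingleton ↥(Over.mk str).left := by
      show Subsingleton (PrimeSpectrum K)
      infer_instance
    exact (Points.schemeHomeo (Over.mk str)).symm.injective.subsingleton
  obtain ⟨c, hc1, hc2⟩ := exists_point_of_isPullback sqT x (τ t') (Subsingleton.elim _ _)
  have hfc : fT' c = t' := by
    show τ.symm (Points.map fT c) = t'
    rw [hc2, Homeomorph.symm_apply_apply]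
  apply h
  refine ⟨c, ?_, hfc⟩
  intro hmem
  obtain ⟨i, hi1, hi2⟩ := Set.mem_iUnion.1 hmem
  have hi1' : t' ∈ (basicOpen (X i : R) : Set (PrimeSpectrum R)) := by
    rw [← hfc]; exact hi1
  have hi2' : x ∈ O i := by rw [← hc1]; exact hi2
  have hiσ : i ∉ σ := fun hi => hx i hi hi2'
  have : φ (X i) = 0 := by
    show (MvPolynomial.aeval fun i : I => if i ∈ σ then (MvPolynomial.X i : R) else 0) (X i) = 0
    rw [aeval_X, if_neg hiσ]
  apply hi1'
  show φ (X i) ∈ t.asIdeal
  rw [this]
  exact zero_mem _

/-- An algebraic space universally closed over a quasi-compact scheme has a compact space of points. -/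
theorem compactSpace_of_univClosed {S : Scheme.{u}} {F : Sp S} (hF : IsAlgSpace F) (Z : Over S)
    [CompactSpace ↥Z.left] (s : F ⟶ (yon S).obj Z) (hs : IsUnivClosedMor s) : CompactSpace (Points F) := by
  have hcl : IsClosedMap (Points.map s) := hs (IsAlgSpace.yon_obj Z) (𝟙 _) (𝟙 _) s (IsPullback.id_horiz s)
  have hfib : ∀ y, IsCompact (Points.map s ⁻¹' {y}) := by
    intro y
    obtain ⟨z, rfl⟩ := (Points.schemeHomeo Z).surjective y
    let strz : Spec (CommRingCat.of (Z.left.residueField z)) ⟶ S := Z.left.fromSpecResidueField z ≫ Z.hom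
    let Zz : Over S := Over.mk strz
    let ι : Zz ⟶ Z := Over.homMk (Z.left.fromSpecResidueField z) rfl
    have sqz : IsPullback (pullback.fst s ((yon S).map ι)) (pullback.snd s ((yon S).map ι)) s ((yon S).map ι) :=
      IsPullback.of_hasPullback _ _
    have hFz : IsAlgSpace (pullback s ((yon S).map ι)) :=
      Groth.Agent.Lib.helper5.isAlgSpace_of_isPullback (IsAlgSpace.yon_obj Z).diag hF (IsAlgSpace.yon_obj Zz) sqz
    have hsz : IsUnivClosedMor (pullback.snd s ((yon S).map ι)) :=
      Groth.Agent.Lib.helper18.univSp_of_isPullback sqz hs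
    have hc : CompactSpace (Points (pullback s ((yon S).map ι))) :=
      compactSpace_of_univClosed_field hFz strz _ hsz
    have hpt : ∀ pt : ↥Zz.left, Points.map ((yon S).map ι) (Points.schemeHomeo Zz pt) = Points.schemeHomeo Z z := by
      intro pt
      rw [Points.map_yon_map_apply]
      congr 1
      exact Scheme.fromSpecResidueField_apply _ _
    have : Points.map s ⁻¹' {Points.schemeHomeo Z z} =
        Set.range (Points.map (pullback.fst s ((yon S).map ι))) := by
      ext x
      constructor
      · intro hx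
        have hx' : Points.map s x = Points.schemeHomeo Z z := hx
        obtain ⟨w, hw1, -⟩ := exists_point_of_isPullback sqz x
          (Points.schemeHomeo Zz (IsLocalRing.closedPoint _)) (by rw [hx', hpt])
        exact ⟨w, hw1⟩
      · rintro ⟨w, rfl⟩
        show Points.map s (Points.map (pullback.fst s ((yon S).map ι)) w) = _
        rw [← Points.map_comp, sqz.w, Points.map_comp]
        obtain ⟨pt', hpt'⟩ := (Points.schemeHomeo Zz).surjective (Points.map (pullback.snd s ((yon S).map ι)) w)
        rw [← hpt', hpt]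
    rw [this]
    exact isCompact_range (Points.continuous_map _)
  have hproper : IsProperMap (Points.map s) :=
    isProperMap_iff_isClosedMap_and_compact_fibers.2 ⟨Points.continuous_map s, hcl, hfib⟩
  have : CompactSpace (Points ((yon S).obj Z)) := (Points.schemeHomeo Z).compactSpace
  constructor
  have h := hproper.isCompact_preimage isCompact_univ
  simpa using h

theorem main {S : Scheme.{u}} {X Y : AlgSp.Space S} (f : X ⟶ Y)
    (hf : AlgSp.IsUnivClosedMor f.hom) : AlgSp.IsQuasiCompactMor f.hom := by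
  rw [Groth.Agent.S9917.result]
  intro Z hZ g P fst snd sq
  have hP : IsAlgSpace P :=
    Groth.Agent.Lib.helper5.isAlgSpace_of_isPullback Y.property.diag X.property (IsAlgSpace.yon_obj Z) sq
  have hsnd : IsUnivClosedMor snd := Groth.Agent.Lib.helper18.univSp_of_isPullback sq hf
  have : IsAffine Z.left := hZ
  have := compactSpace_of_univClosed hP Z snd hsnd
  exact Groth.Agent.Lib.helper7.AlgSpFibre.isQuasiCompactSp_of_compactSpace hP.atlas

/-- A universally closed morphism of algebraic spaces is quasi-compact. -/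
theorem result {S : Scheme.{u}} {X Y : AlgSp.Space S} (f : X ⟶ Y)
    (hf : AlgSp.IsUnivClosedMor f.hom) : AlgSp.IsQuasiCompactMor f.hom := by
  exact main f hf

end Groth.Agent.S9925
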