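import Groth.Statements.S10351
import Groth.Agent.Lib.Helper10.AlgSpPoints
import Mathlib

set_option autoImplicit false
universe u
open CategoryTheory CategoryTheory.Limits AlgebraicGeometry Topology TopologicalSpace
open AlgSp

namespace Groth.Agent.S10351

theorem qc_fromSpecResidueField {X : Scheme.{u}} (x : X) :
    QuasiCompact (X.fromSpecResidueField x) := by
  constructor
  intro U hU hU'
  have : Subsingleton ↥(Spec (X.residueField x)) :=
    inferInstanceAs (Subsingleton (PrimeSpectrum (X.residueField x)))
  have : Finite ↥(Spec (X.residueField x)) := Finite.of_subsingleton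
  exact (Set.toFinite _).isCompact

/-- A representable map `f : F ⟶ G` with `G` decent has decent source. -/
theorem isDecent_of_representable {S : Scheme.{u}} {F G : AlgSp.Sp S} (f : F ⟶ G)
    (hf : AlgSp.Representable f) (hG : AlgSp.IsDecent G) : AlgSp.IsDecent F := by
  intro x
  obtain ⟨p, hp, hm, hq⟩ := hG (Points.map f x)
  obtain ⟨W, snd, fst, sq⟩ := hf p.toHom
  have hz : Points.map f x = Points.map p.toHom
      (Points.ofScheme p.pt (IsLocalRing.closedPoint p.K)) := by
    rw [Groth.Agent.Lib.helper10.map_toHom_ofScheme, hp]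
  obtain ⟨w, hw1, -⟩ := Groth.Agent.Lib.helper10.exists_point_of_isPullback sq x _ hz
  rw [Groth.Agent.Lib.helper10.map_eq_ofPt_toScheme] at hw1
  set t := Points.toScheme W w with ht
  have hmono : Mono fst := sq.mono_fst_of_mono
  refine ⟨FieldPt.ofPt fst t, hw1, Groth.Agent.Lib.helper10.mono_toHom_ofPt fst t, ?_⟩
  rw [FieldPt.toHom_ofPt]
  refine (AlgSp.RepWith @QuasiCompact).comp_mem _ _ ?_ ?_
  · rw [repWith_yon_map_iff]
    exact qc_fromSpecResidueField t
  · exact (AlgSp.RepWith @QuasiCompact).of_isPullback sq.flip hq

/-- Let S be a scheme, X and Y algebraic spaces over S, and f : X ⟶ Y a morphism which is representable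
by schemes. If Y is decent then X is decent. -/
theorem result {S : Scheme.{u}} {X Y : AlgSp.Space S} (f : X ⟶ Y)
    (hf : AlgSp.Representable f.hom) (hY : AlgSp.IsDecent Y.obj) : AlgSp.IsDecent X.obj := by
  exact isDecent_of_representable f.hom hf hY

end Groth.Agent.S10351
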