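import Groth.Statements.S9962
import Groth.Agent.Lib.Helper5.AlgSpUniv3

set_option autoImplicit false
universe u
open CategoryTheory CategoryTheory.Limits AlgebraicGeometry
open AlgSp

namespace Groth.Agent.S9962

open Groth.Agent.Lib.helper5

/-- Scheme case: a flat lfp morphism of schemes is universally open as a morphism of sheaves. -/
theorem univOpen_yon_map {S : Scheme.{u}} {U V : Over S} (h : U ⟶ V) [Flat h.left]
    [LocallyOfFinitePresentation h.left] : AlgSp.IsUnivOpenMor ((yon S).map h) := by
  have e : @UniversallyOpen = MorphismProperty.universally (topologically @IsOpenMap) := by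
    ext X Y f
    exact ⟨fun h => h.1, fun h => ⟨h⟩⟩
  have h1 : RepWith @UniversallyOpen ((yon S).map h) :=
    (repWith_yon_map_iff _ _).2 inferInstance
  have hrep := h1.rep
  rw [e] at h1
  refine (repWith_universally_iff @IsOpenMap @IsOpenMap
    (fun csq hs => csq.isOpenMap hs) (fun e e' φ h => ?_) ((yon S).map h) hrep).1 h1
  have := e'.symm.isOpenMap.comp (h.comp e.isOpenMap)
  convert this using 1
  ext x
  simp

/-- Universal openness descends along a representable surjective morphism of the source. -/
theorem univOpen_of_precomp {S : Scheme.{u}} {A B C : Sp S} (q : A ⟶ B) (t : B ⟶ C)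
    (hq : RepWith @Surjective q) (h : AlgSp.IsUnivOpenMor (q ≫ t)) : AlgSp.IsUnivOpenMor t := by
  intro Z Z' hZ g fst snd sq
  have sqT : IsPullback (pullback.fst fst q) (pullback.snd fst q) fst q :=
    IsPullback.of_hasPullback _ _
  have hsur : RepWith @Surjective (pullback.fst fst q) :=
    (repWith_isStableUnderBaseChange (S := S) @Surjective).of_isPullback sqT.flip hq
  have hs := surjective_map_of_repWith_surjective _ hsur
  have sq2 : IsPullback (pullback.snd fst q) (pullback.fst fst q ≫ snd) (q ≫ t) g :=
    sqT.flip.paste_vert sq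
  have ho : IsOpenMap (Points.map (pullback.fst fst q ≫ snd)) := h hZ g _ _ sq2
  intro Ω hΩ
  have : Points.map snd '' Ω =
      Points.map (pullback.fst fst q ≫ snd) '' (Points.map (pullback.fst fst q) ⁻¹' Ω) := by
    have e : Points.map (pullback.fst fst q ≫ snd) =
        Points.map snd ∘ Points.map (pullback.fst fst q) := funext (Points.map_comp _ _)
    rw [e, Set.image_comp, Set.image_preimage_eq _ hs]
  rw [this]
  exact ho _ (hΩ.preimage (Points.continuous_map _))

theorem main {S : Scheme.{u}} {X Y : AlgSp.Space S} (f : X ⟶ Y)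
    (hfl : AlgSp.LocP @Flat f.hom) (hfp : AlgSp.LocP @LocallyOfFinitePresentation f.hom) :
    AlgSp.IsUnivOpenMor f.hom := by
  obtain ⟨V, p, hpe, hps⟩ := Y.property.atlas
  have sq : IsPullback (pullback.fst f.hom p) (pullback.snd f.hom p) f.hom p :=
    IsPullback.of_hasPullback _ _
  have hP : IsAlgSpace (pullback f.hom p) :=
    isAlgSpace_of_isPullback Y.property.diag X.property (IsAlgSpace.yon_obj V) sq
  obtain ⟨U, q, hqe, hqs⟩ := hP.atlas
  obtain ⟨h, hh⟩ := (yon S).map_surjective (q ≫ pullback.snd f.hom p)
  have hfe : RepWith @Etale (pullback.fst f.hom p) :=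
    (repWith_isStableUnderBaseChange (S := S) @Etale).of_isPullback sq.flip hpe
  have hae : RepWith @Etale (q ≫ pullback.fst f.hom p) :=
    (RepWith (S := S) @Etale).comp_mem _ _ hqe hfe
  have hcomm : (q ≫ pullback.fst f.hom p) ≫ f.hom = (yon S).map h ≫ p := by
    rw [Category.assoc, sq.w, hh, Category.assoc]
  have : Flat h.left := hfl _ _ h hae hpe hcomm
  have : LocallyOfFinitePresentation h.left := hfp _ _ h hae hpe hcomm
  have h1 : AlgSp.IsUnivOpenMor (q ≫ pullback.snd f.hom p) := hh ▸ univOpen_yon_map h
  have h2 : AlgSp.IsUnivOpenMor (pullback.snd f.hom p) := univOpen_of_precomp q _ hqs h1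
  exact univSp_of_etale_cover
    (fun sq' hbe hbs hs => (chartSq_of_isPullback sq' hbe hbs).isOpenMap hs)
    Y.property.diag f.hom p hpe hps sq h2

/-- A flat morphism locally of finite presentation between algebraic spaces is universally open. -/
theorem result {S : Scheme.{u}} {X Y : AlgSp.Space S} (f : X ⟶ Y)
    (hfl : AlgSp.LocP @Flat f.hom) (hfp : AlgSp.LocP @LocallyOfFinitePresentation f.hom) :
    AlgSp.IsUnivOpenMor f.hom := by
  exact main f hfl hfp

end Groth.Agent.S9962
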