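import Groth.Statements.S3443
import Groth.Agent.Lib.Helper7.LfpOfComp
import Mathlib.AlgebraicGeometry.PullbackCarrier
import Mathlib.AlgebraicGeometry.Morphisms.FinitePresentation
import Mathlib.AlgebraicGeometry.Morphisms.QuasiSeparated
import Mathlib.AlgebraicGeometry.ResidueField

set_option autoImplicit false
open CategoryTheory AlgebraicGeometry
universe u
open EGA43

namespace Groth.Agent.S3443

section aux

open CategoryTheory.Limits

variable {X Y S : Scheme.{u}} (f : X ⟶ Y) (g : Y ⟶ S) (s : S)

/-- The induced morphism on fibres over `s`. -/
noncomputable abbrev fibreMap :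
    pullback (f ≫ g) (S.fromSpecResidueField s) ⟶ pullback g (S.fromSpecResidueField s) :=
  pullback.lift (pullback.fst (f ≫ g) (S.fromSpecResidueField s) ≫ f)
    (pullback.snd (f ≫ g) (S.fromSpecResidueField s))
    ((Category.assoc _ _ _).trans pullback.condition)

theorem isPullback_fibreMap :
    IsPullback (fibreMap f g s) (pullback.fst (f ≫ g) (S.fromSpecResidueField s))
      (pullback.fst g (S.fromSpecResidueField s)) f := by
  have h1 : fibreMap f g s ≫ pullback.snd g (S.fromSpecResidueField s) =
      pullback.snd (f ≫ g) (S.fromSpecResidueField s) := pullback.lift_snd _ _ _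
  have h2 : IsPullback (fibreMap f g s ≫ pullback.snd g (S.fromSpecResidueField s))
      (pullback.fst (f ≫ g) (S.fromSpecResidueField s)) (S.fromSpecResidueField s) (f ≫ g) := by
    rw [h1]
    exact (IsPullback.of_hasPullback (f ≫ g) (S.fromSpecResidueField s)).flip
  exact IsPullback.of_right h2 (pullback.lift_fst _ _ _)
    (IsPullback.of_hasPullback g (S.fromSpecResidueField s)).flip

theorem setOf_surjective_eq :
    {s : S | Function.Surjective (fibreMap f g s).base} =
      (g.base '' (Set.range f.base)ᶜ)ᶜ := by
  ext s
  simp only [Set.mem_ofPred_eq, Set.mem_compl_iff, Set.mem_image, not_exists, not_and]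
  constructor
  · intro hsurj y hy hgy
    obtain ⟨t⟩ : Nonempty (Spec (S.residueField s)) := inferInstance
    have ht : (S.fromSpecResidueField s).base t = s := Scheme.fromSpecResidueField_apply _ _
    obtain ⟨y', hy'1, hy'2⟩ := Scheme.Pullback.exists_preimage_pullback
      (f := g) (g := S.fromSpecResidueField s) y t (by rw [hgy, ht])
    obtain ⟨x', hx'⟩ := hsurj y'
    apply hy
    refine ⟨(pullback.fst (f ≫ g) (S.fromSpecResidueField s)).base x', ?_⟩
    have hw := (isPullback_fibreMap f g s).w
    have : (pullback.fst (f ≫ g) (S.fromSpecResidueField s) ≫ f).base x' =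
        (fibreMap f g s ≫ pullback.fst g (S.fromSpecResidueField s)).base x' := by rw [hw]
    rw [Scheme.Hom.comp_base, Scheme.Hom.comp_base] at this
    simp only [TopCat.comp_app] at this
    rw [this, hx', hy'1]
  · intro h y'
    by_contra hy'
    refine h ((pullback.fst g (S.fromSpecResidueField s)).base y') ?_ ?_
    · rintro ⟨x, hx⟩
      obtain ⟨z, hz1, hz2⟩ := Scheme.Pullback.exists_preimage_pullback
        (f := f) (g := pullback.fst g (S.fromSpecResidueField s)) x y' hx
      apply hy'
      refine ⟨((isPullback_fibreMap f g s).flip.isoPullback.inv).base z, ?_⟩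
      have h3 := (isPullback_fibreMap f g s).flip.isoPullback_inv_snd
      have : ((isPullback_fibreMap f g s).flip.isoPullback.inv ≫ fibreMap f g s).base z =
          (pullback.snd f (pullback.fst g (S.fromSpecResidueField s))).base z := by rw [h3]
      rw [Scheme.Hom.comp_base] at this
      simp only [TopCat.comp_app] at this
      rw [this]
      exact hz2
    · have hc := pullback.condition (f := g) (g := S.fromSpecResidueField s)
      have : (pullback.fst g (S.fromSpecResidueField s) ≫ g).base y' =
          (pullback.snd g (S.fromSpecResidueField s) ≫ S.fromSpecResidueField s).base y' := by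
        rw [hc]
      rw [Scheme.Hom.comp_base, Scheme.Hom.comp_base] at this
      simp only [TopCat.comp_app] at this
      rw [this]
      exact Scheme.fromSpecResidueField_apply _ _

theorem isLocallyConstructible_compl' {Z : Type*} [TopologicalSpace Z] {A : Set Z}
    (hA : Topology.IsLocallyConstructible A) : Topology.IsLocallyConstructible Aᶜ := by
  intro x
  obtain ⟨U, hxU, hU, hUs⟩ := hA x
  exact ⟨U, hxU, hU, by simpa using hUs.compl⟩

end aux

open CategoryTheory.Limits in
/-- Let g : Y ⟶ S and f : X ⟶ Y be such that X and Y are of finite presentation over S (locally of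
finite presentation, quasi-compact and quasi-separated). For each point s of S let f_s be the
induced morphism from the fibre of f ≫ g over s to the fibre of g over s. Then the set of s for
which f_s is surjective is locally constructible in S. -/
theorem result {X Y S : Scheme.{u}} (f : X ⟶ Y) (g : Y ⟶ S)
    [LocallyOfFinitePresentation g] [QuasiCompact g] [QuasiSeparated g]
    [LocallyOfFinitePresentation (f ≫ g)] [QuasiCompact (f ≫ g)] [QuasiSeparated (f ≫ g)] :
    Topology.IsLocallyConstructible {s : S |
      Function.Surjective (pullback.lift (pullback.fst (f ≫ g) (S.fromSpecResidueField s) ≫ f) (pullback.snd (f ≫ g) (S.fromSpecResidueField s))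
          ((Category.assoc _ _ _).trans pullback.condition) :
        pullback (f ≫ g) (S.fromSpecResidueField s) ⟶ pullback g (S.fromSpecResidueField s)).base} := by
  have : LocallyOfFinitePresentation f :=
    Groth.Agent.Lib.helper7.locallyOfFinitePresentation_of_comp f g
  have : QuasiCompact f := QuasiCompact.of_comp f g
  have h1 : Topology.IsLocallyConstructible (Set.range f.base) := by
    rw [← Set.image_univ]
    exact f.isLocallyConstructible_image Topology.IsLocallyConstructible.univ
  have h2 := g.isLocallyConstructible_image (isLocallyConstructible_compl' h1)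
  have h3 := isLocallyConstructible_compl' h2
  have h4 := setOf_surjective_eq f g
  rw [← h4] at h3
  exact h3

end Groth.Agent.S3443
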