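import Groth.Statements.S4667
import Groth.Agent.Lib.Helper6.IdealSheaf
import Groth.Agent.Lib.Helper16.FlatKer

set_option autoImplicit false
open CategoryTheory AlgebraicGeometry
universe u
open FDesc

namespace Groth.Agent.S4667

open CategoryTheory.Limits

theorem eq_zero_of_app_eq_zero {Y' : Scheme.{u}} {W : Y'.Opens} (hW : IsAffineOpen W)
    (C : CommRingCat.{u}) (θ : Γ(Y', W) ⟶ C) (b : Γ(Y', W))
    (h0 : (Spec.map θ ≫ hW.fromSpec).app W b = 0) : θ b = 0 := by
  have e : (Spec.map θ ≫ hW.fromSpec).app W = θ ≫ (Scheme.ΓSpecIso C).inv ≫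
      (Spec C).presheaf.map (eqToHom (by simp)).op := by
    rw [Scheme.Hom.comp_app, hW.fromSpec_app_self, Category.assoc, Scheme.Hom.naturality,
      ← Category.assoc, ← Scheme.Hom.appTop]
    erw [← Scheme.ΓSpecIso_inv_naturality]
    exact Category.assoc _ _ _
  rw [e] at h0
  have hinj : Function.Injective ((Scheme.ΓSpecIso C).inv ≫
      (Spec C).presheaf.map (eqToHom (by simp : (Spec.map θ ≫ hW.fromSpec) ⁻¹ᵁ W = ⊤)).op) :=
    (ConcreteCategory.bijective_of_isIso _).1
  apply hinj
  rw [map_zero]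
  exact h0

/-- A section of `Y'` over `W` vanishing on `X ×_Y Y'` dies in any commutative square of rings
over `Γ(Y, U)` formed with an affine open `V` of `X` over `U`. -/
theorem eq_zero_of_comm_sq {X Y Y' : Scheme.{u}} (f : X ⟶ Y) (g : Y' ⟶ Y)
    {U : Y.Opens} (hU : IsAffineOpen U) {W : Y'.Opens} (hW : IsAffineOpen W) (hWU : W ≤ g ⁻¹ᵁ U)
    {V : X.Opens} (hV : IsAffineOpen V) (hVU : V ≤ f ⁻¹ᵁ U)
    (b : Γ(Y', W)) (hb : (pullback.snd f g).app W b = 0)
    (C : CommRingCat.{u}) (α : Γ(Y', W) ⟶ C) (β : Γ(X, V) ⟶ C)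
    (hαβ : g.appLE U W hWU ≫ α = f.appLE U V hVU ≫ β) : α b = 0 := by
  have comm : (Spec.map β ≫ hV.fromSpec) ≫ f = (Spec.map α ≫ hW.fromSpec) ≫ g := by
    rw [Category.assoc, Category.assoc, ← IsAffineOpen.SpecMap_appLE_fromSpec f hU hV hVU,
      ← IsAffineOpen.SpecMap_appLE_fromSpec g hU hW hWU, ← Spec.map_comp_assoc,
      ← Spec.map_comp_assoc, hαβ]
  let k : Spec C ⟶ pullback f g := pullback.lift _ _ comm
  have hk : k ≫ pullback.snd f g = Spec.map α ≫ hW.fromSpec := pullback.lift_snd _ _ _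
  apply eq_zero_of_app_eq_zero hW C α b
  have e := Scheme.Hom.congr_app hk.symm W
  have e2 : (Spec.map α ≫ hW.fromSpec).app W b =
      ((Spec C).presheaf.map (eqToHom (by rw [← hk]; rfl)).op)
        ((k.app _) ((pullback.snd f g).app W b)) := by
    rw [e]; rfl
  rw [e2, hb, map_zero, map_zero]

theorem ker_le_of_flat {X Y Y' : Scheme.{u}} (f : X ⟶ Y) (g : Y' ⟶ Y) [QuasiCompact f] [Flat g]
    (U : Y.affineOpens) (W : Y'.affineOpens) (hWU : W.1 ≤ g ⁻¹ᵁ U.1) :
    RingHom.ker ((pullback.snd f g).app W.1).hom ≤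
      (RingHom.ker (f.app U.1).hom).map (g.appLE U.1 W.1 hWU).hom := by
  intro b hb
  have hb0 : (pullback.snd f g).app W.1 b = 0 := hb
  -- finite affine cover of `f ⁻¹ᵁ U`
  have hcomp : IsCompact ((f ⁻¹ᵁ U.1 : X.Opens) : Set X) :=
    QuasiCompact.isCompact_preimage (f := f) _ U.1.2 U.2.isCompact
  obtain ⟨s, hs, hsU⟩ := isCompact_iff_finite_and_eq_biUnion_affineOpens.mp hcomp
  have hle : ∀ i : s, (i.1 : X.Opens) ≤ f ⁻¹ᵁ U.1 := by
    intro i
    rw [hsU]
    exact le_iSup₂ (f := fun (j : X.affineOpens) (_ : j ∈ s) => (j : X.Opens)) i.1 i.2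
  have hfin : Finite s := hs
  have hflat : (g.appLE U.1 W.1 hWU).hom.Flat :=
    HasRingHomProperty.appLE (P := @Flat) g inferInstance U W hWU
  have hmem := Groth.Agent.Lib.helper16.mem_map_iInf_ker_of_flat (g.appLE U.1 W.1 hWU).hom hflat
    (ι := s) (fun i => Γ(X, i.1.1)) (fun i => (f.appLE U.1 i.1.1 (hle i)).hom) b ?_
  · refine Ideal.map_mono ?_ hmem
    -- intersection of the kernels is the kernel of `f.app U`
    intro a ha
    rw [Ideal.mem_iInf] at ha
    rw [RingHom.mem_ker]
    apply X.sheaf.eq_of_locally_eq' (fun i : s => (i.1 : X.Opens)) (f ⁻¹ᵁ U.1)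
      (fun i => homOfLE (hle i))
    · rw [hsU]
      intro x hx
      simp only [TopologicalSpace.Opens.mem_iSup] at hx ⊢
      obtain ⟨i, hi, hxi⟩ := hx
      exact ⟨⟨i, hi⟩, hxi⟩
    · intro i
      have := ha i
      rw [RingHom.mem_ker] at this
      refine Eq.trans ?_ (map_zero _).symm
      exact this
  · intro i C _ α β hαβ
    exact eq_zero_of_comm_sq f g U.2 W.2 hWU i.1.2 (hle i) b hb0 (CommRingCat.of C)
      (CommRingCat.ofHom α) (CommRingCat.ofHom β) (by
        ext x
        exact congrFun (congrArg DFunLike.coe hαβ) x)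

open CategoryTheory.Limits in
/-- Let f : X → Y be a quasi-compact morphism of schemes and g : Y' → Y a flat morphism, and let f' : X
×_Y Y' → Y' be the base change of f. Then the scheme-theoretic image of f' is the inverse image
under g of the scheme-theoretic image of f: the quasi-coherent ideal sheaf cutting out the former is
the pull-back along g of the one cutting out the latter. (One published statement is phrased for a
quasi-compact and quasi-separated S-morphism f and a flat base change S′ → S, which reduces to this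
case; quasi-compactness of f suffices.) -/
theorem result {X Y Y' : Scheme.{u}} (f : X ⟶ Y) (g : Y' ⟶ Y)
    [QuasiCompact f] [Flat g] :
    (pullback.snd f g).ker = f.ker.comap g := by
  have hge : f.ker.comap g ≤ (pullback.snd f g).ker := by
    rw [← Scheme.IdealSheafData.le_map_iff_comap_le, Scheme.IdealSheafData.map_ker,
      ← pullback.condition, Scheme.Hom.ker_comp, ← Scheme.IdealSheafData.map_bot]
    exact Scheme.IdealSheafData.map_mono f bot_le
  refine Groth.Agent.Lib.helper6.ext_of_forall_affineOpens_le_preimage g fun U W hWU => ?_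
  apply le_antisymm
  · rw [Groth.Agent.Lib.helper6.ideal_comap g f.ker U W hWU, Scheme.Hom.ker_apply,
      Scheme.Hom.ker_apply]
    exact ker_le_of_flat f g U W hWU
  · exact hge W

end Groth.Agent.S4667
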