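import Groth.Statements.S1124
import Groth.Agent.S0079
import Groth.Agent.S4667
import Mathlib.AlgebraicGeometry.Morphisms.FlatDescent

set_option autoImplicit false
open CategoryTheory CategoryTheory.Limits AlgebraicGeometry Opposite
universe u
open Desc

namespace Groth.Agent.S1124

/-- A quasi-compact morphism whose base change along an fpqc morphism `p` is an immersion
is an immersion. -/
theorem isImmersion_of_pullback_fst {S' Y S : Scheme.{u}} (p : S' ⟶ S) (g : Y ⟶ S)
    [Surjective p] [Flat p] [QuasiCompact p] [QuasiCompact g]
    [IsImmersion (pullback.fst p g)] [QuasiCompact (pullback.fst p g)] : IsImmersion g := by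
  -- kernel of the base change
  have hker : (pullback.fst p g).ker = g.ker.comap p := by
    rw [← Groth.Agent.S4667.result g p, ← pullbackSymmetry_hom_comp_snd,
      Scheme.Hom.ker_comp_of_isIso]
  have hker' : (pullback.fst p g.imageι).ker = g.ker.comap p := by
    rw [Scheme.IdealSheafData.ker_fst_of_isClosedImmersion, Scheme.IdealSheafData.ker_subschemeι]
  -- the comparison map
  let m : pullback p g ⟶ pullback p g.imageι :=
    pullback.map p g p g.imageι (𝟙 S') g.toImage (𝟙 S) (by simp) (by simp)
  have hm : m ≫ pullback.fst p g.imageι = pullback.fst p g :=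
    (pullback.lift_fst _ _ _).trans (Category.comp_id _)
  have hm2 : m ≫ pullback.snd p g.imageι = pullback.snd p g ≫ g.toImage :=
    pullback.lift_snd _ _ _
  -- `m` is an open immersion
  have hopen : IsOpenImmersion m := by
    have hkk : (pullback.fst p g.imageι).ker = (pullback.fst p g).imageι.ker := by
      rw [hker', Scheme.IdealSheafData.ker_subschemeι, hker]
    let e := IsClosedImmersion.lift (pullback.fst p g.imageι) (pullback.fst p g).imageι hkk.le
    have he : IsIso e := IsClosedImmersion.isIso_lift _ _ hkk
    have hfac : (pullback.fst p g).toImage ≫ e = m := by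
      rw [← cancel_mono (pullback.fst p g.imageι), Category.assoc,
        IsClosedImmersion.lift_fac, Scheme.Hom.toImage_imageι, hm]
    rw [← hfac]
    infer_instance
  -- the left square is a pullback
  have hpb : IsPullback m (pullback.snd p g) (pullback.snd p g.imageι) g.toImage := by
    apply IsPullback.of_right (h₁₂ := pullback.fst p g.imageι) (h₂₂ := g.imageι) (v₁₃ := p)
    · rw [hm, Scheme.Hom.toImage_imageι]
      exact IsPullback.of_hasPullback p g
    · exact hm2
    · exact IsPullback.of_hasPullback p g.imageι
  have hQ : (@Surjective ⊓ @Flat ⊓ @QuasiCompact : MorphismProperty Scheme.{u})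
      (pullback.snd p g.imageι) :=
    MorphismProperty.pullback_snd _ _ ⟨⟨inferInstance, inferInstance⟩, inferInstance⟩
  have hto : IsOpenImmersion g.toImage :=
    MorphismProperty.of_isPullback_of_descendsAlong (P := @IsOpenImmersion)
      (Q := (@Surjective ⊓ @Flat ⊓ @QuasiCompact : MorphismProperty Scheme.{u})) hpb hQ hopen
  rw [← g.toImage_imageι]
  infer_instance

/-- If the base change of a morphism of schemes along a quasi-compact, flat, surjective morphism is a
quasi-compact immersion, then the morphism itself is a quasi-compact immersion. (Stated for a single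
quasi-compact flat surjective base change; together with Zariski-locality on the target this is fpqc
descent for quasi-compact immersions.) -/
theorem result :
    MorphismProperty.DescendsAlong (@IsImmersion ⊓ @QuasiCompact : MorphismProperty Scheme.{u})
      (@Surjective ⊓ @Flat ⊓ @QuasiCompact : MorphismProperty Scheme.{u}) := by
  apply MorphismProperty.DescendsAlong.mk'
  intro S' Y S p g _ hp h
  obtain ⟨himm, hqc⟩ := h
  have hp1 : Surjective p := hp.1.1
  have hp2 : Flat p := hp.1.2
  have hp3 : QuasiCompact p := hp.2
  have hqc' : QuasiCompact (pullback.fst p g) := hqc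
  have himm' : IsImmersion (pullback.fst p g) := himm
  have := Groth.Agent.S0079.result.{u}
  have hg : QuasiCompact g :=
    MorphismProperty.of_pullback_fst_of_descendsAlong (P := @QuasiCompact)
      (Q := (@Surjective ⊓ @Flat ⊓ @QuasiCompact : MorphismProperty Scheme.{u})) (f := p) hp hqc
  exact ⟨isImmersion_of_pullback_fst p g, hg⟩

end Groth.Agent.S1124
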