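import Groth.Statements.S1397
import Mathlib
import Groth.Agent.Lib.Helper12.QuasiAffine
-- import your own Groth.Agent.* helpers here

set_option autoImplicit false
universe u
open FlatMor

namespace Groth.Agent.S1397

section helpers
open AlgebraicGeometry CategoryTheory Limits TopologicalSpace
open Groth.Agent.Lib.helper12

theorem main {X Y Z : Scheme.{u}} (f : X ⟶ Y) (g : Y ⟶ Z)
    (hf : MoreMor.IsIndQuasiAffineHom f) (hg : MoreMor.IsIndQuasiAffineHom g) :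
    MoreMor.IsIndQuasiAffineHom (f ≫ g) := by
  intro W hW U hU
  have : CompactSpace (U : Scheme.{u}) := isCompact_iff_compactSpace.mp hU
  -- the map to g⁻¹ W
  let ψ : (U : Scheme.{u}) ⟶ (g ⁻¹ᵁ W : Scheme.{u}) := U.ι ≫ f ∣_ (g ⁻¹ᵁ W)
  obtain ⟨Y''s, hc, ho, hsub, -⟩ := PrespectralSpace.exists_isCompact_and_isOpen_between
    (isCompact_range ψ.continuous) isOpen_univ (Set.subset_univ _)
  let Y'' : (g ⁻¹ᵁ W : Scheme.{u}).Opens := ⟨Y''s, ho⟩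
  have hqa : Scheme.IsQuasiAffine (Y'' : Scheme.{u}) := hg W hW Y'' hc
  have hr : Set.range ψ ⊆ Set.range Y''.ι := by
    rw [Scheme.Opens.range_ι]; exact hsub
  let ψ' : (U : Scheme.{u}) ⟶ (Y'' : Scheme.{u}) := IsOpenImmersion.lift Y''.ι ψ hr
  have hψ' : ψ' ≫ Y''.ι = ψ := IsOpenImmersion.lift_fac _ _ _
  refine qa_of_affine_target ψ' fun x ↦ ?_
  obtain ⟨_, ⟨r, hr', rfl⟩, hxr, -⟩ := Opens.isBasis_iff_nbhd.mp
    (Scheme.IsQuasiAffine.isBasis_basicOpen (Y'' : Scheme.{u}))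
    (show ψ' x ∈ (⊤ : (Y'' : Scheme.{u}).Opens) from trivial)
  refine ⟨r, hxr, ?_⟩
  have hcomp : IsCompact ((ψ' ⁻¹ᵁ (Y'' : Scheme.{u}).basicOpen r : (U : Scheme.{u}).Opens) : Set U) := by
    rw [Scheme.preimage_basicOpen_top]
    have := isRetrocompact_basicOpen (ψ'.appTop r) isCompact_univ isOpen_univ
    rwa [Set.inter_univ] at this
  have : CompactSpace (ψ' ⁻¹ᵁ (Y'' : Scheme.{u}).basicOpen r : Scheme.{u}) :=
    isCompact_iff_compactSpace.mp hcomp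
  -- the affine open of Y
  let V : Y.Opens := (Y''.ι ≫ (g ⁻¹ᵁ W).ι) ''ᵁ (Y'' : Scheme.{u}).basicOpen r
  have hV : IsAffineOpen V := hr'.image_of_isOpenImmersion _
  let k : (ψ' ⁻¹ᵁ (Y'' : Scheme.{u}).basicOpen r : Scheme.{u}) ⟶ X :=
    (ψ' ⁻¹ᵁ (Y'' : Scheme.{u}).basicOpen r).ι ≫ U.ι ≫ ((f ≫ g) ⁻¹ᵁ W).ι
  have hk : Set.range k ⊆ Set.range (f ⁻¹ᵁ V).ι := by
    rintro _ ⟨p, rfl⟩
    rw [Scheme.Opens.range_ι]
    show f (k p) ∈ V
    have hp : ψ' p.1 ∈ (Y'' : Scheme.{u}).basicOpen r := p.2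
    have h2 : f (((f ≫ g) ⁻¹ᵁ W).ι (U.ι p.1)) = (g ⁻¹ᵁ W).ι (ψ p.1) := by
      have := congr($(morphismRestrict_ι f (g ⁻¹ᵁ W)) (U.ι p.1))
      exact this.symm
    have h3 : ψ p.1 = Y''.ι (ψ' p.1) := by
      have := congr($(hψ') p.1)
      exact this.symm
    have h4 : f (k p) = (g ⁻¹ᵁ W).ι (Y''.ι (ψ' p.1)) := by
      rw [← h3, ← h2]; rfl
    rw [h4]
    exact ⟨ψ' p.1, hp, rfl⟩
  let j := IsOpenImmersion.lift (f ⁻¹ᵁ V).ι k hk
  have hj : j ≫ (f ⁻¹ᵁ V).ι = k := IsOpenImmersion.lift_fac _ _ _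
  have : IsOpenImmersion (j ≫ (f ⁻¹ᵁ V).ι) := by rw [hj]; infer_instance
  have : IsOpenImmersion j := IsOpenImmersion.of_comp j (f ⁻¹ᵁ V).ι
  exact qa_of_openImmersion_indQA j (hf V hV)
end helpers

open AlgebraicGeometry CategoryTheory Limits in
/-- Ind-quasi-affine morphisms are stable under composition. -/
theorem result {X Y Z : Scheme.{u}} (f : X ⟶ Y) (g : Y ⟶ Z) (hf : MoreMor.IsIndQuasiAffineHom f) (hg : MoreMor.IsIndQuasiAffineHom g) :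
    MoreMor.IsIndQuasiAffineHom (f ≫ g) := by
  exact main f g hf hg

end Groth.Agent.S1397
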