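import Groth.Statements.S2338
import Mathlib
import Groth.Agent.S1397
import Groth.Agent.Lib.Helper12.QuasiAffine2
-- import your own Groth.Agent.* helpers here

set_option autoImplicit false
universe u
open CategoryTheory CategoryTheory.Limits AlgebraicGeometry
open EGA2

namespace Groth.Agent.S2338

section helpers
open AlgebraicGeometry CategoryTheory Limits TopologicalSpace
open Groth.Agent.Lib.helper12

theorem main {X Y Z : Scheme.{u}} (f : X ⟶ Y) (g : Y ⟶ Z) (hf : Mor2.IsQuasiAffine f)
    (hg : Mor2.IsQuasiAffine g) : Mor2.IsQuasiAffine (f ≫ g) := by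
  have hf' : MoreMor.IsQuasiAffineHom f := hf
  have hg' : MoreMor.IsQuasiAffineHom g := hg
  have := hf.1
  have := hg.1
  exact qaHom_of_indQAHom_of_qc (f ≫ g)
    (Groth.Agent.S1397.result f g (indQAHom_of_qaHom f hf') (indQAHom_of_qaHom g hg'))
end helpers

/-- The composite of two quasi-affine morphisms is quasi-affine. -/
theorem result {X Y Z : Scheme.{u}} (f : X ⟶ Y) (g : Y ⟶ Z) (hf : Mor2.IsQuasiAffine f) (hg : Mor2.IsQuasiAffine g) :
    Mor2.IsQuasiAffine (f ≫ g) := by
  exact main f g hf hg

end Groth.Agent.S2338
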