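import Groth.Statements.S10967
import Mathlib
import Groth.Agent.Lib.Helper12.QuasiAffine
-- import your own Groth.Agent.* helpers here

set_option autoImplicit false
universe u
open CategoryTheory AlgebraicGeometry TopologicalSpace
open MoreMor

namespace Groth.Agent.S10967

section helpers
open AlgebraicGeometry CategoryTheory Limits TopologicalSpace
open Groth.Agent.Lib.helper12

theorem main {X Y : Scheme.{u}} [IsAffine Y]
    (f : X ⟶ Y) {ι : Type u} (V : ι → Y.Opens) (hV : iSup V = ⊤) (hVa : ∀ i, IsAffineOpen (V i))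
    (hq : ∀ i, Scheme.IsQuasiAffine (↑(f ⁻¹ᵁ V i) : Scheme.{u})) :
    X.IsQuasiAffine := by
  have hcov : ∀ y : Y, ∃ i, y ∈ V i := by
    intro y
    have : y ∈ iSup V := by rw [hV]; trivial
    exact Opens.mem_iSup.mp this
  have hXc : CompactSpace X := by
    obtain ⟨t, ht⟩ := isCompact_univ.elim_finite_subcover (fun i => ((V i : Y.Opens) : Set Y))
      (fun i => (V i).2) (fun y _ => by
        obtain ⟨i, hi⟩ := hcov y
        exact Set.mem_iUnion.mpr ⟨i, hi⟩)
    refine ⟨?_⟩
    have hc : IsCompact (⋃ i ∈ t, ((f ⁻¹ᵁ V i : X.Opens) : Set X)) := by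
      refine t.isCompact_biUnion fun i _ => ?_
      have := hq i
      exact isCompact_iff_compactSpace.mpr
        (inferInstance : CompactSpace (f ⁻¹ᵁ V i : Scheme.{u}))
    convert hc using 1
    symm
    rw [Set.eq_univ_iff_forall]
    intro x
    obtain ⟨i, hi, hx⟩ := Set.mem_iUnion₂.mp (ht (Set.mem_univ (f x)))
    exact Set.mem_iUnion₂.mpr ⟨i, hi, hx⟩
  refine qa_of_affine_target f fun x ↦ ?_
  obtain ⟨i, hi⟩ := hcov (f x)
  obtain ⟨_, ⟨_, ⟨t, rfl⟩, rfl⟩, hxt, htV⟩ :=
    (isBasis_basicOpen Y).exists_subset_of_mem_open hi (V i).2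
  refine ⟨t, hxt, ?_⟩
  have hcomp : IsCompact ((f ⁻¹ᵁ Y.basicOpen t : X.Opens) : Set X) := by
    rw [Scheme.preimage_basicOpen_top]
    have := isRetrocompact_basicOpen (f.appTop t) isCompact_univ isOpen_univ
    rwa [Set.inter_univ] at this
  have : CompactSpace (f ⁻¹ᵁ Y.basicOpen t : Scheme.{u}) := isCompact_iff_compactSpace.mp hcomp
  have hle : f ⁻¹ᵁ Y.basicOpen t ≤ f ⁻¹ᵁ V i := fun p hp => htV hp
  have := hq i
  exact Scheme.IsQuasiAffine.of_isImmersion (X.homOfLE hle)
end helpers

/-- Quasi-affine over an affine base: call a morphism f : X → Y quasi-affine when Y has a cover by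
affine opens V_i whose preimages f⁻¹(V_i) are quasi-affine schemes (quasi-compact open subschemes of
affine schemes; equivalently quasi-compact with X → Spec Γ(X, O_X) an immersion). If Y is affine and
f is quasi-affine in this sense, then X is a quasi-affine scheme. -/
theorem result {X Y : Scheme.{u}} [IsAffine Y]
    (f : X ⟶ Y) {ι : Type u} (V : ι → Y.Opens) (hV : iSup V = ⊤) (hVa : ∀ i, IsAffineOpen (V i))
    (hq : ∀ i, Scheme.IsQuasiAffine (↑(f ⁻¹ᵁ V i) : Scheme.{u})) :
    X.IsQuasiAffine := by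
  exact main f V hV hVa hq

end Groth.Agent.S10967
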