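import Groth.Statements.S2592
import Groth.Agent.Lib.Helper9.LimQuasiAffineStage
import Groth.Agent.Lib.Helper9.QuasiAffineLocal
import Mathlib.AlgebraicGeometry.Morphisms.Affine
import Mathlib.AlgebraicGeometry.Morphisms.QuasiCompact
import Mathlib.AlgebraicGeometry.Morphisms.QuasiSeparated

set_option autoImplicit false
universe u
open CategoryTheory AlgebraicGeometry
open EGA43

namespace Groth.Agent.S2592

/-- Let S = lim S_i be a cofiltered limit of schemes with affine transition morphisms, S_{i₀} a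
quasi-compact quasi-separated stage (the source needs S_{i₀} only quasi-compact; quasi-separatedness
is assumed here), f₀ : X₀ ⟶ Y₀ an S_{i₀}-morphism between schemes of finite presentation over
S_{i₀}, and f : X ⟶ Y its base change to S (base changes expressed by pullback squares). If f is
quasi-affine, then the base change f_i : X_i ⟶ Y_i of f₀ to some stage S_i is quasi-affine. -/
theorem result {I : Type u} [SmallCategory I] [IsCofiltered I]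
    (D : I ⥤ Scheme.{u}) (c : Limits.Cone D) (hc : Limits.IsLimit c)
    [∀ (i j : I) (f : i ⟶ j), IsAffineHom (D.map f)] (i₀ : I) [CompactSpace (D.obj i₀)]
    [QuasiSeparatedSpace (D.obj i₀)] {X₀ Y₀ : Scheme.{u}} (f₀ : X₀ ⟶ Y₀) (g₀ : Y₀ ⟶ D.obj i₀)
    [LocallyOfFinitePresentation g₀] [QuasiCompact g₀] [QuasiSeparated g₀]
    [LocallyOfFinitePresentation (f₀ ≫ g₀)] [QuasiCompact (f₀ ≫ g₀)] [QuasiSeparated (f₀ ≫ g₀)]
    {X Y : Scheme.{u}} (f : X ⟶ Y) (g : Y ⟶ c.pt) (qY : Y ⟶ Y₀) (qX : X ⟶ X₀)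
    (hY : IsPullback qY g g₀ (c.π.app i₀)) (hX : IsPullback qX f f₀ qY) (hf : Mor2.IsQuasiAffine f) :
    ∃ (i : I) (φ : i ⟶ i₀) (Xi Yi : Scheme.{u}) (fi : Xi ⟶ Yi) (gi : Yi ⟶ D.obj i) (pY : Yi ⟶ Y₀)
      (pX : Xi ⟶ X₀), IsPullback pY gi g₀ (D.map φ) ∧ IsPullback pX fi f₀ pY ∧ Mor2.IsQuasiAffine fi := by
  classical
  have : QuasiCompact f₀ := QuasiCompact.of_comp f₀ g₀
  have : CompactSpace X₀ := QuasiCompact.compactSpace_of_compactSpace (f₀ ≫ g₀)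
  have : QuasiSeparatedSpace X₀ := quasiSeparatedSpace_of_quasiSeparated (f₀ ≫ g₀)
  have : CompactSpace Y₀ := QuasiCompact.compactSpace_of_compactSpace g₀
  have : IsAffineHom (c.π.app i₀) := isAffineHom_π_app D c hc i₀
  have : IsAffineHom qY :=
    MorphismProperty.of_isPullback (P := @IsAffineHom) hY.flip inferInstance
  have HX : IsPullback qX (f ≫ g) (f₀ ≫ g₀) (c.π.app i₀) := hX.paste_vert hY
  -- the preimage in the limit of `f₀ ⁻¹ V` is quasi-affine, for `V` affine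
  have hΩ : ∀ V : Y₀.Opens, IsAffineOpen V → Scheme.IsQuasiAffine
      (Limits.pullback.snd (c.π.app i₀) (f₀ ≫ g₀) ⁻¹ᵁ (f₀ ⁻¹ᵁ V) : Scheme.{u}) := by
    intro V hV
    have h1 : Scheme.IsQuasiAffine (f ⁻¹ᵁ (qY ⁻¹ᵁ V) : Scheme.{u}) := hf.2 _ (hV.preimage qY)
    have h2 : HX.flip.isoPullback.hom ⁻¹ᵁ
        (Limits.pullback.snd (c.π.app i₀) (f₀ ≫ g₀) ⁻¹ᵁ (f₀ ⁻¹ᵁ V)) = f ⁻¹ᵁ (qY ⁻¹ᵁ V) := by
      rw [← Scheme.Hom.comp_preimage, HX.flip.isoPullback_hom_snd, ← Scheme.Hom.comp_preimage,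
        ← Scheme.Hom.comp_preimage, hX.w]
    have h3 : Limits.pullback.snd (c.π.app i₀) (f₀ ≫ g₀) ⁻¹ᵁ (f₀ ⁻¹ᵁ V) =
        HX.flip.isoPullback.inv ⁻¹ᵁ (f ⁻¹ᵁ (qY ⁻¹ᵁ V)) := by
      rw [← h2]
      have key := Scheme.Hom.comp_preimage HX.flip.isoPullback.inv HX.flip.isoPullback.hom
        (Limits.pullback.snd (c.π.app i₀) (f₀ ≫ g₀) ⁻¹ᵁ (f₀ ⁻¹ᵁ V))
      rw [Iso.inv_hom_id, Scheme.Hom.id_preimage] at key
      exact key
    rw [h3]
    exact Scheme.IsQuasiAffine.of_isAffineHom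
      (HX.flip.isoPullback.inv ∣_ (f ⁻¹ᵁ (qY ⁻¹ᵁ V)))
  -- a finite affine cover of `Y₀`
  obtain ⟨s, hs, hcov⟩ := (isCompact_and_isOpen_iff_finite_and_eq_biUnion_affineOpens
    (U := (Set.univ : Set Y₀))).mp ⟨isCompact_univ, isOpen_univ⟩
  have hstage : ∀ V : s, ∃ l : Over i₀, ∀ (l' : Over i₀) (_ : l' ⟶ l), Scheme.IsQuasiAffine
      (Limits.pullback.snd (D.map l'.hom) (f₀ ≫ g₀) ⁻¹ᵁ (f₀ ⁻¹ᵁ V.1.1) : Scheme.{u}) := fun V =>
    Groth.Agent.Lib.helper9.exists_stage_isQuasiAffine_preimage D c hc i₀ (f₀ ≫ g₀)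
      (f₀ ⁻¹ᵁ V.1.1) (QuasiCompact.isCompact_preimage (f := f₀) _ V.1.1.2 V.1.2.isCompact)
      (hΩ V.1.1 V.1.2)
  choose lV hlV using hstage
  have : Fintype s := hs.fintype
  obtain ⟨l, hl⟩ := IsCofiltered.inf_objs_exists (Finset.univ.image lV)
  have ml : ∀ V : s, l ⟶ lV V := fun V =>
    (hl (Finset.mem_image_of_mem _ (Finset.mem_univ V))).some
  have hQA : ∀ V : s, Scheme.IsQuasiAffine
      (Limits.pullback.snd (D.map l.hom) (f₀ ≫ g₀) ⁻¹ᵁ (f₀ ⁻¹ᵁ V.1.1) : Scheme.{u}) :=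
    fun V => hlV V l (ml V)
  refine ⟨l.left, l.hom, _, _, Groth.Agent.Lib.helper9.stageMap (D.map l.hom) f₀ g₀, _, _, _,
    Groth.Agent.Lib.helper9.isPullback_stage_base (D.map l.hom) g₀,
    Groth.Agent.Lib.helper9.isPullback_stageMap (D.map l.hom) f₀ g₀, ?_⟩
  have : QuasiCompact (Groth.Agent.Lib.helper9.stageMap (D.map l.hom) f₀ g₀) :=
    MorphismProperty.of_isPullback (P := @QuasiCompact)
      (Groth.Agent.Lib.helper9.isPullback_stageMap (D.map l.hom) f₀ g₀) inferInstance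
  apply Groth.Agent.Lib.helper9.isQuasiAffine_of_cover
    (Groth.Agent.Lib.helper9.stageMap (D.map l.hom) f₀ g₀)
    {W | ∃ V : s, W = Limits.pullback.snd (D.map l.hom) g₀ ⁻¹ᵁ V.1.1}
  · intro y
    have hy : (Limits.pullback.snd (D.map l.hom) g₀) y ∈ ⋃ i ∈ s, (i : Set Y₀) :=
      hcov ▸ Set.mem_univ _
    obtain ⟨V, hVs, hyV⟩ := Set.mem_iUnion₂.mp hy
    exact ⟨_, ⟨⟨V, hVs⟩, rfl⟩, hyV⟩
  · rintro W ⟨V, rfl⟩
    have e : Groth.Agent.Lib.helper9.stageMap (D.map l.hom) f₀ g₀ ⁻¹ᵁ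
        (Limits.pullback.snd (D.map l.hom) g₀ ⁻¹ᵁ V.1.1) =
        Limits.pullback.snd (D.map l.hom) (f₀ ≫ g₀) ⁻¹ᵁ (f₀ ⁻¹ᵁ V.1.1) := by
      rw [← Scheme.Hom.comp_preimage, Groth.Agent.Lib.helper9.stageMap_snd,
        Scheme.Hom.comp_preimage]
    rw [e]
    exact hQA V

end Groth.Agent.S2592
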