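import Groth.Statements.S9757
import Groth.Agent.Lib.Helper5.CMQF13
import Groth.Agent.Lib.Helper3.FibreDimNat

set_option autoImplicit false
universe u
open FlatMor

namespace Groth.Agent.S9757

open AlgebraicGeometry CategoryTheory Limits in
/-- Suppose the morphism f : X ⟶ S is flat and locally of finite presentation. Then X contains open
subsets U_d, indexed by d ∈ ℕ, such that for every s ∈ S the union of all U_d intersects the fibre
X_s in a dense subset of X_s, and each U_d ⟶ S is of relative dimension d. Because U_d is open in X,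
this is the same as requiring that at every point x of U_d the fibre of f containing x has local
dimension d at x; that pointwise form is the one this row uses. -/
theorem result {X S : Scheme.{u}} (f : X ⟶ S) [Flat f] [LocallyOfFinitePresentation f] :
    ∃ U : ℕ → X.Opens, (∀ s : S, Dense ((f.fiberι s) ⁻¹' ((⨆ d, U d : X.Opens) : Set ↑X))) ∧
      ∀ (d : ℕ) (x : ↑X), x ∈ U d → FlatMor.fibreDimAt f x = d := by
  classical
  have hopen : ∀ d : ℕ, IsOpen {x : X | MoreMor.IsCMAt f x ∧
      FlatMor.fibreDimAt f x = (d : WithBot ℕ∞)} := by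
    intro d
    rw [isOpen_iff_forall_mem_open]
    rintro x ⟨hcm, hd⟩
    obtain ⟨U, hxU, hU⟩ :=
      Groth.Agent.Lib.helper5.CMQF.exists_open_isCMAt_fibreDimAt_const f x hcm
    refine ⟨U, ?_, U.2, hxU⟩
    intro x' hx'
    obtain ⟨h1, h2⟩ := hU x' hx'
    exact ⟨h1, h2.trans hd⟩
  refine ⟨fun d => ⟨_, hopen d⟩, ?_, ?_⟩
  · intro s
    refine (Groth.Agent.Lib.helper5.CMDense.dense_cm_in_fibre f s).mono ?_
    intro z hz
    have hz' : LocCoh.IsCohenMacaulayLocalRing ((f.fiber s).presheaf.stalk z) := hz
    have hfl : (f.stalkMap (f.fiberι s z)).hom.Flat :=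
      (AlgebraicGeometry.Flat.iff_flat_stalkMap f).mp inferInstance _
    have hcm : MoreMor.IsCMAt f (f.fiberι s z) :=
      (Groth.Agent.Lib.helper5.CMDense.isCMAt_fiberι_iff f s z).mpr ⟨hfl, hz'⟩
    obtain ⟨d, hd⟩ := Groth.Agent.Lib.helper3.DimFibre.exists_nat_fibreDimAt f (f.fiberι s z)
    simp only [Set.mem_preimage, SetLike.mem_coe, TopologicalSpace.Opens.mem_iSup]
    exact ⟨d, hcm, hd⟩
  · intro d x hx
    exact hx.2

end Groth.Agent.S9757
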