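import Groth.Statements.S10213
-- import your own Groth.Agent.* helpers here

set_option autoImplicit false
universe u
open CategoryTheory CategoryTheory.Limits AlgebraicGeometry Topology TopologicalSpace
open AlgSp

namespace Groth.Agent.S10213

/-- For an algebraic space X over a scheme S there is a surjective etale map h_U ⟶ X where U is a
disjoint union of affine schemes, each of which maps into an affine open of S. -/
theorem result {S : Scheme.{u}} (X : AlgSp.Space S) :
    ∃ (ι : Type u) (V : ι → Scheme.{u}) (_ : ∀ i, IsAffine (V i)) (q : (∐ V) ⟶ S)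
      (p : (AlgSp.yon S).obj (Over.mk q) ⟶ X.obj),
      AlgSp.RepWith @Etale p ∧ AlgSp.RepWith @Surjective p ∧
        ∀ i, ∃ W : S.Opens, IsAffineOpen W ∧ ∀ v : ↥(V i), (Sigma.ι V i ≫ q) v ∈ W := by
  obtain ⟨U, a, hae, has⟩ := X.property.atlas
  -- for each point of `U` choose an affine open of `S` and an affine open of `U` inside its preimage
  have hW : ∀ x : U.left, ∃ W : S.Opens, IsAffineOpen W ∧ U.hom x ∈ W := by
    intro x
    obtain ⟨_, ⟨W, hW, rfl⟩, hxW, -⟩ :=
      (S.isBasis_affineOpens).exists_subset_of_mem_open (Set.mem_univ (U.hom x)) isOpen_univ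
    exact ⟨W, hW, hxW⟩
  choose W hWaff hWmem using hW
  have hV : ∀ x : U.left, ∃ V : U.left.Opens, IsAffineOpen V ∧ x ∈ V ∧ V ≤ U.hom ⁻¹ᵁ (W x) := by
    intro x
    obtain ⟨_, ⟨V, hV, rfl⟩, hxV, hVW⟩ :=
      (U.left.isBasis_affineOpens).exists_subset_of_mem_open
        (show x ∈ ((U.hom ⁻¹ᵁ (W x) : U.left.Opens) : Set U.left) from hWmem x)
        (U.hom ⁻¹ᵁ (W x)).isOpen
    exact ⟨V, hV, hxV, hVW⟩
  choose V' hVaff hVmem hVle using hV
  let V : U.left → Scheme.{u} := fun x => (V' x : Scheme.{u})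
  have hVa : ∀ i, IsAffine (V i) := fun i => hVaff i
  let p0 : (∐ V) ⟶ U.left := Sigma.desc (fun x => (V' x).ι)
  have hp0e : Etale p0 :=
    IsZariskiLocalAtSource.sigmaDesc (P := @Etale) (fun x => (inferInstance : Etale (V' x).ι))
  have hp0s : Surjective p0 := by
    refine ⟨fun x => ?_⟩
    refine ⟨(Sigma.ι V x) ⟨x, hVmem x⟩, ?_⟩
    rw [← Scheme.Hom.comp_apply]
    simp only [p0, colimit.ι_desc, Cofan.mk_ι_app]
    rfl
  let m : Over.mk (p0 ≫ U.hom) ⟶ U := Over.homMk p0 rfl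
  refine ⟨U.left, V, hVa, p0 ≫ U.hom, (AlgSp.yon S).map m ≫ a, ?_, ?_, ?_⟩
  · exact (AlgSp.repWith_isMultiplicative (S := S) @Etale).comp_mem _ _
      ((AlgSp.repWith_yon_map_iff _ m).2 hp0e) hae
  · exact (AlgSp.repWith_isMultiplicative (S := S) @Surjective).comp_mem _ _
      ((AlgSp.repWith_yon_map_iff _ m).2 hp0s) has
  · intro i
    refine ⟨W i, hWaff i, fun v => ?_⟩
    have e : Sigma.ι V i ≫ p0 ≫ U.hom = (V' i).ι ≫ U.hom := by
      simp only [p0, colimit.ι_desc_assoc, Cofan.mk_ι_app]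
    rw [e, Scheme.Hom.comp_apply]
    exact hVle i v.2

end Groth.Agent.S10213
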