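import Groth.Statements.S10174
import Groth.Agent.Lib.Helper11.AlgSpBasic

set_option autoImplicit false
universe u
open CategoryTheory CategoryTheory.Limits AlgebraicGeometry Topology TopologicalSpace
open AlgSp

namespace Groth.Agent.S10174

/-- An algebraic space X over a scheme S is quasi-compact (that is, it has a surjective etale chart from
a scheme whose underlying space is quasi-compact) if and only if the space of points |X| is
quasi-compact. -/
theorem result {S : Scheme.{u}} (X : AlgSp.Space S) :
    AlgSp.IsQuasiCompactSp X.obj ↔ CompactSpace (AlgSp.Points X.obj) := by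
  constructor
  · rintro ⟨U, p, hpe, hps, hU⟩
    have : CompactSpace ↥U.left := hU
    have h1 : IsCompact (Set.range (AlgSp.Points.ofPt p)) :=
      isCompact_range (AlgSp.Points.continuous_ofPt p)
    rw [(Groth.Agent.Lib.helper11.surjective_ofPt p hps).range_eq] at h1
    exact ⟨h1⟩
  · intro h
    obtain ⟨U, p, hpe, hps⟩ := X.property.atlas
    obtain ⟨V, q, hV, hqe, hqs⟩ :=
      Groth.Agent.Lib.helper11.exists_affine_chart_of_compactSpace p hpe hps
    exact ⟨V, q, hqe, hqs, inferInstance⟩

end Groth.Agent.S10174
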