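import Groth.Statements.S9913
import Groth.Agent.Lib.Helper5.AlgSpQCFam

set_option autoImplicit false
universe u
open CategoryTheory CategoryTheory.Limits AlgebraicGeometry
open AlgSp

namespace Groth.Agent.S9913

/-- For a quasi-compact morphism of algebraic spaces, the induced map on points pulls quasi-compact
opens back to quasi-compact subsets. -/
theorem result {S : Scheme.{u}} {X Y : AlgSp.Space S} (f : X ⟶ Y)
    (hf : AlgSp.IsQuasiCompactMor f.hom) (V : Set (AlgSp.Points Y.obj)) (hV : IsOpen V) (hVc : IsCompact V) :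
    IsCompact (AlgSp.Points.map f.hom ⁻¹' V) := by
  obtain ⟨U, q, hqe, hqs⟩ := Y.property.atlas
  -- affine opens of `U` mapping into `V`
  let I := {i : U.left.affineOpens // ((i : U.left.Opens) : Set ↥U.left) ⊆ AlgSp.Points.ofPt q ⁻¹' V}
  let Zi : I → Over S := fun i => Over.mk ((i.1 : U.left.Opens).ι ≫ U.hom)
  let qi : ∀ i : I, (AlgSp.yon S).obj (Zi i) ⟶ Y.obj := fun i =>
    (AlgSp.yon S).map (Over.homMk (U := Zi i) (V := U) (i.1 : U.left.Opens).ι rfl) ≫ q
  have hqi : ∀ i : I, AlgSp.RepWith @Etale (qi i) ∧ ∀ v : (i.1 : U.left.Opens),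
      AlgSp.Points.ofPt (qi i) v = AlgSp.Points.ofPt q ((i.1 : U.left.Opens).ι v) :=
    fun i => Groth.Agent.Lib.helper11.chart_comp q hqe (i.1 : U.left.Opens).ι
  have hsub : ∀ i : I, Set.range (AlgSp.Points.ofPt (qi i)) ⊆ V := by
    rintro i _ ⟨v, rfl⟩
    rw [(hqi i).2 v]
    exact i.2 v.2
  have hopen : ∀ i : I, IsOpen (Set.range (AlgSp.Points.ofPt (qi i))) := fun i =>
    (Groth.Agent.Lib.helper11.isOpenMap_ofPt (qi i) (hqi i).1).isOpen_range
  have hcov : V ⊆ ⋃ i : I, Set.range (AlgSp.Points.ofPt (qi i)) := by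
    intro v hv
    obtain ⟨u, rfl⟩ := Groth.Agent.Lib.helper11.surjective_ofPt q hqs v
    have ho : IsOpen (AlgSp.Points.ofPt q ⁻¹' V) := hV.preimage (AlgSp.Points.continuous_ofPt q)
    obtain ⟨_, ⟨U₀, hU₀, rfl⟩, hu, hsub'⟩ :=
      (U.left.isBasis_affineOpens).exists_subset_of_mem_open (show u ∈ _ from hv) ho
    refine Set.mem_iUnion.mpr ⟨⟨⟨U₀, hU₀⟩, hsub'⟩, ⟨u, hu⟩, ?_⟩
    exact (hqi ⟨⟨U₀, hU₀⟩, hsub'⟩).2 ⟨u, hu⟩
  obtain ⟨s, hs⟩ := hVc.elim_finite_subcover _ hopen hcov
  have sqT : ∀ i, IsPullback (pullback.fst f.hom (qi i)) (pullback.snd f.hom (qi i)) f.hom (qi i) :=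
    fun i => IsPullback.of_hasPullback _ _
  have hcomp : ∀ i, IsCompact (Set.range (AlgSp.Points.map (pullback.fst f.hom (qi i)))) := by
    intro i
    have hZc : CompactSpace ↥(Zi i).left := by
      change CompactSpace ↥((i.1 : U.left.Opens) : Scheme.{u})
      exact isCompact_iff_compactSpace.mp (i.1.2 : IsAffineOpen _).isCompact
    have hQ : AlgSp.IsQuasiCompactSp (pullback f.hom (qi i)) :=
      hf (AlgSp.IsAlgSpace.yon_obj _) (Groth.Agent.Lib.helper7.AlgSpQC.isQuasiCompactSp_yon _) _ _ _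
        (sqT i)
    have := Groth.Agent.Lib.helper7.AlgSpFibre.compactSpace_of_isQuasiCompactSp hQ
    exact isCompact_range (AlgSp.Points.continuous_map _)
  have : AlgSp.Points.map f.hom ⁻¹' V =
      ⋃ i ∈ s, Set.range (AlgSp.Points.map (pullback.fst f.hom (qi i))) := by
    ext x
    simp only [Set.mem_preimage, Set.mem_iUnion, Set.mem_range]
    constructor
    · intro hx
      have := hs hx
      simp only [Set.mem_iUnion] at this
      obtain ⟨i, hi, z, hz⟩ := this
      have e : AlgSp.Points.map f.hom x =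
          AlgSp.Points.map (qi i) (AlgSp.Points.ofScheme (Zi i) z) := by
        rw [← AlgSp.Points.ofPt_eq_map_ofScheme, hz]
      obtain ⟨w, hw, _⟩ := Groth.Agent.Lib.helper10.exists_point_of_isPullback (sqT i) x _ e
      exact ⟨i, hi, w, hw⟩
    · rintro ⟨i, hi, w, rfl⟩
      rw [← AlgSp.Points.map_comp, (sqT i).w, AlgSp.Points.map_comp,
        Groth.Agent.Lib.helper10.map_eq_ofPt_toScheme]
      exact hsub i ⟨_, rfl⟩
  rw [this]
  exact s.isCompact_biUnion fun i _ => hcomp i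

end Groth.Agent.S9913
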