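import Groth.Statements.S10086
import Groth.Agent.Lib.Helper5.LimSpE
import Groth.Agent.Lib.Helper5.AlgSpOpenSub
import Groth.Agent.Lib.Helper5.AlgSpFpqcIso
import Groth.Agent.Lib.Helper5.AlgSpUniv2
import Groth.Agent.S10174
import Groth.Agent.S10179
import Groth.Agent.S9913
import Groth.Agent.S9920
import Groth.Agent.S9928

set_option autoImplicit false
universe u
open CategoryTheory CategoryTheory.Limits AlgebraicGeometry Opposite
open AlgSp

namespace Groth.Agent.S10086

open Topology Groth.Agent.Lib.helper5 in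
/-- an open subspace (as a subsheaf) on a quasi-compact open subset is quasi-compact -/
theorem isQuasiCompactSp_sub {S : Scheme.{u}} {X : AlgSp.Sp S} (hX : AlgSp.IsAlgSpace X)
    {V : Set (AlgSp.Points X)} (hVo : IsOpen V) (hVc : IsCompact V) :
    AlgSp.IsQuasiCompactSp (OpenSub.sub X V) := by
  refine (Groth.Agent.S10174.result ⟨OpenSub.sub X V, OpenSub.isAlgSpace_sub hX hVo⟩).2 ?_
  have hinj : Function.Injective (AlgSp.Points.map (OpenSub.ι X V)) :=
    FpqcIso.injective_map_of_mono (OpenSub.ι X V)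
  have hopen : IsOpenMap (AlgSp.Points.map (OpenSub.ι X V)) :=
    isOpenMap_map_of_repWith_etale _ (Groth.Agent.S10194.repWith_mono
      (fun X Y g hg => by have : IsOpenImmersion g := hg; infer_instance) (OpenSub.repWith_ι X hVo))
  have hemb : IsOpenEmbedding (AlgSp.Points.map (OpenSub.ι X V)) :=
    .of_continuous_injective_isOpenMap (AlgSp.Points.continuous_map _) hinj hopen
  refine isCompact_univ_iff.mp ?_
  rw [hemb.isEmbedding.isCompact_iff, Set.image_univ, OpenSub.range_map_ι]
  exact hVc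


/-- Let `S` be a quasi-separated scheme and `X` the limit, in fppf sheaves over `S`, of a cofiltered
system `(X_i)` of algebraic spaces over `S`, each quasi-compact and quasi-separated over `S`, whose
transition maps are affine. Then every quasi-compact open subspace `U ⟶ X` is the inverse image of a
quasi-compact open subspace `U_i ⟶ X_i` for some index `i` (a pullback square over the projection `X
⟶ X_i`). (The published statement allows any base scheme and uses absolute quasi-separatedness; this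
row assumes the base quasi-separated, over which quasi-separatedness relative to the base is the
absolute notion.) -/
theorem result (S : Scheme.{u}) [QuasiSeparatedSpace ↥S] {I : Type u} [SmallCategory I] [IsCofiltered I]
    (D : I ⥤ AlgSp.Sp S) (hD : ∀ i, AlgSp.IsAlgSpace (D.obj i))
    (hDa : ∀ (i j : I) (φ : i ⟶ j), AlgSp.IsAffineMor (D.map φ))
    (hqc : ∀ i, AlgSp.IsQuasiCompactSp (D.obj i)) (hqs : ∀ i, AlgSp.IsQuasiSeparatedSp (D.obj i))
    (c : Cone D) (hc : IsLimit c)
    (U : AlgSp.Sp S) (j : U ⟶ c.pt) (hj : AlgSp.RepWith @IsOpenImmersion j) (hU : AlgSp.IsQuasiCompactSp U) :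
    ∃ (i : I) (Ui : AlgSp.Sp S) (ji : Ui ⟶ D.obj i) (q : U ⟶ Ui),
      AlgSp.RepWith @IsOpenImmersion ji ∧ AlgSp.IsQuasiCompactSp Ui ∧ IsPullback j q (c.π.app i) ji := by
  classical
  have hX : IsAlgSpace c.pt := Groth.Agent.Lib.helper5.LimSp.isAlgSpace_limit D c hD hDa hc
  have hUalg : IsAlgSpace U :=
    Groth.Agent.Lib.helper5.GrpLocus.isAlgSpace_of_representable j hj.rep hX
  have hje : RepWith @Etale j := Groth.Agent.S10194.repWith_mono
    (fun X Y g hg => by have : IsOpenImmersion g := hg; infer_instance) hj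
  obtain ⟨A, hA⟩ : ∃ A : Set (Points c.pt), A = Set.range (Points.map j) := ⟨_, rfl⟩
  have hAopen : IsOpen A := by
    rw [hA]
    exact (Groth.Agent.Lib.helper5.isOpenMap_map_of_repWith_etale j hje).isOpen_range
  have hAcomp : IsCompact A := by
    haveI : CompactSpace (Points U) := (Groth.Agent.S10174.result ⟨U, hUalg⟩).1 hU
    rw [hA]
    exact isCompact_range (Points.continuous_map j)
  have htop := Groth.Agent.Lib.helper5.LimSp.points_topology_limit D c hc hD hDa
  -- the compatibility of the projections on points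
  have hcw : ∀ {i k : I} (φ : i ⟶ k) (x : Points c.pt),
      Points.map (D.map φ) (Points.map (c.π.app i) x) = Points.map (c.π.app k) x := by
    intro i k φ x
    rw [← Points.map_comp, c.w]
  -- neighbourhood basis
  have key : ∀ x ∈ A, ∃ (i : I) (V : Set (Points (D.obj i))), IsOpen V ∧ IsCompact V ∧
      Points.map (c.π.app i) x ∈ V ∧ Points.map (c.π.app i) ⁻¹' V ⊆ A := by
    intro x hx
    have hnhds : A ∈ @nhds _ (Points.topologicalSpace c.pt) x := hAopen.mem_nhds hx
    have h1 : @nhds _ (Points.topologicalSpace c.pt) x =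
        ⨅ i, Filter.comap (Points.map (c.π.app i)) (nhds (Points.map (c.π.app i) x)) := by
      rw [htop, nhds_iInf]
      simp only [nhds_induced]
    rw [h1] at hnhds
    obtain ⟨i₁⟩ := IsCofiltered.nonempty (C := I)
    haveI : Nonempty I := ⟨i₁⟩
    have hdir : Directed (· ≥ ·) (fun i : I =>
        Filter.comap (Points.map (c.π.app i)) (nhds (Points.map (c.π.app i) x))) := by
      intro i k
      have hle : ∀ {a b : I} (φ : a ⟶ b),
          Filter.comap (Points.map (c.π.app a)) (nhds (Points.map (c.π.app a) x)) ≤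
            Filter.comap (Points.map (c.π.app b)) (nhds (Points.map (c.π.app b) x)) := by
        intro a b φ
        have e : Points.map (c.π.app b) = Points.map (D.map φ) ∘ Points.map (c.π.app a) := by
          funext y
          exact (hcw φ y).symm
        rw [e, ← Filter.comap_comap]
        refine Filter.comap_mono ?_
        have := ((Points.continuous_map (D.map φ)).tendsto (Points.map (c.π.app a) x)).le_comap
        exact this
      exact ⟨IsCofiltered.min i k, hle (IsCofiltered.minToLeft i k), hle (IsCofiltered.minToRight i k)⟩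
    obtain ⟨i, hi⟩ := (Filter.mem_iInf_of_directed hdir A).1 hnhds
    obtain ⟨N, hN, hNA⟩ := Filter.mem_comap.1 hi
    obtain ⟨W, hWN, hWo, hxW⟩ := mem_nhds_iff.1 hN
    obtain ⟨V, hVo, hVc, hxV, hVW⟩ :=
      Groth.Agent.S10179.result ⟨D.obj i, hD i⟩ (Points.map (c.π.app i) x) W hWo hxW
    exact ⟨i, V, hVo, hVc, hxV, (Set.preimage_mono (hVW.trans hWN)).trans hNA⟩
  choose ix Vx hVxo hVxc hxVx hVxA using key
  obtain ⟨t, ht⟩ := hAcomp.elim_nhds_subcover'
    (fun x hx => Points.map (c.π.app (ix x hx)) ⁻¹' Vx x hx)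
    (fun x hx => ((hVxo x hx).preimage (Points.continuous_map _)).mem_nhds (hxVx x hx))
  obtain ⟨i₀, hi₀⟩ := IsCofiltered.inf_objs_exists (t.image (fun x : A => ix x.1 x.2))
  have hφ : ∀ y : {x // x ∈ t}, Nonempty (i₀ ⟶ ix y.1.1 y.1.2) := fun y =>
    hi₀ (Finset.mem_image.2 ⟨y.1, y.2, rfl⟩)
  let φ : ∀ y : {x // x ∈ t}, i₀ ⟶ ix y.1.1 y.1.2 := fun y => (hφ y).some
  obtain ⟨V₀, hV₀⟩ : ∃ V₀ : Set (Points (D.obj i₀)),
      V₀ = ⋃ y ∈ t.attach, Points.map (D.map (φ y)) ⁻¹' Vx y.1.1 y.1.2 := ⟨_, rfl⟩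
  have hV₀o : IsOpen V₀ := by
    rw [hV₀]
    exact isOpen_biUnion fun y _ => (hVxo _ _).preimage (Points.continuous_map _)
  have hV₀c : IsCompact V₀ := by
    rw [hV₀]
    refine Finset.isCompact_biUnion _ fun y _ => ?_
    have hqcm : IsQuasiCompactMor (D.map (φ y)) :=
      Groth.Agent.S9920.result (X := ⟨D.obj i₀, hD i₀⟩) (Y := ⟨D.obj (ix y.1.1 y.1.2), hD _⟩)
        (ObjectProperty.homMk (D.map (φ y))) (hqc i₀) (hqs _)
    exact Groth.Agent.S9913.result (X := ⟨D.obj i₀, hD i₀⟩) (Y := ⟨D.obj (ix y.1.1 y.1.2), hD _⟩)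
      (ObjectProperty.homMk (D.map (φ y))) hqcm _ (hVxo _ _) (hVxc _ _)
  have hpre : Points.map (c.π.app i₀) ⁻¹' V₀ = A := by
    apply Set.Subset.antisymm
    · intro w hw
      rw [hV₀] at hw
      simp only [Set.mem_preimage, Set.mem_iUnion] at hw
      obtain ⟨y, _, hy⟩ := hw
      rw [hcw] at hy
      exact hVxA y.1.1 y.1.2 hy
    · intro w hw
      obtain ⟨x, hxt, hwx⟩ := Set.mem_iUnion₂.1 (ht hw)
      rw [hV₀]
      simp only [Set.mem_preimage, Set.mem_iUnion]
      refine ⟨⟨x, hxt⟩, Finset.mem_attach _ _, ?_⟩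
      rw [hcw]
      exact hwx
  -- the open subspace at level `i₀`
  obtain ⟨Ui, hUi⟩ : ∃ Ui : Sp S, Ui = Groth.Agent.Lib.helper5.OpenSub.sub (D.obj i₀) V₀ := ⟨_, rfl⟩
  obtain ⟨ji, hji⟩ : ∃ ji : Groth.Agent.Lib.helper5.OpenSub.sub (D.obj i₀) V₀ ⟶ D.obj i₀,
      ji = Groth.Agent.Lib.helper5.OpenSub.ι (D.obj i₀) V₀ := ⟨_, rfl⟩
  have hjio : RepWith @IsOpenImmersion ji := by
    rw [hji]; exact Groth.Agent.Lib.helper5.OpenSub.repWith_ι (D.obj i₀) hV₀o
  have hjir : Set.range (Points.map ji) = V₀ := by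
    rw [hji]; exact Groth.Agent.Lib.helper5.OpenSub.range_map_ι (D.obj i₀) V₀
  have sq : IsPullback (pullback.fst (c.π.app i₀) ji) (pullback.snd (c.π.app i₀) ji) (c.π.app i₀) ji :=
    IsPullback.of_hasPullback _ _
  have hfo : RepWith @IsOpenImmersion (pullback.fst (c.π.app i₀) ji) :=
    (AlgSp.repWith_isStableUnderBaseChange (S := S) @IsOpenImmersion).of_isPullback sq.flip hjio
  have hfr : Set.range (Points.map (pullback.fst (c.π.app i₀) ji)) = A := by
    rw [← hpre]
    apply Set.Subset.antisymm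
    · rintro _ ⟨w, rfl⟩
      change Points.map (c.π.app i₀) (Points.map (pullback.fst (c.π.app i₀) ji) w) ∈ V₀
      rw [← Points.map_comp, sq.w, Points.map_comp]
      have hmem : Points.map ji (Points.map (pullback.snd (c.π.app i₀) ji) w) ∈
          Set.range (Points.map ji) := ⟨_, rfl⟩
      rw [hjir] at hmem
      exact hmem
    · intro w hw
      have hw' : Points.map (c.π.app i₀) w ∈ Set.range (Points.map ji) := by rw [hjir]; exact hw
      obtain ⟨z, hz⟩ := hw'
      obtain ⟨v, hv, _⟩ := Groth.Agent.Lib.helper10.exists_point_of_isPullback sq w z hz.symm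
      exact ⟨v, hv⟩
  haveI hjm : Mono j := Groth.Agent.S9928.mono_of_repWith_mono j (Groth.Agent.S10194.repWith_mono
    (fun X Y g hg => by have : IsOpenImmersion g := hg; infer_instance) hj)
  haveI hfm : Mono (pullback.fst (c.π.app i₀) ji) :=
    Groth.Agent.S9928.mono_of_repWith_mono _ (Groth.Agent.S10194.repWith_mono
      (fun X Y g hg => by have : IsOpenImmersion g := hg; infer_instance) hfo)
  obtain ⟨g, hg⟩ := (Groth.Agent.Lib.helper5.OpenSub.factors_iff
    (pullback.fst (c.π.app i₀) ji) hfo j).2 (by rw [hfr, hA])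
  obtain ⟨g', hg'⟩ := (Groth.Agent.Lib.helper5.OpenSub.factors_iff
    j hj (pullback.fst (c.π.app i₀) ji)).2 (by rw [hfr, hA])
  have h1 : g ≫ g' = 𝟙 U := by
    rw [← cancel_mono j, Category.assoc, hg', hg, Category.id_comp]
  have h2 : g' ≫ g = 𝟙 _ := by
    rw [← cancel_mono (pullback.fst (c.π.app i₀) ji), Category.assoc, hg, hg', Category.id_comp]
  refine ⟨i₀, Groth.Agent.Lib.helper5.OpenSub.sub (D.obj i₀) V₀, ji, g ≫ pullback.snd (c.π.app i₀) ji,
    hjio, isQuasiCompactSp_sub (hD i₀) hV₀o hV₀c, ?_⟩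
  refine IsPullback.of_iso sq (⟨g', g, h2, h1⟩ : pullback (c.π.app i₀) ji ≅ U) (Iso.refl _) (Iso.refl _)
    (Iso.refl _) ?_ ?_ ?_ ?_
  · simp only [Iso.refl_hom, Category.comp_id]; exact hg'.symm
  · simp only [Iso.refl_hom, Category.comp_id]
    rw [← Category.assoc, h2, Category.id_comp]
  · simp
  · simp

end Groth.Agent.S10086
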