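import Groth.Statements.S2076
-- import your own Groth.Agent.* helpers here
import Groth.Agent.Lib.Helper9.ClosedImmIntoStage
import Mathlib.CategoryTheory.Limits.Constructions.Over.Connected
import Mathlib.CategoryTheory.Filtered.Connected

set_option autoImplicit false
universe u
open CategoryTheory AlgebraicGeometry
open Lim

namespace Groth.Agent.S2076

/-- Let `X = lim X_i` be a cofiltered limit of quasi-compact schemes over `S` with affine transition
morphisms and `h : Y → X` a closed immersion with `Y → S` locally of finite type. Then `Y → X_i` is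
a closed immersion for some `i`. -/
theorem result {I : Type u} [SmallCategory I] [IsCofiltered I] (S : Scheme.{u})
    (D : I ⥤ Over S) (c : Limits.Cone D) (hc : Limits.IsLimit c)
    [∀ (i j : I) (f : i ⟶ j), IsAffineHom (D.map f).left] [∀ i, CompactSpace (D.obj i).left]
    {Y : Scheme.{u}} (h : Y ⟶ c.pt.left) [IsClosedImmersion h] [LocallyOfFiniteType (h ≫ c.pt.hom)] :
    ∃ i : I, IsClosedImmersion (h ≫ (c.π.app i).left) := by
  have := IsCofiltered.isConnected I
  let D' : I ⥤ Scheme.{u} := D ⋙ Over.forget S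
  let c' : Limits.Cone D' := (Over.forget S).mapCone c
  have hc' : Limits.IsLimit c' := Limits.isLimitOfPreserves (Over.forget S) hc
  have hD' : ∀ {i j : I} (f : i ⟶ j), IsAffineHom (D'.map f) := fun f =>
    (inferInstance : IsAffineHom (D.map f).left)
  have hcomp : ∀ i, CompactSpace (D'.obj i) := fun i =>
    (inferInstance : CompactSpace (D.obj i).left)
  obtain ⟨i₀⟩ := IsCofiltered.nonempty (C := I)
  let h' : Y ⟶ c'.pt := h
  have hh : IsClosedImmersion h' := ‹IsClosedImmersion h›
  have e : (h' ≫ c'.π.app i₀) ≫ (D.obj i₀).hom = h ≫ c.pt.hom := by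
    show (h ≫ (c.π.app i₀).left) ≫ (D.obj i₀).hom = h ≫ c.pt.hom
    rw [Category.assoc, Over.w]
    rfl
  have : LocallyOfFiniteType ((h' ≫ c'.π.app i₀) ≫ (D.obj i₀).hom) := by
    rw [e]
    infer_instance
  have : LocallyOfFiniteType (h' ≫ c'.π.app i₀) :=
    locallyOfFiniteType_of_comp (h' ≫ c'.π.app i₀) (D.obj i₀).hom
  obtain ⟨i, hi⟩ := Groth.Agent.Lib.helper9.exists_isClosedImmersion_comp_π D' c' hc' i₀ h'
  exact ⟨i, hi⟩

end Groth.Agent.S2076
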