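import Groth.Statements.S10009
import Groth.Agent.Lib.Helper5.LimSpC
import Groth.Agent.Lib.Helper5.AlgSpEtFpqc
import Groth.Agent.S2076
import Groth.Agent.S9952
import Groth.Agent.S10534
import Groth.Agent.S10180

set_option autoImplicit false
universe u
open CategoryTheory CategoryTheory.Limits AlgebraicGeometry
open AlgSp

namespace Groth.Agent.S10009

/-- Let `B` be an algebraic space over the scheme `S` and `X` the limit, in fppf sheaves, of a
cofiltered system `(X_i)` of quasi-compact algebraic spaces over `B` whose transition maps are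
affine; let `y : Y ⟶ X` be a closed immersion from an algebraic space `Y` whose structure map to `B`
is locally of finite type. Then, for all `i` mapping to some `i₀`, the composite `Y ⟶ X ⟶ X_i` is a
closed immersion. -/
theorem result (S : Scheme.{u}) {I : Type u} [SmallCategory I] [IsCofiltered I]
    (B : AlgSp.Space S) (D : I ⥤ AlgSp.Sp S) (hD : ∀ i, AlgSp.IsAlgSpace (D.obj i))
    (t : D ⟶ (Functor.const I).obj B.obj)
    (hDa : ∀ (i j : I) (φ : i ⟶ j), AlgSp.IsAffineMor (D.map φ))
    (c : Cone D) (hc : IsLimit c)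
    (hqc : ∀ i, AlgSp.IsQuasiCompactSp (D.obj i))
    (Y : AlgSp.Space S) (y : Y.obj ⟶ c.pt) (hy : AlgSp.RepWith @IsClosedImmersion y) (i₁ : I)
    (hYB : AlgSp.LocP @LocallyOfFiniteType (y ≫ c.π.app i₁ ≫ t.app i₁)) :
    ∃ i₀ : I, ∀ (i : I) (_ : i ⟶ i₀), AlgSp.RepWith @IsClosedImmersion (y ≫ c.π.app i) := by
  classical
  -- an affine chart of `X_{i₁}`
  obtain ⟨V, g, hV, hge, hgs⟩ := (Groth.Agent.S10180.result ⟨D.obj i₁, hD i₁⟩).1 (hqc i₁)
  haveI := hV
  obtain ⟨W, s, f, sq, L, hL, p, hp, sL, fL, hpb, h1, h2, h3, h4, h5, ⟨h6⟩⟩ :=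
    Groth.Agent.Lib.helper5.LimSp.exists_chart_limit D c hc i₁ g hDa
  have hfe : ∀ j, RepWith @Etale (f j) := fun j =>
    (RepWith (S := S) @Etale).of_isPullback (sq j).flip hge
  have hfs : ∀ j, RepWith @Surjective (f j) := fun j =>
    (RepWith (S := S) @Surjective).of_isPullback (sq j).flip hgs
  have hfLe : RepWith @Etale fL := (RepWith (S := S) @Etale).of_isPullback hpb.flip hge
  have hsqj : ∀ j : Over i₁, IsPullback fL ((yon S).map (p j)) (c.π.app j.left) (f j) := by
    intro j
    refine IsPullback.of_bot ?_ (h2 j).symm (sq j)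
    have e1 : (yon S).map (p j) ≫ (yon S).map (s j) = (yon S).map sL := by
      rw [← Functor.map_comp, h1 j]
    have e2 : c.π.app j.left ≫ D.map j.hom = c.π.app i₁ := c.w j.hom
    rw [e1, e2]
    exact hpb
  haveI haffW : ∀ j, IsAffine (W j).left := fun j => by
    haveI := h5 j
    exact isAffine_of_isAffineHom (s j).left
  -- the base change of `y` to the chart of the limit
  obtain ⟨T, snd, fst, sqT⟩ := hy.rep fL
  haveI hsndci : IsClosedImmersion snd.left := hy.property fL fst snd sqT
  have hfste : RepWith @Etale fst := (RepWith (S := S) @Etale).of_isPullback sqT.flip hfLe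
  -- `T ⟶ V` is locally of finite type
  have hcpt : IsAlgSpace c.pt := Groth.Agent.Lib.helper5.LimSp.isAlgSpace_limit D c hD hDa hc
  have hYB' : LocP @LocallyOfFiniteType ((y ≫ c.π.app i₁) ≫ t.app i₁) := by
    rw [Category.assoc]; exact hYB
  have hlft : LocP @LocallyOfFiniteType (y ≫ c.π.app i₁) :=
    Groth.Agent.S9952.result (X := Y) (Y := ⟨D.obj i₁, hD i₁⟩) (Z := B)
      (ObjectProperty.homMk (y ≫ c.π.app i₁)) (ObjectProperty.homMk (t.app i₁)) hYB'
  haveI hklft : LocallyOfFiniteType (snd ≫ sL).left := by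
    refine hlft fst g (snd ≫ sL) hfste hge ?_
    rw [← Category.assoc, sqT.w, Category.assoc, hpb.w, ← Category.assoc, ← Functor.map_comp]
  -- the diagram of schemes over `V`
  let E : Over i₁ ⥤ Scheme.{u} :=
    Groth.Agent.Lib.helper5.LimSp.repDiag D i₁ g W s f sq ⋙ Over.forget S
  let sNat : E ⟶ (Functor.const (Over i₁)).obj V.left :=
    { app := fun j => (s j).left
      naturality := fun j k φ => by
        have := congrArg (fun m => m.left)
          (Groth.Agent.Lib.helper5.LimSp.repDiag_map_s D i₁ g W s f sq φ)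
        simpa [E] using this }
  have hpL : ∀ j, ((Over.forget S).mapCone L).π.app j ≫ sNat.app j = sL.left := by
    intro j
    have := congrArg (fun m => m.left) (h1 j)
    rw [hp j] at this
    exact this
  haveI : Nonempty (Over i₁) := ⟨Over.mk (𝟙 i₁)⟩
  have hlim := Over.isLimitLiftCone E sNat ((Over.forget S).mapCone L) sL.left hpL h6
  haveI : ∀ (i j : Over i₁) (φ : i ⟶ j), IsAffineHom ((Over.lift E sNat).map φ).left :=
    fun i j φ => h4 φ
  haveI : ∀ i, CompactSpace ((Over.lift E sNat).obj i).left := fun i =>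
    inferInstanceAs (CompactSpace (W i).left)
  haveI : @IsClosedImmersion T.left
      (Over.liftCone E sNat ((Over.forget S).mapCone L) sL.left hpL).pt.left snd.left := hsndci
  haveI : @LocallyOfFiniteType T.left V.left
      (@CategoryStruct.comp Scheme.{u} _ T.left
        (Over.liftCone E sNat ((Over.forget S).mapCone L) sL.left hpL).pt.left V.left snd.left
        (Over.liftCone E sNat ((Over.forget S).mapCone L) sL.left hpL).pt.hom) := hklft
  obtain ⟨j, hj⟩ := Groth.Agent.S2076.result V.left (Over.lift E sNat)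
    (Over.liftCone E sNat ((Over.forget S).mapCone L) sL.left hpL) hlim
    (snd.left : T.left ⟶ (Over.liftCone E sNat ((Over.forget S).mapCone L) sL.left hpL).pt.left)
  have hj' : IsClosedImmersion (snd ≫ p j).left := by
    have : (snd ≫ p j).left = snd.left ≫
        ((Over.liftCone E sNat ((Over.forget S).mapCone L) sL.left hpL).π.app j).left := by
      rw [hp j]; rfl
    rw [this]
    exact hj
  refine ⟨j.left, fun i ψ => ?_⟩
  -- the index `j' = (i ⟶ j.left ⟶ i₁)`
  obtain ⟨j', hj'def⟩ : ∃ j' : Over i₁, j' = Over.mk (ψ ≫ j.hom) := ⟨_, rfl⟩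
  subst hj'def
  let φ' : Over.mk (ψ ≫ j.hom) ⟶ j := Over.homMk ψ
  have hci : IsClosedImmersion (snd ≫ p (Over.mk (ψ ≫ j.hom))).left := by
    have e : (snd ≫ p (Over.mk (ψ ≫ j.hom))).left ≫
        ((Groth.Agent.Lib.helper5.LimSp.repDiag D i₁ g W s f sq).map φ').left = (snd ≫ p j).left := by
      have := congrArg (fun m => m.left) (L.w φ')
      rw [← hp, ← hp] at this
      simp only [Over.comp_left, Category.assoc]
      exact congrArg (fun m => snd.left ≫ m) this
    haveI : IsAffineHom ((Groth.Agent.Lib.helper5.LimSp.repDiag D i₁ g W s f sq).map φ').left := h4 φ'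
    haveI : IsClosedImmersion ((snd ≫ p (Over.mk (ψ ≫ j.hom))).left ≫
        ((Groth.Agent.Lib.helper5.LimSp.repDiag D i₁ g W s f sq).map φ').left) := by
      rw [e]; exact hj'
    exact IsClosedImmersion.of_comp _
      ((Groth.Agent.Lib.helper5.LimSp.repDiag D i₁ g W s f sq).map φ').left
  -- descent along the chart of `X_i`
  have sqi : IsPullback fst ((yon S).map (snd ≫ p (Over.mk (ψ ≫ j.hom)))) (y ≫ c.π.app i)
      (f (Over.mk (ψ ≫ j.hom))) := by
    rw [Functor.map_comp]
    exact sqT.paste_vert (hsqj (Over.mk (ψ ≫ j.hom)))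
  have hcov := Groth.Agent.Lib.helper5.EtFpqc.isFpqcCover_of_chart (hD i) (W (Over.mk (ψ ≫ j.hom)))
    (f (Over.mk (ψ ≫ j.hom))) (hfe _) (hfs _)
  exact (Groth.Agent.S10534.result S (ι := PUnit.{u + 1})
    (fun _ => (yon S).obj (W (Over.mk (ψ ≫ j.hom)))) (fun _ => f (Over.mk (ψ ≫ j.hom)))
    (hD i) (fun _ => IsAlgSpace.yon_obj _) hcov (y ≫ c.π.app i) Y.property
    (fun _ => (yon S).obj T) (fun _ => (yon S).map (snd ≫ p (Over.mk (ψ ≫ j.hom))))
    (fun _ => fst) (fun _ => IsAlgSpace.yon_obj T) (fun _ => sqi)).2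
    (fun _ => (repWith_yon_map_iff @IsClosedImmersion _).2 hci)

end Groth.Agent.S10009
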