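import Groth.Statements.S9960
import Groth.Agent.Lib.Helper1.Diagonal
import Groth.Agent.Lib.Helper7.AlgSpQC
import Groth.Agent.Lib.Helper7.AlgSpMono

set_option autoImplicit false
universe u
open CategoryTheory CategoryTheory.Limits AlgebraicGeometry
open AlgSp

namespace Groth.Agent.S9960

variable {S : Scheme.{u}}

theorem lfp_of_comp {X Y Z : Scheme.{u}} {f : X ⟶ Y} {g : Y ⟶ Z}
    (h : LocallyOfFinitePresentation (f ≫ g)) (hg : LocallyOfFiniteType g) :
    LocallyOfFinitePresentation f := by
  wlog hZ : IsAffine Z generalizing X Y Z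
  · rw [IsZariskiLocalAtTarget.iff_of_iSup_eq_top (P := @LocallyOfFinitePresentation) _
      (g.iSup_preimage_eq_top (iSup_affineOpens_eq_top Z))]
    intro U
    have H := IsZariskiLocalAtTarget.restrict h U.1
    rw [morphismRestrict_comp] at H
    exact this H (IsZariskiLocalAtTarget.restrict hg U.1) inferInstance
  wlog hY : IsAffine Y generalizing X Y
  · rw [IsZariskiLocalAtTarget.iff_of_iSup_eq_top (P := @LocallyOfFinitePresentation) _
      (iSup_affineOpens_eq_top Y)]
    intro U
    have H := HasRingHomProperty.comp_of_isOpenImmersion @LocallyOfFinitePresentation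
      (f ⁻¹ᵁ U.1).ι (f ≫ g) h
    rw [← morphismRestrict_ι_assoc] at H
    exact this H (HasRingHomProperty.comp_of_isOpenImmersion @LocallyOfFiniteType U.1.ι g hg)
      inferInstance
  wlog hX : IsAffine X generalizing X
  · rw [IsZariskiLocalAtSource.iff_of_iSup_eq_top (P := @LocallyOfFinitePresentation) _
      (iSup_affineOpens_eq_top X)]
    intro U
    have H := HasRingHomProperty.comp_of_isOpenImmersion @LocallyOfFinitePresentation
      U.1.ι (f ≫ g) h
    rw [← Category.assoc] at H
    exact this H inferInstance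
  rw [HasRingHomProperty.iff_of_isAffine (P := @LocallyOfFinitePresentation)] at h ⊢
  rw [HasRingHomProperty.iff_of_isAffine (P := @LocallyOfFiniteType)] at hg
  rw [Scheme.Hom.comp_appTop] at h
  exact RingHom.FinitePresentation.of_comp_finiteType _ h hg

/-- Cancellation with an auxiliary property of the second morphism. -/
theorem locP_of_comp' {P Q : MorphismProperty Scheme.{u}}
    (hESD : ∀ {X' X Y : Scheme.{u}} (f : X' ⟶ X) (g : X ⟶ Y), Etale f → Surjective f →
      P (f ≫ g) → P g)
    (hpost : ∀ {X Y Z : Scheme.{u}} (f : X ⟶ Y) (g : Y ⟶ Z), P f → Etale g → P (f ≫ g))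
    (hcancel : ∀ {X Y Z : Scheme.{u}} (f : X ⟶ Y) (g : Y ⟶ Z), P (f ≫ g) → Q g → P f)
    {F G H : Sp S} (hH : IsAlgSpace H) (f : F ⟶ G) (g : G ⟶ H)
    (hfg : LocP P (f ≫ g)) (hg : LocP Q g) : LocP P f := by
  intro U V a b h ha hb hsq
  obtain ⟨W, c, hce, hcs⟩ := hH.atlas
  -- V' = V ×_H W
  obtain ⟨V', p, q'', sqV⟩ := hce.1 (b ≫ g)
  obtain ⟨q, rfl⟩ := (yon S).map_surjective q''
  have hp : Etale p.left := hce.2 _ _ _ sqV
  have hps : Surjective p.left := hcs.2 _ _ _ sqV
  have hQq : Q q.left := by
    refine hg ((yon S).map p ≫ b) c q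
      ((RepWith (S := S) @Etale).comp_mem _ _ ((repWith_yon_map_iff @Etale _).2 hp) hb) hce ?_
    rw [Category.assoc, sqV.w]
  -- U' = U ×_V V'
  have sqU : IsPullback (pullback.fst h p) (pullback.snd h p) h p := IsPullback.of_hasPullback h p
  have sqU' := sqU.map (Over.forget S)
  have he : Etale (pullback.fst h p).left := MorphismProperty.of_isPullback (P := @Etale) sqU'.flip hp
  have hes : Surjective (pullback.fst h p).left :=
    MorphismProperty.of_isPullback (P := @Surjective) sqU'.flip hps
  have hP1 : P (pullback.snd h p ≫ q).left := by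
    refine hfg ((yon S).map (pullback.fst h p) ≫ a) c (pullback.snd h p ≫ q)
      ((RepWith (S := S) @Etale).comp_mem _ _ ((repWith_yon_map_iff @Etale _).2 he) ha) hce ?_
    rw [Category.assoc, reassoc_of% hsq, ← Functor.map_comp_assoc, sqU.w, Functor.map_comp,
      Functor.map_comp, Category.assoc, Category.assoc, sqV.w]
  have hP2 : P (pullback.snd h p).left :=
    hcancel _ q.left (by rw [← Over.comp_left]; exact hP1) hQq
  have hP3 : P ((pullback.fst h p).left ≫ h.left) := by
    rw [← Over.comp_left, sqU.w, Over.comp_left]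
    exact hpost _ _ hP2 hp
  exact hESD _ _ he hes hP3

theorem locP_lfp_diagonal {F G : Sp S} (hF : IsAlgSpace F) (hG : IsAlgSpace G) (f : F ⟶ G)
    (hf : LocP @LocallyOfFiniteType f) :
    LocP @LocallyOfFinitePresentation (pullback.diagonal f) := by
  have hP := Groth.Agent.Lib.helper5.LocPBC.locPData_lfp.{u}
  have hPull : IsAlgSpace (pullback f f) :=
    Groth.Agent.Lib.helper5.isAlgSpace_of_isPullback hG.diag hF hF (IsPullback.of_hasPullback f f)
  have hfst : LocP @LocallyOfFiniteType (pullback.fst f f) :=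
    Groth.Agent.Lib.helper5.LocPBC.locP_of_isPullback Groth.Agent.Lib.helper5.LocPBC.locPData_lft
      hF hG hF (IsPullback.of_hasPullback f f).flip hf
  refine locP_of_comp' (P := @LocallyOfFinitePresentation) (Q := @LocallyOfFiniteType)
    (fun f g he hs h => hP.descend f g he hs h) (fun f g hf hg => hP.post f g hf hg)
    (fun f g h hg => lfp_of_comp h hg) hF (pullback.diagonal f) (pullback.fst f f) ?_ hfst
  rw [pullback.diagonal_fst]
  exact Groth.Agent.H1.Diagonal.locP_id_of_etale (fun f hf => by have := hf; infer_instance) F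

theorem main {X Y : AlgSp.Space S} (f : X ⟶ Y)
    (hf : AlgSp.LocP @LocallyOfFiniteType f.hom) :
    AlgSp.LocP @LocallyOfFinitePresentation (pullback.diagonal f.hom) ∧
    (AlgSp.IsQuasiSeparatedMor f.hom → AlgSp.IsFinitePresentationMor (pullback.diagonal f.hom)) := by
  have h1 := locP_lfp_diagonal X.property Y.property f.hom hf
  refine ⟨h1, fun hqs => ⟨h1, ?_, ?_⟩⟩
  · exact Groth.Agent.Lib.helper7.AlgSpQC.isQuasiCompactMor_of_repWith hqs
  · exact Groth.Agent.Lib.helper7.repWith_diagonal_of_mono @QuasiCompact (pullback.diagonal f.hom)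

/-- The diagonal of a morphism locally of finite type is locally of finite presentation, and of finite
presentation when the morphism is also quasi-separated. -/
theorem result {S : Scheme.{u}} {X Y : AlgSp.Space S} (f : X ⟶ Y)
    (hf : AlgSp.LocP @LocallyOfFiniteType f.hom) :
    AlgSp.LocP @LocallyOfFinitePresentation (pullback.diagonal f.hom) ∧
    (AlgSp.IsQuasiSeparatedMor f.hom → AlgSp.IsFinitePresentationMor (pullback.diagonal f.hom)) := by
  exact main f hf

end Groth.Agent.S9960
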