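import Groth.Statements.S10022
import Groth.Agent.Lib.Helper5.LimDescG
import Groth.Agent.Lib.Helper5.LimSpB
import Groth.Agent.Lib.Helper1.MonoSp
import Groth.Agent.S9192
import Groth.Agent.S10261
import Groth.Agent.S10266
import Groth.Agent.S10194

set_option autoImplicit false
universe u
open CategoryTheory CategoryTheory.Limits AlgebraicGeometry
open AlgSp

namespace Groth.Agent.S10022

/-- Let `S` be a quasi-separated scheme and `B` the limit, in fppf sheaves over `S`, of a cofiltered
system `(B_i)` of algebraic spaces over `S` whose transition maps are affine; fix an index `i₀` such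
that `B_{i₀}` is quasi-compact and quasi-separated over `S`, and a morphism `f₀ : X₀ ⟶ Y₀` of
algebraic spaces over `B_{i₀}` whose source and target are quasi-compact and quasi-separated over
`S`. Write `f_i` (for `i` mapping to `i₀`) and `f` for the base changes of `f₀` to `B_i` and to `B`,
given by pullback squares. If `f` is a monomorphism and `f₀` locally of finite type, then for some
`i` mapping to `i₀` every such base change `f_i` is a monomorphism. (The published statement allows
any base scheme and uses absolute quasi-separatedness; this row assumes the base quasi-separated,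
over which quasi-separatedness relative to the base is the absolute notion.) -/
theorem result (S : Scheme.{u}) [QuasiSeparatedSpace S] {I : Type u} [SmallCategory I] [IsCofiltered I]
    (D : I ⥤ AlgSp.Sp S) (hD : ∀ i, AlgSp.IsAlgSpace (D.obj i))
    (hDa : ∀ (i j : I) (φ : i ⟶ j), AlgSp.IsAffineMor (D.map φ))
    (c : Cone D) (hc : IsLimit c) (i₀ : I)
    (hBqc : AlgSp.IsQuasiCompactSp (D.obj i₀)) (hBqs : AlgSp.IsQuasiSeparatedSp (D.obj i₀))
    (X₀ Y₀ : AlgSp.Space S) (f₀ : X₀.obj ⟶ Y₀.obj) (b₀ : Y₀.obj ⟶ D.obj i₀)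
    (hXqc : AlgSp.IsQuasiCompactSp X₀.obj) (hXqs : AlgSp.IsQuasiSeparatedSp X₀.obj)
    (hYqc : AlgSp.IsQuasiCompactSp Y₀.obj) (hYqs : AlgSp.IsQuasiSeparatedSp Y₀.obj)
    (X Y : AlgSp.Sp S) (f : X ⟶ Y) (pY : Y ⟶ Y₀.obj) (qY : Y ⟶ c.pt)
    (hY : IsPullback pY qY b₀ (c.π.app i₀)) (pX : X ⟶ X₀.obj) (hX : IsPullback pX f f₀ pY)
    [Mono f] (hf₀ : AlgSp.LocP @LocallyOfFiniteType f₀) :
    ∃ (i : I) (φ : i ⟶ i₀), ∀ (Xi Yi : AlgSp.Sp S) (fi : Xi ⟶ Yi) (pYi : Yi ⟶ Y₀.obj) (qYi : Yi ⟶ D.obj i)
      (_ : IsPullback pYi qYi b₀ (D.map φ)) (pXi : Xi ⟶ X₀.obj) (_ : IsPullback pXi fi f₀ pYi),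
      Mono fi := by
  have hdescE : Groth.Agent.Lib.helper5.LimDesc.SchDescent @Etale :=
    Groth.Agent.Lib.helper5.LimDesc.schDescent_of_general @Etale
      (fun E cE hcE _ j₀ _ _ _ _ f₀ g₀ _ _ _ _ _ _ _ f g qY qX hY hX hf => by
        haveI : Etale f := hf
        exact Groth.Agent.S9192.result E cE hcE j₀ f₀ g₀ f g qY qX hY hX)
  have hdesc : Groth.Agent.Lib.helper5.LimDesc.SchDescent (@Etale ⊓ @Surjective) :=
    Groth.Agent.Lib.helper5.LimDesc.SchDescent.inf hdescE
      Groth.Agent.Lib.helper5.LimDesc.schDescent_surjective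
  haveI hΔiso : IsIso (pullback.diagonal f) := (pullback.isIso_diagonal_iff f).2 inferInstance
  obtain ⟨i, φ, h⟩ := Groth.Agent.Lib.helper5.LimDesc.descend_diag_charts D hDa c hc i₀ X₀ Y₀ f₀ b₀
    hXqc hXqs hYqs hf₀ X Y f pY qY hY pX hX (@Etale ⊓ @Surjective) hdesc
    (fun a b u comm hae _ hbe _ _ hls =>
      ⟨Groth.Agent.Lib.helper5.AlgSpWhereIso.locP_etale_of_isIso (pullback.diagonal f) a b u hae hbe comm,
        Groth.Agent.Lib.helper5.LimDesc.surjective_chart_of_isSurjectiveMor _
          (Groth.Agent.Lib.helper5.AlgSpWhereIso.isSurjectiveMor_of_isIso (pullback.diagonal f))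
          a b u comm hls⟩)
  refine ⟨i, φ, fun Xi Yi fi pYi qYi hYi pXi hXi => ?_⟩
  have hg := h Xi Yi fi pYi qYi hYi pXi hXi
  have hYi' : IsAlgSpace Yi :=
    Groth.Agent.Lib.helper5.isAlgSpace_of_isPullback (hD i₀).diag Y₀.property (hD i) hYi
  have hXi' : IsAlgSpace Xi :=
    Groth.Agent.Lib.helper5.isAlgSpace_of_isPullback Y₀.property.diag X₀.property hYi' hXi
  have hZi : IsAlgSpace (pullback fi fi) :=
    Groth.Agent.Lib.helper5.isAlgSpace_of_isPullback hYi'.diag hXi' hXi'
      (IsPullback.of_hasPullback fi fi)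
  have hloc : LocP @Etale (pullback.diagonal fi) :=
    Groth.Agent.Lib.helper5.LimDesc.locP_of_goodChart
      Groth.Agent.Lib.helper5.LocPBC.locPData_etale _
      (Groth.Agent.Lib.helper5.LimDesc.goodChart_mono inf_le_left hg)
  have hsurj : IsSurjectiveMor (pullback.diagonal fi) :=
    Groth.Agent.Lib.helper5.LimDesc.isSurjectiveMor_of_goodChart
      (Groth.Agent.Lib.helper5.LimDesc.goodChart_mono inf_le_right hg)
  have het : IsEtaleMor (pullback.diagonal fi) :=
    Groth.Agent.S10266.isEtaleMor_of_locP_etale hZi _ hloc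
  have hinj : IsUnivInjectiveMor (pullback.diagonal fi) :=
    Groth.Agent.H1.MonoSp.isUnivInjectiveMor_of_mono _
  have hoi : RepWith @IsOpenImmersion (pullback.diagonal fi) :=
    Groth.Agent.S10261.result (X := ⟨Xi, hXi'⟩) (Y := ⟨pullback fi fi, hZi⟩)
      (ObjectProperty.homMk (pullback.diagonal fi)) het hinj
  haveI : IsIso (pullback.diagonal fi) :=
    Groth.Agent.S10194.isIso_of_openImmersion_of_surjective _ hoi hsurj
  exact (pullback.isIso_diagonal_iff fi).1 inferInstance

end Groth.Agent.S10022
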