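import Groth.Statements.S2154
-- import your own Groth.Agent.* helpers here
import Groth.Agent.Lib.Helper9.FiniteStructure
import Mathlib.CategoryTheory.Limits.Constructions.Over.Connected
import Mathlib.CategoryTheory.Filtered.Connected

set_option autoImplicit false
universe u
open CategoryTheory AlgebraicGeometry
open Lim

namespace Groth.Agent.S2154

/-- Let `S` be quasi-compact and quasi-separated and `X = lim X_i` a cofiltered limit of quasi-compact
quasi-separated `S`-schemes locally of finite type over `S`, with finite transition morphisms. If `X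
→ S` is integral then `X_i → S` is finite for all `i` beyond some index. -/
theorem result {I : Type u} [SmallCategory I] [IsCofiltered I] (S : Scheme.{u}) [CompactSpace S]
    [QuasiSeparatedSpace S] (D : I ⥤ Over S) (c : Limits.Cone D) (hc : Limits.IsLimit c)
    [∀ (i j : I) (f : i ⟶ j), IsFinite (D.map f).left] [∀ i, CompactSpace (D.obj i).left]
    [∀ i, QuasiSeparatedSpace (D.obj i).left] [∀ i, LocallyOfFiniteType (D.obj i).hom] [IsIntegralHom c.pt.hom] :
    ∃ i₀ : I, ∀ (i : I) (_ : i ⟶ i₀), IsFinite (D.obj i).hom := by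
  have := IsCofiltered.isConnected I
  let D' : I ⥤ Scheme.{u} := D ⋙ Over.forget S
  let c' : Limits.Cone D' := (Over.forget S).mapCone c
  have hc' : Limits.IsLimit c' := Limits.isLimitOfPreserves (Over.forget S) hc
  have hD' : ∀ (i j : I) (f : i ⟶ j), IsFinite (D'.map f) := fun _ _ f =>
    (inferInstance : IsFinite (D.map f).left)
  have hcomp : ∀ i, CompactSpace (D'.obj i) := fun i =>
    (inferInstance : CompactSpace (D.obj i).left)
  have hqs : ∀ i, QuasiSeparatedSpace (D'.obj i) := fun i =>
    (inferInstance : QuasiSeparatedSpace (D.obj i).left)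
  let t : D' ⟶ (Functor.const I).obj S :=
    { app := fun i => (D.obj i).hom
      naturality := by
        intro i j f
        show (D.map f).left ≫ (D.obj j).hom = (D.obj i).hom ≫ 𝟙 S
        rw [Over.w, Category.comp_id] }
  have hlft : ∀ i, LocallyOfFiniteType (t.app i) := fun i =>
    (inferInstance : LocallyOfFiniteType (D.obj i).hom)
  obtain ⟨i₀⟩ := IsCofiltered.nonempty (C := I)
  have e : c'.π.app i₀ ≫ t.app i₀ = c.pt.hom := by
    show (c.π.app i₀).left ≫ (D.obj i₀).hom = c.pt.hom
    exact Over.w (c.π.app i₀)
  have : IsIntegralHom (c'.π.app i₀ ≫ t.app i₀) := by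
    rw [e]
    exact ‹IsIntegralHom c.pt.hom›
  obtain ⟨i₁, hi₁⟩ := Groth.Agent.Lib.helper9.exists_forall_isFinite_structure S D' t c' hc' i₀
  exact ⟨i₁, fun i a => hi₁ i a⟩

end Groth.Agent.S2154
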