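import Groth.Statements.S14480
import Groth.Agent.Lib.Helper5.FibreDimGE
import Groth.Agent.Lib.Helper5.DimClosureImage
import Groth.Agent.Lib.Helper5.DimSupLocalDim
import Groth.Agent.Lib.Helper3.IrredDim
import Groth.Agent.Lib.Helper3.FTFieldClosureDim

set_option autoImplicit false
universe u
open CategoryTheory AlgebraicGeometry
open CharCyc

namespace Groth.Agent.S14480

/-- Let k be a field, let π : C → X be a morphism between k-schemes of finite type, and let n be a
natural number. For j ≥ 0 let B_j ⊆ X be the set of points x whose fibre π⁻¹(x) has dimension at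
least j (so B_0 is the image of π). Then dim C ≤ n if and only if, for every j, the closure of B_j
in X has dimension at most n − j. Dimensions are topological Krull dimensions with the empty space
of dimension ⊥, and the inequality is written additively as dim cl(B_j) + j ≤ n. -/
theorem result (k : Type u) [Field k] (C X : Scheme.{u})
    (q : X ⟶ Spec (CommRingCat.of k)) (π : C ⟶ X)
    [LocallyOfFiniteType q] [CompactSpace X] [LocallyOfFiniteType π] [CompactSpace C] (n : ℕ) :
    topologicalKrullDim C ≤ n ↔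
      ∀ j : ℕ, topologicalKrullDim (closure {x : X | (j : WithBot ℕ∞) ≤ topologicalKrullDim (π.fiber x)}) +
        (j : WithBot ℕ∞) ≤ n := by
  classical
  -- structures over `k`
  letI : X.Over (Spec (CommRingCat.of k)) := ⟨q⟩
  haveI : LocallyOfFiniteType (X ↘ Spec (CommRingCat.of k)) :=
    inferInstanceAs (LocallyOfFiniteType q)
  letI : C.Over (Spec (CommRingCat.of k)) := ⟨π ≫ q⟩
  haveI : LocallyOfFiniteType (C ↘ Spec (CommRingCat.of k)) :=
    inferInstanceAs (LocallyOfFiniteType (π ≫ q))
  haveI : IsLocallyNoetherian C :=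
    Groth.Agent.Lib.helper3.IrredDim.isLocallyNoetherian_of_lft k C
  haveI : IsNoetherian C := {}
  -- transcendence degrees add up
  have hadd : ∀ c : C, ∀ a : ℕ,
      Groth.Agent.Lib.helper3.DimIneq.td (π.residueFieldMap c).hom = (a : Cardinal.{u}) →
      ∃ d : ℕ, @Algebra.trdeg k (X.residueField (π c)) _ _ (Curv2.resAlgebra k X (π c)) = d ∧
        @Algebra.trdeg k (C.residueField c) _ _ (Curv2.resAlgebra k C c) = ((d + a : ℕ) : Cardinal.{u}) := by
    intro c a ha
    obtain ⟨d, hd⟩ := Groth.Agent.Lib.helper3.FTField.exists_nat_trdeg_residueField k X (π c)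
    refine ⟨d, hd, ?_⟩
    have h1 := Groth.Agent.Lib.helper3.IrredDim.trdeg_residueField_add k (π ≫ q) q π rfl c
    rw [ha] at h1
    change Groth.Agent.Lib.helper3.DimIneq.td (@Curv2.resMap k _ C ⟨π ≫ q⟩ c) = _
    rw [h1]
    have h2 : Groth.Agent.Lib.helper3.DimIneq.td (@Curv2.resMap k _ X ⟨q⟩ (π c)) = (d : Cardinal.{u}) := hd
    rw [h2]
    push_cast
    rfl
  constructor
  · -- dim C ≤ n ⇒ bounds on the closures
    intro hC j
    set N : WithBot ℕ∞ := if j ≤ n then ((n - j : ℕ) : WithBot ℕ∞) else ⊥ with hN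
    have hN1 : ∀ a : WithBot ℕ∞, a ≤ N → a + (j : WithBot ℕ∞) ≤ (n : WithBot ℕ∞) := by
      intro a ha
      by_cases hjn : j ≤ n
      · rw [hN, if_pos hjn] at ha
        calc a + (j : WithBot ℕ∞) ≤ ((n - j : ℕ) : WithBot ℕ∞) + (j : WithBot ℕ∞) := by gcongr
          _ = (n : WithBot ℕ∞) := by
            have : n - j + j = n := by omega
            exact_mod_cast this
      · rw [hN, if_neg hjn] at ha
        rw [le_bot_iff.mp ha, WithBot.bot_add]
        exact bot_le
    have hN2 : ∀ d : ℕ, d + j ≤ n → (d : WithBot ℕ∞) ≤ N := by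
      intro d hd
      have hjn : j ≤ n := by omega
      rw [hN, if_pos hjn]
      have : d ≤ n - j := by omega
      exact_mod_cast this
    apply hN1
    have hB : {x : X | (j : WithBot ℕ∞) ≤ topologicalKrullDim (π.fiber x)} =
        π '' {c : C | (j : WithBot ℕ∞) ≤ FlatMor.fibreDimAt π c} := by
      ext x
      simp only [Set.mem_ofPred_eq, Set.mem_image]
      rw [Groth.Agent.Lib.helper5.FibreDimGE.le_dim_fiber_iff π x j]
      constructor
      · rintro ⟨c, hc, hj⟩
        exact ⟨c, hj, hc⟩
      · rintro ⟨c, hj, hc⟩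
        exact ⟨c, hc, hj⟩
    rw [hB]
    refine Groth.Agent.Lib.helper5.DimClosure.dim_closure_image_le (fun c : C => π c)
      π.continuous _ (Groth.Agent.Lib.helper5.FibreDimGE.isClosed_setOf_le_fibreDimAt π j) N ?_
    intro ε hε
    have hx : (j : WithBot ℕ∞) ≤ topologicalKrullDim (π.fiber (π ε)) :=
      (Groth.Agent.Lib.helper5.FibreDimGE.le_dim_fiber_iff π (π ε) j).2 ⟨ε, rfl, hε⟩
    obtain ⟨c, a, hc, ha, hja⟩ :=
      Groth.Agent.Lib.helper5.FibreDimGE.exists_td_ge_of_le_dim_fiber π (π ε) j hx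
    obtain ⟨d, hd, hda⟩ := hadd c a ha
    have h1 := Groth.Agent.Lib.helper3.FTField.dim_closure_eq_trdeg k C c (d + a) hda
    have h2 : topologicalKrullDim ↥(closure ({c} : Set C)) ≤ topologicalKrullDim C :=
      topologicalKrullDim_subspace_le C _
    have h3 : ((d + a : ℕ) : WithBot ℕ∞) ≤ (n : WithBot ℕ∞) := by
      rw [← h1]
      exact le_trans h2 hC
    have h4 : d + a ≤ n := by exact_mod_cast h3
    have h5 := Groth.Agent.Lib.helper3.FTField.dim_closure_eq_trdeg k X (π c) d hd
    rw [hc] at h5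
    rw [h5]
    exact hN2 d (by omega)
  · -- bounds on the closures ⇒ dim C ≤ n
    intro H
    rw [Groth.Agent.Lib.helper5.FieldBC.dim_eq_iSup_localDim]
    refine iSup_le fun c => ?_
    obtain ⟨ζ, m, hm, hloc⟩ := Groth.Agent.Lib.helper5.FibreDimGE.exists_trdeg_eq_localDim k C c
    rw [hloc]
    obtain ⟨a, b, ha, -, -⟩ := Groth.Agent.Lib.helper3.DimFibre.fibreDimAt_eq_add π ζ
    obtain ⟨d, hd, hda⟩ := hadd ζ a ha
    have hmda : m = d + a := by
      have : (m : Cardinal.{u}) = ((d + a : ℕ) : Cardinal.{u}) := hm.symm.trans hda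
      exact_mod_cast this
    have h1 := Groth.Agent.Lib.helper5.FibreDimGE.le_dim_fiber_of_td π ζ a ha
    have h2 : closure ({π ζ} : Set X) ⊆
        closure {x : X | (a : WithBot ℕ∞) ≤ topologicalKrullDim (π.fiber x)} :=
      closure_mono (by
        rintro _ rfl
        exact h1)
    have h3 := Groth.Agent.Lib.helper3.TopDim.dim_mono h2
    rw [Groth.Agent.Lib.helper3.FTField.dim_closure_eq_trdeg k X (π ζ) d hd] at h3
    have h4 := H a
    have h5 : ((d : ℕ) : WithBot ℕ∞) + (a : WithBot ℕ∞) ≤ (n : WithBot ℕ∞) :=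
      le_trans (by gcongr) h4
    rw [hmda]
    exact_mod_cast h5

end Groth.Agent.S14480
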