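import Groth.Statements.S10342
import Groth.Agent.S10341
import Groth.Agent.S10265
import Groth.Agent.Lib.Helper11.AlgSpBasic

set_option autoImplicit false
universe u
open CategoryTheory CategoryTheory.Limits AlgebraicGeometry Topology TopologicalSpace
open AlgSp

namespace Groth.Agent.S10342

open Groth.Agent.Lib.helper11

/-- Topological core with a height function. -/
theorem eq_of_specializes_of_height {R U : Type*} [TopologicalSpace R] [TopologicalSpace U]
    (s t : R → U) (hs : GeneralizingMap s) (ht : Continuous t)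
    (htd : ∀ w, IsDiscrete (t ⁻¹' {w})) (Φ : Set U)
    (htrans : ∀ u₁ ∈ Φ, ∀ u₂ ∈ Φ, ∃ r, t r = u₁ ∧ s r = u₂) (hstab : ∀ r, s r ∈ Φ → t r ∈ Φ)
    (h : U → ℕ) (hh : ∀ v v' : U, v' ⤳ v → v' ≠ v → h v' < h v)
    (u u' : U) (hu : u ∈ Φ) (hu' : u' ∈ Φ) (hsp : u' ⤳ u) : u = u' := by
  by_contra hne
  have key : ∀ n : ℕ, ∀ v ∈ Φ, ∀ v' ∈ Φ, v' ⤳ v → v' ≠ v → h v' = n → False := by
    intro n
    induction n using Nat.strong_induction_on with
    | _ n ih =>
      intro v hv v' hv' hvv hne hn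
      obtain ⟨r, hrt, hrs⟩ := htrans v' hv' v hv
      obtain ⟨r', hr'r, hr's⟩ := hs (hrs ▸ hvv : v' ⤳ s r)
      have h1 : t r' ⤳ t r := hr'r.map ht
      rw [hrt] at h1
      have h2 : t r' ∈ Φ := hstab r' (hr's ▸ hv')
      by_cases h3 : t r' = v'
      · obtain ⟨N, hNo, hN⟩ := (isDiscrete_iff_forall_mem_exists_isOpen.1 (htd v')) r hrt
        have hrN : r ∈ N := by
          have : r ∈ N ∩ t ⁻¹' {v'} := by rw [hN]; rfl
          exact this.1
        have hr'N : r' ∈ N := hr'r.mem_open hNo hrN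
        have : r' ∈ N ∩ t ⁻¹' {v'} := ⟨hr'N, h3⟩
        rw [hN] at this
        have hrr : r' = r := this
        exact hne (by rw [← hr's, hrr, hrs])
      · exact ih (h (t r')) (hn ▸ hh _ _ h1 h3) v' hv' (t r') h2 h1 h3 rfl
  exact key _ u hu u' hu' hsp (Ne.symm hne) rfl

/-- Height function on a prime spectrum of a Noetherian ring. -/
theorem height_lt {A : Type u} [CommRing A] [IsNoetherianRing A] (p p' : PrimeSpectrum A)
    (hpp : p' ⤳ p) (hne : p' ≠ p) : p'.asIdeal.height.toNat < p.asIdeal.height.toNat := by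
  have h2 : p' ≤ p := (PrimeSpectrum.le_iff_specializes _ _).2 hpp
  have h4 : p'.asIdeal < p.asIdeal := lt_of_le_of_ne h2 (fun he => hne (PrimeSpectrum.ext he))
  have h5 := Ideal.height_strict_mono_of_isPrime h4
  have h6 : p.asIdeal.height ≠ ⊤ := Ideal.height_ne_top p.isPrime.ne_top
  have h7 : p'.asIdeal.height ≠ ⊤ := Ideal.height_ne_top p'.isPrime.ne_top
  have := h5
  rw [← ENat.natCast_toNat h6, ← ENat.natCast_toNat h7] at this
  exact_mod_cast this

/-- Height function on an affine Noetherian scheme. -/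
theorem exists_height (X : Scheme.{u}) [IsAffine X] [IsNoetherianRing Γ(X, ⊤)] :
    ∃ h : X → ℕ, ∀ v v' : X, v' ⤳ v → v' ≠ v → h v' < h v := by
  refine ⟨fun v => (X.isoSpec.hom v : PrimeSpectrum Γ(X, ⊤)).asIdeal.height.toNat, ?_⟩
  intro v v' hvv hne
  have h1 : X.isoSpec.hom v' ⤳ X.isoSpec.hom v := hvv.map X.isoSpec.hom.continuous
  have h3 : (X.isoSpec.hom v' : PrimeSpectrum Γ(X, ⊤)) ≠ X.isoSpec.hom v := by
    intro he
    apply hne
    have := congrArg (fun z => X.isoSpec.inv z) he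
    simpa using this
  exact height_lt _ _ h1 h3

variable {S : Scheme.{u}}

/-- Affine Noetherian chart. -/
theorem main_affine {F : Sp S} {U : Over S} (a : (yon S).obj U ⟶ F)
    (ha : RepWith @Etale a) [IsAffine U.left] [IsNoetherianRing Γ(U.left, ⊤)] (u u' : ↥U.left)
    (he : Points.ofPt a u = Points.ofPt a u') (hs : u' ⤳ u) : u = u' := by
  obtain ⟨R, s, t', sq⟩ := ha.1 a
  have hse : Etale s.left := ha.2 _ _ _ sq
  obtain ⟨t, rfl⟩ := (yon S).map_surjective t'
  have hte : Etale t.left := ha.2 _ _ _ sq.flip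
  have hlqf : LocallyQuasiFinite t.left := Groth.Agent.S10265.lqf_of_etale t.left
  obtain ⟨h, hh⟩ := exists_height U.left
  refine eq_of_specializes_of_height (fun r => s.left r) (fun r => t.left r)
    (Flat.generalizingMap s.left) t.left.continuous
    (fun w => Scheme.Hom.isDiscrete_preimage_singleton t.left w)
    (Points.ofPt a ⁻¹' {Points.ofPt a u}) ?_ ?_ h hh u u' rfl he.symm hs
  · intro u₁ h₁ u₂ h₂
    exact exists_of_isPullback_schemes sq u₁ u₂ (h₁.trans h₂.symm)
  · intro r hr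
    have := ofPt_comm sq.w r
    exact this.trans hr

/-- Locally Noetherian chart. -/
theorem main_locNoeth {F : Sp S} {U : Over S} (a : (yon S).obj U ⟶ F)
    (ha : RepWith @Etale a) [IsLocallyNoetherian U.left] (u u' : ↥U.left)
    (he : Points.ofPt a u = Points.ofPt a u') (hs : u' ⤳ u) : u = u' := by
  obtain ⟨Z, hZ, huZ, -⟩ := exists_isAffineOpen_mem_and_subset (x := u) (U := ⊤) trivial
  have hu'Z : u' ∈ Z := hs.mem_open Z.isOpen huZ
  obtain ⟨hae, hpt⟩ := chart_comp a ha Z.ι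
  let U₀ : Over S := Over.mk (Z.ι ≫ U.hom)
  have hZa : IsAffine U₀.left := hZ
  have hZa' : IsAffine (Z : Scheme.{u}) := hZ
  have hN : IsNoetherianRing Γ(U₀.left, ⊤) :=
    (inferInstance : IsLocallyNoetherian (Z : Scheme.{u})).component_noetherian
      ⟨⊤, isAffineOpen_top _⟩
  have hs0 : (⟨u', hu'Z⟩ : ↥U₀.left) ⤳ (⟨u, huZ⟩ : ↥U₀.left) := by
    have hind : Topology.IsInducing (Z.ι : ↥(Z : Scheme.{u}) → ↥U.left) :=
      Z.ι.isEmbedding.toIsInducing
    exact hind.specializes_iff.1 hs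
  have := main_affine (U := U₀) _ hae (⟨u, huZ⟩ : ↥U₀.left) ⟨u', hu'Z⟩
    (by rw [hpt, hpt]; exact he) hs0
  exact congrArg (fun z : ↥U₀.left => Z.ι z) this

theorem main (X : AlgSp.Space S)
    (hX : AlgSp.IsLocNoethSp X.obj) {U : Over S} (a : (AlgSp.yon S).obj U ⟶ X.obj)
    (ha : AlgSp.RepWith @Etale a)
    (u u' : ↥U.left) (he : AlgSp.Points.ofPt a u = AlgSp.Points.ofPt a u') (hs : u' ⤳ u) :
    u = u' := by
  obtain ⟨W, b, hbe, hbs, hWN⟩ := hX
  obtain ⟨R, s, t', sq⟩ := ha.1 b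
  obtain ⟨t, rfl⟩ := (yon S).map_surjective t'
  have hse : Etale s.left := ha.2 _ _ _ sq
  have hte : Etale t.left := hbe.2 _ _ _ sq.flip
  have hts : Surjective t.left := hbs.2 _ _ _ sq.flip
  have : IsLocallyNoetherian W.left := hWN
  have hRN : IsLocallyNoetherian R.left := LocallyOfFiniteType.isLocallyNoetherian s.left
  obtain ⟨r, hr⟩ := hts.surj u
  obtain ⟨r', hr'r, hr'u⟩ := (Flat.generalizingMap t.left) (hr ▸ hs : u' ⤳ t.left r)
  obtain ⟨hce, hpt⟩ := chart_comp a ha t.left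
  let R₀ : Over S := Over.mk (t.left ≫ U.hom)
  have hR₀ : IsLocallyNoetherian R₀.left := hRN
  have := main_locNoeth (U := R₀) _ hce r r' (by rw [hpt, hpt, hr, hr'u]; exact he) hr'r
  rw [← hr, ← hr'u, this]

/-- Let X be a locally Noetherian algebraic space over a scheme S and a : h_U ⟶ X a representable etale
map from a scheme U. If two points u, u' of U have the same image in |X| and u' specializes to u,
then u = u'. -/
theorem result {S : Scheme.{u}} (X : AlgSp.Space S)
    (hX : AlgSp.IsLocNoethSp X.obj) {U : Over S} (a : (AlgSp.yon S).obj U ⟶ X.obj) (ha : AlgSp.RepWith @Etale a)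
    (u u' : ↥U.left) (he : AlgSp.Points.ofPt a u = AlgSp.Points.ofPt a u') (hs : u' ⤳ u) : u = u' := by
  exact main X hX a ha u u' he hs

end Groth.Agent.S10342
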