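import Groth.Statements.S10415
import Groth.Agent.S10373
import Groth.Agent.S10342
import Groth.Agent.S9929
import Groth.Agent.Lib.Helper5.AlgSpEpi
import Groth.Agent.Lib.Helper5.AlgSpFibreProduct

set_option autoImplicit false
universe u
open CategoryTheory CategoryTheory.Limits AlgebraicGeometry Topology TopologicalSpace
open AlgSp

namespace Groth.Agent.S10415

open Groth.Agent.S10373

/-- The image of `Spec B ⟶ Spec A`, `A` Noetherian, is finite as soon as it consists of points pairwise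
unrelated by specialization. -/
theorem finite_range_of_noetherian {A B : CommRingCat.{u}} [IsNoetherianRing A] (φ : A ⟶ B)
    (hsp : ∀ P P' : Spec B, Spec.map φ P' ⤳ Spec.map φ P → Spec.map φ P = Spec.map φ P') :
    (Set.range (Spec.map φ)).Finite := by
  have hfin := Ideal.finite_minimalPrimes_of_isNoetherianRing A (RingHom.ker φ.hom)
  have hinj : Function.Injective (fun q : Spec A => (q : PrimeSpectrum A).asIdeal) :=
    fun q q' h => PrimeSpectrum.ext h
  refine (hfin.preimage hinj.injOn).subset ?_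
  rintro _ ⟨P, rfl⟩
  show (Spec.map φ P : PrimeSpectrum A).asIdeal ∈ (RingHom.ker φ.hom).minimalPrimes
  have hle : RingHom.ker φ.hom ≤ (Spec.map φ P : PrimeSpectrum A).asIdeal := by
    intro a ha
    show φ.hom a ∈ (P : PrimeSpectrum B).asIdeal
    rw [RingHom.mem_ker.1 ha]
    exact Ideal.zero_mem _
  have : (Spec.map φ P : PrimeSpectrum A).asIdeal.IsPrime := (Spec.map φ P : PrimeSpectrum A).isPrime
  obtain ⟨p, hp, hpq⟩ := Ideal.exists_minimalPrimes_le hle
  have hp' : p ∈ ((⊥ : Ideal B).comap φ.hom).minimalPrimes := hp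
  obtain ⟨p', hp'min, hp'eq⟩ := Ideal.exists_minimalPrimes_comap_eq φ.hom p hp'
  have hp'prime : p'.IsPrime := Ideal.IsMinimalPrime.isPrime hp'min
  let P' : Spec B := (⟨p', hp'prime⟩ : PrimeSpectrum B)
  have hP' : (Spec.map φ P' : PrimeSpectrum A).asIdeal = p := hp'eq
  have hspec : Spec.map φ P' ⤳ Spec.map φ P := by
    refine (PrimeSpectrum.le_iff_specializes (Spec.map φ P' : PrimeSpectrum A)
      (Spec.map φ P : PrimeSpectrum A)).1 ?_
    show (Spec.map φ P' : PrimeSpectrum A).asIdeal ≤ (Spec.map φ P : PrimeSpectrum A).asIdeal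
    rw [hP']
    exact hpq
  rw [hsp P P' hspec, hP']
  exact hp

/-- Local factorization through a residue field given local constancy. -/
theorem exists_local_factor_of_locally_constant {U V : Scheme.{u}} (ψ : V ⟶ U) [IsReduced V]
    (v : V) (N : U.Opens) (huN : ψ v ∈ N) (hN : ∀ v' : V, ψ v' ∈ N → ψ v' = ψ v) :
    ∃ (V₀ : V.Opens) (_ : v ∈ V₀) (K : Type u) (_ : Field K) (ρ : Spec (CommRingCat.of K) ⟶ U)
      (θ : (V₀ : Scheme.{u}) ⟶ Spec (CommRingCat.of K)), θ ≫ ρ = V₀.ι ≫ ψ := by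
  obtain ⟨U₀, hU₀, huU₀, hU₀N⟩ := exists_isAffineOpen_mem_and_subset (x := ψ v) (U := N) huN
  obtain ⟨V₀, hV₀, hvV₀, hV₀U₀⟩ :=
    exists_isAffineOpen_mem_and_subset (x := v) (U := ψ ⁻¹ᵁ U₀) huU₀
  let φ := ψ.appLE U₀ V₀ hV₀U₀
  let q : Spec Γ(U, U₀) := hU₀.primeIdealOf ⟨ψ v, huU₀⟩
  have hq : hU₀.fromSpec q = ψ v := hU₀.fromSpec_primeIdealOf ⟨ψ v, huU₀⟩
  have hcomm := IsAffineOpen.SpecMap_appLE_fromSpec ψ hU₀ hV₀ hV₀U₀
  have hP : ∀ P : Spec Γ(V, V₀), Spec.map φ P = q := by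
    intro P
    apply hU₀.fromSpec.injective
    have h1 : hU₀.fromSpec (Spec.map φ P) = ψ (hV₀.fromSpec P) := by
      rw [← Scheme.Hom.comp_apply, hcomm, Scheme.Hom.comp_apply]
    have h2 : hV₀.fromSpec P ∈ (V₀ : Set V) := by
      rw [← hV₀.range_fromSpec]; exact ⟨P, rfl⟩
    have h3 : ψ (hV₀.fromSpec P) ∈ N := hU₀N (hV₀U₀ h2)
    rw [h1, hN _ h3, hq]
  obtain ⟨θ, hθ⟩ := exists_lift_residueField φ q hP
  refine ⟨V₀, hvV₀, (Spec Γ(U, U₀)).residueField q, inferInstance,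
    (Spec Γ(U, U₀)).fromSpecResidueField q ≫ hU₀.fromSpec, hV₀.isoSpec.hom ≫ θ, ?_⟩
  rw [Category.assoc, reassoc_of% hθ, hcomm, hV₀.isoSpec_hom_fromSpec_assoc]

/-- Local factorization through a residue field for a morphism from a reduced scheme to a locally
Noetherian scheme whose image consists of points pairwise unrelated by specialization. -/
theorem exists_local_factor_of_noetherian {U V : Scheme.{u}} (ψ : V ⟶ U) [IsReduced V]
    [IsLocallyNoetherian U] (Φ : Set U) (hsp : ∀ u ∈ Φ, ∀ w ∈ Φ, w ⤳ u → u = w)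
    (hψ : ∀ v : V, ψ v ∈ Φ) (v : V) :
    ∃ (V₁ : Scheme.{u}) (ι₁ : V₁ ⟶ V) (_ : IsOpenImmersion ι₁) (_ : v ∈ Set.range ι₁) (K : Type u)
      (_ : Field K) (ρ : Spec (CommRingCat.of K) ⟶ U) (θ : V₁ ⟶ Spec (CommRingCat.of K)),
      θ ≫ ρ = ι₁ ≫ ψ := by
  obtain ⟨U₀, hU₀, huU₀, -⟩ := exists_isAffineOpen_mem_and_subset (x := ψ v) (U := ⊤) trivial
  obtain ⟨V₀, hV₀, hvV₀, hV₀U₀⟩ :=
    exists_isAffineOpen_mem_and_subset (x := v) (U := ψ ⁻¹ᵁ U₀) huU₀
  have hA : IsNoetherianRing Γ(U, U₀) := IsLocallyNoetherian.component_noetherian ⟨U₀, hU₀⟩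
  let φ := ψ.appLE U₀ V₀ hV₀U₀
  have hcomm := IsAffineOpen.SpecMap_appLE_fromSpec ψ hU₀ hV₀ hV₀U₀
  have hpt : ∀ P : Spec Γ(V, V₀), hU₀.fromSpec (Spec.map φ P) = ψ (hV₀.fromSpec P) := by
    intro P
    rw [← Scheme.Hom.comp_apply, hcomm, Scheme.Hom.comp_apply]
  have hfin : (Set.range (Spec.map φ)).Finite := by
    apply finite_range_of_noetherian
    intro P P' h
    apply hU₀.fromSpec.injective
    have h' : hU₀.fromSpec (Spec.map φ P') ⤳ hU₀.fromSpec (Spec.map φ P) :=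
      h.map hU₀.fromSpec.continuous
    rw [hpt, hpt] at h' ⊢
    exact hsp _ (hψ _) _ (hψ _) h'
  -- the image of `V₀` in `U` is finite
  have himg : (ψ '' (V₀ : Set V)).Finite := by
    refine (hfin.image hU₀.fromSpec).subset ?_
    rintro _ ⟨v', hv', rfl⟩
    rw [← hV₀.range_fromSpec] at hv'
    obtain ⟨P, rfl⟩ := hv'
    exact ⟨Spec.map φ P, ⟨P, rfl⟩, hpt P⟩
  obtain ⟨N, huN, hN⟩ := exists_open_separating (ψ '' (V₀ : Set V)) ⊤
    (himg.subset Set.inter_subset_left)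
    (fun u hu w hw h => hsp u (by obtain ⟨a, -, rfl⟩ := hu; exact hψ a) w
      (by obtain ⟨a, -, rfl⟩ := hw; exact hψ a) h)
    (ψ v) ⟨v, hvV₀, rfl⟩ trivial
  obtain ⟨V₁, hvV₁, K, hK, ρ, θ, hθ⟩ := exists_local_factor_of_locally_constant (V₀.ι ≫ ψ)
    (⟨v, hvV₀⟩ : V₀) N huN (fun v' hv' => hN _ ⟨v'.1, v'.2, rfl⟩ hv')
  refine ⟨V₁, V₁.ι ≫ V₀.ι, inferInstance, ⟨⟨⟨v, hvV₀⟩, hvV₁⟩, rfl⟩, K, hK, ρ, θ, ?_⟩
  rw [hθ, Category.assoc]


variable {S : Scheme.{u}}

open Groth.Agent.Lib.helper11 Groth.Agent.Lib.helper5.Epi in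
theorem main {Y X Z : AlgSp.Space S} (f : Y ⟶ X)
    (x : AlgSp.Points X.obj) (hf : ∀ y : AlgSp.Points Y.obj, AlgSp.Points.map f.hom y = x)
    (hY : AlgSp.EtaleLocally (fun U => IsReduced U) Y.obj)
    (hX : AlgSp.IsLocNoethSp X.obj) (i : Z ⟶ X) [Mono i.hom]
    (hi : Set.range (AlgSp.Points.map i.hom) = {x}) :
    ∃ g : Y ⟶ Z, g ≫ i = f := by
  obtain ⟨V, b, hbe, hbs, hVR⟩ := hY
  have hVR' : IsReduced V.left := hVR
  have hX' := hX
  obtain ⟨U, a, hae, has, hUN⟩ := hX'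
  have hUN' : IsLocallyNoetherian U.left := hUN
  -- refine the chart of `Y` so that it maps to `U`
  obtain ⟨V', snd, fst, sq⟩ := hae.rep (b ≫ f.hom)
  obtain ⟨ψ, rfl⟩ := (yon S).map_surjective fst
  have hsnd_et : Etale snd.left := hae.property _ _ snd sq
  have hsnd_surj : Surjective snd.left := has.property _ _ snd sq
  have hV'R : IsReduced V'.left := Groth.Agent.H1.EtaleReduced.isReduced_of_etale snd.left
  have hb'e : RepWith @Etale ((yon S).map snd ≫ b) :=
    (repWith_isMultiplicative (S := S) @Etale).comp_mem _ _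
      ((repWith_yon_map_iff @Etale snd).2 hsnd_et) hbe
  have hb's : RepWith @Surjective ((yon S).map snd ≫ b) :=
    (repWith_isMultiplicative (S := S) @Surjective).comp_mem _ _
      ((repWith_yon_map_iff @Surjective snd).2 hsnd_surj) hbs
  have hsq : ((yon S).map snd ≫ b) ≫ f.hom = (yon S).map ψ ≫ a := by
    rw [Category.assoc]; exact sq.w.symm
  have hls : Sheaf.IsLocallySurjective ((yon S).map snd ≫ b) :=
    Groth.Agent.S9885.result S _ _ _
      (Groth.Agent.S10194.repWith_mono (fun _ _ f hf => by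
        have : Etale f := hf
        exact inferInstanceAs (Flat f)) hb'e)
      (Groth.Agent.S10194.repWith_mono (fun _ _ f hf => by
        have : Etale f := hf
        exact inferInstanceAs (LocallyOfFinitePresentation f)) hb'e) hb's
  -- the fibre over `x`
  let Φ : Set ↥U.left := Points.ofPt a ⁻¹' {x}
  have hψΦ : ∀ v : ↥V'.left, ψ.left v ∈ Φ := by
    intro v
    show Points.ofPt a (ψ.left v) = x
    rw [← ofPt_yon_map_comp, ← hsq, ← Points.map_ofPt]
    exact hf _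
  have hsp : ∀ u ∈ Φ, ∀ w ∈ Φ, w ⤳ u → u = w := fun u hu w hw h =>
    Groth.Agent.S10342.main X hX a hae u w (hu.trans hw.symm) h
  obtain ⟨z, hz⟩ : ∃ z : Points Z.obj, Points.map i.hom z = x := by
    have : x ∈ Set.range (Points.map i.hom) := by rw [hi]; rfl
    exact this
  -- the projection from the fibre product is an isomorphism
  have sqP : IsPullback (pullback.fst f.hom i.hom) (pullback.snd f.hom i.hom) f.hom i.hom :=
    IsPullback.of_hasPullback _ _
  have hm1 : Mono (pullback.fst f.hom i.hom) := inferInstance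
  have hiso : IsIso (pullback.fst f.hom i.hom) := by
    apply isIso_of_mono_of_liftSieve
    intro T η
    refine liftSieve_mem_of_charts (pullback.fst f.hom i.hom) ((yon S).map snd ≫ b) hls ?_ T η
    intro v
    obtain ⟨V₁, ι₁, hι₁, hv, K, hK, ρ, θ, hθ⟩ :=
      exists_local_factor_of_noetherian ψ.left Φ hsp hψΦ v
    let Vk : Over S := Over.mk (ι₁ ≫ V'.hom)
    let jk : Vk ⟶ V' := Over.homMk ι₁ rfl
    let ptK : Over S := Over.mk (ρ ≫ U.hom)
    let ρ' : ptK ⟶ U := Over.homMk ρ rfl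
    let θ' : Vk ⟶ ptK := Over.homMk θ (by
      show θ ≫ ρ ≫ U.hom = ι₁ ≫ V'.hom
      rw [reassoc_of% hθ, Over.w ψ])
    have hθ' : θ' ≫ ρ' = jk ≫ ψ := Over.OverMorphism.ext hθ
    -- the point `ρ` lies over `x`
    obtain ⟨v₁, hv₁⟩ := hv
    let s0 : ↥ptK.left := θ v₁
    have hρΦ : Points.ofPt a (ρ s0) = x := by
      have : ρ s0 = ψ.left (ι₁ v₁) := by
        show ρ (θ v₁) = _
        rw [← Scheme.Hom.comp_apply, hθ, Scheme.Hom.comp_apply]
      rw [this]
      exact hψΦ _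
    -- lift of the point to `Z`
    have sqW : IsPullback (pullback.fst ((yon S).map ρ' ≫ a) i.hom)
        (pullback.snd ((yon S).map ρ' ≫ a) i.hom) ((yon S).map ρ' ≫ a) i.hom :=
      IsPullback.of_hasPullback _ _
    have hW : IsAlgSpace (pullback ((yon S).map ρ' ≫ a) i.hom) :=
      Groth.Agent.Lib.helper5.isAlgSpace_of_isPullback X.property.diag (IsAlgSpace.yon_obj _)
        Z.property sqW
    let W : AlgSp.Space S := ⟨pullback ((yon S).map ρ' ≫ a) i.hom, hW⟩
    let gW : W ⟶ (AlgSp.ofScheme S).obj (Over.mk (ρ ≫ U.hom)) :=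
      ObjectProperty.homMk (pullback.fst ((yon S).map ρ' ≫ a) i.hom)
    have hgm : Mono gW.hom := inferInstanceAs (Mono (pullback.fst ((yon S).map ρ' ≫ a) i.hom))
    have hWiso : IsIso (pullback.fst ((yon S).map ρ' ≫ a) i.hom) := by
      rcases Groth.Agent.S9929.result (ρ ≫ U.hom) W gW with hE | hI
      · exfalso
        have hxz : Points.map ((yon S).map ρ' ≫ a) (Points.ofScheme ptK s0) = Points.map i.hom z := by
          rw [← Points.ofPt_eq_map_ofScheme, ofPt_yon_map_comp, hz]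
          exact hρΦ
        obtain ⟨w, -, -⟩ := Groth.Agent.Lib.helper10.exists_point_of_isPullback sqW _ z hxz
        exact hE.false w
      · exact inferInstanceAs (IsIso ((ObjectProperty.ι (IsAlgSpace (S := S))).map gW))
    obtain ⟨σ, hσ⟩ : ∃ σ : (yon S).obj ptK ⟶ Z.obj, σ ≫ i.hom = (yon S).map ρ' ≫ a :=
      ⟨inv (pullback.fst ((yon S).map ρ' ≫ a) i.hom) ≫ pullback.snd ((yon S).map ρ' ≫ a) i.hom, by
        rw [Category.assoc, ← sqW.w, IsIso.inv_hom_id_assoc]⟩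
    have hl : ((yon S).map jk ≫ (yon S).map snd ≫ b) ≫ f.hom = ((yon S).map θ' ≫ σ) ≫ i.hom := by
      calc ((yon S).map jk ≫ (yon S).map snd ≫ b) ≫ f.hom
          = (yon S).map jk ≫ ((yon S).map snd ≫ b) ≫ f.hom := by simp only [Category.assoc]
        _ = (yon S).map jk ≫ (yon S).map ψ ≫ a := by rw [hsq]
        _ = (yon S).map (jk ≫ ψ) ≫ a := by rw [Functor.map_comp, Category.assoc]
        _ = (yon S).map (θ' ≫ ρ') ≫ a := by rw [hθ']
        _ = (yon S).map θ' ≫ (yon S).map ρ' ≫ a := by rw [Functor.map_comp, Category.assoc]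
        _ = (yon S).map θ' ≫ σ ≫ i.hom := by rw [hσ]
        _ = ((yon S).map θ' ≫ σ) ≫ i.hom := (Category.assoc _ _ _).symm
    obtain ⟨xk, hxk1, -⟩ := sqP.exists_lift ((yon S).map jk ≫ (yon S).map snd ≫ b)
      ((yon S).map θ' ≫ σ) hl
    refine ⟨Vk, jk, hι₁, ⟨v₁, hv₁⟩, fun T w => ?_⟩
    have hmem : (liftSieve (pullback.fst f.hom i.hom)
        ((yon S).map (w ≫ jk) ≫ (yon S).map snd ≫ b)).arrows (𝟙 T) := by
      refine ⟨(yon S).map w ≫ xk, ?_⟩
      rw [Category.assoc, hxk1, Functor.map_comp, Category.assoc]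
      erw [(yon S).map_id T]
      rw [Category.id_comp]
    rw [(Sieve.id_mem_iff_eq_top).1 hmem]
    exact (AlgSp.J S).top_mem T
  refine ⟨ObjectProperty.homMk (inv (pullback.fst f.hom i.hom) ≫ pullback.snd f.hom i.hom), ?_⟩
  apply ObjectProperty.hom_ext
  show (inv (pullback.fst f.hom i.hom) ≫ pullback.snd f.hom i.hom) ≫ i.hom = f.hom
  rw [Category.assoc, ← sqP.w, IsIso.inv_hom_id_assoc]

/-- Let S be a scheme, Y and X algebraic spaces over S with Y reduced and X locally Noetherian, and f :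
Y ⟶ X a morphism with |f|(|Y|) ⊆ {x}. Then f factors through Z_x ⟶ X, where Z_x denotes the residual
space of X at the point x. -/
theorem result {S : Scheme.{u}} {Y X Z : AlgSp.Space S} (f : Y ⟶ X)
    (x : AlgSp.Points X.obj) (hf : ∀ y : AlgSp.Points Y.obj, AlgSp.Points.map f.hom y = x) (hY : AlgSp.EtaleLocally (fun U => IsReduced U) Y.obj)
    (hX : AlgSp.IsLocNoethSp X.obj) (i : Z ⟶ X) [Mono i.hom] (hi : Set.range (AlgSp.Points.map i.hom) = {x})
    (hZ : ∃ (k : Type u) (_ : Field k) (str : Spec (CommRingCat.of k) ⟶ S) (p : (AlgSp.yon S).obj (Over.mk str) ⟶ Z.obj),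
        AlgSp.LocP @LocallyOfFinitePresentation p ∧ AlgSp.LocP @Flat p ∧ AlgSp.IsSurjectiveMor p) :
    ∃ g : Y ⟶ Z, g ≫ i = f := by
  exact main f x hf hY hX i hi

end Groth.Agent.S10415
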