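import Groth.Statements.S3844
import Groth.Agent.Lib.Helper16.IdealDescent

set_option autoImplicit false
universe u
open CategoryTheory CategoryTheory.Limits AlgebraicGeometry TopologicalSpace
open Rat20

namespace Groth.Agent.S3844


open Groth.Agent.Lib.helper16.IdealDescent

lemma ι_image_preimage {X : Scheme.{u}} (V W : X.Opens) : V.ι ''ᵁ V.ι ⁻¹ᵁ W = W ⊓ V := by
  rw [Scheme.Hom.image_preimage_eq_opensRange_inf, Scheme.Opens.opensRange_ι, inf_comm]

lemma injective_map_iff {X : Scheme.{u}} (V W : X.Opens) :
    Function.Injective (V.ι.app W) ↔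
      Function.Injective (X.presheaf.map (homOfLE (inf_le_left : W ⊓ V ≤ W)).op) := by
  rw [Scheme.Opens.ι_app]
  have key : ∀ (A : X.Opens) (hA : A = W ⊓ V) (h : A ≤ W),
      Function.Injective (X.presheaf.map (homOfLE h).op) ↔
        Function.Injective (X.presheaf.map (homOfLE (inf_le_left : W ⊓ V ≤ W)).op) := by
    rintro A rfl h
    rfl
  exact key _ (ι_image_preimage V W) _

theorem dominant_of_dense {X : Scheme.{u}} (V : X.Opens) (hV : CInt.IsSchematicallyDense V) :
    IsSchemeTheoreticallyDominant V.ι := by
  rw [isSchemeTheoreticallyDominant_iff]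
  refine ker_eq_bot_of_injective_on_cover V.ι (fun U : X.affineOpens => U)
    (iSup_affineOpens_eq_top X) (fun W => ?_)
  rw [injective_map_iff]
  exact hV W.1

theorem dense_of_dominant {X : Scheme.{u}} (V : X.Opens) [QuasiCompact V.ι]
    [IsSchemeTheoreticallyDominant V.ι] : CInt.IsSchematicallyDense V := by
  intro W
  rw [← injective_map_iff]
  exact Scheme.Hom.app_injective V.ι W

/-- For the open subset U = X: let f : X' → X be flat with X locally Noetherian. Then for every
schematically dense open subset V of X, the preimage f⁻¹(V) is schematically dense in X'. -/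
theorem result {X X' : Scheme.{u}} (f : X' ⟶ X) [Flat f]
    [IsLocallyNoetherian X] (V : X.Opens) (hV : CInt.IsSchematicallyDense V) :
    CInt.IsSchematicallyDense (f ⁻¹ᵁ V) := by
  haveI : QuasiCompact V.ι := inferInstance
  haveI := dominant_of_dense V hV
  have hpb : IsPullback (f ∣_ V) (f ⁻¹ᵁ V).ι V.ι f := isPullback_morphismRestrict f V
  haveI : QuasiCompact (f ⁻¹ᵁ V).ι :=
    MorphismProperty.of_isPullback (P := @QuasiCompact) hpb inferInstance
  haveI : IsSchemeTheoreticallyDominant (f ⁻¹ᵁ V).ι :=
    IsSchemeTheoreticallyDominant.of_isPullback hpb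
  exact dense_of_dominant _

end Groth.Agent.S3844
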