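import Groth.Statements.S10264
import Groth.Agent.Lib.Helper7.AlgSpCharts
import Mathlib.AlgebraicGeometry.Morphisms.FormallyUnramified
import Mathlib.AlgebraicGeometry.Morphisms.Etale

set_option autoImplicit false
universe u
open CategoryTheory CategoryTheory.Limits AlgebraicGeometry
open AlgSp

namespace Groth.Agent.S10264

/-- An immersion of algebraic spaces is unramified. -/
theorem result {S : Scheme.{u}} {X Y : AlgSp.Space S} (i : X ⟶ Y)
    (hi : AlgSp.RepWith @IsImmersion i.hom) :
    AlgSp.LocP (@LocallyOfFiniteType ⊓ @FormallyUnramified) i.hom := by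
  intro U V a b h ha hb comm
  obtain ⟨φ, hφ, -, het⟩ :=
    Groth.Agent.Lib.helper7.exists_factor_of_charts_etale hi.rep a b h ha hb comm
  have hj : IsImmersion (hi.rep.snd b).left := hi.property_snd b
  have : h.left = φ.left ≫ (hi.rep.snd b).left := by rw [← Over.comp_left, hφ]
  rw [this]
  constructor
  · change LocallyOfFiniteType _
    infer_instance
  · change FormallyUnramified _
    have h1 : FormallyUnramified φ.left := inferInstance
    have h2 : FormallyUnramified (hi.rep.snd b).left := inferInstance
    exact MorphismProperty.comp_mem _ _ _ h1 h2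

end Groth.Agent.S10264
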