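import Groth.Statements.S10614
import Groth.Agent.S10613
import Groth.Agent.S9922
import Groth.Agent.S10194
import Groth.Agent.Lib.Helper1.SevenProps
import Groth.Agent.Lib.Helper18.AlgSp
import Mathlib.AlgebraicGeometry.ZariskisMainTheorem

set_option autoImplicit false
universe u
open CategoryTheory CategoryTheory.Limits AlgebraicGeometry
open AlgSp

namespace Groth.Agent.S10614

open Groth.Agent.H1.MonoSp Groth.Agent.Lib.helper5.LocPBC

theorem core {S : Scheme.{u}} {X Y : AlgSp.Space S} (f : X ⟶ Y) :
    AlgSp.RepWith @IsClosedImmersion f.hom ↔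
      (AlgSp.IsUnivClosedMor f.hom ∧ AlgSp.LocP @LocallyOfFiniteType f.hom ∧ Mono f.hom) := by
  constructor
  · intro h
    refine ⟨Groth.Agent.Lib.helper18.isUnivClosedMor_of_repWith_isClosedImmersion _ h, ?_, ?_⟩
    · refine (Groth.Agent.H1.Seven.locP_iff_repWith locPData_lft X.property Y.property f.hom h.1).2 ?_
      exact Groth.Agent.S10194.repWith_mono (fun _ _ g hg => by
        have : IsClosedImmersion g := hg
        exact (inferInstance : LocallyOfFiniteType g)) h
    · exact Groth.Agent.Lib.helper7.mono_of_repWith (P := @IsClosedImmersion) (fun _ _ g hg => by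
        have : IsClosedImmersion g := hg
        exact (inferInstance : Mono g)) h
  · rintro ⟨hc, hl, hm⟩
    have hrep : AlgSp.Representable f.hom := by
      intro T ξ
      obtain ⟨I, j, k, sq, -, -⟩ := exists_rep_of_mono_lft X.property Y.property f.hom hl ξ
      exact ⟨I, j, k, sq⟩
    have huc : AlgSp.RepWith @UniversallyClosed f.hom := (Groth.Agent.S9922.result f hrep).2 hc
    have hlft : AlgSp.RepWith @LocallyOfFiniteType f.hom :=
      (Groth.Agent.H1.Seven.locP_iff_repWith locPData_lft X.property Y.property f.hom hrep).1 hl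
    refine ⟨hrep, fun U V g fst snd sq => ?_⟩
    have h1 : UniversallyClosed snd.left := huc.2 _ _ _ sq
    have h2 : LocallyOfFiniteType snd.left := hlft.2 _ _ _ sq
    have h3 : Mono ((yon S).map snd) := sq.mono_snd_of_mono
    have h4 : Mono snd := (yon S).mono_of_mono_map h3
    have h5 : Mono snd.left := inferInstance
    have h6 : IsProper snd.left := {}
    exact (IsClosedImmersion.iff_isProper_and_mono snd.left).2 ⟨h6, h5⟩

theorem main {S : Scheme.{u}} {X Y : AlgSp.Space S} (f : X ⟶ Y) :
    (AlgSp.RepWith @IsClosedImmersion f.hom ↔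
      (AlgSp.IsUnivClosedMor f.hom ∧ AlgSp.LocP (@LocallyOfFiniteType ⊓ @FormallyUnramified) f.hom ∧ Mono f.hom)) ∧
    (AlgSp.RepWith @IsClosedImmersion f.hom ↔
      (AlgSp.IsUnivClosedMor f.hom ∧ AlgSp.LocP (@LocallyOfFiniteType ⊓ @FormallyUnramified) f.hom ∧ AlgSp.IsUnivInjectiveMor f.hom)) ∧
    (AlgSp.RepWith @IsClosedImmersion f.hom ↔
      (AlgSp.IsUnivClosedMor f.hom ∧ AlgSp.LocP @LocallyOfFiniteType f.hom ∧ Mono f.hom)) ∧
    (AlgSp.RepWith @IsClosedImmersion f.hom ↔
      (AlgSp.IsUnivClosedMor f.hom ∧ AlgSp.IsUnivInjectiveMor f.hom ∧ AlgSp.LocP @LocallyOfFiniteType f.hom ∧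
        AlgSp.IsFormallyUnramifiedMor f.hom)) := by
  obtain ⟨p1, p2, p3, -⟩ := Groth.Agent.S10613.result f
  refine ⟨?_, ?_, core f, ?_⟩
  · exact (core f).trans (and_congr Iff.rfl p2.symm)
  · exact (core f).trans (and_congr Iff.rfl (p2.symm.trans p1))
  · exact (core f).trans (and_congr Iff.rfl (p2.symm.trans p3))

/-- For a morphism f : X ⟶ Y of algebraic spaces over S, being a closed immersion (representable by
closed immersions) is equivalent to each of: (a) universally closed plus unramified plus
monomorphism; (b) universally closed plus unramified plus universally injective; (c) a universally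
closed monomorphism that is locally of finite type; (d) universally closed, universally injective,
locally of finite type and formally unramified (lifting sense). (Unramified is the etale-local
condition locally of finite type and formally unramified on charts; monomorphisms are taken in fppf
sheaves.) -/
theorem result {S : Scheme.{u}} {X Y : AlgSp.Space S} (f : X ⟶ Y) :
    (AlgSp.RepWith @IsClosedImmersion f.hom ↔
      (AlgSp.IsUnivClosedMor f.hom ∧ AlgSp.LocP (@LocallyOfFiniteType ⊓ @FormallyUnramified) f.hom ∧ Mono f.hom)) ∧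
    (AlgSp.RepWith @IsClosedImmersion f.hom ↔
      (AlgSp.IsUnivClosedMor f.hom ∧ AlgSp.LocP (@LocallyOfFiniteType ⊓ @FormallyUnramified) f.hom ∧ AlgSp.IsUnivInjectiveMor f.hom)) ∧
    (AlgSp.RepWith @IsClosedImmersion f.hom ↔
      (AlgSp.IsUnivClosedMor f.hom ∧ AlgSp.LocP @LocallyOfFiniteType f.hom ∧ Mono f.hom)) ∧
    (AlgSp.RepWith @IsClosedImmersion f.hom ↔
      (AlgSp.IsUnivClosedMor f.hom ∧ AlgSp.IsUnivInjectiveMor f.hom ∧ AlgSp.LocP @LocallyOfFiniteType f.hom ∧
        AlgSp.IsFormallyUnramifiedMor f.hom)) := by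
  exact main f

end Groth.Agent.S10614
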