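import Groth.Statements.S9931
import Groth.Agent.Lib.Helper1.ZarRep
import Mathlib.AlgebraicGeometry.Morphisms.Immersion

set_option autoImplicit false
universe u
open CategoryTheory CategoryTheory.Limits AlgebraicGeometry
open AlgSp

namespace Groth.Agent.S9931

variable {S : Scheme.{u}}

theorem main (P : MorphismProperty Scheme.{u}) [IsZariskiLocalAtTarget P] {F G : Sp S} (f : F ⟶ G)
    (h : ∀ (Z : Over S), IsAffine Z.left → ∀ (g : (AlgSp.yon S).obj Z ⟶ G) (P₀ : AlgSp.Sp S)
      (fst : P₀ ⟶ F) (snd : P₀ ⟶ (AlgSp.yon S).obj Z), IsPullback fst snd f g → AlgSp.RepWith P snd) :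
    AlgSp.RepWith P f := by
  apply Groth.Agent.H1.ZarRep.repWith_of_affine f P
  intro Z hZ g
  have hrep := h Z hZ g _ _ _ (IsPullback.of_hasPullback f g)
  obtain ⟨W, i, a', sq⟩ := hrep.1 (𝟙 _)
  have hPi : P i.left := hrep.2 _ _ _ sq
  refine ⟨W, i, a' ≫ pullback.fst f g, ?_, hPi⟩
  have h2 := sq.paste_horiz (IsPullback.of_hasPullback f g)
  rwa [Category.id_comp] at h2

/-- (3) ⇒ (1): for P = closed immersion, open immersion or immersion, a morphism of algebraic spaces
whose base change to every affine scheme over the target is representable with P is itself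
representable with P. -/
theorem result {S : Scheme.{u}} (P : MorphismProperty Scheme.{u})
    (hP : P = @IsClosedImmersion ∨ P = @IsOpenImmersion ∨ P = @IsImmersion) {X Y : AlgSp.Space S} (f : X ⟶ Y)
    (h : ∀ (Z : Over S), IsAffine Z.left → ∀ (g : (AlgSp.yon S).obj Z ⟶ Y.obj) (P₀ : AlgSp.Sp S)
      (fst : P₀ ⟶ X.obj) (snd : P₀ ⟶ (AlgSp.yon S).obj Z), IsPullback fst snd f.hom g → AlgSp.RepWith P snd) :
    AlgSp.RepWith P f.hom := by
  rcases hP with rfl | rfl | rfl
  · exact main _ f.hom h
  · exact main _ f.hom h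
  · exact main _ f.hom h

end Groth.Agent.S9931
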