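import Groth.Statements.S10630
import Groth.Agent.Lib.Helper5.AlgSpInf4

set_option autoImplicit false
universe u
open CategoryTheory CategoryTheory.Limits AlgebraicGeometry
open AlgSp

namespace Groth.Agent.S10630

open Groth.Agent.Lib.helper5

/-- (1) ⇔ (3): let h : Z ⟶ X be a morphism of algebraic spaces over S and let i : Z ⟶ Z', h' : Z' ⟶ X be
a first order thickening of Z over X (i ≫ h' = h). Then (i, h') is a universal first order
thickening of Z over X if and only if for every first order thickening j : T ⟶ T' of schemes over S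
with T' affine, every a : T ⟶ Z and b : T' ⟶ X with j ≫ b = a ≫ h, there is exactly one a' : T' ⟶ Z'
with j ≫ a' = a ≫ i and a' ≫ h' = b. -/
theorem result {S : Scheme.{u}} {Z Z' X : AlgSp.Space S} (h : Z ⟶ X) (i : Z ⟶ Z')
    (h' : Z' ⟶ X) (hi : AlgSp.IsFOThickMor i.hom) (w : i ≫ h' = h) :
    AlgSp.IsUnivFOThick h.hom i.hom h'.hom ↔
      ∀ (T T' : Over S) (j : T ⟶ T'), IsAffine T'.left → AlgSp.IsFOThickMor ((AlgSp.yon S).map j) →
        ∀ (a : (AlgSp.yon S).obj T ⟶ Z.obj) (b : (AlgSp.yon S).obj T' ⟶ X.obj),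
          (AlgSp.yon S).map j ≫ b = a ≫ h.hom →
          ∃! a' : (AlgSp.yon S).obj T' ⟶ Z'.obj, (AlgSp.yon S).map j ≫ a' = a ≫ i.hom ∧ a' ≫ h'.hom = b := by
  have w' : i.hom ≫ h'.hom = h.hom := by
    have := congrArg (fun k => k.hom) w
    simpa using this
  constructor
  · intro HU T T' j _ hj a b comm
    exact HU.2.2 (IsAlgSpace.yon_obj T) (IsAlgSpace.yon_obj T') ((AlgSp.yon S).map j) a b hj comm
  · intro AT
    refine ⟨hi, w', fun T T' hT hT' j a b hj comm => ?_⟩
    refine existsUnique_lift' (f := h'.hom) (j := j) (a := a ≫ i.hom) (b := b) ?_ ?_ hj hT'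
    · intro Z W β fst t hZ hβ sq
      obtain ⟨a', ⟨ha1, ha2⟩, -⟩ := AT W Z t hZ (isFOThickMor_of_isPullback hj hβ sq) (fst ≫ a)
        (β ≫ b) (by
          rw [← Category.assoc, ← sq.w, Category.assoc, comm, Category.assoc])
      exact ⟨a', by rw [ha1, Category.assoc], ha2⟩
    · intro D' fst m m' k1 k2 k3
      have hAff : IsAffine D'.ptT'.left := by
        show IsAffine (Spec _)
        infer_instance
      obtain ⟨a', -, hu⟩ := AT D'.ptT D'.ptT' D'.j hAff D'.isFOThickMor (fst ≫ a)
        (m ≫ h'.hom) (by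
          rw [← Category.assoc, k1, Category.assoc, Category.assoc, w', Category.assoc])
      have e1 := hu m ⟨by rw [k1, Category.assoc], rfl⟩
      have e2 := hu m' ⟨by rw [k2, Category.assoc], k3.symm⟩
      rw [e1, e2]

end Groth.Agent.S10630
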