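import Groth.Statements.S10627
import Groth.Agent.Lib.Helper5.AlgSpInf5
import Groth.Agent.S10265
import Groth.Agent.S10266

set_option autoImplicit false
universe u
open CategoryTheory CategoryTheory.Limits AlgebraicGeometry
open AlgSp

namespace Groth.Agent.S10627

open Groth.Agent.Lib.helper5

/-- étale morphisms of algebraic spaces are formally étale -/
theorem isFormallyEtaleMor_of_isEtaleMor {S : Scheme.{u}} {X Y : AlgSp.Sp S} (hX : AlgSp.IsAlgSpace X)
    (f : X ⟶ Y) (hf : AlgSp.IsEtaleMor f) : AlgSp.IsFormallyEtaleMor f := by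
  obtain ⟨U, a, hae, has⟩ := hX.atlas
  exact isFormallyEtaleMor_of_comp_etale_surjective a f hae has
    (isFormallyEtaleMor_of_repWith_etale (hf a hae))


/-- A morphism f : X ⟶ Y of algebraic spaces over S is etale if and only if it is locally of finite
presentation and formally etale (lifting sense). -/
theorem result {S : Scheme.{u}} {X Y : AlgSp.Space S} (f : X ⟶ Y) :
    AlgSp.IsEtaleMor f.hom ↔ AlgSp.LocP @LocallyOfFinitePresentation f.hom ∧ AlgSp.IsFormallyEtaleMor f.hom := by
  constructor
  · intro hf
    refine ⟨Groth.Agent.S10265.locP_mono ?_ (Groth.Agent.S10265.locP_etale_of_isEtaleMor f.hom hf),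
      isFormallyEtaleMor_of_isEtaleMor X.property f.hom hf⟩
    intro A B g (hg : Etale g)
    exact (inferInstance : LocallyOfFinitePresentation g)
  · rintro ⟨hlfp, hfe⟩
    apply Groth.Agent.S10266.isEtaleMor_of_locP_etale Y.property f.hom
    intro U V a b h hae hbe comm
    have h1 : LocallyOfFinitePresentation h.left := hlfp a b h hae hbe comm
    have h2 : MoreMor.IsFormallyEtaleHom h.left := by
      rw [← isFormallyEtaleMor_yon_map_iff, isFormallyEtaleMor_iff, isFormallySmoothMor_iff,
        isFormallyUnramifiedMor_iff]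
      have ha := (isFormallyEtaleMor_iff _).1 (isFormallyEtaleMor_of_repWith_etale hae)
      have hb := (isFormallyEtaleMor_iff _).1 (isFormallyEtaleMor_of_repWith_etale hbe)
      have hf' := (isFormallyEtaleMor_iff _).1 hfe
      have hs : ∀ D : Thk S, LiftExists ((AlgSp.yon S).map D.j) ((AlgSp.yon S).map h ≫ b) := by
        intro D
        rw [← comm]
        exact ((isFormallySmoothMor_iff _).1 ha.1 D).comp ((isFormallySmoothMor_iff _).1 hf'.1 D)
      have hu : ∀ D : Thk S, LiftUniq ((AlgSp.yon S).map D.j) ((AlgSp.yon S).map h ≫ b) := by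
        intro D
        rw [← comm]
        exact ((isFormallyUnramifiedMor_iff _).1 ha.2 D).comp
          ((isFormallyUnramifiedMor_iff _).1 hf'.2 D)
      exact ⟨fun D => (hs D).of_comp ((isFormallyUnramifiedMor_iff _).1 hb.2 D),
        fun D => (hu D).of_comp⟩
    exact (Groth.Agent.S1489.result h.left).2 ⟨h1, h2⟩

end Groth.Agent.S10627
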