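import Groth.Statements.S10632
import Groth.Agent.Lib.Helper5.AlgSpThk
import Groth.Agent.S10627

set_option autoImplicit false
universe u
open CategoryTheory CategoryTheory.Limits AlgebraicGeometry
open AlgSp

namespace Groth.Agent.S10632

open Groth.Agent.Lib.helper5

/-- Base change of a first order thickening of sheaves along an étale morphism of sheaves. -/
theorem isFOThickMor_of_isPullback_isEtaleMor {S : Scheme.{u}} {T T' Z W : Sp S} {j : T ⟶ T'}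
    (hj : IsFOThickMor j) {β : Z ⟶ T'} (hβ : IsEtaleMor β) {fst : W ⟶ T} {t : W ⟶ Z}
    (sq : IsPullback fst t j β) : IsFOThickMor t := by
  refine ⟨(repWith_isStableUnderBaseChange (S := S) thick).of_isPullback sq hj.1, ?_⟩
  intro V₂ W₂ b₂ fst₂ snd₂ hV₂ hb₂ sq₂
  have sq₃ : IsPullback (fst₂ ≫ fst) ((yon S).map snd₂) j (b₂ ≫ β) :=
    (sq₂.flip.paste_vert sq.flip).flip
  exact hj.2 (b₂ ≫ β) (fst₂ ≫ fst) snd₂ hV₂ (hβ b₂ hb₂) sq₃

/-- Let e : Z ⟶ Y be an etale morphism of algebraic spaces over S, hY : Y ⟶ X, and let (iY : Y ⟶ Y', hY'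
: Y' ⟶ X) be a universal first order thickening of Y over X. Let e' : Z' ⟶ Y' be etale with iZ : Z ⟶
Z' making Z = Y ×_{Y'} Z' a pullback square. Then (iZ, e' ≫ hY') is a universal first order
thickening of Z over X. -/
theorem result {S : Scheme.{u}} {Z Y Y' Z' X : AlgSp.Space S} (e : Z ⟶ Y)
    (he : AlgSp.IsEtaleMor e.hom) (hY : Y ⟶ X) (iY : Y ⟶ Y') (hY' : Y' ⟶ X)
    (HU : AlgSp.IsUnivFOThick hY.hom iY.hom hY'.hom) (iZ : Z ⟶ Z') (e' : Z' ⟶ Y') (he' : AlgSp.IsEtaleMor e'.hom)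
    (sq : IsPullback e.hom iZ.hom iY.hom e'.hom) :
    AlgSp.IsUnivFOThick (e ≫ hY).hom iZ.hom (e' ≫ hY').hom := by
  have hZ1 : IsFOThickMor iZ.hom := isFOThickMor_of_isPullback_isEtaleMor HU.1 he' sq
  have hw : iZ.hom ≫ (e' ≫ hY').hom = (e ≫ hY).hom := by
    show iZ.hom ≫ e'.hom ≫ hY'.hom = e.hom ≫ hY.hom
    rw [← Category.assoc, ← sq.w, Category.assoc, HU.2.1]
  have hfe : IsFormallyEtaleMor e'.hom :=
    Groth.Agent.S10627.isFormallyEtaleMor_of_isEtaleMor Z'.property e'.hom he'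
  refine ⟨hZ1, hw, ?_⟩
  intro T T' hT hT' j a b hj hjb
  have hjb' : j ≫ b = (a ≫ e.hom) ≫ hY.hom := by
    rw [hjb]; show a ≫ e.hom ≫ hY.hom = _; rw [Category.assoc]
  obtain ⟨y', ⟨hy1, hy2⟩, hyu⟩ := HU.2.2 hT hT' j (a ≫ e.hom) b hj hjb'
  have w : (a ≫ iZ.hom) ≫ e'.hom = j ≫ y' := by
    rw [hy1, Category.assoc, Category.assoc, sq.w]
  obtain ⟨l, ⟨hl1, hl2⟩, hlu⟩ := existsUnique_lift_of_isFOThickMor hfe hj hT' w
  refine ⟨l, ⟨hl1, ?_⟩, ?_⟩
  · show l ≫ e'.hom ≫ hY'.hom = b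
    rw [← Category.assoc, hl2, hy2]
  · rintro l' ⟨hl'1, hl'2⟩
    have hl'2' : (l' ≫ e'.hom) ≫ hY'.hom = b := by
      rw [Category.assoc]; exact hl'2
    have h1 : l' ≫ e'.hom = y' := by
      apply hyu
      refine ⟨?_, hl'2'⟩
      rw [← Category.assoc, hl'1, Category.assoc, Category.assoc, sq.w]
    exact hlu l' ⟨hl'1, h1⟩

end Groth.Agent.S10632
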