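import Groth.Statements.S10636
import Groth.Agent.Lib.Helper5.AlgSpThk2

set_option autoImplicit false
universe u
open CategoryTheory CategoryTheory.Limits AlgebraicGeometry
open AlgSp

namespace Groth.Agent.S10636

open Groth.Agent.Lib.helper5

/-- Take a formally unramified morphism h : Z ⟶ X of algebraic spaces over S and let (i : Z ⟶ Z', h' :
Z' ⟶ X) be a universal first order thickening of Z over X. Then h' is formally unramified. -/
theorem result {S : Scheme.{u}} {Z Z' X : AlgSp.Space S} (h : Z ⟶ X)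
    (hh : AlgSp.IsFormallyUnramifiedMor h.hom) (i : Z ⟶ Z') (h' : Z' ⟶ X) (HU : AlgSp.IsUnivFOThick h.hom i.hom h'.hom) :
    AlgSp.IsFormallyUnramifiedMor h'.hom := by
  rw [isFormallyUnramifiedMor_iff]
  intro D l l' h1 h2
  -- the pullback `Ta ⊂ T'` of `Z ⊂ Z'` along `l`
  obtain ⟨Ta, sa, ga, sqa⟩ := HU.1.1.rep l
  have hT'aff : IsAffine D.ptT'.left := by
    show IsAffine (Spec (.of D.A)); infer_instance
  have hsa : MoreMor.IsFirstOrderThickening sa.left :=
    ⟨HU.1.1.2 l ga sa sqa,
      sqZero_of_isPullback_of_isFOThickMor HU.1 Z'.property l ga sa hT'aff sqa⟩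
  have : IsClosedImmersion sa.left := hsa.1.1
  have hTaaff : IsAffine Ta.left := isAffine_of_isAffineHom sa.left
  -- step 1: `l` and `l'` agree on `Ta`
  have step1 : (yon S).map sa ≫ l = (yon S).map sa ≫ l' := by
    obtain ⟨D', e, c₀, hc⟩ := exists_thk_over D hTaaff sa
    have hc' : (yon S).map c₀ ≫ (yon S).map D.j =
        (yon S).map D'.j ≫ (yon S).map e.hom ≫ (yon S).map sa := by
      rw [← Functor.map_comp, hc, Functor.map_comp, Functor.map_comp]
    have hjb : (yon S).map D'.j ≫ ((yon S).map e.hom ≫ (yon S).map sa ≫ l ≫ h'.hom) =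
        ((yon S).map D'.j ≫ (yon S).map e.hom ≫ ga) ≫ h.hom := by
      rw [← HU.2.1]
      simp only [Category.assoc]
      rw [sqa.w_assoc]
    obtain ⟨a', -, hu⟩ := HU.2.2 (IsAlgSpace.yon_obj D'.ptT) (IsAlgSpace.yon_obj D'.ptT')
      ((yon S).map D'.j) ((yon S).map D'.j ≫ (yon S).map e.hom ≫ ga)
      ((yon S).map e.hom ≫ (yon S).map sa ≫ l ≫ h'.hom) (Thk.isFOThickMor D') hjb
    have e1 : (yon S).map e.hom ≫ (yon S).map sa ≫ l = a' := by
      apply hu
      refine ⟨?_, by simp only [Category.assoc]⟩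
      simp only [Category.assoc]
      rw [sqa.w]
    have e2 : (yon S).map e.hom ≫ (yon S).map sa ≫ l' = a' := by
      apply hu
      refine ⟨?_, by simp only [Category.assoc]; rw [h2]⟩
      simp only [Category.assoc]
      rw [sqa.w]
      have key : ∀ (m : (yon S).obj D.ptT' ⟶ Z'.obj),
          (yon S).map D'.j ≫ (yon S).map e.hom ≫ (yon S).map sa ≫ m =
            (yon S).map c₀ ≫ (yon S).map D.j ≫ m := by
        intro m
        rw [← Category.assoc ((yon S).map c₀), hc']
        simp only [Category.assoc]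
      rw [key, key, h1]
    have e3 := e1.trans e2.symm
    have : IsIso ((yon S).map e.hom) := inferInstance
    exact (cancel_epi ((yon S).map e.hom)).1 e3
  -- step 2: `Ta ⊂ T'` is a first order thickening, so `l = l'`
  obtain ⟨Da, e1, e2, he⟩ := exists_thk_of_affine sa hT'aff hsa
  have he' : (yon S).map Da.j ≫ (yon S).map e2.inv = (yon S).map e1.inv ≫ (yon S).map sa := by
    rw [← Functor.map_comp, ← Functor.map_comp]
    congr 1
    rw [Iso.comp_inv_eq, Category.assoc, ← he, Iso.inv_hom_id_assoc]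
  have hjb : (yon S).map Da.j ≫ ((yon S).map e2.inv ≫ l ≫ h'.hom) =
      ((yon S).map e1.inv ≫ ga) ≫ h.hom := by
    rw [← HU.2.1, ← Category.assoc, he']
    simp only [Category.assoc]
    rw [sqa.w_assoc]
  obtain ⟨a', -, hu⟩ := HU.2.2 (IsAlgSpace.yon_obj Da.ptT) (IsAlgSpace.yon_obj Da.ptT')
    ((yon S).map Da.j) ((yon S).map e1.inv ≫ ga) ((yon S).map e2.inv ≫ l ≫ h'.hom)
    (Thk.isFOThickMor Da) hjb
  have f1 : (yon S).map e2.inv ≫ l = a' := by
    apply hu
    refine ⟨?_, by simp only [Category.assoc]⟩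
    rw [← Category.assoc, he', Category.assoc, Category.assoc, sqa.w]
  have f2 : (yon S).map e2.inv ≫ l' = a' := by
    apply hu
    refine ⟨?_, by simp only [Category.assoc]; rw [h2]⟩
    rw [← Category.assoc, he', Category.assoc, Category.assoc, ← step1, sqa.w]
  have f3 := f1.trans f2.symm
  have : IsIso ((yon S).map e2.inv) := inferInstance
  exact (cancel_epi ((yon S).map e2.inv)).1 f3

end Groth.Agent.S10636
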