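import Groth.Statements.S10638
import Groth.Agent.Lib.Helper5.AlgSpUnivThk
import Groth.Agent.S10632
import Groth.Agent.S10631
import Groth.Agent.S10636
import Groth.Agent.S10266
import Groth.Agent.S10627

set_option autoImplicit false
universe u
open CategoryTheory CategoryTheory.Limits AlgebraicGeometry
open AlgSp

namespace Groth.Agent.S10638

open Groth.Agent.Lib.helper5

section

variable {S : Scheme.{u}}

/-- `Sp`-level form of S10632. -/
theorem univ_bc {Z Y Y' Z' X : Sp S} (hZ : IsAlgSpace Z) (hY : IsAlgSpace Y) (hY' : IsAlgSpace Y')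
    (hZ' : IsAlgSpace Z') (hX : IsAlgSpace X) (e : Z ⟶ Y) (he : IsEtaleMor e) (hh : Y ⟶ X)
    (iY : Y ⟶ Y') (hh' : Y' ⟶ X) (HU : IsUnivFOThick hh iY hh') (iZ : Z ⟶ Z') (e' : Z' ⟶ Y')
    (he' : IsEtaleMor e') (sq : IsPullback e iZ iY e') : IsUnivFOThick (e ≫ hh) iZ (e' ≫ hh') :=
  Groth.Agent.S10632.result (Z := ⟨Z, hZ⟩) (Y := ⟨Y, hY⟩) (Y' := ⟨Y', hY'⟩) (Z' := ⟨Z', hZ'⟩)
    (X := ⟨X, hX⟩) (ObjectProperty.homMk e) he (ObjectProperty.homMk hh) (ObjectProperty.homMk iY)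
    (ObjectProperty.homMk hh') HU (ObjectProperty.homMk iZ) (ObjectProperty.homMk e') he' sq

/-- `Sp`-level form of S10631. -/
theorem univ_post {Z Z' Y X : Sp S} (hZ : IsAlgSpace Z) (hZ' : IsAlgSpace Z') (hY : IsAlgSpace Y)
    (hX : IsAlgSpace X) (hh : Z ⟶ Y) (g : Y ⟶ X) (i : Z ⟶ Z') (h' : Z' ⟶ Y)
    (HU : IsUnivFOThick hh i h') (hg : IsFormallyEtaleMor g) :
    IsUnivFOThick (hh ≫ g) i (h' ≫ g) :=
  Groth.Agent.S10631.result (Z := ⟨Z, hZ⟩) (Z' := ⟨Z', hZ'⟩) (Y := ⟨Y, hY⟩) (X := ⟨X, hX⟩)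
    (ObjectProperty.homMk hh) (ObjectProperty.homMk g) (ObjectProperty.homMk i)
    (ObjectProperty.homMk h') HU hg

theorem isEtaleMor_of_repWith {F G : Sp S} {f : F ⟶ G} (hf : RepWith @Etale f) : IsEtaleMor f :=
  fun _ _ hφ => (repWith_isMultiplicative (S := S) @Etale).comp_mem _ _ hφ hf

/-- étaleness can be checked on open immersions covering the source -/
theorem etale_of_forall_exists_openImmersion {X Y : Scheme.{u}} (f : X ⟶ Y)
    (H : ∀ x : X, ∃ (O : Scheme.{u}) (o : O ⟶ X), IsOpenImmersion o ∧ x ∈ Set.range o ∧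
      Etale (o ≫ f)) : Etale f := by
  choose O o ho hx he using H
  refine IsZariskiLocalAtSource.of_iSup_eq_top (P := @Etale) (fun x => (o x).opensRange) ?_ ?_
  · rw [eq_top_iff]
    rintro x -
    simp only [TopologicalSpace.Opens.mem_iSup]
    exact ⟨x, hx x⟩
  · intro x
    rw [← IsOpenImmersion.isoOfRangeEq_inv_fac (o x) (Scheme.Opens.ι _)
      (congr_arg TopologicalSpace.Opens.carrier (o x).opensRange.opensRange_ι.symm), Category.assoc,
      MorphismProperty.cancel_left_of_respectsIso (P := @Etale)]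
    exact he x

/-- lifting a pullback square of schemes over `S` to `Over S` -/
theorem isPullback_over {P A B C : Over S} {f₁ : P ⟶ A} {f₂ : P ⟶ B} {g₁ : A ⟶ C} {g₂ : B ⟶ C}
    (sq : IsPullback f₁.left f₂.left g₁.left g₂.left) : IsPullback f₁ f₂ g₁ g₂ :=
  IsPullback.of_map (Over.forget S) (by ext; exact sq.w) sq

end

section Main

variable {S : Scheme.{u}} {Z Z' X V V' U : Sp S}
  (hZa : IsAlgSpace Z) (hZ'a : IsAlgSpace Z') (hXa : IsAlgSpace X) (hVa : IsAlgSpace V)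
  (hV'a : IsAlgSpace V') (hUa : IsAlgSpace U)
  {h : Z ⟶ X} {iZ : Z ⟶ Z'} {hZ' : Z' ⟶ X} (HZ : IsUnivFOThick h iZ hZ')
  {v : V ⟶ Z} {w : U ⟶ X} (hv : IsEtaleMor v) (hw : IsEtaleMor w) {ψ : V ⟶ U}
  (c : ψ ≫ w = v ≫ h)
  {iV : V ⟶ V'} {hV' : V' ⟶ U} (HV : IsUnivFOThick ψ iV hV')
  {e' : V' ⟶ Z'} (he1 : iV ≫ e' = v ≫ iZ) (he2 : e' ≫ hZ' = hV' ≫ w)

include hZa hZ'a hXa hVa hV'a hUa HZ hv hw c HV he1 he2 in
theorem local_etale {A B : Over S} (hB : IsAffine B.left) (α : (yon S).obj A ⟶ V')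
    (β : (yon S).obj B ⟶ Z') (g : A ⟶ B) (hα : RepWith @Etale α) (hβ : RepWith @Etale β)
    (hg : α ≫ e' = (yon S).map g ≫ β) (x : ↥A.left) :
    ∃ O : A.left.Opens, x ∈ O ∧ Etale (O.ι ≫ g.left) := by
  -- the thickenings of the charts
  obtain ⟨B₀, tB, zB, sqB⟩ := HZ.1.1.rep β
  obtain ⟨A₀, tA, vA, sqA⟩ := HV.1.1.rep α
  have htB : MoreMor.IsFirstOrderThickening tB.left :=
    ⟨HZ.1.1.2 β zB tB sqB, HZ.1.2 β zB tB hB hβ sqB⟩
  have htA : thick tA.left := HV.1.1.2 α vA tA sqA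
  have htAcl : IsClosedImmersion tA.left := htA.1
  have htAs : Surjective tA.left := htA.2
  -- the map `g₀ : A₀ ⟶ B₀`
  obtain ⟨g₀', hg₀1, hg₀2⟩ := sqB.exists_lift (vA ≫ v) ((yon S).map tA ≫ (yon S).map g) (by
    rw [Category.assoc, ← he1, ← Category.assoc, sqA.w, Category.assoc, hg, Category.assoc])
  obtain ⟨g₀, rfl⟩ := (yon S).map_surjective g₀'
  have hg₀2' : g₀ ≫ tB = tA ≫ g := (yon S).map_injective (by
    rw [Functor.map_comp, Functor.map_comp, hg₀2])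
  have hzB : RepWith @Etale zB :=
    (repWith_isStableUnderBaseChange (S := S) @Etale).of_isPullback sqB.flip hβ
  have hvA : RepWith @Etale vA :=
    (repWith_isStableUnderBaseChange (S := S) @Etale).of_isPullback sqA.flip hα
  have hg₀ : Etale g₀.left := etale_of_comp_repWith zB hzB g₀ (by rw [hg₀1]; exact hv vA hvA)
  -- thickening data for `B₀ ⊂ B`
  obtain ⟨D, e1, e2, he⟩ := exists_thk_of_affine tB hB htB
  have hiso1 : IsIso e1.hom.left := inferInstanceAs (IsIso ((Over.forget S).map e1.hom))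
  have hp : Etale (g₀ ≫ e1.hom).left := by
    rw [Over.comp_left]; infer_instance
  obtain ⟨x₀, hx₀⟩ := htAs.surj x
  obtain ⟨T'w, Tw, cw, tw, ι, hAff, hce, hx₀mem, hFO, hpb, hιo⟩ :=
    exists_etale_lift_nhd' D (g₀ ≫ e1.hom) hp x₀
  -- the open subscheme `O` of `A` on the image of `Tw`
  have hhomeo : IsHomeomorph tA.left :=
    isHomeomorph_iff_isEmbedding_surjective.2
      ⟨tA.left.isClosedEmbedding.isEmbedding, htAs.surj⟩
  let O : A.left.Opens := ⟨tA.left '' (Set.range ι.left),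
    hhomeo.isOpenMap _ ι.left.isOpenEmbedding.isOpen_range⟩
  have hxO : x ∈ O := ⟨x₀, hx₀mem, hx₀⟩
  have hsub : Set.range (ι.left ≫ tA.left) ⊆ Set.range O.ι := by
    rw [Scheme.Opens.range_ι]
    rintro _ ⟨y, rfl⟩
    exact ⟨ι.left y, ⟨y, rfl⟩, rfl⟩
  let tO₀ : Tw.left ⟶ O.toScheme := IsOpenImmersion.lift O.ι (ι.left ≫ tA.left) hsub
  have htO₀ : tO₀ ≫ O.ι = ι.left ≫ tA.left := IsOpenImmersion.lift_fac _ _ _
  have sqO₀ : IsPullback tO₀ ι.left O.ι tA.left := by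
    refine IsOpenImmersion.isPullback tO₀ ι.left O.ι tA.left htO₀.symm ?_
    ext y
    simp only [Scheme.Opens.opensRange_ι]
    constructor
    · rintro ⟨y', ⟨y'', rfl⟩, hy'⟩
      have := tA.left.isClosedEmbedding.injective hy'
      exact ⟨y'', this⟩
    · rintro ⟨y', rfl⟩
      exact ⟨ι.left y', ⟨y', rfl⟩, rfl⟩
  let AO : Over S := Over.mk (O.ι ≫ A.hom)
  let incl : AO ⟶ A := Over.homMk O.ι rfl
  let tO : Tw ⟶ AO := Over.homMk tO₀ (by
    show tO₀ ≫ O.ι ≫ A.hom = Tw.hom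
    rw [← Category.assoc, htO₀, Category.assoc, Over.w, Over.w])
  have sqO : IsPullback ι tO tA incl := isPullback_over sqO₀.flip
  -- (vi-a) the thickening `Tw ⊂ T'w` as a base change of `Z ⊂ Z'`
  have hpbO : IsPullback (ι ≫ g₀ ≫ e1.hom) tw D.j cw := isPullback_over hpb
  have hisoSq : IsPullback e1.inv D.j tB e2.inv :=
    IsPullback.of_horiz_isIso ⟨by
      rw [Iso.inv_comp_eq, ← Category.assoc, he, Category.assoc, Iso.hom_inv_id, Category.comp_id]⟩
  have sqa₀ : IsPullback (ι ≫ g₀) tw tB (cw ≫ e2.inv) := by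
    have := hpbO.paste_horiz hisoSq
    simpa only [Category.assoc, Iso.hom_inv_id, Category.comp_id] using this
  have sqa : IsPullback ((yon S).map (ι ≫ g₀) ≫ zB) ((yon S).map tw) iZ
      ((yon S).map (cw ≫ e2.inv) ≫ β) := (sqa₀.map (yon S)).paste_horiz sqB
  have hιe : Etale ι.left := inferInstance
  have hea : IsEtaleMor ((yon S).map (ι ≫ g₀) ≫ zB) := by
    refine isEtaleMor_of_repWith
      ((repWith_isMultiplicative (S := S) @Etale).comp_mem _ _ ((repWith_yon_map_iff _ _).2 ?_) hzB)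
    show Etale (ι.left ≫ g₀.left)
    infer_instance
  have hiso2 : IsIso e2.inv.left := inferInstanceAs (IsIso ((Over.forget S).map e2.inv))
  have hea' : IsEtaleMor ((yon S).map (cw ≫ e2.inv) ≫ β) := by
    refine isEtaleMor_of_repWith
      ((repWith_isMultiplicative (S := S) @Etale).comp_mem _ _ ((repWith_yon_map_iff _ _).2 ?_) hβ)
    show Etale (cw.left ≫ e2.inv.left)
    infer_instance
  have Ha := univ_bc (IsAlgSpace.yon_obj Tw) hZa hZ'a (IsAlgSpace.yon_obj T'w) hXa _ hea h iZ hZ' HZ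
    ((yon S).map tw) _ hea' sqa
  -- (vi-b) the thickening `Tw ⊂ AO` as a base change of `V ⊂ V'`
  have sqb : IsPullback ((yon S).map ι ≫ vA) ((yon S).map tO) iV ((yon S).map incl ≫ α) :=
    (sqO.map (yon S)).paste_horiz sqA
  have heb : IsEtaleMor ((yon S).map ι ≫ vA) :=
    isEtaleMor_of_repWith
      ((repWith_isMultiplicative (S := S) @Etale).comp_mem _ _ ((repWith_yon_map_iff _ _).2 hιe) hvA)
  have hincl : Etale incl.left := by
    show Etale O.ι
    infer_instance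
  have heb' : IsEtaleMor ((yon S).map incl ≫ α) :=
    isEtaleMor_of_repWith
      ((repWith_isMultiplicative (S := S) @Etale).comp_mem _ _ ((repWith_yon_map_iff _ _).2 hincl) hα)
  have Hb0 := univ_bc (IsAlgSpace.yon_obj Tw) hVa hV'a (IsAlgSpace.yon_obj AO) hUa _ heb ψ iV hV' HV
    ((yon S).map tO) _ heb' sqb
  have Hb := univ_post (IsAlgSpace.yon_obj Tw) (IsAlgSpace.yon_obj AO) hUa hXa _ w _ _ Hb0
    (Groth.Agent.S10627.isFormallyEtaleMor_of_isEtaleMor hUa w hw)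
  have hstr : ((yon S).map (ι ≫ g₀) ≫ zB) ≫ h = (((yon S).map ι ≫ vA) ≫ ψ) ≫ w := by
    rw [Functor.map_comp, Category.assoc, Category.assoc, Category.assoc, Category.assoc, c,
      ← Category.assoc vA, ← hg₀1, Category.assoc]
  rw [hstr] at Ha
  -- (vii) the two universal thickenings of `Tw` agree
  obtain ⟨θ, hθ1, hθ2⟩ := IsUnivFOThick.exists_iso (IsAlgSpace.yon_obj Tw) (IsAlgSpace.yon_obj T'w)
    (IsAlgSpace.yon_obj AO) Ha Hb
  -- (viii) uniqueness of maps into `B`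
  have HB := univ_bc (IsAlgSpace.yon_obj B₀) hZa hZ'a (IsAlgSpace.yon_obj B) hXa zB
    (isEtaleMor_of_repWith hzB) h iZ hZ' HZ ((yon S).map tB) β (isEtaleMor_of_repWith hβ) sqB
  have hcomm : (yon S).map tw ≫ (((yon S).map (cw ≫ e2.inv) ≫ β) ≫ hZ') =
      (yon S).map (ι ≫ g₀) ≫ (zB ≫ h) := by
    rw [← Category.assoc, ← sqa.w, Category.assoc, HZ.2.1, Category.assoc]
  obtain ⟨a', -, ha'⟩ := HB.2.2 (IsAlgSpace.yon_obj Tw) (IsAlgSpace.yon_obj T'w) ((yon S).map tw)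
    ((yon S).map (ι ≫ g₀)) (((yon S).map (cw ≫ e2.inv) ≫ β) ≫ hZ')
    (isFOThickMor_yon_map_of_affine tw hAff hFO) hcomm
  have h1 : (yon S).map (cw ≫ e2.inv) = a' := ha' _ ⟨by
    rw [← Functor.map_comp, ← Functor.map_comp, sqa₀.w], by rw [Category.assoc]⟩
  have h2 : θ.hom ≫ (yon S).map incl ≫ (yon S).map g = a' := ha' _ ⟨by
    rw [← Category.assoc, hθ1, ← Functor.map_comp, ← Functor.map_comp, ← Functor.map_comp,
      ← Category.assoc, ← sqO.w, Category.assoc, ← hg₀2', Category.assoc], by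
    rw [← hθ2]
    simp only [Category.assoc]
    rw [← Category.assoc ((yon S).map g), ← hg, Category.assoc, he2]⟩
  -- (ix) conclude
  obtain ⟨θ₀, hθ₀⟩ := (yon S).map_surjective θ.hom
  have hθ₀iso : IsIso θ₀ := by
    have : IsIso ((yon S).map θ₀) := by rw [hθ₀]; infer_instance
    exact isIso_of_fully_faithful (yon S) θ₀
  have h3 : cw ≫ e2.inv = θ₀ ≫ incl ≫ g := (yon S).map_injective (by
    rw [h1, ← h2, ← hθ₀, Functor.map_comp, Functor.map_comp])
  have h4 : incl ≫ g = inv θ₀ ≫ cw ≫ e2.inv := by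
    rw [h3, IsIso.inv_hom_id_assoc]
  have hiso3 : IsIso (inv θ₀).left := inferInstanceAs (IsIso ((Over.forget S).map (inv θ₀)))
  refine ⟨O, hxO, ?_⟩
  have h5 : O.ι ≫ g.left = (inv θ₀).left ≫ cw.left ≫ e2.inv.left := congrArg (fun k => k.left) h4
  rw [h5]
  infer_instance

include hZa hZ'a hXa hVa hV'a hUa HZ hv hw c HV he1 he2 in
theorem locP_etale : LocP @Etale e' := by
  intro A B α β g hα hβ hg
  refine etale_of_forall_exists_openImmersion g.left fun x => ?_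
  obtain ⟨W, hW, hy, -⟩ := exists_affineOpen_mem_le (⊤ : B.left.Opens) (g.left x) trivial
  let B'o : Over S := Over.mk (W.ι ≫ B.hom)
  let inclB : B'o ⟶ B := Over.homMk W.ι rfl
  let A'o : Over S := Over.mk ((g.left ⁻¹ᵁ W).ι ≫ A.hom)
  let inclA : A'o ⟶ A := Over.homMk (g.left ⁻¹ᵁ W).ι rfl
  let g' : A'o ⟶ B'o := Over.homMk (g.left ∣_ W) (by
    show (g.left ∣_ W) ≫ W.ι ≫ B.hom = (g.left ⁻¹ᵁ W).ι ≫ A.hom
    rw [← Category.assoc, morphismRestrict_ι, Category.assoc, Over.w])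
  have hgg : g' ≫ inclB = inclA ≫ g := Over.OverMorphism.ext (morphismRestrict_ι _ _)
  have hBaff : IsAffine B'o.left := hW
  have hinclA : Etale inclA.left := by
    show Etale (g.left ⁻¹ᵁ W).ι
    infer_instance
  have hinclB : Etale inclB.left := by
    show Etale W.ι
    infer_instance
  have hα' : RepWith @Etale ((yon S).map inclA ≫ α) :=
    (repWith_isMultiplicative (S := S) @Etale).comp_mem _ _ ((repWith_yon_map_iff _ _).2 hinclA) hα
  have hβ' : RepWith @Etale ((yon S).map inclB ≫ β) :=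
    (repWith_isMultiplicative (S := S) @Etale).comp_mem _ _ ((repWith_yon_map_iff _ _).2 hinclB) hβ
  have hg' : ((yon S).map inclA ≫ α) ≫ e' = (yon S).map g' ≫ (yon S).map inclB ≫ β := by
    rw [Category.assoc, hg, ← Category.assoc, ← Functor.map_comp, ← hgg, Functor.map_comp,
      Category.assoc]
  obtain ⟨O', hxO', hO'⟩ := local_etale hZa hZ'a hXa hVa hV'a hUa HZ hv hw c HV he1 he2 hBaff
    ((yon S).map inclA ≫ α) ((yon S).map inclB ≫ β) g' hα' hβ' hg' (⟨x, hy⟩ : ↥(g.left ⁻¹ᵁ W))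
  refine ⟨O'.toScheme, O'.ι ≫ (g.left ⁻¹ᵁ W).ι, inferInstance, ⟨⟨⟨x, hy⟩, hxO'⟩, rfl⟩, ?_⟩
  have h6 : (O'.ι ≫ (g.left ⁻¹ᵁ W).ι) ≫ g.left = (O'.ι ≫ g'.left) ≫ W.ι := by
    rw [Category.assoc, Category.assoc]
    congr 1
    exact (morphismRestrict_ι _ _).symm
  rw [h6]
  infer_instance

end Main

/-- Take a formally unramified morphism h : Z ⟶ X of algebraic spaces over S with universal first order
thickening (iZ : Z ⟶ Z', hZ' : Z' ⟶ X). Let v : V ⟶ Z and w : U ⟶ X be etale morphisms of algebraic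
spaces and ψ : V ⟶ U with ψ ≫ w = v ≫ h. Then ψ is formally unramified, and for a universal first
order thickening (iV : V ⟶ V', hV' : V' ⟶ U) of V over U, every e' : V' ⟶ Z' with iV ≫ e' = v ≫ iZ
and e' ≫ hZ' = hV' ≫ w (there is exactly one) is etale. (The published statement also identifies the
conormal sheaf of V over U with the restriction of that of Z over X; this row omits that clause.) -/
theorem result {S : Scheme.{u}} {Z X Z' V U V' : AlgSp.Space S} (h : Z ⟶ X)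
    (hh : AlgSp.IsFormallyUnramifiedMor h.hom) (iZ : Z ⟶ Z') (hZ' : Z' ⟶ X) (HZ : AlgSp.IsUnivFOThick h.hom iZ.hom hZ'.hom)
    (v : V ⟶ Z) (w : U ⟶ X) (hv : AlgSp.IsEtaleMor v.hom) (hw : AlgSp.IsEtaleMor w.hom) (ψ : V ⟶ U)
    (c : ψ ≫ w = v ≫ h) :
    AlgSp.IsFormallyUnramifiedMor ψ.hom ∧
    ∀ (iV : V ⟶ V') (hV' : V' ⟶ U), AlgSp.IsUnivFOThick ψ.hom iV.hom hV'.hom →
      ∀ e' : V' ⟶ Z', iV ≫ e' = v ≫ iZ → e' ≫ hZ' = hV' ≫ w → AlgSp.IsEtaleMor e'.hom := by
  have c' : ψ.hom ≫ w.hom = v.hom ≫ h.hom := congrArg (fun k => k.hom) c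
  refine ⟨?_, ?_⟩
  · rw [isFormallyUnramifiedMor_iff] at hh ⊢
    intro D
    have hv' := ((isFormallyEtaleMor_iff _).1
      (Groth.Agent.S10627.isFormallyEtaleMor_of_isEtaleMor V.property v.hom hv)).2
    rw [isFormallyUnramifiedMor_iff] at hv'
    have h1 : LiftUniq ((yon S).map D.j) (ψ.hom ≫ w.hom) := by
      rw [c']
      exact (hv' D).comp (hh D)
    exact h1.of_comp
  · intro iV hV' HV e' he1 he2
    have he1' : iV.hom ≫ e'.hom = v.hom ≫ iZ.hom := congrArg (fun k => k.hom) he1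
    have he2' : e'.hom ≫ hZ'.hom = hV'.hom ≫ w.hom := congrArg (fun k => k.hom) he2
    exact Groth.Agent.S10266.isEtaleMor_of_locP_etale Z'.property e'.hom
      (locP_etale Z.property Z'.property X.property V.property V'.property U.property HZ hv hw c' HV
        he1' he2')

end Groth.Agent.S10638
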