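import Groth.Statements.S10212
import Groth.Agent.Lib.Helper1.ESDLfp

set_option autoImplicit false
universe u
open CategoryTheory CategoryTheory.Limits AlgebraicGeometry Topology TopologicalSpace
open AlgSp

namespace Groth.Agent.S10212

theorem main {S : Scheme.{u}} (X : AlgSp.Space S) {U U' : Over S}
    (χ : U ⟶ U') [Etale χ.left] [Surjective χ.left] (φ' : (AlgSp.yon S).obj U' ⟶ X.obj)
    (h : AlgSp.RepWith @Etale ((AlgSp.yon S).map χ ≫ φ')) :
    AlgSp.RepWith @Etale φ' := by
  have hrep : Representable φ' := Functor.relativelyRepresentable.of_diag X.property.diag φ'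
  refine ⟨hrep, ?_⟩
  intro T T' g fst' snd sq1
  obtain ⟨fst, rfl⟩ := (yon S).map_surjective fst'
  -- T'' = T' ×_{U'} U
  have sq2 : IsPullback (pullback.fst fst χ) (pullback.snd fst χ) fst χ := IsPullback.of_hasPullback fst χ
  have sq2' := sq2.map (Over.forget S)
  have sq2y := sq2.map (yon S)
  have he : Etale (pullback.fst fst χ).left :=
    MorphismProperty.of_isPullback (P := @Etale) sq2'.flip (inferInstance : Etale χ.left)
  have hes : Surjective (pullback.fst fst χ).left :=
    MorphismProperty.of_isPullback (P := @Surjective) sq2'.flip (inferInstance : Surjective χ.left)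
  have sq3 : IsPullback ((yon S).map (pullback.snd fst χ)) ((yon S).map (pullback.fst fst χ ≫ snd))
      ((yon S).map χ ≫ φ') g := by
    rw [Functor.map_comp]
    exact sq2y.flip.paste_vert sq1
  have h1 : Etale (pullback.fst fst χ ≫ snd).left := h.2 _ _ _ sq3
  rw [Over.comp_left] at h1
  exact Groth.Agent.H1.ESDLfp.etale_of_etale_comp (pullback.fst fst χ).left snd.left

/-- Let X be an algebraic space over a scheme S, χ : U ⟶ U' a surjective etale morphism of schemes over
S and φ' : h_{U'} ⟶ X a map such that the composite h_χ ≫ φ' : h_U ⟶ X is (representable and) etale.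
Then φ' is etale. -/
theorem result {S : Scheme.{u}} (X : AlgSp.Space S) {U U' : Over S}
    (χ : U ⟶ U') [Etale χ.left] [Surjective χ.left] (φ' : (AlgSp.yon S).obj U' ⟶ X.obj)
    (h : AlgSp.RepWith @Etale ((AlgSp.yon S).map χ ≫ φ')) :
    AlgSp.RepWith @Etale φ' := by
  exact main X χ φ' h

end Groth.Agent.S10212
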