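import Groth.Statements.S10210
import Groth.Agent.S10212
import Groth.Agent.Lib.Helper1.LocPStable

set_option autoImplicit false
universe u
open CategoryTheory CategoryTheory.Limits AlgebraicGeometry Topology TopologicalSpace
open AlgSp

namespace Groth.Agent.S10210

/-- a map from a scheme to an algebraic space `Y` which becomes etale after composing with an etale morphism
`Y ⟶ Z` is etale. -/
theorem repWith_etale_of_comp {S : Scheme.{u}} {Y : AlgSp.Space S} {Z : Sp S} (h : Y.obj ⟶ Z)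
    (hh : AlgSp.IsEtaleMor h) {W : Over S} (ψ : (yon S).obj W ⟶ Y.obj)
    (hψ : RepWith @Etale (ψ ≫ h)) : RepWith @Etale ψ := by
  obtain ⟨V, p, hpe, hps⟩ := Y.property.atlas
  have hph : RepWith @Etale (p ≫ h) := hh p hpe
  obtain ⟨W1, r, β', sq⟩ := hpe.1 ψ
  obtain ⟨β, rfl⟩ := (yon S).map_surjective β'
  have hr : Etale r.left := hpe.2 _ _ _ sq
  have hrs : Surjective r.left := hps.2 _ _ _ sq
  have h1 : RepWith @Etale ((yon S).map r ≫ ψ ≫ h) :=
    (RepWith (S := S) @Etale).comp_mem _ _ ((repWith_yon_map_iff @Etale r).2 hr) hψ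
  have hβ : Etale β.left := by
    refine Groth.Agent.H1.LocPStable.etale_of_charts ((yon S).map r ≫ ψ ≫ h) (p ≫ h) h1 hph β ?_
    rw [← Category.assoc, sq.w, Category.assoc]
  have h2 : RepWith @Etale ((yon S).map r ≫ ψ) := by
    rw [← sq.w]
    exact (RepWith (S := S) @Etale).comp_mem _ _ ((repWith_yon_map_iff @Etale β).2 hβ) hpe
  exact Groth.Agent.S10212.main Y r ψ h2

theorem main {S : Scheme.{u}} {X Y Z : AlgSp.Space S} (f : X ⟶ Y) (h : Y ⟶ Z) (g : X ⟶ Z)
    (w : f ≫ h = g) (hg : AlgSp.IsEtaleMor g.hom) (hh : AlgSp.IsEtaleMor h.hom) :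
    AlgSp.IsEtaleMor f.hom := by
  intro W φ hφ
  subst w
  have h1 : RepWith @Etale (φ ≫ (f ≫ h).hom) := hg φ hφ
  have h2 : (f ≫ h).hom = f.hom ≫ h.hom := rfl
  rw [h2, ← Category.assoc] at h1
  exact repWith_etale_of_comp h.hom hh (φ ≫ f.hom) h1

/-- Let X, Y, Z be algebraic spaces over a scheme S, g : X ⟶ Z and h : Y ⟶ Z etale morphisms and f : X ⟶
Y a morphism with f ≫ h = g. Then f is etale. -/
theorem result {S : Scheme.{u}} {X Y Z : AlgSp.Space S} (f : X ⟶ Y) (h : Y ⟶ Z) (g : X ⟶ Z)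
    (w : f ≫ h = g) (hg : AlgSp.IsEtaleMor g.hom) (hh : AlgSp.IsEtaleMor h.hom) :
    AlgSp.IsEtaleMor f.hom := by
  exact main f h g w hg hh

end Groth.Agent.S10210
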