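import Groth.Statements.S10605
import Groth.Agent.S10534
import Groth.Agent.Lib.Helper5.AlgSpFpqcRep

set_option autoImplicit false
universe u
open CategoryTheory CategoryTheory.Limits AlgebraicGeometry
open AlgSp

namespace Groth.Agent.S10605

/-- The property of a morphism of algebraic spaces over S of being a thickening (representable, every
base change to a scheme a surjective closed immersion) is local on the base for the fpqc topology.
(The published statement also claims the same for first order thickenings; this row states only the
thickening clause.) -/
theorem result {S : Scheme.{u}} :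
    AlgSp.IsLocalOnBase (S := S) AlgSp.IsFpqcCover
      AlgSp.IsThickMor := by
  intro ι Y Yi g hY hYi hg X f hX Xi p q hXi sq
  constructor
  · intro hf i
    exact (RepWith (S := S) AlgSp.thick).of_isPullback (sq i) hf
  · intro hp
    have hcl : RepWith @IsClosedImmersion f :=
      (Groth.Agent.S10534.result S Yi g hY hYi hg f hX Xi p q hXi sq).2
        (fun i => Groth.Agent.S10194.repWith_mono (fun _ _ k hk => hk.1) (hp i))
    have hsurj : RepWith @Surjective f :=
      Groth.Agent.Lib.helper5.FpqcRep.repWith_of_fpqcRefinable @Surjective f hcl.1 Yi g hg.2 Xi p q sq
        (fun i => Groth.Agent.S10194.repWith_mono (fun _ _ k hk => hk.2) (hp i))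
    exact ⟨hcl.1, fun T T' k fst snd sqT => ⟨hcl.2 k fst snd sqT, hsurj.2 k fst snd sqT⟩⟩

end Groth.Agent.S10605
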