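import Groth.Statements.S10633
import Groth.Agent.Lib.Helper5.AlgSpThk3
import Groth.Agent.S10630
import Groth.Agent.S10627

set_option autoImplicit false
universe u
open CategoryTheory CategoryTheory.Limits AlgebraicGeometry
open AlgSp

namespace Groth.Agent.S10633

open Groth.Agent.Lib.helper5

section

variable {S : Scheme.{u}} {Z Y Z' Y' X : AlgSp.Space S} (e : Z ⟶ Y)
    (he : AlgSp.IsEtaleMor e.hom) (hes : AlgSp.IsSurjectiveMor e.hom) (hY : Y ⟶ X)
    (iZ : Z ⟶ Z') (iY : Y ⟶ Y')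
    (f' : Z' ⟶ Y') (hf' : AlgSp.IsEtaleMor f'.hom) (w : iZ ≫ f' = e ≫ iY) (hY' : Y' ⟶ X)
    (w' : iY ≫ hY' = hY)
    (HU : AlgSp.IsUnivFOThick (e ≫ hY).hom iZ.hom (f' ≫ hY').hom)

include he hes hf' w HU in
/-- uniqueness of lifts to `Y'` along thickening data -/
theorem uniq_aux (D : Thk S) (a : (yon S).obj D.ptT ⟶ Y.obj)
    (m m' : (yon S).obj D.ptT' ⟶ Y'.obj) (h1 : (yon S).map D.j ≫ m = a ≫ iY.hom)
    (h2 : (yon S).map D.j ≫ m' = a ≫ iY.hom) (h3 : m ≫ hY'.hom = m' ≫ hY'.hom) : m = m' := by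
  have wh : iZ.hom ≫ f'.hom = e.hom ≫ iY.hom := congrArg (fun k => k.hom) w
  obtain ⟨W, p, z, hpe, hps, hz⟩ := exists_etale_cover_through Z.property e.hom he hes a
  obtain ⟨κ, T'w, Tw, c, t, ι, hAff, hcf, hcp, hcs, hFO, -, hsq⟩ :=
    exists_etale_lift_cover D p hpe hps
  refine yon_hom_ext_of_family m m' T'w c hcf hcp hcs fun k => ?_
  have hfe : IsFormallyEtaleMor f'.hom :=
    Groth.Agent.S10627.isFormallyEtaleMor_of_isEtaleMor Z'.property f'.hom hf'
  have hsm : IsFormallySmoothMor f'.hom := ((isFormallyEtaleMor_iff _).1 hfe).1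
  have hsq' : (yon S).map (ι k) ≫ (yon S).map p ≫ (yon S).map D.j =
      (yon S).map (t k) ≫ (yon S).map (c k) := by
    rw [← Functor.map_comp, ← Functor.map_comp, hsq k, Functor.map_comp]
  -- the common restriction to `Tw k`
  have comm : ∀ m₀ : (yon S).obj D.ptT' ⟶ Y'.obj, (yon S).map D.j ≫ m₀ = a ≫ iY.hom →
      ((yon S).map (ι k) ≫ z ≫ iZ.hom) ≫ f'.hom = (yon S).map (t k) ≫ (yon S).map (c k) ≫ m₀ := by
    intro m₀ hm₀
    rw [← Category.assoc ((yon S).map (t k)), ← hsq']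
    simp only [Category.assoc]
    rw [wh, ← Category.assoc z, hz, hm₀]
    simp only [Category.assoc]
  obtain ⟨l, hl1, hl2⟩ := liftExists_of_affine hsm (t k) (hAff k) (hFO k) _ _ (comm m h1)
  obtain ⟨l', hl'1, hl'2⟩ := liftExists_of_affine hsm (t k) (hAff k) (hFO k) _ _ (comm m' h2)
  have hjb : (yon S).map (t k) ≫ ((yon S).map (c k) ≫ m ≫ hY'.hom) =
      ((yon S).map (ι k) ≫ z) ≫ (e ≫ hY).hom := by
    rw [← HU.2.1]
    show _ = ((yon S).map (ι k) ≫ z) ≫ iZ.hom ≫ f'.hom ≫ hY'.hom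
    have := comm m h1
    simp only [Category.assoc] at this ⊢
    rw [reassoc_of% this]
  obtain ⟨a', -, hu⟩ := HU.2.2 (IsAlgSpace.yon_obj (Tw k)) (IsAlgSpace.yon_obj (T'w k))
    ((yon S).map (t k)) ((yon S).map (ι k) ≫ z) ((yon S).map (c k) ≫ m ≫ hY'.hom)
    (isFOThickMor_yon_map_of_affine (t k) (hAff k) (hFO k)) hjb
  have e1 : l = a' := by
    apply hu
    refine ⟨by rw [hl1]; simp only [Category.assoc], ?_⟩
    show l ≫ f'.hom ≫ hY'.hom = _
    rw [← Category.assoc, hl2, Category.assoc]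
  have e2 : l' = a' := by
    apply hu
    refine ⟨by rw [hl'1]; simp only [Category.assoc], ?_⟩
    show l' ≫ f'.hom ≫ hY'.hom = _
    rw [← Category.assoc, hl'2, Category.assoc, h3]
  rw [← hl2, ← hl'2, e1, e2]

include he hes hf' w HU in
/-- existence of lifts to `Y'` along thickening data -/
theorem exists_aux (D : Thk S) (a : (yon S).obj D.ptT ⟶ Y.obj)
    (b : (yon S).obj D.ptT' ⟶ X.obj) (hab : (yon S).map D.j ≫ b = a ≫ hY.hom) :
    ∃ a' : (yon S).obj D.ptT' ⟶ Y'.obj, (yon S).map D.j ≫ a' = a ≫ iY.hom ∧ a' ≫ hY'.hom = b := by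
  have wh : iZ.hom ≫ f'.hom = e.hom ≫ iY.hom := congrArg (fun k => k.hom) w
  obtain ⟨W, p, z, hpe, hps, hz⟩ := exists_etale_cover_through Z.property e.hom he hes a
  obtain ⟨κ, T'w, Tw, c, t, ι, hAff, hcf, hcp, hcs, hFO, hpb, hsq⟩ :=
    exists_etale_lift_cover D p hpe hps
  have hsq' : ∀ k, (yon S).map (ι k) ≫ (yon S).map p ≫ (yon S).map D.j =
      (yon S).map (t k) ≫ (yon S).map (c k) := by
    intro k
    rw [← Functor.map_comp, ← Functor.map_comp, hsq k, Functor.map_comp]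
  have key : ∀ k, ∃ m : (yon S).obj (T'w k) ⟶ Y'.obj,
      IsLiftOver hY'.hom ((yon S).map D.j) (a ≫ iY.hom) b ((yon S).map (c k) ≫ 𝟙 _) m := by
    intro k
    have hjb : (yon S).map (t k) ≫ ((yon S).map (c k) ≫ b) =
        ((yon S).map (ι k) ≫ z) ≫ (e ≫ hY).hom := by
      show _ = ((yon S).map (ι k) ≫ z) ≫ e.hom ≫ hY.hom
      rw [← Category.assoc ((yon S).map (t k)), ← hsq' k]
      simp only [Category.assoc]
      rw [hab, ← Category.assoc z, hz]
      simp only [Category.assoc]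
    obtain ⟨l, ⟨hl1, hl2⟩, -⟩ := HU.2.2 (IsAlgSpace.yon_obj (Tw k)) (IsAlgSpace.yon_obj (T'w k))
      ((yon S).map (t k)) ((yon S).map (ι k) ≫ z) ((yon S).map (c k) ≫ b)
      (isFOThickMor_yon_map_of_affine (t k) (hAff k) (hFO k)) hjb
    refine ⟨l ≫ f'.hom, ?_, ?_⟩
    · intro P fst' snd' cm
      apply hom_ext_yon
      intro Z₀ s
      obtain ⟨u, hu⟩ := (yon S).map_surjective (s ≫ fst')
      obtain ⟨v, hv⟩ := (yon S).map_surjective (s ≫ snd')
      have huv : u ≫ D.j = v ≫ c k := by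
        apply (yon S).map_injective
        rw [Functor.map_comp, Functor.map_comp, hu, hv, Category.assoc, Category.assoc, cm,
          Category.comp_id]
      obtain ⟨σ, hσ1, hσ2⟩ := (hpb k).exists_lift u.left v.left (by
        rw [← Over.comp_left, huv, Over.comp_left])
      let σ' : Z₀ ⟶ Tw k := Over.homMk σ (by
        rw [← Over.w (t k), ← Category.assoc, hσ2, Over.w])
      have e1 : σ' ≫ t k = v := by
        ext
        exact hσ2
      have e2 : σ' ≫ ι k ≫ p = u := by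
        ext
        simpa [σ'] using hσ1
      calc s ≫ snd' ≫ l ≫ f'.hom = (yon S).map v ≫ l ≫ f'.hom := by
            rw [← Category.assoc, ← hv]
        _ = (yon S).map σ' ≫ ((yon S).map (t k) ≫ l) ≫ f'.hom := by
          rw [← e1, Functor.map_comp, Category.assoc, Category.assoc]
        _ = (yon S).map σ' ≫ (yon S).map (ι k) ≫ z ≫ e.hom ≫ iY.hom := by
          rw [hl1]
          simp only [Category.assoc]
          rw [wh]
        _ = (yon S).map σ' ≫ (yon S).map (ι k) ≫ (yon S).map p ≫ a ≫ iY.hom := by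
          rw [← Category.assoc z, hz]
          simp only [Category.assoc]
        _ = (yon S).map u ≫ a ≫ iY.hom := by
          rw [← e2, Functor.map_comp, Functor.map_comp, Category.assoc, Category.assoc]
        _ = s ≫ fst' ≫ a ≫ iY.hom := by rw [hu]; simp only [Category.assoc]
    · have : (l ≫ f'.hom) ≫ hY'.hom = l ≫ (f' ≫ hY').hom := by
        rw [Category.assoc]; rfl
      rw [this, hl2, Category.comp_id]
  choose m hm using key
  have hLU : LocalUniq hY'.hom (a ≫ iY.hom) := by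
    intro D' fst m₁ m₂ hm₁ hm₂ hm₁₂
    exact uniq_aux e he hes hY iZ iY f' hf' w hY' HU D' (fst ≫ a) m₁ m₂
      (by rw [hm₁, Category.assoc]) (by rw [hm₂, Category.assoc]) hm₁₂
  have huniq : ∀ ⦃Z₀ : Over S⦄ (β : (yon S).obj Z₀ ⟶ (yon S).obj D.ptT')
      (m m' : (yon S).obj Z₀ ⟶ Y'.obj),
      IsLiftOver hY'.hom ((yon S).map D.j) (a ≫ iY.hom) b β m →
      IsLiftOver hY'.hom ((yon S).map D.j) (a ≫ iY.hom) b β m' → m = m' :=
    fun Z₀ β m m' h h' => IsLiftOver.unique' hLU D.isFOThickMor (IsAlgSpace.yon_obj _) h h'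
  obtain ⟨m₀, hm₀⟩ := exists_isLiftOver_of_family huniq (𝟙 _) T'w c hcf hcp hcs m hm
  refine ⟨m₀, ?_, ?_⟩
  · have := hm₀.1 (𝟙 _) ((yon S).map D.j) (by rw [Category.id_comp, Category.comp_id])
    rwa [Category.id_comp] at this
  · have := hm₀.2
    rwa [Category.id_comp] at this

end

/-- Let e : Z ⟶ Y be a surjective etale morphism of algebraic spaces over S, hY : Y ⟶ X, and let (Z ⊂
Z') ⟶ (Y ⊂ Y') be an etale morphism of first order thickenings over X: iZ : Z ⟶ Z' and iY : Y ⟶ Y'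
first order thickenings, f' : Z' ⟶ Y' etale with iZ ≫ f' = e ≫ iY, hY' : Y' ⟶ X with iY ≫ hY' = hY.
If (iZ, f' ≫ hY') is a universal first order thickening of Z over X, then (iY, hY') is a universal
first order thickening of Y over X. -/
theorem result {S : Scheme.{u}} {Z Y Z' Y' X : AlgSp.Space S} (e : Z ⟶ Y)
    (he : AlgSp.IsEtaleMor e.hom) (hes : AlgSp.IsSurjectiveMor e.hom) (hY : Y ⟶ X)
    (iZ : Z ⟶ Z') (iY : Y ⟶ Y') (hiZ : AlgSp.IsFOThickMor iZ.hom) (hiY : AlgSp.IsFOThickMor iY.hom)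
    (f' : Z' ⟶ Y') (hf' : AlgSp.IsEtaleMor f'.hom) (w : iZ ≫ f' = e ≫ iY) (hY' : Y' ⟶ X) (w' : iY ≫ hY' = hY)
    (HU : AlgSp.IsUnivFOThick (e ≫ hY).hom iZ.hom (f' ≫ hY').hom) :
    AlgSp.IsUnivFOThick hY.hom iY.hom hY'.hom := by
  rw [Groth.Agent.S10630.result hY iY hY' hiY w']
  intro T T' j hT' hj a b hab
  have hjFO : MoreMor.IsFirstOrderThickening j.left :=
    isFirstOrderThickening_of_isFOThickMor_yon_map hT' hj
  obtain ⟨D, e1, e2, sq⟩ := exists_thk_of_affine j hT' hjFO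
  have sq' : (yon S).map e1.hom ≫ (yon S).map D.j = (yon S).map j ≫ (yon S).map e2.hom := by
    rw [← Functor.map_comp, ← Functor.map_comp, sq]
  have sq'' : (yon S).map D.j ≫ (yon S).map e2.inv = (yon S).map e1.inv ≫ (yon S).map j := by
    rw [← Functor.map_comp, ← Functor.map_comp]
    congr 1
    rw [Iso.comp_inv_eq, Category.assoc, ← sq, Iso.inv_hom_id_assoc]
  have hab' : (yon S).map D.j ≫ ((yon S).map e2.inv ≫ b) = ((yon S).map e1.inv ≫ a) ≫ hY.hom := by
    rw [← Category.assoc, sq'', Category.assoc, hab, Category.assoc]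
  obtain ⟨a', ha1, ha2⟩ := exists_aux e he hes hY iZ iY f' hf' w hY' HU D
    ((yon S).map e1.inv ≫ a) ((yon S).map e2.inv ≫ b) hab'
  have hinv1 : (yon S).map e1.hom ≫ (yon S).map e1.inv = 𝟙 _ := by
    rw [← Functor.map_comp, Iso.hom_inv_id, CategoryTheory.Functor.map_id]
  have hinv2 : (yon S).map e2.hom ≫ (yon S).map e2.inv = 𝟙 _ := by
    rw [← Functor.map_comp, Iso.hom_inv_id, CategoryTheory.Functor.map_id]
  refine ⟨(yon S).map e2.hom ≫ a', ⟨?_, ?_⟩, ?_⟩
  · rw [← Category.assoc, ← sq', Category.assoc, ha1, ← Category.assoc, ← Category.assoc, hinv1,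
      Category.id_comp]
  · rw [Category.assoc, ha2, ← Category.assoc, hinv2, Category.id_comp]
  · rintro a'' ⟨h1, h2⟩
    have key := uniq_aux e he hes hY iZ iY f' hf' w hY' HU D ((yon S).map e1.inv ≫ a)
      ((yon S).map e2.inv ≫ a'') a' (by
        rw [← Category.assoc, sq'', Category.assoc, h1, Category.assoc]) ha1 (by
        rw [Category.assoc, h2, ha2])
    rw [← key, ← Category.assoc, hinv2, Category.id_comp]

end Groth.Agent.S10633
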