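import Groth.Statements.S13174
import Mathlib

set_option autoImplicit false
universe u v w
open scoped TensorProduct
open ZeroCyc

namespace Groth.Agent.S13174

section aux

open MvPolynomial LinearMap

variable {A : Type u} [CommRing A] {M : Type v} [AddCommGroup M] [Module A M]
  {N : Type w} [AddCommGroup N] [Module A N]
  (T : ∀ n : ℕ, MvPolynomial (Fin n) A ⊗[A] M → MvPolynomial (Fin n) A ⊗[A] N)
  (hT : ∀ (n m : ℕ) (φ : MvPolynomial (Fin n) A →ₐ[A] MvPolynomial (Fin m) A),
    φ.toLinearMap.rTensor N ∘ T n = T m ∘ φ.toLinearMap.rTensor M)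

include hT in
lemma hT_apply (n m : ℕ) (φ : MvPolynomial (Fin n) A →ₐ[A] MvPolynomial (Fin m) A)
    (x : MvPolynomial (Fin n) A ⊗[A] M) :
    φ.toLinearMap.rTensor N (T n x) = T m (φ.toLinearMap.rTensor M x) :=
  congrFun (hT n m φ) x

include hT in
/-- Roby's trick with one extra variable. -/
lemma step {S : Type u} [CommSemiring S] [Algebra A S] (k : ℕ)
    (Ψ : MvPolynomial (Fin k) A →ₐ[A] S) (q' : MvPolynomial (Fin k) A ⊗[A] M)
    (g : MvPolynomial (Fin k) A) (hg : Ψ g = 0) (m : M) :
    Ψ.toLinearMap.rTensor N (T k (q' + g ⊗ₜ[A] m)) = Ψ.toLinearMap.rTensor N (T k q') := by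
  let ι : MvPolynomial (Fin k) A →ₐ[A] MvPolynomial (Fin (k + 1)) A := rename Fin.castSucc
  let Q : MvPolynomial (Fin (k + 1)) A ⊗[A] M :=
    ι.toLinearMap.rTensor M q' + (X (Fin.last k)) ⊗ₜ[A] m
  let α : MvPolynomial (Fin (k + 1)) A →ₐ[A] MvPolynomial (Fin k) A :=
    aeval (Fin.lastCases g (fun i => X i))
  let β : MvPolynomial (Fin (k + 1)) A →ₐ[A] MvPolynomial (Fin k) A :=
    aeval (Fin.lastCases 0 (fun i => X i))
  have hαι : α.comp ι = AlgHom.id A _ := by
    apply MvPolynomial.algHom_ext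
    intro i
    simp [α, ι]
  have hβι : β.comp ι = AlgHom.id A _ := by
    apply MvPolynomial.algHom_ext
    intro i
    simp [β, ι]
  have hαQ : α.toLinearMap.rTensor M Q = q' + g ⊗ₜ[A] m := by
    show α.toLinearMap.rTensor M (ι.toLinearMap.rTensor M q' + (X (Fin.last k)) ⊗ₜ[A] m) = _
    rw [map_add, ← LinearMap.comp_apply, ← LinearMap.rTensor_comp, ← AlgHom.comp_toLinearMap, hαι,
      LinearMap.rTensor_tmul]
    simp [α]
  have hβQ : β.toLinearMap.rTensor M Q = q' := by
    show β.toLinearMap.rTensor M (ι.toLinearMap.rTensor M q' + (X (Fin.last k)) ⊗ₜ[A] m) = _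
    rw [map_add, ← LinearMap.comp_apply, ← LinearMap.rTensor_comp, ← AlgHom.comp_toLinearMap, hβι,
      LinearMap.rTensor_tmul]
    simp [β]
  have hΨ : Ψ.comp α = Ψ.comp β := by
    apply MvPolynomial.algHom_ext
    intro i
    refine Fin.lastCases ?_ (fun j => ?_) i
    · simp [α, β, hg]
    · simp [α, β]
  calc Ψ.toLinearMap.rTensor N (T k (q' + g ⊗ₜ[A] m))
      = Ψ.toLinearMap.rTensor N (T k (α.toLinearMap.rTensor M Q)) := by rw [hαQ]
    _ = Ψ.toLinearMap.rTensor N (α.toLinearMap.rTensor N (T (k + 1) Q)) := by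
        rw [hT_apply T hT]
    _ = (Ψ.comp α).toLinearMap.rTensor N (T (k + 1) Q) := by
        rw [AlgHom.comp_toLinearMap, LinearMap.rTensor_comp, LinearMap.comp_apply]
    _ = (Ψ.comp β).toLinearMap.rTensor N (T (k + 1) Q) := by rw [hΨ]
    _ = Ψ.toLinearMap.rTensor N (β.toLinearMap.rTensor N (T (k + 1) Q)) := by
        rw [AlgHom.comp_toLinearMap, LinearMap.rTensor_comp, LinearMap.comp_apply]
    _ = Ψ.toLinearMap.rTensor N (T k (β.toLinearMap.rTensor M Q)) := by
        rw [hT_apply T hT]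
    _ = Ψ.toLinearMap.rTensor N (T k q') := by rw [hβQ]

include hT in
lemma core {S : Type u} [CommSemiring S] [Algebra A S] (k : ℕ)
    (Ψ : MvPolynomial (Fin k) A →ₐ[A] S) (q q' : MvPolynomial (Fin k) A ⊗[A] M)
    (h : Ψ.rangeRestrict.toLinearMap.rTensor M q = Ψ.rangeRestrict.toLinearMap.rTensor M q') :
    Ψ.toLinearMap.rTensor N (T k q) = Ψ.toLinearMap.rTensor N (T k q') := by
  classical
  letI : AddCommGroup ↥Ψ.range := Module.addCommMonoidToAddCommGroup A
  let I : Submodule A (MvPolynomial (Fin k) A) :=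
    (RingHom.ker (Ψ : MvPolynomial (Fin k) A →+* S)).restrictScalars A
  have hI : ∀ c : MvPolynomial (Fin k) A, c ∈ I ↔ Ψ c = 0 := by
    intro c
    show c ∈ RingHom.ker (Ψ : MvPolynomial (Fin k) A →+* S) ↔ _
    rw [RingHom.mem_ker]
    rfl
  have hexact : Function.Exact I.subtype Ψ.rangeRestrict.toLinearMap := by
    intro c
    constructor
    · intro hc
      have h1 : Ψ c = 0 := congrArg Subtype.val hc
      exact ⟨⟨c, (hI c).mpr h1⟩, rfl⟩
    · rintro ⟨⟨c', hc'⟩, rfl⟩
      exact Subtype.ext ((hI c').mp hc')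
  have hsurj : Function.Surjective Ψ.rangeRestrict.toLinearMap := Ψ.rangeRestrict_surjective
  have hex2 := rTensor_exact M hexact hsurj
  have hd : Ψ.rangeRestrict.toLinearMap.rTensor M (q - q') = 0 := by
    rw [map_sub, h, sub_self]
  obtain ⟨e, he⟩ := (hex2 (q - q')).mp hd
  have key : ∀ (e : ↥I ⊗[A] M) (q₀ : MvPolynomial (Fin k) A ⊗[A] M),
      Ψ.toLinearMap.rTensor N (T k (q₀ + I.subtype.rTensor M e)) =
        Ψ.toLinearMap.rTensor N (T k q₀) := by
    intro e
    induction e using TensorProduct.induction_on with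
    | zero => intro q₀; rw [map_zero, add_zero]
    | tmul g m =>
      intro q₀
      rw [LinearMap.rTensor_tmul]
      exact step T hT k Ψ q₀ (g : MvPolynomial (Fin k) A) ((hI _).mp g.2) m
    | add e₁ e₂ ih₁ ih₂ =>
      intro q₀
      rw [map_add, ← add_assoc, ih₂, ih₁]
  have hq : q = q' + I.subtype.rTensor M e := by rw [he]; abel
  rw [hq, key e q']

include hT in
lemma inc {S : Type u} [CommSemiring S] [Algebra A S] (n m : ℕ)
    (φ : MvPolynomial (Fin n) A →ₐ[A] S) (ψ : MvPolynomial (Fin m) A →ₐ[A] S)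
    (hle : φ.range ≤ ψ.range) (p : MvPolynomial (Fin n) A ⊗[A] M)
    (q : MvPolynomial (Fin m) A ⊗[A] M)
    (hpq : ((Subalgebra.inclusion hle).comp φ.rangeRestrict).toLinearMap.rTensor M p =
      ψ.rangeRestrict.toLinearMap.rTensor M q) :
    φ.toLinearMap.rTensor N (T n p) = ψ.toLinearMap.rTensor N (T m q) := by
  have hc : ∀ i : Fin n, ∃ c : MvPolynomial (Fin m) A, ψ c = φ (X i) := by
    intro i
    have : φ (X i) ∈ ψ.range := hle ⟨X i, rfl⟩
    exact this
  choose c hc using hc
  let γ : MvPolynomial (Fin n) A →ₐ[A] MvPolynomial (Fin m) A := aeval c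
  have hγ : ψ.comp γ = φ := by
    apply MvPolynomial.algHom_ext
    intro i
    simp [γ, hc]
  have hγ2 : ψ.rangeRestrict.comp γ = (Subalgebra.inclusion hle).comp φ.rangeRestrict := by
    apply MvPolynomial.algHom_ext
    intro i
    apply Subtype.ext
    simp [γ, hc]
  have h1 : φ.toLinearMap.rTensor N (T n p) =
      ψ.toLinearMap.rTensor N (T m (γ.toLinearMap.rTensor M p)) := by
    rw [← hT_apply T hT, ← LinearMap.comp_apply, ← LinearMap.rTensor_comp,
      ← AlgHom.comp_toLinearMap, hγ]
  rw [h1]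
  apply core T hT
  rw [← LinearMap.comp_apply, ← LinearMap.rTensor_comp, ← AlgHom.comp_toLinearMap, hγ2, hpq]

include hT in
lemma wd {S : Type u} [CommSemiring S] [Algebra A S] (n n' : ℕ)
    (ψ : MvPolynomial (Fin n) A →ₐ[A] S) (ψ' : MvPolynomial (Fin n') A →ₐ[A] S)
    (p : MvPolynomial (Fin n) A ⊗[A] M) (p' : MvPolynomial (Fin n') A ⊗[A] M)
    (h : ψ.toLinearMap.rTensor M p = ψ'.toLinearMap.rTensor M p') :
    ψ.toLinearMap.rTensor N (T n p) = ψ'.toLinearMap.rTensor N (T n' p') := by
  set u := rTensor M ψ.rangeRestrict.toLinearMap p with hu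
  have uFG : Subalgebra.FG (R := A) ψ.range := by
    rw [← Algebra.map_top]
    exact Subalgebra.FG.map _ Algebra.FiniteType.out
  set u' := rTensor M ψ'.rangeRestrict.toLinearMap p' with hu'
  have u'FG : Subalgebra.FG (R := A) ψ'.range := by
    rw [← Algebra.map_top]
    exact Subalgebra.FG.map _ Algebra.FiniteType.out
  have huu' : rTensor M (Subalgebra.val _).toLinearMap u =
      rTensor M (Subalgebra.val _).toLinearMap u' := by
    simp only [hu, hu', ← LinearMap.comp_apply, ← rTensor_comp, ← AlgHom.comp_toLinearMap,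
      AlgHom.val_comp_rangeRestrict, h]
  obtain ⟨B, hAB, hA'B, ⟨t, hB⟩, h2⟩ :=
    TensorProduct.Algebra.eq_of_fg_of_subtype_eq' (R := A) uFG u'FG huu'
  rw [← PolynomialLaw.range_φ A t, eq_comm] at hB
  have hAB' : ψ.range ≤ (PolynomialLaw.φ A t).range := le_trans hAB (le_of_eq hB)
  have hA'B' : ψ'.range ≤ (PolynomialLaw.φ A t).range := le_trans hA'B (le_of_eq hB)
  obtain ⟨q, hq⟩ : ∃ q : MvPolynomial (Fin t.card) A ⊗[A] M,
      rTensor M (PolynomialLaw.φ A t).rangeRestrict.toLinearMap q =
      rTensor M ((Subalgebra.inclusion (le_of_eq hB)).comp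
        (Subalgebra.inclusion hAB)).toLinearMap u :=
    rTensor_surjective _ (AlgHom.rangeRestrict_surjective _) _
  have hq' : rTensor M (PolynomialLaw.φ A t).rangeRestrict.toLinearMap q =
      rTensor M ((Subalgebra.inclusion (le_of_eq hB)).comp
        (Subalgebra.inclusion hA'B)).toLinearMap u' := by
    rw [hq, AlgHom.comp_toLinearMap, rTensor_comp, LinearMap.comp_apply, h2,
      AlgHom.comp_toLinearMap, rTensor_comp, LinearMap.comp_apply]
  rw [inc T hT n t.card ψ (PolynomialLaw.φ A t) hAB' p q ?_,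
    inc T hT n' t.card ψ' (PolynomialLaw.φ A t) hA'B' p' q ?_]
  · rw [hq', hu', ← LinearMap.comp_apply, ← rTensor_comp, ← AlgHom.comp_toLinearMap]
    rfl
  · rw [hq, hu, ← LinearMap.comp_apply, ← rTensor_comp, ← AlgHom.comp_toLinearMap]
    rfl

/-- The value of the polynomial law attached to a compatible family. -/
noncomputable def toFunAux (S : Type u) [CommSemiring S] [Algebra A S] (z : S ⊗[A] M) :
    S ⊗[A] N :=
  (PolynomialLaw.exists_lift (R := A) z).choose_spec.choose.toLinearMap.rTensor N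
    (T (PolynomialLaw.exists_lift (R := A) z).choose
      (PolynomialLaw.exists_lift (R := A) z).choose_spec.choose_spec.choose)

include hT in
lemma toFunAux_eq {S : Type u} [CommSemiring S] [Algebra A S] (z : S ⊗[A] M) (n : ℕ)
    (ψ : MvPolynomial (Fin n) A →ₐ[A] S) (p : MvPolynomial (Fin n) A ⊗[A] M)
    (h : ψ.toLinearMap.rTensor M p = z) :
    toFunAux T S z = ψ.toLinearMap.rTensor N (T n p) := by
  unfold toFunAux
  apply wd T hT
  rw [(PolynomialLaw.exists_lift (R := A) z).choose_spec.choose_spec.choose_spec, h]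

/-- The polynomial law attached to a compatible family. -/
noncomputable def lawOf : M →ₚₗ[A] N where
  toFun' S _ _ := toFunAux T S
  isCompat' := by
    intro S _ _ S' _ _ φ
    funext z
    obtain ⟨n, ψ, p, hz⟩ := PolynomialLaw.exists_lift (R := A) z
    show φ.toLinearMap.rTensor N (toFunAux T S z) = toFunAux T S' (φ.toLinearMap.rTensor M z)
    rw [toFunAux_eq T hT z n ψ p hz,
      toFunAux_eq T hT (φ.toLinearMap.rTensor M z) n (φ.comp ψ) p
        (by rw [AlgHom.comp_toLinearMap, rTensor_comp, LinearMap.comp_apply, hz]),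
      AlgHom.comp_toLinearMap, rTensor_comp, LinearMap.comp_apply]

end aux



/-- Let M and N be A-modules. Polynomial laws M → N correspond one-to-one, by restriction, to families
of maps T_n : M[t_1, …, t_n] → N[t_1, …, t_n], n ≥ 0, compatible with all A-algebra homomorphisms
A[t_1, …, t_n] → A[t_1, …, t_m]: in the definition of a polynomial law the category of A-algebras
may be replaced by the polynomial rings in finitely many variables. (Here a polynomial law is given
on all commutative A-algebra semirings of the universe of A.) -/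
theorem result {A : Type u} [CommRing A] {M : Type v} [AddCommGroup M] [Module A M] {N : Type w} [AddCommGroup N] [Module A N] :
    Function.Bijective (fun F : M →ₚₗ[A] N =>
      (⟨fun n => F.toFun' (MvPolynomial (Fin n) A), fun n m φ => F.isCompat' φ⟩ :
        {T : ∀ n : ℕ, MvPolynomial (Fin n) A ⊗[A] M → MvPolynomial (Fin n) A ⊗[A] N //
          ∀ (n m : ℕ) (φ : MvPolynomial (Fin n) A →ₐ[A] MvPolynomial (Fin m) A),
            φ.toLinearMap.rTensor N ∘ T n = T m ∘ φ.toLinearMap.rTensor M})) := by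
  constructor
  · intro F G hFG
    have h1 : ∀ n : ℕ, F.toFun' (MvPolynomial (Fin n) A) = G.toFun' (MvPolynomial (Fin n) A) := by
      intro n
      have := congrArg Subtype.val hFG
      exact congrFun this n
    apply PolynomialLaw.ext
    funext S _ _ z
    obtain ⟨n, ψ, p, hz⟩ := PolynomialLaw.exists_lift (R := A) z
    rw [← hz, ← PolynomialLaw.isCompat_apply', ← PolynomialLaw.isCompat_apply', h1 n]
  · rintro ⟨T, hT⟩
    refine ⟨lawOf T hT, ?_⟩
    apply Subtype.ext
    funext n z
    show toFunAux T (MvPolynomial (Fin n) A) z = T n z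
    rw [toFunAux_eq T hT z n (AlgHom.id A _) z (by simp)]
    simp


end Groth.Agent.S13174
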