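import Groth.Statements.S13699
import Mathlib

set_option autoImplicit false
universe u
open scoped TensorProduct
open ZeroCyc

namespace Groth.Agent.S13699

open Polynomial

section

variable {A : Type u} [CommRing A] {B : Type u} [CommRing B] [Algebra A B]
  {C : Type u} [CommRing C] [Algebra A C]

theorem mem_kerBC_iff (F : B →ₚₗ[A] C) (A' : Type u) [CommRing A'] [Algebra A A']
    (b' : A' ⊗[A] B) :
    b' ∈ PolLaw.kerBC F A' ↔ ∀ (R : Type u) [CommSemiring R] [Algebra A R] (ψ : A' →ₐ[A] R)
      (x w : R ⊗[A] B),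
      F.toFun' R (x + w * Algebra.TensorProduct.map ψ (AlgHom.id A B) b') = F.toFun' R x := by
  constructor
  · intro hb R _ _ ψ x w
    letI : Algebra A' R := ψ.toRingHom.toAlgebra
    haveI : IsScalarTower A A' R :=
      IsScalarTower.of_algebraMap_eq (fun a => (ψ.commutes a).symm)
    have hb' : ∀ (R : Type u) [CommSemiring R] [Algebra A R] [Algebra A' R]
        [IsScalarTower A A' R] (x w : R ⊗[A] B),
        F.toFun' R (x + w * Algebra.TensorProduct.map (IsScalarTower.toAlgHom A A' R)
          (AlgHom.id A B) b') = F.toFun' R x := hb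
    have h := hb' R x w
    have hψ : IsScalarTower.toAlgHom A A' R = ψ := by
      ext a
      rfl
    rw [hψ] at h
    exact h
  · intro h
    change ∀ (R : Type u) [CommSemiring R] [Algebra A R] [Algebra A' R]
        [IsScalarTower A A' R] (x w : R ⊗[A] B),
        F.toFun' R (x + w * Algebra.TensorProduct.map (IsScalarTower.toAlgHom A A' R)
          (AlgHom.id A B) b') = F.toFun' R x
    intro R _ _ _ _ x w
    exact h R (IsScalarTower.toAlgHom A A' R) x w

theorem map_ker_le_kerBC (F : B →ₚₗ[A] C) (A' : Type u) [CommRing A'] [Algebra A A'] :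
    (PolLaw.ker F).map (Algebra.TensorProduct.includeRight : B →ₐ[A] A' ⊗[A] B) ≤
      PolLaw.kerBC F A' := by
  rw [Ideal.map_le_iff_le_comap]
  intro b hb
  rw [Ideal.mem_comap, mem_kerBC_iff]
  intro R _ _ ψ x w
  have hb' : ∀ (S : Type u) [CommSemiring S] [Algebra A S] (x w : S ⊗[A] B),
      F.toFun' S (x + w * (1 ⊗ₜ[A] b)) = F.toFun' S x := hb
  have h1 : Algebra.TensorProduct.map ψ (AlgHom.id A B)
      ((Algebra.TensorProduct.includeRight : B →ₐ[A] A' ⊗[A] B) b) = 1 ⊗ₜ[A] b := by
    simp
  rw [h1]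
  exact hb' R x w

theorem rTensor_algHom_apply' {S S' : Type u} [CommSemiring S] [Algebra A S] [CommSemiring S']
    [Algebra A S'] (φ : S →ₐ[A] S') (x : S ⊗[A] B) :
    φ.toLinearMap.rTensor B x = Algebra.TensorProduct.map φ (AlgHom.id A B) x := by
  induction x using TensorProduct.induction_on with
  | zero => simp
  | tmul a b => rfl
  | add a b ha hb => simp [ha, hb]

theorem smul_cancel_of_monic {R : Type u} [CommSemiring R] [Algebra A R] (ρ : R) (d : ℕ)
    (P Q : R[X] ⊗[A] A)
    (h : (Polynomial.C ρ + X : R[X]) ^ d • P = (Polynomial.C ρ + X : R[X]) ^ d • Q) : P = Q := by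
  have hreg : IsRegular ((Polynomial.C ρ + X : R[X]) ^ d) := by
    letI : Ring R := Algebra.semiringToRing A
    have hm : (X + Polynomial.C ρ : R[X]).Monic := monic_X_add_C ρ
    rw [add_comm]
    exact (hm.pow d).isRegular
  let e := TensorProduct.AlgebraTensorModule.rid A R[X] R[X]
  have h' := congrArg e h
  rw [map_smul, map_smul, smul_eq_mul, smul_eq_mul] at h'
  exact e.injective (hreg.left h')

theorem kerBC_of_X_mul {d : ℕ} (F : PolLaw.MulLaw A B A d) (c : A[X] ⊗[A] B)
    (hc : ((X : A[X]) ⊗ₜ[A] (1 : B)) * c ∈ PolLaw.kerBC F.law A[X]) :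
    c ∈ PolLaw.kerBC F.law A[X] := by
  rw [mem_kerBC_iff] at hc ⊢
  intro R _ _ ψ x w
  let ψ' : A[X] →ₐ[A] R[X] := aeval (C (ψ X) + X)
  let ιC : R →ₐ[A] R[X] := CAlgHom
  let ε₀ : R[X] →ₐ[A] R := (aeval (0 : R)).restrictScalars A
  have hεψ : ε₀.comp ψ' = ψ := by
    apply Polynomial.algHom_ext
    simp [ε₀, ψ']
  have hει : ε₀.comp ιC = AlgHom.id A R := by
    ext r
    simp [ε₀, ιC]
  have hET : ∀ z, Algebra.TensorProduct.map ε₀ (AlgHom.id A B)
      (Algebra.TensorProduct.map ψ' (AlgHom.id A B) z) =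
        Algebra.TensorProduct.map ψ (AlgHom.id A B) z := by
    intro z
    rw [← AlgHom.comp_apply, ← Algebra.TensorProduct.map_comp, hεψ, AlgHom.comp_id]
  have hEI : ∀ z, Algebra.TensorProduct.map ε₀ (AlgHom.id A B)
      (Algebra.TensorProduct.map ιC (AlgHom.id A B) z) = z := by
    intro z
    rw [← AlgHom.comp_apply, ← Algebra.TensorProduct.map_comp, hει, AlgHom.comp_id,
      Algebra.TensorProduct.map_id, AlgHom.id_apply]
  have hTX : Algebra.TensorProduct.map ψ' (AlgHom.id A B) ((X : A[X]) ⊗ₜ[A] (1 : B)) =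
      (C (ψ X) + X : R[X]) ⊗ₜ[A] (1 : B) := by
    simp [ψ']
  have key : F.law.toFun' R[X] (Algebra.TensorProduct.map ιC (AlgHom.id A B) x +
      Algebra.TensorProduct.map ιC (AlgHom.id A B) w *
        Algebra.TensorProduct.map ψ' (AlgHom.id A B) c) =
      F.law.toFun' R[X] (Algebra.TensorProduct.map ιC (AlgHom.id A B) x) := by
    have h1 := hc R[X] ψ' ((C (ψ X) + X : R[X]) • Algebra.TensorProduct.map ιC (AlgHom.id A B) x)
      (Algebra.TensorProduct.map ιC (AlgHom.id A B) w)
    rw [map_mul, hTX] at h1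
    have h2 : (C (ψ X) + X : R[X]) • (Algebra.TensorProduct.map ιC (AlgHom.id A B) x +
        Algebra.TensorProduct.map ιC (AlgHom.id A B) w *
          Algebra.TensorProduct.map ψ' (AlgHom.id A B) c) =
        (C (ψ X) + X : R[X]) • Algebra.TensorProduct.map ιC (AlgHom.id A B) x +
          Algebra.TensorProduct.map ιC (AlgHom.id A B) w *
            (((C (ψ X) + X : R[X]) ⊗ₜ[A] (1 : B)) *
              Algebra.TensorProduct.map ψ' (AlgHom.id A B) c) := by
      rw [smul_add, Algebra.smul_def ((C (ψ X) + X : R[X]))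
        (Algebra.TensorProduct.map ιC (AlgHom.id A B) w *
          Algebra.TensorProduct.map ψ' (AlgHom.id A B) c),
        Algebra.TensorProduct.algebraMap_apply, Algebra.algebraMap_self, RingHom.id_apply]
      ring
    have h3 := F.homog R[X] (C (ψ X) + X : R[X]) (Algebra.TensorProduct.map ιC (AlgHom.id A B) x +
        Algebra.TensorProduct.map ιC (AlgHom.id A B) w *
          Algebra.TensorProduct.map ψ' (AlgHom.id A B) c)
    have h4 := F.homog R[X] (C (ψ X) + X : R[X]) (Algebra.TensorProduct.map ιC (AlgHom.id A B) x)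
    rw [h2, h1, h4] at h3
    exact (smul_cancel_of_monic (ψ X) d _ _ h3).symm
  have h5 := congrArg (ε₀.toLinearMap.rTensor A) key
  rw [F.law.isCompat_apply', F.law.isCompat_apply', rTensor_algHom_apply',
    rTensor_algHom_apply', map_add, map_mul, hEI, hEI, hET] at h5
  exact h5

end


/-- Let F : B → A be a multiplicative polynomial law homogeneous of degree d over the commutative ring
A. Then the kernel of the base change of F to the polynomial ring A[X] is the ideal of A[X] ⊗_A B
generated by the kernel of F. -/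
theorem result {A : Type u} [CommRing A] {B : Type u} [CommRing B] [Algebra A B]
    {d : ℕ} (F : PolLaw.MulLaw A B A d) :
    (PolLaw.ker F.law).map (Algebra.TensorProduct.includeRight : B →ₐ[A] Polynomial A ⊗[A] B) =
      PolLaw.kerBC F.law (Polynomial A) := by
  apply le_antisymm (map_ker_le_kerBC F.law A[X])
  let τ : B[X] ≃ₐ[A] A[X] ⊗[A] B :=
    (polyEquivTensor A B).trans (Algebra.TensorProduct.comm A B A[X])
  have hτC : ∀ b : B, τ (C b) = (1 : A[X]) ⊗ₜ[A] b := by
    intro b
    simp [τ, polyEquivTensor_apply]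
  have hτX : τ X = (X : A[X]) ⊗ₜ[A] (1 : B) := by
    simp [τ, polyEquivTensor_apply]
  have hJle := map_ker_le_kerBC F.law A[X]
  have main : ∀ q : B[X], τ q ∈ PolLaw.kerBC F.law A[X] →
      τ q ∈ (PolLaw.ker F.law).map
        (Algebra.TensorProduct.includeRight : B →ₐ[A] Polynomial A ⊗[A] B) := by
    intro q
    induction q using Polynomial.recOnHorner with
    | M0 =>
      intro _
      rw [map_zero]
      exact zero_mem _
    | MC q a hq0 ha ih =>
      intro h
      rw [map_add, hτC] at h ⊢
      have ha' : a ∈ PolLaw.ker F.law := by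
        change ∀ (S : Type u) [CommSemiring S] [Algebra A S] (x w : S ⊗[A] B),
          F.law.toFun' S (x + w * (1 ⊗ₜ[A] a)) = F.law.toFun' S x
        intro S _ _ x w
        have h1 := (mem_kerBC_iff F.law A[X] _).mp h S (aeval (0 : S)) x w
        have hq : q = divX q * X := by
          have h6 := divX_mul_X_add q
          rw [hq0, C_0, add_zero] at h6
          exact h6.symm
        have h2 : Algebra.TensorProduct.map (aeval (0 : S)) (AlgHom.id A B) (τ q) = 0 := by
          rw [hq, map_mul, hτX, map_mul]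
          simp
        rw [map_add, h2, zero_add] at h1
        simpa using h1
      have h3 : (1 : A[X]) ⊗ₜ[A] a ∈ (PolLaw.ker F.law).map
          (Algebra.TensorProduct.includeRight : B →ₐ[A] Polynomial A ⊗[A] B) :=
        Ideal.mem_map_of_mem _ ha'
      have h4 : τ q ∈ PolLaw.kerBC F.law A[X] := by
        have h7 := sub_mem h (hJle h3)
        rwa [add_sub_cancel_right] at h7
      exact add_mem (ih h4) h3
    | MX q hq ih =>
      intro h
      rw [map_mul, hτX, mul_comm] at h ⊢
      exact Ideal.mul_mem_left _ _ (ih (kerBC_of_X_mul F _ h))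
  intro b' hb'
  obtain ⟨q, rfl⟩ := τ.surjective b'
  exact main q hb'

end Groth.Agent.S13699
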