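import Groth.Statements.S13697
import Mathlib
import Groth.Agent.Lib.Helper6.CHPoly

set_option autoImplicit false
universe u
open scoped TensorProduct
open ZeroCyc

namespace Groth.Agent.S13697


open Groth.Agent.Lib.helper6.CHLaw Groth.Agent.Lib.helper6.CHLaw2 Groth.Agent.Lib.helper6.CHPoly



/-- Let F : B → A be a multiplicative polynomial law homogeneous of degree d over the commutative ring
A, and let A' be any commutative A-algebra. The kernel of the base change of F to A' (an ideal of A'
⊗_A B) and the extension to A' ⊗_A B of the kernel of F have the same radical. In other words the
support (reduced image) of a family of zero-cycles of degree d on Spec B over Spec A commutes with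
every base change Spec A' → Spec A. (The published statement is for X affine over an algebraic space
S; this row is the case of an affine base, to which the general case reduces.) -/
theorem result {A : Type u} [CommRing A] {B : Type u} [CommRing B] [Algebra A B]
    {d : ℕ} (F : PolLaw.MulLaw A B A d) (A' : Type u) [CommRing A'] [Algebra A A'] :
    (PolLaw.kerBC F.law A').radical =
      ((PolLaw.ker F.law).map (Algebra.TensorProduct.includeRight : B →ₐ[A] A' ⊗[A] B)).radical := by
  apply le_antisymm
  · rw [Ideal.radical_le_radical_iff]
    intro t ht
    have h1 := chi_of_mem_kerBC F A' t ht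
    have h2 := ch_ext F A' t
    rw [h1] at h2
    have h3 : Polynomial.aeval t ((-Polynomial.X : Polynomial A') ^ d) = (-t) ^ d := by simp
    rw [h3] at h2
    exact (Ideal.neg_mem_iff _).mp (Ideal.mem_radical_iff.mpr ⟨d, h2⟩)
  · exact Ideal.radical_mono (Groth.Agent.S13699.map_ker_le_kerBC F.law A')


end Groth.Agent.S13697
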