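import Groth.Statements.S13695
import Mathlib
import Groth.Agent.Lib.Helper6.CHMonic

set_option autoImplicit false
universe u
open scoped TensorProduct
open ZeroCyc

namespace Groth.Agent.S13695


open Groth.Agent.Lib.helper6.CHLaw Groth.Agent.Lib.helper6.CHMonic



/-- For a commutative ring A, a commutative A-algebra B and a multiplicative polynomial law F : B → A
homogeneous of degree d, the quotient of B by the kernel of F (the largest ideal I of B such that F
factors through B/I) is integral over A. Geometrically: the image of a family of zero-cycles of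
degree d on Spec B parametrised by Spec A is integral over Spec A. -/
theorem result {A : Type u} [CommRing A] {B : Type u} [CommRing B] [Algebra A B]
    {d : ℕ} (F : PolLaw.MulLaw A B A d) :
    Algebra.IsIntegral A (PolLaw.image F.law) := by
  refine ⟨fun z => ?_⟩
  obtain ⟨b, rfl⟩ := Ideal.Quotient.mk_surjective z
  refine ⟨Polynomial.C ((-1 : A) ^ d) * chi0 F b, chi0_monic F b, ?_⟩
  rw [← Polynomial.aeval_def]
  have h := Polynomial.aeval_algHom_apply (Ideal.Quotient.mkₐ A (PolLaw.ker F.law)) b
    (Polynomial.C ((-1 : A) ^ d) * chi0 F b)
  rw [Ideal.Quotient.mkₐ_eq_mk] at h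
  rw [h]
  exact Ideal.Quotient.eq_zero_iff_mem.mpr (aeval_monic_mem_ker F b)


end Groth.Agent.S13695
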