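import Groth.Statements.S15697
import Mathlib
import Groth.Agent.Lib.Helper6.Speiser

set_option autoImplicit false
universe u
open InvFld

namespace Groth.Agent.S15697

section core

open Groth.Agent.Lib.helper6

variable {k L : Type*} [Field k] [Field L] [Algebra k L]

theorem noname_core (L0 : IntermediateField k L) (m : ℕ) (t : Fin m → L)
    (G : Subgroup (L ≃ₐ[k] L)) [Finite G]
    (hL0 : ∀ σ ∈ G, ∀ a ∈ L0, σ a ∈ L0)
    (ht : ∀ σ ∈ G, ∀ i, σ (t i) = t i)
    (htind : AlgebraicIndependent ↥L0 t)
    (hgen : ∀ z : L, ∃ P Q : MvPolynomial (Fin m) ↥L0, MvPolynomial.aeval t Q ≠ 0 ∧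
      z = MvPolynomial.aeval t P / MvPolynomial.aeval t Q) :
    AlgebraicIndependent ↥(L0 ⊓ IntermediateField.fixedField G) t ∧
    IntermediateField.restrictScalars k (IntermediateField.adjoin
      ↥(L0 ⊓ IntermediateField.fixedField G) (Set.range t)) = IntermediateField.fixedField G := by
  classical
  haveI : Fintype ↥G := Fintype.ofFinite _
  have hFL0 : L0 ⊓ IntermediateField.fixedField G ≤ L0 := inf_le_left
  have htinj := algebraicIndependent_iff_injective_aeval.mp htind
  constructor
  · rw [algebraicIndependent_iff_injective_aeval]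
    obtain ⟨j, hj⟩ : ∃ j : ↥(L0 ⊓ IntermediateField.fixedField G) →+* ↥L0,
        (algebraMap ↥L0 L).comp j = algebraMap ↥(L0 ⊓ IntermediateField.fixedField G) L :=
      ⟨(IntermediateField.inclusion hFL0).toRingHom, RingHom.ext fun a => rfl⟩
    have h1 : ∀ P : MvPolynomial (Fin m) ↥(L0 ⊓ IntermediateField.fixedField G),
        MvPolynomial.aeval t P = MvPolynomial.aeval t (MvPolynomial.map j P) := by
      intro P
      rw [MvPolynomial.aeval_def, MvPolynomial.aeval_def, MvPolynomial.eval₂_map, hj]
    intro P Q hPQ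
    rw [h1, h1] at hPQ
    exact MvPolynomial.map_injective j j.injective (htinj hPQ)
  · -- restricted automorphisms
    obtain ⟨s0, hs0⟩ : ∃ s0 : ↥G → (↥L0 →+* ↥L0), ∀ (σ : ↥G) (a : ↥L0),
        ((s0 σ a : ↥L0) : L) = σ.1 (a : L) :=
      ⟨fun σ => RingHom.restrict ((σ.1 : L ≃ₐ[k] L).toAlgHom.toRingHom) L0 L0
        (fun a ha => hL0 σ.1 σ.2 a ha), fun σ a => rfl⟩
    have hact : ∀ (σ : ↥G) (P : MvPolynomial (Fin m) ↥L0),
        σ.1 (MvPolynomial.aeval t P) = MvPolynomial.aeval t (MvPolynomial.map (s0 σ) P) := by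
      intro σ P
      induction P using MvPolynomial.induction_on with
      | C a =>
        rw [MvPolynomial.map_C, MvPolynomial.aeval_C, MvPolynomial.aeval_C]
        exact (hs0 σ a).symm
      | add p q hp hq => rw [map_add, map_add, map_add, map_add, hp, hq]
      | mul_X p i hp =>
        rw [map_mul, map_mul, map_mul, map_mul, hp, MvPolynomial.aeval_X, MvPolynomial.map_X,
          MvPolynomial.aeval_X, ht σ.1 σ.2]
    have hcoef : ∀ P : MvPolynomial (Fin m) ↥L0,
        MvPolynomial.aeval t P ∈ IntermediateField.fixedField G →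
        MvPolynomial.aeval t P ∈ IntermediateField.adjoin
          ↥(L0 ⊓ IntermediateField.fixedField G) (Set.range t) := by
      intro P hP
      have hmap : ∀ σ : ↥G, MvPolynomial.map (s0 σ) P = P := by
        intro σ
        apply htinj
        rw [← hact]
        exact (IntermediateField.mem_fixedField_iff G _).mp hP σ.1 σ.2
      have hcoeffF : ∀ d, ((P.coeff d : ↥L0) : L) ∈ L0 ⊓ IntermediateField.fixedField G := by
        intro d
        rw [IntermediateField.mem_inf]
        refine ⟨(P.coeff d).2, ?_⟩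
        rw [IntermediateField.mem_fixedField_iff]
        intro σ hσ
        have h1 := congrArg (MvPolynomial.coeff d) (hmap ⟨σ, hσ⟩)
        rw [MvPolynomial.coeff_map] at h1
        have h2 := congrArg (fun a : ↥L0 => (a : L)) h1
        simp only [hs0] at h2
        exact h2
      rw [MvPolynomial.aeval_def, MvPolynomial.eval₂_eq]
      refine sum_mem (fun d _ => mul_mem ?_ (prod_mem (fun i _ =>
        pow_mem (IntermediateField.subset_adjoin _ _ (Set.mem_range_self i)) _)))
      have h3 : algebraMap ↥L0 L (P.coeff d) =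
          algebraMap ↥(L0 ⊓ IntermediateField.fixedField G) L
            (⟨((P.coeff d : ↥L0) : L), hcoeffF d⟩ : ↥(L0 ⊓ IntermediateField.fixedField G)) := rfl
      rw [h3]
      exact IntermediateField.algebraMap_mem _ _
    apply SetLike.ext
    intro z
    rw [IntermediateField.mem_restrictScalars]
    constructor
    · intro hz
      have hle : IntermediateField.adjoin ↥(L0 ⊓ IntermediateField.fixedField G) (Set.range t) ≤
          IntermediateField.extendScalars
            (inf_le_right : L0 ⊓ IntermediateField.fixedField G ≤ IntermediateField.fixedField G) := by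
        rw [IntermediateField.adjoin_le_iff]
        rintro _ ⟨i, rfl⟩
        show t i ∈ IntermediateField.fixedField G
        rw [IntermediateField.mem_fixedField_iff]
        intro σ hσ
        exact ht σ hσ i
      exact hle hz
    · intro hz
      obtain ⟨P, Q, hQ, rfl⟩ := hgen z
      have hQ'eq : MvPolynomial.aeval t (∏ σ : ↥G, MvPolynomial.map (s0 σ) Q) =
          ∏ σ : ↥G, σ.1 (MvPolynomial.aeval t Q) := by
        rw [map_prod]
        exact Finset.prod_congr rfl (fun σ _ => (hact σ Q).symm)
      have hQ'ne : MvPolynomial.aeval t (∏ σ : ↥G, MvPolynomial.map (s0 σ) Q) ≠ 0 := by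
        rw [hQ'eq, Finset.prod_ne_zero_iff]
        intro σ _ h0
        apply hQ
        have h1 := congrArg σ.1.symm h0
        rw [AlgEquiv.symm_apply_apply, map_zero] at h1
        exact h1
      have hQ'fix : MvPolynomial.aeval t (∏ σ : ↥G, MvPolynomial.map (s0 σ) Q) ∈
          IntermediateField.fixedField G := by
        rw [hQ'eq, IntermediateField.mem_fixedField_iff]
        intro τ hτ
        rw [map_prod]
        have h2 : ∀ σ : ↥G, τ (σ.1 (MvPolynomial.aeval t Q)) =
            ((⟨τ, hτ⟩ : ↥G) * σ).1 (MvPolynomial.aeval t Q) := fun σ => rfl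
        simp only [h2]
        exact Equiv.prod_comp (Equiv.mulLeft (⟨τ, hτ⟩ : ↥G))
          (fun σ : ↥G => σ.1 (MvPolynomial.aeval t Q))
      have hP''eq : MvPolynomial.aeval t
          (P * ∏ σ ∈ (Finset.univ : Finset ↥G).erase 1, MvPolynomial.map (s0 σ) Q) =
          (MvPolynomial.aeval t P / MvPolynomial.aeval t Q) *
            MvPolynomial.aeval t (∏ σ : ↥G, MvPolynomial.map (s0 σ) Q) := by
        rw [hQ'eq, ← Finset.mul_prod_erase Finset.univ
          (fun σ : ↥G => σ.1 (MvPolynomial.aeval t Q)) (Finset.mem_univ 1), map_mul, map_prod]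
        have h3 : ∀ σ : ↥G, MvPolynomial.aeval t (MvPolynomial.map (s0 σ) Q) =
            σ.1 (MvPolynomial.aeval t Q) := fun σ => (hact σ Q).symm
        simp only [h3]
        have h4 : ((1 : ↥G).1) (MvPolynomial.aeval t Q) = MvPolynomial.aeval t Q := rfl
        rw [h4, ← mul_assoc, div_mul_cancel₀ _ hQ]
      have hP''fix : MvPolynomial.aeval t
          (P * ∏ σ ∈ (Finset.univ : Finset ↥G).erase 1, MvPolynomial.map (s0 σ) Q) ∈
          IntermediateField.fixedField G := by
        rw [hP''eq]
        exact mul_mem hz hQ'fix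
      have hz' : MvPolynomial.aeval t P / MvPolynomial.aeval t Q =
          MvPolynomial.aeval t
            (P * ∏ σ ∈ (Finset.univ : Finset ↥G).erase 1, MvPolynomial.map (s0 σ) Q) /
          MvPolynomial.aeval t (∏ σ : ↥G, MvPolynomial.map (s0 σ) Q) :=
        eq_div_of_mul_eq hQ'ne hP''eq.symm
      rw [hz']
      exact div_mem (hcoef _ hP''fix) (hcoef _ hQ'fix)

end core

section setup

open Groth.Agent.Lib.helper6
open scoped IntermediateField.algebraAdjoinAdjoin

variable (k : Type u) [Field k] (n m : ℕ)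

/-- the family of all variables of `Fld (Fin n ⊕ Fin m) k` is algebraically independent. -/
theorem algInd_X : AlgebraicIndependent k
    (fun i : Fin n ⊕ Fin m => (InvFld.X i : InvFld.Fld (Fin n ⊕ Fin m) k)) := by
  have h1 := MvPolynomial.algebraicIndependent_X (Fin n ⊕ Fin m) k
  exact h1.map' (f := IsScalarTower.toAlgHom k (MvPolynomial (Fin n ⊕ Fin m) k)
    (InvFld.Fld (Fin n ⊕ Fin m) k)) (IsFractionRing.injective _ _)

theorem algInd_y : AlgebraicIndependent
    ↥(IntermediateField.adjoin k (Set.range fun j : Fin n =>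
      (InvFld.X (Sum.inl j) : InvFld.Fld (Fin n ⊕ Fin m) k)))
    (fun j : Fin m => (InvFld.X (Sum.inr j) : InvFld.Fld (Fin n ⊕ Fin m) k)) := by
  have h1 := (algInd_X k n m).comp (Sum.swap : Fin m ⊕ Fin n → Fin n ⊕ Fin m)
    (fun a b h => by
      have h0 := congrArg Sum.swap h
      rw [Sum.swap_swap, Sum.swap_swap] at h0
      exact h0)
  have h2 : ((fun i : Fin n ⊕ Fin m => (InvFld.X i : InvFld.Fld (Fin n ⊕ Fin m) k)) ∘
      (Sum.swap : Fin m ⊕ Fin n → Fin n ⊕ Fin m)) =
      Sum.elim (fun j : Fin m => (InvFld.X (Sum.inr j) : InvFld.Fld (Fin n ⊕ Fin m) k))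
        (fun j : Fin n => (InvFld.X (Sum.inl j) : InvFld.Fld (Fin n ⊕ Fin m) k)) := by
    funext i
    cases i <;> rfl
  rw [h2] at h1
  have h3 := (AlgebraicIndependent.sumElim_iff.mp h1).2
  exact h3.extendScalars _

end setup



/-- Let k be a characteristic-zero field and suppose a finite group acts k-linearly on
finite-dimensional k-vector spaces V and W, faithfully on V. Then k(V ⊕ W)^G is purely
transcendental over k(V)^G, of transcendence degree dim W. Stated with V = k^n, W = k^m inside L =
k(x_1, ..., x_n, y_1, ..., y_m): G is a finite group of k-algebra automorphisms of L sending each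
x_i into the k-span of the x's and each y_j into the k-span of the y's, such that an element of G
fixing every x_i is trivial; F is the intersection of k(x_1, ..., x_n) with the fixed field of G;
then there are y'_1, ..., y'_m in L, algebraically independent over F, with F(y'_1, ..., y'_m) equal
to the fixed field of G. -/
theorem result (k : Type u) [Field k] [CharZero k] (n m : ℕ)
    (G : Subgroup (InvFld.Fld (Fin n ⊕ Fin m) k ≃ₐ[k] InvFld.Fld (Fin n ⊕ Fin m) k)) [Finite G]
    (hx : ∀ σ ∈ G, ∀ i : Fin n, σ (InvFld.X (Sum.inl i)) ∈ Submodule.span k (Set.range fun j : Fin n => (InvFld.X (Sum.inl j) : InvFld.Fld (Fin n ⊕ Fin m) k)))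
    (hy : ∀ σ ∈ G, ∀ i : Fin m, σ (InvFld.X (Sum.inr i)) ∈ Submodule.span k (Set.range fun j : Fin m => (InvFld.X (Sum.inr j) : InvFld.Fld (Fin n ⊕ Fin m) k)))
    (hfaith : ∀ σ ∈ G, (∀ i : Fin n, σ (InvFld.X (Sum.inl i)) = InvFld.X (Sum.inl i)) → σ = 1) :
    ∃ t : Fin m → InvFld.Fld (Fin n ⊕ Fin m) k,
      AlgebraicIndependent (↥(IntermediateField.adjoin k (Set.range fun j : Fin n => (InvFld.X (Sum.inl j) : InvFld.Fld (Fin n ⊕ Fin m) k)) ⊓ IntermediateField.fixedField G)) t ∧
      IntermediateField.restrictScalars k (IntermediateField.adjoin (↥(IntermediateField.adjoin k (Set.range fun j : Fin n => (InvFld.X (Sum.inl j) : InvFld.Fld (Fin n ⊕ Fin m) k)) ⊓ IntermediateField.fixedField G)) (Set.range t)) =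
        IntermediateField.fixedField G := by
  classical
  -- notation
  obtain ⟨x, hxdef⟩ : ∃ x : Fin n → InvFld.Fld (Fin n ⊕ Fin m) k,
      x = fun j : Fin n => (InvFld.X (Sum.inl j) : InvFld.Fld (Fin n ⊕ Fin m) k) := ⟨_, rfl⟩
  obtain ⟨y, hydef⟩ : ∃ y : Fin m → InvFld.Fld (Fin n ⊕ Fin m) k,
      y = fun j : Fin m => (InvFld.X (Sum.inr j) : InvFld.Fld (Fin n ⊕ Fin m) k) := ⟨_, rfl⟩
  rw [← hxdef]
  have hx' : ∀ σ ∈ G, ∀ i : Fin n, σ (x i) ∈ Submodule.span k (Set.range x) := by
    rw [hxdef]
    exact hx
  have hy' : ∀ σ ∈ G, ∀ i : Fin m, σ (y i) ∈ Submodule.span k (Set.range y) := by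
    rw [hydef]
    exact hy
  have hxmem : ∀ i, x i ∈ IntermediateField.adjoin k (Set.range x) :=
    fun i => IntermediateField.subset_adjoin _ _ ⟨i, rfl⟩
  -- stability of L0
  have hL0 : ∀ σ ∈ G, ∀ a ∈ IntermediateField.adjoin k (Set.range x),
      σ a ∈ IntermediateField.adjoin k (Set.range x) := by
    intro σ hσ a ha
    induction ha using IntermediateField.adjoin_induction with
    | mem z hz =>
      obtain ⟨i, rfl⟩ := hz
      have h1 := hx' σ hσ i
      refine Submodule.span_induction
        (p := fun w _ => w ∈ IntermediateField.adjoin k (Set.range x)) ?_ ?_ ?_ ?_ h1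
      · intro w hw
        exact IntermediateField.subset_adjoin _ _ hw
      · exact zero_mem _
      · intro a b _ _ ha hb
        exact add_mem ha hb
      · intro r a _ ha
        rw [Algebra.smul_def]
        exact mul_mem (IntermediateField.algebraMap_mem _ r) ha
    | algebraMap c =>
      rw [AlgEquiv.commutes]
      exact IntermediateField.algebraMap_mem _ c
    | add a b _ _ ha hb =>
      rw [map_add]
      exact add_mem ha hb
    | inv a _ ha =>
      rw [map_inv₀]
      exact inv_mem ha
    | mul a b _ _ ha hb =>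
      rw [map_mul]
      exact mul_mem ha hb
  have hyind : AlgebraicIndependent ↥(IntermediateField.adjoin k (Set.range x)) y := by
    rw [hxdef, hydef]
    exact algInd_y k n m
  have hfaith' : ∀ σ ∈ G, (∀ a ∈ IntermediateField.adjoin k (Set.range x), σ a = a) → σ = 1 := by
    intro σ hσ h
    apply hfaith σ hσ
    intro i
    have := h (x i) (hxmem i)
    rw [hxdef] at this
    exact this
  obtain ⟨A, hA, hAinv⟩ := Groth.Agent.Lib.helper6.Speiser.speiser
    (IntermediateField.adjoin k (Set.range x)) m y G hL0 hy' hfaith' hyind.linearIndependent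
  have htind := Groth.Agent.Lib.helper6.Speiser.algebraicIndependent_of_isUnit y hyind A hA
  obtain ⟨B, hBA⟩ : ∃ B : Matrix (Fin m) (Fin m) ↥(IntermediateField.adjoin k (Set.range x)),
      B * A = 1 := by
    obtain ⟨u, rfl⟩ := hA
    exact ⟨↑u⁻¹, u.inv_mul⟩
  refine ⟨fun i => ∑ j, A i j • y j, ?_⟩
  refine noname_core (IntermediateField.adjoin k (Set.range x)) m (fun i => ∑ j, A i j • y j) G
    hL0 hAinv htind ?_
  -- generation
  have hsub : ∀ a : MvPolynomial (Fin n ⊕ Fin m) k,
      algebraMap (MvPolynomial (Fin n ⊕ Fin m) k) (InvFld.Fld (Fin n ⊕ Fin m) k) a ∈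
        (MvPolynomial.aeval (fun i => ∑ j, A i j • y j) :
          MvPolynomial (Fin m) ↥(IntermediateField.adjoin k (Set.range x)) →ₐ[
            ↥(IntermediateField.adjoin k (Set.range x))] InvFld.Fld (Fin n ⊕ Fin m) k).range := by
    intro a
    induction a using MvPolynomial.induction_on with
    | C c =>
      have h1 : algebraMap (MvPolynomial (Fin n ⊕ Fin m) k) (InvFld.Fld (Fin n ⊕ Fin m) k)
          (MvPolynomial.C c) =
          algebraMap ↥(IntermediateField.adjoin k (Set.range x)) (InvFld.Fld (Fin n ⊕ Fin m) k)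
            (algebraMap k ↥(IntermediateField.adjoin k (Set.range x)) c) := by
        rw [← MvPolynomial.algebraMap_eq, ← IsScalarTower.algebraMap_apply,
          ← IsScalarTower.algebraMap_apply]
      rw [h1]
      exact Subalgebra.algebraMap_mem _ _
    | add p q hp hq =>
      rw [map_add]
      exact Subalgebra.add_mem _ hp hq
    | mul_X p i hp =>
      rw [map_mul]
      refine Subalgebra.mul_mem _ hp ?_
      rcases i with i | j
      · have h1 : algebraMap (MvPolynomial (Fin n ⊕ Fin m) k) (InvFld.Fld (Fin n ⊕ Fin m) k)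
            (MvPolynomial.X (Sum.inl i)) =
            algebraMap ↥(IntermediateField.adjoin k (Set.range x))
              (InvFld.Fld (Fin n ⊕ Fin m) k) ⟨x i, hxmem i⟩ := by
          show algebraMap (MvPolynomial (Fin n ⊕ Fin m) k) (InvFld.Fld (Fin n ⊕ Fin m) k)
            (MvPolynomial.X (Sum.inl i)) = x i
          rw [hxdef]
        rw [h1]
        exact Subalgebra.algebraMap_mem _ _
      · have h1 : algebraMap (MvPolynomial (Fin n ⊕ Fin m) k) (InvFld.Fld (Fin n ⊕ Fin m) k)
            (MvPolynomial.X (Sum.inr j)) = ∑ i, B j i • ∑ l, A i l • y l := by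
          have h2 : ∑ i, B j i • ∑ l, A i l • y l = ∑ l, (B * A) j l • y l := by
            simp only [Finset.smul_sum, smul_smul]
            rw [Finset.sum_comm]
            refine Finset.sum_congr rfl (fun l _ => ?_)
            rw [Matrix.mul_apply, Finset.sum_smul]
          rw [h2, hBA, Finset.sum_eq_single j]
          · rw [Matrix.one_apply_eq, one_smul, hydef]
          · intro l _ hl
            rw [Matrix.one_apply_ne (Ne.symm hl), zero_smul]
          · intro h
            exact absurd (Finset.mem_univ j) h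
        rw [h1]
        refine Subalgebra.sum_mem _ (fun i _ => Subalgebra.smul_mem _ ?_ _)
        exact ⟨MvPolynomial.X i, MvPolynomial.aeval_X _ i⟩
  intro z
  obtain ⟨a, b, hb, rfl⟩ := IsFractionRing.div_surjective (A := MvPolynomial (Fin n ⊕ Fin m) k) z
  obtain ⟨P, hP⟩ := hsub a
  obtain ⟨Q, hQ⟩ := hsub b
  refine ⟨P, Q, ?_, ?_⟩
  · have hQ' : MvPolynomial.aeval (fun i => ∑ j, A i j • y j) Q = algebraMap _ _ b := hQ
    rw [hQ']
    intro h0
    have h1 := (IsFractionRing.injective (MvPolynomial (Fin n ⊕ Fin m) k)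
      (InvFld.Fld (Fin n ⊕ Fin m) k)) (h0.trans (map_zero _).symm)
    rw [h1] at hb
    exact zero_notMem_nonZeroDivisors hb
  · have hP' : MvPolynomial.aeval (fun i => ∑ j, A i j • y j) P = algebraMap _ _ a := hP
    have hQ' : MvPolynomial.aeval (fun i => ∑ j, A i j • y j) Q = algebraMap _ _ b := hQ
    rw [hP', hQ']


end Groth.Agent.S15697
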