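import Groth.Statements.S17941
import Mathlib
import Groth.Agent.Lib.Helper6.MultCrvFrob

set_option autoImplicit false
universe u
open MultCrv
open Groth.Agent.Lib.Helper6 Groth.Agent.Lib.Helper6.MultCrvFrob Polynomial

namespace Groth.Agent.S17941

/-- Let R be a discrete valuation ring, n ≥ 1, A = R[X]/(X^n), and 0 → M' → M → M'' → 0 a short exact
sequence of finitely generated A-modules with M and M'' torsion-free as R-modules (so M' is as
well). Then the A-dual sequence 0 → Hom_A(M'', A) → Hom_A(M, A) → Hom_A(M', A) → 0 is exact; the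
content is that every A-linear form on M' extends to M, i.e. restriction of forms along M' → M is
surjective. (Statement at a closed point of the sheaf statement on a primitive multiple curve of
multiplicity n, whose local rings are of the form R[X]/(X^n) with R the local ring of the reduced
smooth curve; stated for every discrete valuation ring R.) -/
theorem result (R : Type u) [CommRing R] [IsDomain R] [IsDiscreteValuationRing R] (n : ℕ) (hn : 1 ≤ n) (M' M M'' : Type u) [AddCommGroup M'] [Module (MultCrv.Rn R n) M'] [AddCommGroup M] [Module (MultCrv.Rn R n) M] [Module R M] [IsScalarTower R (MultCrv.Rn R n) M] [Module.Finite (MultCrv.Rn R n) M] [Module.IsTorsionFree R M] [AddCommGroup M''] [Module (MultCrv.Rn R n) M''] [Module R M''] [IsScalarTower R (MultCrv.Rn R n) M''] [Module.Finite (MultCrv.Rn R n) M''] [Module.IsTorsionFree R M''] (f : M' →ₗ[MultCrv.Rn R n] M) (g : M →ₗ[MultCrv.Rn R n] M'') (hf : Function.Injective f) (hg : Function.Surjective g) (hfg : LinearMap.range f = LinearMap.ker g) : Function.Surjective (f.dualMap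 : Module.Dual (MultCrv.Rn R n) M →ₗ[MultCrv.Rn R n] Module.Dual (MultCrv.Rn R n) M') := by
  obtain ⟨m, rfl⟩ : ∃ m, n = m + 1 := ⟨n - 1, by omega⟩
  let _ : Module R M' := Module.compHom M' (algebraMap R (Rn R (m + 1)))
  haveI : IsScalarTower R (Rn R (m + 1)) M' := ⟨fun r a x => by
    show (r • a) • x = algebraMap R (Rn R (m + 1)) r • (a • x)
    rw [← mul_smul]
    congr 1
    exact Algebra.smul_def (A := Rn R (m + 1)) r a⟩
  have hfin'' : Module.Finite R M'' := MultCrvLib.finite_over_base R (m + 1) M''
  have hfree'' : Module.Free R M'' := Module.free_of_finite_type_torsion_free'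
  obtain ⟨s, hs⟩ := Module.projective_lifting_property (g.restrictScalars R) LinearMap.id hg
  have hs' : ∀ y, g (s y) = y := fun y => LinearMap.congr_fun hs y
  let fR : M' →ₗ[R] M := f.restrictScalars R
  let e : M' ≃ₗ[R] ↥(LinearMap.range fR) := LinearEquiv.ofInjective fR hf
  let q : M →ₗ[R] M := LinearMap.id - s ∘ₗ (g.restrictScalars R)
  have hmem : ∀ y : M, q y ∈ LinearMap.range fR := by
    intro y
    show y - s (g y) ∈ LinearMap.range fR
    have h1 : y - s (g y) ∈ LinearMap.ker g := by
      rw [LinearMap.mem_ker, map_sub, hs', sub_self]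
    rw [← hfg] at h1
    obtain ⟨x, hx⟩ := h1
    exact ⟨x, hx⟩
  let π : M →ₗ[R] ↥(LinearMap.range fR) :=
    q.codRestrict (LinearMap.range fR) hmem
  let ρ : M →ₗ[R] M' := e.symm.toLinearMap ∘ₗ π
  have hρ : ∀ y : M, f (ρ y) = y - s (g y) := by
    intro y
    have h1 : (e (e.symm (π y)) : M) = f (e.symm (π y)) := LinearEquiv.ofInjective_apply fR _
    rw [LinearEquiv.apply_symm_apply] at h1
    exact h1.symm
  have hρf : ∀ x : M', ρ (f x) = x := by
    intro x
    apply hf
    rw [hρ]
    have : g (f x) = 0 := by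
      have : f x ∈ LinearMap.ker g := by rw [← hfg]; exact ⟨x, rfl⟩
      exact this
    rw [this, map_zero, sub_zero]
  intro h
  refine ⟨psi (((tr R m) ∘ₗ (h.restrictScalars R)) ∘ₗ ρ), ?_⟩
  apply hom_ext_tr
  intro x
  show tr R m (psi (((tr R m) ∘ₗ (h.restrictScalars R)) ∘ₗ ρ) (f x)) = tr R m (h x)
  rw [tr_psi]
  show tr R m (h (ρ (f x))) = tr R m (h x)
  rw [hρf]

end Groth.Agent.S17941
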