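import Groth.Statements.S1555
import Mathlib
import Groth.Agent.Lib.Helper12.AmpleField1
import Groth.Agent.Lib.Helper12.AmpleField2
import Groth.Agent.Lib.Helper12.AmpleBasis

set_option autoImplicit false
universe u
open CategoryTheory CategoryTheory.Limits AlgebraicGeometry
open Variety

namespace Groth.Agent.S1555

/-- Let X be a scheme over a field k and K a field extension of k. If X_K has an ample invertible module
then so does X. -/
theorem result (k : Type u) [Field k] (X : Scheme.{u}) [X.Over (Spec (CommRingCat.of k))] (K : Type u) [Field K] [Algebra k K]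
    (L' : (Curv2.bc k X K).Modules) (hL' : CohB1.IsAmple L') : ∃ L : X.Modules, CohB1.IsAmple L := by
  let t : X ⟶ Spec (CommRingCat.of k) := X ↘ Spec (CommRingCat.of k)
  let sK : Spec (CommRingCat.of K) ⟶ Spec (CommRingCat.of k) :=
    Spec.map (CommRingCat.ofHom (algebraMap k K))
  let pr : Curv2.bc k X K ⟶ X := Curv2.bcFst k X K
  have hsK : Surjective sK := by
    refine ⟨fun x => ?_⟩
    have h1 : Subsingleton ↥(Spec (CommRingCat.of k)) :=
      inferInstanceAs (Subsingleton (PrimeSpectrum k))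
    have h2 : Nonempty ↥(Spec (CommRingCat.of K)) := inferInstanceAs (Nonempty (PrimeSpectrum K))
    exact ⟨Classical.arbitrary _, Subsingleton.elim _ _⟩
  have hpr1 : Surjective pr := MorphismProperty.pullback_fst (P := @Surjective) t sK hsK
  have hpr2 : IsAffineHom pr :=
    MorphismProperty.pullback_fst (P := @IsAffineHom) t sK inferInstance
  have hc' : CompactSpace ↥(Curv2.bc k X K) := hL'.2.1
  have hq' : QuasiSeparatedSpace ↥(Curv2.bc k X K) :=
    Groth.Agent.Lib.helper12.AmpleBasis.quasiSeparatedSpace_of_hasAffineCover hL'.1 hL'.2.2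
  have hc : CompactSpace X := by
    refine ⟨?_⟩
    have := isCompact_univ.image pr.continuous
    rwa [Set.image_univ, pr.surjective.range_eq] at this
  have hq : QuasiSeparatedSpace X := by
    rw [quasiSeparatedSpace_iff_forall_affineOpens]
    intro U V
    have hcp : IsCompact ((pr ⁻¹ᵁ U.1 : Set ↥(Curv2.bc k X K)) ∩ (pr ⁻¹ᵁ V.1 : Set ↥(Curv2.bc k X K))) :=
      QuasiSeparatedSpace.inter_isCompact _ _ (pr ⁻¹ᵁ U.1).isOpen (U.2.preimage pr).isCompact
        (pr ⁻¹ᵁ V.1).isOpen (V.2.preimage pr).isCompact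
    have h3 := hcp.image pr.continuous
    have heq : pr '' ((pr ⁻¹ᵁ U.1 : Set ↥(Curv2.bc k X K)) ∩ (pr ⁻¹ᵁ V.1 : Set ↥(Curv2.bc k X K))) =
        (U.1 : Set X) ∩ (V.1 : Set X) :=
      Set.image_preimage_eq ((U.1 : Set X) ∩ (V.1 : Set X)) pr.surjective
    rw [heq] at h3
    exact h3
  let σ : pullback sK t ≅ pullback t sK := pullbackSymmetry sK t
  have hN : CohB1.IsAmple ((Scheme.Modules.pullback σ.hom).obj L') :=
    Groth.Agent.Lib.helper12.PullAmple.isAmple_pullback_of_isAffineHom σ.hom hL'
  obtain ⟨j, Z, p, q, sq, M, hM⟩ :=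
    Groth.Agent.Lib.helper12.AmpleField.exists_ample_stage k t K _ hN
  have hnt : Nontrivial (Groth.Agent.Lib.helper5.FGLimit.adj k K j.unop) :=
    ⟨⟨0, 1, fun h => zero_ne_one (α := K) (congrArg Subtype.val h)⟩⟩
  have hft : Algebra.FiniteType k (Groth.Agent.Lib.helper5.FGLimit.adj k K j.unop) :=
    (Subalgebra.fg_iff_finiteType _).mp (Subalgebra.fg_adjoin_finset _)
  exact Groth.Agent.Lib.helper12.AmpleField.exists_isAmple_of_fg_algebra k t
    (Groth.Agent.Lib.helper5.FGLimit.adj k K j.unop) p q sq M hM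

end Groth.Agent.S1555
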