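import Groth.Statements.S7090
import Groth.Agent.Lib.Helper7.FormalGlueCx
import Groth.Agent.Lib.Helper7.GlueMod

set_option autoImplicit false
universe u
open TensorProduct
open EtAlg

namespace Groth.Agent.S7090


open Groth.Agent.Lib.helper7

/-- Let R → S be a flat homomorphism of commutative rings and I = (f_1, …, f_t) a finitely generated
ideal such that R/I → S/IS is bijective. Then for every R-module M the glueing complex 0 → M → (S
⊗_R M) × ∏ M_{f_i} → ∏ (S ⊗_R M)_{f_i} × ∏ M_{f_i f_j} is exact. Concretely: an element of M with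
zero image in S ⊗_R M and in every M_{f_i} is zero; and given x in S ⊗_R M and elements m_1, …, m_t
of M and N ≥ 0 such that x and m_i / f_i^N have the same image in (S ⊗_R M)_{f_i} for each i, and
m_i / f_i^N, m_j / f_j^N have the same image in M_{f_i f_j} for all i, j, there is m in M with 1 ⊗ m
= x and m / 1 = m_i / f_i^N in M_{f_i} for every i. -/
theorem result {R S : Type u} [CommRing R] [CommRing S] [Algebra R S] [Module.Flat R S]
    {t : ℕ} (f : Fin t → R) (I : Ideal R) (hI : Ideal.span (Set.range f) = I)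
    (hq : Function.Bijective
      (Ideal.quotientMap (Ideal.map (algebraMap R S) I) (algebraMap R S) Ideal.le_comap_map))
    (M : Type u) [AddCommGroup M] [Module R M] :
    (∀ m : M, (1 : S) ⊗ₜ[R] m = 0 →
        (∀ i : Fin t, LocalizedModule.mkLinearMap (Submonoid.powers (f i)) M m = 0) → m = 0) ∧
    ∀ (x : S ⊗[R] M) (N : ℕ) (m : Fin t → M),
      (∀ i : Fin t, EtGlue.locOfTensor R S (f i) M x =
          EtGlue.tensorOfLoc R S (f i) M (LocalizedModule.mk (m i) ⟨f i ^ N, Submonoid.pow_mem _ (Submonoid.mem_powers (f i)) N⟩)) →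
      (∀ i j : Fin t, ∃ e : ℕ, (f i * f j) ^ e • (f j ^ N • m i - f i ^ N • m j) = 0) →
        ∃ μ : M, (1 : S) ⊗ₜ[R] μ = x ∧
          ∀ i : Fin t, LocalizedModule.mkLinearMap (Submonoid.powers (f i)) M μ =
            LocalizedModule.mk (m i) ⟨f i ^ N, Submonoid.pow_mem _ (Submonoid.mem_powers (f i)) N⟩ := by
  classical
  constructor
  · intro m h1 h2
    have hm : ∀ i, ∃ e : ℕ, f i ^ e • m = 0 := fun i => (GlueMod.mk_eq_zero_iff m).1 (h2 i)
    obtain ⟨T, hT⟩ : ∃ T : Submodule R M, T = Submodule.span R {m} := ⟨_, rfl⟩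
    have hmT : m ∈ T := hT ▸ Submodule.mem_span_singleton_self m
    have htors : ∀ y : T, ∃ n : ℕ, ∀ a ∈ I ^ n, a • y = 0 := by
      intro y
      apply FormalGlue.tors_of_pow_smul f I hI
      intro i
      obtain ⟨e, he⟩ := hm i
      refine ⟨e, Subtype.ext ?_⟩
      have hy : (y : M) ∈ Submodule.span R {m} := hT ▸ y.2
      obtain ⟨r, hr⟩ := Submodule.mem_span_singleton.1 hy
      rw [Submodule.coe_smul, Submodule.coe_zero, ← hr, smul_comm, he, smul_zero]
    have hb := FormalGlue.mk_bijective_of_tors (S := S) I hq T htors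
    have hinj : Function.Injective (T.subtype.lTensor S) :=
      Module.Flat.lTensor_preserves_injective_linearMap _ (Submodule.subtype_injective _)
    have h3 : TensorProduct.mk R S T 1 ⟨m, hmT⟩ = 0 := by
      apply hinj
      rw [map_zero]
      simpa using h1
    have h4 : (⟨m, hmT⟩ : T) = 0 := by
      apply hb.1
      rw [h3, map_zero]
    simpa using congrArg Subtype.val h4
  · intro x N m ha hb
    -- extract exponents
    have ha' : ∀ i, ∃ e : ℕ, f i ^ e • (f i ^ N • x - (1 : S) ⊗ₜ[R] m i) = 0 := by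
      intro i
      apply (GlueMod.mk_eq_zero_iff (f := f i) (M := S ⊗[R] M) _).1
      rw [map_sub, map_smul]
      have h1 : f i ^ N • (LocalizedModule.mk (m i) (⟨f i ^ N,
          Submonoid.pow_mem _ (Submonoid.mem_powers (f i)) N⟩ : Submonoid.powers (f i))) =
          LocalizedModule.mkLinearMap (Submonoid.powers (f i)) M (m i) := by
        rw [LocalizedModule.smul'_mk, LocalizedModule.mkLinearMap_apply]
        exact LocalizedModule.mk_cancel (⟨f i ^ N,
          Submonoid.pow_mem _ (Submonoid.mem_powers (f i)) N⟩ : Submonoid.powers (f i)) (m i)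
      have h2 := congrArg (fun z => f i ^ N • z) (ha i)
      beta_reduce at h2
      rw [← map_smul (EtGlue.tensorOfLoc R S (f i) M), h1, GlueMod.tensorOfLoc_mk] at h2
      rw [sub_eq_zero]
      exact h2
    choose ea hea using ha'
    choose eb heb using hb
    obtain ⟨E, hE⟩ : ∃ E : ℕ, E = (∑ i, ea i) + ∑ i, ∑ j, eb i j := ⟨_, rfl⟩
    have hEa : ∀ i, ea i ≤ E := fun i => by
      rw [hE]
      exact le_trans (Finset.single_le_sum (f := ea) (fun _ _ => Nat.zero_le _) (Finset.mem_univ i))
        (Nat.le_add_right _ _)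
    have hEb : ∀ i j, eb i j ≤ E := fun i j => by
      rw [hE]
      refine le_trans ?_ (Nat.le_add_left _ _)
      refine le_trans ?_ (Finset.single_le_sum (f := fun i => ∑ j, eb i j)
        (fun _ _ => Nat.zero_le _) (Finset.mem_univ i))
      exact Finset.single_le_sum (f := fun j => eb i j) (fun _ _ => Nat.zero_le _)
        (Finset.mem_univ j)
    have hea' : ∀ i, f i ^ E • (f i ^ N • x - (1 : S) ⊗ₜ[R] m i) = 0 := by
      intro i
      obtain ⟨c, hc⟩ := Nat.exists_eq_add_of_le (hEa i)
      rw [hc, pow_add, mul_comm, mul_smul, hea i, smul_zero]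
    have heb' : ∀ i j, (f i * f j) ^ E • (f j ^ N • m i - f i ^ N • m j) = 0 := by
      intro i j
      obtain ⟨c, hc⟩ := Nat.exists_eq_add_of_le (hEb i j)
      rw [hc, pow_add, mul_comm, mul_smul, heb i j, smul_zero]
    obtain ⟨μ, hμ1, hμ2⟩ := FormalGlue.glue_core (S := S) f I hI hq M x (N + E)
      (fun i => f i ^ E • m i) (by
        intro i
        have := hea' i
        rw [smul_sub, sub_eq_zero, smul_smul, ← pow_add, ← TensorProduct.tmul_smul] at this
        rw [← this, add_comm])
      (by
        intro i j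
        have := heb' i j
        rw [smul_sub, sub_eq_zero, smul_smul, smul_smul] at this
        rw [smul_smul, smul_smul]
        convert this using 2 <;> ring)
    refine ⟨μ, hμ1, ?_⟩
    intro i
    rw [LocalizedModule.mkLinearMap_apply, LocalizedModule.mk_eq]
    refine ⟨⟨f i ^ E, Submonoid.pow_mem _ (Submonoid.mem_powers (f i)) E⟩, ?_⟩
    simp only [Submonoid.smul_def, one_smul]
    rw [smul_smul, ← pow_add, add_comm, hμ2 i]

end Groth.Agent.S7090
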