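import Groth.Statements.S7681
import Mathlib
import Groth.Agent.Lib.Helper21.NegTwist2
import Groth.Agent.Lib.Helper21.ZeroConn1
import Groth.Agent.Lib.Helper21.ZeroConn2
import Groth.Agent.Lib.Helper21.ZeroConn3
import Groth.Agent.Lib.Helper21.ZeroConn4
import Groth.Agent.Lib.Helper12.InvDual2
-- import your own Groth.Agent.* helpers here

set_option autoImplicit false
universe u
open CategoryTheory CategoryTheory.Limits AlgebraicGeometry
open Variety

namespace Groth.Agent.S7681

/-- Let X be proper over a field k, L ample invertible and s ∈ Γ(X, L) a regular section; assume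
depth(O_{X,x}) ≥ 2 for every closed point x and X connected. Then the zero scheme Z(s) is connected. -/
theorem result (k : Type u) [Field k] (X : Scheme.{u}) [X.Over (Spec (CommRingCat.of k))] [IsProper (X ↘ (Spec (CommRingCat.of k)))]
    [ConnectedSpace X] (L : X.Modules) (hL : CohB1.IsAmple L)
    (s : Coh.structureModule X ⟶ L) (hs : Mono s)
    (hdepth : ∀ x : X, IsClosed ({x} : Set X) → 2 ≤ LocCoh.depth (X.presheaf.stalk x) (X.presheaf.stalk x)) :
    ConnectedSpace ↥(PicF2.zeroScheme L s).subscheme := by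
  classical
  haveI : IsLocallyNoetherian (Spec (CommRingCat.of k)) := inferInstance
  haveI : IsLocallyNoetherian X :=
    LocallyOfFiniteType.isLocallyNoetherian (X ↘ (Spec (CommRingCat.of k)))
  have hLi : PicF.IsInvertible L := hL.1
  obtain ⟨M, hMi, hM, -⟩ := Groth.Agent.Lib.helper12.InvDual.exists_inverse hLi
  obtain ⟨e⟩ := id hM
  -- vanishing of `H^0` and `H^1` of large negative twists
  obtain ⟨n₀, hn₀⟩ := Groth.Agent.Lib.helper21.NegTwist.exists_forall_subsingleton_HH_negTwist
    (X ↘ (Spec (CommRingCat.of k))) hL hM (Coh.structureModule X)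
    (Groth.Agent.Lib.helper8.Dev.isCoh_structureModule X) 1 (fun x hx => by
      rw [Groth.Agent.Lib.Helper20.LargeTwist.depth_stalk_structureModule]
      have h2 := hdepth x hx
      have h12 : ((1 : ℕ) : ℕ∞) < 2 := by norm_num
      exact lt_of_lt_of_le h12 h2)
  have hvan : ∀ j : ℕ, j ≤ 1 → Subsingleton (Coh.HH X (CohB1.tensorPow M (n₀ + 1)) j) :=
    fun j hj => Groth.Agent.Lib.Helper20.TwistEquivPn.subsingleton_of_iso
      (Groth.Agent.Lib.Lead.ModTensor.leftUnitor (CohB1.tensorPow M (n₀ + 1))) j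
      (hn₀ (n₀ + 1) (Nat.le_succ _) j hj)
  -- the monomorphism `M^{n₀+1} ⟶ O`
  let σ : M ⟶ Coh.structureModule X := Groth.Agent.Lib.helper21.ZeroConn.dualSec s e
  haveI hσ : Mono σ := Groth.Agent.Lib.helper21.ZeroConn.mono_dualSec s e hMi
  let φ : CohB1.tensorPow M (n₀ + 1) ⟶ Coh.structureModule X :=
    Groth.Agent.Lib.helper21.ZeroConn.powSec σ (n₀ + 1)
  haveI hφ : Mono φ := Groth.Agent.Lib.helper21.ZeroConn.mono_powSec σ hMi (n₀ + 1)
  have hloc : Groth.Agent.Lib.helper11.IsoLocus.isoLocus φ = CohB1.genLocus L s :=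
    (Groth.Agent.Lib.helper21.ZeroConn.isoLocus_powSec σ hMi n₀).trans
      (Groth.Agent.Lib.helper21.ZeroConn.isoLocus_dualSec s e hMi)
  have hsupp : ((PicF2.zeroScheme L s).support : Set X) =
      (Groth.Agent.Lib.helper11.IsoLocus.isoLocus φ : Set X)ᶜ := by
    ext x
    rw [hloc]
    exact Groth.Agent.Lib.helper21.ZeroConn.mem_support_zeroScheme_iff hLi s x
  apply Groth.Agent.Lib.helper21.ZeroConn.connectedSpace_subscheme
  refine ⟨?_, ?_⟩
  · -- non-emptiness
    rw [hsupp]
    by_contra hemp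
    rw [Set.not_nonempty_iff_eq_empty, Set.compl_empty_iff] at hemp
    have htop : Groth.Agent.Lib.helper11.IsoLocus.isoLocus φ = ⊤ :=
      TopologicalSpace.Opens.ext hemp
    haveI : IsIso φ := (Groth.Agent.Lib.helper11.IsoLocus.isoLocus_eq_top_iff φ).mp htop
    have h0 : Subsingleton (Coh.HH X (Coh.structureModule X) 0) :=
      Groth.Agent.Lib.Helper20.TwistEquivPn.subsingleton_of_iso (asIso φ) 0 (hvan 0 (Nat.zero_le _))
    have h1 : Subsingleton Γ(X, ⊤) :=
      (Groth.Agent.Lib.Helper18.HH.equiv₀ (Coh.structureModule X)).symm.toEquiv.subsingleton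
    have h2 : (⊤ : X.Opens) = ⊥ := by
      rw [← X.basicOpen_one (U := ⊤), Subsingleton.elim (1 : Γ(X, ⊤)) 0, X.basicOpen_zero]
    obtain ⟨x⟩ := (inferInstance : Nonempty X)
    have hx : x ∈ (⊤ : X.Opens) := trivial
    rw [h2] at hx
    exact hx
  · rw [hsupp]
    exact Groth.Agent.Lib.helper21.ZeroConn.isPreconnected_compl_isoLocus φ (hvan 1 le_rfl)
      (Groth.Agent.Lib.helper21.ZeroConn.isUnit_or_isNilpotent k X)

end Groth.Agent.S7681
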