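import Groth.Statements.S0439
import Mathlib
import Groth.Agent.Lib.Helper8.NowhereDense3
-- import your own Groth.Agent.* helpers here

set_option autoImplicit false
universe u
open FlatMor

namespace Groth.Agent.S0439

open AlgebraicGeometry CategoryTheory Limits
open Groth.Agent.Lib.helper8.ND

/-- the affine piece -/
theorem piece {Y X : Scheme.{u}} (f : Y ⟶ X) [LocallyQuasiFinite f] [LocallyOfFiniteType f]
    (U : X.Opens) (hU : IsAffineOpen U) (V : Y.Opens) (hV : IsAffineOpen V) (e : V ≤ f ⁻¹ᵁ U)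
    (T : Set ↑Y) (hT' : IsNowhereDense T) : IsNowhereDense (f '' (T ∩ (V : Set ↑Y))) := by
  have hqf : (f.appLE U V e).hom.QuasiFinite :=
    HasRingHomProperty.appLE @LocallyQuasiFinite f inferInstance ⟨U, hU⟩ ⟨V, hV⟩ e
  have hft : (f.appLE U V e).hom.FiniteType :=
    HasRingHomProperty.appLE @LocallyOfFiniteType f inferInstance ⟨U, hU⟩ ⟨V, hV⟩ e
  letI := (f.appLE U V e).hom.toAlgebra
  haveI : Algebra.QuasiFinite Γ(X, U) Γ(Y, V) := hqf
  haveI : Algebra.FiniteType Γ(X, U) Γ(Y, V) := hft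
  have hsq := IsAffineOpen.SpecMap_appLE_fromSpec f hU hV e
  have h1 : IsNowhereDense (hV.fromSpec ⁻¹' T) :=
    isNowhereDense_preimage hV.fromSpec.continuous hV.fromSpec.isOpenEmbedding.isOpenMap hT'
  have h2 : IsNowhereDense (PrimeSpectrum.comap (algebraMap Γ(X, U) Γ(Y, V)) ''
      (hV.fromSpec ⁻¹' T)) :=
    isNowhereDense_image_comap_of_quasiFinite (R := Γ(X, U)) (S := Γ(Y, V)) _ h1
  have h3 := hU.fromSpec.isOpenEmbedding.isInducing.isNowhereDense_image h2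
  refine h3.mono ?_
  rintro _ ⟨y, ⟨hyT, hyV⟩, rfl⟩
  rw [← hV.range_fromSpec] at hyV
  obtain ⟨z, rfl⟩ := hyV
  refine ⟨_, ⟨z, hyT, rfl⟩, ?_⟩
  have := congrArg (fun g => g z) hsq
  simp only [Scheme.Hom.comp_apply] at this
  exact this

theorem main {Y X : Scheme.{u}} (f : Y ⟶ X) [LocallyQuasiFinite f] [LocallyOfFiniteType f]
    [QuasiCompact f] (T : Set ↑Y) (hT : IsClosed T) (hT' : IsNowhereDense T) :
    IsNowhereDense (f '' T) := by
  classical
  refine isNowhereDense_of_forall_inter (fun U : X.affineOpens => (U.1 : Set ↑X))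
    (fun U => U.1.2)
    (fun x => by
      obtain ⟨_, ⟨U, hU, rfl⟩, hxU, -⟩ := X.isBasis_affineOpens.exists_subset_of_mem_open
        (Set.mem_univ x) isOpen_univ
      exact ⟨⟨U, hU⟩, hxU⟩) (f '' T) ?_
  rintro ⟨U, hU⟩
  have hc : IsCompact (f ⁻¹' (U : Set ↑X)) :=
    QuasiCompact.isCompact_preimage (f := f) _ U.2 hU.isCompact
  obtain ⟨t, ht⟩ := hc.elim_finite_subcover
    (fun V : {V : Y.affineOpens // V.1 ≤ f ⁻¹ᵁ U} => (V.1.1 : Set ↑Y)) (fun V => V.1.1.2)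
    (fun y hy => by
      obtain ⟨_, ⟨V, hV, rfl⟩, hyV, hVU⟩ := Y.isBasis_affineOpens.exists_subset_of_mem_open
        (show y ∈ ((f ⁻¹ᵁ U : Y.Opens) : Set ↑Y) from hy) (f ⁻¹ᵁ U).2
      exact Set.mem_iUnion.mpr ⟨⟨⟨V, hV⟩, hVU⟩, hyV⟩)
  have hnd := isNowhereDense_biUnion_finset t
    (fun V : {V : Y.affineOpens // V.1 ≤ f ⁻¹ᵁ U} => f '' (T ∩ (V.1.1 : Set ↑Y)))
    (fun V _ => piece f U hU V.1.1 V.1.2 V.2 T hT')
  refine hnd.mono ?_
  rintro _ ⟨⟨y, hyT, rfl⟩, hyU⟩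
  obtain ⟨V, hVt, hyV⟩ := Set.mem_iUnion₂.mp (ht hyU)
  exact Set.mem_iUnion₂.mpr ⟨V, hVt, ⟨y, ⟨hyT, hyV⟩, rfl⟩⟩


open AlgebraicGeometry CategoryTheory Limits in
/-- A quasi-finite morphism (locally of finite type, quasi-compact, with discrete fibres) maps closed
nowhere dense subsets to nowhere dense subsets. -/
theorem result {Y X : Scheme.{u}} (f : Y ⟶ X) [LocallyQuasiFinite f] [LocallyOfFiniteType f] [QuasiCompact f]
    (T : Set ↑Y) (hT : IsClosed T) (hT' : IsNowhereDense T) : IsNowhereDense (f '' T) := by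
  exact main f T hT hT'

end Groth.Agent.S0439
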