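import Groth.Statements.S0829
import Groth.Agent.Lib.Helper8.GEMid

set_option autoImplicit false
universe u
open Formal2

namespace Groth.Agent.S0829

open CategoryTheory CategoryTheory.Limits AlgebraicGeometry Opposite TopologicalSpace Formal
open Groth.Agent.Lib.helper8.FF Groth.Agent.Lib.helper8.Rees Groth.Agent.Lib.helper8.FTors
open Groth.Agent.Lib.Lead.GE Groth.Agent.Lib.helper8.GETower Groth.Agent.Lib.helper8.GEGlue
open Groth.Agent.Lib.helper8.FCompl Groth.Agent.Lib.helper8.GEMid
open Scheme.Modules in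
/-- the cokernel of `F' ⟶ G` is killed by products -/
lemma smulMod_comp_cokernel_π {A : Type u} [CommRing A] (I : Ideal A) {X : Scheme.{u}}
    [X.Over (Spec (CommRingCat.of A))] [IsNoetherian X] (G : X.Modules) (hG : Coh.IsCoh G)
    (F : ℕᵒᵖ ⥤ X.Modules) (hF : Formal.IsCohFormal I F) (α : F ⟶ Formal.completion I G)
    {t : ℕ} (hcok : ∀ n, Formal.KilledBy (I ^ (t + 1)) (cokernel (α.app (op n)))) (e m : ℕ)
    (c₁ c₂ : A) (h₁ : c₁ ∈ I ^ (t + 1)) (h₂ : c₂ ∈ I ^ (e + 1)) :
    smulMod A G (c₁ * c₂) ≫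
      cokernel.π (midι I F G α (0 : G ⟶ G) e m ≫ biprod.fst) = 0 := by
  haveI : G.IsQuasicoherent := hG.1
  haveI hqF : ∀ n, (F.obj (op n)).IsQuasicoherent := fun n => (hF.1 n).1
  haveI : ((Formal.completion I G).obj (op m)).IsQuasicoherent := isQuasicoherent_Q _ G
  obtain ⟨l, hl⟩ := exists_lift_mid I F G α (0 : G ⟶ G) hF hG e m (smulMod A G (c₁ * c₂))
    (0 : G ⟶ F.obj (op e)) comp_zero (fun U : X.affineOpens => U.1) (fun U => U.2)
    (fun x => by
      obtain ⟨_, ⟨U, hU, rfl⟩, hxU, -⟩ :=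
        X.isBasis_affineOpens.exists_subset_of_mem_open (Set.mem_univ x) isOpen_univ
      exact ⟨⟨U, hU⟩, hxU⟩)
    (fun U g => by
      have hT := isAdicTower_sections I F hF U.2
      -- `c₁ (g mod I^(m+1))` lies in the image of `α_m`
      let w : Γ((Formal.completion I G).obj (op m), U.1) := appLin (qπ (I ^ (m + 1)) G) U.1 g
      have h3 : appLin (cokernel.π (α.app (op m))) U.1 (resA A U.1 c₁ • w) = 0 := by
        rw [LinearMap.map_smul]
        exact smul_eq_zero_of_killedBy (hcok m) (Ideal.mem_map_of_mem _ h₁) _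
      obtain ⟨x', hx'⟩ := exists_of_cokernel_π_eq_zero (α.app (op m)) U.2 _ h3
      refine ⟨resA A U.1 c₂ • x', ?_, ?_⟩
      · have e1 : appLin (α.app (op m)) U.1 (resA A U.1 c₂ • x') =
            resA A U.1 c₂ • (resA A U.1 c₁ • w) := by
          rw [LinearMap.map_smul, hx']
        have e2 : appLin (qπ (I ^ (m + 1)) G) U.1 (appLin (smulMod A G (c₁ * c₂)) U.1 g) =
            resA A U.1 c₂ • (resA A U.1 c₁ • w) := by
          rw [appLin_smulMod, LinearMap.map_smul, map_mul, mul_comm, mul_smul]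
          rfl
        exact e1.trans e2.symm
      · rw [LinearMap.map_smul, appLin_zero, LinearMap.zero_apply, map_zero]
        have h5 : resA A U.1 c₂ • appLin (F.map (homOfLE (min_le_left m e)).op) U.1 x' ∈
            (I.map (resA A U.1)) ^ (min m e + 1) •
              (⊤ : Submodule Γ(X, U.1) Γ(F.obj (op (min m e)), U.1)) := by
          refine Submodule.smul_mem_smul ?_ Submodule.mem_top
          rw [← Ideal.map_pow]
          exact Ideal.mem_map_of_mem _ (Ideal.pow_le_pow_right (by omega) h₂)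
        rw [hT.smul_top_eq_bot (min m e)] at h5
        exact (Submodule.mem_bot _).1 h5)
  have h1 : l ≫ (midι I F G α (0 : G ⟶ G) e m ≫ biprod.fst) = smulMod A G (c₁ * c₂) := by
    rw [← Category.assoc, hl, biprod.lift_fst]
  calc smulMod A G (c₁ * c₂) ≫ cokernel.π (midι I F G α (0 : G ⟶ G) e m ≫ biprod.fst)
      = (l ≫ (midι I F G α (0 : G ⟶ G) e m ≫ biprod.fst)) ≫
          cokernel.π (midι I F G α (0 : G ⟶ G) e m ≫ biprod.fst) := by rw [h1]
    _ = l ≫ ((midι I F G α (0 : G ⟶ G) e m ≫ biprod.fst) ≫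
          cokernel.π (midι I F G α (0 : G ⟶ G) e m ≫ biprod.fst)) := Category.assoc _ _ _
    _ = 0 := by rw [cokernel.condition, comp_zero]

open CategoryTheory CategoryTheory.Limits AlgebraicGeometry Opposite in
/-- Let A be a ring, I ⊆ A an ideal and X a Noetherian scheme over Spec A; inverse systems are indexed
so that position n holds the quotient by I^(n+1). Let G be a coherent O_X-module, (F_n) a coherent
formal module for I (every F_n coherent and killed by I^(n+1), with transition maps inducing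
isomorphisms F_{n+1}/I^(n+1)F_{n+1} ≅ F_n), and α : (F_n) → (G/I^(n+1)G) a map of inverse systems
such that one fixed power of I kills the kernel and the cokernel of every component α_n. Then there
are a coherent O_X-module F, a map a : F → G whose kernel and cokernel are killed by a power of I,
and an isomorphism of systems β : (F_n) ≅ (F/I^(n+1)F) under which α becomes the map of systems
induced by a: for every n, the projection F → F/I^(n+1)F followed by β_n⁻¹ and then α_n equals a
followed by the projection G → G/I^(n+1)G. (The published statement also asserts uniqueness of (F,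
a, β) and has a further part; only existence is stated here.) -/
theorem result (A : Type u) [CommRing A] (I : Ideal A) (X : Scheme.{u})
    [X.Over (Spec (CommRingCat.of A))] [IsNoetherian X] (G : X.Modules) (hG : Coh.IsCoh G)
    (F : ℕᵒᵖ ⥤ X.Modules) (hF : Formal.IsCohFormal I F) (α : F ⟶ Formal.completion I G)
    (hα : Formal2.KerCokerKilledByIPow I α) :
    ∃ (F' : X.Modules) (a : F' ⟶ G) (β : F ≅ Formal.completion I F'), Coh.IsCoh F' ∧
      Formal2.KerCokerKilledByIPowHom I a ∧
      ∀ n : ℕ, Formal.modPowπ I (n + 1) F' ≫ β.inv.app (op n) ≫ α.app (op n) = a ≫ Formal.modPowπ I (n + 1) G := by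
  obtain ⟨t, ht⟩ := hα
  have hK : ∀ n, Formal.KilledBy (I ^ (t + 1)) (kernel (α.app (op n))) := fun n => (ht n).1
  have hcok : ∀ n, Formal.KilledBy (I ^ (t + 1)) (cokernel (α.app (op n))) := fun n => (ht n).2
  have hρr : α ≫ completionMap I (0 : G ⟶ G) = 0 := by
    apply NatTrans.ext
    funext n
    induction n using Opposite.rec with | _ n => ?_
    show α.app (op n) ≫ Qmap (I ^ (n + 1)) (0 : G ⟶ G) = 0
    have h0 : Qmap (I ^ (n + 1)) (0 : G ⟶ G) = 0 := by
      rw [← cancel_epi (qπ (I ^ (n + 1)) G), qπ_Qmap, zero_comp, comp_zero]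
    rw [h0]
    exact comp_zero
  have hC : ∀ a ∈ I ^ (t + 1), ∀ k : ℕ, kernel.ι (0 : G ⟶ G) ≫ smulMod A G a ≫
      qπ (I ^ (k + 1)) G ≫ cokernel.π (α.app (op k)) = 0 := by
    intro a ha k
    have h1 : smulMod A G a ≫ qπ (I ^ (k + 1)) G ≫ cokernel.π (α.app (op k)) =
        (qπ (I ^ (k + 1)) G ≫ cokernel.π (α.app (op k))) ≫
          smulMod A (cokernel (α.app (op k))) a := by
      rw [← smulMod_naturality]
    rw [h1, hcok k a ha, comp_zero, comp_zero]
  obtain ⟨e, m, s, p, hp1, hp2, hp3, -⟩ :=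
    exists_mid I F G α (0 : G ⟶ G) hF hG hG hK hρr hC
  obtain ⟨β, hβ⟩ := completion_iso_of_isCok' I F _ p hp1 hp2
  refine ⟨midObj I F G α (0 : G ⟶ G) e m, midι I F G α (0 : G ⟶ G) e m ≫ biprod.fst, β.symm,
    isCoh_midObj I F G α (0 : G ⟶ G) hF hG hG e m, ⟨t + e + 1, ?_, ?_⟩, fun n => ?_⟩
  · intro c hc
    exact killedBy_kernel_midι_fst I F G α (0 : G ⟶ G) hF e m c
      (Ideal.pow_le_pow_right (by omega) hc)
  · intro c hc
    rw [← cancel_epi (cokernel.π (midι I F G α (0 : G ⟶ G) e m ≫ biprod.fst)), comp_zero,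
      ← smulMod_naturality]
    have e1 : t + e + 1 + 1 = (t + 1) + (e + 1) := by omega
    rw [e1, pow_add] at hc
    refine Submodule.mul_induction_on hc (fun c₁ h₁ c₂ h₂ => ?_) (fun x y hx hy => ?_)
    · exact smulMod_comp_cokernel_π I G hG F hF α hcok e m c₁ c₂ h₁ h₂
    · rw [smulMod_add, Preadditive.add_comp, hx, hy, add_zero]
  · show Formal.modPowπ I (n + 1) _ ≫ β.hom.app (op n) ≫ α.app (op n) = _
    have e1 : Formal.modPowπ I (n + 1) (midObj I F G α (0 : G ⟶ G) e m) ≫ β.hom.app (op n) ≫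
        α.app (op n) = p n ≫ α.app (op n) := by
      rw [← Category.assoc, hβ n]
    have e2 : p n ≫ α.app (op n) =
        (p n ≫ (sigE I F G α e).app (op n)) ≫ fstE I F G e n := by
      rw [Category.assoc, sigE_fst]
      rfl
    have e3 : (midι I F G α (0 : G ⟶ G) e m ≫ piE I F G e n) ≫ fstE I F G e n =
        (midι I F G α (0 : G ⟶ G) e m ≫ biprod.fst) ≫ qπ (I ^ (n + 1)) G := by
      simp only [Category.assoc, piE_fst]
    rw [e1, e2, hp3 n]
    exact e3

end Groth.Agent.S0829
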