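import Groth.Statements.S0851
import Groth.Agent.Lib.Helper8.GEFamily

set_option autoImplicit false
universe u
open Formal2

namespace Groth.Agent.S0851

open CategoryTheory CategoryTheory.Limits AlgebraicGeometry Opposite in
/-- Part (2), existence, for the ideal sheaf I·O_X of an ideal I of a base ring A (position n of a
system holds the quotient by I^(n+1)). Let X be a Noetherian scheme over Spec A, G a coherent
O_X-module and (F_n) a coherent formal module for I. Suppose α : (G/I^nG) → (F_n) is a map of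
systems such that one fixed power of I kills the kernel and the cokernel of every component. Then
there are a coherent O_X-module F, a map a : G → F with I-power-torsion kernel and cokernel, and an
isomorphism β : (F/I^nF) ≅ (F_n) under which α becomes the map induced by a. -/
theorem result (A : Type u) [CommRing A] (I : Ideal A) (X : Scheme.{u})
    [X.Over (Spec (CommRingCat.of A))] [IsNoetherian X] (G : X.Modules) (hG : Coh.IsCoh G)
    (F : ℕᵒᵖ ⥤ X.Modules) (hF : Formal.IsCohFormal I F) (α : Formal.completion I G ⟶ F)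
    (hα : Formal2.KerCokerKilledByIPow I α) :
    ∃ (F' : X.Modules) (a : G ⟶ F') (β : Formal.completion I F' ≅ F), Coh.IsCoh F' ∧
      Formal2.KerCokerKilledByIPowHom I a ∧
      ∀ n : ℕ, Formal.modPowπ I (n + 1) G ≫ α.app (op n) = a ≫ Formal.modPowπ I (n + 1) F' ≫ β.hom.app (op n) := by
  classical
  obtain ⟨t, ht⟩ := hα
  obtain ⟨d₀, W, hW, hcov⟩ := Groth.Agent.Lib.Lead.GE.exists_finite_affine_cover X
  obtain ⟨𝔞₀, hfg, hle, hmap⟩ := Groth.Agent.Lib.Lead.GE.exists_fg_le_map_le (I ^ (t + 1)) W hW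
  obtain ⟨s, b, hb⟩ := Submodule.fg_iff_exists_fin_generating_family.1 hfg
  have hbI : ∀ j, b j ∈ I ^ (t + 1) := fun j =>
    hle (by rw [← hb]; exact Submodule.subset_span ⟨j, rfl⟩)
  have hker : ∀ (j : Fin s) (n : ℕ), kernel.ι (α.app (op n)) ≫
      Formal.smulMod A ((Formal.completion I G).obj (op n)) (b j) = 0 := by
    intro j n
    rw [← Groth.Agent.Lib.helper8.FF.smulMod_naturality, (ht n).1 (b j) (hbI j), zero_comp]
  have hcok : ∀ (j : Fin s) (n : ℕ), Formal.smulMod A (F.obj (op n)) (b j) ≫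
      cokernel.π (α.app (op n)) = 0 := by
    intro j n
    rw [Groth.Agent.Lib.helper8.FF.smulMod_naturality, (ht n).2 (b j) (hbI j), comp_zero]
  let dec : Fin (s * s) → Fin s × Fin s := finProdFinEquiv.symm
  let c : Fin (s * s) → A := fun k => b (dec k).1 * b (dec k).2
  let ρ : Fin (s * s) → (F ⟶ Formal.completion I G) := fun k =>
    Groth.Agent.Lib.helper8.GEFamily.rhoInv I G F α hG hF (b (dec k).1) (b (dec k).2)
      (hker _) (hcok _)
  refine Groth.Agent.Lib.helper8.GEFamily.exists_right I G F α c ρ hG hF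
    (fun k n => Groth.Agent.Lib.helper8.GEFamily.comp_rhoInv I G F α hG hF _ _ _ _ n)
    (fun k n => Groth.Agent.Lib.helper8.GEFamily.rhoInv_comp I G F α hG hF _ _ _ _ n)
    (fun k l n => Groth.Agent.Lib.helper8.GEFamily.rhoInv_comm I G F α hG hF _ _ _ _ _ _ _ _ n)
    (q' := (t + 1) + (t + 1)) W hW hcov (fun i => ?_)
  rw [pow_add, Ideal.map_mul]
  refine (Ideal.mul_mono (hmap i) (hmap i)).trans ?_
  rw [← hb, Ideal.map_span, Ideal.span_mul_span', Ideal.span_le]
  rintro _ ⟨_, ⟨_, ⟨j₁, rfl⟩, rfl⟩, _, ⟨_, ⟨j₂, rfl⟩, rfl⟩, rfl⟩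
  refine Ideal.subset_span ⟨finProdFinEquiv (j₁, j₂), ?_⟩
  show Groth.Agent.Lib.Lead.GE.resA A (W i)
    (b (finProdFinEquiv.symm (finProdFinEquiv (j₁, j₂))).1 *
      b (finProdFinEquiv.symm (finProdFinEquiv (j₁, j₂))).2) = _
  rw [Equiv.symm_apply_apply, map_mul]

end Groth.Agent.S0851
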