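import Groth.Statements.S18022
import Mathlib

set_option autoImplicit false
open W4c5stacksedinertia

namespace Groth.Agent.S18022

section IdxAPI
open W4c5stacksedinertia

/-- the presentation of `H` is isomorphic to `H`. -/
noncomputable def ofEquiv (H : Type) [Group H] [Finite H] : (FinGrp.of H).carrier ≃* H :=
  (Nat.equivFinOfCardPos (α := H) Nat.card_pos.ne').symm.mulEquiv

theorem of_congr {H H' : Type} [Group H] [Finite H] [Group H'] [Finite H'] (e : H ≃* H') :
    Idx.of H = Idx.of H' :=
  Quotient.sound ⟨(ofEquiv H).trans (e.trans (ofEquiv H').symm)⟩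

theorem nonempty_rep_equiv (H : Type) [Group H] [Finite H] : Nonempty ((Idx.of H).rep ≃* H) := by
  obtain ⟨e⟩ := Quotient.mk_out (s := FinGrp.setoid) (FinGrp.of H)
  exact ⟨e.trans (ofEquiv H)⟩

theorem of_rep (i : Idx) : Idx.of i.rep = i := by
  unfold Idx.of
  have h : FinGrp.setoid.r (FinGrp.of i.rep) (Quotient.out (s := FinGrp.setoid) i) :=
    ⟨ofEquiv i.rep⟩
  rw [Quotient.sound h, Quotient.out_eq]

theorem centerCard_of (H : Type) [Group H] [Finite H] :
    (Idx.of H).centerCard = Nat.card (Subgroup.center H) := by
  obtain ⟨e⟩ := nonempty_rep_equiv H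
  unfold Idx.centerCard
  exact Nat.card_congr (Subgroup.centerCongr e).toEquiv

theorem cl_rep (i : Idx) : cl i.rep = Finsupp.single i 1 := by
  unfold cl
  rw [of_rep]

theorem cl_mem_Kge (n : ℕ) (H : Type) [Group H] [Finite H] (hn : n ≤ Nat.card (Subgroup.center H)) :
    cl H ∈ Kge n := by
  unfold cl Kge
  apply Finsupp.single_mem_supported
  change n ≤ (Idx.of H).centerCard
  rw [centerCard_of]
  exact hn

theorem Kge_anti {m n : ℕ} (h : m ≤ n) : Kge n ≤ Kge m := by
  unfold Kge
  apply Finsupp.supported_mono
  intro j hj
  exact le_trans h hj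

end IdxAPI


section Count
open W4c5stacksedinertia
variable (G : Type) [Group G] [Finite G] (r : ℕ)

instance : Finite (CommTuple G r) := by unfold CommTuple; infer_instance
instance : Finite (CommTuple.Orbit G r) := by unfold CommTuple.Orbit; exact Quotient.finite _

/-- the chosen tuple of an orbit -/
noncomputable def outT (O : CommTuple.Orbit G r) : CommTuple G r :=
  Quotient.out (s := CommTuple.setoid G r) O

/-- orbit of central tuples -/
def IsCentral (O : CommTuple.Orbit G r) : Prop := ∀ j, (outT G r O).1 j ∈ Subgroup.center G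

theorem centralizer_of_central (O : CommTuple.Orbit G r) (h : IsCentral G r O) :
    Subgroup.centralizer (Set.range (outT G r O).1) = ⊤ := by
  rw [eq_top_iff]
  intro x _
  rw [Subgroup.mem_centralizer_iff]
  rintro y ⟨j, rfl⟩
  exact (Subgroup.mem_center_iff.mp (h j) x).symm

theorem cl_top : cl (⊤ : Subgroup G) = cl G := by
  unfold cl
  rw [of_congr (Subgroup.topEquiv : (⊤ : Subgroup G) ≃* G)]

theorem card_center_centralizer_of_not_central (O : CommTuple.Orbit G r) (h : ¬ IsCentral G r O) :
    Nat.card (Subgroup.center G) + 1 ≤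
      Nat.card (Subgroup.center (Subgroup.centralizer (Set.range (outT G r O).1))) := by
  unfold IsCentral at h
  push Not at h
  obtain ⟨j, hj⟩ := h
  set s := outT G r O with hs
  set H := Subgroup.centralizer (Set.range s.1) with hH
  let Z' : Subgroup G := (Subgroup.center H).map H.subtype
  have hcard : Nat.card Z' = Nat.card (Subgroup.center H) :=
    Nat.card_congr ((Subgroup.center H).equivMapOfInjective H.subtype H.subtype_injective).symm.toEquiv
  have hle : Subgroup.center G ≤ Z' := by
    intro z hz
    have hzH : z ∈ H := by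
      rw [hH, Subgroup.mem_centralizer_iff]
      intro y _
      exact Subgroup.mem_center_iff.mp hz y
    refine ⟨⟨z, hzH⟩, ?_, rfl⟩
    rw [SetLike.mem_coe, Subgroup.mem_center_iff]
    intro g
    apply Subtype.ext
    exact Subgroup.mem_center_iff.mp hz g
  have hsj : s.1 j ∈ Z' := by
    have hsH : s.1 j ∈ H := by
      rw [hH, Subgroup.mem_centralizer_iff]
      rintro y ⟨i, rfl⟩
      exact (s.2.2 i j).eq
    refine ⟨⟨s.1 j, hsH⟩, ?_, rfl⟩
    rw [SetLike.mem_coe, Subgroup.mem_center_iff]
    intro g
    apply Subtype.ext
    have hg : (g : G) ∈ Subgroup.centralizer (Set.range s.1) := g.2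
    rw [Subgroup.mem_centralizer_iff] at hg
    exact (hg (s.1 j) ⟨j, rfl⟩).symm
  by_contra hlt
  push Not at hlt
  have hle' : Nat.card Z' ≤ Nat.card (Subgroup.center G) := by
    rw [hcard]; exact Nat.lt_succ_iff.mp hlt
  have heq := Subgroup.eq_of_le_of_card_ge hle hle'
  apply hj
  rw [heq]
  exact hsj

theorem out_mk_central (t : CommTuple G r) (ht : ∀ j, t.1 j ∈ Subgroup.center G) :
    outT G r (Quotient.mk (CommTuple.setoid G r) t) = t := by
  obtain ⟨g, hg⟩ := Quotient.mk_out (s := CommTuple.setoid G r) t
  apply Subtype.ext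
  funext j
  have h1 : g * (outT G r (Quotient.mk (CommTuple.setoid G r) t)).1 j * g⁻¹ = t.1 j := hg j
  have h2 : (outT G r (Quotient.mk (CommTuple.setoid G r) t)).1 j = g⁻¹ * t.1 j * g := by
    rw [← h1]
    group
  rw [h2, mul_assoc, ← Subgroup.mem_center_iff.mp (ht j) g, ← mul_assoc, inv_mul_cancel, one_mul]

/-- the central tuple of an embedding into the centre -/
def tupleOf (e : Fin r ↪ Subgroup.center G) : CommTuple G r :=
  ⟨fun j => (e j : G), fun a b hab => e.injective (Subtype.ext hab), fun i j =>
    Subgroup.mem_center_iff.mp (e j).2 (e i)⟩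

theorem card_central :
    Nat.card {O : CommTuple.Orbit G r // IsCentral G r O} =
      (Nat.card (Subgroup.center G)).descFactorial r := by
  classical
  haveI : Fintype (Subgroup.center G) := Fintype.ofFinite _
  let φ : (Fin r ↪ Subgroup.center G) → {O : CommTuple.Orbit G r // IsCentral G r O} := fun e =>
    ⟨Quotient.mk (CommTuple.setoid G r) (tupleOf G r e), by
      intro j
      rw [out_mk_central G r (tupleOf G r e) (fun j => (e j).2)]
      exact (e j).2⟩
  have hφ : Function.Bijective φ := by
    constructor
    · intro e e' hee'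
      have h1 := congrArg (fun O => outT G r O.1) hee'
      simp only [φ] at h1
      rw [out_mk_central G r (tupleOf G r e) (fun j => (e j).2),
        out_mk_central G r (tupleOf G r e') (fun j => (e' j).2)] at h1
      ext j
      exact congrFun (congrArg Subtype.val h1) j
    · rintro ⟨O, hO⟩
      let e : Fin r ↪ Subgroup.center G :=
        ⟨fun j => ⟨(outT G r O).1 j, hO j⟩, fun a b hab => (outT G r O).2.1 (congrArg Subtype.val hab)⟩
      refine ⟨e, Subtype.ext ?_⟩
      show Quotient.mk (CommTuple.setoid G r) (tupleOf G r e) = O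
      have : tupleOf G r e = outT G r O := Subtype.ext rfl
      rw [this]
      exact Quotient.out_eq O
  rw [← Nat.card_congr (Equiv.ofBijective φ hφ), Nat.card_eq_fintype_card,
    Fintype.card_embedding_eq, Fintype.card_fin, Nat.card_eq_fintype_card]

theorem inertiaROf_sub_mem :
    inertiaROf r G -
      ((Nat.factorial r * Nat.choose (Nat.card (Subgroup.center G)) r : ℕ) : ℚ) • cl G ∈
      Kge (Nat.card (Subgroup.center G) + 1) := by
  classical
  haveI : Fintype (CommTuple.Orbit G r) := Fintype.ofFinite _
  set c := Nat.card (Subgroup.center G) with hc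
  have hdef : inertiaROf r G = ∑ O : CommTuple.Orbit G r,
      cl (Subgroup.centralizer (Set.range (outT G r O).1)) := by
    unfold inertiaROf
    rw [finsum_eq_sum_of_fintype]
    rfl
  rw [hdef, ← Finset.sum_filter_add_sum_filter_not Finset.univ (IsCentral G r)]
  have h1 : ∑ O ∈ Finset.univ.filter (IsCentral G r),
      cl (Subgroup.centralizer (Set.range (outT G r O).1)) =
      ((Nat.factorial r * Nat.choose c r : ℕ) : ℚ) • cl G := by
    rw [Finset.sum_congr rfl (fun O hO => by
      rw [centralizer_of_central G r O (Finset.mem_filter.mp hO).2, cl_top]),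
      Finset.sum_const, ← Nat.descFactorial_eq_factorial_mul_choose, ← card_central G r,
      Nat.card_eq_fintype_card, Fintype.card_subtype, Nat.cast_smul_eq_nsmul]
  rw [h1, add_sub_cancel_left]
  refine Submodule.sum_mem _ (fun O hO => ?_)
  exact cl_mem_Kge _ _
    (card_center_centralizer_of_not_central G r O (Finset.mem_filter.mp hO).2)

end Count

open W4c5stacksedinertia in
/-- In the rational vector space K with basis the isomorphism classes of finite groups (the class of a
group standing for its classifying groupoid), the operator `inertiaR r` (class of `G` goes to the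
sum, over conjugacy classes of `r`-tuples of pairwise distinct pairwise commuting elements, of the
classes of their common centralizers) preserves the descending filtration by the order of the centre
and acts on its `k`-th graded piece as multiplication by `r! * Nat.choose k r`: for `v` in the span
of classes with centre of order at least `k`, `inertiaR r v - (r! * Nat.choose k r) • v` lies in the
span of classes with centre of order at least `k + 1`. -/
theorem result (r k : ℕ) (v : K) (hv : v ∈ Kge k) :
    inertiaR r v - ((Nat.factorial r * Nat.choose k r : ℕ) : ℚ) • v ∈ Kge (k + 1) := by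
  set q : ℚ := ((Nat.factorial r * Nat.choose k r : ℕ) : ℚ) with hq
  have hsub : (v.support : Set Idx) ⊆ {j : Idx | k ≤ j.centerCard} :=
    (Finsupp.mem_supported ℚ v).mp hv
  have h1 : inertiaR r v = ∑ i ∈ v.support, v i • inertiaROf r i.rep := by
    unfold inertiaR
    rw [Finsupp.linearCombination_apply]
    rfl
  have h2 : q • v = ∑ i ∈ v.support, v i • (q • Finsupp.single i (1 : ℚ)) := by
    conv_lhs => rw [← Finsupp.sum_single v]
    unfold Finsupp.sum
    rw [Finset.smul_sum]
    refine Finset.sum_congr rfl (fun i _ => ?_)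
    rw [Finsupp.smul_single, Finsupp.smul_single, Finsupp.smul_single, smul_eq_mul, smul_eq_mul,
      smul_eq_mul, mul_one, mul_comm]
  rw [h1, h2, ← Finset.sum_sub_distrib]
  refine Submodule.sum_mem _ (fun i hi => ?_)
  rw [← smul_sub]
  refine Submodule.smul_mem _ _ ?_
  have hk : k ≤ i.centerCard := hsub hi
  set c := Nat.card (Subgroup.center i.rep) with hc
  have hkc : k ≤ c := hk
  have hA := inertiaROf_sub_mem i.rep r
  rw [cl_rep] at hA
  have hsplit : inertiaROf r i.rep - q • Finsupp.single i (1 : ℚ) =
      (inertiaROf r i.rep - ((Nat.factorial r * Nat.choose c r : ℕ) : ℚ) • Finsupp.single i (1 : ℚ)) +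
      (((Nat.factorial r * Nat.choose c r : ℕ) : ℚ) - q) • Finsupp.single i (1 : ℚ) := by
    rw [sub_smul]; abel
  rw [hsplit]
  refine Submodule.add_mem _ (Kge_anti (by omega) hA) ?_
  rcases Nat.eq_or_lt_of_le hkc with h | h
  · rw [← h, hq, sub_self, zero_smul]
    exact Submodule.zero_mem _
  · refine Submodule.smul_mem _ _ ?_
    unfold Kge
    apply Finsupp.single_mem_supported
    exact h

end Groth.Agent.S18022
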