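import Groth.Statements.S14954
import Mathlib
import Groth.Agent.Lib.Helper8.MilnorFlat
import Groth.Agent.S14953

set_option autoImplicit false
universe u
open TensorProduct
open EtAlg

namespace Groth.Agent.S14954


/-- If `L'` is flat and `S ⊗ L'` is finitely presented, then for a surjection `f` from a finite
module onto `L'`, the base change `S ⊗ ker f` is a finite `S`-module. -/
theorem finite_baseChange_ker {R : Type u} [CommRing R] (S : Type u) [CommRing S] [Algebra R S]
    {F L' : Type u} [AddCommGroup F] [Module R F] [Module.Finite R F]
    [AddCommGroup L'] [Module R L'] [Module.Flat R L'] [Module.FinitePresentation S (S ⊗[R] L')]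
    (f : F →ₗ[R] L') (hf : Function.Surjective f) :
    Module.Finite S (S ⊗[R] LinearMap.ker f) := by
  have hexact : Function.Exact (LinearMap.ker f).subtype f := LinearMap.exact_subtype_ker_map f
  have hinj : Function.Injective ((LinearMap.ker f).subtype.lTensor S) :=
    LinearMap.lTensor_injective_of_exact_of_flat f hf _ (LinearMap.ker f).injective_subtype hexact S
  have hex2 : Function.Exact ((LinearMap.ker f).subtype.lTensor S) (f.lTensor S) :=
    lTensor_exact S hexact hf
  have hsurj : Function.Surjective (f.baseChange S) := by
    have : Function.Surjective (f.lTensor S) := LinearMap.lTensor_surjective S hf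
    exact this
  have hfg : (LinearMap.ker (f.baseChange S)).FG := Module.FinitePresentation.fg_ker _ hsurj
  haveI : Module.Finite S (LinearMap.ker (f.baseChange S)) := Module.Finite.iff_fg.mpr hfg
  let g : S ⊗[R] LinearMap.ker f →ₗ[S] LinearMap.ker (f.baseChange S) :=
    LinearMap.codRestrict _ ((LinearMap.ker f).subtype.baseChange S) (fun x => by
      rw [LinearMap.mem_ker]
      exact (hex2 _).2 ⟨x, rfl⟩)
  have hg : Function.Bijective g := by
    constructor
    · intro x y hxy
      exact hinj (congrArg Subtype.val hxy)
    · intro y
      obtain ⟨x, hx⟩ := (hex2 y.1).1 y.2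
      exact ⟨x, Subtype.ext hx⟩
  exact Module.Finite.equiv (LinearEquiv.ofBijective g hg).symm

/-- Let B' = B ×_A A' be a fibre product of commutative rings with A' → A surjective and L' a B'-module.
If B ⊗_{B'} L' is flat and finitely presented over B and A' ⊗_{B'} L' is flat and finitely presented
over A', then L' is finitely presented over B'. (Together with descent of flatness, L' is then flat
of finite presentation, i.e. finite locally free.) -/
theorem result (B' B A' A : Type u) [CommRing B'] [CommRing B] [CommRing A'] [CommRing A]
    [Algebra B' B] [Algebra B' A'] [Algebra B A] [Algebra A' A] [Algebra B' A] [IsScalarTower B' B A] [IsScalarTower B' A' A]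
    (hsq : EtMil.IsFibreSquare B' B A' A)
    (L' : Type u) [AddCommGroup L'] [Module B' L']
    [Module.Flat B (B ⊗[B'] L')] [Module.FinitePresentation B (B ⊗[B'] L')]
    [Module.Flat A' (A' ⊗[B'] L')] [Module.FinitePresentation A' (A' ⊗[B'] L')] :
    Module.FinitePresentation B' L' := by
  haveI : Module.Flat B' L' := Groth.Agent.Lib.helper8.Mil.flat_of_flat_baseChangePair hsq L'
  haveI : Module.Finite B' L' := Groth.Agent.S14953.result B' B A' A hsq L'
  obtain ⟨n, f, hf⟩ := Module.Finite.exists_fin' B' L'
  haveI : Module.Finite B (B ⊗[B'] LinearMap.ker f) := finite_baseChange_ker B f hf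
  haveI : Module.Finite A' (A' ⊗[B'] LinearMap.ker f) := finite_baseChange_ker A' f hf
  haveI : Module.Finite B' (LinearMap.ker f) :=
    Groth.Agent.S14953.result B' B A' A hsq (LinearMap.ker f)
  exact Module.finitePresentation_of_surjective f hf (Module.Finite.iff_fg.mp inferInstance)

end Groth.Agent.S14954
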