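import Groth.Statements.S9672
import Mathlib
import Groth.Agent.Lib.Helper4.GlueClosedPoint
import Groth.Agent.Lib.Helper4.BiratFibre

set_option autoImplicit false
universe u
open CategoryTheory CategoryTheory.Limits AlgebraicGeometry
open Mor

namespace Groth.Agent.S9672

/-- Let f : Y ⟶ X be quasi-compact and quasi-separated, and write X' for the normalization of X relative
to Y. If x' ∈ X' is the generic point of some irreducible component of X', then there is a point y ∈
Y that is generic in an irreducible component of Y and is sent to x' by the canonical morphism Y ⟶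
X'. -/
theorem result {X Y : Scheme.{u}} (f : Y ⟶ X)
    [QuasiCompact f] [QuasiSeparated f] (x' : ↥f.normalization)
    (hx' : closure {x'} ∈ irreducibleComponents ↥f.normalization) :
    ∃ y : Y, closure {y} ∈ irreducibleComponents ↥Y ∧ f.toNormalization.base y = x' := by
  have hd : DenseRange f.toNormalization := (inferInstance : IsDominant f.toNormalization).1
  have hcl : x' ∈ closure (Set.range f.toNormalization) := hd x'
  obtain ⟨y₀, hy₀⟩ :=
    Groth.Agent.Lib.Helper4.GlueClosedPoint.exists_specializes_of_mem_closure_range
      f.toNormalization x' hcl
  have hy₀' : f.toNormalization y₀ = x' :=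
    Groth.Agent.Lib.Helper4.BiratFibre.eq_of_specializes_of_mem_irreducibleComponents hx' hy₀
  obtain ⟨y, hy⟩ := QuasiSober.sober (isIrreducible_irreducibleComponent (x := y₀))
    isClosed_irreducibleComponent
  have hyG : closure {y} ∈ irreducibleComponents ↥Y := by
    rw [hy.def]
    exact irreducibleComponent_mem_irreducibleComponents y₀
  have hsp : y ⤳ y₀ := by
    rw [specializes_iff_mem_closure, hy.def]
    exact mem_irreducibleComponent
  have hsp' : f.toNormalization y ⤳ x' := by
    rw [← hy₀']
    exact hsp.map f.toNormalization.continuous
  exact ⟨y, hyG,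
    Groth.Agent.Lib.Helper4.BiratFibre.eq_of_specializes_of_mem_irreducibleComponents hx' hsp'⟩

end Groth.Agent.S9672
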