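import Groth.Statements.S4463
import Groth.Agent.Lib.Helper8.ZConn6

set_option autoImplicit false
universe u
open Coherent

namespace Groth.Agent.S4463

open AlgebraicGeometry CategoryTheory in
/-- Stein factorisation. Let Y be locally Noetherian and f : X → Y proper, and let X → Y' → Y be its
Stein factorisation, Y' being the spectrum of the O_Y-algebra f_* O_X (realised here as the relative
normalization of Y in X, which is that spectrum because f_* O_X is integral over O_Y for f
universally closed). Then for every point y of Y the fibre of Y' → Y at y is finite, the map X_y →
Y'_y induced on fibres is surjective, and two points of X_y have the same image if and only if they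
lie in the same connected component of X_y: the connected components of X_y are in bijection with
the points of Y'_y. -/
theorem result {X Y : Scheme.{u}} (f : X ⟶ Y) [IsProper f]
    [IsLocallyNoetherian Y] (y : Y) :
    Finite ↥(f.fromNormalization.fiber y) ∧
    Function.Surjective (CohIII.fiberMapOver f.toNormalization f f.fromNormalization
        f.toNormalization_fromNormalization y).base ∧
    ∀ x x' : ↥(f.fiber y),
      (CohIII.fiberMapOver f.toNormalization f f.fromNormalization f.toNormalization_fromNormalization y).base x =
        (CohIII.fiberMapOver f.toNormalization f f.fromNormalization f.toNormalization_fromNormalization y).base x' ↔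
      connectedComponent x = connectedComponent x' := by
  haveI := Groth.Agent.Lib.helper8.ZConn.isFinite_fromNormalization f
  haveI := Groth.Agent.Lib.helper8.ZConn.geometricallyConnected_toNormalization f
  set F := CohIII.fiberMapOver f.toNormalization f f.fromNormalization
    f.toNormalization_fromNormalization y with hF
  have hcomm : ∀ p : ↥(f.fiber y),
      f.fromNormalization.fiberι y (F.base p) = f.toNormalization (f.fiberι y p) := by
    intro p
    have h1 : F ≫ f.fromNormalization.fiberι y = f.fiberι y ≫ f.toNormalization :=
      CategoryTheory.Limits.pullback.lift_fst _ _ _
    exact congr($(h1) p)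
  have hinj : Function.Injective (f.fromNormalization.fiberι y) :=
    (f.fromNormalization.fiberι y).isEmbedding.injective
  refine ⟨(f.fromNormalization.fiberHomeo y).finite_iff.mpr
    (f.fromNormalization.finite_preimage_singleton y), ?_, ?_⟩
  · intro q
    obtain ⟨x₀, hx₀⟩ := f.toNormalization.surjective (f.fromNormalization.fiberι y q)
    have hq : f.fromNormalization (f.fromNormalization.fiberι y q) = y := by
      have : f.fromNormalization.fiberι y q ∈ Set.range (f.fromNormalization.fiberι y) := ⟨q, rfl⟩
      rw [Scheme.Hom.range_fiberι] at this
      exact this
    have hx₀y : x₀ ∈ Set.range (f.fiberι y) := by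
      rw [Scheme.Hom.range_fiberι]
      show f x₀ = y
      rw [← hq, ← hx₀, ← Scheme.Hom.comp_apply, f.toNormalization_fromNormalization]
    obtain ⟨p, rfl⟩ := hx₀y
    exact ⟨p, hinj ((hcomm p).trans hx₀)⟩
  · intro x x'
    constructor
    · intro hxx
      set y' := f.fromNormalization.fiberι y (F.base x) with hy'
      have hy'y : f.fromNormalization y' = y := by
        have : y' ∈ Set.range (f.fromNormalization.fiberι y) := ⟨_, rfl⟩
        rw [Scheme.Hom.range_fiberι] at this
        exact this
      let S : Set ↥(f.fiber y) := (f.fiberι y) ⁻¹' (f.toNormalization ⁻¹' {y'})
      have hsub : f.toNormalization ⁻¹' {y'} ⊆ Set.range (f.fiberι y) := by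
        intro z hz
        rw [Scheme.Hom.range_fiberι]
        show f z = y
        rw [← hy'y, ← (show f.toNormalization z = y' from hz), ← Scheme.Hom.comp_apply,
          f.toNormalization_fromNormalization]
      have hS : _root_.IsPreconnected S := by
        rw [← (f.fiberι y).isEmbedding.toIsInducing.isPreconnected_image,
          Set.image_preimage_eq_of_subset hsub]
        exact (f.toNormalization.isConnected_preimage_singleton y').isPreconnected
      have hxS : x ∈ S := (hcomm x).symm
      have hx'S : x' ∈ S := by
        show f.toNormalization (f.fiberι y x') = y'
        rw [← hcomm x', ← hxx]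
      exact connectedComponent_eq (hS.subset_connectedComponent hxS hx'S)
    · intro hcc
      have h1 : _root_.IsPreconnected (F.base '' connectedComponent x) :=
        isPreconnected_connectedComponent.image _ F.continuous.continuousOn
      exact h1.subsingleton ⟨x, mem_connectedComponent, rfl⟩
        ⟨x', hcc ▸ mem_connectedComponent, rfl⟩

end Groth.Agent.S4463
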