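import Groth.Statements.S0237
import Mathlib

set_option autoImplicit false
universe u
open Pi1

namespace Groth.Agent.S0237

open AlgebraicGeometry CategoryTheory CategoryTheory.Limits in
/-- Two morphisms `a b : U ⟶ V` over `Y`, with `V ⟶ Y` separated and unramified of finite type,
which agree after precomposition with a morphism of dense range, are equal. -/
lemma eq_of_dense {U V Y W : Scheme.{u}} (u : U ⟶ Y) (v : V ⟶ Y) [IsSeparated v]
    [FormallyUnramified v] [LocallyOfFiniteType v]
    (a b : U ⟶ V) (ha : a ≫ v = u) (hb : b ≫ v = u) (p : W ⟶ U) (hp : DenseRange p.base)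
    (h : p ≫ a = p ≫ b) : a = b := by
  let Δ := pullback.diagonal v
  let g : U ⟶ pullback v v := pullback.lift a b (by rw [ha, hb])
  let e : pullback g Δ ⟶ U := pullback.fst g Δ
  have hpg : p ≫ g = (p ≫ a) ≫ Δ := by
    apply pullback.hom_ext
    · simp only [g, Δ, Category.assoc, pullback.lift_fst, pullback.diagonal_fst, Category.comp_id]
    · simp only [g, Δ, Category.assoc, pullback.lift_snd, pullback.diagonal_snd, Category.comp_id, h]
  let l : W ⟶ pullback g Δ := pullback.lift p (p ≫ a) hpg
  have hl : l ≫ e = p := pullback.lift_fst _ _ _
  have he_open : IsOpenImmersion e := inferInstance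
  have he_closed : IsClosedImmersion e := inferInstance
  have hsurj : Function.Surjective e.base := by
    rw [← Set.range_eq_univ]
    have hclosed : IsClosed (Set.range e.base) := e.isClosedEmbedding.isClosed_range
    have hdense : Dense (Set.range e.base) := by
      refine hp.mono ?_
      rw [← hl]
      rintro _ ⟨w, rfl⟩
      exact ⟨l.base w, by simp⟩
    rw [← hclosed.closure_eq]
    exact hdense.closure_eq
  have : Epi e.base := (TopCat.epi_iff_surjective _).2 hsurj
  have : IsIso e := IsOpenImmersion.isIso e
  have h1 : e ≫ a = pullback.snd g Δ := by
    have : e ≫ g = pullback.snd g Δ ≫ Δ := pullback.condition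
    have := congrArg (· ≫ pullback.fst v v) this
    simpa only [g, Δ, Category.assoc, pullback.lift_fst, pullback.diagonal_fst, Category.comp_id]
      using this
  have h2 : e ≫ b = pullback.snd g Δ := by
    have : e ≫ g = pullback.snd g Δ ≫ Δ := pullback.condition
    have := congrArg (· ≫ pullback.snd v v) this
    simpa only [g, Δ, Category.assoc, pullback.lift_snd, pullback.diagonal_snd, Category.comp_id]
      using this
  exact (cancel_epi e).1 (h1.trans h2.symm)

open AlgebraicGeometry CategoryTheory in
/-- If a morphism of schemes has dense image, pulling back finite etale covers along it is faithful. -/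
theorem result {X Y : Scheme.{u}} (f : X ⟶ Y)
    (h : DenseRange f.base) : (FEt.restrict f).Faithful := by
  constructor
  intro U V a b hab
  have hV : FEt.prop V.hom := V.prop
  have hU : FEt.prop U.hom := U.prop
  have : IsFinite V.hom := hV.1
  have : Etale V.hom := hV.2
  have : IsFinite U.hom := hU.1
  have : Etale U.hom := hU.2
  have hleft : Limits.pullback.fst U.hom f ≫ a.left = Limits.pullback.fst U.hom f ≫ b.left := by
    have := congrArg (fun t => t.left ≫ Limits.pullback.fst V.hom f) hab
    simp only [FEt.restrict, MorphismProperty.Over.pullback] at this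
    erw [Limits.pullback.lift_fst, Limits.pullback.lift_fst] at this
    exact this
  have hdense : DenseRange (Limits.pullback.fst U.hom f).base := by
    change Dense (Set.range (Limits.pullback.fst U.hom f).base)
    rw [Scheme.Pullback.range_fst]
    exact h.preimage U.hom.isOpenMap
  have := eq_of_dense U.hom V.hom a.left b.left (Over.w a.hom) (Over.w b.hom)
    (Limits.pullback.fst U.hom f) hdense hleft
  ext1
  exact this

end Groth.Agent.S0237
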