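import Groth.Statements.S6294
import Mathlib

set_option autoImplicit false
universe u
open CAlg

namespace Groth.Agent.S6294

/-- Let R be a ring with finitely many minimal primes q₁, …, q_t, and assume that the zerodivisors of R
are precisely the elements of q₁ ∪ … ∪ q_t. Then Q(R), the total ring of fractions of R, equals
R_{q₁} × … × R_{q_t}: the diagonal map R → ∏ R_{q_i} is a localization of R at its non-zerodivisors. -/
theorem result {R : Type u} [CommRing R] {ι : Type} [Fintype ι] (q : ι → Ideal R) [∀ i, (q i).IsPrime] (hinj : Function.Injective q) (hmin : ∀ P : Ideal R, P ∈ minimalPrimes R ↔ P ∈ Set.range q) (hzd : ∀ x : R, x ∈ nonZeroDivisors R ↔ ∀ i, x ∉ q i) : IsLocalization (nonZeroDivisors R) (∀ i, Localization.AtPrime (q i)) := by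
  classical
  have hqmin : ∀ i, q i ∈ minimalPrimes R := fun i => (hmin _).mpr ⟨i, rfl⟩
  have he : ∀ i, ∃ e, e ∉ q i ∧ ∀ j, j ≠ i → e ∈ q j := by
    intro i
    by_contra hcon
    push Not at hcon
    have h1 : (Finset.univ.erase i).inf q ≤ q i := by
      intro a ha
      by_contra hai
      obtain ⟨j, hji, haj⟩ := hcon a hai
      have : (Finset.univ.erase i).inf q ≤ q j :=
        Finset.inf_le (Finset.mem_erase.mpr ⟨hji, Finset.mem_univ j⟩)
      exact haj (this ha)
    obtain ⟨j, hj, hjle⟩ := (Ideal.IsPrime.inf_le' inferInstance).mp h1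
    have hji : j ≠ i := (Finset.mem_erase.mp hj).1
    have : q j = q i := le_antisymm hjle ((hqmin i).2 (hqmin j).1 hjle)
    exact hji (hinj this)
  choose e he1 he2 using he
  have hnil : ∀ i j, ∃ n : ℕ, ∃ u : R, j ≠ i → (u ∉ q j ∧ u * e i ^ n = 0) := by
    intro i j
    by_cases hji : j = i
    · exact ⟨0, 0, fun h => absurd hji h⟩
    have h1 := IsLocalization.AtPrime.radical_map_of_mem_minimalPrimes
      (A := Localization.AtPrime (q j)) (q j) ⊥ (hqmin j)
    have h2 : algebraMap R (Localization.AtPrime (q j)) (e i) ∈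
        (q j).map (algebraMap R (Localization.AtPrime (q j))) :=
      Ideal.mem_map_of_mem _ (he2 i j hji)
    rw [← h1, Ideal.map_bot] at h2
    obtain ⟨n, hn⟩ := h2
    rw [Ideal.mem_bot, ← map_pow, IsLocalization.map_eq_zero_iff (q j).primeCompl] at hn
    obtain ⟨u, hu⟩ := hn
    exact ⟨n, u, fun _ => ⟨u.2, hu⟩⟩
  choose n u hnu using hnil
  set N : ℕ := ∑ i, ∑ j, n i j with hN
  let f : ι → R := fun i => e i ^ (N + 1)
  have hf1 : ∀ i, f i ∉ q i := fun i h => he1 i (Ideal.IsPrime.mem_of_pow_mem inferInstance _ h)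
  have hf2 : ∀ i j, j ≠ i → f i ∈ q j := fun i j hji =>
    Ideal.pow_mem_of_mem _ (he2 i j hji) _ (Nat.succ_pos N)
  have hf3 : ∀ i j, j ≠ i → algebraMap R (Localization.AtPrime (q j)) (f i) = 0 := by
    intro i j hji
    rw [IsLocalization.map_eq_zero_iff (q j).primeCompl]
    obtain ⟨hu1, hu2⟩ := hnu i j hji
    refine ⟨⟨u i j, hu1⟩, ?_⟩
    have hle : n i j ≤ N + 1 := by
      have h1 : n i j ≤ ∑ j', n i j' := Finset.single_le_sum (f := fun j' => n i j')
        (fun _ _ => Nat.zero_le _) (Finset.mem_univ j)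
      have h2 : ∑ j', n i j' ≤ N := Finset.single_le_sum (f := fun i' => ∑ j', n i' j')
        (fun _ _ => Nat.zero_le _) (Finset.mem_univ i)
      omega
    show u i j * e i ^ (N + 1) = 0
    rw [← Nat.sub_add_cancel hle, pow_add, ← mul_assoc, mul_comm (u i j), mul_assoc, hu2, mul_zero]
  -- key: combos
  have hcombo_nzd : ∀ s : ι → R, (∀ i, s i ∉ q i) → ∑ i, f i * s i ∈ nonZeroDivisors R := by
    intro s hs
    rw [hzd]
    intro j hj
    rw [← Finset.add_sum_erase Finset.univ _ (Finset.mem_univ j)] at hj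
    have h1 : ∑ i ∈ Finset.univ.erase j, f i * s i ∈ q j :=
      Ideal.sum_mem _ fun i hi => Ideal.mul_mem_right _ _ (hf2 i j (Finset.mem_erase.mp hi).1.symm)
    have h2 : f j * s j ∈ q j := (Ideal.add_mem_iff_left _ h1).mp hj
    rcases Ideal.IsPrime.mem_or_mem inferInstance h2 with h | h
    · exact hf1 j h
    · exact hs j h
  have hcombo_map : ∀ (s : ι → R) (j : ι), algebraMap R (Localization.AtPrime (q j)) (∑ i, f i * s i) =
      algebraMap R (Localization.AtPrime (q j)) (f j) * algebraMap R (Localization.AtPrime (q j)) (s j) := by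
    intro s j
    rw [map_sum, ← Finset.add_sum_erase Finset.univ _ (Finset.mem_univ j), map_mul]
    have : ∑ i ∈ Finset.univ.erase j, algebraMap R (Localization.AtPrime (q j)) (f i * s i) = 0 := by
      apply Finset.sum_eq_zero
      intro i hi
      rw [map_mul, hf3 i j (Finset.mem_erase.mp hi).1.symm, zero_mul]
    rw [this, add_zero]
  rw [isLocalization_iff]
  refine ⟨?_, ?_, ?_⟩
  · intro s
    rw [Pi.isUnit_iff]
    intro i
    rw [Pi.algebraMap_apply]
    exact IsLocalization.map_units (Localization.AtPrime (q i))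
      (⟨s.1, ((hzd s.1).mp s.2) i⟩ : (q i).primeCompl)
  · intro z
    have hz : ∀ i, ∃ (a : R) (s : R), s ∉ q i ∧
        z i * algebraMap R (Localization.AtPrime (q i)) s = algebraMap R (Localization.AtPrime (q i)) a := by
      intro i
      obtain ⟨⟨a, s⟩, h⟩ := IsLocalization.surj (q i).primeCompl (z i)
      exact ⟨a, s.1, s.2, h⟩
    choose a s hs hzas using hz
    refine ⟨⟨∑ i, f i * a i, ⟨∑ i, f i * s i, hcombo_nzd s hs⟩⟩, ?_⟩
    funext j
    simp only [Pi.mul_apply, Pi.algebraMap_apply]
    rw [hcombo_map s j, hcombo_map a j, ← hzas j]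
    ring
  · intro x y hxy
    have hu : ∀ i, ∃ c : R, c ∉ q i ∧ c * x = c * y := by
      intro i
      have h1 : algebraMap R (Localization.AtPrime (q i)) x =
          algebraMap R (Localization.AtPrime (q i)) y := by
        have := congrFun hxy i
        simpa only [Pi.algebraMap_apply] using this
      obtain ⟨c, hc⟩ := (IsLocalization.eq_iff_exists (q i).primeCompl _).mp h1
      exact ⟨c.1, c.2, hc⟩
    choose c hc1 hc2 using hu
    refine ⟨⟨∑ i, f i * c i, hcombo_nzd c hc1⟩, ?_⟩
    show (∑ i, f i * c i) * x = (∑ i, f i * c i) * y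
    rw [Finset.sum_mul, Finset.sum_mul]
    apply Finset.sum_congr rfl
    intro i _
    rw [mul_assoc, mul_assoc, hc2 i]

end Groth.Agent.S6294
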