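import Groth.Statements.S6295
import Mathlib
-- import your own Groth.Agent.* helpers here

set_option autoImplicit false
universe u
open CAlg

namespace Groth.Agent.S6295

/-- Let R be a reduced ring. Then every localization R_p at a minimal prime p is a field and the map R →
∏_{p minimal} R_p is injective (so R is a subring of a product of fields); moreover the set of
zerodivisors of R is the union of the minimal primes. -/
theorem result (R : Type u) [CommRing R] [IsReduced R] : (∀ p : PrimeSpectrum R, p.asIdeal ∈ minimalPrimes R → IsField (Localization.AtPrime p.asIdeal)) ∧ Function.Injective (algebraMap R (∀ p : {p : PrimeSpectrum R // p.asIdeal ∈ minimalPrimes R}, Localization.AtPrime p.1.asIdeal)) ∧ (∀ x : R, x ∉ nonZeroDivisors R ↔ ∃ p ∈ minimalPrimes R, x ∈ p) := by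
  -- key fact: a nonzero element avoids some minimal prime
  have key : ∀ y : R, y ≠ 0 → ∃ p ∈ minimalPrimes R, y ∉ p := by
    intro y hy
    have hnil : y ∉ nilradical R := by
      rw [nilradical_eq_zero]; exact hy
    rw [nilradical_eq_sInf, Ideal.mem_sInf] at hnil
    push Not at hnil
    obtain ⟨P, hP, hyP⟩ := hnil
    haveI : P.IsPrime := hP
    obtain ⟨p, hp, hpP⟩ := Ideal.exists_minimalPrimes_le (I := ⊥) (J := P) bot_le
    exact ⟨p, hp, fun h => hyP (hpP h)⟩
  refine ⟨?_, ?_, ?_⟩
  · intro p hp
    haveI : IsReduced (Localization.AtPrime p.asIdeal) := inferInstance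
    rw [IsLocalRing.isField_iff_maximalIdeal_eq,
      ← IsLocalization.AtPrime.map_eq_maximalIdeal p.asIdeal (Localization.AtPrime p.asIdeal),
      ← IsLocalization.AtPrime.radical_map_of_mem_minimalPrimes (Localization.AtPrime p.asIdeal)
        p.asIdeal ⊥ hp, Ideal.map_bot]
    exact nilradical_eq_zero _
  · rw [injective_iff_map_eq_zero]
    intro x hx
    by_contra hx0
    obtain ⟨p, hp, hxp⟩ := key x hx0
    haveI : p.IsPrime := hp.1.1
    have := congrFun hx ⟨⟨p, hp.1.1⟩, hp⟩
    simp only [Pi.algebraMap_apply, Pi.zero_apply] at this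
    obtain ⟨s, hs⟩ := (IsLocalization.map_eq_zero_iff p.primeCompl (Localization.AtPrime p) x).mp this
    have h0 : (s : R) * x ∈ p := by rw [hs]; exact p.zero_mem
    rcases hp.1.1.mem_or_mem h0 with h | h
    · exact s.2 h
    · exact hxp h
  · intro x
    constructor
    · intro hx
      rw [mem_nonZeroDivisors_iff_right] at hx
      push Not at hx
      obtain ⟨y, hxy, hy⟩ := hx
      obtain ⟨p, hp, hyp⟩ := key y hy
      refine ⟨p, hp, ?_⟩
      have h0 : x * y ∈ p := by rw [mul_comm, hxy]; exact p.zero_mem
      rcases hp.1.1.mem_or_mem h0 with h | h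
      · exact h
      · exact (hyp h).elim
    · rintro ⟨p, hp, hxp⟩
      exact notMem_nonZeroDivisors_of_mem_mem_minimalPrimes hxp hp

end Groth.Agent.S6295
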