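import Groth.Statements.S9811
import Mathlib
import Groth.Agent.Lib.Helper10.BranchSum

set_option autoImplicit false
universe u
open Brnch

namespace Groth.Agent.S9811

open Groth.Agent.Lib.helper10.BranchSum

set_option linter.style.haveILetI false
set_option linter.unusedSectionVars false

/-- A surjection of fields induces a compatible isomorphism of algebraic closures. -/
theorem exists_closure_equiv {κ κ' : Type u} [Field κ] [Field κ'] (g : κ →+* κ')
    (hg : Function.Surjective g) :
    ∃ ψ : AlgebraicClosure κ' ≃+* AlgebraicClosure κ,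
      ∀ x, ψ (algebraMap κ' (AlgebraicClosure κ') (g x)) = algebraMap κ (AlgebraicClosure κ) x := by
  letI : Algebra κ κ' := g.toAlgebra
  haveI : Algebra.IsIntegral κ κ' := Algebra.isIntegral_of_surjective hg
  haveI : Algebra.IsAlgebraic κ κ' := Algebra.IsIntegral.isAlgebraic
  haveI : Algebra.IsAlgebraic κ (AlgebraicClosure κ') :=
    Algebra.IsAlgebraic.trans κ κ' (AlgebraicClosure κ')
  haveI : IsAlgClosure κ (AlgebraicClosure κ') := ⟨inferInstance, inferInstance⟩
  let ψ := IsAlgClosure.equiv κ (AlgebraicClosure κ') (AlgebraicClosure κ)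
  refine ⟨ψ.toRingEquiv, fun x => ?_⟩
  have := ψ.commutes x
  rw [IsScalarTower.algebraMap_apply κ κ' (AlgebraicClosure κ') x] at this
  exact this

section EmbEquiv

variable (A : Type u) [CommRing A] [IsLocalRing A] (p : minimalPrimes A) [IsLocalRing (A ⧸ p.1)]

/-- The compatible isomorphism of algebraic closures of the residue fields of `A/p` and `A`. -/
theorem exists_psi :
    ∃ ψ : AlgebraicClosure (IsLocalRing.ResidueField (A ⧸ p.1)) ≃+*
        AlgebraicClosure (IsLocalRing.ResidueField A),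
      ∀ a : A, ψ (Brnch.toClosure (A ⧸ p.1) (Ideal.Quotient.mk p.1 a)) = Brnch.toClosure A a := by
  haveI : IsLocalHom (Ideal.Quotient.mk p.1) :=
    IsLocalHom.of_surjective _ Ideal.Quotient.mk_surjective
  have hg : Function.Surjective (IsLocalRing.ResidueField.map (Ideal.Quotient.mk p.1)) := by
    intro z
    obtain ⟨b, rfl⟩ := IsLocalRing.residue_surjective z
    obtain ⟨a, rfl⟩ := Ideal.Quotient.mk_surjective b
    exact ⟨IsLocalRing.residue A a, rfl⟩
  obtain ⟨ψ, hψ⟩ := exists_closure_equiv _ hg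
  refine ⟨ψ, fun a => ?_⟩
  exact hψ (IsLocalRing.residue A a)

variable (ρ : CAlg2.normRed A →+* CAlg2.normRed (A ⧸ p.1)) (hs : Function.Surjective ρ)
  (halg : ∀ a, ρ (algebraMap (CAlg2.red A) (CAlg2.normRed A) (Ideal.Quotient.mk _ a)) =
        algebraMap (CAlg2.red (A ⧸ p.1)) (CAlg2.normRed (A ⧸ p.1))
          (Ideal.Quotient.mk _ (Ideal.Quotient.mk p.1 a)))
  (n : MaximalSpectrum (CAlg2.normRed (A ⧸ p.1))) (m : MaximalSpectrum (CAlg2.normRed A))
  (hm : m.asIdeal = n.asIdeal.comap ρ)

include hs halg hm in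
theorem nonempty_emb_equiv : Nonempty (Brnch.Emb (A ⧸ p.1) n ≃ Brnch.Emb A m) := by
  obtain ⟨ψ, hψ⟩ := exists_psi A p
  -- the isomorphism of residue fields
  let θ₀ : CAlg2.normRed A ⧸ m.asIdeal →+* CAlg2.normRed (A ⧸ p.1) ⧸ n.asIdeal :=
    Ideal.quotientMap n.asIdeal ρ hm.le
  have hθ₀ : Function.Bijective θ₀ :=
    ⟨Ideal.quotientMap_injective' hm.ge, Ideal.quotientMap_surjective hs⟩
  let θ : CAlg2.normRed A ⧸ m.asIdeal ≃+* CAlg2.normRed (A ⧸ p.1) ⧸ n.asIdeal :=
    RingEquiv.ofBijective θ₀ hθ₀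
  have hθ : ∀ a : A, θ (Brnch.toResidue A m a) =
      Brnch.toResidue (A ⧸ p.1) n (Ideal.Quotient.mk p.1 a) := by
    intro a
    change θ₀ (Ideal.Quotient.mk m.asIdeal _) = Ideal.Quotient.mk n.asIdeal _
    rw [Ideal.quotientMap_mk]
    congr 1
    exact halg a
  refine ⟨{ toFun := fun σ => ⟨ψ.toRingHom.comp (σ.1.comp θ.toRingHom), ?_⟩
            invFun := fun τ => ⟨ψ.symm.toRingHom.comp (τ.1.comp θ.symm.toRingHom), ?_⟩
            left_inv := ?_
            right_inv := ?_ }⟩
  · ext a
    have h1 : σ.1 (Brnch.toResidue (A ⧸ p.1) n (Ideal.Quotient.mk p.1 a)) =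
        Brnch.toClosure (A ⧸ p.1) (Ideal.Quotient.mk p.1 a) :=
      congrArg (fun f => f (Ideal.Quotient.mk p.1 a)) σ.2
    change ψ (σ.1 (θ (Brnch.toResidue A m a))) = _
    rw [hθ, h1, hψ]
  · ext a
    have h1 : τ.1 (Brnch.toResidue A m a) = Brnch.toClosure A a :=
      congrArg (fun f => f a) τ.2
    change ψ.symm (τ.1 (θ.symm (Brnch.toResidue (A ⧸ p.1) n (Ideal.Quotient.mk p.1 a)))) = _
    rw [← hθ, RingEquiv.symm_apply_apply, h1, ← hψ, RingEquiv.symm_apply_apply]
    rfl
  · intro σ
    apply Subtype.ext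
    refine RingHom.ext fun x => ?_
    change ψ.symm (ψ (σ.1 (θ (θ.symm x)))) = _
    rw [RingEquiv.symm_apply_apply, RingEquiv.apply_symm_apply]
  · intro τ
    apply Subtype.ext
    refine RingHom.ext fun x => ?_
    change ψ (ψ.symm (τ.1 (θ.symm (θ x)))) = _
    rw [RingEquiv.apply_symm_apply, RingEquiv.symm_apply_apply]

end EmbEquiv


/-- Geometric branches, in terms of the local ring: for a local ring A with finitely many minimal prime
ideals, the number of geometric branches of A is the sum over the minimal primes p of the numbers of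
geometric branches of the local domains A/p. -/
theorem result (A : Type u) [CommRing A] [IsLocalRing A]
    (h : (minimalPrimes A).Finite) :
    Brnch.numGeomBranches A =
      ∑ᶠ p : minimalPrimes A,
        haveI : p.1.IsPrime := p.2.1.1
        Brnch.numGeomBranches (A ⧸ p.1) := by
  classical
  haveI := h.to_subtype
  haveI := Fintype.ofFinite (minimalPrimes A)
  haveI hp : ∀ p : minimalPrimes A, p.1.IsPrime := fun p => p.2.1.1
  obtain ⟨ρ, hs, halg, hco, hinf⟩ := exists_rho A h
  have hb := comapMax_bijective ρ hs hco hinf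
  rw [finsum_eq_sum_of_fintype]
  have hfin : ∀ p : minimalPrimes A, (minimalPrimes (A ⧸ p.1)).Finite := by
    intro p
    haveI := isDomain_quot A p
    rw [IsDomain.minimalPrimes_eq_singleton_bot (A ⧸ p.1)]
    exact Set.finite_singleton _
  unfold Brnch.numGeomBranches
  rw [if_pos h]
  have hsum : ∀ p ∈ (Finset.univ : Finset (minimalPrimes A)),
      (if (minimalPrimes (A ⧸ p.1)).Finite then
        ENat.card (Σ m' : MaximalSpectrum (CAlg2.normRed (A ⧸ p.1)), Brnch.Emb (A ⧸ p.1) m')
          else ⊤) =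
      ENat.card (Σ m' : MaximalSpectrum (CAlg2.normRed (A ⧸ p.1)), Brnch.Emb (A ⧸ p.1) m') :=
    fun p _ => if_pos (hfin p)
  rw [Finset.sum_congr rfl hsum, ← enat_card_sigma]
  let e := Equiv.ofBijective _ hb
  have hE : ∀ x : (Σ p : minimalPrimes A, MaximalSpectrum (CAlg2.normRed (A ⧸ p.1))),
      Nonempty (Brnch.Emb (A ⧸ x.1.1) x.2 ≃ Brnch.Emb A (e x)) := fun x =>
    nonempty_emb_equiv A x.1 (ρ x.1) (hs x.1) (halg x.1) x.2 (e x) rfl
  refine ENat.card_congr ?_
  exact ((Equiv.sigmaAssoc _).symm.trans (Equiv.sigmaCongr e fun x => (hE x).some)).symm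

end Groth.Agent.S9811
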