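import Groth.Statements.S9752
-- import your own Groth.Agent.* helpers here
import Groth.Agent.S9237
import Groth.Agent.Lib.Helper1.BranchCount
import Groth.Agent.Lib.Helper1.EssEtStalk

set_option backward.isDefEq.respectTransparency false
set_option linter.style.haveILetI false

set_option autoImplicit false
universe u
open Brnch

namespace Groth.Agent.S9752

open AlgebraicGeometry CategoryTheory Limits
open Groth.Agent.H1.EssEtStalk Groth.Agent.H1.BranchCount Groth.Agent.Lib.helper24.Henselization

/-- The branch number of `X` at `x` is the number of minimal primes of the henselization of the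
local ring. -/
theorem numBranchesAt_eq_encard (X : Scheme.{u}) (x : X) :
    Brnch.numBranchesAt X x = (minimalPrimes (Hens (X.presheaf.stalk x))).encard := by
  have h1 := Groth.Agent.S9237.result (X.presheaf.stalk x) (Hens (X.presheaf.stalk x))
  show Brnch.numBranches (X.presheaf.stalk x) = _
  rw [← h1]
  rfl

/-- For an elementary étale neighbourhood, the number of components through the point is bounded
by the branch number. -/
theorem encard_le_numBranchesAt {X U : Scheme.{u}} (g : U ⟶ X) (u : U) (x : X)
    (h : Hens2.IsEtaleNbhd g u x) :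
    {Z : Set ↑U | Z ∈ irreducibleComponents ↑U ∧ u ∈ Z}.encard ≤ Brnch.numBranchesAt X x := by
  obtain ⟨het, hgu, hbij⟩ := h
  subst hgu
  rw [← encard_minimalPrimes_stalk_eq U u]
  let H := Hens (U.presheaf.stalk u)
  letI : Algebra ↥(X.presheaf.stalk (g.base u)) ↥(U.presheaf.stalk u) :=
    (g.stalkMap u).hom.toAlgebra
  haveI : IsLocalHom (algebraMap ↥(X.presheaf.stalk (g.base u)) ↥(U.presheaf.stalk u)) :=
    inferInstanceAs (IsLocalHom (g.stalkMap u).hom)
  have hess := isEssentiallyEtale_stalkMap g u
  letI : Algebra ↥(X.presheaf.stalk (g.base u)) H :=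
    ((algebraMap ↥(U.presheaf.stalk u) H).comp
      (algebraMap ↥(X.presheaf.stalk (g.base u)) ↥(U.presheaf.stalk u))).toAlgebra
  obtain ⟨hloc, hhens⟩ := isHenselization_of_strictEssEtale (X.presheaf.stalk (g.base u))
    (U.presheaf.stalk u) H ⟨hess, hbij⟩
  have h1 := Groth.Agent.S9237.result (X.presheaf.stalk (g.base u)) H
  have h2 : Brnch.numBranchesAt X (g.base u) = (minimalPrimes H).encard := by
    show Brnch.numBranches (X.presheaf.stalk (g.base u)) = _
    rw [← h1]
    rfl
  rw [h2]
  haveI := faithfullyFlat_of_isHenselization (U.presheaf.stalk u) H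
  exact encard_minimalPrimes_le_of_faithfullyFlat _ _

/-- Approximating the branch number by neighbourhoods. -/
theorem exists_nbhd_le (X : Scheme.{u}) (x : X) (j : ℕ)
    (hj : (j : ℕ∞) ≤ Brnch.numBranchesAt X x) :
    ∃ (U : Scheme.{u}) (g : U ⟶ X) (u : U), Hens2.IsEtaleNbhd g u x ∧
      (j : ℕ∞) ≤ {Z : Set ↑U | Z ∈ irreducibleComponents ↑U ∧ u ∈ Z}.encard := by
  rw [numBranchesAt_eq_encard] at hj
  obtain ⟨i, hi⟩ := exists_idx_le_encard j hj
  obtain ⟨W, g, w, hg, ⟨e⟩⟩ := exists_etaleNbhd_stalk_equiv X x i
  refine ⟨W, g, w, hg, ?_⟩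
  rw [← encard_minimalPrimes_stalk_eq W w, encard_minimalPrimes_of_ringEquiv e]
  exact hi

open AlgebraicGeometry CategoryTheory Limits in
/-- For a point x of a scheme X, the branch count of X at x (in ℕ∞) is the least upper bound, taken over
all elementary étale neighbourhoods (U, u) → (X, x) (g : U ⟶ X étale with g u = x and trivial
residue field extension), of how many irreducible components of U contain u. -/
theorem result (X : Scheme.{u}) (x : X) :
    Brnch.numBranchesAt X x = ⨆ (U : Scheme.{u}) (g : U ⟶ X) (u : U) (_ : Hens2.IsEtaleNbhd g u x),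
      {Z : Set ↑U | Z ∈ irreducibleComponents ↑U ∧ u ∈ Z}.encard := by
  apply le_antisymm
  · apply ENat.forall_natCast_le_iff_le.1
    intro j hj
    obtain ⟨U, g, u, hg, hle⟩ := exists_nbhd_le X x j hj
    refine hle.trans ?_
    exact le_iSup_of_le U (le_iSup_of_le g (le_iSup_of_le u (le_iSup_of_le hg le_rfl)))
  · refine iSup_le fun U => iSup_le fun g => iSup_le fun u => iSup_le fun hg => ?_
    exact encard_le_numBranchesAt g u x hg

end Groth.Agent.S9752
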