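import Groth.Statements.S9810
import Mathlib
import Groth.Agent.Lib.Helper10.BranchSum

set_option autoImplicit false
universe u
open Brnch

namespace Groth.Agent.S9810

open Groth.Agent.Lib.helper10.BranchSum

set_option linter.style.haveILetI false


/-- Branches, in terms of the local ring: for a local ring A with finitely many minimal prime ideals,
the number of branches of A is the sum over the minimal primes p of the numbers of branches of the
local domains A/p. Geometrically: the number of branches of a scheme at a point is the sum of the
numbers of branches at that point of the irreducible components passing through it. -/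
theorem result (A : Type u) [CommRing A] [IsLocalRing A]
    (h : (minimalPrimes A).Finite) :
    Brnch.numBranches A =
      ∑ᶠ p : minimalPrimes A,
        haveI : p.1.IsPrime := p.2.1.1
        Brnch.numBranches (A ⧸ p.1) := by
  classical
  haveI := h.to_subtype
  haveI := Fintype.ofFinite (minimalPrimes A)
  obtain ⟨ρ, hs, -, hco, hinf⟩ := exists_rho A h
  have hb := comapMax_bijective ρ hs hco hinf
  rw [finsum_eq_sum_of_fintype]
  have hfin : ∀ p : minimalPrimes A, (minimalPrimes (A ⧸ p.1)).Finite := by
    intro p
    haveI := isDomain_quot A p
    rw [IsDomain.minimalPrimes_eq_singleton_bot (A ⧸ p.1)]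
    exact Set.finite_singleton _
  unfold Brnch.numBranches
  rw [if_pos h]
  have hsum : ∀ p ∈ (Finset.univ : Finset (minimalPrimes A)),
      (if (minimalPrimes (A ⧸ p.1)).Finite then
        ENat.card (MaximalSpectrum (CAlg2.normRed (A ⧸ p.1))) else ⊤) =
      ENat.card (MaximalSpectrum (CAlg2.normRed (A ⧸ p.1))) := fun p _ => if_pos (hfin p)
  rw [Finset.sum_congr rfl hsum, ← enat_card_sigma]
  exact (ENat.card_congr (Equiv.ofBijective _ hb)).symm

end Groth.Agent.S9810
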