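import Groth.Statements.S1419
import Mathlib
import Groth.Agent.Lib.Helper13.EL8
import Groth.Agent.Lib.Helper13.WT2
import Groth.Agent.Lib.Helper13.WT3
import Groth.Agent.Lib.Helper13.WT4
-- import your own Groth.Agent.* helpers here

set_option autoImplicit false
universe u
open FlatMor

namespace Groth.Agent.S1419

open AlgebraicGeometry CategoryTheory Limits Groth.Agent.Lib.helper13 Groth.Agent.Lib.helper13.WT in
/-- The local computation: after the étale localization, the fibre integral is locally a finite sum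
of pulled back fibre integrals of `w`. -/
lemma aux {X Y : Scheme.{u}} (f : X ⟶ Y) (w : ↑X → ℤ) (hw : MoreMor.IsWeighting f w)
    {X' Y' : Scheme.{u}} (f' : X' ⟶ Y') (h : X' ⟶ X) (g : Y' ⟶ Y) (hc : IsPullback h f' f g)
    {V' : Scheme.{u}} (g₁' : V' ⟶ Y') (U' : (pullback f' g₁').Opens)
    (hfinU' : IsFinite (U'.ι ≫ pullback.snd f' g₁')) (v'₀ : V')
    {n : ℕ} (x : Fin n → X) (hxinj : Function.Injective x)
    (hximg : ∀ p ∈ U', pullback.snd f' g₁' p = v'₀ → ∃ i, x i = h (pullback.fst f' g₁' p))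
    {V : Scheme.{u}} (gV : V ⟶ Y) [Etale gV] (v₀ : V) (J : Fin n → Type) [∀ i, Finite (J i)]
    (Vo : ∀ i, J i → (pullback f gV).Opens) (vp : ∀ i, J i → ↑(pullback f gV))
    (hgood : ∀ i j, EL.IsGoodOpen f gV v₀ (x i) (Vo i j) (vp i j))
    (hPI : ∀ i j, ((pullback.snd f gV).residueFieldMap (vp i j)).hom.IsPurelyInseparable)
    (hvinj : ∀ i, Function.Injective (vp i))
    (hex : ∀ (z : ↑(pullback f gV)) (i : Fin n), pullback.snd f gV z = v₀ →
      pullback.fst f gV z = x i → ∃ j, z = vp i j)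
    {V'' : Scheme.{u}} (c : V'' ⟶ V') (d : V'' ⟶ V) (hcd : (c ≫ g₁') ≫ g = d ≫ gV)
    (hcopen : IsOpenMap c) (v''₀ : V'') (hcv : c v''₀ = v'₀) (hdv : d v''₀ = v₀) :
    ∃ O : Set V', IsOpen O ∧ v'₀ ∈ O ∧ ∀ v' ∈ O,
      MoreMor.fibreIntegral (U'.ι ≫ pullback.snd f' g₁')
        (fun u ↦ (w ∘ ⇑h) (pullback.fst f' g₁' (U'.ι u))) v' =
      MoreMor.fibreIntegral (U'.ι ≫ pullback.snd f' g₁')
        (fun u ↦ (w ∘ ⇑h) (pullback.fst f' g₁' (U'.ι u))) v'₀ := by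
  classical
  -- Step D
  obtain ⟨π, hπ⟩ : ∃ π : pullback f' (c ≫ g₁') ⟶ V'', π = pullback.snd f' (c ≫ g₁') := ⟨_, rfl⟩
  obtain ⟨r₁, hr₁⟩ : ∃ r₁ : pullback f' (c ≫ g₁') ⟶ pullback f' g₁',
    r₁ = EL.refineMap f' g₁' c (c ≫ g₁') rfl := ⟨_, rfl⟩
  have sq₁ : IsPullback r₁ π (pullback.snd f' g₁') c := by
    rw [hr₁, hπ]; exact EL.isPullback_refineMap f' g₁' c (c ≫ g₁') rfl
  have hr₁fst : ∀ p, pullback.fst f' g₁' (r₁ p) = pullback.fst f' (c ≫ g₁') p := by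
    intro p; rw [hr₁]; exact EL.refineMap_fst_apply f' g₁' c (c ≫ g₁') rfl p
  have hr₁snd : ∀ p, pullback.snd f' g₁' (r₁ p) = c (π p) := by
    intro p; rw [hr₁, hπ]; exact EL.refineMap_snd_apply f' g₁' c (c ≫ g₁') rfl p
  obtain ⟨ρ, hρfst, hρsnd⟩ : ∃ ρ : pullback f' (c ≫ g₁') ⟶ pullback f gV,
      ρ ≫ pullback.fst f gV = pullback.fst f' (c ≫ g₁') ≫ h ∧ ρ ≫ pullback.snd f gV = π ≫ d := by
    refine ⟨pullback.map f' (c ≫ g₁') f gV h d g hc.w.symm hcd, ?_, ?_⟩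
    · unfold pullback.map; rw [pullback.lift_fst]
    · unfold pullback.map; rw [pullback.lift_snd, hπ]
  have sq₂ : IsPullback ρ π (pullback.snd f gV) d := by
    refine IsPullback.of_right (h₁₂ := pullback.fst f gV) (h₂₂ := gV) (v₁₃ := f) ?_ hρsnd
      (IsPullback.of_hasPullback f gV)
    rw [hρfst, ← hcd, hπ]
    exact (IsPullback.of_hasPullback f' (c ≫ g₁')).paste_horiz hc
  obtain ⟨A, hA⟩ : ∃ A : (pullback f' (c ≫ g₁')).Opens, A = r₁ ⁻¹ᵁ U' := ⟨_, rfl⟩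
  let B : (Σ i, J i) → (pullback f' (c ≫ g₁')).Opens := fun s ↦ ρ ⁻¹ᵁ (Vo s.1 s.2)
  have hfinA : IsFinite (A.ι ≫ π) := by
    rw [hA]; exact isFinite_preimage_of_isPullback sq₁ U' hfinU'
  have hfinB : ∀ s, IsFinite ((B s).ι ≫ π) := fun s ↦
    isFinite_preimage_of_isPullback sq₂ _ (hgood s.1 s.2).finite
  -- Step F
  have hπpt : ∀ p, pullback.snd f gV (ρ p) = d (π p) := by
    intro p; rw [← Scheme.Hom.comp_apply, hρsnd, Scheme.Hom.comp_apply]
  have hρpt : ∀ s : Σ i, J i, ∀ p ∈ B s, π p = v''₀ → ρ p = vp s.1 s.2 := by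
    intro s p hp hπp
    exact (hgood s.1 s.2).uniq (ρ p) hp (by rw [hπpt, hπp, hdv])
  have huniq : ∀ s : Σ i, J i, ∀ p ∈ B s, ∀ p' ∈ B s, π p = v''₀ → π p' = v''₀ → p = p' := by
    intro s p hp p' hp' hπp hπp'
    have e1 := hρpt s p hp hπp
    have e2 := hρpt s p' hp' hπp'
    exact eq_of_isPullback_of_isPurelyInseparable sq₂ p p' (e1.trans e2.symm)
      (hπp.trans hπp'.symm) (by rw [e1]; exact hPI s.1 s.2)
  let σ := {s : Σ i, J i // ∃ p, p ∈ B s ∧ π p = v''₀ ∧ p ∈ A}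
  have : Finite σ := inferInstanceAs (Finite {s : Σ i, J i // ∃ p, p ∈ B s ∧ π p = v''₀ ∧ p ∈ A})
  have ha : ∀ s : σ, ∀ p ∈ B s.1, π p = v''₀ → p ∈ A := by
    rintro ⟨s, p₀, hp₀B, hp₀π, hp₀A⟩ p hp hπp
    rw [huniq s p hp p₀ hp₀B hπp hp₀π]; exact hp₀A
  have hb : ∀ s s' : σ, ∀ p, π p = v''₀ → p ∈ B s.1 → p ∈ B s'.1 → s = s' := by
    rintro ⟨⟨i, j⟩, hs⟩ ⟨⟨i', j'⟩, hs'⟩ p hπp hp hp'
    have e1 := hρpt ⟨i, j⟩ p hp hπp
    have e2 := hρpt ⟨i', j'⟩ p hp' hπp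
    have e3 : vp i j = vp i' j' := e1.symm.trans e2
    have hi : i = i' := hxinj (by rw [← (hgood i j).fst_eq, ← (hgood i' j').fst_eq, e3])
    subst hi
    have hj : j = j' := hvinj i e3
    subst hj
    rfl
  have hc' : ∀ p ∈ A, π p = v''₀ → ∃ s : σ, p ∈ B s.1 := by
    intro p hpA hπp
    have hpU : r₁ p ∈ U' := by rw [hA] at hpA; exact hpA
    have h1 : pullback.snd f' g₁' (r₁ p) = v'₀ := by rw [hr₁snd, hπp, hcv]
    obtain ⟨i, hi⟩ := hximg (r₁ p) hpU h1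
    have h2 : pullback.fst f gV (ρ p) = x i := by
      rw [hi, ← Scheme.Hom.comp_apply, hρfst, Scheme.Hom.comp_apply, hr₁fst]
    obtain ⟨j, hj⟩ := hex (ρ p) i (by rw [hπpt, hπp, hdv]) h2
    have hpB : p ∈ B ⟨i, j⟩ := by
      show ρ p ∈ Vo i j
      rw [hj]; exact (hgood i j).mem
    exact ⟨⟨⟨i, j⟩, p, hpB, hπp, hpA⟩, hpB⟩
  obtain ⟨N, hN₀, hN⟩ := exists_nbhd_decomposition π A (fun s : σ ↦ B s.1) (fun s ↦ hfinB s.1)
    v''₀ ha hb hc'
  -- Step G
  let G : σ → V → ℤ := fun s ↦ MoreMor.fibreIntegral ((Vo s.1.1 s.1.2).ι ≫ pullback.snd f gV)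
    (fun t ↦ w (pullback.fst f gV ((Vo s.1.1 s.1.2).ι t)))
  have hG : ∀ s, IsLocallyConstant (G s) := fun s ↦
    hw V gV (Vo s.1.1 s.1.2) (hgood s.1.1 s.1.2).finite
  have := Fintype.ofFinite σ
  have hkey : ∀ v'' : V'', v'' ∈ N →
      MoreMor.fibreIntegral (U'.ι ≫ pullback.snd f' g₁')
        (fun u ↦ (w ∘ ⇑h) (pullback.fst f' g₁' (U'.ι u))) (c v'') = ∑ s, G s (d v'') := by
    intro v'' hv''
    let Ω := AlgebraicClosure (V''.residueField v'')
    obtain ⟨xb, hxbdef⟩ : ∃ xb : Spec (.of Ω) ⟶ V'',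
      xb = Spec.map (CommRingCat.ofHom (algebraMap (V''.residueField v'') Ω)) ≫
        V''.fromSpecResidueField v'' := ⟨_, rfl⟩
    have hxb : xb (IsLocalRing.closedPoint Ω) = v'' := by
      rw [hxbdef, Scheme.Hom.comp_apply]
      exact Scheme.fromSpecResidueField_apply _ _
    have hL : MoreMor.fibreIntegral (U'.ι ≫ pullback.snd f' g₁')
        (fun u ↦ (w ∘ ⇑h) (pullback.fst f' g₁' (U'.ι u))) (c v'') =
        geomIntegral (pullback.snd f' g₁') Ω U' (fun p ↦ w (h (pullback.fst f' g₁' p)))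
          (xb ≫ c) :=
      fibreIntegral_eq_geomIntegral (pullback.snd f' g₁') Ω U'
        (fun p ↦ w (h (pullback.fst f' g₁' p))) (xb ≫ c) (c v'')
        (by rw [Scheme.Hom.comp_apply, hxb])
    have hL2 : geomIntegral (pullback.snd f' g₁') Ω U' (fun p ↦ w (h (pullback.fst f' g₁' p)))
        (xb ≫ c) =
        geomIntegral π Ω A (fun p ↦ w (h (pullback.fst f' g₁' (r₁ p)))) xb := by
      rw [hA]
      exact (geomIntegral_of_isPullback Ω sq₁ U' (fun p ↦ w (h (pullback.fst f' g₁' p))) xb).symm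
    have hdec : geomIntegral π Ω A (fun p ↦ w (h (pullback.fst f' g₁' (r₁ p)))) xb =
        ∑ s : σ, geomIntegral π Ω (B s.1) (fun p ↦ w (h (pullback.fst f' g₁' (r₁ p)))) xb := by
      refine geomIntegral_eq_sum π Ω A (fun s : σ ↦ B s.1) _ xb (fun s ↦ ?_) ?_ ?_
      · haveI := hfinB s.1
        exact finite_lifts_open π Ω (B s.1) xb
      · intro p hp
        exact (hN p (by rw [hp, hxb]; exact hv'')).1
      · intro p hp
        exact (hN p (by rw [hp, hxb]; exact hv'')).2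
    have hfun : (fun p : ↑(pullback f' (c ≫ g₁')) ↦ w (h (pullback.fst f' g₁' (r₁ p)))) =
        fun p ↦ w (pullback.fst f gV (ρ p)) := by
      funext p
      congr 1
      rw [hr₁fst, ← Scheme.Hom.comp_apply, ← Scheme.Hom.comp_apply, hρfst]
    have hR : ∀ s : σ, geomIntegral π Ω (B s.1) (fun p ↦ w (pullback.fst f gV (ρ p))) xb =
        G s (d v'') := by
      intro s
      have e1 := geomIntegral_of_isPullback Ω sq₂ (Vo s.1.1 s.1.2)
        (fun q ↦ w (pullback.fst f gV q)) xb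
      haveI := (hgood s.1.1 s.1.2).finite
      have e2 := fibreIntegral_eq_geomIntegral (pullback.snd f gV) Ω (Vo s.1.1 s.1.2)
        (fun q ↦ w (pullback.fst f gV q)) (xb ≫ d) (d v'') (by rw [Scheme.Hom.comp_apply, hxb])
      exact e1.trans e2.symm
    rw [hL, hL2, hdec, hfun]
    exact Finset.sum_congr rfl fun s _ ↦ hR s
  -- Step H
  have hH : ∃ O : Set V'', IsOpen O ∧ v''₀ ∈ O ∧ ∀ v'' ∈ O,
      (∑ s, G s (d v'')) = ∑ s, G s (d v''₀) := by
    have hs : ∀ s : σ, ∃ O : Set V'', IsOpen O ∧ v''₀ ∈ O ∧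
        ∀ v'' ∈ O, G s (d v'') = G s (d v''₀) := by
      intro s
      have := (hG s).comp_continuous d.continuous
      exact (IsLocallyConstant.iff_exists_open _).mp this v''₀
    choose O hO1 hO2 hO3 using hs
    exact ⟨⋂ s, O s, isOpen_iInter_of_finite hO1, Set.mem_iInter.mpr hO2, fun v'' hv'' ↦
      Finset.sum_congr rfl fun s _ ↦ hO3 s v'' (Set.mem_iInter.mp hv'' s)⟩
  obtain ⟨N', hN'open, hN'mem, hN'const⟩ := hH
  refine ⟨c '' ((N : Set V'') ∩ N'), ?_, ?_, ?_⟩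
  · exact hcopen _ (N.2.inter hN'open)
  · exact ⟨v''₀, ⟨hN₀, hN'mem⟩, hcv⟩
  · rintro _ ⟨v'', ⟨hv''N, hv''N'⟩, rfl⟩
    rw [hkey v'' hv''N, hN'const v'' hv''N', ← hcv, hkey v''₀ hN₀]

open AlgebraicGeometry CategoryTheory Limits in
/-- Let f be locally quasi-finite with a weighting w, and let f' : X' → Y' be a base change of f with
projection h : X' → X. Then w ∘ h is a weighting of f'. -/
theorem result {X Y : Scheme.{u}} (f : X ⟶ Y) [LocallyQuasiFinite f] [LocallyOfFiniteType f] (w : ↑X → ℤ) (hw : MoreMor.IsWeighting f w)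
    {X' Y' : Scheme.{u}} (f' : X' ⟶ Y') (h : X' ⟶ X) (g : Y' ⟶ Y) (hc : IsPullback h f' f g) :
    MoreMor.IsWeighting f' (w ∘ ⇑h) := by
  classical
  intro V' g₁' _ U' hfinU'
  rw [IsLocallyConstant.iff_exists_open]
  intro v'₀
  -- Step A: the images in `X` of the fibre points
  have hfibfin : ((U'.ι ≫ pullback.snd f' g₁') ⁻¹' {v'₀}).Finite :=
    Scheme.Hom.finite_preimage_singleton (U'.ι ≫ pullback.snd f' g₁') v'₀
  let Ximg : Set X := (fun t ↦ h (pullback.fst f' g₁' (U'.ι t))) ''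
    ((U'.ι ≫ pullback.snd f' g₁') ⁻¹' {v'₀})
  have hXimgfin : Ximg.Finite := hfibfin.image _
  have : Finite Ximg := hXimgfin.to_subtype
  let n := Nat.card Ximg
  let eX : Ximg ≃ Fin n := Finite.equivFin Ximg
  let x : Fin n → X := fun i ↦ (eX.symm i).1
  have hxinj : Function.Injective x := fun i i' hii ↦ eX.symm.injective (Subtype.ext hii)
  have hcomm_pt : ∀ p : ↑(pullback f' g₁'), f (h (pullback.fst f' g₁' p)) =
      g (g₁' (pullback.snd f' g₁' p)) := by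
    intro p
    have e : pullback.fst f' g₁' ≫ h ≫ f = pullback.snd f' g₁' ≫ g₁' ≫ g := by
      rw [hc.w, pullback.condition_assoc]
    rw [← Scheme.Hom.comp_apply, ← Scheme.Hom.comp_apply, ← Scheme.Hom.comp_apply,
      ← Scheme.Hom.comp_apply, e]
  have hxs : ∀ i, f (x i) = g (g₁' v'₀) := by
    intro i
    obtain ⟨t, ht, htx⟩ := (eX.symm i).2
    show f (eX.symm i).1 = g (g₁' v'₀)
    rw [← htx, hcomm_pt]
    have : pullback.snd f' g₁' (U'.ι t) = v'₀ := ht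
    rw [this]
  have hximg : ∀ p ∈ U', pullback.snd f' g₁' p = v'₀ → ∃ i, x i = h (pullback.fst f' g₁' p) := by
    intro p hpU hp
    have hmem : h (pullback.fst f' g₁' p) ∈ Ximg := ⟨⟨p, hpU⟩, hp, rfl⟩
    exact ⟨eX ⟨_, hmem⟩, by simp [x]⟩
  -- Step B: étale localization
  obtain ⟨V, gV, v₀, hgV, hgv, J, hJ, Vo, vp, hgood, hPI, hvinj, hex⟩ :=
    Groth.Agent.Lib.helper13.EL.exists_etale_nbhd_purelyInseparable (f := f) (g (g₁' v'₀)) x hxs
      (fun i ↦ f.quasiFiniteAt (x i))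
  -- Step C: the fibre product of étale neighbourhoods
  have hcond : (g₁' ≫ g) v'₀ = gV v₀ := by rw [Scheme.Hom.comp_apply, hgv]
  obtain ⟨v''₀, hcv, hdv⟩ := Scheme.Pullback.exists_preimage_pullback (f := g₁' ≫ g) (g := gV)
    v'₀ v₀ hcond
  exact aux f w hw f' h g hc g₁' U' hfinU' v'₀ x hxinj hximg gV v₀ J Vo vp hgood hPI hvinj hex
    (pullback.fst (g₁' ≫ g) gV) (pullback.snd (g₁' ≫ g) gV)
    (by rw [Category.assoc]; exact pullback.condition)
    (pullback.fst (g₁' ≫ g) gV).isOpenMap v''₀ hcv hdv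

end Groth.Agent.S1419
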