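import Groth.Statements.S1426
import Mathlib
import Groth.Agent.Lib.Helper13.EL8
import Groth.Agent.Lib.Helper13.WT3
import Groth.Agent.Lib.Helper13.WT5
-- import your own Groth.Agent.* helpers here

set_option autoImplicit false
universe u
open FlatMor

namespace Groth.Agent.S1426

open AlgebraicGeometry CategoryTheory Limits in
/-- Let f : X → Y be a morphism of schemes which is separated, locally of finite type and locally
quasi-finite with finite fibres (finite fibres are assumed so that the fibre integral is a finite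
sum), and let w be a weighting of f with w(x) > 0 for all x. Then the fibre integral of w along f is
a lower semicontinuous function on Y. -/
theorem result {X Y : Scheme.{u}} (f : X ⟶ Y) [LocallyQuasiFinite f] [LocallyOfFiniteType f] [IsSeparated f] (hfin : ∀ y : Y, (f ⁻¹' {y}).Finite)
    (w : ↑X → ℤ) (hw : MoreMor.IsWeighting f w) (hpos : ∀ x, 0 < w x) :
    LowerSemicontinuous (MoreMor.fibreIntegral f w) := by
  classical
  intro y
  suffices hmain : ∃ O : Set Y, IsOpen O ∧ y ∈ O ∧ ∀ y' ∈ O,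
      MoreMor.fibreIntegral f w y ≤ MoreMor.fibreIntegral f w y' by
    obtain ⟨O, hO, hy, hle⟩ := hmain
    intro c hc
    exact Filter.mem_of_superset (hO.mem_nhds hy) (fun y' hy' ↦ lt_of_lt_of_le hc (hle y' hy'))
  -- enumerate the fibre
  have : Finite (f ⁻¹' {y}) := (hfin y).to_subtype
  let n := Nat.card (f ⁻¹' {y})
  let eX : (f ⁻¹' {y}) ≃ Fin n := Finite.equivFin _
  let x : Fin n → X := fun i ↦ (eX.symm i).1
  have hxinj : Function.Injective x := fun i i' hii ↦ eX.symm.injective (Subtype.ext hii)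
  have hxs : ∀ i, f (x i) = y := fun i ↦ (eX.symm i).2
  have hxsurj : ∀ p, f p = y → ∃ i, x i = p := fun p hp ↦ ⟨eX ⟨p, hp⟩, by simp [x]⟩
  obtain ⟨V, gV, v₀, hgV, hgv, J, hJ, Vo, vp, hgood, hPI, hvinj, hex⟩ :=
    Groth.Agent.Lib.helper13.EL.exists_etale_nbhd_purelyInseparable (f := f) y x hxs (fun i ↦ f.quasiFiniteAt (x i))
  obtain ⟨π, hπ⟩ : ∃ π : pullback f gV ⟶ V, π = pullback.snd f gV := ⟨_, rfl⟩
  have sq : IsPullback (pullback.fst f gV) π f gV := hπ ▸ IsPullback.of_hasPullback f gV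
  have hcomm : ∀ p, f (pullback.fst f gV p) = gV (π p) := by
    intro p
    rw [← Scheme.Hom.comp_apply, ← Scheme.Hom.comp_apply, sq.w]
  let B : (Σ i, J i) → (pullback f gV).Opens := fun s ↦ Vo s.1 s.2
  have hBcl : ∀ s, IsClosed (B s : Set ↑(pullback f gV)) := fun s ↦
    (hgood s.1 s.2).closed inferInstance
  have hBfin : ∀ s, IsFinite ((B s).ι ≫ π) := fun s ↦ hπ ▸ (hgood s.1 s.2).finite
  have hBpt : ∀ s, ∀ p ∈ B s, π p = v₀ → p = vp s.1 s.2 := fun s p hp hπp ↦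
    (hgood s.1 s.2).uniq p hp (hπ ▸ hπp)
  have hdisj₀ : ∀ p, π p = v₀ → ∀ s s', p ∈ B s → p ∈ B s' → s = s' := by
    rintro p hπp ⟨i, j⟩ ⟨i', j'⟩ hp hp'
    have e3 : vp i j = vp i' j' := (hBpt ⟨i, j⟩ p hp hπp).symm.trans (hBpt ⟨i', j'⟩ p hp' hπp)
    have hi : i = i' := hxinj (by rw [← (hgood i j).fst_eq, ← (hgood i' j').fst_eq, e3])
    subst hi
    have hj : j = j' := hvinj i e3
    subst hj
    rfl
  -- `N₁`: disjointness
  have hcl2 : ∀ ss : (Σ i, J i) × (Σ i, J i), IsClosed (if ss.1 = ss.2 then (∅ : Set V) else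
      π '' ((B ss.1 : Set ↑(pullback f gV)) ∩ (B ss.2 : Set ↑(pullback f gV)))) := by
    intro ss
    split_ifs
    · exact isClosed_empty
    · haveI := hBfin ss.1
      exact Groth.Agent.Lib.helper13.WT.isClosed_image_inter π (B ss.1) _ (hBcl ss.2)
  let N₁ : Set V := (⋃ ss : (Σ i, J i) × (Σ i, J i), if ss.1 = ss.2 then (∅ : Set V) else
      π '' ((B ss.1 : Set ↑(pullback f gV)) ∩ (B ss.2 : Set ↑(pullback f gV))))ᶜ
  have hN₁open : IsOpen N₁ := (isClosed_iUnion_of_finite hcl2).isOpen_compl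
  have hN₁ : v₀ ∈ N₁ := by
    show v₀ ∉ ⋃ ss : (Σ i, J i) × (Σ i, J i), if ss.1 = ss.2 then (∅ : Set V) else
      π '' ((B ss.1 : Set ↑(pullback f gV)) ∩ (B ss.2 : Set ↑(pullback f gV)))
    rw [Set.mem_iUnion]
    rintro ⟨⟨s, s'⟩, hmem⟩
    by_cases hss : s = s'
    · simp [hss] at hmem
    · simp only [hss, if_false] at hmem
      obtain ⟨p, ⟨hp, hp'⟩, hπp⟩ := hmem
      exact hss (hdisj₀ p hπp s s' hp hp')
  have hdisj : ∀ p, π p ∈ N₁ → ∀ s s', p ∈ B s → p ∈ B s' → s = s' := by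
    intro p hpN s s' hp hp'
    by_contra hss
    apply hpN
    refine Set.mem_iUnion.mpr ⟨(s, s'), ?_⟩
    simp only [hss, if_false]
    exact ⟨p, ⟨hp, hp'⟩, rfl⟩
  -- the locally constant integrals
  let G : (Σ i, J i) → V → ℤ := fun s ↦ MoreMor.fibreIntegral ((B s).ι ≫ π)
    (fun t ↦ w (pullback.fst f gV ((B s).ι t)))
  have hG : ∀ s, IsLocallyConstant (G s) := fun s ↦ by
    have := hw V gV (Vo s.1 s.2) (hgood s.1 s.2).finite
    rw [← hπ] at this
    exact this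
  let N₂ : Set V := ⋂ s, G s ⁻¹' {G s v₀}
  have hN₂open : IsOpen N₂ := isOpen_iInter_of_finite fun s ↦ (hG s).isOpen_fiber _
  have hN₂ : v₀ ∈ N₂ := Set.mem_iInter.mpr fun s ↦ rfl
  -- geometric formulas
  set A : (pullback f gV).Opens := (pullback.fst f gV) ⁻¹ᵁ ⊤ with hA
  have hres : ∀ p : X, (f.residueFieldMap p).hom.Finite := fun p ↦
    Groth.Agent.Lib.helper13.EL.finite_residueFieldMap_of_quasiFiniteAt (f.quasiFiniteAt p)
  have hGI : ∀ (v : V) (Ω : Type u) [Field Ω] [IsAlgClosed Ω] (xb : Spec (.of Ω) ⟶ V),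
      xb (IsLocalRing.closedPoint Ω) = v →
      MoreMor.fibreIntegral f w (gV v) =
        Groth.Agent.Lib.helper13.WT.geomIntegral π Ω A (fun p ↦ w (pullback.fst f gV p)) xb ∧
      (∀ s, G s v = Groth.Agent.Lib.helper13.WT.geomIntegral π Ω (B s) (fun p ↦ w (pullback.fst f gV p)) xb) ∧
      Finite {ℓ : Spec (.of Ω) ⟶ pullback f gV //
        ℓ ≫ π = xb ∧ ℓ (IsLocalRing.closedPoint Ω) ∈ A} := by
    intro v Ω _ _ xb hxb
    have hxb' : (xb ≫ gV) (IsLocalRing.closedPoint Ω) = gV v := by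
      rw [Scheme.Hom.comp_apply, hxb]
    refine ⟨?_, fun s ↦ ?_, ?_⟩
    · have e1 := Groth.Agent.Lib.helper13.WT.fibreIntegral_eq_geomIntegral_top Ω f w (xb ≫ gV) (gV v) hxb' (hfin _)
        (fun p _ ↦ hres p)
      have e2 := Groth.Agent.Lib.helper13.WT.geomIntegral_of_isPullback Ω sq ⊤ w xb
      exact e1.trans e2.symm
    · haveI := hBfin s
      exact Groth.Agent.Lib.helper13.WT.fibreIntegral_eq_geomIntegral π Ω (B s) (fun p ↦ w (pullback.fst f gV p)) xb v hxb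
    · have := Groth.Agent.Lib.helper13.WT.finite_lifts_top Ω f (xb ≫ gV) (hfin _) (fun p _ ↦ hres p)
      exact Finite.of_equiv _ (Groth.Agent.Lib.helper13.WT.liftsMemEquiv Ω sq ⊤ xb).symm
  have := Fintype.ofFinite (Σ i, J i)
  -- the value at `v₀`
  have hval₀ : MoreMor.fibreIntegral f w y = ∑ s, G s v₀ := by
    obtain ⟨Ω, _, _, xb, hxb⟩ := Groth.Agent.Lib.helper13.WT.exists_geometric_point v₀
    obtain ⟨e1, e2, e3⟩ := hGI v₀ Ω xb hxb
    rw [← hgv, e1]
    rw [Groth.Agent.Lib.helper13.WT.geomIntegral_eq_sum π Ω A B _ xb]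
    · exact Finset.sum_congr rfl fun s _ ↦ (e2 s).symm
    · intro s
      haveI := hBfin s
      exact Groth.Agent.Lib.helper13.WT.finite_lifts_open π Ω (B s) xb
    · intro p hp
      refine ⟨fun _ ↦ ?_, fun _ ↦ trivial⟩
      have hπp : π p = v₀ := by rw [hp, hxb]
      obtain ⟨i, hi⟩ := hxsurj (pullback.fst f gV p) (by rw [hcomm, hπp, hgv])
      obtain ⟨j, hj⟩ := hex p i (hπ ▸ hπp) hi.symm
      exact ⟨⟨i, j⟩, by show p ∈ Vo i j; rw [hj]; exact (hgood i j).mem⟩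
    · intro p hp
      exact hdisj₀ p (by rw [hp, hxb])
  refine ⟨gV '' (N₁ ∩ N₂), gV.isOpenMap _ (hN₁open.inter hN₂open), ⟨v₀, ⟨hN₁, hN₂⟩, hgv⟩, ?_⟩
  rintro _ ⟨v, ⟨hv1, hv2⟩, rfl⟩
  obtain ⟨Ω, _, _, xb, hxb⟩ := Groth.Agent.Lib.helper13.WT.exists_geometric_point v
  obtain ⟨e1, e2, e3⟩ := hGI v Ω xb hxb
  rw [hval₀, e1]
  have hle := Groth.Agent.Lib.helper13.WT.sum_geomIntegral_le Ω π A B (fun p ↦ w (pullback.fst f gV p)) xb e3
    (fun _ _ _ _ ↦ trivial) (fun p hp ↦ hdisj p (by rw [hp, hxb]; exact hv1))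
    (fun p ↦ (hpos _).le)
  refine le_trans (le_of_eq ?_) hle
  refine Finset.sum_congr rfl fun s _ ↦ ?_
  rw [← e2 s]
  exact ((Set.mem_iInter.mp hv2) s).symm

end Groth.Agent.S1426
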