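import Groth.Statements.S1428
import Mathlib
import Groth.Agent.Lib.Helper13.EL8
import Groth.Agent.Lib.Helper13.WT3
import Groth.Agent.Lib.Helper13.WT5
import Groth.Agent.Lib.Helper13.WT8
import Groth.Agent.Lib.Helper13.WT9
import Groth.Agent.S1426
-- import your own Groth.Agent.* helpers here

set_option autoImplicit false
universe u
open FlatMor

namespace Groth.Agent.S1428

open AlgebraicGeometry CategoryTheory Limits Groth.Agent.Lib.helper13 in
/-- Near a point where the fibre integral takes its maximal value `d`, the morphism is universally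
closed over a neighbourhood on which the integral equals `d`. -/
lemma local_universallyClosed {X Y : Scheme.{u}} (f : X ⟶ Y) [LocallyQuasiFinite f]
    [LocallyOfFiniteType f] [IsSeparated f] (hfin : ∀ y : Y, (f ⁻¹' {y}).Finite)
    (w : ↑X → ℤ) (hw : MoreMor.IsWeighting f w) (hpos : ∀ x, 0 < w x) (d : ℤ)
    (hYd : IsOpen {y : ↑Y | MoreMor.fibreIntegral f w y = d}) (y : Y)
    (hy : MoreMor.fibreIntegral f w y = d) :
    ∃ O : Y.Opens, y ∈ O ∧ (∀ y' ∈ O, MoreMor.fibreIntegral f w y' = d) ∧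
      UniversallyClosed (f ∣_ O) := by
  classical
  -- enumerate the fibre
  have : Finite (f ⁻¹' {y}) := (hfin y).to_subtype
  let n := Nat.card (f ⁻¹' {y})
  let eX : (f ⁻¹' {y}) ≃ Fin n := Finite.equivFin _
  let x : Fin n → X := fun i ↦ (eX.symm i).1
  have hxinj : Function.Injective x := fun i i' hii ↦ eX.symm.injective (Subtype.ext hii)
  have hxs : ∀ i, f (x i) = y := fun i ↦ (eX.symm i).2
  have hxsurj : ∀ p, f p = y → ∃ i, x i = p := fun p hp ↦ ⟨eX ⟨p, hp⟩, by simp [x]⟩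
  obtain ⟨V, gV, v₀, hgV, hgv, J, hJ, Vo, vp, hgood, hPI, hvinj, hex⟩ :=
    EL.exists_etale_nbhd_purelyInseparable (f := f) y x hxs (fun i ↦ f.quasiFiniteAt (x i))
  obtain ⟨π, hπ⟩ : ∃ π : pullback f gV ⟶ V, π = pullback.snd f gV := ⟨_, rfl⟩
  have sq : IsPullback (pullback.fst f gV) π f gV := hπ ▸ IsPullback.of_hasPullback f gV
  have hcomm : ∀ p, f (pullback.fst f gV p) = gV (π p) := by
    intro p
    rw [← Scheme.Hom.comp_apply, ← Scheme.Hom.comp_apply, sq.w]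
  have hresπ : ∀ p, (π.residueFieldMap p).hom.Finite := fun p ↦ by
    rw [hπ]
    exact EL.finite_residueFieldMap_of_quasiFiniteAt ((pullback.snd f gV).quasiFiniteAt p)
  let B : (Σ i, J i) → (pullback f gV).Opens := fun s ↦ Vo s.1 s.2
  have hBcl : ∀ s, IsClosed (B s : Set ↑(pullback f gV)) := fun s ↦
    (hgood s.1 s.2).closed inferInstance
  have hBfin : ∀ s, IsFinite ((B s).ι ≫ π) := fun s ↦ hπ ▸ (hgood s.1 s.2).finite
  have hBpt : ∀ s, ∀ p ∈ B s, π p = v₀ → p = vp s.1 s.2 := fun s p hp hπp ↦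
    (hgood s.1 s.2).uniq p hp (hπ ▸ hπp)
  have hdisj₀ : ∀ p, π p = v₀ → ∀ s s', p ∈ B s → p ∈ B s' → s = s' := by
    rintro p hπp ⟨i, j⟩ ⟨i', j'⟩ hp hp'
    have e3 : vp i j = vp i' j' := (hBpt ⟨i, j⟩ p hp hπp).symm.trans (hBpt ⟨i', j'⟩ p hp' hπp)
    have hi : i = i' := hxinj (by rw [← (hgood i j).fst_eq, ← (hgood i' j').fst_eq, e3])
    subst hi
    have hj : j = j' := hvinj i e3
    subst hj
    rfl
  -- `N₁`: disjointness
  have hcl2 : ∀ ss : (Σ i, J i) × (Σ i, J i), IsClosed (if ss.1 = ss.2 then (∅ : Set V) else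
      π '' ((B ss.1 : Set ↑(pullback f gV)) ∩ (B ss.2 : Set ↑(pullback f gV)))) := by
    intro ss
    split_ifs
    · exact isClosed_empty
    · haveI := hBfin ss.1
      exact WT.isClosed_image_inter π (B ss.1) _ (hBcl ss.2)
  let N₁ : Set V := (⋃ ss : (Σ i, J i) × (Σ i, J i), if ss.1 = ss.2 then (∅ : Set V) else
      π '' ((B ss.1 : Set ↑(pullback f gV)) ∩ (B ss.2 : Set ↑(pullback f gV))))ᶜ
  have hN₁open : IsOpen N₁ := (isClosed_iUnion_of_finite hcl2).isOpen_compl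
  have hN₁ : v₀ ∈ N₁ := by
    show v₀ ∉ ⋃ ss : (Σ i, J i) × (Σ i, J i), if ss.1 = ss.2 then (∅ : Set V) else
      π '' ((B ss.1 : Set ↑(pullback f gV)) ∩ (B ss.2 : Set ↑(pullback f gV)))
    rw [Set.mem_iUnion]
    rintro ⟨⟨s, s'⟩, hmem⟩
    by_cases hss : s = s'
    · simp [hss] at hmem
    · simp only [hss, if_false] at hmem
      obtain ⟨p, ⟨hp, hp'⟩, hπp⟩ := hmem
      exact hss (hdisj₀ p hπp s s' hp hp')
  have hdisj : ∀ p, π p ∈ N₁ → ∀ s s', p ∈ B s → p ∈ B s' → s = s' := by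
    intro p hpN s s' hp hp'
    by_contra hss
    apply hpN
    refine Set.mem_iUnion.mpr ⟨(s, s'), ?_⟩
    simp only [hss, if_false]
    exact ⟨p, ⟨hp, hp'⟩, rfl⟩
  -- the locally constant integrals
  let G : (Σ i, J i) → V → ℤ := fun s ↦ MoreMor.fibreIntegral ((B s).ι ≫ π)
    (fun t ↦ w (pullback.fst f gV ((B s).ι t)))
  have hG : ∀ s, IsLocallyConstant (G s) := fun s ↦ by
    have := hw V gV (Vo s.1 s.2) (hgood s.1 s.2).finite
    rw [← hπ] at this
    exact this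
  let N₂ : Set V := ⋂ s, G s ⁻¹' {G s v₀}
  have hN₂open : IsOpen N₂ := isOpen_iInter_of_finite fun s ↦ (hG s).isOpen_fiber _
  have hN₂ : v₀ ∈ N₂ := Set.mem_iInter.mpr fun s ↦ rfl
  -- geometric formulas
  set A : (pullback f gV).Opens := (pullback.fst f gV) ⁻¹ᵁ ⊤ with hA
  have hres : ∀ p : X, (f.residueFieldMap p).hom.Finite := fun p ↦
    EL.finite_residueFieldMap_of_quasiFiniteAt (f.quasiFiniteAt p)
  have hGI : ∀ (v : V) (Ω : Type u) [Field Ω] [IsAlgClosed Ω] (xb : Spec (.of Ω) ⟶ V),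
      xb (IsLocalRing.closedPoint Ω) = v →
      MoreMor.fibreIntegral f w (gV v) =
        WT.geomIntegral π Ω A (fun p ↦ w (pullback.fst f gV p)) xb ∧
      (∀ s, G s v = WT.geomIntegral π Ω (B s) (fun p ↦ w (pullback.fst f gV p)) xb) ∧
      Finite {ℓ : Spec (.of Ω) ⟶ pullback f gV //
        ℓ ≫ π = xb ∧ ℓ (IsLocalRing.closedPoint Ω) ∈ A} := by
    intro v Ω _ _ xb hxb
    have hxb' : (xb ≫ gV) (IsLocalRing.closedPoint Ω) = gV v := by
      rw [Scheme.Hom.comp_apply, hxb]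
    refine ⟨?_, fun s ↦ ?_, ?_⟩
    · have e1 := WT.fibreIntegral_eq_geomIntegral_top Ω f w (xb ≫ gV) (gV v) hxb' (hfin _)
        (fun p _ ↦ hres p)
      have e2 := WT.geomIntegral_of_isPullback Ω sq ⊤ w xb
      exact e1.trans e2.symm
    · haveI := hBfin s
      exact WT.fibreIntegral_eq_geomIntegral π Ω (B s) (fun p ↦ w (pullback.fst f gV p)) xb v hxb
    · have := WT.finite_lifts_top Ω f (xb ≫ gV) (hfin _) (fun p _ ↦ hres p)
      exact Finite.of_equiv _ (WT.liftsMemEquiv Ω sq ⊤ xb).symm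
  have := Fintype.ofFinite (Σ i, J i)
  -- the value at `v₀`
  have hval₀ : MoreMor.fibreIntegral f w y = ∑ s, G s v₀ := by
    obtain ⟨Ω, _, _, xb, hxb⟩ := WT.exists_geometric_point v₀
    obtain ⟨e1, e2, e3⟩ := hGI v₀ Ω xb hxb
    rw [← hgv, e1]
    rw [WT.geomIntegral_eq_sum π Ω A B _ xb]
    · exact Finset.sum_congr rfl fun s _ ↦ (e2 s).symm
    · intro s
      haveI := hBfin s
      exact WT.finite_lifts_open π Ω (B s) xb
    · intro p hp
      refine ⟨fun _ ↦ ?_, fun _ ↦ trivial⟩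
      have hπp : π p = v₀ := by rw [hp, hxb]
      obtain ⟨i, hi⟩ := hxsurj (pullback.fst f gV p) (by rw [hcomm, hπp, hgv])
      obtain ⟨j, hj⟩ := hex p i (hπ ▸ hπp) hi.symm
      exact ⟨⟨i, j⟩, by show p ∈ Vo i j; rw [hj]; exact (hgood i j).mem⟩
    · intro p hp
      exact hdisj₀ p (by rw [hp, hxb])
  -- the neighbourhood `N`
  let N : V.Opens := ⟨(N₁ ∩ N₂) ∩ gV ⁻¹' {y' : ↑Y | MoreMor.fibreIntegral f w y' = d},
    (hN₁open.inter hN₂open).inter (hYd.preimage gV.continuous)⟩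
  have hv₀N : v₀ ∈ N := ⟨⟨hN₁, hN₂⟩, by
    show MoreMor.fibreIntegral f w (gV v₀) = d
    rw [hgv]; exact hy⟩
  have hcover : ∀ p : ↑(pullback f gV), π p ∈ N → ∃ s, p ∈ B s := by
    intro p hpN
    by_contra hno
    push Not at hno
    obtain ⟨⟨hv1, hv2⟩, hv3⟩ := hpN
    have hv3' : MoreMor.fibreIntegral f w (gV (π p)) = d := hv3
    obtain ⟨Ω, _, _, xb, hxb⟩ := WT.exists_geometric_point (π p)
    obtain ⟨e1, e2, e3⟩ := hGI (π p) Ω xb hxb
    obtain ⟨ℓ₀, hℓ₀⟩ := WT.exists_lift_of_mem_fibre π Ω xb p hxb.symm (hresπ p)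
    have hlt := WT.sum_geomIntegral_lt Ω π A B (fun p ↦ w (pullback.fst f gV p)) xb e3
      (fun _ _ _ _ ↦ trivial) (fun q hq ↦ hdisj q (by rw [hq, hxb]; exact hv1))
      (fun q ↦ hpos _) ℓ₀.1 ℓ₀.2 trivial (by rw [hℓ₀]; exact hno)
    have hsum : ∑ s, WT.geomIntegral π Ω (B s) (fun p ↦ w (pullback.fst f gV p)) xb = d := by
      rw [← hy, hval₀]
      refine Finset.sum_congr rfl fun s _ ↦ ?_
      rw [← e2 s]
      exact (Set.mem_iInter.mp hv2 s)
    rw [hsum, ← e1, hv3'] at hlt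
    exact lt_irrefl _ hlt
  -- the open `O`
  let O : Y.Opens := ⟨gV '' (N : Set V), gV.isOpenMap _ N.2⟩
  refine ⟨O, ⟨v₀, hv₀N, hgv⟩, ?_, ?_⟩
  · rintro _ ⟨v, hv, rfl⟩
    exact hv.2
  -- universally closed over `N`
  have hcovN : ∀ p : ↑(pullback f (N.ι ≫ gV)),
      ∃ s, p ∈ (EL.refineMap f gV N.ι (N.ι ≫ gV) rfl) ⁻¹ᵁ (B s) := by
    intro p
    have h1 : π (EL.refineMap f gV N.ι (N.ι ≫ gV) rfl p) ∈ N := by
      rw [hπ, EL.refineMap_snd_apply]
      exact (pullback.snd f (N.ι ≫ gV) p).2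
    exact hcover _ h1
  have hUCN : UniversallyClosed (pullback.snd f (N.ι ≫ gV)) := by
    refine WT.universallyClosed_of_finite_cover (pullback.snd f (N.ι ≫ gV))
      (fun s ↦ (EL.refineMap f gV N.ι (N.ι ≫ gV) rfl) ⁻¹ᵁ (B s)) (fun s ↦ ?_) hcovN
    have := EL.isFinite_refine f gV N.ι (N.ι ≫ gV) rfl (Vo s.1 s.2) (hgood s.1 s.2).finite
    infer_instance
  -- descent
  have hrange : Set.range (N.ι ≫ gV) ⊆ Set.range O.ι := by
    rw [Scheme.Opens.range_ι]
    rintro _ ⟨v, rfl⟩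
    exact ⟨N.ι v, v.2, rfl⟩
  obtain ⟨q, hq⟩ : ∃ q : N.toScheme ⟶ O.toScheme, q ≫ O.ι = N.ι ≫ gV :=
    ⟨IsOpenImmersion.lift O.ι (N.ι ≫ gV) hrange, IsOpenImmersion.lift_fac _ _ _⟩
  haveI : Etale (q ≫ O.ι) := hq ▸ inferInstance
  haveI : Etale q := Etale.of_comp q O.ι
  have hqsurj : Surjective q := by
    refine ⟨fun o ↦ ?_⟩
    obtain ⟨v, hv, hvo⟩ := o.2
    refine ⟨⟨v, hv⟩, ?_⟩
    apply O.ι.isOpenEmbedding.injective
    rw [← Scheme.Hom.comp_apply, hq]
    exact hvo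
  have sqR := (isPullback_morphismRestrict f O).flip
  obtain ⟨t, ht1, ht2⟩ : ∃ t : pullback f (N.ι ≫ gV) ⟶ (f ⁻¹ᵁ O).toScheme,
      t ≫ (f ⁻¹ᵁ O).ι = pullback.fst f (N.ι ≫ gV) ∧
      t ≫ (f ∣_ O) = pullback.snd f (N.ι ≫ gV) ≫ q :=
    ⟨sqR.lift (pullback.fst f (N.ι ≫ gV)) (pullback.snd f (N.ι ≫ gV) ≫ q)
      (by rw [pullback.condition, Category.assoc, hq]), sqR.lift_fst _ _ _, sqR.lift_snd _ _ _⟩
  have sqD : IsPullback t (pullback.snd f (N.ι ≫ gV)) (f ∣_ O) q := by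
    refine IsPullback.of_right (h₁₂ := (f ⁻¹ᵁ O).ι) (h₂₂ := O.ι) (v₁₃ := f) ?_ ht2 sqR
    rw [ht1, hq]
    exact IsPullback.of_hasPullback f (N.ι ≫ gV)
  exact MorphismProperty.of_isPullback_of_descendsAlong (P := @UniversallyClosed)
    (Q := @Surjective ⊓ @Flat ⊓ @LocallyOfFinitePresentation) sqD.flip
    ⟨⟨hqsurj, inferInstance⟩, inferInstance⟩ hUCN

open AlgebraicGeometry CategoryTheory Limits in
/-- Let f : X → Y be separated, locally of finite type and locally quasi-finite with finite fibres, w a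
positive weighting of f, and suppose the fibre integral of w is at most d at every point of Y and
equals d at some point. Then the set Y_d of points where the integral equals d is open and the
restriction of f over Y_d is finite. (Finiteness of the fibres, which makes the fibre integral a
finite sum, is carried here as an explicit hypothesis.) -/
theorem result {X Y : Scheme.{u}} (f : X ⟶ Y) [LocallyQuasiFinite f] [LocallyOfFiniteType f] [IsSeparated f] (hfin : ∀ y : Y, (f ⁻¹' {y}).Finite)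
    (w : ↑X → ℤ) (hw : MoreMor.IsWeighting f w) (hpos : ∀ x, 0 < w x) (d : ℤ)
    (hmax : ∀ y : Y, MoreMor.fibreIntegral f w y ≤ d) (hatt : ∃ y : Y, MoreMor.fibreIntegral f w y = d) :
    ∃ hYd : IsOpen {y : ↑Y | MoreMor.fibreIntegral f w y = d}, IsFinite (f ∣_ ⟨{y : ↑Y | MoreMor.fibreIntegral f w y = d}, hYd⟩) := by
  have hLSC := Groth.Agent.S1426.result f hfin w hw hpos
  have hset : {y : ↑Y | MoreMor.fibreIntegral f w y = d} =
      MoreMor.fibreIntegral f w ⁻¹' Set.Ioi (d - 1) := by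
    ext y
    simp only [Set.mem_setOf_eq, Set.mem_preimage, Set.mem_Ioi]
    constructor
    · intro h; rw [h]; exact sub_one_lt d
    · intro h; exact le_antisymm (hmax y) (Int.le_of_sub_one_lt h)
  have hYd : IsOpen {y : ↑Y | MoreMor.fibreIntegral f w y = d} := by
    rw [hset]; exact hLSC.isOpen_preimage _
  refine ⟨hYd, ?_⟩
  suffices hsuff : ∀ Yd : Y.Opens, (∀ y, y ∈ Yd ↔ MoreMor.fibreIntegral f w y = d) →
      IsFinite (f ∣_ Yd) from hsuff ⟨_, hYd⟩ (fun y ↦ Iff.rfl)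
  intro Yd hYdmem
  have hUC : UniversallyClosed (f ∣_ Yd) := by
    apply IsZariskiLocalAtTarget.of_forall_exists_morphismRestrict (P := @UniversallyClosed)
    rintro ⟨y, hy⟩
    obtain ⟨O, hyO, hOd, hUCO⟩ := local_universallyClosed f hfin w hw hpos d hYd y
      ((hYdmem y).mp hy)
    refine ⟨Yd.ι ⁻¹ᵁ O, hyO, ?_⟩
    have himg : Yd.ι ''ᵁ (Yd.ι ⁻¹ᵁ O) = O := by
      rw [Scheme.Hom.image_preimage_eq_opensRange_inf, Scheme.Opens.opensRange_ι]
      exact inf_eq_right.mpr fun y' hy' ↦ (hYdmem y').mpr (hOd y' hy')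
    have e := morphismRestrictRestrict f Yd (Yd.ι ⁻¹ᵁ O) ≪≫ morphismRestrictEq f himg
    exact (MorphismProperty.arrow_mk_iso_iff @UniversallyClosed e).mpr hUCO
  haveI : IsProper (f ∣_ Yd) :=
    { toIsSeparated := inferInstance
      toUniversallyClosed := hUC
      toLocallyOfFiniteType := inferInstance }
  haveI : LocallyQuasiFinite (f ∣_ Yd) :=
    MorphismProperty.of_isPullback (P := @LocallyQuasiFinite)
      (isPullback_morphismRestrict f Yd).flip inferInstance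
  exact IsFinite.of_isProper_of_locallyQuasiFinite _

end Groth.Agent.S1428
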