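import Groth.Statements.S7185
import Mathlib
-- import your own Groth.Agent.* helpers here

set_option autoImplicit false
universe u
open FlatMor

namespace Groth.Agent.S7185

open AlgebraicGeometry CategoryTheory Limits in
/-- The fibre integral is invariant under precomposition with an isomorphism. -/
theorem fibreIntegral_iso {U U' V : Scheme.{u}} (e : U ⟶ U') [IsIso e] (π' : U' ⟶ V) (w' : U' → ℤ)
    (v : V) :
    MoreMor.fibreIntegral (e ≫ π') (fun u => w' (e u)) v = MoreMor.fibreIntegral π' w' v := by
  unfold MoreMor.fibreIntegral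
  let φ : {u : U // (e ≫ π') u = v} → {u' : U' // π' u' = v} := fun u => ⟨e u.1, u.2⟩
  have hφ : Function.Bijective φ := by
    have he : Function.Bijective e := (e.homeomorph).bijective
    constructor
    · intro a b hab
      exact Subtype.ext (he.1 (congrArg Subtype.val hab))
    · rintro ⟨u', hu'⟩
      obtain ⟨u, rfl⟩ := he.2 u'
      exact ⟨⟨u, hu'⟩, rfl⟩
  refine finsum_eq_of_bijective φ hφ ?_
  rintro ⟨u, hu⟩
  congr 1
  let a1 : Algebra (V.residueField (π' (e u))) (U.residueField u) :=
    ((e ≫ π').residueFieldMap u).hom.toAlgebra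
  let a2 : Algebra (V.residueField (π' (e u))) (U'.residueField (e u)) :=
    (π'.residueFieldMap (e u)).hom.toAlgebra
  let E : (U'.residueField (e u)) ≃ₐ[V.residueField (π' (e u))] (U.residueField u) :=
    { (asIso (e.residueFieldMap u)).commRingCatIsoToRingEquiv with
      commutes' := fun x => by
        change (e.residueFieldMap u).hom ((π'.residueFieldMap (e u)).hom x) =
          ((e ≫ π').residueFieldMap u).hom x
        rw [Scheme.residueFieldMap_comp]
        rfl }
  exact congrArg _ (Field.finSepDegree_eq_of_equiv _ _ _ E).symm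


open AlgebraicGeometry CategoryTheory Limits in
/-- The restriction of a weighting of a locally quasi-finite morphism f : X → Y (locally of finite type
with discrete fibres) to an open subscheme X' of X is a weighting of X' → Y. -/
theorem result {X Y : Scheme.{u}} (f : X ⟶ Y) [LocallyQuasiFinite f] [LocallyOfFiniteType f] (w : X → ℤ)
    (hw : MoreMor.IsWeighting f w) (X' : X.Opens) : MoreMor.IsWeighting (X'.ι ≫ f) (fun x => w (X'.ι x)) := by
  intro V g _ U hU
  let j : pullback (X'.ι ≫ f) g ⟶ pullback f g :=
    pullback.lift (pullback.fst _ _ ≫ X'.ι) (pullback.snd _ _)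
      (by rw [Category.assoc, pullback.condition])
  have hj1 : j ≫ pullback.fst f g = pullback.fst _ _ ≫ X'.ι := pullback.lift_fst _ _ _
  have hj2 : j ≫ pullback.snd f g = pullback.snd _ _ := pullback.lift_snd _ _ _
  have hpb : IsPullback j (pullback.fst (X'.ι ≫ f) g) (pullback.fst f g) X'.ι := by
    refine IsPullback.of_right ?_ hj1 (IsPullback.of_hasPullback f g).flip
    rw [hj2]
    exact (IsPullback.of_hasPullback (X'.ι ≫ f) g).flip
  have : IsOpenImmersion j :=
    MorphismProperty.of_isPullback hpb.flip (inferInstance : IsOpenImmersion X'.ι)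
  let U'' : (pullback f g).Opens := j ''ᵁ U
  let e : (U : Scheme) ≅ (U'' : Scheme) := j.isoImage U
  have he : e.hom ≫ U''.ι = U.ι ≫ j := j.isoImage_hom_ι U
  have h1 : U.ι ≫ pullback.snd (X'.ι ≫ f) g = e.hom ≫ (U''.ι ≫ pullback.snd f g) := by
    rw [← Category.assoc, he, Category.assoc, hj2]
  have hfin : IsFinite (U''.ι ≫ pullback.snd f g) := by
    have h3 : U''.ι ≫ pullback.snd f g = e.inv ≫ (U.ι ≫ pullback.snd (X'.ι ≫ f) g) := by
      rw [h1, Iso.inv_hom_id_assoc]
    rw [h3]
    have := hU
    infer_instance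
  have key := hw V g U'' hfin
  have h2 : (fun u : ↥(U : Scheme) => w (X'.ι (pullback.fst (X'.ι ≫ f) g (U.ι u)))) =
      fun u => (fun u'' : ↥(U'' : Scheme) => w (pullback.fst f g (U''.ι u''))) (e.hom u) := by
    funext u
    have h4 := congrArg (fun φ : (U : Scheme) ⟶ X => φ u) (show
      (e.hom ≫ U''.ι) ≫ pullback.fst f g = (U.ι ≫ pullback.fst (X'.ι ≫ f) g) ≫ X'.ι by
        rw [he, Category.assoc, hj1, Category.assoc])
    exact congrArg w h4.symm
  have h5 : MoreMor.fibreIntegral (U.ι ≫ pullback.snd (X'.ι ≫ f) g)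
      (fun u => w (X'.ι (pullback.fst (X'.ι ≫ f) g (U.ι u)))) =
      MoreMor.fibreIntegral (U''.ι ≫ pullback.snd f g)
        (fun u'' => w (pullback.fst f g (U''.ι u''))) := by
    funext v
    rw [h1, h2]
    exact fibreIntegral_iso e.hom (U''.ι ≫ pullback.snd f g)
      (fun u'' => w (pullback.fst f g (U''.ι u''))) v
  rw [h5]
  exact key

end Groth.Agent.S7185
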