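import Groth.Statements.S1423
import Mathlib
import Groth.Agent.Lib.Helper13.PC6
-- import your own Groth.Agent.* helpers here

set_option autoImplicit false
universe u
open FlatMor

namespace Groth.Agent.S1423

open AlgebraicGeometry CategoryTheory Limits in
/-- Let f be locally quasi-finite and w a weighting of f. Then every level set of w is locally
constructible in X. -/
theorem result {X Y : Scheme.{u}} (f : X ⟶ Y) [LocallyQuasiFinite f] [LocallyOfFiniteType f] (w : ↑X → ℤ) (hw : MoreMor.IsWeighting f w) (n : ℤ) :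
    Topology.IsLocallyConstructible {x : ↑X | w x = n} := by
  classical
  intro x
  obtain ⟨X₀, hX₀, hxX₀⟩ : ∃ X₀ : X.Opens, IsAffineOpen X₀ ∧ x ∈ X₀ := by
    obtain ⟨_, ⟨X₀, hX₀, rfl⟩, hxX₀, -⟩ := X.isBasis_affineOpens.exists_subset_of_mem_open
      (Set.mem_univ x) isOpen_univ
    exact ⟨X₀, hX₀, hxX₀⟩
  refine ⟨X₀, X₀.2.mem_nhds hxX₀, X₀.2, ?_⟩
  haveI : IsAffine X₀.toScheme := hX₀
  have hw₀ := Groth.Agent.Lib.helper13.PC.isWeighting_restrict f w hw X₀
  obtain ⟨s, O, hO, hmem, hconst, hcov⟩ :=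
    Groth.Agent.Lib.helper13.PC.exists_finite_constructible_cover (X₀.ι ≫ f)
      (fun t => w (X₀.ι t)) hw₀
  have heq : ((fun t : X₀.toScheme => X₀.ι t) ⁻¹' {x : X | w x = n}) =
      ⋃ t ∈ (s.filter (fun t => w (X₀.ι t) = n) : Finset X₀.toScheme), O t := by
    ext t'
    simp only [Set.mem_preimage, Set.mem_setOf_eq, Set.mem_iUnion, Finset.mem_filter,
      exists_prop]
    constructor
    · intro ht'
      obtain ⟨t, hts, ht't⟩ := hcov t'
      refine ⟨t, ⟨hts, ?_⟩, ht't⟩
      rw [← hconst t t' ht't]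
      exact ht'
    · rintro ⟨t, ⟨_, htn⟩, ht't⟩
      have := hconst t t' ht't
      show w (X₀.ι t') = n
      rw [this, htn]
  have hfinal : Topology.IsConstructible
      (⋃ t ∈ (s.filter (fun t => w (X₀.ι t) = n) : Finset X₀.toScheme), O t) :=
    Topology.IsConstructible.biUnion (Finset.finite_toSet _) (fun t _ => hO t)
  rw [← heq] at hfinal
  exact hfinal

end Groth.Agent.S1423
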