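import Groth.Statements.S12467
import Groth.Agent.S12474
import Groth.Agent.Lib.Helper28.VeryAmpleLocal
-- import your own Groth.Agent.* helpers here

set_option autoImplicit false
universe u
open CategoryTheory CategoryTheory.Limits AlgebraicGeometry TopologicalSpace Opposite
open scoped HomogeneousIdeal
open EGA2

namespace Groth.Agent.S12467

/-- Let q : X → Y be a quasi-compact morphism, L an invertible O_X-module and (U_i) a cover of Y by open
subsets. Then L is very ample relative to q (isomorphic to i^*O_{P(E)}(1) for a Y-immersion i of X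
into the projective bundle of a quasi-coherent O_Y-module E) if and only if, for every i, the
restriction of L to q⁻¹(U_i) is very ample relative to the restriction q⁻¹(U_i) → U_i of q. (The
published statement asks for one such open cover; this row states the equivalence for every open
cover, which is what the published proof, the locality on Y of the defining condition, establishes.) -/
theorem result {X Y : Scheme.{u}} (q : X ⟶ Y) [QuasiCompact q] (L : X.Modules)
    (hL : PicF.IsInvertible L) {ι : Type u} (U : ι → Y.Opens) (hU : ⨆ i, U i = ⊤) :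
    RelProj.IsRelVeryAmple q L ↔
      ∀ i, RelProj.IsRelVeryAmple (q ∣_ (U i)) (L.restrict (q ⁻¹ᵁ (U i)).ι) := by
  constructor
  · intro hva i
    have hva1 := Groth.Agent.S12474.result q (U i).ι (q ⁻¹ᵁ (U i)).ι (q ∣_ (U i))
      (isPullback_morphismRestrict q (U i)).flip L hL hva
    obtain ⟨E, hE, 𝒮, j, hj, P, p, chart, hP, O1, lam, hO1, i', hi, hip, ⟨e⟩⟩ := hva1
    exact ⟨E, hE, 𝒮, j, hj, P, p, chart, hP, O1, lam, hO1, i', hi, hip,
      ⟨(Scheme.Modules.restrictFunctorIsoPullback (q ⁻¹ᵁ (U i)).ι).app L ≪≫ e⟩⟩
  · intro h
    exact Groth.Agent.Lib.helper28.VeryAmpleLocal.isRelVeryAmple_of_local q L hL U hU h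

end Groth.Agent.S12467
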