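import Groth.Statements.S1393
import Groth.Agent.Lib.Helper3.FibCritSch
import Groth.Agent.Lib.Helper16.FLF3

set_option autoImplicit false
universe u
open FlatMor

namespace Groth.Agent.S1393

open Groth.Agent.Lib.helper3.FibCritFP Groth.Agent.Lib.helper3.FibCritSch
open Groth.Agent.Lib.helper16.QCohPullback Groth.Agent.Lib.helper16.CohFinite
  Groth.Agent.Lib.helper16.CohFP Groth.Agent.Lib.helper16.CohStalk Groth.Agent.Lib.helper16.FLF

open AlgebraicGeometry CategoryTheory Limits in
/-- Let f : X → S be of finite presentation, F a finitely presented quasi-coherent O_X-module and x a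
point with image s. If F is flat over S at x and the stalk at x of the restriction of F to the
fibre, namely F_x / m_s F_x, is flat over the local ring of the fibre at x, namely O_{X,x} / m_s
O_{X,x}, then F is free of finite rank on some open neighbourhood of x. -/
theorem result {X S : Scheme.{u}} (f : X ⟶ S) [LocallyOfFinitePresentation f] [QuasiCompact f] [QuasiSeparated f]
    (F : X.Modules) (hFq : Coh.IsQCoh F) (hFp : CohB1.IsFP F) (x : X) (h1 : FlatMod.IsFlatOverAt f F x)
    (h2 : Module.Flat (↑(X.presheaf.stalk x) ⧸ Ideal.map (f.stalkMap x).hom (IsLocalRing.maximalIdeal ↑(S.presheaf.stalk (f x))))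
      (↑(F.presheaf.stalk x) ⧸ (Ideal.map (f.stalkMap x).hom (IsLocalRing.maximalIdeal ↑(S.presheaf.stalk (f x))) • (⊤ : Submodule ↑(X.presheaf.stalk x) ↑(F.presheaf.stalk x))))) :
    ∃ (U : X.Opens) (n : ℕ), x ∈ U ∧ Nonempty (F.restrict U.ι ≅ FlatMod.freeMod (↑U) n) := by
  haveI : F.IsQuasicoherent := hFq
  haveI := finitePresentation_stalk F hFp x
  have hfree : Module.Free (X.presheaf.stalk x) (F.presheaf.stalk x) := by
    by_cases hx : Nontrivial ↑(F.presheaf.stalk x)
    · have h₁ : (f.stalkMap x).hom.EssFiniteType := LocallyOfFiniteType.stalkMap f x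
      have h₂ : EssFP ((RingHom.id (X.presheaf.stalk x)).comp (f.stalkMap x).hom) := by
        rw [RingHom.id_comp]
        exact essFP_stalkMap f x
      have key := fibre_criterion_iff (M := F.presheaf.stalk x) (f.stalkMap x).hom
        (RingHom.id (X.presheaf.stalk x)) h₁ h₂
      haveI hflat : Module.Flat (X.presheaf.stalk x) (F.presheaf.stalk x) := (key.mp ⟨h1, h2⟩).2
      exact Module.free_of_flat_of_isLocalRing
    · haveI : Subsingleton ↑(F.presheaf.stalk x) := not_nontrivial_iff_subsingleton.mp hx
      exact Module.Free.of_subsingleton _ _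
  obtain ⟨U, hU, hxU, -⟩ := TopologicalSpace.Opens.isBasis_iff_nbhd.mp X.isBasis_affineOpens
    (show x ∈ (⊤ : X.Opens) from trivial)
  haveI := fp_sections_of_isFinitePresentation F hFp hU
  obtain ⟨r, n, hxr, ⟨e⟩⟩ := exists_basicOpen_free_sections F hU x hxU hfree
  exact ⟨X.basicOpen r, n, hxr, restrict_iso_freeMod_of_sections F (hU.basicOpen r) n e⟩

end Groth.Agent.S1393
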