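import Mathlib.LinearAlgebra.TensorProduct.Vanishing
import Mathlib.RingTheory.TensorProduct.DirectLimitFG
import Mathlib.RingTheory.TensorProduct.Maps

/-!
# Elementary filtered systems of algebras and their base change (helper29)

`ASys R G g`: a family of `R`-algebra maps `g i : G i →ₐ[R] A` which is jointly surjective,
directed (through *some* compatible `R`-algebra maps, no functoriality required), and such that
elements killed by `g i` are killed by a compatible transition map.

Main result: `ASys.baseChange`: for an `R`-algebra `M`, the family `M ⊗[R] G i → M ⊗[R] A`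
is again an `ASys` (over `M`) — "tensor products commute with filtered colimits", proved through the
equational criterion of vanishing.
-/

set_option autoImplicit false
set_option linter.style.haveILetI false

namespace Groth.Agent.LibASys29

open TensorProduct

/-- an elementary "filtered colimit" presentation of the `R`-algebra `A` -/
structure ASys (R : Type*) [CommRing R] {A : Type*} [CommRing A] [Algebra R A] {ι : Type*}
    (G : ι → Type*) [∀ i, CommRing (G i)] [∀ i, Algebra R (G i)] (g : ∀ i, G i →ₐ[R] A) :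
    Prop where
  nonempty : Nonempty ι
  surj : ∀ a : A, ∃ i, ∃ x : G i, g i x = a
  dir : ∀ i j, ∃ (k : ι) (fi : G i →ₐ[R] G k) (fj : G j →ₐ[R] G k),
    (g k).comp fi = g i ∧ (g k).comp fj = g j
  ker : ∀ i (x : G i), g i x = 0 → ∃ (k : ι) (f : G i →ₐ[R] G k), (g k).comp f = g i ∧ f x = 0

namespace ASys

variable {R : Type*} [CommRing R] {A : Type*} [CommRing A] [Algebra R A] {ι : Type*}
  {G : ι → Type*} [∀ i, CommRing (G i)] [∀ i, Algebra R (G i)] {g : ∀ i, G i →ₐ[R] A}
  (hS : ASys R G g)

include hS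

lemma exists_lift_finset (s : Finset A) : ∃ (i : ι) (y : A → G i), ∀ a ∈ s, g i (y a) = a := by
  classical
  induction s using Finset.induction_on with
  | empty =>
    obtain ⟨i⟩ := hS.nonempty
    exact ⟨i, fun _ => 0, by simp⟩
  | insert a s _ ih =>
    obtain ⟨i, y, hy⟩ := ih
    obtain ⟨j, x, hx⟩ := hS.surj a
    obtain ⟨k, fi, fj, hfi, hfj⟩ := hS.dir i j
    refine ⟨k, fun b => if b = a then fj x else fi (y b), fun b hb => ?_⟩
    by_cases hba : b = a
    · subst hba
      simp only [if_true]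
      rw [← AlgHom.comp_apply, hfj, hx]
    · simp only [if_neg hba]
      rw [← AlgHom.comp_apply, hfi]
      exact hy b ((Finset.mem_insert.mp hb).resolve_left hba)

lemma exists_lift_fun {ν : Type*} [Finite ν] (h : ν → A) :
    ∃ (i : ι) (h' : ν → G i), ∀ x, g i (h' x) = h x := by
  classical
  haveI := Fintype.ofFinite ν
  obtain ⟨i, y, hy⟩ := hS.exists_lift_finset (Finset.univ.image h)
  exact ⟨i, fun x => y (h x), fun x => hy _ (Finset.mem_image_of_mem _ (Finset.mem_univ x))⟩

lemma exists_kill_finset (i : ι) (T : Finset (G i)) (hT : ∀ t ∈ T, g i t = 0) :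
    ∃ (k : ι) (f : G i →ₐ[R] G k), (g k).comp f = g i ∧ ∀ t ∈ T, f t = 0 := by
  classical
  induction T using Finset.induction_on with
  | empty => exact ⟨i, AlgHom.id R _, AlgHom.comp_id _, by simp⟩
  | insert t T _ ih =>
    obtain ⟨k, f, hf, hfT⟩ := ih fun t' ht' => hT t' (Finset.mem_insert_of_mem ht')
    have h0 : g k (f t) = 0 := by
      rw [← AlgHom.comp_apply, hf]
      exact hT t (Finset.mem_insert_self t T)
    obtain ⟨k', f', hf', hft⟩ := hS.ker k (f t) h0
    refine ⟨k', f'.comp f, ?_, fun t' ht' => ?_⟩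
    · rw [← AlgHom.comp_assoc, hf', hf]
    · rcases Finset.mem_insert.mp ht' with rfl | h
      · exact hft
      · rw [AlgHom.comp_apply, hfT t' h, map_zero]

lemma exists_kill_fun {ν : Type*} [Finite ν] (i : ι) (e : ν → G i) (he : ∀ x, g i (e x) = 0) :
    ∃ (k : ι) (f : G i →ₐ[R] G k), (g k).comp f = g i ∧ ∀ x, f (e x) = 0 := by
  classical
  haveI := Fintype.ofFinite ν
  obtain ⟨k, f, hf, hk⟩ := hS.exists_kill_finset i (Finset.univ.image e) (by
    intro t ht
    obtain ⟨x, _, rfl⟩ := Finset.mem_image.mp ht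
    exact he x)
  exact ⟨k, f, hf, fun x => hk _ (Finset.mem_image_of_mem _ (Finset.mem_univ x))⟩

end ASys

section Vanishing

variable {R : Type*} [CommRing R] {M : Type*} [AddCommGroup M] [Module R M]
  {N : Type*} [AddCommGroup N] [Module R N]

/-- general form of the equational criterion of vanishing: after adding finitely many elements
`m'` of `M` (paired with `0`), the expression vanishes trivially. -/
lemma exists_vanishesTrivially {ι : Type*} [Fintype ι] (m : ι → M) (n : ι → N)
    (h : ∑ i, m i ⊗ₜ[R] n i = 0) :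
    ∃ (κ : Type) (_ : Fintype κ) (m' : κ → M),
      TensorProduct.VanishesTrivially R (Sum.elim m m') (Sum.elim n (fun _ => (0 : N))) := by
  classical
  let P : Submodule R M := Submodule.span R (Set.range m)
  have hP : P.FG := Submodule.fg_span (Set.finite_range m)
  let t : P ⊗[R] N := ∑ i, (⟨m i, Submodule.subset_span ⟨i, rfl⟩⟩ : P) ⊗ₜ[R] n i
  have ht : LinearMap.rTensor N P.subtype t = 0 := by
    simp only [t, map_sum, LinearMap.rTensor_tmul, Submodule.subtype_apply]
    exact h
  obtain ⟨Q, hPQ, hQ, hQt⟩ := TensorProduct.eq_zero_of_fg_of_subtype_eq_zero hP ht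
  obtain ⟨s, hs⟩ := hQ
  have hsQ : ∀ x ∈ s, x ∈ Q := fun x hx => hs ▸ Submodule.subset_span hx
  let κ : Type := Fin s.card
  let es : Fin s.card ≃ s := s.equivFin.symm
  let m' : κ → M := fun e => (es e : M)
  let μ : ι ⊕ κ → Q := Sum.elim (fun i => ⟨m i, hPQ (Submodule.subset_span ⟨i, rfl⟩)⟩)
    (fun e => ⟨m' e, hsQ _ (es e).2⟩)
  have hμ : Submodule.span R (Set.range μ) = ⊤ := by
    apply Submodule.map_injective_of_injective Q.injective_subtype
    rw [Submodule.map_span, Submodule.map_top, Submodule.range_subtype, ← Set.range_comp]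
    apply le_antisymm
    · rw [Submodule.span_le]
      rintro _ ⟨x, rfl⟩
      exact (μ x).2
    · intro z hz
      have hz' : z ∈ Submodule.span R (s : Set M) := by rw [hs]; exact hz
      refine (Submodule.span_le.mpr ?_) hz'
      intro x hx
      apply Submodule.subset_span
      refine ⟨Sum.inr (es.symm ⟨x, hx⟩), ?_⟩
      simp [μ, m']
  have hsum : ∑ x, μ x ⊗ₜ[R] (Sum.elim n (fun _ => (0 : N))) x = 0 := by
    rw [Fintype.sum_sum_type]
    simp only [Sum.elim_inl, Sum.elim_inr, tmul_zero, Finset.sum_const_zero, add_zero]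
    rw [← hQt]
    simp only [t, map_sum, LinearMap.rTensor_tmul]
    rfl
  obtain ⟨k, a, y, h1, h2⟩ := TensorProduct.vanishesTrivially_of_sum_tmul_eq_zero R hμ hsum
  refine ⟨κ, inferInstance, m', k, a, y, h1, fun j => ?_⟩
  have := congrArg Q.subtype (h2 j)
  rw [map_sum, map_zero] at this
  rw [← this]
  refine Finset.sum_congr rfl fun x _ => ?_
  rw [map_smul]
  rcases x with x | x <;> rfl

end Vanishing

namespace ASys

variable {R : Type*} [CommRing R] {A : Type*} [CommRing A] [Algebra R A] {ι : Type*}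
  {G : ι → Type*} [∀ i, CommRing (G i)] [∀ i, Algebra R (G i)] {g : ∀ i, G i →ₐ[R] A}
  (hS : ASys R G g)

include hS

/-- the kernel property for `M ⊗ G i → M ⊗ A` (`M` any module) -/
theorem lTensor_ker (M : Type*) [AddCommGroup M] [Module R M] (i : ι) (z : M ⊗[R] G i)
    (hz : LinearMap.lTensor M (g i).toLinearMap z = 0) :
    ∃ (k : ι) (f : G i →ₐ[R] G k), (g k).comp f = g i ∧
      LinearMap.lTensor M f.toLinearMap z = 0 := by
  classical
  obtain ⟨S, rfl⟩ := TensorProduct.exists_finset z
  -- index by the subtype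
  let m : S → M := fun p => p.1.1
  let x : S → G i := fun p => p.1.2
  have hsum : ∑ p : S, m p ⊗ₜ[R] (g i (x p)) = 0 := by
    rw [map_sum] at hz
    rw [← hz, ← Finset.sum_coe_sort S]
    rfl
  obtain ⟨κ, _, m', k', a, y, h1, h2⟩ := exists_vanishesTrivially m (fun p => g i (x p)) hsum
  obtain ⟨i', y', hy'⟩ := hS.exists_lift_fun y
  obtain ⟨k, φ, φ', hφ, hφ'⟩ := hS.dir i i'
  let e : S ⊕ κ → G k := fun l =>
    (Sum.elim (fun p => φ (x p)) (fun _ => (0 : G k))) l - ∑ j, a l j • φ' (y' j)
  have he : ∀ l, g k (e l) = 0 := by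
    intro l
    simp only [e, map_sub, map_sum, map_smul]
    have hy'' : ∀ j, g k (φ' (y' j)) = y j := fun j => by
      rw [← AlgHom.comp_apply, hφ', hy']
    simp only [hy'']
    rw [← h1 l, sub_eq_zero]
    rcases l with p | q
    · simp only [Sum.elim_inl]
      rw [← AlgHom.comp_apply, hφ]
    · simp only [Sum.elim_inr, map_zero]
  obtain ⟨k'', ψ, hψ, hk⟩ := hS.exists_kill_fun k e he
  refine ⟨k'', ψ.comp φ, ?_, ?_⟩
  · rw [← AlgHom.comp_assoc, hψ, hφ]
  · have hv : TensorProduct.VanishesTrivially R (Sum.elim m m')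
        (fun l => ψ ((Sum.elim (fun p => φ (x p)) (fun _ => (0 : G k))) l)) := by
      refine ⟨k', a, fun j => ψ (φ' (y' j)), fun l => ?_, h2⟩
      have := hk l
      simp only [e, map_sub, map_sum, map_smul, sub_eq_zero] at this
      exact this
    have h0 := TensorProduct.sum_tmul_eq_zero_of_vanishesTrivially R hv
    rw [Fintype.sum_sum_type] at h0
    simp only [Sum.elim_inl, Sum.elim_inr, map_zero, tmul_zero, Finset.sum_const_zero,
      add_zero] at h0
    rw [map_sum, ← Finset.sum_coe_sort S]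
    rw [← h0]
    rfl

/-- base change of an `ASys` along `R → M` -/
theorem baseChange (M : Type*) [CommRing M] [Algebra R M] :
    ASys M (fun i => M ⊗[R] G i)
      (fun i => Algebra.TensorProduct.map (AlgHom.id M M) (g i)) where
  nonempty := hS.nonempty
  surj z := by
    induction z using TensorProduct.induction_on with
    | zero =>
      obtain ⟨i⟩ := hS.nonempty
      exact ⟨i, 0, map_zero _⟩
    | tmul m a =>
      obtain ⟨i, x, hx⟩ := hS.surj a
      exact ⟨i, m ⊗ₜ x, by simp [hx]⟩
    | add z₁ z₂ h₁ h₂ =>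
      obtain ⟨i₁, w₁, hw₁⟩ := h₁
      obtain ⟨i₂, w₂, hw₂⟩ := h₂
      obtain ⟨k, φ₁, φ₂, hφ₁, hφ₂⟩ := hS.dir i₁ i₂
      refine ⟨k, Algebra.TensorProduct.map (AlgHom.id M M) φ₁ w₁ +
        Algebra.TensorProduct.map (AlgHom.id M M) φ₂ w₂, ?_⟩
      rw [map_add, ← AlgHom.comp_apply, ← AlgHom.comp_apply, ← Algebra.TensorProduct.map_comp,
        ← Algebra.TensorProduct.map_comp, hφ₁, hφ₂, AlgHom.comp_id, hw₁, hw₂]
  dir i j := by
    obtain ⟨k, φ₁, φ₂, hφ₁, hφ₂⟩ := hS.dir i j
    refine ⟨k, Algebra.TensorProduct.map (AlgHom.id M M) φ₁,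
      Algebra.TensorProduct.map (AlgHom.id M M) φ₂, ?_, ?_⟩
    · rw [← Algebra.TensorProduct.map_comp, hφ₁, AlgHom.comp_id]
    · rw [← Algebra.TensorProduct.map_comp, hφ₂, AlgHom.comp_id]
  ker i z hz := by
    obtain ⟨k, f, hf, hfz⟩ := hS.lTensor_ker M i z hz
    refine ⟨k, Algebra.TensorProduct.map (AlgHom.id M M) f, ?_, hfz⟩
    rw [← Algebra.TensorProduct.map_comp, hf, AlgHom.comp_id]

end ASys

end Groth.Agent.LibASys29
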