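import Mathlib.RingTheory.Extension.Cotangent.Basic
import Mathlib.RingTheory.Extension.Presentation.Basic
import Mathlib.RingTheory.Smooth.Basic
import Mathlib.RingTheory.Unramified.Basic

/-!
# Finite-data criteria for algebras given by generators and relations (helper29)

For generators `Q : Algebra.Generators T S n` (so `S = T[X_n] / Q.ker`):
* `surjective_iff`: `T → S` is surjective iff every `X i` is congruent to a constant mod `Q.ker`;
* `bijective_iff` (for a presentation);
* `formallySmooth_iff`: `S` formally smooth iff there are polynomials `h i ≡ X i` mod `Q.ker`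
  such that `p(h) ∈ Q.ker ^ 2` for all `p ∈ Q.ker` (a section of `T[X]/ker² → S`);
* `formallyUnramified_iff`: `Ω[S/T] = 0` iff there are `u i ∈ Q.ker` with
  `∂u i/∂X k ≡ δ_ik` mod `Q.ker`.
-/

set_option autoImplicit false
set_option linter.style.haveILetI false

namespace Groth.Agent.LibPresCrit29

open MvPolynomial Algebra

variable {T S : Type*} [CommRing T] [CommRing S] [Algebra T S] {n : Type*}

section Generators

variable (Q : Algebra.Generators T S n)

lemma mem_ker_iff (p : MvPolynomial n T) : p ∈ Q.ker ↔ aeval Q.val p = 0 := by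
  rw [Q.ker_eq_ker_aeval_val, RingHom.mem_ker]

theorem surjective_iff :
    Function.Surjective (algebraMap T S) ↔ ∀ i, ∃ β : T, X i - C β ∈ Q.ker := by
  constructor
  · intro h i
    obtain ⟨β, hβ⟩ := h (Q.val i)
    refine ⟨β, ?_⟩
    rw [mem_ker_iff, map_sub, aeval_X, aeval_C, hβ, sub_self]
  · intro h
    choose β hβ using h
    intro s
    obtain ⟨p, rfl⟩ := Q.algebraMap_surjective s
    refine ⟨eval β p, ?_⟩
    rw [Q.algebraMap_apply]
    have h1 : (aeval Q.val : MvPolynomial n T →ₐ[T] S) =
        (Algebra.ofId T S).comp (aeval β) := by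
      apply MvPolynomial.algHom_ext
      intro i
      have := hβ i
      rw [mem_ker_iff, map_sub, aeval_X, aeval_C, sub_eq_zero] at this
      rw [aeval_X, AlgHom.comp_apply, aeval_X, this]
      rfl
    rw [h1, AlgHom.comp_apply]
    rfl

theorem formallySmooth_iff :
    Algebra.FormallySmooth T S ↔ ∃ h : n → MvPolynomial n T,
      (∀ p ∈ Q.ker, aeval h p ∈ Q.ker ^ 2) ∧ ∀ i, h i - X i ∈ Q.ker := by
  let f : MvPolynomial n T →ₐ[T] S := aeval Q.val
  have hf : Function.Surjective f := by
    intro s
    obtain ⟨p, rfl⟩ := Q.algebraMap_surjective s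
    exact ⟨p, (Q.algebraMap_apply p).symm⟩
  have hker : RingHom.ker f.toRingHom = Q.ker := Q.ker_eq_ker_aeval_val.symm
  rw [Algebra.FormallySmooth.iff_split_surjection f hf]
  constructor
  · rintro ⟨σ, hσ⟩
    have hsurj : Function.Surjective (Ideal.Quotient.mk (RingHom.ker f.toRingHom ^ 2)) :=
      Ideal.Quotient.mk_surjective
    choose h hh using fun i => hsurj (σ (f (X i)))
    have hcomp : (Ideal.Quotient.mkₐ T (RingHom.ker f.toRingHom ^ 2)).comp (aeval h) =
        σ.comp f := by
      apply MvPolynomial.algHom_ext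
      intro i
      rw [AlgHom.comp_apply, aeval_X, AlgHom.comp_apply]
      exact hh i
    refine ⟨h, fun p hp => ?_, fun i => ?_⟩
    · have h1 := AlgHom.congr_fun hcomp p
      rw [AlgHom.comp_apply, AlgHom.comp_apply] at h1
      have hp0 : f p = 0 := (mem_ker_iff Q p).mp hp
      rw [hp0, map_zero] at h1
      rw [← hker]
      exact Ideal.Quotient.eq_zero_iff_mem.mp h1
    · rw [mem_ker_iff, map_sub, sub_eq_zero]
      have h1 := AlgHom.congr_fun hσ (f (X i))
      rw [AlgHom.comp_apply, ← hh i] at h1
      change f.kerSquareLift (Ideal.Quotient.mk _ (h i)) = f (X i) at h1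
      rw [AlgHom.kerSquareLift_mk] at h1
      exact h1
  · rintro ⟨h, h1, h2⟩
    let g₀ : MvPolynomial n T →ₐ[T] (MvPolynomial n T ⧸ RingHom.ker f.toRingHom ^ 2) :=
      (Ideal.Quotient.mkₐ T (RingHom.ker f.toRingHom ^ 2)).comp (aeval h)
    have hg₀ : ∀ p, f p = 0 → g₀ p = 0 := by
      intro p hp
      change Ideal.Quotient.mk _ (aeval h p) = 0
      rw [Ideal.Quotient.eq_zero_iff_mem, hker]
      exact h1 p ((mem_ker_iff Q p).mpr hp)
    let σ : S →ₐ[T] (MvPolynomial n T ⧸ RingHom.ker f.toRingHom ^ 2) :=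
      AlgHom.liftOfSurjective f hf g₀ (fun p hp => hg₀ p hp)
    have hσ : ∀ p, σ (f p) = g₀ p := fun p => AlgHom.liftOfSurjective_apply f hf g₀ _ p
    refine ⟨σ, ?_⟩
    apply AlgHom.ext
    intro s
    obtain ⟨p, rfl⟩ := hf s
    rw [AlgHom.comp_apply, hσ]
    change f.kerSquareLift (Ideal.Quotient.mk _ (aeval h p)) = f p
    rw [AlgHom.kerSquareLift_mk]
    have h3 : f.comp (aeval h) = f := by
      apply MvPolynomial.algHom_ext
      intro i
      rw [AlgHom.comp_apply, aeval_X]
      have := (mem_ker_iff Q _).mp (h2 i)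
      rw [map_sub, sub_eq_zero] at this
      exact this
    exact AlgHom.congr_fun h3 p

theorem formallyUnramified_iff [DecidableEq n] :
    Algebra.FormallyUnramified T S ↔ ∃ u : n → MvPolynomial n T,
      (∀ i, u i ∈ Q.ker) ∧ ∀ i k, pderiv k (u i) - (if i = k then 1 else 0) ∈ Q.ker := by
  constructor
  · intro hU
    have hex : ∀ i, ∃ u : Q.ker, Q.toExtension.cotangentComplex (Extension.Cotangent.mk u) =
        Q.cotangentSpaceBasis i := by
      intro i
      have h0 : Q.toExtension.toKaehler (Q.cotangentSpaceBasis i) = 0 := Subsingleton.elim _ _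
      obtain ⟨c, hc⟩ := (Q.toExtension.exact_cotangentComplex_toKaehler _).mp h0
      obtain ⟨u, rfl⟩ := Extension.Cotangent.mk_surjective c
      exact ⟨u, hc⟩
    choose u hu using hex
    refine ⟨fun i => (u i : MvPolynomial n T), fun i => (u i).2, fun i k => ?_⟩
    have h1 := congrArg (fun z => Q.cotangentSpaceBasis.repr z k) (hu i)
    simp only [Extension.cotangentComplex_mk] at h1
    rw [Module.Basis.repr_self, Finsupp.single_apply] at h1
    have h2 := Q.cotangentSpaceBasis_repr_one_tmul (u i : MvPolynomial n T) k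
    rw [mem_ker_iff, map_sub, sub_eq_zero]
    rw [← h2]
    rw [h1]
    split_ifs <;> simp
  · rintro ⟨u, hu1, hu2⟩
    constructor
    have hb : ∀ i, Q.toExtension.cotangentComplex (Extension.Cotangent.mk ⟨u i, hu1 i⟩) =
        Q.cotangentSpaceBasis i := by
      intro i
      apply Q.cotangentSpaceBasis.repr.injective
      ext k
      rw [Extension.cotangentComplex_mk, Module.Basis.repr_self, Finsupp.single_apply]
      have h2 := Q.cotangentSpaceBasis_repr_one_tmul (u i) k
      have h3 := (mem_ker_iff Q _).mp (hu2 i k)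
      rw [map_sub, sub_eq_zero] at h3
      refine h2.trans (h3.trans ?_)
      split_ifs <;> simp
    have hz : Q.toExtension.toKaehler = 0 := by
      apply Q.cotangentSpaceBasis.ext
      intro i
      rw [← hb i]
      exact (Q.toExtension.exact_cotangentComplex_toKaehler.apply_apply_eq_zero _)
    refine ⟨fun a b => ?_⟩
    obtain ⟨a', rfl⟩ := Q.toExtension.toKaehler_surjective a
    obtain ⟨b', rfl⟩ := Q.toExtension.toKaehler_surjective b
    rw [hz]
    rfl

end Generators

section Presentation

variable {σ' : Type*} (Q : Algebra.Presentation T S n σ')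

theorem bijective_iff :
    Function.Bijective (algebraMap T S) ↔ ∃ β : n → T,
      (∀ i, X i - C (β i) ∈ Q.ker) ∧ ∀ j, eval β (Q.relation j) = 0 := by
  have key : ∀ β : n → T, (∀ i, X i - C (β i) ∈ Q.ker) →
      ∀ p : MvPolynomial n T, aeval Q.val p = algebraMap T S (eval β p) := by
    intro β hβ p
    have h1 : (aeval Q.val : MvPolynomial n T →ₐ[T] S) =
        (Algebra.ofId T S).comp (aeval β) := by
      apply MvPolynomial.algHom_ext
      intro i
      have := hβ i
      rw [mem_ker_iff, map_sub, aeval_X, aeval_C, sub_eq_zero] at this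
      rw [aeval_X, AlgHom.comp_apply, aeval_X, this]
      rfl
    rw [h1, AlgHom.comp_apply]
    rfl
  constructor
  · intro h
    choose β hβ using (surjective_iff Q.toGenerators).mp h.2
    refine ⟨β, hβ, fun j => ?_⟩
    apply h.1
    rw [map_zero, ← key β hβ]
    exact (mem_ker_iff Q.toGenerators _).mp (Q.relation_mem_ker j)
  · rintro ⟨β, hβ, hr⟩
    refine ⟨?_, (surjective_iff Q.toGenerators).mpr fun i => ⟨β i, hβ i⟩⟩
    rw [injective_iff_map_eq_zero]
    intro t ht
    have h1 : C t ∈ Q.ker := by
      rw [mem_ker_iff, aeval_C]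
      exact ht
    have h2 : Q.ker ≤ RingHom.ker (eval β) := by
      rw [← Q.span_range_relation_eq_ker, Ideal.span_le]
      rintro _ ⟨j, rfl⟩
      exact hr j
    have := h2 h1
    rwa [RingHom.mem_ker, eval_C] at this

theorem formallySmooth_iff_presentation :
    Algebra.FormallySmooth T S ↔ ∃ h : n → MvPolynomial n T,
      (∀ j, aeval h (Q.relation j) ∈ Q.ker ^ 2) ∧ ∀ i, h i - X i ∈ Q.ker := by
  rw [formallySmooth_iff Q.toGenerators]
  constructor
  · rintro ⟨h, h1, h2⟩
    exact ⟨h, fun j => h1 _ (Q.relation_mem_ker j), h2⟩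
  · rintro ⟨h, h1, h2⟩
    refine ⟨h, fun p hp => ?_, h2⟩
    have hle : Q.ker ≤ (Q.ker ^ 2).comap (aeval h : MvPolynomial n T →ₐ[T] MvPolynomial n T) := by
      rw [← Q.span_range_relation_eq_ker, Ideal.span_le]
      rintro _ ⟨j, rfl⟩
      rw [Q.span_range_relation_eq_ker]
      exact h1 j
    exact hle hp

end Presentation

end Groth.Agent.LibPresCrit29
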