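import Groth.Agent.LibASysPoly29
import Groth.Agent.LibPresCrit29
import Mathlib.RingTheory.Etale.Basic

/-!
# Descent of surjective / bijective / unramified / smooth / étale along an elementary filtered
system, for a *given* finitely presented model (helper29)

`hS : ASys R G g` with colimit `A`, `P` a presentation of the `R`-algebra `D` with finitely many
generators.  If `A → A ⊗[R] D` is surjective (bijective, formally unramified, formally smooth,
formally étale) then so is `G i → G i ⊗[R] D` for some `i`.
-/

set_option autoImplicit false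
set_option linter.style.haveILetI false

namespace Groth.Agent.LibASys29

open MvPolynomial TensorProduct Groth.Agent.LibPresCrit29

section Naturality

variable {R : Type*} [CommRing R] {n : Type*}

lemma map_aeval_map {T T' : Type*} [CommRing T] [CommRing T'] [Algebra R T] [Algebra R T']
    (φ : T →ₐ[R] T') (h : n → MvPolynomial n T) (r : MvPolynomial n R) :
    map (φ : T →+* T') (aeval h (map (algebraMap R T) r)) =
      aeval (fun x => map (φ : T →+* T') (h x)) (map (algebraMap R T') r) := by
  induction r using MvPolynomial.induction_on with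
  | C a => simp
  | add p q hp hq => simp only [map_add, hp, hq]
  | mul_X p i hp => simp only [map_mul, hp, map_X, aeval_X]

lemma map_eval_map {T T' : Type*} [CommRing T] [CommRing T'] [Algebra R T] [Algebra R T']
    (φ : T →ₐ[R] T') (β : n → T) (r : MvPolynomial n R) :
    φ (eval β (map (algebraMap R T) r)) =
      eval (fun x => φ (β x)) (map (algebraMap R T') r) := by
  induction r using MvPolynomial.induction_on with
  | C a => simp
  | add p q hp hq => simp only [map_add, hp, hq]
  | mul_X p i hp => simp only [map_mul, hp, map_X, eval_X]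

end Naturality

namespace ASys

universe u

variable {R : Type*} [CommRing R] {A : Type u} [CommRing A] [Algebra R A] {ι : Type*}
  {G : ι → Type u} [∀ i, CommRing (G i)] [∀ i, Algebra R (G i)] {g : ∀ i, G i →ₐ[R] A}
  (hS : ASys R G g)
  {D : Type*} [CommRing D] [Algebra R D] {n σ' : Type*} [Finite n]
  (P : Algebra.Presentation R D n σ')

omit [Finite n] in
lemma ker_baseChange (T : Type*) [CommRing T] [Algebra R T] :
    (P.baseChange T).ker = P.ker.map (MvPolynomial.map (algebraMap R T)) := by
  rw [← (P.baseChange T).span_range_relation_eq_ker, ← P.span_range_relation_eq_ker,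
    Ideal.map_span, ← Set.range_comp]
  rfl

/-- the expressions for the smoothness criterion -/
noncomputable def ESm (T : Type u) [CommRing T] [Algebra R T] (h : n → MvPolynomial n T) :
    σ' ⊕ n → MvPolynomial n T :=
  Sum.elim (fun j => aeval h (map (algebraMap R T) (P.relation j))) (fun i => h i - X i)

/-- the expressions for the unramifiedness criterion -/
noncomputable def EUn [DecidableEq n] (T : Type u) [CommRing T] (u : n → MvPolynomial n T) :
    n ⊕ n × n → MvPolynomial n T :=
  Sum.elim u (fun ik => pderiv ik.2 (u ik.1) - if ik.1 = ik.2 then 1 else 0)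

omit [Finite n] in
lemma ESm_nat (T T' : Type u) [CommRing T] [CommRing T'] [Algebra R T] [Algebra R T']
    (φ : T →ₐ[R] T') (h : n → MvPolynomial n T) (l : σ' ⊕ n) :
    map (φ : T →+* T') (ESm P T h l) = ESm P T' (fun x => map (φ : T →+* T') (h x)) l := by
  rcases l with j | i
  · simp only [ESm, Sum.elim_inl]
    exact map_aeval_map φ h _
  · simp only [ESm, Sum.elim_inr, map_sub, map_X]

omit [Finite n] in
lemma EUn_nat [DecidableEq n] (T T' : Type u) [CommRing T] [CommRing T'] [Algebra R T]
    [Algebra R T'] (φ : T →ₐ[R] T') (u : n → MvPolynomial n T) (l : n ⊕ n × n) :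
    map (φ : T →+* T') (EUn T u l) = EUn T' (fun x => map (φ : T →+* T') (u x)) l := by
  rcases l with i | ⟨i, k⟩
  · simp only [EUn, Sum.elim_inl]
  · simp only [EUn, Sum.elim_inr, map_sub, pderiv_map]
    congr 1
    split_ifs <;> simp

include hS P

theorem exists_surjective (h : Function.Surjective (algebraMap A (A ⊗[R] D))) :
    ∃ i, Function.Surjective (algebraMap (G i) (G i ⊗[R] D)) := by
  classical
  choose β hβ using (surjective_iff (P.baseChange A).toGenerators).mp h
  obtain ⟨i, b, hb⟩ := hS.descent (σ := n) (ν := n) (Λ := n)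
    (fun T _ _ b l => X l - C (coeff 0 (b l)))
    (fun T T' _ _ _ _ φ b l => by simp only [map_sub, map_X, map_C, coeff_map])
    (fun _ => P.ker)
    ⟨fun l => C (β l), fun l => by
      simp only [coeff_zero_C]
      rw [← ker_baseChange]
      exact hβ l⟩
  refine ⟨i, (surjective_iff (P.baseChange (G i)).toGenerators).mpr fun l =>
    ⟨coeff 0 (b l), ?_⟩⟩
  have := hb l
  rw [← ker_baseChange] at this
  exact this

theorem exists_bijective [Finite σ'] (h : Function.Bijective (algebraMap A (A ⊗[R] D))) :
    ∃ i, Function.Bijective (algebraMap (G i) (G i ⊗[R] D)) := by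
  classical
  obtain ⟨β, hβ1, hβ2⟩ := (bijective_iff (P.baseChange A)).mp h
  obtain ⟨i, b, hb⟩ := hS.descent (σ := n) (ν := n) (Λ := n ⊕ σ')
    (fun T _ _ b => Sum.elim (fun l => X l - C (coeff 0 (b l)))
      (fun j => C (eval (fun x => coeff 0 (b x)) (map (algebraMap R T) (P.relation j)))))
    (fun T T' _ _ _ _ φ b l => by
      rcases l with l | j
      · simp only [Sum.elim_inl, map_sub, map_X, map_C, coeff_map]
      · simp only [Sum.elim_inr, map_C, coeff_map]
        congr 1
        exact map_eval_map φ _ _)
    (Sum.elim (fun _ => P.ker) (fun _ => ⊥))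
    ⟨fun l => C (β l), fun l => by
      rcases l with l | j
      · simp only [Sum.elim_inl, coeff_zero_C]
        rw [← ker_baseChange]
        exact hβ1 l
      · simp only [Sum.elim_inr, coeff_zero_C, Ideal.map_bot, Ideal.mem_bot]
        have := hβ2 j
        rw [Algebra.Presentation.baseChange_relation] at this
        rw [this, map_zero]⟩
  refine ⟨i, (bijective_iff (P.baseChange (G i))).mpr ⟨fun x => coeff 0 (b x), fun l => ?_,
    fun j => ?_⟩⟩
  · have := hb (Sum.inl l)
    simp only [Sum.elim_inl] at this
    rw [← ker_baseChange] at this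
    exact this
  · have := hb (Sum.inr j)
    simp only [Sum.elim_inr, Ideal.map_bot, Ideal.mem_bot] at this
    rw [Algebra.Presentation.baseChange_relation]
    exact C_injective n (G i) (this.trans (map_zero _).symm)

theorem exists_formallyUnramified (h : Algebra.FormallyUnramified A (A ⊗[R] D)) :
    ∃ i, Algebra.FormallyUnramified (G i) (G i ⊗[R] D) := by
  classical
  obtain ⟨u, hu1, hu2⟩ := (formallyUnramified_iff (P.baseChange A).toGenerators).mp h
  obtain ⟨i, v, hv⟩ := hS.descent (σ := n) (ν := n) (Λ := n ⊕ n × n)
    (fun T _ _ u => EUn T u) (fun T T' _ _ _ _ φ u l => EUn_nat T T' φ u l)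
    (fun _ => P.ker)
    ⟨u, fun l => by
      rw [← ker_baseChange]
      rcases l with i | ⟨i, k⟩
      · exact hu1 i
      · exact hu2 i k⟩
  refine ⟨i, (formallyUnramified_iff (P.baseChange (G i)).toGenerators).mpr
    ⟨v, fun x => ?_, fun x k => ?_⟩⟩
  · have := hv (Sum.inl x)
    rw [← ker_baseChange] at this
    exact this
  · have := hv (Sum.inr (x, k))
    rw [← ker_baseChange] at this
    exact this

omit hS [Finite n] in
lemma ker_sq_baseChange (T : Type*) [CommRing T] [Algebra R T] :
    (P.baseChange T).ker ^ 2 = (P.ker ^ 2).map (MvPolynomial.map (algebraMap R T)) := by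
  rw [ker_baseChange, Ideal.map_pow]

omit hS [Finite n] in
lemma smooth_data_iff (T : Type u) [CommRing T] [Algebra R T] :
    Algebra.FormallySmooth T (T ⊗[R] D) ↔ ∃ h : n → MvPolynomial n T,
      ∀ l, ESm P T h l ∈ Ideal.map (MvPolynomial.map (algebraMap R T))
        ((Sum.elim (fun _ => P.ker ^ 2) (fun _ => P.ker) : σ' ⊕ n → Ideal (MvPolynomial n R)) l) := by
  rw [formallySmooth_iff_presentation (P.baseChange T)]
  constructor
  · rintro ⟨h, h1, h2⟩
    refine ⟨h, fun l => ?_⟩
    rcases l with j | i
    · simp only [ESm, Sum.elim_inl]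
      rw [← ker_sq_baseChange]
      exact h1 j
    · simp only [ESm, Sum.elim_inr]
      rw [← ker_baseChange]
      exact h2 i
  · rintro ⟨h, hh⟩
    refine ⟨h, fun j => ?_, fun i => ?_⟩
    · have := hh (Sum.inl j)
      simp only [ESm, Sum.elim_inl] at this
      rw [← ker_sq_baseChange] at this
      exact this
    · have := hh (Sum.inr i)
      simp only [ESm, Sum.elim_inr] at this
      rw [← ker_baseChange] at this
      exact this

theorem exists_formallySmooth [Finite σ'] (h : Algebra.FormallySmooth A (A ⊗[R] D)) :
    ∃ i, Algebra.FormallySmooth (G i) (G i ⊗[R] D) := by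
  classical
  obtain ⟨i, v, hv⟩ := hS.descent (σ := n) (ν := n) (Λ := σ' ⊕ n)
    (fun T _ _ h => ESm P T h) (fun T T' _ _ _ _ φ h l => ESm_nat P T T' φ h l)
    (Sum.elim (fun _ => P.ker ^ 2) (fun _ => P.ker)) ((smooth_data_iff P A).mp h)
  exact ⟨i, (smooth_data_iff P (G i)).mpr ⟨v, hv⟩⟩

theorem exists_formallyEtale [Finite σ'] (h : Algebra.FormallyEtale A (A ⊗[R] D)) :
    ∃ i, Algebra.FormallyEtale (G i) (G i ⊗[R] D) := by
  classical
  rw [Algebra.FormallyEtale.iff_formallyUnramified_and_formallySmooth] at h
  obtain ⟨hU, hSm⟩ := h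
  obtain ⟨u, hu1, hu2⟩ := (formallyUnramified_iff (P.baseChange A).toGenerators).mp hU
  obtain ⟨h0, hh0⟩ := (smooth_data_iff P A).mp hSm
  obtain ⟨i, w, hw⟩ := hS.descent (σ := n) (ν := n ⊕ n) (Λ := (σ' ⊕ n) ⊕ (n ⊕ n × n))
    (fun T _ _ w => Sum.elim (ESm P T fun x => w (Sum.inl x)) (EUn T fun x => w (Sum.inr x)))
    (fun T T' _ _ _ _ φ w l => by
      rcases l with l | l
      · simp only [Sum.elim_inl]
        exact ESm_nat P T T' φ _ l
      · simp only [Sum.elim_inr]
        exact EUn_nat T T' φ _ l)
    (Sum.elim (Sum.elim (fun _ => P.ker ^ 2) (fun _ => P.ker)) (fun _ => P.ker))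
    ⟨Sum.elim h0 u, fun l => by
      rcases l with l | l
      · simp only [Sum.elim_inl]
        exact hh0 l
      · simp only [Sum.elim_inr]
        rw [← ker_baseChange]
        rcases l with i | ⟨i, k⟩
        · exact hu1 i
        · exact hu2 i k⟩
  refine ⟨i, ?_⟩
  rw [Algebra.FormallyEtale.iff_formallyUnramified_and_formallySmooth]
  constructor
  · refine (formallyUnramified_iff (P.baseChange (G i)).toGenerators).mpr
      ⟨fun x => w (Sum.inr x), fun x => ?_, fun x k => ?_⟩
    · have := hw (Sum.inr (Sum.inl x))
      simp only [Sum.elim_inr] at this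
      rw [← ker_baseChange] at this
      exact this
    · have := hw (Sum.inr (Sum.inr (x, k)))
      simp only [Sum.elim_inr] at this
      rw [← ker_baseChange] at this
      exact this
  · refine (smooth_data_iff P (G i)).mpr ⟨fun x => w (Sum.inl x), fun l => ?_⟩
    have := hw (Sum.inl l)
    simp only [Sum.elim_inl] at this
    exact this

end ASys

end Groth.Agent.LibASys29
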