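import Groth.Agent.LibRelGCIDescent29

/-!
# Properties of finite families of polynomials that descend along an elementary filtered system
(helper29)

`Good g Q`: the property `Q T d` of a family `d : ν → T[σ]` over `R`-algebras `T` is preserved by
`R`-algebra maps and descends from the colimit `A` to a finite stage `G i`.  Finite conjunctions of
good properties are good (`Good.and`, `Good.forall`), and a good property which holds for a family
over `A` holds for a lift of the family to some stage (`exists_stage`).

Basic good properties: membership in an extended ideal (`good_mem_map`), membership in an ideal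
generated by expressions in the family (`good_mem_span`), being a relative global complete
intersection (`good_isRelGCI`).
-/

set_option autoImplicit false
set_option linter.style.haveILetI false
universe u

namespace Groth.Agent.LibASys29

open MvPolynomial

namespace ASys

variable {R : Type u} [CommRing R] {A : Type u} [CommRing A] [Algebra R A] {ι : Type*}
  {G : ι → Type u} [∀ i, CommRing (G i)] [∀ i, Algebra R (G i)] (g : ∀ i, G i →ₐ[R] A)
  {σ ν : Type*}

/-- stable under base change and descending properties of families of polynomials. -/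
structure Good (Q : ∀ (T : Type u) [CommRing T] [Algebra R T], (ν → MvPolynomial σ T) → Prop) :
    Prop where
  stable : ∀ (T T' : Type u) [CommRing T] [CommRing T'] [Algebra R T] [Algebra R T']
    (ψ : T →ₐ[R] T') (d : ν → MvPolynomial σ T), Q T d →
      Q T' (fun x => map (ψ : T →+* T') (d x))
  descends : ∀ (i : ι) (d : ν → MvPolynomial σ (G i)),
    Q A (fun x => map (g i : G i →+* A) (d x)) →
      ∃ (k : ι) (ψ : G i →ₐ[R] G k), (g k).comp ψ = g i ∧
        Q (G k) (fun x => map (ψ : G i →+* G k) (d x))

variable {g}

omit [∀ i, Algebra R (G i)] [Algebra R A] in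
lemma map_map_fun {T T' T'' : Type u} [CommRing T] [CommRing T'] [CommRing T'']
    (φ : T →+* T') (ψ : T' →+* T'') (d : ν → MvPolynomial σ T) :
    (fun x => map ψ (map φ (d x))) = fun x => map (ψ.comp φ) (d x) := by
  funext x
  rw [map_map]

theorem Good.and {Q₁ Q₂ : ∀ (T : Type u) [CommRing T] [Algebra R T],
    (ν → MvPolynomial σ T) → Prop} (h₁ : Good g Q₁) (h₂ : Good g Q₂) :
    Good g (fun T _ _ d => Q₁ T d ∧ Q₂ T d) where
  stable := fun T T' _ _ _ _ ψ d h => ⟨h₁.stable T T' ψ d h.1, h₂.stable T T' ψ d h.2⟩
  descends := fun i d h => by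
    obtain ⟨k, ψ, hψ, hk⟩ := h₁.descends i d h.1
    have h2 : Q₂ A (fun x => map (g k : G k →+* A) (map (ψ : G i →+* G k) (d x))) := by
      have : (fun x => map (g k : G k →+* A) (map (ψ : G i →+* G k) (d x))) =
          fun x => map (g i : G i →+* A) (d x) := by
        funext x
        exact map_comp_apply ψ hψ (d x)
      rw [this]
      exact h.2
    obtain ⟨k', ψ', hψ', hk'⟩ := h₂.descends k _ h2
    refine ⟨k', ψ'.comp ψ, ?_, ?_, ?_⟩
    · rw [← AlgHom.comp_assoc, hψ', hψ]
    · have := h₁.stable (G k) (G k') ψ' _ hk
      rw [map_map_fun] at this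
      exact this
    · rw [map_map_fun] at hk'
      exact hk'

theorem Good.true : Good g (σ := σ) (ν := ν) (fun _ _ _ _ => True) where
  stable := fun _ _ _ _ _ _ _ _ _ => trivial
  descends := fun i _ _ => ⟨i, AlgHom.id R _, by ext; rfl, trivial⟩

theorem Good.congr {Q₁ Q₂ : ∀ (T : Type u) [CommRing T] [Algebra R T],
    (ν → MvPolynomial σ T) → Prop} (h₁ : Good g Q₁)
    (h : ∀ (T : Type u) [CommRing T] [Algebra R T] (d : ν → MvPolynomial σ T), Q₁ T d ↔ Q₂ T d) :
    Good g Q₂ where
  stable := fun T T' _ _ _ _ ψ d hd => (h T' _).mp (h₁.stable T T' ψ d ((h T d).mpr hd))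
  descends := fun i d hd => by
    obtain ⟨k, ψ, hψ, hk⟩ := h₁.descends i d ((h A _).mpr hd)
    exact ⟨k, ψ, hψ, (h (G k) _).mp hk⟩

theorem Good.forall_finset {Λ : Type*} (Q : Λ → ∀ (T : Type u) [CommRing T] [Algebra R T],
    (ν → MvPolynomial σ T) → Prop) (hQ : ∀ l, Good g (Q l)) (s : Finset Λ) :
    Good g (fun T _ _ d => ∀ l ∈ s, Q l T d) := by
  classical
  induction s using Finset.induction_on with
  | empty =>
    exact Good.true.congr (fun T _ _ d => by simp)
  | insert a s _ ih =>
    exact ((hQ a).and ih).congr (fun T _ _ d => by simp [Finset.forall_mem_insert])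

theorem Good.forall {Λ : Type*} [Finite Λ] (Q : Λ → ∀ (T : Type u) [CommRing T] [Algebra R T],
    (ν → MvPolynomial σ T) → Prop) (hQ : ∀ l, Good g (Q l)) :
    Good g (fun T _ _ d => ∀ l, Q l T d) := by
  classical
  haveI := Fintype.ofFinite Λ
  exact (Good.forall_finset Q hQ Finset.univ).congr (fun T _ _ d => by simp)

variable (hS : ASys R G g)

include hS in
/-- a good property of a family over the colimit holds for a lift at some finite stage. -/
theorem exists_stage [Finite ν] {Q : ∀ (T : Type u) [CommRing T] [Algebra R T],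
    (ν → MvPolynomial σ T) → Prop} (hQ : Good g Q) (d : ν → MvPolynomial σ A) (h : Q A d) :
    ∃ (i : ι) (d' : ν → MvPolynomial σ (G i)),
      (∀ x, map (g i : G i →+* A) (d' x) = d x) ∧ Q (G i) d' := by
  obtain ⟨i, d', hd'⟩ := hS.poly_lift_fun d
  have h' : Q A (fun x => map (g i : G i →+* A) (d' x)) := by
    have : (fun x => map (g i : G i →+* A) (d' x)) = d := funext hd'
    rw [this]
    exact h
  obtain ⟨k, ψ, hψ, hk⟩ := hQ.descends i d' h'
  refine ⟨k, _, fun x => ?_, hk⟩
  rw [map_comp_apply ψ hψ, hd']

section Instances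

variable {σ' μ : Type*}

/-- naturality of an expression in the family. -/
def IsNat (E : ∀ (T : Type u) [CommRing T] [Algebra R T], (ν → MvPolynomial σ T) →
    μ → MvPolynomial σ' T) : Prop :=
  ∀ (T T' : Type u) [CommRing T] [CommRing T'] [Algebra R T] [Algebra R T'] (ψ : T →ₐ[R] T')
    (d : ν → MvPolynomial σ T) (y : μ),
    map (ψ : T →+* T') (E T d y) = E T' (fun x => map (ψ : T →+* T') (d x)) y

include hS in
/-- membership in an ideal extended from the base ring is good. -/
theorem good_mem_map (E : ∀ (T : Type u) [CommRing T] [Algebra R T], (ν → MvPolynomial σ T) →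
    Unit → MvPolynomial σ' T) (hE : IsNat E) (J : Ideal (MvPolynomial σ' R)) :
    Good g (fun T _ _ d => E T d () ∈ J.map (map (algebraMap R T))) where
  stable := fun T T' _ _ _ _ ψ d h => by
    rw [← hE T T' ψ d ()]
    exact map_mem_of_mem ψ J _ h
  descends := fun i d h => by
    obtain ⟨k, f, hf, hk⟩ := hS.poly_mem_descent (Λ := Unit) (fun _ => J) i
      (fun _ => E (G i) d ()) (fun _ => by rw [hE]; exact h)
    refine ⟨k, f, hf, ?_⟩
    rw [← hE]
    exact hk ()

include hS in
/-- membership in an ideal generated by expressions in the family is good. -/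
theorem good_mem_span [Finite μ]
    (E : ∀ (T : Type u) [CommRing T] [Algebra R T], (ν → MvPolynomial σ T) →
      Unit → MvPolynomial σ' T) (hE : IsNat E)
    (E' : ∀ (T : Type u) [CommRing T] [Algebra R T], (ν → MvPolynomial σ T) →
      μ → MvPolynomial σ' T) (hE' : IsNat E') :
    Good g (fun T _ _ d => E T d () ∈ Ideal.span (Set.range (E' T d))) where
  stable := fun T T' _ _ _ _ ψ d h => by
    have h1 := Ideal.mem_map_of_mem (map (ψ : T →+* T')) h
    rw [Ideal.map_span, ← Set.range_comp] at h1
    rw [← hE T T' ψ d ()]
    have : (fun y => E' T' (fun x => map (ψ : T →+* T') (d x)) y) =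
        (map (ψ : T →+* T')) ∘ E' T d := by
      funext y
      exact (hE' T T' ψ d y).symm
    change _ ∈ Ideal.span (Set.range fun y => E' T' (fun x => map (ψ : T →+* T') (d x)) y)
    rw [this]
    exact h1
  descends := fun i d h => by
    have h' : map (g i : G i →+* A) (E (G i) d ()) ∈
        Ideal.span (Set.range fun y => map (g i : G i →+* A) (E' (G i) d y)) := by
      rw [hE]
      have : (fun y => map (g i : G i →+* A) (E' (G i) d y)) =
          fun y => E' A (fun x => map (g i : G i →+* A) (d x)) y := by
        funext y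
        exact hE' _ _ (g i) d y
      rw [this]
      exact h
    obtain ⟨k, φ, hφ, hk⟩ := hS.span_descent i (E' (G i) d) (E (G i) d ()) h'
    refine ⟨k, φ, hφ, ?_⟩
    rw [hE] at hk
    have : (fun y => map (φ : G i →+* G k) (E' (G i) d y)) =
        fun y => E' (G k) (fun x => map (φ : G i →+* G k) (d x)) y := by
      funext y
      exact hE' _ _ φ d y
    rw [this] at hk
    exact hk

include hS in
/-- being a relative global complete intersection is good. -/
theorem good_isRelGCI (n c : ℕ)
    (E : ∀ (T : Type u) [CommRing T] [Algebra R T], (ν → MvPolynomial σ T) →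
      Fin c → MvPolynomial (Fin n) T) (hE : IsNat E) :
    Good g (fun T _ _ d => Synt.IsRelGCI T n c (E T d)) where
  stable := fun T T' _ _ _ _ ψ d h => by
    have h1 := Groth.Agent.LibRelGCIDescent29.isRelGCI_map (ψ : T →+* T') n c (E T d) h
    have : (fun l => map (ψ : T →+* T') (E T d l)) =
        E T' (fun x => map (ψ : T →+* T') (d x)) := by
      funext l
      exact hE T T' ψ d l
    rw [this] at h1
    exact h1
  descends := fun i d h => by
    have h' : Synt.IsRelGCI A n c (fun l => map (g i : G i →+* A) (E (G i) d l)) := by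
      have : (fun l => map (g i : G i →+* A) (E (G i) d l)) =
          E A (fun x => map (g i : G i →+* A) (d x)) := by
        funext l
        exact hE _ _ (g i) d l
      rw [this]
      exact h
    obtain ⟨k, φ, hφ, hk⟩ := hS.exists_isRelGCI n c i (E (G i) d) h'
    refine ⟨k, φ, hφ, ?_⟩
    have : (fun l => map (φ : G i →+* G k) (E (G i) d l)) =
        E (G k) (fun x => map (φ : G i →+* G k) (d x)) := by
      funext l
      exact hE _ _ φ d l
    rw [this] at hk
    exact hk

end Instances

end ASys

end Groth.Agent.LibASys29
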