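import Groth.Agent.LibASys29
import Mathlib.Algebra.MvPolynomial.Eval
import Mathlib.Algebra.MvPolynomial.PDeriv
import Mathlib.LinearAlgebra.Finsupp.LinearCombination
import Mathlib.Data.Finite.Sigma

/-!
# Polynomial rings over an elementary filtered system of algebras (helper29)

For `hS : ASys R G g` we lift finite families of polynomials over the colimit `A` to a finite
stage (`poly_lift_fun`), kill finite families of polynomials that vanish over `A`
(`poly_kill_fun`), and descend membership in extended ideals `J · T[X]`, `J ⊆ R[X]`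
(`poly_mem_descent`).  The meta-theorem `descent` packages this: any finite system of conditions
`E_l(h) ∈ J_l · T[X]` on unknown polynomials `h`, natural in `T`, which is solvable over `A`
is solvable over some `G i`.
-/

set_option autoImplicit false
set_option linter.style.haveILetI false

namespace Groth.Agent.LibASys29

open MvPolynomial

namespace ASys

universe u

variable {R : Type*} [CommRing R] {A : Type u} [CommRing A] [Algebra R A] {ι : Type*}
  {G : ι → Type u} [∀ i, CommRing (G i)] [∀ i, Algebra R (G i)] {g : ∀ i, G i →ₐ[R] A}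
  (hS : ASys R G g) {σ : Type*}

include hS

lemma poly_lift_fun {ν : Type*} [Finite ν] (h : ν → MvPolynomial σ A) :
    ∃ (i : ι) (h' : ν → MvPolynomial σ (G i)), ∀ x, map (g i : G i →+* A) (h' x) = h x := by
  classical
  haveI := Fintype.ofFinite ν
  obtain ⟨i, y, hy⟩ := hS.exists_lift_finset (Finset.univ.biUnion fun x => (h x).coeffs)
  refine ⟨i, fun x => ∑ m ∈ (h x).support, monomial m (y (coeff m (h x))), fun x => ?_⟩
  rw [map_sum]
  conv_rhs => rw [← support_sum_monomial_coeff (h x)]
  refine Finset.sum_congr rfl fun m hm => ?_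
  rw [map_monomial]
  congr 1
  apply hy
  rw [Finset.mem_biUnion]
  exact ⟨x, Finset.mem_univ x, coeff_mem_coeffs m (mem_support_iff.mp hm)⟩

lemma poly_kill_fun {ν : Type*} [Finite ν] (i : ι) (e : ν → MvPolynomial σ (G i))
    (he : ∀ x, map (g i : G i →+* A) (e x) = 0) :
    ∃ (k : ι) (f : G i →ₐ[R] G k), (g k).comp f = g i ∧
      ∀ x, map (f : G i →+* G k) (e x) = 0 := by
  classical
  haveI := Fintype.ofFinite ν
  obtain ⟨k, f, hf, hk⟩ := hS.exists_kill_finset i (Finset.univ.biUnion fun x => (e x).coeffs) (by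
    intro t ht
    obtain ⟨x, _, hx⟩ := Finset.mem_biUnion.mp ht
    obtain ⟨m, _, rfl⟩ := mem_coeffs_iff.mp hx
    have := congrArg (coeff m) (he x)
    rwa [coeff_map, coeff_zero] at this)
  refine ⟨k, f, hf, fun x => ?_⟩
  ext m
  rw [coeff_map, coeff_zero]
  by_cases hm : coeff m (e x) = 0
  · rw [hm]
    exact map_zero _
  · exact hk _ (Finset.mem_biUnion.mpr ⟨x, Finset.mem_univ x, coeff_mem_coeffs m hm⟩)

omit hS in
lemma map_comp_apply {i k : ι} (f : G i →ₐ[R] G k) (hf : (g k).comp f = g i)
    (p : MvPolynomial σ (G i)) :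
    map (g k : G k →+* A) (map (f : G i →+* G k) p) = map (g i : G i →+* A) p := by
  rw [map_map]
  congr 2
  ext a
  exact AlgHom.congr_fun hf a

omit hS in
lemma map_algebraMap_apply {T T' : Type*} [CommRing T] [CommRing T'] [Algebra R T]
    [Algebra R T'] (f : T →ₐ[R] T') (q : MvPolynomial σ R) :
    map (f : T →+* T') (map (algebraMap R T) q) = map (algebraMap R T') q := by
  rw [map_map]
  congr 2
  ext a
  exact f.commutes a

omit hS in
/-- membership in an extended ideal is preserved by `R`-algebra maps -/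
lemma map_mem_of_mem {T T' : Type*} [CommRing T] [CommRing T'] [Algebra R T]
    [Algebra R T'] (f : T →ₐ[R] T') (J : Ideal (MvPolynomial σ R)) (p : MvPolynomial σ T)
    (hp : p ∈ J.map (map (algebraMap R T))) :
    map (f : T →+* T') p ∈ J.map (map (algebraMap R T')) := by
  have h1 : (J.map (map (algebraMap R T))).map (map (f : T →+* T')) =
      J.map (map (σ := σ) (algebraMap R T')) := by
    rw [Ideal.map_map]
    congr 1
    exact RingHom.ext fun q => map_algebraMap_apply f q
  rw [← h1]
  exact Ideal.mem_map_of_mem _ hp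

/-- descent of membership in extended ideals -/
theorem poly_mem_descent {Λ : Type*} [Finite Λ] (J : Λ → Ideal (MvPolynomial σ R)) (i : ι)
    (p : Λ → MvPolynomial σ (G i))
    (hp : ∀ l, map (g i : G i →+* A) (p l) ∈ (J l).map (map (algebraMap R A))) :
    ∃ (k : ι) (f : G i →ₐ[R] G k), (g k).comp f = g i ∧
      ∀ l, map (f : G i →+* G k) (p l) ∈ (J l).map (map (algebraMap R (G k))) := by
  classical
  have hrep : ∀ l, ∃ t : Finset (MvPolynomial σ R), (↑t ⊆ (J l : Set (MvPolynomial σ R))) ∧
      ∃ c : t → MvPolynomial σ A,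
        ∑ a, c a • map (algebraMap R A) (a : MvPolynomial σ R) = map (g i : G i →+* A) (p l) := by
    intro l
    have := hp l
    rw [Ideal.map, Ideal.span, Submodule.mem_span_image_iff_exists_fun] at this
    exact this
  choose t ht c hc using hrep
  obtain ⟨i', c', hc'⟩ := hS.poly_lift_fun (ν := Σ l, ↥(t l)) (fun x => c x.1 x.2)
  obtain ⟨k₀, φ, φ', hφ, hφ'⟩ := hS.dir i i'
  let e : Λ → MvPolynomial σ (G k₀) := fun l =>
    map (φ : G i →+* G k₀) (p l) -
      ∑ a : ↥(t l), map (φ' : G i' →+* G k₀) (c' ⟨l, a⟩) *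
        map (algebraMap R (G k₀)) (a : MvPolynomial σ R)
  have he : ∀ l, map (g k₀ : G k₀ →+* A) (e l) = 0 := by
    intro l
    simp only [e, map_sub, map_sum, map_mul]
    rw [map_comp_apply φ hφ, sub_eq_zero, ← hc l]
    refine Finset.sum_congr rfl fun a _ => ?_
    rw [map_comp_apply φ' hφ', hc', map_algebraMap_apply (g k₀), smul_eq_mul]
  obtain ⟨k, ψ, hψ, hk⟩ := hS.poly_kill_fun k₀ e he
  refine ⟨k, ψ.comp φ, ?_, fun l => ?_⟩
  · rw [← AlgHom.comp_assoc, hψ, hφ]
  · have h1 := hk l
    simp only [e, map_sub, map_sum, map_mul, sub_eq_zero] at h1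
    have h2 : map ((ψ.comp φ : G i →ₐ[R] G k) : G i →+* G k) (p l) =
        map (ψ : G k₀ →+* G k) (map (φ : G i →+* G k₀) (p l)) := by
      rw [map_map]
      rfl
    rw [h2, h1]
    refine Submodule.sum_mem _ fun a _ => ?_
    refine Ideal.mul_mem_left _ _ ?_
    rw [map_algebraMap_apply ψ]
    exact Ideal.mem_map_of_mem _ (ht l a.2)

/-- **Descent of finite systems of polynomial conditions.**  `E T h l` are expressions in the
unknown polynomials `h`, natural in the `R`-algebra `T`; if the conditions
`E A h l ∈ J l · A[X]` are solvable over the colimit `A`, they are solvable over some `G i`. -/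
theorem descent {ν Λ : Type*} [Finite ν] [Finite Λ]
    (E : ∀ (T : Type u) [CommRing T] [Algebra R T], (ν → MvPolynomial σ T) → Λ → MvPolynomial σ T)
    (hE : ∀ (T T' : Type u) [CommRing T] [CommRing T'] [Algebra R T] [Algebra R T']
      (φ : T →ₐ[R] T') (h : ν → MvPolynomial σ T) (l : Λ),
      map (φ : T →+* T') (E T h l) = E T' (fun x => map (φ : T →+* T') (h x)) l)
    (J : Λ → Ideal (MvPolynomial σ R))
    (hA : ∃ h : ν → MvPolynomial σ A, ∀ l, E A h l ∈ (J l).map (map (algebraMap R A))) :
    ∃ i, ∃ h : ν → MvPolynomial σ (G i),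
      ∀ l, E (G i) h l ∈ (J l).map (map (algebraMap R (G i))) := by
  obtain ⟨h, hh⟩ := hA
  obtain ⟨i', h', hh'⟩ := hS.poly_lift_fun h
  have hp : ∀ l, map (g i' : G i' →+* A) (E (G i') h' l) ∈ (J l).map (map (algebraMap R A)) := by
    intro l
    rw [hE]
    have : (fun x => map (g i' : G i' →+* A) (h' x)) = h := funext hh'
    rw [this]
    exact hh l
  obtain ⟨k, f, _, hk⟩ := hS.poly_mem_descent J i' (fun l => E (G i') h' l) hp
  refine ⟨k, fun x => map (f : G i' →+* G k) (h' x), fun l => ?_⟩
  rw [← hE]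
  exact hk l

end ASys

end Groth.Agent.LibASys29
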