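import Mathlib.RingTheory.Flat.FaithfullyFlat.Basic
import Mathlib.Algebra.Module.Projective
import Mathlib.RingTheory.TensorProduct.Basic
import Mathlib.LinearAlgebra.TensorProduct.RightExactness

/-!
# A retraction of `A → A'` for a faithfully flat projective algebra, and the induced retractions
`A' ⊗ C → C`
-/

set_option autoImplicit false
universe u

namespace Groth.Agent.LibAdic29

open TensorProduct

section retraction

variable (A A' : Type u) [CommRing A] [CommRing A'] [Algebra A A']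

theorem exists_retraction_of_faithfullyFlat_projective [Module.FaithfullyFlat A A']
    [Module.Projective A A'] : ∃ ρ : A' →ₗ[A] A, ρ 1 = 1 := by
  let ev₁ : (A' →ₗ[A] A) →ₗ[A] A := LinearMap.applyₗ (1 : A')
  suffices h : LinearMap.range ev₁ = ⊤ by
    have : (1 : A) ∈ LinearMap.range ev₁ := h ▸ Submodule.mem_top
    obtain ⟨ρ, hρ⟩ := this
    exact ⟨ρ, hρ⟩
  by_contra hne
  obtain ⟨𝔪, h𝔪, hle⟩ := Ideal.exists_le_maximal (LinearMap.range ev₁ : Ideal A) hne
  obtain ⟨s, hs⟩ := (Module.projective_def' (R := A) (P := A')).1 inferInstance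
  apply Module.FaithfullyFlat.submodule_ne_top (R := A) (M := A') h𝔪
  rw [eq_top_iff]
  intro x _
  have hx : x = Finsupp.linearCombination A id (s x) := by
    have := LinearMap.congr_fun hs x
    simpa using this.symm
  rw [hx, Finsupp.linearCombination_apply]
  refine Submodule.sum_mem _ fun p _ => ?_
  refine Submodule.smul_mem_smul (hle ?_) Submodule.mem_top
  refine ⟨(Finsupp.lapply p ∘ₗ s) ∘ₗ LinearMap.mulLeft A x, ?_⟩
  simp [ev₁]

end retraction

section rhoC

variable {A A' : Type u} [CommRing A] [CommRing A'] [Algebra A A'] (ρ : A' →ₗ[A] A)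
  (C : Type u) [CommRing C] [Algebra A C]

/-- the map `A' ⊗ C → C`, `a' ⊗ c ↦ ρ a' • c`. -/
noncomputable def rhoC : A' ⊗[A] C →ₗ[A] C :=
  (TensorProduct.lid A C).toLinearMap ∘ₗ (ρ.rTensor C)

variable {C}

@[simp] lemma rhoC_tmul (a' : A') (c : C) : rhoC ρ C (a' ⊗ₜ[A] c) = ρ a' • c := by
  simp [rhoC]

lemma rhoC_one_tmul (hρ : ρ 1 = 1) (c : C) : rhoC ρ C ((1 : A') ⊗ₜ[A] c) = c := by
  rw [rhoC_tmul, hρ, one_smul]

lemma rhoC_mul (c : C) (z : A' ⊗[A] C) :
    rhoC ρ C (((1 : A') ⊗ₜ[A] c) * z) = c * rhoC ρ C z := by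
  induction z using TensorProduct.induction_on with
  | zero => simp
  | tmul a' c₀ =>
    rw [Algebra.TensorProduct.tmul_mul_tmul, one_mul, rhoC_tmul, rhoC_tmul, mul_smul_comm]
  | add x y hx hy => rw [mul_add, map_add, hx, hy, map_add, mul_add]

lemma rhoC_natural {C₀ : Type u} [CommRing C₀] [Algebra A C₀] (q : C →ₐ[A] C₀)
    (z : A' ⊗[A] C) :
    q (rhoC ρ C z) = rhoC ρ C₀ (Algebra.TensorProduct.map (AlgHom.id A' A') q z) := by
  induction z using TensorProduct.induction_on with
  | zero => simp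
  | tmul a' c => simp
  | add x y hx hy => rw [map_add, map_add, hx, hy, map_add, map_add]

end rhoC

end Groth.Agent.LibAdic29
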