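import Mathlib.Algebra.Algebra.Subalgebra.Basic
import Mathlib.Algebra.Algebra.Prod
import Mathlib.RingTheory.Ideal.Quotient.Operations
import Mathlib.RingTheory.Ideal.Maps
import Mathlib.Algebra.Algebra.Tower
import Mathlib.Tactic.Ring

/-!
# The fibre product `C ×_{C₀} B` of algebras as a subalgebra of the product
-/

set_option autoImplicit false
universe u

namespace Groth.Agent.LibAdic29

section fibre

variable {A B C C₀ : Type u} [CommRing A] [CommRing B] [Algebra A B] [CommRing C] [Algebra A C]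
  [CommRing C₀] [Algebra A C₀] (q : C →ₐ[A] C₀) (u : B →ₐ[A] C₀)

/-- the fibre product of `q : C → C₀` and `u : B → C₀`. -/
def FP : Subalgebra A (C × B) :=
  AlgHom.equalizer (q.comp (AlgHom.fst A C B)) (u.comp (AlgHom.snd A C B))

/-- first projection. -/
def fp₁ : FP q u →ₐ[A] C := (AlgHom.fst A C B).comp (FP q u).val

/-- second projection. -/
def fp₂ : FP q u →ₐ[A] B := (AlgHom.snd A C B).comp (FP q u).val

lemma fp_comm (e : FP q u) : q (fp₁ q u e) = u (fp₂ q u e) := e.2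

/-- elements of the fibre product. -/
def fpMk (c : C) (b : B) (h : q c = u b) : FP q u := ⟨(c, b), h⟩

@[simp] lemma fp₁_fpMk (c : C) (b : B) (h : q c = u b) : fp₁ q u (fpMk q u c b h) = c := rfl

@[simp] lemma fp₂_fpMk (c : C) (b : B) (h : q c = u b) : fp₂ q u (fpMk q u c b h) = b := rfl

lemma fp_ext (e e' : FP q u) (h1 : fp₁ q u e = fp₁ q u e') (h2 : fp₂ q u e = fp₂ q u e') :
    e = e' := Subtype.ext (Prod.ext h1 h2)

lemma fp₂_surjective (hq : Function.Surjective q) : Function.Surjective (fp₂ q u) := by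
  intro b
  obtain ⟨c, hc⟩ := hq (u b)
  exact ⟨fpMk q u c b hc, rfl⟩

lemma fp₁_mem_ker (e : FP q u) (he : fp₂ q u e = 0) : fp₁ q u e ∈ RingHom.ker q := by
  rw [RingHom.mem_ker, fp_comm, he, map_zero]

lemma ker_fp₂_sq (hK2 : RingHom.ker q ^ 2 = ⊥) : RingHom.ker (fp₂ q u) ^ 2 = ⊥ := by
  rw [eq_bot_iff, pow_two, Ideal.mul_le]
  intro x hx y hy
  rw [Ideal.mem_bot]
  rw [RingHom.mem_ker] at hx hy
  have h0 : fp₁ q u x * fp₁ q u y = 0 := by
    have : fp₁ q u x * fp₁ q u y ∈ RingHom.ker q ^ 2 := by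
      rw [pow_two]; exact Ideal.mul_mem_mul (fp₁_mem_ker q u x hx) (fp₁_mem_ker q u y hy)
    rw [hK2, Ideal.mem_bot] at this
    exact this
  exact fp_ext q u _ 0 (by rw [map_mul, h0, map_zero]) (by rw [map_mul, hx, zero_mul, map_zero])

end fibre

section withW

variable {A B C C₀ : Type u} [CommRing A] [CommRing B] [Algebra A B] [CommRing C] [Algebra A C]
  [CommRing C₀] [Algebra A C₀] (q : C →ₐ[A] C₀) (u : B →ₐ[A] C₀)
  (𝔞 : Ideal A) (𝔠 : Ideal B) (w : B →ₗ[A] C)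

/-- the projection of the fibre product to `ker q` along the linear section `w`. -/
def prJ : FP q u →ₗ[A] C := (fp₁ q u).toLinearMap - w ∘ₗ (fp₂ q u).toLinearMap

lemma prJ_apply (e : FP q u) : prJ q u w e = fp₁ q u e - w (fp₂ q u e) := rfl

/-- the ideal `0 × 𝔠` of the fibre product. -/
def ZZ : Ideal (FP q u) := RingHom.ker (fp₁ q u) ⊓ 𝔠.comap (fp₂ q u)

/-- the ideal `𝔞 E + 0 × 𝔠`. -/
def IT : Ideal (FP q u) := 𝔞.map (algebraMap A (FP q u)) ⊔ ZZ q u 𝔠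

/-- the ideal `𝔞 B + 𝔠`. -/
def I₀ : Ideal B := 𝔞.map (algebraMap A B) ⊔ 𝔠

variable {q u w}

lemma prJ_mem_ker (hqw : ∀ b, q (w b) = u b) (e : FP q u) : prJ q u w e ∈ RingHom.ker q := by
  rw [RingHom.mem_ker, prJ_apply, map_sub, fp_comm, hqw, sub_self]

variable {𝔞 𝔠}

lemma prJ_eq_zero_of_mem_IT (hqw : ∀ b, q (w b) = u b)
    (hKa : ∀ a ∈ 𝔞, ∀ k ∈ RingHom.ker q, a • k = 0) (hw𝔠 : ∀ x ∈ 𝔠, w x = 0)
    (x : FP q u) (hx : x ∈ IT q u 𝔞 𝔠) : prJ q u w x = 0 := by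
  obtain ⟨x₁, hx₁, x₂, hx₂, rfl⟩ := Submodule.mem_sup.1 hx
  have h1 : prJ q u w x₁ = 0 := by
    have hx' : x₁ ∈ (𝔞 • (⊤ : Submodule A (FP q u))) := by
      rw [Ideal.smul_top_eq_map]; exact hx₁
    refine Submodule.smul_induction_on hx' ?_ ?_
    · intro a ha e _
      rw [map_smul]
      exact hKa a ha _ (prJ_mem_ker hqw e)
    · intro x y hx hy
      rw [map_add, hx, hy, add_zero]
  have h2 : prJ q u w x₂ = 0 := by
    rw [prJ_apply, (RingHom.mem_ker).1 hx₂.1, hw𝔠 _ hx₂.2, sub_zero]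
  rw [map_add, h1, h2, add_zero]

lemma eq_zero_of_mem_IT (hqw : ∀ b, q (w b) = u b)
    (hKa : ∀ a ∈ 𝔞, ∀ k ∈ RingHom.ker q, a • k = 0) (hw𝔠 : ∀ x ∈ 𝔠, w x = 0)
    (x : FP q u) (hx : x ∈ IT q u 𝔞 𝔠) (hx2 : fp₂ q u x = 0) : x = 0 := by
  have h1 : fp₁ q u x = 0 := by
    have := prJ_eq_zero_of_mem_IT hqw hKa hw𝔠 x hx
    rw [prJ_apply, hx2, map_zero, sub_zero] at this
    exact this
  exact fp_ext q u x 0 (by rw [h1, map_zero]) (by rw [hx2, map_zero])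

lemma IT_le_comap : IT q u 𝔞 𝔠 ≤ (I₀ 𝔞 𝔠).comap (fp₂ q u) := by
  rw [IT, sup_le_iff]
  constructor
  · rw [Ideal.map_le_iff_le_comap]
    intro a ha
    rw [Ideal.mem_comap, Ideal.mem_comap, AlgHom.commutes]
    exact Ideal.mem_sup_left (Ideal.mem_map_of_mem _ ha)
  · intro x hx
    exact Ideal.mem_sup_right hx.2

lemma exists_sub_of_mem_I₀ (hq : Function.Surjective q) (hu𝔠 : ∀ x ∈ 𝔠, u x = 0)
    (e : FP q u) (he : fp₂ q u e ∈ I₀ 𝔞 𝔠) : ∃ x ∈ IT q u 𝔞 𝔠, fp₂ q u (e - x) = 0 := by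
  obtain ⟨y₁, hy₁, z, hz, hyz⟩ := Submodule.mem_sup.1 he
  have hcomp : (fp₂ q u).toRingHom.comp (algebraMap A (FP q u)) = algebraMap A B :=
    RingHom.ext fun a => (fp₂ q u).commutes a
  have hmap : 𝔞.map (algebraMap A B) =
      (𝔞.map (algebraMap A (FP q u))).map (fp₂ q u).toRingHom := by
    rw [Ideal.map_map, hcomp]
  rw [hmap] at hy₁
  obtain ⟨x₁, hx₁, hx₁y⟩ :=
    (Ideal.mem_map_iff_of_surjective (fp₂ q u).toRingHom (fp₂_surjective q u hq)).1 hy₁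
  have hzE : q 0 = u z := by rw [map_zero, hu𝔠 z hz]
  refine ⟨x₁ + fpMk q u 0 z hzE, Ideal.add_mem _ (Ideal.mem_sup_left hx₁)
    (Ideal.mem_sup_right ⟨?_, ?_⟩), ?_⟩
  · exact (RingHom.mem_ker).2 (fp₁_fpMk q u 0 z hzE)
  · exact hz
  · rw [map_sub, map_add, ← hyz, fp₂_fpMk]
    have : fp₂ q u x₁ = y₁ := hx₁y
    rw [this, sub_self]

variable (q u 𝔞 𝔠)

/-- the induced map on quotients. -/
noncomputable def πT : FP q u ⧸ IT q u 𝔞 𝔠 →ₐ[A] B ⧸ I₀ 𝔞 𝔠 :=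
  Ideal.quotientMapₐ (I₀ 𝔞 𝔠) (fp₂ q u) IT_le_comap

lemma πT_mk (e : FP q u) :
    πT q u 𝔞 𝔠 (Ideal.Quotient.mk _ e) = Ideal.Quotient.mk _ (fp₂ q u e) := rfl

variable {q u 𝔞 𝔠}

lemma πT_surjective (hq : Function.Surjective q) : Function.Surjective (πT q u 𝔞 𝔠) := by
  intro y
  obtain ⟨b, rfl⟩ := Ideal.Quotient.mk_surjective y
  obtain ⟨e, rfl⟩ := fp₂_surjective q u hq b
  exact ⟨Ideal.Quotient.mk _ e, rfl⟩

lemma ker_πT_sq (hq : Function.Surjective q) (hu𝔠 : ∀ x ∈ 𝔠, u x = 0)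
    (hK2 : RingHom.ker q ^ 2 = ⊥) : RingHom.ker (πT q u 𝔞 𝔠) ^ 2 = ⊥ := by
  have hle : RingHom.ker (πT q u 𝔞 𝔠) ≤
      (RingHom.ker (fp₂ q u)).map (Ideal.Quotient.mk (IT q u 𝔞 𝔠)) := by
    intro y hy
    obtain ⟨e, rfl⟩ := Ideal.Quotient.mk_surjective y
    rw [RingHom.mem_ker, πT_mk] at hy
    have he : fp₂ q u e ∈ I₀ 𝔞 𝔠 := Ideal.Quotient.eq_zero_iff_mem.1 hy
    obtain ⟨x, hx, hxe⟩ := exists_sub_of_mem_I₀ hq hu𝔠 e he
    have : Ideal.Quotient.mk (IT q u 𝔞 𝔠) e = Ideal.Quotient.mk (IT q u 𝔞 𝔠) (e - x) := by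
      rw [map_sub, Ideal.Quotient.eq_zero_iff_mem.2 hx, sub_zero]
    rw [this]
    exact Ideal.mem_map_of_mem _ ((RingHom.mem_ker).2 hxe)
  rw [eq_bot_iff]
  refine (Ideal.pow_right_mono hle 2).trans ?_
  have := Ideal.map_pow (Ideal.Quotient.mk (IT q u 𝔞 𝔠)) (RingHom.ker (fp₂ q u)) 2
  rw [← this, ker_fp₂_sq q u hK2, Ideal.map_bot]

lemma algebraMap_quot_IT_eq_zero (a : A) (ha : a ∈ 𝔞) :
    algebraMap A (FP q u ⧸ IT q u 𝔞 𝔠) a = 0 := by
  rw [IsScalarTower.algebraMap_apply A (FP q u) (FP q u ⧸ IT q u 𝔞 𝔠)]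
  exact Ideal.Quotient.eq_zero_iff_mem.2 (Ideal.mem_sup_left (Ideal.mem_map_of_mem _ ha))

end withW

section final

variable {A B C C₀ : Type u} [CommRing A] [CommRing B] [Algebra A B] [CommRing C] [Algebra A C]
  [CommRing C₀] [Algebra A C₀] {q : C →ₐ[A] C₀} {u : B →ₐ[A] C₀}
  {𝔞 : Ideal A} {𝔠 : Ideal B} {w : B →ₗ[A] C}

theorem exists_lift_of_section (hq : Function.Surjective q) (hqw : ∀ b, q (w b) = u b)
    (hKa : ∀ a ∈ 𝔞, ∀ k ∈ RingHom.ker q, a • k = 0) (hu𝔠 : ∀ x ∈ 𝔠, u x = 0)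
    (hw𝔠 : ∀ x ∈ 𝔠, w x = 0) (s : B →ₐ[A] FP q u ⧸ IT q u 𝔞 𝔠)
    (hs : (πT q u 𝔞 𝔠).comp s = Ideal.Quotient.mkₐ A (I₀ 𝔞 𝔠)) :
    ∃ v : B →ₐ[A] C, q.comp v = u := by
  have hex : ∀ b : B, ∃ e : FP q u, Ideal.Quotient.mk (IT q u 𝔞 𝔠) e = s b ∧ fp₂ q u e = b := by
    intro b
    obtain ⟨e, he⟩ := Ideal.Quotient.mk_surjective (s b)
    obtain ⟨b', hb'⟩ := fp₂_surjective q u hq b
    have h1 : fp₂ q u (e - b') ∈ I₀ 𝔞 𝔠 := by
      rw [map_sub, hb', ← Ideal.Quotient.eq]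
      have h2 := congrArg (fun f : B →ₐ[A] B ⧸ I₀ 𝔞 𝔠 => f b) hs
      simp only [AlgHom.comp_apply] at h2
      rw [← he, πT_mk] at h2
      exact h2
    obtain ⟨x, hx, hxe⟩ := exists_sub_of_mem_I₀ hq hu𝔠 (e - b') h1
    refine ⟨e - x, ?_, ?_⟩
    · rw [map_sub, Ideal.Quotient.eq_zero_iff_mem.2 hx, sub_zero, he]
    · have : e - x = (e - b' - x) + b' := by ring
      rw [this, map_add, hxe, zero_add, hb']
  have huniq : ∀ e e' : FP q u, Ideal.Quotient.mk (IT q u 𝔞 𝔠) e =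
      Ideal.Quotient.mk (IT q u 𝔞 𝔠) e' → fp₂ q u e = fp₂ q u e' → e = e' := by
    intro e e' h1 h2
    rw [← sub_eq_zero]
    apply eq_zero_of_mem_IT hqw hKa hw𝔠
    · exact Ideal.Quotient.eq.1 h1
    · rw [map_sub, h2, sub_self]
  choose eb heb using hex
  have hadd : ∀ b b', eb (b + b') = eb b + eb b' := by
    intro b b'
    apply huniq
    · rw [(heb _).1, map_add, map_add, (heb b).1, (heb b').1]
    · rw [(heb _).2, map_add, (heb b).2, (heb b').2]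
  have hmul : ∀ b b', eb (b * b') = eb b * eb b' := by
    intro b b'
    apply huniq
    · rw [(heb _).1, map_mul, map_mul, (heb b).1, (heb b').1]
    · rw [(heb _).2, map_mul, (heb b).2, (heb b').2]
  have halg : ∀ a : A, eb (algebraMap A B a) = algebraMap A (FP q u) a := by
    intro a
    apply huniq
    · rw [(heb _).1, AlgHom.commutes]
      rfl
    · rw [(heb _).2, AlgHom.commutes]
  refine ⟨{ toFun := fun b => fp₁ q u (eb b)
            map_one' := by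
              have := halg 1
              simp only [map_one] at this
              rw [this, map_one]
            map_mul' := fun b b' => by rw [hmul, map_mul]
            map_zero' := by
              have := halg 0
              simp only [map_zero] at this
              rw [this, map_zero]
            map_add' := fun b b' => by rw [hadd, map_add]
            commutes' := fun a => by rw [halg, AlgHom.commutes] }, ?_⟩
  ext b
  change q (fp₁ q u (eb b)) = u b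
  rw [fp_comm, (heb b).2]

end final

end Groth.Agent.LibAdic29
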