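import Groth.Agent.LibAdicSym29e
import Groth.Agent.Lib.Helper19.FSDiff2

/-!
# Adic formal smoothness of a local algebra over a field, without Noetherian hypotheses (helper29)

* `isAdicFormallySmooth_of_base_of_injective`: `k₀ → k → A`, `A` local; if `A` is formally smooth
  over `k₀` for the adic topology and `Ω_{k/ℤ} ⊗ K → Ω_{A/ℤ} ⊗ K` is injective, then `A` is formally
  smooth over `k` for the adic topology (helper19's argument in `FSDiff2`, with the regularity
  hypothesis replaced by formal smoothness over `k₀`).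
* `main_field`: EGA 0_IV 22.2.? for an arbitrary local `k`-algebra: adic formal smoothness over `k`
  iff `Sym(𝔪/𝔪²) ≅ gr_𝔪(A)` and `Ω_{k/ℤ} ⊗ K → Ω_{A/ℤ} ⊗ K` injective.
-/

set_option autoImplicit false
universe u

namespace Groth.Agent.LibAdicFS29

open IsLocalRing TensorProduct Groth.Agent.Lib.helper19.CohenK Groth.Agent.Lib.helper19.FSDiff
open scoped KaehlerDifferential

theorem isAdicFormallySmooth_of_base_of_injective (k₀ k A : Type u) [CommRing k₀] [Field k]
    [CommRing A] [Algebra k₀ k] [Algebra k A] [Algebra k₀ A] [IsScalarTower k₀ k A]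
    [IsLocalRing A] (hA0 : CAlgX.IsAdicFormallySmooth k₀ A (maximalIdeal A))
    (hinj : Function.Injective
      ((KaehlerDifferential.mapBaseChange ℤ k A).lTensor (ResidueField A))) :
    CAlgX.IsAdicFormallySmooth k A (maximalIdeal A) := by
  classical
  refine Groth.Agent.S12136.formallySmooth_of_liftProp_one (maximalIdeal A) (maximalIdeal A)
    ⟨1, by simp⟩ ?_
  intro T _ _ N hN ψ hψ hkill
  let _ : Algebra k₀ T := ((algebraMap k T).comp (algebraMap k₀ k)).toAlgebra
  have : IsScalarTower k₀ k T := IsScalarTower.of_algebraMap_eq fun _ => rfl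
  let ψ₀ : A →ₐ[k₀] T ⧸ N :=
    { ψ.toRingHom with
      commutes' := fun c => by
        show ψ (algebraMap k₀ A c) = _
        rw [IsScalarTower.algebraMap_apply k₀ k A, ψ.commutes]
        rfl }
  obtain ⟨χ₀, hχ₀⟩ := hA0 T N hN ψ₀ hψ
  have hχ₀' : ∀ a, Ideal.Quotient.mk N (χ₀ a) = ψ a := fun a => congr($hχ₀ a)
  let _ : Module A N := Module.compHom N (χ₀ : A →+* T)
  have hsmul : ∀ (a : A) (n : N), ((a • n : N) : T) = χ₀ a * n := fun a n => rfl
  have hM : ∀ a ∈ maximalIdeal A, ∀ n : N, a • n = 0 := by
    intro a ha n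
    apply Subtype.ext
    rw [hsmul]
    exact hkill a (by simpa using ha) (χ₀ a) (hχ₀' a) n n.2
  have hNN : ∀ u v : T, u ∈ N → v ∈ N → u * v = 0 := by
    intro u v hu hv
    have : u * v ∈ N ^ 2 := by rw [pow_two]; exact Ideal.mul_mem_mul hu hv
    rw [hN] at this
    exact this
  have hDmem : ∀ x : k, algebraMap k T x - χ₀ (algebraMap k A x) ∈ N := by
    intro x
    rw [← Ideal.Quotient.eq_zero_iff_mem, map_sub, hχ₀', ψ.commutes]
    exact sub_self _
  let D : k →+ N :=
    { toFun := fun x => ⟨_, hDmem x⟩
      map_zero' := by apply Subtype.ext; simp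
      map_add' := fun x y => by apply Subtype.ext; simp only [map_add]; show _ = _ + _; ring }
  have hDv : ∀ x, ((D x : N) : T) = algebraMap k T x - χ₀ (algebraMap k A x) := fun x => rfl
  have hD : ∀ x y, D (x * y) = algebraMap k A x • D y + algebraMap k A y • D x := by
    intro x y
    apply Subtype.ext
    rw [Submodule.coe_add, hsmul, hsmul, hDv, hDv, hDv, map_mul, map_mul, map_mul]
    have h0 := hNN _ _ (hDmem x) (hDmem y)
    linear_combination h0
  obtain ⟨δ, hδ⟩ := exists_derivation_extension k A hinj N hM D hD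
  let χ : A →ₐ[k] T :=
    { toFun := fun a => χ₀ a + (δ a : T)
      map_one' := by simp [δ.map_one_eq_zero]
      map_mul' := fun a b => by
        have h0 := hNN _ _ (δ a).2 (δ b).2
        rw [δ.leibniz, Submodule.coe_add, hsmul, hsmul, map_mul]
        linear_combination -h0
      map_zero' := by simp
      map_add' := fun a b => by simp only [map_add, Submodule.coe_add]; ring
      commutes' := fun x => by
        show χ₀ (algebraMap k A x) + (δ (algebraMap k A x) : T) = algebraMap k T x
        rw [hδ, hDv]; ring }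
  refine ⟨χ, ?_⟩
  ext a
  show Ideal.Quotient.mk N (χ₀ a + (δ a : T)) = ψ a
  rw [map_add, hχ₀', Ideal.Quotient.eq_zero_iff_mem.2 (δ a).2, add_zero]

/-- adic formal smoothness of an arbitrary local algebra over a field -/
theorem main_field (k A : Type u) [Field k] [CommRing A] [IsLocalRing A] [Algebra k A] :
    CAlgX.IsAdicFormallySmooth k A (maximalIdeal A) ↔
      (PP16.SymGrBijective A (maximalIdeal A) ∧
        Function.Injective ((KaehlerDifferential.mapBaseChange ℤ k A).lTensor (ResidueField A))) := by
  classical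
  have := perfectField_P0 k
  letI : Algebra (P0 k) k := (P0.incl k).toAlgebra
  letI : Algebra (P0 k) A := ((algebraMap k A).comp (P0.incl k)).toAlgebra
  have : IsScalarTower (P0 k) k A := IsScalarTower.of_algebraMap_eq fun _ => rfl
  have hfs0 : Algebra.FormallySmooth (P0 k) (ResidueField A) :=
    formallySmooth_of_perfectField _ _
  have hfsk : Algebra.FormallySmooth (P0 k) k := formallySmooth_of_perfectField _ _
  have hq : Groth.Agent.LibAdicSym29.IsQuot (maximalIdeal A) (ResidueField A) :=
    ⟨Ideal.Quotient.mk_surjective, fun _ => Ideal.Quotient.eq_zero_iff_mem⟩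
  have key := Groth.Agent.LibAdicSym29.main (A := P0 k) (C := ResidueField A) hq
  constructor
  · intro h
    exact ⟨(key.1 (isAdicFormallySmooth_trans (P0 k) k A _ h)).2,
      injective_of_isAdicFormallySmooth k A h⟩
  · rintro ⟨h1, h2⟩
    have hproj : Module.Projective (ResidueField A) (maximalIdeal A).Cotangent :=
      Module.Projective.of_free
    exact isAdicFormallySmooth_of_base_of_injective (P0 k) k A (key.2 ⟨hproj, h1⟩) h2

end Groth.Agent.LibAdicFS29
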