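import Groth.Agent.LibAdicSym29e
import Groth.Agent.S12136

/-!
# Adic formal smoothness relative to a base: EGA 0_IV 22.? (helper29)

`Λ → A → B`, `J ⊂ B`, `C = B/J` formally smooth over `Λ`.
* `exists_retraction`: `C ⊗ (B ⊗ Ω_{A/Λ}) → C ⊗ Ω_{B/Λ}` injective with projective cokernel
  `C ⊗ Ω_{B/A}` is split.
* `exists_derivation_extension'`: extension of derivations `A → M` (`M` killed by `J`) to `B`.
* `isAdicFormallySmooth_of_conditions`: (α)–(δ) ⇒ `B` formally smooth over `A`, `J`-adically.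
* `isAdicFormallySmooth_trans'`: transitivity (discrete formally smooth base change).
* `injective_of_isAdicFormallySmooth'`: adic formal smoothness over `A` ⇒ (γ').
-/

set_option autoImplicit false
set_option linter.unusedSectionVars false
universe u

namespace Groth.Agent.LibAdicFS29

open TensorProduct KaehlerDifferential

section ext

variable (Λ A B : Type u) [CommRing Λ] [CommRing A] [CommRing B] [Algebra Λ A] [Algebra A B]
  [Algebra Λ B] [IsScalarTower Λ A B] (J : Ideal B)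

/-- the split injection -/
theorem exists_retraction
    (hinj : Function.Injective ((mapBaseChange Λ A B).lTensor (B ⧸ J)))
    (hproj : Module.Projective (B ⧸ J) ((B ⧸ J) ⊗[B] Ω[B⁄A])) :
    ∃ r : (B ⧸ J) ⊗[B] Ω[B⁄Λ] →ₗ[B ⧸ J] (B ⧸ J) ⊗[B] (B ⊗[A] Ω[A⁄Λ]),
      r ∘ₗ (mapBaseChange Λ A B).baseChange (B ⧸ J) = LinearMap.id := by
  have hex : Function.Exact ((mapBaseChange Λ A B).baseChange (B ⧸ J))
      ((KaehlerDifferential.map Λ A B B).baseChange (B ⧸ J)) :=
    lTensor_exact (B ⧸ J) (exact_mapBaseChange_map Λ A B)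
      (KaehlerDifferential.map_surjective Λ A B)
  have hsurj : Function.Surjective ((KaehlerDifferential.map Λ A B B).baseChange (B ⧸ J)) :=
    LinearMap.lTensor_surjective (B ⧸ J) (KaehlerDifferential.map_surjective Λ A B)
  obtain ⟨s, hs⟩ := Module.projective_lifting_property _ LinearMap.id hsurj
  have h01 := (hex.split_tfae hinj hsurj).out 0 1
  exact h01.1 ⟨s, hs⟩

/-- extension of derivations `A → M` to `B`, for `M` killed by `J` -/
theorem exists_derivation_extension'
    (hinj : Function.Injective ((mapBaseChange Λ A B).lTensor (B ⧸ J)))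
    (hproj : Module.Projective (B ⧸ J) ((B ⧸ J) ⊗[B] Ω[B⁄A]))
    (M : Type u) [AddCommGroup M] [Module B M] (hM : ∀ b ∈ J, ∀ n : M, b • n = 0)
    (D : A →+ M) (hD : ∀ x y, D (x * y) = algebraMap A B x • D y + algebraMap A B y • D x)
    (hD0 : ∀ l : Λ, D (algebraMap Λ A l) = 0) :
    ∃ δ : B →+ M, (∀ x y, δ (x * y) = x • δ y + y • δ x) ∧
      ∀ a, δ (algebraMap A B a) = D a := by
  classical
  let _ : Module A M := Module.compHom M (algebraMap A B)
  have hAsmul : ∀ (a : A) (n : M), a • n = algebraMap A B a • n := fun _ _ => rfl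
  have : IsScalarTower A B M := ⟨fun x a n => by
    rw [hAsmul, Algebra.smul_def, mul_smul]⟩
  let _ : Module Λ M := Module.compHom M (algebraMap Λ B)
  have hΛsmul : ∀ (l : Λ) (n : M), l • n = algebraMap Λ B l • n := fun _ _ => rfl
  have : IsScalarTower Λ B M := ⟨fun x a n => by
    rw [hΛsmul, Algebra.smul_def, mul_smul]⟩
  have : IsScalarTower Λ A M := ⟨fun l a n => by
    rw [hΛsmul, hAsmul, hAsmul, Algebra.smul_def, map_mul, mul_smul,
      ← IsScalarTower.algebraMap_apply Λ A B]⟩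
  have hD1 : D 1 = 0 := by
    have := hD 1 1
    simp only [mul_one, map_one, one_smul] at this
    have h2 : D 1 + D 1 = D 1 + 0 := by rw [add_zero]; exact this.symm
    exact add_left_cancel h2
  let D' : Derivation Λ A M :=
    { toFun := D
      map_add' := D.map_add
      map_smul' := fun l x => by
        show D (l • x) = l • D x
        rw [Algebra.smul_def, hD, hD0, smul_zero, add_zero, hΛsmul,
          ← IsScalarTower.algebraMap_apply Λ A B]
      map_one_eq_zero' := hD1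
      leibniz' := fun x y => hD x y }
  let g₀ : Ω[A⁄Λ] →ₗ[A] M := D'.liftKaehlerDifferential
  let X := B ⊗[A] Ω[A⁄Λ]
  let g : X →ₗ[B] M := LinearMap.liftBaseChange B g₀
  have hg : ∀ (b : B) (ω : Ω[A⁄Λ]), g (b ⊗ₜ ω) = b • g₀ ω := fun b ω => by
    exact LinearMap.liftBaseChange_tmul B g₀ b ω
  let C := B ⧸ J
  have hle : J • (⊤ : Submodule B X) ≤ LinearMap.ker g := by
    rw [Submodule.smul_le]
    intro a ha ξ _
    rw [LinearMap.mem_ker, map_smul]
    exact hM a ha _
  let gbar : C ⊗[B] X →ₗ[B] M :=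
    (Submodule.liftQ _ g hle) ∘ₗ (TensorProduct.quotTensorEquivQuotSMul X J).toLinearMap
  have hgbar : ∀ ξ : X, gbar ((1 : C) ⊗ₜ ξ) = g ξ := by
    intro ξ
    show Submodule.liftQ _ g hle (TensorProduct.quotTensorEquivQuotSMul X J
      ((Ideal.Quotient.mk _ 1) ⊗ₜ ξ)) = g ξ
    rw [TensorProduct.quotTensorEquivQuotSMul_mk_tmul, one_smul]
    rfl
  obtain ⟨r, hr⟩ := exists_retraction Λ A B J hinj hproj
  let jC : C ⊗[B] X →ₗ[C] C ⊗[B] Ω[B⁄Λ] := (mapBaseChange Λ A B).baseChange C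
  let dC : Derivation Λ B (C ⊗[B] Ω[B⁄Λ]) :=
    (TensorProduct.mk B C Ω[B⁄Λ] 1).compDer (KaehlerDifferential.D Λ B)
  let δ : Derivation Λ B M := (gbar ∘ₗ r.restrictScalars B).compDer dC
  refine ⟨(δ : B →ₗ[Λ] M).toAddMonoidHom, fun x y => δ.leibniz x y, fun x => ?_⟩
  have h1 : (1 : C) ⊗ₜ[B] KaehlerDifferential.D Λ B (algebraMap A B x) =
      jC (1 ⊗ₜ (1 ⊗ₜ KaehlerDifferential.D Λ A x)) := by
    simp [jC, LinearMap.baseChange_tmul, KaehlerDifferential.mapBaseChange_tmul,
      KaehlerDifferential.map_D]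
  show gbar (r ((1 : C) ⊗ₜ[B] KaehlerDifferential.D Λ B (algebraMap A B x))) = D x
  rw [h1]
  have h2 : r (jC (1 ⊗ₜ (1 ⊗ₜ KaehlerDifferential.D Λ A x))) =
      1 ⊗ₜ (1 ⊗ₜ KaehlerDifferential.D Λ A x) := LinearMap.congr_fun hr _
  rw [h2, hgbar, hg, one_smul]
  show D'.liftKaehlerDifferential (KaehlerDifferential.D Λ A x) = D x
  rw [Derivation.liftKaehlerDifferential_comp_D]
  rfl

/-- (α)–(δ) ⇒ adic formal smoothness over `A` -/
theorem isAdicFormallySmooth_of_conditions [Algebra.FormallySmooth Λ (B ⧸ J)]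
    (hα : Module.Projective (B ⧸ J) J.Cotangent) (hβ : PP16.SymGrBijective B J)
    (hinj : Function.Injective ((mapBaseChange Λ A B).lTensor (B ⧸ J)))
    (hproj : Module.Projective (B ⧸ J) ((B ⧸ J) ⊗[B] Ω[B⁄A])) :
    CAlgX.IsAdicFormallySmooth A B J := by
  classical
  have hΛ : CAlgX.IsAdicFormallySmooth Λ B J :=
    Groth.Agent.LibAdicSym29.backward (A := Λ) (Groth.Agent.LibAdicSym29.isQuot_quotient J) hα hβ
  refine Groth.Agent.S12136.formallySmooth_of_liftProp_one J J ⟨1, by simp⟩ ?_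
  intro T _ _ N hN ψ hψ hkill
  let _ : Algebra Λ T := ((algebraMap A T).comp (algebraMap Λ A)).toAlgebra
  have : IsScalarTower Λ A T := IsScalarTower.of_algebraMap_eq fun _ => rfl
  let ψ₀ : B →ₐ[Λ] T ⧸ N :=
    { ψ.toRingHom with
      commutes' := fun c => by
        show ψ (algebraMap Λ B c) = _
        rw [IsScalarTower.algebraMap_apply Λ A B, ψ.commutes]
        rfl }
  obtain ⟨χ₀, hχ₀⟩ := hΛ T N hN ψ₀ hψ
  have hχ₀' : ∀ a, Ideal.Quotient.mk N (χ₀ a) = ψ a := fun a => congr($hχ₀ a)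
  let _ : Module B N := Module.compHom N (χ₀ : B →+* T)
  have hsmul : ∀ (a : B) (n : N), ((a • n : N) : T) = χ₀ a * n := fun a n => rfl
  have hM : ∀ a ∈ J, ∀ n : N, a • n = 0 := by
    intro a ha n
    apply Subtype.ext
    rw [hsmul]
    exact hkill a (by simpa using ha) (χ₀ a) (hχ₀' a) n n.2
  have hNN : ∀ u v : T, u ∈ N → v ∈ N → u * v = 0 := by
    intro u v hu hv
    have : u * v ∈ N ^ 2 := by rw [pow_two]; exact Ideal.mul_mem_mul hu hv
    rw [hN] at this
    exact this
  have hDmem : ∀ x : A, algebraMap A T x - χ₀ (algebraMap A B x) ∈ N := by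
    intro x
    rw [← Ideal.Quotient.eq_zero_iff_mem, map_sub, hχ₀', ψ.commutes]
    exact sub_self _
  let D : A →+ N :=
    { toFun := fun x => ⟨_, hDmem x⟩
      map_zero' := by apply Subtype.ext; simp
      map_add' := fun x y => by apply Subtype.ext; simp only [map_add]; show _ = _ + _; ring }
  have hDv : ∀ x, ((D x : N) : T) = algebraMap A T x - χ₀ (algebraMap A B x) := fun x => rfl
  have hD : ∀ x y, D (x * y) = algebraMap A B x • D y + algebraMap A B y • D x := by
    intro x y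
    apply Subtype.ext
    rw [Submodule.coe_add, hsmul, hsmul, hDv, hDv, hDv, map_mul, map_mul, map_mul]
    have h0 := hNN _ _ (hDmem x) (hDmem y)
    linear_combination h0
  have hD0 : ∀ l : Λ, D (algebraMap Λ A l) = 0 := by
    intro l
    apply Subtype.ext
    rw [hDv, ← IsScalarTower.algebraMap_apply Λ A B, χ₀.commutes]
    show _ - algebraMap A T (algebraMap Λ A l) = _
    rw [sub_self]
    rfl
  obtain ⟨δ, hδL, hδ⟩ := exists_derivation_extension' Λ A B J hinj hproj N hM D hD hD0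
  have hδ1 : δ 1 = 0 := by
    have := hδL 1 1
    simp only [mul_one, one_smul] at this
    have h2 : δ 1 + δ 1 = δ 1 + 0 := by rw [add_zero]; exact this.symm
    exact add_left_cancel h2
  let χ : B →ₐ[A] T :=
    { toFun := fun a => χ₀ a + (δ a : T)
      map_one' := by simp [hδ1]
      map_mul' := fun a b => by
        have h0 := hNN _ _ (δ a).2 (δ b).2
        rw [hδL, Submodule.coe_add, hsmul, hsmul, map_mul]
        linear_combination -h0
      map_zero' := by simp
      map_add' := fun a b => by simp only [map_add, Submodule.coe_add]; ring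
      commutes' := fun x => by
        show χ₀ (algebraMap A B x) + (δ (algebraMap A B x) : T) = algebraMap A T x
        rw [hδ, hDv]; ring }
  refine ⟨χ, ?_⟩
  ext a
  show Ideal.Quotient.mk N (χ₀ a + (δ a : T)) = ψ a
  rw [map_add, hχ₀', Ideal.Quotient.eq_zero_iff_mem.2 (δ a).2, add_zero]

end ext

section trans

theorem isAdicFormallySmooth_trans' (k₀ k A : Type u) [CommRing k₀] [CommRing k] [CommRing A]
    [Algebra k₀ k] [Algebra k A] [Algebra k₀ A] [IsScalarTower k₀ k A]
    [Algebra.FormallySmooth k₀ k] (𝔫 : Ideal A) (h : CAlgX.IsAdicFormallySmooth k A 𝔫) :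
    CAlgX.IsAdicFormallySmooth k₀ A 𝔫 := by
  intro B _ _ J hJ ψ ⟨N, hN⟩
  let ψ₀ : k →ₐ[k₀] B ⧸ J := ψ.comp (IsScalarTower.toAlgHom k₀ k A)
  have hnil : IsNilpotent J := ⟨2, hJ⟩
  let χ₀ : k →ₐ[k₀] B := Algebra.FormallySmooth.lift J hnil ψ₀
  have hχ₀ : ∀ c, Ideal.Quotient.mk J (χ₀ c) = ψ₀ c := fun c =>
    Algebra.FormallySmooth.mk_lift J hnil ψ₀ c
  letI algkB : Algebra k B := χ₀.toRingHom.toAlgebra
  have htower : IsScalarTower k₀ k B := IsScalarTower.of_algebraMap_eq fun c => by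
    show algebraMap k₀ B c = χ₀ (algebraMap k₀ k c)
    rw [χ₀.commutes]
  let ψk : A →ₐ[k] B ⧸ J :=
    { ψ.toRingHom with
      commutes' := fun c => by
        show ψ (algebraMap k A c) = Ideal.Quotient.mk J (χ₀ c)
        rw [hχ₀]
        rfl }
  obtain ⟨χ, hχ⟩ := h B J hJ ψk ⟨N, hN⟩
  refine ⟨χ.restrictScalars k₀, ?_⟩
  ext x
  exact congr($hχ x)

end trans

section inj

/-- type synonym carrying the algebra structure given by a ring hom -/
def TwR {k X : Type*} [CommSemiring k] [Semiring X] (_φ : k →+* X) : Type _ := X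

instance {k X : Type*} [CommSemiring k] [CommRing X] (φ : k →+* X) : CommRing (TwR φ) :=
  inferInstanceAs (CommRing X)

instance {k X : Type*} [CommSemiring k] [CommRing X] (φ : k →+* X) : Algebra k (TwR φ) :=
  φ.toAlgebra

variable (Λ A B : Type u) [CommRing Λ] [CommRing A] [CommRing B] [Algebra Λ A] [Algebra A B]
  [Algebra Λ B] [IsScalarTower Λ A B] (J : Ideal B)

/-- the elements `1 ⊗ (1 ⊗ dx)` -/
noncomputable def eC (x : A) : (B ⧸ J) ⊗[B] (B ⊗[A] Ω[A⁄Λ]) :=
  (1 : B ⧸ J) ⊗ₜ[B] ((1 : B) ⊗ₜ[A] KaehlerDifferential.D Λ A x)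

theorem one_tmul_smul' (b : B) (ξ : B ⊗[A] Ω[A⁄Λ]) :
    (1 : B ⧸ J) ⊗ₜ[B] (b • ξ) = (Ideal.Quotient.mk J b) • ((1 : B ⧸ J) ⊗ₜ[B] ξ) := by
  rw [TensorProduct.smul_tmul', smul_eq_mul, mul_one, ← TensorProduct.smul_tmul]
  congr 1
  rw [Algebra.smul_def, mul_one]
  rfl

theorem mem_span_eC_aux1 (ω : Ω[A⁄Λ]) :
    (1 : B ⧸ J) ⊗ₜ[B] ((1 : B) ⊗ₜ[A] ω) ∈
      Submodule.span (B ⧸ J) (Set.range (eC Λ A B J)) := by
  have hω : ω ∈ Submodule.span A (Set.range (KaehlerDifferential.D Λ A)) := by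
    rw [KaehlerDifferential.span_range_derivation]; trivial
  induction hω using Submodule.span_induction with
  | mem ω hω =>
    obtain ⟨x, rfl⟩ := hω
    exact Submodule.subset_span ⟨x, rfl⟩
  | zero => rw [TensorProduct.tmul_zero, TensorProduct.tmul_zero]; exact zero_mem _
  | add u v _ _ hu hv =>
    rw [TensorProduct.tmul_add, TensorProduct.tmul_add]; exact add_mem hu hv
  | smul y u _ hu =>
    have h3 : (1 : B) ⊗ₜ[A] (y • u) = (algebraMap A B y) • ((1 : B) ⊗ₜ[A] u) := by
      rw [TensorProduct.tmul_smul, algebraMap_smul]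
    rw [h3, one_tmul_smul']
    exact Submodule.smul_mem _ _ hu

theorem mem_span_eC_aux2 (ξ : B ⊗[A] Ω[A⁄Λ]) :
    (1 : B ⧸ J) ⊗ₜ[B] ξ ∈ Submodule.span (B ⧸ J) (Set.range (eC Λ A B J)) := by
  induction ξ using TensorProduct.induction_on with
  | zero => rw [TensorProduct.tmul_zero]; exact zero_mem _
  | add u v hu hv => rw [TensorProduct.tmul_add]; exact add_mem hu hv
  | tmul a ω =>
    have h2 : a ⊗ₜ[A] ω = a • ((1 : B) ⊗ₜ[A] ω) := by
      rw [TensorProduct.smul_tmul', smul_eq_mul, mul_one]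
    rw [h2, one_tmul_smul']
    exact Submodule.smul_mem _ _ (mem_span_eC_aux1 Λ A B J ω)

theorem span_eC : Submodule.span (B ⧸ J) (Set.range (eC Λ A B J)) = ⊤ := by
  rw [eq_top_iff]
  rintro ω -
  induction ω using TensorProduct.induction_on with
  | zero => exact zero_mem _
  | add u v hu hv => exact add_mem hu hv
  | tmul c ξ =>
    have h1 : c ⊗ₜ[B] ξ = c • ((1 : B ⧸ J) ⊗ₜ[B] ξ) := by
      rw [TensorProduct.smul_tmul', smul_eq_mul, mul_one]
    rw [h1]
    exact Submodule.smul_mem _ _ (mem_span_eC_aux2 Λ A B J ξ)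

theorem baseChange_eC (x : A) :
    (KaehlerDifferential.mapBaseChange Λ A B).baseChange (B ⧸ J) (eC Λ A B J x) =
      (1 : B ⧸ J) ⊗ₜ[B] KaehlerDifferential.D Λ B (algebraMap A B x) := by
  simp [eC, LinearMap.baseChange_tmul, KaehlerDifferential.mapBaseChange_tmul,
    KaehlerDifferential.map_D]

theorem eC_add (x y : A) : eC Λ A B J (x + y) = eC Λ A B J x + eC Λ A B J y := by
  simp only [eC, map_add, TensorProduct.tmul_add]

theorem eC_mul (x y : A) : eC Λ A B J (x * y) =
    algebraMap A (B ⧸ J) x • eC Λ A B J y + algebraMap A (B ⧸ J) y • eC Λ A B J x := by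
  simp only [eC, Derivation.leibniz, TensorProduct.tmul_add]
  have h3 : ∀ (y : A) (u : Ω[A⁄Λ]), (1 : B ⧸ J) ⊗ₜ[B] ((1 : B) ⊗ₜ[A] (y • u)) =
      algebraMap A (B ⧸ J) y • ((1 : B ⧸ J) ⊗ₜ[B] ((1 : B) ⊗ₜ[A] u)) := by
    intro y u
    have : (1 : B) ⊗ₜ[A] (y • u) = (algebraMap A B y) • ((1 : B) ⊗ₜ[A] u) := by
      rw [TensorProduct.tmul_smul, algebraMap_smul]
    rw [this, one_tmul_smul']
    rfl
  rw [h3, h3]

theorem eC_algebraMap (l : Λ) : eC Λ A B J (algebraMap Λ A l) = 0 := by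
  simp [eC]

/-- derivations `A → M` (`M` a `B/J`-module) extend to `B` when `B` is adically formally smooth -/
theorem exists_derivation_of_isAdicFormallySmooth {A B : Type u} [CommRing A] [CommRing B]
    [Algebra A B] (J : Ideal B) (h : CAlgX.IsAdicFormallySmooth A B J)
    (M : Type u) [AddCommGroup M] [Module (B ⧸ J) M] [Module (B ⧸ J)ᵐᵒᵖ M]
    [IsCentralScalar (B ⧸ J) M]
    (e : A →+ M) (he : ∀ x y, e (x * y) =
      algebraMap A (B ⧸ J) x • e y + algebraMap A (B ⧸ J) y • e x) :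
    ∃ δ : B →+ M, (∀ x y, δ (x * y) =
      Ideal.Quotient.mk J x • δ y + Ideal.Quotient.mk J y • δ x) ∧
      ∀ a, δ (algebraMap A B a) = e a := by
  classical
  have he1 : e 1 = 0 := by
    have := he 1 1
    simp only [mul_one, map_one, one_smul] at this
    have h2 : e 1 + e 1 = e 1 + 0 := by rw [add_zero]; exact this.symm
    exact add_left_cancel h2
  let α : A →+* TrivSqZeroExt (B ⧸ J) M :=
    { toFun := fun x => TrivSqZeroExt.inl (algebraMap A (B ⧸ J) x) + TrivSqZeroExt.inr (e x)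
      map_one' := by rw [he1]; simp
      map_mul' := fun x y => by
        apply TrivSqZeroExt.ext
        · simp
        · simp only [TrivSqZeroExt.snd_add, TrivSqZeroExt.snd_inl, TrivSqZeroExt.snd_inr,
            zero_add, TrivSqZeroExt.snd_mul, TrivSqZeroExt.fst_add, TrivSqZeroExt.fst_inl,
            TrivSqZeroExt.fst_inr, add_zero, op_smul_eq_smul]
          rw [he]
      map_zero' := by rw [map_zero, map_zero]; simp
      map_add' := fun x y => by
        rw [map_add, map_add, TrivSqZeroExt.inl_add, TrivSqZeroExt.inr_add]; abel }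
  let T := TwR α
  let out : T → TrivSqZeroExt (B ⧸ J) M := id
  have out_mul : ∀ u v : T, out (u * v) = out u * out v := fun _ _ => rfl
  have out_add : ∀ u v : T, out (u + v) = out u + out v := fun _ _ => rfl
  have out_alg : ∀ x : A, out (algebraMap A T x) = α x := fun _ => rfl
  let fstA : T →ₐ[A] (B ⧸ J) :=
    { (TrivSqZeroExt.fstHom (B ⧸ J) (B ⧸ J) M : TrivSqZeroExt (B ⧸ J) M →+* (B ⧸ J)) with
      commutes' := fun x => by
        show TrivSqZeroExt.fst (α x) = algebraMap A (B ⧸ J) x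
        simp [α] }
  have hfstA : ∀ t : T, fstA t = TrivSqZeroExt.fst (out t) := fun _ => rfl
  have hg : Function.Surjective fstA := fun c =>
    ⟨(TrivSqZeroExt.inl c : TrivSqZeroExt (B ⧸ J) M), by
      rw [hfstA]; exact TrivSqZeroExt.fst_inl _ _⟩
  have hnil : IsNilpotent (RingHom.ker (fstA : T →+* (B ⧸ J))) := by
    refine ⟨2, ?_⟩
    rw [Ideal.zero_eq_bot, eq_bot_iff, pow_two, Ideal.mul_le]
    intro u hu v hv
    rw [Ideal.mem_bot]
    have hu' : TrivSqZeroExt.fst (out u) = 0 := hu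
    have hv' : TrivSqZeroExt.fst (out v) = 0 := hv
    show (out u * out v : TrivSqZeroExt (B ⧸ J) M) = 0
    apply TrivSqZeroExt.ext
    · simp [hu']
    · simp [hu', hv']
  obtain ⟨χ, hχ⟩ := Groth.Agent.LibAdicSym29.exists_lift_of_surjective h fstA hg hnil
    (Ideal.Quotient.mkₐ A J) ⟨1, fun x hx => by
      rw [pow_one] at hx
      exact Ideal.Quotient.eq_zero_iff_mem.2 hx⟩
  have hχ' : ∀ b, TrivSqZeroExt.fst (out (χ b)) = Ideal.Quotient.mk J b := fun b => hχ b
  refine ⟨{ toFun := fun b => TrivSqZeroExt.snd (out (χ b))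
            map_zero' := by rw [map_zero]; rfl
            map_add' := fun x y => by rw [map_add, out_add, TrivSqZeroExt.snd_add] }, ?_, ?_⟩
  · intro x y
    show TrivSqZeroExt.snd (out (χ (x * y))) = _ • TrivSqZeroExt.snd (out (χ y)) +
      _ • TrivSqZeroExt.snd (out (χ x))
    rw [map_mul, out_mul, TrivSqZeroExt.snd_mul, hχ', hχ', op_smul_eq_smul]
  · intro x
    show TrivSqZeroExt.snd (out (χ (algebraMap A B x))) = _
    rw [χ.commutes, out_alg]
    simp [α]

/-- **adic formal smoothness over `A` ⇒ injectivity of `Ω_{A/Λ} ⊗ C → Ω_{B/Λ} ⊗ C`.** -/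
theorem injective_of_isAdicFormallySmooth' (h : CAlgX.IsAdicFormallySmooth A B J) :
    Function.Injective ((mapBaseChange Λ A B).lTensor (B ⧸ J)) := by
  classical
  let C := B ⧸ J
  let X := B ⊗[A] Ω[A⁄Λ]
  let M₀ := C ⊗[B] X
  let jC : M₀ →ₗ[C] C ⊗[B] Ω[B⁄Λ] := (mapBaseChange Λ A B).baseChange C
  show Function.Injective jC
  let e : A →+ M₀ :=
    { toFun := eC Λ A B J
      map_zero' := by simpa using eC_algebraMap Λ A B J 0
      map_add' := eC_add Λ A B J }
  obtain ⟨δ', hδL, hδe⟩ := exists_derivation_of_isAdicFormallySmooth J h M₀ e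
    (eC_mul Λ A B J)
  have hBsmul : ∀ (b : B) (m : M₀), b • m = Ideal.Quotient.mk J b • m := fun b m =>
    (algebraMap_smul C b m).symm
  have hΛsmul : ∀ (l : Λ) (m : M₀), l • m = algebraMap Λ B l • m := by
    intro l m
    rw [hBsmul]
    exact (algebraMap_smul C l m).symm
  have hleib : ∀ x y : B, δ' (x * y) = x • δ' y + y • δ' x := by
    intro x y
    rw [hδL, hBsmul, hBsmul]
  let δ₀ : B →ₗ[Λ] M₀ :=
    { toFun := δ'
      map_add' := δ'.map_add
      map_smul' := fun l b => by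
        show δ' (l • b) = l • δ' b
        rw [Algebra.smul_def, hleib, hΛsmul]
        have : δ' (algebraMap Λ B l) = 0 := by
          rw [IsScalarTower.algebraMap_apply Λ A B, hδe]
          exact eC_algebraMap Λ A B J l
        rw [this, smul_zero, add_zero] }
  let δ : Derivation Λ B M₀ := Derivation.mk' δ₀ hleib
  have hδ : ∀ x : A, δ (algebraMap A B x) = eC Λ A B J x := hδe
  let ψ' : C ⊗[B] Ω[B⁄Λ] →ₗ[C] M₀ := LinearMap.liftBaseChange C δ.liftKaehlerDifferential
  have hcomp : ψ' ∘ₗ jC = LinearMap.id := by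
    apply LinearMap.ext_on (span_eC Λ A B J)
    rintro _ ⟨x, rfl⟩
    show ψ' (jC (eC Λ A B J x)) = eC Λ A B J x
    rw [baseChange_eC]
    show LinearMap.liftBaseChange C δ.liftKaehlerDifferential _ = _
    rw [LinearMap.liftBaseChange_tmul, one_smul, Derivation.liftKaehlerDifferential_comp_D, hδ]
  exact Function.LeftInverse.injective (fun ω => LinearMap.congr_fun hcomp ω)

end inj

end Groth.Agent.LibAdicFS29
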