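import Groth.Agent.LibAdicFS29a
import Groth.Agent.LibAdicFS29b

/-!
# `p`-independence, directed families of subfields and differentials (helper29)

`k` a field of characteristic `p`.
* `exists_derivation_eq_one_of_notMem`: `F ⊇ k^p` a subfield, `y ∉ F` ⇒ a derivation `D` of `k`
  with `D y = 1`, `D = 0` on `F`.
* `adj F xs`, `Indep F xs` (tower form of `p`-independence over `F` of a list).
* `exists_indep_of_iInf`: independence over `⨅ L α` ⇒ independence over some `L α`
  (directed antitone family of subfields containing `k^p`).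
-/

set_option autoImplicit false
set_option linter.unusedSectionVars false
universe u

namespace Groth.Agent.LibAdicFS29

open Polynomial IntermediateField Groth.Agent.Lib.helper19.FSDiff

section deriv

variable {K : Type u} [Field K] (p : ℕ) [hp : Fact p.Prime] [CharP K p]

/-- There is a subfield `E ⊇ F` not containing `c` with `K = E(c)`. -/
theorem exists_subfield_adjoin_eq_top'
    (F : Subfield K) (hF : ∀ y : K, y ^ p ∈ F) (c : K) (hc : c ∉ F) :
    ∃ E : Subfield K, F ≤ E ∧ c ∉ E ∧ (E⟮c⟯ : IntermediateField E K) = ⊤ := by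
  classical
  let S : Set (Subfield K) := {E | F ≤ E ∧ c ∉ E}
  have h0 : F ∈ S := ⟨le_rfl, hc⟩
  obtain ⟨E, -, hEmax⟩ := zorn_le_nonempty₀ S (by
    intro ch hchS hchain y hy
    refine ⟨sSup ch, ⟨?_, ?_⟩, fun z hz => le_sSup hz⟩
    · exact le_trans (hchS hy).1 (le_sSup hy)
    · rw [Subfield.mem_sSup_of_directedOn ⟨y, hy⟩ hchain.directedOn]
      rintro ⟨s, hs, hcs⟩
      exact (hchS hs).2 hcs) _ h0
  obtain ⟨⟨hFE, hcE⟩, hmax⟩ := hEmax
  have hEp : ∀ z : K, z ^ p ∈ E := fun z => hFE (hF z)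
  refine ⟨E, hFE, hcE, ?_⟩
  rw [eq_top_iff]
  intro y _
  by_cases hy : y ∈ E
  · exact (E⟮c⟯).algebraMap_mem ⟨y, hy⟩
  · obtain ⟨hinty, hfy, -⟩ := finrank_adjoin_of_notMem p E hEp y hy
    obtain ⟨hintc, hfc, -⟩ := finrank_adjoin_of_notMem p E hEp c hcE
    have hcy : c ∈ (E⟮y⟯ : IntermediateField E K) := by
      by_contra hcn
      have hle : E ≤ (E⟮y⟯ : IntermediateField E K).toSubfield := by
        intro e he
        exact (E⟮y⟯).algebraMap_mem ⟨e, he⟩
      have hmem : (E⟮y⟯ : IntermediateField E K).toSubfield ∈ S :=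
        ⟨le_trans hFE hle, hcn⟩
      have := hmax hmem hle
      exact hy (this (mem_adjoin_simple_self E y))
    have hle : (E⟮c⟯ : IntermediateField E K) ≤ E⟮y⟯ := by
      rw [adjoin_simple_le_iff]; exact hcy
    have : FiniteDimensional E (E⟮y⟯ : IntermediateField E K) :=
      adjoin.finiteDimensional hinty
    have heq := IntermediateField.eq_of_le_of_finrank_eq hle (by rw [hfy, hfc])
    rw [heq]
    exact mem_adjoin_simple_self E y

theorem exists_derivation_of_adjoin_eq_top'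
    (c : K) (E : Subfield K) (hEp : ∀ y : K, y ^ p ∈ E)
    (hint : IsIntegral E c) (hmin : minpoly E c = X ^ p - C (⟨c ^ p, hEp c⟩ : E))
    (htop : (E⟮c⟯ : IntermediateField E K) = ⊤) :
    ∃ D : Derivation ℤ K K, D c = 1 ∧ ∀ u ∈ E, D u = 0 := by
  let e : AdjoinRoot (minpoly E c) ≃ₐ[E] K :=
    (adjoinRootEquivAdjoin E hint).trans ((equivOfEq htop).trans topEquiv)
  have he : e (AdjoinRoot.root _) = c := by
    simp [e, adjoinRootEquivAdjoin_apply_root]
  let i : E →+* TrivSqZeroExt K K := (TrivSqZeroExt.inlHom K K).comp (algebraMap E K)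
  let a : TrivSqZeroExt K K := TrivSqZeroExt.inl c + TrivSqZeroExt.inr 1
  have hpow : a ^ p = TrivSqZeroExt.inl (c ^ p) := by
    apply TrivSqZeroExt.ext
    · simp [a, TrivSqZeroExt.fst_pow]
    · rw [TrivSqZeroExt.snd_pow]
      simp [a]
  have hev : (minpoly E c).eval₂ i a = 0 := by
    rw [hmin]
    simp only [eval₂_sub, eval₂_pow, eval₂_X, eval₂_C, hpow]
    show TrivSqZeroExt.inl (c ^ p) - TrivSqZeroExt.inl (c ^ p) = 0
    simp
  let Φ : AdjoinRoot (minpoly E c) →+* TrivSqZeroExt K K := AdjoinRoot.lift i a hev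
  have hfst : (TrivSqZeroExt.fstHom K K K : TrivSqZeroExt K K →+* K).comp Φ =
      (e : AdjoinRoot (minpoly E c) →+* K) := by
    apply AdjoinRoot.ringHom_ext
    · ext x
      simp [Φ, i]
    · simp [Φ, he, a]
  let φ : K →+* TrivSqZeroExt K K := Φ.comp (e.symm : K →+* AdjoinRoot (minpoly E c))
  have hφ : ∀ u, (φ u).fst = algebraMap K K u := by
    intro u
    have := congrArg (fun f => f (e.symm u)) hfst
    simpa [φ] using this
  refine ⟨derivOfSection φ hφ, ?_, ?_⟩
  · show (φ c).snd = 1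
    have : e.symm c = AdjoinRoot.root _ := by
      apply e.injective
      rw [he]; simp
    simp [φ, this, Φ, a]
  · intro u hu
    show (φ u).snd = 0
    have : e.symm u = AdjoinRoot.of _ (⟨u, hu⟩ : E) := by
      apply e.injective
      rw [AlgEquiv.apply_symm_apply]
      exact (e.commutes ⟨u, hu⟩).symm
    simp [φ, this, Φ, i]

/-- `F ⊇ k^p`, `y ∉ F` ⇒ a derivation with `D y = 1` vanishing on `F`. -/
theorem exists_derivation_eq_one_of_notMem
    (F : Subfield K) (hF : ∀ y : K, y ^ p ∈ F) (c : K) (hc : c ∉ F) :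
    ∃ D : Derivation ℤ K K, D c = 1 ∧ ∀ u ∈ F, D u = 0 := by
  obtain ⟨E, hFE, hcE, htop⟩ := exists_subfield_adjoin_eq_top' p F hF c hc
  have hEp : ∀ z : K, z ^ p ∈ E := fun z => hFE (hF z)
  obtain ⟨hint, -, hmin⟩ := finrank_adjoin_of_notMem p E hEp c hcE
  obtain ⟨D, hD1, hD0⟩ := exists_derivation_of_adjoin_eq_top' p c E hEp hint hmin htop
  exact ⟨D, hD1, fun u hu => hD0 u (hFE hu)⟩

end deriv

section indep

variable {k : Type u} [Field k]

/-- adjoin a list to a subfield -/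
def adj (F : Subfield k) (xs : List k) : Subfield k := F ⊔ Subfield.closure {y | y ∈ xs}

lemma adj_nil (F : Subfield k) : adj F [] = F := by
  simp [adj]

lemma adj_cons (F : Subfield k) (y : k) (ys : List k) :
    adj F (y :: ys) = adj F ys ⊔ Subfield.closure {y} := by
  unfold adj
  have : {z | z ∈ y :: ys} = {z | z ∈ ys} ∪ {y} := by
    ext z; simp
  rw [this, Subfield.closure_union, sup_assoc]

lemma adj_mono {F F' : Subfield k} (h : F ≤ F') (xs : List k) : adj F xs ≤ adj F' xs :=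
  sup_le_sup_right h _

lemma le_adj (F : Subfield k) (xs : List k) : F ≤ adj F xs := le_sup_left

lemma mem_adj_of_mem {F : Subfield k} {xs : List k} {y : k} (h : y ∈ xs) : y ∈ adj F xs :=
  (le_sup_right : Subfield.closure {z | z ∈ xs} ≤ adj F xs) (Subfield.subset_closure h)

lemma adj_le {F E : Subfield k} {xs : List k} (hF : F ≤ E) (hxs : ∀ y ∈ xs, y ∈ E) :
    adj F xs ≤ E :=
  sup_le hF ((Subfield.closure_le).2 fun y hy => hxs y hy)

/-- tower form of `p`-independence of a list over `F` -/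
def Indep (F : Subfield k) : List k → Prop
  | [] => True
  | y :: ys => Indep F ys ∧ y ∉ adj F ys

lemma Indep.mono {F F' : Subfield k} (h : F ≤ F') : ∀ xs : List k, Indep F' xs → Indep F xs
  | [], _ => trivial
  | y :: ys, ⟨h1, h2⟩ => ⟨Indep.mono h ys h1, fun hy => h2 (adj_mono h ys hy)⟩

/-- greedy independent sublist -/
lemma exists_indep_adj_eq (F : Subfield k) : ∀ xs : List k,
    ∃ xs' : List k, Indep F xs' ∧ adj F xs' = adj F xs
  | [] => ⟨[], trivial, rfl⟩
  | y :: ys => by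
    classical
    obtain ⟨ys', h1, h2⟩ := exists_indep_adj_eq F ys
    by_cases hy : y ∈ adj F ys'
    · refine ⟨ys', h1, ?_⟩
      rw [adj_cons, ← h2]
      refine le_antisymm le_sup_left (sup_le le_rfl ?_)
      rw [Subfield.closure_le]
      rintro z rfl
      exact hy
    · exact ⟨y :: ys', ⟨h1, hy⟩, by rw [adj_cons, adj_cons, h2]⟩

section expansion

variable (p : ℕ) [hp : Fact p.Prime] [CharP k p]

lemma sup_closure_singleton_eq (E : Subfield k) (y : k) :
    E ⊔ Subfield.closure {y} = (E⟮y⟯ : IntermediateField E k).toSubfield := by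
  have h1 : (E⟮y⟯ : IntermediateField E k).toSubfield =
      Subfield.closure (Set.range (algebraMap E k) ∪ {y}) := rfl
  have h2 : Set.range (algebraMap E k) = (E : Set k) := by
    ext z
    constructor
    · rintro ⟨w, rfl⟩; exact w.2
    · intro hz; exact ⟨⟨z, hz⟩, rfl⟩
  rw [h1, h2, Subfield.closure_union, Subfield.closure_eq]

/-- expansion of elements of `E(y)` as polynomials of degree `< p` in `y` -/
lemma exists_poly_of_mem (E : Subfield k) (hE : ∀ z : k, z ^ p ∈ E) (y : k) (hy : y ∉ E)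
    (z : k) (hz : z ∈ E ⊔ Subfield.closure {y}) :
    ∃ f : k[X], (∀ i, f.coeff i ∈ E) ∧ f.natDegree < p ∧ z = f.eval y := by
  rw [sup_closure_singleton_eq] at hz
  obtain ⟨hint, -, hmin⟩ := finrank_adjoin_of_notMem p E hE y hy
  let pb := IntermediateField.adjoin.powerBasis hint
  have hdim : pb.dim = p := by
    show (minpoly E y).natDegree = p
    rw [hmin, natDegree_X_pow_sub_C]
  obtain ⟨g, hg1, hg2⟩ := pb.exists_eq_aeval (⟨z, hz⟩ : (E⟮y⟯ : IntermediateField E k))
  rw [hdim] at hg1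
  refine ⟨g.map (algebraMap E k), fun i => ?_, lt_of_le_of_lt (natDegree_map_le) hg1, ?_⟩
  · rw [coeff_map]; exact (g.coeff i).2
  · have h3 : (⟨z, hz⟩ : (E⟮y⟯ : IntermediateField E k)) = aeval (AdjoinSimple.gen E y) g := hg2
    have h4 := congrArg (fun w : (E⟮y⟯ : IntermediateField E k) => (w : k)) h3
    simp only at h4
    rw [h4, eval_map, ← aeval_def]
    have h5 := Polynomial.aeval_algHom_apply (E⟮y⟯ : IntermediateField E k).val
      (AdjoinSimple.gen E y) g
    rw [IntermediateField.val_mk] at h5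
    simp

/-- uniqueness of the expansion -/
lemma poly_eq_of_eval_eq (E : Subfield k) (hE : ∀ z : k, z ^ p ∈ E) (y : k) (hy : y ∉ E)
    (f g : k[X]) (hf : ∀ i, f.coeff i ∈ E) (hg : ∀ i, g.coeff i ∈ E)
    (hfd : f.natDegree < p) (hgd : g.natDegree < p) (h : f.eval y = g.eval y) : f = g := by
  obtain ⟨hint, -, hmin⟩ := finrank_adjoin_of_notMem p E hE y hy
  have hlift : ∀ q : k[X], (∀ i, q.coeff i ∈ E) → ∃ q' : E[X], q'.map (algebraMap E k) = q ∧
      q'.natDegree = q.natDegree := by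
    intro q hq
    have : q ∈ Polynomial.lifts (algebraMap E k) := by
      rw [Polynomial.lifts_iff_coeff_lifts]
      intro i
      exact ⟨⟨_, hq i⟩, rfl⟩
    obtain ⟨q', h1, h2⟩ := Polynomial.exists_degree_eq_of_mem_lifts this
    exact ⟨q', h1, natDegree_eq_natDegree h2⟩
  obtain ⟨f', hf1, hf2⟩ := hlift f hf
  obtain ⟨g', hg1, hg2⟩ := hlift g hg
  have h0 : aeval y (f' - g') = 0 := by
    rw [map_sub, aeval_def, aeval_def, ← eval_map, ← eval_map, hf1, hg1, h, sub_self]
  have hzero : f' - g' = 0 := by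
    by_contra hne
    have h1 := minpoly.degree_le_of_ne_zero E y hne h0
    rw [hmin, degree_X_pow_sub_C hp.out.pos] at h1
    have h2 : (f' - g').natDegree < p :=
      lt_of_le_of_lt (natDegree_sub_le _ _) (max_lt (hf2 ▸ hfd) (hg2 ▸ hgd))
    have h3 : (f' - g').degree < (p : WithBot ℕ) := by
      rw [degree_eq_natDegree hne]
      exact_mod_cast h2
    exact absurd h1 (not_le.2 h3)
  rw [← hf1, ← hg1, sub_eq_zero.1 hzero]

/-- `⋂ F_α(y) = (⋂ F_α)(y)` for an antitone family with a least index `α₂`, `y ∉ F α₂` -/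
lemma mem_sup_of_forall_mem_sup {ι : Type*} [Preorder ι] (F : ι → Subfield k)
    (hanti : Antitone F) (hF : ∀ α (z : k), z ^ p ∈ F α) (α₂ : ι) (y : k) (hy : y ∉ F α₂)
    (E : Subfield k) (hE : ∀ w : k, (∀ α, α₂ ≤ α → w ∈ F α) → w ∈ E)
    (z : k) (hz : ∀ α, α₂ ≤ α → z ∈ F α ⊔ Subfield.closure {y}) :
    z ∈ E ⊔ Subfield.closure {y} := by
  obtain ⟨f, hf1, hf2, hf3⟩ := exists_poly_of_mem p (F α₂) (hF α₂) y hy z (hz α₂ le_rfl)
  have hcoeff : ∀ i, f.coeff i ∈ E := by
    intro i
    apply hE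
    intro α hα
    have hyα : y ∉ F α := fun h => hy (hanti hα h)
    obtain ⟨g, hg1, hg2, hg3⟩ := exists_poly_of_mem p (F α) (hF α) y hyα z (hz α hα)
    have : f = g := poly_eq_of_eval_eq p (F α₂) (hF α₂) y hy f g hf1
      (fun i => hanti hα (hg1 i)) hf2 hg2 (by rw [← hf3, ← hg3])
    rw [this]
    exact hg1 i
  rw [hf3, eval_eq_sum_range]
  refine Subfield.sum_mem _ fun i _ => ?_
  refine Subfield.mul_mem _ ((le_sup_left : E ≤ E ⊔ Subfield.closure {y}) (hcoeff i)) ?_
  exact Subfield.pow_mem _ ((le_sup_right : Subfield.closure {y} ≤ E ⊔ Subfield.closure {y})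
    (Subfield.subset_closure rfl)) i

/-- independence over `⨅ L α` ⇒ independence over some `L α`, and `⋂ L_α(xs) = (⋂ L_α)(xs)` -/
theorem exists_indep_of_iInf {ι : Type*} [Preorder ι] [IsDirected ι (fun a b => a ≤ b)]
    (L : ι → Subfield k) (hanti : Antitone L) (hL : ∀ α (z : k), z ^ p ∈ L α) (α₀ : ι) :
    ∀ xs : List k, Indep (⨅ α, L α) xs →
      ∃ α₁, α₀ ≤ α₁ ∧ Indep (L α₁) xs ∧
        ∀ z : k, (∀ α, α₁ ≤ α → z ∈ adj (L α) xs) → z ∈ adj (⨅ α, L α) xs
  | [], _ => by
    refine ⟨α₀, le_rfl, trivial, fun z hz => ?_⟩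
    rw [adj_nil, Subfield.mem_iInf]
    intro β
    obtain ⟨γ, hγ1, hγ2⟩ := directed_of (fun a b : ι => a ≤ b) α₀ β
    have := hz γ hγ1
    rw [adj_nil] at this
    exact hanti hγ2 this
  | y :: ys, ⟨hI, hy⟩ => by
    obtain ⟨α₁, h01, hI1, H1⟩ := exists_indep_of_iInf L hanti hL α₀ ys hI
    have : ∃ α₂, α₁ ≤ α₂ ∧ y ∉ adj (L α₂) ys := by
      by_contra hcon
      push Not at hcon
      exact hy (H1 y hcon)
    obtain ⟨α₂, h12, hy2⟩ := this
    refine ⟨α₂, h01.trans h12, ⟨Indep.mono (hanti h12) ys hI1, hy2⟩, fun z hz => ?_⟩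
    rw [adj_cons]
    refine mem_sup_of_forall_mem_sup p (fun α => adj (L α) ys)
      (fun a b hab => adj_mono (hanti hab) ys) (fun α w => le_adj _ _ (hL α w)) α₂ y hy2
      (adj (⨅ α, L α) ys) ?_ z (fun α hα => by
        have := hz α hα
        rwa [adj_cons] at this)
    intro w hw
    apply H1
    intro α hα
    obtain ⟨γ, hγ1, hγ2⟩ := directed_of (fun a b : ι => a ≤ b) α α₂
    exact adj_mono (hanti hγ1) ys (hw γ hγ2)

end expansion

end indep

section abstract

variable {k : Type u} [Field k] (p : ℕ) [hp : Fact p.Prime] [CharP k p]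
  {K : Type u} [Field K] [Algebra k K] {V : Type u} [AddCommGroup V] [Module K V]
  (e : k →+ V) (he : ∀ x y, e (x * y) = algebraMap k K x • e y + algebraMap k K y • e x)

include he in
lemma e_one : e 1 = 0 := by
  have := he 1 1
  simp only [mul_one, map_one, one_smul] at this
  have h2 : e 1 + e 1 = e 1 + 0 := by rw [add_zero]; exact this.symm
  exact add_left_cancel h2

include he in
lemma e_pow_succ (z : k) (n : ℕ) :
    e (z ^ (n + 1)) = (n + 1) • ((algebraMap k K z) ^ n • e z) := by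
  induction n with
  | zero => simp
  | succ n ih =>
    rw [pow_succ, he, ih, map_pow, smul_comm (algebraMap k K z) (n + 1), smul_smul,
      ← pow_succ', add_smul (n + 1) 1, one_smul, add_comm]

include he in
lemma e_pow_p (z : k) : e (z ^ p) = 0 := by
  have : CharP K p := charP_of_injective_algebraMap (algebraMap k K).injective p
  obtain ⟨n, hn⟩ : ∃ n, p = n + 1 := ⟨p - 1, (Nat.succ_pred_eq_of_pos hp.out.pos).symm⟩
  rw [hn, e_pow_succ e he, ← hn]
  rw [← Nat.cast_smul_eq_nsmul K, CharP.cast_eq_zero, zero_smul]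

include he in
lemma e_inv (x : k) (hx : x ≠ 0) :
    e x⁻¹ = -((algebraMap k K x)⁻¹ ^ 2 • e x) := by
  have h1 := he x x⁻¹
  rw [mul_inv_cancel₀ hx, e_one e he] at h1
  have hx' : algebraMap k K x ≠ 0 := by
    rw [Ne, map_eq_zero]; exact hx
  have h2 : algebraMap k K x • e x⁻¹ = -(algebraMap k K x⁻¹ • e x) := by
    rw [eq_neg_iff_add_eq_zero]; exact h1.symm
  have h3 : e x⁻¹ = (algebraMap k K x)⁻¹ • (algebraMap k K x • e x⁻¹) := by
    rw [smul_smul, inv_mul_cancel₀ hx', one_smul]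
  rw [h3, h2, smul_neg, smul_smul, map_inv₀, pow_two]

/-- the subfield of elements whose differential lies in a given subspace -/
def subfieldOfSubmodule (he : ∀ x y, e (x * y) = algebraMap k K x • e y + algebraMap k K y • e x)
    (W : Submodule K V) : Subfield k where
  carrier := {y | e y ∈ W}
  mul_mem' := fun {a b} ha hb => by
    show e (a * b) ∈ W
    rw [he]
    exact W.add_mem (W.smul_mem _ hb) (W.smul_mem _ ha)
  one_mem' := by
    show e 1 ∈ W
    rw [e_one e he]; exact W.zero_mem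
  add_mem' := fun {a b} ha hb => by
    show e (a + b) ∈ W
    rw [map_add]; exact W.add_mem ha hb
  zero_mem' := by
    show e 0 ∈ W
    rw [map_zero]; exact W.zero_mem
  neg_mem' := fun {a} ha => by
    show e (-a) ∈ W
    rw [map_neg]; exact W.neg_mem ha
  inv_mem' := fun a ha => by
    show e a⁻¹ ∈ W
    by_cases h0 : a = 0
    · rw [h0, inv_zero, map_zero]; exact W.zero_mem
    · rw [e_inv e he a h0]
      exact W.neg_mem (W.smul_mem _ ha)

lemma mem_subfieldOfSubmodule (W : Submodule K V) (y : k) :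
    y ∈ subfieldOfSubmodule e he W ↔ e y ∈ W := Iff.rfl

include he in
/-- `y ∈ k^p(xs)` ⇒ `dy ∈ span (d xs)` -/
lemma e_mem_span_of_mem_adj (xs : List k) (y : k)
    (hy : y ∈ adj (frobenius k p).fieldRange xs) :
    e y ∈ Submodule.span K (e '' {x | x ∈ xs}) := by
  rw [← mem_subfieldOfSubmodule e he]
  refine adj_le ?_ ?_ hy
  · rintro _ ⟨z, rfl⟩
    rw [mem_subfieldOfSubmodule, frobenius_def, e_pow_p p e he]
    exact Submodule.zero_mem _
  · intro x hx
    rw [mem_subfieldOfSubmodule]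
    exact Submodule.subset_span ⟨x, hx, rfl⟩

include he in
/-- independence over `F` ⇒ the differentials stay independent in any quotient through which
all derivations vanishing on `F` factor -/
theorem eq_zero_of_indep {W : Type u} [AddCommGroup W] [Module K W] (π : V →ₗ[K] W)
    (F : Subfield k) (hF : ∀ z : k, z ^ p ∈ F)
    (H : ∀ D : Derivation ℤ k k, (∀ u ∈ F, D u = 0) →
      ∃ φ : W →ₗ[K] K, ∀ z, φ (π (e z)) = algebraMap k K (D z)) :
    ∀ xs : List k, Indep F xs → ∀ ω ∈ Submodule.span K (e '' {x | x ∈ xs}), π ω = 0 → ω = 0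
  | [], _, ω, hω, _ => by
    have : {x : k | x ∈ ([] : List k)} = ∅ := by ext; simp
    rw [this, Set.image_empty, Submodule.span_empty] at hω
    exact hω
  | y :: ys, ⟨hI, hy⟩, ω, hω, hπ => by
    have hset : {x : k | x ∈ y :: ys} = insert y {x | x ∈ ys} := by
      ext z; simp
    rw [hset, Set.image_insert_eq, Submodule.mem_span_insert] at hω
    obtain ⟨c, ω', hω', rfl⟩ := hω
    obtain ⟨D, hD1, hD0⟩ := exists_derivation_eq_one_of_notMem p (adj F ys)
      (fun z => le_adj F ys (hF z)) y hy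
    obtain ⟨φ, hφ⟩ := H D (fun u hu => hD0 u (le_adj F ys hu))
    have h1 : φ (π ω') = 0 := by
      have : Submodule.span K (e '' {x | x ∈ ys}) ≤ LinearMap.ker (φ ∘ₗ π) := by
        rw [Submodule.span_le]
        rintro _ ⟨x, hx, rfl⟩
        show φ (π (e x)) = 0
        rw [hφ, hD0 x (mem_adj_of_mem hx), map_zero]
      exact this hω'
    have h2 : c = 0 := by
      have := congrArg φ hπ
      rw [map_add, map_add, map_smul, map_smul, hφ, hD1, h1, map_one, map_zero, add_zero,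
        smul_eq_mul, mul_one] at this
      exact this
    rw [h2, zero_smul, zero_add] at hπ ⊢
    exact eq_zero_of_indep π F hF H ys hI ω' hω' hπ

end abstract

section genuniv

universe v

open TensorProduct KaehlerDifferential

variable (Λ : Type v) (A B : Type u) [CommRing Λ] [CommRing A] [CommRing B] [Algebra Λ A]
  [Algebra A B] [Algebra Λ B] [IsScalarTower Λ A B] (J : Ideal B)

/-- the elements `1 ⊗ (1 ⊗ dx)` -/
noncomputable def eD (x : A) : (B ⧸ J) ⊗[B] (B ⊗[A] Ω[A⁄Λ]) :=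
  (1 : B ⧸ J) ⊗ₜ[B] ((1 : B) ⊗ₜ[A] KaehlerDifferential.D Λ A x)

theorem one_tmul_smul'' (b : B) (ξ : B ⊗[A] Ω[A⁄Λ]) :
    (1 : B ⧸ J) ⊗ₜ[B] (b • ξ) = (Ideal.Quotient.mk J b) • ((1 : B ⧸ J) ⊗ₜ[B] ξ) := by
  rw [TensorProduct.smul_tmul', smul_eq_mul, mul_one, ← TensorProduct.smul_tmul]
  congr 1
  rw [Algebra.smul_def, mul_one]
  rfl

theorem mem_span_eD_aux1 (ω : Ω[A⁄Λ]) :
    (1 : B ⧸ J) ⊗ₜ[B] ((1 : B) ⊗ₜ[A] ω) ∈
      Submodule.span (B ⧸ J) (Set.range (eD Λ A B J)) := by
  have hω : ω ∈ Submodule.span A (Set.range (KaehlerDifferential.D Λ A)) := by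
    rw [KaehlerDifferential.span_range_derivation]; trivial
  induction hω using Submodule.span_induction with
  | mem ω hω =>
    obtain ⟨x, rfl⟩ := hω
    exact Submodule.subset_span ⟨x, rfl⟩
  | zero => rw [TensorProduct.tmul_zero, TensorProduct.tmul_zero]; exact zero_mem _
  | add u v _ _ hu hv =>
    rw [TensorProduct.tmul_add, TensorProduct.tmul_add]; exact add_mem hu hv
  | smul y u _ hu =>
    have h3 : (1 : B) ⊗ₜ[A] (y • u) = (algebraMap A B y) • ((1 : B) ⊗ₜ[A] u) := by
      rw [TensorProduct.tmul_smul, algebraMap_smul]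
    rw [h3, one_tmul_smul'']
    exact Submodule.smul_mem _ _ hu

theorem mem_span_eD_aux2 (ξ : B ⊗[A] Ω[A⁄Λ]) :
    (1 : B ⧸ J) ⊗ₜ[B] ξ ∈ Submodule.span (B ⧸ J) (Set.range (eD Λ A B J)) := by
  induction ξ using TensorProduct.induction_on with
  | zero => rw [TensorProduct.tmul_zero]; exact zero_mem _
  | add u v hu hv => rw [TensorProduct.tmul_add]; exact add_mem hu hv
  | tmul a ω =>
    have h2 : a ⊗ₜ[A] ω = a • ((1 : B) ⊗ₜ[A] ω) := by
      rw [TensorProduct.smul_tmul', smul_eq_mul, mul_one]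
    rw [h2, one_tmul_smul'']
    exact Submodule.smul_mem _ _ (mem_span_eD_aux1 Λ A B J ω)

theorem span_eD : Submodule.span (B ⧸ J) (Set.range (eD Λ A B J)) = ⊤ := by
  rw [eq_top_iff]
  rintro ω -
  induction ω using TensorProduct.induction_on with
  | zero => exact zero_mem _
  | add u v hu hv => exact add_mem hu hv
  | tmul c ξ =>
    have h1 : c ⊗ₜ[B] ξ = c • ((1 : B ⧸ J) ⊗ₜ[B] ξ) := by
      rw [TensorProduct.smul_tmul', smul_eq_mul, mul_one]
    rw [h1]
    exact Submodule.smul_mem _ _ (mem_span_eD_aux2 Λ A B J ξ)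

theorem baseChange_eD (x : A) :
    (KaehlerDifferential.mapBaseChange Λ A B).baseChange (B ⧸ J) (eD Λ A B J x) =
      (1 : B ⧸ J) ⊗ₜ[B] KaehlerDifferential.D Λ B (algebraMap A B x) := by
  simp [eD, LinearMap.baseChange_tmul, KaehlerDifferential.mapBaseChange_tmul,
    KaehlerDifferential.map_D]

theorem eD_add (x y : A) : eD Λ A B J (x + y) = eD Λ A B J x + eD Λ A B J y := by
  simp only [eD, map_add, TensorProduct.tmul_add]

theorem eD_mul (x y : A) : eD Λ A B J (x * y) =
    algebraMap A (B ⧸ J) x • eD Λ A B J y + algebraMap A (B ⧸ J) y • eD Λ A B J x := by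
  simp only [eD, Derivation.leibniz, TensorProduct.tmul_add]
  have h3 : ∀ (y : A) (u : Ω[A⁄Λ]), (1 : B ⧸ J) ⊗ₜ[B] ((1 : B) ⊗ₜ[A] (y • u)) =
      algebraMap A (B ⧸ J) y • ((1 : B ⧸ J) ⊗ₜ[B] ((1 : B) ⊗ₜ[A] u)) := by
    intro y u
    have : (1 : B) ⊗ₜ[A] (y • u) = (algebraMap A B y) • ((1 : B) ⊗ₜ[A] u) := by
      rw [TensorProduct.tmul_smul, algebraMap_smul]
    rw [this, one_tmul_smul'']
    rfl
  rw [h3, h3]

theorem eD_algebraMap (l : Λ) : eD Λ A B J (algebraMap Λ A l) = 0 := by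
  simp [eD]

end genuniv

section main

open TensorProduct KaehlerDifferential IsLocalRing

variable {k A : Type u} [Field k] (p : ℕ) [hp : Fact p.Prime] [CharP k p] [CommRing A]
  [IsLocalRing A] [Algebra k A]

/-- the map `K ⊗ (A ⊗ Ω_{k/ℤ}) → K ⊗ (A ⊗ Ω_{k/F})` -/
noncomputable def piF (F : Subfield k) :
    (A ⧸ maximalIdeal A) ⊗[A] (A ⊗[k] Ω[k⁄ℤ]) →ₗ[A ⧸ maximalIdeal A]
      (A ⧸ maximalIdeal A) ⊗[A] (A ⊗[k] Ω[k⁄F]) :=
  ((KaehlerDifferential.map ℤ F k k).baseChange A).baseChange (A ⧸ maximalIdeal A)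

lemma piF_eD (F : Subfield k) (x : k) :
    piF (A := A) F (eD ℤ k A (maximalIdeal A) x) = eD F k A (maximalIdeal A) x := by
  simp [piF, eD, LinearMap.baseChange_tmul, KaehlerDifferential.map_D]

/-- the map `K ⊗ Ω_{A/ℤ} → K ⊗ Ω_{A/F}` -/
noncomputable def piF' (F : Subfield k) :
    (A ⧸ maximalIdeal A) ⊗[A] Ω[A⁄ℤ] →ₗ[A ⧸ maximalIdeal A]
      (A ⧸ maximalIdeal A) ⊗[A] Ω[A⁄F] :=
  (KaehlerDifferential.map ℤ F A A).baseChange (A ⧸ maximalIdeal A)

lemma piF'_comp (F : Subfield k) :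
    (piF' (A := A) F) ∘ₗ ((mapBaseChange ℤ k A).baseChange (A ⧸ maximalIdeal A)) =
      ((mapBaseChange F k A).baseChange (A ⧸ maximalIdeal A)) ∘ₗ piF (A := A) F := by
  apply LinearMap.ext_on (span_eD ℤ k A (maximalIdeal A))
  rintro _ ⟨x, rfl⟩
  rw [LinearMap.comp_apply, LinearMap.comp_apply, piF_eD, baseChange_eD, baseChange_eD]
  simp [piF', LinearMap.baseChange_tmul, KaehlerDifferential.map_D]

/-- derivations vanishing on `F` give functionals on `K ⊗ (A ⊗ Ω_{k/F})` -/
lemma exists_functional (F : Subfield k) (D : Derivation ℤ k k) (hD : ∀ u ∈ F, D u = 0) :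
    ∃ φ : (A ⧸ maximalIdeal A) ⊗[A] (A ⊗[k] Ω[k⁄F]) →ₗ[A ⧸ maximalIdeal A] (A ⧸ maximalIdeal A),
      ∀ z, φ (piF (A := A) F (eD ℤ k A (maximalIdeal A) z)) =
        algebraMap k (A ⧸ maximalIdeal A) (D z) := by
  let D₀ : k →ₗ[F] (A ⧸ maximalIdeal A) :=
    { toFun := fun x => algebraMap k (A ⧸ maximalIdeal A) (D x)
      map_add' := fun x y => by rw [map_add, map_add]
      map_smul' := fun c x => by
        show algebraMap k (A ⧸ maximalIdeal A) (D (c • x)) =
          c • algebraMap k (A ⧸ maximalIdeal A) (D x)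
        have hc : D (algebraMap F k c) = 0 := hD _ c.2
        rw [Algebra.smul_def, Derivation.leibniz, hc, smul_zero, add_zero, smul_eq_mul,
          map_mul, Algebra.smul_def]
        rfl }
  let D' : Derivation F k (A ⧸ maximalIdeal A) := Derivation.mk' D₀ (fun a b => by
    show algebraMap k (A ⧸ maximalIdeal A) (D (a * b)) =
      a • algebraMap k (A ⧸ maximalIdeal A) (D b) + b • algebraMap k (A ⧸ maximalIdeal A) (D a)
    rw [Derivation.leibniz, map_add, smul_eq_mul, smul_eq_mul, map_mul, map_mul,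
      Algebra.smul_def, Algebra.smul_def])
  let φ₁ : A ⊗[k] Ω[k⁄F] →ₗ[A] (A ⧸ maximalIdeal A) :=
    LinearMap.liftBaseChange A D'.liftKaehlerDifferential
  refine ⟨LinearMap.liftBaseChange (A ⧸ maximalIdeal A) φ₁, fun z => ?_⟩
  rw [piF_eD]
  show LinearMap.liftBaseChange (A ⧸ maximalIdeal A) φ₁ (1 ⊗ₜ (1 ⊗ₜ _)) = _
  rw [LinearMap.liftBaseChange_tmul, one_smul]
  show LinearMap.liftBaseChange A D'.liftKaehlerDifferential (1 ⊗ₜ _) = _
  rw [LinearMap.liftBaseChange_tmul, one_smul, Derivation.liftKaehlerDifferential_comp_D]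
  rfl

/-- **eventual injectivity over the subfields `kα` ⇒ injectivity over `ℤ`.** -/
theorem injective_of_eventually_injective {ι : Type*} [Preorder ι]
    [IsDirected ι (fun a b => a ≤ b)] (kα : ι → Subfield k) (hanti : Antitone kα)
    (hint : ⨅ α, (kα α ⊔ (frobenius k p).fieldRange) = (frobenius k p).fieldRange) (α₀ : ι)
    (hinj : ∀ α, α₀ ≤ α →
      Function.Injective ((mapBaseChange (kα α) k A).lTensor (A ⧸ maximalIdeal A))) :
    Function.Injective ((mapBaseChange ℤ k A).lTensor (A ⧸ maximalIdeal A)) := by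
  classical
  letI : Field (A ⧸ maximalIdeal A) := Ideal.Quotient.field _
  let L : ι → Subfield k := fun α => kα α ⊔ (frobenius k p).fieldRange
  have hLanti : Antitone L := fun a b hab => sup_le_sup_right (hanti hab) _
  have hL : ∀ α (z : k), z ^ p ∈ L α := fun α z =>
    (le_sup_right : (frobenius k p).fieldRange ≤ L α) ⟨z, rfl⟩
  let e : k →+ (A ⧸ maximalIdeal A) ⊗[A] (A ⊗[k] Ω[k⁄ℤ]) :=
    { toFun := eD ℤ k A (maximalIdeal A)
      map_zero' := by simpa using eD_algebraMap ℤ k A (maximalIdeal A) 0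
      map_add' := eD_add ℤ k A (maximalIdeal A) }
  have he : ∀ x y, e (x * y) = algebraMap k (A ⧸ maximalIdeal A) x • e y +
      algebraMap k (A ⧸ maximalIdeal A) y • e x := eD_mul ℤ k A (maximalIdeal A)
  show Function.Injective ((mapBaseChange ℤ k A).baseChange (A ⧸ maximalIdeal A))
  rw [injective_iff_map_eq_zero]
  intro ω hω
  have hω_span : ω ∈ Submodule.span (A ⧸ maximalIdeal A)
      (Set.range (eD ℤ k A (maximalIdeal A))) := by
    rw [span_eD]; trivial
  obtain ⟨T, hT, hωT⟩ := Submodule.mem_span_finite_of_mem_span hω_span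
  rw [← Set.image_univ] at hT
  obtain ⟨s', -, rfl⟩ := Finset.subset_set_image_iff.1 hT
  let xs : List k := s'.toList
  obtain ⟨xs', hI', hadj⟩ := exists_indep_adj_eq (frobenius k p).fieldRange xs
  have hω' : ω ∈ Submodule.span (A ⧸ maximalIdeal A) (e '' {x | x ∈ xs'}) := by
    have hle : Submodule.span (A ⧸ maximalIdeal A)
        (↑(Finset.image (eD ℤ k A (maximalIdeal A)) s') : Set _) ≤
        Submodule.span (A ⧸ maximalIdeal A) (e '' {x | x ∈ xs'}) := by
      rw [Submodule.span_le, Finset.coe_image]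
      rintro _ ⟨x, hx, rfl⟩
      apply e_mem_span_of_mem_adj p e he xs' x
      rw [hadj]
      exact mem_adj_of_mem (Finset.mem_toList.2 hx)
    exact hle hωT
  have hI'' : Indep (⨅ α, L α) xs' := by
    show Indep (⨅ α, (kα α ⊔ (frobenius k p).fieldRange)) xs'
    rw [hint]; exact hI'
  obtain ⟨α₁, h01, hI1, -⟩ := exists_indep_of_iInf p L hLanti hL α₀ xs' hI''
  have hπ : piF (A := A) (kα α₁) ω = 0 := by
    apply hinj α₁ h01
    have h1 := LinearMap.congr_fun (piF'_comp (A := A) (kα α₁)) ω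
    rw [LinearMap.comp_apply, LinearMap.comp_apply, hω, map_zero] at h1
    rw [map_zero]
    exact h1.symm
  exact eq_zero_of_indep p e he (piF (A := A) (kα α₁)) (L α₁) (hL α₁)
    (fun D hD => exists_functional (kα α₁) D (fun u hu => hD u
      ((le_sup_left : kα α₁ ≤ L α₁) hu)))
    xs' hI1 ω hω' hπ

end main

end Groth.Agent.LibAdicFS29
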