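import Groth.Statements.S2483
import Mathlib

set_option autoImplicit false
universe u
open EGA41

namespace Groth.Agent.S2483


universe v



/-- p-th power map as a ring hom when `p = 0` in `R`. -/
noncomputable def frobHom (R : Type*) [CommRing R] (p : ℕ) (hp : p.Prime) (hpR : (p : R) = 0) : R →+* R where
  toFun x := x ^ p
  map_one' := one_pow p
  map_mul' x y := mul_pow x y p
  map_zero' := zero_pow hp.ne_zero
  map_add' x y := by
    rw [add_pow_prime_eq hp, hpR]; ring

open Polynomial in
theorem exists_lift_charP (p : ℕ) (hp : p.Prime) {K : Type u} [Field K] [CharP K p]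
    {E : Type v} [CommRing E] (hpE : (p : E) = 0) (N : Ideal E) (hN : N ^ 2 = ⊥)
    (f : K →+* E ⧸ N) : ∃ g : K →+* E, ∀ x, Ideal.Quotient.mk N (g x) = f x := by
  classical
  haveI : Fact p.Prime := ⟨hp⟩
  have hpKE : ((p : ℕ) : K × E) = 0 := by
    ext
    · simp
    · simpa using hpE
  -- elements of N have zero p-th power
  have hNp : ∀ n ∈ N, n ^ p = 0 := by
    intro n hn
    have h2 : n ^ 2 = 0 := by
      have : n ^ 2 ∈ N ^ 2 := Ideal.pow_mem_pow hn 2
      rwa [hN] at this
    obtain ⟨k, hk⟩ : ∃ k, p = 2 + k := ⟨p - 2, by have := hp.two_le; omega⟩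
    rw [hk, pow_add, h2, zero_mul]
  set Fr : K × E →+* K × E := frobHom (K × E) p hp hpKE with hFr
  have hFr_apply : ∀ z, Fr z = z ^ p := fun z => rfl
  -- the fibre product
  set P : Subring (K × E) :=
    RingHom.eqLocus ((Ideal.Quotient.mk N).comp (RingHom.snd K E)) (f.comp (RingHom.fst K E)) with hP
  have hP_mem : ∀ z : K × E, z ∈ P ↔ Ideal.Quotient.mk N z.2 = f z.1 := fun z => Iff.rfl
  set G₀ : Subring (K × E) := P.map Fr with hG₀
  -- the Zorn set
  set S : Set (Subring (K × E)) := {G | G₀ ≤ G ∧ G ≤ P ∧ ∀ z ∈ G, z.1 = 0 → z.2 = 0} with hS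
  have hG₀S : G₀ ∈ S := by
    refine ⟨le_rfl, ?_, ?_⟩
    · rintro _ ⟨w, hw, rfl⟩
      rw [hFr_apply]
      exact P.pow_mem hw p
    · rintro _ ⟨w, hw, rfl⟩ h0
      rw [hFr_apply] at h0 ⊢
      have hw1 : w.1 = 0 := by
        have : w.1 ^ p = 0 := by simpa using h0
        exact pow_eq_zero_iff hp.ne_zero |>.mp this
      have hw2 : w.2 ∈ N := by
        have := (hP_mem w).mp hw
        rw [hw1, map_zero] at this
        exact Ideal.Quotient.eq_zero_iff_mem.mp this
      simpa using hNp _ hw2
  obtain ⟨G, hG₀G, hGmax⟩ := zorn_le_nonempty₀ S (by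
    intro c hcS hc y hy
    refine ⟨sSup c, ⟨?_, ?_, ?_⟩, fun z hz => le_sSup hz⟩
    · exact (hcS hy).1.trans (le_sSup hy)
    · exact sSup_le fun G hG => (hcS hG).2.1
    · intro z hz
      obtain ⟨G, hGc, hzG⟩ := (Subring.mem_sSup_of_directedOn ⟨y, hy⟩ hc.directedOn).mp hz
      exact (hcS hGc).2.2 z hzG) G₀ hG₀S
  obtain ⟨hGS, hGmax'⟩ := hGmax
  obtain ⟨-, hGP, hG2⟩ := hGS
  -- injectivity of fst on G
  have hinj : ∀ z ∈ G, ∀ w ∈ G, z.1 = w.1 → z = w := by
    intro z hz w hw h
    have h1 : z - w ∈ G := G.sub_mem hz hw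
    have h2 := hG2 _ h1 (by simp [h])
    ext
    · exact h
    · exact sub_eq_zero.mp (by simpa using h2)
  -- p-th powers
  have hpow : ∀ (x : K) (e : E), Ideal.Quotient.mk N e = f x → (x ^ p, e ^ p) ∈ G := by
    intro x e he
    apply hG₀G
    refine ⟨(x, e), (hP_mem _).mpr he, ?_⟩
    rw [hFr_apply]; rfl
  -- surjectivity of fst on G
  have hsurj : ∀ x : K, ∃ e : E, (x, e) ∈ G := by
    by_contra hcon
    push_neg at hcon
    obtain ⟨x, hx⟩ := hcon
    obtain ⟨e, he⟩ := Ideal.Quotient.mk_surjective (f x)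
    -- the subfield L = fst(G)
    let L : Subfield K :=
      { carrier := {y | ∃ e, (y, e) ∈ G}
        mul_mem' := by
          rintro a b ⟨ea, ha⟩ ⟨eb, hb⟩
          exact ⟨ea * eb, G.mul_mem ha hb⟩
        one_mem' := ⟨1, G.one_mem⟩
        add_mem' := by
          rintro a b ⟨ea, ha⟩ ⟨eb, hb⟩
          exact ⟨ea + eb, G.add_mem ha hb⟩
        zero_mem' := ⟨0, G.zero_mem⟩
        neg_mem' := by
          rintro a ⟨ea, ha⟩
          exact ⟨-ea, G.neg_mem ha⟩
        inv_mem' := by
          rintro a ⟨ea, ha⟩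
          by_cases ha0 : a = 0
          · subst ha0
            exact ⟨0, by rw [inv_zero]; exact G.zero_mem⟩
          obtain ⟨e', he'⟩ := Ideal.Quotient.mk_surjective (f a⁻¹)
          have h1 := hpow a⁻¹ e' he'
          have h2 : (a ^ (p - 1), ea ^ (p - 1)) ∈ G := G.pow_mem ha (p - 1)
          have h3 := G.mul_mem h2 h1
          refine ⟨ea ^ (p - 1) * e' ^ p, ?_⟩
          have h4 : a ^ (p - 1) * a⁻¹ ^ p = a⁻¹ := by
            obtain ⟨k, hk⟩ : ∃ k, p = k + 1 := ⟨p - 1, by have := hp.one_lt; omega⟩
            rw [hk, Nat.add_sub_cancel, pow_succ a⁻¹ k, ← mul_assoc, ← mul_pow,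
              mul_inv_cancel₀ ha0, one_pow, one_mul]
          have h5 : ((a ^ (p - 1), ea ^ (p - 1)) * (a⁻¹ ^ p, e' ^ p) : K × E)
              = (a⁻¹, ea ^ (p - 1) * e' ^ p) := by
            ext
            · simpa using h4
            · simp
          rw [h5] at h3
          exact h3 }
    have hL_mem : ∀ y : K, y ∈ L ↔ ∃ e, (y, e) ∈ G := fun y => Iff.rfl
    have hxL : x ∉ L := fun ⟨e, he⟩ => hx e he
    -- π : G → L
    let π : G →+* L := ((RingHom.fst K E).comp G.subtype).codRestrict L
      (fun z => ⟨z.1.2, by simpa using z.2⟩)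
    have hπ_apply : ∀ z : G, (π z : K) = z.1.1 := fun z => rfl
    have hπ_inj : Function.Injective π := by
      intro z w h
      have : z.1.1 = w.1.1 := congrArg Subtype.val h
      exact Subtype.ext (hinj _ z.2 _ w.2 this)
    have hπ_surj : Function.Surjective π := by
      rintro ⟨y, e, hy⟩
      exact ⟨⟨(y, e), hy⟩, Subtype.ext rfl⟩
    let z : K × E := (x, e)
    have hzP : z ∈ P := (hP_mem _).mpr he
    have hzp : z ^ p ∈ G := by
      have := hpow x e he
      simpa [z] using this
    let c : G := ⟨z ^ p, hzp⟩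
    let a : L := π c
    have ha : (a : K) = x ^ p := by
      simp [a, hπ_apply, c, z]
    have hirr : Irreducible (X ^ p - C a : L[X]) := by
      apply X_pow_sub_C_irreducible_of_prime hp
      intro b hb
      apply hxL
      have h1 : (b : K) ^ p = x ^ p := by
        rw [← ha, ← hb]; simp
      have h2 : (b : K) = x := by
        have := frobenius_inj K p
        apply this
        simpa [frobenius_def] using h1
      rw [← h2]; exact b.2
    have hmonic : (X ^ p - C a : L[X]).Monic := monic_X_pow_sub_C a hp.ne_zero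
    have hroot : aeval x (X ^ p - C a : L[X]) = 0 := by
      simp only [map_sub, map_pow, aeval_X, aeval_C]
      show x ^ p - (a : K) = 0
      rw [ha, sub_self]
    have hmin : (X ^ p - C a : L[X]) = minpoly L x :=
      minpoly.eq_of_irreducible_of_monic hirr hroot hmonic
    -- the extension
    let ev : G[X] →+* K × E := Polynomial.eval₂RingHom G.subtype z
    let G' : Subring (K × E) := ev.range
    have hGG' : G ≤ G' := by
      intro w hw
      exact ⟨C ⟨w, hw⟩, by simp [ev]⟩
    have hzG' : z ∈ G' := ⟨X, by simp [ev]⟩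
    have hG'S : G' ∈ S := by
      refine ⟨hG₀G.trans hGG', ?_, ?_⟩
      · rintro _ ⟨Q, rfl⟩
        show Polynomial.eval₂ G.subtype z Q ∈ P
        rw [Polynomial.eval₂_eq_sum_range]
        exact P.sum_mem fun i _ => P.mul_mem (hGP (Q.coeff i).2) (P.pow_mem hzP i)
      · rintro _ ⟨Q, rfl⟩ h0
        have h1 : aeval x (Q.map π) = 0 := by
          rw [aeval_def, eval₂_map]
          have : (algebraMap L K).comp π = (RingHom.fst K E).comp G.subtype := by
            ext w; rfl
          rw [this]
          exact (Polynomial.hom_eval₂ Q G.subtype (RingHom.fst K E) z).symm.trans h0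
        have h3 : (X ^ p - C a : L[X]) ∣ Q.map π := by
          rw [hmin]; exact minpoly.dvd L x h1
        obtain ⟨T, hT⟩ := h3
        obtain ⟨T', rfl⟩ := Polynomial.map_surjective π hπ_surj T
        have h4 : Q = (X ^ p - C c) * T' := by
          apply Polynomial.map_injective π hπ_inj
          rw [hT, Polynomial.map_mul]
          simp [a]
        show (Polynomial.eval₂ G.subtype z Q).2 = 0
        rw [h4, Polynomial.eval₂_mul]
        simp [c]
    have := hGmax' hG'S hGG' hzG'
    exact hx e this
  -- build g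
  let φ : G →+* K := (RingHom.fst K E).comp G.subtype
  have hφ : Function.Bijective φ := by
    constructor
    · intro z w h
      exact Subtype.ext (hinj _ z.2 _ w.2 h)
    · intro x
      obtain ⟨e, he⟩ := hsurj x
      exact ⟨⟨(x, e), he⟩, rfl⟩
  let eφ : G ≃+* K := RingEquiv.ofBijective φ hφ
  refine ⟨((RingHom.snd K E).comp G.subtype).comp eφ.symm.toRingHom, fun x => ?_⟩
  have h1 := (hP_mem _).mp (hGP (eφ.symm x).2)
  have h2 : ((eφ.symm x : G) : K × E).1 = x := eφ.apply_symm_apply x
  rw [h2] at h1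
  exact h1



theorem formallySmooth_zmod (p : ℕ) [Fact p.Prime] (K : Type u) [Field K] [CharP K p]
    [Algebra (ZMod p) K] : Algebra.FormallySmooth (ZMod p) K := by
  apply Algebra.FormallySmooth.of_comp_surjective
  intro B _ _ I hI f
  have hpB : ((p : ℕ) : B) = 0 := by
    have : algebraMap (ZMod p) B (p : ZMod p) = (p : B) := map_natCast _ _
    rw [← this, ZMod.natCast_self, map_zero]
  obtain ⟨g, hg⟩ := exists_lift_charP p Fact.out hpB I hI f.toRingHom
  have hcomm : ∀ r : ZMod p, g (algebraMap (ZMod p) K r) = algebraMap (ZMod p) B r := by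
    intro r
    have : g.comp (algebraMap (ZMod p) K) = algebraMap (ZMod p) B := Subsingleton.elim _ _
    exact RingHom.congr_fun this r
  refine ⟨{ g with commutes' := hcomm }, ?_⟩
  ext x
  exact hg x

theorem formallySmooth_rat (K : Type u) [Field K] [CharZero K] [Algebra ℚ K] :
    Algebra.FormallySmooth ℚ K := by
  obtain ⟨s, hs⟩ := exists_isTranscendenceBasis ℚ K
  set x : s → K := (↑) with hx
  have h1 : Algebra.IsAlgebraic (IntermediateField.adjoin ℚ (Set.range x)) K :=
    hs.isAlgebraic_field
  have h2 : Algebra.IsSeparable (IntermediateField.adjoin ℚ (Set.range x)) K :=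
    inferInstance
  exact Algebra.FormallySmooth.of_algebraicIndependent_of_isSeparable hs.1

theorem isAdicComplete_sq {R : Type*} [CommRing R] (I : Ideal R) [IsAdicComplete I R] :
    IsAdicComplete (I ^ 2) R := by
  have hle : ∀ n : ℕ, ((I ^ 2) ^ n • ⊤ : Submodule R R) ≤ (I ^ n • ⊤ : Submodule R R) := by
    intro n
    apply Submodule.smul_mono_left
    rw [← pow_mul]
    exact Ideal.pow_le_pow_right (by omega)
  have hH : IsHausdorff (I ^ 2) R := by
    constructor
    intro x hx
    exact IsHausdorff.haus (inferInstance : IsHausdorff I R) x fun n => (hx n).mono (hle n)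
  have hP : IsPrecomplete (I ^ 2) R := by
    constructor
    intro f hf
    obtain ⟨L, hL⟩ := IsPrecomplete.prec (inferInstance : IsPrecomplete I R) (f := f)
      (fun {m n} hmn => (hf hmn).mono (hle m))
    refine ⟨L, fun n => ?_⟩
    have h1 : f n ≡ f (2 * n) [SMOD ((I ^ 2) ^ n • ⊤ : Submodule R R)] := hf (by omega)
    have h2 : f (2 * n) ≡ L [SMOD ((I ^ 2) ^ n • ⊤ : Submodule R R)] := by
      have := hL (2 * n)
      rwa [pow_mul] at this
    exact h1.trans h2
  exact { toIsHausdorff := hH, toIsPrecomplete := hP }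



open IsLocalRing in
theorem exists_other_section {C : Type u} [CommRing C] [IsLocalRing C]
    [IsAdicComplete (maximalIdeal C) C] (hm : maximalIdeal C ≠ ⊥)
    (u : ResidueField C →+* C) (hu : ∀ x, residue C (u x) = x)
    (F : Type) [Field F] [Algebra F C]
    (hFu : ∀ r : F, u (algebraMap F (ResidueField C) r) = algebraMap F C r)
    [Algebra.FormallySmooth F (ResidueField C)]
    [Algebra.FormallyUnramified ℤ F]
    (hΩ : ¬ Subsingleton (Ω[ResidueField C⁄ℤ])) :
    ∃ v : ResidueField C →+* C, (∀ x, residue C (v x) = x) ∧ v ≠ u := by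
  classical
  have hunr : ¬ Algebra.FormallyUnramified F (ResidueField C) := by
    intro h
    haveI : IsScalarTower ℤ F (ResidueField C) :=
      IsScalarTower.of_algebraMap_eq' (RingHom.ext_int _ _)
    have : Algebra.FormallyUnramified ℤ (ResidueField C) :=
      Algebra.FormallyUnramified.comp ℤ F (ResidueField C)
    exact hΩ this.1
  have hΩF : ¬ Subsingleton (Ω[ResidueField C⁄F]) := fun h => hunr ⟨h⟩
  have hnt : Nontrivial (Ω[ResidueField C⁄F]) := not_subsingleton_iff_nontrivial.mp hΩF
  obtain ⟨ω, hω⟩ := exists_ne (0 : Ω[ResidueField C⁄F])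
  obtain ⟨φ, hφ⟩ : ∃ φ : Ω[ResidueField C⁄F] →ₗ[ResidueField C] ResidueField C, φ ω ≠ 0 := by
    by_contra hcon
    push Not at hcon
    exact hω ((Module.forall_dual_apply_eq_zero_iff (ResidueField C) ω).mp hcon)
  obtain ⟨d₀, hd₀⟩ : ∃ d₀ : Derivation F (ResidueField C) (ResidueField C),
      ∀ x, d₀ x = φ (KaehlerDifferential.D F (ResidueField C) x) :=
    ⟨φ.compDer (KaehlerDifferential.D F (ResidueField C)), fun x => rfl⟩
  obtain ⟨x₀, hx₀⟩ : ∃ x₀, d₀ x₀ ≠ 0 := by
    by_contra hcon
    push Not at hcon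
    apply hφ
    have h1 : ω ∈ Submodule.span (ResidueField C)
        (Set.range (KaehlerDifferential.D F (ResidueField C))) := by
      rw [KaehlerDifferential.span_range_derivation]; trivial
    have h2 : Submodule.span (ResidueField C)
        (Set.range (KaehlerDifferential.D F (ResidueField C))) ≤ LinearMap.ker φ := by
      rw [Submodule.span_le]
      rintro _ ⟨x, rfl⟩
      simp only [SetLike.mem_coe, LinearMap.mem_ker]
      rw [← hd₀]; exact hcon x
    exact h2 h1
  -- t ∈ 𝔪 \ 𝔪²
  obtain ⟨t, ht, ht2⟩ : ∃ t ∈ maximalIdeal C, t ∉ maximalIdeal C ^ 2 := by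
    by_contra hcon
    push Not at hcon
    apply hm
    have hle : maximalIdeal C ≤ maximalIdeal C ^ 2 := fun t ht => hcon t ht
    have hn : ∀ n : ℕ, maximalIdeal C ≤ maximalIdeal C ^ (n + 1) := by
      intro n
      induction n with
      | zero => simp
      | succ n ih =>
        calc maximalIdeal C ≤ maximalIdeal C ^ 2 := hle
          _ = maximalIdeal C * maximalIdeal C := pow_two _
          _ ≤ maximalIdeal C ^ (n + 1) * maximalIdeal C := Ideal.mul_mono_left ih
          _ = maximalIdeal C ^ (n + 1 + 1) := (pow_succ _ _).symm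
    rw [eq_bot_iff]
    intro x hx
    have : x = 0 := by
      apply IsHausdorff.haus (inferInstance : IsHausdorff (maximalIdeal C) C) x
      intro n
      rw [SModEq.zero, smul_eq_mul, Ideal.mul_top]
      exact Ideal.pow_le_pow_right (Nat.le_succ n) (hn n hx)
    exact this
  have ht2' : t * t ∈ maximalIdeal C ^ 2 := by
    rw [pow_two]; exact Ideal.mul_mem_mul ht ht
  -- v₂
  let v₂ : ResidueField C →ₐ[F] C ⧸ maximalIdeal C ^ 2 :=
    { toFun := fun x => Ideal.Quotient.mk _ (u x + t * u (d₀ x))
      map_one' := by simp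
      map_mul' := by
        intro x y
        rw [← map_mul, Ideal.Quotient.eq]
        have : u (x * y) + t * u (d₀ (x * y)) - (u x + t * u (d₀ x)) * (u y + t * u (d₀ y))
            = - (t * t) * (u (d₀ x) * u (d₀ y)) := by
          rw [Derivation.leibniz]
          simp only [smul_eq_mul, map_add, map_mul]
          ring
        rw [this]
        exact Ideal.mul_mem_right _ _ (neg_mem ht2')
      map_zero' := by simp
      map_add' := by
        intro x y
        rw [← map_add]
        congr 1
        simp only [map_add]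
        ring
      commutes' := by
        intro r
        rw [Derivation.map_algebraMap]
        simp only [map_zero, mul_zero, add_zero]
        rw [hFu]
        rfl }
  have hv₂ : ∀ x, v₂ x = Ideal.Quotient.mk _ (u x + t * u (d₀ x)) := fun x => rfl
  haveI : IsAdicComplete (maximalIdeal C ^ 2) C := isAdicComplete_sq _
  obtain ⟨v, hv⟩ := Algebra.FormallySmooth.exists_mkₐ_comp_eq_of_isAdicComplete v₂
  have hv' : ∀ x, v x - (u x + t * u (d₀ x)) ∈ maximalIdeal C ^ 2 := by
    intro x
    rw [← Ideal.Quotient.eq, ← hv₂, ← hv]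
    rfl
  have hsq_le : maximalIdeal C ^ 2 ≤ maximalIdeal C := Ideal.pow_le_self (by norm_num)
  refine ⟨v.toRingHom, fun x => ?_, fun hvu => ?_⟩
  · have h1 := hsq_le (hv' x)
    have h2 : residue C (v x - (u x + t * u (d₀ x))) = 0 := (residue_eq_zero_iff _).mpr h1
    have h3 : residue C t = 0 := (residue_eq_zero_iff _).mpr ht
    rw [map_sub, map_add, map_mul, h3, zero_mul, add_zero, hu, sub_eq_zero] at h2
    exact h2
  · have h1 := hv' x₀
    have h2 : v x₀ = u x₀ := RingHom.congr_fun hvu x₀
    rw [h2] at h1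
    have h3 : t * u (d₀ x₀) ∈ maximalIdeal C ^ 2 := by
      have : u x₀ - (u x₀ + t * u (d₀ x₀)) = - (t * u (d₀ x₀)) := by ring
      rw [this] at h1
      exact neg_mem_iff.mp h1
    have h4 : IsUnit (u (d₀ x₀)) := by
      rw [← IsLocalRing.notMem_maximalIdeal, ← residue_eq_zero_iff, hu]
      exact hx₀
    apply ht2
    obtain ⟨w, hw⟩ := h4
    have : t = t * u (d₀ x₀) * ↑w⁻¹ := by
      rw [← hw, mul_assoc, Units.mul_inv, mul_one]
    rw [this]
    exact Ideal.mul_mem_right _ _ h3

open IsLocalRing in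
/-- Let C be a complete Noetherian local ring with maximal ideal 𝔍 ≠ 0 and residue field K, and u : K →
C a ring homomorphism which is a section of the residue map. Then u is the only such section if and
only if Ω_{K/ℤ} = 0. -/
theorem result {C : Type u} [CommRing C] [IsLocalRing C] [IsNoetherianRing C] [IsAdicComplete (maximalIdeal C) C]
    (hm : maximalIdeal C ≠ ⊥) (u : ResidueField C →+* C) (hu : ∀ x, residue C (u x) = x) :
    (∀ v : ResidueField C →+* C, (∀ x, residue C (v x) = x) → v = u) ↔ Subsingleton (Ω[ResidueField C⁄ℤ]) := by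
  constructor
  · intro h
    by_contra hΩ
    obtain ⟨p, hp⟩ := CharP.exists (ResidueField C)
    rcases CharP.char_is_prime_or_zero (ResidueField C) p with hp' | rfl
    · haveI : Fact p.Prime := ⟨hp'⟩
      obtain ⟨φ, -⟩ : ∃ φ : ZMod p →+* ResidueField C, True :=
        ⟨ZMod.castHom (dvd_refl p) (ResidueField C), trivial⟩
      letI instC : Algebra (ZMod p) C := (u.comp φ).toAlgebra
      have hFu : ∀ r : ZMod p, u (algebraMap (ZMod p) (ResidueField C) r) = algebraMap (ZMod p) C r := by
        intro r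
        have h1 : algebraMap (ZMod p) (ResidueField C) r = residue C (algebraMap (ZMod p) C r) := rfl
        have h2 : algebraMap (ZMod p) C r = u (φ r) := rfl
        rw [h1, h2, hu]
      haveI : Algebra.FormallySmooth (ZMod p) (ResidueField C) := formallySmooth_zmod p _
      haveI : Algebra.FormallyUnramified ℤ (ZMod p) :=
        Algebra.FormallyUnramified.of_surjective (Algebra.ofId ℤ (ZMod p)) (ZMod.intCast_surjective)
      obtain ⟨v, hv, hvu⟩ := exists_other_section hm u hu (ZMod p) hFu hΩ
      exact hvu (h v hv)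
    · haveI : CharZero (ResidueField C) := CharP.charP_to_charZero _
      obtain ⟨φ, -⟩ : ∃ φ : ℚ →+* ResidueField C, True :=
        ⟨Rat.castHom (ResidueField C), trivial⟩
      letI instC : Algebra ℚ C := (u.comp φ).toAlgebra
      letI instK : Algebra ℚ (ResidueField C) := IsLocalRing.ResidueField.algebra C
      have hFu : ∀ r : ℚ, u (algebraMap ℚ (ResidueField C) r) = algebraMap ℚ C r := by
        intro r
        have h1 : algebraMap ℚ (ResidueField C) r = residue C (algebraMap ℚ C r) := rfl
        have h2 : algebraMap ℚ C r = u (φ r) := rfl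
        rw [h1, h2, hu]
      haveI : Algebra.FormallySmooth ℚ (ResidueField C) := formallySmooth_rat _
      haveI : Algebra.FormallyUnramified ℤ ℚ :=
        Algebra.FormallyUnramified.of_isLocalization (nonZeroDivisors ℤ)
      obtain ⟨v, hv, hvu⟩ := exists_other_section hm u hu ℚ hFu hΩ
      exact hvu (h v hv)
  · intro hΩ v hv
    haveI : Algebra.FormallyUnramified ℤ (ResidueField C) := ⟨hΩ⟩
    have hI : ⨅ i, maximalIdeal C ^ i = ⊥ := by
      have := IsHausdorff.iInf_pow_smul (inferInstance : IsHausdorff (maximalIdeal C) C)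
      simpa [smul_eq_mul, Ideal.mul_top] using this
    obtain ⟨g₁, hg₁⟩ : ∃ g : ResidueField C →ₐ[ℤ] C, ∀ x, g x = v x :=
      ⟨{ v with commutes' := fun n => by simp }, fun x => rfl⟩
    obtain ⟨g₂, hg₂⟩ : ∃ g : ResidueField C →ₐ[ℤ] C, ∀ x, g x = u x :=
      ⟨{ u with commutes' := fun n => by simp }, fun x => rfl⟩
    have := Algebra.FormallyUnramified.ext_of_iInf (R := ℤ) (A := ResidueField C) (B := C)
      (I := maximalIdeal C) hI (g₁ := g₁) (g₂ := g₂) (fun x => by
        show residue C (g₁ x) = residue C (g₂ x)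
        rw [hg₁, hg₂, hv, hu])
    ext x
    rw [← hg₁, ← hg₂, this]

end Groth.Agent.S2483
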