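import Groth.Agent.LibAdicFS29a
import Groth.Agent.LibAdicFS29b
import Groth.Agent.LibAdicFS29c
import Groth.Agent.S2483
import Groth.Agent.LibObs29d
import Groth.Agent.Lib.Helper24.PSDim

/-!
# Formally smooth local algebras with prescribed residue field (helper29; EGA 0_IV 22.2.?)

`k ⊆ K` fields, `Υ = ker (K ⊗_k Ω_k → Ω_K)` the imperfection module.
* `span_eE`: for any `B`-algebra `C`, the elements `1 ⊗ (1 ⊗ dx)` span `C ⊗_B (B ⊗_A Ω_{A/Λ})`.
* `finite_imperfection_of_injective`: `A` Noetherian local with residue field `K`, formally smooth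
  over `k` ⇒ `Υ` finite-dimensional.
* `injective_of_derivation`: injectivity criterion for `K ⊗ Ω_k → K ⊗ Ω_A`.
* `exists_formallySmooth_powerSeries`: the construction of `K[[T₁..Tₙ]]` with a twisted `k`-structure.
-/

set_option autoImplicit false
set_option linter.unusedSectionVars false
universe u v

namespace Groth.Agent.LibAdicFS29

open TensorProduct KaehlerDifferential

section span

variable (Λ : Type v) (A B C : Type u) [CommRing Λ] [CommRing A] [CommRing B] [CommRing C]
  [Algebra Λ A] [Algebra A B] [Algebra Λ B] [IsScalarTower Λ A B] [Algebra B C]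

/-- the elements `1 ⊗ (1 ⊗ dx)` -/
noncomputable def eE (x : A) : C ⊗[B] (B ⊗[A] Ω[A⁄Λ]) :=
  (1 : C) ⊗ₜ[B] ((1 : B) ⊗ₜ[A] KaehlerDifferential.D Λ A x)

theorem one_tmul_smulE (b : B) (ξ : B ⊗[A] Ω[A⁄Λ]) :
    (1 : C) ⊗ₜ[B] (b • ξ) = (algebraMap B C b) • ((1 : C) ⊗ₜ[B] ξ) := by
  rw [TensorProduct.smul_tmul', smul_eq_mul, mul_one, ← TensorProduct.smul_tmul]
  congr 1
  rw [Algebra.smul_def, mul_one]

theorem mem_span_eE_aux1 (ω : Ω[A⁄Λ]) :
    (1 : C) ⊗ₜ[B] ((1 : B) ⊗ₜ[A] ω) ∈
      Submodule.span C (Set.range (eE Λ A B C)) := by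
  have hω : ω ∈ Submodule.span A (Set.range (KaehlerDifferential.D Λ A)) := by
    rw [KaehlerDifferential.span_range_derivation]; trivial
  induction hω using Submodule.span_induction with
  | mem ω hω =>
    obtain ⟨x, rfl⟩ := hω
    exact Submodule.subset_span ⟨x, rfl⟩
  | zero => rw [TensorProduct.tmul_zero, TensorProduct.tmul_zero]; exact zero_mem _
  | add u v _ _ hu hv =>
    rw [TensorProduct.tmul_add, TensorProduct.tmul_add]; exact add_mem hu hv
  | smul y u _ hu =>
    have h3 : (1 : B) ⊗ₜ[A] (y • u) = (algebraMap A B y) • ((1 : B) ⊗ₜ[A] u) := by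
      rw [TensorProduct.tmul_smul, algebraMap_smul]
    rw [h3, one_tmul_smulE]
    exact Submodule.smul_mem _ _ hu

theorem mem_span_eE_aux2 (ξ : B ⊗[A] Ω[A⁄Λ]) :
    (1 : C) ⊗ₜ[B] ξ ∈ Submodule.span C (Set.range (eE Λ A B C)) := by
  induction ξ using TensorProduct.induction_on with
  | zero => rw [TensorProduct.tmul_zero]; exact zero_mem _
  | add u v hu hv => rw [TensorProduct.tmul_add]; exact add_mem hu hv
  | tmul a ω =>
    have h2 : a ⊗ₜ[A] ω = a • ((1 : B) ⊗ₜ[A] ω) := by
      rw [TensorProduct.smul_tmul', smul_eq_mul, mul_one]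
    rw [h2, one_tmul_smulE]
    exact Submodule.smul_mem _ _ (mem_span_eE_aux1 Λ A B C ω)

theorem span_eE : Submodule.span C (Set.range (eE Λ A B C)) = ⊤ := by
  rw [eq_top_iff]
  rintro ω -
  induction ω using TensorProduct.induction_on with
  | zero => exact zero_mem _
  | add u v hu hv => exact add_mem hu hv
  | tmul c ξ =>
    have h1 : c ⊗ₜ[B] ξ = c • ((1 : C) ⊗ₜ[B] ξ) := by
      rw [TensorProduct.smul_tmul', smul_eq_mul, mul_one]
    rw [h1]
    exact Submodule.smul_mem _ _ (mem_span_eE_aux2 Λ A B C ξ)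

theorem baseChange_eE (x : A) :
    (KaehlerDifferential.mapBaseChange Λ A B).baseChange C (eE Λ A B C x) =
      (1 : C) ⊗ₜ[B] KaehlerDifferential.D Λ B (algebraMap A B x) := by
  simp [eE, LinearMap.baseChange_tmul, KaehlerDifferential.mapBaseChange_tmul,
    KaehlerDifferential.map_D]

end span

section core

variable (k A K : Type u) [Field k] [CommRing A] [Algebra k A] [Field K] [Algebra k K]
  [Algebra A K] [IsScalarTower k A K]

/-- `K ⊗_A (A ⊗_k Ω_k) ≃ K ⊗_k Ω_k` -/
noncomputable def thetaK : K ⊗[A] (A ⊗[k] Ω[k⁄ℤ]) ≃ₗ[K] K ⊗[k] Ω[k⁄ℤ] :=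
  TensorProduct.AlgebraTensorModule.cancelBaseChange k A K K Ω[k⁄ℤ]

lemma thetaK_eE (x : k) :
    thetaK k A K (eE ℤ k A K x) = (1 : K) ⊗ₜ[k] KaehlerDifferential.D ℤ k x := by
  simp [thetaK, eE]

lemma square_comm :
    (mapBaseChange ℤ A K) ∘ₗ ((mapBaseChange ℤ k A).baseChange K) =
      (mapBaseChange ℤ k K) ∘ₗ (thetaK k A K).toLinearMap := by
  apply LinearMap.ext_on (span_eE ℤ k A K)
  rintro _ ⟨x, rfl⟩
  rw [LinearMap.comp_apply, LinearMap.comp_apply, baseChange_eE, LinearEquiv.coe_coe, thetaK_eE,
    mapBaseChange_tmul, mapBaseChange_tmul, one_smul, one_smul, map_D, map_D,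
    ← IsScalarTower.algebraMap_apply]

/-- the kernel of `K ⊗_A Ω_A → Ω_K` is finite-dimensional -/
lemma finite_ker_mapBaseChange [IsNoetherianRing A] (hsurj : Function.Surjective (algebraMap A K)) :
    Module.Finite K (LinearMap.ker (mapBaseChange ℤ A K)) := by
  have h1 := KaehlerDifferential.range_kerCotangentToTensor ℤ A K hsurj
  have h2 : Module.Finite A (LinearMap.range (kerCotangentToTensor ℤ A K)) := by
    haveI : Module.Finite A (RingHom.ker (algebraMap A K)).Cotangent :=
      Module.Finite.of_surjective _ (Ideal.toCotangent_surjective _)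
    exact Module.Finite.range _
  rw [h1] at h2
  haveI : Module.Finite A (LinearMap.ker (mapBaseChange ℤ A K)) := h2
  exact Module.Finite.of_restrictScalars_finite A K _

/-- adic formal smoothness with Noetherian `A` ⇒ the imperfection module is finite -/
theorem finite_imperfection_of_injective [IsNoetherianRing A]
    (hsurj : Function.Surjective (algebraMap A K))
    (hinj : Function.Injective ((mapBaseChange ℤ k A).baseChange K)) :
    Module.Finite K (EGA41.imperfection ℤ k K) := by
  haveI := finite_ker_mapBaseChange A K hsurj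
  have hmem : ∀ ω : EGA41.imperfection ℤ k K,
      ((mapBaseChange ℤ k A).baseChange K) ((thetaK k A K).symm ω.1) ∈
        LinearMap.ker (mapBaseChange ℤ A K) := by
    intro ω
    rw [LinearMap.mem_ker]
    have := LinearMap.congr_fun (square_comm k A K) ((thetaK k A K).symm ω.1)
    rw [LinearMap.comp_apply, LinearMap.comp_apply, LinearEquiv.coe_coe,
      LinearEquiv.apply_symm_apply] at this
    rw [this]
    exact ω.2
  let g : EGA41.imperfection ℤ k K →ₗ[K] LinearMap.ker (mapBaseChange ℤ A K) :=
    { toFun := fun ω => ⟨_, hmem ω⟩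
      map_add' := fun a b => by
        apply Subtype.ext
        simp only [Submodule.coe_add, map_add]
      map_smul' := fun c a => by
        apply Subtype.ext
        simp only [Submodule.coe_smul, map_smul, RingHom.id_apply] }
  have hg : Function.Injective g := by
    intro a b hab
    have h1 : ((mapBaseChange ℤ k A).baseChange K) ((thetaK k A K).symm a.1) =
        ((mapBaseChange ℤ k A).baseChange K) ((thetaK k A K).symm b.1) :=
      congrArg Subtype.val hab
    exact Subtype.ext ((thetaK k A K).symm.injective (hinj h1))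
  have h3 : FiniteDimensional K (LinearMap.ker (mapBaseChange ℤ A K)) := this
  have h4 := @FiniteDimensional.of_injective K (EGA41.imperfection ℤ k K) _ _ _
    (LinearMap.ker (mapBaseChange ℤ A K)) _ _ g
  exact h4 hg

/-- injectivity criterion -/
theorem injective_of_derivation {N : Type u} [AddCommGroup N] [Module K N]
    (Dt : K ⊗[k] Ω[k⁄ℤ] →ₗ[K] N)
    (hDt : ∀ ω ∈ EGA41.imperfection ℤ k K, Dt ω = 0 → ω = 0)
    (V₂ : K ⊗[A] Ω[A⁄ℤ] →ₗ[K] N)
    (hV₂ : ∀ x : k, V₂ ((1 : K) ⊗ₜ[A] KaehlerDifferential.D ℤ A (algebraMap k A x)) =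
      Dt ((1 : K) ⊗ₜ[k] KaehlerDifferential.D ℤ k x)) :
    Function.Injective ((mapBaseChange ℤ k A).baseChange K) := by
  have hsq : V₂ ∘ₗ ((mapBaseChange ℤ k A).baseChange K) = Dt ∘ₗ (thetaK k A K).toLinearMap := by
    apply LinearMap.ext_on (span_eE ℤ k A K)
    rintro _ ⟨x, rfl⟩
    rw [LinearMap.comp_apply, LinearMap.comp_apply, baseChange_eE, LinearEquiv.coe_coe,
      thetaK_eE, hV₂]
  rw [injective_iff_map_eq_zero]
  intro ω hω
  have h1 : mapBaseChange ℤ k K (thetaK k A K ω) = 0 := by
    have := LinearMap.congr_fun (square_comm k A K) ω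
    rw [LinearMap.comp_apply, LinearMap.comp_apply, hω, map_zero, LinearEquiv.coe_coe] at this
    exact this.symm
  have h2 : Dt (thetaK k A K ω) = 0 := by
    have := LinearMap.congr_fun hsq ω
    rw [LinearMap.comp_apply, LinearMap.comp_apply, hω, map_zero, LinearEquiv.coe_coe] at this
    exact this.symm
  have h3 : thetaK k A K ω = 0 := hDt _ h1 h2
  exact (thetaK k A K).injective (by rw [h3, map_zero])

end core

section transport

open IsLocalRing

variable (A K : Type u) [CommRing A] [IsLocalRing A] [Field K] [Algebra A K]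

lemma ker_algebraMap_eq (hsurj : Function.Surjective (algebraMap A K)) :
    RingHom.ker (algebraMap A K) = maximalIdeal A :=
  IsLocalRing.eq_maximalIdeal (RingHom.ker_isMaximal_of_surjective _ hsurj)

/-- the `A`-linear identification `A/𝔪 ≃ K` -/
noncomputable def resEquiv (hsurj : Function.Surjective (algebraMap A K)) :
    (A ⧸ maximalIdeal A) ≃ₗ[A] K :=
  LinearEquiv.ofBijective
    (Submodule.liftQ (maximalIdeal A) (Algebra.linearMap A K) (by
      intro a ha
      rw [← ker_algebraMap_eq A K hsurj] at ha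
      exact ha))
    ⟨by
      rw [← LinearMap.ker_eq_bot, Submodule.ker_liftQ_eq_bot]
      intro a ha
      rw [← ker_algebraMap_eq A K hsurj]
      exact ha, by
      rw [← LinearMap.range_eq_top, Submodule.range_liftQ, LinearMap.range_eq_top]
      exact hsurj⟩

theorem injective_lTensor_iff (hsurj : Function.Surjective (algebraMap A K))
    {M M' : Type u} [AddCommGroup M] [Module A M] [AddCommGroup M'] [Module A M']
    (f : M →ₗ[A] M') :
    Function.Injective (f.lTensor (A ⧸ maximalIdeal A)) ↔ Function.Injective (f.lTensor K) := by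
  let ε := resEquiv A K hsurj
  have h : (f.lTensor K) ∘ₗ (ε.toLinearMap.rTensor M) =
      (ε.toLinearMap.rTensor M') ∘ₗ (f.lTensor (A ⧸ maximalIdeal A)) := by
    rw [LinearMap.lTensor_comp_rTensor, LinearMap.rTensor_comp_lTensor]
  have h1 : Function.Bijective (ε.toLinearMap.rTensor M) := (ε.rTensor M).bijective
  have h2 : Function.Bijective (ε.toLinearMap.rTensor M') := (ε.rTensor M').bijective
  have h' : ∀ x, f.lTensor K (ε.toLinearMap.rTensor M x) =
      ε.toLinearMap.rTensor M' (f.lTensor (A ⧸ maximalIdeal A) x) := fun x =>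
    LinearMap.congr_fun h x
  constructor
  · intro hi x y hxy
    obtain ⟨x', rfl⟩ := h1.2 x
    obtain ⟨y', rfl⟩ := h1.2 y
    rw [h', h'] at hxy
    rw [hi (h2.1 hxy)]
  · intro hi x y hxy
    apply h1.1
    apply hi
    rw [h', h', hxy]

omit [Algebra A K] in
/-- a surjective `k`-algebra map from a local ring onto a field identifies the residue field -/
theorem nonempty_residueField_algEquiv {k : Type u} [Field k] [Algebra k A] [Algebra k K]
    (cc : A →ₐ[k] K) (hsurj : Function.Surjective cc) :
    Nonempty (ResidueField A ≃ₐ[k] K) := by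
  have hker : RingHom.ker (cc : A →+* K) = maximalIdeal A :=
    IsLocalRing.eq_maximalIdeal (RingHom.ker_isMaximal_of_surjective _ hsurj)
  let f : ResidueField A →ₐ[k] K :=
    (Ideal.Quotient.liftₐ (maximalIdeal A) cc (fun a ha => by
      rw [← hker] at ha
      exact ha) : (A ⧸ maximalIdeal A) →ₐ[k] K)
  have hf : ∀ a : A, f (residue A a) = cc a := fun a => rfl
  refine ⟨AlgEquiv.ofBijective f ⟨(f : ResidueField A →+* K).injective, fun c => ?_⟩⟩
  obtain ⟨a, rfl⟩ := hsurj c
  exact ⟨residue A a, hf a⟩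

end transport

section ccder

/-- a derivation into a module killed by `I` vanishes on `I²` -/
lemma derivation_eq_zero_of_mem_sq {B N : Type u} [CommRing B] [AddCommGroup N] [Module B N]
    (δ : Derivation ℤ B N) (I : Ideal B) (hI : ∀ a ∈ I, ∀ v : N, a • v = 0) :
    ∀ r ∈ I ^ 2, δ r = 0 := by
  intro r hr
  rw [pow_two] at hr
  refine Submodule.mul_induction_on hr ?_ ?_
  · intro a ha b hb
    rw [Derivation.leibniz, hI a ha, hI b hb, add_zero]
  · intro x y hx hy
    rw [map_add, hx, hy, add_zero]

variable (K : Type u) [Field K] (n : ℕ) [Algebra (MvPowerSeries (Fin n) K) K]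

attribute [local instance 100000] Ring.toIntAlgebra

/-- the derivation `f ↦ (∂f/∂Tᵢ (0))ᵢ` -/
noncomputable def ccDer (halg : ∀ f : MvPowerSeries (Fin n) K,
    algebraMap (MvPowerSeries (Fin n) K) K f = MvPowerSeries.constantCoeff f) :
    Derivation ℤ (MvPowerSeries (Fin n) K) (Fin n → K) where
  toFun f := fun i => MvPowerSeries.constantCoeff (MvPowerSeries.pderiv K i f)
  map_add' f g := by
    funext i
    simp only [map_add, Pi.add_apply]
  map_smul' m f := by
    funext i
    show MvPowerSeries.constantCoeff (MvPowerSeries.pderiv K i (m • f)) =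
      m • MvPowerSeries.constantCoeff (MvPowerSeries.pderiv K i f)
    rw [map_zsmul, map_zsmul]
  map_one_eq_zero' := by
    funext i
    show MvPowerSeries.constantCoeff (MvPowerSeries.pderiv K i 1) = 0
    rw [Derivation.map_one_eq_zero, map_zero]
  leibniz' f g := by
    funext i
    show MvPowerSeries.constantCoeff (MvPowerSeries.pderiv K i (f * g)) =
      (f • fun j => MvPowerSeries.constantCoeff (MvPowerSeries.pderiv K j g)) i +
      (g • fun j => MvPowerSeries.constantCoeff (MvPowerSeries.pderiv K j f)) i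
    have h1 : ∀ (f : MvPowerSeries (Fin n) K) (v : Fin n → K),
        (f • v) i = MvPowerSeries.constantCoeff f * v i := by
      intro f v
      rw [Pi.smul_apply, Algebra.smul_def, halg]
    rw [h1, h1, Derivation.leibniz, map_add, smul_eq_mul, smul_eq_mul, map_mul, map_mul]

lemma ccDer_apply (halg : ∀ f : MvPowerSeries (Fin n) K,
    algebraMap (MvPowerSeries (Fin n) K) K f = MvPowerSeries.constantCoeff f)
    (f : MvPowerSeries (Fin n) K) (i : Fin n) :
    ccDer K n halg f i = MvPowerSeries.constantCoeff (MvPowerSeries.pderiv K i f) := rfl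

end ccder

section construction

open IsLocalRing Groth.Agent.Lib.helper19.CohenK

variable (k K : Type u) [Field k] [Field K] [Algebra k K]

/-- the element `1 ⊗ dx` of `K ⊗_k Ω_k` -/
noncomputable def eK : k →+ K ⊗[k] Ω[k⁄ℤ] where
  toFun x := (1 : K) ⊗ₜ[k] KaehlerDifferential.D ℤ k x
  map_zero' := by rw [map_zero, TensorProduct.tmul_zero]
  map_add' x y := by rw [map_add, TensorProduct.tmul_add]

lemma eK_mul (x y : k) :
    eK k K (x * y) = algebraMap k K x • eK k K y + algebraMap k K y • eK k K x := by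
  show (1 : K) ⊗ₜ[k] KaehlerDifferential.D ℤ k (x * y) = _ • ((1 : K) ⊗ₜ[k] _) + _ • ((1 : K) ⊗ₜ[k] _)
  rw [Derivation.leibniz, TensorProduct.tmul_add, TensorProduct.tmul_smul, TensorProduct.tmul_smul,
    algebraMap_smul, algebraMap_smul]

lemma eK_prime (c : P0 k) : eK k K (P0.incl k c) = 0 := by
  have h : P0.incl k c ∈ subfieldOfSubmodule (eK k K) (eK_mul k K) ⊥ :=
    (bot_le : (⊥ : Subfield k) ≤ _) c.2
  exact (Submodule.mem_bot K).1 ((mem_subfieldOfSubmodule (eK k K) (eK_mul k K) ⊥ _).1 h)

lemma exists_linearMap_injOn_aux {V : Type u} [AddCommGroup V] [Module K V] (p : Submodule K V)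
    [Module.Finite K p] (n : ℕ) (hn : Module.finrank K p ≤ n) :
    ∃ Dt : V →ₗ[K] (Fin n → K), ∀ ω ∈ p, Dt ω = 0 → ω = 0 := by
  classical
  let b := Module.finBasis K p
  let g₀ : p →ₗ[K] (Fin n → K) :=
    (Function.ExtendByZero.linearMap K (Fin.castLE hn)) ∘ₗ b.equivFun.toLinearMap
  have hg₀ : Function.Injective g₀ :=
    (Function.extend_injective (Fin.castLE_injective hn) 0).comp b.equivFun.injective
  obtain ⟨Dt, hDt⟩ := LinearMap.exists_extend g₀
  refine ⟨Dt, fun ω hω h0 => ?_⟩
  have h1 : g₀ ⟨ω, hω⟩ = 0 := by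
    rw [← hDt]; exact h0
  have h2 := hg₀ (h1.trans (map_zero g₀).symm)
  exact congrArg Subtype.val h2

lemma exists_linearMap_injOn (hfin : Module.Finite K (EGA41.imperfection ℤ k K)) (n : ℕ)
    (hn : Module.finrank K (EGA41.imperfection ℤ k K) ≤ n) :
    ∃ Dt : K ⊗[k] Ω[k⁄ℤ] →ₗ[K] (Fin n → K),
      ∀ ω ∈ EGA41.imperfection ℤ k K, Dt ω = 0 → ω = 0 :=
  exists_linearMap_injOn_aux K (EGA41.imperfection ℤ k K) n hn

instance instIsAdicCompleteField : IsAdicComplete (maximalIdeal K) K := by
  rw [IsLocalRing.maximalIdeal_eq_bot]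
  exact IsAdicComplete.bot K

section coordinates

variable {K}
variable {B : Type u} [CommRing B] [IsLocalRing B] [Algebra K B] [Algebra B K]
  (hBK : ∀ c : K, algebraMap B K (algebraMap K B c) = c)
  (n : ℕ) (X : Fin n → B) (hX : ∀ i, X i ∈ maximalIdeal B)

/-- the linear polynomial `c + ∑ v i * X i` -/
noncomputable def linPS (c : K) (v : Fin n → K) : B :=
  algebraMap K B c + ∑ i, algebraMap K B (v i) * X i

include hX in
lemma sum_mem_maximalIdeal (v : Fin n → K) :
    (∑ i, algebraMap K B (v i) * X i : B) ∈ maximalIdeal B :=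
  Ideal.sum_mem _ fun i _ => Ideal.mul_mem_left _ _ (hX i)

include hX in
lemma linPS_mul_sub_mem (c c' : K) (v v' : Fin n → K) :
    linPS n X c v * linPS n X c' v' - linPS n X (c * c') (c • v' + c' • v) ∈
      maximalIdeal B ^ 2 := by
  have h : linPS n X c v * linPS n X c' v' - linPS n X (c * c') (c • v' + c' • v) =
      (∑ i, algebraMap K B (v i) * X i) * (∑ i, algebraMap K B (v' i) * X i) := by
    simp only [linPS, Pi.add_apply, Pi.smul_apply, smul_eq_mul, map_add, map_mul, add_mul,
      Finset.sum_add_distrib]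
    simp only [mul_assoc, ← Finset.mul_sum]
    ring
  rw [h, pow_two]
  exact Ideal.mul_mem_mul (sum_mem_maximalIdeal n X hX v) (sum_mem_maximalIdeal n X hX v')

lemma linPS_zero_right (c : K) : linPS n X c 0 = algebraMap K B c := by
  simp [linPS]

lemma linPS_add (c c' : K) (v v' : Fin n → K) :
    linPS n X (c + c') (v + v') = linPS n X c v + linPS n X c' v' := by
  simp only [linPS, Pi.add_apply, map_add, add_mul, Finset.sum_add_distrib]
  ring

include hBK in
lemma algebraMap_surjective_of_retraction : Function.Surjective (algebraMap B K) :=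
  fun c => ⟨algebraMap K B c, hBK c⟩

include hBK in
lemma algebraMap_eq_zero_of_mem (f : B) (hf : f ∈ maximalIdeal B) : algebraMap B K f = 0 := by
  rw [← ker_algebraMap_eq B K (algebraMap_surjective_of_retraction hBK)] at hf
  exact hf

include hBK hX in
lemma algebraMap_linPS (c : K) (v : Fin n → K) : algebraMap B K (linPS n X c v) = c := by
  rw [linPS, map_add, hBK, algebraMap_eq_zero_of_mem hBK _ (sum_mem_maximalIdeal n X hX v),
    add_zero]

include hBK in
lemma derivation_linPS (δ : Derivation ℤ B (Fin n → K))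
    (hδC : ∀ c : K, δ (algebraMap K B c) = 0) (hδX : ∀ i, δ (X i) = Pi.single i 1)
    (c : K) (v : Fin n → K) : δ (linPS n X c v) = v := by
  classical
  rw [linPS, map_add, hδC, zero_add, map_sum]
  simp only [Derivation.leibniz, hδC, smul_zero, add_zero, hδX]
  funext j
  rw [Finset.sum_apply, Finset.sum_eq_single j]
  · rw [Pi.smul_apply, Algebra.smul_def, hBK, Pi.single_eq_same, mul_one]
  · intro i _ hij
    rw [Pi.smul_apply, Pi.single_eq_of_ne (Ne.symm hij), smul_zero]
  · intro h; exact absurd (Finset.mem_univ j) h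

include hBK hX in
/-- **the construction (abstract form)**: a complete regular local ring `B` with coefficient field
`K`, coordinates `X i` and a derivation `δ` dual to them carries a `k`-algebra structure,
formally smooth over `k`, when `n ≥ rank Υ_{K/k}`. -/
theorem exists_formallySmooth_of_coordinates (hreg : IsRegularLocalRing B)
    [IsAdicComplete (maximalIdeal B) B]
    (δ : Derivation ℤ B (Fin n → K))
    (hδC : ∀ c : K, δ (algebraMap K B c) = 0) (hδX : ∀ i, δ (X i) = Pi.single i 1)
    (hfin : Module.Finite K (EGA41.imperfection ℤ k K))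
    (hn : Module.finrank K (EGA41.imperfection ℤ k K) ≤ n) :
    ∃ φ : k →+* B, (∀ x, algebraMap B K (φ x) = algebraMap k K x) ∧
      @CAlgX.IsAdicFormallySmooth k _ B _ φ.toAlgebra (maximalIdeal B) := by
  classical
  obtain ⟨Dt, hDt⟩ := exists_linearMap_injOn k K hfin n hn
  haveI := perfectField_P0 k
  letI : Algebra (P0 k) k := (P0.incl k).toAlgebra
  letI : Algebra (P0 k) K := ((algebraMap k K).comp (P0.incl k)).toAlgebra
  haveI : IsScalarTower (P0 k) k K := IsScalarTower.of_algebraMap_eq fun _ => rfl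
  letI : Algebra (P0 k) B := ((algebraMap K B).comp (algebraMap (P0 k) K)).toAlgebra
  haveI : IsScalarTower (P0 k) K B := IsScalarTower.of_algebraMap_eq fun _ => rfl
  let D : k → (Fin n → K) := fun x => Dt (eK k K x)
  have hDadd : ∀ x y, D (x + y) = D x + D y := fun x y => by simp only [D, map_add]
  have hDmul : ∀ x y, D (x * y) = algebraMap k K x • D y + algebraMap k K y • D x :=
    fun x y => by simp only [D, eK_mul, map_add, map_smul]
  have hDprime : ∀ c : P0 k, D (algebraMap (P0 k) k c) = 0 := fun c => by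
    show Dt (eK k K (P0.incl k c)) = 0
    rw [eK_prime, map_zero]
  have hD0 : D 0 = 0 := by simp only [D, map_zero]
  have hD1 : D 1 = 0 := by
    have := hDprime 1
    rwa [map_one] at this
  let φ₂ : k →ₐ[P0 k] B ⧸ (maximalIdeal B) ^ 2 :=
    { toFun := fun x => Ideal.Quotient.mk _ (linPS n X (algebraMap k K x) (D x))
      map_one' := by
        rw [hD1, map_one, linPS_zero_right, map_one, map_one]
      map_mul' := fun x y => by
        rw [← map_mul, Ideal.Quotient.eq, hDmul, map_mul]
        have := linPS_mul_sub_mem n X hX (algebraMap k K x) (algebraMap k K y) (D x) (D y)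
        rw [← neg_sub]
        exact Submodule.neg_mem _ this
      map_zero' := by
        rw [hD0, map_zero, linPS_zero_right, map_zero, map_zero]
      map_add' := fun x y => by
        rw [hDadd, map_add, linPS_add, map_add]
      commutes' := fun c => by
        show Ideal.Quotient.mk _ (linPS n X (algebraMap k K (algebraMap (P0 k) k c))
          (D (algebraMap (P0 k) k c))) = Ideal.Quotient.mk _ (algebraMap (P0 k) B c)
        rw [hDprime, linPS_zero_right]
        rfl }
  haveI : Algebra.FormallySmooth (P0 k) k := formallySmooth_of_perfectField _ _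
  haveI : IsNoetherianRing B := by
    haveI := hreg
    infer_instance
  haveI : IsAdicComplete ((maximalIdeal B) ^ 2) B := Groth.Agent.S2483.isAdicComplete_sq _
  obtain ⟨φ', hφ'⟩ := Algebra.FormallySmooth.exists_mkₐ_comp_eq_of_isAdicComplete
    (I := (maximalIdeal B) ^ 2) φ₂
  have hφ'' : ∀ x, φ' x - linPS n X (algebraMap k K x) (D x) ∈ (maximalIdeal B) ^ 2 := fun x => by
    rw [← Ideal.Quotient.eq]
    exact congr($hφ' x)
  have hcc : ∀ x, algebraMap B K (φ' x) = algebraMap k K x := fun x => by
    have h1 := algebraMap_eq_zero_of_mem hBK _ (Ideal.pow_le_self two_ne_zero (hφ'' x))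
    rw [map_sub, algebraMap_linPS hBK n X hX, sub_eq_zero] at h1
    exact h1
  letI algkB : Algebra k B := φ'.toRingHom.toAlgebra
  haveI : IsScalarTower (P0 k) k B :=
    IsScalarTower.of_algebraMap_eq fun c => (φ'.commutes c).symm
  haveI : IsScalarTower k B K := IsScalarTower.of_algebraMap_eq fun x => (hcc x).symm
  have hsurj : Function.Surjective (algebraMap B K) := algebraMap_surjective_of_retraction hBK
  haveI : Algebra.FormallySmooth (P0 k) (ResidueField B) := formallySmooth_of_perfectField _ _
  have hA0 : CAlgX.IsAdicFormallySmooth (P0 k) B (maximalIdeal B) :=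
    (regular_iff_isAdicFormallySmooth (P0 k) B).1 hreg
  have h𝔪N : ∀ a ∈ maximalIdeal B, ∀ v : Fin n → K, a • v = 0 := by
    intro a ha v
    funext i
    rw [Pi.smul_apply, Algebra.smul_def, algebraMap_eq_zero_of_mem hBK a ha, zero_mul]
    rfl
  have hδφ : ∀ x, δ (φ' x) = D x := fun x => by
    have h1 := derivation_eq_zero_of_mem_sq δ _ h𝔪N _ (hφ'' x)
    rw [map_sub, sub_eq_zero] at h1
    rw [h1, derivation_linPS hBK n X δ hδC hδX]
  let V₂ : K ⊗[B] Ω[B⁄ℤ] →ₗ[K] (Fin n → K) :=
    LinearMap.liftBaseChange K δ.liftKaehlerDifferential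
  have hV₂ : ∀ x : k, V₂ ((1 : K) ⊗ₜ[B] KaehlerDifferential.D ℤ B (algebraMap k B x)) =
      Dt ((1 : K) ⊗ₜ[k] KaehlerDifferential.D ℤ k x) := fun x => by
    rw [LinearMap.liftBaseChange_tmul, one_smul, Derivation.liftKaehlerDifferential_comp_D]
    exact hδφ x
  have hinjK := injective_of_derivation k B K Dt hDt V₂ hV₂
  have hinj : Function.Injective ((mapBaseChange ℤ k B).lTensor (ResidueField B)) :=
    (injective_lTensor_iff B K hsurj _).2 hinjK
  exact ⟨φ'.toRingHom, hcc, isAdicFormallySmooth_of_base_of_injective (P0 k) k B hA0 hinj⟩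

end coordinates

attribute [local instance 100000] Ring.toIntAlgebra in
/-- **the construction**: `K[[T₁..Tₙ]]` with a twisted `k`-algebra structure, formally smooth
over `k`, for `n ≥ rank Υ_{K/k}`. -/
theorem exists_formallySmooth_powerSeries (hfin : Module.Finite K (EGA41.imperfection ℤ k K))
    (n : ℕ) (hn : Module.finrank K (EGA41.imperfection ℤ k K) ≤ n) :
    ∃ φ : k →+* MvPowerSeries (Fin n) K,
      (∀ x, MvPowerSeries.constantCoeff (φ x) = algebraMap k K x) ∧
      @CAlgX.IsAdicFormallySmooth k _ (MvPowerSeries (Fin n) K) _ φ.toAlgebra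
        (maximalIdeal (MvPowerSeries (Fin n) K)) := by
  classical
  letI algBK : Algebra (MvPowerSeries (Fin n) K) K :=
    (MvPowerSeries.constantCoeff : MvPowerSeries (Fin n) K →+* K).toAlgebra
  have hreg := Groth.Agent.LibObs29.isRegularLocalRing_mvPowerSeries K n
  haveI hc : IsAdicComplete (maximalIdeal (MvPowerSeries (Fin n) K)) (MvPowerSeries (Fin n) K) :=
    Groth.Agent.LibCR29.isAdicComplete_mvPowerSeries n K
  have hBK : ∀ c : K, algebraMap (MvPowerSeries (Fin n) K) K
      (algebraMap K (MvPowerSeries (Fin n) K) c) = c := fun c => by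
    show MvPowerSeries.constantCoeff (algebraMap K (MvPowerSeries (Fin n) K) c) = c
    rw [MvPowerSeries.algebraMap_apply, MvPowerSeries.constantCoeff_C]
    rfl
  exact exists_formallySmooth_of_coordinates k hBK n MvPowerSeries.X
    (fun i => Groth.Agent.LibCR29.X_mem_maximalIdeal_ps i) hreg
    (ccDer K n (fun _ => rfl))
    (fun c => by
      funext i
      rw [ccDer_apply, MvPowerSeries.algebraMap_apply, MvPowerSeries.pderiv_C, map_zero]
      rfl)
    (fun i => by
      funext j
      rw [ccDer_apply, MvPowerSeries.pderiv_X]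
      by_cases h : i = j
      · subst h; simp
      · rw [Pi.single_eq_of_ne h, Pi.single_eq_of_ne (Ne.symm h), map_zero])
    hfin hn

end construction

end Groth.Agent.LibAdicFS29
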