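import Mathlib.LinearAlgebra.TensorPower.Symmetric
import Mathlib.LinearAlgebra.PiTensorProduct.Basis

/-!
# Symmetric powers: universal property, monomials in a basis
-/

set_option autoImplicit false
set_option linter.unusedSectionVars false
universe u v w

namespace Groth.Agent.LibPP29

open TensorProduct

section lift

variable {R ι' : Type u} [CommRing R] {M : Type v} [AddCommGroup M] [Module R M]
  {N : Type w} [AddCommGroup N] [Module R N]

/-- the additive lift -/
noncomputable def symLiftAdd (g : MultilinearMap R (fun _ : ι' => M) N)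
    (hg : ∀ (σ : Equiv.Perm ι') (f : ι' → M), g (fun i => f (σ i)) = g f) :
    SymmetricPower R ι' M →+ N :=
  AddCon.lift _ (PiTensorProduct.lift g).toAddMonoidHom (by
    rw [AddCon.addConGen_le]
    intro x y hxy
    cases hxy with
    | perm e f =>
      rw [AddCon.ker_rel]
      simp only [LinearMap.toAddMonoidHom_coe]
      rw [PiTensorProduct.lift.tprod, PiTensorProduct.lift.tprod, hg])

lemma symLiftAdd_mk (g : MultilinearMap R (fun _ : ι' => M) N)
    (hg : ∀ (σ : Equiv.Perm ι') (f : ι' → M), g (fun i => f (σ i)) = g f)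
    (y : PiTensorProduct R (fun _ : ι' => M)) :
    symLiftAdd g hg (SymmetricPower.mk R ι' M y) = PiTensorProduct.lift g y := rfl

/-- universal property of the symmetric power -/
noncomputable def symLift (g : MultilinearMap R (fun _ : ι' => M) N)
    (hg : ∀ (σ : Equiv.Perm ι') (f : ι' → M), g (fun i => f (σ i)) = g f) :
    SymmetricPower R ι' M →ₗ[R] N where
  toFun := symLiftAdd g hg
  map_add' := map_add _
  map_smul' r x := by
    obtain ⟨y, rfl⟩ : ∃ y, SymmetricPower.mk R ι' M y = x := AddCon.mk'_surjective x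
    rw [← map_smul, symLiftAdd_mk, symLiftAdd_mk, map_smul]
    rfl

@[simp] lemma symLift_tprod (g : MultilinearMap R (fun _ : ι' => M) N)
    (hg : ∀ (σ : Equiv.Perm ι') (f : ι' → M), g (fun i => f (σ i)) = g f) (f : ι' → M) :
    symLift g hg (SymmetricPower.tprod R f) = g f := by
  change symLiftAdd g hg (SymmetricPower.mk R ι' M (PiTensorProduct.tprod R f)) = g f
  rw [symLiftAdd_mk, PiTensorProduct.lift.tprod]

lemma symLift_mk (g : MultilinearMap R (fun _ : ι' => M) N)
    (hg : ∀ (σ : Equiv.Perm ι') (f : ι' → M), g (fun i => f (σ i)) = g f)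
    (y : PiTensorProduct R (fun _ : ι' => M)) :
    symLift g hg (SymmetricPower.mk R ι' M y) = PiTensorProduct.lift g y := rfl

end lift

section monomials

variable {R ι' : Type u} [CommRing R] [Fintype ι'] [DecidableEq ι']
  {M : Type v} [AddCommGroup M] [Module R M]
  {κ : Type w} [Fintype κ] [DecidableEq κ] (e : Module.Basis κ R M)

/-- the number of indices mapped to `i` -/
def cnt (f : ι' → κ) : κ → ℕ := fun i => (Finset.univ.filter fun j => f j = i).card

lemma cnt_comp_perm (f : ι' → κ) (σ : Equiv.Perm ι') : cnt (f ∘ σ) = cnt f := by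
  funext i
  unfold cnt
  refine Finset.card_bij (fun j _ => σ j) ?_ ?_ ?_
  · intro j hj
    simpa using hj
  · intro j _ j' _ h
    exact σ.injective h
  · intro j hj
    refine ⟨σ.symm j, ?_, by simp⟩
    simpa using hj

lemma sum_cnt (f : ι' → κ) : ∑ i, cnt f i = Fintype.card ι' := by
  unfold cnt
  rw [← Finset.card_univ, Finset.card_eq_sum_card_fiberwise (f := f) (t := Finset.univ)]
  intro j _; exact Finset.mem_univ _

lemma exists_perm_of_cnt_eq (f f' : ι' → κ) (h : cnt f = cnt f') :
    ∃ σ : Equiv.Perm ι', f' = f ∘ σ := by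
  have hcard : ∀ c : κ, Fintype.card {j // f' j = c} = Fintype.card {j // f j = c} := by
    intro c
    have := congrFun h c
    unfold cnt at this
    rw [Fintype.card_subtype, Fintype.card_subtype]
    exact this.symm
  let ε : ∀ c : κ, {j // f' j = c} ≃ {j // f j = c} := fun c => Fintype.equivOfCardEq (hcard c)
  refine ⟨Equiv.ofFiberEquiv ε, ?_⟩
  funext j
  exact (Equiv.ofFiberEquiv_map ε j).symm

/-- the monomial `e^f` in the symmetric power -/
noncomputable def symMon (f : ι' → κ) : SymmetricPower R ι' M :=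
  SymmetricPower.tprod R fun j => e (f j)

lemma symMon_eq_of_cnt_eq (f f' : ι' → κ) (h : cnt f = cnt f') : symMon e f' = symMon e f := by
  obtain ⟨σ, rfl⟩ := exists_perm_of_cnt_eq f f' h
  unfold symMon
  exact SymmetricPower.tprod_equiv σ fun j => e (f j)

/-- the linear functional on the tensor power summing the coordinates of the monomials of
multidegree `q` -/
noncomputable def LT (q : κ → ℕ) : PiTensorProduct R (fun _ : ι' => M) →ₗ[R] R :=
  ∑ f ∈ Finset.univ.filter (fun f : ι' → κ => cnt f = q),
    (Basis.piTensorProduct fun _ : ι' => e).coord f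

lemma LT_tprod (q : κ → ℕ) (ω : ι' → M) :
    LT e q (PiTensorProduct.tprod R ω) =
      ∑ f ∈ Finset.univ.filter (fun f : ι' → κ => cnt f = q), ∏ j, e.repr (ω j) (f j) := by
  unfold LT
  rw [LinearMap.sum_apply]
  refine Finset.sum_congr rfl fun f _ => ?_
  rw [Module.Basis.coord_apply, Basis.piTensorProduct_repr_tprod_apply]

lemma LT_perm (q : κ → ℕ) (σ : Equiv.Perm ι') (ω : ι' → M) :
    LT e q (PiTensorProduct.tprod R fun j => ω (σ j)) = LT e q (PiTensorProduct.tprod R ω) := by
  rw [LT_tprod, LT_tprod]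
  refine Finset.sum_bij' (fun f _ => f ∘ σ.symm) (fun f _ => f ∘ σ) ?_ ?_ ?_ ?_ ?_
  · intro f hf
    simp only [Finset.mem_filter, Finset.mem_univ, true_and] at hf ⊢
    rw [cnt_comp_perm, hf]
  · intro f hf
    simp only [Finset.mem_filter, Finset.mem_univ, true_and] at hf ⊢
    rw [cnt_comp_perm, hf]
  · intro f _; funext j; simp
  · intro f _; funext j; simp
  · intro f _
    rw [← Equiv.prod_comp σ (fun j => e.repr (ω j) ((f ∘ σ.symm) j))]
    simp

/-- the coordinate functional of the monomials of multidegree `q` on the symmetric power -/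
noncomputable def symCoord (q : κ → ℕ) : SymmetricPower R ι' M →ₗ[R] R :=
  symLift ((LT e q).compMultilinearMap (PiTensorProduct.tprod R)) (fun σ ω => LT_perm e q σ ω)

lemma symCoord_mk (q : κ → ℕ) (y : PiTensorProduct R (fun _ : ι' => M)) :
    symCoord e q (SymmetricPower.mk R ι' M y) = LT e q y := by
  unfold symCoord
  rw [symLift_mk]
  congr 1
  apply PiTensorProduct.ext
  ext ω
  simp

lemma symCoord_symMon (q : κ → ℕ) (f₀ : ι' → κ) :
    symCoord e q (symMon e f₀) = if cnt f₀ = q then 1 else 0 := by
  unfold symMon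
  change symCoord e q (SymmetricPower.mk R ι' M (PiTensorProduct.tprod R fun j => e (f₀ j))) = _
  rw [symCoord_mk, LT_tprod]
  have h1 : ∀ f : ι' → κ, ∏ j, e.repr (e (f₀ j)) (f j) = if f = f₀ then (1 : R) else 0 := by
    intro f
    by_cases hf : f = f₀
    · subst hf; simp
    · rw [if_neg hf]
      obtain ⟨j, hj⟩ : ∃ j, f j ≠ f₀ j := by
        by_contra hcon
        push Not at hcon
        exact hf (funext hcon)
      refine Finset.prod_eq_zero (Finset.mem_univ j) ?_
      rw [Module.Basis.repr_self, Finsupp.single_apply, if_neg (Ne.symm hj)]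
  simp_rw [h1]
  rw [Finset.sum_ite_eq']
  simp

lemma LT_eq_sum_repr (q : κ → ℕ) (y : PiTensorProduct R (fun _ : ι' => M)) :
    LT e q y = ∑ f ∈ Finset.univ.filter (fun f : ι' → κ => cnt f = q),
      (Basis.piTensorProduct fun _ : ι' => e).repr y f := by
  unfold LT
  rw [LinearMap.sum_apply]
  rfl

/-- an element of the symmetric power all of whose monomial coordinates vanish is zero -/
theorem sym_eq_zero_of_symCoord (x : SymmetricPower R ι' M)
    (h : ∀ q : κ → ℕ, symCoord e q x = 0) : x = 0 := by
  obtain ⟨y, rfl⟩ : ∃ y, SymmetricPower.mk R ι' M y = x := AddCon.mk'_surjective x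
  set bT := Basis.piTensorProduct fun _ : ι' => e with hbT
  have hy : y = ∑ f : ι' → κ, bT.repr y f • bT f := (bT.sum_repr y).symm
  rw [hy, map_sum]
  have h2 : ∀ f : ι' → κ, SymmetricPower.mk R ι' M (bT.repr y f • bT f) =
      bT.repr y f • symMon e f := by
    intro f
    rw [map_smul, hbT, Basis.piTensorProduct_apply]
    rfl
  simp_rw [h2]
  rw [← Finset.sum_fiberwise_of_maps_to (s := Finset.univ) (t := Finset.univ.image cnt)
    (g := cnt) (fun f _ => Finset.mem_image_of_mem _ (Finset.mem_univ f))]
  refine Finset.sum_eq_zero fun q hq => ?_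
  obtain ⟨f₀, -, hf₀⟩ := Finset.mem_image.1 hq
  have h3 : ∀ f ∈ Finset.univ.filter (fun f : ι' → κ => cnt f = q),
      bT.repr y f • symMon e f = bT.repr y f • symMon e f₀ := by
    intro f hf
    rw [Finset.mem_filter] at hf
    rw [symMon_eq_of_cnt_eq e f₀ f (by rw [hf₀, hf.2])]
  rw [Finset.sum_congr rfl h3, ← Finset.sum_smul]
  have h4 := h q
  rw [symCoord_mk, LT_eq_sum_repr] at h4
  rw [h4, zero_smul]

end monomials

end Groth.Agent.LibPP29
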