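import Mathlib.LinearAlgebra.TensorPower.Symmetric
import Mathlib.Algebra.Algebra.Basic
import Groth.Agent.LibPP29a

/-!
# Symmetric powers over a ring and over a retract of it (helper29)

`B → T → B` ring maps composing to the identity, `M` a `T`-module on which `T` acts through
`π : T → B`. Then `Sym_B^ι M ≃ Sym_T^ι M` for nonempty `ι`:
`fwd`, `bwd`, `bwd_fwd`, `fwd_bwd`.
-/

set_option autoImplicit false
set_option linter.unusedSectionVars false
universe u v w

namespace Groth.Agent.LibSymComp29

open Groth.Agent.LibPP29

variable {B T : Type u} [CommRing B] [CommRing T] [Algebra B T] (π : T →+* B)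
  {M : Type v} [AddCommGroup M] [Module B M] [Module T M] [IsScalarTower B T M]
  (ι : Type u)

/-- `B` acts on `Sym_T` through `B → T`. -/
@[instance_reducible]
noncomputable def modBT : Module B (SymmetricPower T ι M) := Module.compHom _ (algebraMap B T)

/-- `T` acts on `Sym_B` through `π`. -/
@[instance_reducible]
noncomputable def modTB : Module T (SymmetricPower B ι M) := Module.compHom _ π

attribute [local instance] modBT

lemma smulBT (b : B) (x : SymmetricPower T ι M) : b • x = algebraMap B T b • x := rfl

noncomputable instance towerBT : IsScalarTower B T (SymmetricPower T ι M) :=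
  ⟨fun b t x => by
    show (b • t) • x = algebraMap B T b • (t • x)
    rw [Algebra.smul_def b t, mul_smul]⟩

/-- the comparison map `Sym_B M → Sym_T M`. -/
noncomputable def fwd : SymmetricPower B ι M →ₗ[B] SymmetricPower T ι M :=
  symLift ((SymmetricPower.tprod T (ι := ι) (M := M)).restrictScalars B)
    (fun σ f => SymmetricPower.tprod_equiv σ f)

lemma fwd_tprod (ω : ι → M) :
    fwd (B := B) (T := T) ι (SymmetricPower.tprod B ω) = SymmetricPower.tprod T ω := by
  unfold fwd
  rw [symLift_tprod]
  rfl

variable (hπ : ∀ b : B, π (algebraMap B T b) = b) (hM : ∀ (t : T) (m : M), t • m = π t • m)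

/-- `tprod_B` is `T`-multilinear when `T` acts through `π`. -/
noncomputable def gT :
    letI := modTB π (M := M) ι
    MultilinearMap T (fun _ : ι => M) (SymmetricPower B ι M) :=
  letI := modTB π (M := M) ι
  { toFun := SymmetricPower.tprod B
    map_update_add' := fun ω i x y => (SymmetricPower.tprod B).map_update_add ω i x y
    map_update_smul' := fun ω i t x => by
      rw [hM, MultilinearMap.map_update_smul]
      rfl }

/-- the comparison map `Sym_T M → Sym_B M`. -/
noncomputable def bwd :
    letI := modTB π (M := M) ι
    SymmetricPower T ι M →ₗ[T] SymmetricPower B ι M :=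
  letI := modTB π (M := M) ι
  symLift (gT π ι hM) (fun σ f => SymmetricPower.tprod_equiv σ f)

lemma bwd_tprod (ω : ι → M) :
    bwd π ι hM (SymmetricPower.tprod T ω) = SymmetricPower.tprod B ω := by
  letI := modTB π (M := M) ι
  unfold bwd
  rw [symLift_tprod]
  rfl

include hπ in
theorem bwd_fwd (y : SymmetricPower B ι M) : bwd π ι hM (fwd (B := B) (T := T) ι y) = y := by
  letI := modTB π (M := M) ι
  have hy : y ∈ Submodule.span B (Set.range (SymmetricPower.tprod B (ι := ι) (M := M))) := by
    rw [SymmetricPower.span_tprod_eq_top]; trivial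
  induction hy using Submodule.span_induction with
  | mem t ht =>
    obtain ⟨ω, rfl⟩ := ht
    rw [fwd_tprod, bwd_tprod]
  | zero => rw [map_zero, map_zero]
  | add a b _ _ ha hb => rw [map_add, map_add, ha, hb]
  | smul b a _ ha =>
    rw [map_smul, smulBT, map_smul, ha]
    show π (algebraMap B T b) • a = b • a
    rw [hπ]

include hM in
/-- on `Sym_T` in positive degree, `T` acts through `π`. -/
lemma smul_eq_algebraMap_smul [Nonempty ι] (t : T) (x : SymmetricPower T ι M) :
    t • x = algebraMap B T (π t) • x := by
  classical
  have hx : x ∈ Submodule.span T (Set.range (SymmetricPower.tprod T (ι := ι) (M := M))) := by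
    rw [SymmetricPower.span_tprod_eq_top]; trivial
  induction hx using Submodule.span_induction with
  | mem z hz =>
    obtain ⟨ω, rfl⟩ := hz
    obtain ⟨j⟩ := ‹Nonempty ι›
    have h1 : ∀ c : T, c • SymmetricPower.tprod T ω =
        SymmetricPower.tprod T (Function.update ω j (c • ω j)) := by
      intro c
      rw [MultilinearMap.map_update_smul, Function.update_eq_self]
    rw [h1 t, h1, hM t (ω j), algebraMap_smul]
  | zero => rw [smul_zero, smul_zero]
  | add a b _ _ ha hb => rw [smul_add, smul_add, ha, hb]
  | smul c a _ ha => rw [smul_comm, ha, smul_comm]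

theorem fwd_bwd [Nonempty ι] (x : SymmetricPower T ι M) :
    fwd (B := B) (T := T) ι (bwd π ι hM x) = x := by
  letI := modTB π (M := M) ι
  have hx : x ∈ Submodule.span T (Set.range (SymmetricPower.tprod T (ι := ι) (M := M))) := by
    rw [SymmetricPower.span_tprod_eq_top]; trivial
  induction hx using Submodule.span_induction with
  | mem z hz =>
    obtain ⟨ω, rfl⟩ := hz
    rw [bwd_tprod, fwd_tprod]
  | zero => rw [map_zero, map_zero]
  | add a b _ _ ha hb => rw [map_add, map_add, ha, hb]
  | smul t a _ ha =>
    rw [map_smul]
    show fwd (B := B) (T := T) ι (π t • bwd π ι hM a) = t • a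
    rw [map_smul, ha, smulBT, ← smul_eq_algebraMap_smul π ι hM]

include hπ hM in
theorem fwd_bijective [Nonempty ι] : Function.Bijective (fwd (B := B) (T := T) (M := M) ι) :=
  ⟨fun y y' h => by rw [← bwd_fwd π ι hπ hM y, h, bwd_fwd π ι hπ hM],
    fun x => ⟨bwd π ι hM x, fwd_bwd π ι hM x⟩⟩

end Groth.Agent.LibSymComp29
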