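import Mathlib.RingTheory.Ideal.Cotangent
import Mathlib.LinearAlgebra.Multilinear.Basic
import Groth.Prelude.Def_PP16
import Groth.Agent.LibPP29a

/-!
# The canonical map `Sym^n(J/J²) → J^n/J^(n+1)` for an ideal `J` (helper29)

* `phiJ J ι : SymmetricPower R ι J.Cotangent →ₗ[R] PP16.grJ R J (card ι)` with
  `phiJ_tprod : phiJ (tprod (toCotangent ∘ x)) = zetaJ x`;
* `phiJ_unique`, `phiJ_surjective`, `symGrBijective_iff`;
* `smul_eq_zero_of_mem` : `J` kills the symmetric powers (`ι` nonempty).
-/

set_option autoImplicit false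
set_option linter.unusedSectionVars false
universe u v w

namespace Groth.Agent.LibSymGr29

open Groth.Agent.LibPP29
open scoped BigOperators Pointwise

section ideal

variable {C : Type*} [CommRing C] (J : Ideal C)

lemma prod_sub_prod_mem {κ : Type*} [DecidableEq κ] (s : Finset κ) (x y : κ → C)
    (hx : ∀ j ∈ s, x j ∈ J) (hy : ∀ j ∈ s, y j ∈ J) (hxy : ∀ j ∈ s, x j - y j ∈ J ^ 2) :
    ∏ j ∈ s, x j - ∏ j ∈ s, y j ∈ J ^ (s.card + 1) := by
  induction s using Finset.induction_on with
  | empty => simp
  | insert a s ha ih =>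
    rw [Finset.prod_insert ha, Finset.prod_insert ha, Finset.card_insert_of_notMem ha]
    have h1 : x a * ∏ j ∈ s, x j - y a * ∏ j ∈ s, y j =
        (x a - y a) * ∏ j ∈ s, x j + y a * (∏ j ∈ s, x j - ∏ j ∈ s, y j) := by ring
    rw [h1]
    have hs : ∏ j ∈ s, x j ∈ J ^ s.card := by
      have := Ideal.prod_mem_prod (s := s) (I := fun _ => J) (x := x)
        (fun j hj => hx j (Finset.mem_insert_of_mem hj))
      simpa using this
    refine Ideal.add_mem _ ?_ ?_
    · have := Ideal.mul_mem_mul (hxy a (Finset.mem_insert_self a s)) hs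
      rwa [← pow_add, show 2 + s.card = s.card + 1 + 1 by ring] at this
    · have h2 := ih (fun j hj => hx j (Finset.mem_insert_of_mem hj))
        (fun j hj => hy j (Finset.mem_insert_of_mem hj))
        (fun j hj => hxy j (Finset.mem_insert_of_mem hj))
      have := Ideal.mul_mem_mul (hy a (Finset.mem_insert_self a s)) h2
      rwa [← pow_succ'] at this

end ideal

section canonical

variable {R : Type u} [CommRing R] (J : Ideal R) (ι : Type u) [Fintype ι]

/-- the class map `J^n → J^n/J^(n+1)` -/
noncomputable def grmk (n : ℕ) : ↥(J ^ n) →ₗ[R] PP16.grJ R J n :=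
  Submodule.mkQ _

lemma grmk_eq_zero_iff (n : ℕ) (w : ↥(J ^ n)) : grmk J n w = 0 ↔ (w : R) ∈ J ^ (n + 1) := by
  unfold grmk
  rw [Submodule.mkQ_apply, Submodule.Quotient.mk_eq_zero]
  rfl

lemma grmk_surjective (n : ℕ) : Function.Surjective (grmk J n) := Submodule.mkQ_surjective _

lemma grmk_eq_of_sub_mem (n : ℕ) (w₁ w₂ : ↥(J ^ n)) (h : (w₁ : R) - w₂ ∈ J ^ (n + 1)) :
    grmk J n w₁ = grmk J n w₂ := by
  rw [← sub_eq_zero, ← map_sub, grmk_eq_zero_iff]
  exact h

lemma prod_mem (x : ι → ↥J) : ∏ i, (x i : R) ∈ J ^ (Fintype.card ι) := by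
  simpa using PP16.prod_mem_pow J Finset.univ (fun i => (x i : R)) (fun i _ => (x i).2)

lemma zetaJ_eq (x : ι → ↥J) :
    PP16.zetaJ R J x = grmk J (Fintype.card ι) ⟨∏ i, (x i : R), prod_mem J ι x⟩ := rfl

/-- the product map on `J`, multilinear with values in `J^n`. -/
noncomputable def prodJ : MultilinearMap R (fun _ : ι => ↥J) ↥(J ^ (Fintype.card ι)) :=
  (((MultilinearMap.mkPiAlgebra R ι R).compLinearMap (fun _ => J.subtype)).codRestrict
    (J ^ (Fintype.card ι)) (fun x => by
      simp only [MultilinearMap.compLinearMap_apply, MultilinearMap.mkPiAlgebra_apply]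
      exact prod_mem J ι x))

lemma prodJ_coe (x : ι → ↥J) : ((prodJ J ι x : ↥(J ^ (Fintype.card ι))) : R) = ∏ i, (x i : R) := by
  unfold prodJ
  simp

/-- `x ↦ ζ(x)` as a multilinear map on `J`. -/
noncomputable def g0 : MultilinearMap R (fun _ : ι => ↥J) (PP16.grJ R J (Fintype.card ι)) :=
  (grmk J (Fintype.card ι)).compMultilinearMap (prodJ J ι)

lemma g0_apply (x : ι → ↥J) : g0 J ι x = PP16.zetaJ R J x := by
  unfold g0
  rw [LinearMap.compMultilinearMap_apply, zetaJ_eq]
  congr 1

lemma zetaJ_congr (x y : ι → ↥J) (h : ∀ j, J.toCotangent (x j) = J.toCotangent (y j)) :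
    PP16.zetaJ R J x = PP16.zetaJ R J y := by
  classical
  rw [zetaJ_eq, zetaJ_eq]
  refine grmk_eq_of_sub_mem J _ _ _ ?_
  have := prod_sub_prod_mem J Finset.univ (fun j => (x j : R)) (fun j => (y j : R))
    (fun j _ => (x j).2) (fun j _ => (y j).2) (fun j _ => (Ideal.toCotangent_eq J).1 (h j))
  rwa [Finset.card_univ] at this

/-- a section of `J → J/J²`. -/
noncomputable def out (ω : J.Cotangent) : ↥J := Function.surjInv J.toCotangent_surjective ω

lemma toCotangent_out (ω : J.Cotangent) : J.toCotangent (out J ω) = ω :=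
  Function.surjInv_eq J.toCotangent_surjective ω

/-- `ζ` descended to the cotangent module. -/
noncomputable def G : MultilinearMap R (fun _ : ι => J.Cotangent)
    (PP16.grJ R J (Fintype.card ι)) where
  toFun ω := PP16.zetaJ R J (fun j => out J (ω j))
  map_update_add' := by
    intro _ ω j a b
    have e2 : ∀ c : J.Cotangent, ∀ c' : ↥J, J.toCotangent c' = c →
        PP16.zetaJ R J (fun k => out J (Function.update ω j c k)) =
        g0 J ι (Function.update (fun k => out J (ω k)) j c') := by
      intro c c' hc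
      rw [g0_apply]
      refine zetaJ_congr J ι _ _ fun k => ?_
      rw [toCotangent_out]
      by_cases hk : k = j
      · subst hk
        simp [hc]
      · simp [Function.update_of_ne hk, toCotangent_out]
    show PP16.zetaJ R J (fun k => out J (Function.update ω j (a + b) k)) =
      PP16.zetaJ R J (fun k => out J (Function.update ω j a k)) +
        PP16.zetaJ R J (fun k => out J (Function.update ω j b k))
    rw [e2 (a + b) (out J a + out J b) (by rw [map_add, toCotangent_out, toCotangent_out]),
      e2 a (out J a) (toCotangent_out J a), e2 b (out J b) (toCotangent_out J b)]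
    exact (g0 J ι).map_update_add (fun k => out J (ω k)) j (out J a) (out J b)
  map_update_smul' := by
    intro _ ω j c a
    have e2 : ∀ c : J.Cotangent, ∀ c' : ↥J, J.toCotangent c' = c →
        PP16.zetaJ R J (fun k => out J (Function.update ω j c k)) =
        g0 J ι (Function.update (fun k => out J (ω k)) j c') := by
      intro c c' hc
      rw [g0_apply]
      refine zetaJ_congr J ι _ _ fun k => ?_
      rw [toCotangent_out]
      by_cases hk : k = j
      · subst hk
        simp [hc]
      · simp [Function.update_of_ne hk, toCotangent_out]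
    show PP16.zetaJ R J (fun k => out J (Function.update ω j (c • a) k)) =
      c • PP16.zetaJ R J (fun k => out J (Function.update ω j a k))
    rw [e2 (c • a) (c • out J a) (by rw [map_smul, toCotangent_out]),
      e2 a (out J a) (toCotangent_out J a)]
    exact (g0 J ι).map_update_smul (fun k => out J (ω k)) j c (out J a)

lemma G_apply (x : ι → ↥J) : G J ι (fun j => J.toCotangent (x j)) = PP16.zetaJ R J x :=
  zetaJ_congr J ι _ _ fun _ => toCotangent_out J _

lemma G_perm (σ : Equiv.Perm ι) (ω : ι → J.Cotangent) :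
    G J ι (fun j => ω (σ j)) = G J ι ω := by
  change PP16.zetaJ R J (fun j => out J (ω (σ j))) = PP16.zetaJ R J (fun j => out J (ω j))
  rw [zetaJ_eq, zetaJ_eq]
  congr 1
  apply Subtype.ext
  exact Equiv.prod_comp σ (fun j => ((out J (ω j) : ↥J) : R))

/-- the canonical map `Sym^ι(J/J²) → J^n/J^(n+1)`. -/
noncomputable def phiJ : SymmetricPower R ι J.Cotangent →ₗ[R] PP16.grJ R J (Fintype.card ι) :=
  symLift (G J ι) (G_perm J ι)

lemma phiJ_tprod' (ω : ι → J.Cotangent) :
    phiJ J ι (SymmetricPower.tprod R ω) = G J ι ω := by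
  unfold phiJ
  rw [symLift_tprod]

lemma phiJ_tprod (x : ι → ↥J) :
    phiJ J ι (SymmetricPower.tprod R fun j => J.toCotangent (x j)) = PP16.zetaJ R J x := by
  rw [phiJ_tprod', G_apply]


lemma phiJ_unique (φ : SymmetricPower R ι J.Cotangent →ₗ[R] PP16.grJ R J (Fintype.card ι))
    (hφ : ∀ x : ι → ↥J, φ (SymmetricPower.tprod R fun j => J.toCotangent (x j)) =
      PP16.zetaJ R J x) : φ = phiJ J ι := by
  refine LinearMap.ext_on (SymmetricPower.span_tprod_eq_top (R := R) (ι := ι) (M := J.Cotangent)) ?_
  rintro _ ⟨ω, rfl⟩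
  have hω : ω = fun j => J.toCotangent (out J (ω j)) := funext fun j => (toCotangent_out J _).symm
  rw [hω, hφ, phiJ_tprod]

lemma phiJ_surjective : Function.Surjective (phiJ J ι) := by
  classical
  intro y
  obtain ⟨w', rfl⟩ := grmk_surjective J _ y
  have h1 : Submodule.span R ((J : Set R) ^ (Fintype.card ι)) = J ^ (Fintype.card ι) :=
    (Submodule.pow_eq_span_pow_set (R := R) (A := R) J (Fintype.card ι)).symm
  have key : ∀ (u : R) (hu : u ∈ Submodule.span R ((J : Set R) ^ (Fintype.card ι))),
      grmk J (Fintype.card ι) ⟨u, h1.le hu⟩ ∈ LinearMap.range (phiJ J ι) := by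
    intro u hu
    induction hu using Submodule.span_induction with
    | mem t ht =>
      rw [Set.mem_pow] at ht
      obtain ⟨f, rfl⟩ := ht
      let e := Fintype.equivFin ι
      refine ⟨SymmetricPower.tprod R fun j => J.toCotangent ⟨(f (e j) : R), (f (e j)).2⟩, ?_⟩
      rw [phiJ_tprod, zetaJ_eq]
      congr 1
      apply Subtype.ext
      change ∏ j, ((f (e j) : R)) = (List.ofFn fun i => (f i : R)).prod
      rw [List.prod_ofFn, Equiv.prod_comp e (fun i => (f i : R))]
    | zero =>
      have : (⟨0, h1.le (zero_mem _)⟩ : ↥(J ^ (Fintype.card ι))) = 0 := rfl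
      rw [this, map_zero]
      exact zero_mem _
    | add s t hs' ht' hs ht =>
      have : (⟨s + t, h1.le (add_mem hs' ht')⟩ : ↥(J ^ (Fintype.card ι))) =
          ⟨s, h1.le hs'⟩ + ⟨t, h1.le ht'⟩ := rfl
      rw [this, map_add]
      exact add_mem hs ht
    | smul c t ht' ht =>
      have : (⟨c • t, h1.le (Submodule.smul_mem _ c ht')⟩ : ↥(J ^ (Fintype.card ι))) =
          c • ⟨t, h1.le ht'⟩ := rfl
      rw [this, map_smul]
      exact Submodule.smul_mem _ _ ht
  obtain ⟨x, hx⟩ := key w'.1 (h1.ge w'.2)
  exact ⟨x, hx⟩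

end canonical

section criterion

variable {R : Type u} [CommRing R] (J : Ideal R)

theorem symGrBijective_iff :
    PP16.SymGrBijective R J ↔
      ∀ (ι : Type u) [Fintype ι] [Nonempty ι], Function.Injective (phiJ J ι) := by
  constructor
  · intro h ι _ _
    obtain ⟨φ, hφ, hbij⟩ := h ι
    rw [← phiJ_unique J ι φ hφ]
    exact hbij.1
  · intro h ι _ _
    exact ⟨phiJ J ι, phiJ_tprod J ι, h ι, phiJ_surjective J ι⟩

variable (ι : Type u) [Fintype ι]

/-- `J` kills the symmetric powers of `J/J²` in positive degree. -/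
lemma smul_eq_zero_of_mem [Nonempty ι] {c : R} (hc : c ∈ J)
    (x : SymmetricPower R ι J.Cotangent) : c • x = 0 := by
  classical
  have hspan := SymmetricPower.span_tprod_eq_top (R := R) (ι := ι) (M := J.Cotangent)
  have hx : x ∈ Submodule.span R (Set.range (SymmetricPower.tprod R (ι := ι) (M := J.Cotangent))) := by
    rw [hspan]; trivial
  induction hx using Submodule.span_induction with
  | mem t ht =>
    obtain ⟨ω, rfl⟩ := ht
    obtain ⟨j⟩ := ‹Nonempty ι›
    have h1 : c • SymmetricPower.tprod R ω =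
        SymmetricPower.tprod R (Function.update ω j (c • ω j)) := by
      rw [MultilinearMap.map_update_smul, Function.update_eq_self]
    have h2 : c • ω j = 0 := by
      obtain ⟨y, hy⟩ := J.toCotangent_surjective (ω j)
      rw [← hy, ← map_smul, Ideal.toCotangent_eq_zero, pow_two]
      exact Ideal.mul_mem_mul hc y.2
    rw [h1, h2]
    exact MultilinearMap.map_coord_zero _ j (Function.update_self j 0 ω)
  | zero => rw [smul_zero]
  | add s t _ _ hs ht => rw [smul_add, hs, ht, add_zero]
  | smul d t _ ht => rw [smul_comm, ht, smul_zero]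

end criterion

end Groth.Agent.LibSymGr29
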