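import Mathlib.RingTheory.MvPolynomial.Homogeneous
import Mathlib.Data.Finsupp.Multiset
import Groth.Agent.LibSymGr29a

/-!
# Monomials in symmetric powers and homogeneous polynomials (helper29)

For a family `v : κ → M`:
* `expo f : κ →₀ ℕ` the exponent vector of `f : ι → κ`;
* `Psi v : MvPolynomial κ R →ₗ[R] SymmetricPower R ι M` with
  `Psi v (monomial (expo f) 1) = tprod (v ∘ f)`;
* `PlSym ℓ : SymmetricPower R ι M →ₗ[R] Λ`, `tprod ω ↦ ∏ ℓ (ω j)`;
* `exists_pow_smul_eq_Psi` : if `g`-power multiples of all elements of `M` lie in the span of `v`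
  then `g`-power multiples of all elements of `Sym M` are of the form `Psi v P`, `P` homogeneous.
-/

set_option autoImplicit false
set_option linter.unusedSectionVars false
universe u v w

namespace Groth.Agent.LibSymGr29

open Groth.Agent.LibPP29 MvPolynomial
open scoped BigOperators

section expo

variable {ι : Type u} [Fintype ι] {κ : Type w} [DecidableEq κ]

/-- the exponent vector of `f : ι → κ`. -/
noncomputable def expo (f : ι → κ) : κ →₀ ℕ := Multiset.toFinsupp (Finset.univ.val.map f)

lemma expo_apply [DecidableEq ι] (f : ι → κ) (i : κ) : expo f i = cnt f i := by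
  unfold expo cnt
  rw [Multiset.toFinsupp_apply, Multiset.count_map]
  simp only [eq_comm]
  congr

lemma degree_expo (f : ι → κ) : (expo f).degree = Fintype.card ι := by
  unfold expo
  have h1 := Finsupp.card_toMultiset (Multiset.toFinsupp (Finset.univ.val.map f))
  rw [Multiset.toFinsupp_toMultiset, Multiset.card_map] at h1
  rw [Finsupp.degree_apply]
  rw [Finsupp.sum] at h1
  simp only [id_eq, Finset.card_val, Finset.card_univ] at h1
  exact h1.symm

lemma prod_X_eq (R : Type*) [CommSemiring R] (f : ι → κ) :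
    ∏ j, (X (f j) : MvPolynomial κ R) = monomial (expo f) 1 := by
  have key : ∀ s : Multiset κ, (s.map (X : κ → MvPolynomial κ R)).prod =
      monomial (Multiset.toFinsupp s) 1 := by
    intro s
    induction s using Multiset.induction_on with
    | empty => simp
    | cons k s ih =>
      rw [Multiset.map_cons, Multiset.prod_cons, ih, ← Multiset.singleton_add, map_add,
        Multiset.toFinsupp_singleton, X, monomial_mul, one_mul]
  unfold expo
  rw [← key, Multiset.map_map]
  rfl

lemma exists_perm_of_expo_eq [DecidableEq ι] (f f' : ι → κ) (h : expo f = expo f') :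
    ∃ σ : Equiv.Perm ι, f' = f ∘ σ := by
  have hcard : ∀ c : κ, Fintype.card {j // f' j = c} = Fintype.card {j // f j = c} := by
    intro c
    have := DFunLike.congr_fun h c
    rw [expo_apply, expo_apply] at this
    unfold cnt at this
    rw [Fintype.card_subtype, Fintype.card_subtype]
    exact this.symm
  let ε : ∀ c : κ, {j // f' j = c} ≃ {j // f j = c} := fun c => Fintype.equivOfCardEq (hcard c)
  refine ⟨Equiv.ofFiberEquiv ε, ?_⟩
  funext j
  exact (Equiv.ofFiberEquiv_map ε j).symm

lemma exists_expo_eq [Fintype κ] (d : κ →₀ ℕ) (hd : d.degree = Fintype.card ι) :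
    ∃ f : ι → κ, expo f = d := by
  classical
  have hp : ∑ i, d i = Fintype.card ι := by rw [← hd, Finsupp.degree_eq_sum]
  have hcard : Fintype.card ι = Fintype.card (Σ i : κ, Fin (d i)) := by
    rw [Fintype.card_sigma, ← hp]
    simp
  let e : ι ≃ Σ i : κ, Fin (d i) := Fintype.equivOfCardEq hcard
  refine ⟨fun j => (e j).1, ?_⟩
  ext i
  rw [expo_apply]
  unfold cnt
  rw [← Fintype.card_subtype]
  have e2 : {j : ι // (e j).1 = i} ≃ {s : (Σ i : κ, Fin (d i)) // s.1 = i} :=
    e.subtypeEquiv (fun j => Iff.rfl)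
  rw [Fintype.card_congr e2, Fintype.card_congr (Equiv.sigmaSubtype i)]
  simp

end expo

section Psi

variable {R ι : Type u} [CommRing R] [Fintype ι] [DecidableEq ι]
  {M : Type v} [AddCommGroup M] [Module R M]
  {κ : Type w} [DecidableEq κ] (v : κ → M)

/-- monomial tensors in the family `v`. -/
noncomputable def mon (f : ι → κ) : SymmetricPower R ι M :=
  SymmetricPower.tprod R fun j => v (f j)

lemma mon_eq_of_expo_eq (f f' : ι → κ) (h : expo f = expo f') :
    mon (R := R) v f' = mon v f := by
  obtain ⟨σ, rfl⟩ := exists_perm_of_expo_eq f f' h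
  exact SymmetricPower.tprod_equiv σ fun j => v (f j)

variable (R ι) in
/-- the monomial tensor with exponent `d` (zero if the degree is wrong). -/
noncomputable def PsiB (d : κ →₀ ℕ) : SymmetricPower R ι M := by
  classical
  exact if h : ∃ f : ι → κ, expo f = d then mon v h.choose else 0

lemma PsiB_expo (f : ι → κ) : PsiB R ι v (expo f) = mon v f := by
  have h : ∃ f' : ι → κ, expo f' = expo f := ⟨f, rfl⟩
  unfold PsiB
  rw [dif_pos h]
  exact mon_eq_of_expo_eq v _ _ h.choose_spec.symm

variable (R ι) in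
/-- polynomials to symmetric tensors: `X^(expo f) ↦ v^f`. -/
noncomputable def Psi : MvPolynomial κ R →ₗ[R] SymmetricPower R ι M :=
  (MvPolynomial.basisMonomials κ R).constr R (PsiB R ι v)

lemma Psi_monomial (d : κ →₀ ℕ) (c : R) : Psi R ι v (monomial d c) = c • PsiB R ι v d := by
  have h1 : (monomial d c : MvPolynomial κ R) = c • MvPolynomial.basisMonomials κ R d := by
    rw [MvPolynomial.coe_basisMonomials, smul_monomial, smul_eq_mul, mul_one]
  unfold Psi
  rw [h1, map_smul, Module.Basis.constr_basis]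

lemma Psi_apply (P : MvPolynomial κ R) :
    Psi R ι v P = ∑ d ∈ P.support, P.coeff d • PsiB R ι v d := by
  conv_lhs => rw [P.as_sum]
  rw [map_sum]
  exact Finset.sum_congr rfl fun d _ => Psi_monomial v d _

lemma Psi_monomial_expo (f : ι → κ) (c : R) :
    Psi R ι v (monomial (expo f) c) = c • mon v f := by
  rw [Psi_monomial, PsiB_expo]

/-- `Psi` of a product of linear forms. -/
lemma Psi_prod_linear [Fintype κ] (s : ι → κ → R) :
    Psi R ι v (∏ j, ∑ i, C (s j i) * X i) =
      SymmetricPower.tprod R (fun j => ∑ i, s j i • v i) := by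
  rw [Finset.prod_univ_sum, map_sum, MultilinearMap.map_sum]
  simp only [Fintype.piFinset_univ]
  refine Finset.sum_congr rfl fun f _ => ?_
  rw [Finset.prod_mul_distrib, prod_X_eq, ← map_prod, C_mul_monomial, mul_one, Psi_monomial_expo,
    MultilinearMap.map_smul_univ]
  rfl

lemma isHomogeneous_prod_linear [Fintype κ] (s : ι → κ → R) :
    (∏ j, ∑ i, C (s j i) * X i : MvPolynomial κ R).IsHomogeneous (Fintype.card ι) := by
  have h1 := MvPolynomial.IsHomogeneous.prod Finset.univ
    (fun j => (∑ i, C (s j i) * X i : MvPolynomial κ R)) (fun _ => 1)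
    (fun j _ => MvPolynomial.IsHomogeneous.sum _ _ _ fun i _ =>
      MvPolynomial.isHomogeneous_C_mul_X _ _)
  simpa using h1

/-- if `g`-power multiples of all elements of `M` lie in the span of `v`, then `g`-power multiples
of symmetric tensors are polynomials in `v`. -/
theorem exists_pow_smul_eq_Psi [Fintype κ] (g : R)
    (hspan : ∀ m : M, ∃ k : ℕ, g ^ k • m ∈ Submodule.span R (Set.range v))
    (x : SymmetricPower R ι M) :
    ∃ (k : ℕ) (P : MvPolynomial κ R), P.IsHomogeneous (Fintype.card ι) ∧
      g ^ k • x = Psi R ι v P := by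
  have hx : x ∈ Submodule.span R (Set.range (SymmetricPower.tprod R (ι := ι) (M := M))) := by
    rw [SymmetricPower.span_tprod_eq_top]; trivial
  induction hx using Submodule.span_induction with
  | mem t ht =>
    obtain ⟨ω, rfl⟩ := ht
    choose k hk using fun j => hspan (ω j)
    choose s hs using fun j => (Submodule.mem_span_range_iff_exists_fun R).1 (hk j)
    refine ⟨∑ j, k j, ∏ j, ∑ i, C (s j i) * X i, isHomogeneous_prod_linear s, ?_⟩
    rw [Psi_prod_linear]
    simp only [hs]
    rw [MultilinearMap.map_smul_univ, Finset.prod_pow_eq_pow_sum]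
  | zero => exact ⟨0, 0, MvPolynomial.isHomogeneous_zero _ _ _, by simp⟩
  | add a b _ _ ha hb =>
    obtain ⟨k1, P1, hP1, h1⟩ := ha
    obtain ⟨k2, P2, hP2, h2⟩ := hb
    refine ⟨k1 + k2, g ^ k2 • P1 + g ^ k1 • P2, ?_, ?_⟩
    · refine MvPolynomial.IsHomogeneous.add ?_ ?_
      · rw [MvPolynomial.smul_eq_C_mul]; exact hP1.C_mul _
      · rw [MvPolynomial.smul_eq_C_mul]; exact hP2.C_mul _
    · rw [map_add, map_smul, map_smul, ← h1, ← h2, smul_add, smul_smul, smul_smul, ← pow_add,
        ← pow_add, add_comm k2 k1]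
  | smul c a _ ha =>
    obtain ⟨k, P, hP, h⟩ := ha
    refine ⟨k, c • P, ?_, ?_⟩
    · rw [MvPolynomial.smul_eq_C_mul]; exact hP.C_mul _
    · rw [map_smul, ← h, smul_comm]

end Psi

section PlSym

variable {R ι : Type u} [CommRing R] [Fintype ι] [DecidableEq ι]
  {M : Type v} [AddCommGroup M] [Module R M]
  {Λ : Type w} [CommRing Λ] [Algebra R Λ]

/-- the product map `ω₁ ⋯ ω_n ↦ ∏ ℓ(ω_j)` on the symmetric power. -/
noncomputable def PlSym (ℓ : M →ₗ[R] Λ) : SymmetricPower R ι M →ₗ[R] Λ :=
  symLift ((MultilinearMap.mkPiAlgebra R ι Λ).compLinearMap (fun _ => ℓ)) (fun σ f => by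
    simp only [MultilinearMap.compLinearMap_apply, MultilinearMap.mkPiAlgebra_apply]
    exact Equiv.prod_comp σ (fun j => ℓ (f j)))

lemma PlSym_tprod (ℓ : M →ₗ[R] Λ) (ω : ι → M) :
    PlSym ℓ (SymmetricPower.tprod R ω) = ∏ j, ℓ (ω j) := by
  unfold PlSym
  rw [symLift_tprod]
  simp

end PlSym

section coord

variable {R ι : Type u} [CommRing R] [Fintype ι] [DecidableEq ι]
  {M : Type v} [AddCommGroup M] [Module R M]
  {κ : Type w} [DecidableEq κ] [Fintype κ] (v : κ → M)
  {Λ₀ : Type*} [CommRing Λ₀] [Algebra R Λ₀]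

/-- coordinates: if `ℓ (v i) = X i` then `PlSym ℓ ∘ Psi v` is the coefficient map on homogeneous
polynomials of the right degree. -/
theorem PlSym_Psi (ℓ : M →ₗ[R] MvPolynomial κ Λ₀) (hℓ : ∀ i, ℓ (v i) = X i)
    (P : MvPolynomial κ R) (hP : P.IsHomogeneous (Fintype.card ι)) :
    PlSym ℓ (Psi R ι v P) = MvPolynomial.map (algebraMap R Λ₀) P := by
  rw [Psi_apply, map_sum]
  conv_rhs => rw [P.as_sum, map_sum]
  refine Finset.sum_congr rfl fun d hd => ?_
  have hdeg : d.degree = Fintype.card ι := by
    by_contra hne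
    exact (MvPolynomial.mem_support_iff.mp hd) (hP.coeff_eq_zero hne)
  obtain ⟨f, rfl⟩ := exists_expo_eq (ι := ι) d hdeg
  rw [map_smul, PsiB_expo, mon, PlSym_tprod]
  simp only [hℓ]
  rw [prod_X_eq, MvPolynomial.map_monomial, smul_monomial, Algebra.smul_def, mul_one]

end coord

section phiJPsi

variable {R ι : Type u} [CommRing R] [Fintype ι] [DecidableEq ι] (J : Ideal R)
  {κ : Type w} [DecidableEq κ] [Fintype κ] (a : κ → ↥J)

/-- the classes of the family `a` in the cotangent module. -/
noncomputable def cls : κ → J.Cotangent := fun i => J.toCotangent (a i)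

lemma eval_mem_pow {n : ℕ} (P : MvPolynomial κ R) (hP : P.IsHomogeneous n) :
    eval (fun i => (a i : R)) P ∈ J ^ n := by
  have h1 : eval (fun i => (a i : R)) P ∈ Ideal.span (Set.range fun i => (a i : R)) ^ n :=
    (Ideal.mem_span_pow_iff_exists_isHomogeneous _ _).2 ⟨P, hP, rfl⟩
  refine Ideal.pow_right_mono ?_ n h1
  rw [Ideal.span_le]
  rintro _ ⟨i, rfl⟩
  exact (a i).2

lemma phiJ_mon (f : ι → κ) :
    phiJ J ι (mon (cls J a) f) =
      grmk J (Fintype.card ι) ⟨∏ j, (a (f j) : R), prod_mem J ι fun j => a (f j)⟩ := by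
  unfold mon cls
  rw [phiJ_tprod, zetaJ_eq]

variable (ι) in
/-- the value of a monomial at `a`, as an element of `J^n` (zero if the degree is wrong). -/
noncomputable def wmon (d : κ →₀ ℕ) : ↥(J ^ (Fintype.card ι)) := by
  classical
  exact if h : d.degree = Fintype.card ι then
    ⟨eval (fun i => (a i : R)) (monomial d 1),
      eval_mem_pow J a _ (isHomogeneous_monomial 1 h)⟩ else 0

lemma wmon_coe (d : κ →₀ ℕ) (h : d.degree = Fintype.card ι) :
    ((wmon ι J a d : ↥(J ^ (Fintype.card ι))) : R) = eval (fun i => (a i : R)) (monomial d 1) := by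
  unfold wmon
  rw [dif_pos h]

theorem phiJ_Psi (P : MvPolynomial κ R) (hP : P.IsHomogeneous (Fintype.card ι)) :
    phiJ J ι (Psi R ι (cls J a) P) =
      grmk J (Fintype.card ι) ⟨eval (fun i => (a i : R)) P, eval_mem_pow J a P hP⟩ := by
  rw [Psi_apply, map_sum]
  have hdeg : ∀ d ∈ P.support, d.degree = Fintype.card ι := by
    intro d hd
    by_contra hne
    exact (MvPolynomial.mem_support_iff.mp hd) (hP.coeff_eq_zero hne)
  have h1 : ∀ d ∈ P.support, phiJ J ι (P.coeff d • PsiB R ι (cls J a) d) =
      grmk J (Fintype.card ι) (P.coeff d • wmon ι J a d) := by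
    intro d hd
    have hd' := hdeg d hd
    obtain ⟨f, rfl⟩ := exists_expo_eq (ι := ι) d hd'
    rw [map_smul, map_smul, PsiB_expo, phiJ_mon]
    congr 2
    apply Subtype.ext
    rw [wmon_coe J a _ hd']
    change ∏ j, (a (f j) : R) = eval (fun i => (a i : R)) (monomial (expo f) 1)
    rw [← prod_X_eq, map_prod]
    simp
  rw [Finset.sum_congr rfl h1, ← map_sum]
  congr 1
  apply Subtype.ext
  rw [Submodule.coe_sum]
  change _ = eval (fun i => (a i : R)) P
  conv_rhs => rw [P.as_sum, map_sum]
  refine Finset.sum_congr rfl fun d hd => ?_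
  rw [Submodule.coe_smul, wmon_coe J a d (hdeg d hd), smul_eq_mul, eval_monomial, eval_monomial,
    one_mul]

end phiJPsi

end Groth.Agent.LibSymGr29
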