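import Groth.Agent.LibPP29l
import Groth.Agent.LibSymGr29b
import Groth.Agent.LibSymComp29

/-!
# Symmetric powers of a retract of a free module, and symmetric powers over a quotient ring
(helper29)

* `mk_eq_zero_of_Theta_eq_zero`: `M` a retract (`π ∘ i = id`) of a free module `F` with basis `e`;
  a tensor `y ∈ M^{⊗ ι}` whose polynomial `Theta e (i^{⊗ι} y)` vanishes has zero class in `Sym^ι M`.
* `PlSym_mk`, `eq_zero_of_PlSym_eq_zero`: the same statement on the symmetric power.
* `fwdQ_injective`: for an ideal `J` of `B` and a `B ⧸ J`-module `M`, the comparison map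
  `Sym_B^ι M → Sym_{B/J}^ι M` is injective for nonempty `ι`.
-/

set_option autoImplicit false
set_option linter.unusedSectionVars false
universe u v w

namespace Groth.Agent.LibAdicSym29

open Groth.Agent.LibPP29 Groth.Agent.LibSymGr29
open scoped BigOperators

section retract

variable {R : Type u} [CommRing R] {M : Type u} [AddCommGroup M] [Module R M]
variable {κ : Type w} [DecidableEq κ] {F : Type u} [AddCommGroup F] [Module R F]
variable (e : Module.Basis κ R F) (π : F →ₗ[R] M) (i : M →ₗ[R] F)
variable {ι' : Type u} [Fintype ι'] [DecidableEq ι']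

/-- a tensor whose polynomial vanishes has zero class in the symmetric power -/
theorem mk_eq_zero_of_Theta_eq_zero (hπi : ∀ ω, π (i ω) = ω)
    (y : PiTensorProduct R (fun _ : ι' => M))
    (h6 : Theta e (PiTensorProduct.map (fun _ : ι' => i) y) = 0) :
    SymmetricPower.mk R ι' _ y = 0 := by
  set y' := PiTensorProduct.map (fun _ : ι' => i) y with hy'def
  set eT := Basis.piTensorProduct fun _ : ι' => e with heT
  set c := eT.repr y' with hc
  have hy' : y' = ∑ f ∈ c.support, c f • eT f := by
    conv_lhs => rw [← eT.linearCombination_repr y']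
    rw [Finsupp.linearCombination_apply, Finsupp.sum]
  set cm : (ι' → κ) → Multiset κ := fun f => Finset.univ.val.map f with hcm
  have h7 : ∀ s : Multiset κ, ∑ f ∈ c.support.filter (fun f => cm f = s), c f = 0 := by
    intro s
    have h8 := congrArg (MvPolynomial.coeff (Multiset.toFinsupp s)) h6
    rw [hy', map_sum, MvPolynomial.coeff_sum, MvPolynomial.coeff_zero] at h8
    rw [← h8, Finset.sum_filter]
    refine Finset.sum_congr rfl fun f _ => ?_
    rw [map_smul, heT, Basis.piTensorProduct_apply, Theta_basis, MvPolynomial.coeff_smul,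
      MvPolynomial.coeff_monomial]
    by_cases h : cm f = s
    · rw [if_pos h, if_pos (by rw [← h]), smul_eq_mul, mul_one]
    · rw [if_neg h, if_neg (fun h' => h (Multiset.toFinsupp.injective h')), smul_zero]
  have hy : y = PiTensorProduct.map (fun _ : ι' => π) y' := by
    rw [hy'def, ← LinearMap.comp_apply, ← PiTensorProduct.map_comp]
    have : (fun _ : ι' => π ∘ₗ i) = fun _ => LinearMap.id := funext fun _ => LinearMap.ext hπi
    rw [this, PiTensorProduct.map_id]
    rfl
  rw [hy, hy', map_sum, map_sum]
  rw [← Finset.sum_fiberwise_of_maps_to (s := c.support) (t := c.support.image cm) (g := cm)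
    (fun f hf => Finset.mem_image_of_mem _ hf)]
  refine Finset.sum_eq_zero fun s hs => ?_
  obtain ⟨f₀, hf₀, hf₀s⟩ := Finset.mem_image.1 hs
  have h8 : ∀ f ∈ c.support.filter (fun f => cm f = s),
      SymmetricPower.mk R ι' _ (PiTensorProduct.map (fun _ : ι' => π) (c f • eT f)) =
        c f • SymmetricPower.tprod R (fun j => π (e (f₀ j))) := by
    intro f hf
    rw [map_smul, map_smul, heT, Basis.piTensorProduct_apply, PiTensorProduct.map_tprod]
    congr 1
    obtain ⟨σ, hσ⟩ := exists_perm_of_cnt_eq' f₀ f (cnt_eq_of_map_eq f₀ f (by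
      have := (Finset.mem_filter.1 hf).2
      simp only [hcm] at this hf₀s
      rw [hf₀s, this]))
    subst hσ
    exact SymmetricPower.tprod_equiv σ (fun j => π (e (f₀ j)))
  rw [Finset.sum_congr rfl h8, ← Finset.sum_smul, h7 s, zero_smul]

/-- the product map on the symmetric power, on classes of tensors -/
lemma PlSym_mk (y : PiTensorProduct R (fun _ : ι' => M)) :
    PlSym ((Lam e) ∘ₗ i) (SymmetricPower.mk R ι' M y) =
      Theta e (PiTensorProduct.map (fun _ : ι' => i) y) := by
  induction y using PiTensorProduct.induction_on with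
  | smul_tprod r ω =>
    rw [map_smul, map_smul, map_smul, map_smul, PiTensorProduct.map_tprod, Theta_tprod]
    congr 1
    exact PlSym_tprod _ ω
  | add a b ha hb => rw [map_add, map_add, map_add, map_add, ha, hb]

lemma PlSym_isHomogeneous (z : SymmetricPower R ι' M) :
    (PlSym ((Lam e) ∘ₗ i) z).IsHomogeneous (Fintype.card ι') := by
  obtain ⟨y, rfl⟩ : ∃ y, SymmetricPower.mk R ι' M y = z := AddCon.mk'_surjective z
  rw [PlSym_mk]
  exact Theta_isHomogeneous e _

/-- an element of the symmetric power of a retract of a free module whose polynomial vanishes is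
zero -/
theorem eq_zero_of_PlSym_eq_zero (hπi : ∀ ω, π (i ω) = ω) (z : SymmetricPower R ι' M)
    (h : PlSym ((Lam e) ∘ₗ i) z = 0) : z = 0 := by
  obtain ⟨y, rfl⟩ : ∃ y, SymmetricPower.mk R ι' M y = z := AddCon.mk'_surjective z
  rw [PlSym_mk] at h
  exact mk_eq_zero_of_Theta_eq_zero e π i hπi y h

end retract

section ext

variable {R : Type u} [CommRing R] {M : Type v} [AddCommGroup M] [Module R M]
  {ι : Type u} {N : Type w} [AddCommGroup N] [Module R N]

/-- linear maps out of a symmetric power agreeing on symmetric products are equal -/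
lemma sym_linearMap_ext {f g : SymmetricPower R ι M →ₗ[R] N}
    (h : ∀ ω : ι → M, f (SymmetricPower.tprod R ω) = g (SymmetricPower.tprod R ω)) : f = g := by
  refine LinearMap.ext_on_range (SymmetricPower.span_tprod_eq_top (R := R) (ι := ι) (M := M)) ?_
  exact h

end ext

section quotient

variable {B C : Type u} [CommRing B] [CommRing C] [Algebra B C]
  (hsurj : Function.Surjective (algebraMap B C))
  {M : Type v} [AddCommGroup M] [Module B M] [Module C M] [IsScalarTower B C M]
  (ι : Type u)

/-- the kernel of `B → C` kills `Sym_B^ι M` when `ι` is nonempty and `M` is a `C`-module. -/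
lemma sym_smul_eq_zero [Nonempty ι] (b : B) (hb : algebraMap B C b = 0)
    (x : SymmetricPower B ι M) : b • x = 0 := by
  classical
  have hx : x ∈ Submodule.span B (Set.range (SymmetricPower.tprod B (ι := ι) (M := M))) := by
    rw [SymmetricPower.span_tprod_eq_top]; trivial
  induction hx using Submodule.span_induction with
  | mem t ht =>
    obtain ⟨ω, rfl⟩ := ht
    obtain ⟨j⟩ := ‹Nonempty ι›
    have h1 : b • SymmetricPower.tprod B ω =
        SymmetricPower.tprod B (Function.update ω j (b • ω j)) := by
      rw [MultilinearMap.map_update_smul, Function.update_eq_self]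
    have h2 : b • ω j = 0 := by
      rw [← algebraMap_smul C b (ω j), hb, zero_smul]
    rw [h1, h2, ← zero_smul B (ω j), MultilinearMap.map_update_smul, zero_smul]
  | zero => rw [smul_zero]
  | add a c _ _ ha hc => rw [smul_add, ha, hc, add_zero]
  | smul c a _ ha => rw [smul_comm, ha, smul_zero]

/-- the action of `C` on `Sym_B^ι M` through a set-theoretic section of `B → C`. -/
@[instance_reducible]
noncomputable def smulC : SMul C (SymmetricPower B ι M) :=
  ⟨fun c x => Function.surjInv hsurj c • x⟩

include hsurj in
lemma algebraMap_smulC [Nonempty ι] (b : B) (x : SymmetricPower B ι M) :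
    letI := smulC hsurj (M := M) ι
    algebraMap B C b • x = b • x := by
  show Function.surjInv hsurj (algebraMap B C b) • x = b • x
  rw [← sub_eq_zero, ← sub_smul]
  refine sym_smul_eq_zero (C := C) ι _ ?_ x
  rw [map_sub, Function.surjInv_eq hsurj, sub_self]

/-- the `C`-module structure on `Sym_B^ι M` for nonempty `ι`. -/
@[instance_reducible]
noncomputable def modQ [Nonempty ι] : Module C (SymmetricPower B ι M) :=
  letI := smulC hsurj (M := M) ι
  Function.Surjective.moduleLeft (algebraMap B C) hsurj (algebraMap_smulC hsurj ι)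

lemma modQ_algebraMap_smul [Nonempty ι] (b : B) (x : SymmetricPower B ι M) :
    letI := modQ hsurj (M := M) ι
    algebraMap B C b • x = b • x := algebraMap_smulC hsurj ι b x

attribute [local instance] Groth.Agent.LibSymComp29.modBT

/-- the comparison map `Sym_B^ι M → Sym_C^ι M`. -/
noncomputable def fwdQ : SymmetricPower B ι M →ₗ[B] SymmetricPower C ι M :=
  Groth.Agent.LibSymComp29.fwd (B := B) (T := C) (M := M) ι

lemma fwdQ_tprod (ω : ι → M) :
    fwdQ (C := C) ι (SymmetricPower.tprod B ω) = SymmetricPower.tprod C ω :=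
  Groth.Agent.LibSymComp29.fwd_tprod ι ω

/-- `tprod_B` is `C`-multilinear. -/
noncomputable def gQ [Nonempty ι] :
    letI := modQ hsurj (M := M) ι
    MultilinearMap C (fun _ : ι => M) (SymmetricPower B ι M) :=
  letI := modQ hsurj (M := M) ι
  { toFun := SymmetricPower.tprod B
    map_update_add' := fun ω i x y => (SymmetricPower.tprod B).map_update_add ω i x y
    map_update_smul' := fun ω i t x => by
      obtain ⟨b, rfl⟩ := hsurj t
      rw [algebraMap_smul, MultilinearMap.map_update_smul]
      exact (modQ_algebraMap_smul hsurj ι b _).symm }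

/-- the inverse comparison map. -/
noncomputable def bwdQ [Nonempty ι] :
    letI := modQ hsurj (M := M) ι
    SymmetricPower C ι M →ₗ[C] SymmetricPower B ι M :=
  letI := modQ hsurj (M := M) ι
  symLift (gQ hsurj ι) (fun σ f => SymmetricPower.tprod_equiv σ f)

lemma bwdQ_tprod [Nonempty ι] (ω : ι → M) :
    bwdQ hsurj ι (SymmetricPower.tprod C ω) = SymmetricPower.tprod B ω := by
  letI := modQ hsurj (M := M) ι
  unfold bwdQ
  rw [symLift_tprod]
  rfl

theorem bwdQ_fwdQ [Nonempty ι] (y : SymmetricPower B ι M) :
    bwdQ hsurj ι (fwdQ (C := C) ι y) = y := by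
  letI := modQ hsurj (M := M) ι
  have hy : y ∈ Submodule.span B (Set.range (SymmetricPower.tprod B (ι := ι) (M := M))) := by
    rw [SymmetricPower.span_tprod_eq_top]; trivial
  induction hy using Submodule.span_induction with
  | mem t ht =>
    obtain ⟨ω, rfl⟩ := ht
    rw [fwdQ_tprod, bwdQ_tprod]
  | zero => rw [map_zero, map_zero]
  | add a b _ _ ha hb => rw [map_add, map_add, ha, hb]
  | smul b a _ ha =>
    rw [map_smul, Groth.Agent.LibSymComp29.smulBT, map_smul, ha]
    exact modQ_algebraMap_smul hsurj ι b a

include hsurj in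
theorem fwdQ_injective [Nonempty ι] : Function.Injective (fwdQ (B := B) (C := C) (M := M) ι) :=
  fun y y' h => by rw [← bwdQ_fwdQ hsurj ι y, h, bwdQ_fwdQ hsurj ι y']

end quotient

end Groth.Agent.LibAdicSym29
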