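import Groth.Agent.LibPP29k

/-!
# Principal parts XI: formally smooth algebras are differentially smooth
-/

set_option autoImplicit false
set_option linter.unusedSectionVars false
universe u v w

namespace Groth.Agent.LibPP29

open Diff16 Groth.Agent.LibDiff29
open scoped TensorProduct BigOperators Pointwise

section theta

variable {B : Type u} [CommRing B]
variable {κ : Type w} [DecidableEq κ] {F : Type u} [AddCommGroup F] [Module B F]
variable (e : Module.Basis κ B F)
variable {ι' : Type u} [Fintype ι'] [DecidableEq ι']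

/-- the polynomial attached to a tensor of the free cover -/
noncomputable def Theta : PiTensorProduct B (fun _ : ι' => F) →ₗ[B] MvPolynomial κ B :=
  PiTensorProduct.lift
    ((MultilinearMap.mkPiAlgebra B ι' (MvPolynomial κ B)).compLinearMap (fun _ => Lam e))

lemma Theta_tprod (v : ι' → F) : Theta e (PiTensorProduct.tprod B v) = ∏ j, Lam e (v j) := by
  unfold Theta
  rw [PiTensorProduct.lift.tprod]
  simp

lemma Lam_isHomogeneous (v : F) : (Lam e v).IsHomogeneous 1 := by
  unfold Lam
  rw [Module.Basis.constr_apply, Finsupp.sum]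
  refine MvPolynomial.IsHomogeneous.sum _ _ _ fun k _ => ?_
  rw [MvPolynomial.smul_eq_C_mul]
  exact MvPolynomial.isHomogeneous_C_mul_X _ _

lemma Theta_isHomogeneous (y : PiTensorProduct B (fun _ : ι' => F)) :
    (Theta e y).IsHomogeneous (Fintype.card ι') := by
  induction y using PiTensorProduct.induction_on with
  | smul_tprod r v =>
    rw [map_smul, Theta_tprod, MvPolynomial.smul_eq_C_mul]
    have h1 := MvPolynomial.IsHomogeneous.prod Finset.univ (fun j => Lam e (v j)) (fun _ => 1)
      (fun j _ => Lam_isHomogeneous e (v j))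
    simp only [Finset.sum_const, Finset.card_univ, smul_eq_mul, mul_one] at h1
    exact h1.C_mul r
  | add x y hx hy =>
    rw [map_add]
    exact hx.add hy

lemma prod_X_eq_monomial (s : Multiset κ) :
    (s.map (MvPolynomial.X : κ → MvPolynomial κ B)).prod =
      MvPolynomial.monomial (Multiset.toFinsupp s) 1 := by
  induction s using Multiset.induction_on with
  | empty => simp
  | cons k s ih =>
    rw [Multiset.map_cons, Multiset.prod_cons, ih, ← Multiset.singleton_add, map_add,
      Multiset.toFinsupp_singleton, MvPolynomial.X, MvPolynomial.monomial_mul, one_mul]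

lemma Theta_basis (f : ι' → κ) :
    Theta e (PiTensorProduct.tprod B fun j => e (f j)) =
      MvPolynomial.monomial (Multiset.toFinsupp (Finset.univ.val.map f)) 1 := by
  rw [Theta_tprod, ← prod_X_eq_monomial, Multiset.map_map]
  simp only [Lam_basis]
  rfl

lemma eq_zero_of_isHomogeneous_of_mem (n : ℕ) (P : MvPolynomial κ B) (h1 : P.IsHomogeneous n)
    (h2 : P ∈ (MvPolynomial.idealOfVars κ B) ^ (n + 1)) : P = 0 := by
  rw [MvPolynomial.mem_pow_idealOfVars_iff'] at h2
  ext d
  rw [MvPolynomial.coeff_zero]
  by_cases hd : d.degree = n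
  · exact h2 d (by omega)
  · exact h1.coeff_eq_zero hd

end theta

section inj

variable {A B : Type u} [CommRing A] [CommRing B] [Algebra A B] [Algebra.FormallySmooth A B]
variable {κ : Type w} [DecidableEq κ] {F : Type u} [AddCommGroup F] [Module B F]
  [Module A F] [IsScalarTower A B F]
variable (e : Module.Basis κ B F) (π : F →ₗ[B] KaehlerDifferential A B)
variable (i : KaehlerDifferential A B →ₗ[B] F)
variable (w : κ → B ⊗[A] B)
variable {ι' : Type u} [Fintype ι'] [DecidableEq ι']

local notation "I" => KaehlerDifferential.ideal A B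

lemma exists_rep (hπi : ∀ ω, π (i ω) = ω)
    (hwI : ∀ k, w k ∈ KaehlerDifferential.ideal A B)
    (hw : ∀ k, (KaehlerDifferential.ideal A B).toCotangent ⟨w k, hwI k⟩ = π (e k)) (N : ℕ)
    (y : PiTensorProduct B (fun _ : ι' => KaehlerDifferential A B)) :
    ∃ (W : B ⊗[A] B) (hW : W ∈ ((I) ^ (Fintype.card ι')).restrictScalars B),
      gLinΩ e i w hwI y = grmk A B (Fintype.card ι') ⟨W, hW⟩ ∧
      Tmap e i N W - Ideal.Quotient.mk _ (Theta e (PiTensorProduct.map (fun _ : ι' => i) y)) ∈
        ((MvPolynomial.idealOfVars κ B) ^ (Fintype.card ι' + 1)).map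
          (Ideal.Quotient.mk ((MvPolynomial.idealOfVars κ B) ^ (N + 2))) := by
  induction y using PiTensorProduct.induction_on with
  | smul_tprod r ω =>
    have hsurj := Ideal.toCotangent_surjective (KaehlerDifferential.ideal A B)
    choose x hx using fun j => hsurj (ω j)
    have hprod : ∏ j, (x j : B ⊗[A] B) ∈ ((I) ^ (Fintype.card ι')).restrictScalars B := by
      have := PP16.prod_mem_pow (KaehlerDifferential.ideal A B) Finset.univ
        (fun j => (x j : B ⊗[A] B)) (fun j _ => (x j).2)
      rw [Finset.card_univ] at this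
      exact this
    refine ⟨r • ∏ j, (x j : B ⊗[A] B), Submodule.smul_mem _ r hprod, ?_, ?_⟩
    · rw [map_smul, gLinΩ_tprod,
        gLinF_tprod e π w hwI hw (fun j => i (ω j)) x (fun j => by rw [hx, hπi]) hprod, ← map_smul]
      rfl
    · have hA : Tmap e i N (r • ∏ j, (x j : B ⊗[A] B)) =
          algebraMap B (MvPolynomial κ B ⧸ (MvPolynomial.idealOfVars κ B) ^ (N + 2)) r *
            ∏ j, Tmap e i N (x j : B ⊗[A] B) := by
        rw [map_smul, map_prod]
        exact Algebra.smul_def (R := B)
          (A := MvPolynomial κ B ⧸ (MvPolynomial.idealOfVars κ B) ^ (N + 2)) r _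
      have hB : Ideal.Quotient.mk ((MvPolynomial.idealOfVars κ B) ^ (N + 2))
          (Theta e (PiTensorProduct.map (fun _ : ι' => i) (r • PiTensorProduct.tprod B ω))) =
          algebraMap B (MvPolynomial κ B ⧸ (MvPolynomial.idealOfVars κ B) ^ (N + 2)) r *
            ∏ j, Ideal.Quotient.mk ((MvPolynomial.idealOfVars κ B) ^ (N + 2))
              (Lam e (i (ω j))) := by
        rw [map_smul, PiTensorProduct.map_tprod, map_smul, Theta_tprod,
          MvPolynomial.smul_eq_C_mul, map_mul, map_prod]
        rfl
      have h1 := prod_sub_prod_mem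
        ((MvPolynomial.idealOfVars κ B).map
          (Ideal.Quotient.mk ((MvPolynomial.idealOfVars κ B) ^ (N + 2)))) Finset.univ
        (fun j => Tmap e i N (x j : B ⊗[A] B))
        (fun j => Ideal.Quotient.mk ((MvPolynomial.idealOfVars κ B) ^ (N + 2)) (Lam e (i (ω j))))
        (fun j _ => Tmap_mem e i N _ (x j).2)
        (fun j _ => Ideal.mem_map_of_mem _ (Lam_mem e _))
        (fun j _ => by
          rw [← Ideal.map_pow]
          have := Tmap_sub_mem_of_mem e i N (x j)
          rw [hx] at this
          exact this)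
      rw [Finset.card_univ, ← Ideal.map_pow] at h1
      rw [hA, hB, ← mul_sub]
      exact Ideal.mul_mem_left _ _ h1
  | add y₁ y₂ h₁ h₂ =>
    obtain ⟨W₁, hW₁, h11, h12⟩ := h₁
    obtain ⟨W₂, hW₂, h21, h22⟩ := h₂
    refine ⟨W₁ + W₂, add_mem hW₁ hW₂, ?_, ?_⟩
    · rw [map_add, h11, h21, ← map_add]
      rfl
    · rw [map_add, map_add, map_add, map_add]
      have : ∀ a b c d : MvPolynomial κ B ⧸ (MvPolynomial.idealOfVars κ B) ^ (N + 2),
          a + b - (c + d) = (a - c) + (b - d) := by intros; ring
      rw [this]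
      exact Ideal.add_mem _ h12 h22

theorem phiF_injective (hπi : ∀ ω, π (i ω) = ω)
    (hwI : ∀ k, w k ∈ KaehlerDifferential.ideal A B)
    (hw : ∀ k, (KaehlerDifferential.ideal A B).toCotangent ⟨w k, hwI k⟩ = π (e k)) :
    Function.Injective (phiF e i w hwI (ι' := ι')) := by
  rw [injective_iff_map_eq_zero]
  intro x hx
  obtain ⟨y, rfl⟩ : ∃ y, SymmetricPower.mk B ι' _ y = x := AddCon.mk'_surjective x
  rw [phiF_mk] at hx
  obtain ⟨W, hW, h1, h2⟩ := exists_rep e π i w hπi hwI hw (Fintype.card ι') y
  rw [h1, grmk_eq_zero_iff] at hx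
  have h3 := Tmap_mem_pow e i (Fintype.card ι') (Fintype.card ι' + 1) W hx
  set y' := PiTensorProduct.map (fun _ : ι' => i) y with hy'def
  have h4 : Ideal.Quotient.mk ((MvPolynomial.idealOfVars κ B) ^ (Fintype.card ι' + 2))
      (Theta e y') ∈ ((MvPolynomial.idealOfVars κ B) ^ (Fintype.card ι' + 1)).map
        (Ideal.Quotient.mk ((MvPolynomial.idealOfVars κ B) ^ (Fintype.card ι' + 2))) := by
    have := Ideal.sub_mem _ h3 h2
    simpa using this
  have h5 : Theta e y' ∈ (MvPolynomial.idealOfVars κ B) ^ (Fintype.card ι' + 1) := by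
    rw [Ideal.mem_map_iff_of_surjective _ Ideal.Quotient.mk_surjective] at h4
    obtain ⟨Q, hQ, hQP⟩ := h4
    rw [Ideal.Quotient.eq] at hQP
    have : Theta e y' = Q - (Q - Theta e y') := by ring
    rw [this]
    exact Ideal.sub_mem _ hQ (Ideal.pow_le_pow_right (by omega) hQP)
  have h6 : Theta e y' = 0 :=
    eq_zero_of_isHomogeneous_of_mem (Fintype.card ι') _ (Theta_isHomogeneous e y') h5
  set eT := Basis.piTensorProduct fun _ : ι' => e with heT
  set c := eT.repr y' with hc
  have hy' : y' = ∑ f ∈ c.support, c f • eT f := by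
    conv_lhs => rw [← eT.linearCombination_repr y']
    rw [Finsupp.linearCombination_apply, Finsupp.sum]
  set cm : (ι' → κ) → Multiset κ := fun f => Finset.univ.val.map f with hcm
  have h7 : ∀ s : Multiset κ, ∑ f ∈ c.support.filter (fun f => cm f = s), c f = 0 := by
    intro s
    have h8 := congrArg (MvPolynomial.coeff (Multiset.toFinsupp s)) h6
    rw [hy', map_sum, MvPolynomial.coeff_sum, MvPolynomial.coeff_zero] at h8
    rw [← h8, Finset.sum_filter]
    refine Finset.sum_congr rfl fun f _ => ?_
    rw [map_smul, heT, Basis.piTensorProduct_apply, Theta_basis, MvPolynomial.coeff_smul,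
      MvPolynomial.coeff_monomial]
    by_cases h : cm f = s
    · rw [if_pos h, if_pos (by rw [← h]), smul_eq_mul, mul_one]
    · rw [if_neg h, if_neg (fun h' => h (Multiset.toFinsupp.injective h')), smul_zero]
  have hy : y = PiTensorProduct.map (fun _ : ι' => π) y' := by
    rw [hy'def, ← LinearMap.comp_apply, ← PiTensorProduct.map_comp]
    have : (fun _ : ι' => π ∘ₗ i) = fun _ => LinearMap.id := funext fun _ => LinearMap.ext hπi
    rw [this, PiTensorProduct.map_id]
    rfl
  rw [hy, hy', map_sum, map_sum]
  rw [← Finset.sum_fiberwise_of_maps_to (s := c.support) (t := c.support.image cm) (g := cm)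
    (fun f hf => Finset.mem_image_of_mem _ hf)]
  refine Finset.sum_eq_zero fun s hs => ?_
  obtain ⟨f₀, hf₀, hf₀s⟩ := Finset.mem_image.1 hs
  have h8 : ∀ f ∈ c.support.filter (fun f => cm f = s),
      SymmetricPower.mk B ι' _ (PiTensorProduct.map (fun _ : ι' => π) (c f • eT f)) =
        c f • SymmetricPower.tprod B (fun j => π (e (f₀ j))) := by
    intro f hf
    rw [map_smul, map_smul, heT, Basis.piTensorProduct_apply, PiTensorProduct.map_tprod]
    congr 1
    obtain ⟨σ, hσ⟩ := exists_perm_of_cnt_eq' f₀ f (cnt_eq_of_map_eq f₀ f (by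
      have := (Finset.mem_filter.1 hf).2
      simp only [hcm] at this hf₀s
      rw [hf₀s, this]))
    subst hσ
    exact SymmetricPower.tprod_equiv σ (fun j => π (e (f₀ j)))
  rw [Finset.sum_congr rfl h8, ← Finset.sum_smul, h7 s, zero_smul]

end inj

end Groth.Agent.LibPP29
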