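import Mathlib.Algebra.TrivSqZeroExt.Basic
import Mathlib.RingTheory.MvPolynomial.Ideal
import Mathlib.RingTheory.Smooth.Basic
import Mathlib.RingTheory.Ideal.Cotangent
import Groth.Agent.LibPP29l

/-!
# Polynomial coordinates on the infinitesimal neighbourhoods of an ideal with formally smooth
quotient (helper29)

General ring `R`, variables `κ`:
* `tz : R[X_κ] →ₐ[R] R ⊕ (κ →₀ R)` (trivial square zero extension), `lin p = (tz p).snd` the linear
  part; `fst_tz`, `lin_X`, `lin_Lam`, `lin_mul_of_mem`, `lin_eq_zero_of_mem_sq`,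
  `sub_Lam_lin_mem_sq`.

`J` an ideal of the `A`-algebra `B` with `C = B ⧸ J` formally smooth over `A`, variables `κ = ↥J`:
* `gq : B ⧸ J ^ M → B ⧸ J`, `sec : B ⧸ J →ₐ[A] B ⧸ J ^ M` a section of `gq`;
* `Phi0 : C[X_J] →ₐ[A] B ⧸ J ^ M`, `C c ↦ sec c`, `X x ↦ x`; `gq_Phi0`, `Phi0_mem`,
  `exists_Phi0_Lam_sub_mem`;
* `EN N = C[X_J] ⧸ (X)^(N+2)`, `vN`, `tzN`, `ccN`, `linN`, `psiN : EN N →ₐ[A] B ⧸ J ^ 2`.
-/

set_option autoImplicit false
set_option linter.unusedSectionVars false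
universe u v w

namespace Groth.Agent.LibAdicSym29

open Groth.Agent.LibPP29 MvPolynomial
open scoped BigOperators

section linear

variable (R : Type u) [CommRing R] (κ : Type u)

/-- the first order jet of a polynomial -/
noncomputable def tz : MvPolynomial κ R →ₐ[R] TrivSqZeroExt R (κ →₀ R) :=
  MvPolynomial.aeval (fun k => TrivSqZeroExt.inr (Finsupp.single k (1 : R)))

variable {R κ}

lemma tz_X (k : κ) : tz R κ (X k) = TrivSqZeroExt.inr (Finsupp.single k (1 : R)) := by
  unfold tz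
  rw [MvPolynomial.aeval_X]

lemma tz_C (c : R) : tz R κ (C c) = TrivSqZeroExt.inl c := by
  unfold tz
  rw [MvPolynomial.aeval_C]
  rfl

lemma fst_tz (p : MvPolynomial κ R) : (tz R κ p).fst = constantCoeff p := by
  have h : ((TrivSqZeroExt.fstHom R R (κ →₀ R)).comp (tz R κ) : MvPolynomial κ R →+* R) =
      (constantCoeff : MvPolynomial κ R →+* R) := by
    refine MvPolynomial.ringHom_ext (fun r => ?_) (fun k => ?_)
    · show (tz R κ (C r)).fst = _
      rw [tz_C, constantCoeff_C]; rfl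
    · show (tz R κ (X k)).fst = _
      rw [tz_X, constantCoeff_X]; rfl
  exact congrArg (fun f : MvPolynomial κ R →+* R => f p) h

variable (R κ) in
/-- the linear part of a polynomial -/
noncomputable def lin : MvPolynomial κ R →ₗ[R] (κ →₀ R) :=
  (TrivSqZeroExt.sndHom R (κ →₀ R)) ∘ₗ (tz R κ).toLinearMap

lemma lin_apply (p : MvPolynomial κ R) : lin R κ p = (tz R κ p).snd := rfl

lemma lin_X (k : κ) : lin R κ (X k) = Finsupp.single k 1 := by
  rw [lin_apply, tz_X]; rfl

lemma lin_mul (p q : MvPolynomial κ R) :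
    lin R κ (p * q) = constantCoeff p • lin R κ q + constantCoeff q • lin R κ p := by
  rw [lin_apply, map_mul, TrivSqZeroExt.snd_mul, fst_tz, fst_tz, op_smul_eq_smul]
  rfl

lemma mem_vars_iff (p : MvPolynomial κ R) :
    p ∈ MvPolynomial.idealOfVars κ R ↔ constantCoeff p = 0 := by
  have h := MvPolynomial.mem_pow_idealOfVars_iff' (σ := κ) (R := R) 1 p
  rw [pow_one] at h
  rw [h, constantCoeff_eq]
  constructor
  · intro h1
    exact h1 0 (by simp)
  · intro h1 x hx
    have : x = 0 := by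
      rw [Nat.lt_one_iff] at hx
      exact (Finsupp.degree_eq_zero_iff x).1 hx
    rw [this]; exact h1

lemma sub_C_mem_vars (p : MvPolynomial κ R) :
    p - C (constantCoeff p) ∈ MvPolynomial.idealOfVars κ R := by
  rw [mem_vars_iff, map_sub, constantCoeff_C, sub_self]

lemma lin_mul_of_mem (s p : MvPolynomial κ R) (hp : p ∈ MvPolynomial.idealOfVars κ R) :
    lin R κ (s * p) = constantCoeff s • lin R κ p := by
  rw [lin_mul, (mem_vars_iff p).1 hp, zero_smul, add_zero]

lemma lin_eq_zero_of_mem_sq (p : MvPolynomial κ R)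
    (hp : p ∈ (MvPolynomial.idealOfVars κ R) ^ 2) : lin R κ p = 0 := by
  rw [pow_two] at hp
  refine Submodule.mul_induction_on hp ?_ ?_
  · intro a ha b hb
    rw [lin_mul, (mem_vars_iff a).1 ha, (mem_vars_iff b).1 hb, zero_smul, zero_smul, add_zero]
  · intro a b ha hb
    rw [map_add, ha, hb, add_zero]

lemma tz_eq_zero_of_mem_sq (p : MvPolynomial κ R)
    (hp : p ∈ (MvPolynomial.idealOfVars κ R) ^ 2) : tz R κ p = 0 := by
  apply TrivSqZeroExt.ext
  · rw [fst_tz, TrivSqZeroExt.fst_zero, ← mem_vars_iff]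
    exact Ideal.pow_le_self two_ne_zero hp
  · exact lin_eq_zero_of_mem_sq p hp

variable [DecidableEq κ]

lemma lin_Lam (v : κ →₀ R) : lin R κ (Lam (Finsupp.basisSingleOne (R := R) (ι := κ)) v) = v := by
  induction v using Finsupp.induction_linear with
  | zero => rw [map_zero, map_zero]
  | add a b ha hb => rw [map_add, map_add, ha, hb]
  | single k c =>
    have h1 : (Finsupp.single k c : κ →₀ R) = c • Finsupp.basisSingleOne (R := R) (ι := κ) k := by
      rw [Finsupp.coe_basisSingleOne, Finsupp.smul_single, smul_eq_mul, mul_one]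
    rw [h1, map_smul, map_smul, Lam_basis, lin_X, Finsupp.coe_basisSingleOne]

/-- a polynomial without constant term is its linear part modulo terms of degree `≥ 2` -/
lemma sub_Lam_lin_mem_sq (p : MvPolynomial κ R) (hp : p ∈ MvPolynomial.idealOfVars κ R) :
    p - Lam (Finsupp.basisSingleOne (R := R) (ι := κ)) (lin R κ p) ∈
      (MvPolynomial.idealOfVars κ R) ^ 2 := by
  unfold MvPolynomial.idealOfVars at hp
  induction hp using Submodule.span_induction with
  | mem x hx =>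
    obtain ⟨k, rfl⟩ := hx
    rw [lin_X]
    have : (Finsupp.single k (1 : R) : κ →₀ R) = Finsupp.basisSingleOne (R := R) (ι := κ) k := by
      rw [Finsupp.coe_basisSingleOne]
    rw [this, Lam_basis, sub_self]
    exact Ideal.zero_mem _
  | zero => simp
  | add a b _ _ ha hb =>
    have : a + b - Lam (Finsupp.basisSingleOne (R := R) (ι := κ)) (lin R κ (a + b)) =
        (a - Lam (Finsupp.basisSingleOne (R := R) (ι := κ)) (lin R κ a)) +
          (b - Lam (Finsupp.basisSingleOne (R := R) (ι := κ)) (lin R κ b)) := by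
      rw [map_add, map_add]; ring
    rw [this]
    exact Ideal.add_mem _ ha hb
  | smul r a ha' ha =>
    have ha'' : a ∈ MvPolynomial.idealOfVars κ R := ha'
    rw [smul_eq_mul, lin_mul_of_mem r a ha'', map_smul, MvPolynomial.smul_eq_C_mul]
    have : r * a - C (constantCoeff r) * Lam (Finsupp.basisSingleOne (R := R) (ι := κ)) (lin R κ a) =
        (r - C (constantCoeff r)) * a +
          C (constantCoeff r) * (a - Lam (Finsupp.basisSingleOne (R := R) (ι := κ)) (lin R κ a)) := by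
      ring
    rw [this]
    refine Ideal.add_mem _ ?_ (Ideal.mul_mem_left _ _ ha)
    rw [pow_two]
    exact Ideal.mul_mem_mul (sub_C_mem_vars r) ha''

end linear

section quotients

/-- `C` is the quotient of `B` by `J`. -/
structure IsQuot {B : Type u} [CommRing B] (J : Ideal B) (C : Type u) [CommRing C] [Algebra B C] :
    Prop where
  surj : Function.Surjective (algebraMap B C)
  ker_iff : ∀ b : B, algebraMap B C b = 0 ↔ b ∈ J

lemma isQuot_quotient {B : Type u} [CommRing B] (J : Ideal B) : IsQuot J (B ⧸ J) :=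
  ⟨Ideal.Quotient.mk_surjective, fun _ => Ideal.Quotient.eq_zero_iff_mem⟩

variable {A B C : Type u} [CommRing A] [CommRing B] [CommRing C] [Algebra A B] [Algebra A C]
  [Algebra B C] [IsScalarTower A B C]
variable {J : Ideal B} (hC : IsQuot J C) (M : ℕ) (hM : M ≠ 0)

/-- the projection `B ⧸ J ^ M → C` -/
noncomputable def gq : B ⧸ J ^ M →ₐ[A] C :=
  Ideal.Quotient.liftₐ (J ^ M) (IsScalarTower.toAlgHom A B C)
    (fun b hb => (hC.ker_iff b).2 (Ideal.pow_le_self hM hb))

lemma gq_mk (b : B) :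
    gq (A := A) hC M hM (Ideal.Quotient.mk (J ^ M) b) = algebraMap B C b := rfl

lemma gq_surjective : Function.Surjective (gq (A := A) hC M hM) := fun c => by
  obtain ⟨b, rfl⟩ := hC.surj c
  exact ⟨Ideal.Quotient.mk (J ^ M) b, gq_mk hC M hM b⟩

omit [Algebra B C] in
lemma mk_mem_map_iff (J : Ideal B) (M m : ℕ) (hm : m ≤ M) (b : B) :
    Ideal.Quotient.mk (J ^ M) b ∈ (J ^ m).map (Ideal.Quotient.mk (J ^ M)) ↔ b ∈ J ^ m := by
  rw [Ideal.mem_quotient_iff_mem_sup, sup_eq_left.2 (Ideal.pow_le_pow_right hm)]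

lemma gq_eq_zero_iff (x : B ⧸ J ^ M) :
    gq (A := A) hC M hM x = 0 ↔ x ∈ J.map (Ideal.Quotient.mk (J ^ M)) := by
  obtain ⟨b, rfl⟩ := Ideal.Quotient.mk_surjective x
  rw [gq_mk, hC.ker_iff]
  have h := mk_mem_map_iff J M 1 (Nat.one_le_iff_ne_zero.2 hM) b
  rw [pow_one] at h
  exact h.symm

omit [Algebra B C] in
lemma map_pow_self (J : Ideal B) (M : ℕ) : (J.map (Ideal.Quotient.mk (J ^ M))) ^ M = ⊥ := by
  rw [← Ideal.map_pow, Ideal.map_quotient_self]

lemma ker_gq_nilpotent :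
    IsNilpotent (RingHom.ker ((gq (A := A) hC M hM : B ⧸ J ^ M →ₐ[A] C) :
      B ⧸ J ^ M →+* C)) := by
  refine ⟨M, ?_⟩
  rw [Ideal.zero_eq_bot, eq_bot_iff, ← map_pow_self J M]
  refine Ideal.pow_right_mono ?_ M
  intro x hx
  rw [RingHom.mem_ker] at hx
  exact (gq_eq_zero_iff (A := A) hC M hM x).1 hx

variable [Algebra.FormallySmooth A C]

/-- a section of `B ⧸ J ^ M → C` -/
noncomputable def sec : C →ₐ[A] B ⧸ J ^ M :=
  Algebra.FormallySmooth.liftOfSurjective (AlgHom.id A C) (gq hC M hM)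
    (gq_surjective hC M hM) (ker_gq_nilpotent hC M hM)

lemma gq_sec (c : C) : gq (A := A) hC M hM (sec (A := A) hC M hM c) = c :=
  Algebra.FormallySmooth.liftOfSurjective_apply _ _ _ _ c

lemma sec_sub_mem (b : B) :
    sec (A := A) hC M hM (algebraMap B C b) - Ideal.Quotient.mk (J ^ M) b ∈
      J.map (Ideal.Quotient.mk (J ^ M)) := by
  rw [← gq_eq_zero_iff (A := A) hC M hM, map_sub, gq_sec, gq_mk, sub_self]

/-- polynomial coordinates: `C c ↦ sec c`, `X x ↦ x` -/
noncomputable def Phi0 : MvPolynomial ↥J C →ₐ[A] B ⧸ J ^ M :=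
  { MvPolynomial.eval₂Hom ((sec (A := A) hC M hM : C →ₐ[A] B ⧸ J ^ M) : C →+* B ⧸ J ^ M)
      (fun x : ↥J => Ideal.Quotient.mk (J ^ M) (x : B)) with
    commutes' := fun a => by
      show MvPolynomial.eval₂Hom _ _ (algebraMap A (MvPolynomial ↥J C) a) = _
      rw [MvPolynomial.algebraMap_apply, MvPolynomial.eval₂Hom_C]
      exact (sec (A := A) hC M hM).commutes a }

lemma Phi0_C (c : C) : Phi0 (A := A) hC M hM (MvPolynomial.C c) = sec (A := A) hC M hM c :=
  MvPolynomial.eval₂Hom_C _ _ c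

lemma Phi0_X (x : ↥J) : Phi0 (A := A) hC M hM (X x) = Ideal.Quotient.mk (J ^ M) (x : B) :=
  MvPolynomial.eval₂Hom_X' _ _ x

lemma gq_Phi0 (p : MvPolynomial ↥J C) :
    gq (A := A) hC M hM (Phi0 (A := A) hC M hM p) = constantCoeff p := by
  have h : ((gq (A := A) hC M hM : B ⧸ J ^ M →+* C).comp
      (Phi0 (A := A) hC M hM : MvPolynomial ↥J C →+* B ⧸ J ^ M)) =
      (constantCoeff : MvPolynomial ↥J C →+* C) := by
    refine MvPolynomial.ringHom_ext (fun r => ?_) (fun k => ?_)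
    · show gq (A := A) hC M hM (Phi0 (A := A) hC M hM (MvPolynomial.C r)) = _
      rw [Phi0_C, gq_sec, constantCoeff_C]
    · show gq (A := A) hC M hM (Phi0 (A := A) hC M hM (X k)) = _
      rw [Phi0_X, gq_mk, constantCoeff_X, hC.ker_iff]
      exact k.2
  exact congrArg (fun f : MvPolynomial ↥J C →+* C => f p) h

lemma Phi0_mem (m : ℕ) (p : MvPolynomial ↥J C)
    (hp : p ∈ (MvPolynomial.idealOfVars ↥J C) ^ m) :
    Phi0 (A := A) hC M hM p ∈ (J ^ m).map (Ideal.Quotient.mk (J ^ M)) := by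
  have h1 : MvPolynomial.idealOfVars ↥J C ≤
      (J.map (Ideal.Quotient.mk (J ^ M))).comap
        (Phi0 (A := A) hC M hM : MvPolynomial ↥J C →+* B ⧸ J ^ M) := by
    unfold MvPolynomial.idealOfVars
    rw [Ideal.span_le]
    rintro _ ⟨x, rfl⟩
    show Phi0 (A := A) hC M hM (X x) ∈ J.map (Ideal.Quotient.mk (J ^ M))
    rw [Phi0_X]
    exact Ideal.mem_map_of_mem _ x.2
  have h2 := (Ideal.pow_right_mono h1 m).trans (Ideal.le_comap_pow _ m)
  rw [Ideal.map_pow]
  exact h2 hp

variable [Module C J.Cotangent] [IsScalarTower B C J.Cotangent]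

/-- the canonical surjection from the free module on `J` to `J/J²` -/
noncomputable def piJ {B : Type u} [CommRing B] (J : Ideal B) (C : Type u) [CommRing C]
    [Module C J.Cotangent] : (↥J →₀ C) →ₗ[C] J.Cotangent :=
  Finsupp.linearCombination C (fun x : ↥J => J.toCotangent x)

omit [Algebra A B] [Algebra A C] [IsScalarTower A B C] [Algebra.FormallySmooth A C]
  [Algebra B C] [IsScalarTower B C J.Cotangent] in
lemma piJ_single (x : ↥J) (c : C) : piJ J C (Finsupp.single x c) = c • J.toCotangent x := by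
  unfold piJ
  rw [Finsupp.linearCombination_single]

/-- `Phi0` of a linear form is, modulo `J²`, an element of `J` with the expected class in
`J/J²` -/
lemma exists_Phi0_Lam_sub_mem [DecidableEq ↥J] (v : ↥J →₀ C) :
    ∃ y : ↥J, J.toCotangent y = piJ J C v ∧
      Phi0 (A := A) hC M hM (Lam (Finsupp.basisSingleOne (R := C) (ι := ↥J)) v) -
          Ideal.Quotient.mk (J ^ M) (y : B) ∈ (J ^ 2).map (Ideal.Quotient.mk (J ^ M)) := by
  induction v using Finsupp.induction_linear with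
  | zero => exact ⟨0, by simp, by simp⟩
  | add a b ha hb =>
    obtain ⟨y₁, h11, h12⟩ := ha
    obtain ⟨y₂, h21, h22⟩ := hb
    refine ⟨y₁ + y₂, by rw [map_add, map_add, h11, h21], ?_⟩
    have : Phi0 (A := A) hC M hM (Lam (Finsupp.basisSingleOne (R := C) (ι := ↥J)) (a + b)) -
        Ideal.Quotient.mk (J ^ M) ((y₁ + y₂ : ↥J) : B) =
        (Phi0 (A := A) hC M hM (Lam (Finsupp.basisSingleOne (R := C) (ι := ↥J)) a) -
          Ideal.Quotient.mk (J ^ M) (y₁ : B)) +
        (Phi0 (A := A) hC M hM (Lam (Finsupp.basisSingleOne (R := C) (ι := ↥J)) b) -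
          Ideal.Quotient.mk (J ^ M) (y₂ : B)) := by
      rw [map_add, map_add, Submodule.coe_add, map_add]; ring
    rw [this]
    exact Ideal.add_mem _ h12 h22
  | single k c =>
    obtain ⟨b, rfl⟩ := hC.surj c
    refine ⟨b • k, ?_, ?_⟩
    · rw [map_smul, piJ_single, algebraMap_smul]
    · have h1 : (Finsupp.single k (algebraMap B C b) : ↥J →₀ C) =
          (algebraMap B C b) • Finsupp.basisSingleOne (R := C) (ι := ↥J) k := by
        rw [Finsupp.coe_basisSingleOne, Finsupp.smul_single, smul_eq_mul, mul_one]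
      rw [h1, map_smul, Lam_basis, MvPolynomial.smul_eq_C_mul, map_mul, Phi0_C, Phi0_X]
      have h2 : ((b • k : ↥J) : B) = b * (k : B) := rfl
      rw [h2, map_mul, ← sub_mul, pow_two, Ideal.map_mul]
      exact Ideal.mul_mem_mul (sec_sub_mem hC M hM b) (Ideal.mem_map_of_mem _ k.2)

end quotients

section truncated

variable {B : Type u} [CommRing B] (J : Ideal B) (C : Type u) [CommRing C] (N : ℕ)

/-- the truncated polynomial ring `C[X_J] ⧸ (X)^(N+2)` -/
abbrev EN : Type u :=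
  MvPolynomial ↥J C ⧸ (MvPolynomial.idealOfVars ↥J C) ^ (N + 2)

/-- the class map -/
noncomputable abbrev mkE : MvPolynomial ↥J C →+* EN J C N :=
  Ideal.Quotient.mk ((MvPolynomial.idealOfVars ↥J C) ^ (N + 2))

/-- the ideal of the variables in `EN` -/
noncomputable def vN : Ideal (EN J C N) := (MvPolynomial.idealOfVars ↥J C).map (mkE J C N)

lemma vN_pow_eq (m : ℕ) :
    vN J C N ^ m = ((MvPolynomial.idealOfVars ↥J C) ^ m).map (mkE J C N) := by
  unfold vN
  exact (Ideal.map_pow (mkE J C N) (MvPolynomial.idealOfVars ↥J C) m).symm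

lemma vN_pow : vN J C N ^ (N + 2) = ⊥ := by
  rw [vN_pow_eq]
  exact Ideal.map_quotient_self _

variable {J C N}

lemma mk_mem_vN_pow_iff (m : ℕ) (hm : m ≤ N + 2) (p : MvPolynomial ↥J C) :
    mkE J C N p ∈ vN J C N ^ m ↔ p ∈ (MvPolynomial.idealOfVars ↥J C) ^ m := by
  rw [vN_pow_eq, Ideal.mem_quotient_iff_mem_sup, sup_eq_left.2 (Ideal.pow_le_pow_right hm)]

lemma mk_mem_vN_iff (p : MvPolynomial ↥J C) :
    mkE J C N p ∈ vN J C N ↔ p ∈ MvPolynomial.idealOfVars ↥J C := by
  unfold vN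
  rw [Ideal.mem_quotient_iff_mem_sup, sup_eq_left.2 (Ideal.pow_le_self (by omega))]

variable (J C N)

/-- the first order jet on `EN` -/
noncomputable def tzN : EN J C N →ₐ[C] TrivSqZeroExt C (↥J →₀ C) :=
  Ideal.Quotient.liftₐ _ (tz C ↥J)
    (fun p hp => tz_eq_zero_of_mem_sq p (Ideal.pow_le_pow_right (by omega) hp))

lemma tzN_mk (p : MvPolynomial ↥J C) : tzN J C N (mkE J C N p) = tz C ↥J p := rfl

/-- the constant coefficient on `EN` -/
noncomputable def ccN : EN J C N →+* C :=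
  ((TrivSqZeroExt.fstHom C C (↥J →₀ C) : TrivSqZeroExt C (↥J →₀ C) →ₐ[C] C) :
    TrivSqZeroExt C (↥J →₀ C) →+* C).comp
    ((tzN J C N : EN J C N →ₐ[C] TrivSqZeroExt C (↥J →₀ C)) :
      EN J C N →+* TrivSqZeroExt C (↥J →₀ C))

/-- the linear part on `EN` -/
noncomputable def linN : EN J C N →ₗ[C] (↥J →₀ C) :=
  (TrivSqZeroExt.sndHom C (↥J →₀ C)) ∘ₗ (tzN J C N).toLinearMap

variable {J C N}

lemma ccN_mk (p : MvPolynomial ↥J C) : ccN J C N (mkE J C N p) = constantCoeff p :=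
  fst_tz p

lemma linN_mk (p : MvPolynomial ↥J C) : linN J C N (mkE J C N p) = lin C ↥J p := rfl

lemma mem_vN_iff (q : EN J C N) : q ∈ vN J C N ↔ ccN J C N q = 0 := by
  obtain ⟨p, rfl⟩ := Ideal.Quotient.mk_surjective q
  have h := mk_mem_vN_iff (N := N) p
  rw [h, ccN_mk, mem_vars_iff]

lemma sub_mk_C_mem (q : EN J C N) : q - mkE J C N (MvPolynomial.C (ccN J C N q)) ∈ vN J C N := by
  rw [mem_vN_iff, map_sub, ccN_mk, constantCoeff_C, sub_self]

lemma linN_mul_of_mem (s q : EN J C N) (hq : q ∈ vN J C N) :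
    linN J C N (s * q) = ccN J C N s • linN J C N q := by
  obtain ⟨p, rfl⟩ := Ideal.Quotient.mk_surjective q
  obtain ⟨r, rfl⟩ := Ideal.Quotient.mk_surjective s
  have h := mk_mem_vN_iff (N := N) p
  rw [← map_mul]
  show linN J C N (mkE J C N (r * p)) = ccN J C N (mkE J C N r) • linN J C N (mkE J C N p)
  rw [linN_mk, linN_mk, ccN_mk, lin_mul_of_mem r p (h.1 hq)]

lemma linN_eq_zero_of_mem_sq (q : EN J C N) (hq : q ∈ vN J C N ^ 2) : linN J C N q = 0 := by
  obtain ⟨p, rfl⟩ := Ideal.Quotient.mk_surjective q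
  have h := (mk_mem_vN_pow_iff 2 (by omega) p).1 hq
  show linN J C N (mkE J C N p) = 0
  rw [linN_mk, lin_eq_zero_of_mem_sq p h]

lemma sub_mk_Lam_linN_mem_sq [DecidableEq ↥J] (q : EN J C N) (hq : q ∈ vN J C N) :
    q - mkE J C N (Lam (Finsupp.basisSingleOne (R := C) (ι := ↥J)) (linN J C N q)) ∈
      vN J C N ^ 2 := by
  obtain ⟨p, rfl⟩ := Ideal.Quotient.mk_surjective q
  have h := mk_mem_vN_iff (N := N) p
  show mkE J C N p - mkE J C N (Lam _ (linN J C N (mkE J C N p))) ∈ _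
  rw [linN_mk, ← map_sub, mk_mem_vN_pow_iff 2 (by omega)]
  exact sub_Lam_lin_mem_sq p (h.1 hq)

end truncated

section psi

variable {A B C : Type u} [CommRing A] [CommRing B] [CommRing C] [Algebra A B] [Algebra A C]
  [Algebra B C] [IsScalarTower A B C]
variable {J : Ideal B} (hC : IsQuot J C) (N : ℕ) [Algebra.FormallySmooth A C]

/-- the comparison map `EN → B ⧸ J ^ 2` -/
noncomputable def psiN : EN J C N →ₐ[A] B ⧸ J ^ 2 :=
  Ideal.Quotient.liftₐ _ (Phi0 (A := A) hC 2 two_ne_zero) (fun p hp => by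
    have h1 := Phi0_mem (A := A) hC 2 two_ne_zero (N + 2) p hp
    have h2 : (J ^ (N + 2)).map (Ideal.Quotient.mk (J ^ 2)) = ⊥ := by
      rw [eq_bot_iff, ← Ideal.map_quotient_self (J ^ 2)]
      exact Ideal.map_mono (Ideal.pow_le_pow_right (by omega))
    rw [h2] at h1
    exact h1)

lemma psiN_mk (p : MvPolynomial ↥J C) :
    psiN (A := A) hC N (mkE J C N p) = Phi0 (A := A) hC 2 two_ne_zero p := rfl

lemma gq_psiN (q : EN J C N) :
    gq (A := A) hC 2 two_ne_zero (psiN (A := A) hC N q) = ccN J C N q := by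
  obtain ⟨p, rfl⟩ := Ideal.Quotient.mk_surjective q
  show gq (A := A) hC 2 two_ne_zero (psiN (A := A) hC N (mkE J C N p)) = ccN J C N (mkE J C N p)
  rw [psiN_mk, gq_Phi0, ccN_mk]

lemma psiN_surjective : Function.Surjective (psiN (A := A) hC N) := by
  intro x
  obtain ⟨b, rfl⟩ := Ideal.Quotient.mk_surjective x
  have h1 := sec_sub_mem (A := A) hC 2 two_ne_zero b
  rw [Ideal.mem_map_iff_of_surjective _ Ideal.Quotient.mk_surjective] at h1
  obtain ⟨y, hy, hyb⟩ := h1
  refine ⟨mkE J C N (MvPolynomial.C (algebraMap B C b) - X ⟨y, hy⟩), ?_⟩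
  rw [psiN_mk, map_sub, Phi0_C, Phi0_X]
  show _ - Ideal.Quotient.mk (J ^ 2) y = _
  rw [hyb]
  ring

lemma ker_psiN_le : RingHom.ker ((psiN (A := A) hC N : EN J C N →ₐ[A] B ⧸ J ^ 2) :
    EN J C N →+* B ⧸ J ^ 2) ≤ vN J C N := by
  intro q hq
  rw [RingHom.mem_ker] at hq
  rw [mem_vN_iff, ← gq_psiN (A := A) hC]
  have : psiN (A := A) hC N q = 0 := hq
  rw [this, map_zero]

lemma ker_psiN_nilpotent :
    IsNilpotent (RingHom.ker ((psiN (A := A) hC N : EN J C N →ₐ[A] B ⧸ J ^ 2) :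
      EN J C N →+* B ⧸ J ^ 2)) := by
  refine ⟨N + 2, ?_⟩
  rw [Ideal.zero_eq_bot, eq_bot_iff, ← vN_pow J C N]
  exact Ideal.pow_right_mono (ker_psiN_le hC N) _

lemma psiN_eq_zero_of_mem_sq (z : EN J C N) (hz : z ∈ vN J C N ^ 2) :
    psiN (A := A) hC N z = 0 := by
  obtain ⟨p, rfl⟩ := Ideal.Quotient.mk_surjective z
  have h3 := (mk_mem_vN_pow_iff 2 (by omega) p).1 hz
  have h4 := Phi0_mem (A := A) hC 2 two_ne_zero 2 p h3
  rw [Ideal.map_quotient_self, Ideal.mem_bot] at h4
  exact h4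

variable [Module C J.Cotangent] [IsScalarTower B C J.Cotangent]

/-- on the ideal of the variables, `psiN` is the linear part -/
lemma exists_psiN_eq [DecidableEq ↥J] (q : EN J C N) (hq : q ∈ vN J C N) :
    ∃ y : ↥J, J.toCotangent y = piJ J C (linN J C N q) ∧
      psiN (A := A) hC N q = Ideal.Quotient.mk (J ^ 2) (y : B) := by
  obtain ⟨y, hy1, hy2⟩ := exists_Phi0_Lam_sub_mem (A := A) hC 2 two_ne_zero (linN J C N q)
  refine ⟨y, hy1, ?_⟩
  rw [Ideal.map_quotient_self, Ideal.mem_bot, sub_eq_zero] at hy2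
  rw [← hy2, ← psiN_mk (A := A) hC N, ← sub_eq_zero, ← map_sub]
  exact psiN_eq_zero_of_mem_sq hC N _ (sub_mk_Lam_linN_mem_sq q hq)

end psi

end Groth.Agent.LibAdicSym29
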