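import Groth.Statements.S4537
import Mathlib.RingTheory.Ideal.Quotient.Nilpotent
import Mathlib.RingTheory.Smooth.Basic
-- import your own Groth.Agent.* helpers here

set_option autoImplicit false
universe u
open EGA41

namespace Groth.Agent.S4537

lemma nilp_lift {A B : Type u} [CommRing A] [CommRing B] [Algebra A B] (𝔫 : Ideal B)
    (h : CAlgX.IsAdicFormallySmooth A B 𝔫) (C : Type u) [CommRing C] (J : Ideal C)
    (hJ : IsNilpotent J) :
    IsNilpotent J → ∀ [Algebra A C] (g : B →ₐ[A] C ⧸ J), (∃ k : ℕ, ∀ x ∈ 𝔫 ^ k, g x = 0) →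
      ∃ f : B →ₐ[A] C, (Ideal.Quotient.mkₐ A J).comp f = g := by
  apply Ideal.IsNilpotent.induction_on (S := C) J hJ
    (P := fun S _ I => IsNilpotent I → ∀ [Algebra A S] (g : B →ₐ[A] S ⧸ I),
      (∃ k : ℕ, ∀ x ∈ 𝔫 ^ k, g x = 0) → ∃ f : B →ₐ[A] S, (Ideal.Quotient.mkₐ A I).comp f = g)
  · intro S _ I hI _ _ g hg
    exact h S I hI g hg
  · intro S _ I J hIJ h₁ h₂ hJnil _ g hg
    obtain ⟨k, hk⟩ := hg
    obtain ⟨m, hm⟩ := hJnil
    let e : ((S ⧸ I) ⧸ J.map (Ideal.Quotient.mk I)) ≃ₐ[A] S ⧸ J :=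
      { (DoubleQuot.quotQuotEquivQuotSup I J).trans
          (Ideal.quotEquivOfEq (sup_eq_right.mpr hIJ)) with
        commutes' := fun x => rfl }
    have hnil' : IsNilpotent (J.map (Ideal.Quotient.mk I)) :=
      ⟨m, by rw [← Ideal.map_pow, hm, Ideal.zero_eq_bot, Ideal.map_bot, Ideal.zero_eq_bot]⟩
    have hnilI : IsNilpotent I :=
      ⟨m, by rw [Ideal.zero_eq_bot, eq_bot_iff, ← Ideal.zero_eq_bot, ← hm]; exact Ideal.pow_right_mono hIJ m⟩
    obtain ⟨g', e1⟩ := h₂ hnil' (e.symm.toAlgHom.comp g)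
      ⟨k, fun x hx => by simp [hk x hx]⟩
    have hk' : 𝔫 ^ k ≤ (J.map (Ideal.Quotient.mk I)).comap g' := by
      intro x hx
      rw [Ideal.mem_comap, ← Ideal.Quotient.eq_zero_iff_mem]
      have := AlgHom.congr_fun e1 x
      simp only [AlgHom.comp_apply, Ideal.Quotient.mkₐ_eq_mk] at this
      rw [this, hk x hx]
      simp
    have hkm : ∀ x ∈ 𝔫 ^ (k * m), g' x = 0 := by
      intro x hx
      have h3 : 𝔫 ^ (k * m) ≤ ((J.map (Ideal.Quotient.mk I)) ^ m).comap g' := by
        rw [pow_mul]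
        exact (Ideal.pow_right_mono hk' m).trans (Ideal.le_comap_pow _ m)
      have := h3 hx
      rw [← Ideal.map_pow, hm, Ideal.zero_eq_bot, Ideal.map_bot] at this
      simpa using this
    obtain ⟨f, rfl⟩ := h₁ hnilI g' ⟨k * m, hkm⟩
    replace e1 := congr_arg e.toAlgHom.comp e1
    conv_rhs at e1 =>
      rw [← AlgHom.comp_assoc, AlgEquiv.comp_symm, AlgHom.id_comp]
    exact ⟨f, e1⟩

/-- For a discrete base and an adic algebra: let A be a discrete ring and B an A-algebra with the 𝔫-adic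
topology. If every continuous A-algebra map from B to a quotient C/J with J² = 0 lifts to C, then
the same holds for every nilpotent J; hence the square-zero and the nilpotent forms of adic formal
smoothness agree. -/
theorem result {A B : Type u} [CommRing A] [CommRing B] [Algebra A B]
    (𝔫 : Ideal B) :
    CAlgX.IsAdicFormallySmooth A B 𝔫 ↔ EGA41.IsFormallySmoothAdic A ⊥ B 𝔫 := by
  constructor
  · intro h C _ _ J hJ _ u hu
    exact nilp_lift 𝔫 h C J hJ hJ u hu
  · intro h C _ _ J hJ ψ hψ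
    exact h C J ⟨2, hJ⟩ ⟨1, by simp⟩ ψ hψ

end Groth.Agent.S4537
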