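import Groth.Agent.LibAdicSym29a
import Groth.Agent.LibAdicSym29b
import Groth.Agent.LibSymGr29a
import Groth.Agent.S4537

/-!
# Adic formal smoothness ⇒ `J/J²` projective and `Sym(J/J²) ≅ gr_J` (helper29)

`J` an ideal of the `A`-algebra `B`, `C = B/J` formally smooth over `A`, `B` formally smooth over
`A` for the `J`-adic topology.
* `exists_lift_of_surjective`: lifting along surjections with nilpotent kernel.
* `exists_taylor`: Taylor maps `τ : B →ₐ[A] C[X_J] ⧸ (X)^(N+2)` lifting `B → B ⧸ J²`.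
* `projective_cotangent`, `phiJ_injective`, `forward`.
-/

set_option autoImplicit false
set_option linter.unusedSectionVars false
universe u v w

namespace Groth.Agent.LibAdicSym29

open Groth.Agent.LibPP29 Groth.Agent.LibSymGr29 MvPolynomial
open scoped BigOperators

section lift

variable {A B : Type u} [CommRing A] [CommRing B] [Algebra A B] {J : Ideal B}

/-- lifting along surjections with nilpotent kernel -/
lemma exists_lift_of_surjective (h : CAlgX.IsAdicFormallySmooth A B J) {T T' : Type u}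
    [CommRing T] [CommRing T'] [Algebra A T] [Algebra A T'] (g : T' →ₐ[A] T)
    (hg : Function.Surjective g) (hnil : IsNilpotent (RingHom.ker (g : T' →+* T)))
    (φ : B →ₐ[A] T) (hφ : ∃ k : ℕ, ∀ x ∈ J ^ k, φ x = 0) :
    ∃ φ' : B →ₐ[A] T', ∀ b, g (φ' b) = φ b := by
  obtain ⟨k, hk⟩ := hφ
  have hnil' : IsNilpotent (RingHom.ker g) := hnil
  let e := Ideal.quotientKerAlgEquivOfSurjective hg
  obtain ⟨f, hf⟩ := Groth.Agent.S4537.nilp_lift J h T' (RingHom.ker g) hnil' hnil'
    (e.symm.toAlgHom.comp φ) ⟨k, fun x hx => by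
      rw [AlgHom.comp_apply, hk x hx, map_zero]⟩
  refine ⟨f, fun b => ?_⟩
  have h1 : Ideal.Quotient.mk (RingHom.ker g) (f b) = e.symm (φ b) := congrArg (fun F => F b) hf
  have h2 : e (Ideal.Quotient.mk (RingHom.ker g) (f b)) = g (f b) := rfl
  rw [← h2, h1, AlgEquiv.apply_symm_apply]

end lift

section taylor

variable {A B C : Type u} [CommRing A] [CommRing B] [CommRing C] [Algebra A B] [Algebra A C]
  [Algebra B C] [IsScalarTower A B C]
variable {J : Ideal B} (hC : IsQuot J C) [Algebra.FormallySmooth A C]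

include hC in
lemma exists_taylor (hB : CAlgX.IsAdicFormallySmooth A B J) (N : ℕ) :
    ∃ τ : B →ₐ[A] EN J C N,
      ∀ b, psiN (A := A) hC N (τ b) = Ideal.Quotient.mk (J ^ 2) b :=
  exists_lift_of_surjective hB (psiN (A := A) hC N) (psiN_surjective hC N)
    (ker_psiN_nilpotent hC N) (Ideal.Quotient.mkₐ A (J ^ 2))
    ⟨2, fun x hx => Ideal.Quotient.eq_zero_iff_mem.2 hx⟩

variable {N : ℕ} (τ : B →ₐ[A] EN J C N)
  (hτ : ∀ b, psiN (A := A) hC N (τ b) = Ideal.Quotient.mk (J ^ 2) b)

include hτ in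
lemma ccN_tau (b : B) : ccN J C N (τ b) = algebraMap B C b := by
  rw [← gq_psiN (A := A) hC, hτ, gq_mk]

include hτ in
lemma tau_mem (x : B) (hx : x ∈ J) : τ x ∈ vN J C N := by
  rw [mem_vN_iff, ccN_tau hC τ hτ, hC.ker_iff]
  exact hx

include hτ in
lemma tau_mem_pow (m : ℕ) (x : B) (hx : x ∈ J ^ m) : τ x ∈ vN J C N ^ m := by
  have h1 : J ≤ (vN J C N).comap (τ : B →+* EN J C N) := fun y hy => tau_mem hC τ hτ y hy
  exact ((Ideal.pow_right_mono h1 m).trans (Ideal.le_comap_pow _ m)) hx

include hτ in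
lemma tau_sub_mem (b : B) : τ b - mkE J C N (MvPolynomial.C (algebraMap B C b)) ∈ vN J C N := by
  have := sub_mk_C_mem (τ b)
  rwa [ccN_tau hC τ hτ] at this

/-- the linear part of the Taylor map on `J`, as a `B`-linear map -/
noncomputable def iB : ↥J →ₗ[B] (↥J →₀ C) where
  toFun x := linN J C N (τ (x : B))
  map_add' x y := by
    show linN J C N (τ ((x + y : ↥J) : B)) = _
    rw [Submodule.coe_add, map_add, map_add]
  map_smul' b x := by
    show linN J C N (τ ((b • x : ↥J) : B)) = b • linN J C N (τ (x : B))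
    have h1 : ((b • x : ↥J) : B) = b * (x : B) := rfl
    rw [h1, map_mul, linN_mul_of_mem _ _ (tau_mem hC τ hτ _ x.2), ccN_tau hC τ hτ, algebraMap_smul]

lemma iB_apply (x : ↥J) : iB hC τ hτ x = linN J C N (τ (x : B)) := rfl

/-- the induced map on `J/J²` -/
noncomputable def iCot : J.Cotangent →ₗ[B] (↥J →₀ C) :=
  Submodule.liftQ _ (iB hC τ hτ) (by
    rw [Submodule.smul_le]
    intro r hr n _
    rw [LinearMap.mem_ker, map_smul, ← algebraMap_smul C r, (hC.ker_iff r).2 hr, zero_smul])

lemma iCot_toCotangent (x : ↥J) : iCot hC τ hτ (J.toCotangent x) = linN J C N (τ (x : B)) := rfl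

variable [Module C J.Cotangent] [IsScalarTower B C J.Cotangent]

/-- the induced `C`-linear map on `J/J²` -/
noncomputable def iC : J.Cotangent →ₗ[C] (↥J →₀ C) :=
  LinearMap.extendScalarsOfSurjective hC.surj (iCot hC τ hτ)

lemma iC_toCotangent (x : ↥J) : iC hC τ hτ (J.toCotangent x) = linN J C N (τ (x : B)) := rfl

lemma piJ_iC [DecidableEq ↥J] (ω : J.Cotangent) : piJ J C (iC hC τ hτ ω) = ω := by
  obtain ⟨x, rfl⟩ := J.toCotangent_surjective ω
  rw [iC_toCotangent]
  obtain ⟨y, hy1, hy2⟩ := exists_psiN_eq (A := A) hC N (τ (x : B)) (tau_mem hC τ hτ _ x.2)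
  rw [← hy1, Ideal.toCotangent_eq]
  rw [hτ, Ideal.Quotient.eq] at hy2
  have : (y : B) - (x : B) = -((x : B) - y) := by ring
  rw [this]
  exact (Ideal.neg_mem_iff _).2 hy2

include hC τ hτ in
theorem projective_cotangent_of_taylor : Module.Projective C J.Cotangent := by
  classical
  exact Module.Projective.of_split (iC hC τ hτ) (piJ J C) (LinearMap.ext (piJ_iC hC τ hτ))

end taylor

section inj

variable {A B C : Type u} [CommRing A] [CommRing B] [CommRing C] [Algebra A B] [Algebra A C]
  [Algebra B C] [IsScalarTower A B C]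
variable {J : Ideal B} (hC : IsQuot J C) [Algebra.FormallySmooth A C]
variable {N : ℕ} (τ : B →ₐ[A] EN J C N)
  (hτ : ∀ b, psiN (A := A) hC N (τ b) = Ideal.Quotient.mk (J ^ 2) b)
variable [Module C J.Cotangent] [IsScalarTower B C J.Cotangent]
variable [DecidableEq ↥J] (ι : Type u) [Fintype ι] [DecidableEq ι]

/-- the linear form `ω ↦ Σ i(ω)_x X_x` on `J/J²` -/
noncomputable def ellC : J.Cotangent →ₗ[C] MvPolynomial ↥J C :=
  (Lam (Finsupp.basisSingleOne (R := C) (ι := ↥J))) ∘ₗ (iC hC τ hτ)

/-- the same, `B`-linear -/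
noncomputable def ellB : J.Cotangent →ₗ[B] MvPolynomial ↥J C :=
  (ellC hC τ hτ).restrictScalars B

lemma ellB_apply (ω : J.Cotangent) : ellB hC τ hτ ω = ellC hC τ hτ ω := rfl

lemma ellC_toCotangent (x : ↥J) : ellC hC τ hτ (J.toCotangent x) =
    Lam (Finsupp.basisSingleOne (R := C) (ι := ↥J)) (linN J C N (τ (x : B))) := rfl

lemma ellB_mem (ω : J.Cotangent) : ellB hC τ hτ ω ∈ MvPolynomial.idealOfVars ↥J C :=
  Lam_mem (Finsupp.basisSingleOne (R := C) (ι := ↥J)) (iC hC τ hτ ω)

lemma ellB_toCotangent (x : ↥J) : ellB hC τ hτ (J.toCotangent x) =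
    Lam (Finsupp.basisSingleOne (R := C) (ι := ↥J)) (linN J C N (τ (x : B))) := rfl

attribute [local instance] Groth.Agent.LibSymComp29.modBT

lemma PlSym_fwdQ (z : SymmetricPower B ι J.Cotangent) :
    PlSym (ellC hC τ hτ) (fwdQ (C := C) ι z) = PlSym (ellB hC τ hτ) z := by
  have hz : z ∈ Submodule.span B (Set.range (SymmetricPower.tprod B (ι := ι)
      (M := J.Cotangent))) := by
    rw [SymmetricPower.span_tprod_eq_top]; trivial
  induction hz using Submodule.span_induction with
  | mem t ht =>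
    obtain ⟨ω, rfl⟩ := ht
    rw [fwdQ_tprod, PlSym_tprod, PlSym_tprod]
    rfl
  | zero => rw [map_zero, map_zero, map_zero]
  | add a b _ _ ha hb => rw [map_add, map_add, map_add, ha, hb]
  | smul b a _ ha =>
    rw [map_smul, Groth.Agent.LibSymComp29.smulBT, map_smul, map_smul, ha, algebraMap_smul]

/-- every symmetric tensor is represented, compatibly with the Taylor map, by an element of
`J^n` -/
lemma exists_rep (z : SymmetricPower B ι J.Cotangent) :
    ∃ (W : B) (hW : W ∈ J ^ (Fintype.card ι)),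
      phiJ J ι z = grmk J (Fintype.card ι) ⟨W, hW⟩ ∧
      τ W - mkE J C N (PlSym (ellB hC τ hτ) z) ∈ vN J C N ^ (Fintype.card ι + 1) := by
  have hz : z ∈ Submodule.span B (Set.range (SymmetricPower.tprod B (ι := ι)
      (M := J.Cotangent))) := by
    rw [SymmetricPower.span_tprod_eq_top]; trivial
  induction hz using Submodule.span_induction with
  | mem t ht =>
    obtain ⟨ω, rfl⟩ := ht
    choose x hx using fun j => J.toCotangent_surjective (ω j)
    obtain rfl : ω = fun j => J.toCotangent (x j) := funext fun j => (hx j).symm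
    refine ⟨∏ j, (x j : B), LibSymGr29.prod_mem J ι x, ?_, ?_⟩
    · rw [phiJ_tprod, zetaJ_eq]
    · rw [PlSym_tprod, map_prod, map_prod]
      have h1 := LibSymGr29.prod_sub_prod_mem (vN J C N) Finset.univ
        (fun j => τ (x j : B))
        (fun j => mkE J C N (ellB hC τ hτ (J.toCotangent (x j))))
        (fun j _ => tau_mem hC τ hτ _ (x j).2)
        (fun j _ => (mk_mem_vN_iff _).2 (ellB_mem hC τ hτ _))
        (fun j _ => by
          rw [ellB_toCotangent]
          exact sub_mk_Lam_linN_mem_sq (τ (x j : B)) (tau_mem hC τ hτ _ (x j).2))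
      rwa [Finset.card_univ] at h1
  | zero =>
    exact ⟨0, Ideal.zero_mem _, by rw [map_zero]; exact (map_zero _).symm, by simp⟩
  | add a b _ _ ha hb =>
    obtain ⟨W₁, hW₁, h11, h12⟩ := ha
    obtain ⟨W₂, hW₂, h21, h22⟩ := hb
    refine ⟨W₁ + W₂, Ideal.add_mem _ hW₁ hW₂, ?_, ?_⟩
    · rw [map_add, h11, h21, ← map_add]
      rfl
    · have : τ (W₁ + W₂) - mkE J C N (PlSym (ellB hC τ hτ) (a + b)) =
          (τ W₁ - mkE J C N (PlSym (ellB hC τ hτ) a)) +
            (τ W₂ - mkE J C N (PlSym (ellB hC τ hτ) b)) := by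
        rw [map_add, map_add, map_add]; ring
      rw [this]
      exact Ideal.add_mem _ h12 h22
  | smul b a _ ha =>
    obtain ⟨W, hW, h1, h2⟩ := ha
    refine ⟨b * W, Ideal.mul_mem_left _ _ hW, ?_, ?_⟩
    · rw [map_smul, h1, ← map_smul]
      rfl
    · have h3 : mkE J C N (PlSym (ellB hC τ hτ) (b • a)) =
          mkE J C N (MvPolynomial.C (algebraMap B C b)) * mkE J C N (PlSym (ellB hC τ hτ) a) := by
        rw [map_smul, ← algebraMap_smul C b, MvPolynomial.smul_eq_C_mul, map_mul]
      have h4 : τ (b * W) - mkE J C N (PlSym (ellB hC τ hτ) (b • a)) =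
          (τ b - mkE J C N (MvPolynomial.C (algebraMap B C b))) * τ W +
            mkE J C N (MvPolynomial.C (algebraMap B C b)) *
              (τ W - mkE J C N (PlSym (ellB hC τ hτ) a)) := by
        rw [h3, map_mul]; ring
      rw [h4]
      refine Ideal.add_mem _ ?_ (Ideal.mul_mem_left _ _ h2)
      have h5 : vN J C N ^ (Fintype.card ι + 1) = vN J C N * vN J C N ^ (Fintype.card ι) :=
        pow_succ' (vN J C N) (Fintype.card ι)
      rw [h5]
      exact Ideal.mul_mem_mul (tau_sub_mem hC τ hτ b) (tau_mem_pow hC τ hτ _ W hW)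

include hC τ hτ in
/-- injectivity of the canonical map in degrees `≤ N + 1` -/
theorem phiJ_injective_of_taylor [Nonempty ι] (hN : Fintype.card ι ≤ N + 1) :
    Function.Injective (phiJ J ι) := by
  rw [injective_iff_map_eq_zero]
  intro z hz
  obtain ⟨W, hW, h1, h2⟩ := exists_rep hC τ hτ ι z
  rw [h1, LibSymGr29.grmk_eq_zero_iff] at hz
  have h3 := tau_mem_pow hC τ hτ _ W hz
  have h4 : mkE J C N (PlSym (ellB hC τ hτ) z) ∈ vN J C N ^ (Fintype.card ι + 1) := by
    have := Ideal.sub_mem _ h3 h2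
    simpa using this
  rw [mk_mem_vN_pow_iff _ (by omega), ← PlSym_fwdQ] at h4
  have h5 : PlSym (ellC hC τ hτ) (fwdQ (C := C) ι z) = 0 :=
    eq_zero_of_isHomogeneous_of_mem (Fintype.card ι) _
      (PlSym_isHomogeneous (Finsupp.basisSingleOne (R := C) (ι := ↥J)) (iC hC τ hτ) _) h4
  have h6 := eq_zero_of_PlSym_eq_zero (Finsupp.basisSingleOne (R := C) (ι := ↥J)) (piJ J C)
    (iC hC τ hτ) (piJ_iC hC τ hτ) _ h5
  exact fwdQ_injective hC.surj ι (by rw [h6, map_zero])

end inj

section forward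

variable {A B C : Type u} [CommRing A] [CommRing B] [CommRing C] [Algebra A B] [Algebra A C]
  [Algebra B C] [IsScalarTower A B C]
variable {J : Ideal B} (hC : IsQuot J C) [Algebra.FormallySmooth A C]
variable [Module C J.Cotangent] [IsScalarTower B C J.Cotangent]

include hC in
/-- adic formal smoothness gives projectivity of the conormal module and bijectivity of
`Sym(J/J²) → gr_J(B)` -/
theorem forward (hB : CAlgX.IsAdicFormallySmooth A B J) :
    Module.Projective C J.Cotangent ∧ PP16.SymGrBijective B J := by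
  classical
  refine ⟨?_, ?_⟩
  · obtain ⟨τ, hτ⟩ := exists_taylor (A := A) hC hB 0
    exact projective_cotangent_of_taylor hC τ hτ
  · rw [symGrBijective_iff]
    intro ι _ _
    obtain ⟨τ, hτ⟩ := exists_taylor (A := A) hC hB (Fintype.card ι)
    exact phiJ_injective_of_taylor hC τ hτ ι (by omega)

end forward

end Groth.Agent.LibAdicSym29
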