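import Groth.Agent.LibAdicSym29c

/-!
# From `J/J²` projective and `Sym(J/J²) ≅ gr_J` to polynomial presentations of `B ⧸ J ^ M`
(helper29)

* `symMap`: functoriality of the symmetric power; `exists_expo_eq'` (no finiteness of `κ`).
* `E0`: the idempotent endomorphism of `C[X_J]` attached to a splitting `i` of `F → J/J²`.
* `exists_PlSym_eq` (every homogeneous polynomial is a symmetric tensor),
  `exists_congr` (the class of `Phi0` of a symmetric tensor in `gr_J`).
-/

set_option autoImplicit false
set_option linter.unusedSectionVars false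
universe u v w

namespace Groth.Agent.LibAdicSym29

open Groth.Agent.LibPP29 Groth.Agent.LibSymGr29 MvPolynomial
open scoped BigOperators

section symMap

variable {R : Type u} [CommRing R] {M : Type v} [AddCommGroup M] [Module R M]
  {M' : Type v} [AddCommGroup M'] [Module R M'] {M'' : Type v} [AddCommGroup M''] [Module R M'']
  (ι : Type u)

/-- functoriality of the symmetric power -/
noncomputable def symMap (g : M →ₗ[R] M') : SymmetricPower R ι M →ₗ[R] SymmetricPower R ι M' :=
  symLift ((SymmetricPower.tprod R (ι := ι) (M := M')).compLinearMap (fun _ => g))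
    (fun σ f => by
      simp only [MultilinearMap.compLinearMap_apply]
      exact SymmetricPower.tprod_equiv σ (fun j => g (f j)))

lemma symMap_tprod (g : M →ₗ[R] M') (ω : ι → M) :
    symMap ι g (SymmetricPower.tprod R ω) = SymmetricPower.tprod R (fun j => g (ω j)) := by
  unfold symMap
  rw [symLift_tprod]
  rfl

lemma symMap_comp (g : M →ₗ[R] M') (g' : M' →ₗ[R] M'') (z : SymmetricPower R ι M) :
    symMap ι g' (symMap ι g z) = symMap ι (g' ∘ₗ g) z := by
  have hz : z ∈ Submodule.span R (Set.range (SymmetricPower.tprod R (ι := ι) (M := M))) := by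
    rw [SymmetricPower.span_tprod_eq_top]; trivial
  induction hz using Submodule.span_induction with
  | mem t ht =>
    obtain ⟨ω, rfl⟩ := ht
    rw [symMap_tprod, symMap_tprod, symMap_tprod]
    rfl
  | zero => rw [map_zero, map_zero, map_zero]
  | add a b _ _ ha hb => rw [map_add, map_add, map_add, ha, hb]
  | smul c a _ ha => rw [map_smul, map_smul, map_smul, ha]

end symMap

section expo

variable {ι : Type u} [Fintype ι] {κ : Type w} [DecidableEq κ]

/-- every exponent vector of the right degree is the exponent of a function (no finiteness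
assumption on `κ`) -/
lemma exists_expo_eq' (d : κ →₀ ℕ) (hd : d.degree = Fintype.card ι) :
    ∃ f : ι → κ, expo f = d := by
  classical
  obtain ⟨l, hl⟩ := Quotient.exists_rep (Finsupp.toMultiset d)
  have hlen : l.length = Fintype.card ι := by
    have h1 : Multiset.card (Finsupp.toMultiset d) = l.length := by
      rw [← hl]; rfl
    rw [← h1, Finsupp.card_toMultiset, ← hd, Finsupp.degree_apply]
    rfl
  let e : ι ≃ Fin l.length := Fintype.equivFinOfCardEq hlen.symm
  refine ⟨fun j => l.get (e j), ?_⟩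
  unfold expo
  have h2 : Multiset.map (fun j => l.get (e j)) Finset.univ.val = (l : Multiset κ) := by
    have h3 : Multiset.map (fun j => l.get (e j)) Finset.univ.val =
        Multiset.map l.get (Multiset.map e Finset.univ.val) := by
      rw [Multiset.map_map]; rfl
    rw [h3, Multiset.map_univ_val_equiv, Fin.univ_val_map, List.ofFn_get]
  rw [h2]
  have h4 : (l : Multiset κ) = Finsupp.toMultiset d := hl
  rw [h4, Finsupp.toMultiset_toFinsupp]

end expo

section E0

variable {B C : Type u} [CommRing B] [CommRing C] [Algebra B C]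
variable {J : Ideal B} [Module C J.Cotangent] [IsScalarTower B C J.Cotangent]
variable [DecidableEq ↥J] (i : J.Cotangent →ₗ[C] (↥J →₀ C))


/-- the endomorphism `X_x ↦ Lam (i (x mod J²))` of the polynomial ring -/
noncomputable def E0 : MvPolynomial ↥J C →ₐ[C] MvPolynomial ↥J C :=
  MvPolynomial.aeval (fun x : ↥J => Lam (Finsupp.basisSingleOne (R := C) (ι := ↥J)) (i (J.toCotangent x)))

lemma E0_X (x : ↥J) : E0 i (X x) = Lam (Finsupp.basisSingleOne (R := C) (ι := ↥J)) (i (J.toCotangent x)) := by
  unfold E0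
  rw [MvPolynomial.aeval_X]

lemma E0_C (c : C) : E0 i (MvPolynomial.C c) = MvPolynomial.C c := by
  unfold E0
  rw [MvPolynomial.aeval_C]
  rfl

lemma E0_Lam (v : ↥J →₀ C) : E0 i (Lam (Finsupp.basisSingleOne (R := C) (ι := ↥J)) v) = Lam (Finsupp.basisSingleOne (R := C) (ι := ↥J)) (i (piJ J C v)) := by
  induction v using Finsupp.induction_linear with
  | zero => simp
  | add a b ha hb => rw [map_add, map_add, ha, hb, map_add, map_add, map_add]
  | single k c =>
    have h1 : (Finsupp.single k c : ↥J →₀ C) = c • (Finsupp.basisSingleOne (R := C) (ι := ↥J)) k := by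
      rw [Finsupp.coe_basisSingleOne, Finsupp.smul_single, smul_eq_mul, mul_one]
    rw [h1, map_smul, map_smul, Lam_basis, E0_X, map_smul, Finsupp.coe_basisSingleOne, piJ_single,
      one_smul, map_smul, map_smul]

lemma E0_E0 (hi : ∀ ω, piJ J C (i ω) = ω) (p : MvPolynomial ↥J C) : E0 i (E0 i p) = E0 i p := by
  have h : (E0 i).comp (E0 i) = E0 i := by
    refine MvPolynomial.algHom_ext fun x => ?_
    rw [AlgHom.comp_apply, E0_X, E0_Lam, hi]
  exact congrArg (fun f : MvPolynomial ↥J C →ₐ[C] MvPolynomial ↥J C => f p) h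

lemma E0_mem_pow (m : ℕ) (p : MvPolynomial ↥J C)
    (hp : p ∈ (MvPolynomial.idealOfVars ↥J C) ^ m) :
    E0 i p ∈ (MvPolynomial.idealOfVars ↥J C) ^ m := by
  have h1 : MvPolynomial.idealOfVars ↥J C ≤
      (MvPolynomial.idealOfVars ↥J C).comap (E0 i : MvPolynomial ↥J C →+* MvPolynomial ↥J C) := by
    unfold MvPolynomial.idealOfVars
    rw [Ideal.span_le]
    rintro _ ⟨x, rfl⟩
    show E0 i (X x) ∈ Ideal.span (Set.range X)
    rw [E0_X]
    exact Lam_mem _ _
  exact ((Ideal.pow_right_mono h1 m).trans (Ideal.le_comap_pow _ m)) hp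

variable (ι : Type u) [Fintype ι] [DecidableEq ι]

/-- `Lam`, `B`-linear -/
noncomputable def LamB {B : Type u} [CommRing B] (J : Ideal B) (C : Type u) [CommRing C]
    [Algebra B C] [DecidableEq ↥J] : (↥J →₀ C) →ₗ[B] MvPolynomial ↥J C :=
  (Lam (Finsupp.basisSingleOne (R := C) (ι := ↥J))).restrictScalars B

/-- `piJ`, `B`-linear -/
noncomputable def piJB {B : Type u} [CommRing B] (J : Ideal B) (C : Type u) [CommRing C]
    [Algebra B C] [Module C J.Cotangent] [IsScalarTower B C J.Cotangent] :
    (↥J →₀ C) →ₗ[B] J.Cotangent := (piJ J C).restrictScalars B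

/-- `i`, `B`-linear -/
noncomputable def iJB : J.Cotangent →ₗ[B] (↥J →₀ C) := i.restrictScalars B

lemma E0_PlSym (z : SymmetricPower B ι (↥J →₀ C)) :
    E0 i (PlSym (LamB J C) z) = PlSym (LamB J C) (symMap ι ((iJB i) ∘ₗ (piJB J C)) z) := by
  have hz : z ∈ Submodule.span B (Set.range (SymmetricPower.tprod B (ι := ι)
      (M := (↥J →₀ C)))) := by
    rw [SymmetricPower.span_tprod_eq_top]; trivial
  induction hz using Submodule.span_induction with
  | mem t ht =>
    obtain ⟨v, rfl⟩ := ht
    rw [symMap_tprod, PlSym_tprod, PlSym_tprod, map_prod]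
    refine Finset.prod_congr rfl fun j _ => ?_
    exact E0_Lam i (v j)
  | zero => rw [map_zero, map_zero, map_zero, map_zero]
  | add a b _ _ ha hb => rw [map_add, map_add, map_add, map_add, ha, hb]
  | smul c a _ ha =>
    have h1 : PlSym (LamB J C) (c • a) = algebraMap B C c • PlSym (LamB J C) a := by
      rw [map_smul, algebraMap_smul]
    have h2 : PlSym (LamB J C) (symMap ι ((iJB i) ∘ₗ (piJB J C)) (c • a)) =
        algebraMap B C c • PlSym (LamB J C) (symMap ι ((iJB i) ∘ₗ (piJB J C)) a) := by
      rw [map_smul, map_smul, algebraMap_smul]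
    rw [h1, h2, map_smul, ha]

end E0

section rep

variable {B C : Type u} [CommRing B] [CommRing C] [Algebra B C] {J : Ideal B} [DecidableEq ↥J]
variable (hsurj : Function.Surjective (algebraMap B C)) (ι : Type u) [Fintype ι] [DecidableEq ι]

lemma LamB_apply (v : ↥J →₀ C) :
    LamB J C v = Lam (Finsupp.basisSingleOne (R := C) (ι := ↥J)) v := rfl

lemma PlSym_LamB_mon (f : ι → ↥J) (b : B) :
    PlSym (LamB J C) (b • SymmetricPower.tprod B
      (fun j => (Finsupp.basisSingleOne (R := C) (ι := ↥J)) (f j))) =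
      monomial (expo f) (algebraMap B C b) := by
  rw [map_smul, PlSym_tprod]
  simp only [LamB_apply, Lam_basis]
  rw [prod_X_eq C f, ← algebraMap_smul C b, MvPolynomial.smul_monomial, smul_eq_mul, mul_one]

include hsurj in
/-- every homogeneous polynomial of degree `card ι` comes from a symmetric tensor -/
lemma exists_PlSym_eq (q : MvPolynomial ↥J C) (hq : q.IsHomogeneous (Fintype.card ι)) :
    ∃ z : SymmetricPower B ι (↥J →₀ C), PlSym (LamB J C) z = q := by
  have key : ∀ d : ↥J →₀ ℕ, ∃ z : SymmetricPower B ι (↥J →₀ C),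
      d ∈ q.support → PlSym (LamB J C) z = monomial d (coeff d q) := by
    intro d
    by_cases hd : d ∈ q.support
    · have hdeg : d.degree = Fintype.card ι := by
        by_contra hne
        exact (MvPolynomial.mem_support_iff.mp hd) (hq.coeff_eq_zero hne)
      obtain ⟨f, rfl⟩ := exists_expo_eq' (ι := ι) d hdeg
      obtain ⟨b, hb⟩ := hsurj (coeff (expo f) q)
      exact ⟨_, fun _ => by rw [PlSym_LamB_mon, hb]⟩
    · exact ⟨0, fun h => absurd h hd⟩
  choose Z hZ using key
  refine ⟨∑ d ∈ q.support, Z d, ?_⟩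
  rw [map_sum]
  conv_rhs => rw [← MvPolynomial.support_sum_monomial_coeff q]
  exact Finset.sum_congr rfl fun d hd => hZ d hd

end rep

section congr

variable {A B C : Type u} [CommRing A] [CommRing B] [CommRing C] [Algebra A B] [Algebra A C]
  [Algebra B C] [IsScalarTower A B C]
variable {J : Ideal B} (hC : IsQuot J C) (M : ℕ) (hM : M ≠ 0) [Algebra.FormallySmooth A C]
variable [Module C J.Cotangent] [IsScalarTower B C J.Cotangent] [DecidableEq ↥J]
variable (ι : Type u) [Fintype ι] [DecidableEq ι]

lemma piJB_apply (v : ↥J →₀ C) : piJB J C v = piJ J C v := rfl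

omit [Algebra B C] in
lemma map_pow_succ (J : Ideal B) (M n : ℕ) :
    (J ^ (n + 1)).map (Ideal.Quotient.mk (J ^ M)) =
      J.map (Ideal.Quotient.mk (J ^ M)) * (J ^ n).map (Ideal.Quotient.mk (J ^ M)) := by
  rw [pow_succ', Ideal.map_mul]

/-- the class of `Phi0` of a symmetric tensor in the graded ring of `J` -/
lemma exists_congr (z : SymmetricPower B ι (↥J →₀ C)) :
    ∃ (W : B) (hW : W ∈ J ^ (Fintype.card ι)),
      Phi0 (A := A) hC M hM (PlSym (LamB J C) z) - Ideal.Quotient.mk (J ^ M) W ∈
        (J ^ (Fintype.card ι + 1)).map (Ideal.Quotient.mk (J ^ M)) ∧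
      phiJ J ι (symMap ι (piJB J C) z) = LibSymGr29.grmk J (Fintype.card ι) ⟨W, hW⟩ := by
  have hz : z ∈ Submodule.span B (Set.range (SymmetricPower.tprod B (ι := ι)
      (M := (↥J →₀ C)))) := by
    rw [SymmetricPower.span_tprod_eq_top]; trivial
  induction hz using Submodule.span_induction with
  | mem t ht =>
    obtain ⟨v, rfl⟩ := ht
    choose y hy1 hy2 using fun j => exists_Phi0_Lam_sub_mem (A := A) hC M hM (v j)
    refine ⟨∏ j, (y j : B), LibSymGr29.prod_mem J ι y, ?_, ?_⟩
    · rw [PlSym_tprod, map_prod, map_prod]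
      have h1 := LibSymGr29.prod_sub_prod_mem (J.map (Ideal.Quotient.mk (J ^ M))) Finset.univ
        (fun j => Phi0 (A := A) hC M hM (LamB J C (v j)))
        (fun j => Ideal.Quotient.mk (J ^ M) (y j : B))
        (fun j _ => by
          have := Phi0_mem (A := A) hC M hM 1 (LamB J C (v j))
            (by rw [pow_one]; exact Lam_mem _ _)
          rwa [pow_one] at this)
        (fun j _ => Ideal.mem_map_of_mem _ (y j).2)
        (fun j _ => by
          rw [← Ideal.map_pow]
          exact hy2 j)
      rwa [Finset.card_univ, ← Ideal.map_pow] at h1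
    · rw [symMap_tprod]
      have h2 : (fun j => piJB J C (v j)) = fun j => J.toCotangent (y j) :=
        funext fun j => (hy1 j).symm
      rw [h2, phiJ_tprod, zetaJ_eq]
  | zero =>
    exact ⟨0, Ideal.zero_mem _, by simp, by rw [map_zero, map_zero]; exact (map_zero _).symm⟩
  | add a b _ _ ha hb =>
    obtain ⟨W₁, hW₁, h11, h12⟩ := ha
    obtain ⟨W₂, hW₂, h21, h22⟩ := hb
    refine ⟨W₁ + W₂, Ideal.add_mem _ hW₁ hW₂, ?_, ?_⟩
    · have : Phi0 (A := A) hC M hM (PlSym (LamB J C) (a + b)) -
          Ideal.Quotient.mk (J ^ M) (W₁ + W₂) =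
          (Phi0 (A := A) hC M hM (PlSym (LamB J C) a) - Ideal.Quotient.mk (J ^ M) W₁) +
            (Phi0 (A := A) hC M hM (PlSym (LamB J C) b) - Ideal.Quotient.mk (J ^ M) W₂) := by
        rw [map_add, map_add, map_add]; ring
      rw [this]
      exact Ideal.add_mem _ h11 h21
    · rw [map_add, map_add, h12, h22, ← map_add]
      rfl
  | smul b a _ ha =>
    obtain ⟨W, hW, h1, h2⟩ := ha
    refine ⟨b * W, Ideal.mul_mem_left _ _ hW, ?_, ?_⟩
    · have h3 : Phi0 (A := A) hC M hM (PlSym (LamB J C) (b • a)) =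
          sec (A := A) hC M hM (algebraMap B C b) * Phi0 (A := A) hC M hM (PlSym (LamB J C) a) := by
        rw [map_smul, ← algebraMap_smul C b, MvPolynomial.smul_eq_C_mul, map_mul, Phi0_C]
      have h4 : Phi0 (A := A) hC M hM (PlSym (LamB J C) (b • a)) -
          Ideal.Quotient.mk (J ^ M) (b * W) =
          (sec (A := A) hC M hM (algebraMap B C b) - Ideal.Quotient.mk (J ^ M) b) *
              Phi0 (A := A) hC M hM (PlSym (LamB J C) a) +
            Ideal.Quotient.mk (J ^ M) b *
              (Phi0 (A := A) hC M hM (PlSym (LamB J C) a) - Ideal.Quotient.mk (J ^ M) W) := by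
        rw [h3, map_mul]; ring
      rw [h4]
      refine Ideal.add_mem _ ?_ (Ideal.mul_mem_left _ _ h1)
      rw [map_pow_succ]
      refine Ideal.mul_mem_mul (sec_sub_mem hC M hM b) ?_
      have h5 : Phi0 (A := A) hC M hM (PlSym (LamB J C) a) =
          Ideal.Quotient.mk (J ^ M) W +
            (Phi0 (A := A) hC M hM (PlSym (LamB J C) a) - Ideal.Quotient.mk (J ^ M) W) := by ring
      rw [h5]
      refine Ideal.add_mem _ (Ideal.mem_map_of_mem _ hW) ?_
      exact Ideal.map_mono (Ideal.pow_le_pow_right (Nat.le_succ _)) h1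
    · rw [map_smul, map_smul, h2, ← map_smul]
      rfl

end congr

end Groth.Agent.LibAdicSym29
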