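import Groth.Agent.LibAdicSym29d

/-!
# `J/J²` projective and `Sym(J/J²) ≅ gr_J` ⇒ adic formal smoothness (helper29)

`J` an ideal of the `A`-algebra `B`, `C = B/J` formally smooth over `A`.
* `mem_pow_of_Phi0_mem`: `Phi0 (E0 p) ∈ J^m ⇒ E0 p ∈ (X)^m` (`m ≤ M`);
* `Phi0_E0_surjective`: `Phi0 ∘ E0 : C[X_J] → B ⧸ J ^ M` is surjective;
* `backward`, `main` (EGA 0_IV 19.5.4, (a) ⇔ (b)).
-/

set_option autoImplicit false
set_option linter.unusedSectionVars false
universe u v w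

namespace Groth.Agent.LibAdicSym29

open Groth.Agent.LibPP29 Groth.Agent.LibSymGr29 MvPolynomial
open scoped BigOperators

section kernel

variable {A B C : Type u} [CommRing A] [CommRing B] [CommRing C] [Algebra A B] [Algebra A C]
  [Algebra B C] [IsScalarTower A B C]
variable {J : Ideal B} (hC : IsQuot J C) (M : ℕ) (hM : M ≠ 0) [Algebra.FormallySmooth A C]
variable [Module C J.Cotangent] [IsScalarTower B C J.Cotangent] [DecidableEq ↥J]
variable (i : J.Cotangent →ₗ[C] (↥J →₀ C)) (hi : ∀ ω, piJ J C (i ω) = ω)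
variable (hsym : ∀ (ι : Type u) [Fintype ι] [Nonempty ι], Function.Injective (phiJ J ι))

include hi hsym in
lemma step (ι : Type u) [Fintype ι] [DecidableEq ι] [Nonempty ι] (hle : Fintype.card ι + 1 ≤ M)
    (q : MvPolynomial ↥J C) (hq1 : E0 i q = q)
    (hq2 : q ∈ (MvPolynomial.idealOfVars ↥J C) ^ (Fintype.card ι))
    (hq3 : Phi0 (A := A) hC M hM q ∈ (J ^ (Fintype.card ι + 1)).map (Ideal.Quotient.mk (J ^ M))) :
    q ∈ (MvPolynomial.idealOfVars ↥J C) ^ (Fintype.card ι + 1) := by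
  set n := Fintype.card ι with hn
  set qn := homogeneousComponent n q with hqn
  have hq' : q - qn ∈ (MvPolynomial.idealOfVars ↥J C) ^ (n + 1) := by
    rw [MvPolynomial.mem_pow_idealOfVars_iff']
    intro d hd
    rw [coeff_sub, hqn, coeff_homogeneousComponent]
    by_cases hdn : d.degree = n
    · rw [if_pos hdn, sub_self]
    · rw [if_neg hdn, sub_zero]
      exact (MvPolynomial.mem_pow_idealOfVars_iff' n q).1 hq2 d (by omega)
  have hΦ : Phi0 (A := A) hC M hM qn ∈ (J ^ (n + 1)).map (Ideal.Quotient.mk (J ^ M)) := by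
    have h1 : qn = q - (q - qn) := by ring
    rw [h1, map_sub]
    exact Ideal.sub_mem _ hq3 (Phi0_mem hC M hM (n + 1) _ hq')
  obtain ⟨z, hz⟩ := exists_PlSym_eq (B := B) hC.surj ι qn (homogeneousComponent_isHomogeneous n q)
  obtain ⟨W, hW, h1, h2⟩ := exists_congr (A := A) hC M hM ι z
  rw [hz] at h1
  have h3 : Ideal.Quotient.mk (J ^ M) W ∈ (J ^ (n + 1)).map (Ideal.Quotient.mk (J ^ M)) := by
    have h4 : Ideal.Quotient.mk (J ^ M) W = Phi0 (A := A) hC M hM qn -
        (Phi0 (A := A) hC M hM qn - Ideal.Quotient.mk (J ^ M) W) := by ring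
    rw [h4]
    exact Ideal.sub_mem _ hΦ h1
  rw [mk_mem_map_iff J M (n + 1) hle] at h3
  have h5 : phiJ J ι (symMap ι (piJB J C) z) = 0 := by
    rw [h2, LibSymGr29.grmk_eq_zero_iff]
    exact h3
  have h6 : symMap ι (piJB J C) z = 0 := hsym ι (by rw [h5, map_zero])
  have h7 : E0 i qn = 0 := by
    rw [← hz, E0_PlSym, ← symMap_comp, h6, map_zero, map_zero]
  have h8 : q = E0 i (q - qn) := by
    rw [map_sub, h7, sub_zero, hq1]
  rw [h8]
  exact E0_mem_pow i (n + 1) _ hq'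

include hi hsym in
/-- the kernel of `Phi0 ∘ E0` modulo powers of `J` -/
theorem mem_pow_of_Phi0_mem (m : ℕ) (hm : m ≤ M) (p : MvPolynomial ↥J C)
    (hp : Phi0 (A := A) hC M hM (E0 i p) ∈ (J ^ m).map (Ideal.Quotient.mk (J ^ M))) :
    E0 i p ∈ (MvPolynomial.idealOfVars ↥J C) ^ m := by
  induction m with
  | zero => rw [pow_zero, Ideal.one_eq_top]; trivial
  | succ m ih =>
    have h0 := ih (by omega) (Ideal.map_mono (Ideal.pow_le_pow_right (Nat.le_succ m)) hp)
    rcases Nat.eq_zero_or_pos m with rfl | hpos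
    · rw [zero_add, pow_one, mem_vars_iff, ← gq_Phi0 (A := A) hC M hM, gq_eq_zero_iff]
      rw [zero_add, pow_one] at hp
      exact hp
    · obtain ⟨ι, _, _, _, hcard⟩ : ∃ (ι : Type u) (_ : Fintype ι) (_ : DecidableEq ι)
          (_ : Nonempty ι), Fintype.card ι = m :=
        ⟨ULift (Fin m), inferInstance, inferInstance, ⟨⟨⟨0, hpos⟩⟩⟩, by simp⟩
      subst hcard
      exact step hC M hM i hi hsym ι hm (E0 i p) (E0_E0 i hi p) h0 hp

end kernel

section surj

variable {A B C : Type u} [CommRing A] [CommRing B] [CommRing C] [Algebra A B] [Algebra A C]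
  [Algebra B C] [IsScalarTower A B C]
variable {J : Ideal B} (hC : IsQuot J C) (M : ℕ) (hM : M ≠ 0) [Algebra.FormallySmooth A C]
variable [Module C J.Cotangent] [IsScalarTower B C J.Cotangent] [DecidableEq ↥J]
variable (i : J.Cotangent →ₗ[C] (↥J →₀ C)) (hi : ∀ ω, piJ J C (i ω) = ω)

include hi in
lemma Phi0_E0_X_sub_mem (x : ↥J) :
    Ideal.Quotient.mk (J ^ M) (x : B) - Phi0 (A := A) hC M hM (E0 i (X x)) ∈
      (J ^ 2).map (Ideal.Quotient.mk (J ^ M)) := by
  obtain ⟨y, hy1, hy2⟩ := exists_Phi0_Lam_sub_mem (A := A) hC M hM (i (J.toCotangent x))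
  rw [hi, Ideal.toCotangent_eq] at hy1
  rw [E0_X]
  have h1 : Ideal.Quotient.mk (J ^ M) (x : B) -
      Phi0 (A := A) hC M hM (Lam (Finsupp.basisSingleOne (R := C) (ι := ↥J))
        (i (J.toCotangent x))) =
      -(Phi0 (A := A) hC M hM (Lam (Finsupp.basisSingleOne (R := C) (ι := ↥J))
        (i (J.toCotangent x))) - Ideal.Quotient.mk (J ^ M) (y : B)) -
      Ideal.Quotient.mk (J ^ M) ((y : B) - x) := by
    rw [map_sub]; ring
  rw [h1]
  exact Ideal.sub_mem _ ((Ideal.neg_mem_iff _).2 hy2) (Ideal.mem_map_of_mem _ hy1)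

lemma Phi0_E0_X_mem (x : ↥J) :
    Phi0 (A := A) hC M hM (E0 i (X x)) ∈ J.map (Ideal.Quotient.mk (J ^ M)) := by
  have := Phi0_mem (A := A) hC M hM 1 (E0 i (X x))
    (by rw [pow_one, E0_X]; exact Lam_mem _ _)
  rwa [pow_one] at this

include hi in
lemma exists_approx (m : ℕ) (w : B) (hw : w ∈ J ^ m) :
    ∃ p : MvPolynomial ↥J C, Ideal.Quotient.mk (J ^ M) w - Phi0 (A := A) hC M hM (E0 i p) ∈
      (J ^ (m + 1)).map (Ideal.Quotient.mk (J ^ M)) := by
  induction m generalizing w with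
  | zero =>
    refine ⟨MvPolynomial.C (algebraMap B C w), ?_⟩
    rw [E0_C, Phi0_C, zero_add, pow_one]
    have := sec_sub_mem (A := A) hC M hM w
    have h1 : Ideal.Quotient.mk (J ^ M) w - sec (A := A) hC M hM (algebraMap B C w) =
        -(sec (A := A) hC M hM (algebraMap B C w) - Ideal.Quotient.mk (J ^ M) w) := by ring
    rw [h1]
    exact (Ideal.neg_mem_iff _).2 this
  | succ m ih =>
    rw [pow_succ'] at hw
    refine Submodule.mul_induction_on hw ?_ ?_
    · intro x hx w' hw'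
      obtain ⟨p', hp'⟩ := ih w' hw'
      refine ⟨X ⟨x, hx⟩ * p', ?_⟩
      have h1 : Ideal.Quotient.mk (J ^ M) (x * w') -
          Phi0 (A := A) hC M hM (E0 i (X ⟨x, hx⟩ * p')) =
          (Ideal.Quotient.mk (J ^ M) x - Phi0 (A := A) hC M hM (E0 i (X ⟨x, hx⟩))) *
              Ideal.Quotient.mk (J ^ M) w' +
            Phi0 (A := A) hC M hM (E0 i (X ⟨x, hx⟩)) *
              (Ideal.Quotient.mk (J ^ M) w' - Phi0 (A := A) hC M hM (E0 i p')) := by
        rw [map_mul, map_mul, map_mul]; ring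
      rw [h1]
      refine Ideal.add_mem _ ?_ ?_
      · have h2 : (J ^ (m + 1 + 1)).map (Ideal.Quotient.mk (J ^ M)) =
            (J ^ 2).map (Ideal.Quotient.mk (J ^ M)) * (J ^ m).map (Ideal.Quotient.mk (J ^ M)) := by
          rw [← Ideal.map_mul, ← pow_add]
          congr 2
          omega
        rw [h2]
        exact Ideal.mul_mem_mul (Phi0_E0_X_sub_mem hC M hM i hi ⟨x, hx⟩)
          (Ideal.mem_map_of_mem _ hw')
      · rw [map_pow_succ J M (m + 1)]
        exact Ideal.mul_mem_mul (Phi0_E0_X_mem hC M hM i ⟨x, hx⟩) hp'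
    · rintro a b ⟨p₁, h₁⟩ ⟨p₂, h₂⟩
      refine ⟨p₁ + p₂, ?_⟩
      have h1 : Ideal.Quotient.mk (J ^ M) (a + b) - Phi0 (A := A) hC M hM (E0 i (p₁ + p₂)) =
          (Ideal.Quotient.mk (J ^ M) a - Phi0 (A := A) hC M hM (E0 i p₁)) +
            (Ideal.Quotient.mk (J ^ M) b - Phi0 (A := A) hC M hM (E0 i p₂)) := by
        rw [map_add, map_add, map_add]; ring
      rw [h1]
      exact Ideal.add_mem _ h₁ h₂

include hi in
lemma exists_eq_aux (k : ℕ) : ∀ (m : ℕ), M ≤ m + k → ∀ w ∈ J ^ m,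
    ∃ p : MvPolynomial ↥J C, Ideal.Quotient.mk (J ^ M) w = Phi0 (A := A) hC M hM (E0 i p) := by
  induction k with
  | zero =>
    intro m hm w hw
    refine ⟨0, ?_⟩
    rw [map_zero, map_zero, Ideal.Quotient.eq_zero_iff_mem]
    exact Ideal.pow_le_pow_right (by omega) hw
  | succ k ih =>
    intro m hm w hw
    obtain ⟨p₁, h₁⟩ := exists_approx (A := A) hC M hM i hi m w hw
    rw [Ideal.mem_map_iff_of_surjective _ Ideal.Quotient.mk_surjective] at h₁
    obtain ⟨w₂, hw₂, h₂⟩ := h₁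
    obtain ⟨p₂, h₃⟩ := ih (m + 1) (by omega) w₂ hw₂
    refine ⟨p₁ + p₂, ?_⟩
    rw [map_add, map_add, ← h₃, h₂]
    ring

include hi in
/-- `Phi0 ∘ E0` is surjective -/
theorem Phi0_E0_surjective (x : B ⧸ J ^ M) :
    ∃ p : MvPolynomial ↥J C, Phi0 (A := A) hC M hM (E0 i p) = x := by
  obtain ⟨w, rfl⟩ := Ideal.Quotient.mk_surjective x
  obtain ⟨p, hp⟩ := exists_eq_aux (A := A) hC M hM i hi M 0 (by omega) w
    (by rw [pow_zero, Ideal.one_eq_top]; trivial)
  exact ⟨p, hp.symm⟩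

end surj

section backward

variable {A : Type u} [CommRing A]

lemma exists_factor_algHom {R S T : Type u} [CommRing R] [CommRing S] [CommRing T] [Algebra A R]
    [Algebra A S] [Algebra A T] (f : R →ₐ[A] S) (hf : Function.Surjective f) (g : R →ₐ[A] T)
    (h : ∀ r, f r = 0 → g r = 0) : ∃ χ : S →ₐ[A] T, ∀ r, χ (f r) = g r := by
  let e := Ideal.quotientKerAlgEquivOfSurjective hf
  let g' : R ⧸ RingHom.ker f →ₐ[A] T :=
    Ideal.Quotient.liftₐ (RingHom.ker f) g (fun r hr => h r ((RingHom.mem_ker).1 hr))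
  refine ⟨g'.comp e.symm.toAlgHom, fun r => ?_⟩
  have h1 : e.symm (f r) = Ideal.Quotient.mk _ r := by
    rw [AlgEquiv.symm_apply_eq]; rfl
  show g' (e.symm (f r)) = g r
  rw [h1]
  rfl

variable {B C : Type u} [CommRing B] [CommRing C] [Algebra A B] [Algebra A C]
  [Algebra B C] [IsScalarTower A B C]
variable {J : Ideal B} (hC : IsQuot J C) [Algebra.FormallySmooth A C]
variable [Module C J.Cotangent] [IsScalarTower B C J.Cotangent]

include hC in
/-- `J/J²` projective and `Sym(J/J²) ≅ gr_J(B)` give adic formal smoothness -/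
theorem backward (hproj : Module.Projective C J.Cotangent) (hsym : PP16.SymGrBijective B J) :
    CAlgX.IsAdicFormallySmooth A B J := by
  classical
  rw [symGrBijective_iff] at hsym
  have hpi : Function.Surjective (piJ J C) := by
    intro ω
    obtain ⟨x, rfl⟩ := J.toCotangent_surjective ω
    exact ⟨Finsupp.single x 1, by rw [piJ_single, one_smul]⟩
  obtain ⟨i, hi'⟩ := Module.projective_lifting_property (piJ J C) LinearMap.id hpi
  have hi : ∀ ω, piJ J C (i ω) = ω := fun ω => LinearMap.congr_fun hi' ω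
  intro T _ _ Nn hN ψ hψ
  obtain ⟨k, hk⟩ := hψ
  have hk' : ∀ x ∈ J ^ (k + 1), ψ x = 0 :=
    fun x hx => hk x (Ideal.pow_le_pow_right (Nat.le_succ k) hx)
  have hM : (k + 1) + (k + 1) ≠ 0 := by omega
  let ψbar : B ⧸ J ^ ((k + 1) + (k + 1)) →ₐ[A] T ⧸ Nn :=
    Ideal.Quotient.liftₐ (J ^ ((k + 1) + (k + 1))) ψ
      (fun x hx => hk' x (Ideal.pow_le_pow_right (by omega) hx))
  have hψbar : ∀ y ∈ (J ^ (k + 1)).map (Ideal.Quotient.mk (J ^ ((k + 1) + (k + 1)))),
      ψbar y = 0 := by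
    intro y hy
    rw [Ideal.mem_map_iff_of_surjective _ Ideal.Quotient.mk_surjective] at hy
    obtain ⟨w, hw, rfl⟩ := hy
    exact hk' w hw
  let s : C →ₐ[A] T := Algebra.FormallySmooth.lift Nn ⟨2, hN⟩
    (ψbar.comp (sec (A := A) hC ((k + 1) + (k + 1)) hM))
  have hs : ∀ c, Ideal.Quotient.mk Nn (s c) = ψbar (sec (A := A) hC ((k + 1) + (k + 1)) hM c) :=
    fun c => Algebra.FormallySmooth.mk_lift _ _ _ c
  let t : ↥J → T := fun x => Function.surjInv Ideal.Quotient.mk_surjective (ψ (x : B))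
  have ht : ∀ x, Ideal.Quotient.mk Nn (t x) = ψ (x : B) := fun x => Function.surjInv_eq _ _
  let Ξ : MvPolynomial ↥J C →ₐ[A] T :=
    { MvPolynomial.eval₂Hom (s : C →+* T) t with
      commutes' := fun a => by
        show MvPolynomial.eval₂Hom _ _ (algebraMap A (MvPolynomial ↥J C) a) = _
        rw [MvPolynomial.algebraMap_apply, MvPolynomial.eval₂Hom_C]
        exact s.commutes a }
  have hΞC : ∀ c, Ξ (MvPolynomial.C c) = s c := fun c => MvPolynomial.eval₂Hom_C _ _ c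
  have hΞX : ∀ x, Ξ (X x) = t x := fun x => MvPolynomial.eval₂Hom_X' _ _ x
  have hΞ : ∀ p, Ideal.Quotient.mk Nn (Ξ p) =
      ψbar (Phi0 (A := A) hC ((k + 1) + (k + 1)) hM p) := by
    intro p
    have h : ((Ideal.Quotient.mk Nn).comp (Ξ : MvPolynomial ↥J C →+* T)) =
        ((ψbar : B ⧸ J ^ ((k + 1) + (k + 1)) →+* T ⧸ Nn).comp
          (Phi0 (A := A) hC ((k + 1) + (k + 1)) hM : MvPolynomial ↥J C →+* _)) := by
      refine MvPolynomial.ringHom_ext (fun r => ?_) (fun x => ?_)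
      · show Ideal.Quotient.mk Nn (Ξ (MvPolynomial.C r)) = ψbar (Phi0 (A := A) hC _ hM (MvPolynomial.C r))
        rw [hΞC, hs, Phi0_C]
      · show Ideal.Quotient.mk Nn (Ξ (X x)) = ψbar (Phi0 (A := A) hC _ hM (X x))
        rw [hΞX, ht, Phi0_X]
        rfl
    exact congrArg (fun f : MvPolynomial ↥J C →+* T ⧸ Nn => f p) h
  have hΞN : ∀ p ∈ (MvPolynomial.idealOfVars ↥J C) ^ (k + 1), Ξ p ∈ Nn := by
    intro p hp
    rw [← Ideal.Quotient.eq_zero_iff_mem, hΞ]
    exact hψbar _ (Phi0_mem hC _ hM (k + 1) p hp)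
  have hΞ0 : ∀ p ∈ (MvPolynomial.idealOfVars ↥J C) ^ ((k + 1) + (k + 1)), Ξ p = 0 := by
    intro p hp
    rw [pow_add] at hp
    refine Submodule.mul_induction_on hp ?_ ?_
    · intro a ha b hb
      have h1 : Ξ a * Ξ b ∈ Nn ^ 2 := by
        rw [pow_two]; exact Ideal.mul_mem_mul (hΞN a ha) (hΞN b hb)
      rw [hN] at h1
      rw [map_mul]
      exact h1
    · intro a b ha hb
      rw [map_add, ha, hb, add_zero]
  let E0A : MvPolynomial ↥J C →ₐ[A] MvPolynomial ↥J C := (E0 i).restrictScalars A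
  obtain ⟨χbar, hχbar⟩ := exists_factor_algHom
    ((Phi0 (A := A) hC ((k + 1) + (k + 1)) hM).comp E0A)
    (fun x => Phi0_E0_surjective (A := A) hC _ hM i hi x) (Ξ.comp E0A)
    (fun p hp => hΞ0 _ (mem_pow_of_Phi0_mem (A := A) hC _ hM i hi hsym _ le_rfl p (by
      have hp' : Phi0 (A := A) hC ((k + 1) + (k + 1)) hM (E0 i p) = 0 := hp
      rw [hp']
      exact Ideal.zero_mem _)))
  refine ⟨χbar.comp (Ideal.Quotient.mkₐ A (J ^ ((k + 1) + (k + 1)))), ?_⟩
  ext b
  obtain ⟨p, hp⟩ := Phi0_E0_surjective (A := A) hC _ hM i hi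
    (Ideal.Quotient.mk (J ^ ((k + 1) + (k + 1))) b)
  show Ideal.Quotient.mk Nn (χbar (Ideal.Quotient.mk (J ^ ((k + 1) + (k + 1))) b)) = ψ b
  have h2 : χbar (Phi0 (A := A) hC ((k + 1) + (k + 1)) hM (E0 i p)) = Ξ (E0 i p) := hχbar p
  rw [← hp, h2, hΞ, hp]
  rfl

include hC in
/-- EGA 0_IV 19.5.4, (a) ⇔ (b) -/
theorem main :
    CAlgX.IsAdicFormallySmooth A B J ↔
      (Module.Projective C J.Cotangent ∧ PP16.SymGrBijective B J) :=
  ⟨fun h => forward hC h, fun h => backward hC h.1 h.2⟩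

end backward

end Groth.Agent.LibAdicSym29
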