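import Groth.Agent.LibPB29b
import Groth.Agent.Lib.Helper17.PBasis

/-!
# LibPB29c: `p`-independence and differentials (fields)
-/

set_option autoImplicit false
universe u

namespace Groth.Agent.LibPB29

open EGA41

section

variable (p : ℕ) [hp : Fact p.Prime] (k : Type u) {K : Type u} [Field k] [Field K] [Algebra k K]
variable {ι : Type u} (x : ι → K)

/-- `FreeOn` over `k(K^p)` -/
def PFree (s : Set ι) : Prop :=
  letI : Field (pPowerSubalgebra p k K) := (isField_R p k K).toField
  FreeOn (pPowerSubalgebra p k K) p x s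

/-- `V` over `k(K^p)` -/
noncomputable def PV (s : Set ι) : Submodule (pPowerSubalgebra p k K) K :=
  letI : Field (pPowerSubalgebra p k K) := (isField_R p k K).toField
  V (pPowerSubalgebra p k K) p x s

variable [CharP K p]

/-- `d y` lies in the span of the `d (x i)`, `i ∈ s`, for `y ∈ k(K^p)(x i : i ∈ s)` -/
theorem D_mem_span_of_mem_PV (s : Set ι) (y : K) (hy : y ∈ PV p k x s) :
    KaehlerDifferential.D k K y ∈
      Submodule.span K ((fun i => KaehlerDifferential.D k K (x i)) '' s) := by
  let _ : Field (pPowerSubalgebra p k K) := (isField_R p k K).toField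
  have hF := hF_R p k K
  have hy' : y ∈ Algebra.adjoin (pPowerSubalgebra p k K) (x '' s) := by
    rw [← VA_eq_adjoin p x hF s]; exact hy
  clear hy
  induction hy' using Algebra.adjoin_induction with
  | mem z hz =>
    obtain ⟨i, hi, rfl⟩ := hz
    exact Submodule.subset_span ⟨i, hi, rfl⟩
  | algebraMap r =>
    have : KaehlerDifferential.D k K (algebraMap (pPowerSubalgebra p k K) K r) = 0 :=
      Groth.Agent.Lib.helper17.PBasis.derivation_eq_zero_of_mem (KaehlerDifferential.D k K) r
    rw [this]; exact Submodule.zero_mem _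
  | add a b _ _ ha hb => rw [map_add]; exact Submodule.add_mem _ ha hb
  | mul a b _ _ ha hb =>
    rw [Derivation.leibniz]
    exact Submodule.add_mem _ (Submodule.smul_mem _ _ hb) (Submodule.smul_mem _ _ ha)

omit [CharP K p] in
/-- a free family is injective on its index set -/
lemma injOn_of_pFree {s : Set ι} (hs : PFree p k x s) : Set.InjOn x s := by
  let _ : Field (pPowerSubalgebra p k K) := (isField_R p k K).toField
  intro a ha b hb hab
  by_contra hne
  refine notMem_of_freeOn p x hs ha ?_
  rw [hab]
  exact self_mem_V p x ⟨hb, fun h => hne (Set.mem_singleton_iff.1 h).symm⟩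

/-- a `p`-free subset of `K` extends to a `p`-basis, and the differentials of its members are part
of a basis -/
theorem exists_basis_of_pFree_id (L : Set K) (hL : PFree p k (id : K → K) L) :
    ∃ (B : Set K) (_ : L ⊆ B) (b : Module.Basis B K (Ω[K⁄k])),
      PV p k (id : K → K) B = ⊤ ∧ ∀ z : B, b z = KaehlerDifferential.D k K (z : K) := by
  let _ : Field (pPowerSubalgebra p k K) := (isField_R p k K).toField
  have hF := hF_R p k K
  obtain ⟨B, hLB, -, hBfree, hBgen⟩ :=
    exists_maximal_freeOn p (id : K → K) hF (Set.subset_univ L) hL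
  have hBtop : V (pPowerSubalgebra p k K) p (id : K → K) B = ⊤ := by
    rw [eq_top_iff]
    intro y _
    exact hBgen y (Set.mem_univ _)
  have hbasis : IsPBasis p k (Subtype.val : B → K) :=
    ⟨(isPIndependent_subtype_iff p k B).2 hBfree, (isPGenerating_subtype_iff p k B).2 hBtop⟩
  obtain ⟨b, hb⟩ := Groth.Agent.Lib.helper17.PBasis.exists_basis_kaehler hbasis
  exact ⟨B, hLB, b, hBtop, hb⟩

end

section

variable (p : ℕ) [hp : Fact p.Prime] (k : Type u) {K : Type u} [Field k] [Field K] [Algebra k K]
variable [CharP K p]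

/-- a `p`-free subset of `K` extends to a `p`-basis (all data) -/
theorem exists_pbasis_of_pFree_id (L : Set K) (hL : PFree p k (id : K → K) L) :
    ∃ (B : Set K), L ⊆ B ∧ IsPBasis p k (Subtype.val : B → K) ∧
      ∃ b : Module.Basis B K (Ω[K⁄k]), ∀ z : B, b z = KaehlerDifferential.D k K (z : K) := by
  let _ : Field (pPowerSubalgebra p k K) := (isField_R p k K).toField
  have hF := hF_R p k K
  obtain ⟨B, hLB, -, hBfree, hBgen⟩ :=
    exists_maximal_freeOn p (id : K → K) hF (Set.subset_univ L) hL
  have hBtop : V (pPowerSubalgebra p k K) p (id : K → K) B = ⊤ := by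
    rw [eq_top_iff]
    intro y _
    exact hBgen y (Set.mem_univ _)
  have hbasis : IsPBasis p k (Subtype.val : B → K) :=
    ⟨(isPIndependent_subtype_iff p k B).2 hBfree, (isPGenerating_subtype_iff p k B).2 hBtop⟩
  obtain ⟨b, hb⟩ := Groth.Agent.Lib.helper17.PBasis.exists_basis_kaehler hbasis
  exact ⟨B, hLB, hbasis, b, hb⟩

/-- every field extension in characteristic `p` has a `p`-basis -/
theorem exists_pbasis :
    ∃ (B : Set K), IsPBasis p k (Subtype.val : B → K) ∧
      ∃ b : Module.Basis B K (Ω[K⁄k]), ∀ z : B, b z = KaehlerDifferential.D k K (z : K) := by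
  let _ : Field (pPowerSubalgebra p k K) := (isField_R p k K).toField
  obtain ⟨B, -, h1, h2⟩ := exists_pbasis_of_pFree_id p k (∅ : Set K) (freeOn_empty p id)
  exact ⟨B, h1, h2⟩

end

end Groth.Agent.LibPB29
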