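import Groth.Statements.S2468
import Groth.Agent.LibPB29c
-- import your own Groth.Agent.* helpers here

set_option autoImplicit false
universe u
open EGA41

namespace Groth.Agent.S2468

open Groth.Agent.LibPB29

section

variable (p : ℕ) [hp : Fact p.Prime] {k K : Type u} [Field k] [Field K] [Algebra k K] [CharP K p]
variable {ι : Type u} (x : ι → K)

theorem li_of_indep (h : IsPIndependent p k x) :
    LinearIndependent K (fun i => KaehlerDifferential.D k K (x i)) := by
  let _ : Field (pPowerSubalgebra p k K) := (isField_R p k K).toField
  have hfree : PFree p k x Set.univ := (isPIndependent_iff p k x).1 h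
  have hinj : Function.Injective x := fun a b hab =>
    injOn_of_pFree p k x hfree (Set.mem_univ a) (Set.mem_univ b) hab
  have hL : PFree p k (id : K → K) (Set.range x) := by
    have := freeOn_comp_iff (F := pPowerSubalgebra p k K) p (id : K → K) x hinj hp.out.pos Set.univ
    rw [Set.image_univ] at this
    exact this.1 hfree
  obtain ⟨B, hLB, b, -, hb⟩ := exists_basis_of_pFree_id p k (Set.range x) hL
  let g : ι → B := fun i => ⟨x i, hLB ⟨i, rfl⟩⟩
  have hg : Function.Injective g := fun a b hab => hinj (congrArg Subtype.val hab)
  have := b.linearIndependent.comp g hg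
  convert this using 1
  funext i
  exact (hb (g i)).symm

theorem indep_of_li (hli : LinearIndependent K (fun i => KaehlerDifferential.D k K (x i))) :
    IsPIndependent p k x := by
  let _ : Field (pPowerSubalgebra p k K) := (isField_R p k K).toField
  have hF := hF_R p k K
  rw [isPIndependent_iff, freeOn_iff_forall_notMem p x hF]
  intro a _ hmem
  have := D_mem_span_of_mem_PV p k x (Set.univ \ {a}) (x a) hmem
  exact hli.notMem_span_image (s := Set.univ \ {a}) (x := a) (by simp) this

theorem span_of_gen (h : IsPGenerating p k x) :
    Submodule.span K (Set.range fun i => KaehlerDifferential.D k K (x i)) = ⊤ := by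
  let _ : Field (pPowerSubalgebra p k K) := (isField_R p k K).toField
  have htop : PV p k x Set.univ = ⊤ := (isPGenerating_iff p k x).1 h
  rw [eq_top_iff, ← KaehlerDifferential.span_range_derivation k K]
  apply Submodule.span_le.2
  rintro _ ⟨y, rfl⟩
  have := D_mem_span_of_mem_PV p k x Set.univ y (by rw [htop]; trivial)
  rwa [Set.image_univ] at this

theorem gen_of_span
    (hspan : Submodule.span K (Set.range fun i => KaehlerDifferential.D k K (x i)) = ⊤) :
    IsPGenerating p k x := by
  let _ : Field (pPowerSubalgebra p k K) := (isField_R p k K).toField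
  have hF := hF_R p k K
  rw [isPGenerating_iff]
  obtain ⟨B₀, -, -, hB₀free, hB₀gen⟩ := exists_maximal_freeOn p x hF
    (Set.empty_subset Set.univ) (freeOn_empty p x)
  suffices hB₀ : V (pPowerSubalgebra p k K) p x B₀ = ⊤ by
    rw [eq_top_iff, ← hB₀]
    exact V_mono p x (Set.subset_univ _)
  -- transfer to a subset of `K`
  let f' : B₀ → K := fun i => x i
  have hinj : Function.Injective f' := fun a b hab =>
    Subtype.ext (injOn_of_pFree p k x hB₀free a.2 b.2 hab)
  have hfree1 : FreeOn (pPowerSubalgebra p k K) p (x ∘ (Subtype.val : B₀ → ι)) Set.univ := by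
    have := freeOn_comp_iff (F := pPowerSubalgebra p k K) p x (Subtype.val : B₀ → ι)
      Subtype.val_injective hp.out.pos Set.univ
    rw [Subtype.coe_image_univ] at this
    exact this.2 hB₀free
  have hV1 : V (pPowerSubalgebra p k K) p (x ∘ (Subtype.val : B₀ → ι)) Set.univ =
      V (pPowerSubalgebra p k K) p x B₀ := by
    have := V_comp (F := pPowerSubalgebra p k K) p x (Subtype.val : B₀ → ι)
      Subtype.val_injective hp.out.pos Set.univ
    rwa [Subtype.coe_image_univ] at this
  have hfree2 : PFree p k (id : K → K) (Set.range f') := by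
    have := freeOn_comp_iff (F := pPowerSubalgebra p k K) p (id : K → K) f' hinj hp.out.pos
      Set.univ
    rw [Set.image_univ] at this
    exact this.1 hfree1
  have hV2 : V (pPowerSubalgebra p k K) p (id : K → K) (Set.range f') =
      V (pPowerSubalgebra p k K) p x B₀ := by
    have := V_comp (F := pPowerSubalgebra p k K) p (id : K → K) f' hinj hp.out.pos Set.univ
    rw [Set.image_univ] at this
    rw [← this]
    exact hV1
  obtain ⟨B, hB₁B, b, hBtop, hb⟩ := exists_basis_of_pFree_id p k (Set.range f') hfree2
  have hsub : B ⊆ Set.range f' := by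
    intro y hyB
    by_contra hy
    let T : Set B := {z | (z : K) ∈ Set.range f'}
    have h1 : ∀ i, KaehlerDifferential.D k K (x i) ∈ Submodule.span K (b '' T) := by
      intro i
      have hxi : x i ∈ PV p k (id : K → K) (Set.range f') := by
        show x i ∈ V (pPowerSubalgebra p k K) p (id : K → K) (Set.range f')
        rw [hV2]
        exact hB₀gen i (Set.mem_univ _)
      have h2 := D_mem_span_of_mem_PV p k (id : K → K) (Set.range f') (x i) hxi
      refine Submodule.span_mono ?_ h2
      rintro _ ⟨z, hz, rfl⟩
      exact ⟨⟨z, hB₁B hz⟩, hz, hb _⟩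
    have h3 : Submodule.span K (Set.range fun i => KaehlerDifferential.D k K (x i)) ≤
        Submodule.span K (b '' T) :=
      Submodule.span_le.2 (by rintro _ ⟨i, rfl⟩; exact h1 i)
    rw [hspan] at h3
    exact b.linearIndependent.notMem_span_image (s := T) (x := ⟨y, hyB⟩) hy (h3 trivial)
  rw [← hV2, eq_top_iff]
  have hBtop' : V (pPowerSubalgebra p k K) p (id : K → K) B = ⊤ := hBtop
  rw [← hBtop']
  exact V_mono p id hsub

end


/-- Let k ⊆ K be fields of characteristic p > 0 and (x_α) a family of elements of K. Then (x_α) is
p-free over k if and only if the d_{K/k} x_α are linearly independent over K; it is a system of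
p-generators of K over k if and only if the d x_α span Ω_{K/k}; and it is a p-basis if and only if
the d x_α form a basis of Ω_{K/k} (stated as the existence of a K-basis of Ω_{K/k} indexed by the
same index set whose members are the d x_α). (With the empty family the second equivalence
specializes to: Ω_{K/k} = 0 iff K = k(K^p).) -/
theorem result (p : ℕ) [Fact p.Prime] {k K : Type u} [Field k] [Field K] [Algebra k K] [CharP K p]
    {ι : Type u} (x : ι → K) :
    (EGA41.IsPIndependent p k x ↔ LinearIndependent K (fun i => KaehlerDifferential.D k K (x i))) ∧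
    (EGA41.IsPGenerating p k x ↔ Submodule.span K (Set.range fun i => KaehlerDifferential.D k K (x i)) = ⊤) ∧
    (EGA41.IsPBasis p k x ↔ ∃ b : Module.Basis ι K (Ω[K⁄k]), ∀ i, b i = KaehlerDifferential.D k K (x i)) := by
  refine ⟨⟨li_of_indep p x, indep_of_li p x⟩, ⟨span_of_gen p x, gen_of_span p x⟩, ?_, ?_⟩
  · intro h
    exact Groth.Agent.Lib.helper17.PBasis.exists_basis_kaehler h
  · rintro ⟨b, hb⟩
    have hfun : (fun i => KaehlerDifferential.D k K (x i)) = b := funext fun i => (hb i).symm
    refine ⟨indep_of_li p x ?_, gen_of_span p x ?_⟩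
    · rw [hfun]; exact b.linearIndependent
    · rw [hfun]; exact b.span_eq

end Groth.Agent.S2468
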