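import Mathlib.FieldTheory.KummerPolynomial
import Mathlib.RingTheory.AlgebraTower
import Mathlib.RingTheory.PowerBasis
import Mathlib.FieldTheory.IntermediateField.Adjoin.Algebra
import Mathlib.Order.Zorn
import Mathlib.Algebra.CharP.Lemmas
import Mathlib.FieldTheory.Minpoly.Field

/-!
# LibPB29: abstract `p`-independence over a field `F ⊇ K^p`

`F → K` fields of characteristic `p`, with `y ^ p ∈ F` for all `y : K`.  For a family `x : ι → K`
and `s : Set ι`: `FreeOn F p x s` says that the reduced monomials in the `x i`, `i ∈ s` are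
`F`-linearly independent; `V F p x s` is their `F`-span `= F(x i : i ∈ s)`.
-/

namespace Groth.Agent.LibPB29

open Polynomial

variable {F K : Type*} [Field F] [Field K] [Algebra F K]
variable (p : ℕ)
variable {ι : Type*} (x : ι → K)

/-- reduced exponent vectors supported in `s` -/
abbrev Expo (p : ℕ) {ι : Type*} (s : Set ι) : Type _ :=
  {e : ι →₀ ℕ // (∀ i, e i < p) ∧ (e.support : Set ι) ⊆ s}

/-- monomial -/
noncomputable def mono (x : ι → K) (e : ι →₀ ℕ) : K := e.prod fun i n => x i ^ n

lemma mono_zero : mono x 0 = 1 := by simp [mono]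

lemma mono_single (i : ι) (n : ℕ) : mono x (Finsupp.single i n) = x i ^ n := by
  simp [mono]

lemma mono_add (e e' : ι →₀ ℕ) : mono x (e + e') = mono x e * mono x e' := by
  classical
  unfold mono
  rw [Finsupp.prod_add_index']
  · intro i; simp
  · intro i m n; exact pow_add _ _ _

lemma mono_erase (e : ι →₀ ℕ) (a : ι) : mono x e = mono x (e.erase a) * x a ^ (e a) := by
  unfold mono
  rw [mul_comm]
  exact (Finsupp.mul_prod_erase' e a (fun i n => x i ^ n) (fun i => pow_zero _)).symm

variable (F)

/-- the reduced monomials in `x i`, `i ∈ s` are linearly independent over `F` -/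
def FreeOn (s : Set ι) : Prop := LinearIndependent F (fun e : Expo p s => mono x e.1)

/-- the `F`-span of the reduced monomials in `x i`, `i ∈ s` -/
def V (s : Set ι) : Submodule F K := Submodule.span F (Set.range fun e : Expo p s => mono x e.1)

variable {F}

lemma V_mono {s t : Set ι} (h : s ⊆ t) : V F p x s ≤ V F p x t := by
  apply Submodule.span_mono
  rintro _ ⟨e, rfl⟩
  exact ⟨⟨e.1, e.2.1, e.2.2.trans h⟩, rfl⟩

lemma freeOn_mono {s t : Set ι} (h : s ⊆ t) (ht : FreeOn F p x t) : FreeOn F p x s := by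
  have := ht.comp (fun e : Expo p s => (⟨e.1, e.2.1, e.2.2.trans h⟩ : Expo p t))
    (fun e e' hee' => Subtype.ext (congrArg (fun z : Expo p t => z.1) hee'))
  exact this

section

variable [hp : Fact p.Prime]

lemma one_mem_V (s : Set ι) : (1 : K) ∈ V F p x s := by
  refine Submodule.subset_span ⟨⟨0, fun i => hp.out.pos, by simp⟩, ?_⟩
  exact mono_zero x

lemma self_mem_V {s : Set ι} {a : ι} (ha : a ∈ s) : x a ∈ V F p x s := by
  classical
  refine Submodule.subset_span ⟨⟨Finsupp.single a 1, fun i => ?_, ?_⟩, ?_⟩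
  · rw [Finsupp.single_apply]
    split_ifs
    · exact hp.out.one_lt
    · exact hp.out.pos
  · intro i hi
    have := Finsupp.support_single_subset hi
    rw [Finset.mem_singleton] at this
    rw [this]; exact ha
  · simp only [mono_single, pow_one]

variable (hF : ∀ y : K, y ^ p ∈ Set.range (algebraMap F K))
include hF

/-- an unreduced monomial supported in `s` lies in `V s` -/
lemma mono_mem_V {s : Set ι} (e : ι →₀ ℕ) (he : (e.support : Set ι) ⊆ s) :
    mono x e ∈ V F p x s := by
  have hsplit : e = p • (e.mapRange (· / p) (Nat.zero_div p)) +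
      e.mapRange (· % p) (Nat.zero_mod p) := by
    ext i
    simp only [Finsupp.coe_add, Finsupp.coe_smul, Pi.add_apply, Pi.smul_apply,
      Finsupp.mapRange_apply, smul_eq_mul]
    exact (Nat.div_add_mod _ _).symm
  have hpow : ∀ (n : ℕ) (e' : ι →₀ ℕ), mono x (n • e') = mono x e' ^ n := by
    intro n e'
    induction n with
    | zero => simp [mono_zero]
    | succ n ih => rw [succ_nsmul, mono_add, ih, pow_succ]
  rw [hsplit, mono_add, hpow]
  obtain ⟨c, hc⟩ := hF (mono x (e.mapRange (· / p) (Nat.zero_div p)))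
  rw [← hc, ← Algebra.smul_def]
  refine Submodule.smul_mem _ _ (Submodule.subset_span
    ⟨⟨e.mapRange (· % p) (Nat.zero_mod p), fun i => ?_, ?_⟩, rfl⟩)
  · rw [Finsupp.mapRange_apply]; exact Nat.mod_lt _ hp.out.pos
  · intro i hi
    exact he (Finsupp.support_mapRange hi)

lemma mul_mem_V {s : Set ι} {a b : K} (ha : a ∈ V F p x s) (hb : b ∈ V F p x s) :
    a * b ∈ V F p x s := by
  classical
  have h : V F p x s * V F p x s ≤ V F p x s := by
    unfold V
    rw [Submodule.span_mul_span]
    apply Submodule.span_le.2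
    rintro _ ⟨_, ⟨e, rfl⟩, _, ⟨e', rfl⟩, rfl⟩
    simp only
    rw [← mono_add]
    apply mono_mem_V p x hF
    intro i hi
    rcases Finset.mem_union.1 (Finsupp.support_add hi) with h | h
    · exact e.2.2 h
    · exact e'.2.2 h
  exact h (Submodule.mul_mem_mul ha hb)

/-- `V s` as a subalgebra -/
def VA (s : Set ι) : Subalgebra F K :=
  (V F p x s).toSubalgebra (one_mem_V p x s) (fun _ _ ha hb => mul_mem_V p x hF ha hb)

omit hF in
lemma mem_VA {s : Set ι} (hF : ∀ y : K, y ^ p ∈ Set.range (algebraMap F K)) {y : K} :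
    y ∈ VA p x hF s ↔ y ∈ V F p x s := Iff.rfl

lemma VA_eq_adjoin (s : Set ι) : VA p x hF s = Algebra.adjoin F (x '' s) := by
  apply le_antisymm
  · intro y hy
    rw [mem_VA] at hy
    have hle : V F p x s ≤ Subalgebra.toSubmodule (Algebra.adjoin F (x '' s)) := by
      refine Submodule.span_le.2 ?_
      rintro _ ⟨e, rfl⟩
      show mono x e.1 ∈ Algebra.adjoin F (x '' s)
      unfold mono
      refine Subalgebra.prod_mem _ fun i hi => Subalgebra.pow_mem _ ?_ _
      exact Algebra.subset_adjoin ⟨i, e.2.2 hi, rfl⟩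
    exact hle hy
  · apply Algebra.adjoin_le
    rintro _ ⟨i, hi, rfl⟩
    exact self_mem_V p x hi

lemma isAlgebraic_of_pow_mem (y : K) : IsAlgebraic F y := by
  obtain ⟨c, hc⟩ := hF y
  refine ⟨X ^ p - C c, X_pow_sub_C_ne_zero hp.out.pos c, ?_⟩
  simp [hc]

/-- `V s` is the subfield generated by the `x i`, `i ∈ s`. -/
lemma mem_adjoin_iff (s : Set ι) (y : K) :
    y ∈ IntermediateField.adjoin F (x '' s) ↔ y ∈ V F p x s := by
  rw [← mem_VA p x hF, VA_eq_adjoin, ← IntermediateField.adjoin_toSubalgebra_of_isAlgebraic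
    (fun z _ => isAlgebraic_of_pow_mem p hF z)]
  rfl

lemma inv_mem_V {s : Set ι} {y : K} (hy : y ∈ V F p x s) : y⁻¹ ∈ V F p x s := by
  rw [← mem_adjoin_iff p x hF] at hy ⊢
  exact inv_mem hy

variable [CharP K p]

/-- adding an element outside `V s` preserves freeness -/
theorem freeOn_insert {s : Set ι} {a : ι} (_has : a ∉ s) (hs : FreeOn F p x s)
    (ha : x a ∉ V F p x s) : FreeOn F p x (insert a s) := by
  classical
  set E : IntermediateField F K := IntermediateField.adjoin F (x '' s) with hE
  have hmemE : ∀ y : K, y ∈ E ↔ y ∈ V F p x s := mem_adjoin_iff p x hF s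
  obtain ⟨c, hc⟩ := hF (x a)
  set α : E := algebraMap F E c with hα
  have hαK : (α : K) = x a ^ p := by rw [← hc]; rfl
  have hirr : Irreducible (X ^ p - C α) := by
    apply X_pow_sub_C_irreducible_of_prime hp.out
    intro b hb
    have h1 : (b : K) ^ p = x a ^ p := by
      rw [← hαK, ← hb]; rfl
    have h2 : ((b : K) - x a) ^ p = 0 := by rw [sub_pow_char, h1, sub_self]
    have h3 : (b : K) = x a := sub_eq_zero.1 (pow_eq_zero_iff hp.out.ne_zero |>.1 h2)
    exact ha ((hmemE _).1 (h3 ▸ b.2))
  have hmin : X ^ p - C α = minpoly E (x a) := by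
    apply minpoly.eq_of_irreducible_of_monic hirr
    · simp only [map_sub, map_pow, aeval_X, aeval_C]
      rw [IntermediateField.algebraMap_apply, hαK, sub_self]
    · exact monic_X_pow_sub_C α hp.out.ne_zero
  have hdeg : (minpoly E (x a)).natDegree = p := by
    rw [← hmin, natDegree_X_pow_sub_C]
  have hc' : LinearIndependent E (fun j : Fin p => x a ^ (j : ℕ)) :=
    (linearIndependent_pow (K := E) (x a)).comp (Fin.cast hdeg.symm) (Fin.cast_injective _)
  let b : Expo p s → E := fun e => ⟨mono x e.1, (hmemE _).2 (Submodule.subset_span ⟨e, rfl⟩)⟩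
  have hb : LinearIndependent F b := LinearIndependent.of_comp E.val.toLinearMap hs
  have h := linearIndependent_smul hb hc'
  let φ : Expo p (insert a s) → Expo p s × Fin p := fun e =>
    (⟨e.1.erase a, fun i => by
        rw [Finsupp.erase_apply]; split_ifs
        · exact hp.out.pos
        · exact e.2.1 i, by
        rw [Finsupp.support_erase]
        intro i hi
        rw [Finset.coe_erase] at hi
        rcases e.2.2 hi.1 with h | h
        · exact absurd h hi.2
        · exact h⟩, ⟨e.1 a, e.2.1 a⟩)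
  have hφ : Function.Injective φ := by
    intro e e' hee'
    have h1 : e.1.erase a = e'.1.erase a := congrArg (fun z => (z.1 : Expo p s).1) hee'
    have h2 : e.1 a = e'.1 a := congrArg (fun z => ((z.2 : Fin p) : ℕ)) hee'
    apply Subtype.ext
    ext i
    by_cases hi : i = a
    · rw [hi, h2]
    · have := DFunLike.congr_fun h1 i
      rwa [Finsupp.erase_ne hi, Finsupp.erase_ne hi] at this
  have h' := h.comp φ hφ
  unfold FreeOn
  convert h' using 1
  funext e
  simp only [Function.comp_apply, φ, b]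
  rw [mono_erase x e.1 a]
  rfl

omit hF [CharP K p] in
theorem notMem_of_freeOn {s : Set ι} (hs : FreeOn F p x s) {a : ι} (ha : a ∈ s) :
    x a ∉ V F p x (s \ {a}) := by
  classical
  let e₀ : Expo p s := ⟨Finsupp.single a 1, fun i => by
      rw [Finsupp.single_apply]; split_ifs
      · exact hp.out.one_lt
      · exact hp.out.pos, by
      intro i hi
      have := Finsupp.support_single_subset hi
      rw [Finset.mem_singleton] at this
      rw [this]; exact ha⟩
  let T : Set (Expo p s) := {e | a ∉ e.1.support}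
  have he₀ : e₀ ∉ T := by
    simp only [T, Set.mem_ofPred_eq, not_not, e₀]
    simp
  have h := hs.notMem_span_image he₀
  intro hmem
  apply h
  have h1 : mono x e₀.1 = x a := by simp only [e₀, mono_single, pow_one]
  rw [h1]
  refine Submodule.span_mono ?_ hmem
  rintro _ ⟨e, rfl⟩
  refine ⟨⟨e.1, e.2.1, e.2.2.trans Set.sdiff_subset⟩, ?_, rfl⟩
  show a ∉ e.1.support
  intro hmem'
  exact (e.2.2 hmem').2 rfl

omit hp hF [CharP K p] in
/-- freeness is of finite character -/
theorem freeOn_of_finset {s : Set ι} (h : ∀ t : Finset ι, (t : Set ι) ⊆ s → FreeOn F p x (t : Set ι)) :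
    FreeOn F p x s := by
  classical
  unfold FreeOn
  rw [linearIndependent_iff_finset_linearIndependent]
  intro T
  let t : Finset ι := T.biUnion (fun e => e.1.support)
  have hts : (t : Set ι) ⊆ s := by
    intro i hi
    obtain ⟨e, -, hie⟩ := Finset.mem_biUnion.1 (Finset.mem_coe.1 hi)
    exact e.2.2 hie
  have hfree := h t hts
  let ψ : T → Expo p (t : Set ι) := fun e => ⟨e.1.1, e.1.2.1, fun i hi =>
    Finset.mem_coe.2 (Finset.mem_biUnion.2 ⟨e.1, e.2, hi⟩)⟩
  have hψ : Function.Injective ψ := fun e e' hee' =>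
    Subtype.ext (Subtype.ext (congrArg (fun z : Expo p (t : Set ι) => z.1) hee'))
  exact hfree.comp ψ hψ

omit hp hF [CharP K p] in
theorem freeOn_empty : FreeOn F p x (∅ : Set ι) := by
  have : Subsingleton (Expo p (∅ : Set ι)) := ⟨fun e e' => by
    apply Subtype.ext
    have h1 : e.1 = 0 := by
      rw [← Finsupp.support_eq_empty, ← Finset.coe_eq_empty]
      exact Set.subset_empty_iff.1 e.2.2
    have h2 : e'.1 = 0 := by
      rw [← Finsupp.support_eq_empty, ← Finset.coe_eq_empty]
      exact Set.subset_empty_iff.1 e'.2.2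
    rw [h1, h2]⟩
  unfold FreeOn
  rw [linearIndependent_subsingleton_index_iff]
  intro e
  have h1 : e.1 = 0 := by
    rw [← Finsupp.support_eq_empty, ← Finset.coe_eq_empty]
    exact Set.subset_empty_iff.1 e.2.2
  simp only [h1, mono_zero]
  exact one_ne_zero

/-- the exchange criterion -/
theorem freeOn_iff_forall_notMem (s : Set ι) :
    FreeOn F p x s ↔ ∀ a ∈ s, x a ∉ V F p x (s \ {a}) := by
  classical
  refine ⟨fun hs a ha => notMem_of_freeOn p x hs ha, fun h => ?_⟩
  apply freeOn_of_finset
  intro t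
  induction t using Finset.induction_on with
  | empty => intro _; rw [Finset.coe_empty]; exact freeOn_empty p x
  | insert a t' hat' ih =>
    intro hts
    rw [Finset.coe_insert] at hts ⊢
    have hts' : (t' : Set ι) ⊆ s := (Set.subset_insert _ _).trans hts
    have has : a ∈ s := hts (Set.mem_insert _ _)
    refine freeOn_insert p x hF (by simpa using hat') (ih hts') ?_
    intro hmem
    refine h a has (V_mono p x ?_ hmem)
    intro i hi
    refine ⟨hts' hi, ?_⟩
    rintro rfl
    exact hat' (Finset.mem_coe.1 hi)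

/-- Zorn: a free subset `L ⊆ S` extends to a maximal free `B ⊆ S`, and then `x '' S ⊆ V B`. -/
theorem exists_maximal_freeOn {L S : Set ι} (hLS : L ⊆ S) (hL : FreeOn F p x L) :
    ∃ B : Set ι, L ⊆ B ∧ B ⊆ S ∧ FreeOn F p x B ∧ ∀ a ∈ S, x a ∈ V F p x B := by
  classical
  let 𝒮 : Set (Set ι) := {B | L ⊆ B ∧ B ⊆ S ∧ FreeOn F p x B}
  obtain ⟨B, hLB, hB⟩ := zorn_subset_nonempty 𝒮 (fun c hc hchain hne => by
    refine ⟨⋃₀ c, ⟨?_, ?_, ?_⟩, fun s hs => Set.subset_sUnion_of_mem hs⟩
    · obtain ⟨B₀, hB₀⟩ := hne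
      exact (hc hB₀).1.trans (Set.subset_sUnion_of_mem hB₀)
    · exact Set.sUnion_subset fun B hB => (hc hB).2.1
    · apply freeOn_of_finset
      intro t ht
      obtain ⟨B₀, hB₀, htB₀⟩ := hchain.directedOn.exists_mem_subset_of_finite_of_subset_sUnion
        hne t.finite_toSet ht
      exact freeOn_mono p x htB₀ (hc hB₀).2.2) L ⟨subset_rfl, hLS, hL⟩
  refine ⟨B, hLB, hB.prop.2.1, hB.prop.2.2, fun a ha => ?_⟩
  by_cases haB : a ∈ B
  · exact self_mem_V p x haB
  · by_contra hnot
    have hins : insert a B ∈ 𝒮 := ⟨hB.prop.1.trans (Set.subset_insert _ _),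
      Set.insert_subset ha hB.prop.2.1, freeOn_insert p x hF haB hB.prop.2.2 hnot⟩
    exact haB (hB.le_of_ge hins (Set.subset_insert _ _) (Set.mem_insert _ _))

end

section reindex

variable {κ : Type*} (f : κ → ι) (hf : Function.Injective f) (hp0 : 0 < p)
include hf

lemma mono_mapDomain (e : κ →₀ ℕ) : mono x (e.mapDomain f) = mono (x ∘ f) e := by
  unfold mono
  rw [Finsupp.prod_mapDomain_index_inj hf]
  rfl

include hp0

/-- reindexing of reduced exponents along an injective map -/
noncomputable def expoMap (t : Set κ) : Expo p t → Expo p (f '' t) := fun e =>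
  ⟨e.1.mapDomain f, fun i => by
    by_cases hi : i ∈ Set.range f
    · obtain ⟨j, rfl⟩ := hi
      rw [Finsupp.mapDomain_apply hf]
      exact e.2.1 j
    · rw [Finsupp.mapDomain_of_notMem_range _ _ hi]
      exact hp0, by
    classical
    intro i hi
    obtain ⟨j, hj, rfl⟩ := Finset.mem_image.1 (Finsupp.mapDomain_support (Finset.mem_coe.1 hi))
    exact ⟨j, e.2.2 hj, rfl⟩⟩

lemma expoMap_bijective (t : Set κ) : Function.Bijective (expoMap p f hf hp0 t) := by
  constructor
  · intro e e' hee'
    apply Subtype.ext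
    exact Finsupp.mapDomain_injective hf (congrArg (fun z : Expo p (f '' t) => z.1) hee')
  · intro e'
    have hsupp : (e'.1.support : Set ι) ⊆ Set.range f := fun i hi => by
      obtain ⟨j, -, rfl⟩ := e'.2.2 hi
      exact ⟨j, rfl⟩
    refine ⟨⟨Finsupp.comapDomain f e'.1 hf.injOn, fun j => ?_, ?_⟩, ?_⟩
    · rw [Finsupp.comapDomain_apply]
      exact e'.2.1 _
    · intro j hj
      rw [Finsupp.comapDomain_support, Finset.coe_preimage] at hj
      obtain ⟨j', hj', hjj'⟩ := e'.2.2 hj
      rwa [← hf hjj']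
    · apply Subtype.ext
      exact Finsupp.mapDomain_comapDomain f hf e'.1 hsupp

lemma mono_expoMap (t : Set κ) (e : Expo p t) :
    mono x (expoMap p f hf hp0 t e).1 = mono (x ∘ f) e.1 := mono_mapDomain x f hf e.1

theorem freeOn_comp_iff (t : Set κ) : FreeOn F p (x ∘ f) t ↔ FreeOn F p x (f '' t) := by
  unfold FreeOn
  refine linearIndependent_equiv' (Equiv.ofBijective _ (expoMap_bijective p f hf hp0 t)) ?_
  funext e
  exact mono_expoMap p x f hf hp0 t e

theorem V_comp (t : Set κ) : V F p (x ∘ f) t = V F p x (f '' t) := by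
  unfold V
  congr 1
  ext y
  constructor
  · rintro ⟨e, rfl⟩
    exact ⟨expoMap p f hf hp0 t e, mono_expoMap p x f hf hp0 t e⟩
  · rintro ⟨e', rfl⟩
    obtain ⟨e, rfl⟩ := (expoMap_bijective p f hf hp0 t).2 e'
    exact ⟨e, (mono_expoMap p x f hf hp0 t e).symm⟩

end reindex

end Groth.Agent.LibPB29
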