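import Groth.Prelude.Def_EGA41
import Groth.Agent.LibPB29

/-!
# LibPB29b: `p`-bases of field extensions (bridge from `EGA41` definitions to `LibPB29`)
-/

set_option autoImplicit false
universe u

namespace Groth.Agent.LibPB29

open EGA41

section

variable (p : ℕ) [hp : Fact p.Prime] (k K : Type u) [Field k] [Field K] [Algebra k K] [CharP K p]

omit hp [CharP K p] in
lemma pow_mem_R (y : K) : y ^ p ∈ pPowerSubalgebra p k K := Algebra.subset_adjoin ⟨y, rfl⟩

omit [CharP K p] in
lemma inv_mem_R {r : K} (hr : r ∈ pPowerSubalgebra p k K) : r⁻¹ ∈ pPowerSubalgebra p k K := by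
  by_cases h0 : r = 0
  · rw [h0, inv_zero]; exact Subalgebra.zero_mem _
  have key : ∀ n : ℕ, r⁻¹ = r ^ n * (r⁻¹) ^ (n + 1) := fun n => by
    rw [pow_succ, ← mul_assoc, ← mul_pow, mul_inv_cancel₀ h0, one_pow, one_mul]
  have : r⁻¹ = r ^ (p - 1) * (r⁻¹) ^ p := by
    have hp1 : p - 1 + 1 = p := Nat.succ_pred_eq_of_pos hp.out.pos
    have := key (p - 1)
    rwa [hp1] at this
  rw [this]
  exact Subalgebra.mul_mem _ (Subalgebra.pow_mem _ hr _) (pow_mem_R p k K _)

omit [CharP K p] in
lemma isField_R : IsField (pPowerSubalgebra p k K) where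
  exists_pair_ne := ⟨0, 1, zero_ne_one⟩
  mul_comm := mul_comm
  mul_inv_cancel := fun {a} ha => by
    refine ⟨⟨(a : K)⁻¹, inv_mem_R p k K a.2⟩, Subtype.ext ?_⟩
    have : (a : K) ≠ 0 := fun h => ha (Subtype.ext h)
    simp [this]

omit hp [CharP K p] in
lemma hF_R : ∀ y : K, y ^ p ∈ Set.range (algebraMap (pPowerSubalgebra p k K) K) :=
  fun y => ⟨⟨y ^ p, pow_mem_R p k K y⟩, rfl⟩

end

section bridge

variable (p : ℕ) [hp : Fact p.Prime] (k : Type u) {K : Type u} [Field k] [Field K] [Algebra k K]
variable {ι : Type u} (x : ι → K)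

/-- index equivalence -/
def expoUniv : {e : ι →₀ ℕ // ∀ i, e i < p} ≃ Expo p (Set.univ : Set ι) where
  toFun e := ⟨e.1, e.2, Set.subset_univ _⟩
  invFun e := ⟨e.1, e.2.1⟩
  left_inv _ := rfl
  right_inv _ := rfl

lemma isPIndependent_iff :
    letI : Field (pPowerSubalgebra p k K) := (isField_R p k K).toField
    IsPIndependent p k x ↔ FreeOn (pPowerSubalgebra p k K) p x Set.univ := by
  let _ : Field (pPowerSubalgebra p k K) := (isField_R p k K).toField
  unfold IsPIndependent FreeOn
  exact (linearIndependent_equiv' (expoUniv p) rfl)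

lemma isPGenerating_iff :
    letI : Field (pPowerSubalgebra p k K) := (isField_R p k K).toField
    IsPGenerating p k x ↔ V (pPowerSubalgebra p k K) p x Set.univ = ⊤ := by
  let _ : Field (pPowerSubalgebra p k K) := (isField_R p k K).toField
  unfold IsPGenerating V
  have : (Set.range fun e : {e : ι →₀ ℕ // ∀ i, e i < p} => pMonomial x e.1) =
      Set.range fun e : Expo p (Set.univ : Set ι) => mono x e.1 := by
    ext y
    constructor
    · rintro ⟨e, rfl⟩; exact ⟨expoUniv p e, rfl⟩
    · rintro ⟨e, rfl⟩; exact ⟨(expoUniv p).symm e, rfl⟩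
  rw [this]

end bridge

section adjoin

variable (p : ℕ) [hp : Fact p.Prime] (k : Type u) {K : Type u} [Field k] [Field K] [Algebra k K]
variable [CharP K p]
variable {ι : Type u} (x : ι → K)

omit hp [CharP K p] in
lemma R_le_adjoin (T : Set K) (r : pPowerSubalgebra p k K) :
    (r : K) ∈ IntermediateField.adjoin k ((Set.range fun y : K => y ^ p) ∪ T) := by
  have h : pPowerSubalgebra p k K ≤
      (IntermediateField.adjoin k ((Set.range fun y : K => y ^ p) ∪ T)).toSubalgebra := by
    apply Algebra.adjoin_le
    intro y hy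
    exact IntermediateField.subset_adjoin k _ (Or.inl hy)
  exact h r.2

omit [CharP K p] in
/-- the subfield `k(K^p, x i : i ∈ s)` is the `k(K^p)`-span of the reduced monomials -/
theorem mem_adjoin_iff_mem_V (s : Set ι) (y : K) :
    letI : Field (pPowerSubalgebra p k K) := (isField_R p k K).toField
    y ∈ IntermediateField.adjoin k ((Set.range fun y : K => y ^ p) ∪ x '' s) ↔
      y ∈ V (pPowerSubalgebra p k K) p x s := by
  let _ : Field (pPowerSubalgebra p k K) := (isField_R p k K).toField
  have hF := hF_R p k K
  constructor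
  · intro hy
    let E : IntermediateField k K :=
      { carrier := {y | y ∈ V (pPowerSubalgebra p k K) p x s}
        mul_mem' := fun ha hb => mul_mem_V p x hF ha hb
        one_mem' := one_mem_V p x s
        add_mem' := fun {a b} ha hb =>
          Submodule.add_mem (V (pPowerSubalgebra p k K) p x s) ha hb
        zero_mem' := Submodule.zero_mem (V (pPowerSubalgebra p k K) p x s)
        algebraMap_mem' := fun c => by
          have : algebraMap k K c =
              (⟨algebraMap k K c, Subalgebra.algebraMap_mem _ c⟩ : pPowerSubalgebra p k K) •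
                (1 : K) := by
            rw [Algebra.smul_def, mul_one]; rfl
          show algebraMap k K c ∈ V (pPowerSubalgebra p k K) p x s
          rw [this]
          exact Submodule.smul_mem _ _ (one_mem_V p x s)
        inv_mem' := fun y hy => inv_mem_V p x hF hy }
    have hle : IntermediateField.adjoin k ((Set.range fun y : K => y ^ p) ∪ x '' s) ≤ E := by
      rw [IntermediateField.adjoin_le_iff]
      rintro z (⟨w, rfl⟩ | ⟨i, hi, rfl⟩)
      · have : w ^ p = (⟨w ^ p, pow_mem_R p k K w⟩ : pPowerSubalgebra p k K) • (1 : K) := by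
          rw [Algebra.smul_def, mul_one]; rfl
        show w ^ p ∈ V (pPowerSubalgebra p k K) p x s
        rw [this]
        exact Submodule.smul_mem _ _ (one_mem_V p x s)
      · exact self_mem_V p x hi
    exact hle hy
  · intro hy
    refine Submodule.span_induction ?_ ?_ ?_ ?_ hy
    · rintro _ ⟨e, rfl⟩
      unfold mono
      refine prod_mem fun i hi => pow_mem ?_ _
      exact IntermediateField.subset_adjoin k _ (Or.inr ⟨i, e.2.2 hi, rfl⟩)
    · exact zero_mem _
    · intro a b _ _ ha hb; exact add_mem ha hb
    · intro r a _ ha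
      rw [Algebra.smul_def]
      exact mul_mem (R_le_adjoin p k _ r) ha

end adjoin

section subtype

variable (p : ℕ) [hp : Fact p.Prime] (k : Type u) {K : Type u} [Field k] [Field K] [Algebra k K]

omit hp in
lemma V_le_of_forall_mem {F : Type*} [Field F] [Algebra F K] [Fact p.Prime]
    (hF : ∀ y : K, y ^ p ∈ Set.range (algebraMap F K)) {ι : Type*} (x : ι → K) {s t : Set ι}
    (h : ∀ a ∈ s, x a ∈ V F p x t) : V F p x s ≤ V F p x t := by
  apply Submodule.span_le.2
  rintro _ ⟨e, rfl⟩
  show mono x e.1 ∈ VA p x hF t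
  unfold mono
  exact Subalgebra.prod_mem _ fun i hi => Subalgebra.pow_mem _ (h i (e.2.2 hi)) _

lemma isPIndependent_subtype_iff (B : Set K) :
    letI : Field (pPowerSubalgebra p k K) := (isField_R p k K).toField
    IsPIndependent p k (Subtype.val : B → K) ↔
      FreeOn (pPowerSubalgebra p k K) p (id : K → K) B := by
  let _ : Field (pPowerSubalgebra p k K) := (isField_R p k K).toField
  rw [isPIndependent_iff]
  have := freeOn_comp_iff (F := pPowerSubalgebra p k K) p (id : K → K) (Subtype.val : B → K)
    Subtype.val_injective hp.out.pos Set.univ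
  rw [Subtype.coe_image_univ] at this
  exact this

lemma isPGenerating_subtype_iff (B : Set K) :
    letI : Field (pPowerSubalgebra p k K) := (isField_R p k K).toField
    IsPGenerating p k (Subtype.val : B → K) ↔
      V (pPowerSubalgebra p k K) p (id : K → K) B = ⊤ := by
  let _ : Field (pPowerSubalgebra p k K) := (isField_R p k K).toField
  rw [isPGenerating_iff]
  have := V_comp (F := pPowerSubalgebra p k K) p (id : K → K) (Subtype.val : B → K)
    Subtype.val_injective hp.out.pos Set.univ
  rw [Subtype.coe_image_univ] at this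
  rw [← this]
  rfl

end subtype

end Groth.Agent.LibPB29
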