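import Groth.Agent.LibAdm29b

/-!
# LibAdm29c: finite-dimensional subspaces of `L ⊗ Ω_{K/k₀}` inject into `L ⊗ Ω_{K/k}` for suitable `k`
-/

set_option autoImplicit false
set_option linter.unusedSectionVars false
universe u

namespace Groth.Agent.LibAdm29

open EGA41 Groth.Agent.LibPB29 TensorProduct

section

variable {K L V B : Type*} [Field K] [Field L] [Algebra K L] [AddCommGroup V] [Module K V]

/-- a finitely generated subspace of `L ⊗ V` lies in the span of finitely many basis vectors -/
theorem exists_finset_le_span (b : Module.Basis B K V) (W : Submodule L (L ⊗[K] V)) (hW : W.FG) :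
    ∃ T : Finset B, W ≤ Submodule.span L ((fun z => (1 : L) ⊗ₜ[K] b z) '' (T : Set B)) := by
  classical
  obtain ⟨G, hG⟩ := hW
  refine ⟨G.biUnion (fun g => ((b.baseChange L).repr g).support), ?_⟩
  rw [← hG, Submodule.span_le]
  intro g hg
  have h1 := (b.baseChange L).mem_span_repr_support g
  have h2 : (b.baseChange L) '' (((b.baseChange L).repr g).support : Set B) ⊆
      (fun z => (1 : L) ⊗ₜ[K] b z) ''
        ((G.biUnion (fun g => ((b.baseChange L).repr g).support) : Finset B) : Set B) := by
    rintro _ ⟨z, hz, rfl⟩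
    refine ⟨z, ?_, (b.baseChange_apply L z).symm⟩
    rw [Finset.mem_coe, Finset.mem_biUnion]
    exact ⟨g, hg, hz⟩
  exact Submodule.span_mono h2 h1

end

section

variable (p : ℕ) [Fact p.Prime] {k₀ K : Type u} [Field k₀] [Field K] [Algebra k₀ K] [CharP K p]

/-- if the finite subfamily `T` of `x` is `p`-independent over `k`, then `L ⊗ ⟨d x_z : z ∈ T⟩`
injects into `L ⊗ Ω_{K/k}` -/
theorem injOn_of_isPIndependent (k : IntermediateField k₀ K) {B : Type u} (x : B → K)
    (b : Module.Basis B K (Ω[K⁄k₀])) (hb : ∀ z, b z = KaehlerDifferential.D k₀ K (x z))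
    (T : Finset B) (hT : IsPIndependent p k (fun z : {z // z ∈ T} => x z))
    {L : Type*} [Field L] [Algebra K L] :
    ∀ ω ∈ Submodule.span L ((fun z => (1 : L) ⊗ₜ[K] b z) '' (T : Set B)),
      ((KaehlerDifferential.map k₀ k K K).restrictScalars K).baseChange L ω = 0 → ω = 0 := by
  intro ω hω h0
  obtain ⟨l, hl, rfl⟩ := (Finsupp.mem_span_image_iff_linearCombination L).1 hω
  have hli := (Groth.Agent.S2468.result p (fun z : {z // z ∈ T} => x z)).1.1 hT
  have hliL : LinearIndependent L (fun z : {z // z ∈ T} =>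
      (1 : L) ⊗ₜ[K] KaehlerDifferential.D k K (x z)) :=
    linearIndependent_one_tmul (L := L) _ hli
  have hon : LinearIndepOn L (fun z : B => (1 : L) ⊗ₜ[K] KaehlerDifferential.D k K (x z))
      (T : Set B) := hliL
  have h1 : Finsupp.linearCombination L
      (fun z : B => (1 : L) ⊗ₜ[K] KaehlerDifferential.D k K (x z)) l = 0 := by
    rw [← h0, Finsupp.linearCombination_apply, Finsupp.linearCombination_apply, Finsupp.sum,
      Finsupp.sum, map_sum]
    refine Finset.sum_congr rfl (fun z _ => ?_)
    rw [map_smul, LinearMap.baseChange_tmul, LinearMap.restrictScalars_apply, hb,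
      KaehlerDifferential.map_D]
    rfl
  rw [linearIndepOn_iff.1 hon l hl h1, map_zero]

/-- Key lemma: a finitely generated subspace of `L ⊗ Ω_{K/k₀}` injects into `L ⊗ Ω_{K/k_i}`
for some `i`. -/
theorem exists_injOn_of_fg {ι : Type*} [Preorder ι] [IsDirected ι (· ≤ ·)] [Nonempty ι]
    (k : ι → IntermediateField k₀ K) (hk : Antitone k)
    (hI : (⨅ i, k i ⊔ IntermediateField.adjoin k₀ (Set.range fun y : K => y ^ p)) =
      IntermediateField.adjoin k₀ (Set.range fun y : K => y ^ p))
    {L : Type*} [Field L] [Algebra K L] (W : Submodule L (L ⊗[K] Ω[K⁄k₀])) (hW : W.FG) :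
    ∃ i, ∀ ω ∈ W,
      ((KaehlerDifferential.map k₀ (k i) K K).restrictScalars K).baseChange L ω = 0 → ω = 0 := by
  obtain ⟨B, hB, b, hb⟩ := exists_pbasis p k₀ (K := K)
  obtain ⟨T, hT⟩ := exists_finset_le_span b W hW
  have hind : IsPIndependent p k₀ (fun z : {z // z ∈ T} => ((z : B) : K)) :=
    isPIndependent_comp p (Subtype.val : B → K) (Subtype.val : {z // z ∈ T} → B)
      Subtype.val_injective hB.1
  obtain ⟨i, hi⟩ := exists_isPIndependent p k hk hI _ hind
  exact ⟨i, fun ω hω => injOn_of_isPIndependent p (k i) (Subtype.val : B → K) b hb T hi ω (hT hω)⟩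

end

end Groth.Agent.LibAdm29
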