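import Mathlib
import Groth.Agent.Lib.Helper7.ThickAff5

/-!
# Deformations of affine schemes over an infinitesimal affine base: the total space is affine, and the ring-level
dictionary (seat helper29)

Setting: `e : A → K` a surjective ring map with nil kernel, `hX : X ⟶ Spec K` with `X` affine, `g : X' ⟶ Spec A`,
`i : X ⟶ X'` with `IsPullback i hX g (Spec.map e)`.
-/

set_option autoImplicit false
universe u
open CategoryTheory CategoryTheory.Limits AlgebraicGeometry

namespace Groth.Agent.LibAffDef29

theorem isPushout_of_isPullback_SpecMap {A B C P : CommRingCat.{u}} (f : A ⟶ B) (g : A ⟶ C)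
    (inl : B ⟶ P) (inr : C ⟶ P)
    (h : IsPullback (Spec.map inl) (Spec.map inr) (Spec.map f) (Spec.map g)) :
    IsPushout f g inl inr := by
  have e : inl.op ≫ f.op = inr.op ≫ g.op := by
    apply Quiver.Hom.unop_inj
    apply Spec.map_injective
    simp only [unop_comp, Quiver.Hom.unop_op, Spec.map_comp]
    exact h.w
  have h' : IsPullback inl.op inr.op f.op g.op := IsPullback.of_map Scheme.Spec e h
  exact h'.unop.flip

section

variable {A K : Type u} [CommRing A] [CommRing K] (e : A →+* K)

lemma surjective_SpecMap_of_nil (he : Function.Surjective e) (hnil : RingHom.ker e ≤ nilradical A) :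
    Surjective (Spec.map (CommRingCat.ofHom e)) := by
  rw [surjective_iff]
  intro p
  have hker : RingHom.ker e ≤ p.asIdeal := by
    refine hnil.trans ?_
    rw [nilradical_eq_sInf]
    exact sInf_le p.2
  haveI : (p.asIdeal.map e).IsPrime := Ideal.map_isPrime_of_surjective he hker
  refine ⟨⟨p.asIdeal.map e, inferInstance⟩, ?_⟩
  apply PrimeSpectrum.ext
  change Ideal.comap e (p.asIdeal.map e) = p.asIdeal
  rw [Ideal.comap_map_of_surjective e he, ← RingHom.ker_eq_comap_bot]
  exact sup_eq_left.mpr hker

variable {X X' : Scheme.{u}} (hX : X ⟶ Spec (CommRingCat.of K)) (g : X' ⟶ Spec (CommRingCat.of A))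
  (i : X ⟶ X')

include e hX g in
lemma isClosedImmersion_i (hsq : IsPullback i hX g (Spec.map (CommRingCat.ofHom e)))
    (he : Function.Surjective e) : IsClosedImmersion i :=
  MorphismProperty.of_isPullback hsq.flip
    (IsClosedImmersion.spec_of_surjective (CommRingCat.ofHom e) he)

include e hX g in
lemma surjective_i (hsq : IsPullback i hX g (Spec.map (CommRingCat.ofHom e)))
    (he : Function.Surjective e) (hnil : RingHom.ker e ≤ nilradical A) : Surjective i :=
  MorphismProperty.of_isPullback hsq.flip (surjective_SpecMap_of_nil e he hnil)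

include e hX g in
/-- the total space of an infinitesimal deformation of an affine scheme is affine -/
theorem isAffine_total [IsAffine X] (hsq : IsPullback i hX g (Spec.map (CommRingCat.ofHom e)))
    (he : Function.Surjective e) (hnil : RingHom.ker e ≤ nilradical A) : IsAffine X' := by
  haveI := isClosedImmersion_i e hX g i hsq he
  haveI := surjective_i e hX g i hsq he hnil
  exact Groth.Agent.Lib.helper7.ThickAff.isAffine_of_thickening i i.surjective

end

section Ring

variable {A K : Type u} [CommRing A] [CommRing K] (e : A →+* K)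
variable {X X' : Scheme.{u}} (hX : X ⟶ Spec (CommRingCat.of K)) (g : X' ⟶ Spec (CommRingCat.of A))
  (i : X ⟶ X')

/-- the ring map `A → Γ(X')` of a morphism `X' ⟶ Spec A` -/
noncomputable def toΓ {R : Type u} [CommRing R] {Y : Scheme.{u}} (f : Y ⟶ Spec (CommRingCat.of R)) :
    CommRingCat.of R ⟶ Γ(Y, ⊤) :=
  (Scheme.ΓSpecIso (CommRingCat.of R)).inv ≫ f.appTop

lemma eq_isoSpec_hom_comp {R : Type u} [CommRing R] {Y : Scheme.{u}} [IsAffine Y]
    (f : Y ⟶ Spec (CommRingCat.of R)) : f = Y.isoSpec.hom ≫ Spec.map (toΓ f) := by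
  have h1 := Scheme.isoSpec_hom_naturality f
  rw [Scheme.isoSpec_Spec_hom] at h1
  rw [toΓ, Spec.map_comp, ← Category.assoc, h1, Category.assoc, ← Spec.map_comp, Iso.inv_hom_id,
    Spec.map_id, Category.comp_id]

/-- the square of rings of an infinitesimal deformation of an affine scheme is a pushout -/
theorem isPushout_rings [IsAffine X] [IsAffine X']
    (hsq : IsPullback i hX g (Spec.map (CommRingCat.ofHom e))) :
    IsPushout (toΓ g) (CommRingCat.ofHom e) i.appTop (toΓ hX) := by
  apply isPushout_of_isPullback_SpecMap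
  refine IsPullback.of_iso hsq X.isoSpec X'.isoSpec (Iso.refl _) (Iso.refl _) ?_ ?_ ?_ ?_
  · exact (Scheme.isoSpec_hom_naturality i).symm
  · rw [Iso.refl_hom, Category.comp_id]
    exact eq_isoSpec_hom_comp hX
  · rw [Iso.refl_hom, Category.comp_id]
    exact eq_isoSpec_hom_comp g
  · rw [Iso.refl_hom, Iso.refl_hom, Category.comp_id, Category.id_comp]

/-- in a pushout of rings along a surjection, the kernel of the opposite map is the extended kernel -/
theorem ker_le_map_of_isPushout {R S T P : CommRingCat.{u}} (f : R ⟶ S) (q : R ⟶ T) (inl : S ⟶ P)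
    (inr : T ⟶ P) (h : IsPushout f q inl inr) (hq : Function.Surjective q.hom) :
    RingHom.ker inl.hom ≤ Ideal.map f.hom (RingHom.ker q.hom) := by
  set J := Ideal.map f.hom (RingHom.ker q.hom) with hJ
  have hker : RingHom.ker q.hom ≤ RingHom.ker ((Ideal.Quotient.mk J).comp f.hom) := by
    intro x hx
    rw [RingHom.mem_ker, RingHom.comp_apply, Ideal.Quotient.eq_zero_iff_mem]
    exact Ideal.mem_map_of_mem _ hx
  let k' : T →+* (S ⧸ J) := RingHom.liftOfSurjective q.hom hq ⟨(Ideal.Quotient.mk J).comp f.hom, hker⟩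
  have hk' : k'.comp q.hom = (Ideal.Quotient.mk J).comp f.hom :=
    RingHom.liftOfSurjective_comp q.hom hq ⟨(Ideal.Quotient.mk J).comp f.hom, hker⟩
  have w : f ≫ CommRingCat.ofHom (Ideal.Quotient.mk J) = q ≫ CommRingCat.ofHom k' := by
    ext x
    exact (RingHom.congr_fun hk' x).symm
  have h1 : inl ≫ h.desc _ _ w = CommRingCat.ofHom (Ideal.Quotient.mk J) := h.inl_desc _ _ w
  intro x hx
  rw [RingHom.mem_ker] at hx
  have h2 : (Ideal.Quotient.mk J) x = (h.desc _ _ w).hom (inl.hom x) := by
    have := congrArg (fun φ => φ.hom x) h1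
    exact this.symm
  rw [hx, map_zero] at h2
  exact Ideal.Quotient.eq_zero_iff_mem.mp h2

end Ring

end Groth.Agent.LibAffDef29
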