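import Mathlib
import Groth.Agent.Lib.Helper15.NilFlat

/-!
# A flat infinitesimal deformation of a formally smooth algebra is trivial (algebra core; seat helper29)
-/

set_option autoImplicit false
universe u
open TensorProduct

namespace Groth.Agent.LibAffDef29

variable {k A B B' : Type u} [CommRing k] [CommRing A] [Algebra k A] [CommRing B] [Algebra k B]
  [CommRing B'] [Algebra A B'] [Algebra k B'] [IsScalarTower k A B']

/-- the augmentation `A ⊗ B → B` -/
noncomputable def augT (e : A →ₐ[k] k) : A ⊗[k] B →ₐ[k] B :=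
  Algebra.TensorProduct.productMap ((Algebra.ofId k B).comp e) (AlgHom.id k B)

lemma augT_tmul (e : A →ₐ[k] k) (a : A) (b : B) : augT e (a ⊗ₜ[k] b) = algebraMap k B (e a) * b := rfl

lemma sub_one_tmul_augT_mem (e : A →ₐ[k] k) (v : A ⊗[k] B) :
    v - (1 : A) ⊗ₜ[k] augT e v ∈ (RingHom.ker e • ⊤ : Submodule A (A ⊗[k] B)) := by
  induction v using TensorProduct.induction_on with
  | zero => simp
  | tmul a b =>
    have h0 : (1 : A) ⊗ₜ[k] (algebraMap k B (e a) * b) = (algebraMap k A (e a)) ⊗ₜ[k] b := by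
      rw [← Algebra.smul_def, ← TensorProduct.smul_tmul, Algebra.smul_def, mul_one]
    have h1 : a ⊗ₜ[k] b - (1 : A) ⊗ₜ[k] augT e (a ⊗ₜ[k] b) =
        (a - algebraMap k A (e a)) • ((1 : A) ⊗ₜ[k] b) := by
      rw [augT_tmul, h0, TensorProduct.smul_tmul', smul_eq_mul, mul_one, TensorProduct.sub_tmul]
    rw [h1]
    refine Submodule.smul_mem_smul ?_ Submodule.mem_top
    rw [RingHom.mem_ker, map_sub, AlgHom.commutes, Algebra.algebraMap_self, RingHom.id_apply, sub_self]
  | add x y hx hy =>
    have : x + y - (1 : A) ⊗ₜ[k] augT e (x + y) =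
        (x - (1 : A) ⊗ₜ[k] augT e x) + (y - (1 : A) ⊗ₜ[k] augT e y) := by
      rw [map_add, TensorProduct.tmul_add]
      abel
    rw [this]
    exact Submodule.add_mem _ hx hy

theorem exists_section_bijective [Module.Flat A B'] [Algebra.FormallySmooth k B]
    (e : A →ₐ[k] k) (n : ℕ) (hn : (RingHom.ker e) ^ n = ⊥)
    (β : B' →ₐ[k] B) (hβ : Function.Surjective β)
    (hker : RingHom.ker β ≤ (RingHom.ker e).map (algebraMap A B'))
    (hcomm : ∀ a, β (algebraMap A B' a) = algebraMap k B (e a)) :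
    ∃ s : B →ₐ[k] B', (∀ b, β (s b) = b) ∧
      Function.Bijective
        (Algebra.TensorProduct.productLeftAlgHom (Algebra.ofId A B') s : A ⊗[k] B →ₐ[A] B') := by
  have hnilβ : IsNilpotent (RingHom.ker (β : B' →+* B)) := by
    refine ⟨n, ?_⟩
    rw [Ideal.zero_eq_bot, ← le_bot_iff]
    calc RingHom.ker (β : B' →+* B) ^ n ≤ ((RingHom.ker e).map (algebraMap A B')) ^ n :=
          Ideal.pow_right_mono hker n
      _ = ⊥ := by rw [← Ideal.map_pow, hn, Ideal.map_bot]
  let s : B →ₐ[k] B' := Algebra.FormallySmooth.liftOfSurjective (AlgHom.id k B) β hβ hnilβ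
  have hs : ∀ b, β (s b) = b := fun b =>
    Algebra.FormallySmooth.liftOfSurjective_apply (AlgHom.id k B) β hβ hnilβ b
  refine ⟨s, hs, ?_⟩
  set Θ : A ⊗[k] B →ₐ[A] B' := Algebra.TensorProduct.productLeftAlgHom (Algebra.ofId A B') s with hΘ
  have hπ : ∀ v, β (Θ v) = augT e v := by
    intro v
    induction v using TensorProduct.induction_on with
    | zero => simp
    | tmul a b =>
      rw [augT_tmul]
      change β (algebraMap A B' a * s b) = _
      rw [map_mul, hcomm, hs]
    | add x y hx hy => rw [map_add, map_add, map_add, hx, hy]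
  refine Groth.Agent.Lib.helper15.NilFlat.bijective_of_flat_of_nilpotent (RingHom.ker e) n hn
    Θ.toLinearMap (augT (B := B) e : A ⊗[k] B →+ B) (β : B' →+ B) hπ ?_ ?_ ?_
  · intro b
    exact ⟨(1 : A) ⊗ₜ[k] b, by
      change augT e ((1 : A) ⊗ₜ[k] b) = b
      rw [augT_tmul, map_one, map_one, one_mul]⟩
  · intro v hv
    have h1 := sub_one_tmul_augT_mem (B := B) e v
    have hv' : augT e v = 0 := hv
    rw [hv', TensorProduct.tmul_zero, sub_zero] at h1
    exact h1
  · intro v hv
    have h1 : v ∈ (RingHom.ker e).map (algebraMap A B') := hker hv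
    rw [Ideal.smul_top_eq_map]
    exact h1

end Groth.Agent.LibAffDef29
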