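import Groth.Agent.LibAffDef29b

/-!
# Sections of a flat infinitesimal deformation of an algebra: bijectivity of the comparison map for any section, and
existence of a section compatible with finitely many marked points over a square-zero base (seat helper29)
-/

set_option autoImplicit false
universe u v
open TensorProduct

namespace Groth.Agent.LibAffDef29

/-- distinct `k`-points of a `k`-algebra have comaximal kernels: interpolation -/
lemma exists_interpolation {k B : Type u} [Field k] [CommRing B] [Algebra k B]
    {ι : Type v} [Finite ι] (π : ι → (B →ₐ[k] k)) (hπ : Function.Injective π)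
    (c : ι → k) : ∃ r : B, ∀ j, π j r = c j := by
  have hmax : ∀ j, (RingHom.ker (π j).toRingHom).IsMaximal := fun j =>
    RingHom.ker_isMaximal_of_surjective (π j).toRingHom (fun x => ⟨algebraMap k B x, (π j).commutes x⟩)
  have hne : ∀ j l, j ≠ l → RingHom.ker (π j).toRingHom ≠ RingHom.ker (π l).toRingHom := by
    intro j l hjl h
    apply hjl
    apply hπ
    refine AlgHom.ext fun b => ?_
    have h1 : b - algebraMap k B (π j b) ∈ RingHom.ker (π j).toRingHom := by
      rw [RingHom.mem_ker]
      change π j (b - algebraMap k B (π j b)) = 0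
      rw [map_sub, AlgHom.commutes, Algebra.algebraMap_self, RingHom.id_apply, sub_self]
    rw [h, RingHom.mem_ker] at h1
    have h2 : π l (b - algebraMap k B (π j b)) = 0 := h1
    rw [map_sub, AlgHom.commutes, Algebra.algebraMap_self, RingHom.id_apply, sub_eq_zero] at h2
    exact h2.symm
  have hcop : Pairwise (Function.onFun IsCoprime fun j => RingHom.ker (π j).toRingHom) := by
    intro j l hjl
    haveI := hmax j
    haveI := hmax l
    exact Ideal.isCoprime_of_isMaximal (hne j l hjl)
  obtain ⟨r, hr⟩ := Ideal.exists_forall_sub_mem_ideal hcop (fun j => algebraMap k B (c j))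
  refine ⟨r, fun j => ?_⟩
  have h1 : π j (r - algebraMap k B (c j)) = 0 := hr j
  rw [map_sub, AlgHom.commutes, Algebra.algebraMap_self, RingHom.id_apply, sub_eq_zero] at h1
  exact h1

variable {k A B B' : Type u} [CommRing k] [CommRing A] [Algebra k A] [CommRing B] [Algebra k B]
  [CommRing B'] [Algebra A B'] [Algebra k B'] [IsScalarTower k A B']

theorem bijective_of_section [Module.Flat A B']
    (e : A →ₐ[k] k) (n : ℕ) (hn : (RingHom.ker e) ^ n = ⊥)
    (β : B' →ₐ[k] B)
    (hker : RingHom.ker β ≤ (RingHom.ker e).map (algebraMap A B'))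
    (hcomm : ∀ a, β (algebraMap A B' a) = algebraMap k B (e a))
    (s : B →ₐ[k] B') (hs : ∀ b, β (s b) = b) :
    Function.Bijective
      (Algebra.TensorProduct.productLeftAlgHom (Algebra.ofId A B') s : A ⊗[k] B →ₐ[A] B') := by
  set Θ : A ⊗[k] B →ₐ[A] B' := Algebra.TensorProduct.productLeftAlgHom (Algebra.ofId A B') s with hΘ
  have hπ : ∀ v, β (Θ v) = augT e v := by
    intro v
    induction v using TensorProduct.induction_on with
    | zero => simp
    | tmul a b =>
      rw [augT_tmul]
      change β (algebraMap A B' a * s b) = _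
      rw [map_mul, hcomm, hs]
    | add x y hx hy => rw [map_add, map_add, map_add, hx, hy]
  refine Groth.Agent.Lib.helper15.NilFlat.bijective_of_flat_of_nilpotent (RingHom.ker e) n hn
    Θ.toLinearMap (augT (B := B) e : A ⊗[k] B →+ B) (β : B' →+ B) hπ ?_ ?_ ?_
  · intro b
    exact ⟨(1 : A) ⊗ₜ[k] b, by
      change augT e ((1 : A) ⊗ₜ[k] b) = b
      rw [augT_tmul, map_one, map_one, one_mul]⟩
  · intro v hv
    have h1 := sub_one_tmul_augT_mem (B := B) e v
    have hv' : augT e v = 0 := hv
    rw [hv', TensorProduct.tmul_zero, sub_zero] at h1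
    exact h1
  · intro v hv
    have h1 : v ∈ (RingHom.ker e).map (algebraMap A B') := hker hv
    rw [Ideal.smul_top_eq_map]
    exact h1

end Groth.Agent.LibAffDef29

namespace Groth.Agent.LibAffDef29

variable {k A B B' : Type u} [Field k] [CommRing A] [Algebra k A] [CommRing B] [Algebra k B]
  [CommRing B'] [Algebra A B'] [Algebra k B'] [IsScalarTower k A B']

/-- over a square-zero base, a flat deformation of a formally smooth algebra with finitely many marked points has a
section compatible with the marked points -/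
theorem exists_section_marked [Algebra.FormallySmooth k B]
    (e : A →ₐ[k] k) (hsq0 : ∀ x ∈ RingHom.ker e, ∀ y ∈ RingHom.ker e, x * y = 0)
    (β : B' →ₐ[k] B) (hβ : Function.Surjective β)
    (hker : RingHom.ker β ≤ (RingHom.ker e).map (algebraMap A B'))
    (hcomm : ∀ a, β (algebraMap A B' a) = algebraMap k B (e a))
    {ι : Type v} [Finite ι] (π : ι → (B →ₐ[k] k)) (hπ : Function.Injective π)
    (π' : ι → (B' →ₐ[A] A)) (hππ' : ∀ j b', e (π' j b') = π j (β b')) :
    ∃ s : B →ₐ[k] B', (∀ b, β (s b) = b) ∧ ∀ j b, π' j (s b) = algebraMap k A (π j b) := by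
  classical
  haveI : Fintype ι := Fintype.ofFinite ι
  -- the two maps to `ι → A`
  let φ : B' →ₐ[k] (ι → A) := AlgHom.pi (fun j => (π' j).restrictScalars k)
  let ψ : B' →ₐ[k] (ι → A) := AlgHom.pi (fun j => (Algebra.ofId k A).comp ((π j).comp β))
  let P' : Subalgebra k B' := AlgHom.equalizer φ ψ
  have hmemP : ∀ b' : B', b' ∈ P' ↔ ∀ j, π' j b' = algebraMap k A (π j (β b')) := by
    intro b'
    change φ b' = ψ b' ↔ _
    rw [funext_iff]
    rfl
  -- products of two elements of `I B'` vanish
  have hIB : ∀ u ∈ (RingHom.ker e).map (algebraMap A B'), ∀ w ∈ (RingHom.ker e).map (algebraMap A B'),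
      u * w = 0 := by
    intro u hu w hw
    have h1 : u * w ∈ (RingHom.ker e).map (algebraMap A B') * (RingHom.ker e).map (algebraMap A B') :=
      Ideal.mul_mem_mul hu hw
    rw [← Ideal.map_mul] at h1
    have h2 : RingHom.ker e * RingHom.ker e = ⊥ := by
      rw [← le_bot_iff, Ideal.mul_le]
      intro x hx y hy
      rw [hsq0 x hx y hy]
      exact Ideal.zero_mem _
    rw [h2, Ideal.map_bot] at h1
    exact h1
  -- idempotent-like elements
  have hu : ∀ l : ι, ∃ u : B', ∀ j, π j (β u) = if j = l then 1 else 0 := by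
    intro l
    obtain ⟨v, hv⟩ := exists_interpolation π hπ (fun j => if j = l then 1 else 0)
    obtain ⟨u, rfl⟩ := hβ v
    exact ⟨u, hv⟩
  choose u hu using hu
  -- surjectivity of `β` on `P'`
  have hsurj : Function.Surjective (β.comp P'.val) := by
    intro b
    obtain ⟨b', rfl⟩ := hβ b
    let c : ι → A := fun j => π' j b' - algebraMap k A (π j (β b'))
    have hc : ∀ j, c j ∈ RingHom.ker e := by
      intro j
      rw [RingHom.mem_ker, map_sub, hππ', AlgHom.commutes, Algebra.algebraMap_self, RingHom.id_apply,
        sub_self]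
    let t : B' := ∑ l, algebraMap A B' (c l) * u l
    have hβt : β t = 0 := by
      rw [map_sum]
      refine Finset.sum_eq_zero fun l _ => ?_
      rw [map_mul, hcomm, (RingHom.mem_ker).mp (hc l), map_zero, zero_mul]
    have hπt : ∀ j, π' j t = c j := by
      intro j
      rw [map_sum]
      have h1 : ∀ l, π' j (algebraMap A B' (c l) * u l) = if j = l then c l else 0 := by
        intro l
        rw [map_mul, AlgHom.commutes, Algebra.algebraMap_self, RingHom.id_apply]
        have h2 : π' j (u l) - algebraMap k A (if j = l then 1 else 0) ∈ RingHom.ker e := by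
          rw [RingHom.mem_ker, map_sub, hππ', hu l j, AlgHom.commutes, Algebra.algebraMap_self,
            RingHom.id_apply, sub_self]
        have h3 : π' j (u l) = algebraMap k A (if j = l then 1 else 0) +
            (π' j (u l) - algebraMap k A (if j = l then 1 else 0)) := by ring
        rw [h3, mul_add, hsq0 _ (hc l) _ h2, add_zero]
        split_ifs
        · rw [map_one, mul_one]
        · rw [map_zero, mul_zero]
      rw [Finset.sum_congr rfl fun l _ => h1 l, Finset.sum_ite_eq, if_pos (Finset.mem_univ j)]
    have hmem : b' - t ∈ P' := by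
      rw [hmemP]
      intro j
      rw [map_sub, map_sub, hπt, hβt, sub_zero]
      change π' j b' - (π' j b' - algebraMap k A (π j (β b'))) = _
      ring
    refine ⟨⟨b' - t, hmem⟩, ?_⟩
    change β (b' - t) = β b'
    rw [map_sub, hβt, sub_zero]
  have hnil : IsNilpotent (RingHom.ker ((β.comp P'.val : P' →ₐ[k] B) : P' →+* B)) := by
    refine ⟨2, ?_⟩
    rw [Ideal.zero_eq_bot, ← le_bot_iff, pow_two, Ideal.mul_le]
    intro x hx y hy
    rw [Ideal.mem_bot]
    apply Subtype.ext
    have hx' : (x : B') ∈ (RingHom.ker e).map (algebraMap A B') := hker hx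
    have hy' : (y : B') ∈ (RingHom.ker e).map (algebraMap A B') := hker hy
    exact hIB _ hx' _ hy'
  let s₀ : B →ₐ[k] P' := Algebra.FormallySmooth.liftOfSurjective (AlgHom.id k B) (β.comp P'.val) hsurj hnil
  have hs₀ : ∀ b, β ((s₀ b : B')) = b := fun b =>
    Algebra.FormallySmooth.liftOfSurjective_apply (AlgHom.id k B) (β.comp P'.val) hsurj hnil b
  refine ⟨P'.val.comp s₀, hs₀, fun j b => ?_⟩
  have h1 := (hmemP (s₀ b : B')).mp (s₀ b).2 j
  rw [hs₀] at h1
  exact h1

end Groth.Agent.LibAffDef29
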