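import Groth.Agent.LibAffDef29a
import Groth.Agent.LibAffDef29d

/-!
# A flat square-zero deformation of a formally smooth affine scheme with marked points is trivial
(scheme level; seat helper29)
-/

set_option autoImplicit false
universe u v
open CategoryTheory CategoryTheory.Limits AlgebraicGeometry TensorProduct

namespace Groth.Agent.LibAffDef29

/-- the ring map `Γ(Y) → R` of a morphism `Spec R ⟶ Y` -/
noncomputable def fromΓ {R : Type u} [CommRing R] {Y : Scheme.{u}} (f : Spec (CommRingCat.of R) ⟶ Y) :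
    Γ(Y, ⊤) ⟶ CommRingCat.of R :=
  f.appTop ≫ (Scheme.ΓSpecIso (CommRingCat.of R)).hom

lemma comp_isoSpec_hom {R : Type u} [CommRing R] {Y : Scheme.{u}} [IsAffine Y]
    (f : Spec (CommRingCat.of R) ⟶ Y) : f ≫ Y.isoSpec.hom = Spec.map (fromΓ f) := by
  have h1 := Scheme.isoSpec_hom_naturality f
  rw [Scheme.isoSpec_Spec_hom] at h1
  rw [← h1, fromΓ, Spec.map_comp]

lemma toΓ_comp_fromΓ {R S : Type u} [CommRing R] [CommRing S] {Y : Scheme.{u}}
    (f : Spec (CommRingCat.of S) ⟶ Y) (h : Y ⟶ Spec (CommRingCat.of R)) :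
    toΓ h ≫ fromΓ f = (Scheme.ΓSpecIso (CommRingCat.of R)).inv ≫ (f ≫ h).appTop ≫
      (Scheme.ΓSpecIso (CommRingCat.of S)).hom := by
  rw [toΓ, fromΓ, Scheme.Hom.comp_appTop, Category.assoc, Category.assoc]

lemma toΓ_comp_fromΓ_of_section {R : Type u} [CommRing R] {Y : Scheme.{u}}
    (f : Spec (CommRingCat.of R) ⟶ Y) (h : Y ⟶ Spec (CommRingCat.of R)) (hf : f ≫ h = 𝟙 _) :
    toΓ h ≫ fromΓ f = 𝟙 _ := by
  rw [toΓ_comp_fromΓ, hf, Scheme.Hom.id_appTop, Category.id_comp, Iso.inv_hom_id]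

lemma fromΓ_injective {R : Type u} [CommRing R] {Y : Scheme.{u}} [IsAffine Y]
    (f f' : Spec (CommRingCat.of R) ⟶ Y) (h : fromΓ f = fromΓ f') : f = f' := by
  apply ext_of_isAffine
  rw [fromΓ, fromΓ, cancel_mono] at h
  exact h

lemma fromΓ_comp {R : Type u} [CommRing R] {Y Z : Scheme.{u}}
    (f : Spec (CommRingCat.of R) ⟶ Y) (h : Y ⟶ Z) : fromΓ (f ≫ h) = h.appTop ≫ fromΓ f := by
  rw [fromΓ, fromΓ, Scheme.Hom.comp_appTop, Category.assoc]

lemma fromΓ_SpecMap_comp {R S : Type u} [CommRing R] [CommRing S] {Y : Scheme.{u}}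
    (φ : CommRingCat.of R ⟶ CommRingCat.of S) (f : Spec (CommRingCat.of R) ⟶ Y) :
    fromΓ (Spec.map φ ≫ f) = fromΓ f ≫ φ := by
  rw [fromΓ, fromΓ, Scheme.Hom.comp_appTop, Category.assoc, Scheme.ΓSpecIso_naturality, Category.assoc]

variable {k A : Type u} [Field k] [CommRing A] [Algebra k A]
variable {X X' : Scheme.{u}} (hX : X ⟶ Spec (CommRingCat.of k)) (g : X' ⟶ Spec (CommRingCat.of A))
  (i : X ⟶ X')

theorem exists_retraction_isPullback_marked [IsAffine X] [Flat g] (e : A →ₐ[k] k)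
    (hsq0 : ∀ x ∈ RingHom.ker e, ∀ y ∈ RingHom.ker e, x * y = 0)
    (hsq : IsPullback i hX g (Spec.map (CommRingCat.ofHom e.toRingHom)))
    (hsm : (toΓ hX).hom.FormallySmooth)
    {ι : Type v} [Finite ι] (p : ι → (Spec (CommRingCat.of k) ⟶ X)) (hp : ∀ j, p j ≫ hX = 𝟙 _)
    (hinj : Function.Injective p)
    (p' : ι → (Spec (CommRingCat.of A) ⟶ X')) (hp' : ∀ j, p' j ≫ g = 𝟙 _)
    (hpp' : ∀ j, p j ≫ i = Spec.map (CommRingCat.ofHom e.toRingHom) ≫ p' j) :
    ∃ ρ : X' ⟶ X, i ≫ ρ = 𝟙 X ∧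
      IsPullback ρ g hX (Spec.map (CommRingCat.ofHom (algebraMap k A))) ∧
      ∀ j, p' j ≫ ρ = Spec.map (CommRingCat.ofHom (algebraMap k A)) ≫ p j := by
  have he : Function.Surjective e.toRingHom := fun c => ⟨algebraMap k A c, by simp⟩
  have hn : (RingHom.ker e) ^ 2 = ⊥ := by
    rw [← le_bot_iff, pow_two, Ideal.mul_le]
    intro x hx y hy
    rw [hsq0 x hx y hy]
    exact Ideal.zero_mem _
  have hnil : RingHom.ker e.toRingHom ≤ nilradical A := by
    intro x hx
    have h1 : x ^ 2 ∈ (RingHom.ker e) ^ 2 := Ideal.pow_mem_pow hx 2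
    rw [hn] at h1
    exact ⟨2, h1⟩
  haveI : IsAffine X' := isAffine_total e.toRingHom hX g i hsq he hnil
  have hpo := isPushout_rings e.toRingHom hX g i hsq
  -- algebra structures
  letI : Algebra A Γ(X', ⊤) := (toΓ g).hom.toAlgebra
  letI : Algebra k Γ(X, ⊤) := (toΓ hX).hom.toAlgebra
  letI : Algebra k Γ(X', ⊤) := ((toΓ g).hom.comp (algebraMap k A)).toAlgebra
  haveI : IsScalarTower k A Γ(X', ⊤) := IsScalarTower.of_algebraMap_eq' rfl
  haveI : Algebra.FormallySmooth k Γ(X, ⊤) := hsm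
  have hw : ∀ a : A, i.appTop.hom ((toΓ g).hom a) = (toΓ hX).hom (e a) := by
    intro a
    have := congrArg (fun φ => φ.hom a) hpo.w
    exact this
  haveI : Module.Flat A Γ(X', ⊤) := by
    have h1 : g.appTop.hom.Flat := Scheme.Hom.flat_appTop g
    have h2 : (Scheme.ΓSpecIso (CommRingCat.of A)).inv.hom.Flat :=
      RingHom.Flat.of_bijective (ConcreteCategory.bijective_of_isIso _)
    exact RingHom.Flat.comp h2 h1
  let β : Γ(X', ⊤) →ₐ[k] Γ(X, ⊤) :=
    { i.appTop.hom with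
      commutes' := fun c => by
        change i.appTop.hom ((toΓ g).hom (algebraMap k A c)) = (toΓ hX).hom c
        rw [hw, AlgHom.commutes]
        rfl }
  haveI := isClosedImmersion_i e.toRingHom hX g i hsq he
  have hβ : Function.Surjective β := (IsClosedImmersion.isAffine_surjective_of_isAffine i).2
  have hker0 : RingHom.ker i.appTop.hom ≤
      Ideal.map (toΓ g).hom (RingHom.ker (CommRingCat.ofHom e.toRingHom).hom) :=
    ker_le_map_of_isPushout (toΓ g) (CommRingCat.ofHom e.toRingHom) i.appTop (toΓ hX) hpo he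
  have hker : RingHom.ker β ≤ (RingHom.ker e).map (algebraMap A Γ(X', ⊤)) := by
    intro x hx
    have hx' : x ∈ RingHom.ker i.appTop.hom := hx
    exact hker0 hx'
  -- the marked points as algebra maps
  let π : ι → (Γ(X, ⊤) →ₐ[k] k) := fun j =>
    { (fromΓ (p j)).hom with
      commutes' := fun c => by
        have h1 := toΓ_comp_fromΓ_of_section (p j) hX (hp j)
        exact congrArg (fun φ => φ.hom c) h1 }
  let π' : ι → (Γ(X', ⊤) →ₐ[A] A) := fun j =>
    { (fromΓ (p' j)).hom with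
      commutes' := fun c => by
        have h1 := toΓ_comp_fromΓ_of_section (p' j) g (hp' j)
        exact congrArg (fun φ => φ.hom c) h1 }
  have hπ : Function.Injective π := by
    intro j l hjl
    apply hinj
    apply fromΓ_injective
    ext b
    exact congrArg (fun φ : Γ(X, ⊤) →ₐ[k] k => φ b) hjl
  have hππ' : ∀ j b', e (π' j b') = π j (β b') := by
    intro j b'
    have h1 : fromΓ (p' j) ≫ CommRingCat.ofHom e.toRingHom = i.appTop ≫ fromΓ (p j) := by
      rw [← fromΓ_comp, hpp' j, fromΓ_SpecMap_comp]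
    exact congrArg (fun φ => φ.hom b') h1
  obtain ⟨s, hs, hsπ⟩ := exists_section_marked e hsq0 β hβ hker hw π hπ π' hππ'
  have hbij := bijective_of_section e 2 hn β hker hw s hs
  -- the pushout of rings
  let Θ : A ⊗[k] Γ(X, ⊤) ≃+* Γ(X', ⊤) :=
    RingEquiv.ofBijective
      (Algebra.TensorProduct.productLeftAlgHom (Algebra.ofId A Γ(X', ⊤)) s : A ⊗[k] Γ(X, ⊤) →ₐ[A] Γ(X', ⊤))
      hbij
  have hpo2 : IsPushout (CommRingCat.ofHom (algebraMap k A)) (toΓ hX) (toΓ g) (CommRingCat.ofHom s.toRingHom) := by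
    refine (CommRingCat.isPushout_tensorProduct k A Γ(X, ⊤)).of_iso (Iso.refl _) (Iso.refl _) (Iso.refl _)
      Θ.toCommRingCatIso ?_ ?_ ?_ ?_
    · rfl
    · rfl
    · ext a
      change Θ (a ⊗ₜ[k] (1 : Γ(X, ⊤))) = (toΓ g).hom a
      change algebraMap A Γ(X', ⊤) a * s 1 = _
      rw [map_one, mul_one]
      rfl
    · ext b
      change Θ ((1 : A) ⊗ₜ[k] b) = s b
      change algebraMap A Γ(X', ⊤) 1 * s b = _
      rw [map_one, one_mul]
  have hpb := isPullback_SpecMap_of_isPushout _ _ _ _ hpo2.flip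
  refine ⟨X'.isoSpec.hom ≫ Spec.map (CommRingCat.ofHom s.toRingHom) ≫ X.isoSpec.inv, ?_, ?_, ?_⟩
  · rw [← Category.assoc, ← Scheme.isoSpec_hom_naturality i, Category.assoc, ← Category.assoc (Spec.map _),
      ← Spec.map_comp]
    have h1 : CommRingCat.ofHom s.toRingHom ≫ i.appTop = 𝟙 _ := by
      ext b
      exact hs b
    rw [h1, Spec.map_id]
    erw [Category.id_comp]
    exact Iso.hom_inv_id _
  · refine IsPullback.of_iso hpb X'.isoSpec.symm X.isoSpec.symm (Iso.refl _) (Iso.refl _) ?_ ?_ ?_ ?_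
    · simp
    · rw [Iso.refl_hom, Category.comp_id, Iso.symm_hom, Iso.eq_inv_comp]
      exact (eq_isoSpec_hom_comp g).symm
    · rw [Iso.refl_hom, Category.comp_id, Iso.symm_hom, Iso.eq_inv_comp]
      exact (eq_isoSpec_hom_comp hX).symm
    · simp
  · intro j
    have h1 : CommRingCat.ofHom s.toRingHom ≫ fromΓ (p' j) =
        fromΓ (p j) ≫ CommRingCat.ofHom (algebraMap k A) := by
      ext b
      exact hsπ j b
    rw [← Category.assoc, comp_isoSpec_hom, ← Category.assoc, ← Spec.map_comp, h1, Spec.map_comp,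
      Category.assoc, ← comp_isoSpec_hom, Category.assoc, Iso.hom_inv_id, Category.comp_id]

end Groth.Agent.LibAffDef29
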