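import Groth.Agent.LibAffDef29a
import Groth.Agent.LibAffDef29d

/-!
# A flat infinitesimal deformation of an affine scheme whose coordinate ring admits a section is trivial
(scheme level; seat helper29)
-/

set_option autoImplicit false
universe u
open CategoryTheory CategoryTheory.Limits AlgebraicGeometry TensorProduct

namespace Groth.Agent.LibAffDef29

variable {k A : Type u} [CommRing k] [CommRing A] [Algebra k A]
variable {X X' : Scheme.{u}} (hX : X ⟶ Spec (CommRingCat.of k)) (g : X' ⟶ Spec (CommRingCat.of A))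
  (i : X ⟶ X')

/-- given a ring section `s` of `Γ(X') → Γ(X)` compatible with the structure maps, the deformation is trivial -/
theorem exists_retraction_of_section [IsAffine X] [Flat g] (e : A →ₐ[k] k) (n : ℕ)
    (hn : (RingHom.ker e) ^ n = ⊥)
    (hsq : IsPullback i hX g (Spec.map (CommRingCat.ofHom e.toRingHom)))
    (s₀ : Γ(X, ⊤) →+* Γ(X', ⊤)) (hs₀ : ∀ b, i.appTop.hom (s₀ b) = b)
    (hsk : ∀ c : k, s₀ ((toΓ hX).hom c) = (toΓ g).hom (algebraMap k A c)) :
    ∃ ρ : X' ⟶ X, i ≫ ρ = 𝟙 X ∧ IsPullback ρ g hX (Spec.map (CommRingCat.ofHom (algebraMap k A))) := by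
  have he : Function.Surjective e.toRingHom := fun c => ⟨algebraMap k A c, by simp⟩
  have hnil : RingHom.ker e.toRingHom ≤ nilradical A := by
    intro x hx
    have h1 : x ^ n ∈ (RingHom.ker e) ^ n := Ideal.pow_mem_pow hx n
    rw [hn] at h1
    exact ⟨n, h1⟩
  haveI : IsAffine X' := isAffine_total e.toRingHom hX g i hsq he hnil
  have hpo := isPushout_rings e.toRingHom hX g i hsq
  -- algebra structures
  letI : Algebra A Γ(X', ⊤) := (toΓ g).hom.toAlgebra
  letI : Algebra k Γ(X, ⊤) := (toΓ hX).hom.toAlgebra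
  letI : Algebra k Γ(X', ⊤) := ((toΓ g).hom.comp (algebraMap k A)).toAlgebra
  haveI : IsScalarTower k A Γ(X', ⊤) := IsScalarTower.of_algebraMap_eq' rfl
  have hw : ∀ a : A, i.appTop.hom ((toΓ g).hom a) = (toΓ hX).hom (e a) := by
    intro a
    have := congrArg (fun φ => φ.hom a) hpo.w
    exact this
  haveI : Module.Flat A Γ(X', ⊤) := by
    have h1 : g.appTop.hom.Flat := Scheme.Hom.flat_appTop g
    have h2 : (Scheme.ΓSpecIso (CommRingCat.of A)).inv.hom.Flat :=
      RingHom.Flat.of_bijective (ConcreteCategory.bijective_of_isIso _)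
    exact RingHom.Flat.comp h2 h1
  let β : Γ(X', ⊤) →ₐ[k] Γ(X, ⊤) :=
    { i.appTop.hom with
      commutes' := fun c => by
        change i.appTop.hom ((toΓ g).hom (algebraMap k A c)) = (toΓ hX).hom c
        rw [hw, AlgHom.commutes]
        rfl }
  have hker0 : RingHom.ker i.appTop.hom ≤
      Ideal.map (toΓ g).hom (RingHom.ker (CommRingCat.ofHom e.toRingHom).hom) :=
    ker_le_map_of_isPushout (toΓ g) (CommRingCat.ofHom e.toRingHom) i.appTop (toΓ hX) hpo he
  have hker : RingHom.ker β ≤ (RingHom.ker e).map (algebraMap A Γ(X', ⊤)) := by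
    intro x hx
    have hx' : x ∈ RingHom.ker i.appTop.hom := hx
    exact hker0 hx'
  let s : Γ(X, ⊤) →ₐ[k] Γ(X', ⊤) := { s₀ with commutes' := hsk }
  have hs : ∀ b, β (s b) = b := hs₀
  have hbij := bijective_of_section e n hn β hker hw s hs
  -- the pushout of rings
  let Θ : A ⊗[k] Γ(X, ⊤) ≃+* Γ(X', ⊤) :=
    RingEquiv.ofBijective
      (Algebra.TensorProduct.productLeftAlgHom (Algebra.ofId A Γ(X', ⊤)) s : A ⊗[k] Γ(X, ⊤) →ₐ[A] Γ(X', ⊤))
      hbij
  have hpo2 : IsPushout (CommRingCat.ofHom (algebraMap k A)) (toΓ hX) (toΓ g) (CommRingCat.ofHom s.toRingHom) := by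
    refine (CommRingCat.isPushout_tensorProduct k A Γ(X, ⊤)).of_iso (Iso.refl _) (Iso.refl _) (Iso.refl _)
      Θ.toCommRingCatIso ?_ ?_ ?_ ?_
    · rfl
    · rfl
    · ext a
      change Θ (a ⊗ₜ[k] (1 : Γ(X, ⊤))) = (toΓ g).hom a
      change algebraMap A Γ(X', ⊤) a * s 1 = _
      rw [map_one, mul_one]
      rfl
    · ext b
      change Θ ((1 : A) ⊗ₜ[k] b) = s b
      change algebraMap A Γ(X', ⊤) 1 * s b = _
      rw [map_one, one_mul]
  have hpb := isPullback_SpecMap_of_isPushout _ _ _ _ hpo2.flip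
  refine ⟨X'.isoSpec.hom ≫ Spec.map (CommRingCat.ofHom s.toRingHom) ≫ X.isoSpec.inv, ?_, ?_⟩
  · rw [← Category.assoc, ← Scheme.isoSpec_hom_naturality i, Category.assoc, ← Category.assoc (Spec.map _),
      ← Spec.map_comp]
    have h1 : CommRingCat.ofHom s.toRingHom ≫ i.appTop = 𝟙 _ := by
      ext b
      exact hs b
    rw [h1, Spec.map_id]
    erw [Category.id_comp]
    exact Iso.hom_inv_id _
  · refine IsPullback.of_iso hpb X'.isoSpec.symm X.isoSpec.symm (Iso.refl _) (Iso.refl _) ?_ ?_ ?_ ?_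
    · simp
    · rw [Iso.refl_hom, Category.comp_id, Iso.symm_hom, Iso.eq_inv_comp]
      exact (eq_isoSpec_hom_comp g).symm
    · rw [Iso.refl_hom, Category.comp_id, Iso.symm_hom, Iso.eq_inv_comp]
      exact (eq_isoSpec_hom_comp hX).symm
    · simp

end Groth.Agent.LibAffDef29
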