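import Groth.Prelude.Def_AlgSpOX
import Groth.Agent.S9885
import Groth.Agent.S10194
import Mathlib.CategoryTheory.Sites.RegularEpi

/-!
# Morphisms from an algebraic space to an affine scheme (helper29)

`Hom(X, T) = Hom(Γ(T, O_T), Γ(X, O_X))` for an algebraic space `X` over a terminal base and an
affine scheme `T`.
-/

set_option autoImplicit false
universe u
open CategoryTheory CategoryTheory.Limits AlgebraicGeometry Opposite
open AlgSp

namespace Groth.Agent.LibAlgSpAffHom29

theorem exists_hom_appTop_eq {X T : Scheme.{u}} [IsAffine T] (ψ : Γ(T, ⊤) ⟶ Γ(X, ⊤)) :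
    ∃ a : X ⟶ T, a.appTop = ψ := by
  refine ⟨X.toSpecΓ ≫ Spec.map ψ ≫ T.isoSpec.inv, ?_⟩
  have h2 : T.isoSpec.inv.appTop = (Scheme.ΓSpecIso Γ(T, ⊤)).inv := by
    have h3 : T.isoSpec.inv.appTop ≫ T.isoSpec.hom.appTop = 𝟙 _ := by
      rw [← Scheme.Hom.comp_appTop, Iso.hom_inv_id]; rfl
    have h1 : T.isoSpec.hom.appTop = (Scheme.ΓSpecIso Γ(T, ⊤)).hom := Scheme.toSpecΓ_appTop T
    rw [h1] at h3
    rw [← Category.comp_id T.isoSpec.inv.appTop, ← Iso.hom_inv_id (Scheme.ΓSpecIso Γ(T, ⊤)),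
      ← Category.assoc, h3, Category.id_comp]
  rw [Scheme.Hom.comp_appTop, Scheme.Hom.comp_appTop, h2, Scheme.toSpecΓ_appTop]
  rw [Category.assoc, Iso.inv_comp_eq]
  exact Scheme.ΓSpecIso_naturality ψ

variable {S : Scheme.{u}}

/-- The ring map `Γ(T) → Γ(E)` induced by `φ : Γ(T) → Γ(X, O_X)` on an object of the small étale
site. -/
noncomputable def psi {X : Sp S} {T : Over S} (φ : Γ(T.left, ⊤) →+* ↥(gsectEt (OEt X)))
    (E : EtOver X) : Γ(T.left, ⊤) →+* Γ(E.obj.left.left, ⊤) :=
  (ULift.ringEquiv (R := Γ(E.obj.left.left, ⊤))).toRingHom.comp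
    ((limit.π (OEt X).obj (op E)).hom.comp φ)

theorem psi_apply {X : Sp S} {T : Over S} (φ : Γ(T.left, ⊤) →+* ↥(gsectEt (OEt X)))
    (E : EtOver X) (r : Γ(T.left, ⊤)) :
    psi φ E r = ((limit.π (OEt X).obj (op E)) (φ r)).down := rfl

theorem psi_map {X : Sp S} {T : Over S} (φ : Γ(T.left, ⊤) →+* ↥(gsectEt (OEt X)))
    {E E' : EtOver X} (g : E' ⟶ E) (r : Γ(T.left, ⊤)) :
    psi φ E' r = g.hom.left.left.appTop.hom (psi φ E r) := by
  rw [psi_apply, psi_apply]
  have h := limit.w (OEt X).obj g.op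
  have h2 := congrArg (fun k => (k (φ r)).down) h
  simp only [CommRingCat.comp_apply] at h2
  rw [← h2, OEt_map]

/-- The morphism `E ⟶ T` over `S` induced by `φ`. -/
noncomputable def aHom (hS : IsTerminal S) {X : Sp S} {T : Over S} [IsAffine T.left]
    (φ : Γ(T.left, ⊤) →+* ↥(gsectEt (OEt X))) (E : EtOver X) : E.obj.left ⟶ T :=
  Over.homMk (exists_hom_appTop_eq (CommRingCat.ofHom (psi φ E))).choose (hS.hom_ext _ _)

theorem aHom_appTop (hS : IsTerminal S) {X : Sp S} {T : Over S} [IsAffine T.left]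
    (φ : Γ(T.left, ⊤) →+* ↥(gsectEt (OEt X))) (E : EtOver X) :
    (aHom hS φ E).left.appTop = CommRingCat.ofHom (psi φ E) :=
  (exists_hom_appTop_eq (CommRingCat.ofHom (psi φ E))).choose_spec

theorem aHom_map (hS : IsTerminal S) {X : Sp S} {T : Over S} [IsAffine T.left]
    (φ : Γ(T.left, ⊤) →+* ↥(gsectEt (OEt X))) {E E' : EtOver X} (g : E' ⟶ E) :
    g.hom.left ≫ aHom hS φ E = aHom hS φ E' := by
  apply Over.OverMorphism.ext
  rw [Over.comp_left]
  apply ext_of_isAffine
  rw [Scheme.Hom.comp_appTop, aHom_appTop, aHom_appTop]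
  ext r
  simp only [CommRingCat.hom_comp, CommRingCat.hom_ofHom, RingHom.comp_apply]
  exact (psi_map φ g r).symm

theorem isLocallySurjective_of_etale_surjective {F G : Sp S} (a : F ⟶ G)
    (he : RepWith @Etale a) (hs : RepWith @Surjective a) : Sheaf.IsLocallySurjective a :=
  Groth.Agent.S9885.result S _ _ a
    (Groth.Agent.S10194.repWith_mono (fun _ _ g hg => by
      have : Etale g := hg
      exact (inferInstance : Flat g)) he)
    (Groth.Agent.S10194.repWith_mono (fun _ _ g hg => by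
      have : Etale g := hg
      exact (inferInstance : LocallyOfFinitePresentation g)) he) hs

theorem epi_of_etale_surjective {F G : Sp S} (a : F ⟶ G)
    (he : RepWith @Etale a) (hs : RepWith @Surjective a) : Epi a := by
  haveI := isLocallySurjective_of_etale_surjective a he hs
  infer_instance

theorem effectiveEpi_of_etale_surjective {F G : Sp S} (a : F ⟶ G)
    (he : RepWith @Etale a) (hs : RepWith @Surjective a) : EffectiveEpi a := by
  haveI := epi_of_etale_surjective a he hs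
  exact (isRegularEpi_iff_effectiveEpi _).1 (IsRegularEpiCategory.regularEpiOfEpi _)

/-- Morphisms from an algebraic space to an affine scheme are determined by compatible families
of morphisms from the objects of the small étale site. -/
theorem existsUnique_hom (hS : IsTerminal S) {X : Sp S} (hX : IsAlgSpace X) (T : Over S)
    [IsAffine T.left] (φ : Γ(T.left, ⊤) →+* ↥(gsectEt (OEt X))) :
    ∃! f : X ⟶ (yon S).obj T, ∀ E : EtOver X, E.obj.hom ≫ f = (yon S).map (aHom hS φ E) := by
  obtain ⟨U, q, hqe, hqs⟩ := hX.atlas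
  have hq : Representable q := hqe.1
  haveI := epi_of_etale_surjective q hqe hqs
  haveI := effectiveEpi_of_etale_surjective q hqe hqs
  -- key: for every `E`, compatibility on `E ×_X U`
  have key : ∀ E : EtOver X, hq.fst E.obj.hom ≫ (yon S).map (aHom hS φ (EtOver.mk q hqe)) =
      (yon S).map (hq.snd E.obj.hom) ≫ (yon S).map (aHom hS φ E) := by
    intro E
    have sqW := hq.isPullback E.obj.hom
    have hse : Etale (hq.snd E.obj.hom).left := hqe.2 _ _ _ sqW
    have hW : RepWith @Etale ((yon S).map (hq.snd E.obj.hom) ≫ E.obj.hom) :=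
      (RepWith (S := S) @Etale).comp_mem _ _ ((repWith_yon_map_iff _ _).2 hse) E.property
    let Q₁ : EtOver.mk _ hW ⟶ EtOver.mk q hqe :=
      EtOver.homMk ((yon S).preimage (hq.fst E.obj.hom)) (by
        rw [Functor.map_preimage]; exact sqW.w)
    let Q₂ : EtOver.mk _ hW ⟶ E := EtOver.homMk (hq.snd E.obj.hom) rfl
    have h1 := aHom_map hS φ Q₁
    have h2 := aHom_map hS φ Q₂
    have h3 : (yon S).preimage (hq.fst E.obj.hom) ≫ aHom hS φ (EtOver.mk q hqe) =
        hq.snd E.obj.hom ≫ aHom hS φ E := h1.trans h2.symm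
    have h4 := congrArg (yon S).map h3
    rw [Functor.map_comp, Functor.map_comp, Functor.map_preimage] at h4
    exact h4
  have cond : ∀ {Z : Sp S} (g₁ g₂ : Z ⟶ (yon S).obj U), g₁ ≫ q = g₂ ≫ q →
      g₁ ≫ (yon S).map (aHom hS φ (EtOver.mk q hqe)) =
        g₂ ≫ (yon S).map (aHom hS φ (EtOver.mk q hqe)) := by
    intro Z g₁ g₂ h
    have sqR := hq.isPullback q
    have hk := key (EtOver.mk q hqe)
    have e1 : g₁ = sqR.lift g₁ g₂ h ≫ hq.fst q := (sqR.lift_fst _ _ _).symm
    have e2 : g₂ = sqR.lift g₁ g₂ h ≫ (yon S).map (hq.snd q) := (sqR.lift_snd _ _ _).symm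
    rw [e1, Category.assoc, hk, ← Category.assoc, ← e2]
  obtain ⟨f, hfac⟩ : ∃ f : X ⟶ (yon S).obj T,
      q ≫ f = (yon S).map (aHom hS φ (EtOver.mk q hqe)) :=
    ⟨EffectiveEpi.desc q _ cond, EffectiveEpi.fac q _ cond⟩
  refine ⟨f, ?_, ?_⟩
  · intro E
    have sqW := hq.isPullback E.obj.hom
    have hse : RepWith @Etale ((yon S).map (hq.snd E.obj.hom)) :=
      (RepWith (S := S) @Etale).of_isPullback sqW hqe
    have hss : RepWith @Surjective ((yon S).map (hq.snd E.obj.hom)) :=
      (RepWith (S := S) @Surjective).of_isPullback sqW hqs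
    haveI := epi_of_etale_surjective _ hse hss
    rw [← cancel_epi ((yon S).map (hq.snd E.obj.hom)), ← key E, ← hfac, ← Category.assoc,
      ← Category.assoc, sqW.w]
  · intro f' hf'
    rw [← cancel_epi q, hfac]
    exact hf' (EtOver.mk q hqe)

end Groth.Agent.LibAlgSpAffHom29
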