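import Groth.Prelude.Def_AlgSpSub
import Groth.Agent.Lib.Helper16.EffCartier
import Groth.Agent.Lib.Helper5.AlgSpLocPBC

/-!
# Effective Cartier divisors on algebraic spaces: chart plumbing (helper29)

* `isPullback_comap_chart`: a chart `(φ : h_V ⟶ F, I, fst)` of a closed subspace `i : D ⟶ F`
  pulls back along `w : W ⟶ V` to the chart `(h_w ≫ φ, I.comap w, _)`.
-/

set_option autoImplicit false
universe u
open CategoryTheory CategoryTheory.Limits AlgebraicGeometry
open AlgSp

namespace Groth.Agent.LibAlgSpCartier29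

variable {S : Scheme.{u}}

/-- The closed subscheme of `I.comap w` as a pullback in `Over S`. -/
theorem isPullback_over_comap {V W : Over S} (w : W ⟶ V) (I : V.left.IdealSheafData) :
    ∃ z : Over.mk ((I.comap w.left).subschemeι ≫ W.hom) ⟶ Over.mk (I.subschemeι ≫ V.hom),
      IsPullback z (Over.homMk (I.comap w.left).subschemeι rfl :
          Over.mk ((I.comap w.left).subschemeι ≫ W.hom) ⟶ W)
        (Over.homMk I.subschemeι rfl : Over.mk (I.subschemeι ≫ V.hom) ⟶ V) w := by
  have sq0 : IsPullback (I.comap w.left).subschemeι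
      ((I.comapIso w.left).hom ≫ pullback.snd w.left I.subschemeι) w.left I.subschemeι :=
    IsPullback.of_iso_pullback ⟨by rw [Category.assoc, ← pullback.condition,
      Scheme.IdealSheafData.comapIso_hom_fst_assoc]⟩ (I.comapIso w.left)
      (Scheme.IdealSheafData.comapIso_hom_fst I w.left) rfl
  refine ⟨Over.homMk ((I.comapIso w.left).hom ≫ pullback.snd w.left I.subschemeι) ?_, ?_⟩
  · have := Over.w w
    dsimp at this ⊢
    rw [← this, ← Category.assoc ((I.comap w.left).subschemeι), sq0.w]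
    simp only [Category.assoc]
  · refine IsPullback.of_map (Over.forget S) ?_ ?_
    · apply Over.OverMorphism.ext
      simp only [Over.comp_left, Over.homMk_left]
      exact sq0.w.symm
    · exact sq0.flip

/-- Pull a chart of a closed subspace back along a morphism of schemes. -/
theorem isPullback_comap_chart {F D : Sp S} {i : D ⟶ F} {V W : Over S}
    {φ : (yon S).obj V ⟶ F} {I : V.left.IdealSheafData}
    {fstD : (yon S).obj (Over.mk (I.subschemeι ≫ V.hom)) ⟶ D}
    (sqD : IsPullback fstD ((yon S).map (Over.homMk I.subschemeι rfl :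
      Over.mk (I.subschemeι ≫ V.hom) ⟶ V)) i φ) (w : W ⟶ V) :
    ∃ fst' : (yon S).obj (Over.mk ((I.comap w.left).subschemeι ≫ W.hom)) ⟶ D,
      IsPullback fst' ((yon S).map (Over.homMk (I.comap w.left).subschemeι rfl :
        Over.mk ((I.comap w.left).subschemeι ≫ W.hom) ⟶ W)) i ((yon S).map w ≫ φ) := by
  obtain ⟨z, hz⟩ := isPullback_over_comap w I
  exact ⟨(yon S).map z ≫ fstD, (hz.map (yon S)).paste_horiz sqD⟩

/-- The inverse image of an effective Cartier divisor under a flat morphism of algebraic spaces. -/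
theorem isEffCartierSub_pullback_of_flat {X Y D P : Sp S} (hX : IsAlgSpace X) {f : X ⟶ Y}
    (hf : LocP @Flat f) {i : D ⟶ Y} (hD : IsEffCartierSub i) {fst : P ⟶ D} {snd : P ⟶ X}
    (hP : IsPullback fst snd i f) : IsEffCartierSub snd := by
  obtain ⟨hcl, V, φ, I, fstD, hφe, hφs, sqD, hI⟩ := hD
  refine ⟨(RepWith (S := S) @IsClosedImmersion).of_isPullback hP hcl, ?_⟩
  obtain ⟨U, a, hae, has⟩ := hX.atlas
  obtain ⟨W, w, w'', sqW⟩ := hφe.1 (a ≫ f)
  obtain ⟨w', rfl⟩ := (yon S).map_surjective w''
  have hwe : Etale w.left := hφe.2 _ _ _ sqW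
  have hws : Surjective w.left := hφs.2 _ _ _ sqW
  have hbe : RepWith @Etale ((yon S).map w ≫ a) :=
    (RepWith (S := S) @Etale).comp_mem _ _ ((repWith_yon_map_iff _ _).2 hwe) hae
  have hbs : RepWith @Surjective ((yon S).map w ≫ a) :=
    (RepWith (S := S) @Surjective).comp_mem _ _ ((repWith_yon_map_iff _ _).2 hws) has
  have hcomm : ((yon S).map w ≫ a) ≫ f = (yon S).map w' ≫ φ := by
    rw [Category.assoc]; exact sqW.w.symm
  haveI hflat : Flat w'.left := hf _ φ w' hbe hφe hcomm
  obtain ⟨fst', sq'⟩ := isPullback_comap_chart sqD w'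
  rw [← hcomm] at sq'
  have hl : fst' ≫ i = ((yon S).map (Over.homMk (I.comap w'.left).subschemeι rfl :
      Over.mk ((I.comap w'.left).subschemeι ≫ W.hom) ⟶ W) ≫ ((yon S).map w ≫ a)) ≫ f := by
    rw [sq'.w]
    simp only [Category.assoc]
  refine ⟨W, (yon S).map w ≫ a, I.comap w'.left, hP.lift fst' _ hl, hbe, hbs, ?_,
    Groth.Agent.Lib.helper16.EffCartier.isEffCartier_comap_of_flat I hI w'.left⟩
  refine IsPullback.of_right ?_ (hP.lift_snd _ _ _) hP
  rw [hP.lift_fst]
  exact sq'

end Groth.Agent.LibAlgSpCartier29
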