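import Groth.Statements.S1662
import Mathlib
import Groth.Agent.Lib.Helper16.RelCartier
import Groth.Agent.Lib.Helper6.IdealSheaf

set_option autoImplicit false
universe u
open CategoryTheory CategoryTheory.Limits AlgebraicGeometry
open Divisors

namespace Groth.Agent.S1662

section helpers
open CategoryTheory CategoryTheory.Limits AlgebraicGeometry

open Groth.Agent.Lib.helper16.RelCartier

/-- ring level -/
theorem ring_main {A B A' B' : CommRingCat.{u}} (φ : A ⟶ B) (γ : A ⟶ A') (p₁ : B ⟶ B') (p₂ : A' ⟶ B')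
    (h : IsPushout φ γ p₁ p₂) (t : B) (ht : t ∈ nonZeroDivisors B)
    (hq : ((Ideal.Quotient.mk (Ideal.span {t})).comp φ.hom).Flat) :
    p₁.hom t ∈ nonZeroDivisors B' := by
  algebraize [φ.hom, γ.hom, p₁.hom, p₂.hom, p₁.hom.comp φ.hom]
  have : IsScalarTower A A' B' := .of_algebraMap_eq' <| congr($(h.1.1).hom)
  have hpo : Algebra.IsPushout A A' B B' := CommRingCat.isPushout_iff_isPushout.mp h.flip
  have e : φ.hom = algebraMap A B := rfl
  rw [e, flat_comp_mk_iff] at hq
  exact nzd_of_isPushout (A := A) (B := B) (A' := A') (B' := B') t ht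


theorem main {X S S' : Scheme.{u}} (f : X ⟶ S) (D : X.IdealSheafData) (hD : BlowUp.IsEffCartierIdeal D)
    [Flat (D.subschemeι ≫ f)] (g : S' ⟶ S) :
    BlowUp.IsEffCartierIdeal (D.comap (pullback.fst f g)) := by
  intro w
  have H : IsPullback (pullback.fst f g) (pullback.snd f g) f g := IsPullback.of_hasPullback f g
  set x := pullback.fst f g w with hx
  set s' := pullback.snd f g w with hs'
  have hfg : f x = g s' := by
    rw [hx, hs', ← Scheme.Hom.comp_apply, ← Scheme.Hom.comp_apply, pullback.condition]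
  obtain ⟨V, hV, hfx, _⟩ := TopologicalSpace.Opens.isBasis_iff_nbhd.mp S.isBasis_affineOpens
      (TopologicalSpace.Opens.mem_top <| f x)
  obtain ⟨V', hV', hs'V', hV'V⟩ := TopologicalSpace.Opens.isBasis_iff_nbhd.mp S'.isBasis_affineOpens
      (show s' ∈ g ⁻¹ᵁ V from by change g s' ∈ V; rw [← hfg]; exact hfx)
  obtain ⟨U, hxU, hUV, t, ht, hI⟩ := exists_gen_le D hD x (f ⁻¹ᵁ V) hfx
  set UY : (pullback f g).Opens := pullback.fst f g ⁻¹ᵁ U.1 ⊓ pullback.snd f g ⁻¹ᵁ V' with hUY
  have hUYaff : IsAffineOpen UY := by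
    have : IsAffine V := hV
    have : IsAffine V' := hV'
    have : IsAffine U.1 := U.2
    exact .of_isIso (Scheme.Hom.isPullback_resLE H hV'V hUV hUY).isoPullback.hom
  have hiso : IsIso (pushoutSection H hV'V hUV hUY) :=
    isIso_pushoutSection_of_isAffineOpen H hV'V hUV hUY hV hV' U.2
  have hpo := (isIso_pushoutSection_iff H hV'V hUV hUY).1 hiso
  have hle : UY ≤ pullback.fst f g ⁻¹ᵁ U.1 := inf_le_left
  refine ⟨⟨UY, hUYaff⟩, ⟨hxU, hs'V'⟩, ((pullback.fst f g).appLE U.1 UY hle).hom t, ?_, ?_⟩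
  · exact ring_main _ _ _ _ hpo t ht (hI ▸ flat_quot_of_flat_sub f D U ⟨V, hV⟩ hUV)
  · rw [Groth.Agent.Lib.helper6.ideal_comap (pullback.fst f g) D U ⟨UY, hUYaff⟩ hle, hI,
      Ideal.map_span, Set.image_singleton]


end helpers


/-- Let f : X → S, D an effective Cartier divisor on X such that D → S is flat, and g : S' → S any
morphism. Then the inverse image of D in X ×_S S' is an effective Cartier divisor. -/
theorem result {X S S' : Scheme.{u}} (f : X ⟶ S) (D : X.IdealSheafData) (hD : BlowUp.IsEffCartierIdeal D)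
    [Flat (D.subschemeι ≫ f)] (g : S' ⟶ S) :
    BlowUp.IsEffCartierIdeal (D.comap (pullback.fst f g)) := by
  exact main f D hD g

end Groth.Agent.S1662
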