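import Groth.Prelude.Def_AlgSpSub
import Groth.Agent.LibAlgSpCartier29
import Groth.Agent.S1662

/-!
# Effective Cartier divisors on algebraic spaces: base change (helper29)

* `exists_chart_of_atlas`: chart of a base change `F' = F ×_G G'` built from a prescribed étale
  surjective chart `q : h_U ⟶ F ×_G h_V` (variant of `LibAlgSpLocPFlatBC29.exists_chart_flat`).
-/

set_option autoImplicit false
universe u
open CategoryTheory CategoryTheory.Limits AlgebraicGeometry
open AlgSp

namespace Groth.Agent.LibAlgSpCartier29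

variable {S : Scheme.{u}}

/-- Chart of a base change `F' = F ×_G G'` from a given chart of `F ×_G h_V`. -/
theorem exists_chart_of_atlas {F G G' F' : Sp S} (hG : IsAlgSpace G) (hG' : IsAlgSpace G')
    {f : F ⟶ G} {g : G' ⟶ G} {fst : F' ⟶ F} {snd : F' ⟶ G'}
    (sq : IsPullback fst snd f g) {V : Over S} (p : (yon S).obj V ⟶ G) (hpe : RepWith @Etale p)
    (hps : RepWith @Surjective p) {U : Over S} (q : (yon S).obj U ⟶ pullback f p)
    (hqe : RepWith @Etale q) (hqs : RepWith @Surjective q) (h : U ⟶ V)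
    (hh : (yon S).map h = q ≫ pullback.snd f p) :
    ∃ (V2 : Over S) (s2 : V2 ⟶ V) (β : (yon S).obj V2 ⟶ G')
      (c : (yon S).obj (pullback h s2) ⟶ F'),
      RepWith @Etale β ∧ RepWith @Surjective β ∧ RepWith @Etale c ∧ RepWith @Surjective c ∧
      β ≫ g = (yon S).map s2 ≫ p ∧
      c ≫ snd = (yon S).map (pullback.snd h s2) ≫ β ∧
      c ≫ fst = (yon S).map (pullback.fst h s2) ≫ q ≫ pullback.fst f p := by
  have sqF : IsPullback (pullback.fst f p) (pullback.snd f p) f p := IsPullback.of_hasPullback _ _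
  -- `G'_V = G' ×_G V`
  have sqG : IsPullback (pullback.fst g p) (pullback.snd g p) g p := IsPullback.of_hasPullback _ _
  have hGV : IsAlgSpace (pullback g p) :=
    Groth.Agent.Lib.helper5.isAlgSpace_of_isPullback hG.diag hG' (IsAlgSpace.yon_obj V) sqG
  obtain ⟨V2, β0, hβ0e, hβ0s⟩ := hGV.atlas
  obtain ⟨s2, hs2⟩ := (yon S).map_surjective (β0 ≫ pullback.snd g p)
  have hge : RepWith @Etale (pullback.fst g p) :=
    (RepWith (S := S) @Etale).of_isPullback sqG.flip hpe
  have hgs : RepWith @Surjective (pullback.fst g p) :=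
    (RepWith (S := S) @Surjective).of_isPullback sqG.flip hps
  have hβe : RepWith @Etale (β0 ≫ pullback.fst g p) :=
    (RepWith (S := S) @Etale).comp_mem _ _ hβ0e hge
  have hβs : RepWith @Surjective (β0 ≫ pullback.fst g p) :=
    (RepWith (S := S) @Surjective).comp_mem _ _ hβ0s hgs
  have hβg : (β0 ≫ pullback.fst g p) ≫ g = (yon S).map s2 ≫ p := by
    rw [Category.assoc, sqG.w, hs2, Category.assoc]
  -- `E₁ = F' ×_{G'} V₂`
  have sqE1 : IsPullback (pullback.fst snd (β0 ≫ pullback.fst g p))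
      (pullback.snd snd (β0 ≫ pullback.fst g p)) snd (β0 ≫ pullback.fst g p) :=
    IsPullback.of_hasPullback _ _
  have he1e : RepWith @Etale (pullback.fst snd (β0 ≫ pullback.fst g p)) :=
    (RepWith (S := S) @Etale).of_isPullback sqE1.flip hβe
  have he1s : RepWith @Surjective (pullback.fst snd (β0 ≫ pullback.fst g p)) :=
    (RepWith (S := S) @Surjective).of_isPullback sqE1.flip hβs
  have big1 := sqE1.paste_horiz sq
  rw [hβg] at big1
  have hl1 : (pullback.fst snd (β0 ≫ pullback.fst g p) ≫ fst) ≫ f =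
      (pullback.snd snd (β0 ≫ pullback.fst g p) ≫ (yon S).map s2) ≫ p := by
    rw [big1.w, Category.assoc]
  have sqE1' : IsPullback (sqF.lift _ _ hl1) (pullback.snd snd (β0 ≫ pullback.fst g p))
      (pullback.snd f p) ((yon S).map s2) := by
    refine IsPullback.of_right ?_ (sqF.lift_snd _ _ _) sqF
    rw [sqF.lift_fst]
    exact big1
  -- `U₃ = U ×_V V₂`
  have sqU0 := IsPullback.of_hasPullback h s2
  have sqU := sqU0.map (yon S)
  have hc1 : ((yon S).map (pullback.fst h s2) ≫ q) ≫ pullback.snd f p =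
      (yon S).map (pullback.snd h s2) ≫ (yon S).map s2 := by
    rw [Category.assoc, ← hh]
    exact sqU.w
  have sqC1 : IsPullback ((yon S).map (pullback.fst h s2)) (sqE1'.lift _ _ hc1) q
      (sqF.lift _ _ hl1) := by
    refine IsPullback.of_bot ?_ (sqE1'.lift_fst _ _ _).symm sqE1'
    rw [sqE1'.lift_snd, ← hh]
    exact sqU
  have hc1e : RepWith @Etale (sqE1'.lift _ _ hc1) :=
    (RepWith (S := S) @Etale).of_isPullback sqC1 hqe
  have hc1s : RepWith @Surjective (sqE1'.lift _ _ hc1) :=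
    (RepWith (S := S) @Surjective).of_isPullback sqC1 hqs
  refine ⟨V2, s2, β0 ≫ pullback.fst g p,
    sqE1'.lift _ _ hc1 ≫ pullback.fst snd (β0 ≫ pullback.fst g p), hβe, hβs,
    (RepWith (S := S) @Etale).comp_mem _ _ hc1e he1e,
    (RepWith (S := S) @Surjective).comp_mem _ _ hc1s he1s, hβg, ?_, ?_⟩
  · rw [Category.assoc, sqE1.w, ← Category.assoc, sqE1'.lift_snd]
  · calc (sqE1'.lift _ _ hc1 ≫ pullback.fst snd (β0 ≫ pullback.fst g p)) ≫ fst
        = sqE1'.lift _ _ hc1 ≫ (pullback.fst snd (β0 ≫ pullback.fst g p) ≫ fst) :=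
          Category.assoc _ _ _
      _ = sqE1'.lift _ _ hc1 ≫ (sqF.lift _ _ hl1 ≫ pullback.fst f p) := by
          rw [sqF.lift_fst]
      _ = (sqE1'.lift _ _ hc1 ≫ sqF.lift _ _ hl1) ≫ pullback.fst f p :=
          (Category.assoc _ _ _).symm
      _ = ((yon S).map (pullback.fst h s2) ≫ q) ≫ pullback.fst f p := by
          rw [sqE1'.lift_fst]
      _ = _ := Category.assoc _ _ _

/-- S1662 for an arbitrary pullback square. -/
theorem isEffCartier_comap_of_isPullback {X T T' W : Scheme.{u}} {f : X ⟶ T} {g : T' ⟶ T}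
    {pr1 : W ⟶ X} {pr2 : W ⟶ T'} (sq : IsPullback pr1 pr2 f g) (D : X.IdealSheafData)
    (hD : BlowUp.IsEffCartierIdeal D) [Flat (D.subschemeι ≫ f)] :
    BlowUp.IsEffCartierIdeal (D.comap pr1) := by
  have : pr1 = sq.isoPullback.hom ≫ pullback.fst f g := (sq.isoPullback_hom_fst).symm
  rw [this, Scheme.IdealSheafData.comap_comp]
  exact Groth.Agent.Lib.helper16.EffCartier.isEffCartier_comap_of_flat _
    (Groth.Agent.S1662.result f D hD g) sq.isoPullback.hom

/-- Base change of an effective Cartier divisor which is flat over the base. -/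
theorem isEffCartierSub_baseChange_of_flat {X Y D Y' X' D' : Sp S} (hY : IsAlgSpace Y)
    (hY' : IsAlgSpace Y') {f : X ⟶ Y} {i : D ⟶ X} (hD : IsEffCartierSub i)
    (hflat : LocP @Flat (i ≫ f)) {g : Y' ⟶ Y} {g' : X' ⟶ X} {f' : X' ⟶ Y'}
    (hX' : IsPullback g' f' f g) {k : D' ⟶ D} {i' : D' ⟶ X'} (hD' : IsPullback k i' i g') :
    IsEffCartierSub i' := by
  obtain ⟨hcl, V, φ, I, fstD, hφe, hφs, sqD, hI⟩ := hD
  refine ⟨(RepWith (S := S) @IsClosedImmersion).of_isPullback hD' hcl, ?_⟩
  obtain ⟨T, p, hpe, hps⟩ := hY.atlas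
  have sqF : IsPullback (pullback.fst f p) (pullback.snd f p) f p := IsPullback.of_hasPullback _ _
  obtain ⟨V₁, v, t'', sq₁⟩ := hpe.1 (φ ≫ f)
  obtain ⟨t, rfl⟩ := (yon S).map_surjective t''
  haveI hve : Etale v.left := hpe.2 _ _ _ sq₁
  have hvs : Surjective v.left := hps.2 _ _ _ sq₁
  have hq0 : ((yon S).map v ≫ φ) ≫ f = (yon S).map t ≫ p := by
    rw [Category.assoc]; exact sq₁.w.symm
  have sqQ : IsPullback (sqF.lift ((yon S).map v ≫ φ) ((yon S).map t) hq0) ((yon S).map v)
      (pullback.fst f p) φ := by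
    refine IsPullback.of_right ?_ (sqF.lift_fst _ _ _) sqF.flip
    rw [sqF.lift_snd]
    exact sq₁
  have hqe : RepWith @Etale (sqF.lift ((yon S).map v ≫ φ) ((yon S).map t) hq0) :=
    (RepWith (S := S) @Etale).of_isPullback sqQ.flip hφe
  have hqs : RepWith @Surjective (sqF.lift ((yon S).map v ≫ φ) ((yon S).map t) hq0) :=
    (RepWith (S := S) @Surjective).of_isPullback sqQ.flip hφs
  obtain ⟨T', s2, β, c, hβe, hβs, hce, hcs, hβg, hcsnd, hcfst⟩ :=
    exists_chart_of_atlas hY hY' hX' p hpe hps _ hqe hqs t (sqF.lift_snd _ _ _).symm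
  have hcg' : c ≫ g' = (yon S).map (pullback.fst t s2 ≫ v) ≫ φ := by
    rw [hcfst, sqF.lift_fst, Functor.map_comp, Category.assoc]
  -- the ideal on `V₁`
  have hI₁ : BlowUp.IsEffCartierIdeal (I.comap v.left) :=
    Groth.Agent.Lib.helper16.EffCartier.isEffCartier_comap_of_flat I hI v.left
  obtain ⟨fst₁, sqD₁⟩ := isPullback_comap_chart sqD v
  have hfst₁e : RepWith @Etale fst₁ :=
    (RepWith (S := S) @Etale).of_isPullback sqD₁.flip
      ((RepWith (S := S) @Etale).comp_mem _ _ ((repWith_yon_map_iff _ _).2 hve) hφe)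
  haveI hflat₁ : Flat ((I.comap v.left).subschemeι ≫ t.left) := by
    have := hflat fst₁ p ((Over.homMk (I.comap v.left).subschemeι rfl :
      Over.mk ((I.comap v.left).subschemeι ≫ V₁.hom) ⟶ V₁) ≫ t) hfst₁e hpe (by
        rw [← Category.assoc, sqD₁.w, Functor.map_comp]
        simp only [Category.assoc]
        rw [← hq0]
        simp only [Category.assoc])
    simpa using this
  have sqW : IsPullback (pullback.fst t s2).left (pullback.snd t s2).left t.left s2.left :=
    (IsPullback.of_hasPullback t s2).map (Over.forget S)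
  have hI' : BlowUp.IsEffCartierIdeal ((I.comap v.left).comap (pullback.fst t s2).left) :=
    isEffCartier_comap_of_isPullback sqW (I.comap v.left) hI₁
  obtain ⟨fst'', sq''⟩ := isPullback_comap_chart sqD (pullback.fst t s2 ≫ v)
  rw [← hcg'] at sq''
  have hl : fst'' ≫ i = ((yon S).map (Over.homMk
      (I.comap (pullback.fst t s2 ≫ v).left).subschemeι rfl :
      Over.mk ((I.comap (pullback.fst t s2 ≫ v).left).subschemeι ≫ (pullback t s2).hom) ⟶
        pullback t s2) ≫ c) ≫ g' := by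
    rw [sq''.w]
    simp only [Category.assoc]
  refine ⟨pullback t s2, c, I.comap (pullback.fst t s2 ≫ v).left, hD'.lift fst'' _ hl, hce, hcs,
    ?_, ?_⟩
  · refine IsPullback.of_right ?_ (hD'.lift_snd _ _ _) hD'
    rw [hD'.lift_fst]
    exact sq''
  · rw [Over.comp_left, Scheme.IdealSheafData.comap_comp]
    exact hI'

end Groth.Agent.LibAlgSpCartier29
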