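import Mathlib

/-!
# Slicing a smooth algebra by several elements whose differentials are a basis (helper29)

* `formallySmooth_quotient_span_range`: `A → B` formally smooth, `h : ι → B` and functionals
  `l i : Ω[B⁄A] → B` with `l i (d (h j)) = δ i j`; then `B ⧸ (h)` is formally smooth over `A`.
* `exists_basis_away_of_basis_residueField`: `A → B` smooth, `q` a prime of `B`; if the `1 ⊗ d (h j)`
  form a basis of `κ(q) ⊗ Ω[B_q⁄A]`, then on some `D(g) ∋ q` the `d (h j)` form a basis of
  `Ω[B_g⁄A]`.
* `etale_quotient_of_basis`: `A → B₁` smooth with `Ω[B₁⁄A]` free on `d (h j)`; then `B₁ ⧸ (h)` is étale.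
* `exists_etale_slice`: `A → B` smooth, `q` prime with `κ(q)` formally unramified over `A`; then there
  are `g ∉ q` and finitely many `h j ∈ q` with `B_g ⧸ (h)` étale over `A`.
* `exists_prime_comap_eq`: the prime of `B_g ⧸ (h)` lying over `q`.
-/

set_option autoImplicit false
universe u
open TensorProduct KaehlerDifferential

namespace Groth.Agent.LibEtaleSliceRing29

section Quot

variable {A B : Type u} [CommRing A] [CommRing B] [Algebra A B]

theorem formallySmooth_quotient_span_range [Algebra.FormallySmooth A B] {ι : Type*} [Fintype ι]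
    [DecidableEq ι] (h : ι → B) (l : ι → Ω[B⁄A] →ₗ[B] B)
    (hl : ∀ i j, l i (D A B (h j)) = if i = j then 1 else 0) :
    Algebra.FormallySmooth A (B ⧸ Ideal.span (Set.range h)) := by
  refine Algebra.FormallySmooth.of_comp_surjective ?_
  intro C _ _ I hI ψ
  obtain ⟨φ, hφ⟩ := Algebra.FormallySmooth.comp_surjective A B I hI
    (ψ.comp (Ideal.Quotient.mkₐ A (Ideal.span (Set.range h))))
  have hφb : ∀ b : B, Ideal.Quotient.mk I (φ b) = ψ (Ideal.Quotient.mk _ b) := fun b =>
    congrArg (fun F : B →ₐ[A] C ⧸ I => F b) hφ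
  have hφh : ∀ i, φ (h i) ∈ I := by
    intro i
    rw [← Ideal.Quotient.eq_zero_iff_mem, hφb]
    have : (Ideal.Quotient.mk (Ideal.span (Set.range h))) (h i) = 0 :=
      Ideal.Quotient.eq_zero_iff_mem.mpr (Ideal.subset_span ⟨i, rfl⟩)
    rw [this, map_zero]
  have hsq : ∀ i j, φ (h i) * φ (h j) = 0 := by
    intro i j
    have : φ (h i) * φ (h j) ∈ I ^ 2 := by
      rw [pow_two]
      exact Ideal.mul_mem_mul (hφh i) (hφh j)
    rw [hI] at this
    simpa using this
  let σ : B → C := fun b => ∑ i, φ (l i (D A B b)) * φ (h i)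
  have hσσ : ∀ a b : B, σ a * σ b = 0 := by
    intro a b
    change (∑ i, φ (l i (D A B a)) * φ (h i)) * (∑ j, φ (l j (D A B b)) * φ (h j)) = 0
    rw [Finset.sum_mul_sum]
    refine Finset.sum_eq_zero fun i _ => Finset.sum_eq_zero fun j _ => ?_
    calc φ (l i (D A B a)) * φ (h i) * (φ (l j (D A B b)) * φ (h j))
        = φ (l i (D A B a)) * φ (l j (D A B b)) * (φ (h i) * φ (h j)) := by ring
      _ = 0 := by rw [hsq, mul_zero]
  have hσmul : ∀ a b : B, σ (a * b) = φ a * σ b + φ b * σ a := by
    intro a b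
    change ∑ i, φ (l i (D A B (a * b))) * φ (h i) =
      φ a * ∑ i, φ (l i (D A B b)) * φ (h i) + φ b * ∑ i, φ (l i (D A B a)) * φ (h i)
    rw [Finset.mul_sum, Finset.mul_sum, ← Finset.sum_add_distrib]
    refine Finset.sum_congr rfl fun i _ => ?_
    simp only [Derivation.leibniz, map_add, map_smul, smul_eq_mul, map_mul]
    ring
  have hσadd : ∀ a b : B, σ (a + b) = σ a + σ b := by
    intro a b
    change ∑ i, φ (l i (D A B (a + b))) * φ (h i) =
      ∑ i, φ (l i (D A B a)) * φ (h i) + ∑ i, φ (l i (D A B b)) * φ (h i)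
    rw [← Finset.sum_add_distrib]
    refine Finset.sum_congr rfl fun i _ => ?_
    simp only [map_add]
    ring
  have hσalg : ∀ a : A, σ (algebraMap A B a) = 0 := by
    intro a
    change ∑ i, φ (l i (D A B (algebraMap A B a))) * φ (h i) = 0
    simp
  have hσmem : ∀ b : B, σ b ∈ I := fun b =>
    Ideal.sum_mem _ fun i _ => Ideal.mul_mem_left _ _ (hφh i)
  let φ' : B →ₐ[A] C :=
    { toFun := fun b => φ b - σ b
      map_one' := by
        have : σ 1 = 0 := by simpa using hσalg 1
        simp [this]
      map_zero' := by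
        have : σ 0 = 0 := by simpa using hσalg 0
        simp [this]
      map_add' := by
        intro a b
        rw [hσadd, map_add]
        ring
      map_mul' := by
        intro a b
        rw [hσmul, map_mul]
        linear_combination (-1 : C) * hσσ a b
      commutes' := by
        intro a
        simp [hσalg] }
  have hφ'h : ∀ j, φ' (h j) = 0 := by
    intro j
    change φ (h j) - ∑ i, φ (l i (D A B (h j))) * φ (h i) = 0
    simp only [hl]
    rw [Finset.sum_eq_single j]
    · simp
    · intro i _ hij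
      simp [hij]
    · intro hj
      exact absurd (Finset.mem_univ j) hj
  refine ⟨Ideal.Quotient.liftₐ (Ideal.span (Set.range h)) φ' ?_, ?_⟩
  · intro a ha
    have hle : Ideal.span (Set.range h) ≤ RingHom.ker (φ' : B →+* C) := by
      rw [Ideal.span_le]
      rintro _ ⟨j, rfl⟩
      exact hφ'h j
    exact hle ha
  · apply AlgHom.ext
    intro y
    obtain ⟨b, rfl⟩ := Ideal.Quotient.mk_surjective y
    change Ideal.Quotient.mk I (φ b - σ b) = _
    rw [map_sub, Ideal.Quotient.eq_zero_iff_mem.mpr (hσmem b), sub_zero, hφb]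

end Quot

section Spread

variable {A B : Type u} [CommRing A] [CommRing B] [Algebra A B]

set_option backward.isDefEq.respectTransparency.types false in
theorem exists_basis_away_of_basis_residueField [Algebra.Smooth A B] (q : Ideal B) [q.IsPrime]
    {ι : Type*} (h : ι → B)
    (hli : LinearIndependent (IsLocalRing.ResidueField (Localization.AtPrime q))
      (TensorProduct.mk (Localization.AtPrime q) (IsLocalRing.ResidueField (Localization.AtPrime q))
        (Ω[Localization.AtPrime q⁄A]) 1 ∘
        fun j => D A (Localization.AtPrime q) (algebraMap B (Localization.AtPrime q) (h j))))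
    (hsp : Submodule.span (IsLocalRing.ResidueField (Localization.AtPrime q))
      (Set.range (TensorProduct.mk (Localization.AtPrime q)
        (IsLocalRing.ResidueField (Localization.AtPrime q))
        (Ω[Localization.AtPrime q⁄A]) 1 ∘
        fun j => D A (Localization.AtPrime q) (algebraMap B (Localization.AtPrime q) (h j)))) = ⊤) :
    ∃ g : B, g ∉ q ∧ ∃ b : Module.Basis ι (Localization.Away g) (Ω[Localization.Away g⁄A]),
      ∀ j, b j = D A (Localization.Away g) (algebraMap B (Localization.Away g) (h j)) := by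
  obtain ⟨b, hb⟩ := Module.exists_basis_of_basis_baseChange _ hli hsp
    (Module.Flat.rTensor_preserves_injective_linearMap _ Subtype.val_injective)
  let e : (ι →₀ B) →ₗ[B] Ω[B⁄A] :=
    Finsupp.linearCombination B fun i : ι ↦ D A B (h i)
  let l₁ : (ι →₀ B) →ₗ[B] (ι →₀ Localization.AtPrime q) :=
    Finsupp.mapRange.linearMap (Algebra.linearMap B (Localization.AtPrime q))
  let l₂ : Ω[B⁄A] →ₗ[B] Ω[Localization.AtPrime q⁄A] := map A A B (Localization.AtPrime q)
  let eₚ : (ι →₀ Localization.AtPrime q) →ₗ[Localization.AtPrime q] Ω[Localization.AtPrime q⁄A] :=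
    IsLocalizedModule.mapExtendScalars q.primeCompl l₁ l₂ (Localization.AtPrime q) e
  have : eₚ = b.repr.symm := by
    ext i
    trans IsLocalizedModule.map q.primeCompl l₁ l₂ e <| l₁ <| Finsupp.single i 1
    · simp [eₚ, -IsLocalizedModule.map_apply, l₁]
    · simp [l₂, e, hb]
  have heₚ : Function.Bijective eₚ := this ▸ b.repr.symm.bijective
  have : Finite ι := Module.Finite.finite_basis b
  obtain ⟨g, hg, hbij⟩ := Module.FinitePresentation.exists_notMem_bijective e q l₁ l₂ heₚ
  let l₁ₜ : (ι →₀ B) →ₗ[B] (ι →₀ Localization.Away g) :=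
    Finsupp.mapRange.linearMap (Algebra.linearMap B _)
  let l₂ₜ : Ω[B⁄A] →ₗ[B] Ω[Localization.Away g⁄A] :=
    map A A B (Localization.Away g)
  rw [← IsLocalizedModule.map_bijective_iff_localizedModuleMap_bijective l₁ₜ l₂ₜ] at hbij
  let eₜ' : (ι →₀ Localization.Away g) →ₗ[Localization.Away g] Ω[Localization.Away g⁄A] :=
    IsLocalizedModule.mapExtendScalars (Submonoid.powers g) l₁ₜ l₂ₜ (Localization.Away g) e
  refine ⟨g, hg, .ofRepr (LinearEquiv.ofBijective eₜ' hbij).symm, ?_⟩
  intro j
  simp +zetaDelta [IsLocalizedModule.map_linearCombination]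

end Spread

section M3

variable {A B₁ : Type u} [CommRing A] [CommRing B₁] [Algebra A B₁]

theorem etale_quotient_of_basis [Algebra.Smooth A B₁] {ι : Type*} [Finite ι] (h : ι → B₁)
    (b : Module.Basis ι B₁ (Ω[B₁⁄A])) (hb : ∀ j, b j = D A B₁ (h j)) :
    Algebra.Etale A (B₁ ⧸ Ideal.span (Set.range h)) := by
  classical
  haveI := Fintype.ofFinite ι
  haveI : Algebra.FormallySmooth A (B₁ ⧸ Ideal.span (Set.range h)) := by
    refine formallySmooth_quotient_span_range h (fun i => b.coord i) ?_
    intro i j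
    rw [← hb, Module.Basis.coord_apply, Module.Basis.repr_self, Finsupp.single_apply]
    by_cases hij : i = j
    · simp [hij]
    · rw [if_neg hij, if_neg (Ne.symm hij)]
  haveI : Algebra.FinitePresentation A (B₁ ⧸ Ideal.span (Set.range h)) := by
    refine Algebra.FinitePresentation.quotient ?_
    exact ⟨(Set.finite_range h).toFinset, by simp⟩
  haveI : Algebra.FormallyUnramified A (B₁ ⧸ Ideal.span (Set.range h)) := by
    refine ⟨?_⟩
    have hsurj : Function.Surjective (KaehlerDifferential.map A A B₁ (B₁ ⧸ Ideal.span (Set.range h))) :=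
      KaehlerDifferential.map_surjective_of_surjective A A B₁ _ Ideal.Quotient.mk_surjective
    refine subsingleton_of_forall_eq 0 fun y => ?_
    obtain ⟨x, rfl⟩ := hsurj y
    have hx : x ∈ Submodule.span B₁ (Set.range b) := by
      rw [b.span_eq]; trivial
    induction hx using Submodule.span_induction with
    | mem x hx =>
      obtain ⟨j, rfl⟩ := hx
      rw [hb, KaehlerDifferential.map_D]
      have : algebraMap B₁ (B₁ ⧸ Ideal.span (Set.range h)) (h j) = 0 :=
        Ideal.Quotient.eq_zero_iff_mem.mpr (Ideal.subset_span ⟨j, rfl⟩)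
      rw [this, map_zero]
    | zero => simp
    | add x y _ _ hx hy => rw [map_add, hx, hy, add_zero]
    | smul c x _ hx => rw [map_smul, hx, smul_zero]
  haveI : Algebra.FormallyEtale A (B₁ ⧸ Ideal.span (Set.range h)) :=
    Algebra.FormallyEtale.of_formallyUnramified_and_formallySmooth
  exact {}

end M3

section E

variable {A B : Type u} [CommRing A] [CommRing B] [Algebra A B] (q : Ideal B) [q.IsPrime]

local notation "Bq" => Localization.AtPrime q
local notation "K" => IsLocalRing.ResidueField (Localization.AtPrime q)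

theorem smul_tmul_eq_zero_of_mem {M : Type u} [AddCommGroup M] [Module Bq M] (c : Bq)
    (hc : c ∈ IsLocalRing.maximalIdeal Bq) (m : M) :
    (1 : K) ⊗ₜ[Bq] (c • m) = 0 := by
  rw [← smul_tmul, Algebra.smul_def, IsLocalRing.ResidueField.algebraMap_eq,
    (IsLocalRing.residue_eq_zero_iff _).mpr hc, zero_mul, zero_tmul]

theorem exists_tmul_D_eq [Algebra.FormallyUnramified A K] (t : K ⊗[Bq] Ω[Bq⁄A]) :
    ∃ (c : K) (h : B), h ∈ q ∧ t = c • ((1 : K) ⊗ₜ[Bq] D A Bq (algebraMap B Bq h)) := by
  have hsurj : Function.Surjective (algebraMap Bq K) := IsLocalRing.residue_surjective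
  have ht : mapBaseChange A Bq K t = 0 := Subsingleton.elim _ _
  obtain ⟨c, rfl⟩ := (exact_kerCotangentToTensor_mapBaseChange A Bq K hsurj t).mp ht
  obtain ⟨⟨x, hx⟩, rfl⟩ := Ideal.toCotangent_surjective _ c
  rw [kerCotangentToTensor_toCotangent]
  have hxm : x ∈ IsLocalRing.maximalIdeal Bq := by
    have : x ∈ RingHom.ker (IsLocalRing.residue Bq) := hx
    rwa [IsLocalRing.ker_residue] at this
  obtain ⟨h, s, rfl⟩ := IsLocalization.exists_mk'_eq q.primeCompl x
  have hspec : IsLocalization.mk' Bq h s * algebraMap B Bq s = algebraMap B Bq h :=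
    IsLocalization.mk'_spec _ _ _
  have hhq : h ∈ q := by
    rw [← IsLocalization.AtPrime.to_map_mem_maximal_iff Bq q, ← hspec]
    exact Ideal.mul_mem_right _ _ hxm
  have hs0 : IsLocalRing.residue Bq (algebraMap B Bq s) ≠ 0 := by
    rw [Ne, IsLocalRing.residue_eq_zero_iff, IsLocalization.AtPrime.to_map_mem_maximal_iff Bq q]
    exact s.2
  refine ⟨(IsLocalRing.residue Bq (algebraMap B Bq s))⁻¹, h, hhq, ?_⟩
  have hD : (1 : K) ⊗ₜ[Bq] D A Bq (algebraMap B Bq h) =
      IsLocalRing.residue Bq (algebraMap B Bq s) •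
        ((1 : K) ⊗ₜ[Bq] D A Bq (IsLocalization.mk' Bq h s)) := by
    rw [← hspec, Derivation.leibniz, tmul_add, smul_tmul_eq_zero_of_mem q _ hxm, zero_add,
      ← smul_tmul, smul_tmul', Algebra.smul_def, IsLocalRing.ResidueField.algebraMap_eq, mul_one]
    simp
  rw [hD, smul_smul, inv_mul_cancel₀ hs0, one_smul]

theorem span_range_tmul_D_eq_top [Algebra.FormallyUnramified A K] :
    Submodule.span K (Set.range (TensorProduct.mk Bq K (Ω[Bq⁄A]) 1 ∘
      fun h : q => D A Bq (algebraMap B Bq (h : B)))) = ⊤ := by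
  rw [eq_top_iff]
  intro t _
  obtain ⟨c, h, hh, rfl⟩ := exists_tmul_D_eq q t
  exact Submodule.smul_mem _ _ (Submodule.subset_span ⟨⟨h, hh⟩, rfl⟩)

theorem exists_etale_slice [Algebra.Smooth A B] [Algebra.FormallyUnramified A K] :
    ∃ (g : B) (ι : Type u) (_ : Fintype ι) (h : ι → B), g ∉ q ∧ (∀ j, h j ∈ q) ∧
      Algebra.Etale A (Localization.Away g ⧸
        Ideal.span (Set.range fun j => algebraMap B (Localization.Away g) (h j))) := by
  obtain ⟨κ, a, -, hsp, hli⟩ := exists_linearIndependent' K
    (TensorProduct.mk Bq K (Ω[Bq⁄A]) 1 ∘ fun h : q => D A Bq (algebraMap B Bq (h : B)))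
  rw [span_range_tmul_D_eq_top q] at hsp
  obtain ⟨g, hg, b, hb⟩ := exists_basis_away_of_basis_residueField q (fun j => ((a j : q) : B))
    hli hsp
  haveI : Finite κ := hli.finite_of_isNoetherian
  haveI : Algebra.Smooth A (Localization.Away g) :=
    Algebra.Smooth.comp A B (Localization.Away g)
  refine ⟨g, κ, Fintype.ofFinite κ, fun j => ((a j : q) : B), hg, fun j => (a j).2, ?_⟩
  exact etale_quotient_of_basis (fun j => algebraMap B (Localization.Away g) ((a j : q) : B)) b hb

theorem exists_prime_comap_eq (g : B) (hg : g ∉ q) {ι : Type*} (h : ι → B) (hh : ∀ j, h j ∈ q) :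
    ∃ Q : Ideal (Localization.Away g ⧸
        Ideal.span (Set.range fun j => algebraMap B (Localization.Away g) (h j))),
      Q.IsPrime ∧ Q.comap ((Ideal.Quotient.mk _).comp (algebraMap B (Localization.Away g))) = q := by
  have hgu : IsUnit (algebraMap B q.ResidueField g) := by
    rw [isUnit_iff_ne_zero, Ne, Ideal.algebraMap_residueField_eq_zero]
    exact hg
  let l₁ : Localization.Away g →+* q.ResidueField := IsLocalization.Away.lift g hgu
  have hl₁ : ∀ b : B, l₁ (algebraMap B _ b) = algebraMap B q.ResidueField b := fun b =>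
    IsLocalization.Away.lift_eq g hgu b
  let l₂ : (Localization.Away g ⧸
        Ideal.span (Set.range fun j => algebraMap B (Localization.Away g) (h j))) →+* q.ResidueField :=
    Ideal.Quotient.lift _ l₁ (by
      intro a ha
      have hle : Ideal.span (Set.range fun j => algebraMap B (Localization.Away g) (h j)) ≤
          RingHom.ker l₁ := by
        rw [Ideal.span_le]
        rintro _ ⟨j, rfl⟩
        change l₁ _ = 0
        rw [hl₁, Ideal.algebraMap_residueField_eq_zero]
        exact hh j
      exact hle ha)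
  refine ⟨RingHom.ker l₂, RingHom.ker_isPrime l₂, ?_⟩
  ext x
  rw [Ideal.mem_comap, RingHom.mem_ker, RingHom.comp_apply, Ideal.Quotient.lift_mk, hl₁,
    Ideal.algebraMap_residueField_eq_zero]

end E

end Groth.Agent.LibEtaleSliceRing29
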