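import Mathlib

/-!
# Separable residue field extension: elements of `𝔪 ∖ (𝔪_A B + 𝔪²)` have nonvanishing differential
(helper29)

* `mem_smul_top_of_tmul_eq_zero`: `1 ⊗ m = 0` in `κ ⊗ M` implies `m ∈ 𝔪 M`.
* `tmul_D_ne_zero_of_formallySmooth_residue`: `A' → B'` a local homomorphism of local rings with
  `κ(B')` formally smooth over `κ(A')`; for `h ∈ 𝔪_{B'}` outside `𝔪_{A'} B' + 𝔪_{B'}²`, the element
  `1 ⊗ d h` of `κ(B') ⊗ Ω[B'⁄A']` is nonzero.
-/

set_option autoImplicit false
universe u
open TensorProduct KaehlerDifferential IsLocalRing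

namespace Groth.Agent.LibSmoothSliceRing29c

theorem mem_smul_top_of_tmul_eq_zero {R : Type u} [CommRing R] [IsLocalRing R] {M : Type u}
    [AddCommGroup M] [Module R M] (m : M) (h : (1 : ResidueField R) ⊗ₜ[R] m = 0) :
    m ∈ maximalIdeal R • (⊤ : Submodule R M) := by
  have h1 : (TensorProduct.quotTensorEquivQuotSMul M (maximalIdeal R))
      ((1 : R ⧸ maximalIdeal R) ⊗ₜ[R] m) = 0 := by
    have : ((1 : R ⧸ maximalIdeal R) ⊗ₜ[R] m) = 0 := h
    rw [this, map_zero]
  rw [TensorProduct.quotTensorEquivQuotSMul_mk_one_tmul] at h1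
  exact (Submodule.Quotient.mk_eq_zero _).mp h1

section Sep

variable {A' B' : Type u} [CommRing A'] [CommRing B'] [IsLocalRing A'] [IsLocalRing B']
  [Algebra A' B'] [IsLocalHom (algebraMap A' B')]
  [Algebra (ResidueField A') (ResidueField B')]

theorem tmul_D_ne_zero_of_formallySmooth_residue
    (hcompat : algebraMap (ResidueField A') (ResidueField B') =
      ResidueField.map (algebraMap A' B'))
    [Algebra.FormallySmooth (ResidueField A') (ResidueField B')]
    (h : B') (hm : h ∈ maximalIdeal B')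
    (hJ : h ∉ (maximalIdeal A').map (algebraMap A' B') ⊔ (maximalIdeal B') ^ 2) :
    (1 : ResidueField B') ⊗ₜ[B'] D A' B' h ≠ 0 := by
  intro h0
  apply hJ
  set J : Ideal B' := (maximalIdeal A').map (algebraMap A' B') ⊔ (maximalIdeal B') ^ 2 with hJdef
  have hJm : J ≤ maximalIdeal B' := by
    refine sup_le ?_ (Ideal.pow_le_self two_ne_zero)
    rw [Ideal.map_le_iff_le_comap]
    intro a ha
    rw [Ideal.mem_comap, mem_maximalIdeal, mem_nonunits_iff]
    rw [mem_maximalIdeal, mem_nonunits_iff] at ha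
    exact fun hu => ha (isUnit_of_map_unit (algebraMap A' B') a hu)
  -- `C = B' ⧸ J` as an algebra over the residue field of `A'`
  let φk : ResidueField A' →+* B' ⧸ J :=
    Ideal.Quotient.lift (maximalIdeal A') ((Ideal.Quotient.mk J).comp (algebraMap A' B')) (by
      intro a ha
      rw [RingHom.comp_apply, Ideal.Quotient.eq_zero_iff_mem]
      exact le_sup_left (a := (maximalIdeal A').map (algebraMap A' B'))
        (Ideal.mem_map_of_mem _ ha))
  letI algkC : Algebra (ResidueField A') (B' ⧸ J) := φk.toAlgebra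
  let g₀ : B' ⧸ J →+* ResidueField B' :=
    Ideal.Quotient.lift J (residue B') (fun b hb => (residue_eq_zero_iff b).mpr (hJm hb))
  have hg₀mk : ∀ b : B', g₀ (Ideal.Quotient.mk J b) = residue B' b := fun b => rfl
  let g : B' ⧸ J →ₐ[ResidueField A'] ResidueField B' :=
    { g₀ with
      commutes' := by
        intro c
        obtain ⟨a, rfl⟩ := residue_surjective c
        change g₀ (φk (residue A' a)) = algebraMap (ResidueField A') (ResidueField B') (residue A' a)
        rw [hcompat]
        rfl }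
  have hgmk : ∀ b : B', g (Ideal.Quotient.mk J b) = residue B' b := fun b => rfl
  have hg : Function.Surjective g := by
    intro c
    obtain ⟨b, rfl⟩ := residue_surjective c
    exact ⟨Ideal.Quotient.mk J b, rfl⟩
  have hmul : ∀ c₁ c₂ : B' ⧸ J, g c₁ = 0 → g c₂ = 0 → c₁ * c₂ = 0 := by
    intro c₁ c₂ h1 h2
    obtain ⟨b₁, rfl⟩ := Ideal.Quotient.mk_surjective c₁
    obtain ⟨b₂, rfl⟩ := Ideal.Quotient.mk_surjective c₂
    rw [hgmk, residue_eq_zero_iff] at h1 h2
    rw [← map_mul, Ideal.Quotient.eq_zero_iff_mem]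
    refine le_sup_right (a := (maximalIdeal A').map (algebraMap A' B')) ?_
    rw [pow_two]
    exact Ideal.mul_mem_mul h1 h2
  have hnil : IsNilpotent (RingHom.ker (g : B' ⧸ J →+* ResidueField B')) := by
    refine ⟨2, ?_⟩
    rw [Ideal.zero_eq_bot, eq_bot_iff, pow_two, Ideal.mul_le]
    intro r hr s hs
    rw [Ideal.mem_bot]
    exact hmul r s hr hs
  let s : ResidueField B' →ₐ[ResidueField A'] B' ⧸ J :=
    Algebra.FormallySmooth.liftOfSurjective (AlgHom.id _ _) g hg hnil
  have hs : ∀ c, g (s c) = c := fun c =>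
    Algebra.FormallySmooth.liftOfSurjective_apply (AlgHom.id _ _) g hg hnil c
  -- the derivation
  let f₂ : B' →+* B' ⧸ J := (s : ResidueField B' →+* B' ⧸ J).comp (residue B')
  have hf₂alg : ∀ a : A', f₂ (algebraMap A' B' a) = Ideal.Quotient.mk J (algebraMap A' B' a) := by
    intro a
    change s (residue B' (algebraMap A' B' a)) = _
    have : residue B' (algebraMap A' B' a) =
        algebraMap (ResidueField A') (ResidueField B') (residue A' a) := by
      rw [hcompat]
      rfl
    rw [this, s.commutes]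
    rfl
  have hgf₂ : ∀ b : B', g (f₂ b) = residue B' b := fun b => hs _
  let δ₀ : B' →ₗ[A'] B' ⧸ J :=
    { toFun := fun b => Ideal.Quotient.mk J b - f₂ b
      map_add' := by
        intro a b
        simp only [map_add]
        ring
      map_smul' := by
        intro a b
        simp only [Algebra.smul_def, map_mul, hf₂alg, RingHom.id_apply]
        have : algebraMap A' (B' ⧸ J) a = Ideal.Quotient.mk J (algebraMap A' B' a) := rfl
        rw [this]
        ring }
  have hδg : ∀ b : B', g (δ₀ b) = 0 := by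
    intro b
    change g (Ideal.Quotient.mk J b - f₂ b) = 0
    rw [map_sub, hgmk, hgf₂, sub_self]
  let δ : Derivation A' B' (B' ⧸ J) := Derivation.mk' δ₀ (by
    intro a b
    have huv := hmul _ _ (hδg a) (hδg b)
    change Ideal.Quotient.mk J (a * b) - f₂ (a * b) =
      a • (Ideal.Quotient.mk J b - f₂ b) + b • (Ideal.Quotient.mk J a - f₂ a)
    change (Ideal.Quotient.mk J a - f₂ a) * (Ideal.Quotient.mk J b - f₂ b) = 0 at huv
    simp only [Algebra.smul_def, map_mul]
    have : ∀ c : B', algebraMap B' (B' ⧸ J) c = Ideal.Quotient.mk J c := fun c => rfl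
    rw [this, this]
    linear_combination (-1 : B' ⧸ J) * huv)
  let Λ : Ω[B'⁄A'] →ₗ[B'] B' ⧸ J := δ.liftKaehlerDifferential
  have hΛD : ∀ b : B', Λ (D A' B' b) = δ₀ b := fun b =>
    Derivation.liftKaehlerDifferential_comp_D δ b
  have hΛg : ∀ ω : Ω[B'⁄A'], g (Λ ω) = 0 := by
    intro ω
    have hω : ω ∈ Submodule.span B' (Set.range (D A' B')) := by
      rw [KaehlerDifferential.span_range_derivation]
      trivial
    induction hω using Submodule.span_induction with
    | mem x hx =>
      obtain ⟨b, rfl⟩ := hx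
      rw [hΛD, hδg]
    | zero => simp
    | add x y _ _ hx hy => rw [map_add, map_add, hx, hy, add_zero]
    | smul c x _ hx =>
      rw [map_smul, Algebra.smul_def, map_mul, hx, mul_zero]
  have hmem := mem_smul_top_of_tmul_eq_zero (D A' B' h) h0
  have hΛ0 : Λ (D A' B' h) = 0 := by
    refine Submodule.smul_induction_on hmem ?_ ?_
    · intro c hc ω _
      rw [map_smul, Algebra.smul_def]
      refine hmul _ _ ?_ (hΛg ω)
      change g (Ideal.Quotient.mk J c) = 0
      rw [hgmk, residue_eq_zero_iff]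
      exact hc
    · intro x y hx hy
      rw [map_add, hx, hy, add_zero]
  rw [hΛD] at hΛ0
  change Ideal.Quotient.mk J h - f₂ h = 0 at hΛ0
  have : f₂ h = 0 := by
    change s (residue B' h) = 0
    rw [(residue_eq_zero_iff h).mpr hm, map_zero]
  rw [this, sub_zero, Ideal.Quotient.eq_zero_iff_mem] at hΛ0
  exact hΛ0

end Sep

section Cotangent

variable {B' : Type u} [CommRing B'] [IsLocalRing B'] (I₀ : Ideal B')

/-- if the maximal ideal of the local ring `B' ⧸ I₀` is finitely generated and nonzero, there is an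
element of `𝔪_{B'}` outside `I₀ + 𝔪_{B'}²`. -/
theorem exists_mem_maximalIdeal_notMem_sup [IsLocalRing (B' ⧸ I₀)]
    (hfg : (maximalIdeal (B' ⧸ I₀)).FG) (hne : maximalIdeal (B' ⧸ I₀) ≠ ⊥) :
    ∃ h ∈ maximalIdeal B', h ∉ I₀ ⊔ (maximalIdeal B') ^ 2 := by
  have hlt : ¬ maximalIdeal (B' ⧸ I₀) ≤ maximalIdeal (B' ⧸ I₀) * maximalIdeal (B' ⧸ I₀) := by
    intro hle
    apply hne
    refine Submodule.eq_bot_of_le_smul_of_le_jacobson_bot (maximalIdeal (B' ⧸ I₀))
      (maximalIdeal (B' ⧸ I₀)) hfg ?_ ?_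
    · rw [smul_eq_mul]
      exact hle
    · rw [IsLocalRing.jacobson_eq_maximalIdeal ⊥ bot_ne_top]
  obtain ⟨y, hy, hy'⟩ := SetLike.not_le_iff_exists.mp hlt
  obtain ⟨h, rfl⟩ := Ideal.Quotient.mk_surjective y
  have hm : h ∈ maximalIdeal B' := by
    rw [mem_maximalIdeal, mem_nonunits_iff] at hy ⊢
    exact fun hu => hy (hu.map _)
  refine ⟨h, hm, fun hmem => hy' ?_⟩
  obtain ⟨a, ha, c, hc, rfl⟩ := Submodule.mem_sup.mp hmem
  rw [map_add, Ideal.Quotient.eq_zero_iff_mem.mpr ha, zero_add]
  have h1 : Ideal.Quotient.mk I₀ c ∈ ((maximalIdeal B') ^ 2).map (Ideal.Quotient.mk I₀) :=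
    Ideal.mem_map_of_mem _ hc
  rw [Ideal.map_pow, pow_two] at h1
  have hle : (maximalIdeal B').map (Ideal.Quotient.mk I₀) ≤ maximalIdeal (B' ⧸ I₀) := by
    rw [Ideal.map_le_iff_le_comap]
    intro b hb
    rw [Ideal.mem_comap, mem_maximalIdeal, mem_nonunits_iff]
    rw [mem_maximalIdeal, mem_nonunits_iff] at hb
    intro hu
    apply hb
    haveI : IsLocalHom (Ideal.Quotient.mk I₀) :=
      IsLocalHom.of_surjective _ Ideal.Quotient.mk_surjective
    exact isUnit_of_map_unit (Ideal.Quotient.mk I₀) b hu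
  exact Ideal.mul_mono hle hle h1

end Cotangent

end Groth.Agent.LibSmoothSliceRing29c
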