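import Mathlib
import Groth.Agent.LibSmoothSliceRing29c
import Groth.Agent.LibEtaleSliceRing29

/-!
# Étale coordinates from a basis of differentials (helper29)

* `formallyEtale_of_bijective_mapBaseChange`: `R → S → T` with `T` formally smooth over `R` and
  `T ⊗[S] Ω[S⁄R] → Ω[T⁄R]` bijective; then `T` is formally étale over `S` (Jacobi–Zariski).
* `bijective_mapBaseChange_mvPolynomial`: if `Ω[T⁄R]` has a basis `d (s k)`, then for the
  `R[X_k]`-algebra structure on `T` with `X_k ↦ s k` the map `T ⊗ Ω[R[X]⁄R] → Ω[T⁄R]` is bijective.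
* `mem_maximalIdeal_mul_of_tmul_D_eq_zero`: `B'` local formally smooth over `A`, `B' ⧸ J'` formally
  smooth; `x ∈ J'` with `1 ⊗ dx = 0` in `κ ⊗ Ω[B'⁄A]` lies in `𝔪 J'` (split conormal sequence).
* `linearIndependent_tmul_of_hgen`, `mem_of_sum_mul_mem`: minimal generators of `J_q`.
* `formallySmooth_quotient_localization`: `(B ⧸ J)_Q` formally smooth ⇒ `B_q ⧸ J B_q` formally smooth.
* `linearIndependent_tmul_D`: minimal generators `g i` of `J_q` with `B`, `B ⧸ J` smooth at `q`
  have `1 ⊗ d (g i)` linearly independent in `κ(q) ⊗ Ω[B_q⁄A]`.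
* `exists_extension_basis`: extend such a family to a basis by differentials of elements of `B`.
* `exists_notMem_forall_mul_mem_span`, `map_eq_span_of_isUnit`: spreading out `J_q = (g)_q`.
* `exists_etale_coordinates`: EGA IV 17.12.2 a) ⇒ d), étale coordinates adapted to `V(J)`.
-/

set_option autoImplicit false
universe u
open TensorProduct KaehlerDifferential

namespace Groth.Agent.LibEtaleCoord29

section JZ

variable (R S T : Type u) [CommRing R] [CommRing S] [CommRing T]
variable [Algebra R S] [Algebra R T] [Algebra S T] [IsScalarTower R S T]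

theorem formallyEtale_of_bijective_mapBaseChange [Algebra.FormallySmooth R T]
    (h : Function.Bijective (mapBaseChange R S T)) : Algebra.FormallyEtale S T := by
  refine ⟨?_, ?_⟩
  · refine subsingleton_of_forall_eq 0 fun y => ?_
    obtain ⟨x, rfl⟩ := KaehlerDifferential.map_surjective R S T y
    obtain ⟨z, rfl⟩ := h.2 x
    exact (KaehlerDifferential.exact_mapBaseChange_map R S T _).mpr ⟨z, rfl⟩
  · refine subsingleton_of_forall_eq 0 fun x => ?_
    have h1 : mapBaseChange R S T (Algebra.H1Cotangent.δ R S T x) = 0 :=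
      (Algebra.H1Cotangent.exact_δ_mapBaseChange R S T _).mpr ⟨x, rfl⟩
    have h2 : Algebra.H1Cotangent.δ R S T x = 0 := h.1 (by rw [h1, map_zero])
    obtain ⟨y, rfl⟩ := (Algebra.H1Cotangent.exact_map_δ R S T x).mp h2
    rw [Subsingleton.elim y 0, map_zero]

end JZ

section MvPoly

variable {R T : Type u} [CommRing R] [CommRing T] [Algebra R T] {ι : Type*}

theorem bijective_mapBaseChange_mvPolynomial [Algebra (MvPolynomial ι R) T]
    [IsScalarTower R (MvPolynomial ι R) T] (s : ι → T)
    (hs : ∀ k, algebraMap (MvPolynomial ι R) T (MvPolynomial.X k) = s k)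
    (b : Module.Basis ι T (Ω[T⁄R])) (hb : ∀ k, b k = D R T (s k)) :
    Function.Bijective (mapBaseChange R (MvPolynomial ι R) T) := by
  let b₁ : Module.Basis ι T (T ⊗[MvPolynomial ι R] Ω[MvPolynomial ι R⁄R]) :=
    (KaehlerDifferential.mvPolynomialBasis R ι).baseChange T
  have heq : mapBaseChange R (MvPolynomial ι R) T = (b₁.equiv b (Equiv.refl ι)).toLinearMap := by
    refine b₁.ext fun k => ?_
    rw [LinearEquiv.coe_coe, Module.Basis.equiv_apply, Equiv.refl_apply, hb]
    change mapBaseChange R (MvPolynomial ι R) T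
      ((KaehlerDifferential.mvPolynomialBasis R ι).baseChange T k) = _
    rw [Module.Basis.baseChange_apply, KaehlerDifferential.mvPolynomialBasis_apply,
      mapBaseChange_tmul, one_smul, map_D, hs]
  rw [heq]
  exact (b₁.equiv b (Equiv.refl ι)).bijective

end MvPoly

section Retract

variable {A B' C' : Type u} [CommRing A] [CommRing B'] [Algebra A B'] [IsLocalRing B']
  [CommRing C'] [Algebra B' C'] [Algebra A C'] [IsScalarTower A B' C']

theorem mem_maximalIdeal_mul_ker_of_tmul_D_eq_zero [Algebra.FormallySmooth A B']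
    (hsurj : Function.Surjective (algebraMap B' C')) [Algebra.FormallySmooth A C']
    (hle : RingHom.ker (algebraMap B' C') ≤ IsLocalRing.maximalIdeal B')
    (x : B') (hxI : x ∈ RingHom.ker (algebraMap B' C'))
    (h0 : (1 : IsLocalRing.ResidueField B') ⊗ₜ[B'] D A B' x = 0) :
    x ∈ IsLocalRing.maximalIdeal B' * RingHom.ker (algebraMap B' C') := by
  obtain ⟨l, hl⟩ := (Algebra.FormallySmooth.iff_split_injection (R := A) (P := B')
    (A := C') hsurj).mp inferInstance
  let T : IsLocalRing.ResidueField B' ⊗[B'] Ω[B'⁄A] →ₗ[B']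
      IsLocalRing.ResidueField B' ⊗[B'] (RingHom.ker (algebraMap B' C')).Cotangent :=
    (l ∘ₗ (TensorProduct.mk B' C' (Ω[B'⁄A]) 1)).lTensor (IsLocalRing.ResidueField B')
  have hT : T ((1 : IsLocalRing.ResidueField B') ⊗ₜ[B'] D A B' x) =
      (1 : IsLocalRing.ResidueField B') ⊗ₜ[B']
        (RingHom.ker (algebraMap B' C')).toCotangent ⟨x, hxI⟩ := by
    change (1 : IsLocalRing.ResidueField B') ⊗ₜ[B'] (l ((1 : C') ⊗ₜ[B'] D A B' x)) = _
    rw [← kerCotangentToTensor_toCotangent A B' C' ⟨x, hxI⟩]
    have := congrArg (fun F => F ((RingHom.ker (algebraMap B' C')).toCotangent ⟨x, hxI⟩)) hl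
    simp only [LinearMap.comp_apply, LinearMap.id_apply] at this
    rw [this]
  rw [h0, map_zero] at hT
  have hmem := Groth.Agent.LibSmoothSliceRing29c.mem_smul_top_of_tmul_eq_zero _ hT.symm
  have htop : (⊤ : Submodule B' (RingHom.ker (algebraMap B' C')).Cotangent) =
      Submodule.map (RingHom.ker (algebraMap B' C')).toCotangent ⊤ := by
    rw [Submodule.map_top, LinearMap.range_eq_top.mpr (Ideal.toCotangent_surjective _)]
  rw [htop, ← Submodule.map_smul''] at hmem
  obtain ⟨y, hy, hyx⟩ := hmem
  have hyI : (y : B') ∈ IsLocalRing.maximalIdeal B' * RingHom.ker (algebraMap B' C') := by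
    have := (Submodule.mem_smul_top_iff (IsLocalRing.maximalIdeal B')
      (RingHom.ker (algebraMap B' C')) y).mp hy
    simpa using this
  have hsub : (RingHom.ker (algebraMap B' C')).toCotangent (⟨x, hxI⟩ - y) = 0 := by
    rw [map_sub, hyx, sub_self]
  have hsq : (x - (y : B')) ∈ (RingHom.ker (algebraMap B' C')) ^ 2 := by
    have := (Ideal.toCotangent_eq_zero _ (⟨x, hxI⟩ - y)).mp hsub
    simpa using this
  have hsq' : (RingHom.ker (algebraMap B' C')) ^ 2 ≤
      IsLocalRing.maximalIdeal B' * RingHom.ker (algebraMap B' C') := by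
    rw [pow_two]
    exact Ideal.mul_mono_left hle
  have : x = (x - (y : B')) + y := by ring
  rw [this]
  exact Ideal.add_mem _ (hsq' hsq) hyI

theorem mem_maximalIdeal_mul_of_tmul_D_eq_zero {A B' : Type u} [CommRing A] [CommRing B']
    [Algebra A B'] [IsLocalRing B'] [Algebra.FormallySmooth A B'] (J' : Ideal B')
    (hJ' : J' ≤ IsLocalRing.maximalIdeal B') [Algebra.FormallySmooth A (B' ⧸ J')]
    (x : B') (hx : x ∈ J')
    (h0 : (1 : IsLocalRing.ResidueField B') ⊗ₜ[B'] D A B' x = 0) :
    x ∈ IsLocalRing.maximalIdeal B' * J' := by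
  have hker : RingHom.ker (algebraMap B' (B' ⧸ J')) = J' := Ideal.mk_ker
  have hle : RingHom.ker (algebraMap B' (B' ⧸ J')) ≤ IsLocalRing.maximalIdeal B' := by
    rw [hker]; exact hJ'
  have hx' : x ∈ RingHom.ker (algebraMap B' (B' ⧸ J')) := by
    rw [hker]; exact hx
  have := mem_maximalIdeal_mul_ker_of_tmul_D_eq_zero (A := A) (B' := B') (C' := B' ⧸ J')
    Ideal.Quotient.mk_surjective hle x hx' h0
  rwa [hker] at this

end Retract

section MinGen

variable {B : Type u} [CommRing B] (J : Ideal B) (q : Ideal B) [q.IsPrime]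
  {r : ℕ} (g : Fin r → B) (hg : ∀ i, g i ∈ J)

omit [q.IsPrime] in
theorem algebraMap_smul_one_tmul {K : Type u} [CommRing K] [Algebra B K] {M : Type u}
    [AddCommGroup M] [Module B M] (b : B) (y : M) :
    algebraMap B K b • ((1 : K) ⊗ₜ[B] y) = (1 : K) ⊗ₜ[B] (b • y) := by
  rw [tmul_smul, smul_tmul', smul_tmul', smul_eq_mul, mul_one, Algebra.smul_def, mul_one]

theorem tmul_mem_span_of_hgen
    (hgen : J.map (algebraMap B (Localization.AtPrime q)) =
      Ideal.span (Set.range fun i => algebraMap B (Localization.AtPrime q) (g i)))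
    (y : J) :
    (1 : q.ResidueField) ⊗ₜ[B] y ∈ Submodule.span q.ResidueField
      (Set.range fun i => (1 : q.ResidueField) ⊗ₜ[B] (⟨g i, hg i⟩ : J)) := by
  have hy : algebraMap B (Localization.AtPrime q) y ∈
      Ideal.span (Set.range fun i => algebraMap B (Localization.AtPrime q) (g i)) := by
    rw [← hgen]
    exact Ideal.mem_map_of_mem _ y.2
  obtain ⟨c, hc⟩ := Ideal.mem_span_range_iff_exists_fun.mp hy
  obtain ⟨s, hs⟩ := IsLocalization.exist_integer_multiples_of_finite q.primeCompl c
  choose a ha using hs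
  -- `alg (s y) = alg (Σ a_i g_i)`
  have h1 : algebraMap B (Localization.AtPrime q) ((s : B) * y) =
      algebraMap B (Localization.AtPrime q) (∑ i, a i * g i) := by
    rw [map_mul, ← hc, Finset.mul_sum, map_sum]
    refine Finset.sum_congr rfl fun i _ => ?_
    rw [map_mul, ha i, Algebra.smul_def]
    ring
  obtain ⟨t, ht⟩ := (IsLocalization.eq_iff_exists q.primeCompl _).mp h1
  have h2 : ((t : B) * (s : B)) • y = ∑ i, ((t : B) * a i) • (⟨g i, hg i⟩ : J) := by
    apply Subtype.ext
    rw [Submodule.coe_smul, Submodule.coe_sum]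
    simp only [Submodule.coe_smul, smul_eq_mul]
    rw [mul_assoc, ht, Finset.mul_sum]
    refine Finset.sum_congr rfl fun i _ => ?_
    ring
  have hts : algebraMap B q.ResidueField ((t : B) * (s : B)) ≠ 0 := by
    rw [Ne, Ideal.algebraMap_residueField_eq_zero]
    exact fun h => (q.primeCompl.mul_mem t.2 s.2) h
  have h3 : (1 : q.ResidueField) ⊗ₜ[B] y =
      (algebraMap B q.ResidueField ((t : B) * (s : B)))⁻¹ •
        ∑ i, algebraMap B q.ResidueField ((t : B) * a i) •
          ((1 : q.ResidueField) ⊗ₜ[B] (⟨g i, hg i⟩ : J)) := by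
    rw [eq_inv_smul_iff₀ hts]
    rw [algebraMap_smul_one_tmul, h2, tmul_sum]
    refine Finset.sum_congr rfl fun i _ => ?_
    rw [algebraMap_smul_one_tmul]
  rw [h3]
  refine Submodule.smul_mem _ _ (Submodule.sum_mem _ fun i _ => Submodule.smul_mem _ _ ?_)
  exact Submodule.subset_span ⟨i, rfl⟩

theorem linearIndependent_tmul_of_hgen
    (hgen : J.map (algebraMap B (Localization.AtPrime q)) =
      Ideal.span (Set.range fun i => algebraMap B (Localization.AtPrime q) (g i)))
    (hmin : r = Module.finrank q.ResidueField (q.ResidueField ⊗[B] J)) :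
    LinearIndependent q.ResidueField
      (fun i => (1 : q.ResidueField) ⊗ₜ[B] (⟨g i, hg i⟩ : J)) := by
  refine linearIndependent_of_top_le_span_of_card_eq_finrank ?_ (by simpa using hmin)
  intro t _
  clear hmin
  induction t with
  | zero => exact Submodule.zero_mem _
  | tmul k y =>
    have : k ⊗ₜ[B] y = k • ((1 : q.ResidueField) ⊗ₜ[B] y) := by
      rw [smul_tmul', smul_eq_mul, mul_one]
    rw [this]
    exact Submodule.smul_mem _ _ (tmul_mem_span_of_hgen J q g hg hgen y)
  | add a b ha hb => exact Submodule.add_mem _ (ha trivial) (hb trivial)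

theorem tmul_eq_zero_of_mem_mul (z : J) (hz : (z : B) ∈ q * J) :
    (1 : q.ResidueField) ⊗ₜ[B] z = 0 := by
  have hz' : z ∈ q • (⊤ : Submodule B J) := by
    rw [Submodule.mem_smul_top_iff]
    simpa using hz
  refine Submodule.smul_induction_on hz' ?_ ?_
  · intro p hp y _
    rw [← smul_tmul, Algebra.smul_def, mul_one,
      (Ideal.algebraMap_residueField_eq_zero (I := q)).mpr hp, zero_tmul]
  · intro x y hx hy
    rw [tmul_add, hx, hy, add_zero]

include hg in
theorem mem_of_sum_mul_mem
    (hgen : J.map (algebraMap B (Localization.AtPrime q)) =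
      Ideal.span (Set.range fun i => algebraMap B (Localization.AtPrime q) (g i)))
    (hmin : r = Module.finrank q.ResidueField (q.ResidueField ⊗[B] J))
    (a : Fin r → B) (ha : ∑ i, a i * g i ∈ q * J) (i : Fin r) : a i ∈ q := by
  have hli := linearIndependent_tmul_of_hgen J q g hg hgen hmin
  have h0 : (1 : q.ResidueField) ⊗ₜ[B] (∑ i, a i • (⟨g i, hg i⟩ : J)) = 0 := by
    refine tmul_eq_zero_of_mem_mul J q _ ?_
    rw [Submodule.coe_sum]
    simpa [Submodule.coe_smul] using ha
  rw [tmul_sum] at h0
  have h1 : ∑ i, algebraMap B q.ResidueField (a i) •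
      ((1 : q.ResidueField) ⊗ₜ[B] (⟨g i, hg i⟩ : J)) = 0 := by
    rw [← h0]
    refine Finset.sum_congr rfl fun i _ => ?_
    rw [algebraMap_smul_one_tmul]
  have := (Fintype.linearIndependent_iff.mp hli) _ h1 i
  exact (Ideal.algebraMap_residueField_eq_zero (I := q)).mp this

end MinGen

section QuotLoc

variable {A B : Type u} [CommRing A] [CommRing B] [Algebra A B] (J : Ideal B) (q : Ideal B)
  [q.IsPrime] (Q : Ideal (B ⧸ J)) [Q.IsPrime] (hQ : Q.comap (Ideal.Quotient.mk J) = q)

include hQ in
theorem algebraMapSubmonoid_eq_primeCompl :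
    Algebra.algebraMapSubmonoid (B ⧸ J) q.primeCompl = Q.primeCompl := by
  ext x
  constructor
  · rintro ⟨b, hb, rfl⟩
    intro hx
    apply hb
    rw [← hQ]
    exact hx
  · intro hx
    obtain ⟨b, rfl⟩ := Ideal.Quotient.mk_surjective x
    refine ⟨b, ?_, rfl⟩
    intro hb
    apply hx
    rw [← hQ] at hb
    exact hb

include hQ in
theorem formallySmooth_quotient_localization [Algebra.IsSmoothAt A Q] :
    Algebra.FormallySmooth A
      (Localization.AtPrime q ⧸ J.map (algebraMap B (Localization.AtPrime q))) := by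
  haveI : IsLocalization.AtPrime
      (Localization.AtPrime q ⧸ J.map (algebraMap B (Localization.AtPrime q))) Q := by
    have : IsLocalization (Algebra.algebraMapSubmonoid (B ⧸ J) q.primeCompl)
        (Localization.AtPrime q ⧸ J.map (algebraMap B (Localization.AtPrime q))) :=
      inferInstance
    rwa [algebraMapSubmonoid_eq_primeCompl J q Q hQ] at this
  let e : Localization.AtPrime Q ≃ₐ[B ⧸ J]
      (Localization.AtPrime q ⧸ J.map (algebraMap B (Localization.AtPrime q))) :=
    IsLocalization.algEquiv Q.primeCompl _ _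
  haveI : IsScalarTower A (B ⧸ J)
      (Localization.AtPrime q ⧸ J.map (algebraMap B (Localization.AtPrime q))) :=
    IsScalarTower.of_algebraMap_eq (fun a => by
      rw [IsScalarTower.algebraMap_apply A (Localization.AtPrime q)
        (Localization.AtPrime q ⧸ J.map (algebraMap B (Localization.AtPrime q))),
        IsScalarTower.algebraMap_apply A B (Localization.AtPrime q),
        IsScalarTower.algebraMap_apply A B (B ⧸ J)]
      rfl)
  exact Algebra.FormallySmooth.of_equiv (e.restrictScalars A)

end QuotLoc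

section LinIndep

variable {A B : Type u} [CommRing A] [CommRing B] [Algebra A B] (J : Ideal B) (q : Ideal B)
  [q.IsPrime] (hJq : J ≤ q) (Q : Ideal (B ⧸ J)) [Q.IsPrime]
  (hQ : Q.comap (Ideal.Quotient.mk J) = q) {r : ℕ} (g : Fin r → B) (hg : ∀ i, g i ∈ J)

include hJq hQ hg in
theorem linearIndependent_tmul_D [Algebra.IsSmoothAt A q] [Algebra.IsSmoothAt A Q]
    (hgen : J.map (algebraMap B (Localization.AtPrime q)) =
      Ideal.span (Set.range fun i => algebraMap B (Localization.AtPrime q) (g i)))
    (hmin : r = Module.finrank q.ResidueField (q.ResidueField ⊗[B] J)) :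
    LinearIndependent (IsLocalRing.ResidueField (Localization.AtPrime q))
      (fun i => (1 : IsLocalRing.ResidueField (Localization.AtPrime q)) ⊗ₜ[Localization.AtPrime q]
        D A (Localization.AtPrime q) (algebraMap B (Localization.AtPrime q) (g i))) := by
  haveI := formallySmooth_quotient_localization (A := A) J q Q hQ
  rw [Fintype.linearIndependent_iff]
  intro c hc i
  choose b hb using fun i => IsLocalRing.residue_surjective (c i)
  have hJ'm : J.map (algebraMap B (Localization.AtPrime q)) ≤
      IsLocalRing.maximalIdeal (Localization.AtPrime q) := by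
    rw [← Localization.AtPrime.map_eq_maximalIdeal]
    exact Ideal.map_mono hJq
  have hgm : ∀ i, algebraMap B (Localization.AtPrime q) (g i) ∈
      IsLocalRing.maximalIdeal (Localization.AtPrime q) := fun i =>
    hJ'm (Ideal.mem_map_of_mem _ (hg i))
  have hxJ : ∑ i, b i * algebraMap B (Localization.AtPrime q) (g i) ∈
      J.map (algebraMap B (Localization.AtPrime q)) :=
    Ideal.sum_mem _ fun i _ => Ideal.mul_mem_left _ _ (Ideal.mem_map_of_mem _ (hg i))
  have hDx : (1 : IsLocalRing.ResidueField (Localization.AtPrime q)) ⊗ₜ[Localization.AtPrime q]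
      D A (Localization.AtPrime q) (∑ i, b i * algebraMap B (Localization.AtPrime q) (g i)) = 0 := by
    rw [map_sum, tmul_sum, ← hc]
    refine Finset.sum_congr rfl fun i _ => ?_
    rw [Derivation.leibniz, tmul_add,
      Groth.Agent.LibEtaleSliceRing29.smul_tmul_eq_zero_of_mem q _ (hgm i), add_zero, ← hb i,
      tmul_smul, smul_tmul', smul_tmul', smul_eq_mul, mul_one, Algebra.smul_def, mul_one]
    rfl
  have hx := mem_maximalIdeal_mul_of_tmul_D_eq_zero (A := A)
    (J.map (algebraMap B (Localization.AtPrime q))) hJ'm _ hxJ hDx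
  obtain ⟨s, hs⟩ := IsLocalization.exist_integer_multiples_of_finite q.primeCompl b
  choose a ha using hs
  have h1 : algebraMap B (Localization.AtPrime q) (∑ i, a i * g i) ∈
      (q * J).map (algebraMap B (Localization.AtPrime q)) := by
    rw [Ideal.map_mul, Localization.AtPrime.map_eq_maximalIdeal]
    have : algebraMap B (Localization.AtPrime q) (∑ i, a i * g i) =
        algebraMap B (Localization.AtPrime q) s *
          ∑ i, b i * algebraMap B (Localization.AtPrime q) (g i) := by
      rw [map_sum, Finset.mul_sum]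
      refine Finset.sum_congr rfl fun i _ => ?_
      rw [map_mul, ha i, Algebra.smul_def]
      ring
    rw [this]
    exact Ideal.mul_mem_left _ _ hx
  obtain ⟨⟨⟨z, hz⟩, t⟩, hzt⟩ :=
    (IsLocalization.mem_map_algebraMap_iff q.primeCompl (Localization.AtPrime q)).mp h1
  rw [← map_mul] at hzt
  obtain ⟨t', ht'⟩ := (IsLocalization.eq_iff_exists q.primeCompl _).mp hzt
  have h2 : ∑ i, ((t' : B) * (t : B) * a i) * g i ∈ q * J := by
    have : ∑ i, ((t' : B) * (t : B) * a i) * g i = (t' : B) * z := by
      rw [← ht', Finset.sum_mul, Finset.mul_sum]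
      refine Finset.sum_congr rfl fun i _ => ?_
      ring
    rw [this]
    exact Ideal.mul_mem_left _ _ hz
  have h3 := mem_of_sum_mul_mem J q g hg hgen hmin _ h2 i
  have h4 : a i ∈ q :=
    ((‹q.IsPrime›.mem_or_mem h3).resolve_left
      (fun h => (q.primeCompl.mul_mem t'.2 t.2) h))
  have h5 : b i ∈ IsLocalRing.maximalIdeal (Localization.AtPrime q) := by
    have hmem : algebraMap B (Localization.AtPrime q) s * b i ∈
        IsLocalRing.maximalIdeal (Localization.AtPrime q) := by
      rw [← Algebra.smul_def, ← ha i]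
      exact (IsLocalization.AtPrime.to_map_mem_maximal_iff (Localization.AtPrime q) q (a i)).mpr h4
    refine ((IsLocalRing.maximalIdeal.isMaximal _).isPrime.mem_or_mem hmem).resolve_left ?_
    intro h
    exact s.2 ((IsLocalization.AtPrime.to_map_mem_maximal_iff (Localization.AtPrime q) q _).mp h)
  rw [← hb i]
  exact (IsLocalRing.residue_eq_zero_iff _).mpr h5

end LinIndep

section Extend

variable {A B : Type u} [CommRing A] [CommRing B] [Algebra A B] (q : Ideal B) [q.IsPrime]

local notation "Bq" => Localization.AtPrime q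
local notation "K" => IsLocalRing.ResidueField (Localization.AtPrime q)

theorem span_range_tmul_D_algebraMap_eq_top [Module.Finite Bq (Ω[Bq⁄A])] :
    Submodule.span K (Set.range (TensorProduct.mk Bq K (Ω[Bq⁄A]) 1 ∘
      fun b : B => D A Bq (algebraMap B Bq b))) = ⊤ := by
  have hv : Submodule.span Bq (Set.range fun b : B => D A Bq (algebraMap B Bq b)) = ⊤ := by
    have := KaehlerDifferential.span_range_map_derivation_of_isLocalization A B Bq q.primeCompl
    rw [← this]
    congr 1
    ext x
    simp [KaehlerDifferential.map_D]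
  have := (IsLocalRing.map_tensorProduct_mk_eq_top
    (N := Submodule.span Bq (Set.range fun b : B => D A Bq (algebraMap B Bq b)))).mpr hv
  rw [← Submodule.span_image, ← Set.range_comp, eq_top_iff, ← SetLike.coe_subset_coe,
    Submodule.top_coe] at this
  rw [eq_top_iff]
  exact Set.Subset.trans this (Submodule.span_subset_span _ _ _)

/-- Extend a linearly independent family `1 ⊗ d (g i)` to a basis of `κ ⊗ Ω[B_q⁄A]` by further
elements coming from `B`. -/
theorem exists_extension_basis [Module.Finite Bq (Ω[Bq⁄A])] {r : ℕ} (g : Fin r → B)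
    (hli : LinearIndependent K
      (fun i => (1 : K) ⊗ₜ[Bq] D A Bq (algebraMap B Bq (g i)))) :
    ∃ (m : ℕ) (g'' : Fin m → B),
      LinearIndependent K (TensorProduct.mk Bq K (Ω[Bq⁄A]) 1 ∘
        fun k : Fin r ⊕ Fin m => D A Bq (algebraMap B Bq (Sum.elim g g'' k))) ∧
      Submodule.span K (Set.range (TensorProduct.mk Bq K (Ω[Bq⁄A]) 1 ∘
        fun k : Fin r ⊕ Fin m => D A Bq (algebraMap B Bq (Sum.elim g g'' k)))) = ⊤ := by
  classical
  set u : B → K ⊗[Bq] Ω[Bq⁄A] := TensorProduct.mk Bq K (Ω[Bq⁄A]) 1 ∘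
      fun b : B => D A Bq (algebraMap B Bq b) with hu
  set v : Fin r → K ⊗[Bq] Ω[Bq⁄A] := fun i => u (g i) with hv
  have hli' : LinearIndependent K v := hli
  set W : Submodule K (K ⊗[Bq] Ω[Bq⁄A]) := Submodule.span K (Set.range v) with hW
  obtain ⟨κ', a, -, hsp, hliQ⟩ := exists_linearIndependent' K (W.mkQ ∘ u)
  have hspu : Submodule.span K (Set.range (W.mkQ ∘ u)) = ⊤ := by
    rw [Set.range_comp, ← Submodule.map_span, span_range_tmul_D_algebraMap_eq_top q,
      Submodule.map_top, Submodule.range_mkQ]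
  rw [hspu] at hsp
  haveI : Finite κ' := hliQ.finite_of_isNoetherian
  let e : κ' ≃ Fin (Nat.card κ') := Finite.equivFin κ'
  refine ⟨Nat.card κ', a ∘ e.symm, ?_, ?_⟩
  · -- linear independence
    have hf : LinearIndependent K (fun i : Fin r => (⟨v i, Submodule.subset_span ⟨i, rfl⟩⟩ : W)) := by
      refine LinearIndependent.of_comp W.subtype ?_
      exact hli'
    have hg : LinearIndependent K (Submodule.Quotient.mk (p := W) ∘ (u ∘ a ∘ e.symm)) := by
      have : (Submodule.Quotient.mk (p := W) ∘ (u ∘ a ∘ e.symm)) =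
          ((W.mkQ ∘ u) ∘ a) ∘ e.symm := rfl
      rw [this]
      exact hliQ.comp _ e.symm.injective
    have := LinearIndependent.sumElim_of_quotient hf (u ∘ a ∘ e.symm) hg
    have hfun : (TensorProduct.mk Bq K (Ω[Bq⁄A]) 1 ∘
        fun k : Fin r ⊕ Fin (Nat.card κ') =>
          D A Bq (algebraMap B Bq (Sum.elim g (a ∘ e.symm) k))) =
        Sum.elim (fun i : Fin r => ((⟨v i, Submodule.subset_span ⟨i, rfl⟩⟩ : W) :
          K ⊗[Bq] Ω[Bq⁄A])) (u ∘ a ∘ e.symm) := by
      ext k
      cases k <;> rfl
    rw [hfun]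
    exact this
  · -- spanning
    rw [eq_top_iff]
    intro x _
    have hx : W.mkQ x ∈ Submodule.span K (Set.range ((W.mkQ ∘ u) ∘ a)) := by
      rw [hsp]; trivial
    rw [Set.range_comp, Set.image_comp, ← Submodule.map_span] at hx
    obtain ⟨y, hy, hyx⟩ := hx
    have hxy : x - y ∈ W := by
      rw [← Submodule.Quotient.mk_eq_zero, Submodule.Quotient.mk_sub]
      change W.mkQ x - W.mkQ y = 0
      rw [hyx, sub_self]
    have hrange : Set.range (TensorProduct.mk Bq K (Ω[Bq⁄A]) 1 ∘
        fun k : Fin r ⊕ Fin (Nat.card κ') =>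
          D A Bq (algebraMap B Bq (Sum.elim g (a ∘ e.symm) k))) =
        Set.range v ∪ u '' Set.range a := by
      ext t
      constructor
      · rintro ⟨k, rfl⟩
        cases k with
        | inl i => exact Or.inl ⟨i, rfl⟩
        | inr j => exact Or.inr ⟨a (e.symm j), ⟨e.symm j, rfl⟩, rfl⟩
      · rintro (⟨i, rfl⟩ | ⟨_, ⟨j, rfl⟩, rfl⟩)
        · exact ⟨Sum.inl i, rfl⟩
        · refine ⟨Sum.inr (e j), ?_⟩
          simp [hu]
    rw [hrange, Submodule.span_union]
    have : x = (x - y) + y := by abel
    rw [this]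
    exact Submodule.add_mem _ (Submodule.mem_sup_left hxy) (Submodule.mem_sup_right hy)

end Extend

section Spread

variable {B : Type u} [CommRing B] (q : Ideal B) [q.IsPrime] {r : ℕ} (g : Fin r → B)

theorem exists_notMem_mul_mem_span (y : B)
    (hy : algebraMap B (Localization.AtPrime q) y ∈
      Ideal.span (Set.range fun i => algebraMap B (Localization.AtPrime q) (g i))) :
    ∃ t : B, t ∉ q ∧ t * y ∈ Ideal.span (Set.range g) := by
  obtain ⟨c, hc⟩ := Ideal.mem_span_range_iff_exists_fun.mp hy
  obtain ⟨s, hs⟩ := IsLocalization.exist_integer_multiples_of_finite q.primeCompl c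
  choose a ha using hs
  have h1 : algebraMap B (Localization.AtPrime q) ((s : B) * y) =
      algebraMap B (Localization.AtPrime q) (∑ i, a i * g i) := by
    rw [map_mul, ← hc, Finset.mul_sum, map_sum]
    refine Finset.sum_congr rfl fun i _ => ?_
    rw [map_mul, ha i, Algebra.smul_def]
    ring
  obtain ⟨t, ht⟩ := (IsLocalization.eq_iff_exists q.primeCompl _).mp h1
  refine ⟨(t : B) * (s : B), fun h => (q.primeCompl.mul_mem t.2 s.2) h, ?_⟩
  rw [mul_assoc, ht, Finset.mul_sum]
  refine Ideal.sum_mem _ fun i _ => ?_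
  rw [← mul_assoc]
  exact Ideal.mul_mem_left _ _ (Ideal.subset_span ⟨i, rfl⟩)

theorem exists_notMem_forall_mul_mem_span (J : Ideal B) (hJ : J.FG)
    (hgen : J.map (algebraMap B (Localization.AtPrime q)) =
      Ideal.span (Set.range fun i => algebraMap B (Localization.AtPrime q) (g i))) :
    ∃ t : B, t ∉ q ∧ ∀ y ∈ J, t * y ∈ Ideal.span (Set.range g) := by
  classical
  obtain ⟨S, hS⟩ := hJ
  have hex : ∀ y : B, ∃ t : B, t ∉ q ∧ (y ∈ J → t * y ∈ Ideal.span (Set.range g)) := by
    intro y
    by_cases hy : y ∈ J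
    · obtain ⟨t, ht, hty⟩ := exists_notMem_mul_mem_span q g y (by
        rw [← hgen]; exact Ideal.mem_map_of_mem _ hy)
      exact ⟨t, ht, fun _ => hty⟩
    · exact ⟨1, fun h => ‹q.IsPrime›.ne_top ((Ideal.eq_top_iff_one _).mpr h), fun h => absurd h hy⟩
  choose T hT hTy using hex
  refine ⟨∏ y ∈ S, T y, ?_, ?_⟩
  · intro h
    obtain ⟨y, _, hy⟩ := (Ideal.IsPrime.prod_mem_iff).mp h
    exact hT y hy
  · intro y hy
    rw [← hS] at hy
    induction hy using Submodule.span_induction with
    | mem y hyS =>
      have hyJ : y ∈ J := hS ▸ Ideal.subset_span hyS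
      rw [← Finset.mul_prod_erase S T hyS, mul_comm (T y), mul_assoc]
      exact Ideal.mul_mem_left _ _ (hTy y hyJ)
    | zero => simp
    | add x y _ _ hx hy => rw [mul_add]; exact Ideal.add_mem _ hx hy
    | smul c x _ hx =>
      rw [smul_eq_mul, mul_left_comm]
      exact Ideal.mul_mem_left _ _ hx

theorem map_eq_span_of_isUnit {T : Type u} [CommRing T] [Algebra B T] (J : Ideal B)
    (hg : ∀ i, g i ∈ J) (t : B) (ht : IsUnit (algebraMap B T t))
    (htJ : ∀ y ∈ J, t * y ∈ Ideal.span (Set.range g)) :
    J.map (algebraMap B T) = Ideal.span (Set.range fun i => algebraMap B T (g i)) := by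
  apply le_antisymm
  · rw [Ideal.map_le_iff_le_comap]
    intro y hy
    rw [Ideal.mem_comap]
    have h1 : algebraMap B T (t * y) ∈ Ideal.span (Set.range fun i => algebraMap B T (g i)) := by
      have : Ideal.span (Set.range fun i => algebraMap B T (g i)) =
          (Ideal.span (Set.range g)).map (algebraMap B T) := by
        rw [Ideal.map_span, ← Set.range_comp]
        rfl
      rw [this]
      exact Ideal.mem_map_of_mem _ (htJ y hy)
    rw [map_mul] at h1
    obtain ⟨u, hu⟩ := ht
    have : algebraMap B T y = (↑u⁻¹ : T) * (algebraMap B T t * algebraMap B T y) := by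
      rw [← hu, ← mul_assoc, Units.inv_mul, one_mul]
    rw [this]
    exact Ideal.mul_mem_left _ _ h1
  · rw [Ideal.span_le]
    rintro _ ⟨i, rfl⟩
    exact Ideal.mem_map_of_mem _ (hg i)

end Spread

theorem exists_etale_coordinates (A B : Type u) [CommRing A] [CommRing B]
    [Algebra A B] [Algebra.FinitePresentation A B] (J : Ideal B) (hJ : J.FG) (q : Ideal B) [q.IsPrime] (hJq : J ≤ q)
    [Algebra.IsSmoothAt A q] (Q : Ideal (B ⧸ J)) [Q.IsPrime] (hQ : Q.comap (Ideal.Quotient.mk J) = q)
    [Algebra.IsSmoothAt A Q] (r : ℕ) (g : Fin r → B) (hg : ∀ i, g i ∈ J)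
    (hgen : J.map (algebraMap B (Localization.AtPrime q)) =
      Ideal.span (Set.range fun i => algebraMap B (Localization.AtPrime q) (g i)))
    (hmin : r = Module.finrank q.ResidueField (q.ResidueField ⊗[B] J)) :
    ∃ (f : B) (_ : f ∉ q) (m : ℕ) (g' : Fin m → Localization.Away f),
      (MvPolynomial.aeval (Sum.elim (fun i => algebraMap B (Localization.Away f) (g i)) g') :
          MvPolynomial (Fin r ⊕ Fin m) A →ₐ[A] Localization.Away f).toRingHom.Etale ∧
      J.map (algebraMap B (Localization.Away f)) =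
        Ideal.span (Set.range fun i => algebraMap B (Localization.Away f) (g i)) := by
  classical
  -- Step 1: linear independence of the `1 ⊗ d g_i`
  have hli := linearIndependent_tmul_D (A := A) J q hJq Q hQ g hg hgen hmin
  -- Step 2: extend to a basis
  obtain ⟨m, g'', hli2, hsp2⟩ := exists_extension_basis (A := A) q g hli
  -- Step 3: a basis of `Ω[B_q⁄A]`
  obtain ⟨b, hb⟩ := Module.exists_basis_of_basis_baseChange _ hli2 hsp2
    (Module.Flat.rTensor_preserves_injective_linearMap _ Subtype.val_injective)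
  -- Step 4: the polynomial algebra structure
  let s : Fin r ⊕ Fin m → B := Sum.elim g g''
  let φ : MvPolynomial (Fin r ⊕ Fin m) A →ₐ[A] B := MvPolynomial.aeval s
  letI algPB : Algebra (MvPolynomial (Fin r ⊕ Fin m) A) B := φ.toRingHom.toAlgebra
  haveI : IsScalarTower A (MvPolynomial (Fin r ⊕ Fin m) A) B :=
    IsScalarTower.of_algebraMap_eq' φ.comp_algebraMap.symm
  haveI : IsScalarTower A (MvPolynomial (Fin r ⊕ Fin m) A) (Localization.AtPrime q) :=
    IsScalarTower.to₁₂₄ A (MvPolynomial (Fin r ⊕ Fin m) A) B _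
  haveI : Algebra.FinitePresentation (MvPolynomial (Fin r ⊕ Fin m) A) B :=
    Algebra.FinitePresentation.of_restrict_scalars_finitePresentation A _ _
  have hbij : Function.Bijective
      (mapBaseChange A (MvPolynomial (Fin r ⊕ Fin m) A) (Localization.AtPrime q)) :=
    bijective_mapBaseChange_mvPolynomial (fun k => algebraMap B (Localization.AtPrime q) (s k))
      (fun k => by
        rw [IsScalarTower.algebraMap_apply (MvPolynomial (Fin r ⊕ Fin m) A) B
          (Localization.AtPrime q)]
        congr 1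
        exact MvPolynomial.aeval_X s k) b hb
  haveI hEtAt : Algebra.IsEtaleAt (MvPolynomial (Fin r ⊕ Fin m) A) q :=
    formallyEtale_of_bijective_mapBaseChange A _ _ hbij
  -- Step 5: spreading out
  obtain ⟨t₀, ht₀, ht₀J⟩ := exists_notMem_forall_mul_mem_span q g J hJ hgen
  have hopen : IsOpen (Algebra.etaleLocus (MvPolynomial (Fin r ⊕ Fin m) A) B ∩
      (PrimeSpectrum.basicOpen t₀ : Set (PrimeSpectrum B))) :=
    Algebra.isOpen_etaleLocus.inter (PrimeSpectrum.basicOpen t₀).isOpen
  obtain ⟨_, ⟨_, ⟨f, rfl⟩, rfl⟩, hqf, hf⟩ :=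
    PrimeSpectrum.isBasis_basic_opens.exists_subset_of_mem_open
      (show (⟨q, ‹_›⟩ : PrimeSpectrum B) ∈
        Algebra.etaleLocus (MvPolynomial (Fin r ⊕ Fin m) A) B ∩
          (PrimeSpectrum.basicOpen t₀ : Set (PrimeSpectrum B)) from ⟨hEtAt, ht₀⟩) hopen
  have hfEt : Algebra.Etale (MvPolynomial (Fin r ⊕ Fin m) A) (Localization.Away f) :=
    Algebra.basicOpen_subset_etaleLocus_iff_etale.mp (hf.trans Set.inter_subset_left)
  have hunit : IsUnit (algebraMap B (Localization.Away f) t₀) :=
    (PrimeSpectrum.basicOpen_le_basicOpen_iff_algebraMap_isUnit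
      (S := Localization.Away f)).mp (hf.trans Set.inter_subset_right)
  refine ⟨f, hqf, m, fun j => algebraMap B _ (g'' j), ?_,
    map_eq_span_of_isUnit g J hg t₀ hunit ht₀J⟩
  have heq : (MvPolynomial.aeval (Sum.elim (fun i => algebraMap B (Localization.Away f) (g i))
      fun j => algebraMap B (Localization.Away f) (g'' j)) :
      MvPolynomial (Fin r ⊕ Fin m) A →ₐ[A] Localization.Away f).toRingHom =
      algebraMap (MvPolynomial (Fin r ⊕ Fin m) A) (Localization.Away f) := by
    haveI : IsScalarTower A (MvPolynomial (Fin r ⊕ Fin m) A) (Localization.Away f) :=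
      IsScalarTower.to₁₂₄ A (MvPolynomial (Fin r ⊕ Fin m) A) B _
    have : (MvPolynomial.aeval (Sum.elim (fun i => algebraMap B (Localization.Away f) (g i))
      fun j => algebraMap B (Localization.Away f) (g'' j)) :
      MvPolynomial (Fin r ⊕ Fin m) A →ₐ[A] Localization.Away f) =
      IsScalarTower.toAlgHom A (MvPolynomial (Fin r ⊕ Fin m) A) (Localization.Away f) := by
      apply MvPolynomial.algHom_ext
      intro k
      rw [MvPolynomial.aeval_X, IsScalarTower.coe_toAlgHom',
        IsScalarTower.algebraMap_apply (MvPolynomial (Fin r ⊕ Fin m) A) B (Localization.Away f)]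
      have : algebraMap (MvPolynomial (Fin r ⊕ Fin m) A) B (MvPolynomial.X k) = s k :=
        MvPolynomial.aeval_X s k
      rw [this]
      cases k <;> rfl
    rw [this]
    rfl
  rw [heq, RingHom.etale_algebraMap]
  exact hfEt

end Groth.Agent.LibEtaleCoord29
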