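import Mathlib
import Groth.Agent.LibEtaleCoord29

/-!
# Faithfully flat descent of "locally generated by one nonzerodivisor" (helper29)

Ring level: `A → A'` faithfully flat, `J ⊆ A` with `J A' = (t')`, `t'` a nonzerodivisor.  Then around
every prime `p` of `A` there is `s ∉ p` with `J A_s` generated by one nonzerodivisor.
-/

set_option autoImplicit false
universe u
open TensorProduct

namespace Groth.Agent.LibCartierDescent29

section Ring

variable {A A' : Type u} [CommRing A] [CommRing A'] [Algebra A A']

/-- Local principal generator downstairs, chosen among given generators. -/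
theorem exists_generator_atPrime [Module.Flat A A'] {n : ℕ} (j : Fin n → A) (t' : A')
    (ht' : t' ∈ nonZeroDivisors A')
    (hJ : (Ideal.span (Set.range j)).map (algebraMap A A') = Ideal.span {t'})
    (p : Ideal A) [p.IsPrime] (p' : Ideal A') [p'.IsPrime] [p'.LiesOver p] :
    ∃ k, (Ideal.span (Set.range j)).map (algebraMap A (Localization.AtPrime p)) =
      Ideal.span {algebraMap A (Localization.AtPrime p) (j k)} := by
  have hmem : ∀ l, algebraMap A A' (j l) ∈ Ideal.span {t'} := fun l => by
    rw [← hJ]; exact Ideal.mem_map_of_mem _ (Ideal.subset_span ⟨l, rfl⟩)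
  choose b' hb' using fun l => Ideal.mem_span_singleton'.mp (hmem l)
  have ht'mem : t' ∈ Ideal.span (Set.range fun l => algebraMap A A' (j l)) := by
    have : Ideal.span (Set.range fun l => algebraMap A A' (j l)) =
        (Ideal.span (Set.range j)).map (algebraMap A A') := by
      rw [Ideal.map_span, ← Set.range_comp]; rfl
    rw [this, hJ]
    exact Ideal.subset_span rfl
  obtain ⟨a', ha'⟩ := Ideal.mem_span_range_iff_exists_fun.mp ht'mem
  have hsum : ∑ l, a' l * b' l = 1 := by
    have h1 : (∑ l, a' l * b' l) * t' = 1 * t' := by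
      rw [one_mul, Finset.sum_mul]
      conv_rhs => rw [← ha']
      refine Finset.sum_congr rfl fun l _ => ?_
      rw [mul_assoc, hb' l]
    exact (mul_cancel_right_mem_nonZeroDivisors ht').mp h1
  obtain ⟨k, hk⟩ : ∃ k, b' k ∉ p' := by
    by_contra hcon
    push Not at hcon
    have : (1 : A') ∈ p' := by
      rw [← hsum]
      exact Ideal.sum_mem _ fun l _ => Ideal.mul_mem_left _ _ (hcon l)
    exact ‹p'.IsPrime›.ne_top ((Ideal.eq_top_iff_one _).mpr this)
  have hcross : ∀ l, b' k * algebraMap A A' (j l) = b' l * algebraMap A A' (j k) := by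
    intro l
    rw [← hb' l, ← hb' k]
    ring
  refine ⟨k, ?_⟩
  letI := Localization.AtPrime.algebraOfLiesOver p p'
  haveI : IsLocalHom (algebraMap (Localization.AtPrime p) (Localization.AtPrime p')) := by
    rw [RingHom.algebraMap_toAlgebra]
    exact Localization.isLocalHom_localRingHom p p' (algebraMap A A') Ideal.LiesOver.over
  haveI : Module.FaithfullyFlat (Localization.AtPrime p) (Localization.AtPrime p') :=
    Module.FaithfullyFlat.of_flat_of_isLocalHom
  apply le_antisymm
  · rw [Ideal.map_span, Ideal.span_le]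
    rintro _ ⟨_, ⟨l, rfl⟩, rfl⟩
    rw [← Ideal.comap_map_eq_self_of_faithfullyFlat (B := Localization.AtPrime p')
      (Ideal.span {algebraMap A (Localization.AtPrime p) (j k)})]
    rw [SetLike.mem_coe, Ideal.mem_comap, Ideal.map_span, Set.image_singleton]
    have hu : IsUnit (algebraMap A' (Localization.AtPrime p') (b' k)) :=
      IsLocalization.map_units (Localization.AtPrime p') (⟨b' k, hk⟩ : p'.primeCompl)
    obtain ⟨u, hu⟩ := hu
    have e1 : algebraMap (Localization.AtPrime p) (Localization.AtPrime p')
        (algebraMap A (Localization.AtPrime p) (j l)) =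
        algebraMap A' (Localization.AtPrime p') (algebraMap A A' (j l)) := by
      rw [← IsScalarTower.algebraMap_apply, ← IsScalarTower.algebraMap_apply]
    have e2 : algebraMap (Localization.AtPrime p) (Localization.AtPrime p')
        (algebraMap A (Localization.AtPrime p) (j k)) =
        algebraMap A' (Localization.AtPrime p') (algebraMap A A' (j k)) := by
      rw [← IsScalarTower.algebraMap_apply, ← IsScalarTower.algebraMap_apply]
    rw [e1, e2, Ideal.mem_span_singleton']
    refine ⟨↑u⁻¹ * algebraMap A' (Localization.AtPrime p') (b' l), ?_⟩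
    have := congrArg (algebraMap A' (Localization.AtPrime p')) (hcross l)
    rw [map_mul, map_mul, ← hu] at this
    rw [mul_assoc, ← this, ← mul_assoc, Units.inv_mul, one_mul]
  · rw [Ideal.span_le, Set.singleton_subset_iff]
    exact Ideal.mem_map_of_mem _ (Ideal.subset_span ⟨k, rfl⟩)

/-- `J A' = (t')` with `t'` a nonzerodivisor, `A → A'` faithfully flat: around `p` the ideal `J` is
generated by one of its elements up to a multiplier outside `p`. -/
theorem exists_notMem_forall_mul_mem_span_singleton [Module.FaithfullyFlat A A'] (J : Ideal A)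
    (t' : A') (ht' : t' ∈ nonZeroDivisors A')
    (hJ : J.map (algebraMap A A') = Ideal.span {t'}) (p : Ideal A) [p.IsPrime] :
    ∃ s : A, s ∉ p ∧ ∃ j₀ ∈ J, ∀ y ∈ J, s * y ∈ Ideal.span {j₀} := by
  have hfg : J.FG := Ideal.FG.of_FG_map_of_faithfullyFlat (S := A')
    (hJ ▸ ⟨{t'}, by simp⟩)
  obtain ⟨n, j, hj⟩ := Submodule.fg_iff_exists_fin_generating_family.mp hfg
  have hj' : Ideal.span (Set.range j) = J := hj
  obtain ⟨⟨p', hp'⟩, hpp'⟩ := PrimeSpectrum.comap_surjective_of_faithfullyFlat (A := A) (B := A')
    ⟨p, inferInstance⟩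
  haveI : p'.IsPrime := hp'
  haveI : p'.LiesOver p := ⟨by
    have := congrArg PrimeSpectrum.asIdeal hpp'
    exact this.symm⟩
  obtain ⟨k, hk⟩ := exists_generator_atPrime j t' ht' (by rw [hj']; exact hJ) p p'
  rw [hj'] at hk
  have hgen : J.map (algebraMap A (Localization.AtPrime p)) =
      Ideal.span (Set.range fun i : Fin 1 => algebraMap A (Localization.AtPrime p) (![j k] i)) := by
    rw [hk]
    congr 1
    ext x
    simp
  obtain ⟨s, hs, hsJ⟩ := Groth.Agent.LibEtaleCoord29.exists_notMem_forall_mul_mem_span p ![j k] J hfg hgen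
  refine ⟨s, hs, j k, hj' ▸ Ideal.subset_span ⟨k, rfl⟩, fun y hy => ?_⟩
  have := hsJ y hy
  simpa using this

/-- Given `s J ⊆ (j₀)`: on `A_s` the ideal `J` is generated by the nonzerodivisor `j₀`. -/
theorem map_eq_span_and_mem_nonZeroDivisors [Module.FaithfullyFlat A A'] (J : Ideal A)
    (t' : A') (ht' : t' ∈ nonZeroDivisors A')
    (hJ : J.map (algebraMap A A') = Ideal.span {t'}) (s j₀ : A) (hj₀ : j₀ ∈ J)
    (hs : ∀ y ∈ J, s * y ∈ Ideal.span {j₀})
    (As : Type u) [CommRing As] [Algebra A As] [IsLocalization.Away s As] :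
    J.map (algebraMap A As) = Ideal.span {algebraMap A As j₀} ∧
      algebraMap A As j₀ ∈ nonZeroDivisors As := by
  have hunit : IsUnit (algebraMap A As s) := IsLocalization.Away.algebraMap_isUnit s
  constructor
  · apply le_antisymm
    · rw [Ideal.map_le_iff_le_comap]
      intro y hy
      rw [Ideal.mem_comap]
      have h1 : algebraMap A As (s * y) ∈ Ideal.span {algebraMap A As j₀} := by
        have := Ideal.mem_map_of_mem (algebraMap A As) (hs y hy)
        rwa [Ideal.map_span, Set.image_singleton] at this
      rw [map_mul] at h1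
      obtain ⟨u, hu⟩ := hunit
      have : algebraMap A As y = (↑u⁻¹ : As) * (algebraMap A As s * algebraMap A As y) := by
        rw [← hu, ← mul_assoc, Units.inv_mul, one_mul]
      rw [this]
      exact Ideal.mul_mem_left _ _ h1
    · rw [Ideal.span_le, Set.singleton_subset_iff]
      exact Ideal.mem_map_of_mem _ hj₀
  · -- nonzerodivisor
    have hinj : Function.Injective (algebraMap A A') :=
      FaithfulSMul.algebraMap_injective A A'
    obtain ⟨b', hb'⟩ := Ideal.mem_span_singleton'.mp
      (hJ ▸ Ideal.mem_map_of_mem (algebraMap A A') hj₀)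
    -- `φ s * x ∈ (φ j₀)` for `x ∈ J A'`
    have hsx : ∀ x ∈ J.map (algebraMap A A'), algebraMap A A' s * x ∈
        Ideal.span {algebraMap A A' j₀} := by
      intro x hx
      refine Submodule.span_induction ?_ ?_ ?_ ?_ hx
      · rintro _ ⟨y, hy, rfl⟩
        have := Ideal.mem_map_of_mem (algebraMap A A') (hs y hy)
        rwa [Ideal.map_span, Set.image_singleton, map_mul] at this
      · simp
      · intro x y _ _ hx hy
        rw [mul_add]; exact Ideal.add_mem _ hx hy
      · intro c x _ hx
        rw [smul_eq_mul, mul_left_comm]; exact Ideal.mul_mem_left _ _ hx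
    obtain ⟨e', he'⟩ := Ideal.mem_span_singleton'.mp
      (hsx t' (hJ ▸ Ideal.subset_span rfl))
    have heb : e' * b' = algebraMap A A' s := by
      have : (e' * b') * t' = algebraMap A A' s * t' := by
        rw [mul_assoc, hb', he']
      exact (mul_cancel_right_mem_nonZeroDivisors ht').mp this
    rw [mem_nonZeroDivisors_iff_right]
    intro a ha
    obtain ⟨a₀, m, rfl⟩ := IsLocalization.exists_mk'_eq (Submonoid.powers s) a
    rw [IsLocalization.mk'_eq_zero_iff]
    have h0 : algebraMap A As (a₀ * j₀) = 0 := by
      have := congrArg (fun z => algebraMap A As (m : A) * z) ha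
      simp only [mul_zero] at this
      rw [← mul_assoc, IsLocalization.mk'_spec'] at this
      rw [map_mul]; exact this
    obtain ⟨⟨_, N, rfl⟩, hN⟩ := (IsLocalization.map_eq_zero_iff (Submonoid.powers s) As _).mp h0
    -- `s^N a₀ j₀ = 0` in `A`
    have h1 : algebraMap A A' (s ^ N * a₀) * b' = 0 := by
      have : (algebraMap A A' (s ^ N * a₀) * b') * t' = 0 * t' := by
        rw [mul_assoc, hb', ← map_mul, zero_mul, mul_assoc, hN, map_zero]
      exact (mul_cancel_right_mem_nonZeroDivisors ht').mp this
    have h2 : algebraMap A A' (s ^ (N + 1) * a₀) = 0 := by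
      have : algebraMap A A' (s ^ (N + 1) * a₀) = (algebraMap A A' (s ^ N * a₀) * b') * e' := by
        rw [mul_assoc, mul_comm b' e', heb, ← map_mul]
        congr 1
        ring
      rw [this, h1, zero_mul]
    have h3 : s ^ (N + 1) * a₀ = 0 := hinj (by rw [h2, map_zero])
    exact ⟨⟨s ^ (N + 1), N + 1, rfl⟩, h3⟩

end Ring

end Groth.Agent.LibCartierDescent29
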