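import Mathlib
import Groth.Prelude.Def_BlowUp2
import Groth.Agent.LibCartierDescent29
import Groth.Agent.Lib.Helper16.EffCartier

/-!
# fppf descent of effective Cartier ideal sheaves (helper29)

`isEffCartierIdeal_of_comap`: for `g : U' ⟶ U` flat, locally of finite presentation and surjective, an
ideal sheaf `I` on `U` is effective Cartier (locally generated by one nonzerodivisor) as soon as its
pullback `I.comap g` is.
-/

set_option autoImplicit false
universe u
open CategoryTheory CategoryTheory.Limits AlgebraicGeometry TopologicalSpace Opposite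

namespace Groth.Agent.LibCartierDescentSch29

open Groth.Agent.Lib.helper16.EffCartier

/-- membership in a basic open of an affine open in terms of the prime ideal. -/
lemma mem_basicOpen_iff_notMem_primeIdealOf {X : Scheme.{u}} {W : X.Opens} (hW : IsAffineOpen W)
    (s : Γ(X, W)) (x : W) : (x : X) ∈ X.basicOpen s ↔ s ∉ (hW.primeIdealOf x).asIdeal := by
  have h1 : hW.fromSpec (hW.primeIdealOf x) = x.1 := hW.fromSpec_primeIdealOf x
  have h2 := hW.fromSpec_preimage_basicOpen s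
  have h3 : (hW.primeIdealOf x) ∈ hW.fromSpec ⁻¹ᵁ X.basicOpen s ↔ (x : X) ∈ X.basicOpen s := by
    show hW.fromSpec (hW.primeIdealOf x) ∈ X.basicOpen s ↔ _
    rw [h1]
  rw [← h3, h2]
  exact PrimeSpectrum.mem_basicOpen _ _

/-- **fppf descent of effective Cartier ideals.** -/
theorem isEffCartierIdeal_of_comap {U' U : Scheme.{u}} (g : U' ⟶ U) [Flat g]
    [LocallyOfFinitePresentation g] [Surjective g] (I : U.IdealSheafData)
    (h : BlowUp.IsEffCartierIdeal (I.comap g)) : BlowUp.IsEffCartierIdeal I := by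
  intro x
  obtain ⟨x', rfl⟩ := g.surjective x
  obtain ⟨W₀, hW₀, hxW₀, -⟩ := Opens.isBasis_iff_nbhd.mp U.isBasis_affineOpens
    (show g x' ∈ (⊤ : U.Opens) from trivial)
  obtain ⟨W', hx'W', hW'le, t', ht', hI'⟩ := exists_principal_le h x' (g ⁻¹ᵁ W₀) hxW₀
  have hopen : IsOpen (g '' (W'.1 : Set U')) := g.isOpenMap _ W'.1.2
  obtain ⟨s₀, hs₀le, hxs₀⟩ := hW₀.exists_basicOpen_le (V := ⟨g '' (W'.1 : Set U'), hopen⟩)
    ⟨g x', ⟨x', hx'W', rfl⟩⟩ hxW₀
  -- the affine opens `W = D(s₀)` and `W'' = W' ∩ g⁻¹ W`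
  let W : U.affineOpens := U.affineBasicOpen (U := ⟨W₀, hW₀⟩) s₀
  let s' : Γ(U', W'.1) := (g.appLE W₀ W'.1 hW'le).hom s₀
  let W'' : U'.affineOpens := U'.affineBasicOpen s'
  have hW''eq : W''.1 = W'.1 ⊓ g ⁻¹ᵁ (U.basicOpen s₀) :=
    Scheme.basicOpen_appLE g W'.1 W₀ hW'le s₀
  have hW''le' : W''.1 ≤ W'.1 := hW''eq ▸ inf_le_left
  have e : W''.1 ≤ g ⁻¹ᵁ W.1 := hW''eq ▸ inf_le_right
  -- the ring map
  let φ := g.appLE W.1 W''.1 e
  have hflat : φ.hom.Flat := HasRingHomProperty.appLE (P := @Flat) g inferInstance W W'' e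
  have hff : φ.hom.FaithfullyFlat := by
    rw [RingHom.FaithfullyFlat.iff_flat_and_comap_surjective]
    refine ⟨hflat, fun q => ?_⟩
    have hcomm := IsAffineOpen.SpecMap_appLE_fromSpec g W.2 W''.2 e
    have hy : W.2.fromSpec q ∈ W.1 := by
      have : W.2.fromSpec q ∈ Set.range W.2.fromSpec := ⟨q, rfl⟩
      rwa [W.2.range_fromSpec] at this
    obtain ⟨y', hy'W', hy'⟩ := hs₀le hy
    have hy'W'' : y' ∈ W''.1 := by
      rw [hW''eq]
      refine ⟨hy'W', ?_⟩
      show g y' ∈ U.basicOpen s₀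
      rw [hy']; exact hy
    have : y' ∈ Set.range W''.2.fromSpec := by
      rw [W''.2.range_fromSpec]; exact hy'W''
    obtain ⟨q', rfl⟩ := this
    refine ⟨q', ?_⟩
    apply W.2.fromSpec.isOpenEmbedding.injective
    have h2 := congr($(hcomm) q')
    rw [Scheme.Hom.comp_apply, Scheme.Hom.comp_apply] at h2
    exact h2.trans hy'
  -- the ideals
  obtain ⟨ht'', hI''⟩ := principal_of_le (I.comap g) hW''le' ht' hI'
  have hmap : (I.comap g).ideal W'' = (I.ideal W).map φ.hom :=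
    Groth.Agent.Lib.helper7.IdealComap.ideal_comap g I W.2 W''.2 e
  letI : Algebra Γ(U, W.1) Γ(U', W''.1) := φ.hom.toAlgebra
  haveI : Module.FaithfullyFlat Γ(U, W.1) Γ(U', W''.1) := hff
  have hxW : g x' ∈ W.1 := hxs₀
  obtain ⟨s, hs, j₀, hj₀, hsJ⟩ :=
    Groth.Agent.LibCartierDescent29.exists_notMem_forall_mul_mem_span_singleton (I.ideal W) _ ht''
      (by rw [← hI'', hmap]; rfl) (W.2.primeIdealOf ⟨g x', hxW⟩).asIdeal
  have hloc := W.2.isLocalization_basicOpen s
  obtain ⟨hgen, hnzd⟩ :=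
    Groth.Agent.LibCartierDescent29.map_eq_span_and_mem_nonZeroDivisors (I.ideal W) _ ht''
      (by rw [← hI'', hmap]; rfl) s j₀ hj₀ hsJ Γ(U, U.basicOpen s)
  refine ⟨U.affineBasicOpen s, ?_, algebraMap Γ(U, W.1) Γ(U, U.basicOpen s) j₀, hnzd, ?_⟩
  · exact (mem_basicOpen_iff_notMem_primeIdealOf W.2 s ⟨g x', hxW⟩).mpr hs
  · rw [← I.map_ideal_basicOpen W s]
    exact hgen

end Groth.Agent.LibCartierDescentSch29
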