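import Groth.Prelude.Def_AlgSpSub
import Groth.Agent.LibAlgSpCartier29b
import Groth.Agent.LibCartierDescentSch29

/-!
# Effective Cartier divisors on algebraic spaces: independence of the chart (helper29)

* `ideal_eq_of_isPullback`: the ideal sheaf of the inverse image of a closed subspace in a chart is
  unique.
* `isEffCartierIdeal_of_isEffCartierSub`: for an effective Cartier divisor `D ⊂ X` every étale chart
  of `X` sees an effective Cartier ideal.
-/

set_option autoImplicit false
universe u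
open CategoryTheory CategoryTheory.Limits AlgebraicGeometry
open AlgSp

namespace Groth.Agent.LibAlgSpCartier29

variable {S : Scheme.{u}}

/-- Two ideal sheaves cutting out the same pullback coincide. -/
theorem ideal_eq_of_isPullback {F D : Sp S} {i : D ⟶ F} {W : Over S} {ψ : (yon S).obj W ⟶ F}
    {J₁ J₂ : W.left.IdealSheafData}
    {f₁ : (yon S).obj (Over.mk (J₁.subschemeι ≫ W.hom)) ⟶ D}
    {f₂ : (yon S).obj (Over.mk (J₂.subschemeι ≫ W.hom)) ⟶ D}
    (sq₁ : IsPullback f₁ ((yon S).map (Over.homMk J₁.subschemeι rfl :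
      Over.mk (J₁.subschemeι ≫ W.hom) ⟶ W)) i ψ)
    (sq₂ : IsPullback f₂ ((yon S).map (Over.homMk J₂.subschemeι rfl :
      Over.mk (J₂.subschemeι ≫ W.hom) ⟶ W)) i ψ) : J₁ = J₂ := by
  let e := sq₁.isoIsPullback _ _ sq₂
  have he : e.hom ≫ (yon S).map (Over.homMk J₂.subschemeι rfl :
      Over.mk (J₂.subschemeι ≫ W.hom) ⟶ W) = (yon S).map (Over.homMk J₁.subschemeι rfl :
      Over.mk (J₁.subschemeι ≫ W.hom) ⟶ W) := sq₁.isoIsPullback_hom_snd _ _ sq₂
  let e' := (yon S).preimageIso e
  have he' : e'.hom ≫ (Over.homMk J₂.subschemeι rfl : Over.mk (J₂.subschemeι ≫ W.hom) ⟶ W) =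
      (Over.homMk J₁.subschemeι rfl : Over.mk (J₁.subschemeι ≫ W.hom) ⟶ W) := by
    apply (yon S).map_injective
    rw [Functor.map_comp, Functor.preimageIso_hom, Functor.map_preimage]
    exact he
  have h3 : e'.hom.left ≫ J₂.subschemeι = J₁.subschemeι := by
    have := congrArg (fun z => z.left) he'
    simpa using this
  haveI : IsIso e'.hom.left := (Over.forget S).map_isIso e'.hom
  rw [← J₁.ker_subschemeι, ← h3, Scheme.Hom.ker_comp_of_isIso, J₂.ker_subschemeι]

/-- Every étale chart of an algebraic space sees an effective Cartier divisor as an effective Cartier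
ideal sheaf. -/
theorem isEffCartierIdeal_of_isEffCartierSub {F D : Sp S} {i : D ⟶ F} (hD : IsEffCartierSub i)
    {U : Over S} {φ : (yon S).obj U ⟶ F} (hφ : RepWith @Etale φ) {I : U.left.IdealSheafData}
    {fst : (yon S).obj (Over.mk (I.subschemeι ≫ U.hom)) ⟶ D}
    (sq : IsPullback fst ((yon S).map (Over.homMk I.subschemeι rfl :
      Over.mk (I.subschemeι ≫ U.hom) ⟶ U)) i φ) : BlowUp.IsEffCartierIdeal I := by
  obtain ⟨-, V, φV, IV, fstV, hVe, hVs, sqV, hIV⟩ := hD
  obtain ⟨W, w, v'', sqW⟩ := hVe.1 φ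
  obtain ⟨v, rfl⟩ := (yon S).map_surjective v''
  haveI hwe : Etale w.left := hVe.2 _ _ _ sqW
  haveI hws : Surjective w.left := hVs.2 _ _ _ sqW
  haveI hve : Etale v.left := hφ.2 _ _ _ sqW.flip
  obtain ⟨f₁, sq₁⟩ := isPullback_comap_chart sq w
  obtain ⟨f₂, sq₂⟩ := isPullback_comap_chart sqV v
  rw [sqW.w] at sq₂
  have heq : I.comap w.left = IV.comap v.left := ideal_eq_of_isPullback sq₁ sq₂
  have h1 : BlowUp.IsEffCartierIdeal (I.comap w.left) := by
    rw [heq]
    exact Groth.Agent.Lib.helper16.EffCartier.isEffCartier_comap_of_flat IV hIV v.left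
  exact Groth.Agent.LibCartierDescentSch29.isEffCartierIdeal_of_comap w.left I h1

end Groth.Agent.LibAlgSpCartier29
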