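import Groth.Prelude.Def_AlgSpSub
import Groth.Agent.LibAlgSpCartier29c

/-!
# Closed subspaces in charts (helper29)

* `exists_ideal_chart`: for a closed subspace `i : D ⟶ F` (representable by closed immersions) and
  any `φ : h_V ⟶ F` there is a quasi-coherent ideal sheaf on `V` whose closed subscheme is the
  inverse image of `D`.
-/

set_option autoImplicit false
universe u
open CategoryTheory CategoryTheory.Limits AlgebraicGeometry
open AlgSp

namespace Groth.Agent.LibAlgSpCartier29

variable {S : Scheme.{u}}

/-- the inverse image of a closed subspace in a chart is cut out by an ideal sheaf. -/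
theorem exists_ideal_chart {F D : Sp S} {i : D ⟶ F} (hi : RepWith @IsClosedImmersion i)
    {V : Over S} (φ : (yon S).obj V ⟶ F) :
    ∃ (I : V.left.IdealSheafData) (fst : (yon S).obj (Over.mk (I.subschemeι ≫ V.hom)) ⟶ D),
      IsPullback fst ((yon S).map (Over.homMk I.subschemeι rfl :
        Over.mk (I.subschemeι ≫ V.hom) ⟶ V)) i φ := by
  obtain ⟨W, w, w'', sqW⟩ := hi.1 φ
  haveI hcl : IsClosedImmersion w.left := hi.2 _ _ _ sqW
  haveI : IsIso w.left.toImage := inferInstance
  have hw : w.left.toImage ≫ w.left.ker.subschemeι = w.left := w.left.toImage_imageι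
  let e : W ≅ Over.mk (w.left.ker.subschemeι ≫ V.hom) :=
    Over.isoMk (asIso w.left.toImage) (by
      dsimp
      rw [← Category.assoc]
      erw [hw]
      exact Over.w w)
  have he : e.hom ≫ (Over.homMk w.left.ker.subschemeι rfl :
      Over.mk (w.left.ker.subschemeι ≫ V.hom) ⟶ V) = w := by
    apply Over.OverMorphism.ext
    simp only [Over.comp_left, Over.homMk_left]
    exact hw
  refine ⟨w.left.ker, (yon S).map e.inv ≫ w'', ?_⟩
  refine IsPullback.of_iso sqW ((yon S).mapIso e) (Iso.refl _) (Iso.refl _) (Iso.refl _) ?_ ?_ ?_ ?_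
  · simp only [Functor.mapIso_hom, Iso.refl_hom, Category.comp_id]
    rw [← Category.assoc, ← Functor.map_comp, Iso.hom_inv_id, CategoryTheory.Functor.map_id,
      Category.id_comp]
  · simp only [Functor.mapIso_hom, Iso.refl_hom, Category.comp_id]
    rw [← Functor.map_comp, he]
  · simp
  · simp

end Groth.Agent.LibAlgSpCartier29
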