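import Mathlib
import Groth.Prelude.Def_BlowUp2
import Groth.Agent.LibCartierDescentSch29

/-!
# fppf descent of effective Cartier ideal sheaves, pointwise form (helper29)

`exists_principal_of_comap`: for `g : U' ⟶ U` flat and locally of finite presentation (not necessarily
surjective), if `I.comap g` is effective Cartier then `I` is generated by one nonzerodivisor on an
affine neighbourhood of every point in the image of `g`.

`exists_principal_of_notMem_support`: outside its support an ideal sheaf is the unit ideal.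
`isEffCartierIdeal_of_top`: an ideal sheaf on an affine scheme whose global ideal is generated by a
nonzerodivisor is effective Cartier.
-/

set_option autoImplicit false
universe u
open CategoryTheory CategoryTheory.Limits AlgebraicGeometry TopologicalSpace Opposite

namespace Groth.Agent.LibCartierDescentSch29

open Groth.Agent.Lib.helper16.EffCartier

/-- **fppf descent of effective Cartier ideals, pointwise.** -/
theorem exists_principal_of_comap {U' U : Scheme.{u}} (g : U' ⟶ U) [Flat g]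
    [LocallyOfFinitePresentation g] (I : U.IdealSheafData)
    (h : BlowUp.IsEffCartierIdeal (I.comap g)) (x' : U') :
    ∃ W : U.affineOpens, g x' ∈ W.1 ∧
      ∃ f : Γ(U, W.1), f ∈ nonZeroDivisors Γ(U, W.1) ∧ I.ideal W = Ideal.span {f} := by
  obtain ⟨W₀, hW₀, hxW₀, -⟩ := Opens.isBasis_iff_nbhd.mp U.isBasis_affineOpens
    (show g x' ∈ (⊤ : U.Opens) from trivial)
  obtain ⟨W', hx'W', hW'le, t', ht', hI'⟩ := exists_principal_le h x' (g ⁻¹ᵁ W₀) hxW₀
  have hopen : IsOpen (g '' (W'.1 : Set U')) := g.isOpenMap _ W'.1.2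
  obtain ⟨s₀, hs₀le, hxs₀⟩ := hW₀.exists_basicOpen_le (V := ⟨g '' (W'.1 : Set U'), hopen⟩)
    ⟨g x', ⟨x', hx'W', rfl⟩⟩ hxW₀
  let W : U.affineOpens := U.affineBasicOpen (U := ⟨W₀, hW₀⟩) s₀
  let s' : Γ(U', W'.1) := (g.appLE W₀ W'.1 hW'le).hom s₀
  let W'' : U'.affineOpens := U'.affineBasicOpen s'
  have hW''eq : W''.1 = W'.1 ⊓ g ⁻¹ᵁ (U.basicOpen s₀) :=
    Scheme.basicOpen_appLE g W'.1 W₀ hW'le s₀
  have hW''le' : W''.1 ≤ W'.1 := hW''eq ▸ inf_le_left
  have e : W''.1 ≤ g ⁻¹ᵁ W.1 := hW''eq ▸ inf_le_right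
  let φ := g.appLE W.1 W''.1 e
  have hflat : φ.hom.Flat := HasRingHomProperty.appLE (P := @Flat) g inferInstance W W'' e
  have hff : φ.hom.FaithfullyFlat := by
    rw [RingHom.FaithfullyFlat.iff_flat_and_comap_surjective]
    refine ⟨hflat, fun q => ?_⟩
    have hcomm := IsAffineOpen.SpecMap_appLE_fromSpec g W.2 W''.2 e
    have hy : W.2.fromSpec q ∈ W.1 := by
      have : W.2.fromSpec q ∈ Set.range W.2.fromSpec := ⟨q, rfl⟩
      rwa [W.2.range_fromSpec] at this
    obtain ⟨y', hy'W', hy'⟩ := hs₀le hy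
    have hy'W'' : y' ∈ W''.1 := by
      rw [hW''eq]
      refine ⟨hy'W', ?_⟩
      show g y' ∈ U.basicOpen s₀
      rw [hy']; exact hy
    have : y' ∈ Set.range W''.2.fromSpec := by
      rw [W''.2.range_fromSpec]; exact hy'W''
    obtain ⟨q', rfl⟩ := this
    refine ⟨q', ?_⟩
    apply W.2.fromSpec.isOpenEmbedding.injective
    have h2 := congr($(hcomm) q')
    rw [Scheme.Hom.comp_apply, Scheme.Hom.comp_apply] at h2
    exact h2.trans hy'
  obtain ⟨ht'', hI''⟩ := principal_of_le (I.comap g) hW''le' ht' hI'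
  have hmap : (I.comap g).ideal W'' = (I.ideal W).map φ.hom :=
    Groth.Agent.Lib.helper7.IdealComap.ideal_comap g I W.2 W''.2 e
  letI : Algebra Γ(U, W.1) Γ(U', W''.1) := φ.hom.toAlgebra
  haveI : Module.FaithfullyFlat Γ(U, W.1) Γ(U', W''.1) := hff
  have hxW : g x' ∈ W.1 := hxs₀
  obtain ⟨s, hs, j₀, hj₀, hsJ⟩ :=
    Groth.Agent.LibCartierDescent29.exists_notMem_forall_mul_mem_span_singleton (I.ideal W) _ ht''
      (by rw [← hI'', hmap]; rfl) (W.2.primeIdealOf ⟨g x', hxW⟩).asIdeal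
  have hloc := W.2.isLocalization_basicOpen s
  obtain ⟨hgen, hnzd⟩ :=
    Groth.Agent.LibCartierDescent29.map_eq_span_and_mem_nonZeroDivisors (I.ideal W) _ ht''
      (by rw [← hI'', hmap]; rfl) s j₀ hj₀ hsJ Γ(U, U.basicOpen s)
  refine ⟨U.affineBasicOpen s, ?_, algebraMap Γ(U, W.1) Γ(U, U.basicOpen s) j₀, hnzd, ?_⟩
  · exact (mem_basicOpen_iff_notMem_primeIdealOf W.2 s ⟨g x', hxW⟩).mpr hs
  · rw [← I.map_ideal_basicOpen W s]
    exact hgen

/-- Outside the support an ideal sheaf is the unit ideal on a small affine neighbourhood. -/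
theorem exists_principal_of_notMem_support {X : Scheme.{u}} (I : X.IdealSheafData) (x : X)
    (hx : x ∉ I.support) :
    ∃ W : X.affineOpens, x ∈ W.1 ∧
      ∃ f : Γ(X, W.1), f ∈ nonZeroDivisors Γ(X, W.1) ∧ I.ideal W = Ideal.span {f} := by
  obtain ⟨W₀, hW₀, hxW₀, -⟩ := Opens.isBasis_iff_nbhd.mp X.isBasis_affineOpens
    (show x ∈ (⊤ : X.Opens) from trivial)
  rw [Scheme.IdealSheafData.mem_support_iff_of_mem (U := ⟨W₀, hW₀⟩) hxW₀,
    Scheme.mem_zeroLocus_iff] at hx
  push Not at hx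
  obtain ⟨s, hs, hxs⟩ := hx
  have hloc := hW₀.isLocalization_basicOpen s
  refine ⟨X.affineBasicOpen (U := ⟨W₀, hW₀⟩) s, hxs, 1, one_mem _, ?_⟩
  rw [Ideal.span_singleton_one, ← I.map_ideal_basicOpen ⟨W₀, hW₀⟩ s]
  have hu : IsUnit (algebraMap Γ(X, W₀) Γ(X, X.basicOpen s) s) :=
    IsLocalization.Away.algebraMap_isUnit s
  have hmem : algebraMap Γ(X, W₀) Γ(X, X.basicOpen s) s ∈
      (I.ideal ⟨W₀, hW₀⟩).map (algebraMap Γ(X, W₀) Γ(X, X.basicOpen s)) :=
    Ideal.mem_map_of_mem _ hs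
  exact Ideal.eq_top_of_isUnit_mem _ hmem hu

/-- An ideal sheaf on an affine scheme with global ideal generated by a nonzerodivisor is effective
Cartier. -/
theorem isEffCartierIdeal_of_top {X : Scheme.{u}} [IsAffine X] (I : X.IdealSheafData)
    (f : Γ(X, ⊤)) (hf : f ∈ nonZeroDivisors Γ(X, ⊤))
    (hI : I.ideal ⟨⊤, isAffineOpen_top X⟩ = Ideal.span {f}) : BlowUp.IsEffCartierIdeal I :=
  fun _ => ⟨⟨⊤, isAffineOpen_top X⟩, trivial, f, hf, hI⟩

end Groth.Agent.LibCartierDescentSch29
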