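import Groth.Prelude.Def_AlgSpSub
import Groth.Agent.LibAlgSpCartier29d
import Groth.Agent.LibCartierDescentSch29b
import Groth.Agent.Lib.Helper11.AlgSpBasic

/-!
# Effective Cartier divisors on algebraic spaces: the pointed affine form (helper29)
-/

set_option autoImplicit false
universe u
open CategoryTheory CategoryTheory.Limits AlgebraicGeometry
open AlgSp

namespace Groth.Agent.LibAlgSpCartier29

variable {S : Scheme.{u}}

/-- (2) ⇒ (4): pointed affine charts of an effective Cartier divisor. -/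
theorem exists_affine_chart_of_isEffCartierSub {F D : Sp S} {i : D ⟶ F} (hD : IsEffCartierSub i)
    (y : Points F) :
    ∃ (U : Over S) (_ : IsAffine U.left) (a : (yon S).obj U ⟶ F) (u : ↥U.left)
      (f : Γ(U.left, ⊤)) (I : U.left.IdealSheafData)
      (fst : (yon S).obj (Over.mk (I.subschemeι ≫ U.hom)) ⟶ D),
      RepWith @Etale a ∧ Points.ofPt a u = y ∧
        f ∈ nonZeroDivisors Γ(U.left, ⊤) ∧
        I.ideal ⟨⊤, isAffineOpen_top U.left⟩ = Ideal.span {f} ∧
        IsPullback fst ((yon S).map (Over.homMk I.subschemeι rfl :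
          Over.mk (I.subschemeι ≫ U.hom) ⟶ U)) i a := by
  obtain ⟨-, V, φ, IV, fstV, hVe, hVs, sqV, hIV⟩ := hD
  obtain ⟨v, hv⟩ := Groth.Agent.Lib.helper11.surjective_ofPt φ hVs y
  obtain ⟨V₀, hvV₀, f₀, hf₀, hI₀⟩ := hIV v
  haveI : IsAffine (V₀.1 : Scheme.{u}) := V₀.2
  obtain ⟨hae, hau⟩ := Groth.Agent.Lib.helper11.chart_comp φ hVe V₀.1.ι
  obtain ⟨fst', sq'⟩ := isPullback_comap_chart sqV
    (Over.homMk (U := Over.mk (V₀.1.ι ≫ V.hom)) V₀.1.ι rfl : Over.mk (V₀.1.ι ≫ V.hom) ⟶ V)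
  have e : (⊤ : (V₀.1 : Scheme.{u}).Opens) ≤ V₀.1.ι ⁻¹ᵁ V₀.1 := by
    intro z _
    exact z.2
  refine ⟨Over.mk (V₀.1.ι ≫ V.hom), V₀.2, _, ⟨v, hvV₀⟩, (V₀.1.ι.appLE V₀.1 ⊤ e).hom f₀,
    IV.comap V₀.1.ι, fst', hae, ?_, ?_, ?_, sq'⟩
  · rw [hau]; exact hv
  · exact Groth.Agent.Lib.helper16.EffCartier.map_mem_nonZeroDivisors_of_flat _
      (HasRingHomProperty.appLE (P := @Flat) V₀.1.ι inferInstance V₀
        ⟨⊤, isAffineOpen_top _⟩ e) hf₀
  · rw [Groth.Agent.Lib.helper7.IdealComap.ideal_comap V₀.1.ι IV V₀.2 (isAffineOpen_top _) e, hI₀,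
      Ideal.map_span, Set.image_singleton]
    rfl

/-- (4) ⇒ (2): a closed subspace which is cut out by a nonzerodivisor in affine étale charts through
every point of the subspace is an effective Cartier divisor. -/
theorem isEffCartierSub_of_affine_charts {F D : Sp S} (hF : IsAlgSpace F) {i : D ⟶ F}
    (hi : RepWith @IsClosedImmersion i)
    (h : ∀ x : Points D,
      ∃ (U : Over S) (_ : IsAffine U.left) (a : (yon S).obj U ⟶ F) (u : ↥U.left)
        (f : Γ(U.left, ⊤)) (I : U.left.IdealSheafData)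
        (fst : (yon S).obj (Over.mk (I.subschemeι ≫ U.hom)) ⟶ D),
        RepWith @Etale a ∧ Points.ofPt a u = Points.map i x ∧
          f ∈ nonZeroDivisors Γ(U.left, ⊤) ∧
          I.ideal ⟨⊤, isAffineOpen_top U.left⟩ = Ideal.span {f} ∧
          IsPullback fst ((yon S).map (Over.homMk I.subschemeι rfl :
            Over.mk (I.subschemeι ≫ U.hom) ⟶ U)) i a) : IsEffCartierSub i := by
  obtain ⟨V, φ, hφe, hφs⟩ := hF.atlas
  obtain ⟨I₀, fst₀, sq₀⟩ := exists_ideal_chart hi φ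
  refine ⟨hi, V, φ, I₀, fst₀, hφe, hφs, sq₀, ?_⟩
  intro v
  by_cases hv : v ∈ I₀.support
  · rw [← SetLike.mem_coe, ← I₀.range_subschemeι] at hv
    obtain ⟨z, hz⟩ := hv
    have hx : Points.map i (Points.ofPt fst₀ z) = Points.ofPt φ v := by
      rw [Points.map_ofPt, sq₀.w, Groth.Agent.Lib.helper11.ofPt_yon_map_comp]
      exact congrArg _ hz
    obtain ⟨U, hU, a, u, f, I, fst, hae, hau, hf, hIf, sq⟩ := h (Points.ofPt fst₀ z)
    rw [hx] at hau
    obtain ⟨W, w, w'', sqW⟩ := hae.1 φ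
    obtain ⟨w', rfl⟩ := (yon S).map_surjective w''
    haveI hwe : Etale w.left := hae.2 _ _ _ sqW
    haveI hw'e : Etale w'.left := hφe.2 _ _ _ sqW.flip
    obtain ⟨pt, hpt1, hpt2⟩ := Groth.Agent.Lib.helper11.exists_of_isPullback_schemes sqW u v hau
    obtain ⟨f₁, sq₁⟩ := isPullback_comap_chart sq w'
    obtain ⟨f₂, sq₂⟩ := isPullback_comap_chart sq₀ w
    rw [sqW.w] at sq₁
    have heq : I.comap w'.left = I₀.comap w.left := ideal_eq_of_isPullback sq₁ sq₂
    have hI : BlowUp.IsEffCartierIdeal I :=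
      Groth.Agent.LibCartierDescentSch29.isEffCartierIdeal_of_top I f hf hIf
    have h1 : BlowUp.IsEffCartierIdeal (I₀.comap w.left) := by
      rw [← heq]
      exact Groth.Agent.Lib.helper16.EffCartier.isEffCartier_comap_of_flat I hI w'.left
    have := Groth.Agent.LibCartierDescentSch29.exists_principal_of_comap w.left I₀ h1 pt
    rw [hpt2] at this
    exact this
  · exact Groth.Agent.LibCartierDescentSch29.exists_principal_of_notMem_support I₀ v hv

end Groth.Agent.LibAlgSpCartier29
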