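import Mathlib
import Groth.Prelude.Def_BlowUp2
import Groth.Agent.LibCartierDescentSch29b

/-!
# Factors of an effective Cartier ideal (helper29)

* ring level: `A * B = (f)`, `f` a nonzerodivisor ⇒ around every prime `A` is generated by one
  nonzerodivisor.
* `isEffCartier_of_mul_left/right`: if `A * B` is an effective Cartier ideal sheaf then so are `A`
  and `B`.
-/

set_option autoImplicit false
universe u
open CategoryTheory CategoryTheory.Limits AlgebraicGeometry TopologicalSpace Opposite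

namespace Groth.Agent.LibCartierMul29

section Ring

variable {R : Type u} [CommRing R]

/-- generic: a multiplier `s` with `s J ⊆ (j₀)` and `j₀ r = 0 → s r = 0` makes `J` principal,
generated by a nonzerodivisor, after inverting `s`. -/
theorem map_eq_span_and_mem_nonZeroDivisors_of_mul (J : Ideal R) (s j₀ : R) (hj₀ : j₀ ∈ J)
    (hs : ∀ y ∈ J, s * y ∈ Ideal.span {j₀}) (hreg : ∀ r, j₀ * r = 0 → s * r = 0)
    (Rs : Type u) [CommRing Rs] [Algebra R Rs] [IsLocalization.Away s Rs] :
    J.map (algebraMap R Rs) = Ideal.span {algebraMap R Rs j₀} ∧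
      algebraMap R Rs j₀ ∈ nonZeroDivisors Rs := by
  have hunit : IsUnit (algebraMap R Rs s) := IsLocalization.Away.algebraMap_isUnit s
  constructor
  · apply le_antisymm
    · rw [Ideal.map_le_iff_le_comap]
      intro y hy
      rw [Ideal.mem_comap]
      have h1 : algebraMap R Rs (s * y) ∈ Ideal.span {algebraMap R Rs j₀} := by
        have := Ideal.mem_map_of_mem (algebraMap R Rs) (hs y hy)
        rwa [Ideal.map_span, Set.image_singleton] at this
      rw [map_mul] at h1
      obtain ⟨u, hu⟩ := hunit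
      have : algebraMap R Rs y = (↑u⁻¹ : Rs) * (algebraMap R Rs s * algebraMap R Rs y) := by
        rw [← hu, ← mul_assoc, Units.inv_mul, one_mul]
      rw [this]
      exact Ideal.mul_mem_left _ _ h1
    · rw [Ideal.span_le, Set.singleton_subset_iff]
      exact Ideal.mem_map_of_mem _ hj₀
  · rw [mem_nonZeroDivisors_iff_right]
    intro a ha
    obtain ⟨a₀, m, rfl⟩ := IsLocalization.exists_mk'_eq (Submonoid.powers s) a
    rw [IsLocalization.mk'_eq_zero_iff]
    have h0 : algebraMap R Rs (a₀ * j₀) = 0 := by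
      have := congrArg (fun z => algebraMap R Rs (m : R) * z) ha
      simp only [mul_zero] at this
      rw [← mul_assoc, IsLocalization.mk'_spec'] at this
      rw [map_mul]; exact this
    obtain ⟨⟨_, N, rfl⟩, hN⟩ := (IsLocalization.map_eq_zero_iff (Submonoid.powers s) Rs _).mp h0
    have h1 : j₀ * (s ^ N * a₀) = 0 := by
      rw [← hN]; ring
    have h2 : s * (s ^ N * a₀) = 0 := hreg _ h1
    exact ⟨⟨s ^ (N + 1), N + 1, rfl⟩, by rw [← h2]; ring⟩

/-- `A * B = (f)` with `f` a nonzerodivisor: around a prime `p` the factor `A` is generated by one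
element up to a multiplier outside `p`. -/
theorem exists_multiplier_of_mul_eq_span (A B : Ideal R) (f : R) (hf : f ∈ nonZeroDivisors R)
    (hAB : A * B = Ideal.span {f}) (p : Ideal R) [p.IsPrime] :
    ∃ c : R, c ∉ p ∧ ∃ a₀ ∈ A, (∀ a ∈ A, c * a ∈ Ideal.span {a₀}) ∧
      ∀ r, a₀ * r = 0 → c * r = 0 := by
  have hmem : ∀ a ∈ A, ∀ b ∈ B, ∃ c, c * f = a * b := fun a ha b hb =>
    Ideal.mem_span_singleton'.mp (hAB ▸ Ideal.mul_mem_mul ha hb)
  obtain ⟨a₀, ha₀, b₀, hb₀, c, hc, hcp⟩ : ∃ a₀ ∈ A, ∃ b₀ ∈ B, ∃ c, c * f = a₀ * b₀ ∧ c ∉ p := by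
    by_contra hcon
    push Not at hcon
    have hle : A * B ≤ p * Ideal.span {f} := by
      rw [Ideal.mul_le]
      intro a ha b hb
      obtain ⟨c, hc⟩ := hmem a ha b hb
      rw [← hc]
      exact Ideal.mul_mem_mul (hcon a ha b hb c hc) (Ideal.subset_span rfl)
    have hfmem : f ∈ p * Ideal.span {f} := hle (hAB ▸ Ideal.subset_span rfl)
    obtain ⟨z, hz, hzf⟩ := Ideal.mem_mul_span_singleton.mp hfmem
    have : z = 1 := by
      have h1 : z * f = 1 * f := by rw [hzf, one_mul]
      exact (mul_cancel_right_mem_nonZeroDivisors hf).mp h1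
    exact ‹p.IsPrime›.ne_top ((Ideal.eq_top_iff_one _).mpr (this ▸ hz))
  refine ⟨c, hcp, a₀, ha₀, fun a ha => ?_, fun r hr => ?_⟩
  · obtain ⟨d, hd⟩ := hmem a ha b₀ hb₀
    rw [Ideal.mem_span_singleton']
    refine ⟨d, ?_⟩
    have : (d * a₀) * f = (c * a) * f := by
      calc (d * a₀) * f = a₀ * (d * f) := by ring
        _ = a₀ * (a * b₀) := by rw [hd]
        _ = a * (a₀ * b₀) := by ring
        _ = a * (c * f) := by rw [hc]
        _ = (c * a) * f := by ring
    exact (mul_cancel_right_mem_nonZeroDivisors hf).mp this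
  · have : (c * r) * f = 0 * f := by
      calc (c * r) * f = r * (c * f) := by ring
        _ = r * (a₀ * b₀) := by rw [hc]
        _ = (a₀ * r) * b₀ := by ring
        _ = 0 * f := by rw [hr, zero_mul, zero_mul]
    exact (mul_cancel_right_mem_nonZeroDivisors hf).mp this

end Ring

/-- If a product of ideal sheaves is effective Cartier, so is the left factor. -/
theorem isEffCartier_of_mul_left {X : Scheme.{u}} {A B : X.IdealSheafData}
    (h : BlowUp.IsEffCartierIdeal (A * B)) : BlowUp.IsEffCartierIdeal A := by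
  intro x
  obtain ⟨W, hxW, f, hf, hW⟩ := h x
  have hAB : A.ideal W * B.ideal W = Ideal.span {f} := hW
  obtain ⟨c, hc, a₀, ha₀, hmul, hreg⟩ := exists_multiplier_of_mul_eq_span (A.ideal W) (B.ideal W)
    f hf hAB (W.2.primeIdealOf ⟨x, hxW⟩).asIdeal
  have hloc := W.2.isLocalization_basicOpen c
  obtain ⟨hgen, hnzd⟩ := map_eq_span_and_mem_nonZeroDivisors_of_mul (A.ideal W) c a₀ ha₀ hmul hreg
    Γ(X, X.basicOpen c)
  refine ⟨X.affineBasicOpen c, ?_, algebraMap Γ(X, W.1) Γ(X, X.basicOpen c) a₀, hnzd, ?_⟩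
  · exact (Groth.Agent.LibCartierDescentSch29.mem_basicOpen_iff_notMem_primeIdealOf W.2 c
      ⟨x, hxW⟩).mpr hc
  · rw [← A.map_ideal_basicOpen W c]
    exact hgen

/-- If a product of ideal sheaves is effective Cartier, so is the right factor. -/
theorem isEffCartier_of_mul_right {X : Scheme.{u}} {A B : X.IdealSheafData}
    (h : BlowUp.IsEffCartierIdeal (A * B)) : BlowUp.IsEffCartierIdeal B := by
  rw [mul_comm] at h
  exact isEffCartier_of_mul_left h

end Groth.Agent.LibCartierMul29
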