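import Groth.Prelude.Def_AlgSpSub
import Groth.Prelude.Def_AlgSpModX
import Groth.Agent.LibAlgSpCartier29e
import Groth.Agent.LibCartierMul29

/-!
# Ideal sheaves on the small étale site vs. ideal sheaves on charts (helper29)

* `idealOfRep_ideal_eq`: the value of `AlgSp.idealOfRep` on an affine object of the small étale site
  is the ideal of global sections of any ideal sheaf cutting out the inverse image.
* `ideal_chart_mul`: on a chart, the ideal sheaf of the closed subspace cut out by `I * J` is the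
  product of the ideal sheaves of the subspaces cut out by `I` and `J`.
-/

set_option autoImplicit false
set_option backward.isDefEq.respectTransparency false
universe u
open CategoryTheory CategoryTheory.Limits AlgebraicGeometry
open AlgSp

namespace Groth.Agent.LibAlgSpCartier29

variable {S : Scheme.{u}}

/-- The kernel ideal of the chosen base change agrees with the global ideal of any ideal sheaf
cutting out the inverse image. -/
theorem idealOfRep_ideal_eq {F D : Sp S} {i : D ⟶ F} (hi : Representable i) (E : EtOver F)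
    (hE : IsAffine E.obj.left.left) (I : E.obj.left.left.IdealSheafData)
    (fst : (yon S).obj (Over.mk (I.subschemeι ≫ E.obj.left.hom)) ⟶ D)
    (sq : IsPullback fst ((yon S).map (Over.homMk I.subschemeι rfl :
      Over.mk (I.subschemeι ≫ E.obj.left.hom) ⟶ E.obj.left)) i E.obj.hom) :
    (idealOfRep hi).ideal E hE = I.ideal ⟨⊤, isAffineOpen_top _⟩ := by
  have sq' := hi.isPullback E.obj.hom
  let e := sq'.isoIsPullback _ _ sq
  have he : e.hom ≫ (yon S).map (Over.homMk I.subschemeι rfl :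
      Over.mk (I.subschemeι ≫ E.obj.left.hom) ⟶ E.obj.left) = (yon S).map (hi.snd E.obj.hom) :=
    sq'.isoIsPullback_hom_snd _ _ sq
  let e' := (yon S).preimageIso e
  have he' : e'.hom ≫ (Over.homMk I.subschemeι rfl :
      Over.mk (I.subschemeι ≫ E.obj.left.hom) ⟶ E.obj.left) = hi.snd E.obj.hom := by
    apply (yon S).map_injective
    rw [Functor.map_comp, Functor.preimageIso_hom, Functor.map_preimage]
    exact he
  have h3 : e'.hom.left ≫ I.subschemeι = (hi.snd E.obj.hom).left := by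
    have := congrArg (fun z => z.left) he'
    simpa using this
  haveI : IsIso e'.hom.left := (Over.forget S).map_isIso e'.hom
  show RingHom.ker (hi.snd E.obj.hom).left.appTop.hom = _
  rw [← h3, Scheme.Hom.comp_appTop, CommRingCat.hom_comp]
  have hinj : Function.Injective e'.hom.left.appTop.hom :=
    ((ConcreteCategory.isIso_iff_bijective e'.hom.left.appTop).mp inferInstance).1
  rw [RingHom.ker_comp_of_injective _ hinj]
  conv_rhs => rw [← I.ker_subschemeι]
  rw [Scheme.Hom.ker_apply]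

/-- The value of `idealOfRep` on an affine object of the small étale site factoring through a chart,
in terms of the ideal sheaf of the inverse image in the chart. -/
theorem idealOfRep_chart' {F D : Sp S} {i : D ⟶ F} (hi : Representable i) (E : EtOver F)
    (hE : IsAffine E.obj.left.left) {V : Over S}
    {φ : (yon S).obj V ⟶ F} {IV : V.left.IdealSheafData}
    {fstV : (yon S).obj (Over.mk (IV.subschemeι ≫ V.hom)) ⟶ D}
    (sqV : IsPullback fstV ((yon S).map (Over.homMk IV.subschemeι rfl :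
      Over.mk (IV.subschemeι ≫ V.hom) ⟶ V)) i φ) (j : E.obj.left ⟶ V)
    (hj : (yon S).map j ≫ φ = E.obj.hom) :
    (idealOfRep hi).ideal E hE = (IV.comap j.left).ideal ⟨⊤, isAffineOpen_top _⟩ := by
  obtain ⟨fst', sq'⟩ := isPullback_comap_chart sqV j
  rw [hj] at sq'
  exact idealOfRep_ideal_eq hi E hE (IV.comap j.left) fst' sq'

/-- The object of the small étale site given by an affine open of a chart. -/
noncomputable abbrev chartObj {F : Sp S} {V : Over S} (φ : (yon S).obj V ⟶ F)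
    (hφ : RepWith @Etale φ) (W : V.left.affineOpens) : EtOver F :=
  EtOver.mk ((yon S).map (Over.homMk (U := Over.mk (W.1.ι ≫ V.hom)) W.1.ι rfl) ≫ φ)
    (Groth.Agent.Lib.helper11.chart_comp φ hφ W.1.ι).1

theorem idealOfRep_chart {F D : Sp S} {i : D ⟶ F} (hi : Representable i) {V : Over S}
    {φ : (yon S).obj V ⟶ F} (hφ : RepWith @Etale φ) {IV : V.left.IdealSheafData}
    {fstV : (yon S).obj (Over.mk (IV.subschemeι ≫ V.hom)) ⟶ D}
    (sqV : IsPullback fstV ((yon S).map (Over.homMk IV.subschemeι rfl :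
      Over.mk (IV.subschemeι ≫ V.hom) ⟶ V)) i φ) (W : V.left.affineOpens) :
    (idealOfRep hi).ideal (chartObj φ hφ W) W.2 =
      (IV.ideal W).map (W.1.ι.appLE W.1 ⊤ W.1.ι_preimage_self.ge).hom := by
  haveI : IsAffine (W.1 : Scheme.{u}) := W.2
  have h1 := idealOfRep_chart' hi (chartObj φ hφ W) W.2 sqV
    (Over.homMk (U := Over.mk (W.1.ι ≫ V.hom)) W.1.ι rfl) rfl
  have h2 := Groth.Agent.Lib.helper7.IdealComap.ideal_comap W.1.ι IV W.2 (isAffineOpen_top _)
    W.1.ι_preimage_self.ge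
  exact h1.trans h2

/-- On a chart, the ideal sheaf of the closed subspace cut out by `I * J` is the product of the
ideal sheaves of the closed subspaces cut out by `I` and `J`. -/
theorem ideal_chart_mul {F Z Y D : Sp S} {iZ : Z ⟶ F} {iY : Y ⟶ F} {iD : D ⟶ F}
    {I J : IdealEt F} (hZ : IsCutOutBy I iZ) (hY : IsCutOutBy J iY) (hD : IsCutOutBy (I * J) iD)
    {V : Over S} {φ : (yon S).obj V ⟶ F} (hφ : RepWith @Etale φ)
    {IZ IY ID : V.left.IdealSheafData}
    {fZ : (yon S).obj (Over.mk (IZ.subschemeι ≫ V.hom)) ⟶ Z}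
    {fY : (yon S).obj (Over.mk (IY.subschemeι ≫ V.hom)) ⟶ Y}
    {fD : (yon S).obj (Over.mk (ID.subschemeι ≫ V.hom)) ⟶ D}
    (sqZ : IsPullback fZ ((yon S).map (Over.homMk IZ.subschemeι rfl :
      Over.mk (IZ.subschemeι ≫ V.hom) ⟶ V)) iZ φ)
    (sqY : IsPullback fY ((yon S).map (Over.homMk IY.subschemeι rfl :
      Over.mk (IY.subschemeι ≫ V.hom) ⟶ V)) iY φ)
    (sqD : IsPullback fD ((yon S).map (Over.homMk ID.subschemeι rfl :
      Over.mk (ID.subschemeι ≫ V.hom) ⟶ V)) iD φ) : ID = IZ * IY := by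
  obtain ⟨hZ', rfl⟩ := hZ
  obtain ⟨hY', rfl⟩ := hY
  obtain ⟨hD', hDeq⟩ := hD
  apply Scheme.IdealSheafData.ext
  funext W
  have h1 := idealOfRep_chart hZ'.1 hφ sqZ W
  have h2 := idealOfRep_chart hY'.1 hφ sqY W
  have h3 := idealOfRep_chart hD'.1 hφ sqD W
  rw [hDeq, IdealEt.mul_ideal, h1, h2, ← Ideal.map_mul] at h3
  show ID.ideal W = IZ.ideal W * IY.ideal W
  have hbij : Function.Bijective (W.1.ι.appLE W.1 ⊤ W.1.ι_preimage_self.ge).hom :=
    (ConcreteCategory.isIso_iff_bijective _).mp inferInstance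
  have := congrArg (Ideal.comap (W.1.ι.appLE W.1 ⊤ W.1.ι_preimage_self.ge).hom) h3
  rw [Ideal.comap_map_of_bijective _ hbij, Ideal.comap_map_of_bijective _ hbij] at this
  exact this.symm

/-- Sum of effective Cartier divisors on an algebraic space. -/
theorem isEffCartierSub_of_mul {F D₁ D₂ D : Sp S} (hF : IsAlgSpace F) {i₁ : D₁ ⟶ F} {i₂ : D₂ ⟶ F}
    {i : D ⟶ F} {I₁ I₂ : IdealEt F} (h₁ : IsCutOutBy I₁ i₁) (h₂ : IsCutOutBy I₂ i₂)
    (hD : IsCutOutBy (I₁ * I₂) i) (e₁ : IsEffCartierSub i₁) (e₂ : IsEffCartierSub i₂) :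
    IsEffCartierSub i := by
  obtain ⟨V, φ, hφe, hφs⟩ := hF.atlas
  obtain ⟨IV₁, f₁, sq₁⟩ := exists_ideal_chart h₁.1 φ
  obtain ⟨IV₂, f₂, sq₂⟩ := exists_ideal_chart h₂.1 φ
  obtain ⟨IV, f, sq⟩ := exists_ideal_chart hD.1 φ
  have hmul : IV = IV₁ * IV₂ := ideal_chart_mul h₁ h₂ hD hφe sq₁ sq₂ sq
  refine ⟨hD.1, V, φ, IV, f, hφe, hφs, sq, ?_⟩
  rw [hmul]
  exact Groth.Agent.Lib.helper16.EffCartier.isEffCartier_mul
    (isEffCartierIdeal_of_isEffCartierSub e₁ hφe sq₁)
    (isEffCartierIdeal_of_isEffCartierSub e₂ hφe sq₂)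

/-- The summands of an effective Cartier divisor which is a sum of closed subspaces are effective
Cartier divisors. -/
theorem isEffCartierSub_of_mul_isEffCartierSub {F Z Y D : Sp S} (hF : IsAlgSpace F) {iZ : Z ⟶ F}
    {iY : Y ⟶ F} {iD : D ⟶ F} {I J : IdealEt F} (hZ : IsCutOutBy I iZ) (hY : IsCutOutBy J iY)
    (hD : IsCutOutBy (I * J) iD) (hDc : IsEffCartierSub iD) :
    IsEffCartierSub iZ ∧ IsEffCartierSub iY := by
  obtain ⟨V, φ, hφe, hφs⟩ := hF.atlas
  obtain ⟨IZ, fZ, sqZ⟩ := exists_ideal_chart hZ.1 φ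
  obtain ⟨IY, fY, sqY⟩ := exists_ideal_chart hY.1 φ
  obtain ⟨ID, fD, sqD⟩ := exists_ideal_chart hD.1 φ
  have hmul : ID = IZ * IY := ideal_chart_mul hZ hY hD hφe sqZ sqY sqD
  have hID : BlowUp.IsEffCartierIdeal (IZ * IY) :=
    hmul ▸ isEffCartierIdeal_of_isEffCartierSub hDc hφe sqD
  exact ⟨⟨hZ.1, V, φ, IZ, fZ, hφe, hφs, sqZ,
      Groth.Agent.LibCartierMul29.isEffCartier_of_mul_left hID⟩,
    ⟨hY.1, V, φ, IY, fY, hφe, hφs, sqY,
      Groth.Agent.LibCartierMul29.isEffCartier_of_mul_right hID⟩⟩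

end Groth.Agent.LibAlgSpCartier29
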