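import Mathlib
import Groth.Prelude.Def_CAlg
import Groth.Agent.Lib.Helper24.FlatDepth5
import Groth.Agent.Lib.Helper26.Depth3

/-!
# Serre's condition `(S_k)` on a quotient by a nonzerodivisor (helper29)

`R` Noetherian local, `f ∈ 𝔪` a nonzerodivisor: `depth R/(f) + 1 = depth R`, `dim R/(f) + 1 ≤ dim R`, and
`min(k, dim R) ≤ depth R` implies `min(k-1, dim R/(f)) ≤ depth R/(f)`.
-/

set_option autoImplicit false
universe u
open IsLocalRing LocCoh
open scoped Pointwise

namespace Groth.Agent.LibCartierSk29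

variable (R : Type u) [CommRing R] [IsLocalRing R] [IsNoetherianRing R]

/-- `depth R/(f) + 1 = depth R` for a nonzerodivisor `f ∈ 𝔪`. -/
theorem depth_quotient_span_singleton_add_one (f : R) (hfm : f ∈ maximalIdeal R)
    (hf : f ∈ nonZeroDivisors R) [IsLocalRing (R ⧸ Ideal.span {f})] :
    depth (R ⧸ Ideal.span {f}) (R ⧸ Ideal.span {f}) + 1 = depth R R := by
  rw [← Groth.Agent.Lib.Helper24.FlatDepth.idealDepth_quotient_eq R (Ideal.span {f})]
  have hreg : IsSMulRegular R f := by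
    intro a b hab
    simp only [smul_eq_mul] at hab
    exact (mul_cancel_left_mem_nonZeroDivisors hf).mp hab
  have h1 := Groth.Agent.Lib.helper26.Depth.idealDepth_quotSMulTop_add_one (maximalIdeal R) R f hfm hreg
  have heq : (f • (⊤ : Submodule R R)) = Ideal.span {f} := by
    rw [← Submodule.ideal_span_singleton_smul f ⊤]
    simp
  have e : QuotSMulTop f R ≃ₗ[R] (R ⧸ Ideal.span {f}) := Submodule.quotEquivOfEq _ _ heq
  rw [← Groth.Agent.Lib.helper26.Depth.idealDepth_congr (I := maximalIdeal R) e]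
  exact h1

/-- `(S_k)` for `R` gives `(S_{k-1})` for a quotient of `R` by a nonzerodivisor of the maximal
ideal. -/
theorem sk_of_surjective_of_ker_eq_span (Q : Type u) [CommRing Q] [IsLocalRing Q] (φ : R →+* Q)
    (hφ : Function.Surjective φ) (f : R) (hf : f ∈ nonZeroDivisors R)
    (hker : RingHom.ker φ = Ideal.span {f}) (k : ℕ)
    (h : min ((k : ℕ) : WithBot ℕ∞) (ringKrullDim R) ≤ ((depth R R : ℕ∞) : WithBot ℕ∞)) :
    min ((k - 1 : ℕ) : WithBot ℕ∞) (ringKrullDim Q) ≤ ((depth Q Q : ℕ∞) : WithBot ℕ∞) := by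
  have hfm : f ∈ maximalIdeal R := by
    have : f ∈ RingHom.ker φ := hker ▸ Ideal.subset_span rfl
    exact IsLocalRing.le_maximalIdeal (RingHom.ker_ne_top φ) this
  let e : (R ⧸ Ideal.span {f}) ≃+* Q :=
    (Ideal.quotEquivOfEq hker.symm).trans (RingHom.quotientKerEquivOfSurjective hφ)
  haveI : IsLocalRing (R ⧸ Ideal.span {f}) := e.symm.isLocalRing
  haveI : IsNoetherianRing Q := isNoetherianRing_of_surjective R Q φ hφ
  have hdepth : depth Q Q + 1 = depth R R := by
    rw [Groth.Agent.Lib.Helper24.FlatDepth.depth_eq_of_ringEquiv e]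
    exact depth_quotient_span_singleton_add_one R f hfm hf
  have hdim : ringKrullDim Q + 1 ≤ ringKrullDim R := by
    rw [← ringKrullDim_eq_of_ringEquiv e]
    exact ringKrullDim_quotient_succ_le_of_nonZeroDivisor hf
  rw [← hdepth] at h
  -- arithmetic
  have hQ0 : (0 : WithBot ℕ∞) ≤ ringKrullDim Q := ringKrullDim_nonneg_of_nontrivial
  obtain ⟨d, hd⟩ : ∃ d : ℕ∞, ringKrullDim Q = (d : WithBot ℕ∞) := by
    obtain ⟨d, hd⟩ := WithBot.ne_bot_iff_exists.mp (ne_bot_of_le_ne_bot (by simp) hQ0)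
    exact ⟨d, hd.symm⟩
  rw [hd] at hdim ⊢
  have h2 : min ((k : ℕ) : WithBot ℕ∞) ((d + 1 : ℕ∞) : WithBot ℕ∞) ≤
      ((depth Q Q + 1 : ℕ∞) : WithBot ℕ∞) := by
    refine le_trans (min_le_min le_rfl ?_) h
    exact_mod_cast hdim
  have h3 : min ((k : ℕ) : ℕ∞) (d + 1) ≤ depth Q Q + 1 := by
    have : ((min ((k : ℕ) : ℕ∞) (d + 1) : ℕ∞) : WithBot ℕ∞) ≤ ((depth Q Q + 1 : ℕ∞) : WithBot ℕ∞) := by
      rw [WithBot.coe_min]
      exact_mod_cast h2
    exact_mod_cast this
  have h4 : min (((k - 1 : ℕ) : ℕ) : ℕ∞) d ≤ depth Q Q := by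
    rcases Nat.eq_zero_or_pos k with hk | hk
    · subst hk
      simp
    · have hk' : ((k : ℕ) : ℕ∞) = ((k - 1 : ℕ) : ℕ∞) + 1 := by
        have : k = (k - 1) + 1 := by omega
        conv_lhs => rw [this]
        push_cast
        rfl
      rw [hk', min_add_add_right] at h3
      exact (ENat.add_le_add_iff_right (by simp)).mp h3
  have h5 : ((min (((k - 1 : ℕ) : ℕ) : ℕ∞) d : ℕ∞) : WithBot ℕ∞) ≤ ((depth Q Q : ℕ∞) : WithBot ℕ∞) :=
    WithBot.coe_le_coe.mpr h4
  rw [WithBot.coe_min] at h5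
  exact h5

end Groth.Agent.LibCartierSk29
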