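import Mathlib
import Groth.Prelude.Def_BlowUp2
import Groth.Agent.LibCartierSk29
import Groth.Agent.Lib.Helper17.RegNear

/-!
# Serre's condition on an effective Cartier divisor of a scheme (helper29)
-/

set_option autoImplicit false
universe u
open CategoryTheory CategoryTheory.Limits AlgebraicGeometry TopologicalSpace Opposite

namespace Groth.Agent.LibCartierSkSch29

/-- A closed subscheme of a locally Noetherian scheme is locally Noetherian. -/
theorem isLocallyNoetherian_of_isClosedImmersion {X X₀ : Scheme.{u}} (j : X₀ ⟶ X)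
    [IsClosedImmersion j] [IsLocallyNoetherian X] : IsLocallyNoetherian X₀ := by
  refine isLocallyNoetherian_of_affine_cover
    (S := fun U : X.affineOpens => (⟨j ⁻¹ᵁ U.1, U.2.preimage j⟩ : X₀.affineOpens)) ?_ ?_
  · rw [eq_top_iff]
    rintro x -
    obtain ⟨_, ⟨U, hU, rfl⟩, hxU, -⟩ :=
      X.isBasis_affineOpens.exists_subset_of_mem_open (Set.mem_univ (j x)) isOpen_univ
    exact TopologicalSpace.Opens.mem_iSup.mpr ⟨⟨U, hU⟩, hxU⟩
  · intro U
    have := IsLocallyNoetherian.component_noetherian U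
    exact isNoetherianRing_of_surjective _ _ (j.app U.1).hom (j.app_surjective U.1 U.2)

/-- the stalk map of the closed subscheme of an effective Cartier ideal is surjective with kernel
generated by a nonzerodivisor. -/
theorem exists_ker_stalkMap_eq_span {U : Scheme.{u}} (I : U.IdealSheafData)
    (hI : BlowUp.IsEffCartierIdeal I) (z : I.subscheme) :
    Function.Surjective (I.subschemeι.stalkMap z).hom ∧
      ∃ f : U.presheaf.stalk (I.subschemeι z), f ∈ nonZeroDivisors (U.presheaf.stalk (I.subschemeι z)) ∧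
        RingHom.ker (I.subschemeι.stalkMap z).hom = Ideal.span {f} := by
  refine ⟨I.subschemeι.stalkMap_surjective z, ?_⟩
  obtain ⟨W, huW, f, hf, hW⟩ := hI (I.subschemeι z)
  have hker := Groth.Agent.Lib.helper17.RegNear.ker_stalkMap_eq_map I.subschemeι z W.1 W.2 huW
  letI := U.presheaf.algebra_section_stalk (⟨I.subschemeι z, huW⟩ : W.1)
  haveI ip : IsLocalization.AtPrime (U.presheaf.stalk (I.subschemeι z))
      (W.2.primeIdealOf ⟨I.subschemeι z, huW⟩).asIdeal := W.2.isLocalization_stalk ⟨I.subschemeι z, huW⟩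
  have hkerW : RingHom.ker (I.subschemeι.app W.1).hom = Ideal.span {f} := by
    rw [← hW]
    conv_rhs => rw [← I.ker_subschemeι]
    rw [Scheme.Hom.ker_apply]
  refine ⟨algebraMap Γ(U, W.1) (U.presheaf.stalk (I.subschemeι z)) f, ?_, ?_⟩
  · exact IsLocalization.map_nonZeroDivisors_le
      (W.2.primeIdealOf ⟨I.subschemeι z, huW⟩).asIdeal.primeCompl _ (Submonoid.mem_map_of_mem _ hf)
  · rw [← hker, hkerW, Ideal.map_span, Set.image_singleton]

/-- `(S_k)` on a locally Noetherian scheme gives `(S_{k-1})` on an effective Cartier divisor. -/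
theorem sk_subscheme {U : Scheme.{u}} [IsLocallyNoetherian U] (I : U.IdealSheafData)
    (hI : BlowUp.IsEffCartierIdeal I) (k : ℕ)
    (h : ∀ x : ↥U, min ((k : ℕ) : WithBot ℕ∞) (ringKrullDim ↥(U.presheaf.stalk x)) ≤
      ((LocCoh.depth ↥(U.presheaf.stalk x) ↥(U.presheaf.stalk x) : ℕ∞) : WithBot ℕ∞)) :
    IsLocallyNoetherian I.subscheme ∧ ∀ v : ↥I.subscheme,
      min ((k - 1 : ℕ) : WithBot ℕ∞) (ringKrullDim ↥(I.subscheme.presheaf.stalk v)) ≤
        ((LocCoh.depth ↥(I.subscheme.presheaf.stalk v) ↥(I.subscheme.presheaf.stalk v) : ℕ∞) :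
          WithBot ℕ∞) := by
  refine ⟨isLocallyNoetherian_of_isClosedImmersion I.subschemeι, fun v => ?_⟩
  obtain ⟨hsurj, f, hf, hker⟩ := exists_ker_stalkMap_eq_span I hI v
  exact Groth.Agent.LibCartierSk29.sk_of_surjective_of_ker_eq_span _ _ _ hsurj f hf hker k
    (h (I.subschemeι v))

end Groth.Agent.LibCartierSkSch29
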