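import Groth.Prelude.Def_AlgSpSub
import Groth.Prelude.Def_AlgSp2
import Groth.Agent.LibAlgSpCartier29d
import Groth.Agent.LibCartierSkSch29

/-!
# Étale-local properties of effective Cartier divisors on algebraic spaces (helper29)

`etaleLocally_of_isEffCartierSub`: a property of schemes which passes from a scheme to its effective
Cartier divisors passes from an algebraic space (étale-local sense) to its effective Cartier divisors.
-/

set_option autoImplicit false
universe u
open CategoryTheory CategoryTheory.Limits AlgebraicGeometry
open AlgSp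

namespace Groth.Agent.LibAlgSpCartier29

variable {S : Scheme.{u}}

theorem etaleLocally_of_isEffCartierSub {F D : Sp S} {i : D ⟶ F} (hD : IsEffCartierSub i)
    (P Q : Scheme.{u} → Prop)
    (hPQ : ∀ (U : Scheme.{u}) (I : U.IdealSheafData), BlowUp.IsEffCartierIdeal I → P U →
      Q I.subscheme) (hF : EtaleLocally P F) : EtaleLocally Q D := by
  obtain ⟨U, p, hpe, hps, hPU⟩ := hF
  obtain ⟨I, fst, sq⟩ := exists_ideal_chart hD.1 p
  have hI := isEffCartierIdeal_of_isEffCartierSub hD hpe sq
  exact ⟨Over.mk (I.subschemeι ≫ U.hom), fst,
    (RepWith (S := S) @Etale).of_isPullback sq.flip hpe,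
    (RepWith (S := S) @Surjective).of_isPullback sq.flip hps, hPQ U.left I hI hPU⟩

end Groth.Agent.LibAlgSpCartier29
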