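import Groth.Prelude.Def_AlgSpSub
import Groth.Prelude.Def_AlgSpModX
import Groth.Agent.LibAlgSpCartier29f
import Groth.Agent.Lib.Helper5.AlgSpEpi
import Groth.Agent.Lib.Helper7.AlgSpMono
import Groth.Agent.S10194

/-!
# Closed subspaces and inclusions of ideal sheaves (helper29)

* `exists_factor_of_chart`: a morphism to the target of a monomorphism which factors after a locally
  surjective chart factors.
* `le_iff_factors`: for closed subspaces cut out by ideal sheaves, `I ≤ I'` iff `Z' ⟶ X` factors
  through `Z ⟶ X`.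
-/

set_option autoImplicit false
set_option backward.isDefEq.respectTransparency false
universe u
open CategoryTheory CategoryTheory.Limits AlgebraicGeometry
open AlgSp

namespace Groth.Agent.LibAlgSpCartier29

variable {S : Scheme.{u}}

/-- Factoring through a monomorphism can be checked after a locally surjective map. -/
theorem exists_factor_of_locallySurjective {Z Z' X A : Sp S} (i : Z ⟶ X) [Mono i] (i' : Z' ⟶ X)
    (e : A ⟶ Z') (he : Sheaf.IsLocallySurjective e) (ψ : A ⟶ Z) (hψ : ψ ≫ i = e ≫ i') :
    ∃ k : Z' ⟶ Z, k ≫ i = i' := by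
  have sq : IsPullback (pullback.fst i i') (pullback.snd i i') i i' := IsPullback.of_hasPullback _ _
  haveI : Mono (pullback.snd i i') := inferInstance
  have hl : sq.lift ψ e hψ ≫ pullback.snd i i' = e := sq.lift_snd _ _ _
  haveI : Sheaf.IsLocallySurjective (pullback.snd i i') := by
    haveI : Presheaf.IsLocallySurjective (AlgSp.J S) e.hom := he
    have fac : (sq.lift ψ e hψ).hom ≫ (pullback.snd i i').hom = e.hom :=
      congrArg (fun z => z.hom) hl
    exact Presheaf.isLocallySurjective_of_isLocallySurjective_fac (AlgSp.J S) fac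
  haveI : Epi (pullback.snd i i') := inferInstance
  haveI : IsIso (pullback.snd i i') := isIso_of_mono_of_epi _
  exact ⟨inv (pullback.snd i i') ≫ pullback.fst i i', by
    rw [Category.assoc, sq.w, IsIso.inv_hom_id_assoc]⟩

theorem mono_of_closedImmersion' {F G : Sp S} {j : F ⟶ G} (hj : RepWith @IsClosedImmersion j) :
    Mono j :=
  Groth.Agent.Lib.helper7.mono_of_repWith (fun _ _ f hf => by
    have : IsClosedImmersion f := hf
    exact MorphismProperty.monomorphisms.infer_property f) hj

/-- For closed subspaces cut out by ideal sheaves: `I ≤ I'` iff `Z' ⟶ X` factors through `Z ⟶ X`. -/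
theorem idealEt_le_iff_factors {X Z Z' : Sp S} (hX : IsAlgSpace X) {i : Z ⟶ X} {i' : Z' ⟶ X}
    {I I' : IdealEt X} (h : IsCutOutBy I i) (h' : IsCutOutBy I' i') :
    I ≤ I' ↔ ∃ k : Z' ⟶ Z, k ≫ i = i' := by
  constructor
  · intro hle
    obtain ⟨U, q, hqe, hqs⟩ := hX.atlas
    obtain ⟨J, fst, sq⟩ := exists_ideal_chart h.1 q
    obtain ⟨J', fst', sq'⟩ := exists_ideal_chart h'.1 q
    obtain ⟨hi, hIeq⟩ := h
    obtain ⟨hi', hI'eq⟩ := h'
    have hJ : J ≤ J' := by
      intro W
      have h1 := idealOfRep_chart hi.1 hqe sq W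
      have h2 := idealOfRep_chart hi'.1 hqe sq' W
      have h3 := hle (chartObj q hqe W) W.2
      rw [← hIeq, ← hI'eq, h1, h2] at h3
      have hbij : Function.Bijective (W.1.ι.appLE W.1 ⊤ W.1.ι_preimage_self.ge).hom :=
        (ConcreteCategory.isIso_iff_bijective _).mp inferInstance
      have := Ideal.comap_mono (f := (W.1.ι.appLE W.1 ⊤ W.1.ι_preimage_self.ge).hom) h3
      rwa [Ideal.comap_map_of_bijective _ hbij, Ideal.comap_map_of_bijective _ hbij] at this
    haveI := mono_of_closedImmersion' hi
    have hw : Scheme.IdealSheafData.inclusion hJ ≫ J.subschemeι = J'.subschemeι :=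
      Scheme.IdealSheafData.inclusion_subschemeι hJ
    let incl : Over.mk (J'.subschemeι ≫ U.hom) ⟶ Over.mk (J.subschemeι ≫ U.hom) :=
      Over.homMk (Scheme.IdealSheafData.inclusion hJ) (by
        dsimp
        rw [← Category.assoc, hw])
    have hincl : incl ≫ (Over.homMk J.subschemeι rfl : Over.mk (J.subschemeι ≫ U.hom) ⟶ U) =
        (Over.homMk J'.subschemeι rfl : Over.mk (J'.subschemeι ≫ U.hom) ⟶ U) := by
      apply Over.OverMorphism.ext
      simp only [Over.comp_left, Over.homMk_left]
      exact hw
    have hfe : RepWith @Etale fst' := (RepWith (S := S) @Etale).of_isPullback sq'.flip hqe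
    have hfs : RepWith @Surjective fst' := (RepWith (S := S) @Surjective).of_isPullback sq'.flip hqs
    have he : Sheaf.IsLocallySurjective fst' :=
      Groth.Agent.S9885.result S _ _ fst'
        (Groth.Agent.S10194.repWith_mono (fun _ _ g hg => by
          have : Etale g := hg
          exact (inferInstance : Flat g)) hfe)
        (Groth.Agent.S10194.repWith_mono (fun _ _ g hg => by
          have : Etale g := hg
          exact (inferInstance : LocallyOfFinitePresentation g)) hfe) hfs
    refine exists_factor_of_locallySurjective i i' fst' he ((yon S).map incl ≫ fst) ?_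
    rw [Category.assoc, sq.w, ← Category.assoc, ← Functor.map_comp, hincl, sq'.w]
  · rintro ⟨k, hk⟩
    obtain ⟨hi, rfl⟩ := h
    obtain ⟨hi', rfl⟩ := h'
    intro E hE a ha
    rw [mem_idealOfRep_iff] at ha ⊢
    have hcomm : (hi'.1.fst E.obj.hom ≫ k) ≫ i = (yon S).map (hi'.1.snd E.obj.hom) ≫ E.obj.hom := by
      rw [Category.assoc, hk, hi'.1.w]
    have hl : hi.1.lift (hi'.1.fst E.obj.hom ≫ k) (hi'.1.snd E.obj.hom) hcomm ≫
        hi.1.snd E.obj.hom = hi'.1.snd E.obj.hom := hi.1.lift_snd _ _ _
    have h2 := congrArg (fun z => z.left.appTop.hom a) hl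
    simp only [Over.comp_left, Scheme.Hom.comp_appTop, CommRingCat.hom_comp,
      RingHom.comp_apply] at h2
    have ha' : (hi.1.snd E.obj.hom).left.appTop.hom a = 0 := ha
    rw [ha', map_zero] at h2
    exact h2.symm

end Groth.Agent.LibAlgSpCartier29
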