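import Groth.Prelude.Def_AlgSpSub
import Groth.Prelude.Def_AlgSpModX
import Groth.Agent.LibAlgSpCartier29h

/-!
# Morphisms from schemes factoring through a closed subspace (helper29)

* `idealOfRep_ideal_eq_ker`: the value of `AlgSp.idealOfRep` on an affine object of the small étale
  site is the kernel of pullback of functions along the projection of ANY pullback square.
* `factors_iff_le_idealOfRep`: `h : h_T ⟶ X` factors through the closed subspace cut out by `I`
  iff `I ≤ idealOfRep hh`.
-/

set_option autoImplicit false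
set_option backward.isDefEq.respectTransparency false
universe u
open CategoryTheory CategoryTheory.Limits AlgebraicGeometry
open AlgSp

namespace Groth.Agent.LibAlgSpCartier29

variable {S : Scheme.{u}}

/-- The kernel ideal of the chosen base change agrees with the kernel for any pullback square. -/
theorem idealOfRep_ideal_eq_ker {F D : Sp S} {i : D ⟶ F} (hi : Representable i) (E : EtOver F)
    (hE : IsAffine E.obj.left.left) {P : Over S} (a' : (yon S).obj P ⟶ D) (b : P ⟶ E.obj.left)
    (sq : IsPullback a' ((yon S).map b) i E.obj.hom) :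
    (idealOfRep hi).ideal E hE = RingHom.ker b.left.appTop.hom := by
  have sq' := hi.isPullback E.obj.hom
  let e := sq'.isoIsPullback _ _ sq
  have he : e.hom ≫ (yon S).map b = (yon S).map (hi.snd E.obj.hom) :=
    sq'.isoIsPullback_hom_snd _ _ sq
  let e' := (yon S).preimageIso e
  have he' : e'.hom ≫ b = hi.snd E.obj.hom := by
    apply (yon S).map_injective
    rw [Functor.map_comp, Functor.preimageIso_hom, Functor.map_preimage]
    exact he
  have h3 : e'.hom.left ≫ b.left = (hi.snd E.obj.hom).left := by
    have := congrArg (fun z => z.left) he'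
    simpa using this
  haveI : IsIso e'.hom.left := (Over.forget S).map_isIso e'.hom
  show RingHom.ker (hi.snd E.obj.hom).left.appTop.hom = _
  rw [← h3, Scheme.Hom.comp_appTop, CommRingCat.hom_comp]
  have hinj : Function.Injective e'.hom.left.appTop.hom :=
    ((ConcreteCategory.isIso_iff_bijective e'.hom.left.appTop).mp inferInstance).1
  rw [RingHom.ker_comp_of_injective _ hinj]

/-- Restriction of a morphism of schemes over `S` to an open of the target, as a pullback square in
`Over S`. -/
theorem isPullback_over_morphismRestrict {V W : Over S} (g : W ⟶ V) (O : V.left.Opens) :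
    ∃ z : Over.mk ((g.left ⁻¹ᵁ O).ι ≫ W.hom) ⟶ Over.mk (O.ι ≫ V.hom),
      z.left = g.left ∣_ O ∧
      IsPullback z (Over.homMk (g.left ⁻¹ᵁ O).ι rfl : Over.mk ((g.left ⁻¹ᵁ O).ι ≫ W.hom) ⟶ W)
        (Over.homMk O.ι rfl : Over.mk (O.ι ≫ V.hom) ⟶ V) g := by
  have sq0 := isPullback_morphismRestrict g.left O
  refine ⟨Over.homMk (g.left ∣_ O) ?_, rfl, ?_⟩
  · have := Over.w g
    dsimp at this ⊢
    rw [← this, ← Category.assoc, sq0.w]
    simp only [Category.assoc]
  · refine IsPullback.of_map (Over.forget S) ?_ ?_
    · apply Over.OverMorphism.ext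
      simp only [Over.comp_left, Over.homMk_left]
      exact sq0.w
    · exact sq0

/-- Restriction to an open commutes with pullback of functions. -/
theorem appLE_comp_morphismRestrict_appTop {X Y : Scheme.{u}} (g : X ⟶ Y) (W : Y.Opens) :
    W.ι.appLE W ⊤ W.ι_preimage_self.ge ≫ (g ∣_ W).appTop =
      g.app W ≫ (g ⁻¹ᵁ W).ι.appLE (g ⁻¹ᵁ W) ⊤ (g ⁻¹ᵁ W).ι_preimage_self.ge := by
  rw [← Scheme.Hom.comp_appLE]
  have h1 : (g ∣_ W).appTop = (g ∣_ W).appLE ⊤ ⊤ le_top := by
    rw [Scheme.Hom.appTop, Scheme.Hom.app_eq_appLE]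
    rfl
  rw [h1, Scheme.Hom.appLE_comp_appLE]
  congr 1
  exact morphismRestrict_ι g W

end Groth.Agent.LibAlgSpCartier29

namespace Groth.Agent.LibAlgSpCartier29

variable {S : Scheme.{u}}

/-- A morphism from a scheme factors through the closed subspace cut out by `I` iff the functions
in `I` pull back to zero. -/
theorem factors_iff_le_idealOfRep {X Z : Sp S} (hX : IsAlgSpace X) {i : Z ⟶ X} {I : IdealEt X}
    (hZ : IsCutOutBy I i) {T : Over S} (h : (yon S).obj T ⟶ X) (hh : Representable h) :
    (∃ k : (yon S).obj T ⟶ Z, k ≫ i = h) ↔ I ≤ idealOfRep hh := by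
  obtain ⟨hi, hIeq⟩ := hZ
  constructor
  · rintro ⟨k, hk⟩
    rw [← hIeq]
    intro E hE a ha
    rw [mem_idealOfRep_iff] at ha ⊢
    have hcomm : (hh.fst E.obj.hom ≫ k) ≫ i = (yon S).map (hh.snd E.obj.hom) ≫ E.obj.hom := by
      rw [Category.assoc, hk, hh.w]
    have hl : hi.1.lift (hh.fst E.obj.hom ≫ k) (hh.snd E.obj.hom) hcomm ≫
        hi.1.snd E.obj.hom = hh.snd E.obj.hom := hi.1.lift_snd _ _ _
    have h2 := congrArg (fun z => z.left.appTop.hom a) hl
    simp only [Over.comp_left, Scheme.Hom.comp_appTop, CommRingCat.hom_comp,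
      RingHom.comp_apply] at h2
    have ha' : (hi.1.snd E.obj.hom).left.appTop.hom a = 0 := ha
    rw [ha', map_zero] at h2
    exact h2.symm
  · intro hle
    obtain ⟨U, q, hqe, hqs⟩ := hX.atlas
    obtain ⟨J, fst, sq⟩ := exists_ideal_chart hi q
    have hJ : J ≤ (hh.snd q).left.ker := by
      rw [Scheme.Hom.ker, Scheme.IdealSheafData.le_ofIdeals_iff]
      intro W a ha
      rw [RingHom.mem_ker]
      have h1 := idealOfRep_chart hi.1 hqe sq W
      have h3 := hle (chartObj q hqe W) W.2
      rw [← hIeq, h1] at h3
      obtain ⟨z, hz, sqz⟩ := isPullback_over_morphismRestrict (hh.snd q) W.1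
      have sqP := ((sqz.map (yon S)).paste_vert (hh.isPullback q).flip).flip
      have h4 := idealOfRep_ideal_eq_ker hh (chartObj q hqe W) W.2 _ z sqP
      rw [h4, hz] at h3
      have h5 : (W.1.ι.appLE W.1 ⊤ W.1.ι_preimage_self.ge).hom a ∈
          RingHom.ker ((hh.snd q).left ∣_ W.1).appTop.hom :=
        h3 (Ideal.mem_map_of_mem _ ha)
      rw [RingHom.mem_ker] at h5
      have h6 := congrArg (fun f => f.hom a)
        (appLE_comp_morphismRestrict_appTop (hh.snd q).left W.1)
      simp only [CommRingCat.hom_comp, RingHom.comp_apply] at h6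
      rw [h5] at h6
      have hbij : Function.Bijective (((hh.snd q).left ⁻¹ᵁ W.1).ι.appLE
          ((hh.snd q).left ⁻¹ᵁ W.1) ⊤ ((hh.snd q).left ⁻¹ᵁ W.1).ι_preimage_self.ge).hom :=
        (ConcreteCategory.isIso_iff_bijective _).mp inferInstance
      apply hbij.1
      rw [← h6, map_zero]
    have hker : J.subschemeι.ker ≤ (hh.snd q).left.ker := by
      rw [J.ker_subschemeι]; exact hJ
    have hfac : IsClosedImmersion.lift J.subschemeι (hh.snd q).left hker ≫ J.subschemeι =
        (hh.snd q).left := IsClosedImmersion.lift_fac _ _ _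
    let ℓ : hh.pullback q ⟶ Over.mk (J.subschemeι ≫ U.hom) :=
      Over.homMk (IsClosedImmersion.lift J.subschemeι (hh.snd q).left hker) (by
        dsimp
        rw [← Category.assoc, hfac]
        exact Over.w (hh.snd q))
    have hℓ : ℓ ≫ (Over.homMk J.subschemeι rfl : Over.mk (J.subschemeι ≫ U.hom) ⟶ U) =
        hh.snd q := by
      apply Over.OverMorphism.ext
      simp only [Over.comp_left, Over.homMk_left]
      exact hfac
    haveI := mono_of_closedImmersion' hi
    have hfe : RepWith @Etale (hh.fst q) :=
      (RepWith (S := S) @Etale).of_isPullback (hh.isPullback q).flip hqe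
    have hfs : RepWith @Surjective (hh.fst q) :=
      (RepWith (S := S) @Surjective).of_isPullback (hh.isPullback q).flip hqs
    have he : Sheaf.IsLocallySurjective (hh.fst q) :=
      Groth.Agent.S9885.result S _ _ (hh.fst q)
        (Groth.Agent.S10194.repWith_mono (fun _ _ g hg => by
          have : Etale g := hg
          exact (inferInstance : Flat g)) hfe)
        (Groth.Agent.S10194.repWith_mono (fun _ _ g hg => by
          have : Etale g := hg
          exact (inferInstance : LocallyOfFinitePresentation g)) hfe) hfs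
    refine exists_factor_of_locallySurjective i h (hh.fst q) he ((yon S).map ℓ ≫ fst) ?_
    rw [Category.assoc, sq.w, ← Category.assoc, ← Functor.map_comp, hℓ, (hh.isPullback q).w]

end Groth.Agent.LibAlgSpCartier29
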