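import Mathlib
import Groth.Prelude.Def_BlowUp2
import Groth.Prelude.Def_AlgSpModX
import Groth.Agent.Lib.Helper7.IdealComap
import Groth.Agent.Lib.Helper16.EffCartier
import Groth.Agent.LibAlgSpCartier29
import Groth.Agent.Lib.Helper11.AlgSpBasic

/-!
# Inverse image of an effective Cartier ideal when no weakly associated point maps into it (helper29)
-/

set_option autoImplicit false
universe u
open CategoryTheory CategoryTheory.Limits AlgebraicGeometry

namespace Groth.Agent.LibAlgSpCartier29j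

/-- A zero divisor lies in a minimal prime over the annihilator of some element. -/
lemma exists_minimalPrime_of_not_nzd {R : Type*} [CommRing R] {a : R}
    (ha : a ∉ nonZeroDivisors R) :
    ∃ (b : R) (K : Ideal R) (p : Ideal R), (∀ c, c ∈ K ↔ c * b = 0) ∧
      p ∈ K.minimalPrimes ∧ a ∈ p := by
  rw [mem_nonZeroDivisors_iff_right] at ha
  push Not at ha
  obtain ⟨b, hab, hb⟩ := ha
  let K : Ideal R := LinearMap.ker (LinearMap.toSpanSingleton R R b)
  have hK : ∀ c, c ∈ K ↔ c * b = 0 := fun c => by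
    simp only [K, LinearMap.mem_ker, LinearMap.toSpanSingleton_apply, smul_eq_mul]
  have hne : K ≠ ⊤ := by
    intro h
    have : (1 : R) ∈ K := h ▸ Submodule.mem_top
    rw [hK, one_mul] at this
    exact hb this
  obtain ⟨M, hM, hKM⟩ := Ideal.exists_le_maximal K hne
  haveI := hM.isPrime
  obtain ⟨p, hp, _⟩ := Ideal.exists_minimalPrimes_le hKM
  exact ⟨b, K, p, hK, hp, hp.1.2 ((hK a).2 (by rw [mul_comm]; exact hab))⟩

/-- Every prime of the ring of global functions of an affine scheme is the prime of a point. -/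
lemma exists_primeAtPt_eq (T : Scheme.{u}) [IsAffine T] (p : Ideal Γ(T, ⊤)) [hp : p.IsPrime] :
    ∃ u : T, AlgSp.primeAtPt T u = p := by
  have hT := isAffineOpen_top T
  let x : (⊤ : T.Opens) := hT.isoSpec.inv ⟨p, hp⟩
  refine ⟨x.1, ?_⟩
  have h1 : hT.primeIdealOf x = ⟨p, hp⟩ := by
    change hT.isoSpec.hom (hT.isoSpec.inv _) = _
    rw [← Scheme.Hom.comp_apply, Iso.inv_hom_id]
    rfl
  have h2 := hT.primeIdealOf_eq_map_closedPoint x
  rw [h1] at h2
  have h3 := congrArg PrimeSpectrum.asIdeal h2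
  exact h3.symm

/-- Membership in the prime of a point via basic opens. -/
lemma mem_primeAtPt_iff (T : Scheme.{u}) (u : T) (a : Γ(T, ⊤)) :
    a ∈ AlgSp.primeAtPt T u ↔ u ∉ T.basicOpen a := by
  rw [Scheme.mem_basicOpen_top]
  unfold AlgSp.primeAtPt
  rw [Ideal.mem_comap, IsLocalRing.mem_maximalIdeal, mem_nonunits_iff]

/-- A zero divisor relation gives a minimal prime over the annihilator containing the factor. -/
lemma exists_minimalPrime_of_mul_eq_zero {R : Type*} [CommRing R] {a b : R}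
    (hab : a * b = 0) (hb : b ≠ 0) :
    ∃ (K : Ideal R) (p : Ideal R), (∀ c, c ∈ K ↔ c * b = 0) ∧
      p ∈ K.minimalPrimes ∧ a ∈ p := by
  let K : Ideal R := LinearMap.ker (LinearMap.toSpanSingleton R R b)
  have hK : ∀ c, c ∈ K ↔ c * b = 0 := fun c => by
    simp only [K, LinearMap.mem_ker, LinearMap.toSpanSingleton_apply, smul_eq_mul]
  have hne : K ≠ ⊤ := by
    intro h
    have : (1 : R) ∈ K := h ▸ Submodule.mem_top
    rw [hK, one_mul] at this
    exact hb this
  obtain ⟨M, hM, hKM⟩ := Ideal.exists_le_maximal K hne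
  haveI := hM.isPrime
  obtain ⟨p, hp, _⟩ := Ideal.exists_minimalPrimes_le hKM
  exact ⟨K, p, hK, hp, hp.1.2 ((hK a).2 hab)⟩

/-- The inverse image of an effective Cartier ideal under a morphism of schemes `f : X ⟶ Y` is
effective Cartier as soon as no point of an affine open of `X` whose prime is minimal over the
annihilator of a function (a weakly associated point of `X`) maps into the support. -/
theorem isEffCartier_comap_of_weakAss {X Y : Scheme.{u}} (J : Y.IdealSheafData)
    (hJ : BlowUp.IsEffCartierIdeal J) (f : X ⟶ Y)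
    (h : ∀ (V : X.affineOpens) (b : Γ(V.1.toScheme, ⊤)) (K : Ideal Γ(V.1.toScheme, ⊤))
      (u : V.1.toScheme), (∀ c, c ∈ K ↔ c * b = 0) →
        AlgSp.primeAtPt V.1.toScheme u ∈ K.minimalPrimes → f u.1 ∉ J.support) :
    BlowUp.IsEffCartierIdeal (J.comap f) := by
  intro x
  obtain ⟨U, hxU, g, hg, hJU⟩ := hJ (f x)
  obtain ⟨_, ⟨V, hV, rfl⟩, hxV, hVU⟩ :=
    (X.isBasis_affineOpens).exists_subset_of_mem_open
      (show x ∈ ((f ⁻¹ᵁ U.1 : X.Opens) : Set X) from hxU) (f ⁻¹ᵁ U.1).2
  refine ⟨⟨V, hV⟩, hxV, (f.appLE U.1 V hVU).hom g, ?_, ?_⟩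
  · by_contra hnz
    rw [mem_nonZeroDivisors_iff_right] at hnz
    push Not at hnz
    obtain ⟨b, hab, hb⟩ := hnz
    set a := (f.appLE U.1 V hVU).hom g with ha
    have hab' : (Scheme.Opens.topIso V).inv.hom a * (Scheme.Opens.topIso V).inv.hom b = 0 := by
      rw [← map_mul, mul_comm, hab, map_zero]
    have hb' : (Scheme.Opens.topIso V).inv.hom b ≠ 0 := by
      intro h0
      apply hb
      have := congrArg (Scheme.Opens.topIso V).hom.hom h0
      rw [map_zero] at this
      rw [← this]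
      change b = ((Scheme.Opens.topIso V).inv ≫ (Scheme.Opens.topIso V).hom).hom b
      rw [Iso.inv_hom_id]
      rfl
    obtain ⟨K, p, hK, hp, hap⟩ := exists_minimalPrime_of_mul_eq_zero hab' hb'
    haveI : p.IsPrime := hp.1.1
    haveI : IsAffine (Scheme.Opens.toScheme V) := hV
    obtain ⟨u, rfl⟩ := exists_primeAtPt_eq (Scheme.Opens.toScheme V) p
    refine h ⟨V, hV⟩ _ K u hK hp ?_
    rw [Scheme.IdealSheafData.mem_support_iff_of_mem (U := U) (hVU u.2), hJU,
      Scheme.zeroLocus_span, Scheme.mem_zeroLocus_iff]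
    rintro t rfl
    rw [mem_primeAtPt_iff] at hap
    intro hmem
    apply hap
    have h1 : u.1 ∈ X.basicOpen a := by
      rw [ha]
      erw [Scheme.basicOpen_appLE]
      exact ⟨u.2, hmem⟩
    rw [← Scheme.Opens.ι_image_basicOpen_topIso_inv] at h1
    exact (Scheme.Opens.mem_ι_image_iff V).mp h1
  · rw [Groth.Agent.Lib.helper7.IdealComap.ideal_comap f J U.2 hV hVU, hJU, Ideal.map_span,
      Set.image_singleton]

open AlgSp in
/-- The inverse image of an effective Cartier divisor under a morphism of algebraic spaces which maps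
no weakly associated point of the source into the divisor. -/
theorem isEffCartierSub_pullback_of_weakAss {S : Scheme.{u}} {X Y D P : Sp S} (hX : IsAlgSpace X)
    {f : X ⟶ Y} {i : D ⟶ Y} (hD : IsEffCartierSub i)
    (h : ∀ x ∈ WeakAssEt (unitModEt X), Points.map f x ∉ Set.range (Points.map i))
    {fst : P ⟶ D} {snd : P ⟶ X} (hP : IsPullback fst snd i f) : IsEffCartierSub snd := by
  obtain ⟨hcl, V, φ, I, fstD, hφe, hφs, sqD, hI⟩ := hD
  refine ⟨(RepWith (S := S) @IsClosedImmersion).of_isPullback hP hcl, ?_⟩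
  obtain ⟨U, a, hae, has⟩ := hX.atlas
  obtain ⟨W, w, w'', sqW⟩ := hφe.1 (a ≫ f)
  obtain ⟨w', rfl⟩ := (yon S).map_surjective w''
  have hwe : Etale w.left := hφe.2 _ _ _ sqW
  have hws : Surjective w.left := hφs.2 _ _ _ sqW
  have hbe : RepWith @Etale ((yon S).map w ≫ a) :=
    (RepWith (S := S) @Etale).comp_mem _ _ ((repWith_yon_map_iff _ _).2 hwe) hae
  have hbs : RepWith @Surjective ((yon S).map w ≫ a) :=
    (RepWith (S := S) @Surjective).comp_mem _ _ ((repWith_yon_map_iff _ _).2 hws) has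
  have hcomm : ((yon S).map w ≫ a) ≫ f = (yon S).map w' ≫ φ := by
    rw [Category.assoc]; exact sqW.w.symm
  obtain ⟨fst', sq'⟩ := Groth.Agent.LibAlgSpCartier29.isPullback_comap_chart sqD w'
  rw [← hcomm] at sq'
  have hl : fst' ≫ i = ((yon S).map (Over.homMk (I.comap w'.left).subschemeι rfl :
      Over.mk ((I.comap w'.left).subschemeι ≫ W.hom) ⟶ W) ≫ ((yon S).map w ≫ a)) ≫ f := by
    rw [sq'.w]
    simp only [Category.assoc]
  refine ⟨W, (yon S).map w ≫ a, I.comap w'.left, hP.lift fst' _ hl, hbe, hbs, ?_,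
    isEffCartier_comap_of_weakAss I hI w'.left ?_⟩
  · refine IsPullback.of_right ?_ (hP.lift_snd _ _ _) hP
    rw [hP.lift_fst]
    exact sq'
  · intro V₀ b K u hK hp hmem
    let T : Over S := Over.mk (V₀.1.ι ≫ W.hom)
    let j : T ⟶ W := Over.homMk V₀.1.ι rfl
    have hje : RepWith @Etale ((yon S).map j) :=
      (repWith_yon_map_iff _ _).2 (show Etale V₀.1.ι from inferInstance)
    have hE : RepWith @Etale ((yon S).map j ≫ ((yon S).map w ≫ a)) :=
      (RepWith (S := S) @Etale).comp_mem _ _ hje hbe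
    let E : EtOver X := EtOver.mk ((yon S).map j ≫ ((yon S).map w ≫ a)) hE
    haveI : IsAffine E.obj.left.left := V₀.2
    have hx : Points.ofPt E.obj.hom u ∈ WeakAssEt (unitModEt X) := by
      refine ⟨E, inferInstance, u, rfl, (ULift.up b : ULift.{u + 1} Γ(E.obj.left.left, ⊤)), ?_⟩
      have hann : annSect (M := unitModEt X) (E := E)
          (ULift.up b : ULift.{u + 1} Γ(E.obj.left.left, ⊤)) = K := by
        refine Ideal.ext fun (c : Γ(Scheme.Opens.toScheme V₀.1, ⊤)) => ?_
        rw [mem_annSect_iff, hK]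
        change (ULift.up (c * b) :
          ULift.{u + 1} Γ(Scheme.Opens.toScheme V₀.1, ⊤)) = 0 ↔ _
        exact ⟨fun h0 => congrArg ULift.down h0, fun h0 => congrArg ULift.up h0⟩
      rw [hann]
      exact hp
    apply h _ hx
    have hmem' : w'.left u.1 ∈ Set.range I.subschemeι := by
      rw [Scheme.IdealSheafData.range_subschemeι]; exact hmem
    obtain ⟨z, hz⟩ := hmem'
    refine ⟨Points.ofPt fstD z, ?_⟩
    rw [Points.map_ofPt, Points.map_ofPt, sqD.w,
      Groth.Agent.Lib.helper11.ofPt_yon_map_comp]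
    change _ = Points.ofPt (((yon S).map j ≫ ((yon S).map w ≫ a)) ≫ f) u
    rw [Category.assoc, hcomm, Groth.Agent.Lib.helper11.ofPt_yon_map_comp,
      Groth.Agent.Lib.helper11.ofPt_yon_map_comp]
    congr 1

end Groth.Agent.LibAlgSpCartier29j
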