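import Mathlib
import Groth.Prelude.Def_AlgSp2
import Groth.Agent.Lib.Helper11.AlgSpBasic

/-!
# Locally constructible sets, étale charts of algebraic spaces (helper29)

* `isLocallyConstructible_preimage29` : preimages of locally constructible sets under morphisms of
  schemes are locally constructible (copy of helper3's proof, light imports).
* `isLocallyConstructible_of_preimage` : descent of local constructibility along a surjective open
  morphism locally of finite presentation (Chevalley affine-locally; no quasi-compactness).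
* `isLocallyConstructible_ofPt_of_isPullback` : chart-level transfer.
-/

set_option autoImplicit false
universe u
open CategoryTheory CategoryTheory.Limits AlgebraicGeometry Topology TopologicalSpace
open scoped Set.Notation
open AlgSp

namespace Groth.Agent.LibAlgSpCons29

/-- preimages of locally constructible sets under morphisms of schemes are locally constructible. -/
theorem isLocallyConstructible_preimage29 {Y X : Scheme.{u}} (g : Y ⟶ X) {s : Set X}
    (hs : IsLocallyConstructible s) : IsLocallyConstructible (g ⁻¹' s) := by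
  intro y
  obtain ⟨U, hU, hyU, -⟩ := exists_isAffineOpen_mem_and_subset (x := g y) (U := ⊤) trivial
  obtain ⟨V, hV, hyV, e⟩ := exists_isAffineOpen_mem_and_subset (x := y) (U := g ⁻¹ᵁ U) hyU
  refine ⟨V, V.2.mem_nhds hyV, V.2, ?_⟩
  haveI : IsAffine U.toScheme := hU
  haveI : IsAffine V.toScheme := hV
  set ψ := g.resLE U V e with hψ
  haveI : QuasiCompact ψ := inferInstance
  have hψval : ∀ c : ↥V, (ψ c).1 = g c.1 := by
    intro c
    have h2 : (ψ ≫ U.ι) c = (V.ι ≫ g) c := by
      rw [hψ, Scheme.Hom.resLE_comp_ι g e]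
    exact h2
  have h1 : IsLocallyConstructible ((Subtype.val : ↥U → X) ⁻¹' s) :=
    hs.preimage_of_isOpenEmbedding U.2.isOpenEmbedding_subtypeVal
  have h2 : IsConstructible ((Subtype.val : ↥U → X) ⁻¹' s) :=
    IsLocallyConstructible.isConstructible (X := ↥U.toScheme) h1
  have h3 : IsConstructible (ψ ⁻¹' ((Subtype.val : ↥U → X) ⁻¹' s)) := by
    apply IsConstructible.preimage ψ.continuous _ h2
    intro t ht htr
    have htc : IsCompact t := IsRetrocompact.isCompact (X := ↥U.toScheme) htr
    have hsp := Scheme.Hom.isSpectralMap ψ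
    exact IsCompact.isRetrocompact (X := ↥V.toScheme) (hsp.isCompact_preimage_of_isOpen ht htc)
      (ht.preimage ψ.continuous)
  have h4 : ψ ⁻¹' ((Subtype.val : ↥U → X) ⁻¹' s) =
      (Subtype.val : ↥V → Y) ⁻¹' (g ⁻¹' s) := by
    ext c
    simp only [Set.mem_preimage]
    rw [hψval]
    rfl
  rw [h4] at h3
  exact h3

/-- Descent of local constructibility along a surjective open morphism locally of finite
presentation (no quasi-compactness needed: Chevalley's theorem is applied affine-locally). -/
theorem isLocallyConstructible_of_preimage {W V : Scheme.{u}} (q : W ⟶ V)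
    [LocallyOfFinitePresentation q] (hopen : IsOpenMap q) (hsurj : Function.Surjective q)
    (T : Set V) (h : IsLocallyConstructible (q ⁻¹' T)) : IsLocallyConstructible T := by
  let ι := {i : W.Opens × V.Opens // IsAffineOpen i.1 ∧ IsAffineOpen i.2 ∧ i.1 ≤ q ⁻¹ᵁ i.2}
  let O : ι → Opens V := fun i => ⟨q '' (i.1.1 : Set W), hopen _ i.1.1.2⟩
  have hcover : IsOpenCover O := by
    apply IsOpenCover.mk
    rw [eq_top_iff]
    intro v _
    obtain ⟨w, rfl⟩ := hsurj v
    obtain ⟨V', hV', hvV', -⟩ := exists_isAffineOpen_mem_and_subset (x := q w) (U := ⊤) trivial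
    obtain ⟨W', hW', hwW', e⟩ := exists_isAffineOpen_mem_and_subset (x := w) (U := q ⁻¹ᵁ V') hvV'
    rw [Opens.mem_iSup]
    exact ⟨⟨(W', V'), hW', hV', e⟩, w, hwW', rfl⟩
  refine IsLocallyConstructible.of_isOpenCover hcover fun i => ?_
  obtain ⟨⟨W', V'⟩, hW', hV', e⟩ := i
  haveI : IsAffine W'.toScheme := hW'
  haveI : IsAffine V'.toScheme := hV'
  set ψ := q.resLE V' W' e with hψ
  haveI : QuasiCompact ψ := inferInstance
  have hψval : ∀ c : ↥W', (ψ c).1 = q c.1 := by
    intro c
    have h2 : (ψ ≫ V'.ι) c = (W'.ι ≫ q) c := by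
      rw [hψ, Scheme.Hom.resLE_comp_ι q e]
    exact h2
  have h1 : IsLocallyConstructible ((Subtype.val : ↥W' → W) ⁻¹' (q ⁻¹' T)) :=
    h.preimage_of_isOpenEmbedding W'.2.isOpenEmbedding_subtypeVal
  have h2 : IsLocallyConstructible (ψ '' ((Subtype.val : ↥W' → W) ⁻¹' (q ⁻¹' T))) :=
    ψ.isLocallyConstructible_image h1
  have hsub : Set.MapsTo id (q '' (W' : Set W)) (V' : Set V) := by
    rintro _ ⟨w, hw, rfl⟩
    exact e hw
  have hj : IsOpenEmbedding (hsub.restrict id _ _) :=
    IsOpenEmbedding.id.restrict hsub (hopen _ W'.2)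
  have h3 := h2.preimage_of_isOpenEmbedding hj
  change IsLocallyConstructible ((Subtype.val : ↥(q '' (W' : Set W)) → V) ⁻¹' T)
  convert h3 using 1
  ext ⟨x, hx⟩
  simp only [Set.mem_preimage, Set.mem_image]
  constructor
  · intro hxT
    obtain ⟨w, hw, rfl⟩ := hx
    refine ⟨⟨w, hw⟩, hxT, ?_⟩
    apply Subtype.ext
    exact hψval ⟨w, hw⟩
  · rintro ⟨c, hc, hc2⟩
    have := congrArg Subtype.val hc2
    rw [hψval] at this
    simp only [Set.MapsTo.val_restrict_apply, id_eq] at this
    rw [← this]
    exact hc

open Groth.Agent.Lib.helper11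

variable {S : Scheme.{u}}

/-- chart-level transfer of local constructibility along a commutative square of schemes over a
sheaf whose second projection is étale and surjective. -/
theorem isLocallyConstructible_ofPt_of_comm {G : Sp S} {U T W : Over S} {φ : W ⟶ U} {snd : W ⟶ T}
    {p : (yon S).obj U ⟶ G} {a : (yon S).obj T ⟶ G}
    (w : (yon S).map φ ≫ p = (yon S).map snd ≫ a)
    (het : Etale snd.left) (hsurj : Surjective snd.left)
    (E : Set (Points G)) (hE : IsLocallyConstructible (Points.ofPt p ⁻¹' E)) :
    IsLocallyConstructible (Points.ofPt a ⁻¹' E) := by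
  have hopen : IsOpenMap snd.left := snd.left.isOpenMap
  apply isLocallyConstructible_of_preimage snd.left hopen hsurj.surj
  have : snd.left ⁻¹' (Points.ofPt a ⁻¹' E) = φ.left ⁻¹' (Points.ofPt p ⁻¹' E) := by
    ext v
    simp only [Set.mem_preimage]
    rw [ofPt_comm w v]
  rw [this]
  exact isLocallyConstructible_preimage29 φ.left hE

/-- = S10189: local constructibility of the preimage of `E ⊆ |X|` may be tested on one étale
surjective chart. -/
theorem isLocallyConstructible_ofPt_of_chart {G : Sp S} {U : Over S} (p : (yon S).obj U ⟶ G)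
    (hp : RepWith @Etale p) (hs : RepWith @Surjective p) (E : Set (Points G))
    (hE : IsLocallyConstructible (Points.ofPt p ⁻¹' E))
    {V : Over S} (a : (yon S).obj V ⟶ G) :
    IsLocallyConstructible (Points.ofPt a ⁻¹' E) := by
  obtain ⟨W, snd, fst, hpb⟩ := hp.rep a
  obtain ⟨φ, rfl⟩ := (yon S).map_surjective fst
  have het : Etale snd.left := hp.2 a _ snd hpb
  have hsur : Surjective snd.left := hs.2 a _ snd hpb
  exact isLocallyConstructible_ofPt_of_comm hpb.w het hsur E hE

end Groth.Agent.LibAlgSpCons29
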