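import Mathlib
import Groth.Prelude.Def_AlgSp4
import Groth.Agent.LibAlgSpCons29

/-!
# Chevalley's theorem for algebraic spaces (helper29)

* `isLocallyConstructible_image_of_compact` : the quasi-compact quasi-separated chart case.
* `isLocallyConstructible_image` (= S9982): a quasi-compact morphism locally of finite presentation
  of algebraic spaces maps étale locally constructible sets to étale locally constructible sets.
-/

set_option autoImplicit false
universe u
open CategoryTheory CategoryTheory.Limits AlgebraicGeometry Topology TopologicalSpace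
open scoped Set.Notation
open AlgSp

namespace Groth.Agent.LibAlgSpCons29

open Groth.Agent.Lib.helper11

variable {S : Scheme.{u}}

/-- Chevalley over a quasi-compact quasi-separated étale chart of the target. -/
theorem isLocallyConstructible_image_of_compact {X Y : Sp S} (f : X ⟶ Y)
    (hq : IsQuasiCompactMor f) (hfp : LocP @LocallyOfFinitePresentation f)
    (E : Set (Points X))
    (hE : ∀ (U : Over S) (φ : (yon S).obj U ⟶ X), RepWith @Etale φ →
        IsLocallyConstructible (Points.ofPt φ ⁻¹' E))
    {V : Over S} [CompactSpace ↥V.left] [QuasiSeparatedSpace ↥V.left]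
    (φ : (yon S).obj V ⟶ Y) (hφ : RepWith @Etale φ) :
    IsLocallyConstructible (Points.ofPt φ ⁻¹' (Points.map f '' E)) := by
  have sq : IsPullback (pullback.fst f φ) (pullback.snd f φ) f φ := IsPullback.of_hasPullback f φ
  have hZ : IsQuasiCompactSp (pullback f φ) :=
    hq (IsAlgSpace.yon_obj V)
      ⟨V, 𝟙 _, repWith_id _ V, repWith_id _ V, inferInstance⟩ φ _ _ sq
  obtain ⟨U', p', hp'e, hp's, hU'c⟩ := hZ
  obtain ⟨ψ, hψ⟩ := (yon S).map_surjective (p' ≫ pullback.snd f φ)
  have hfst : RepWith @Etale (pullback.fst f φ) :=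
    MorphismProperty.of_isPullback sq.flip hφ
  have ha : RepWith @Etale (p' ≫ pullback.fst f φ) :=
    (RepWith (S := S) @Etale).comp_mem _ _ hp'e hfst
  have hw : (p' ≫ pullback.fst f φ) ≫ f = (yon S).map ψ ≫ φ := by
    rw [hψ, Category.assoc, Category.assoc, sq.w]
  haveI hlfp : LocallyOfFinitePresentation ψ.left := hfp _ φ ψ ha hφ hw
  haveI : CompactSpace ↥U'.left := hU'c
  haveI : QuasiCompact ψ.left := inferInstance
  have hEa := hE U' _ ha
  have himg := ψ.left.isLocallyConstructible_image hEa
  convert himg using 1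
  ext v
  simp only [Set.mem_preimage, Set.mem_image]
  constructor
  · rintro ⟨x, hxE, hx⟩
    have hxz : Points.map f x = Points.map φ (Points.ofScheme V v) := by
      rw [hx, ← Points.ofPt_eq_map_ofScheme]
    obtain ⟨z, hz1, hz2⟩ := Groth.Agent.Lib.helper10.exists_point_of_isPullback sq x _ hxz
    obtain ⟨u, hu⟩ := surjective_ofPt p' hp's z
    refine ⟨u, ?_, ?_⟩
    · rw [← Points.map_ofPt, hu, hz1]
      exact hxE
    · have h1 : Points.ofPt ((yon S).map ψ) u = Points.ofScheme V v := by
        rw [hψ, ← Points.map_ofPt, hu, hz2]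
      rw [ofPt_yon_map] at h1
      exact (Points.schemeEquiv V).injective h1
  · rintro ⟨u, hu, rfl⟩
    refine ⟨Points.ofPt (p' ≫ pullback.fst f φ) u, hu, ?_⟩
    rw [Points.map_ofPt, hw, ofPt_yon_map_comp]

/-- = S9982: Chevalley's theorem for algebraic spaces. -/
theorem isLocallyConstructible_image {X Y : Sp S} (f : X ⟶ Y)
    (hq : IsQuasiCompactMor f) (hfp : LocP @LocallyOfFinitePresentation f)
    (E : Set (Points X))
    (hE : ∀ (U : Over S) (φ : (yon S).obj U ⟶ X), RepWith @Etale φ →
        IsLocallyConstructible (Points.ofPt φ ⁻¹' E))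
    {V : Over S} (φ : (yon S).obj V ⟶ Y) (hφ : RepWith @Etale φ) :
    IsLocallyConstructible (Points.ofPt φ ⁻¹' (Points.map f '' E)) := by
  refine IsLocallyConstructible.of_isOpenCover (U := fun i : V.left.affineOpens => i.1)
    (IsOpenCover.mk (iSup_affineOpens_eq_top V.left)) fun i => ?_
  obtain ⟨V', hV'⟩ := i
  let V'o : Over S := Over.mk (V'.ι ≫ V.hom)
  let j : V'o ⟶ V := Over.homMk V'.ι rfl
  haveI : IsAffine V'o.left := hV'
  have hj : RepWith @Etale ((yon S).map j) := by
    rw [repWith_yon_map_iff]
    change Etale V'.ι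
    infer_instance
  have hφ' : RepWith @Etale ((yon S).map j ≫ φ) :=
    (RepWith (S := S) @Etale).comp_mem _ _ hj hφ
  have h1 := isLocallyConstructible_image_of_compact f hq hfp E hE (V := V'o) _ hφ'
  change IsLocallyConstructible ((Subtype.val : ↥V'o.left → ↥V.left) ⁻¹'
    (Points.ofPt φ ⁻¹' (Points.map f '' E)))
  have heq : ((Subtype.val : ↥V'o.left → ↥V.left) ⁻¹'
      (Points.ofPt φ ⁻¹' (Points.map f '' E))) =
      Points.ofPt ((yon S).map j ≫ φ) ⁻¹' (Points.map f '' E) := by
    ext c
    change Points.ofPt φ c.1 ∈ Points.map f '' E ↔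
      Points.ofPt ((yon S).map j ≫ φ) c ∈ Points.map f '' E
    rw [ofPt_yon_map_comp]
    rfl
  rw [heq]
  exact h1

end Groth.Agent.LibAlgSpCons29
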