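import Mathlib

/-!
# Descent of inclusions of ideals along pointwise flat covers (helper29)

* `ideal_le_of_forall_flat`: `𝔞 ≤ 𝔟` may be checked after extension along flat ring maps, one for every
  maximal ideal, having a prime above that maximal ideal.
-/

set_option autoImplicit false
universe u v

namespace Groth.Agent.LibAlgSpIdeal29

/-- An inclusion of ideals can be checked after flat ring maps hitting every maximal ideal. -/
theorem ideal_le_of_forall_flat {R : Type u} [CommRing R] (𝔞 𝔟 : Ideal R)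
    (H : ∀ 𝔭 : Ideal R, 𝔭.IsMaximal → ∃ (R' : Type v) (_ : CommRing R') (φ : R →+* R')
      (𝔮 : Ideal R'), φ.Flat ∧ 𝔮.IsPrime ∧ 𝔮.comap φ = 𝔭 ∧ 𝔞.map φ ≤ 𝔟.map φ) : 𝔞 ≤ 𝔟 := by
  refine Ideal.le_of_localization_maximal fun P hP => ?_
  obtain ⟨R', _, φ, 𝔮, hφ, h𝔮, hcomap, hle⟩ := H P hP
  haveI := h𝔮
  haveI : P.IsPrime := hP.isPrime
  let ψ := Localization.localRingHom P 𝔮 φ hcomap.symm
  have hψ : ψ.Flat := RingHom.Flat.localRingHom hφ 𝔮 P hcomap.symm
  letI : Algebra (Localization.AtPrime P) (Localization.AtPrime 𝔮) := ψ.toAlgebra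
  haveI : Module.Flat (Localization.AtPrime P) (Localization.AtPrime 𝔮) := hψ
  haveI : IsLocalHom (algebraMap (Localization.AtPrime P) (Localization.AtPrime 𝔮)) :=
    (inferInstance : IsLocalHom (Localization.localRingHom P 𝔮 φ hcomap.symm))
  haveI : Module.FaithfullyFlat (Localization.AtPrime P) (Localization.AtPrime 𝔮) :=
    Module.FaithfullyFlat.of_flat_of_isLocalHom
  rw [← Ideal.comap_map_eq_self_of_faithfullyFlat (B := Localization.AtPrime 𝔮)
    (𝔟.map (algebraMap R (Localization.AtPrime P)))]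
  rw [← Ideal.map_le_iff_le_comap, Ideal.map_map, Ideal.map_map]
  have hcomp : (algebraMap (Localization.AtPrime P) (Localization.AtPrime 𝔮)).comp
      (algebraMap R (Localization.AtPrime P)) =
      (algebraMap R' (Localization.AtPrime 𝔮)).comp φ := by
    ext x
    exact Localization.localRingHom_to_map P 𝔮 φ hcomap.symm x
  rw [hcomp, ← Ideal.map_map, ← Ideal.map_map]
  exact Ideal.map_mono hle

end Groth.Agent.LibAlgSpIdeal29
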