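import Mathlib
import Groth.Prelude.Def_AlgSpModX
import Groth.Agent.LibAlgSpIdeal29
import Groth.Agent.LibAlgSpCartier29i
import Groth.Agent.LibAlgSpCartier29j
import Groth.Agent.Lib.Helper1.ClosedSub

/-!
# Quasi-coherent ideal families on the small étale site of an algebraic space (helper29)

* `primeAtPt_comap`: the prime of a point pulls back to the prime of the image point.
* `IsQCoh.ideal_eq_map`: the equality form of quasi-coherence.
* `exists_chartObj_hom`, `exists_chartObj_hom_obj`: morphisms of the small étale site out of an affine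
  open of a chart.
* `chartIdeal_map`: the values of a quasi-coherent family on affine opens of charts are compatible.
* `chartIdeal`: the ideal sheaf on a chart given by a quasi-coherent family; `chartIdeal_comap`.
* `idealEt_le_of_atlas`: inclusions of quasi-coherent families may be checked on an atlas.
* `isQCoh_idealOfRep`: the ideal family of a closed immersion is quasi-coherent.
* `exists_isCutOutBy`: every quasi-coherent family cuts out a closed subspace.
-/

set_option autoImplicit false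
set_option backward.isDefEq.respectTransparency false
universe u
open CategoryTheory CategoryTheory.Limits AlgebraicGeometry
open AlgSp

namespace Groth.Agent.LibAlgSpIdeal29

open Groth.Agent.LibAlgSpCartier29

variable {S : Scheme.{u}}

/-- The prime of a point pulls back to the prime of the image point. -/
theorem primeAtPt_comap {T' T : Scheme.{u}} (f : T' ⟶ T) (x : T') :
    (primeAtPt T' x).comap f.appTop.hom = primeAtPt T (f x) := by
  ext a
  rw [Ideal.mem_comap, Groth.Agent.LibAlgSpCartier29j.mem_primeAtPt_iff,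
    Groth.Agent.LibAlgSpCartier29j.mem_primeAtPt_iff]
  have h : T'.basicOpen (f.appTop.hom a) = f ⁻¹ᵁ T.basicOpen a := by
    rw [Scheme.preimage_basicOpen]
    rfl
  rw [h]
  rfl

/-- Equality form of quasi-coherence. -/
theorem ideal_eq_map {X : Sp S} {I : IdealEt X} (hI : I.IsQCoh) {E E' : EtOver X} (g : E' ⟶ E)
    (hE : IsAffine E.obj.left.left) (hE' : IsAffine E'.obj.left.left) :
    I.ideal E' hE' = (I.ideal E hE).map g.hom.left.left.appTop.hom :=
  le_antisymm (hI g hE hE') (I.map_le g hE hE')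

/-- A morphism of charts restricts to a morphism between affine opens. -/
theorem exists_chartObj_hom {X : Sp S} {V W : Over S} {φ : (yon S).obj V ⟶ X}
    (hφ : RepWith @Etale φ) {ψ : (yon S).obj W ⟶ X} (hψ : RepWith @Etale ψ) (w : W ⟶ V)
    (hw : (yon S).map w ≫ φ = ψ) (A : V.left.affineOpens) (B : W.left.affineOpens)
    (hBA : B.1 ≤ w.left ⁻¹ᵁ A.1) :
    ∃ g : chartObj ψ hψ B ⟶ chartObj φ hφ A, g.hom.left.left ≫ A.1.ι = B.1.ι ≫ w.left := by
  have hr : Set.range (B.1.ι ≫ w.left) ⊆ Set.range A.1.ι := by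
    rintro _ ⟨x, rfl⟩
    rw [Scheme.Opens.range_ι]
    exact hBA x.2
  let c : (B.1 : Scheme.{u}) ⟶ (A.1 : Scheme.{u}) := IsOpenImmersion.lift A.1.ι (B.1.ι ≫ w.left) hr
  have hc : c ≫ A.1.ι = B.1.ι ≫ w.left := IsOpenImmersion.lift_fac _ _ _
  let c' : Over.mk (B.1.ι ≫ W.hom) ⟶ Over.mk (A.1.ι ≫ V.hom) := Over.homMk c (by
    dsimp
    rw [← Category.assoc, hc, Category.assoc, Over.w w])
  have hc' : c' ≫ (Over.homMk A.1.ι rfl : Over.mk (A.1.ι ≫ V.hom) ⟶ V) =
      (Over.homMk B.1.ι rfl : Over.mk (B.1.ι ≫ W.hom) ⟶ W) ≫ w := by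
    apply Over.OverMorphism.ext
    simp only [Over.comp_left, Over.homMk_left]
    exact hc
  refine ⟨EtOver.homMk c' ?_, hc⟩
  show (yon S).map c' ≫ (yon S).map _ ≫ φ = (yon S).map _ ≫ ψ
  rw [← hw, ← Category.assoc, ← Functor.map_comp, hc', Functor.map_comp, Category.assoc]

/-- An affine open of a chart over an object of the site maps to that object. -/
theorem exists_chartObj_hom_obj {X : Sp S} (E : EtOver X) {W : Over S} {ψ : (yon S).obj W ⟶ X}
    (hψ : RepWith @Etale ψ) (w : W ⟶ E.obj.left) (hw : (yon S).map w ≫ E.obj.hom = ψ)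
    (B : W.left.affineOpens) :
    ∃ g : chartObj ψ hψ B ⟶ E, g.hom.left.left = B.1.ι ≫ w.left := by
  subst hw
  refine ⟨EtOver.homMk ((Over.homMk B.1.ι rfl : Over.mk (B.1.ι ≫ W.hom) ⟶ W) ≫ w) ?_, rfl⟩
  show (yon S).map _ ≫ E.obj.hom = (yon S).map _ ≫ _
  rw [Functor.map_comp, Category.assoc]

/-- Restriction to an open is bijective on functions. -/
theorem appLE_ι_bijective {Y : Scheme.{u}} (A : Y.Opens) :
    Function.Bijective (A.ι.appLE A ⊤ A.ι_preimage_self.ge).hom :=
  (ConcreteCategory.isIso_iff_bijective _).mp inferInstance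

theorem appLE_comm {Y Y' : Scheme.{u}} (f : Y' ⟶ Y) (A : Y.Opens) (B : Y'.Opens)
    (hBA : B ≤ f ⁻¹ᵁ A) (c : (B : Scheme.{u}) ⟶ (A : Scheme.{u})) (hc : c ≫ A.ι = B.ι ≫ f) :
    A.ι.appLE A ⊤ A.ι_preimage_self.ge ≫ c.appTop =
      f.appLE A B hBA ≫ B.ι.appLE B ⊤ B.ι_preimage_self.ge := by
  have h1 : c.appTop = c.appLE ⊤ ⊤ le_top := by
    rw [Scheme.Hom.appTop, Scheme.Hom.app_eq_appLE]
    rfl
  rw [h1, Scheme.Hom.appLE_comp_appLE, Scheme.Hom.appLE_comp_appLE]
  congr 1

/-- The values of a quasi-coherent family on affine opens of charts are compatible with morphisms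
of charts. -/
theorem chartIdeal_map {X : Sp S} {I : IdealEt X} (hI : I.IsQCoh) {V W : Over S}
    {φ : (yon S).obj V ⟶ X} (hφ : RepWith @Etale φ) {ψ : (yon S).obj W ⟶ X}
    (hψ : RepWith @Etale ψ) (w : W ⟶ V) (hw : (yon S).map w ≫ φ = ψ) (A : V.left.affineOpens)
    (B : W.left.affineOpens) (hBA : B.1 ≤ w.left ⁻¹ᵁ A.1) :
    ((I.ideal (chartObj φ hφ A) A.2).comap
        (A.1.ι.appLE A.1 ⊤ A.1.ι_preimage_self.ge).hom).map (w.left.appLE A.1 B.1 hBA).hom =
      (I.ideal (chartObj ψ hψ B) B.2).comap (B.1.ι.appLE B.1 ⊤ B.1.ι_preimage_self.ge).hom := by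
  obtain ⟨g, hg⟩ := exists_chartObj_hom hφ hψ w hw A B hBA
  have hα := appLE_ι_bijective A.1
  have hβ := appLE_ι_bijective B.1
  have hcomm := appLE_comm w.left A.1 B.1 hBA g.hom.left.left hg
  have hIB := ideal_eq_map hI g A.2 B.2
  have hcomm' : (B.1.ι.appLE B.1 ⊤ B.1.ι_preimage_self.ge).hom.comp
      (w.left.appLE A.1 B.1 hBA).hom = g.hom.left.left.appTop.hom.comp
      (A.1.ι.appLE A.1 ⊤ A.1.ι_preimage_self.ge).hom := by
    rw [← CommRingCat.hom_comp, ← CommRingCat.hom_comp, hcomm]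
  rw [← Ideal.comap_map_of_bijective _ hβ (I := Ideal.map (w.left.appLE A.1 B.1 hBA).hom _)]
  congr 1
  rw [Ideal.map_map, hcomm', ← Ideal.map_map, Ideal.map_comap_of_surjective _ hα.2]
  exact hIB.symm

/-- The ideal sheaf on a chart given by a quasi-coherent family of ideals. -/
noncomputable def chartIdeal {X : Sp S} (I : IdealEt X) (hI : I.IsQCoh) {V : Over S}
    (φ : (yon S).obj V ⟶ X) (hφ : RepWith @Etale φ) : V.left.IdealSheafData where
  ideal A := (I.ideal (chartObj φ hφ A) A.2).comap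
    (A.1.ι.appLE A.1 ⊤ A.1.ι_preimage_self.ge).hom
  map_ideal_basicOpen A f := by
    have h := chartIdeal_map hI hφ hφ (𝟙 V)
      (by rw [CategoryTheory.Functor.map_id, Category.id_comp]) A (V.left.affineBasicOpen f)
      (V.left.basicOpen_le f)
    have h2 : (𝟙 V : V ⟶ V).left.appLE A.1 (V.left.affineBasicOpen f).1 (V.left.basicOpen_le f) =
        V.left.presheaf.map (homOfLE (V.left.basicOpen_le f)).op := by
      simp [Scheme.Hom.appLE]
    rw [h2] at h
    exact h

theorem chartIdeal_ideal {X : Sp S} (I : IdealEt X) (hI : I.IsQCoh) {V : Over S}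
    (φ : (yon S).obj V ⟶ X) (hφ : RepWith @Etale φ) (A : V.left.affineOpens) :
    (chartIdeal I hI φ hφ).ideal A = (I.ideal (chartObj φ hφ A) A.2).comap
      (A.1.ι.appLE A.1 ⊤ A.1.ι_preimage_self.ge).hom := rfl

/-- The ideal sheaves on charts given by a quasi-coherent family are compatible with morphisms of
charts. -/
theorem chartIdeal_comap {X : Sp S} {I : IdealEt X} (hI : I.IsQCoh) {V W : Over S}
    {φ : (yon S).obj V ⟶ X} (hφ : RepWith @Etale φ) {ψ : (yon S).obj W ⟶ X}
    (hψ : RepWith @Etale ψ) (w : W ⟶ V) (hw : (yon S).map w ≫ φ = ψ) :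
    (chartIdeal I hI φ hφ).comap w.left = chartIdeal I hI ψ hψ := by
  refine Scheme.IdealSheafData.ext_of_iSup_eq_top
    (ι := {B : W.left.affineOpens // ∃ A : V.left.affineOpens, B.1 ≤ w.left ⁻¹ᵁ A.1})
    (fun B => B.1) ?_ ?_
  · rw [eq_top_iff]
    intro x _
    obtain ⟨A, hA, hxA, -⟩ := TopologicalSpace.Opens.isBasis_iff_nbhd.mp
      V.left.isBasis_affineOpens (show w.left x ∈ (⊤ : V.left.Opens) from trivial)
    obtain ⟨B, hB, hxB, hBA⟩ := TopologicalSpace.Opens.isBasis_iff_nbhd.mp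
      W.left.isBasis_affineOpens (show x ∈ w.left ⁻¹ᵁ A from hxA)
    exact TopologicalSpace.Opens.mem_iSup.mpr ⟨⟨⟨B, hB⟩, ⟨A, hA⟩, hBA⟩, hxB⟩
  · rintro ⟨B, A, hBA⟩
    rw [Groth.Agent.Lib.helper7.IdealComap.ideal_comap w.left _ A.2 B.2 hBA]
    exact chartIdeal_map hI hφ hψ w hw A B hBA

/-- Inclusions of quasi-coherent families of ideals may be checked on the affine opens of an
atlas. -/
theorem idealEt_le_of_atlas {X : Sp S} {U : Over S} (p : (yon S).obj U ⟶ X)
    (hpe : RepWith @Etale p) (hps : RepWith @Surjective p) {I I' : IdealEt X} (hI : I.IsQCoh)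
    (hI' : I'.IsQCoh)
    (H : ∀ A : U.left.affineOpens,
      I.ideal (chartObj p hpe A) A.2 ≤ I'.ideal (chartObj p hpe A) A.2) : I ≤ I' := by
  intro E hE
  obtain ⟨W, w, v'', sqW⟩ := hpe.1 E.obj.hom
  obtain ⟨v, rfl⟩ := (yon S).map_surjective v''
  haveI hwe : Etale w.left := hpe.2 _ _ _ sqW
  haveI hws : Surjective w.left := hps.2 _ _ _ sqW
  have hψ : RepWith @Etale ((yon S).map w ≫ E.obj.hom) :=
    (repWith_isMultiplicative (S := S) @Etale).comp_mem _ _
      ((repWith_yon_map_iff @Etale w).2 hwe) E.property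
  refine ideal_le_of_forall_flat _ _ fun 𝔭 h𝔭 => ?_
  haveI := h𝔭.isPrime
  haveI := hE
  obtain ⟨x, hx⟩ := Groth.Agent.LibAlgSpCartier29j.exists_primeAtPt_eq E.obj.left.left 𝔭
  obtain ⟨x', hx'⟩ := hws.surj x
  obtain ⟨A, hA, hxA, -⟩ := TopologicalSpace.Opens.isBasis_iff_nbhd.mp
    U.left.isBasis_affineOpens (show v.left x' ∈ (⊤ : U.left.Opens) from trivial)
  obtain ⟨B, hB, hxB, hBA⟩ := TopologicalSpace.Opens.isBasis_iff_nbhd.mp
    W.left.isBasis_affineOpens (show x' ∈ v.left ⁻¹ᵁ A from hxA)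
  obtain ⟨g₁, hg₁⟩ := exists_chartObj_hom_obj E hψ w rfl ⟨B, hB⟩
  obtain ⟨g₂, -⟩ := exists_chartObj_hom hpe hψ v sqW.w ⟨A, hA⟩ ⟨B, hB⟩ hBA
  haveI : IsAffine (chartObj ((yon S).map w ≫ E.obj.hom) hψ ⟨B, hB⟩).obj.left.left := hB
  haveI : Etale g₁.hom.left.left := EtOver.etale_left g₁
  refine ⟨Γ((chartObj ((yon S).map w ≫ E.obj.hom) hψ ⟨B, hB⟩).obj.left.left, ⊤), inferInstance,
    g₁.hom.left.left.appTop.hom,
    primeAtPt (chartObj ((yon S).map w ≫ E.obj.hom) hψ ⟨B, hB⟩).obj.left.left ⟨x', hxB⟩,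
    Scheme.Hom.flat_appTop _, inferInstance, ?_, ?_⟩
  · rw [primeAtPt_comap, ← hx]
    congr 1
    rw [hg₁, Scheme.Hom.comp_apply]
    exact hx'
  · rw [← ideal_eq_map hI g₁ hE hB, ← ideal_eq_map hI' g₁ hE hB, ideal_eq_map hI g₂ hA hB,
      ideal_eq_map hI' g₂ hA hB]
    exact Ideal.map_mono (H ⟨A, hA⟩)

/-- The family of kernel ideals of a closed immersion is quasi-coherent. -/
theorem isQCoh_idealOfRep {X Z : Sp S} {i : Z ⟶ X} (hi : RepWith @IsClosedImmersion i) :
    (idealOfRep hi.1).IsQCoh := by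
  intro E E' g hE hE'
  obtain ⟨K, fst, sq⟩ := exists_ideal_chart hi E.obj.hom
  rw [idealOfRep_ideal_eq hi.1 E hE K fst sq,
    idealOfRep_chart' hi.1 E' hE' sq g.hom.left (EtOver.w g),
    Groth.Agent.Lib.helper7.IdealComap.ideal_comap_of_isAffine g.hom.left.left K]

/-- Every quasi-coherent family of ideals on the small étale site of an algebraic space cuts out a
closed subspace. -/
theorem exists_isCutOutBy (X : AlgSp.Space S) (I : IdealEt X.obj) (hI : I.IsQCoh) :
    ∃ (Z : AlgSp.Space S) (i : Z ⟶ X), IsCutOutBy I i.hom := by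
  obtain ⟨U, R, s, t, p, hp⟩ := Groth.Agent.H1.ClosedSub.exists_presentation X
  have hpe := hp.etale
  have hps := hp.surjective
  have hst : (yon S).map t ≫ p = (yon S).map s ≫ p := hp.isPullback.w
  have hψ : RepWith @Etale ((yon S).map s ≫ p) :=
    (repWith_isMultiplicative (S := S) @Etale).comp_mem _ _
      ((repWith_yon_map_iff @Etale s).2 hp.eqvRel.etale_left) hpe
  let J := chartIdeal I hI p hpe
  have hinv : J.subschemeι.ker.comap s.left = J.subschemeι.ker.comap t.left := by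
    rw [J.ker_subschemeι, chartIdeal_comap hI hpe hψ s rfl, chartIdeal_comap hI hpe hψ t hst]
  obtain ⟨Z, i, q, hcl, sq⟩ :=
    Groth.Agent.H1.ClosedSub.exists_closedSub_of_comap_eq X s t p hp J.subschemeι hinv
  refine ⟨Z, i, hcl, ?_⟩
  have hQ := isQCoh_idealOfRep hcl
  have hA : ∀ A : U.left.affineOpens,
      (idealOfRep hcl.1).ideal (chartObj p hpe A) A.2 = I.ideal (chartObj p hpe A) A.2 := by
    intro A
    rw [idealOfRep_chart hcl.1 hpe sq A, chartIdeal_ideal,
      Ideal.map_comap_of_surjective _ (appLE_ι_bijective A.1).2]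
  apply IdealEt.ext
  funext E hE
  exact le_antisymm
    (idealEt_le_of_atlas p hpe hps hQ hI (fun A => (hA A).le) E hE)
    (idealEt_le_of_atlas p hpe hps hI hQ (fun A => (hA A).ge) E hE)

end Groth.Agent.LibAlgSpIdeal29
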