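import Mathlib
import Groth.Prelude.Def_AlgSpModX
import Groth.Agent.LibAlgSpIdeal29b
import Groth.Agent.Lib.Helper1.ClosedSub2
import Groth.Agent.Lib.Helper7.AlgSpQC

/-!
# The kernel ideal family of a quasi-compact representable morphism (helper29)

* `ker_snd_of_isPullback_of_flat`: kernels of quasi-compact morphisms commute with flat base change.
* `isQCoh_idealOfRep_of_quasiCompact`: the kernel family of a representable quasi-compact morphism is
  quasi-coherent.
* `idealOfRep_le_of_factors`, `exists_factor_of_isCutOutBy_idealOfRep`.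
* `isSchImage_iff_isCutOutBy`: scheme theoretic image = closed subspace cut out by the kernel family.
-/

set_option autoImplicit false
set_option backward.isDefEq.respectTransparency false
universe u
open CategoryTheory CategoryTheory.Limits AlgebraicGeometry
open AlgSp

namespace Groth.Agent.LibAlgSpIdeal29

open Groth.Agent.LibAlgSpCartier29

variable {S : Scheme.{u}}

/-- The kernel of a quasi-compact morphism commutes with flat base change (any pullback square). -/
theorem ker_snd_of_isPullback_of_flat {A B B' A' : Scheme.{u}} {f : A ⟶ B} {g : B' ⟶ B}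
    {fst : A' ⟶ A} {snd : A' ⟶ B'} (sq : IsPullback fst snd f g) [QuasiCompact f] [Flat g] :
    snd.ker = f.ker.comap g := by
  have h1 : sq.flip.isoPullback.hom ≫ pullback.fst g f = snd := sq.flip.isoPullback_hom_fst
  rw [← h1, Scheme.Hom.ker_comp_of_isIso, Groth.Agent.H1.ClosedSub.ker_fst_of_flat]

/-- The kernel family of a representable quasi-compact morphism is quasi-coherent. -/
theorem isQCoh_idealOfRep_of_quasiCompact {X Y : Sp S} {f : X ⟶ Y} (hf : Representable f)
    (hqc : RepWith @QuasiCompact f) : (idealOfRep hf).IsQCoh := by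
  intro E E' g hE hE'
  haveI := hE
  haveI := hE'
  haveI hq : QuasiCompact (hf.snd E.obj.hom).left := hqc.2 _ _ _ (hf.isPullback E.obj.hom)
  haveI hq' : QuasiCompact (hf.snd E'.obj.hom).left := hqc.2 _ _ _ (hf.isPullback E'.obj.hom)
  haveI : Etale g.hom.left.left := EtOver.etale_left g
  have sq := EtOver.isPullback_bcMap_left hf g
  have h1 := ker_snd_of_isPullback_of_flat sq
  have h2 : (idealOfRep hf).ideal E' hE' =
      (hf.snd E'.obj.hom).left.ker.ideal ⟨⊤, isAffineOpen_top _⟩ := by
    rw [Scheme.Hom.ker_apply]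
    rfl
  have h3 : (idealOfRep hf).ideal E hE =
      (hf.snd E.obj.hom).left.ker.ideal ⟨⊤, isAffineOpen_top _⟩ := by
    rw [Scheme.Hom.ker_apply]
    rfl
  rw [h2, h3, h1, Groth.Agent.Lib.helper7.IdealComap.ideal_comap_of_isAffine g.hom.left.left]

/-- If `f` factors through `i` then the kernel family of `i` is contained in that of `f`. -/
theorem idealOfRep_le_of_factors {F G Z : Sp S} {f : F ⟶ G} {i : Z ⟶ G} (hf : Representable f)
    (hi : Representable i) (k : F ⟶ Z) (hk : k ≫ i = f) : idealOfRep hi ≤ idealOfRep hf := by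
  intro E hE a ha
  rw [mem_idealOfRep_iff] at ha ⊢
  have hcomm : (hf.fst E.obj.hom ≫ k) ≫ i = (yon S).map (hf.snd E.obj.hom) ≫ E.obj.hom := by
    rw [Category.assoc, hk, hf.w]
  have hl : hi.lift (hf.fst E.obj.hom ≫ k) (hf.snd E.obj.hom) hcomm ≫
      hi.snd E.obj.hom = hf.snd E.obj.hom := hi.lift_snd _ _ _
  have h2 := congrArg (fun z => z.left.appTop.hom a) hl
  simp only [Over.comp_left, Scheme.Hom.comp_appTop, CommRingCat.hom_comp,
    RingHom.comp_apply] at h2
  have ha' : (hi.snd E.obj.hom).left.appTop.hom a = 0 := ha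
  rw [ha', map_zero] at h2
  exact h2.symm

/-- A representable morphism from an algebraic space factors through the closed subspace cut out by
its kernel family. -/
theorem exists_factor_of_isCutOutBy_idealOfRep {X Y Z : Sp S} (hX : IsAlgSpace X)
    (hY : IsAlgSpace Y) {f : X ⟶ Y} (hf : Representable f) {i : Z ⟶ Y}
    (hZ : IsCutOutBy (idealOfRep hf) i) : ∃ f' : X ⟶ Z, f' ≫ i = f := by
  obtain ⟨U, a, hae, has⟩ := hX.atlas
  have hh : Representable (a ≫ f) := hY.representable_from_yon (a ≫ f)
  have hle : idealOfRep hf ≤ idealOfRep hh := idealOfRep_le_of_factors hh hf a rfl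
  obtain ⟨k, hk⟩ := (factors_iff_le_idealOfRep hY hZ (a ≫ f) hh).2 hle
  haveI := mono_of_closedImmersion' hZ.1
  have he : Sheaf.IsLocallySurjective a :=
    Groth.Agent.S9885.result S _ _ a
      (Groth.Agent.S10194.repWith_mono (fun _ _ g hg => by
        have : Etale g := hg
        exact (inferInstance : Flat g)) hae)
      (Groth.Agent.S10194.repWith_mono (fun _ _ g hg => by
        have : Etale g := hg
        exact (inferInstance : LocallyOfFinitePresentation g)) hae) has
  exact exists_factor_of_locallySurjective i f a he k hk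

/-- The scheme theoretic image of a representable quasi-compact morphism of algebraic spaces is the
closed subspace cut out by its kernel family. -/
theorem isSchImage_iff_isCutOutBy {X Y : AlgSp.Space S} (f : X ⟶ Y) (hf : Representable f.hom)
    (hqc : RepWith @QuasiCompact f.hom) (Z : AlgSp.Space S) (i : Z ⟶ Y) :
    IsSchImage f.hom i.hom ↔ IsCutOutBy (idealOfRep hf) i.hom := by
  have hQ := isQCoh_idealOfRep_of_quasiCompact hf hqc
  have key : ∀ (Z₀ : AlgSp.Space S) (i₀ : Z₀ ⟶ Y), IsCutOutBy (idealOfRep hf) i₀.hom →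
      IsSchImage f.hom i₀.hom := by
    intro Z₀ i₀ h₀
    refine ⟨h₀.1, exists_factor_of_isCutOutBy_idealOfRep X.property Y.property hf h₀, ?_⟩
    intro Z' i' hZ' hi' ⟨f'', hf''⟩
    exact (idealEt_le_iff_factors Y.property ⟨hi', rfl⟩ h₀).1
      (idealOfRep_le_of_factors hf hi'.1 f'' hf'')
  refine ⟨fun h => ?_, key Z i⟩
  obtain ⟨hi, ⟨f', hf'⟩, hmin⟩ := h
  obtain ⟨Z₀, i₀, h₀⟩ := exists_isCutOutBy Y (idealOfRep hf) hQ
  obtain ⟨hi₀, ⟨f₀, hf₀⟩, hmin₀⟩ := key Z₀ i₀ h₀
  obtain ⟨k, hk⟩ := hmin i₀.hom Z₀.property hi₀ ⟨f₀, hf₀⟩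
  obtain ⟨k₀, hk₀⟩ := hmin₀ i.hom Z.property hi ⟨f', hf'⟩
  refine ⟨hi, ?_⟩
  have hZ : IsCutOutBy (idealOfRep hi.1) i.hom := ⟨hi, rfl⟩
  have h1 : idealOfRep hf ≤ idealOfRep hi.1 :=
    (idealEt_le_iff_factors Y.property h₀ hZ).2 ⟨k, hk⟩
  have h2 : idealOfRep hi.1 ≤ idealOfRep hf :=
    (idealEt_le_iff_factors Y.property hZ h₀).2 ⟨k₀, hk₀⟩
  apply IdealEt.ext
  funext E hE
  exact le_antisymm (h2 E hE) (h1 E hE)

end Groth.Agent.LibAlgSpIdeal29
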