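import Mathlib
import Groth.Prelude.Def_AlgSpModX
import Groth.Agent.LibAlgSpIdeal29c

/-!
# The kernel ideal family of an arbitrary morphism of sheaves (helper29)

* `appTop_injective_of_flat_of_surjective`.
* `kerAt f ψ`: for `f : X ⟶ Y` and `ψ : h_{T₀} ⟶ Y`, the ideal of functions on `T₀` vanishing on every
  scheme over `T₀` that lifts to `X`.
* `kerAt_eq_ker_of_isPullback`, `kerAt_of_isPullback`, `kerAt_eq_ker_of_cover`, `kerAt_flat`.
-/

set_option autoImplicit false
set_option backward.isDefEq.respectTransparency false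
universe u
open CategoryTheory CategoryTheory.Limits AlgebraicGeometry
open AlgSp

namespace Groth.Agent.LibAlgSpIdeal29

open Groth.Agent.LibAlgSpCartier29

variable {S : Scheme.{u}}

/-- Pullback of functions along a flat surjective morphism is injective. -/
theorem appTop_injective_of_flat_of_surjective {X Y : Scheme.{u}} (f : X ⟶ Y) [Flat f]
    [Surjective f] : Function.Injective f.appTop.hom := by
  rw [injective_iff_map_eq_zero]
  intro s hs
  refine TopCat.Presheaf.section_ext Y.sheaf ⊤ s 0 fun y hy => ?_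
  obtain ⟨x, rfl⟩ := ‹Surjective f›.surj y
  have hinj : Function.Injective (f.stalkMap x).hom := by
    algebraize [(f.stalkMap x).hom]
    have : Module.FaithfullyFlat (Y.presheaf.stalk (f x)) (X.presheaf.stalk x) :=
      @Module.FaithfullyFlat.of_flat_of_isLocalHom _ _ _ _ _ _ _
        (Flat.stalkMap f x) (f.toLRSHom.prop x)
    exact ‹RingHom.FaithfullyFlat _›.injective
  apply hinj
  have h1 := Scheme.Hom.germ_stalkMap_apply f ⊤ x hy s
  rw [map_zero, map_zero]
  refine h1.trans ?_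
  have hs' : f.app ⊤ s = 0 := hs
  rw [hs', map_zero]

/-- The ideal of functions on `T₀` vanishing on every scheme over `T₀` that lifts to `X` along
`f`. -/
def kerAt {X Y : Sp S} (f : X ⟶ Y) {T₀ : Over S} (ψ : (yon S).obj T₀ ⟶ Y) :
    Ideal Γ(T₀.left, ⊤) where
  carrier := {a | ∀ (T : Over S) (x : (yon S).obj T ⟶ X) (e : T ⟶ T₀),
    x ≫ f = (yon S).map e ≫ ψ → e.left.appTop.hom a = 0}
  add_mem' := by
    intro a b ha hb T x e w
    rw [map_add, ha T x e w, hb T x e w, add_zero]
  zero_mem' := by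
    intro T x e w
    rw [map_zero]
  smul_mem' := by
    intro c a ha T x e w
    rw [smul_eq_mul, map_mul, ha T x e w, mul_zero]

theorem mem_kerAt_iff {X Y : Sp S} (f : X ⟶ Y) {T₀ : Over S} (ψ : (yon S).obj T₀ ⟶ Y)
    (a : Γ(T₀.left, ⊤)) :
    a ∈ kerAt f ψ ↔ ∀ (T : Over S) (x : (yon S).obj T ⟶ X) (e : T ⟶ T₀),
      x ≫ f = (yon S).map e ≫ ψ → e.left.appTop.hom a = 0 := Iff.rfl

/-- Functoriality in the test scheme. -/
theorem kerAt_map_le {X Y : Sp S} (f : X ⟶ Y) {T₀ T₀' : Over S} (ψ : (yon S).obj T₀ ⟶ Y)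
    (γ : T₀' ⟶ T₀) :
    (kerAt f ψ).map γ.left.appTop.hom ≤ kerAt f ((yon S).map γ ≫ ψ) := by
  rw [Ideal.map_le_iff_le_comap]
  intro a ha
  rw [Ideal.mem_comap, mem_kerAt_iff]
  intro T x e w
  have h := ha T x (e ≫ γ) (by rw [w, Functor.map_comp, Category.assoc])
  simpa using h

/-- If the fibre product is a scheme, `kerAt` is the kernel of pullback of functions to it. -/
theorem kerAt_eq_ker_of_isPullback {X Y : Sp S} {f : X ⟶ Y} {T₀ P : Over S}
    {ψ : (yon S).obj T₀ ⟶ Y} {a' : (yon S).obj P ⟶ X} {b : P ⟶ T₀}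
    (sq : IsPullback a' ((yon S).map b) f ψ) : kerAt f ψ = RingHom.ker b.left.appTop.hom := by
  ext a
  rw [mem_kerAt_iff, RingHom.mem_ker]
  constructor
  · intro h
    exact h P a' b sq.w
  · intro h T x e w
    obtain ⟨l, -, hl2⟩ := sq.exists_lift x ((yon S).map e) w
    obtain ⟨l', rfl⟩ := (yon S).map_surjective l
    have hl : l' ≫ b = e := (yon S).map_injective (by rw [Functor.map_comp, hl2])
    rw [← hl]
    simp only [Over.comp_left, Scheme.Hom.comp_appTop, CommRingCat.hom_comp, RingHom.comp_apply]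
    rw [h, map_zero]

/-- `kerAt` of a base change. -/
theorem kerAt_of_isPullback {X Y V XV : Sp S} {f : X ⟶ Y} {b : V ⟶ Y} {f₁ : XV ⟶ X}
    {fV : XV ⟶ V} (sq : IsPullback f₁ fV f b) {T₀ : Over S} (ψ : (yon S).obj T₀ ⟶ V) :
    kerAt fV ψ = kerAt f (ψ ≫ b) := by
  ext a
  rw [mem_kerAt_iff, mem_kerAt_iff]
  constructor
  · intro h T x e w
    obtain ⟨l, hl1, hl2⟩ := sq.exists_lift x ((yon S).map e ≫ ψ) (by rw [w, Category.assoc])
    exact h T l e hl2
  · intro h T x e w
    refine h T (x ≫ f₁) e ?_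
    rw [Category.assoc, sq.w, ← Category.assoc, w, Category.assoc]

/-- If the fibre product has an étale surjective chart `U`, `kerAt` is the kernel of pullback of
functions to `U`. -/
theorem kerAt_eq_ker_of_cover {X Y P : Sp S} {f : X ⟶ Y} {T₀ : Over S}
    {ψ : (yon S).obj T₀ ⟶ Y} {p₁ : P ⟶ X} {p₂ : P ⟶ (yon S).obj T₀} (sq : IsPullback p₁ p₂ f ψ)
    {U : Over S} (q : (yon S).obj U ⟶ P) (hqe : RepWith @Etale q) (hqs : RepWith @Surjective q)
    (u : U ⟶ T₀) (hu : (yon S).map u = q ≫ p₂) :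
    kerAt f ψ = RingHom.ker u.left.appTop.hom := by
  ext a
  rw [mem_kerAt_iff, RingHom.mem_ker]
  constructor
  · intro h
    exact h U (q ≫ p₁) u (by rw [Category.assoc, sq.w, ← Category.assoc, hu])
  · intro h T x e w
    obtain ⟨t, ht1, ht2⟩ := sq.exists_lift x ((yon S).map e) w
    obtain ⟨T', b, c'', sqT⟩ := hqe.1 t
    obtain ⟨c, rfl⟩ := (yon S).map_surjective c''
    haveI : Etale b.left := hqe.2 _ _ _ sqT
    haveI : Surjective b.left := hqs.2 _ _ _ sqT
    have hcomm : c ≫ u = b ≫ e := (yon S).map_injective (by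
      rw [Functor.map_comp, Functor.map_comp, hu, ← Category.assoc, sqT.w, Category.assoc, ht2])
    apply appTop_injective_of_flat_of_surjective b.left
    rw [map_zero]
    have h2 := congrArg (fun z => z.left.appTop.hom a) hcomm
    simp only [Over.comp_left, Scheme.Hom.comp_appTop, CommRingCat.hom_comp,
      RingHom.comp_apply] at h2
    rw [← h2, h, map_zero]

/-- For a quasi-compact morphism, `kerAt` commutes with flat base change of affine test schemes. -/
theorem kerAt_flat {X Y : Sp S} {f : X ⟶ Y} (hqc : IsQuasiCompactMor f) {T₀ T₀' : Over S}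
    [IsAffine T₀.left] [IsAffine T₀'.left] (ψ : (yon S).obj T₀ ⟶ Y) (γ : T₀' ⟶ T₀)
    [Flat γ.left] :
    kerAt f ((yon S).map γ ≫ ψ) = (kerAt f ψ).map γ.left.appTop.hom := by
  refine le_antisymm ?_ (kerAt_map_le f ψ γ)
  have sq := IsPullback.of_hasPullback f ψ
  obtain ⟨U, q, hqe, hqs, hU⟩ := hqc (IsAlgSpace.yon_obj T₀)
    (Groth.Agent.Lib.helper7.AlgSpQC.isQuasiCompactSp_yon T₀) ψ (pullback.fst f ψ)
    (pullback.snd f ψ) sq
  haveI : CompactSpace U.left := hU
  obtain ⟨u, hu⟩ := (yon S).map_surjective (q ≫ pullback.snd f ψ)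
  rw [kerAt_eq_ker_of_cover sq q hqe hqs u hu]
  have sqO : IsPullback (pullback.fst u γ) (pullback.snd u γ) u γ := IsPullback.of_hasPullback u γ
  have sqS : IsPullback (pullback.fst u γ).left (pullback.snd u γ).left u.left γ.left :=
    sqO.map (Over.forget S)
  haveI : QuasiCompact u.left := inferInstance
  have hker := ker_snd_of_isPullback_of_flat sqS
  intro a ha
  have h0 : (pullback.snd u γ).left.appTop.hom a = 0 :=
    ha _ ((yon S).map (pullback.fst u γ) ≫ q ≫ pullback.fst f ψ) (pullback.snd u γ) (by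
      rw [Category.assoc, Category.assoc, sq.w, ← Category.assoc q, ← hu, ← Category.assoc,
        ← Functor.map_comp, sqO.w, Functor.map_comp, Category.assoc])
  haveI : QuasiCompact (pullback.snd u γ).left :=
    MorphismProperty.of_isPullback (P := @QuasiCompact) sqS ‹QuasiCompact u.left›
  have h1 : a ∈ (pullback.snd u γ).left.ker.ideal ⟨⊤, isAffineOpen_top _⟩ := by
    rw [Scheme.Hom.ker_apply, RingHom.mem_ker]
    exact h0
  rw [hker, Groth.Agent.Lib.helper7.IdealComap.ideal_comap_of_isAffine, Scheme.Hom.ker_apply] at h1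
  exact h1

end Groth.Agent.LibAlgSpIdeal29
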