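import Mathlib
import Groth.Prelude.Def_AlgSpModX
import Groth.Agent.LibAlgSpKer29

/-!
# The kernel ideal family of a morphism of sheaves and scheme theoretic images (helper29)

* `kerIdeal f : IdealEt Y`, quasi-coherent for quasi-compact `f` (`isQCoh_kerIdeal`), equal to
  `idealOfRep` for representable `f`.
* `isSchImage_iff_isCutOutBy_kerIdeal`: for a quasi-compact morphism of algebraic spaces, the scheme
  theoretic image is the closed subspace cut out by `kerIdeal f`.
-/

set_option autoImplicit false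
set_option backward.isDefEq.respectTransparency false
universe u
open CategoryTheory CategoryTheory.Limits AlgebraicGeometry
open AlgSp

namespace Groth.Agent.LibAlgSpIdeal29

open Groth.Agent.LibAlgSpCartier29

variable {S : Scheme.{u}}

/-- The family of kernel ideals of an arbitrary morphism of sheaves. -/
def kerIdeal {X Y : Sp S} (f : X ⟶ Y) : IdealEt Y where
  ideal E _ := kerAt f E.obj.hom
  map_le {E E'} g hE hE' := by
    have h := kerAt_map_le f E.obj.hom g.hom.left
    rw [EtOver.w g] at h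
    exact h

theorem kerIdeal_ideal {X Y : Sp S} (f : X ⟶ Y) (E : EtOver Y) (hE : IsAffine E.obj.left.left) :
    (kerIdeal f).ideal E hE = kerAt f E.obj.hom := rfl

theorem isQCoh_kerIdeal {X Y : Sp S} {f : X ⟶ Y} (hqc : IsQuasiCompactMor f) :
    (kerIdeal f).IsQCoh := by
  intro E E' g hE hE'
  haveI := hE
  haveI := hE'
  haveI : Etale g.hom.left.left := EtOver.etale_left g
  have h := kerAt_flat hqc E.obj.hom g.hom.left
  rw [EtOver.w g] at h
  exact h.le

theorem kerIdeal_eq_idealOfRep {X Y : Sp S} {f : X ⟶ Y} (hf : Representable f) :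
    kerIdeal f = idealOfRep hf := by
  apply IdealEt.ext
  funext E hE
  exact kerAt_eq_ker_of_isPullback (hf.isPullback E.obj.hom)

theorem idealOfRep_le_kerIdeal_of_factors {F G Z : Sp S} {f : F ⟶ G} {i : Z ⟶ G}
    (hi : Representable i) (k : F ⟶ Z) (hk : k ≫ i = f) : idealOfRep hi ≤ kerIdeal f := by
  intro E hE a ha
  rw [mem_idealOfRep_iff] at ha
  show a ∈ kerAt f E.obj.hom
  rw [mem_kerAt_iff]
  intro T x e w
  have hcomm : (x ≫ k) ≫ i = (yon S).map e ≫ E.obj.hom := by rw [Category.assoc, hk, w]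
  have hl : hi.lift (x ≫ k) e hcomm ≫ hi.snd E.obj.hom = e := hi.lift_snd _ _ _
  have h2 := congrArg (fun z => z.left.appTop.hom a) hl
  simp only [Over.comp_left, Scheme.Hom.comp_appTop, CommRingCat.hom_comp,
    RingHom.comp_apply] at h2
  have ha' : (hi.snd E.obj.hom).left.appTop.hom a = 0 := ha
  rw [ha', map_zero] at h2
  exact h2.symm

theorem kerIdeal_le_comp {W X Y : Sp S} (a : W ⟶ X) (f : X ⟶ Y) :
    kerIdeal f ≤ kerIdeal (a ≫ f) := by
  intro E hE c hc
  show c ∈ kerAt (a ≫ f) E.obj.hom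
  rw [mem_kerAt_iff]
  intro T x e w
  exact hc T (x ≫ a) e (by rw [Category.assoc, w])

/-- A morphism from an algebraic space factors through a closed subspace whose ideal family is
contained in the kernel family. -/
theorem exists_factor_of_le_kerIdeal {X Y Z : Sp S} (hX : IsAlgSpace X) (hY : IsAlgSpace Y)
    {f : X ⟶ Y} {i : Z ⟶ Y} {I : IdealEt Y} (hZ : IsCutOutBy I i) (hle : I ≤ kerIdeal f) :
    ∃ f' : X ⟶ Z, f' ≫ i = f := by
  obtain ⟨U, a, hae, has⟩ := hX.atlas
  have hh : Representable (a ≫ f) := hY.representable_from_yon (a ≫ f)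
  have hle' : I ≤ idealOfRep hh := by
    rw [← kerIdeal_eq_idealOfRep hh]
    exact fun E hE => (hle E hE).trans (kerIdeal_le_comp a f E hE)
  obtain ⟨k, hk⟩ := (factors_iff_le_idealOfRep hY hZ (a ≫ f) hh).2 hle'
  haveI := mono_of_closedImmersion' hZ.1
  have he : Sheaf.IsLocallySurjective a :=
    Groth.Agent.S9885.result S _ _ a
      (Groth.Agent.S10194.repWith_mono (fun _ _ g hg => by
        have : Etale g := hg
        exact (inferInstance : Flat g)) hae)
      (Groth.Agent.S10194.repWith_mono (fun _ _ g hg => by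
        have : Etale g := hg
        exact (inferInstance : LocallyOfFinitePresentation g)) hae) has
  exact exists_factor_of_locallySurjective i f a he k hk

/-- A closed subspace cut out by the kernel family is the scheme theoretic image. -/
theorem isSchImage_of_isCutOutBy_kerIdeal {X Y : AlgSp.Space S} (f : X ⟶ Y)
    (Z₀ : AlgSp.Space S) (i₀ : Z₀ ⟶ Y) (h₀ : IsCutOutBy (kerIdeal f.hom) i₀.hom) :
    IsSchImage f.hom i₀.hom := by
  refine ⟨h₀.1, exists_factor_of_le_kerIdeal X.property Y.property h₀ (fun E hE => le_rfl), ?_⟩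
  intro Z' i' hZ' hi' ⟨f'', hf''⟩
  exact (idealEt_le_iff_factors Y.property ⟨hi', rfl⟩ h₀).1
    (idealOfRep_le_kerIdeal_of_factors hi'.1 f'' hf'')

/-- The scheme theoretic image of a quasi-compact morphism of algebraic spaces is the closed
subspace cut out by its kernel family. -/
theorem isSchImage_iff_isCutOutBy_kerIdeal {X Y : AlgSp.Space S} (f : X ⟶ Y)
    (hqc : IsQuasiCompactMor f.hom) (Z : AlgSp.Space S) (i : Z ⟶ Y) :
    IsSchImage f.hom i.hom ↔ IsCutOutBy (kerIdeal f.hom) i.hom := by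
  have hQ := isQCoh_kerIdeal hqc
  refine ⟨fun h => ?_, isSchImage_of_isCutOutBy_kerIdeal f Z i⟩
  obtain ⟨hi, ⟨f', hf'⟩, hmin⟩ := h
  obtain ⟨Z₀, i₀, h₀⟩ := exists_isCutOutBy Y (kerIdeal f.hom) hQ
  obtain ⟨hi₀, ⟨f₀, hf₀⟩, hmin₀⟩ := isSchImage_of_isCutOutBy_kerIdeal f Z₀ i₀ h₀
  obtain ⟨k, hk⟩ := hmin i₀.hom Z₀.property hi₀ ⟨f₀, hf₀⟩
  obtain ⟨k₀, hk₀⟩ := hmin₀ i.hom Z.property hi ⟨f', hf'⟩
  refine ⟨hi, ?_⟩
  have hZ : IsCutOutBy (idealOfRep hi.1) i.hom := ⟨hi, rfl⟩
  have h1 : kerIdeal f.hom ≤ idealOfRep hi.1 :=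
    (idealEt_le_iff_factors Y.property h₀ hZ).2 ⟨k, hk⟩
  have h2 : idealOfRep hi.1 ≤ kerIdeal f.hom :=
    (idealEt_le_iff_factors Y.property hZ h₀).2 ⟨k₀, hk₀⟩
  apply IdealEt.ext
  funext E hE
  exact le_antisymm (h2 E hE) (h1 E hE)

end Groth.Agent.LibAlgSpIdeal29
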