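import Mathlib
import Groth.Prelude.Def_AlgSpModX
import Groth.Agent.LibAlgSpKer29b

/-!
# Scheme theoretic images of quasi-compact morphisms of algebraic spaces: étale base change and
density (helper29)

* `isSchImage_etale_baseChange`
* `range_subset_closure_of_isSchImage`
-/

set_option autoImplicit false
set_option backward.isDefEq.respectTransparency false
universe u
open CategoryTheory CategoryTheory.Limits AlgebraicGeometry
open AlgSp

namespace Groth.Agent.LibAlgSpIdeal29

open Groth.Agent.LibAlgSpCartier29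

variable {S : Scheme.{u}}

/-- The closed subspace cut out by the kernel family pulls back, along an étale morphism, to the
closed subspace cut out by the kernel family of the base change. -/
theorem isCutOutBy_kerIdeal_etale_baseChange {X Y Z V XV ZV : Sp S} {f : X ⟶ Y} {i : Z ⟶ Y}
    (hZ : IsCutOutBy (kerIdeal f) i) {b : V ⟶ Y} (hb : IsEtaleMor b) {f₁ : XV ⟶ X} {fV : XV ⟶ V}
    {i₁ : ZV ⟶ Z} {iV : ZV ⟶ V} (sqX : IsPullback f₁ fV f b) (sqZ : IsPullback i₁ iV i b) :
    IsCutOutBy (kerIdeal fV) iV := by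
  obtain ⟨hi, heq⟩ := hZ
  have hiV : RepWith @IsClosedImmersion iV :=
    (RepWith (S := S) @IsClosedImmersion).of_isPullback sqZ hi
  refine ⟨hiV, ?_⟩
  apply IdealEt.ext
  funext E' hE'
  have h1 : (idealOfRep hiV.1).ideal E' hE' = kerAt iV E'.obj.hom := by
    rw [← kerIdeal_eq_idealOfRep hiV.1]
    rfl
  have h2 := kerAt_of_isPullback sqZ E'.obj.hom
  have h3 := kerAt_of_isPullback sqX E'.obj.hom
  have h4 : (idealOfRep hi.1).ideal ((EtOver.postcomp b hb).obj E') hE' =
      (kerIdeal f).ideal ((EtOver.postcomp b hb).obj E') hE' := by rw [heq]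
  have h5 : (idealOfRep hi.1).ideal ((EtOver.postcomp b hb).obj E') hE' =
      kerAt i ((EtOver.postcomp b hb).obj E').obj.hom := by
    rw [← kerIdeal_eq_idealOfRep hi.1]
    rfl
  rw [h1, h2]
  show _ = kerAt fV E'.obj.hom
  rw [h3]
  exact h5.symm.trans h4

/-- Scheme theoretic images of quasi-compact morphisms commute with étale base change. -/
theorem isSchImage_etale_baseChange {X Y Z V XV ZV : AlgSp.Space S} (f : X ⟶ Y) (i : Z ⟶ Y)
    (hq : IsQuasiCompactMor f.hom) (hZ : IsSchImage f.hom i.hom) (b : V ⟶ Y)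
    (hb : IsEtaleMor b.hom) (f₁ : XV ⟶ X) (fV : XV ⟶ V) (i₁ : ZV ⟶ Z) (iV : ZV ⟶ V)
    (sqX : IsPullback f₁.hom fV.hom f.hom b.hom) (sqZ : IsPullback i₁.hom iV.hom i.hom b.hom) :
    IsSchImage fV.hom iV.hom :=
  isSchImage_of_isCutOutBy_kerIdeal fV ZV iV
    (isCutOutBy_kerIdeal_etale_baseChange ((isSchImage_iff_isCutOutBy_kerIdeal f hq Z i).1 hZ) hb
      sqX sqZ)

/-- A scheme with `1 = 0` in its ring of global functions is empty. -/
theorem isEmpty_of_one_eq_zero (T : Scheme.{u}) (h : (1 : Γ(T, ⊤)) = 0) : IsEmpty T := by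
  refine ⟨fun t => ?_⟩
  have h1 : (T.presheaf.germ ⊤ t trivial).hom (1 : Γ(T, ⊤)) = 0 := by rw [h, map_zero]
  rw [map_one] at h1
  exact one_ne_zero h1

/-- The image of a morphism of algebraic spaces is dense in its scheme theoretic image, when the
latter is cut out by the kernel family. -/
theorem range_subset_closure_of_isCutOutBy {X Y Z : AlgSp.Space S} (f : X ⟶ Y) (i : Z ⟶ Y)
    (hZ : IsCutOutBy (kerIdeal f.hom) i.hom) :
    Set.range (Points.map i.hom) ⊆ closure (Set.range (Points.map f.hom)) := by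
  rintro _ ⟨z, rfl⟩
  by_contra hy
  obtain ⟨hi, heq⟩ := hZ
  obtain ⟨U, q, hqe, hqs⟩ := Y.property.atlas
  obtain ⟨u, hu⟩ := Groth.Agent.Lib.helper11.surjective_ofPt q hqs (Points.map i.hom z)
  have hO : IsOpen (Points.ofPt q ⁻¹' (closure (Set.range (Points.map f.hom)))ᶜ) :=
    (isClosed_closure.isOpen_compl).preimage (Points.continuous_ofPt q)
  have huO : u ∈ (⟨_, hO⟩ : U.left.Opens) := by
    show Points.ofPt q u ∈ (closure (Set.range (Points.map f.hom)))ᶜ
    rw [hu]
    exact hy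
  obtain ⟨A, hA, huA, hAO⟩ := TopologicalSpace.Opens.isBasis_iff_nbhd.mp
    U.left.isBasis_affineOpens huO
  -- the kernel family on the chart `A` is the unit ideal
  have htop : (kerIdeal f.hom).ideal (chartObj q hqe ⟨A, hA⟩) hA = ⊤ := by
    rw [Ideal.eq_top_iff_one]
    show (1 : Γ((A : Scheme.{u}), ⊤)) ∈ kerAt f.hom (chartObj q hqe ⟨A, hA⟩).obj.hom
    rw [mem_kerAt_iff]
    intro T x e w
    haveI : IsEmpty T.left := by
      refine ⟨fun t => ?_⟩
      have h1 : Points.ofPt (x ≫ f.hom) t = Points.ofPt q (Scheme.Opens.ι A (e.left t)) := by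
        rw [w]
        show Points.ofPt ((yon S).map e ≫ (yon S).map _ ≫ q) t = _
        rw [Groth.Agent.Lib.helper11.ofPt_yon_map_comp,
          Groth.Agent.Lib.helper11.ofPt_yon_map_comp]
        rfl
      have h2 : Points.ofPt q (Scheme.Opens.ι A (e.left t)) ∈
          (closure (Set.range (Points.map f.hom)))ᶜ := hAO (e.left t).2
      rw [← h1, ← Points.map_ofPt] at h2
      exact h2 (subset_closure ⟨_, rfl⟩)
    exact Subsingleton.elim _ _
  rw [← heq] at htop
  have h1 : (1 : Γ((A : Scheme.{u}), ⊤)) ∈ (idealOfRep hi.1).ideal (chartObj q hqe ⟨A, hA⟩) hA := by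
    rw [htop]
    trivial
  rw [mem_idealOfRep_iff, map_one] at h1
  have hemp := isEmpty_of_one_eq_zero _ h1
  have hxu : Points.map i.hom z = Points.ofPt (chartObj q hqe ⟨A, hA⟩).obj.hom ⟨u, huA⟩ := by
    rw [← hu]
    show _ = Points.ofPt ((yon S).map _ ≫ q) _
    rw [Groth.Agent.Lib.helper11.ofPt_yon_map_comp]
    rfl
  obtain ⟨v, -, -⟩ := Groth.Agent.Lib.helper11.exists_of_isPullback_scheme
    (hi.1.isPullback (chartObj q hqe ⟨A, hA⟩).obj.hom) z ⟨u, huA⟩ hxu
  exact hemp.false v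

end Groth.Agent.LibAlgSpIdeal29
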