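import Mathlib
import Groth.Prelude.Def_AlgSpModX
import Groth.Agent.LibAlgSpKer29c

/-!
# Scheme theoretic images of quasi-compact morphisms of algebraic spaces: flat base change (helper29)

* `kerAt_eq_of_locP_flat`: two quasi-compact morphisms to an algebraic space `Y` with the same kernel
  families have the same `kerAt` at every affine `ψ : h_{T₀} ⟶ Y` that is flat (étale locally).
* `isSchImage_flat_baseChange`.
-/

set_option autoImplicit false
set_option backward.isDefEq.respectTransparency false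
universe u
open CategoryTheory CategoryTheory.Limits AlgebraicGeometry
open AlgSp

namespace Groth.Agent.LibAlgSpIdeal29

open Groth.Agent.LibAlgSpCartier29

variable {S : Scheme.{u}}

theorem exists_flat_local_kerAt_eq {Y V Z : Sp S} (hY : IsAlgSpace Y) {g : V ⟶ Y} {i : Z ⟶ Y}
    (hg : IsQuasiCompactMor g) (hi : IsQuasiCompactMor i) (heq : kerIdeal i = kerIdeal g)
    {T₀ : Over S} [IsAffine T₀.left] (ψ : (yon S).obj T₀ ⟶ Y) (hψ : LocP @Flat ψ)
    (𝔭 : Ideal Γ(T₀.left, ⊤)) (h𝔭 : 𝔭.IsMaximal) :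
    ∃ (R' : Type u) (_ : CommRing R') (φ : Γ(T₀.left, ⊤) →+* R') (𝔮 : Ideal R'),
      φ.Flat ∧ 𝔮.IsPrime ∧ 𝔮.comap φ = 𝔭 ∧ (kerAt i ψ).map φ = (kerAt g ψ).map φ := by
  obtain ⟨U, q, hqe, hqs⟩ := hY.atlas
  obtain ⟨W, w, v'', sqW⟩ := hqe.1 ψ
  obtain ⟨v, rfl⟩ := (yon S).map_surjective v''
  haveI hwe : Etale w.left := hqe.2 _ _ _ sqW
  haveI hws : Surjective w.left := hqs.2 _ _ _ sqW
  haveI hvf : Flat v.left :=
    hψ ((yon S).map w) q v ((repWith_yon_map_iff @Etale w).2 hwe) hqe sqW.w.symm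
  haveI := h𝔭.isPrime
  obtain ⟨x, hx⟩ := Groth.Agent.LibAlgSpCartier29j.exists_primeAtPt_eq T₀.left 𝔭
  obtain ⟨x', hx'⟩ := hws.surj x
  obtain ⟨A, hA, hxA, -⟩ := TopologicalSpace.Opens.isBasis_iff_nbhd.mp
    U.left.isBasis_affineOpens (show v.left x' ∈ (⊤ : U.left.Opens) from trivial)
  obtain ⟨B, hB, hxB, hBA⟩ := TopologicalSpace.Opens.isBasis_iff_nbhd.mp
    W.left.isBasis_affineOpens (show x' ∈ v.left ⁻¹ᵁ A from hxA)
  -- the morphisms `γ₁ : B ⟶ T₀` and `γ₂ : B ⟶ A`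
  let βW : Over.mk (Scheme.Opens.ι B ≫ W.hom) ⟶ W := Over.homMk (Scheme.Opens.ι B) rfl
  let αU : Over.mk (Scheme.Opens.ι A ≫ U.hom) ⟶ U := Over.homMk (Scheme.Opens.ι A) rfl
  have hr : Set.range (Scheme.Opens.ι B ≫ v.left) ⊆ Set.range (Scheme.Opens.ι A) := by
    rintro _ ⟨y, rfl⟩
    rw [Scheme.Opens.range_ι]
    exact hBA y.2
  let c : (B : Scheme.{u}) ⟶ (A : Scheme.{u}) :=
    IsOpenImmersion.lift (Scheme.Opens.ι A) (Scheme.Opens.ι B ≫ v.left) hr
  have hc : c ≫ Scheme.Opens.ι A = Scheme.Opens.ι B ≫ v.left := IsOpenImmersion.lift_fac _ _ _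
  let γ₂ : Over.mk (Scheme.Opens.ι B ≫ W.hom) ⟶ Over.mk (Scheme.Opens.ι A ≫ U.hom) :=
    Over.homMk c (by
      dsimp
      rw [← Category.assoc, hc, Category.assoc, Over.w v])
  have hγ₂ : γ₂ ≫ αU = βW ≫ v := by
    apply Over.OverMorphism.ext
    simp only [Over.comp_left, Over.homMk_left]
    exact hc
  let γ₁ : Over.mk (Scheme.Opens.ι B ≫ W.hom) ⟶ T₀ := βW ≫ w
  haveI : IsAffine (Over.mk (Scheme.Opens.ι B ≫ W.hom)).left := hB
  haveI : IsAffine (Over.mk (Scheme.Opens.ι A ≫ U.hom)).left := hA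
  haveI : IsAffine (chartObj q hqe ⟨A, hA⟩).obj.left.left := hA
  haveI hfl₁ : Flat γ₁.left := by
    show Flat (Scheme.Opens.ι B ≫ w.left)
    infer_instance
  haveI hfl₂ : Flat γ₂.left := by
    show Flat c
    have h : Flat (c ≫ Scheme.Opens.ι A) := by
      rw [hc]
      infer_instance
    exact MorphismProperty.of_postcomp (W := @Flat) (W' := @IsOpenImmersion) c
      (Scheme.Opens.ι A) inferInstance h
  have hkey : (yon S).map γ₁ ≫ ψ = (yon S).map γ₂ ≫ (chartObj q hqe ⟨A, hA⟩).obj.hom := by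
    show (yon S).map (βW ≫ w) ≫ ψ = (yon S).map γ₂ ≫ (yon S).map αU ≫ q
    rw [← Category.assoc ((yon S).map γ₂), ← Functor.map_comp, hγ₂, Functor.map_comp,
      Functor.map_comp, Category.assoc, Category.assoc, sqW.w]
  refine ⟨Γ((B : Scheme.{u}), ⊤), inferInstance, γ₁.left.appTop.hom,
    primeAtPt (B : Scheme.{u}) ⟨x', hxB⟩, Scheme.Hom.flat_appTop _, inferInstance, ?_, ?_⟩
  · have h := primeAtPt_comap γ₁.left ⟨x', hxB⟩
    refine h.trans ?_
    rw [← hx]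
    congr 1
  · rw [← kerAt_flat hi ψ γ₁, ← kerAt_flat hg ψ γ₁, hkey,
      kerAt_flat hi (chartObj q hqe ⟨A, hA⟩).obj.hom γ₂,
      kerAt_flat hg (chartObj q hqe ⟨A, hA⟩).obj.hom γ₂,
      ← kerIdeal_ideal i (chartObj q hqe ⟨A, hA⟩) hA,
      ← kerIdeal_ideal g (chartObj q hqe ⟨A, hA⟩) hA, heq]

/-- Two quasi-compact morphisms with the same kernel families have the same `kerAt` at flat affine
test morphisms. -/
theorem kerAt_eq_of_locP_flat {Y V Z : Sp S} (hY : IsAlgSpace Y) {g : V ⟶ Y} {i : Z ⟶ Y}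
    (hg : IsQuasiCompactMor g) (hi : IsQuasiCompactMor i) (heq : kerIdeal i = kerIdeal g)
    {T₀ : Over S} [IsAffine T₀.left] (ψ : (yon S).obj T₀ ⟶ Y) (hψ : LocP @Flat ψ) :
    kerAt i ψ = kerAt g ψ := by
  refine le_antisymm (ideal_le_of_forall_flat _ _ fun 𝔭 h𝔭 => ?_)
    (ideal_le_of_forall_flat _ _ fun 𝔭 h𝔭 => ?_)
  · obtain ⟨R', hR', φ, 𝔮, h1, h2, h3, h4⟩ := exists_flat_local_kerAt_eq hY hg hi heq ψ hψ 𝔭 h𝔭
    exact ⟨R', hR', φ, 𝔮, h1, h2, h3, h4.le⟩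
  · obtain ⟨R', hR', φ, 𝔮, h1, h2, h3, h4⟩ := exists_flat_local_kerAt_eq hY hg hi heq ψ hψ 𝔭 h𝔭
    exact ⟨R', hR', φ, 𝔮, h1, h2, h3, h4.ge⟩

/-- Scheme theoretic images of quasi-compact morphisms commute with flat base change. -/
theorem isSchImage_flat_baseChange {X Y V Z VX ZX : AlgSp.Space S} (f : X ⟶ Y)
    (hf : LocP @Flat f.hom) (g : V ⟶ Y) (hg : IsQuasiCompactMor g.hom) (i : Z ⟶ Y)
    (hZ : IsSchImage g.hom i.hom) (g₁ : VX ⟶ V) (gX : VX ⟶ X)
    (sqV : IsPullback g₁.hom gX.hom g.hom f.hom) (i₁ : ZX ⟶ Z) (iX : ZX ⟶ X)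
    (sqZ : IsPullback i₁.hom iX.hom i.hom f.hom) : IsSchImage gX.hom iX.hom := by
  obtain ⟨hi, heq⟩ := (isSchImage_iff_isCutOutBy_kerIdeal g hg Z i).1 hZ
  have hiX : RepWith @IsClosedImmersion iX.hom :=
    (RepWith (S := S) @IsClosedImmersion).of_isPullback sqZ hi
  have hiq : IsQuasiCompactMor i.hom :=
    Groth.Agent.Lib.helper7.AlgSpQC.isQuasiCompactMor_of_repWith
      (Groth.Agent.S10194.repWith_mono (fun _ _ k hk => by
        have : IsClosedImmersion k := hk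
        exact (inferInstance : QuasiCompact k)) hi)
  have heq' : kerIdeal i.hom = kerIdeal g.hom := by
    rw [kerIdeal_eq_idealOfRep hi.1, heq]
  refine isSchImage_of_isCutOutBy_kerIdeal gX ZX iX ⟨hiX, ?_⟩
  apply IdealEt.ext
  funext E' hE'
  haveI := hE'
  have h1 : (idealOfRep hiX.1).ideal E' hE' = kerAt iX.hom E'.obj.hom := by
    rw [← kerIdeal_eq_idealOfRep hiX.1]
    rfl
  have hψ : LocP @Flat (E'.obj.hom ≫ f.hom) := by
    intro U' V' a b h hae hbe hcomm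
    refine hf (a ≫ E'.obj.hom) b h
      ((repWith_isMultiplicative (S := S) @Etale).comp_mem _ _ hae E'.property) hbe ?_
    rw [Category.assoc, hcomm]
  rw [h1, kerAt_of_isPullback sqZ E'.obj.hom,
    kerAt_eq_of_locP_flat Y.property hg hiq heq' (E'.obj.hom ≫ f.hom) hψ,
    ← kerAt_of_isPullback sqV E'.obj.hom]
  rfl

end Groth.Agent.LibAlgSpIdeal29
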