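import Mathlib
import Groth.Prelude.Def_AlgSpModX
import Groth.Agent.LibAlgSpKer29c
import Groth.Agent.S10275
import Groth.Agent.Lib.Helper5.AlgSpQCFam
import Groth.Agent.Lib.Helper5.AlgSpFibreProduct

/-!
# The scheme theoretic image of a section over a quasi-compact open (helper29)

* `repWith_closedImmersion_of_section`: a section of a separated morphism is a closed immersion.
* `isIso_snd_schImage_section`: the scheme theoretic image of a section `s` of a separated `f` over a
  quasi-compact open `V` of `Y` is isomorphic to `V` over `V`.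
-/

set_option autoImplicit false
set_option backward.isDefEq.respectTransparency false
universe u
open CategoryTheory CategoryTheory.Limits AlgebraicGeometry
open AlgSp

namespace Groth.Agent.LibAlgSpIdeal29

open Groth.Agent.LibAlgSpCartier29

variable {S : Scheme.{u}}

/-- A morphism whose composite with a separated morphism is a closed immersion is a closed
immersion. -/
theorem repWith_closedImmersion_of_comp {A B C : Sp S} (a : A ⟶ B) (b : B ⟶ C)
    (hb : IsSeparatedMor b) (hab : RepWith @IsClosedImmersion (a ≫ b)) :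
    RepWith @IsClosedImmersion a := by
  haveI : (RepWith (S := S) @IsClosedImmersion).HasOfPostcompProperty
      (RepWith (S := S) @IsClosedImmersion).diagonal :=
    MorphismProperty.hasOfPostcompProperty_iff_le_diagonal.mpr le_rfl
  exact MorphismProperty.of_postcomp (W := RepWith (S := S) @IsClosedImmersion)
    (W' := (RepWith (S := S) @IsClosedImmersion).diagonal) a b hb hab

/-- Two closed subspaces of an algebraic space cut out by the same family of ideals are isomorphic
over it. -/
theorem exists_iso_of_isCutOutBy {X Z Z' : Sp S} (hX : IsAlgSpace X) {i : Z ⟶ X} {i' : Z' ⟶ X}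
    {I : IdealEt X} (h : IsCutOutBy I i) (h' : IsCutOutBy I i') :
    ∃ e : Z ≅ Z', e.hom ≫ i' = i := by
  obtain ⟨k, hk⟩ := (idealEt_le_iff_factors hX h' h).1 (fun E hE => le_rfl)
  obtain ⟨k', hk'⟩ := (idealEt_le_iff_factors hX h h').1 (fun E hE => le_rfl)
  haveI := mono_of_closedImmersion' h.1
  haveI := mono_of_closedImmersion' h'.1
  refine ⟨⟨k, k', ?_, ?_⟩, hk⟩
  · rw [← cancel_mono i, Category.assoc, hk', hk, Category.id_comp]
  · rw [← cancel_mono i', Category.assoc, hk, hk', Category.id_comp]

/-- The scheme theoretic image of a section of a separated morphism over a quasi-compact open maps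
isomorphically to that open. -/
theorem isIso_snd_schImage_section {X Y V Y' : AlgSp.Space S} (f : X ⟶ Y) (j : V ⟶ Y)
    (hj : RepWith @IsOpenImmersion j.hom) (hjq : IsQuasiCompactMor j.hom)
    (hf : IsSeparatedMor f.hom) (s : V ⟶ X) (hs : s ≫ f = j) (c : Y' ⟶ X)
    (hc : IsSchImage s.hom c.hom) {P : Sp S} (fst : P ⟶ Y'.obj) (snd : P ⟶ V.obj)
    (sq : IsPullback fst snd (c ≫ f).hom j.hom) : IsIso snd := by
  have hs' : s.hom ≫ f.hom = j.hom := congrArg (fun z => z.hom) hs
  -- the open subspace `X_V` of `X`
  have sqXV : IsPullback (pullback.fst f.hom j.hom) (pullback.snd f.hom j.hom) f.hom j.hom :=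
    IsPullback.of_hasPullback _ _
  have hXV : IsAlgSpace (pullback f.hom j.hom) :=
    Groth.Agent.Lib.helper5.isAlgSpace_of_isPullback Y.property.diag X.property V.property sqXV
  have hp₁ : RepWith @IsOpenImmersion (pullback.fst f.hom j.hom) :=
    (RepWith (S := S) @IsOpenImmersion).of_isPullback sqXV.flip hj
  have hp₁e : IsEtaleMor (pullback.fst f.hom j.hom) := fun U φ hφ =>
    (RepWith (S := S) @Etale).comp_mem φ _ hφ (Groth.Agent.S10194.repWith_mono (fun _ _ g hg => by
      have : IsOpenImmersion g := hg
      exact (inferInstance : Etale g)) hp₁)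
  haveI hp₁m : Mono (pullback.fst f.hom j.hom) :=
    Groth.Agent.Lib.helper7.mono_of_repWith (fun _ _ g hg => by
      have : IsOpenImmersion g := hg
      exact MorphismProperty.monomorphisms.infer_property g) hp₁
  have hp₂ : IsSeparatedMor (pullback.snd f.hom j.hom) :=
    Groth.Agent.S10275.isSeparatedMor_of_isPullback sqXV hf
  have hp₁q : IsQuasiCompactMor (pullback.fst f.hom j.hom) :=
    Groth.Agent.S10275.isQuasiCompactMor_of_isPullback sqXV.flip hjq
  -- the section `s'`
  let s' : V.obj ⟶ pullback f.hom j.hom := sqXV.lift s.hom (𝟙 _) (by rw [hs', Category.id_comp])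
  have hs'₁ : s' ≫ pullback.fst f.hom j.hom = s.hom := sqXV.lift_fst _ _ _
  have hs'₂ : s' ≫ pullback.snd f.hom j.hom = 𝟙 _ := sqXV.lift_snd _ _ _
  have hs'cl : RepWith @IsClosedImmersion s' := by
    refine repWith_closedImmersion_of_comp s' _ hp₂ ?_
    rw [hs'₂]
    exact (RepWith (S := S) @IsClosedImmersion).id_mem _
  have hs'q : IsQuasiCompactMor s' :=
    Groth.Agent.Lib.helper7.AlgSpQC.isQuasiCompactMor_of_repWith
      (Groth.Agent.S10194.repWith_mono (fun _ _ k hk => by
        have : IsClosedImmersion k := hk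
        exact (inferInstance : QuasiCompact k)) hs'cl)
  have hsq : IsQuasiCompactMor s.hom := by
    rw [← hs'₁]
    exact Groth.Agent.Lib.helper5.isQuasiCompactMor_comp hXV X.property.diag hs'q hp₁q
  have hcut := (isSchImage_iff_isCutOutBy_kerIdeal s hsq Y' c).1 hc
  -- étale base change to `X_V`
  have sqX' : IsPullback (𝟙 V.obj) s' s.hom (pullback.fst f.hom j.hom) := by
    have h1 := (IsPullback.id_vert s').paste_horiz (IsKernelPair.id_of_mono (pullback.fst f.hom j.hom))
    rw [Category.comp_id, hs'₁] at h1
    exact h1.flip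
  have sqZ' : IsPullback (pullback.fst c.hom (pullback.fst f.hom j.hom))
      (pullback.snd c.hom (pullback.fst f.hom j.hom)) c.hom (pullback.fst f.hom j.hom) :=
    IsPullback.of_hasPullback _ _
  have hcut' := isCutOutBy_kerIdeal_etale_baseChange hcut hp₁e sqX' sqZ'
  have hcut'' : IsCutOutBy (kerIdeal s') s' := ⟨hs'cl, (kerIdeal_eq_idealOfRep hs'cl.1).symm⟩
  obtain ⟨e, he⟩ := exists_iso_of_isCutOutBy hXV hcut' hcut''
  -- identify `P`
  have sqP := sqZ'.paste_vert sqXV
  let ε := sq.isoIsPullback _ _ sqP
  have hε : ε.hom ≫ (pullback.snd c.hom (pullback.fst f.hom j.hom) ≫ pullback.snd f.hom j.hom) = snd :=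
    sq.isoIsPullback_hom_snd _ _ sqP
  have h2 : pullback.snd c.hom (pullback.fst f.hom j.hom) ≫ pullback.snd f.hom j.hom = e.hom := by
    rw [← he, Category.assoc, hs'₂, Category.comp_id]
  rw [← hε, h2]
  infer_instance

end Groth.Agent.LibAlgSpIdeal29
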