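import Mathlib
import Groth.Prelude.Def_AlgSpModX
import Groth.Prelude.Def_AlgSpSub
import Groth.Prelude.Def_Neron
import Groth.Agent.LibAlgSpKer29d
import Groth.Agent.LibAlgSpKer29e
import Groth.Agent.Lib.Helper5.AlgSpCoprod
import Groth.Agent.Lib.Helper5.AlgSpLocPFam
import Groth.Agent.Lib.Helper1.SevenProps

/-!
# Flat closure of a closed subspace of the generic fibre over a Dedekind domain (helper29)

* `flat_of_ker_eq`: ring level flatness of a quotient embedding into an algebra over the fraction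
  field.
* `isSchImage_self`, `exists_iso_of_isSchImage`.
* `schImage_genericFibre` (= S18500).
-/

set_option autoImplicit false
set_option backward.isDefEq.respectTransparency false
universe u
open CategoryTheory CategoryTheory.Limits AlgebraicGeometry
open AlgSp

namespace Groth.Agent.LibAlgSpIdeal29

open Groth.Agent.LibAlgSpCartier29 Groth.Agent.Lib.helper11

/-- Over a Dedekind domain, a quotient of an algebra `B` which embeds into a ring in which the nonzero
elements of the base are invertible is flat. -/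
theorem flat_of_ker_eq {R B C D : Type u} [CommRing R] [IsDedekindDomain R] [CommRing B]
    [CommRing C] [CommRing D] (ρ : R →+* B) (γ : B →+* D) (β : B →+* C)
    (hγ : Function.Surjective γ) (hker : RingHom.ker γ = RingHom.ker β)
    (hunit : ∀ r : R, r ≠ 0 → IsUnit (β (ρ r))) : (γ.comp ρ).Flat := by
  algebraize [γ.comp ρ]
  show Module.Flat R D
  rw [IsDedekindDomain.flat_iff_torsion_eq_bot, eq_bot_iff]
  rintro d ⟨⟨r, hr⟩, h⟩
  obtain ⟨x, rfl⟩ := hγ d
  have h' : γ (ρ r * x) = 0 := by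
    rw [map_mul]
    exact h
  have h1 : ρ r * x ∈ RingHom.ker β := by
    rw [← hker]
    exact h'
  rw [RingHom.mem_ker, map_mul] at h1
  have hx : β x = 0 := (hunit r (nonZeroDivisors.ne_zero hr)).mul_right_eq_zero.mp h1
  have h2 : x ∈ RingHom.ker γ := by
    rw [hker]
    exact hx
  rw [Submodule.mem_bot]
  exact h2

variable {S : Scheme.{u}}

/-- A closed immersion is its own scheme theoretic image. -/
theorem isSchImage_self {H X : Sp S} (k : H ⟶ X) (hk : RepWith @IsClosedImmersion k) :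
    IsSchImage k k :=
  ⟨hk, ⟨𝟙 _, Category.id_comp _⟩, fun _ _ _ _ ⟨f'', hf''⟩ => ⟨f'', hf''⟩⟩

/-- Two scheme theoretic images of the same morphism are isomorphic over the target. -/
theorem exists_iso_of_isSchImage {F G Z₁ Z₂ : Sp S} (hZ₁ : IsAlgSpace Z₁) (hZ₂ : IsAlgSpace Z₂)
    {f : F ⟶ G} {i₁ : Z₁ ⟶ G} {i₂ : Z₂ ⟶ G} (h₁ : IsSchImage f i₁) (h₂ : IsSchImage f i₂) :
    ∃ e : Z₁ ≅ Z₂, e.hom ≫ i₂ = i₁ := by
  obtain ⟨k, hk⟩ := h₁.2.2 i₂ hZ₂ h₂.1 h₂.2.1
  obtain ⟨k', hk'⟩ := h₂.2.2 i₁ hZ₁ h₁.1 h₁.2.1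
  haveI := mono_of_closedImmersion' h₁.1
  haveI := mono_of_closedImmersion' h₂.1
  refine ⟨⟨k, k', ?_, ?_⟩, hk⟩
  · rw [← cancel_mono i₁, Category.assoc, hk', hk, Category.id_comp]
  · rw [← cancel_mono i₂, Category.assoc, hk, hk', Category.id_comp]

/-- A chart of a sheaf over the terminal sheaf commutes with the structure morphism. -/
theorem chart_comm29 {F : Sp S} (p : F ⟶ (yon S).obj (Over.mk (𝟙 S))) {U : Over S}
    (a : (yon S).obj U ⟶ F) : a ≫ p = (yon S).map (Over.mkIdTerminal.from U) ≫ 𝟙 _ :=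
  Groth.Agent.Lib.helper5.Coprod.isTerminalYon.hom_ext _ _

/-- If `F ⟶ h_S` has `P` étale locally, the structure morphism of every étale chart has `P`. -/
theorem chart_prop29 {P : MorphismProperty Scheme.{u}} {F : Sp S}
    (p : F ⟶ (yon S).obj (Over.mk (𝟙 S))) (hp : LocP P p) {U : Over S}
    (a : (yon S).obj U ⟶ F) (hae : RepWith @Etale a) : P U.hom := by
  have := hp a (𝟙 _) (Over.mkIdTerminal.from U) hae (repWith_id _ _) (chart_comm29 p a)
  rwa [Over.mkIdTerminal_from_left] at this

/-! ### The generic point of a domain -/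

section GenPt

variable (R : Type u) [CommRing R] [IsDomain R]

theorem mono_genPt : Mono (Neron.genPt R) := by
  haveI : Epi (CommRingCat.ofHom (algebraMap R (FractionRing R))) :=
    IsLocalization.epi (nonZeroDivisors R) (FractionRing R)
  haveI : Mono (CommRingCat.ofHom (algebraMap R (FractionRing R))).op := inferInstance
  haveI : Scheme.Spec.{u}.IsRightAdjoint := ⟨_, ⟨ΓSpec.adjunction⟩⟩
  exact (inferInstance : Mono (Scheme.Spec.map (CommRingCat.ofHom (algebraMap R (FractionRing R))).op))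

theorem flat_genPt : Flat (Neron.genPt R) := by
  show Flat (Spec.map (CommRingCat.ofHom (algebraMap R (FractionRing R))))
  rw [HasRingHomProperty.Spec_iff (P := @Flat), CommRingCat.hom_ofHom, RingHom.flat_algebraMap_iff]
  exact IsLocalization.flat _ (nonZeroDivisors R)

theorem isSchemeTheoreticallyDominant_genPt : IsSchemeTheoreticallyDominant (Neron.genPt R) := by
  rw [isSchemeTheoreticallyDominant_iff, Scheme.ker_of_isAffine]
  have h2 : RingHom.ker (Neron.genPt R).appTop.hom = ⊥ := by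
    rw [← RingHom.injective_iff_ker_eq_bot]
    have h3 := Scheme.ΓSpecIso_naturality (CommRingCat.ofHom (algebraMap R (FractionRing R)))
    have h4 : (Neron.genPt R).appTop = (Scheme.ΓSpecIso (CommRingCat.of R)).hom ≫
        CommRingCat.ofHom (algebraMap R (FractionRing R)) ≫
          (Scheme.ΓSpecIso (CommRingCat.of (FractionRing R))).inv := by
      rw [← Category.assoc, ← h3, Category.assoc, Iso.hom_inv_id, Category.comp_id]
    rw [h4]
    simp only [CommRingCat.hom_comp, RingHom.coe_comp]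
    exact ((ConcreteCategory.bijective_of_isIso
      (Scheme.ΓSpecIso (CommRingCat.of (FractionRing R))).inv).1.comp
        (IsFractionRing.injective R (FractionRing R))).comp
      (ConcreteCategory.bijective_of_isIso (Scheme.ΓSpecIso (CommRingCat.of R)).hom).1
  rw [h2, ← Scheme.IdealSheafData.equivOfIsAffine_symm_apply]
  exact map_bot _

/-- On a scheme over the generic point, the nonzero elements of `R` are invertible functions. -/
theorem isUnit_appTop_of_over_genPt {P : Over (Spec (CommRingCat.of R))}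
    (pη : P ⟶ Over.mk (Neron.genPt R)) (r : R) (hr : r ≠ 0) :
    IsUnit (P.hom.appTop.hom ((Scheme.ΓSpecIso (CommRingCat.of R)).inv.hom r)) := by
  have hw : pη.left ≫ Neron.genPt R = P.hom := Over.w pη
  have h1 := Scheme.ΓSpecIso_inv_naturality (CommRingCat.ofHom (algebraMap R (FractionRing R)))
  have h2 : P.hom.appTop.hom ((Scheme.ΓSpecIso (CommRingCat.of R)).inv.hom r) =
      pη.left.appTop.hom ((Scheme.ΓSpecIso (CommRingCat.of (FractionRing R))).inv.hom
        (algebraMap R (FractionRing R) r)) := by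
    rw [← hw, Scheme.Hom.comp_appTop]
    have h3 := congrArg (fun z => z.hom r) h1
    simp only [CommRingCat.hom_comp, RingHom.comp_apply, CommRingCat.hom_ofHom] at h3 ⊢
    rw [h3]
    rfl
  rw [h2]
  have hu : IsUnit (algebraMap R (FractionRing R) r) :=
    IsUnit.mk0 _ ((map_ne_zero_iff _ (IsFractionRing.injective R (FractionRing R))).2 hr)
  exact (hu.map _).map _

end GenPt

/-! ### The flat closure -/

section Main

variable (R : Type u) [CommRing R] [IsDedekindDomain R]

/-- The common set-up: the composite `H ⟶ Y_K ⟶ Y` is quasi-compact and representable, and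
`Y_K ⟶ Y` is a flat monomorphism. -/
theorem genericFibre_facts
    (Y YK H : AlgSp.Space (Spec (CommRingCat.of R)))
    (pY : Y.obj ⟶ (AlgSp.yon (Spec (CommRingCat.of R))).obj (Over.mk (𝟙 (Spec (CommRingCat.of R)))))
    (pr : YK ⟶ Y)
    (qK : YK.obj ⟶ (AlgSp.yon (Spec (CommRingCat.of R))).obj (Over.mk (Neron.genPt R)))
    (hYK : IsPullback pr.hom qK pY ((AlgSp.yon (Spec (CommRingCat.of R))).map
      (Over.mkIdTerminal.from (Over.mk (Neron.genPt R)))))
    (k : H ⟶ YK) (hk : AlgSp.RepWith @IsClosedImmersion k.hom) :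
    IsQuasiCompactMor (k.hom ≫ pr.hom) ∧ Representable (k.hom ≫ pr.hom) ∧
      LocP @Flat pr.hom ∧ Mono pr.hom := by
  have hg₀ : (Over.mkIdTerminal.from (Over.mk (Neron.genPt R))).left = Neron.genPt R :=
    Over.mkIdTerminal_from_left _
  -- properties of `h_{Spec K} ⟶ h_S`
  have hKq : RepWith @QuasiCompact ((yon (Spec (CommRingCat.of R))).map
      (Over.mkIdTerminal.from (Over.mk (Neron.genPt R)))) := by
    rw [repWith_yon_map_iff, hg₀]
    show QuasiCompact (Spec.map (CommRingCat.ofHom (algebraMap R (FractionRing R))))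
    infer_instance
  have hKm : RepWith (MorphismProperty.monomorphisms Scheme.{u})
      ((yon (Spec (CommRingCat.of R))).map (Over.mkIdTerminal.from (Over.mk (Neron.genPt R)))) := by
    rw [repWith_yon_map_iff, hg₀]
    exact mono_genPt R
  have hKf : LocP @Flat ((yon (Spec (CommRingCat.of R))).map
      (Over.mkIdTerminal.from (Over.mk (Neron.genPt R)))) :=
    Groth.Agent.H1.Seven.locP_of_one_chart Groth.Agent.H1.Seven.locPData_flat _ (𝟙 _) (𝟙 _)
      (Over.mkIdTerminal.from (Over.mk (Neron.genPt R)))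
      (repWith_id _ _) (repWith_id _ _) (repWith_id _ _) (by simp)
      (by rw [hg₀]; exact flat_genPt R)
  have hprq : IsQuasiCompactMor pr.hom :=
    Groth.Agent.S10275.isQuasiCompactMor_of_isPullback hYK.flip
      (Groth.Agent.Lib.helper7.AlgSpQC.isQuasiCompactMor_of_repWith hKq)
  have hkq : IsQuasiCompactMor k.hom :=
    Groth.Agent.Lib.helper7.AlgSpQC.isQuasiCompactMor_of_repWith
      (Groth.Agent.S10194.repWith_mono (fun _ _ k hk => by
        have : IsClosedImmersion k := hk
        exact (inferInstance : QuasiCompact k)) hk)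
  have hprm : RepWith (MorphismProperty.monomorphisms Scheme.{u}) pr.hom :=
    (repWith_isStableUnderBaseChange (S := Spec (CommRingCat.of R)) _).of_isPullback hYK.flip hKm
  refine ⟨?_, ?_, ?_, ?_⟩
  · exact Groth.Agent.Lib.helper5.isQuasiCompactMor_comp YK.property Y.property.diag
      hkq hprq
  · exact (Representable (S := Spec (CommRingCat.of R))).comp_mem _ _ hk.1 hprm.1
  · exact Groth.Agent.Lib.helper5.LocPBC.locP_of_isPullback Groth.Agent.H1.Seven.locPData_flat
      (IsAlgSpace.yon_obj _) (IsAlgSpace.yon_obj _) Y.property hYK.flip hKf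
  · exact Groth.Agent.Lib.helper7.mono_of_repWith le_rfl hprm

/-- Part 1: the scheme theoretic image of a closed subspace of the generic fibre is flat over the
base. -/
theorem flat_schImage_genericFibre
    (Y YK H Z : AlgSp.Space (Spec (CommRingCat.of R)))
    (pY : Y.obj ⟶ (AlgSp.yon (Spec (CommRingCat.of R))).obj (Over.mk (𝟙 (Spec (CommRingCat.of R)))))
    (pr : YK ⟶ Y)
    (qK : YK.obj ⟶ (AlgSp.yon (Spec (CommRingCat.of R))).obj (Over.mk (Neron.genPt R)))
    (hYK : IsPullback pr.hom qK pY ((AlgSp.yon (Spec (CommRingCat.of R))).map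
      (Over.mkIdTerminal.from (Over.mk (Neron.genPt R)))))
    (k : H ⟶ YK) (hk : AlgSp.RepWith @IsClosedImmersion k.hom)
    (i : Z ⟶ Y) (hZ : AlgSp.IsSchImage (k.hom ≫ pr.hom) i.hom) :
    AlgSp.LocP @Flat (i.hom ≫ pY) := by
  obtain ⟨hfq, hfrep, -, -⟩ := genericFibre_facts R Y YK H pY pr qK hYK k hk
  obtain ⟨hi, heq⟩ := (isSchImage_iff_isCutOutBy_kerIdeal (k ≫ pr) hfq Z i).1 hZ
  obtain ⟨V, φ, hφe, hφs⟩ := Y.property.atlas
  refine Groth.Agent.Lib.helper5.LocPFam.locP_of_chart_family Groth.Agent.H1.Seven.locPData_flat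
    (i.hom ≫ pY) (ι := V.left.affineOpens)
    (fun A => hi.1.pullback (chartObj φ hφe A).obj.hom) (fun _ => Over.mk (𝟙 _))
    (fun A => hi.1.fst (chartObj φ hφe A).obj.hom) (fun _ => 𝟙 _)
    (fun A => Over.mkIdTerminal.from _) ?_ (fun _ => repWith_id _ _)
    (fun A => chart_comm29 _ _) ?_ ?_
  · intro A
    exact (repWith_isStableUnderBaseChange (S := Spec (CommRingCat.of R)) @Etale).of_isPullback
      (hi.1.isPullback (chartObj φ hφe A).obj.hom).flip (chartObj φ hφe A).property
  · intro A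
    rw [Over.mkIdTerminal_from_left]
    -- notation
    have hE : IsAffine (chartObj φ hφe A).obj.left.left := A.2
    haveI := hE
    have sqW := hi.1.isPullback (chartObj φ hφe A).obj.hom
    haveI hcl : IsClosedImmersion (hi.1.snd (chartObj φ hφe A).obj.hom).left := hi.2 _ _ _ sqW
    obtain ⟨hWaff, hγ⟩ := IsClosedImmersion.isAffine_surjective_of_isAffine
      (hi.1.snd (chartObj φ hφe A).obj.hom).left
    haveI := hWaff
    -- the fibre product with `H`
    obtain ⟨P, b, a', sqP⟩ := hfrep (chartObj φ hφe A).obj.hom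
    obtain ⟨pη, hpη⟩ := (yon (Spec (CommRingCat.of R))).map_surjective (a' ≫ k.hom ≫ qK)
    have hker : RingHom.ker (hi.1.snd (chartObj φ hφe A).obj.hom).left.appTop.hom =
        RingHom.ker b.left.appTop.hom := by
      have h1 : (idealOfRep hi.1).ideal (chartObj φ hφe A) hE =
          RingHom.ker (hi.1.snd (chartObj φ hφe A).obj.hom).left.appTop.hom := rfl
      rw [← h1, heq]
      exact kerAt_eq_ker_of_isPullback sqP
    have hflat := flat_of_ker_eq
      ((chartObj φ hφe A).obj.left.hom.appTop.hom.comp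
        (Scheme.ΓSpecIso (CommRingCat.of R)).inv.hom)
      (hi.1.snd (chartObj φ hφe A).obj.hom).left.appTop.hom b.left.appTop.hom hγ hker (by
        intro r hr
        have h2 := isUnit_appTop_of_over_genPt R pη r hr
        have h3 : b.left ≫ (chartObj φ hφe A).obj.left.hom = P.hom := Over.w b
        rw [← h3, Scheme.Hom.comp_appTop] at h2
        exact h2)
    haveI : IsAffine (Over.mk (𝟙 (Spec (CommRingCat.of R)))).left :=
      inferInstanceAs (IsAffine (Spec (CommRingCat.of R)))
    rw [HasRingHomProperty.iff_of_isAffine (P := @Flat)]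
    have h4 : (hi.1.snd (chartObj φ hφe A).obj.hom).left ≫ (chartObj φ hφe A).obj.left.hom =
        (hi.1.pullback (chartObj φ hφe A).obj.hom).hom :=
      Over.w (hi.1.snd (chartObj φ hφe A).obj.hom)
    rw [← h4, Scheme.Hom.comp_appTop, CommRingCat.hom_comp]
    have h5 : ((hi.1.snd (chartObj φ hφe A).obj.hom).left.appTop.hom.comp
        (chartObj φ hφe A).obj.left.hom.appTop.hom) =
        ((hi.1.snd (chartObj φ hφe A).obj.hom).left.appTop.hom.comp
          ((chartObj φ hφe A).obj.left.hom.appTop.hom.comp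
            (Scheme.ΓSpecIso (CommRingCat.of R)).inv.hom)).comp
          (Scheme.ΓSpecIso (CommRingCat.of R)).hom.hom := by
      ext x
      simp
    rw [h5]
    exact RingHom.Flat.comp (RingHom.Flat.of_bijective
      (ConcreteCategory.bijective_of_isIso (Scheme.ΓSpecIso (CommRingCat.of R)).hom)) hflat
  · intro x
    obtain ⟨v₀, hv₀⟩ := surjective_ofPt φ hφs (Points.map i.hom x)
    obtain ⟨A₀, hA, hvA, -⟩ := TopologicalSpace.Opens.isBasis_iff_nbhd.mp
      V.left.isBasis_affineOpens (show v₀ ∈ (⊤ : V.left.Opens) from trivial)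
    have hv : Points.map i.hom x =
        Points.ofPt (chartObj φ hφe ⟨A₀, hA⟩).obj.hom ⟨v₀, hvA⟩ := by
      rw [← hv₀]
      show _ = Points.ofPt ((yon _).map _ ≫ φ) _
      rw [ofPt_yon_map_comp]
      rfl
    obtain ⟨w, hw, -⟩ := exists_of_isPullback_scheme
      (hi.1.isPullback (chartObj φ hφe ⟨A₀, hA⟩).obj.hom) x ⟨v₀, hvA⟩ hv
    exact ⟨⟨A₀, hA⟩, w, hw⟩

/-- Part 2: the generic fibre of the scheme theoretic image is the closed subspace one started
with. -/
theorem isPullback_schImage_genericFibre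
    (Y YK H Z : AlgSp.Space (Spec (CommRingCat.of R)))
    (pY : Y.obj ⟶ (AlgSp.yon (Spec (CommRingCat.of R))).obj (Over.mk (𝟙 (Spec (CommRingCat.of R)))))
    (pr : YK ⟶ Y)
    (qK : YK.obj ⟶ (AlgSp.yon (Spec (CommRingCat.of R))).obj (Over.mk (Neron.genPt R)))
    (hYK : IsPullback pr.hom qK pY ((AlgSp.yon (Spec (CommRingCat.of R))).map
      (Over.mkIdTerminal.from (Over.mk (Neron.genPt R)))))
    (k : H ⟶ YK) (hk : AlgSp.RepWith @IsClosedImmersion k.hom)
    (i : Z ⟶ Y) (hZ : AlgSp.IsSchImage (k.hom ≫ pr.hom) i.hom) :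
    ∃ m : H ⟶ Z, m ≫ i = k ≫ pr ∧ IsPullback m.hom k.hom i.hom pr.hom := by
  obtain ⟨hfq, hfrep, hprf, hprm⟩ := genericFibre_facts R Y YK H pY pr qK hYK k hk
  haveI := hprm
  obtain ⟨f', hf'⟩ := hZ.2.1
  refine ⟨ObjectProperty.homMk f', ObjectProperty.hom_ext _ hf', ?_⟩
  -- `H = H ×_Y Y_K` since `Y_K ⟶ Y` is a monomorphism
  have sqV : IsPullback (𝟙 H.obj) k.hom (k.hom ≫ pr.hom) pr.hom :=
    IsPullback.of_horiz_isIso_mono ⟨by simp⟩
  -- the fibre product `Z ×_Y Y_K`
  have sqQ := IsPullback.of_hasPullback i.hom pr.hom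
  let Q : AlgSp.Space (Spec (CommRingCat.of R)) := ⟨pullback i.hom pr.hom,
    Groth.Agent.Lib.helper5.isAlgSpace_of_isPullback Y.property.diag Z.property YK.property sqQ⟩
  let q₁ : Q ⟶ Z := ObjectProperty.homMk (pullback.fst i.hom pr.hom)
  let q₂ : Q ⟶ YK := ObjectProperty.homMk (pullback.snd i.hom pr.hom)
  have hQ : IsSchImage k.hom q₂.hom :=
    isSchImage_flat_baseChange pr hprf (k ≫ pr) hfq i hZ (𝟙 H) k sqV q₁ q₂ sqQ
  have hH : IsSchImage k.hom k.hom := isSchImage_self k.hom hk
  obtain ⟨e, he⟩ := exists_iso_of_isSchImage H.property Q.property hH hQ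
  haveI : Mono (pullback.snd i.hom pr.hom) := mono_of_closedImmersion' hQ.1
  have hδ : e.hom = pullback.lift f' k.hom hf' := by
    rw [← cancel_mono (pullback.snd i.hom pr.hom), pullback.lift_snd]
    exact he
  show IsPullback f' k.hom i.hom pr.hom
  refine IsPullback.of_iso_pullback ⟨hf'⟩ e ?_ he
  rw [hδ, pullback.lift_fst]

/-- Part 3: uniqueness of the flat closure. -/
theorem unique_schImage_genericFibre
    (Y YK H Z : AlgSp.Space (Spec (CommRingCat.of R)))
    (pY : Y.obj ⟶ (AlgSp.yon (Spec (CommRingCat.of R))).obj (Over.mk (𝟙 (Spec (CommRingCat.of R)))))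
    (pr : YK ⟶ Y)
    (qK : YK.obj ⟶ (AlgSp.yon (Spec (CommRingCat.of R))).obj (Over.mk (Neron.genPt R)))
    (hYK : IsPullback pr.hom qK pY ((AlgSp.yon (Spec (CommRingCat.of R))).map
      (Over.mkIdTerminal.from (Over.mk (Neron.genPt R)))))
    (k : H ⟶ YK) (hk : AlgSp.RepWith @IsClosedImmersion k.hom)
    (i : Z ⟶ Y) (hZ : AlgSp.IsSchImage (k.hom ≫ pr.hom) i.hom)
    (Z' : AlgSp.Space (Spec (CommRingCat.of R))) (i' : Z' ⟶ Y) (m' : H ⟶ Z')
    (hi' : AlgSp.RepWith @IsClosedImmersion i'.hom) (hflat' : AlgSp.LocP @Flat (i'.hom ≫ pY))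
    (sq3 : IsPullback m'.hom k.hom i'.hom pr.hom) : ∃ e : Z ≅ Z', e.hom ≫ i' = i := by
  obtain ⟨hfq, hfrep, -, -⟩ := genericFibre_facts R Y YK H pY pr qK hYK k hk
  have hcut := (isSchImage_iff_isCutOutBy_kerIdeal (k ≫ pr) hfq Z i).1 hZ
  have heq : idealOfRep hi'.1 = kerIdeal (k.hom ≫ pr.hom) := by
    apply IdealEt.ext
    funext E hE
    refine le_antisymm (idealOfRep_le_kerIdeal_of_factors hi'.1 m'.hom sq3.w E hE) ?_
    intro a ha
    haveI := hE
    have sqW := hi'.1.isPullback E.obj.hom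
    haveI hcl : IsClosedImmersion (hi'.1.snd E.obj.hom).left := hi'.2 _ _ _ sqW
    have hae : RepWith @Etale (hi'.1.fst E.obj.hom) :=
      (repWith_isStableUnderBaseChange (S := Spec (CommRingCat.of R)) @Etale).of_isPullback
        sqW.flip E.property
    -- the chart of `Z'` is flat over the base
    haveI hWflat : Flat (hi'.1.pullback E.obj.hom).hom :=
      chart_prop29 (i'.hom ≫ pY) hflat' (hi'.1.fst E.obj.hom) hae
    -- its generic fibre
    haveI := isSchemeTheoreticallyDominant_genPt R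
    haveI : QuasiCompact (Neron.genPt R) := by
      show QuasiCompact (Spec.map (CommRingCat.ofHom (algebraMap R (FractionRing R))))
      infer_instance
    let WK : Over (Spec (CommRingCat.of R)) :=
      Over.mk (pullback.fst (hi'.1.pullback E.obj.hom).hom (Neron.genPt R) ≫
        (hi'.1.pullback E.obj.hom).hom)
    let p₁ : WK ⟶ hi'.1.pullback E.obj.hom :=
      Over.homMk (pullback.fst (hi'.1.pullback E.obj.hom).hom (Neron.genPt R)) rfl
    let p₂ : WK ⟶ Over.mk (Neron.genPt R) :=
      Over.homMk (pullback.snd (hi'.1.pullback E.obj.hom).hom (Neron.genPt R))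
        pullback.condition.symm
    let y : (yon (Spec (CommRingCat.of R))).obj WK ⟶ YK.obj :=
      hYK.lift ((yon _).map p₁ ≫ hi'.1.fst E.obj.hom ≫ i'.hom) ((yon _).map p₂)
        (Groth.Agent.Lib.helper5.Coprod.isTerminalYon.hom_ext _ _)
    have hy : y ≫ pr.hom = (yon _).map p₁ ≫ hi'.1.fst E.obj.hom ≫ i'.hom := hYK.lift_fst _ _ _
    let x : (yon (Spec (CommRingCat.of R))).obj WK ⟶ H.obj :=
      sq3.lift ((yon _).map p₁ ≫ hi'.1.fst E.obj.hom) y (by rw [Category.assoc, hy])
    have hx : x ≫ k.hom = y := sq3.lift_snd _ _ _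
    have h0 := ha WK x (p₁ ≫ hi'.1.snd E.obj.hom) (by
      rw [← Category.assoc, hx, hy, Functor.map_comp, Category.assoc, sqW.w])
    rw [mem_idealOfRep_iff]
    have h1 : (p₁ ≫ hi'.1.snd E.obj.hom).left.appTop.hom a =
        p₁.left.appTop.hom ((hi'.1.snd E.obj.hom).left.appTop.hom a) := by
      simp only [Over.comp_left, Scheme.Hom.comp_appTop, CommRingCat.hom_comp, RingHom.comp_apply]
    rw [h1] at h0
    have hinj : Function.Injective
        (pullback.fst (hi'.1.pullback E.obj.hom).hom (Neron.genPt R)).appTop.hom :=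
      Scheme.Hom.app_injective (pullback.fst (hi'.1.pullback E.obj.hom).hom (Neron.genPt R)) ⊤
    apply hinj
    rw [map_zero]
    exact h0
  obtain ⟨e, he⟩ := exists_iso_of_isCutOutBy Y.property hcut ⟨hi', heq⟩
  exact ⟨ObjectProperty.isoMk (IsAlgSpace (S := Spec (CommRingCat.of R))) e,
    ObjectProperty.hom_ext _ he⟩

/-- The flat closure of a closed subspace of the generic fibre over a Dedekind domain. -/
theorem schImage_genericFibre
    (Y YK H Z : AlgSp.Space (Spec (CommRingCat.of R)))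
    (pY : Y.obj ⟶ (AlgSp.yon (Spec (CommRingCat.of R))).obj (Over.mk (𝟙 (Spec (CommRingCat.of R)))))
    (pr : YK ⟶ Y)
    (qK : YK.obj ⟶ (AlgSp.yon (Spec (CommRingCat.of R))).obj (Over.mk (Neron.genPt R)))
    (hYK : IsPullback pr.hom qK pY ((AlgSp.yon (Spec (CommRingCat.of R))).map
      (Over.mkIdTerminal.from (Over.mk (Neron.genPt R)))))
    (k : H ⟶ YK) (hk : AlgSp.RepWith @IsClosedImmersion k.hom)
    (i : Z ⟶ Y) (hZ : AlgSp.IsSchImage (k.hom ≫ pr.hom) i.hom) :
    AlgSp.LocP @Flat (i.hom ≫ pY) ∧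
    (∃ m : H ⟶ Z, m ≫ i = k ≫ pr ∧ IsPullback m.hom k.hom i.hom pr.hom) ∧
    (∀ (Z' : AlgSp.Space (Spec (CommRingCat.of R))) (i' : Z' ⟶ Y) (m' : H ⟶ Z'),
      AlgSp.RepWith @IsClosedImmersion i'.hom → AlgSp.LocP @Flat (i'.hom ≫ pY) →
      IsPullback m'.hom k.hom i'.hom pr.hom → ∃ e : Z ≅ Z', e.hom ≫ i' = i) :=
  ⟨flat_schImage_genericFibre R Y YK H Z pY pr qK hYK k hk i hZ,
    isPullback_schImage_genericFibre R Y YK H Z pY pr qK hYK k hk i hZ,
    fun Z' i' m' hi' hflat' sq3 =>
      unique_schImage_genericFibre R Y YK H Z pY pr qK hYK k hk i hZ Z' i' m' hi' hflat' sq3⟩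

end Main

end Groth.Agent.LibAlgSpIdeal29
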