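import Mathlib
import Groth.Prelude.Def_AlgSpModX
import Groth.Prelude.Def_AlgSpSub
import Groth.Agent.LibAlgSpKer29c
import Groth.Agent.S3844

/-!
# Kernel families on charts; scheme theoretically dense opens (helper29)

* `kerAt_chart_comap`: for a morphism `f : X ⟶ Y` of sheaves whose base change along a chart
  `φ : h_V ⟶ Y` is a morphism of schemes `m : P ⟶ V`, the value of `kerAt f` on an affine open `A` of `V`
  is the kernel of `m.app A`.
* `chartIdeal_kerIdeal`: for quasi-compact `f`, the ideal sheaf on the chart `V` given by the kernel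
  family is the kernel ideal sheaf of `m`.
* `exists_open_chart`: the base change of a representable open immersion to a chart is (the inclusion
  of) an open subscheme.
* `kerIdeal_id`, `isCutOutBy_id_iff`.
* `isSchDense_iff_isSchImage_id` (= S9969).
-/

set_option autoImplicit false
set_option backward.isDefEq.respectTransparency false
universe u
open CategoryTheory CategoryTheory.Limits AlgebraicGeometry
open AlgSp

namespace Groth.Agent.LibAlgSpIdeal29

open Groth.Agent.LibAlgSpCartier29

variable {S : Scheme.{u}}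

/-- The value of the kernel family on an affine open of a chart over which the morphism becomes a
morphism of schemes. -/
theorem kerAt_chart_comap {X Y : Sp S} {f : X ⟶ Y} {V P : Over S} {φ : (yon S).obj V ⟶ Y}
    {a' : (yon S).obj P ⟶ X} {m : P ⟶ V} (sq : IsPullback a' ((yon S).map m) f φ)
    (A : V.left.Opens) :
    (kerAt f ((yon S).map (Over.homMk (U := Over.mk (A.ι ≫ V.hom)) A.ι rfl) ≫ φ)).comap
        (A.ι.appLE A ⊤ A.ι_preimage_self.ge).hom = RingHom.ker (m.left.app A).hom := by
  obtain ⟨z, hz, sqz⟩ := isPullback_over_morphismRestrict m A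
  have sq1 := ((sqz.flip).map (yon S)).paste_horiz sq
  rw [kerAt_eq_ker_of_isPullback sq1, hz, RingHom.comap_ker, ← CommRingCat.hom_comp,
    appLE_comp_morphismRestrict_appTop, CommRingCat.hom_comp]
  exact RingHom.ker_comp_of_injective _ (appLE_ι_bijective (m.left ⁻¹ᵁ A)).1

/-- A base change of a quasi-compact morphism of sheaves which is a morphism of schemes is
quasi-compact. -/
theorem quasiCompact_of_isPullback {F G : Sp S} {f : F ⟶ G} (hf : IsQuasiCompactMor f)
    {U V : Over S} {g : (yon S).obj U ⟶ G} {fst : (yon S).obj V ⟶ F} {snd : V ⟶ U}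
    (sq : IsPullback fst ((yon S).map snd) f g) : QuasiCompact snd.left := by
  rw [quasiCompact_iff_forall_isAffineOpen]
  intro W hW
  have sq2 : IsPullback (snd.left ⁻¹ᵁ W).ι (snd.left ∣_ W) snd.left W.ι :=
    (isPullback_morphismRestrict snd.left W).flip
  obtain ⟨a', h', sq3⟩ := Groth.Agent.Lib.helper7.AlgSpQC.isPullback_paste_scheme sq sq2
  have hWc : CompactSpace ↥(Over.mk (W.ι ≫ U.hom)).left := by
    change CompactSpace ↥(W : Scheme.{u})
    exact isCompact_iff_compactSpace.mp hW.isCompact
  have hq := hf (IsAlgSpace.yon_obj _) (Groth.Agent.Lib.helper7.AlgSpQC.isQuasiCompactSp_yon _)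
    _ _ _ sq3
  have hc := Groth.Agent.Lib.helper7.AlgSpQC.compactSpace_of_isQuasiCompactSp_yon _ hq
  exact isCompact_iff_compactSpace.mpr hc

/-- The ideal sheaf on a chart given by the kernel family of a quasi-compact morphism is the kernel
ideal sheaf of the base change to the chart. -/
theorem chartIdeal_kerIdeal {X Y : Sp S} {f : X ⟶ Y} (hqc : IsQuasiCompactMor f) {V P : Over S}
    {φ : (yon S).obj V ⟶ Y} (hφ : RepWith @Etale φ) {a' : (yon S).obj P ⟶ X} {m : P ⟶ V}
    (sq : IsPullback a' ((yon S).map m) f φ) :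
    chartIdeal (kerIdeal f) (isQCoh_kerIdeal hqc) φ hφ = m.left.ker := by
  haveI : QuasiCompact m.left := quasiCompact_of_isPullback hqc sq
  apply Scheme.IdealSheafData.ext
  funext A
  rw [chartIdeal_ideal, Scheme.Hom.ker_apply]
  exact kerAt_chart_comap sq A.1

/-- The base change of a representable open immersion to a chart is an open subscheme of the
chart. -/
theorem exists_open_chart {F G : Sp S} {j : G ⟶ F} (hj : RepWith @IsOpenImmersion j)
    {V : Over S} (φ : (yon S).obj V ⟶ F) :
    ∃ (W : V.left.Opens) (fst : (yon S).obj (Over.mk (W.ι ≫ V.hom)) ⟶ G),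
      IsPullback fst ((yon S).map (Over.homMk W.ι rfl : Over.mk (W.ι ≫ V.hom) ⟶ V)) j φ := by
  obtain ⟨P, w, w'', sqW⟩ := hj.1 φ
  haveI hoi : IsOpenImmersion w.left := hj.2 _ _ _ sqW
  have hw : w.left.isoOpensRange.hom ≫ w.left.opensRange.ι = w.left :=
    Scheme.Hom.isoOpensRange_hom_ι w.left
  let e : P ≅ Over.mk (w.left.opensRange.ι ≫ V.hom) :=
    Over.isoMk w.left.isoOpensRange (by
      dsimp
      rw [← Category.assoc]
      erw [hw]
      exact Over.w w)
  have he : e.hom ≫ (Over.homMk w.left.opensRange.ι rfl :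
      Over.mk (w.left.opensRange.ι ≫ V.hom) ⟶ V) = w := by
    apply Over.OverMorphism.ext
    simp only [Over.comp_left, Over.homMk_left]
    exact hw
  refine ⟨w.left.opensRange, (yon S).map e.inv ≫ w'', ?_⟩
  refine IsPullback.of_iso sqW ((yon S).mapIso e) (Iso.refl _) (Iso.refl _) (Iso.refl _) ?_ ?_ ?_ ?_
  · simp only [Functor.mapIso_hom, Iso.refl_hom, Category.comp_id]
    rw [← Category.assoc, ← Functor.map_comp, Iso.hom_inv_id, CategoryTheory.Functor.map_id,
      Category.id_comp]
  · simp only [Functor.mapIso_hom, Iso.refl_hom, Category.comp_id]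
    rw [← Functor.map_comp, he]
  · simp
  · simp

/-- The kernel family of the identity is zero. -/
theorem kerAt_id {Y : Sp S} {T₀ : Over S} (ψ : (yon S).obj T₀ ⟶ Y) : kerAt (𝟙 Y) ψ = ⊥ := by
  rw [eq_bot_iff]
  intro a ha
  have h := ha T₀ ψ (𝟙 T₀) (by rw [Category.comp_id, CategoryTheory.Functor.map_id,
    Category.id_comp])
  simpa using h

theorem kerIdeal_id (Y : Sp S) : kerIdeal (𝟙 Y) = ⊥ := by
  apply IdealEt.ext
  funext E hE
  exact kerAt_id E.obj.hom

/-- The identity is the closed subspace cut out by `I` exactly when `I` is zero. -/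
theorem isCutOutBy_id_iff {Y : Sp S} (I : IdealEt Y) : IsCutOutBy I (𝟙 Y) ↔ I = ⊥ := by
  constructor
  · rintro ⟨hi, rfl⟩
    rw [← kerIdeal_eq_idealOfRep hi.1, kerIdeal_id]
  · rintro rfl
    have hi : RepWith @IsClosedImmersion (𝟙 Y) :=
      (repWith_isMultiplicative (S := S) @IsClosedImmersion).id_mem Y
    exact ⟨hi, by rw [← kerIdeal_eq_idealOfRep hi.1, kerIdeal_id]⟩

/-- For a quasi-compact open subspace, scheme theoretic density is equivalent to the scheme theoretic
closure being everything. -/
theorem isSchDense_iff_isSchImage_id {U X : AlgSp.Space S} (j : U ⟶ X)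
    (hj : RepWith @IsOpenImmersion j.hom) (hq : IsQuasiCompactMor j.hom) :
    IsSchDense j.hom ↔ IsSchImage j.hom (𝟙 X.obj) := by
  have hiff := isSchImage_iff_isCutOutBy_kerIdeal j hq X (𝟙 X)
  change IsSchImage j.hom (𝟙 X.obj) ↔ IsCutOutBy (kerIdeal j.hom) (𝟙 X.obj) at hiff
  rw [hiff, isCutOutBy_id_iff]
  constructor
  · rintro ⟨-, V, φ, W, fst, hφe, hφs, sq, hW⟩
    have hQbot : (⊥ : IdealEt X.obj).IsQCoh := fun E E' g hE hE' => bot_le
    have hle : kerIdeal j.hom ≤ ⊥ := by
      refine idealEt_le_of_atlas φ hφe hφs (isQCoh_kerIdeal hq) hQbot ?_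
      intro A a ha
      have h1 := kerAt_chart_comap sq A.1
      have h2 : RingHom.ker (W.ι.app A.1).hom = ⊥ :=
        (RingHom.injective_iff_ker_eq_bot _).1 ((Groth.Agent.S3844.injective_map_iff W A.1).2 (hW A.1))
      obtain ⟨b, rfl⟩ := (appLE_ι_bijective A.1).2 a
      have hb : b ∈ Ideal.comap (A.1.ι.appLE A.1 ⊤ A.1.ι_preimage_self.ge).hom
          (kerAt j.hom ((yon S).map (Over.homMk (U := Over.mk (A.1.ι ≫ V.hom)) A.1.ι rfl) ≫ φ)) := ha
      rw [h1] at hb
      change b ∈ RingHom.ker (W.ι.app A.1).hom at hb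
      rw [h2, Ideal.mem_bot] at hb
      subst hb
      rw [map_zero]
      exact Ideal.zero_mem _
    apply IdealEt.ext
    funext E hE
    exact le_antisymm (hle E hE) bot_le
  · intro hbot
    obtain ⟨V, φ, hφe, hφs⟩ := X.property.atlas
    obtain ⟨W, fst, sq⟩ := exists_open_chart hj φ
    refine ⟨hj, V, φ, W, fst, hφe, hφs, sq, ?_⟩
    haveI : QuasiCompact W.ι := quasiCompact_of_isPullback hq sq
    haveI : IsSchemeTheoreticallyDominant W.ι := by
      rw [isSchemeTheoreticallyDominant_iff]
      apply Scheme.IdealSheafData.ext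
      funext A
      rw [Scheme.Hom.ker_apply]
      have h1 := kerAt_chart_comap sq A.1
      change _ = RingHom.ker (W.ι.app A.1).hom at h1
      rw [← h1]
      have h3 : kerAt j.hom
          ((yon S).map (Over.homMk (U := Over.mk (A.1.ι ≫ V.hom)) A.1.ι rfl) ≫ φ) = ⊥ :=
        congrArg (fun I => I.ideal (chartObj φ hφe A) A.2) hbot
      rw [h3]
      exact Ideal.comap_bot_of_injective _ (appLE_ι_bijective A.1).1
    exact Groth.Agent.S3844.dense_of_dominant W

end Groth.Agent.LibAlgSpIdeal29
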