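import Groth.Statements.S9966
import Groth.Agent.S10192
import Groth.Agent.S10193
import Groth.Agent.S9928
import Groth.Agent.Lib.Helper11.AlgSpBasic

set_option autoImplicit false
universe u
open CategoryTheory CategoryTheory.Limits AlgebraicGeometry
open AlgSp

namespace Groth.Agent.S9966

open Groth.Agent.Lib.helper11

variable {S : Scheme.{u}}

theorem mono_of_closed {F G : Sp S} (i : F ⟶ G) (hi : RepWith @IsClosedImmersion i) : Mono i :=
  Groth.Agent.S9928.mono_of_repWith_mono i
    (Groth.Agent.S10194.repWith_mono (fun _ _ f hf => by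
      have : IsClosedImmersion f := hf
      exact inferInstanceAs (IsImmersion f)) hi)

/-- The image on points of a closed immersion into an algebraic space is closed. -/
theorem isClosed_range_of_closed {Z : Sp S} {Y : AlgSp.Space S} (i : Z ⟶ Y.obj)
    (hi : RepWith @IsClosedImmersion i) : IsClosed (Set.range (Points.map i)) := by
  obtain ⟨U, p, hpe, hps⟩ := Y.property.atlas
  rw [← (isQuotientMap_ofPt p hpe hps).isClosed_preimage]
  obtain ⟨ZU, c, fst, sq⟩ := hi.rep p
  have hc : IsClosedImmersion c.left := hi.2 _ _ _ sq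
  have : Points.ofPt p ⁻¹' Set.range (Points.map i) = Set.range c.left := by
    ext u
    constructor
    · rintro ⟨z, hz⟩
      obtain ⟨v, -, hv⟩ := exists_of_isPullback_scheme sq z u hz
      exact ⟨v, hv⟩
    · rintro ⟨v, rfl⟩
      refine ⟨Points.ofPt fst v, ?_⟩
      rw [Points.map_ofPt, sq.w, ofPt_yon_map_comp]
  rw [this]
  exact c.left.isClosedEmbedding.isClosed_range

theorem main {X Y Z : AlgSp.Space S} (f : X ⟶ Y) (i : Z ⟶ Y)
    (hX : AlgSp.IsReducedSp X.obj) (hZ : AlgSp.IsSchImage f.hom i.hom) :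
    AlgSp.IsRedInduced (closure (Set.range (AlgSp.Points.map f.hom))) i.hom := by
  obtain ⟨hcl, ⟨f', hf'⟩, hmin⟩ := hZ
  have hmono : Mono i.hom := mono_of_closed i.hom hcl
  refine ⟨hcl, ?_, ?_⟩
  · apply Set.eq_of_subset_of_subset
    · -- `|Z|` lies in the closure of the image
      obtain ⟨Z₀, i₀, hi₀, hr₀, -⟩ := Groth.Agent.S10192.main Y
        (closure (Set.range (AlgSp.Points.map f.hom))) isClosed_closure
      obtain ⟨g, hg⟩ := (Groth.Agent.S10193.main i₀ hi₀ hX f).2 (by rw [hr₀]; exact subset_closure)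
      obtain ⟨k, hk⟩ := hmin i₀.hom Z₀.property hi₀ ⟨g.hom, congrArg (fun m => m.hom) hg⟩
      rintro _ ⟨z, rfl⟩
      rw [← hr₀, ← hk, Points.map_comp]
      exact ⟨_, rfl⟩
    · refine closure_minimal ?_ (isClosed_range_of_closed i.hom hcl)
      rintro _ ⟨x, rfl⟩
      rw [← hf', Points.map_comp]
      exact ⟨_, rfl⟩
  · -- reducedness
    obtain ⟨Z₁, j, hj, hr₁, hred⟩ := Groth.Agent.S10192.main Z Set.univ isClosed_univ
    obtain ⟨g, hg⟩ := (Groth.Agent.S10193.main j hj hX (ObjectProperty.homMk f' : X ⟶ Z)).2 (by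
      rw [hr₁]; exact Set.subset_univ _)
    have hji : RepWith @IsClosedImmersion (j.hom ≫ i.hom) :=
      (RepWith (S := S) @IsClosedImmersion).comp_mem _ _ hj hcl
    obtain ⟨k, hk⟩ := hmin (j.hom ≫ i.hom) Z₁.property hji ⟨g.hom, by
      rw [← Category.assoc]
      have : g.hom ≫ j.hom = f' := congrArg (fun m => m.hom) hg
      rw [this, hf']⟩
    have hkj : k ≫ j.hom = 𝟙 _ := by
      rw [← cancel_mono i.hom, Category.assoc, hk, Category.id_comp]
    have hjm : Mono j.hom := mono_of_closed j.hom hj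
    have hjk : j.hom ≫ k = 𝟙 _ := by
      rw [← cancel_mono j.hom, Category.assoc, hkj, Category.comp_id, Category.id_comp]
    have hjiso : IsIso j.hom := ⟨k, hjk, hkj⟩
    obtain ⟨V, b, hbe, hbs, hV⟩ := hred
    exact ⟨V, b ≫ j.hom, MorphismProperty.RespectsIso.postcomp _ j.hom b hbe,
      MorphismProperty.RespectsIso.postcomp _ j.hom b hbs, hV⟩

/-- The scheme theoretic image of a morphism from a reduced algebraic space is the reduced induced
structure on the closure of its image. -/
theorem result {S : Scheme.{u}} {X Y Z : AlgSp.Space S} (f : X ⟶ Y) (i : Z ⟶ Y)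
    (hX : AlgSp.IsReducedSp X.obj) (hZ : AlgSp.IsSchImage f.hom i.hom) :
    AlgSp.IsRedInduced (closure (Set.range (AlgSp.Points.map f.hom))) i.hom := by
  exact main f i hX hZ

end Groth.Agent.S9966
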