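import Mathlib
import Groth.Prelude.Def_AlgSpModX
import Groth.Prelude.Def_AlgSpSub
import Groth.Agent.LibAlgSpDense29
import Groth.Agent.S9966
import Groth.Agent.Lib.Helper15.AlgSpDiag
import Groth.Agent.Lib.Helper1.EtaleReducedScheme

/-!
# An immersion is a dense open immersion into its scheme theoretic image (helper29)

Scheme level:
* `toImage_facts`: for a quasi-compact immersion `m`, the map to the scheme theoretic image is a
  scheme theoretically dense open immersion with dense range.
* `openImmersion_of_reduced`: an immersion factoring through a reduced closed subscheme contained in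
  the closure of its image is an open immersion with dense range into it.
* `isSchematicallyDense_of_isReduced`: a dense open of a reduced scheme is scheme theoretically dense.

Algebraic spaces:
* `representable_of_comp_mono`, `open_chart_of_isPullback`, `openImmersion_dense_of_chart`.
* `immersion_into_schImage` (= S9971).
-/

set_option autoImplicit false
set_option backward.isDefEq.respectTransparency false
universe u
open CategoryTheory CategoryTheory.Limits AlgebraicGeometry
open AlgSp

namespace Groth.Agent.LibAlgSpIdeal29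

open Groth.Agent.LibAlgSpCartier29 Groth.Agent.Lib.helper11

variable {S : Scheme.{u}}

/-! ### Scheme level lemmas -/

/-- A dense open of a reduced scheme is scheme theoretically dense. -/
theorem isSchematicallyDense_of_isReduced {C : Scheme.{u}} [IsReduced C] (W : C.Opens)
    (hW : Dense (W : Set C)) : CInt.IsSchematicallyDense W := by
  intro V'
  rw [injective_iff_map_eq_zero]
  intro s hs
  have h1 : C.basicOpen (C.presheaf.map (homOfLE (inf_le_left : V' ⊓ W ≤ V')).op s) =
      (V' ⊓ W) ⊓ C.basicOpen s := Scheme.basicOpen_res _ _ _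
  rw [hs, Scheme.basicOpen_zero] at h1
  have h2 : C.basicOpen s = ⊥ := by
    by_contra hne
    have hne' : (C.basicOpen s : Set C).Nonempty := by
      rw [Set.nonempty_iff_ne_empty]
      intro he
      exact hne (TopologicalSpace.Opens.ext he)
    obtain ⟨y, hy1, hy2⟩ := hW.inter_open_nonempty _ (C.basicOpen s).2 hne'
    have hy3 : y ∈ V' := C.basicOpen_le s hy1
    have : y ∈ ((V' ⊓ W) ⊓ C.basicOpen s : C.Opens) := ⟨⟨hy3, hy2⟩, hy1⟩
    rw [← h1] at this
    exact this
  exact (basicOpen_eq_bot_iff s).1 h2

/-- For a quasi-compact immersion, the morphism to the scheme theoretic image is an open immersion,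
scheme theoretically dense and dense. -/
theorem toImage_facts {P V : Scheme.{u}} (m : P ⟶ V) [IsImmersion m] [QuasiCompact m]
    (K : V.IdealSheafData) (hK : K = m.ker) (n : P ⟶ K.subscheme) (hn : n ≫ K.subschemeι = m) :
    ∃ _ : IsOpenImmersion n, CInt.IsSchematicallyDense n.opensRange ∧ DenseRange n := by
  subst hK
  have hnm : n = m.toImage := by
    rw [← cancel_mono m.ker.subschemeι, hn]
    exact m.toImage_imageι.symm
  subst hnm
  haveI : IsOpenImmersion m.toImage := inferInstance
  refine ⟨inferInstance, ?_, m.toImage.denseRange⟩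
  have hι : m.toImage.opensRange.ι = m.toImage.isoOpensRange.inv ≫ m.toImage := by
    rw [Iso.eq_inv_comp]
    exact Scheme.Hom.isoOpensRange_hom_ι m.toImage
  haveI : QuasiCompact m.toImage.opensRange.ι := by
    rw [hι]
    infer_instance
  haveI : IsSchemeTheoreticallyDominant m.toImage.opensRange.ι := by
    rw [hι]
    infer_instance
  exact Groth.Agent.S3844.dense_of_dominant _

/-- An immersion which factors through a reduced closed subscheme lying in the closure of its image
is an open immersion into it, with dense range. -/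
theorem openImmersion_of_reduced {P C V : Scheme.{u}} (m : P ⟶ V) [IsImmersion m] [IsReduced C]
    (cV : C ⟶ V) [IsClosedImmersion cV] (hr : Set.range cV ⊆ closure (Set.range m))
    (n : P ⟶ C) (hn : n ≫ cV = m) : IsOpenImmersion n ∧ DenseRange n := by
  haveI : IsImmersion (n ≫ cV) := by rw [hn]; infer_instance
  haveI : IsImmersion n := IsImmersion.of_comp n cV
  have hrange : Set.range n = cV ⁻¹' Set.range m := by
    ext x
    constructor
    · rintro ⟨p, rfl⟩
      exact ⟨p, by rw [← hn]; rfl⟩
    · rintro ⟨p, hp⟩
      refine ⟨p, cV.isClosedEmbedding.injective ?_⟩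
      rw [← hp, ← hn]
      rfl
  have hopen : IsOpen (Set.range n) := by
    obtain ⟨U, Zc, hU, hZc, hUZ⟩ := m.isLocallyClosed_range
    have h1 : closure (Set.range m) ⊆ Zc :=
      closure_minimal (by rw [hUZ]; exact Set.inter_subset_right) hZc
    have h2 : cV ⁻¹' Set.range m = cV ⁻¹' U := by
      ext x
      rw [Set.mem_preimage, Set.mem_preimage, hUZ]
      exact ⟨fun h => h.1, fun h => ⟨h, h1 (hr ⟨x, rfl⟩)⟩⟩
    rw [hrange, h2]
    exact hU.preimage cV.continuous
  let O : C.Opens := ⟨Set.range n, hopen⟩
  have hle : Set.range n ⊆ Set.range O.ι := by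
    rw [Scheme.Opens.range_ι]
    exact subset_rfl
  let n' : P ⟶ O := IsOpenImmersion.lift O.ι n hle
  have hn' : n' ≫ O.ι = n := IsOpenImmersion.lift_fac _ _ _
  haveI : IsImmersion (n' ≫ O.ι) := by rw [hn']; infer_instance
  haveI : IsImmersion n' := IsImmersion.of_comp n' O.ι
  haveI : Surjective n' := by
    refine ⟨fun x => ?_⟩
    obtain ⟨p, hp⟩ : x.1 ∈ Set.range n := x.2
    refine ⟨p, O.ι.isOpenEmbedding.injective ?_⟩
    rw [← Scheme.Hom.comp_apply, hn', hp]
    rfl
  haveI : IsClosedImmersion n' :=
    IsClosedImmersion.of_isPreimmersion n' (by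
      rw [Set.range_eq_univ.mpr n'.surjective]
      exact isClosed_univ)
  haveI : IsReduced (O : Scheme.{u}) := isReduced_of_isOpenImmersion O.ι
  haveI : IsIso n' := isIso_of_isClosedImmersion_of_surjective n'
  refine ⟨by rw [← hn']; infer_instance, ?_⟩
  show Dense (Set.range n)
  rw [dense_iff_closure_eq, cV.isClosedEmbedding.isInducing.closure_eq_preimage_closure_image,
    Set.eq_univ_iff_forall]
  intro x
  have h3 : cV '' Set.range n = Set.range m := by
    rw [← Set.range_comp, ← hn]
    rfl
  rw [h3]
  exact hr ⟨x, rfl⟩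

/-! ### Charts -/

theorem isPullback_of_comp_mono29 {C : Type*} [Category C] {P X Y Z W : C} {fst : P ⟶ X}
    {snd : P ⟶ Y} {f : X ⟶ Z} {g : Y ⟶ Z} (k : Z ⟶ W) [Mono k]
    (sq : IsPullback fst snd (f ≫ k) (g ≫ k)) : IsPullback fst snd f g := by
  have hr : IsPullback (𝟙 Y) g (g ≫ k) k := IsPullback.of_horiz_isIso_mono ⟨by simp⟩
  have big : IsPullback (snd ≫ 𝟙 Y) fst (g ≫ k) (f ≫ k) := by
    rw [Category.comp_id]; exact sq.flip
  have hw : fst ≫ f = snd ≫ g := by
    rw [← cancel_mono k, Category.assoc, Category.assoc, sq.w]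
  exact (IsPullback.of_right big hw.symm hr).flip

/-- If `a ≫ b` is representable and `b` is a monomorphism then `a` is representable. -/
theorem representable_of_comp_mono {A B C : Sp S} (a : A ⟶ B) (b : B ⟶ C) [Mono b]
    (hab : Representable (a ≫ b)) : Representable a := by
  intro T ψ
  obtain ⟨P, snd, fst, sq⟩ := hab (ψ ≫ b)
  exact ⟨P, snd, fst, isPullback_of_comp_mono29 b sq⟩

/-- A base change to a chart which is an open immersion of schemes can be replaced by the inclusion
of the open subscheme which is its range. -/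
theorem open_chart_of_isPullback {F G : Sp S} {j : G ⟶ F} {V P : Over S}
    {φ : (yon S).obj V ⟶ F} {w'' : (yon S).obj P ⟶ G} {w : P ⟶ V}
    (sqW : IsPullback w'' ((yon S).map w) j φ) [IsOpenImmersion w.left] :
    ∃ fst : (yon S).obj (Over.mk (w.left.opensRange.ι ≫ V.hom)) ⟶ G,
      IsPullback fst ((yon S).map (Over.homMk w.left.opensRange.ι rfl :
        Over.mk (w.left.opensRange.ι ≫ V.hom) ⟶ V)) j φ := by
  have hw : w.left.isoOpensRange.hom ≫ w.left.opensRange.ι = w.left :=
    Scheme.Hom.isoOpensRange_hom_ι w.left
  let e : P ≅ Over.mk (w.left.opensRange.ι ≫ V.hom) :=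
    Over.isoMk w.left.isoOpensRange (by
      dsimp
      rw [← Category.assoc]
      erw [hw]
      exact Over.w w)
  have he : e.hom ≫ (Over.homMk w.left.opensRange.ι rfl :
      Over.mk (w.left.opensRange.ι ≫ V.hom) ⟶ V) = w := by
    apply Over.OverMorphism.ext
    simp only [Over.comp_left, Over.homMk_left]
    exact hw
  refine ⟨(yon S).map e.inv ≫ w'', ?_⟩
  refine IsPullback.of_iso sqW ((yon S).mapIso e) (Iso.refl _) (Iso.refl _) (Iso.refl _) ?_ ?_ ?_ ?_
  · simp only [Functor.mapIso_hom, Iso.refl_hom, Category.comp_id]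
    rw [← Category.assoc, ← Functor.map_comp, Iso.hom_inv_id, CategoryTheory.Functor.map_id,
      Category.id_comp]
  · simp only [Functor.mapIso_hom, Iso.refl_hom, Category.comp_id]
    rw [← Functor.map_comp, he]
  · simp
  · simp

/-- A representable morphism which over an étale surjective chart becomes a scheme theoretically
dense open immersion with dense range is a scheme theoretically dense open immersion with dense
image on points. -/
theorem openImmersion_dense_of_chart {Z Zbar : Sp S} (h' : Z ⟶ Zbar) (hrep : Representable h')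
    {V' P : Over S} (φ' : (yon S).obj V' ⟶ Zbar) (hφe : RepWith @Etale φ')
    (hφs : RepWith @Surjective φ') (a' : (yon S).obj P ⟶ Z) (n : P ⟶ V')
    (sqT : IsPullback a' ((yon S).map n) h' φ') [hn : IsOpenImmersion n.left]
    (hd : CInt.IsSchematicallyDense n.left.opensRange) (hD : DenseRange n.left) :
    RepWith @IsOpenImmersion h' ∧ IsSchDense h' ∧ Dense (Set.range (Points.map h')) := by
  have hoi : RepWith @IsOpenImmersion h' :=
    Groth.Agent.Lib.helper15.AlgSpDiag.repWith_of_chart h' hrep φ' hφe hφs a' n sqT
      @IsOpenImmersion hn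
  obtain ⟨fst, sq⟩ := open_chart_of_isPullback sqT
  refine ⟨hoi, ⟨hoi, V', φ', n.left.opensRange, fst, hφe, hφs, sq, hd⟩, ?_⟩
  have hsub : Points.ofPt φ' '' Set.range n.left ⊆ Set.range (Points.map h') := by
    rintro _ ⟨_, ⟨p, rfl⟩, rfl⟩
    refine ⟨Points.ofPt a' p, ?_⟩
    rw [Points.map_ofPt, sqT.w, ofPt_yon_map_comp]
  exact ((surjective_ofPt φ' hφs).denseRange.dense_image (Points.continuous_ofPt φ') hD).mono hsub

/-- A quasi-compact (or reduced-source) immersion is a scheme theoretically dense, topologically
dense open immersion into its scheme theoretic image. -/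
theorem immersion_into_schImage {Z X Zbar : AlgSp.Space S} (h : Z ⟶ X)
    (hh : RepWith @IsImmersion h.hom) (hq : IsQuasiCompactMor h.hom ∨ IsReducedSp Z.obj)
    (c : Zbar ⟶ X) (hc : IsSchImage h.hom c.hom) (h' : Z ⟶ Zbar) (fac : h' ≫ c = h) :
    RepWith @IsOpenImmersion h'.hom ∧ IsSchDense h'.hom ∧
      Dense (Set.range (Points.map h'.hom)) := by
  have fac' : h'.hom ≫ c.hom = h.hom := congrArg (fun z => z.hom) fac
  haveI : Mono c.hom := mono_of_closedImmersion' hc.1
  obtain ⟨V, φ, hφe, hφs⟩ := X.property.atlas
  obtain ⟨K, fstC, sqC⟩ := exists_ideal_chart hc.1 φ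
  obtain ⟨P, m, a', sqP⟩ := hh.1 φ
  haveI : IsImmersion m.left := hh.2 _ _ _ sqP
  obtain ⟨n, hn⟩ := (yon S).map_surjective (sqC.lift (a' ≫ h'.hom) ((yon S).map m)
    (by rw [Category.assoc, fac', sqP.w]))
  have hn1 : (yon S).map n ≫ fstC = a' ≫ h'.hom := by rw [hn, sqC.lift_fst]
  have hn2 : n ≫ (Over.homMk K.subschemeι rfl : Over.mk (K.subschemeι ≫ V.hom) ⟶ V) = m :=
    (yon S).map_injective (by rw [Functor.map_comp, hn, sqC.lift_snd])
  have hn3 : n.left ≫ K.subschemeι = m.left := by
    have := congrArg (fun z => z.left) hn2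
    simpa using this
  have sqT : IsPullback a' ((yon S).map n) h'.hom fstC := by
    refine IsPullback.of_bot ?_ hn1.symm sqC
    rw [← Functor.map_comp, hn2, fac']
    exact sqP
  have hφ'e : RepWith @Etale fstC :=
    (repWith_isStableUnderBaseChange (S := S) @Etale).of_isPullback sqC.flip hφe
  have hφ's : RepWith @Surjective fstC :=
    (repWith_isStableUnderBaseChange (S := S) @Surjective).of_isPullback sqC.flip hφs
  have hrep : Representable h'.hom :=
    representable_of_comp_mono h'.hom c.hom (by rw [fac']; exact hh.1)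
  have key : ∃ _ : IsOpenImmersion n.left,
      CInt.IsSchematicallyDense n.left.opensRange ∧ DenseRange n.left := by
    rcases hq with hq | hred
    · haveI : QuasiCompact m.left := quasiCompact_of_isPullback hq sqP
      have hK : K = m.left.ker := by
        obtain ⟨hi, heq⟩ := (isSchImage_iff_isCutOutBy_kerIdeal h hq Zbar c).1 hc
        apply Scheme.IdealSheafData.ext
        funext A
        rw [Scheme.Hom.ker_apply, ← kerAt_chart_comap sqP A.1]
        have h1 := idealOfRep_chart hi.1 hφe sqC A
        rw [heq] at h1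
        change kerAt h.hom ((yon S).map (Over.homMk (U := Over.mk (A.1.ι ≫ V.hom)) A.1.ι rfl) ≫ φ)
          = _ at h1
        rw [h1, Ideal.comap_map_of_bijective _ (appLE_ι_bijective A.1)]
      exact toImage_facts m.left K hK n.left hn3
    · obtain ⟨-, hrange, hZbar⟩ := Groth.Agent.S9966.main h c hred hc
      haveI : IsReduced K.subscheme :=
        Groth.Agent.H1.EtaleReduced.isReduced_of_chart hZbar fstC hφ'e
      have hr : Set.range K.subschemeι ⊆ closure (Set.range m.left) := by
        rintro _ ⟨x, rfl⟩
        have h1 : Points.ofPt φ (K.subschemeι x) ∈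
            closure (Set.range (Points.map h.hom)) := by
          rw [← hrange]
          refine ⟨Points.ofPt fstC x, ?_⟩
          rw [Points.map_ofPt, sqC.w, ofPt_yon_map_comp]
          rfl
        have h2 : K.subschemeι x ∈ Points.ofPt φ ⁻¹' closure (Set.range (Points.map h.hom)) := h1
        rw [(isOpenMap_ofPt φ hφe).preimage_closure_eq_closure_preimage
          (Points.continuous_ofPt φ)] at h2
        refine closure_mono ?_ h2
        rintro y ⟨z, hz⟩
        obtain ⟨v, -, hv⟩ := exists_of_isPullback_scheme sqP z y hz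
        exact ⟨v, hv⟩
      haveI : IsReduced (Over.mk (K.subschemeι ≫ V.hom)).left := ‹IsReduced K.subscheme›
      obtain ⟨k1, k2⟩ := openImmersion_of_reduced m.left K.subschemeι hr n.left hn3
      exact ⟨k1, isSchematicallyDense_of_isReduced _ (by
        rw [Scheme.Hom.coe_opensRange]
        exact k2), k2⟩
  obtain ⟨k1, k2, k3⟩ := key
  exact openImmersion_dense_of_chart h'.hom hrep fstC hφ'e hφ's a' n sqT k2 k3

end Groth.Agent.LibAlgSpIdeal29
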