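import Mathlib
import Groth.Prelude.Def_AlgSpSub
import Groth.Agent.S9966
import Groth.Agent.Lib.Helper1.EtaleReducedScheme
import Groth.Agent.Lib.Helper5.AlgSpSmLocal
import Groth.Agent.Lib.Helper10.AlgSpPoints

/-!
# Scheme theoretic images of reduced algebraic spaces and étale base change (helper29)

* `isOpenMap_points_of_isEtaleMor`: an étale morphism from an algebraic space is open on points.
* `isReducedSp_of_isEtaleMor`: an algebraic space étale over a reduced sheaf is reduced.
* `isSchImage_of_isRedInduced`: for a reduced source, the reduced induced structure on the closure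
  of the image is the scheme theoretic image (converse of S9966).
* `range_eq_preimage_of_isPullback`.
* `isSchImage_etale_baseChange_of_reduced` (= S12193).
-/

set_option autoImplicit false
universe u
open CategoryTheory CategoryTheory.Limits AlgebraicGeometry
open AlgSp

namespace Groth.Agent.LibAlgSpDense29c

open Groth.Agent.Lib.helper11

variable {S : Scheme.{u}}

/-- An étale morphism from an algebraic space is open on points. -/
theorem isOpenMap_points_of_isEtaleMor {X Y : Sp S} (hX : IsAlgSpace X) (f : X ⟶ Y)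
    (hf : IsEtaleMor f) : IsOpenMap (Points.map f) := by
  obtain ⟨U, a, hae, has⟩ := hX.atlas
  intro W hW
  have h1 : Points.map f '' W = Points.ofPt (a ≫ f) '' (Points.ofPt a ⁻¹' W) := by
    ext y
    constructor
    · rintro ⟨x, hx, rfl⟩
      obtain ⟨u, rfl⟩ := surjective_ofPt a has x
      exact ⟨u, hx, (Points.map_ofPt a f u).symm⟩
    · rintro ⟨u, hu, rfl⟩
      exact ⟨Points.ofPt a u, hu, Points.map_ofPt a f u⟩
  rw [h1]
  exact isOpenMap_ofPt (a ≫ f) (hf a hae) _ (hW.preimage (Points.continuous_ofPt a))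

/-- An algebraic space étale over a reduced sheaf is reduced. -/
theorem isReducedSp_of_isEtaleMor {X' X : Sp S} (hX' : IsAlgSpace X') (g : X' ⟶ X)
    (hg : IsEtaleMor g) (hX : IsReducedSp X) : IsReducedSp X' := by
  obtain ⟨U, a, hae, has⟩ := hX'.atlas
  exact ⟨U, a, hae, has, Groth.Agent.H1.EtaleReduced.isReduced_of_chart hX (a ≫ g) (hg a hae)⟩

/-- The image on points of a base change is the preimage of the image. -/
theorem range_eq_preimage_of_isPullback {F G G' P : Sp S} {fst : P ⟶ F} {snd : P ⟶ G'}
    {f : F ⟶ G} {g : G' ⟶ G} (sq : IsPullback fst snd f g) :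
    Set.range (Points.map snd) = Points.map g ⁻¹' Set.range (Points.map f) := by
  ext z
  constructor
  · rintro ⟨w, rfl⟩
    refine ⟨Points.map fst w, ?_⟩
    rw [← Points.map_comp, sq.w, Points.map_comp]
  · rintro ⟨x, hx⟩
    obtain ⟨w, -, hw⟩ := Groth.Agent.Lib.helper10.exists_point_of_isPullback sq x z hx
    exact ⟨w, hw⟩

/-- For a reduced source, the reduced induced structure on the closure of the image is the scheme
theoretic image. -/
theorem isSchImage_of_isRedInduced {X Y Z : AlgSp.Space S} (f : X ⟶ Y) (i : Z ⟶ Y)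
    (hX : IsReducedSp X.obj)
    (hZ : IsRedInduced (closure (Set.range (Points.map f.hom))) i.hom) :
    IsSchImage f.hom i.hom := by
  obtain ⟨hi, hrange, hZred⟩ := hZ
  refine ⟨hi, ?_, ?_⟩
  · obtain ⟨g, hg⟩ := (Groth.Agent.S10193.main i hi hX f).2 (by rw [hrange]; exact subset_closure)
    exact ⟨g.hom, congrArg (fun m => m.hom) hg⟩
  · intro Z' i' hZ' hi' ⟨f'', hf''⟩
    let Z'' : AlgSp.Space S := ⟨Z', hZ'⟩
    let i'' : Z'' ⟶ Y := ObjectProperty.homMk i'
    have hsub : Set.range (Points.map i.hom) ⊆ Set.range (Points.map i''.hom) := by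
      rw [hrange]
      refine closure_minimal ?_ (Groth.Agent.S9966.isClosed_range_of_closed i' hi')
      rintro _ ⟨x, rfl⟩
      rw [← hf'', Points.map_comp]
      exact ⟨_, rfl⟩
    obtain ⟨k, hk⟩ := (Groth.Agent.S10193.main i'' hi' hZred i).2 hsub
    exact ⟨k.hom, congrArg (fun m => m.hom) hk⟩

/-- Scheme theoretic images of morphisms from reduced algebraic spaces commute with étale base
change. -/
theorem isSchImage_etale_baseChange_of_reduced {X Y Z V XV ZV : AlgSp.Space S} (f : X ⟶ Y)
    (i : Z ⟶ Y) (hX : IsReducedSp X.obj) (hZ : IsSchImage f.hom i.hom) (b : V ⟶ Y)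
    (hb : IsEtaleMor b.hom) (f₁ : XV ⟶ X) (fV : XV ⟶ V) (i₁ : ZV ⟶ Z) (iV : ZV ⟶ V)
    (sqX : IsPullback f₁.hom fV.hom f.hom b.hom) (sqZ : IsPullback i₁.hom iV.hom i.hom b.hom) :
    IsSchImage fV.hom iV.hom := by
  obtain ⟨hi, hrange, hZred⟩ := Groth.Agent.S9966.main f i hX hZ
  have hf₁ : IsEtaleMor f₁.hom :=
    Groth.Agent.Lib.helper5.SmLocal.isEtaleMor_of_isPullback V.property Y.property X.property
      sqX.flip hb
  have hi₁ : IsEtaleMor i₁.hom :=
    Groth.Agent.Lib.helper5.SmLocal.isEtaleMor_of_isPullback V.property Y.property Z.property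
      sqZ.flip hb
  have hXV : IsReducedSp XV.obj := isReducedSp_of_isEtaleMor XV.property f₁.hom hf₁ hX
  have hZV : IsReducedSp ZV.obj := isReducedSp_of_isEtaleMor ZV.property i₁.hom hi₁ hZred
  refine isSchImage_of_isRedInduced fV iV hXV ⟨?_, ?_, hZV⟩
  · exact (RepWith (S := S) @IsClosedImmersion).of_isPullback sqZ hi
  · rw [range_eq_preimage_of_isPullback sqZ, range_eq_preimage_of_isPullback sqX, hrange]
    exact (isOpenMap_points_of_isEtaleMor V.property b.hom hb).preimage_closure_eq_closure_preimage
      (Points.continuous_map b.hom) _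

end Groth.Agent.LibAlgSpDense29c
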