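import Mathlib
import Groth.Prelude.Def_AlgSpModX
import Groth.Agent.LibAlgSpDense29
import Groth.Agent.Lib.Helper15.AlgSpDiag
import Groth.Agent.Lib.Helper1.SevenProps

/-!
# Closed immersions locally of finite presentation and finitely generated ideals (helper29)

* `ker_fg_of_finitePresentation`: a surjective finitely presented ring map has finitely generated
  kernel.
* `locallyOfFinitePresentation_subschemeι`: the closed subscheme of an ideal sheaf with finitely
  generated values on affine opens is locally of finite presentation.
* `locP_lfp_iff_idealOfRep_fg` (= S9997).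
-/

set_option autoImplicit false
set_option backward.isDefEq.respectTransparency false
universe u
open CategoryTheory CategoryTheory.Limits AlgebraicGeometry
open AlgSp

namespace Groth.Agent.LibAlgSpIdeal29

open Groth.Agent.LibAlgSpCartier29

variable {S : Scheme.{u}}

/-- A surjective finitely presented ring homomorphism has finitely generated kernel. -/
theorem ker_fg_of_finitePresentation {A B : Type u} [CommRing A] [CommRing B] (f : A →+* B)
    (hf : Function.Surjective f) (h : f.FinitePresentation) : (RingHom.ker f).FG := by
  algebraize [f]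
  have := Algebra.FinitePresentation.ker_fG_of_surjective (R := A) (Algebra.ofId A B) hf
  exact this

/-- The closed subscheme of an ideal sheaf whose values on affine opens are finitely generated is
locally of finite presentation over the ambient scheme. -/
theorem locallyOfFinitePresentation_subschemeι {V : Scheme.{u}} (K : V.IdealSheafData)
    (hK : ∀ A : V.affineOpens, (K.ideal A).FG) : LocallyOfFinitePresentation K.subschemeι := by
  rw [IsZariskiLocalAtTarget.iff_of_iSup_eq_top (P := @LocallyOfFinitePresentation) _
    (iSup_affineOpens_eq_top V)]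
  intro A
  haveI : IsAffine (A.1 : Scheme.{u}) := A.2
  haveI : IsAffine (K.subschemeι ⁻¹ᵁ A.1 : Scheme.{u}) := A.2.preimage K.subschemeι
  rw [HasRingHomProperty.iff_of_isAffine (P := @LocallyOfFinitePresentation)]
  have hsurj : Function.Surjective (K.subschemeι ∣_ A.1).appTop.hom :=
    (IsClosedImmersion.isAffine_surjective_of_isAffine (K.subschemeι ∣_ A.1)).2
  refine RingHom.FinitePresentation.of_surjective _ hsurj ?_
  have h1 := appLE_comp_morphismRestrict_appTop K.subschemeι A.1
  have hα := appLE_ι_bijective A.1
  have h2 : (RingHom.ker (K.subschemeι ∣_ A.1).appTop.hom).comap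
      (A.1.ι.appLE A.1 ⊤ A.1.ι_preimage_self.ge).hom = K.ideal A := by
    rw [RingHom.comap_ker, ← CommRingCat.hom_comp, h1, CommRingCat.hom_comp,
      RingHom.ker_comp_of_injective _ (appLE_ι_bijective (K.subschemeι ⁻¹ᵁ A.1)).1]
    have h3 := K.ker_subschemeι
    have h4 := Scheme.Hom.ker_apply K.subschemeι A
    rw [h3] at h4
    exact h4.symm
  have h5 : RingHom.ker (K.subschemeι ∣_ A.1).appTop.hom =
      (K.ideal A).map (A.1.ι.appLE A.1 ⊤ A.1.ι_preimage_self.ge).hom := by
    rw [← h2, Ideal.map_comap_of_surjective _ hα.2]
  rw [h5]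
  exact (hK A).map _

/-- A closed immersion of algebraic spaces is locally of finite presentation if and only if its
ideals on affine étale charts are finitely generated. -/
theorem locP_lfp_iff_idealOfRep_fg {Z X : AlgSp.Space S} (i : Z ⟶ X)
    (hi : RepWith @IsClosedImmersion i.hom) :
    LocP @LocallyOfFinitePresentation i.hom ↔
      ∀ (E : EtOver X.obj) (hE : IsAffine E.obj.left.left),
        ((idealOfRep hi.1).ideal E hE).FG := by
  rw [Groth.Agent.H1.Seven.locP_iff_repWith Groth.Agent.Lib.helper5.LocPBC.locPData_lfp
    Z.property X.property i.hom hi.1]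
  constructor
  · intro hlfp E hE
    have sq := hi.1.isPullback E.obj.hom
    haveI : IsClosedImmersion (hi.1.snd E.obj.hom).left := hi.2 _ _ _ sq
    haveI : LocallyOfFinitePresentation (hi.1.snd E.obj.hom).left := hlfp.2 _ _ _ sq
    haveI : IsAffine E.obj.left.left := hE
    obtain ⟨h1, h2⟩ := IsClosedImmersion.isAffine_surjective_of_isAffine (hi.1.snd E.obj.hom).left
    haveI := h1
    have h3 := (HasRingHomProperty.iff_of_isAffine (P := @LocallyOfFinitePresentation)
      (f := (hi.1.snd E.obj.hom).left)).1 inferInstance
    exact ker_fg_of_finitePresentation _ h2 h3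
  · intro hfg
    obtain ⟨V, φ, hφe, hφs⟩ := X.property.atlas
    obtain ⟨K, fstC, sqC⟩ := exists_ideal_chart hi φ
    refine Groth.Agent.Lib.helper15.AlgSpDiag.repWith_of_chart i.hom hi.1 φ hφe hφs fstC
      (Over.homMk K.subschemeι rfl : Over.mk (K.subschemeι ≫ V.hom) ⟶ V) sqC
      @LocallyOfFinitePresentation ?_
    refine locallyOfFinitePresentation_subschemeι K fun A => ?_
    have h1 := idealOfRep_chart hi.1 hφe sqC A
    have h2 := hfg (chartObj φ hφe A) A.2
    rw [h1] at h2
    have hα := appLE_ι_bijective A.1
    have h3 := h2.map (RingEquiv.ofBijective _ hα).symm.toRingHom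
    have h4 : Ideal.map (RingEquiv.ofBijective _ hα).symm.toRingHom
        (Ideal.map (A.1.ι.appLE A.1 ⊤ A.1.ι_preimage_self.ge).hom (K.ideal A)) = K.ideal A := by
      rw [Ideal.map_map]
      have : (RingEquiv.ofBijective _ hα).symm.toRingHom.comp
          (A.1.ι.appLE A.1 ⊤ A.1.ι_preimage_self.ge).hom = RingHom.id _ := by
        ext x
        exact (RingEquiv.ofBijective _ hα).symm_apply_apply x
      rw [this, Ideal.map_id]
    rw [h4] at h3
    exact h3

end Groth.Agent.LibAlgSpIdeal29
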