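import Mathlib
import Groth.Prelude.Def_AlgSp2
import Groth.Prelude.Def_FDesc
import Groth.Agent.Lib.Helper1.EtaleReducedScheme
import Groth.Agent.Lib.Helper5.AlgSpFibreProduct

/-!
# Base change of algebraic spaces over a field to field extensions: charts and reducedness (helper29)

* `isPullback_prod_map_fst` : `A ⨯ Z ⟶ B ⨯ Z` is the base change of `A ⟶ B` along `prod.fst`.
* `chartProd a T : h_{U ⨯ T} ⟶ X ⨯ h_T`, with `repWith_chartProd`.
* `etaleLocally_isReduced_prod_iff` : for an étale surjective chart `a : h_U ⟶ X`,
  `X ⨯ h_T` is reduced iff the scheme `U ×_S T` is reduced.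
-/

set_option autoImplicit false
universe u
open CategoryTheory CategoryTheory.Limits AlgebraicGeometry
open AlgSp

namespace Groth.Agent.LibAlgSpGeomRed29

/-- `prod.map a (𝟙 Z)` is the base change of `a` along the first projection. -/
theorem isPullback_prod_map_fst {C : Type*} [Category C] [HasBinaryProducts C] {A B : C} (a : A ⟶ B)
    (Z : C) : IsPullback (prod.map a (𝟙 Z)) prod.fst prod.fst a := by
  refine Groth.Agent.Lib.helper5.isPullback_of_exists_lift (Limits.prod.map_fst a (𝟙 Z)) ?_ ?_
  · intro W s t hst
    refine ⟨prod.lift t (s ≫ prod.snd), ?_, ?_⟩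
    · apply Limits.prod.hom_ext
      · rw [Category.assoc, Limits.prod.map_fst, ← Category.assoc, Limits.prod.lift_fst, hst]
      · rw [Category.assoc, Limits.prod.map_snd, Category.comp_id, Limits.prod.lift_snd]
    · exact Limits.prod.lift_fst _ _
  · intro W l l' h1 h2
    apply Limits.prod.hom_ext
    · exact h2
    · have := congrArg (· ≫ (prod.snd : B ⨯ Z ⟶ Z)) h1
      simp only [Category.assoc, Limits.prod.map_snd, Category.comp_id] at this
      exact this

variable {S : Scheme.{u}}

/-- the chart `h_{U ⨯ T} ⟶ X ⨯ h_T` induced by a chart `a : h_U ⟶ X`. -/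
noncomputable def chartProd {X : Sp S} {U : Over S} (a : (yon S).obj U ⟶ X) (T : Over S) :
    (yon S).obj (U ⨯ T) ⟶ X ⨯ (yon S).obj T :=
  prodComparison (yon S) U T ≫ prod.map a (𝟙 _)

theorem repWith_chartProd (P : MorphismProperty Scheme.{u}) [P.IsStableUnderBaseChange] {X : Sp S}
    {U : Over S} (a : (yon S).obj U ⟶ X) (ha : RepWith P a) (T : Over S) :
    RepWith P (chartProd a T) := by
  have h1 : RepWith P (prod.map a (𝟙 ((yon S).obj T))) :=
    MorphismProperty.of_isPullback (isPullback_prod_map_fst a _).flip ha
  exact (MorphismProperty.cancel_left_of_respectsIso (RepWith P) (prodComparison (yon S) U T) _).2 h1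

theorem chartProd_fst {X : Sp S} {U : Over S} (a : (yon S).obj U ⟶ X) (T : Over S) :
    chartProd a T ≫ prod.fst = (yon S).map prod.fst ≫ a := by
  unfold chartProd
  rw [Category.assoc, Limits.prod.map_fst, ← Category.assoc, prodComparison_fst]

theorem chartProd_snd {X : Sp S} {U : Over S} (a : (yon S).obj U ⟶ X) (T : Over S) :
    chartProd a T ≫ prod.snd = (yon S).map prod.snd := by
  unfold chartProd
  rw [Category.assoc, Limits.prod.map_snd, Category.comp_id, prodComparison_snd]

/-- `X ⨯ h_T` is reduced iff `U ×_S T` is, for an étale surjective chart `h_U ⟶ X`. -/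
theorem etaleLocally_isReduced_prod_iff {X : Sp S} {U : Over S} (a : (yon S).obj U ⟶ X)
    (hae : RepWith @Etale a) (has : RepWith @Surjective a) (T : Over S) :
    EtaleLocally (fun V => IsReduced V) (X ⨯ (yon S).obj T) ↔
      IsReduced (pullback U.hom T.hom) := by
  have e : (U ⨯ T).left ≅ pullback U.hom T.hom := Over.prodLeftIsoPullback U T
  constructor
  · intro h
    have : IsReduced (U ⨯ T).left :=
      Groth.Agent.H1.EtaleReduced.isReduced_of_chart h (chartProd a T) (repWith_chartProd _ a hae T)
    exact isReduced_of_isOpenImmersion e.inv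
  · intro h
    refine ⟨U ⨯ T, chartProd a T, repWith_chartProd _ a hae T, repWith_chartProd _ a has T, ?_⟩
    exact isReduced_of_isOpenImmersion e.hom

end Groth.Agent.LibAlgSpGeomRed29
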