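import Groth.Statements.S1610
import Mathlib
import Groth.Agent.Lib.Helper3.StalkBC2
import Groth.Agent.Lib.Helper3.GeomRed3
import Groth.Agent.S1541

set_option autoImplicit false
universe u
open CategoryTheory CategoryTheory.Limits AlgebraicGeometry
open Variety

namespace Groth.Agent.S1610

open scoped TensorProduct
attribute [local instance] Curv2.stalkAlgebra

/-- Let k have characteristic p > 0, X a scheme over k and x a point. Then X is geometrically reduced at
x if and only if for every finite purely inseparable extension k' of k and every point x' of X_{k'}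
over x, the local ring of X_{k'} at x' is reduced. -/
theorem result (k : Type u) [Field k] (p : ℕ) [Fact p.Prime] [CharP k p]
    (X : Scheme.{u}) [X.Over (Spec (CommRingCat.of k))] (x : X) :
    Curv2.IsGeomReducedAt k X x ↔
      ∀ (k' : Type u) [Field k'] [Algebra k k'] [FiniteDimensional k k'] [IsPurelyInseparable k k']
        (x' : Curv2.bc k X k'), Curv2.bcFst k X k' x' = x → IsReduced ((Curv2.bc k X k').presheaf.stalk x') := by
  have hj : X.fromSpecStalk x ≫ (X ↘ Spec (CommRingCat.of k)) =
      Spec.map (CommRingCat.ofHom (algebraMap k (X.presheaf.stalk x))) :=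
    Groth.Agent.Lib.helper3.StalkBC2.specMap_stalkMap k X x
  constructor
  · intro h k' _ _ _ _ x' hx'
    exact h k' x' hx'
  · intro h
    rw [Groth.Agent.S1541.result k X x]
    apply Groth.Agent.Lib.helper3.GeomRed.isGeometricallyReduced_of_finite_purelyInseparable
    intro k' _ _ _ _
    have hred : _root_.IsReduced ((X.presheaf.stalk x) ⊗[k] k') := by
      apply isReduced_ofLocalizationMaximal
      intro m hm
      obtain ⟨x', hx', ⟨e⟩⟩ := Groth.Agent.Lib.helper3.StalkBC2.exists_point_of_isMaximal x
        (X ↘ Spec (CommRingCat.of k)) k' hj m
      have := h k' x' hx'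
      exact isReduced_of_injective e e.injective
    exact Groth.Agent.Lib.helper3.GeomRed.isReduced_comm _ _ hred

end Groth.Agent.S1610
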