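import Groth.Statements.S1560
import Mathlib
import Groth.Agent.Lib.Helper3.StalkBC
import Groth.Agent.Lib.Helper3.GeomRedSch

set_option autoImplicit false
universe u
open CategoryTheory CategoryTheory.Limits AlgebraicGeometry
open Variety

namespace Groth.Agent.S1560

/-- Let X be a scheme over a perfect field k and x a point whose local ring is reduced. Then X is
geometrically reduced at x. -/
theorem result (k : Type u) [Field k] (X : Scheme.{u}) [X.Over (Spec (CommRingCat.of k))] [PerfectField k] (x : X)
    [IsReduced (X.presheaf.stalk x)] : Curv2.IsGeomReducedAt k X x := by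
  intro K _ _ x' hx'
  obtain ⟨y, φ, hφ⟩ := Groth.Agent.Lib.helper3.StalkBC.exists_point_injective
    (Curv2.bcFst k X K) x x' hx'
  have hS : AlgebraicGeometry.IsReduced (Spec (X.presheaf.stalk x)) := inferInstance
  have hgr : GeometricallyReduced (X.fromSpecStalk x ≫ (X ↘ Spec (CommRingCat.of k))) :=
    Groth.Agent.Lib.helper3.GeomRed.geometricallyReduced_of_perfectField _
  have hred : AlgebraicGeometry.IsReduced
      (pullback (X.fromSpecStalk x ≫ (X ↘ Spec (CommRingCat.of k)))
        (Spec.map (CommRingCat.ofHom (algebraMap k K)))) :=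
    (geometrically_iff_of_commRing_of_isClosedUnderIsomorphisms.mp hgr.1) K
  have hred2 : AlgebraicGeometry.IsReduced
      (pullback (X.fromSpecStalk x) (Curv2.bcFst k X K)) :=
    isReduced_of_isOpenImmersion (pullbackRightPullbackFstIso (X ↘ Spec (CommRingCat.of k))
      (Spec.map (CommRingCat.ofHom (algebraMap k K))) (X.fromSpecStalk x)).hom
  have hst : _root_.IsReduced
      ((pullback (X.fromSpecStalk x) (Curv2.bcFst k X K)).presheaf.stalk y) := inferInstance
  exact isReduced_of_injective φ hφ

end Groth.Agent.S1560
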