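import Mathlib
import Groth.Agent.LibAlgSpGeomRed29
import Groth.Agent.Lib.Helper11.AlgSpBasic
import Groth.Agent.S10473
import Groth.Agent.S2521
import Groth.Agent.S1610

/-!
# Geometric reducedness of algebraic spaces over a field via base change (helper29)
-/

set_option autoImplicit false
universe u
open CategoryTheory CategoryTheory.Limits AlgebraicGeometry
open AlgSp

namespace Groth.Agent.LibAlgSpGeomRed29

/-- a `k`-scheme is geometrically reduced at all points iff all its base changes to field
extensions are reduced. -/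
theorem forall_isGeomReducedAt_iff {k : Type u} [Field k] {U : Scheme.{u}}
    (f : U ⟶ Spec (CommRingCat.of k)) :
    (∀ u : U, FBase.IsGeomReducedAt f u) ↔
      ∀ (K : Type u) [Field K] [Algebra k K], IsReduced (FBase.bc f K) := by
  constructor
  · intro h K _ _
    haveI : ∀ x' : ↥(FBase.bc f K), _root_.IsReduced ((FBase.bc f K).presheaf.stalk x') :=
      fun x' => h _ K x' rfl
    exact isReduced_of_isReduced_stalk _
  · intro h u K _ _ x' _
    haveI := h K
    infer_instance

/-- the field extension as an object over `Spec k`. -/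
noncomputable abbrev extOver (k : Type u) [Field k] (K : Type u) [Field K] [Algebra k K] :
    Over (Spec (CommRingCat.of k)) :=
  Over.mk (Spec.map (CommRingCat.ofHom (algebraMap k K)))

/-- key lemma: `X_K` is reduced iff `U_K` is, for an étale surjective chart `U` of `X`. -/
theorem etaleLocally_isReduced_bc_iff {k : Type u} [Field k] {X : Sp (Spec (CommRingCat.of k))}
    {U : Over (Spec (CommRingCat.of k))} (a : (yon _).obj U ⟶ X)
    (hae : RepWith @Etale a) (has : RepWith @Surjective a) (K : Type u) [Field K] [Algebra k K] :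
    EtaleLocally (fun V => IsReduced V) (X ⨯ (yon _).obj (extOver k K)) ↔
      IsReduced (FBase.bc U.hom K) :=
  etaleLocally_isReduced_prod_iff a hae has (extOver k K)

/-- all base changes reduced iff a chart is geometrically reduced at all points -/
theorem forall_etaleLocally_isReduced_bc_iff {k : Type u} [Field k]
    {X : Sp (Spec (CommRingCat.of k))}
    {U : Over (Spec (CommRingCat.of k))} (a : (yon _).obj U ⟶ X)
    (hae : RepWith @Etale a) (has : RepWith @Surjective a) :
    (∀ (K : Type u) [Field K] [Algebra k K],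
      EtaleLocally (fun V => IsReduced V) (X ⨯ (yon _).obj (extOver k K))) ↔
      ∀ u : ↥U.left, FBase.IsGeomReducedAt U.hom u := by
  rw [forall_isGeomReducedAt_iff]
  constructor
  · intro h K _ _
    exact (etaleLocally_isReduced_bc_iff a hae has K).1 (h K)
  · intro h K _ _
    exact (etaleLocally_isReduced_bc_iff a hae has K).2 (h K)

open Groth.Agent.Lib.helper11

/-- = S10476 (no characteristic hypothesis needed). -/
theorem geomReduced_iff_forall_bc_isReduced {k : Type u} [Field k]
    (X : AlgSp.Space (Spec (CommRingCat.of k))) :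
    (∀ x : AlgSp.Points X.obj, (∃ (U : Over (Spec (CommRingCat.of k)))
      (a : (AlgSp.yon (Spec (CommRingCat.of k))).obj U ⟶ X.obj) (u : ↥U.left),
      AlgSp.RepWith @Etale a ∧ AlgSp.Points.ofPt a u = x ∧ FBase.IsGeomReducedAt U.hom u)) ↔
      ∀ (K : Type u) [Field K] [Algebra k K], AlgSp.EtaleLocally (fun U => IsReduced U)
        (X.obj ⨯ (AlgSp.yon (Spec (CommRingCat.of k))).obj (extOver k K)) := by
  obtain ⟨U, a, hae, has⟩ := X.property.atlas
  rw [forall_etaleLocally_isReduced_bc_iff a hae has]
  constructor
  · intro h u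
    exact (Groth.Agent.S10473.result k X _).1 (h (Points.ofPt a u)) U a u hae rfl
  · intro h x
    obtain ⟨u, rfl⟩ := surjective_ofPt a has x
    exact ⟨U, a, u, hae, rfl, h u⟩

/-- if `X_Ω` is reduced for one perfect extension `Ω` of `k` then all `X_K` are reduced
(= S10477, S12204). -/
theorem forall_bc_isReduced_of_perfect {k : Type u} [Field k]
    (X : AlgSp.Space (Spec (CommRingCat.of k))) (Ω : Type u) [Field Ω] [Algebra k Ω] [PerfectField Ω]
    (h : AlgSp.EtaleLocally (fun U => IsReduced U)
      (X.obj ⨯ (AlgSp.yon (Spec (CommRingCat.of k))).obj (extOver k Ω)))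
    (K : Type u) [Field K] [Algebra k K] : AlgSp.EtaleLocally (fun U => IsReduced U)
      (X.obj ⨯ (AlgSp.yon (Spec (CommRingCat.of k))).obj (extOver k K)) := by
  obtain ⟨U, a, hae, has⟩ := X.property.atlas
  refine (forall_etaleLocally_isReduced_bc_iff a hae has).2 ?_ K
  intro u
  have hred : IsReduced (FBase.bc U.hom Ω) := (etaleLocally_isReduced_bc_iff a hae has Ω).1 h
  have hS : Surjective (Spec.map (CommRingCat.ofHom (algebraMap k Ω))) := by
    constructor
    intro y
    refine ⟨(⟨⊥, Ideal.isPrime_bot⟩ : PrimeSpectrum Ω), ?_⟩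
    exact (inferInstance : Subsingleton (PrimeSpectrum k)).elim _ _
  have hsurj : Surjective (FBase.bcπ U.hom Ω) :=
    MorphismProperty.pullback_fst (P := @Surjective) _ _ hS
  obtain ⟨x', hx'⟩ := hsurj.surj u
  refine Groth.Agent.S2521.result U.hom u x' hx' ?_
  unfold FBase.IsReducedAt
  infer_instance

/-- = S10478. -/
theorem forall_bc_isReduced_of_finite_purelyInseparable {k : Type u} [Field k] (p : ℕ)
    [Fact p.Prime] [CharP k p]
    (X : AlgSp.Space (Spec (CommRingCat.of k)))
    (h : ∀ (k' : Type u) [Field k'] [Algebra k k'], Module.Finite k k' → IsPurelyInseparable k k' →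
      AlgSp.EtaleLocally (fun U => IsReduced U)
        (X.obj ⨯ (AlgSp.yon (Spec (CommRingCat.of k))).obj (extOver k k')))
    (K : Type u) [Field K] [Algebra k K] : AlgSp.EtaleLocally (fun U => IsReduced U)
      (X.obj ⨯ (AlgSp.yon (Spec (CommRingCat.of k))).obj (extOver k K)) := by
  obtain ⟨U, a, hae, has⟩ := X.property.atlas
  refine (forall_etaleLocally_isReduced_bc_iff a hae has).2 ?_ K
  intro u
  letI : U.left.Over (Spec (CommRingCat.of k)) := ⟨U.hom⟩
  have key : Curv2.IsGeomReducedAt k U.left u := by
    rw [Groth.Agent.S1610.result k p U.left u]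
    intro k' _ _ hfin hpi x' _
    have hred : IsReduced (FBase.bc U.hom k') :=
      (etaleLocally_isReduced_bc_iff a hae has k').1 (h k' hfin hpi)
    have : IsReduced (Curv2.bc k U.left k') := hred
    infer_instance
  exact key

end Groth.Agent.LibAlgSpGeomRed29
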