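import Mathlib
import Groth.Agent.LibAlgSpGeomRed29b
import Groth.Agent.S1545

/-!
# Geometric reducedness at a point of an algebraic space and field extensions (helper29)
-/

set_option autoImplicit false
universe u
open CategoryTheory CategoryTheory.Limits AlgebraicGeometry
open AlgSp

namespace Groth.Agent.LibAlgSpGeomRed29

open Groth.Agent.Lib.helper11 Groth.Agent.Lib.helper5.ChartInd Groth.Agent.Lib.helper5.GeomReducedEt

/-- scheme-level: geometric reducedness at a point and field extension (FBase form of S1545). -/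
theorem isGeomReducedAt_bc_iff {k : Type u} [Field k] {U : Scheme.{u}}
    (f : U ⟶ Spec (CommRingCat.of k)) (K : Type u) [Field K] [Algebra k K] (u : U)
    (u' : ↥(FBase.bc f K)) (hu : (FBase.bcπ f K) u' = u) :
    FBase.IsGeomReducedAt f u ↔ FBase.IsGeomReducedAt (FBase.bcStr f K) u' := by
  letI : U.Over (Spec (CommRingCat.of k)) := ⟨f⟩
  exact Groth.Agent.S1545.result k U K u u' hu

/-- product form. -/
theorem isGeomReducedAt_prod_iff {k : Type u} [Field k] (U : Over (Spec (CommRingCat.of k)))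
    (K : Type u) [Field K] [Algebra k K] (w : ↥(U ⨯ extOver k K).left) :
    FBase.IsGeomReducedAt U.hom ((prod.fst : U ⨯ extOver k K ⟶ U).left w) ↔
      FBase.IsGeomReducedAt (prod.snd : U ⨯ extOver k K ⟶ extOver k K).left w := by
  let e : (U ⨯ extOver k K).left ≅ pullback U.hom (extOver k K).hom :=
    Over.prodLeftIsoPullback U (extOver k K)
  have h1 : e.hom ≫ pullback.fst _ _ = (prod.fst : U ⨯ extOver k K ⟶ U).left :=
    Over.prodLeftIsoPullback_hom_fst U (extOver k K)
  have h2 : e.hom ≫ pullback.snd _ _ = (prod.snd : U ⨯ extOver k K ⟶ extOver k K).left :=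
    Over.prodLeftIsoPullback_hom_snd U (extOver k K)
  have h3 := isGeomReducedAt_bc_iff U.hom K ((prod.fst : U ⨯ extOver k K ⟶ U).left w) (e.hom w)
    (by rw [← h1]; rfl)
  rw [h3]
  exact (isGeomReducedAt_iff_of_etale e.hom (FBase.bcStr U.hom K) _ h2 w).symm

variable {S : Scheme.{u}}

/-- the chart `chartProd a T` is the base change of `a` along the first projection. -/
theorem isPullback_chartProd {X : Sp S} {U : Over S} (a : (yon S).obj U ⟶ X) (T : Over S) :
    IsPullback (chartProd a T) ((yon S).map prod.fst) prod.fst a := by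
  refine IsPullback.of_iso (isPullback_prod_map_fst a ((yon S).obj T))
    (asIso (prodComparison (yon S) U T)).symm (Iso.refl _) (Iso.refl _) (Iso.refl _) ?_ ?_ ?_ ?_
  · simp [chartProd]
  · simp [prodComparison_fst]
  · simp
  · simp

/-- a point of `X ⨯ h_T` over the image of `u` lifts to the chart `U ⨯ T` over `u`. -/
theorem exists_point_chartProd {X : Sp S} {U : Over S} (a : (yon S).obj U ⟶ X) (T : Over S)
    (x' : Points (X ⨯ (yon S).obj T)) (u : ↥U.left)
    (h : Points.map prod.fst x' = Points.ofPt a u) :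
    ∃ w : ↥(U ⨯ T).left, Points.ofPt (chartProd a T) w = x' ∧
      (prod.fst : U ⨯ T ⟶ U).left w = u :=
  exists_of_isPullback_scheme (isPullback_chartProd a T) x' u h

/-- = S10479. -/
theorem geomReducedAt_iff_bc {k : Type u} [Field k] (X : AlgSp.Space (Spec (CommRingCat.of k)))
    (K : Type u) [Field K] [Algebra k K] (x : AlgSp.Points X.obj)
    (x' : AlgSp.Points (X.obj ⨯ (AlgSp.yon (Spec (CommRingCat.of k))).obj (extOver k K)))
    (hx' : AlgSp.Points.map (Limits.prod.fst :
      (X.obj ⨯ (AlgSp.yon (Spec (CommRingCat.of k))).obj (extOver k K)) ⟶ X.obj) x' = x) :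
    (∃ (U : Over (Spec (CommRingCat.of k)))
      (a : (AlgSp.yon (Spec (CommRingCat.of k))).obj U ⟶ X.obj) (u : ↥U.left),
      AlgSp.RepWith @Etale a ∧ AlgSp.Points.ofPt a u = x ∧ FBase.IsGeomReducedAt U.hom u) ↔
      ∃ (U' : Over (Spec (CommRingCat.of k)))
        (a' : (AlgSp.yon (Spec (CommRingCat.of k))).obj U' ⟶
          (X.obj ⨯ (AlgSp.yon (Spec (CommRingCat.of k))).obj (extOver k K)))
        (q : U' ⟶ extOver k K) (u' : ↥U'.left),
        AlgSp.RepWith @Etale a' ∧
          a' ≫ Limits.prod.snd = (AlgSp.yon (Spec (CommRingCat.of k))).map q ∧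
          AlgSp.Points.ofPt a' u' = x' ∧ FBase.IsGeomReducedAt q.left u' := by
  constructor
  · rintro ⟨U, a, u, hae, hu, hgr⟩
    obtain ⟨w, hw1, hw2⟩ := exists_point_chartProd a (extOver k K) x' u (hx'.trans hu.symm)
    refine ⟨U ⨯ extOver k K, chartProd a _, prod.snd, w, repWith_chartProd _ a hae _,
      chartProd_snd a _, hw1, ?_⟩
    rw [← isGeomReducedAt_prod_iff, hw2]
    exact hgr
  · rintro ⟨U', a', q, u', ha', hq, hu', hgr'⟩
    obtain ⟨U, a, u, hae, -, hu⟩ := exists_chart_ofPt X x
    obtain ⟨w, hw1, hw2⟩ := exists_point_chartProd a (extOver k K) x' u (hx'.trans hu.symm)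
    have ha'' := repWith_chartProd @Etale a hae (extOver k K)
    obtain ⟨W, g, g', w0, hg, hg', hcomm, hgw, hg'w⟩ :=
      exists_common_chart (chartProd a (extOver k K)) ha'' a' ha' w u' (hw1.trans hu'.symm)
    have hqq : g ≫ prod.snd = g' ≫ q := by
      apply (AlgSp.yon (Spec (CommRingCat.of k))).map_injective
      rw [Functor.map_comp, Functor.map_comp, ← chartProd_snd a (extOver k K), ← hq,
        ← Category.assoc, ← Category.assoc, hcomm]
    refine ⟨U, a, u, hae, hu, ?_⟩
    rw [← hw2, isGeomReducedAt_prod_iff, ← hgw,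
      ← isGeomReducedAt_iff_of_etale g.left _ (g ≫ prod.snd).left rfl w0, hqq,
      isGeomReducedAt_iff_of_etale g'.left q.left (g' ≫ q).left rfl w0, hg'w]
    exact hgr'

/-- `|X_K| ⟶ |X|` is surjective. -/
theorem surjective_map_prod_fst {k : Type u} [Field k] (X : AlgSp.Space (Spec (CommRingCat.of k)))
    (K : Type u) [Field K] [Algebra k K] :
    Function.Surjective (AlgSp.Points.map (Limits.prod.fst :
      (X.obj ⨯ (AlgSp.yon (Spec (CommRingCat.of k))).obj (extOver k K)) ⟶ X.obj)) := by
  intro x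
  obtain ⟨U, a, u, hae, -, hu⟩ := exists_chart_ofPt X x
  have hS : Surjective (Spec.map (CommRingCat.ofHom (algebraMap k K))) := by
    constructor
    intro y
    refine ⟨(⟨⊥, Ideal.isPrime_bot⟩ : PrimeSpectrum K), ?_⟩
    exact (inferInstance : Subsingleton (PrimeSpectrum k)).elim _ _
  have hsurj : Surjective (pullback.fst U.hom (extOver k K).hom) :=
    MorphismProperty.pullback_fst (P := @Surjective) _ _ hS
  obtain ⟨z, hz⟩ := hsurj.surj u
  let e : (U ⨯ extOver k K).left ≅ pullback U.hom (extOver k K).hom :=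
    Over.prodLeftIsoPullback U (extOver k K)
  have h1 : e.hom ≫ pullback.fst _ _ = (prod.fst : U ⨯ extOver k K ⟶ U).left :=
    Over.prodLeftIsoPullback_hom_fst U (extOver k K)
  refine ⟨Points.ofPt (chartProd a (extOver k K)) (e.inv z), ?_⟩
  rw [Points.map_ofPt, chartProd_fst, ofPt_yon_map_comp, ← hu, ← h1]
  congr 1
  rw [Scheme.Hom.comp_apply, ← Scheme.Hom.comp_apply e.inv e.hom, e.inv_hom_id]
  exact hz

/-- = S10502. -/
theorem geomReduced_iff_bc {k : Type u} [Field k] (X : AlgSp.Space (Spec (CommRingCat.of k)))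
    (K : Type u) [Field K] [Algebra k K] :
    (∀ x : AlgSp.Points X.obj, (∃ (U : Over (Spec (CommRingCat.of k)))
      (a : (AlgSp.yon (Spec (CommRingCat.of k))).obj U ⟶ X.obj) (u : ↥U.left),
      AlgSp.RepWith @Etale a ∧ AlgSp.Points.ofPt a u = x ∧ FBase.IsGeomReducedAt U.hom u)) ↔
      ∀ x' : AlgSp.Points (X.obj ⨯ (AlgSp.yon (Spec (CommRingCat.of k))).obj (extOver k K)),
      ∃ (U' : Over (Spec (CommRingCat.of k)))
        (a' : (AlgSp.yon (Spec (CommRingCat.of k))).obj U' ⟶
          (X.obj ⨯ (AlgSp.yon (Spec (CommRingCat.of k))).obj (extOver k K)))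
        (q : U' ⟶ extOver k K) (u' : ↥U'.left),
        AlgSp.RepWith @Etale a' ∧
          a' ≫ Limits.prod.snd = (AlgSp.yon (Spec (CommRingCat.of k))).map q ∧
          AlgSp.Points.ofPt a' u' = x' ∧ FBase.IsGeomReducedAt q.left u' := by
  constructor
  · intro h x'
    exact (geomReducedAt_iff_bc X K _ x' rfl).1 (h _)
  · intro h x
    obtain ⟨x', hx'⟩ := surjective_map_prod_fst X K x
    exact (geomReducedAt_iff_bc X K x x' hx').2 (h x')

end Groth.Agent.LibAlgSpGeomRed29
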