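import Mathlib
import Groth.Prelude.Def_RegImm
import Groth.Agent.LibRegImmSmoothDesc29
import Groth.Agent.LibRegImmBasic29
import Groth.Agent.S8652
import Groth.Agent.S8654
import Groth.Agent.S8656
import Groth.Agent.Lib.Helper12.ImmCharts2

/-!
# Composition of local complete intersection morphisms (helper29)
-/

set_option autoImplicit false
universe u

open AlgebraicGeometry CategoryTheory CategoryTheory.Limits

namespace Groth.Agent.LibKoszulAtComp29

/-- Affine space over any base is smooth (proof copied from helper9 `GUSmoothGeom`). -/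
theorem smooth_affineSpace_over (n : Type u) [Finite n] (S : Scheme.{u}) :
    Smooth (𝔸(n; S) ↘ S) := by
  have h1 : Smooth (Limits.terminal.from (Spec (CommRingCat.of (MvPolynomial n (ULift.{u} ℤ))))) := by
    have := Limits.isIso_of_isTerminal specULiftZIsTerminal.{u} Limits.terminalIsTerminal
      (Limits.terminal.from _)
    rw [← Limits.terminal.comp_from (Spec.map (CommRingCat.ofHom MvPolynomial.C)),
      MorphismProperty.cancel_right_of_respectsIso (P := @Smooth),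
      HasRingHomProperty.Spec_iff (P := @Smooth)]
    have h2 : Algebra.Smooth (ULift.{u} ℤ) (MvPolynomial n (ULift.{u} ℤ)) :=
      ⟨inferInstance, inferInstance⟩
    exact (RingHom.smooth_algebraMap (R := ULift.{u} ℤ) (S := MvPolynomial n (ULift.{u} ℤ))).2 h2
  exact MorphismProperty.pullback_fst _ _ h1

/-- restriction of a regular immersion to an open of the target. -/
theorem isRegularImmersion_morphismRestrict (k : RegImm.Kind) {Z X : Scheme.{u}} (i : Z ⟶ X)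
    (hi : RegImm.IsRegularImmersion k i) (W : X.Opens) :
    RegImm.IsRegularImmersion k (i ∣_ W) :=
  Groth.Agent.S8652.of_isPullback k i W.ι (i ∣_ W) (i ⁻¹ᵁ W).ι
    (isPullback_morphismRestrict i W).flip hi

/-- precomposition with an isomorphism. -/
theorem isRegularImmersion_iso_comp (k : RegImm.Kind) {Z' Z X : Scheme.{u}} (e : Z' ⟶ Z) [IsIso e]
    (i : Z ⟶ X) (hi : RegImm.IsRegularImmersion k i) : RegImm.IsRegularImmersion k (e ≫ i) := by
  haveI : IsImmersion i := hi.1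
  exact ⟨inferInstance, fun z' =>
    Groth.Agent.LibRegImmBasic29.isRegularImmersionAt_iso_comp k e i z' (hi.2 _)⟩

/-- a smooth morphism is Koszul at every point. -/
theorem isKoszulAt_of_smooth {X S : Scheme.{u}} (f : X ⟶ S) [Smooth f] (x : X) :
    Synt.IsKoszulAt f x := by
  haveI : IsIso (⊤ : X.Opens).ι := inferInstanceAs (IsIso X.topIso.hom)
  refine ⟨⊤, X, (⊤ : X.Opens).ι, f, trivial, inferInstance, ?_, inferInstance, rfl⟩
  exact Groth.Agent.LibRegImmSmoothDesc29.isRegularImmersion_koszul_of_isIso _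

open Groth.Agent.Lib.helper12.ImmCharts2 in
/-- **Composition of local complete intersection morphisms (pointwise).** -/
theorem isKoszulAt_comp {X Y Z : Scheme.{u}} (f : X ⟶ Y) (g : Y ⟶ Z) (x : X)
    (hf : Synt.IsKoszulAt f x) (hg : Synt.IsKoszulAt g (f x)) : Synt.IsKoszulAt (f ≫ g) x := by
  obtain ⟨U₀, P, j, π, hxU₀, -, hj, hπ, hjπ⟩ := hf
  obtain ⟨W₀, Q, k, ρ, hyW₀, hlft, hk, hρ, hkρ⟩ := hg
  haveI : Smooth π := hπ
  haveI : Smooth ρ := hρ
  haveI : LocallyOfFiniteType (W₀.ι ≫ g) := hlft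
  haveI : IsImmersion j := hj.1
  haveI : IsImmersion k := hk.1
  -- the affine open `T₁` of `P`
  have hjx : π (j ⟨x, hxU₀⟩) ∈ W₀ := by
    have h1 : π (j ⟨x, hxU₀⟩) = f x := by
      rw [← Scheme.Hom.comp_apply, hjπ]
      rfl
    rw [h1]
    exact hyW₀
  obtain ⟨T₁, hT₁, hxT₁, hT₁W⟩ : ∃ T₁ : P.Opens, IsAffineOpen T₁ ∧ j ⟨x, hxU₀⟩ ∈ T₁ ∧
      T₁ ≤ π ⁻¹ᵁ W₀ := by
    obtain ⟨_, ⟨T₁, hT₁, rfl⟩, hxT₁, hT₁W⟩ :=
      P.isBasis_affineOpens.exists_subset_of_mem_open hjx (π ⁻¹ᵁ W₀).isOpen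
    exact ⟨T₁, hT₁, hxT₁, hT₁W⟩
  haveI : IsAffine T₁.toScheme := hT₁
  have hrange : Set.range (T₁.ι ≫ π) ⊆ Set.range W₀.ι := by
    rintro _ ⟨t, rfl⟩
    rw [Scheme.Opens.range_ι]
    exact hT₁W t.2
  let πT : (T₁ : Scheme.{u}) ⟶ W₀ := IsOpenImmersion.lift W₀.ι (T₁.ι ≫ π) hrange
  have hπT : πT ≫ W₀.ι = T₁.ι ≫ π := IsOpenImmersion.lift_fac _ _ _
  haveI : Smooth πT :=
    MorphismProperty.of_postcomp (W := @Smooth) (W' := @IsOpenImmersion) πT W₀.ι inferInstance
      (by rw [hπT]; infer_instance)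
  let τ : (T₁ : Scheme.{u}) ⟶ Z := πT ≫ W₀.ι ≫ g
  obtain ⟨n, ιT, hιT, hιTfac⟩ := exists_immersion_affineSpace τ
  haveI : IsImmersion ιT := hιT
  haveI := smooth_affineSpace_over (ULift.{u} (Fin n)) Z
  set σ : 𝔸(ULift.{u} (Fin n); Z) ⟶ Z := 𝔸(ULift.{u} (Fin n); Z) ↘ Z with hσ
  -- the maps `a : T₁ ⟶ S_Q` and `b : T₁ ⟶ S_W`
  have wa : ιT ≫ σ = (πT ≫ k) ≫ ρ := by
    rw [hιTfac, Category.assoc, hkρ]
  let a : (T₁ : Scheme.{u}) ⟶ pullback σ ρ := pullback.lift ιT (πT ≫ k) wa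
  have wb : a ≫ pullback.snd σ ρ = πT ≫ k := pullback.lift_snd _ _ _
  let b : (T₁ : Scheme.{u}) ⟶ pullback (pullback.snd σ ρ) k := pullback.lift a πT wb
  have hbfst : b ≫ pullback.fst (pullback.snd σ ρ) k = a := pullback.lift_fst _ _ _
  have hbsnd : b ≫ pullback.snd (pullback.snd σ ρ) k = πT := pullback.lift_snd _ _ _
  haveI : IsImmersion a := by
    haveI : IsImmersion (a ≫ pullback.fst σ ρ) := by
      rw [pullback.lift_fst]
      infer_instance
    exact IsImmersion.of_comp a (pullback.fst σ ρ)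
  haveI : IsImmersion b := by
    haveI : IsImmersion (b ≫ pullback.fst (pullback.snd σ ρ) k) := by
      rw [hbfst]
      infer_instance
    exact IsImmersion.of_comp b (pullback.fst (pullback.snd σ ρ) k)
  have hb : RegImm.IsRegularImmersion .koszul b :=
    Groth.Agent.S8656.result πT (fun t => isKoszulAt_of_smooth πT t)
      (pullback.snd (pullback.snd σ ρ) k) b hbsnd
  have hc : RegImm.IsRegularImmersion .koszul (pullback.fst (pullback.snd σ ρ) k) :=
    Groth.Agent.S8652.of_isPullback .koszul k (pullback.snd σ ρ) (pullback.fst _ k)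
      (pullback.snd _ k) (IsPullback.of_hasPullback (pullback.snd σ ρ) k).flip hk
  have ha : RegImm.IsRegularImmersion .koszul a := by
    have := Groth.Agent.S8654.result (pullback.fst (pullback.snd σ ρ) k) b hc hb
    rwa [hbfst] at this
  have hj₁ : RegImm.IsRegularImmersion .koszul (j ∣_ T₁) :=
    isRegularImmersion_morphismRestrict .koszul j hj T₁
  have hfin : RegImm.IsRegularImmersion .koszul ((j ∣_ T₁) ≫ a) :=
    Groth.Agent.S8654.result a (j ∣_ T₁) ha hj₁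
  -- back to an open of `X`
  let e := U₀.ι.isoImage (j ⁻¹ᵁ T₁)
  have hifin : RegImm.IsRegularImmersion .koszul (e.inv ≫ (j ∣_ T₁) ≫ a) :=
    isRegularImmersion_iso_comp .koszul e.inv _ hfin
  have hfac : (e.inv ≫ (j ∣_ T₁) ≫ a) ≫ (pullback.snd σ ρ ≫ ρ) =
      (U₀.ι ''ᵁ (j ⁻¹ᵁ T₁)).ι ≫ f ≫ g := by
    simp only [Category.assoc]
    rw [reassoc_of% wb, hkρ, reassoc_of% hπT, morphismRestrict_ι_assoc, reassoc_of% hjπ]
    exact Scheme.Hom.isoImage_inv_ι_assoc U₀.ι (j ⁻¹ᵁ T₁) (f ≫ g)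
  haveI : IsImmersion (e.inv ≫ (j ∣_ T₁) ≫ a) := hifin.1
  refine ⟨U₀.ι ''ᵁ (j ⁻¹ᵁ T₁), pullback σ ρ, e.inv ≫ (j ∣_ T₁) ≫ a, pullback.snd σ ρ ≫ ρ,
    ⟨⟨x, hxU₀⟩, hxT₁, rfl⟩, ?_, hifin, inferInstance, hfac⟩
  rw [← hfac]
  infer_instance

end Groth.Agent.LibKoszulAtComp29
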