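import Mathlib
import Groth.Prelude.Def_LCI2
import Groth.Agent.LibKoszulIndep29
import Groth.Agent.LibKoszulDescent29
import Groth.Agent.LibKoszulFlat29
import Groth.Agent.LibSyntOfLCI29
import Groth.Agent.Lib.Helper7.KoszulLow
import Groth.Agent.Lib.Helper17.LciH1a

/-!
# Faithfully flat descent of Koszul-regular ideals (helper29)

`isKoszulRegularIdeal_of_faithfullyFlat`: if `A → B` is faithfully flat and `I B` is a
Koszul-regular ideal of `B`, then `I` is a Koszul-regular ideal of `A`.
-/

set_option autoImplicit false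
universe u

namespace Groth.Agent.LibKoszulFFDescent29

open Groth.Agent.LibKoszulFlat29

section Matrix

/-- a `d × d` nonzero scalar matrix does not factor through `m < d`. -/
theorem card_le_of_mul_eq_smul_one {K : Type*} [Field K] {d m : Type*} [Fintype d] [Fintype m]
    [DecidableEq d] [DecidableEq m]
    (C : Matrix d m K) (E : Matrix m d K) (c : K) (hc : c ≠ 0)
    (h : C * E = c • (1 : Matrix d d K)) : Fintype.card d ≤ Fintype.card m := by
  have h1 : (C * E).rank = Fintype.card d := by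
    rw [h]
    apply Matrix.rank_of_isUnit
    rw [Matrix.isUnit_iff_isUnit_det]
    simp [hc]
  calc Fintype.card d = (C * E).rank := h1.symm
    _ ≤ C.rank := Matrix.rank_mul_le_left _ _
    _ ≤ Fintype.card m := Matrix.rank_le_card_width _

/-- ring version: entries of `c • 1 - C * E` in a prime `𝔮`, `c ∉ 𝔮`. -/
theorem card_le_of_forall_mem_prime {B : Type*} [CommRing B] (𝔮 : Ideal B) [𝔮.IsPrime]
    {d m : Type*} [Fintype d] [Fintype m] [DecidableEq d]
    (C : d → m → B) (E : m → d → B) (c : B) (hc : c ∉ 𝔮)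
    (h : ∀ i k, (if i = k then c else 0) - ∑ j, C i j * E j k ∈ 𝔮) :
    Fintype.card d ≤ Fintype.card m := by
  classical
  let χ : B →+* 𝔮.ResidueField := algebraMap B 𝔮.ResidueField
  have hχ : ∀ x, χ x = 0 ↔ x ∈ 𝔮 := by
    intro x
    rw [← RingHom.mem_ker, Ideal.ker_algebraMap_residueField]
  apply card_le_of_mul_eq_smul_one (Matrix.of fun i j => χ (C i j)) (Matrix.of fun j k => χ (E j k))
    (χ c) (by rw [Ne, hχ]; exact hc)
  ext i k
  have h1 := (hχ _).2 (h i k)
  rw [map_sub, map_sum, sub_eq_zero] at h1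
  simp only [Matrix.mul_apply, Matrix.of_apply, Matrix.smul_apply, Matrix.one_apply, smul_eq_mul]
  simp only [map_mul] at h1
  rw [← h1]
  split_ifs <;> simp

end Matrix

section GenLE

variable {A : Type u} [CommRing A]

/-- near the prime `𝔭`, the ideal `I` is generated by at most `m` of its elements. -/
def GenLE (I 𝔭 : Ideal A) (m : ℕ) : Prop :=
  ∃ (ι : Type) (_ : Fintype ι) (t : ι → A), Fintype.card ι ≤ m ∧ (∀ i, t i ∈ I) ∧
    ∃ a : A, a ∉ 𝔭 ∧ ∀ x ∈ I, a * x ∈ Ideal.span (Set.range t)

theorem GenLE.mono {I 𝔭 : Ideal A} {m m' : ℕ} (h : GenLE I 𝔭 m) (hm : m ≤ m') :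
    GenLE I 𝔭 m' := by
  obtain ⟨ι, _, t, hc, ht, a, ha, hgen⟩ := h
  exact ⟨ι, _, t, hc.trans hm, ht, a, ha, hgen⟩

theorem GenLE.of_fg {I : Ideal A} (hI : I.FG) (𝔭 : Ideal A) [h𝔭 : 𝔭.IsPrime] :
    ∃ m, GenLE I 𝔭 m := by
  obtain ⟨n, s, hs⟩ := Submodule.fg_iff_exists_fin_generating_family.1 hI
  refine ⟨n, Fin n, inferInstance, s, by simp, fun i => ?_, 1, ?_, fun x hx => ?_⟩
  · rw [← hs]
    exact Submodule.subset_span ⟨i, rfl⟩
  · exact fun h => h𝔭.ne_top ((Ideal.eq_top_iff_one _).2 h)
  · rw [one_mul]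
    change x ∈ Submodule.span A (Set.range s)
    rw [hs]
    exact hx

theorem mul_mem_span_map {B : Type u} [CommRing B] (φ : A →+* B) {I : Ideal A} {ι : Type*}
    (t : ι → A) (a : A) (hgen : ∀ x ∈ I, a * x ∈ Ideal.span (Set.range t)) (y : B)
    (hy : y ∈ I.map φ) : φ a * y ∈ Ideal.span (Set.range (φ ∘ t)) := by
  rw [Ideal.map] at hy
  induction hy using Submodule.span_induction with
  | mem y hy =>
    obtain ⟨x, hx, rfl⟩ := hy
    rw [← map_mul, Set.range_comp, ← Ideal.map_span]
    exact Ideal.mem_map_of_mem _ (hgen x hx)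
  | zero => simp
  | add x y _ _ hx hy =>
    rw [mul_add]
    exact Ideal.add_mem _ hx hy
  | smul b x _ hx =>
    rw [smul_eq_mul, mul_left_comm]
    exact Ideal.mul_mem_left _ _ hx

theorem GenLE.map {B : Type u} [CommRing B] (φ : A →+* B) {I : Ideal A} {𝔮 : Ideal B} {m : ℕ}
    (h : GenLE I (𝔮.comap φ) m) : GenLE (I.map φ) 𝔮 m := by
  obtain ⟨ι, _, t, hc, ht, a, ha, hgen⟩ := h
  exact ⟨ι, _, φ ∘ t, hc, fun i => Ideal.mem_map_of_mem _ (ht i), φ a, ha,
    fun y hy => mul_mem_span_map φ t a hgen y hy⟩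

theorem GenLE.isOpen (I : Ideal A) (m : ℕ) :
    IsOpen {𝔭 : PrimeSpectrum A | GenLE I 𝔭.asIdeal m} := by
  rw [isOpen_iff_forall_mem_open]
  rintro 𝔭 ⟨ι, _, t, hc, ht, a, ha, hgen⟩
  refine ⟨PrimeSpectrum.basicOpen a, ?_, (PrimeSpectrum.basicOpen a).isOpen, ha⟩
  intro 𝔭' h𝔭'
  exact ⟨ι, _, t, hc, ht, a, h𝔭', hgen⟩

/-- **flat descent of the number of local generators.** -/
theorem GenLE.descend {B : Type u} [CommRing B] (φ : A →+* B) (hφ : φ.Flat)
    (I : Ideal A) (hI : I.FG) (𝔮 : Ideal B) [h𝔮 : 𝔮.IsPrime] (m : ℕ)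
    (h : GenLE (I.map φ) 𝔮 m) : GenLE I (𝔮.comap φ) m := by
  classical
  set 𝔭 := 𝔮.comap φ with h𝔭
  have h𝔭prime : 𝔭.IsPrime := Ideal.comap_isPrime φ 𝔮
  have hex := GenLE.of_fg hI 𝔭
  have hmin : ∀ d' < Nat.find hex, ¬ GenLE I 𝔭 d' := fun d' hd' => Nat.find_min hex hd'
  obtain ⟨ι, _, t, hc, ht, a, ha, hgen⟩ := Nat.find_spec hex
  have hcard : Fintype.card ι = Nat.find hex := by
    by_contra hne
    exact hmin _ (lt_of_le_of_ne hc hne) ⟨ι, _, t, le_rfl, ht, a, ha, hgen⟩
  -- relations among `t` have coefficients in `𝔭`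
  have hrel : ∀ r : ι → A, ∑ k, t k * r k = 0 → ∀ k, r k ∈ 𝔭 := by
    intro r hr k
    by_contra hk
    have hlt : Fintype.card {k' // k' ≠ k} < Nat.find hex := by
      rw [← hcard]
      exact Fintype.card_subtype_lt (x := k) (by simp)
    refine hmin _ hlt ⟨{k' // k' ≠ k}, inferInstance, fun k' => t k'.1, le_rfl, fun k' => ht _,
      a * r k, ?_, ?_⟩
    · exact fun hmem => (h𝔭prime.mem_or_mem hmem).elim ha hk
    · intro x hx
      set T := Ideal.span (Set.range (fun k' : {k' // k' ≠ k} => t k'.1)) with hT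
      have hj : ∀ j, j ≠ k → t j ∈ T := fun j hj => Ideal.subset_span ⟨⟨j, hj⟩, rfl⟩
      have hkk : t k * r k ∈ T := by
        rw [← Finset.add_sum_erase _ _ (Finset.mem_univ k)] at hr
        rw [eq_neg_of_add_eq_zero_left hr]
        refine (Ideal.neg_mem_iff _).2 (Ideal.sum_mem _ fun j hj' => ?_)
        exact Ideal.mul_mem_right _ _ (hj j (Finset.ne_of_mem_erase hj'))
      obtain ⟨b, hb⟩ := (Ideal.mem_span_range_iff_exists_fun).1 (hgen x hx)
      have : a * r k * x = ∑ j, b j * (r k * t j) := by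
        have : a * r k * x = r k * (a * x) := by ring
        rw [this, ← hb, Finset.mul_sum]
        refine Finset.sum_congr rfl fun j _ => by ring
      rw [this]
      refine Ideal.sum_mem _ fun j _ => ?_
      by_cases hjk : j = k
      · subst hjk
        rw [mul_comm (r j)]
        exact Ideal.mul_mem_left _ _ hkk
      · exact Ideal.mul_mem_left _ _ (Ideal.mul_mem_left _ _ (hj j hjk))
  obtain ⟨κ, _, u, hcκ, hu, g, hg, hgenB⟩ := h
  have h1 : ∀ i, ∃ c : κ → B, ∑ j, c j * u j = g * φ (t i) := fun i =>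
    (Ideal.mem_span_range_iff_exists_fun).1 (hgenB _ (Ideal.mem_map_of_mem _ (ht i)))
  choose c hc' using h1
  have h2 : ∀ j, ∃ e : ι → B, ∑ k, e k * (φ ∘ t) k = φ a * u j := fun j =>
    (Ideal.mem_span_range_iff_exists_fun).1 (mul_mem_span_map φ t a hgen (u j) (hu j))
  choose e he using h2
  have hle : Fintype.card ι ≤ Fintype.card κ := by
    apply card_le_of_forall_mem_prime 𝔮 c e (φ a * g)
      (fun hmem => (h𝔮.mem_or_mem hmem).elim ha hg)
    intro i
    set ρ : ι → B := fun k => (if i = k then φ a * g else 0) - ∑ j, c i j * e j k with hρ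
    letI := φ.toAlgebra
    haveI : Module.Flat A B := hφ
    have hsum : ∑ k, t k • ρ k = 0 := by
      simp only [Algebra.smul_def, hρ, mul_sub, Finset.sum_sub_distrib]
      change ∑ k, φ (t k) * (if i = k then φ a * g else 0) -
        ∑ k, φ (t k) * ∑ j, c i j * e j k = 0
      rw [sub_eq_zero]
      have e1 : ∑ k, φ (t k) * (if i = k then φ a * g else 0) = φ (t i) * (φ a * g) := by
        simp [Finset.sum_ite_eq]
      have e2 : ∑ k, φ (t k) * ∑ j, c i j * e j k = ∑ j, c i j * (φ a * u j) := by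
        simp_rw [← he, Finset.mul_sum, Function.comp_apply]
        rw [Finset.sum_comm]
        refine Finset.sum_congr rfl fun j _ => Finset.sum_congr rfl fun k _ => by ring
      rw [e1, e2]
      simp_rw [mul_left_comm _ (φ a), ← Finset.mul_sum, hc']
      ring
    obtain ⟨κ', a', y, hv, ha'⟩ := Module.Flat.isTrivialRelation_of_sum_smul_eq_zero
      (R := A) (M := B) (f := t) (x := ρ) hsum
    intro k
    change ρ k ∈ 𝔮
    rw [hv k]
    refine Ideal.sum_mem _ fun n _ => ?_
    rw [Algebra.smul_def]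
    exact Ideal.mul_mem_right _ _ (hrel (fun k => a' k n) (ha' n) k)
  exact ⟨ι, _, t, hle.trans hcκ, ht, a, ha, hgen⟩

end GenLE

section Minimal

variable {B : Type u} [CommRing B]

/-- a Koszul-regular sequence is a minimal system of generators near every prime containing
it. -/
theorem length_le_of_genLE (l : List B) (hl : LCI.IsKoszulRegularSeq B l)
    (𝔮 : Ideal B) [h𝔮 : 𝔮.IsPrime] (hle : Ideal.ofList l ≤ 𝔮) (m : ℕ)
    (h : GenLE (Ideal.ofList l) 𝔮 m) : l.length ≤ m := by
  classical
  have hH1 := Groth.Agent.Lib.helper7.KoszulLow.isH1Regular_of_isKoszulRegularSeq B l hl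
  obtain ⟨κ, _, u, hcκ, hu, g, hg, hgen⟩ := h
  have hspan : Ideal.ofList l = Ideal.span (Set.range l.get) := by
    rw [Ideal.ofList, Set.range_list_get]
  have h1 : ∀ i : Fin l.length, ∃ c : κ → B, ∑ j, c j * u j = g * l.get i := fun i =>
    (Ideal.mem_span_range_iff_exists_fun).1
      (hgen _ (Ideal.subset_span (List.get_mem l i)))
  choose c hc using h1
  have h2 : ∀ j, ∃ e : Fin l.length → B, ∑ k, e k * l.get k = u j := fun j => by
    have := hu j
    rw [hspan] at this
    exact (Ideal.mem_span_range_iff_exists_fun).1 this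
  choose e he using h2
  have hle' : Fintype.card (Fin l.length) ≤ Fintype.card κ := by
    apply card_le_of_forall_mem_prime 𝔮 c e g hg
    intro i
    set ρ : Fin l.length → B := fun k => (if i = k then g else 0) - ∑ j, c i j * e j k with hρ
    have hsum : ∑ k, ρ k * l.get k = 0 := by
      simp only [hρ, sub_mul, Finset.sum_sub_distrib]
      rw [sub_eq_zero]
      have e1 : ∑ k, (if i = k then g else 0) * l.get k = g * l.get i := by
        simp [Finset.sum_ite_eq]
      have e2 : ∑ k, (∑ j, c i j * e j k) * l.get k = ∑ j, c i j * u j := by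
        simp_rw [← he, Finset.mul_sum, Finset.sum_mul]
        rw [Finset.sum_comm]
        refine Finset.sum_congr rfl fun j _ => Finset.sum_congr rfl fun k _ => by ring
      rw [e1, e2, hc]
    intro k
    have h3 := Groth.Agent.Lib.helper17.LciH1.coord_mem_of_mem_B l.get ρ (hH1 ρ hsum) k
    rw [← hspan] at h3
    exact hle h3
  simpa using hle'.trans hcκ

end Minimal

section Away

variable {B : Type u} [CommRing B]

theorem exists_mul_mem_of_mem_map_away (g : B) (T : Ideal B) (x : B)
    (hx : algebraMap B (Localization.Away g) x ∈ T.map (algebraMap B (Localization.Away g))) :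
    ∃ n : ℕ, g ^ n * x ∈ T := by
  rw [IsLocalization.mem_map_algebraMap_iff (Submonoid.powers g)] at hx
  obtain ⟨⟨y, s⟩, h⟩ := hx
  rw [← map_mul, IsLocalization.eq_iff_exists (Submonoid.powers g)] at h
  obtain ⟨s', hs'⟩ := h
  obtain ⟨n, hn⟩ := s.2
  obtain ⟨n', hn'⟩ := s'.2
  refine ⟨n' + n, ?_⟩
  have h1 : g ^ (n' + n) * x = (s' : B) * (x * (s : B)) := by
    rw [pow_add, ← hn, ← hn']
    ring
  rw [h1, hs']
  exact T.mul_mem_left _ y.2

/-- local generators on a basic open give `GenLE`. -/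
theorem GenLE.of_away (J : Ideal B) (hJ : J.FG) (g : B) (l : List (Localization.Away g))
    (hl : J.map (algebraMap B (Localization.Away g)) = Ideal.span {x | x ∈ l})
    (𝔮 : Ideal B) [h𝔮 : 𝔮.IsPrime] (hg : g ∉ 𝔮) : GenLE J 𝔮 l.length := by
  classical
  have h1 : ∀ i : Fin l.length, ∃ (x : B) (n : ℕ), x ∈ J ∧
      l.get i * algebraMap B (Localization.Away g) (g ^ n) =
        algebraMap B (Localization.Away g) x := by
    intro i
    have hmem : l.get i ∈ J.map (algebraMap B (Localization.Away g)) := by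
      rw [hl]
      exact Ideal.subset_span (List.get_mem l i)
    rw [IsLocalization.mem_map_algebraMap_iff (Submonoid.powers g)] at hmem
    obtain ⟨⟨x, s⟩, h⟩ := hmem
    obtain ⟨n, hn⟩ := s.2
    have hn' : g ^ n = (s : B) := hn
    exact ⟨x.1, n, x.2, by rw [hn']; exact h⟩
  choose t n ht hn using h1
  set T := Ideal.span (Set.range t) with hT
  have hle : J.map (algebraMap B (Localization.Away g)) ≤
      T.map (algebraMap B (Localization.Away g)) := by
    rw [hl, Ideal.span_le]
    intro z hz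
    obtain ⟨i, rfl⟩ := List.mem_iff_get.1 hz
    have hu : IsUnit (algebraMap B (Localization.Away g) (g ^ n i)) :=
      IsLocalization.map_units _ (⟨g ^ n i, n i, rfl⟩ : Submonoid.powers g)
    have h3 : l.get i = algebraMap B (Localization.Away g) (t i) * ↑hu.unit⁻¹ := by
      rw [← hn i, mul_assoc]
      simp
    rw [h3]
    exact Ideal.mul_mem_right _ _ (Ideal.mem_map_of_mem _ (Ideal.subset_span ⟨i, rfl⟩))
  have h2 : ∀ x ∈ J, ∃ k : ℕ, g ^ k * x ∈ T := fun x hx =>
    exists_mul_mem_of_mem_map_away g T x (hle (Ideal.mem_map_of_mem _ hx))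
  obtain ⟨F, hF⟩ := hJ
  choose! k hk using h2
  refine ⟨Fin l.length, inferInstance, t, by simp, ht, g ^ (∑ x ∈ F, k x),
    fun h => hg (h𝔮.mem_of_pow_mem _ h), ?_⟩
  intro y hy
  rw [← hF] at hy
  induction hy using Submodule.span_induction with
  | mem x hx =>
    have hxJ : x ∈ J := hF ▸ Ideal.subset_span hx
    rw [← Finset.add_sum_erase _ _ hx, pow_add, mul_right_comm]
    exact T.mul_mem_right _ (hk x hxJ)
  | zero => simp
  | add x y _ _ hx hy =>
    rw [mul_add]
    exact T.add_mem hx hy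
  | smul b x _ hx =>
    rw [smul_eq_mul, mul_left_comm]
    exact T.mul_mem_left _ hx

/-- for a Koszul-regular ideal `J`, the set of primes `𝔮 ⊇ J` near which `J` has at most `m`
generators is closed. -/
theorem isClosed_setOf_genLE (J : Ideal B) (hJ : LCI.IsKoszulRegularIdeal J) (m : ℕ) :
    IsClosed {𝔮 : PrimeSpectrum B | J ≤ 𝔮.asIdeal ∧ GenLE J 𝔮.asIdeal m} := by
  have hfg : J.FG := Groth.Agent.LibSyntOfLCI29.fg_of_isKoszulRegularIdeal J hJ
  rw [← isOpen_compl_iff, isOpen_iff_forall_mem_open]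
  intro 𝔮 h𝔮
  by_cases hle : J ≤ 𝔮.asIdeal
  · obtain ⟨g, hg, l, hl, hspan⟩ := hJ 𝔮 hle
    have hnot : ¬ GenLE J 𝔮.asIdeal m := fun h => h𝔮 ⟨hle, h⟩
    have hlen : m < l.length := by
      by_contra hcon
      push Not at hcon
      exact hnot ((GenLE.of_away J hfg g l hspan 𝔮.asIdeal hg).mono hcon)
    refine ⟨PrimeSpectrum.basicOpen g, ?_, (PrimeSpectrum.basicOpen g).isOpen, hg⟩
    rintro 𝔮'' (hg'' : g ∉ 𝔮''.asIdeal) ⟨hle'', hgen''⟩
    have hdisj : Disjoint (Submonoid.powers g : Set B) 𝔮''.asIdeal :=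
      (Ideal.disjoint_powers_iff_notMem_of_isPrime g).2 hg''
    have h𝔔prime : (𝔮''.asIdeal.map (algebraMap B (Localization.Away g))).IsPrime :=
      IsLocalization.isPrime_of_isPrime_disjoint (Submonoid.powers g) _ _ 𝔮''.isPrime hdisj
    have hcomap : (𝔮''.asIdeal.map (algebraMap B (Localization.Away g))).comap
        (algebraMap B (Localization.Away g)) = 𝔮''.asIdeal :=
      IsLocalization.under_map_of_isPrime_disjoint (Submonoid.powers g) _ 𝔮''.isPrime hdisj
    have hofList : Ideal.ofList l = J.map (algebraMap B (Localization.Away g)) := hspan.symm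
    have h3 : GenLE (Ideal.ofList l) (𝔮''.asIdeal.map (algebraMap B (Localization.Away g))) m := by
      rw [hofList]
      apply GenLE.map
      rw [hcomap]
      exact hgen''
    have h4 : Ideal.ofList l ≤ 𝔮''.asIdeal.map (algebraMap B (Localization.Away g)) := by
      rw [hofList]
      exact Ideal.map_mono hle''
    have := length_le_of_genLE l hl _ h4 m h3
    omega
  · refine ⟨(PrimeSpectrum.zeroLocus J)ᶜ, ?_, (PrimeSpectrum.isClosed_zeroLocus _).isOpen_compl,
      ?_⟩
    · rintro 𝔮'' h'' ⟨hle'', -⟩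
      exact h'' hle''
    · exact hle

end Away

section Descent

variable {A B : Type u} [CommRing A] [CommRing B]

open Groth.Agent.LibKoszulDescent29

/-- the set of primes `𝔭 ⊇ I` near which `I` has at most `m` generators is closed, if `I B` is
Koszul-regular for a faithfully flat `A → B`. -/
theorem isClosed_setOf_genLE_of_faithfullyFlat (φ : A →+* B) (hφ : φ.FaithfullyFlat)
    (I : Ideal A) (hI : I.FG) (hJ : LCI.IsKoszulRegularIdeal (I.map φ)) (m : ℕ) :
    IsClosed {𝔭 : PrimeSpectrum A | I ≤ 𝔭.asIdeal ∧ GenLE I 𝔭.asIdeal m} := by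
  have hq : Topology.IsQuotientMap (PrimeSpectrum.comap φ) :=
    PrimeSpectrum.isQuotientMap_of_generalizingMap
      (RingHom.FaithfullyFlat.iff_flat_and_comap_surjective.1 hφ).2 hφ.flat.generalizingMap_comap
  rw [← hq.isClosed_preimage]
  convert isClosed_setOf_genLE (I.map φ) hJ m using 1
  ext 𝔮
  simp only [Set.mem_preimage, Set.mem_ofPred_eq]
  constructor
  · rintro ⟨h1, h2⟩
    exact ⟨Ideal.map_le_iff_le_comap.2 h1, GenLE.map φ h2⟩
  · rintro ⟨h1, h2⟩
    exact ⟨Ideal.map_le_iff_le_comap.1 h1, GenLE.descend φ hφ.flat I hI 𝔮.asIdeal m h2⟩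

/-- Koszul-regularity of a sequence descends along faithfully flat maps. -/
theorem isKoszulRegularSeq_of_faithfullyFlat (φ : A →+* B) (hφ : φ.FaithfullyFlat)
    (t : List A) (h : LCI.IsKoszulRegularSeq B (t.map φ)) : LCI.IsKoszulRegularSeq A t := by
  intro i hi
  have hzero : ∀ m : (Koszul.koszul A t).homology i, m = 0 := by
    intro m
    have h1 := one_tmul_eq_zero_of_isKoszulRegularSeq_map φ hφ.flat t i hi h m
    letI := φ.toAlgebra
    haveI : Module.FaithfullyFlat A B := hφ
    apply Module.FaithfullyFlat.tensorProduct_mk_injective (A := A) (B := B)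
    simpa using h1
  haveI : Subsingleton ((Koszul.koszul A t).homology i) :=
    ⟨fun x y => (hzero x).trans (hzero y).symm⟩
  exact ModuleCat.isZero_of_subsingleton _

open TensorProduct in
theorem exists_pow_smul_eq_zero_of_one_tmul_eq_zero {C : Type u} [CommRing C] (ψ : B →+* C)
    (g : B) (hloc : @IsLocalization.Away B _ g C _ ψ.toAlgebra) {M : Type*} [AddCommGroup M]
    [Module B M] (m : M)
    (h : letI := ψ.toAlgebra
      (1 : C) ⊗ₜ[B] m = 0) : ∃ n : ℕ, g ^ n • m = 0 := by
  letI := ψ.toAlgebra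
  haveI := hloc
  haveI : IsLocalizedModule (Submonoid.powers g) (TensorProduct.mk B C M 1) :=
    (isLocalizedModule_iff_isBaseChange (Submonoid.powers g) C _).2
      (TensorProduct.isBaseChange B M C)
  have h2 : (TensorProduct.mk B C M 1) m = 0 := h
  rw [IsLocalizedModule.eq_zero_iff (Submonoid.powers g)] at h2
  obtain ⟨⟨s, n, rfl⟩, hs⟩ := h2
  exact ⟨n, hs⟩

theorem isLocalization_away_toAlgebra (g : B) :
    @IsLocalization.Away B _ g (Localization.Away g) _
      (algebraMap B (Localization.Away g)).toAlgebra := by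
  have e : (algebraMap B (Localization.Away g)).toAlgebra = OreLocalization.instAlgebra :=
    Algebra.algebra_ext _ _ fun _ => rfl
  rw [e]
  infer_instance

/-- Koszul-regularity of a sequence is local for the Zariski topology. -/
theorem isKoszulRegularSeq_of_forall_away (t : List B)
    (h : ∀ 𝔮 : PrimeSpectrum B, ∃ g : B, g ∉ 𝔮.asIdeal ∧
      LCI.IsKoszulRegularSeq (Localization.Away g)
        (t.map (algebraMap B (Localization.Away g)))) :
    LCI.IsKoszulRegularSeq B t := by
  intro i hi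
  have hzero : ∀ m : (Koszul.koszul B t).homology i, m = 0 := by
    intro m
    by_contra hm
    set N : Ideal B := LinearMap.ker (LinearMap.toSpanSingleton B _ m) with hN
    have hNtop : N ≠ ⊤ := by
      intro htop
      have : (1 : B) ∈ N := htop ▸ Submodule.mem_top
      rw [hN, LinearMap.mem_ker, LinearMap.toSpanSingleton_apply, one_smul] at this
      exact hm this
    obtain ⟨𝔪, h𝔪, hle⟩ := Ideal.exists_le_maximal N hNtop
    obtain ⟨g, hg, hreg⟩ := h ⟨𝔪, h𝔪.isPrime⟩
    have hflat : (algebraMap B (Localization.Away g)).Flat :=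
      RingHom.flat_algebraMap_iff.2 inferInstance
    have h1 := one_tmul_eq_zero_of_isKoszulRegularSeq_map (algebraMap B (Localization.Away g))
      hflat t i hi hreg m
    obtain ⟨n, hn⟩ := exists_pow_smul_eq_zero_of_one_tmul_eq_zero
      (algebraMap B (Localization.Away g)) g (isLocalization_away_toAlgebra g) m h1
    have h3 : g ^ n ∈ N := by
      rw [hN, LinearMap.mem_ker, LinearMap.toSpanSingleton_apply]
      exact hn
    exact hg (h𝔪.isPrime.mem_of_pow_mem _ (hle h3))
  haveI : Subsingleton ((Koszul.koszul B t).homology i) :=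
    ⟨fun x y => (hzero x).trans (hzero y).symm⟩
  exact ModuleCat.isZero_of_subsingleton _

theorem GenLE.of_ofList (l : List B) (𝔮 : Ideal B) [h𝔮 : 𝔮.IsPrime] :
    GenLE (Ideal.ofList l) 𝔮 l.length := by
  refine ⟨Fin l.length, inferInstance, l.get, by simp, fun i => Ideal.subset_span (List.get_mem l i),
    1, fun h => h𝔮.ne_top ((Ideal.eq_top_iff_one _).2 h), fun x hx => ?_⟩
  rw [one_mul, Set.range_list_get]
  exact hx

theorem isKoszulRegularSeq_of_isUnit_mem (l : List B) (x : B) (hx : x ∈ l) (hu : IsUnit x) :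
    LCI.IsKoszulRegularSeq B l := by
  intro i _
  have hzero : ∀ m : (Koszul.koszul B l).homology i, m = 0 := by
    intro m
    have h1 := Groth.Agent.LibKoszulIndep29.smul_homology_eq_zero l x (Ideal.subset_span hx) i m
    obtain ⟨u, rfl⟩ := hu
    have h2 : (↑u⁻¹ : B) • ((u : B) • m) = m := by
      rw [smul_smul]
      simp
    rw [← h2, h1, smul_zero]
  haveI : Subsingleton ((Koszul.koszul B l).homology i) :=
    ⟨fun x y => (hzero x).trans (hzero y).symm⟩
  exact ModuleCat.isZero_of_subsingleton _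

/-- flat base change of Koszul-regular ideals. -/
theorem isKoszulRegularIdeal_map_of_flat {B' : Type u} [CommRing B'] (ψ : B →+* B') (hψ : ψ.Flat)
    (J : Ideal B) (hJ : LCI.IsKoszulRegularIdeal J) : LCI.IsKoszulRegularIdeal (J.map ψ) := by
  intro 𝔮' h𝔮'
  have h𝔮 : J ≤ (PrimeSpectrum.comap ψ 𝔮').asIdeal := Ideal.map_le_iff_le_comap.1 h𝔮'
  obtain ⟨g, hg, l, hl, hspan⟩ := hJ (PrimeSpectrum.comap ψ 𝔮') h𝔮
  refine ⟨ψ g, hg, ?_⟩
  have hψg : (IsLocalization.Away.map (Localization.Away g) (Localization.Away (ψ g)) ψ g).Flat :=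
    RingHom.Flat.propertyIsLocal.localizationAwayPreserves ψ g _ _ hψ
  have hcomm : (IsLocalization.Away.map (Localization.Away g) (Localization.Away (ψ g)) ψ g).comp
      (algebraMap B (Localization.Away g)) = (algebraMap B' (Localization.Away (ψ g))).comp ψ :=
    IsLocalization.map_comp _
  refine ⟨l.map (IsLocalization.Away.map (Localization.Away g) (Localization.Away (ψ g)) ψ g),
    isKoszulRegularSeq_map_of_flat _ hψg l hl, ?_⟩
  rw [Ideal.map_map, ← hcomm, ← Ideal.map_map, hspan]
  change Ideal.map _ (Ideal.ofList l) = Ideal.ofList _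
  rw [Ideal.map_ofList]

/-- descent with global generators, all of whose upstairs generator counts agree. -/
theorem isKoszulRegularSeq_of_faithfullyFlat_of_min (φ : A →+* B) (hφ : φ.FaithfullyFlat)
    (t : List A) (hJ : LCI.IsKoszulRegularIdeal ((Ideal.ofList t).map φ))
    (hmin : ∀ 𝔮 : PrimeSpectrum B, (Ideal.ofList t).map φ ≤ 𝔮.asIdeal → ∀ m < t.length,
      ¬ GenLE ((Ideal.ofList t).map φ) 𝔮.asIdeal m) :
    LCI.IsKoszulRegularSeq A t := by
  apply isKoszulRegularSeq_of_faithfullyFlat φ hφ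
  apply isKoszulRegularSeq_of_forall_away
  intro 𝔮
  have hJt : (Ideal.ofList t).map φ = Ideal.ofList (t.map φ) := Ideal.map_ofList _ _
  by_cases hle : (Ideal.ofList t).map φ ≤ 𝔮.asIdeal
  · obtain ⟨g, hg, l, hl, hspan⟩ := hJ 𝔮 hle
    refine ⟨g, hg, ?_⟩
    have hfg : ((Ideal.ofList t).map φ).FG :=
      Groth.Agent.LibSyntOfLCI29.fg_of_isKoszulRegularIdeal _ hJ
    have hge : t.length ≤ l.length := by
      by_contra hcon
      push Not at hcon
      exact hmin 𝔮 hle _ hcon (GenLE.of_away _ hfg g l hspan 𝔮.asIdeal hg)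
    have hdisj : Disjoint (Submonoid.powers g : Set B) 𝔮.asIdeal :=
      (Ideal.disjoint_powers_iff_notMem_of_isPrime g).2 hg
    have h𝔔prime : (𝔮.asIdeal.map (algebraMap B (Localization.Away g))).IsPrime :=
      IsLocalization.isPrime_of_isPrime_disjoint (Submonoid.powers g) _ _ 𝔮.isPrime hdisj
    have hofList : Ideal.ofList ((t.map φ).map (algebraMap B (Localization.Away g))) =
        Ideal.ofList l := by
      rw [← Ideal.map_ofList, ← hJt, hspan]
    have hle' : l.length ≤ t.length := by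
      have h3 := GenLE.of_ofList ((t.map φ).map (algebraMap B (Localization.Away g)))
        (𝔮.asIdeal.map (algebraMap B (Localization.Away g)))
      rw [hofList] at h3
      have h4 : Ideal.ofList l ≤ 𝔮.asIdeal.map (algebraMap B (Localization.Away g)) := by
        change Ideal.span {x | x ∈ l} ≤ _
        rw [← hspan]
        exact Ideal.map_mono hle
      have := length_le_of_genLE l hl _ h4 _ h3
      simpa using this
    exact Groth.Agent.LibKoszulIndep29.isKoszulRegularSeq_of_ofList_eq l _ hl hofList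
      (by simp; omega)
  · have hex : ∃ x ∈ t.map φ, x ∉ 𝔮.asIdeal := by
      by_contra hcon
      push Not at hcon
      apply hle
      rw [hJt]
      exact Ideal.span_le.2 hcon
    obtain ⟨x, hx, hx𝔮⟩ := hex
    exact ⟨x, hx𝔮, isKoszulRegularSeq_of_isUnit_mem _ (algebraMap B (Localization.Away x) x)
      (List.mem_map_of_mem hx) (IsLocalization.Away.algebraMap_isUnit x)⟩

theorem awayMap_comp (φ : A →+* B) (a : A) :
    (IsLocalization.Away.map (Localization.Away a) (Localization.Away (φ a)) φ a).comp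
      (algebraMap A (Localization.Away a)) = (algebraMap B (Localization.Away (φ a))).comp φ :=
  IsLocalization.map_comp _

theorem faithfullyFlat_awayMap (φ : A →+* B) (hφ : φ.FaithfullyFlat) (a : A) :
    (IsLocalization.Away.map (Localization.Away a) (Localization.Away (φ a)) φ a).FaithfullyFlat := by
  rw [RingHom.FaithfullyFlat.iff_flat_and_comap_surjective]
  refine ⟨RingHom.Flat.propertyIsLocal.localizationAwayPreserves φ a _ _ hφ.flat, ?_⟩
  intro 𝔭''
  have hsurj := (RingHom.FaithfullyFlat.iff_flat_and_comap_surjective.1 hφ).2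
  obtain ⟨𝔮, h𝔮⟩ := hsurj (PrimeSpectrum.comap (algebraMap A (Localization.Away a)) 𝔭'')
  have ha𝔮 : φ a ∉ 𝔮.asIdeal := by
    intro hmem
    have h1 : a ∈ (PrimeSpectrum.comap φ 𝔮).asIdeal := hmem
    rw [h𝔮] at h1
    exact 𝔭''.isPrime.ne_top (Ideal.eq_top_of_isUnit_mem _ h1
      (IsLocalization.Away.algebraMap_isUnit a))
  have hdisj : Disjoint (Submonoid.powers (φ a) : Set B) 𝔮.asIdeal :=
    (Ideal.disjoint_powers_iff_notMem_of_isPrime _).2 ha𝔮
  have hprime := IsLocalization.isPrime_of_isPrime_disjoint (Submonoid.powers (φ a))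
    (Localization.Away (φ a)) _ 𝔮.isPrime hdisj
  have hcomap : (𝔮.asIdeal.map (algebraMap B (Localization.Away (φ a)))).comap
      (algebraMap B (Localization.Away (φ a))) = 𝔮.asIdeal :=
    IsLocalization.under_map_of_isPrime_disjoint (Submonoid.powers (φ a))
      (Localization.Away (φ a)) 𝔮.isPrime hdisj
  refine ⟨⟨𝔮.asIdeal.map (algebraMap B (Localization.Away (φ a))), hprime⟩, ?_⟩
  apply PrimeSpectrum.ext
  change Ideal.comap (IsLocalization.Away.map (Localization.Away a) (Localization.Away (φ a)) φ a)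
    (𝔮.asIdeal.map (algebraMap B (Localization.Away (φ a)))) = 𝔭''.asIdeal
  rw [← IsLocalization.map_under (Submonoid.powers a) (Localization.Away a)
    (Ideal.comap (IsLocalization.Away.map (Localization.Away a) (Localization.Away (φ a)) φ a) _),
    ← IsLocalization.map_under (Submonoid.powers a) (Localization.Away a) 𝔭''.asIdeal]
  congr 1
  simp only [Ideal.under_def]
  rw [Ideal.comap_comap, awayMap_comp, ← Ideal.comap_comap, hcomap]
  exact congrArg PrimeSpectrum.asIdeal h𝔮

/-- **Faithfully flat descent of Koszul-regular ideals** (ring hom form). -/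
theorem isKoszulRegularIdeal_of_faithfullyFlat_ringHom (φ : A →+* B) (hφ : φ.FaithfullyFlat)
    (I : Ideal A) (hJ : LCI.IsKoszulRegularIdeal (I.map φ)) : LCI.IsKoszulRegularIdeal I := by
  classical
  have hIfg : I.FG := by
    letI := φ.toAlgebra
    haveI : Module.FaithfullyFlat A B := hφ
    exact Ideal.FG.of_FG_map_of_faithfullyFlat
      (Groth.Agent.LibSyntOfLCI29.fg_of_isKoszulRegularIdeal _ hJ)
  intro 𝔭 h𝔭
  have hex := GenLE.of_fg hIfg 𝔭.asIdeal
  obtain ⟨ι, _, t, hc, ht, a₁, ha₁, hgen⟩ := Nat.find_spec hex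
  have hcard : Fintype.card ι = Nat.find hex := by
    by_contra hne
    exact Nat.find_min hex (lt_of_le_of_ne hc hne) ⟨ι, _, t, le_rfl, ht, a₁, ha₁, hgen⟩
  obtain ⟨a₂, ha₂, hZ⟩ : ∃ a₂ : A, a₂ ∉ 𝔭.asIdeal ∧ ∀ 𝔭' : PrimeSpectrum A,
      a₂ ∉ 𝔭'.asIdeal → I ≤ 𝔭'.asIdeal → ∀ m < Nat.find hex, ¬ GenLE I 𝔭'.asIdeal m := by
    rcases Nat.eq_zero_or_pos (Nat.find hex) with h0 | hpos
    · exact ⟨1, fun h => 𝔭.isPrime.ne_top ((Ideal.eq_top_iff_one _).2 h),
        fun _ _ _ m hm => by omega⟩
    · have hcl := isClosed_setOf_genLE_of_faithfullyFlat φ hφ I hIfg hJ (Nat.find hex - 1)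
      have h𝔭Z : 𝔭 ∈ {𝔭 : PrimeSpectrum A | I ≤ 𝔭.asIdeal ∧
          GenLE I 𝔭.asIdeal (Nat.find hex - 1)}ᶜ :=
        fun h => Nat.find_min hex (by omega) h.2
      obtain ⟨_, ⟨_, ⟨a₂, rfl⟩, rfl⟩, h1, h2⟩ :=
        PrimeSpectrum.isBasis_basic_opens.exists_subset_of_mem_open h𝔭Z hcl.isOpen_compl
      exact ⟨a₂, h1, fun 𝔭' h' hI' m hm hG => h2 h' ⟨hI', hG.mono (by omega)⟩⟩
  have ha : a₁ * a₂ ∉ 𝔭.asIdeal := fun h => (𝔭.isPrime.mem_or_mem h).elim ha₁ ha₂
  refine ⟨a₁ * a₂, ha, ?_⟩
  set a := a₁ * a₂ with hadef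
  set e : ι ≃ Fin (Nat.find hex) := Fintype.equivFinOfCardEq hcard with he
  set tl : List A := List.ofFn (t ∘ e.symm) with htl
  have htl_len : tl.length = Nat.find hex := List.length_ofFn
  have hoftl : Ideal.ofList tl = Ideal.span (Set.range t) := by
    rw [Ideal.ofList]
    congr 1
    ext x
    simp only [Set.mem_ofPred_eq, htl, List.mem_ofFn, Set.mem_range, Function.comp_apply]
    constructor
    · rintro ⟨k, rfl⟩
      exact ⟨_, rfl⟩
    · rintro ⟨i, rfl⟩
      exact ⟨e i, by simp⟩
  have hunit₁ : IsUnit (algebraMap A (Localization.Away a) a₁) := by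
    have h1 : IsUnit (algebraMap A (Localization.Away a) a) :=
      IsLocalization.Away.algebraMap_isUnit a
    rw [hadef, map_mul] at h1
    exact isUnit_of_mul_isUnit_left h1
  have hspan' : I.map (algebraMap A (Localization.Away a)) =
      Ideal.ofList (tl.map (algebraMap A (Localization.Away a))) := by
    rw [← Ideal.map_ofList, hoftl]
    apply le_antisymm
    · rw [Ideal.map_le_iff_le_comap]
      intro x hx
      rw [Ideal.mem_comap]
      have h1 := Ideal.mem_map_of_mem (algebraMap A (Localization.Away a)) (hgen x hx)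
      rw [map_mul] at h1
      obtain ⟨u, hu⟩ := hunit₁
      rw [← hu] at h1
      have h2 := Ideal.mul_mem_left _ (↑u⁻¹ : Localization.Away a) h1
      rwa [← mul_assoc, Units.inv_mul, one_mul] at h2
    · apply Ideal.map_mono
      rw [Ideal.span_le]
      rintro _ ⟨i, rfl⟩
      exact ht i
  refine ⟨tl.map (algebraMap A (Localization.Away a)), ?_, hspan'⟩
  have hφ'ff := faithfullyFlat_awayMap φ hφ a
  have hcomm := awayMap_comp φ a
  have hflatB : (algebraMap B (Localization.Away (φ a))).Flat :=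
    RingHom.flat_algebraMap_iff.2 inferInstance
  have hmapeq : (Ideal.ofList (tl.map (algebraMap A (Localization.Away a)))).map
      (IsLocalization.Away.map (Localization.Away a) (Localization.Away (φ a)) φ a) =
      I.map ((algebraMap B (Localization.Away (φ a))).comp φ) := by
    rw [← hspan', Ideal.map_map, hcomm]
  apply isKoszulRegularSeq_of_faithfullyFlat_of_min _ hφ'ff
  · rw [hmapeq, ← Ideal.map_map]
    exact isKoszulRegularIdeal_map_of_flat _ hflatB _ hJ
  · intro 𝔮' hle m hm hG
    rw [hmapeq] at hle hG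
    have hψflat : ((algebraMap B (Localization.Away (φ a))).comp φ).Flat :=
      hφ.flat.comp hflatB
    have hG' := GenLE.descend _ hψflat I hIfg 𝔮'.asIdeal m hG
    have hm' : m < Nat.find hex := by
      rw [List.length_map, htl_len] at hm
      exact hm
    refine hZ ⟨𝔮'.asIdeal.comap ((algebraMap B (Localization.Away (φ a))).comp φ), inferInstance⟩
      ?_ (Ideal.map_le_iff_le_comap.1 hle) m hm' hG'
    intro hmem
    change ((algebraMap B (Localization.Away (φ a))).comp φ) a₂ ∈ 𝔮'.asIdeal at hmem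
    have h1 : ((algebraMap B (Localization.Away (φ a))).comp φ) a ∈ 𝔮'.asIdeal := by
      have h2 : ((algebraMap B (Localization.Away (φ a))).comp φ) a =
          ((algebraMap B (Localization.Away (φ a))).comp φ) a₁ *
            ((algebraMap B (Localization.Away (φ a))).comp φ) a₂ := by
        rw [← map_mul]
      rw [h2]
      exact Ideal.mul_mem_left _ _ hmem
    exact 𝔮'.isPrime.ne_top (Ideal.eq_top_of_isUnit_mem _ h1
      (IsLocalization.Away.algebraMap_isUnit (φ a)))

/-- **Faithfully flat descent of Koszul-regular ideals.** -/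
theorem isKoszulRegularIdeal_of_faithfullyFlat [Algebra A B] [Module.FaithfullyFlat A B]
    (I : Ideal A) (h : LCI.IsKoszulRegularIdeal (I.map (algebraMap A B))) :
    LCI.IsKoszulRegularIdeal I :=
  isKoszulRegularIdeal_of_faithfullyFlat_ringHom (algebraMap A B)
    (RingHom.faithfullyFlat_algebraMap_iff.2 inferInstance) I h

end Descent

end Groth.Agent.LibKoszulFFDescent29
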