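import Mathlib
import Groth.Prelude.Def_LCI2
import Groth.Agent.LibKoszulFFDescent29

/-!
# Faithfully flat descent of Koszul-regular ideals along finite jointly surjective flat families
(helper29)
-/

set_option autoImplicit false
universe u

namespace Groth.Agent.LibKoszulFFDescentPi29

open Groth.Agent.LibKoszulFlat29 Groth.Agent.LibKoszulFFDescent29

section Transfer

variable {R : Type u} [CommRing R]

/-- transfer of a local Koszul-regular generating sequence from an abstract localization away
from `g` to `Localization.Away g`. -/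
theorem exists_list_away_of_isLocalization (J : Ideal R) (g : R) (R' : Type u) [CommRing R']
    (ρ : R →+* R') (hloc : @IsLocalization.Away R _ g R' _ ρ.toAlgebra)
    (l' : List R') (hl' : LCI.IsKoszulRegularSeq R' l') (hJ : J.map ρ = Ideal.ofList l') :
    ∃ l : List (Localization.Away g), LCI.IsKoszulRegularSeq (Localization.Away g) l ∧
      J.map (algebraMap R (Localization.Away g)) = Ideal.span {x | x ∈ l} := by
  letI := ρ.toAlgebra
  haveI := hloc
  let e : R' ≃ₐ[R] Localization.Away g :=
    IsLocalization.algEquiv (Submonoid.powers g) R' (Localization.Away g)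
  have he : (e : R' →+* Localization.Away g).comp ρ = algebraMap R (Localization.Away g) := by
    ext x
    exact e.commutes x
  refine ⟨l'.map (e : R' →+* Localization.Away g), ?_, ?_⟩
  · exact isKoszulRegularSeq_map_of_flat _ (RingHom.Flat.of_bijective e.bijective) l' hl'
  · rw [← he, ← Ideal.map_map, hJ]
    change _ = Ideal.ofList _
    rw [← Ideal.map_ofList]

end Transfer

section Pi

variable {n : ℕ} (Bk : Fin n → Type u) [∀ k, CommRing (Bk k)]

/-- an ideal of a finite product ring is Koszul-regular if all its components are. -/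
theorem isKoszulRegularIdeal_pi (J : Ideal (∀ k, Bk k))
    (h : ∀ k, LCI.IsKoszulRegularIdeal (J.map (Pi.evalRingHom Bk k))) :
    LCI.IsKoszulRegularIdeal J := by
  classical
  intro 𝔮 h𝔮
  obtain ⟨k, 𝔮k, rfl⟩ := PrimeSpectrum.exists_comap_evalRingHom_eq 𝔮
  have hle : J.map (Pi.evalRingHom Bk k) ≤ 𝔮k.asIdeal := Ideal.map_le_iff_le_comap.2 h𝔮
  obtain ⟨gk, hgk, l, hl, hspan⟩ := h k 𝔮k hle
  refine ⟨Pi.single k gk, ?_, ?_⟩
  · change Pi.evalRingHom Bk k (Pi.single k gk) ∉ 𝔮k.asIdeal
    rw [Pi.evalRingHom_apply, Pi.single_eq_same]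
    exact hgk
  · set ρ : (∀ k, Bk k) →+* Localization.Away gk :=
      (algebraMap (Bk k) (Localization.Away gk)).comp (Pi.evalRingHom Bk k) with hρ
    have hloc : @IsLocalization.Away (∀ k, Bk k) _ (Pi.single k gk) (Localization.Away gk) _
        ρ.toAlgebra := by
      letI a1 : Algebra (∀ k, Bk k) (Bk k) := (Pi.evalRingHom Bk k).toAlgebra
      have e : ρ.toAlgebra = (OreLocalization.instAlgebra :
          Algebra (∀ k, Bk k) (Localization.Away gk)) :=
        Algebra.algebra_ext _ _ fun x =>
          (IsScalarTower.algebraMap_apply (∀ k, Bk k) (Bk k) (Localization.Away gk) x).symm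
      rw [e]
      haveI h1 : IsLocalization.Away (Pi.single k 1 : ∀ k, Bk k) (Bk k) := by
        refine IsLocalization.away_of_isIdempotentElem_of_mul ?_ ?_ ?_
        · change (Pi.single k 1 : ∀ k, Bk k) * Pi.single k 1 = Pi.single k 1
          rw [← Pi.single_mul, one_mul]
        · intro x y
          change x k = y k ↔ _
          constructor
          · intro hxy
            ext j
            by_cases hj : j = k
            · subst hj
              simp [hxy]
            · simp [Pi.single_eq_of_ne hj]
          · intro hxy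
            have := congrFun hxy k
            simpa using this
        · intro b
          exact ⟨Pi.single k b, by change (Pi.single k b : ∀ k, Bk k) k = b; simp⟩
      haveI h2 : IsLocalization.Away (algebraMap (∀ k, Bk k) (Bk k) (Pi.single k gk))
          (Localization.Away gk) := by
        have : algebraMap (∀ k, Bk k) (Bk k) (Pi.single k gk) = gk := by
          change (Pi.single k gk : ∀ k, Bk k) k = gk
          simp
        rw [this]
        infer_instance
      have h3 := IsLocalization.Away.mul' (Bk k) (Localization.Away gk)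
        (Pi.single k 1 : ∀ k, Bk k) (Pi.single k gk)
      rwa [← Pi.single_mul, one_mul] at h3
    refine exists_list_away_of_isLocalization J (Pi.single k gk) (Localization.Away gk) ρ hloc l hl
      ?_
    rw [hρ, ← Ideal.map_map, hspan]

end Pi

section Family

variable {A : Type u} [CommRing A] {n : ℕ} (Bk : Fin n → Type u) [∀ k, CommRing (Bk k)]

theorem flat_pi_ringHom (ρ : ∀ k, A →+* Bk k) (hflat : ∀ k, (ρ k).Flat) :
    (RingHom.pi ρ).Flat := by
  classical
  letI (k : Fin n) : Algebra A (Bk k) := (ρ k).toAlgebra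
  haveI (k : Fin n) : Module.Flat A (Bk k) := hflat k
  have h : Module.Flat A (∀ k, Bk k) :=
    Module.Flat.of_linearEquiv (DFinsupp.linearEquivFunOnFintype (R := A) (M := Bk)).symm
  have h2 : (algebraMap A (∀ k, Bk k)).Flat := RingHom.flat_algebraMap_iff.2 h
  exact h2

theorem faithfullyFlat_pi_ringHom (ρ : ∀ k, A →+* Bk k) (hflat : ∀ k, (ρ k).Flat)
    (hsurj : ∀ 𝔭 : PrimeSpectrum A, ∃ k, 𝔭 ∈ Set.range (PrimeSpectrum.comap (ρ k))) :
    (RingHom.pi ρ).FaithfullyFlat := by
  rw [RingHom.FaithfullyFlat.iff_flat_and_comap_surjective]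
  refine ⟨flat_pi_ringHom Bk ρ hflat, fun 𝔭 => ?_⟩
  obtain ⟨k, 𝔮k, rfl⟩ := hsurj 𝔭
  exact ⟨PrimeSpectrum.comap (Pi.evalRingHom Bk k) 𝔮k, rfl⟩

/-- **Descent of Koszul-regular ideals along a finite jointly surjective family of flat ring
maps.** -/
theorem isKoszulRegularIdeal_of_faithfullyFlat_family (ρ : ∀ k, A →+* Bk k)
    (hflat : ∀ k, (ρ k).Flat)
    (hsurj : ∀ 𝔭 : PrimeSpectrum A, ∃ k, 𝔭 ∈ Set.range (PrimeSpectrum.comap (ρ k)))
    (I : Ideal A) (h : ∀ k, LCI.IsKoszulRegularIdeal (I.map (ρ k))) :
    LCI.IsKoszulRegularIdeal I := by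
  apply isKoszulRegularIdeal_of_faithfullyFlat_ringHom (RingHom.pi ρ)
    (faithfullyFlat_pi_ringHom Bk ρ hflat hsurj) I
  apply isKoszulRegularIdeal_pi
  intro k
  rw [Ideal.map_map]
  exact h k

end Family

end Groth.Agent.LibKoszulFFDescentPi29
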