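import Groth.Statements.S9729
import Groth.Agent.LibSecRegApp29
-- import your own Groth.Agent.* helpers here

set_option autoImplicit false
universe u
open FlatMor

namespace Groth.Agent.S9729

open AlgebraicGeometry CategoryTheory Limits in
/-- Let f : X ⟶ Y and g : Y ⟶ S be morphisms with g smooth. If f ≫ g is a local complete intersection
morphism (Koszul at every point of X) then f is a local complete intersection morphism. -/
theorem result {X Y S : Scheme.{u}} (f : X ⟶ Y) (g : Y ⟶ S) [Smooth g]
    (h : ∀ x : X, Synt.IsKoszulAt (f ≫ g) x) (x : X) : Synt.IsKoszulAt f x := by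
  open AlgebraicGeometry CategoryTheory Limits in
  obtain ⟨U, P, i, π, hxU, hlft, hi, hπ, hfac⟩ := h x
  have w : i ≫ π = (U.ι ≫ f) ≫ g := by rw [hfac, Category.assoc]
  haveI : LocallyOfFiniteType ((U.ι ≫ f) ≫ g) := by
    rw [Category.assoc]
    exact hlft
  refine ⟨U, pullback π g, pullback.lift i (U.ι ≫ f) w, pullback.snd π g, hxU,
    locallyOfFiniteType_of_comp (U.ι ≫ f) g,
    Groth.Agent.LibSecRegApp29.isRegularImmersion_koszul_lift i π g (U.ι ≫ f) w hi,
    inferInstance, pullback.lift_snd _ _ _⟩

end Groth.Agent.S9729
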