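import Mathlib
import Groth.Prelude.Def_LCI2
import Groth.Prelude.Def_RegImm
import Groth.Agent.LibRegImmSmoothDesc29
import Groth.Agent.LibKoszulAtComp29
import Groth.Agent.S8656
import Groth.Agent.S9729

/-!
# Bridge between the ring-level notions `LCI.IsKoszulRegularIdeal`, `LCI.IsLCI` and the scheme-level
notions `RegImm.IsRegularImmersion .koszul`, `Synt.IsKoszulAt` (helper29)
-/

set_option autoImplicit false
universe u

open AlgebraicGeometry CategoryTheory

namespace Groth.Agent.LibLCIBridge29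

open Groth.Agent.LibKoszulFlat29 Groth.Agent.LibRegImmComp29 Groth.Agent.LibRegImmSmoothDesc29

/-- transport of Koszul-regular ideals along ring isomorphisms. -/
theorem isKoszulRegularIdeal_map_ringEquiv {A A' : Type u} [CommRing A] [CommRing A']
    (e : A ≃+* A') (I : Ideal A) (h : LCI.IsKoszulRegularIdeal I) :
    LCI.IsKoszulRegularIdeal (I.map (e : A →+* A')) := by
  intro 𝔭' h𝔭'
  let 𝔭 : PrimeSpectrum A := ⟨𝔭'.asIdeal.comap (e : A →+* A'), inferInstance⟩
  have h𝔭 : I ≤ 𝔭.asIdeal := Ideal.map_le_iff_le_comap.1 h𝔭'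
  obtain ⟨g, hg, l, hl, hI⟩ := h 𝔭 h𝔭
  refine ⟨e g, hg, ?_⟩
  have H : (Submonoid.powers g).map e.toMonoidHom = Submonoid.powers (e g) := by
    rw [Submonoid.map_powers]
    rfl
  let E : Localization.Away g ≃+* Localization.Away (e g) :=
    IsLocalization.ringEquivOfRingEquiv (Localization.Away g) (Localization.Away (e g)) e H
  have hE : (E : Localization.Away g →+* Localization.Away (e g)).comp
      (algebraMap A (Localization.Away g)) =
      (algebraMap A' (Localization.Away (e g))).comp (e : A →+* A') := by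
    ext x
    exact IsLocalization.ringEquivOfRingEquiv_eq (S := Localization.Away g)
      (Q := Localization.Away (e g)) (j := e) H x
  refine ⟨l.map (E : Localization.Away g →+* Localization.Away (e g)), ?_, ?_⟩
  · exact isKoszulRegularSeq_map_of_flat _ (RingHom.Flat.of_bijective E.bijective) l hl
  · rw [Ideal.map_map, ← hE, ← Ideal.map_map, hI]
    change _ = Ideal.ofList _
    rw [← Ideal.map_ofList]

variable {X V : Scheme.{u}}

/-- a prime of `Γ(V, U)` containing the kernel of `i.app U` comes from a point of `X`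
(`i` a closed immersion over the affine open `U`). -/
theorem exists_preimage_of_ker_le (i : X ⟶ V) (U : V.Opens) (hU : IsAffineOpen U)
    [IsClosedImmersion (i ∣_ U)] (𝔭 : PrimeSpectrum Γ(V, U))
    (h𝔭 : RingHom.ker (i.app U).hom ≤ 𝔭.asIdeal) : ∃ x : X, i x = hU.fromSpec 𝔭 := by
  obtain ⟨hU', hsurj⟩ := Groth.Agent.LibRegImmStalk29.affine_and_app_surjective_of_restrict i U hU
  have hprime : (𝔭.asIdeal.map (i.app U).hom).IsPrime :=
    Ideal.map_isPrime_of_surjective hsurj h𝔭
  let 𝔮 : PrimeSpectrum Γ(X, i ⁻¹ᵁ U) := ⟨𝔭.asIdeal.map (i.app U).hom, hprime⟩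
  refine ⟨hU'.fromSpec 𝔮, ?_⟩
  have h1 := IsAffineOpen.SpecMap_appLE_fromSpec i hU hU' le_rfl
  have h2 : i (hU'.fromSpec 𝔮) = (hU'.fromSpec ≫ i) 𝔮 := rfl
  rw [h2, ← h1, Scheme.Hom.comp_apply]
  congr 1
  apply PrimeSpectrum.ext
  change Ideal.comap (i.appLE U (i ⁻¹ᵁ U) le_rfl).hom (𝔭.asIdeal.map (i.app U).hom) = 𝔭.asIdeal
  rw [Scheme.Hom.appLE_eq_app] 
  exact Ideal.comap_map_of_surjective' _ hsurj _ |>.trans (by simpa using h𝔭)

/-- **scheme ⇒ ring**: if `i` restricts to a closed immersion over the affine open `U` and is a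
Koszul-regular immersion at all points over `U`, the kernel of `i.app U` is a Koszul-regular
ideal. -/
theorem isKoszulRegularIdeal_ker_of_isRegularImmersionAt (i : X ⟶ V) (U : V.Opens)
    (hU : IsAffineOpen U) [IsClosedImmersion (i ∣_ U)]
    (h : ∀ x : X, i x ∈ U → RegImm.IsRegularImmersionAt .koszul i x) :
    LCI.IsKoszulRegularIdeal (RingHom.ker (i.app U).hom) := by
  intro 𝔭 h𝔭
  obtain ⟨x, hx⟩ := exists_preimage_of_ker_le i U hU 𝔭 h𝔭
  have hxU : i x ∈ U := by
    rw [hx]
    have : hU.fromSpec 𝔭 ∈ Set.range hU.fromSpec := ⟨𝔭, rfl⟩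
    rwa [hU.range_fromSpec] at this
  obtain ⟨W, hxW, hclW, rs, hrs, hker⟩ := h x hxU
  obtain ⟨a, haW, hxa⟩ := hU.exists_basicOpen_le (V := W.1) ⟨i x, hxW⟩ hxU
  have ha𝔭 : a ∉ 𝔭.asIdeal := by
    have h1 : 𝔭 ∈ hU.fromSpec ⁻¹ᵁ V.basicOpen a := by
      change hU.fromSpec 𝔭 ∈ V.basicOpen a
      rw [← hx]
      exact hxa
    rw [hU.fromSpec_preimage_basicOpen] at h1
    exact h1
  refine ⟨a, ha𝔭, ?_⟩
  have hD : IsAffineOpen (V.basicOpen a) := hU.basicOpen a
  have hDU : V.basicOpen a ≤ U := V.basicOpen_le a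
  obtain ⟨hclD, hkerDU⟩ := restrict_of_le i U hU (V.basicOpen a) hD hDU
  haveI := hclW
  obtain ⟨-, hkerDW⟩ := restrict_of_le i W.1 W.2 (V.basicOpen a) hD haW
  have hloc := hU.isLocalization_of_eq_basicOpen a (homOfLE hDU) rfl
  letI := (V.presheaf.map (homOfLE hDU).op).hom.toAlgebra
  let e : Γ(V, V.basicOpen a) ≃ₐ[Γ(V, U)] Localization.Away a :=
    IsLocalization.algEquiv (Submonoid.powers a) _ _
  have he : (e : Γ(V, V.basicOpen a) →+* Localization.Away a).comp
      (V.presheaf.map (homOfLE hDU).op).hom = algebraMap Γ(V, U) (Localization.Away a) := by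
    ext y
    exact e.commutes y
  refine ⟨(rs.map (V.presheaf.map (homOfLE haW).op).hom).map
    (e : Γ(V, V.basicOpen a) →+* Localization.Away a), ?_, ?_⟩
  · apply isKoszulRegularSeq_map_of_flat _ (RingHom.Flat.of_bijective e.bijective)
    exact isKoszulRegularSeq_map_of_flat _ (flat_restrict W.1 (V.basicOpen a) W.2 hD haW) rs hrs
  · rw [← he, ← Ideal.map_map, ← hkerDU, hkerDW, hker, Ideal.map_ofList, Ideal.map_ofList]

/-- the kernel of `(Spec.map φ).app ⊤` is the image of `ker φ` under `R ≅ Γ(Spec R, ⊤)`. -/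
theorem ker_SpecMap_appTop {R S : CommRingCat.{u}} (φ : R ⟶ S) :
    RingHom.ker ((Spec.map φ).app ⊤).hom =
      (RingHom.ker φ.hom).map
        ((Scheme.ΓSpecIso R).symm.commRingCatIsoToRingEquiv : R →+* Γ(Spec R, ⊤)) := by
  set e : R ≃+* Γ(Spec R, ⊤) := (Scheme.ΓSpecIso R).symm.commRingCatIsoToRingEquiv with he
  ext y
  rw [RingHom.mem_ker]
  have hnat := Scheme.ΓSpecIso_naturality φ
  have h2 : (Scheme.ΓSpecIso S).hom (((Spec.map φ).app ⊤) y) =
      φ ((Scheme.ΓSpecIso R).hom y) := congr($(hnat) y)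
  have hinj : Function.Injective (Scheme.ΓSpecIso S).hom :=
    (ConcreteCategory.bijective_of_isIso _).1
  have hy : e ((Scheme.ΓSpecIso R).hom y) = y := by
    change (Scheme.ΓSpecIso _).inv ((Scheme.ΓSpecIso _).hom y) = y
    simp
  constructor
  · intro h0
    rw [← hy]
    apply Ideal.mem_map_of_mem
    rw [RingHom.mem_ker, ← h2]
    change (Scheme.ΓSpecIso _).hom (((Spec.map φ).app ⊤).hom y) = 0
    rw [h0]
    exact map_zero _
  · intro hmem
    have hmem' : (Scheme.ΓSpecIso R).hom y ∈ RingHom.ker φ.hom := by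
      have h3 : e.symm y = (Scheme.ΓSpecIso R).hom y := by
        apply e.injective
        rw [hy]
        simp
      rw [← h3]
      have := (Ideal.mem_map_of_equiv e (I := RingHom.ker φ.hom) y).mp hmem
      obtain ⟨x, hx, rfl⟩ := this
      simpa using hx
    apply hinj
    change (Scheme.ΓSpecIso _).hom (((Spec.map φ).app ⊤) y) = _
    rw [h2, RingHom.mem_ker.1 hmem']
    exact (map_zero _).symm

/-- **ring ⇒ scheme** for `Spec`: a surjection with Koszul-regular kernel gives a Koszul-regular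
closed immersion. -/
theorem isRegularImmersion_SpecMap_of_isKoszulRegularIdeal {R S : CommRingCat.{u}} (φ : R ⟶ S)
    (hφ : Function.Surjective φ.hom) (h : LCI.IsKoszulRegularIdeal (RingHom.ker φ.hom)) :
    RegImm.IsRegularImmersion .koszul (Spec.map φ) := by
  haveI : IsClosedImmersion (Spec.map φ) := IsClosedImmersion.spec_of_surjective φ hφ
  refine ⟨inferInstance, fun z => ?_⟩
  haveI : IsClosedImmersion (Spec.map φ ∣_ (⊤ : (Spec R).Opens)) := inferInstance
  apply isRegularImmersionAt_of_isKoszulRegularIdeal (Spec.map φ) z ⊤ (isAffineOpen_top _) trivial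
  rw [ker_SpecMap_appTop]
  exact isKoszulRegularIdeal_map_ringEquiv _ _ h

/-- **scheme ⇒ ring** for `Spec`. -/
theorem isKoszulRegularIdeal_ker_of_isRegularImmersion_SpecMap {R S : CommRingCat.{u}} (φ : R ⟶ S)
    (hφ : Function.Surjective φ.hom) (h : RegImm.IsRegularImmersion .koszul (Spec.map φ)) :
    LCI.IsKoszulRegularIdeal (RingHom.ker φ.hom) := by
  haveI : IsClosedImmersion (Spec.map φ) := IsClosedImmersion.spec_of_surjective φ hφ
  haveI : IsClosedImmersion (Spec.map φ ∣_ (⊤ : (Spec R).Opens)) := inferInstance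
  have h1 := isKoszulRegularIdeal_ker_of_isRegularImmersionAt (Spec.map φ) ⊤ (isAffineOpen_top _)
    (fun x _ => h.2 x)
  rw [ker_SpecMap_appTop] at h1
  have h2 := isKoszulRegularIdeal_map_ringEquiv
    ((Scheme.ΓSpecIso R).symm.commRingCatIsoToRingEquiv).symm _ h1
  convert h2 using 1
  rw [Ideal.map_map]
  symm
  convert Ideal.map_id _
  ext y
  exact RingEquiv.symm_apply_apply ((Scheme.ΓSpecIso R).symm.commRingCatIsoToRingEquiv) y

open Groth.Agent.LibKoszulAtComp29

/-- `IsKoszulAt` is local on the source: it can be checked after precomposing with an open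
immersion. -/
theorem isKoszulAt_of_openImmersion_comp {X' X Y : Scheme.{u}} (j : X' ⟶ X) [IsOpenImmersion j]
    (f : X ⟶ Y) (x' : X') (h : Synt.IsKoszulAt (j ≫ f) x') : Synt.IsKoszulAt f (j x') := by
  obtain ⟨U', P, i, π, hx, hlft, hi, hπ, hfac⟩ := h
  haveI := hlft
  have hι : (j ''ᵁ U').ι ≫ f = (j.isoImage U').inv ≫ U'.ι ≫ j ≫ f := by
    rw [← Scheme.Hom.isoImage_inv_ι_assoc]
  refine ⟨j ''ᵁ U', P, (j.isoImage U').inv ≫ i, π, ⟨x', hx, rfl⟩, ?_, ?_, hπ, ?_⟩
  · rw [hι]
    infer_instance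
  · exact isRegularImmersion_iso_comp .koszul _ i hi
  · rw [Category.assoc, hfac, hι]

/-- the polynomial ring is smooth over the base. -/
theorem smooth_specMap_C (R : Type u) [CommRing R] (n : ℕ) :
    Smooth (Spec.map (CommRingCat.ofHom (MvPolynomial.C : R →+* MvPolynomial (Fin n) R))) := by
  rw [HasRingHomProperty.Spec_iff (P := @Smooth)]
  change (algebraMap R (MvPolynomial (Fin n) R)).Smooth
  rw [RingHom.smooth_algebraMap]
  have : Algebra.FinitePresentation R (MvPolynomial (Fin n) R) :=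
    Algebra.FinitePresentation.mvPolynomial_of_finitePresentation (Fin n)
  exact {}

section Core

variable (A B : Type u) [CommRing A] [CommRing B] [Algebra A B]

theorem specMap_fac (n : ℕ) (α : MvPolynomial (Fin n) A →ₐ[A] B) :
    Spec.map (CommRingCat.ofHom α.toRingHom) ≫
      Spec.map (CommRingCat.ofHom (MvPolynomial.C : A →+* MvPolynomial (Fin n) A)) =
      Spec.map (CommRingCat.ofHom (algebraMap A B)) := by
  rw [← Spec.map_comp]
  congr 1
  ext a
  exact α.commutes a

/-- **Core, ring ⇒ scheme**: a presentation with Koszul-regular kernel makes `Spec B ⟶ Spec A`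
Koszul at every point. -/
theorem isKoszulAt_specMap_of_presentation (n : ℕ) (α : MvPolynomial (Fin n) A →ₐ[A] B)
    (hα : Function.Surjective α) (hK : LCI.IsKoszulRegularIdeal (RingHom.ker α.toRingHom))
    (x : Spec (CommRingCat.of B)) :
    Synt.IsKoszulAt (Spec.map (CommRingCat.ofHom (algebraMap A B))) x := by
  have hreg := isRegularImmersion_SpecMap_of_isKoszulRegularIdeal
    (CommRingCat.ofHom α.toRingHom) hα hK
  haveI : IsClosedImmersion (Spec.map (CommRingCat.ofHom α.toRingHom)) :=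
    IsClosedImmersion.spec_of_surjective _ hα
  haveI := smooth_specMap_C A n
  haveI : IsIso (⊤ : (Spec (CommRingCat.of B)).Opens).ι :=
    inferInstanceAs (IsIso (Spec (CommRingCat.of B)).topIso.hom)
  refine ⟨⊤, _, (⊤ : (Spec (CommRingCat.of B)).Opens).ι ≫
    Spec.map (CommRingCat.ofHom α.toRingHom),
    Spec.map (CommRingCat.ofHom (MvPolynomial.C : A →+* MvPolynomial (Fin n) A)), trivial, ?_,
    isRegularImmersion_iso_comp .koszul _ _ hreg, inferInstance, ?_⟩
  · rw [← specMap_fac A B n α]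
    infer_instance
  · rw [Category.assoc, specMap_fac]

/-- **Core, scheme ⇒ ring**: if `Spec B ⟶ Spec A` is Koszul at every point, then `B` is of finite
type over `A`. -/
theorem finiteType_of_isKoszulAt_specMap
    (h : ∀ x, Synt.IsKoszulAt (Spec.map (CommRingCat.ofHom (algebraMap A B))) x) :
    Algebra.FiniteType A B := by
  choose W P i π hxW hlft _ _ _ using h
  have hcov : iSup W = ⊤ := by
    rw [eq_top_iff]
    intro x _
    exact TopologicalSpace.Opens.mem_iSup.2 ⟨x, hxW x⟩
  have hlft' : LocallyOfFiniteType (Spec.map (CommRingCat.ofHom (algebraMap A B))) :=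
    IsZariskiLocalAtSource.of_iSup_eq_top W hcov hlft
  rw [HasRingHomProperty.Spec_iff (P := @LocallyOfFiniteType)] at hlft'
  exact RingHom.finiteType_algebraMap.1 hlft'

/-- **Core, scheme ⇒ ring**: if `Spec B ⟶ Spec A` is Koszul at every point, then the kernel of
every presentation of `B` by a polynomial ring is Koszul-regular. -/
theorem isKoszulRegularIdeal_ker_of_isKoszulAt_specMap
    (h : ∀ x, Synt.IsKoszulAt (Spec.map (CommRingCat.ofHom (algebraMap A B))) x)
    (n : ℕ) (α : MvPolynomial (Fin n) A →ₐ[A] B) (hα : Function.Surjective α) :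
    LCI.IsKoszulRegularIdeal (RingHom.ker α.toRingHom) := by
  haveI : IsClosedImmersion (Spec.map (CommRingCat.ofHom α.toRingHom)) :=
    IsClosedImmersion.spec_of_surjective _ hα
  haveI := smooth_specMap_C A n
  have hreg := Groth.Agent.S8656.result (Spec.map (CommRingCat.ofHom (algebraMap A B))) h
    (Spec.map (CommRingCat.ofHom (MvPolynomial.C : A →+* MvPolynomial (Fin n) A)))
    (Spec.map (CommRingCat.ofHom α.toRingHom)) (specMap_fac A B n α)
  exact isKoszulRegularIdeal_ker_of_isRegularImmersion_SpecMap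
    (CommRingCat.ofHom α.toRingHom) hα hreg

/-- `LCI.IsLCI A B` iff `Spec B ⟶ Spec A` is Koszul at every point. -/
theorem isLCI_iff_forall_isKoszulAt_specMap :
    LCI.IsLCI A B ↔ ∀ x, Synt.IsKoszulAt (Spec.map (CommRingCat.ofHom (algebraMap A B))) x := by
  constructor
  · rintro ⟨-, n, α, hα, hK⟩ x
    exact isKoszulAt_specMap_of_presentation A B n α hα hK x
  · intro h
    have hft := finiteType_of_isKoszulAt_specMap A B h
    obtain ⟨n, α, hα⟩ := Algebra.FiniteType.iff_quotient_mvPolynomial''.1 hft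
    exact ⟨hft, n, α, hα, isKoszulRegularIdeal_ker_of_isKoszulAt_specMap A B h n α hα⟩

end Core

section General

variable {X Y : Scheme.{u}} (f : X ⟶ Y) (U : X.Opens) (V : Y.Opens)
  (hU : IsAffineOpen U) (hV : IsAffineOpen V) (e : U ≤ f ⁻¹ᵁ V)

include hU hV in
/-- **ring ⇒ scheme, general form**: if `Γ(Y, V) → Γ(X, U)` is a local complete intersection ring
map then `f` is Koszul at every point of `U`. -/
theorem isKoszulAt_of_isLCI_appLE
    (h : letI := (f.appLE V U e).hom.toAlgebra
      LCI.IsLCI Γ(Y, V) Γ(X, U)) (x : X) (hx : x ∈ U) :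
    Synt.IsKoszulAt f x := by
  letI := (f.appLE V U e).hom.toAlgebra
  have h1 := (isLCI_iff_forall_isKoszulAt_specMap Γ(Y, V) Γ(X, U)).1 h
  obtain ⟨y, rfl⟩ : ∃ y, hU.fromSpec y = x := by
    have h2 : x ∈ Set.range hU.fromSpec := by
      rw [hU.range_fromSpec]
      exact hx
    exact h2
  apply isKoszulAt_of_openImmersion_comp hU.fromSpec f y
  rw [← IsAffineOpen.SpecMap_appLE_fromSpec f hV hU e]
  exact isKoszulAt_comp _ _ y (h1 y) (isKoszulAt_of_smooth _ _)

include hU hV in
/-- **scheme ⇒ ring, general form**: if `f` is Koszul at every point of the affine open `U`, and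
`U` maps into the affine open `V`, then `Γ(Y, V) → Γ(X, U)` is a local complete intersection ring
map. -/
theorem isLCI_appLE_of_isKoszulAt (h : ∀ x ∈ U, Synt.IsKoszulAt f x) :
    letI := (f.appLE V U e).hom.toAlgebra
    LCI.IsLCI Γ(Y, V) Γ(X, U) := by
  letI := (f.appLE V U e).hom.toAlgebra
  rw [isLCI_iff_forall_isKoszulAt_specMap]
  have h2 : ∀ y, Synt.IsKoszulAt (Spec.map (f.appLE V U e) ≫ hV.fromSpec) y := by
    intro y
    rw [IsAffineOpen.SpecMap_appLE_fromSpec f hV hU e]
    refine isKoszulAt_comp hU.fromSpec f y (isKoszulAt_of_smooth _ _) (h _ ?_)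
    have h3 : hU.fromSpec y ∈ Set.range hU.fromSpec := ⟨y, rfl⟩
    rwa [hU.range_fromSpec] at h3
  intro y
  exact Groth.Agent.S9729.result (Spec.map (f.appLE V U e)) hV.fromSpec h2 y

end General

end Groth.Agent.LibLCIBridge29
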