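import Mathlib
import Groth.Prelude.Def_LCI2
import Groth.Prelude.Def_RegImm
import Groth.Agent.LibKoszulFFDescentPi29
import Groth.Agent.LibLCIBridge29

/-!
# fpqc descent of Koszul-regular immersions (helper29)
-/

set_option autoImplicit false
universe u

open AlgebraicGeometry CategoryTheory CategoryTheory.Limits

namespace Groth.Agent.LibRegImmFpqc29

open Groth.Agent.LibRegImmComp29 Groth.Agent.LibRegImmSmoothDesc29 Groth.Agent.LibLCIBridge29
  Groth.Agent.LibKoszulFFDescentPi29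

/-- **fpqc descent of Koszul-regular immersions.** -/
theorem isRegularImmersion_koszul_of_fpqc {X Y X' Y' : Scheme.{u}} (i : Y ⟶ X) [IsImmersion i]
    (g : X' ⟶ X) [Flat g] [Surjective g] [QuasiCompact g]
    (i' : Y' ⟶ X') (g' : Y' ⟶ Y) (hsq : IsPullback g' i' i g)
    (hi' : RegImm.IsRegularImmersion .koszul i') : RegImm.IsRegularImmersion .koszul i := by
  refine ⟨inferInstance, fun y => ?_⟩
  obtain ⟨O, hyO, hO⟩ := exists_forall_isClosedImmersion_restrict i y
  obtain ⟨U, hU, hyU, hUO⟩ :=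
    TopologicalSpace.Opens.isBasis_iff_nbhd.mp X.isBasis_affineOpens hyO
  haveI : IsClosedImmersion (i ∣_ U) := hO U hUO
  apply isRegularImmersionAt_of_isKoszulRegularIdeal i y U hU hyU
  have hcpt : IsCompact ((g ⁻¹ᵁ U : X'.Opens) : Set X') :=
    QuasiCompact.isCompact_preimage _ U.isOpen hU.isCompact
  obtain ⟨s, hs, hsU⟩ := isCompact_iff_finite_and_eq_biUnion_affineOpens.mp hcpt
  haveI : Finite s := hs.to_subtype
  let eq := Finite.equivFin s
  let f : Fin (Nat.card s) → X'.affineOpens := fun k => (eq.symm k).1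
  have hfle : ∀ k, (f k).1 ≤ g ⁻¹ᵁ U := fun k => by
    rw [hsU]
    exact le_iSup₂ (f := fun (V : X'.affineOpens) (_ : V ∈ s) => (V : X'.Opens))
      (eq.symm k).1 (eq.symm k).2
  have hcover : ∀ x' : X', g x' ∈ U → ∃ k, x' ∈ (f k).1 := by
    intro x' hx'
    have h1 : x' ∈ g ⁻¹ᵁ U := hx'
    rw [hsU] at h1
    simp only [TopologicalSpace.Opens.mem_iSup] at h1
    obtain ⟨V, hV, hxV⟩ := h1
    refine ⟨eq ⟨V, hV⟩, ?_⟩
    change x' ∈ ((eq.symm (eq ⟨V, hV⟩)).1 : X'.Opens)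
    rw [Equiv.symm_apply_apply]
    exact hxV
  apply isKoszulRegularIdeal_of_faithfullyFlat_family (fun k => Γ(X', (f k).1))
    (fun k => (g.appLE U (f k).1 (hfle k)).hom)
  · intro k
    exact Scheme.Hom.flat_appLE g hU (f k).2 (hfle k)
  · intro 𝔭
    obtain ⟨x', hx'⟩ := g.surjective (hU.fromSpec 𝔭)
    have hx'U : g x' ∈ U := by
      rw [hx']
      have : hU.fromSpec 𝔭 ∈ Set.range hU.fromSpec := ⟨𝔭, rfl⟩
      rwa [hU.range_fromSpec] at this
    obtain ⟨k, hk⟩ := hcover x' hx'U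
    refine ⟨k, (f k).2.primeIdealOf ⟨x', hk⟩, ?_⟩
    have h1 := IsAffineOpen.SpecMap_appLE_fromSpec g hU (f k).2 (hfle k)
    have h2 : hU.fromSpec (Spec.map (g.appLE U (f k).1 (hfle k))
        ((f k).2.primeIdealOf ⟨x', hk⟩)) = hU.fromSpec 𝔭 := by
      rw [← Scheme.Hom.comp_apply, h1, Scheme.Hom.comp_apply, (f k).2.fromSpec_primeIdealOf,
        hx']
    exact hU.fromSpec.isOpenEmbedding.injective h2
  · intro k
    obtain ⟨hcl, hker⟩ := restrict_of_isPullback i g i' g' hsq U hU (f k).1 (f k).2 (hfle k)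
    rw [← hker]
    haveI := hcl
    exact isKoszulRegularIdeal_ker_of_isRegularImmersionAt i' (f k).1 (f k).2
      (fun x _ => hi'.2 x)

end Groth.Agent.LibRegImmFpqc29
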