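import Mathlib
import Groth.Prelude.Def_LCI2
import Groth.Prelude.Def_RegImm
import Groth.Agent.LibRegImmFpqc29
import Groth.Agent.LibKoszulAtComp29
import Groth.Agent.S8656

/-!
# fpqc descent of local complete intersection morphisms (pointwise Koszul form) (helper29)
-/

set_option autoImplicit false
universe u

open AlgebraicGeometry CategoryTheory CategoryTheory.Limits

namespace Groth.Agent.LibKoszulAtFpqc29

open Groth.Agent.LibKoszulAtComp29 Groth.Agent.LibRegImmFpqc29

/-- a morphism that is Koszul at every point is locally of finite type. -/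
theorem locallyOfFiniteType_of_forall_isKoszulAt {X Y : Scheme.{u}} (f : X ⟶ Y)
    (h : ∀ x : X, Synt.IsKoszulAt f x) : LocallyOfFiniteType f := by
  choose W P i π hxW hlft _ _ _ using h
  have hcov : iSup W = ⊤ := by
    rw [eq_top_iff]
    intro x _
    exact TopologicalSpace.Opens.mem_iSup.2 ⟨x, hxW x⟩
  exact IsZariskiLocalAtSource.of_iSup_eq_top W hcov hlft

open Groth.Agent.Lib.helper12.ImmCharts2 in
/-- **fpqc descent of local complete intersection morphisms.** -/
theorem isKoszulAt_of_fpqc {X Y X' Y' : Scheme.{u}} (f : X ⟶ Y) (g : Y' ⟶ Y)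
    [Flat g] [Surjective g] [QuasiCompact g]
    (f' : X' ⟶ Y') (g' : X' ⟶ X) (hsq : IsPullback g' f' f g)
    (hf' : ∀ x' : X', Synt.IsKoszulAt f' x') (x : X) : Synt.IsKoszulAt f x := by
  have hlft' : LocallyOfFiniteType f' := locallyOfFiniteType_of_forall_isKoszulAt f' hf'
  have hlft : LocallyOfFiniteType f := by
    haveI := HasRingHomProperty.descendsAlong_flat (P := @LocallyOfFiniteType)
      RingHom.FiniteType.codescendsAlong_faithfullyFlat
    exact MorphismProperty.of_isPullback_of_descendsAlong (P := @LocallyOfFiniteType)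
      (Q := @Surjective ⊓ @Flat ⊓ @QuasiCompact) hsq.flip
      ⟨⟨inferInstance, inferInstance⟩, inferInstance⟩ hlft'
  obtain ⟨U, hU, hxU, -⟩ : ∃ U : X.Opens, IsAffineOpen U ∧ x ∈ U ∧ U ≤ ⊤ :=
    TopologicalSpace.Opens.isBasis_iff_nbhd.mp X.isBasis_affineOpens
      (show x ∈ (⊤ : X.Opens) from trivial)
  haveI : IsAffine (U : Scheme.{u}) := hU
  obtain ⟨n, j, hj, hjfac⟩ := exists_immersion_affineSpace (U.ι ≫ f)
  haveI : IsImmersion j := hj
  haveI := smooth_affineSpace_over (ULift.{u} (Fin n)) Y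
  set σ : 𝔸(ULift.{u} (Fin n); Y) ⟶ Y := 𝔸(ULift.{u} (Fin n); Y) ↘ Y with hσ
  -- the base change
  let p₁ := pullback.fst σ g
  let p₂ := pullback.snd σ g
  let j' := pullback.snd j p₁
  have w : (pullback.fst j p₁ ≫ U.ι) ≫ f = (j' ≫ p₂) ≫ g := by
    rw [Category.assoc, ← hjfac, pullback.condition_assoc, Category.assoc]
    congr 1
    exact pullback.condition
  let ψ : pullback j p₁ ⟶ X' := hsq.lift (pullback.fst j p₁ ≫ U.ι) (j' ≫ p₂) w
  have hψfst : ψ ≫ g' = pullback.fst j p₁ ≫ U.ι := hsq.lift_fst _ _ _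
  have hψsnd : ψ ≫ f' = j' ≫ p₂ := hsq.lift_snd _ _ _
  have big : IsPullback (pullback.fst j p₁) (ψ ≫ f') (U.ι ≫ f) g := by
    rw [hψsnd, ← hjfac]
    exact (IsPullback.of_hasPullback j p₁).paste_vert (IsPullback.of_hasPullback σ g)
  have hpb : IsPullback (pullback.fst j p₁) ψ U.ι g' := IsPullback.of_bot big hψfst.symm hsq
  haveI : IsOpenImmersion ψ := MorphismProperty.of_isPullback (P := @IsOpenImmersion) hpb
    inferInstance
  have hK : ∀ u', Synt.IsKoszulAt (ψ ≫ f') u' := fun u' =>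
    isKoszulAt_comp ψ f' u' (isKoszulAt_of_smooth ψ u') (hf' (ψ u'))
  have hj' : RegImm.IsRegularImmersion .koszul j' :=
    Groth.Agent.S8656.result (ψ ≫ f') hK p₂ j' hψsnd.symm
  have hjreg : RegImm.IsRegularImmersion .koszul j :=
    isRegularImmersion_koszul_of_fpqc j p₁ j' (pullback.fst j p₁)
      (IsPullback.of_hasPullback j p₁) hj'
  exact ⟨U, _, j, σ, hxU, inferInstance, hjreg, inferInstance, hjfac⟩

end Groth.Agent.LibKoszulAtFpqc29
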