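import Groth.Statements.S8658
import Groth.Agent.S8652
-- import your own Groth.Agent.* helpers here

set_option autoImplicit false
universe u
open CategoryTheory CategoryTheory.Limits AlgebraicGeometry
open Synt

namespace Groth.Agent.S8658


/-- Let f : X ⟶ Y be a local complete intersection morphism in the factorisation sense (around each
point of X, f is locally of finite type and factors as a Koszul-regular immersion followed by a
smooth morphism), and let g : Y' ⟶ Y be flat. Then for any cartesian square, the base change f' : X'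
⟶ Y' is a local complete intersection morphism in the same sense. -/
theorem result {X Y X' Y' : Scheme.{u}} (f : X ⟶ Y) (g : Y' ⟶ Y) [Flat g]
    (f' : X' ⟶ Y') (g' : X' ⟶ X) (hsq : IsPullback g' f' f g)
    (hf : ∀ x : X, Synt.IsKoszulAt f x) : ∀ x' : X', Synt.IsKoszulAt f' x' := by
  intro x'
  obtain ⟨U, P, i, π, hxU, hlft, hi, hsm, hfac⟩ := hf (g' x')
  -- the big pullback square
  have hbig : IsPullback ((g' ⁻¹ᵁ U).ι ≫ f') (g' ∣_ U) g (U.ι ≫ f) :=
    (isPullback_morphismRestrict g' U).flip.paste_horiz hsq.flip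
  -- the lifted immersion
  have hcomm : ((g' ∣_ U) ≫ i) ≫ π = ((g' ⁻¹ᵁ U).ι ≫ f') ≫ g := by
    rw [Category.assoc, hfac, hbig.w]
  let i' : ((g' ⁻¹ᵁ U : X'.Opens) : Scheme.{u}) ⟶ pullback π g :=
    pullback.lift ((g' ∣_ U) ≫ i) ((g' ⁻¹ᵁ U).ι ≫ f') hcomm
  have hi'1 : i' ≫ pullback.fst π g = (g' ∣_ U) ≫ i := pullback.lift_fst _ _ _
  have hi'2 : i' ≫ pullback.snd π g = (g' ⁻¹ᵁ U).ι ≫ f' := pullback.lift_snd _ _ _
  have hleft : IsPullback i' (g' ∣_ U) (pullback.fst π g) i := by
    refine IsPullback.of_right ?_ hi'1 (IsPullback.of_hasPullback π g).flip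
    rw [hi'2, hfac]
    exact hbig
  have hi' : RegImm.IsRegularImmersion .koszul i' :=
    Groth.Agent.S8652.of_isPullback .koszul i (pullback.fst π g) i' (g' ∣_ U) hleft.flip hi
  refine ⟨g' ⁻¹ᵁ U, pullback π g, i', pullback.snd π g, hxU, ?_, hi', inferInstance, hi'2⟩
  exact MorphismProperty.of_isPullback (P := @LocallyOfFiniteType) hbig.flip hlft

end Groth.Agent.S8658
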