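import Mathlib
import Groth.Prelude.Def_AlgSpMor6
import Groth.Agent.LibKoszulAtFpqc29
import Groth.Agent.LibKoszulAtComp29
import Groth.Agent.LibLCIBridge29
import Groth.Agent.S8658

/-!
# `AlgSp.lci` as a morphism property of schemes (helper29)

`AlgSp.lci` (Koszul at every point) respects isomorphisms, is Zariski local on the target, is stable
under flat base change, descends along fpqc and fppf coverings.
-/

set_option autoImplicit false
universe u

open AlgebraicGeometry CategoryTheory CategoryTheory.Limits MorphismProperty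

namespace Groth.Agent.LibAlgSpLci29

open Groth.Agent.LibKoszulAtComp29 Groth.Agent.LibKoszulAtFpqc29 Groth.Agent.LibLCIBridge29

theorem lci_of_smooth {X Y : Scheme.{u}} (f : X ⟶ Y) [Smooth f] : AlgSp.lci f :=
  fun x => isKoszulAt_of_smooth f x

theorem lci_comp {X Y Z : Scheme.{u}} (f : X ⟶ Y) (g : Y ⟶ Z) (hf : AlgSp.lci f)
    (hg : AlgSp.lci g) : AlgSp.lci (f ≫ g) :=
  fun x => isKoszulAt_comp f g x (hf x) (hg _)

instance : (AlgSp.lci : MorphismProperty Scheme.{u}).RespectsIso := by
  apply MorphismProperty.RespectsIso.mk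
  · intro X Y Z e f hf
    exact lci_comp e.hom f (lci_of_smooth e.hom) hf
  · intro X Y Z e f hf
    exact lci_comp f e.hom hf (lci_of_smooth e.hom)

/-- flat base change. -/
theorem lci_of_isPullback_of_flat {X Y X' Y' : Scheme.{u}} {f : X ⟶ Y} {g : Y' ⟶ Y} [Flat g]
    {f' : X' ⟶ Y'} {g' : X' ⟶ X} (hsq : IsPullback g' f' f g) (hf : AlgSp.lci f) :
    AlgSp.lci f' :=
  Groth.Agent.S8658.result f g f' g' hsq hf

/-- local on the source. -/
theorem lci_of_iSup_eq_top {X Y : Scheme.{u}} (f : X ⟶ Y) {ι : Type*} (U : ι → X.Opens)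
    (hU : iSup U = ⊤) (h : ∀ i, AlgSp.lci ((U i).ι ≫ f)) : AlgSp.lci f := by
  intro x
  have hx : x ∈ iSup U := by rw [hU]; trivial
  obtain ⟨i, hi⟩ := TopologicalSpace.Opens.mem_iSup.1 hx
  exact isKoszulAt_of_openImmersion_comp (U i).ι f ⟨x, hi⟩ (h i ⟨x, hi⟩)

instance : IsZariskiLocalAtTarget (AlgSp.lci : MorphismProperty Scheme.{u}) := by
  apply IsZariskiLocalAtTarget.mk'
  · intro X Y f U hf
    exact lci_of_isPullback_of_flat (isPullback_morphismRestrict f U).flip hf
  · intro X Y f ι U hU h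
    refine lci_of_iSup_eq_top f (fun i => f ⁻¹ᵁ U i) ?_ ?_
    · rw [eq_top_iff]
      intro x _
      have hx : f x ∈ iSup U := by rw [hU]; trivial
      obtain ⟨i, hi⟩ := TopologicalSpace.Opens.mem_iSup.1 hx
      exact TopologicalSpace.Opens.mem_iSup.2 ⟨i, hi⟩
    · intro i
      rw [← morphismRestrict_ι]
      exact lci_comp _ _ (h i) (lci_of_smooth _)

instance : (AlgSp.lci : MorphismProperty Scheme.{u}).DescendsAlong
    (@Surjective ⊓ @Flat ⊓ @QuasiCompact) where
  of_isPullback {A X Y Z fst snd f g} h hf hfst := by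
    obtain ⟨⟨h1, h2⟩, h3⟩ := hf
    haveI : Surjective f := h1
    haveI : Flat f := h2
    haveI : QuasiCompact f := h3
    exact fun x => isKoszulAt_of_fpqc g f fst snd h.flip hfst x

/-- fppf descent of lci morphisms. -/
instance : (AlgSp.lci : MorphismProperty Scheme.{u}).DescendsAlong
    (@Surjective ⊓ @Flat ⊓ @LocallyOfFinitePresentation) := inferInstance

end Groth.Agent.LibAlgSpLci29
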