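import Groth.Prelude.Def_AlgSpCov
import Groth.Agent.Lib.Helper5.AlgSpLocPBC

/-!
# Flat base change of `AlgSp.LocP P` (helper29, after helper5's `AlgSpLocPBC`)

Variant of helper5's `exists_chart` / `locP_of_isPullback` for properties `P` of morphisms of
schemes which are only stable under FLAT base change (such as `AlgSp.lci`): `LocP P` is stable
under base change along morphisms of algebraic spaces that are `LocP @Flat`.
-/

set_option autoImplicit false
universe u
open CategoryTheory CategoryTheory.Limits AlgebraicGeometry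
open AlgSp

namespace Groth.Agent.LibAlgSpLocPFlatBC29

open Groth.Agent.Lib.helper5.LocPBC

variable {S : Scheme.{u}}

/-- The hypotheses on a property `P` of morphisms of schemes under which `LocP P` is stable under
flat base change. -/
structure LocPFlatData (P : MorphismProperty Scheme.{u}) : Prop where
  flatBaseChange : ∀ {X Y X' Y' : Scheme.{u}} {f : X ⟶ Y} {g : Y' ⟶ Y} {f' : X' ⟶ Y'}
    {g' : X' ⟶ X}, IsPullback g' f' f g → Flat g → P f → P f'
  pre : ∀ {X Y Z : Scheme.{u}} (e : X ⟶ Y) (g : Y ⟶ Z), Etale e → P g → P (e ≫ g)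
  post : ∀ {X Y Z : Scheme.{u}} (k : X ⟶ Y) (e : Y ⟶ Z), P k → Etale e → P (k ≫ e)
  cancel : ∀ {X Y Z : Scheme.{u}} (k : X ⟶ Y) (b : Y ⟶ Z), Etale b → P (k ≫ b) → P k
  descend : ∀ {X' X Y : Scheme.{u}} (f : X' ⟶ X) (g : X ⟶ Y), Etale f → Surjective f →
    P (f ≫ g) → P g

/-- The chart construction for base change (after helper1): for `f : F ⟶ G` with `LocP P f` and a pullback square
`F' = F ×_G G'` of algebraic spaces there are a morphism of schemes `π : U₃ ⟶ V₂` with `P π`, a representable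
etale `β : h_{V₂} ⟶ G'` and a representable etale surjective `c : h_{U₃} ⟶ F'` over it. -/
theorem exists_chart_flat {P : MorphismProperty Scheme.{u}} (hP : LocPFlatData P)
    {F G G' F' : Sp S} (hF : IsAlgSpace F) (hG : IsAlgSpace G)
    (hG' : IsAlgSpace G') {f : F ⟶ G} {g : G' ⟶ G} {fst : F' ⟶ F} {snd : F' ⟶ G'}
    (sq : IsPullback fst snd f g) (hg : LocP @Flat g) (hf : LocP P f) :
    ∃ (U3 V2 : Over S) (π : U3 ⟶ V2) (β : (yon S).obj V2 ⟶ G') (c : (yon S).obj U3 ⟶ F'),
      P π.left ∧ RepWith @Etale β ∧ RepWith @Etale c ∧ RepWith @Surjective c ∧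
      c ≫ snd = (yon S).map π ≫ β := by
  obtain ⟨V, p, hpe, hps⟩ := hG.atlas
  -- `F_V = F ×_G V`
  have sqF : IsPullback (pullback.fst f p) (pullback.snd f p) f p := IsPullback.of_hasPullback _ _
  have hFV : IsAlgSpace (pullback f p) :=
    Groth.Agent.Lib.helper5.isAlgSpace_of_isPullback hG.diag hF (IsAlgSpace.yon_obj V) sqF
  obtain ⟨U, q, hqe, hqs⟩ := hFV.atlas
  obtain ⟨h, hh⟩ := (yon S).map_surjective (q ≫ pullback.snd f p)
  have hfe : RepWith @Etale (pullback.fst f p) :=
    (RepWith (S := S) @Etale).of_isPullback sqF.flip hpe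
  have hPh : P h.left := by
    refine hf (q ≫ pullback.fst f p) p h ((RepWith (S := S) @Etale).comp_mem _ _ hqe hfe) hpe ?_
    rw [Category.assoc, sqF.w, hh, Category.assoc]
  -- `G'_V = G' ×_G V`
  have sqG : IsPullback (pullback.fst g p) (pullback.snd g p) g p := IsPullback.of_hasPullback _ _
  have hGV : IsAlgSpace (pullback g p) :=
    Groth.Agent.Lib.helper5.isAlgSpace_of_isPullback hG.diag hG' (IsAlgSpace.yon_obj V) sqG
  obtain ⟨V2, β0, hβ0e, hβ0s⟩ := hGV.atlas
  obtain ⟨s2, hs2⟩ := (yon S).map_surjective (β0 ≫ pullback.snd g p)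
  have hge : RepWith @Etale (pullback.fst g p) :=
    (RepWith (S := S) @Etale).of_isPullback sqG.flip hpe
  have hgs : RepWith @Surjective (pullback.fst g p) :=
    (RepWith (S := S) @Surjective).of_isPullback sqG.flip hps
  have hβe : RepWith @Etale (β0 ≫ pullback.fst g p) :=
    (RepWith (S := S) @Etale).comp_mem _ _ hβ0e hge
  have hβs : RepWith @Surjective (β0 ≫ pullback.fst g p) :=
    (RepWith (S := S) @Surjective).comp_mem _ _ hβ0s hgs
  have hβg : (β0 ≫ pullback.fst g p) ≫ g = (yon S).map s2 ≫ p := by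
    rw [Category.assoc, sqG.w, hs2, Category.assoc]
  -- `E₁ = F' ×_{G'} V₂`
  have sqE1 : IsPullback (pullback.fst snd (β0 ≫ pullback.fst g p))
      (pullback.snd snd (β0 ≫ pullback.fst g p)) snd (β0 ≫ pullback.fst g p) :=
    IsPullback.of_hasPullback _ _
  have he1e : RepWith @Etale (pullback.fst snd (β0 ≫ pullback.fst g p)) :=
    (RepWith (S := S) @Etale).of_isPullback sqE1.flip hβe
  have he1s : RepWith @Surjective (pullback.fst snd (β0 ≫ pullback.fst g p)) :=
    (RepWith (S := S) @Surjective).of_isPullback sqE1.flip hβs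
  have big1 := sqE1.paste_horiz sq
  rw [hβg] at big1
  have hl1 : (pullback.fst snd (β0 ≫ pullback.fst g p) ≫ fst) ≫ f =
      (pullback.snd snd (β0 ≫ pullback.fst g p) ≫ (yon S).map s2) ≫ p := by
    rw [big1.w, Category.assoc]
  have sqE1' : IsPullback (sqF.lift _ _ hl1) (pullback.snd snd (β0 ≫ pullback.fst g p))
      (pullback.snd f p) ((yon S).map s2) := by
    refine IsPullback.of_right ?_ (sqF.lift_snd _ _ _) sqF
    rw [sqF.lift_fst]
    exact big1
  -- `U₃ = U ×_V V₂`
  have sqU0 := IsPullback.of_hasPullback h s2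
  have sqU := sqU0.map (yon S)
  have hs2flat : Flat s2.left := hg (β0 ≫ pullback.fst g p) p s2 hβe hpe hβg
  have hπ : P (pullback.snd h s2).left := by
    have := sqU0.map (Over.forget S)
    exact hP.flatBaseChange this hs2flat hPh
  have hc1 : ((yon S).map (pullback.fst h s2) ≫ q) ≫ pullback.snd f p =
      (yon S).map (pullback.snd h s2) ≫ (yon S).map s2 := by
    rw [Category.assoc, ← hh]
    exact sqU.w
  have sqC1 : IsPullback ((yon S).map (pullback.fst h s2)) (sqE1'.lift _ _ hc1) q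
      (sqF.lift _ _ hl1) := by
    refine IsPullback.of_bot ?_ (sqE1'.lift_fst _ _ _).symm sqE1'
    rw [sqE1'.lift_snd, ← hh]
    exact sqU
  have hc1e : RepWith @Etale (sqE1'.lift _ _ hc1) :=
    (RepWith (S := S) @Etale).of_isPullback sqC1 hqe
  have hc1s : RepWith @Surjective (sqE1'.lift _ _ hc1) :=
    (RepWith (S := S) @Surjective).of_isPullback sqC1 hqs
  refine ⟨_, V2, pullback.snd h s2, β0 ≫ pullback.fst g p,
    sqE1'.lift _ _ hc1 ≫ pullback.fst snd (β0 ≫ pullback.fst g p), hπ, hβe,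
    (RepWith (S := S) @Etale).comp_mem _ _ hc1e he1e,
    (RepWith (S := S) @Surjective).comp_mem _ _ hc1s he1s, ?_⟩
  rw [Category.assoc, sqE1.w, ← Category.assoc, sqE1'.lift_snd]

/-- `LocP P` is stable under flat base change between algebraic spaces. -/
theorem locP_of_isPullback_flat {P : MorphismProperty Scheme.{u}} (hP : LocPFlatData P)
    {F G G' F' : Sp S} (hF : IsAlgSpace F) (hG : IsAlgSpace G)
    (hG' : IsAlgSpace G') {f : F ⟶ G} {g : G' ⟶ G} {fst : F' ⟶ F} {snd : F' ⟶ G'}
    (sq : IsPullback fst snd f g) (hg : LocP @Flat g) (hf : LocP P f) : LocP P snd := by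
  obtain ⟨U3, V2, π, β, c, hπ, hβe, hce, hcs, hc⟩ := exists_chart_flat hP hF hG hG' sq hg hf
  intro U' V' a' b' h' ha' hb' hsq
  -- `U₂ = U₃ ×_{F'} U'`
  obtain ⟨U2, r, s', sqT⟩ := hce.1 a'
  have hr_et : Etale r.left := hce.2 _ _ _ sqT
  have hr_surj : Surjective r.left := hcs.2 _ _ _ sqT
  obtain ⟨s, rfl⟩ := (yon S).map_surjective s'
  have hs_et : Etale s.left := ha'.2 _ _ _ sqT.flip
  -- `V₃ = V₂ ×_{G'} V'`
  obtain ⟨V3, v2, v1', sqV⟩ := hβe.1 b'
  have hv2 : Etale v2.left := hβe.2 _ _ _ sqV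
  obtain ⟨v1, rfl⟩ := (yon S).map_surjective v1'
  have hv1 : Etale v1.left := hb'.2 _ _ _ sqV.flip
  -- the map `k : U₂ ⟶ V₃`
  obtain ⟨k', hk1, hk2⟩ := sqV.exists_lift ((yon S).map (s ≫ π)) ((yon S).map (r ≫ h')) (by
    rw [Functor.map_comp, Category.assoc, ← hc, ← Category.assoc, sqT.w, Category.assoc, hsq,
      Functor.map_comp, Category.assoc])
  obtain ⟨k, rfl⟩ := (yon S).map_surjective k'
  have hk1' : k ≫ v1 = s ≫ π := (yon S).map_injective (by rw [Functor.map_comp, hk1])
  have hk2' : k ≫ v2 = r ≫ h' := (yon S).map_injective (by rw [Functor.map_comp, hk2])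
  have h1 : P (s.left ≫ π.left) := hP.pre _ _ hs_et hπ
  have h2 : P k.left := by
    refine hP.cancel k.left v1.left hv1 ?_
    rw [← Over.comp_left, hk1']
    exact h1
  have h3 : P (r.left ≫ h'.left) := by
    have := hP.post k.left v2.left h2 hv2
    rwa [← Over.comp_left, hk2'] at this
  exact hP.descend r.left h'.left hr_et hr_surj h3


end Groth.Agent.LibAlgSpLocPFlatBC29
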