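import Groth.Agent.LibRelGCIDescent29
import Groth.Agent.LibASysPoly29
import Groth.Agent.S9147

/-!
# Finite type descends along syntomic maps, locally on the source (helper29)

`R → A → T` with `T = A[y]/(F)` a relative global complete intersection over `A` and `T` of finite
type over `R`.  Then for every prime `𝔮` of `T` there is `a ∈ A`, `a ∉ 𝔮`, with `A[1/a]` of finite
type over `R` (Stacks 00QP-type statement for standard syntomic maps).

* `FGSys`: the system of finitely generated `R`-subalgebras of `A` is an `ASys`.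
* `exists_away_finiteType_of_relGCI`.
-/

set_option autoImplicit false
set_option linter.style.haveILetI false
universe u

namespace Groth.Agent.LibSyntSrcFT29

open TensorProduct MvPolynomial Groth.Agent.LibASys29

section Sys

variable (R : Type u) (A : Type u) [CommRing R] [CommRing A] [Algebra R A]

/-- index type: finitely generated `R`-subalgebras of `A`. -/
def Idx : Type u := {A' : Subalgebra R A // A'.FG}

variable {R A}

/-- the stage ring. -/
def Stage (i : Idx R A) : Type u := ↥i.1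

noncomputable instance (i : Idx R A) : CommRing (Stage i) := inferInstanceAs (CommRing ↥i.1)

noncomputable instance (i : Idx R A) : Algebra R (Stage i) := inferInstanceAs (Algebra R ↥i.1)

noncomputable instance (i : Idx R A) : Algebra (Stage i) A := inferInstanceAs (Algebra ↥i.1 A)

instance (i : Idx R A) : IsScalarTower R (Stage i) A :=
  inferInstanceAs (IsScalarTower R ↥i.1 A)

/-- the structure map to `A`. -/
noncomputable def stageMap (i : Idx R A) : Stage i →ₐ[R] A := i.1.val

lemma stageMap_apply (i : Idx R A) (x : Stage i) : stageMap i x = algebraMap (Stage i) A x := rfl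

lemma stageMap_injective (i : Idx R A) : Function.Injective (stageMap i) :=
  Subtype.val_injective

/-- transition maps -/
noncomputable def trans {i j : Idx R A} (h : i.1 ≤ j.1) : Stage i →ₐ[R] Stage j :=
  Subalgebra.inclusion h

lemma stageMap_comp_trans {i j : Idx R A} (h : i.1 ≤ j.1) :
    (stageMap j).comp (trans h) = stageMap i := by
  ext x
  rfl

variable (R A)

theorem aSys : ASys R (Stage (R := R) (A := A)) stageMap where
  nonempty := ⟨⟨⊥, Subalgebra.fg_bot⟩⟩
  surj a := by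
    have h1 : (Algebra.adjoin R ({a} : Set A)).FG :=
      Subalgebra.fg_def.mpr ⟨{a}, Set.finite_singleton a, rfl⟩
    exact ⟨⟨Algebra.adjoin R {a}, h1⟩, ⟨a, Algebra.subset_adjoin (Set.mem_singleton a)⟩, rfl⟩
  dir i j := ⟨⟨i.1 ⊔ j.1, i.2.sup j.2⟩,
    trans (i := i) (j := ⟨i.1 ⊔ j.1, i.2.sup j.2⟩) le_sup_left,
    trans (i := j) (j := ⟨i.1 ⊔ j.1, i.2.sup j.2⟩) le_sup_right,
    stageMap_comp_trans _, stageMap_comp_trans _⟩
  ker i x hx := by
    have : x = 0 := stageMap_injective i (by rw [hx, map_zero])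
    exact ⟨i, AlgHom.id _ _, AlgHom.comp_id _, by rw [this, map_zero]⟩

end Sys

section Main

open Groth.Agent.LibRelGCI29 Groth.Agent.LibRelGCIDescent29

/-- `A₀ ⊆ A` a subring-like situation (`A₀ → A` any algebra), `T₀ = A₀[y]/(F₀)` flat over `A₀`,
such that `T₀ → A ⊗ T₀` is surjective.  Then every `x : A` is, up to a power of `a₀`, in the image
of `A₀`, whenever `D(a₀)` is contained in the image of `Spec T₀ → Spec A₀`. -/
theorem exists_pow_mul_mem_range {A₀ A T₀ : Type u} [CommRing A₀] [CommRing A] [CommRing T₀]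
    [Algebra A₀ A] [Algebra A₀ T₀] [Module.Flat A₀ T₀]
    (hsurj : Function.Surjective
      (Algebra.TensorProduct.includeRight : T₀ →ₐ[A₀] A ⊗[A₀] T₀))
    (a₀ : A₀)
    (himg : ∀ 𝔭 : PrimeSpectrum A₀, a₀ ∉ 𝔭.asIdeal →
      ∃ 𝔮 : PrimeSpectrum T₀, 𝔮.asIdeal.comap (algebraMap A₀ T₀) = 𝔭.asIdeal)
    (x : A) : ∃ (N : ℕ) (y : A₀), algebraMap A₀ A y = algebraMap A₀ A a₀ ^ N * x := by
  classical
  set L : Submodule A₀ A := LinearMap.range (Algebra.linearMap A₀ A) with hL
  -- `M = A / A₀`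
  have h1L : (1 : A) ∈ L := ⟨1, by simp⟩
  -- `M ⊗ T₀ = 0`
  have hzero : ∀ z : (A ⧸ L) ⊗[A₀] T₀, z = 0 := by
    intro z
    obtain ⟨w, rfl⟩ := LinearMap.rTensor_surjective T₀ (Submodule.mkQ_surjective L) z
    obtain ⟨t, rfl⟩ := hsurj w
    rw [Algebra.TensorProduct.includeRight_apply, LinearMap.rTensor_tmul, Submodule.mkQ_apply,
      (Submodule.Quotient.mk_eq_zero L).2 h1L, TensorProduct.zero_tmul]
  -- the annihilator of the class of `x`
  set xb : A ⧸ L := Submodule.Quotient.mk x with hxb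
  set 𝔞 : Ideal A₀ := LinearMap.ker (LinearMap.toSpanSingleton A₀ (A ⧸ L) xb) with h𝔞
  have hrad : a₀ ∈ 𝔞.radical := by
    by_contra hcon
    have hdisj : Disjoint (𝔞 : Set A₀) (Submonoid.powers a₀) := by
      rw [Set.disjoint_left]
      rintro y hy ⟨n, rfl⟩
      exact hcon ⟨n, hy⟩
    obtain ⟨𝔭, h𝔭, hle, hd⟩ := Ideal.exists_le_prime_disjoint 𝔞 (Submonoid.powers a₀) hdisj
    have ha₀ : a₀ ∉ 𝔭 := fun h => Set.disjoint_left.1 hd h ⟨1, pow_one a₀⟩
    obtain ⟨𝔮, h𝔮⟩ := himg ⟨𝔭, h𝔭⟩ ha₀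
    -- the injection `A₀/𝔞 → M`
    let ι : (A₀ ⧸ 𝔞) →ₗ[A₀] (A ⧸ L) :=
      Submodule.liftQ 𝔞 (LinearMap.toSpanSingleton A₀ (A ⧸ L) xb) le_rfl
    have hι : Function.Injective ι := by
      rw [← LinearMap.ker_eq_bot]
      exact Submodule.ker_liftQ_eq_bot _ _ _ le_rfl
    have hinj : Function.Injective (ι.rTensor T₀) :=
      Module.Flat.rTensor_preserves_injective_linearMap ι hι
    have h0 : ((Ideal.Quotient.mk 𝔞 (1 : A₀)) ⊗ₜ[A₀] (1 : T₀) : (A₀ ⧸ 𝔞) ⊗[A₀] T₀) = 0 :=
      hinj ((hzero _).trans (hzero _).symm)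
    have h2 := congrArg (TensorProduct.quotTensorEquivQuotSMul T₀ 𝔞) h0
    rw [TensorProduct.quotTensorEquivQuotSMul_mk_tmul, map_zero, one_smul,
      Submodule.Quotient.mk_eq_zero, Ideal.smul_top_eq_map] at h2
    have h3 : (1 : T₀) ∈ 𝔞.map (algebraMap A₀ T₀) := h2
    have h4 : 𝔞.map (algebraMap A₀ T₀) ≤ 𝔮.asIdeal := by
      rw [Ideal.map_le_iff_le_comap, h𝔮]
      exact hle
    exact 𝔮.isPrime.ne_top ((Ideal.eq_top_iff_one _).2 (h4 h3))
  obtain ⟨N, hN⟩ := hrad
  rw [h𝔞, LinearMap.mem_ker, LinearMap.toSpanSingleton_apply, hxb, ← Submodule.Quotient.mk_smul,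
    Submodule.Quotient.mk_eq_zero] at hN
  obtain ⟨y, hy⟩ := hN
  refine ⟨N, y, ?_⟩
  rw [Algebra.linearMap_apply] at hy
  rw [hy, Algebra.smul_def, map_pow]

/-- **Finite type descends along standard syntomic maps, locally on the source.** -/
theorem exists_away_finiteType_of_relGCI (R A : Type u) [CommRing R] [CommRing A] [Algebra R A]
    (m c : ℕ) (F : Fin c → MvPolynomial (Fin m) A) (hF : Synt.IsRelGCI A m c F)
    (hft : Algebra.FiniteType R (Synt.RelGCIRing A m c F))
    (𝔮 : Ideal (Synt.RelGCIRing A m c F)) [h𝔮 : 𝔮.IsPrime] :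
    ∃ a : A, algebraMap A (Synt.RelGCIRing A m c F) a ∉ 𝔮 ∧
      Algebra.FiniteType R (Localization.Away a) := by
  classical
  obtain ⟨s, hs⟩ := hft.out
  choose β hβ using fun t : Synt.RelGCIRing A m c F =>
    Ideal.Quotient.mk_surjective (I := Ideal.span (Set.range F)) t
  have hS := aSys R A
  obtain ⟨k, F₀, hF₀, hF₀gci⟩ := hS.exists_isRelGCI' m c F hF
  obtain ⟨i, β', hβ'⟩ := hS.poly_lift_fun (fun t : s => β t.1)
  obtain ⟨k', fk, fi, hfk, hfi⟩ := hS.dir k i
  -- the equations over the stage `k'`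
  set F₁ : Fin c → MvPolynomial (Fin m) (Stage k') :=
    fun l => map (fk : Stage k →+* Stage k') (F₀ l) with hF₁def
  have hF₁gci : Synt.IsRelGCI (Stage k') m c F₁ :=
    isRelGCI_map (fk : Stage k →+* Stage k') m c F₀ hF₀gci
  have hcompk : (algebraMap (Stage k') A).comp (fk : Stage k →+* Stage k') =
      (stageMap k : Stage k →+* A) := by
    ext x
    exact congrArg (fun φ : Stage k →ₐ[R] A => φ x) hfk
  have hcompi : (algebraMap (Stage k') A).comp (fi : Stage i →+* Stage k') =
      (stageMap i : Stage i →+* A) := by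
    ext x
    exact congrArg (fun φ : Stage i →ₐ[R] A => φ x) hfi
  have hF₁ : Fbar A F₁ = F := by
    funext l
    change map (algebraMap (Stage k') A) (map (fk : Stage k →+* Stage k') (F₀ l)) = F l
    rw [MvPolynomial.map_map, hcompk]
    exact hF₀ l
  subst hF₁
  -- the base change map
  set θ := bcMap (Stage k') A m c F₁ with hθ
  have hθsurj : Function.Surjective θ := by
    intro t
    have ht : t ∈ Algebra.adjoin R (s : Set (Synt.RelGCIRing A m c (Fbar A F₁))) := by
      rw [hs]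
      exact Algebra.mem_top
    change t ∈ θ.range
    induction ht using Algebra.adjoin_induction with
    | mem t ht =>
      refine ⟨Ideal.Quotient.mk _ (map (fi : Stage i →+* Stage k') (β' ⟨t, ht⟩)), ?_⟩
      rw [hθ, bcMap_mk, MvPolynomial.map_map, hcompi]
      have := hβ' ⟨t, ht⟩
      simp only at this
      rw [this, hβ]
    | algebraMap r =>
      refine ⟨Ideal.Quotient.mk _ (C (algebraMap R (Stage k') r)), ?_⟩
      rw [hθ, bcMap_mk, map_C, ← IsScalarTower.algebraMap_apply]
      rfl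
    | add x y _ _ hx hy => exact θ.range.add_mem hx hy
    | mul x y _ _ hx hy => exact θ.range.mul_mem hx hy
  have hincl : Function.Surjective (Algebra.TensorProduct.includeRight :
      Synt.RelGCIRing (Stage k') m c F₁ →ₐ[Stage k'] A ⊗[Stage k'] Synt.RelGCIRing (Stage k') m c F₁) := by
    intro w
    obtain ⟨t₀, ht₀⟩ := hθsurj (tensorEquiv A F₁ w)
    refine ⟨t₀, (tensorEquiv A F₁).injective ?_⟩
    rw [← ht₀]
    rfl
  -- flatness and finite presentation
  have hsynt := Groth.Agent.S9147.result (Stage k') m c F₁ hF₁gci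
  haveI : Module.Flat (Stage k') (Synt.RelGCIRing (Stage k') m c F₁) := hsynt.1
  haveI : Algebra.FinitePresentation (Stage k') (Synt.RelGCIRing (Stage k') m c F₁) := hsynt.2.1
  have hopen : IsOpen (Set.range (PrimeSpectrum.comap
      (algebraMap (Stage k') (Synt.RelGCIRing (Stage k') m c F₁)))) :=
    (PrimeSpectrum.isOpenMap_comap_of_hasGoingDown_of_finitePresentation
      (R := Stage k') (S := Synt.RelGCIRing (Stage k') m c F₁)).isOpen_range
  haveI : (𝔮.comap θ).IsPrime := Ideal.comap_isPrime θ 𝔮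
  set 𝔮₀ : PrimeSpectrum (Synt.RelGCIRing (Stage k') m c F₁) := ⟨𝔮.comap θ, inferInstance⟩ with h𝔮₀
  obtain ⟨_, ⟨_, ⟨a₀, rfl⟩, rfl⟩, ha₀, hsub⟩ :=
    PrimeSpectrum.isBasis_basic_opens.exists_subset_of_mem_open
      (Set.mem_range_self 𝔮₀) hopen
  have hcompat : ∀ z : Stage k', algebraMap A (Synt.RelGCIRing A m c (Fbar A F₁))
      (algebraMap (Stage k') A z) = θ (algebraMap (Stage k') _ z) := by
    intro z
    have h1 : algebraMap (Stage k') (Synt.RelGCIRing (Stage k') m c F₁) z =
        Ideal.Quotient.mk _ (C z) := rfl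
    rw [h1, hθ, bcMap_mk, map_C]
    rfl
  refine ⟨stageMap k' a₀, ?_, ?_⟩
  · rw [stageMap_apply, hcompat]
    exact ha₀
  · have hpow := exists_pow_mul_mem_range hincl a₀ (fun 𝔭 h𝔭 => by
      obtain ⟨𝔮', h𝔮'⟩ := hsub (show 𝔭 ∈ (PrimeSpectrum.basicOpen a₀ : Set _) from h𝔭)
      exact ⟨𝔮', congrArg PrimeSpectrum.asIdeal h𝔮'⟩)
    haveI : Algebra.FiniteType R (Stage k') := (Subalgebra.fg_iff_finiteType k'.1).1 k'.2
    haveI : Algebra.FiniteType R (Localization.Away a₀) :=
      Algebra.FiniteType.trans (S := Stage k') inferInstance inferInstance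
    refine Algebra.FiniteType.of_surjective (Localization.awayMapₐ (stageMap k') a₀) ?_
    intro y
    obtain ⟨n, x, hx⟩ := IsLocalization.Away.surj (stageMap k' a₀) y
    obtain ⟨N, x₀, hx₀⟩ := hpow x
    refine ⟨IsLocalization.mk' (Localization.Away a₀) x₀
      (⟨a₀ ^ (n + N), n + N, rfl⟩ : Submonoid.powers a₀), ?_⟩
    change IsLocalization.Away.mapₐ _ _ (stageMap k') a₀ _ = y
    rw [IsLocalization.Away.mapₐ_apply, IsLocalization.Away.map, IsLocalization.map_mk',
      IsLocalization.mk'_eq_iff_eq_mul]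
    simp only [map_pow]
    have e1 : (stageMap k').toRingHom x₀ = stageMap k' a₀ ^ N * x := hx₀
    have e2 : (stageMap k').toRingHom a₀ = stageMap k' a₀ := rfl
    rw [e1, e2, map_mul, map_pow, pow_add, ← hx]
    ring

end Main

end Groth.Agent.LibSyntSrcFT29
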