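import Mathlib
import Groth.Prelude.Def_RegImm
import Groth.Prelude.Def_Flat
import Groth.Prelude.Def_LCI2
import Groth.Agent.LibSyntKey29
import Groth.Agent.LibKoszulLoc29c

/-!
# helper29: the kernel of a presentation of a syntomic algebra is a Koszul-regular ideal
-/

set_option autoImplicit false
set_option linter.style.haveILetI false
set_option linter.unusedSectionVars false

namespace Groth.Agent.LibSyntKoszul29

universe u

open MvPolynomial RingTheory.Sequence IsLocalRing Groth.Agent.LibRelGCI29 TensorProduct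
open Groth.Agent.LibSyntPres29 Groth.Agent.LibSyntLocal29 Groth.Agent.Lib.helper17.CIField
open Groth.Agent.LibSyntKey29 Groth.Agent.LibRelGCIPoint29
open AlgebraicGeometry CategoryTheory FlatMor

section Transport

variable {P : Type u} [CommRing P] (h : P) (m : Ideal (Localization.Away h)) [m.IsPrime]

/-- weak regularity in `P_{q''}` gives weak regularity in `(P_h)_m`, `q'' = m ∩ P`. -/
lemma isWeaklyRegular_atPrime_away (l : List P)
    (hl : IsWeaklyRegular (Localization.AtPrime (m.comap (algebraMap P (Localization.Away h))))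
      (l.map (algebraMap P
        (Localization.AtPrime (m.comap (algebraMap P (Localization.Away h))))))) :
    IsWeaklyRegular (Localization.AtPrime m)
      ((l.map (algebraMap P (Localization.Away h))).map
        (algebraMap (Localization.Away h) (Localization.AtPrime m))) := by
  have hlist : (l.map (algebraMap P (Localization.Away h))).map
      (algebraMap (Localization.Away h) (Localization.AtPrime m)) =
      l.map (algebraMap P (Localization.AtPrime m)) := by
    rw [List.map_map]
    apply List.map_congr_left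
    intro x _
    exact (IsScalarTower.algebraMap_apply P (Localization.Away h) (Localization.AtPrime m) x).symm
  rw [hlist, isWeaklyRegular_map_algebraMap_iff (Localization.AtPrime m) (Localization.AtPrime m) l]
  rw [isWeaklyRegular_map_algebraMap_iff
    (Localization.AtPrime (m.comap (algebraMap P (Localization.Away h))))
    (Localization.AtPrime (m.comap (algebraMap P (Localization.Away h)))) l] at hl
  exact (LinearEquiv.isWeaklyRegular_congr (atPrimeAwayEquiv (R := P) h m).toLinearEquiv l).mpr hl

lemma map_away_eq_span (I : Ideal P) {c : ℕ} (f : Fin c → P) (hfI : ∀ i, f i ∈ I)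
    (hmul : ∀ b ∈ I, h * b ∈ Ideal.span (Set.range f)) :
    I.map (algebraMap P (Localization.Away h)) =
      Ideal.span {x | x ∈ (List.ofFn f).map (algebraMap P (Localization.Away h))} := by
  apply le_antisymm
  · rw [Ideal.map_le_iff_le_comap]
    intro b hb
    rw [Ideal.mem_comap]
    have hle : Ideal.span (Set.range f) ≤
        (Ideal.span {x | x ∈ (List.ofFn f).map (algebraMap P (Localization.Away h))}).comap
          (algebraMap P (Localization.Away h)) := by
      rw [Ideal.span_le]
      rintro _ ⟨i, rfl⟩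
      exact Ideal.subset_span (List.mem_map.mpr ⟨f i, (List.mem_ofFn).mpr ⟨i, rfl⟩, rfl⟩)
    have h1 := hle (hmul b hb)
    rw [Ideal.mem_comap, map_mul] at h1
    exact (Ideal.unit_mul_mem_iff_mem _ (IsLocalization.Away.algebraMap_isUnit h)).mp h1
  · rw [Ideal.span_le]
    intro x hx
    obtain ⟨y, hy, rfl⟩ := List.mem_map.mp hx
    obtain ⟨i, rfl⟩ := (List.mem_ofFn).mp hy
    exact Ideal.mem_map_of_mem _ (hfI i)

end Transport

section Koszul

variable (R : Type u) [CommRing R] (n c : ℕ) (f : Fin c → MvPolynomial (Fin n) R)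

theorem isKoszulRegularSeq_away (hcn : c ≤ n) (h : MvPolynomial (Fin n) R)
    (hd : ∀ q : PrimeSpectrum (Synt.RelGCIRing R n c f),
      Ideal.Quotient.mk (Ideal.span (Set.range f)) h ∉ q.asIdeal →
      fibreDimAt (Spec.map (CommRingCat.ofHom (algebraMap R (Synt.RelGCIRing R n c f)))) q ≤
        ((n - c : ℕ) : WithBot ℕ∞)) :
    LCI.IsKoszulRegularSeq (Localization.Away h)
      ((List.ofFn f).map (algebraMap (MvPolynomial (Fin n) R) (Localization.Away h))) := by
  apply Groth.Agent.LibKoszulLoc29.isKoszulRegularSeq_of_local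
  intro m hm hle
  have hq'' : Ideal.span (Set.range f) ≤
      m.comap (algebraMap (MvPolynomial (Fin n) R) (Localization.Away h)) := by
    rw [Ideal.span_le]
    rintro _ ⟨i, rfl⟩
    change algebraMap _ _ (f i) ∈ m
    apply hle
    apply Ideal.subset_span
    exact List.mem_map.mpr ⟨f i, (List.mem_ofFn).mpr ⟨i, rfl⟩, rfl⟩
  have hh : h ∉ m.comap (algebraMap (MvPolynomial (Fin n) R) (Localization.Away h)) := by
    intro hmem
    exact hm.ne_top (Ideal.eq_top_of_isUnit_mem _ hmem (IsLocalization.Away.algebraMap_isUnit h))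
  have hnot : Ideal.Quotient.mk (Ideal.span (Set.range f)) h ∉
      (pt R n c f _ hq'').asIdeal := by
    intro hmem
    apply hh
    rw [← comap_map_mk R n c f _ hq'']
    exact hmem
  have hreg := (regular_of_fibreDimAt_le R n c f _ hq'' hcn (hd _ hnot)).1
  exact isWeaklyRegular_atPrime_away h m (List.ofFn f) hreg

end Koszul

section Main

variable (R T : Type u) [CommRing R] [CommRing T] [Algebra R T]

/-- neighbourhood data at a point of a syntomic algebra with a given presentation. -/
theorem exists_nhd_data (hflatT : Module.Flat R T)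
    (hfib : ∀ p : PrimeSpectrum R, Synt.IsLCIOver p.asIdeal.ResidueField (p.asIdeal.Fiber T))
    (n c : ℕ) (G : Fin c → MvPolynomial (Fin n) R) (e : Synt.RelGCIRing R n c G ≃ₐ[R] T)
    (qT : Ideal T) [qT.IsPrime] :
    ∃ (c' : ℕ) (f : Fin c' → MvPolynomial (Fin n) R) (h : MvPolynomial (Fin n) R),
      (∀ i, f i ∈ Ideal.span (Set.range G)) ∧
      h ∉ (qT.comap (e : Synt.RelGCIRing R n c G →+* T)).comap
        (Ideal.Quotient.mk (Ideal.span (Set.range G))) ∧
      (∀ b ∈ Ideal.span (Set.range G), h * b ∈ Ideal.span (Set.range f)) ∧ c' ≤ n ∧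
      ∀ q : PrimeSpectrum (Synt.RelGCIRing R n c' f),
        Ideal.Quotient.mk (Ideal.span (Set.range f)) h ∉ q.asIdeal →
        fibreDimAt (Spec.map (CommRingCat.ofHom (algebraMap R (Synt.RelGCIRing R n c' f)))) q ≤
          ((n - c' : ℕ) : WithBot ℕ∞) := by
  set p : Ideal R := qT.under R with hpdef
  haveI : p.IsPrime := Ideal.comap_isPrime _ _
  haveI : qT.LiesOver p := ⟨rfl⟩
  set Q : PrimeSpectrum (p.Fiber T) :=
    PrimeSpectrum.primesOverOrderIsoFiber R T p ⟨qT, inferInstance, inferInstance⟩ with hQdef
  have hQ : Q.asIdeal.comap (Algebra.TensorProduct.includeRight.toRingHom) = qT := by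
    have h1 := (PrimeSpectrum.primesOverOrderIsoFiber R T p).symm_apply_apply
      ⟨qT, inferInstance, inferInstance⟩
    have h2 := congrArg Subtype.val h1
    rw [← hQdef] at h2
    rw [PrimeSpectrum.coe_primesOverOrderIsoFiber_symm_apply] at h2
    exact h2
  have hflat : Module.Flat R (Localization.AtPrime qT) :=
    Module.Flat.trans R T (Localization.AtPrime qT)
  have hci : Synt.IsCIOver p.ResidueField (Localization.AtPrime Q.asIdeal) :=
    isCIOver_atPrime_of_isLCIOver p.ResidueField (hfib ⟨p, inferInstance⟩) Q.asIdeal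
  have hp : p = ((qT.comap (e : Synt.RelGCIRing R n c G →+* T)).comap
      (Ideal.Quotient.mk (Ideal.span (Set.range G)))).comap (C : R →+* MvPolynomial (Fin n) R) := by
    ext r
    have h1 : e (Ideal.Quotient.mk (Ideal.span (Set.range G)) (C r)) = algebraMap R T r := by
      have : Ideal.Quotient.mk (Ideal.span (Set.range G)) (C r) =
          algebraMap R (Synt.RelGCIRing R n c G) r := rfl
      rw [this, e.commutes]
    change algebraMap R T r ∈ qT ↔ e (Ideal.Quotient.mk (Ideal.span (Set.range G)) (C r)) ∈ qT
    rw [h1]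
  have hIq : Ideal.span (Set.range G) ≤ (qT.comap (e : Synt.RelGCIRing R n c G →+* T)).comap
      (Ideal.Quotient.mk (Ideal.span (Set.range G))) := by
    intro x hx
    rw [Ideal.mem_comap, Ideal.Quotient.eq_zero_iff_mem.mpr hx]
    exact Ideal.zero_mem _
  have hIfg : (Ideal.span (Set.range G)).FG := Submodule.fg_span (Set.finite_range G)
  have hflat' : Module.Flat R (Localization.AtPrime
      ((qT.comap (e : Synt.RelGCIRing R n c G →+* T)).comap
        (Ideal.Quotient.mk (Ideal.span (Set.range G)))) ⧸
      (Ideal.span (Set.range G)).map (algebraMap (MvPolynomial (Fin n) R) (Localization.AtPrime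
        ((qT.comap (e : Synt.RelGCIRing R n c G →+* T)).comap
          (Ideal.Quotient.mk (Ideal.span (Set.range G))))))) :=
    Module.Flat.of_linearEquiv
      ((locQuotEquiv (R := R) (Ideal.span (Set.range G))
        (qT.comap (e : Synt.RelGCIRing R n c G →+* T))).trans
        (atPrimeEquivOfAlgEquiv e qT)).toLinearEquiv
  have hci' := (isCIOver_fibre_iff R n c G e p qT hp Q.asIdeal hQ).mp hci
  exact exists_relGCI_nhd n (Ideal.span (Set.range G)) _ p hp hIfg hIq hflat' hci'

/-- the kernel of a presentation of a syntomic algebra is Koszul-regular. -/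
theorem isKoszulRegularIdeal_of_isSyntomic (hS : Synt.IsSyntomic R T)
    (n c : ℕ) (G : Fin c → MvPolynomial (Fin n) R) (e : Synt.RelGCIRing R n c G ≃ₐ[R] T) :
    LCI.IsKoszulRegularIdeal (Ideal.span (Set.range G)) := by
  intro 𝔭 h𝔭
  haveI hq₀ : (𝔭.asIdeal.map (Ideal.Quotient.mk (Ideal.span (Set.range G)))).IsPrime :=
    map_mk_isPrime R n c G 𝔭.asIdeal h𝔭
  have hcm := comap_map_mk R n c G 𝔭.asIdeal h𝔭
  have hqT : (((𝔭.asIdeal.map (Ideal.Quotient.mk (Ideal.span (Set.range G)))).comap
      (e.symm : T →+* Synt.RelGCIRing R n c G)).comap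
      (e : Synt.RelGCIRing R n c G →+* T)) =
      𝔭.asIdeal.map (Ideal.Quotient.mk (Ideal.span (Set.range G))) := by
    ext x
    rw [Ideal.mem_comap, Ideal.mem_comap]
    have : (e.symm : T →+* Synt.RelGCIRing R n c G)
        ((e : Synt.RelGCIRing R n c G →+* T) x) = x := e.symm_apply_apply x
    rw [this]
  obtain ⟨c', f, h, hfI, hhq, hmul, hcn, hdim⟩ := exists_nhd_data R T hS.1 hS.2.2 n c G e
    ((𝔭.asIdeal.map (Ideal.Quotient.mk (Ideal.span (Set.range G)))).comap
      (e.symm : T →+* Synt.RelGCIRing R n c G))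
  rw [hqT, hcm] at hhq
  exact ⟨h, hhq, (List.ofFn f).map (algebraMap (MvPolynomial (Fin n) R) (Localization.Away h)),
    isKoszulRegularSeq_away R n c' f hcn h hdim, map_away_eq_span h _ f hfI hmul⟩

end Main

end Groth.Agent.LibSyntKoszul29
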