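import Groth.Statements.S9287
import Groth.Agent.LibSyntKoszul29
import Groth.Agent.LibSyntOfLCI29
-- import your own Groth.Agent.* helpers here

set_option autoImplicit false
universe u
attribute [local instance] HasDerivedCategory.standard
open CategoryTheory
open Synt

namespace Groth.Agent.S9287

theorem syntomic_imp (R S : Type u) [CommRing R] [CommRing S] [Algebra R S]
    (hS : Synt.IsSyntomic R S) : Module.Flat R S ∧ LCI.IsLCI R S := by
  obtain ⟨hfl, hfp, hfib⟩ := hS
  refine ⟨hfl, Algebra.FiniteType.of_finitePresentation, ?_⟩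
  obtain ⟨n, c, G, ⟨e⟩⟩ := Groth.Agent.LibSyntPres29.exists_pres R S
  refine ⟨n, (e : Synt.RelGCIRing R n c G →ₐ[R] S).comp
    (Ideal.Quotient.mkₐ R (Ideal.span (Set.range G))), ?_, ?_⟩
  · exact e.surjective.comp (Ideal.Quotient.mkₐ_surjective R _)
  · have hker : RingHom.ker ((e : Synt.RelGCIRing R n c G →ₐ[R] S).comp
        (Ideal.Quotient.mkₐ R (Ideal.span (Set.range G)))).toRingHom =
        Ideal.span (Set.range G) := by
      ext x
      rw [RingHom.mem_ker]
      change e (Ideal.Quotient.mk _ x) = 0 ↔ _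
      rw [map_eq_zero_iff e e.injective, Ideal.Quotient.eq_zero_iff_mem]
    rw [hker]
    exact Groth.Agent.LibSyntKoszul29.isKoszulRegularIdeal_of_isSyntomic R S ⟨hfl, hfp, hfib⟩ n c G e


/-- A ring map R → S is syntomic if and only if it is flat and a local complete intersection
homomorphism. -/
theorem result (R S : Type u) [CommRing R] [CommRing S] [Algebra R S] :
    Synt.IsSyntomic R S ↔ Module.Flat R S ∧ LCI.IsLCI R S := by
  exact ⟨syntomic_imp R S,
    fun h => Groth.Agent.LibSyntOfLCI29.isSyntomic_of_flat_of_isLCI R S h.1 h.2⟩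

end Groth.Agent.S9287
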