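import Groth.Statements.S2237
import Groth.Agent.S9287
-- import your own Groth.Agent.* helpers here

set_option autoImplicit false
universe u
attribute [local instance] HasDerivedCategory.standard
open LCI

namespace Groth.Agent.S2237

open TensorProduct Groth.Agent.LibSyntKey29 Groth.Agent.Lib.helper17.CIField

/-- a syntomic algebra is, near every prime, a relative global complete intersection. -/
theorem exists_away_relGCI_of_isSyntomic (A B : Type u) [CommRing A] [CommRing B] [Algebra A B]
    (hS : Synt.IsSyntomic A B) (q : Ideal B) [q.IsPrime] :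
    ∃ h : B, h ∉ q ∧ ∃ (n c : ℕ) (F : Fin c → MvPolynomial (Fin n) A), Synt.IsRelGCI A n c F ∧
      Nonempty (Localization.Away h ≃ₐ[A] Synt.RelGCIRing A n c F) := by
  obtain ⟨hfl, hfp, hfib⟩ := hS
  have := hfp
  have := hfl
  set p : Ideal A := q.under A with hpdef
  have : p.IsPrime := Ideal.comap_isPrime _ _
  have : q.LiesOver p := ⟨rfl⟩
  set Q : PrimeSpectrum (p.Fiber B) :=
    PrimeSpectrum.primesOverOrderIsoFiber A B p ⟨q, inferInstance, inferInstance⟩ with hQdef
  have hQ : Q.asIdeal.comap (Algebra.TensorProduct.includeRight.toRingHom) = q := by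
    have h1 := (PrimeSpectrum.primesOverOrderIsoFiber A B p).symm_apply_apply
      ⟨q, inferInstance, inferInstance⟩
    have h2 := congrArg Subtype.val h1
    rw [← hQdef] at h2
    rw [PrimeSpectrum.coe_primesOverOrderIsoFiber_symm_apply] at h2
    exact h2
  have hflat : Module.Flat A (Localization.AtPrime q) :=
    Module.Flat.trans A B (Localization.AtPrime q)
  have hci : Synt.IsCIOver p.ResidueField (Localization.AtPrime Q.asIdeal) :=
    isCIOver_atPrime_of_isLCIOver p.ResidueField (hfib ⟨p, inferInstance⟩) Q.asIdeal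
  exact exists_away_relGCI A B p q Q.asIdeal hQ hflat hci


/-- Implication (2) to (5), affine form: let A -> B be flat, quasi-finite and a local complete
intersection homomorphism (finite type with a Koszul-regular presentation). Then for every prime q
of B there are g in B outside q, a natural number n and polynomials f_1, ..., f_n in A[x_1, ...,
x_n] such that B_g is isomorphic as an A-algebra to A[x_1, ..., x_n]/(f_1, ..., f_n). -/
theorem result {A B : Type u} [CommRing A]
    [CommRing B] [Algebra A B] [Module.Flat A B] [Algebra.QuasiFinite A B] (hlci : LCI.IsLCI A B)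
    (q : Ideal B) [q.IsPrime] :
    ∃ g : B, g ∉ q ∧ ∃ (n : ℕ) (f : Fin n → MvPolynomial (Fin n) A),
      Nonempty (Localization.Away g ≃ₐ[A]
        (MvPolynomial (Fin n) A ⧸ Ideal.span (Set.range f))) := by
  have hS : Synt.IsSyntomic A B := (Groth.Agent.S9287.result A B).mpr ⟨inferInstance, hlci⟩
  obtain ⟨h, hh, n, c, F, hF, ⟨e⟩⟩ := exists_away_relGCI_of_isSyntomic A B hS q
  have : Algebra.QuasiFinite A (Synt.RelGCIRing A n c F) :=
    (Algebra.QuasiFinite.iff_of_algEquiv e).mp inferInstance
  set p : Ideal A := q.under A with hpdef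
  have : p.IsPrime := Ideal.comap_isPrime _ _
  -- the fibre over `p` is nontrivial
  have hnt : Nontrivial (p.Fiber (Synt.RelGCIRing A n c F)) := by
    obtain ⟨qT, hqTp, hqT⟩ := exists_prime_away h q hh
    have : qT.LiesOver p := ⟨by
      rw [hpdef, ← hqT]
      ext r
      simp only [Ideal.under_def, Ideal.mem_comap]
      rw [IsScalarTower.algebraMap_apply A B (Localization.Away h)]⟩
    have hne : Nonempty (PrimeSpectrum (p.Fiber (Localization.Away h))) :=
      ⟨PrimeSpectrum.primesOverOrderIsoFiber A (Localization.Away h) p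
        ⟨qT, inferInstance, inferInstance⟩⟩
    have : Nontrivial (p.Fiber (Localization.Away h)) :=
      PrimeSpectrum.nonempty_iff_nontrivial.mp hne
    let E : p.Fiber (Localization.Away h) ≃ₐ[p.ResidueField] p.Fiber (Synt.RelGCIRing A n c F) :=
      Algebra.TensorProduct.congr AlgEquiv.refl e
    exact E.injective.nontrivial
  obtain ⟨hcn, hdim⟩ := hF ⟨p, inferInstance⟩ hnt
  have := hnt
  have hart : IsArtinianRing (p.Fiber (Synt.RelGCIRing A n c F)) := inferInstance
  have hK : Ring.KrullDimLE 0 (p.Fiber (Synt.RelGCIRing A n c F)) :=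
    ((isArtinianRing_iff_isNoetherianRing_krullDimLE_zero
      (R := p.Fiber (Synt.RelGCIRing A n c F))).mp hart).2
  have h0 : ringKrullDim (p.Fiber (Synt.RelGCIRing A n c F)) = 0 :=
    ringKrullDimZero_iff_ringKrullDim_eq_zero.mp hK
  rw [h0] at hdim
  have hnc : n - c = 0 := by
    have : ((n - c : ℕ) : WithBot ℕ∞) = ((0 : ℕ) : WithBot ℕ∞) := by
      rw [← hdim]; rfl
    exact_mod_cast this
  obtain rfl : c = n := by omega
  exact ⟨h, hh, c, F, ⟨e⟩⟩

end Groth.Agent.S2237
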