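import Mathlib
import Groth.Prelude.Def_RegImm
import Groth.Prelude.Def_Flat
import Groth.Agent.LibSyntHomProp29
import Groth.Agent.S2237
import Groth.Agent.S9147
import Groth.Agent.Lib.Helper3.FTFieldLocalDim
import Groth.Agent.LibSyntKey29
import Groth.Agent.LibRelGCIAway29

/-!
# Syntomic at a point: local structure; standard syntomic data (helper29)

(Two libraries were accidentally given this same file name; this file now contains both, so that the
dependents of either keep building.)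

Part 1 (section `LocalStructure`):
* `syntP_ι_comp_of_Q` : a syntomic affine chart `(U₀, V₀)` gives `SyntP (U₀.ι ≫ f)`.
* `Q_appLE_of_syntP_ι_comp` : `SyntP (W.ι ≫ f)` gives syntomic ring maps for all affine pairs
  `(U, V)` with `U ≤ W`.
* `exists_Q_appLE_of_isSyntomicAt` : syntomic at `x` ⇒ for every affine `V ∋ f x` there is an
  affine `U ∋ x`, `U ≤ f⁻¹ V` with `Γ(V) → Γ(U)` syntomic.
* `isSyntomicAt_iff_exists_standard`.

Part 2 (section `StdData`):
`exists_std_data`: if `R[x_1..x_n]/(G_1..G_m)` is syntomic over `R`, then for each prime `q` there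
are `f_1..f_c ∈ (G)`, `h ∉ q` with `h · (G) ⊆ (f)` such that `(f, h·x_{n+1} - 1)` is a relative
global complete intersection.  (Same proof as `LibSyntKey29.exists_away_relGCI`, keeping the given
presentation.)
-/

set_option autoImplicit false
set_option linter.style.haveILetI false
universe u

namespace Groth.Agent.LibSyntStd29

section LocalStructure

open AlgebraicGeometry CategoryTheory Groth.Agent.LibSyntHomProp29

variable {X S : Scheme.{u}} (f : X ⟶ S)

theorem syntP_resLE_iff (U : X.affineOpens) (V : S.affineOpens) (e : U.1 ≤ f ⁻¹ᵁ V.1) :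
    SyntP (f.resLE V.1 U.1 e) ↔ Q (f.appLE V.1 U.1 e).hom := by
  haveI : IsAffine (U.1 : Scheme.{u}) := U.2
  haveI : IsAffine (V.1 : Scheme.{u}) := V.2
  rw [HasRingHomProperty.iff_of_isAffine (P := SyntP)]
  exact propertyIsLocal.respectsIso.arrow_mk_iso_iff (arrowResLEAppIso f V.1 U.1 e)

theorem syntP_ι_comp_of_Q (U₀ : X.affineOpens) (V₀ : S.affineOpens) (e₀ : U₀.1 ≤ f ⁻¹ᵁ V₀.1)
    (h : Q (f.appLE V₀.1 U₀.1 e₀).hom) : SyntP (U₀.1.ι ≫ f) := by
  have h1 : SyntP (f.resLE V₀.1 U₀.1 e₀) := (syntP_resLE_iff f U₀ V₀ e₀).mpr h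
  have h2 := (HasRingHomProperty.respects_isOpenImmersion (P := SyntP)
    stableUnderCompositionWithLocalizationAwaySource).postcomp V₀.1.ι inferInstance _ h1
  rwa [Scheme.Hom.resLE_comp_ι] at h2

instance : SyntP.{u}.HasOfPostcompProperty @IsOpenImmersion :=
  hasOfPostcompProperty_isOpenImmersion_of_morphismRestrict SyntP
    (fun _ U hf => IsZariskiLocalAtTarget.restrict hf U)

theorem Q_appLE_of_syntP_ι_comp (W : X.Opens) (h : SyntP (W.ι ≫ f))
    (U : X.affineOpens) (V : S.affineOpens) (hUW : U.1 ≤ W) (e : U.1 ≤ f ⁻¹ᵁ V.1) :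
    Q (f.appLE V.1 U.1 e).hom := by
  rw [← syntP_resLE_iff]
  have h1 : SyntP (X.homOfLE hUW ≫ W.ι ≫ f) := IsZariskiLocalAtSource.comp h _
  rw [Scheme.homOfLE_ι_assoc, ← Scheme.Hom.resLE_comp_ι f e] at h1
  exact MorphismProperty.of_postcomp SyntP (W' := @IsOpenImmersion) _ V.1.ι inferInstance h1

/-- If `f` is syntomic at `x`, then for every affine open `V ∋ f x` there is an affine open
`U ∋ x` mapping into `V` with `Γ(V) → Γ(U)` syntomic. -/
theorem exists_Q_appLE_of_isSyntomicAt (x : X) (hx : Synt.IsSyntomicAt f x) (V : S.affineOpens)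
    (hV : f.base x ∈ V.1) :
    ∃ (U : X.affineOpens) (e : U.1 ≤ f ⁻¹ᵁ V.1), x ∈ U.1 ∧ Q (f.appLE V.1 U.1 e).hom := by
  obtain ⟨U₀, V₀, e₀, hxU₀, hQ₀⟩ := hx
  have hP : SyntP (U₀.1.ι ≫ f) := syntP_ι_comp_of_Q f U₀ V₀ e₀ hQ₀
  obtain ⟨U, hU, hxU, hUle⟩ := TopologicalSpace.Opens.isBasis_iff_nbhd.mp X.isBasis_affineOpens
    (show x ∈ U₀.1 ⊓ f ⁻¹ᵁ V.1 from ⟨hxU₀, hV⟩)
  exact ⟨⟨U, hU⟩, hUle.trans inf_le_right, hxU,
    Q_appLE_of_syntP_ι_comp f U₀.1 hP ⟨U, hU⟩ V (hUle.trans inf_le_left) _⟩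

/-- A standard syntomic morphism is syntomic (in the sense of `SyntP`). -/
theorem syntP_of_isStandardSyntomic {X' S' : Scheme.{u}} (g : X' ⟶ S')
    (hg : Synt.IsStandardSyntomic g) : SyntP g := by
  obtain ⟨R, _, n, c, F, hF, e₁, e₂, comm⟩ := hg
  have h1 : SyntP (Spec.map (CommRingCat.ofHom (algebraMap R (Synt.RelGCIRing R n c F)))) := by
    rw [HasRingHomProperty.Spec_iff (P := SyntP)]
    exact Q_algebraMap_iff.mpr (Groth.Agent.S9147.result R n c F hF)
  have h2 : g = e₁.hom ≫ Spec.map (CommRingCat.ofHom (algebraMap R (Synt.RelGCIRing R n c F))) ≫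
      e₂.inv := by
    rw [← Category.assoc, comm, Category.assoc, Iso.hom_inv_id, Category.comp_id]
  rw [h2, SyntP.cancel_left_of_respectsIso, SyntP.cancel_right_of_respectsIso]
  exact h1

/-- From a relative global complete intersection presentation of `Γ(X, U)` over `Γ(S, V)` we get
that `f.resLE V U e` is standard syntomic. -/
theorem isStandardSyntomic_resLE_of_algEquiv (U : X.affineOpens) (V : S.affineOpens)
    (e : U.1 ≤ f ⁻¹ᵁ V.1) (n c : ℕ) (F : Fin c → MvPolynomial (Fin n) Γ(S, V.1))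
    (hF : Synt.IsRelGCI Γ(S, V.1) n c F)
    (ε : letI := (f.appLE V.1 U.1 e).hom.toAlgebra
      Γ(X, U.1) ≃ₐ[Γ(S, V.1)] Synt.RelGCIRing Γ(S, V.1) n c F) :
    Synt.IsStandardSyntomic (f.resLE V.1 U.1 e) := by
  letI := (f.appLE V.1 U.1 e).hom.toAlgebra
  refine ⟨Γ(S, V.1), inferInstance, n, c, F, hF,
    U.2.isoSpec ≪≫ Scheme.Spec.mapIso (ε.symm.toRingEquiv.toCommRingCatIso).op, V.2.isoSpec, ?_⟩
  have hcomp : CommRingCat.ofHom (algebraMap Γ(S, V.1) (Synt.RelGCIRing Γ(S, V.1) n c F)) ≫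
      (ε.symm.toRingEquiv.toCommRingCatIso).hom = f.appLE V.1 U.1 e := by
    ext a
    change ε.symm (algebraMap Γ(S, V.1) (Synt.RelGCIRing Γ(S, V.1) n c F) a) = _
    rw [ε.symm.commutes]
    rfl
  simp only [Iso.trans_hom, Functor.mapIso_hom, Iso.op_hom, Scheme.Spec_map, Quiver.Hom.unop_op,
    Category.assoc, IsAffineOpen.isoSpec_hom]
  rw [← Spec.map_comp, hcomp, Scheme.Opens.toSpecΓ_SpecMap_appLE]

/-- A syntomic chart `(U₁, V)` around `x` can be shrunk to a basic open `D(h) ∋ x` of `U₁` whose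
coordinate ring is a relative global complete intersection over `Γ(S, V)`. -/
theorem exists_basicOpen_relGCI (U₁ : X.affineOpens) (V : S.affineOpens)
    (e₁ : U₁.1 ≤ f ⁻¹ᵁ V.1) (x : X) (hx : x ∈ U₁.1) (hQ : Q (f.appLE V.1 U₁.1 e₁).hom) :
    ∃ (h : Γ(X, U₁.1)), x ∈ X.basicOpen h ∧
      ∃ (n c : ℕ) (F : Fin c → MvPolynomial (Fin n) Γ(S, V.1)),
        Synt.IsRelGCI Γ(S, V.1) n c F ∧
        Nonempty (letI := (f.appLE V.1 (X.basicOpen h) ((X.basicOpen_le h).trans e₁)).hom.toAlgebra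
          Γ(X, X.basicOpen h) ≃ₐ[Γ(S, V.1)] Synt.RelGCIRing Γ(S, V.1) n c F) := by
  letI algB : Algebra Γ(S, V.1) Γ(X, U₁.1) := (f.appLE V.1 U₁.1 e₁).hom.toAlgebra
  haveI := (U₁.2.primeIdealOf ⟨x, hx⟩).isPrime
  obtain ⟨h, hq, n, c, F, hF, ⟨ε⟩⟩ := Groth.Agent.S2237.exists_away_relGCI_of_isSyntomic
    Γ(S, V.1) Γ(X, U₁.1) hQ (U₁.2.primeIdealOf ⟨x, hx⟩).asIdeal
  refine ⟨h, (Groth.Agent.Lib.helper3.FTField.mem_basicOpen_iff U₁.2 x hx h).mpr hq, n, c, F, hF, ?_⟩
  letI algB' : Algebra Γ(S, V.1) Γ(X, X.basicOpen h) :=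
    (f.appLE V.1 (X.basicOpen h) ((X.basicOpen_le h).trans e₁)).hom.toAlgebra
  haveI : IsLocalization.Away h Γ(X, X.basicOpen h) := U₁.2.isLocalization_basicOpen h
  haveI : IsScalarTower Γ(S, V.1) Γ(X, U₁.1) Γ(X, X.basicOpen h) := by
    refine IsScalarTower.of_algebraMap_eq' ?_
    change (f.appLE V.1 (X.basicOpen h) ((X.basicOpen_le h).trans e₁)).hom =
      (X.presheaf.map (homOfLE (X.basicOpen_le h)).op).hom.comp (f.appLE V.1 U₁.1 e₁).hom
    rw [← CommRingCat.hom_comp, Scheme.Hom.appLE_map]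
  let ε' : Γ(X, X.basicOpen h) ≃ₐ[Γ(S, V.1)] Localization.Away h :=
    (IsLocalization.algEquiv (Submonoid.powers h) Γ(X, X.basicOpen h)
      (Localization.Away h)).restrictScalars Γ(S, V.1)
  exact ⟨ε'.trans ε⟩

theorem isSyntomicAt_iff_exists_standard (x : X) (V : S.affineOpens) (hV : f.base x ∈ V.1) :
    Synt.IsSyntomicAt f x ↔
      ∃ (U : X.affineOpens) (e : U.1 ≤ f ⁻¹ᵁ V.1), x ∈ U.1 ∧
        Synt.IsStandardSyntomic (f.resLE V.1 U.1 e) := by
  constructor
  · intro hx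
    obtain ⟨U₁, e₁, hxU₁, hQ⟩ := exists_Q_appLE_of_isSyntomicAt f x hx V hV
    obtain ⟨h, hxh, n, c, F, hF, ⟨ε⟩⟩ := exists_basicOpen_relGCI f U₁ V e₁ x hxU₁ hQ
    exact ⟨⟨X.basicOpen h, U₁.2.basicOpen h⟩, (X.basicOpen_le h).trans e₁, hxh,
      isStandardSyntomic_resLE_of_algEquiv f ⟨X.basicOpen h, U₁.2.basicOpen h⟩ V _ n c F hF ε⟩
  · rintro ⟨U, e, hxU, hstd⟩
    exact ⟨U, V, e, hxU, (syntP_resLE_iff f U V e).mp (syntP_of_isStandardSyntomic _ hstd)⟩

end LocalStructure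

section StdData

open MvPolynomial RingTheory.Sequence IsLocalRing Groth.Agent.LibRelGCI29 TensorProduct
open Groth.Agent.LibSyntPres29 Groth.Agent.LibSyntLocal29 Groth.Agent.Lib.helper17.CIField
open Groth.Agent.LibSyntKey29 Groth.Agent.LibAwayPres29

theorem exists_std_data_aux (R T : Type u) [CommRing R] [CommRing T] [Algebra R T] (n m : ℕ)
    (G : Fin m → MvPolynomial (Fin n) R) (e : Synt.RelGCIRing R n m G ≃ₐ[R] T)
    (hsyn : Synt.IsSyntomic R T) (qT : Ideal T) [qT.IsPrime] :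
    ∃ (c : ℕ) (f : Fin c → MvPolynomial (Fin n) R) (h : MvPolynomial (Fin n) R),
      (∀ i, f i ∈ Ideal.span (Set.range G)) ∧
      e (Ideal.Quotient.mk (Ideal.span (Set.range G)) h) ∉ qT ∧
      (∀ b ∈ Ideal.span (Set.range G), h * b ∈ Ideal.span (Set.range f)) ∧
      Synt.IsRelGCI R (n + 1) (c + 1) (eqsPlus f h) := by
  obtain ⟨hfl, hfp, hfib⟩ := hsyn
  have := hfp
  have := hfl
  set p : Ideal R := qT.under R with hpdef
  have : p.IsPrime := Ideal.comap_isPrime _ _
  have : qT.LiesOver p := ⟨rfl⟩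
  set Q : PrimeSpectrum (p.Fiber T) :=
    PrimeSpectrum.primesOverOrderIsoFiber R T p ⟨qT, inferInstance, inferInstance⟩ with hQdef
  have hQ : Q.asIdeal.comap (Algebra.TensorProduct.includeRight.toRingHom) = qT := by
    have h1 := (PrimeSpectrum.primesOverOrderIsoFiber R T p).symm_apply_apply
      ⟨qT, inferInstance, inferInstance⟩
    have h2 := congrArg Subtype.val h1
    rw [← hQdef] at h2
    rw [PrimeSpectrum.coe_primesOverOrderIsoFiber_symm_apply] at h2
    exact h2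
  have hflat : Module.Flat R (Localization.AtPrime qT) :=
    Module.Flat.trans R T (Localization.AtPrime qT)
  have hci : Synt.IsCIOver p.ResidueField (Localization.AtPrime Q.asIdeal) :=
    isCIOver_atPrime_of_isLCIOver p.ResidueField (hfib ⟨p, inferInstance⟩) Q.asIdeal
  have hp : p = ((qT.comap (e : Synt.RelGCIRing R n m G →+* T)).comap
      (Ideal.Quotient.mk (Ideal.span (Set.range G)))).comap (C : R →+* MvPolynomial (Fin n) R) := by
    rw [Ideal.LiesOver.over (p := p) (P := qT)]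
    ext r
    have h1 : e (Ideal.Quotient.mk (Ideal.span (Set.range G)) (C r)) = algebraMap R T r := by
      have : Ideal.Quotient.mk (Ideal.span (Set.range G)) (C r) =
          algebraMap R (Synt.RelGCIRing R n m G) r := rfl
      rw [this, e.commutes]
    change algebraMap R T r ∈ qT ↔ e (Ideal.Quotient.mk (Ideal.span (Set.range G)) (C r)) ∈ qT
    rw [h1]
  have hIq : Ideal.span (Set.range G) ≤ (qT.comap (e : Synt.RelGCIRing R n m G →+* T)).comap
      (Ideal.Quotient.mk (Ideal.span (Set.range G))) := by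
    intro x hx
    rw [Ideal.mem_comap, Ideal.Quotient.eq_zero_iff_mem.mpr hx]
    exact Ideal.zero_mem _
  have hIfg : (Ideal.span (Set.range G)).FG := Submodule.fg_span (Set.finite_range G)
  have hflat' : Module.Flat R (Localization.AtPrime
      ((qT.comap (e : Synt.RelGCIRing R n m G →+* T)).comap
        (Ideal.Quotient.mk (Ideal.span (Set.range G)))) ⧸
      (Ideal.span (Set.range G)).map (algebraMap (MvPolynomial (Fin n) R) (Localization.AtPrime
        ((qT.comap (e : Synt.RelGCIRing R n m G →+* T)).comap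
          (Ideal.Quotient.mk (Ideal.span (Set.range G))))))) :=
    Module.Flat.of_linearEquiv
      ((locQuotEquiv (R := R) (Ideal.span (Set.range G))
        (qT.comap (e : Synt.RelGCIRing R n m G →+* T))).trans
        (atPrimeEquivOfAlgEquiv e qT)).toLinearEquiv
  have hci' := (isCIOver_fibre_iff R n m G e p qT hp Q.asIdeal hQ).mp hci
  obtain ⟨c', f, h, hfI, hhq, hmul, hcn, hdim⟩ :=
    exists_relGCI_nhd n (Ideal.span (Set.range G)) _ p hp hIfg hIq hflat' hci'
  exact ⟨c', f, h, hfI, hhq, hmul,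
    Groth.Agent.LibRelGCIAway29.isRelGCI_eqsPlus R n c' f hcn h hdim⟩

theorem exists_std_data (R : Type u) [CommRing R] (n m : ℕ) (G : Fin m → MvPolynomial (Fin n) R)
    (hsyn : Synt.IsSyntomic R (Synt.RelGCIRing R n m G))
    (q : PrimeSpectrum (Synt.RelGCIRing R n m G)) :
    ∃ (c : ℕ) (f : Fin c → MvPolynomial (Fin n) R) (h : MvPolynomial (Fin n) R),
      (∀ i, f i ∈ Ideal.span (Set.range G)) ∧
      Ideal.Quotient.mk (Ideal.span (Set.range G)) h ∉ q.asIdeal ∧
      (∀ b ∈ Ideal.span (Set.range G), h * b ∈ Ideal.span (Set.range f)) ∧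
      Synt.IsRelGCI R (n + 1) (c + 1) (eqsPlus f h) :=
  exists_std_data_aux R (Synt.RelGCIRing R n m G) n m G AlgEquiv.refl hsyn q.asIdeal

end StdData

end Groth.Agent.LibSyntStd29
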