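import Mathlib
import Groth.Prelude.Def_RegImm
import Groth.Agent.LibSyntStd29
import Groth.Agent.LibSyntSmoothQuot29

/-!
# Koszul at a point ⇒ syntomic at a point (for flat morphisms) (helper29)
-/

set_option autoImplicit false
set_option linter.style.haveILetI false
set_option linter.unusedSectionVars false
universe u

namespace Groth.Agent.LibKoszulSynt29

open AlgebraicGeometry CategoryTheory TopologicalSpace
open Groth.Agent.LibSyntHomProp29 Groth.Agent.LibSyntStd29 Groth.Agent.LibSyntSmoothQuot29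

section Transfer

variable {X S : Scheme.{u}} (f : X ⟶ S)

theorem isSyntomicAt_of_syntP_ι_comp (W : X.Opens) (h : SyntP (W.ι ≫ f)) (x : X) (hx : x ∈ W) :
    Synt.IsSyntomicAt f x := by
  obtain ⟨V, hV, hxV, -⟩ := Opens.isBasis_iff_nbhd.mp S.isBasis_affineOpens
    (Opens.mem_top (f.base x))
  obtain ⟨U, hU, hxU, hUle⟩ := Opens.isBasis_iff_nbhd.mp X.isBasis_affineOpens
    (show x ∈ W ⊓ f ⁻¹ᵁ V from ⟨hx, hxV⟩)
  exact ⟨⟨U, hU⟩, ⟨V, hV⟩, hUle.trans inf_le_right, hxU,
    Q_appLE_of_syntP_ι_comp f W h ⟨U, hU⟩ ⟨V, hV⟩ (hUle.trans inf_le_left) _⟩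

theorem isSyntomicAt_of_ι_comp (U : X.Opens) (z : U) (h : Synt.IsSyntomicAt (U.ι ≫ f) z) :
    Synt.IsSyntomicAt f z.1 := by
  obtain ⟨T, V, e, hzT, hQ⟩ := h
  have h1 : SyntP (T.1.ι ≫ U.ι ≫ f) := syntP_ι_comp_of_Q (U.ι ≫ f) T V e hQ
  have h2 : SyntP ((U.ι ''ᵁ T.1).ι ≫ f) := by
    rw [← Scheme.Hom.isoImage_hom_ι_assoc, SyntP.cancel_left_of_respectsIso] at h1
    exact h1
  exact isSyntomicAt_of_syntP_ι_comp f (U.ι ''ᵁ T.1) h2 z.1 ⟨z, hzT, rfl⟩

end Transfer

section Ring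

open Groth.Agent.Lib.helper17.H1Reg

theorem h1At_map_of_isLocalization {P₀ P₁ : Type u} [CommRing P₀] [CommRing P₁] [Algebra P₀ P₁]
    (M : Submonoid P₀) [IsLocalization M P₁] (l : List P₀) (hl : LCI.IsKoszulRegularSeq P₀ l)
    (r : Ideal P₁) [r.IsPrime] :
    H1At ((Ideal.ofList l).map (algebraMap P₀ P₁)) r := by
  have h1 := Groth.Agent.Lib.helper7.KoszulLow.isH1Regular_of_isKoszulRegularSeq _ l hl
  haveI : IsLocalization.AtPrime (Localization.AtPrime r) (r.comap (algebraMap P₀ P₁)) :=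
    IsLocalization.isLocalization_isLocalization_atPrime_isLocalization M
      (Localization.AtPrime r) r
  have h2 := isH1Regular_localization (S := Localization.AtPrime r)
    (r.comap (algebraMap P₀ P₁)).primeCompl l.get h1
  refine ⟨l.length, _, h2, ?_⟩
  rw [Ideal.map_map, ← IsScalarTower.algebraMap_eq, Ideal.ofList, Ideal.map_span]
  congr 1
  ext y
  constructor
  · rintro ⟨x, hx, rfl⟩
    obtain ⟨i, rfl⟩ := List.mem_iff_get.mp hx
    exact ⟨i, rfl⟩
  · rintro ⟨i, rfl⟩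
    exact ⟨l.get i, List.get_mem l i, rfl⟩

/-- ring-level core: `A → B` smooth with `B` a localization of `B₀`, `β : B → C` surjective with
kernel generated by (the image of) a Koszul-regular sequence of `B₀`, and `A → C` flat: then
`A → C` is syntomic. -/
theorem Q_comp_of_smooth_of_surjective {A B₀ B C : Type u} [CommRing A] [CommRing B₀] [CommRing B]
    [CommRing C] [Algebra B₀ B] (M : Submonoid B₀) [IsLocalization M B] (l : List B₀)
    (hl : LCI.IsKoszulRegularSeq B₀ l) (α : A →+* B) (hα : α.Smooth) (β : B →+* C)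
    (hβ : Function.Surjective β)
    (hker : RingHom.ker β = (Ideal.ofList l).map (algebraMap B₀ B))
    (hfl : (β.comp α).Flat) : Q (β.comp α) := by
  classical
  letI : Algebra A B := α.toAlgebra
  letI : Algebra A C := (β.comp α).toAlgebra
  haveI : Algebra.Smooth A B := hα
  let βₐ : B →ₐ[A] C := { β with commutes' := fun _ => rfl }
  have hβₐ : Function.Surjective βₐ := hβ
  have hJ : RingHom.ker βₐ = (Ideal.ofList l).map (algebraMap B₀ B) := by
    rw [← hker]; rfl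
  haveI : Module.Flat A C := hfl
  haveI : Module.Flat A (B ⧸ RingHom.ker βₐ) :=
    Module.Flat.of_linearEquiv (Ideal.quotientKerAlgEquivOfSurjective hβₐ).toLinearEquiv
  have hfg : (RingHom.ker βₐ).FG := by
    rw [hJ]
    exact Ideal.FG.map ⟨l.toFinset, by rw [Ideal.ofList]; congr 1; ext x; simp⟩ _
  have hsyn : Synt.IsSyntomic A (B ⧸ RingHom.ker βₐ) :=
    isSyntomic_quotient_of_h1At A B (RingHom.ker βₐ) hfg (fun r _ _ => by
      rw [hJ]; exact h1At_map_of_isLocalization M l hl r)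
  exact Groth.Agent.LibSyntTransport29.isSyntomic_of_algEquiv
    (Ideal.quotientKerAlgEquivOfSurjective hβₐ) hsyn

end Ring

section Scheme

theorem surjective_app_of_eq {Z P : Scheme.{u}} (i : Z ⟶ P) {O O' : P.Opens} (h : O = O')
    (hs : Function.Surjective (i.app O)) : Function.Surjective (i.app O') := by
  subst h; exact hs

/-- `Z → P → S` with `π : P → S` smooth, the composite flat and `i : Z → P` a Koszul-regular
immersion at `z`: then the composite is syntomic at `z`. -/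
theorem isSyntomicAt_comp_of_isRegularImmersionAt {Z P S : Scheme.{u}} (i : Z ⟶ P) (π : P ⟶ S)
    [Smooth π] [Flat (i ≫ π)] (z : Z) (hi : RegImm.IsRegularImmersionAt .koszul i z) :
    Synt.IsSyntomicAt (i ≫ π) z := by
  obtain ⟨W, hzW, hcl, rs, hrs, hker⟩ := hi
  have hrs' : LCI.IsKoszulRegularSeq Γ(P, W.1) rs := hrs
  haveI : IsAffine (W.1 : Scheme.{u}) := W.2
  have hiW : IsAffineOpen (i ⁻¹ᵁ W.1) := isAffine_of_isAffineHom (i ∣_ W.1)
  have hsurj : Function.Surjective (i.app W.1) := by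
    have h1 : Function.Surjective ((i ∣_ W.1).app ⊤) :=
      Scheme.Hom.app_surjective (i ∣_ W.1) ⊤ (isAffineOpen_top _)
    rw [morphismRestrict_app] at h1
    have h2 : Function.Surjective (i.app (W.1.ι ''ᵁ ⊤)) := by
      intro y
      obtain ⟨x, hx⟩ := h1 ((Z.presheaf.map (eqToHom
        (image_morphismRestrict_preimage i W.1 ⊤)).op) y)
      refine ⟨x, ?_⟩
      have hinj : Function.Injective (Z.presheaf.map (eqToHom
          (image_morphismRestrict_preimage i W.1 ⊤)).op) :=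
        (ConcreteCategory.bijective_of_isIso _).1
      exact hinj hx
    exact surjective_app_of_eq i (by simp) h2
  obtain ⟨V', hV', hzV', -⟩ := Opens.isBasis_iff_nbhd.mp S.isBasis_affineOpens
    (Opens.mem_top (π.base (i.base z)))
  obtain ⟨g, hgle, hzg⟩ := W.2.exists_basicOpen_le (V := W.1 ⊓ π ⁻¹ᵁ V')
    ⟨i.base z, ⟨hzW, hzV'⟩⟩ hzW
  set ψ := i.appLE W.1 (i ⁻¹ᵁ W.1) le_rfl with hψ
  have hψapp : ψ = i.app W.1 := Scheme.Hom.appLE_eq_app i
  let T : Z.Opens := Z.basicOpen (ψ g)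
  have hTeq : T = i ⁻¹ᵁ W.1 ⊓ i ⁻¹ᵁ (P.basicOpen g) := Scheme.basicOpen_appLE i _ _ _ g
  have hT : IsAffineOpen T := hiW.basicOpen _
  have hzT : z ∈ T := by rw [hTeq]; exact ⟨hzW, hzg⟩
  have eTW' : T ≤ i ⁻¹ᵁ P.basicOpen g := by rw [hTeq]; exact inf_le_right
  have eW'V' : P.basicOpen g ≤ π ⁻¹ᵁ V' := hgle.trans inf_le_right
  have eT : T ≤ (i ≫ π) ⁻¹ᵁ V' := eTW'.trans ((Opens.map i.base).map (homOfLE eW'V')).le
  refine ⟨⟨T, hT⟩, ⟨V', hV'⟩, eT, hzT, ?_⟩
  have hfac : (i ≫ π).appLE V' T eT =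
      π.appLE V' (P.basicOpen g) eW'V' ≫ i.appLE (P.basicOpen g) T eTW' :=
    (Scheme.Hom.appLE_comp_appLE i π V' (P.basicOpen g) T eW'V' eTW').symm
  change Q ((i ≫ π).appLE V' T eT).hom
  have hflat : ((i ≫ π).appLE V' T eT).hom.Flat :=
    HasRingHomProperty.appLE (P := @Flat) (i ≫ π) inferInstance ⟨V', hV'⟩ ⟨T, hT⟩ eT
  rw [hfac, CommRingCat.hom_comp] at hflat ⊢
  letI := W.2.isLocalization_basicOpen g
  letI := hiW.isLocalization_basicOpen (ψ g)
  have hβ : i.appLE (P.basicOpen g) T eTW' =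
      CommRingCat.ofHom (IsLocalization.Away.map Γ(P, P.basicOpen g) Γ(Z, T) ψ.hom g) :=
    IsAffineOpen.appLE_eq_away_map i W.2 hiW le_rfl g
  haveI : IsLocalization (Submonoid.map ψ.hom (Submonoid.powers g)) Γ(Z, T) := by
    rw [Submonoid.map_powers]
    exact hiW.isLocalization_basicOpen (ψ g)
  refine Q_comp_of_smooth_of_surjective (Submonoid.powers g) rs hrs' _ ?_ _ ?_ ?_ hflat
  · exact HasRingHomProperty.appLE (P := @Smooth) π inferInstance ⟨V', hV'⟩
      ⟨P.basicOpen g, W.2.basicOpen g⟩ eW'V'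
  · rw [hβ]
    exact IsLocalization.map_surjective_of_surjective (Submonoid.powers g) Γ(P, P.basicOpen g)
      Γ(Z, T) (g := ψ.hom) (by rw [hψapp]; exact hsurj)
  · rw [hβ, ← hker, ← hψapp]
    exact IsLocalization.ker_map Γ(Z, T) ψ.hom (Submonoid.map_powers ψ.hom g)
      (S := Γ(P, P.basicOpen g))

end Scheme

end Groth.Agent.LibKoszulSynt29
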