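import Mathlib
import Groth.Prelude.Def_RegImm
import Groth.Agent.LibKoszulLoc29c
import Groth.Agent.S9170
import Groth.Agent.LibSyntStd29

/-!
# Syntomic ⇒ Koszul at every point (helper29)
-/

set_option autoImplicit false
set_option linter.style.haveILetI false
set_option linter.unusedSectionVars false
universe u

namespace Groth.Agent.LibKoszulSynt29b

open AlgebraicGeometry CategoryTheory TopologicalSpace RingTheory.Sequence
open Groth.Agent.LibSyntHomProp29 Groth.Agent.LibSyntStd29

section Ring

/-- transport of local regularity to Koszul-regularity along a ring isomorphism. -/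
theorem isKoszulRegularSeq_map_ringEquiv_of_local {A A' : Type u} [CommRing A] [CommRing A']
    (e : A ≃+* A') (l : List A)
    (h : ∀ (q : Ideal A) [q.IsPrime], Ideal.ofList l ≤ q →
      IsWeaklyRegular (Localization.AtPrime q) (l.map (algebraMap A (Localization.AtPrime q)))) :
    LCI.IsKoszulRegularSeq A' (l.map e) := by
  apply Groth.Agent.LibKoszulLoc29.isKoszulRegularSeq_of_local
  intro m hm hle
  set q : Ideal A := m.comap (e : A →+* A') with hq
  haveI : q.IsPrime := Ideal.comap_isPrime _ _
  have hlq : Ideal.ofList l ≤ q := by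
    rw [Ideal.ofList, Ideal.span_le]
    intro x hx
    change e x ∈ m
    exact hle (Ideal.subset_span (List.mem_map.mpr ⟨x, hx, rfl⟩))
  have h1 := h q hlq
  let ê : Localization.AtPrime q ≃+* Localization.AtPrime m := Localization.localRingEquiv q m e rfl
  have h2 : ((l.map (algebraMap A (Localization.AtPrime q))).map ê) =
      (l.map e).map (algebraMap A' (Localization.AtPrime m)) := by
    rw [List.map_map, List.map_map]
    apply List.map_congr_left
    intro x _
    simp only [Function.comp_apply]
    exact Localization.localRingHom_to_map q m (e : A →+* A') rfl x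
  rw [← h2]
  exact (ê.toAddEquiv.isWeaklyRegular_congr <| List.forall₂_map_right_iff.mpr <|
    List.forall₂_same.mpr fun r _ x => map_mul ê r x).mp h1

end Ring

section Scheme

variable (R : Type u) [CommRing R] (n c : ℕ) (F : Fin c → MvPolynomial (Fin n) R)

/-- the closed immersion `Spec R[x]/(F) → Spec R[x]`. -/
noncomputable abbrev jmap :
    Spec (CommRingCat.of (Synt.RelGCIRing R n c F)) ⟶ Spec (CommRingCat.of (MvPolynomial (Fin n) R)) :=
  Spec.map (CommRingCat.ofHom (Ideal.Quotient.mk (Ideal.span (Set.range F))))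

/-- the transported list of equations in `Γ(Spec R[x], ⊤)`. -/
noncomputable abbrev eqs : List Γ(Spec (CommRingCat.of (MvPolynomial (Fin n) R)), ⊤) :=
  (List.ofFn F).map (Scheme.ΓSpecIso (CommRingCat.of (MvPolynomial (Fin n) R))).symm.commRingCatIsoToRingEquiv

theorem isKoszulRegularSeq_eqs (hF : Synt.IsRelGCI R n c F) :
    LCI.IsKoszulRegularSeq Γ(Spec (CommRingCat.of (MvPolynomial (Fin n) R)), ⊤) (eqs R n c F) := by
  apply isKoszulRegularSeq_map_ringEquiv_of_local
  intro q hq hle
  have hle' : Ideal.span (Set.range F) ≤ q := by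
    rw [Ideal.ofList] at hle
    refine le_trans ?_ hle
    apply Ideal.span_mono
    rintro _ ⟨i, rfl⟩
    simp [List.mem_ofFn]
  exact ((Groth.Agent.S9170.result R n c F hF q hle').1).toIsWeaklyRegular

theorem ker_jmap_appTop :
    RingHom.ker ((jmap R n c F).app ⊤).hom = Ideal.ofList (eqs R n c F) := by
  set e : MvPolynomial (Fin n) R ≃+* Γ(Spec (CommRingCat.of (MvPolynomial (Fin n) R)), ⊤) :=
    (Scheme.ΓSpecIso (CommRingCat.of (MvPolynomial (Fin n) R))).symm.commRingCatIsoToRingEquiv
    with he
  have h1 : Ideal.ofList (eqs R n c F) =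
      (Ideal.span (Set.range F)).map (e : MvPolynomial (Fin n) R →+* _) := by
    rw [Ideal.map_span, Ideal.ofList]
    congr 1
    ext y
    simp only [Set.mem_ofPred_eq, List.mem_map, List.mem_ofFn, Set.mem_image, Set.mem_range]
    constructor
    · rintro ⟨_, ⟨i, rfl⟩, rfl⟩
      exact ⟨F i, ⟨i, rfl⟩, rfl⟩
    · rintro ⟨_, ⟨i, rfl⟩, rfl⟩
      exact ⟨F i, ⟨i, rfl⟩, rfl⟩
  rw [h1]
  ext y
  rw [RingHom.mem_ker]
  have hnat := Scheme.ΓSpecIso_naturality
    (CommRingCat.ofHom (Ideal.Quotient.mk (Ideal.span (Set.range F))))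
  have h2 : (Scheme.ΓSpecIso (CommRingCat.of (Synt.RelGCIRing R n c F))).hom
      (((jmap R n c F).app ⊤) y) =
      Ideal.Quotient.mk (Ideal.span (Set.range F))
        ((Scheme.ΓSpecIso (CommRingCat.of (MvPolynomial (Fin n) R))).hom y) :=
    congr($(hnat) y)
  have hinj : Function.Injective
      (Scheme.ΓSpecIso (CommRingCat.of (Synt.RelGCIRing R n c F))).hom :=
    (ConcreteCategory.bijective_of_isIso _).1
  have hy : e ((Scheme.ΓSpecIso (CommRingCat.of (MvPolynomial (Fin n) R))).hom y) = y := by
    change (Scheme.ΓSpecIso _).inv ((Scheme.ΓSpecIso _).hom y) = y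
    simp
  constructor
  · intro h0
    rw [← hy]
    apply Ideal.mem_map_of_mem
    rw [← Ideal.Quotient.eq_zero_iff_mem, ← h2]
    change (Scheme.ΓSpecIso _).hom (((jmap R n c F).app ⊤).hom y) = 0
    rw [h0]
    exact map_zero _
  · intro hmem
    have hmem' : (Scheme.ΓSpecIso (CommRingCat.of (MvPolynomial (Fin n) R))).hom y ∈
        Ideal.span (Set.range F) := by
      have h3 : e.symm y = (Scheme.ΓSpecIso (CommRingCat.of (MvPolynomial (Fin n) R))).hom y := by
        apply e.injective
        rw [hy]
        simp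
      rw [← h3]
      have := (Ideal.mem_map_of_equiv e (I := Ideal.span (Set.range F)) y).mp hmem
      obtain ⟨x, hx, rfl⟩ := this
      simpa using hx
    apply hinj
    change (Scheme.ΓSpecIso _).hom (((jmap R n c F).app ⊤) y) = _
    rw [h2, Ideal.Quotient.eq_zero_iff_mem.mpr hmem']
    exact (map_zero _).symm

end Scheme

end Groth.Agent.LibKoszulSynt29b
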