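import Groth.Statements.S9758
import Groth.Agent.LibKoszulSynt29
import Groth.Agent.LibKoszulSynt29b
-- import your own Groth.Agent.* helpers here

set_option autoImplicit false
universe u
open FlatMor

namespace Groth.Agent.S9758

open AlgebraicGeometry CategoryTheory Limits
open Groth.Agent.LibSyntHomProp29 Groth.Agent.LibSyntStd29 Groth.Agent.LibKoszulSynt29
  Groth.Agent.LibKoszulSynt29b

theorem flat_of_isSyntomicMor {X S : Scheme.{u}} (f : X ⟶ S) (hf : Synt.IsSyntomicMor f) :
    Flat f := by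
  rw [HasRingHomProperty.iff_exists_appLE (P := @Flat)
    (RingHom.Flat.stableUnderComposition.stableUnderCompositionWithLocalizationAway
      RingHom.Flat.holdsForLocalizationAway).1]
  intro x
  obtain ⟨U, V, e, hxU, hsyn⟩ := hf x
  exact ⟨V, U, hxU, e, hsyn.1⟩

theorem smooth_specMap_C (R : Type u) [CommRing R] (n : ℕ) :
    Smooth (Spec.map (CommRingCat.ofHom (MvPolynomial.C : R →+* MvPolynomial (Fin n) R))) := by
  rw [HasRingHomProperty.Spec_iff (P := @Smooth)]
  change (algebraMap R (MvPolynomial (Fin n) R)).Smooth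
  rw [RingHom.smooth_algebraMap]
  have : Algebra.FinitePresentation R (MvPolynomial (Fin n) R) :=
    Algebra.FinitePresentation.mvPolynomial_of_finitePresentation (Fin n)
  exact {}

theorem isRegularImmersionAt_comp_jmap {U : Scheme.{u}} (R : Type u) [CommRing R] (n c : ℕ)
    (F : Fin c → MvPolynomial (Fin n) R) (hF : Synt.IsRelGCI R n c F)
    (e₁ : U ≅ Spec (CommRingCat.of (Synt.RelGCIRing R n c F))) (z : U) :
    RegImm.IsRegularImmersionAt .koszul (e₁.hom ≫ jmap R n c F) z := by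
  refine ⟨⟨⊤, isAffineOpen_top _⟩, trivial, ?_, eqs R n c F, isKoszulRegularSeq_eqs R n c F hF, ?_⟩
  · have : IsClosedImmersion (jmap R n c F) :=
      IsClosedImmersion.spec_of_surjective _ Ideal.Quotient.mk_surjective
    infer_instance
  · rw [← ker_jmap_appTop, Scheme.Hom.comp_app]
    change RingHom.ker ((e₁.hom.app (jmap R n c F ⁻¹ᵁ ⊤)).hom.comp ((jmap R n c F).app ⊤).hom) = _
    apply RingHom.ker_comp_of_injective
    exact (ConcreteCategory.bijective_of_isIso (e₁.hom.app (jmap R n c F ⁻¹ᵁ ⊤))).1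

theorem isKoszulAt_of_isSyntomicAt {X S : Scheme.{u}} (f : X ⟶ S) (x : X)
    (hx : Synt.IsSyntomicAt f x) : Synt.IsKoszulAt f x := by
  obtain ⟨V, hV, hxV, -⟩ := TopologicalSpace.Opens.isBasis_iff_nbhd.mp S.isBasis_affineOpens
    (show f.base x ∈ (⊤ : S.Opens) from trivial)
  obtain ⟨U, e, hxU, R, _, n, c, F, hF, e₁, e₂, comm⟩ :=
    (isSyntomicAt_iff_exists_standard f x ⟨V, hV⟩ hxV).mp hx
  have : IsClosedImmersion (jmap R n c F) :=
    IsClosedImmersion.spec_of_surjective _ Ideal.Quotient.mk_surjective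
  have := smooth_specMap_C R n
  let i : (U.1 : Scheme.{u}) ⟶ Spec (CommRingCat.of (MvPolynomial (Fin n) R)) :=
    e₁.hom ≫ jmap R n c F
  let π : Spec (CommRingCat.of (MvPolynomial (Fin n) R)) ⟶ S :=
    Spec.map (CommRingCat.ofHom (MvPolynomial.C : R →+* MvPolynomial (Fin n) R)) ≫ e₂.inv ≫ Scheme.Opens.ι V
  have hfac : i ≫ π = U.1.ι ≫ f := by
    have h1 : jmap R n c F ≫
        Spec.map (CommRingCat.ofHom (MvPolynomial.C : R →+* MvPolynomial (Fin n) R)) =
        Spec.map (CommRingCat.ofHom (algebraMap R (Synt.RelGCIRing R n c F))) := by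
      rw [← Spec.map_comp]
      rfl
    change (e₁.hom ≫ jmap R n c F) ≫ Spec.map _ ≫ e₂.inv ≫ Scheme.Opens.ι V = _
    rw [Category.assoc, reassoc_of% h1, reassoc_of% comm, Iso.hom_inv_id_assoc]
    exact Scheme.Hom.resLE_comp_ι f e
  have : IsClosedImmersion i := inferInstanceAs (IsClosedImmersion (e₁.hom ≫ jmap R n c F))
  have : Smooth π := inferInstanceAs (Smooth (Spec.map _ ≫ e₂.inv ≫ Scheme.Opens.ι V))
  refine ⟨U.1, Spec (CommRingCat.of (MvPolynomial (Fin n) R)), i, π, hxU, ?_, ⟨inferInstance, ?_⟩,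
    inferInstance, hfac⟩
  · rw [← hfac]
    infer_instance
  · intro z
    exact isRegularImmersionAt_comp_jmap R n c F hF e₁ z


open AlgebraicGeometry CategoryTheory Limits in
/-- A morphism of schemes f : X ⟶ S is flat and a local complete intersection morphism (Koszul at every
point) if and only if it is syntomic. -/
theorem result {X S : Scheme.{u}} (f : X ⟶ S) :
    (Flat f ∧ ∀ x : X, Synt.IsKoszulAt f x) ↔ Synt.IsSyntomicMor f := by
  constructor
  · rintro ⟨hfl, h⟩ x
    obtain ⟨U, P, i, π, hxU, hlft, ⟨himm, hreg⟩, hπ, hfac⟩ := h x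
    have : Smooth π := hπ
    have : Flat (i ≫ π) := by rw [hfac]; infer_instance
    have h1 := isSyntomicAt_comp_of_isRegularImmersionAt i π ⟨x, hxU⟩ (hreg _)
    rw [hfac] at h1
    exact isSyntomicAt_of_ι_comp f U ⟨x, hxU⟩ h1
  · intro hf
    exact ⟨flat_of_isSyntomicMor f hf, fun x => isKoszulAt_of_isSyntomicAt f x (hf x)⟩

end Groth.Agent.S9758
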