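import Groth.Agent.LibLciSrcRingB29
import Groth.Agent.LibSyntSrcFT29
import Groth.Agent.LibSyntStd29
import Groth.Agent.S9758

/-!
# Local complete intersection morphisms are syntomic local on the source (helper29)

* `isLCI_of_algEquiv`: transport of `LCI.IsLCI` along an algebra isomorphism.
* `exists_basicOpen_of_ring_statement`: chart plumbing — a ring-level statement about
  `R → A → B = A[y]/(F)` with `R → B` lci produces a basic open neighbourhood of a point.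
* `isKoszulAt_of_comp_syntomic`: if `g : X' ⟶ X` is syntomic and surjective and `g ≫ f` is Koszul
  at every point then `f` is Koszul at every point.
-/

set_option autoImplicit false
set_option linter.style.haveILetI false
universe u

namespace Groth.Agent.LibLciSrcSch29

open AlgebraicGeometry CategoryTheory Groth.Agent.LibSyntHomProp29 Groth.Agent.LibSyntStd29
  Groth.Agent.LibLCIBridge29

/-- transport of `IsLCI` along an algebra isomorphism -/
theorem isLCI_of_algEquiv {R B B' : Type u} [CommRing R] [CommRing B] [CommRing B'] [Algebra R B]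
    [Algebra R B'] (e : B ≃ₐ[R] B') (h : LCI.IsLCI R B) : LCI.IsLCI R B' := by
  obtain ⟨hft, n, f, hf, hK⟩ := h
  refine ⟨hft.equiv e, n, (e : B →ₐ[R] B').comp f, e.surjective.comp hf, ?_⟩
  have : RingHom.ker ((e : B →ₐ[R] B').comp f).toRingHom = RingHom.ker f.toRingHom := by
    ext x
    simp only [RingHom.mem_ker]
    change e (f x) = 0 ↔ f x = 0
    exact map_eq_zero_iff e e.injective
  rw [this]
  exact hK

section Round

variable {X' X Y : Scheme.{u}} (g : X' ⟶ X) (f : X ⟶ Y)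

theorem exists_basicOpen_of_ring_statement (hg : Synt.IsSyntomicMor g)
    (hgf : ∀ x' : X', Synt.IsKoszulAt (g ≫ f) x') (x' : X')
    (U : X.affineOpens) (V : Y.affineOpens) (e : U.1 ≤ f ⁻¹ᵁ V.1) (hxU : g x' ∈ U.1)
    (Φ : ∀ (A' : Type u) [CommRing A'] [Algebra Γ(Y, V.1) A'], Prop)
    (hΦiso : ∀ (A' A'' : Type u) [CommRing A'] [CommRing A''] [Algebra Γ(Y, V.1) A']
      [Algebra Γ(Y, V.1) A''], (A' ≃ₐ[Γ(Y, V.1)] A'') → Φ A' → Φ A'')
    (hring : letI := (f.appLE V.1 U.1 e).hom.toAlgebra;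
      ∀ (B : Type u) [CommRing B] [Algebra Γ(X, U.1) B] [Algebra Γ(Y, V.1) B]
        [IsScalarTower Γ(Y, V.1) Γ(X, U.1) B] (m c : ℕ)
        (F : Fin c → MvPolynomial (Fin m) Γ(X, U.1)), Synt.IsRelGCI Γ(X, U.1) m c F →
        (B ≃ₐ[Γ(X, U.1)] Synt.RelGCIRing Γ(X, U.1) m c F) → LCI.IsLCI Γ(Y, V.1) B →
        ∀ (𝔮 : Ideal B) [𝔮.IsPrime], ∃ a : Γ(X, U.1), algebraMap Γ(X, U.1) B a ∉ 𝔮 ∧
          Φ (Localization.Away a)) :
    ∃ a : Γ(X, U.1), g x' ∈ X.basicOpen a ∧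
      (letI := (f.appLE V.1 (X.basicOpen a) ((X.basicOpen_le a).trans e)).hom.toAlgebra;
        Φ Γ(X, X.basicOpen a)) := by
  obtain ⟨U'₁, e₁, hx'U'₁, hQ⟩ := exists_Q_appLE_of_isSyntomicAt g x' (hg x') U hxU
  obtain ⟨h, hx'h, m, c, F, hF, ⟨ε⟩⟩ := exists_basicOpen_relGCI g U'₁ U e₁ x' hx'U'₁ hQ
  have hU' : IsAffineOpen (X'.basicOpen h) := U'₁.2.basicOpen h
  have e' : X'.basicOpen h ≤ g ⁻¹ᵁ U.1 := (X'.basicOpen_le h).trans e₁
  have egf : X'.basicOpen h ≤ (g ≫ f) ⁻¹ᵁ V.1 := fun z hz => e (e' hz)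
  letI algA : Algebra Γ(Y, V.1) Γ(X, U.1) := (f.appLE V.1 U.1 e).hom.toAlgebra
  letI algB : Algebra Γ(X, U.1) Γ(X', X'.basicOpen h) :=
    (g.appLE U.1 (X'.basicOpen h) e').hom.toAlgebra
  letI algRB : Algebra Γ(Y, V.1) Γ(X', X'.basicOpen h) :=
    ((g ≫ f).appLE V.1 (X'.basicOpen h) egf).hom.toAlgebra
  haveI : IsScalarTower Γ(Y, V.1) Γ(X, U.1) Γ(X', X'.basicOpen h) := by
    refine IsScalarTower.of_algebraMap_eq' ?_
    change ((g ≫ f).appLE V.1 (X'.basicOpen h) egf).hom =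
      (g.appLE U.1 (X'.basicOpen h) e').hom.comp (f.appLE V.1 U.1 e).hom
    rw [← CommRingCat.hom_comp, Scheme.Hom.appLE_comp_appLE]
  have hL : LCI.IsLCI Γ(Y, V.1) Γ(X', X'.basicOpen h) :=
    isLCI_appLE_of_isKoszulAt (g ≫ f) (X'.basicOpen h) V.1 hU' V.2 egf (fun z _ => hgf z)
  haveI := (hU'.primeIdealOf ⟨x', hx'h⟩).isPrime
  obtain ⟨a, ha, hΦ⟩ := hring Γ(X', X'.basicOpen h) m c F hF ε hL
    (hU'.primeIdealOf ⟨x', hx'h⟩).asIdeal
  refine ⟨a, ?_, ?_⟩
  · have h1 : x' ∈ X'.basicOpen (g.appLE U.1 (X'.basicOpen h) e' a) :=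
      (Groth.Agent.Lib.helper3.FTField.mem_basicOpen_iff hU' x' hx'h _).2 ha
    rw [Scheme.basicOpen_appLE] at h1
    exact h1.2
  · letI algA' : Algebra Γ(Y, V.1) Γ(X, X.basicOpen a) :=
      (f.appLE V.1 (X.basicOpen a) ((X.basicOpen_le a).trans e)).hom.toAlgebra
    haveI : IsLocalization.Away a Γ(X, X.basicOpen a) := U.2.isLocalization_basicOpen a
    haveI : IsScalarTower Γ(Y, V.1) Γ(X, U.1) Γ(X, X.basicOpen a) := by
      refine IsScalarTower.of_algebraMap_eq' ?_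
      change (f.appLE V.1 (X.basicOpen a) ((X.basicOpen_le a).trans e)).hom =
        (X.presheaf.map (homOfLE (X.basicOpen_le a)).op).hom.comp (f.appLE V.1 U.1 e).hom
      rw [← CommRingCat.hom_comp, Scheme.Hom.appLE_map]
    exact hΦiso _ _ ((IsLocalization.algEquiv (Submonoid.powers a) (Localization.Away a)
      Γ(X, X.basicOpen a)).restrictScalars Γ(Y, V.1)) hΦ

/-- **Local complete intersection morphisms are syntomic local on the source.** -/
theorem isKoszulAt_of_comp_syntomic (hg : Synt.IsSyntomicMor g) [Surjective g]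
    (hgf : ∀ x' : X', Synt.IsKoszulAt (g ≫ f) x') (x : X) : Synt.IsKoszulAt f x := by
  obtain ⟨x', rfl⟩ := g.surjective x
  obtain ⟨V, hV, hxV, -⟩ := TopologicalSpace.Opens.isBasis_iff_nbhd.mp Y.isBasis_affineOpens
    (show f (g x') ∈ (⊤ : Y.Opens) from trivial)
  obtain ⟨U, hU, hxU, hUle⟩ := TopologicalSpace.Opens.isBasis_iff_nbhd.mp X.isBasis_affineOpens
    (show g x' ∈ f ⁻¹ᵁ V from hxV)
  -- round 1: finite type
  obtain ⟨a₁, hx₁, hft₁⟩ := exists_basicOpen_of_ring_statement g f hg hgf x' ⟨U, hU⟩ ⟨V, hV⟩ hUle hxU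
    (fun A' _ _ => Algebra.FiniteType Γ(Y, V) A') (fun _ _ _ _ _ _ e h => h.equiv e) (by
      letI := (f.appLE V U hUle).hom.toAlgebra
      intro B _ _ _ _ m c F hF ε hL 𝔮 _
      have hft : Algebra.FiniteType Γ(Y, V) (Synt.RelGCIRing Γ(X, U) m c F) :=
        hL.1.equiv (ε.restrictScalars Γ(Y, V))
      haveI : (𝔮.comap (ε.symm : Synt.RelGCIRing Γ(X, U) m c F →+* B)).IsPrime :=
        Ideal.comap_isPrime _ _
      obtain ⟨a, ha, h⟩ := Groth.Agent.LibSyntSrcFT29.exists_away_finiteType_of_relGCI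
        Γ(Y, V) Γ(X, U) m c F hF hft (𝔮.comap (ε.symm : Synt.RelGCIRing Γ(X, U) m c F →+* B))
      refine ⟨a, fun hmem => ha ?_, h⟩
      rw [Ideal.mem_comap]
      change ε.symm (algebraMap Γ(X, U) _ a) ∈ 𝔮
      rw [ε.symm.commutes]
      exact hmem)
  -- round 2: lci
  have hU₂ : IsAffineOpen (X.basicOpen a₁) := hU.basicOpen a₁
  have e₂ : X.basicOpen a₁ ≤ f ⁻¹ᵁ V := (X.basicOpen_le a₁).trans hUle
  obtain ⟨a₂, hx₂, hlci⟩ := exists_basicOpen_of_ring_statement g f hg hgf x'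
    ⟨X.basicOpen a₁, hU₂⟩ ⟨V, hV⟩ e₂ hx₁
    (fun A' _ _ => LCI.IsLCI Γ(Y, V) A') (fun _ _ _ _ _ _ e h => isLCI_of_algEquiv e h) (by
      letI := (f.appLE V (X.basicOpen a₁) e₂).hom.toAlgebra
      intro B _ _ _ _ m c F hF ε hL 𝔮 _
      exact Groth.Agent.LibLciSrcRingB29.exists_away_isLCI_of_relGCI Γ(Y, V)
        Γ(X, X.basicOpen a₁) B m c F hF ε hft₁ hL 𝔮)
  exact isKoszulAt_of_isLCI_appLE f (X.basicOpen a₂) V (hU₂.basicOpen a₂) hV _ hlci (g x') hx₂

end Round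

end Groth.Agent.LibLciSrcSch29
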