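import Groth.Agent.LibAlgSpLci29
import Groth.Agent.LibAlgSpLocPFlatBC29
import Groth.Agent.Lib.Helper5.AlgSpFpqcIso
import Groth.Agent.S9729
import Groth.Agent.S9730
import Groth.Agent.S9758

/-!
# `AlgSp.IsLCIMor` is fpqc local on the base (helper29)
-/

set_option autoImplicit false
universe u
open CategoryTheory CategoryTheory.Limits AlgebraicGeometry MorphismProperty
open AlgSp

namespace Groth.Agent.LibAlgSpLciFpqc29

open Groth.Agent.LibAlgSpLci29 Groth.Agent.LibAlgSpLocPFlatBC29 Groth.Agent.Lib.helper5.LocPBC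

/-- `AlgSp.lci` satisfies the hypotheses for flat base change of `LocP`. -/
theorem lci_locPFlatData : LocPFlatData (AlgSp.lci : MorphismProperty Scheme.{u}) where
  flatBaseChange sq hg hf := by
    haveI := hg
    exact lci_of_isPullback_of_flat sq hf
  pre e g he hg := by
    haveI := he
    exact lci_comp e g (lci_of_smooth e) hg
  post k e hk he := by
    haveI := he
    exact lci_comp k e hk (lci_of_smooth e)
  cancel k b hb h := fun x => by
    haveI := hb
    exact Groth.Agent.S9729.result k b h x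
  descend f g hf hfs h := by
    haveI := hf
    haveI := hfs
    have hsyn : Synt.IsSyntomicMor f :=
      (Groth.Agent.S9758.result f).1 ⟨inferInstance, lci_of_smooth f⟩
    exact (Groth.Agent.S9730.result f hsyn g).1 h

/-- fpqc descent along a finite family of flat morphisms from quasi-compact schemes to an affine
scheme (after helper5's `of_finite_flat_family`). -/
theorem of_finite_flat_family_compact (P : MorphismProperty Scheme.{u})
    [P.DescendsAlong (@Surjective ⊓ @Flat ⊓ @QuasiCompact)] [IsZariskiLocalAtTarget P]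
    {A Z : Scheme.{u}} [IsAffine Z] (g : A ⟶ Z) {m : ℕ} (W : Fin m → Scheme.{u})
    (c : ∀ j, W j ⟶ Z) [∀ j, CompactSpace (W j)] [∀ j, Flat (c j)]
    (hsurj : ∀ z : Z, ∃ j, z ∈ Set.range (c j))
    (T : Fin m → Scheme.{u}) (fst : ∀ j, T j ⟶ A) (snd : ∀ j, T j ⟶ W j)
    (sq : ∀ j, IsPullback (fst j) (snd j) g (c j)) (h : ∀ j, P (snd j)) : P g := by
  let c' : ∐ W ⟶ Z := Sigma.desc c
  have hfs : Surjective c' := by
    refine ⟨fun z => ?_⟩
    obtain ⟨j, w, hw⟩ := hsurj z
    refine ⟨Sigma.ι W j w, ?_⟩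
    rw [← Scheme.Hom.comp_apply, Sigma.ι_desc, hw]
  have hcpt : CompactSpace ↥(∐ W) := by
    haveI : Finite (sigmaOpenCover W).I₀ := inferInstanceAs (Finite (Fin m))
    haveI : ∀ i, CompactSpace ((sigmaOpenCover W).X i) := fun i =>
      inferInstanceAs (CompactSpace (W i))
    exact (sigmaOpenCover W).compactSpace
  have hqc : QuasiCompact c' := (quasiCompact_iff_compactSpace c').2 hcpt
  have hQ : (@Surjective ⊓ @Flat ⊓ @QuasiCompact : MorphismProperty Scheme.{u}) c' :=
    ⟨⟨hfs, inferInstance⟩, hqc⟩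
  refine MorphismProperty.of_pullback_snd_of_descendsAlong (P := P)
    (Q := @Surjective ⊓ @Flat ⊓ @QuasiCompact) (f := g) (g := c') hQ ?_
  rw [IsZariskiLocalAtTarget.iff_of_openCover (P := P) (sigmaOpenCover W)]
  intro j
  have s1 : IsPullback (pullback.snd (pullback.snd g c') (Sigma.ι W j))
      (pullback.fst (pullback.snd g c') (Sigma.ι W j)) (Sigma.ι W j) (pullback.snd g c') :=
    (IsPullback.of_hasPullback _ _).flip
  have s2 : IsPullback (pullback.snd g c') (pullback.fst g c') c' g :=
    (IsPullback.of_hasPullback _ _).flip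
  have s3 := (s1.paste_vert s2).flip
  have hc' : Sigma.ι W j ≫ c' = c j := Sigma.ι_desc _ _
  rw [hc'] at s3
  have e := IsPullback.isoIsPullback_hom_snd _ _ s3 (sq j)
  change P (pullback.snd (pullback.snd g c') (Sigma.ι W j))
  rw [← e]
  exact (P.cancel_left_of_respectsIso _ _).2 (h j)

/-- a quasi-compact open through which a given map passes, up to an open surjection. -/
theorem exists_compact_open {W' W T' : Scheme.{u}} [CompactSpace W] (r : W' ⟶ W)
    (hr : IsOpenMap r) [Surjective r] (v : W' ⟶ T') :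
    ∃ O : T'.Opens, IsCompact (O : Set T') ∧ ∀ w : W, ∃ w' : W', r w' = w ∧ v w' ∈ O := by
  obtain ⟨t, ht⟩ := isCompact_univ.elim_finite_subcover
    (fun O : T'.affineOpens => r '' (v ⁻¹' (O.1 : Set T')))
    (fun O => hr _ (O.1.isOpen.preimage v.continuous)) (by
      intro w _
      obtain ⟨w', rfl⟩ := r.surjective w
      obtain ⟨O, hO, hwO, -⟩ := TopologicalSpace.Opens.isBasis_iff_nbhd.mp T'.isBasis_affineOpens
        (show v w' ∈ (⊤ : T'.Opens) from trivial)
      exact Set.mem_iUnion.2 ⟨⟨O, hO⟩, w', hwO, rfl⟩)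
  refine ⟨⨆ O ∈ t, (O : T'.affineOpens).1, ?_, ?_⟩
  · have : ((⨆ O ∈ t, (O : T'.affineOpens).1 : T'.Opens) : Set T') =
        ⋃ O ∈ t, ((O : T'.affineOpens).1 : Set T') := by
      simp
    rw [this]
    exact t.isCompact_biUnion (fun O _ => O.2.isCompact)
  · intro w
    have := ht (Set.mem_univ w)
    simp only [Set.mem_iUnion] at this
    obtain ⟨O, hOt, w', hw'O, rfl⟩ := this
    refine ⟨w', rfl, ?_⟩
    simp only [TopologicalSpace.Opens.mem_iSup]
    exact ⟨O, hOt, hw'O⟩

variable {S : Scheme.{u}}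

/-- a flat chart with quasi-compact source through which a given lift factors on points. -/
theorem exists_compact_chart {Y Yi : Sp S} (g : Yi ⟶ Y) (hYi : IsAlgSpace Yi)
    {V W : Over S} (b : (yon S).obj V ⟶ Y) (hb : RepWith @Etale b) (hg : LocP @Flat g)
    (c : W ⟶ V) [CompactSpace W.left] (l : (yon S).obj W ⟶ Yi)
    (hl : l ≫ g = (yon S).map c ≫ b) :
    ∃ (T : Over S) (t : T ⟶ V) (τ : (yon S).obj T ⟶ Yi), CompactSpace T.left ∧ Flat t.left ∧
      RepWith @Etale τ ∧ τ ≫ g = (yon S).map t ≫ b ∧ Set.range c.left ⊆ Set.range t.left := by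
  obtain ⟨V₁, e, heet, hesurj⟩ := hYi.atlas
  have hbrep := hb.rep
  have sqT := hbrep.isPullback (e ≫ g)
  obtain ⟨t₁, ht₁⟩ := (yon S).map_surjective (hbrep.fst (e ≫ g))
  have ht₂et : Etale (hbrep.snd (e ≫ g)).left := hb.property_snd (e ≫ g)
  have hτ'et : RepWith @Etale ((yon S).map (hbrep.snd (e ≫ g)) ≫ e) :=
    (repWith_isMultiplicative (S := S) @Etale).comp_mem _ _
      ((repWith_yon_map_iff @Etale _).2 ht₂et) heet
  have hτ' : ((yon S).map (hbrep.snd (e ≫ g)) ≫ e) ≫ g = (yon S).map t₁ ≫ b := by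
    rw [Category.assoc, ht₁, sqT.w]
  have ht₁flat : Flat t₁.left := hg _ b t₁ hτ'et hb hτ'
  -- `W' = W ×_{Yi} V₁`
  have herep := heet.rep
  have sqW := herep.isPullback l
  obtain ⟨s, hs⟩ := (yon S).map_surjective (herep.fst l)
  have hret : Etale (herep.snd l).left := heet.property_snd l
  have hrsurj : Surjective (herep.snd l).left := hesurj.property_snd l
  obtain ⟨v', hv1, hv2⟩ := sqT.exists_lift ((yon S).map (herep.snd l ≫ c)) ((yon S).map s) (by
    rw [Functor.map_comp, Category.assoc, ← hl, hs, ← Category.assoc, ← sqW.w, Category.assoc])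
  obtain ⟨v, rfl⟩ := (yon S).map_surjective v'
  have hv1' : v ≫ t₁ = herep.snd l ≫ c :=
    (yon S).map_injective (by rw [Functor.map_comp, ht₁, hv1])
  have hv1'' : ∀ w', t₁.left (v.left w') = c.left ((herep.snd l).left w') := by
    intro w'
    have := congrArg (fun φ => φ.left w') hv1'
    simpa using this
  obtain ⟨O, hOc, hO⟩ := exists_compact_open (herep.snd l).left
    (herep.snd l).left.isOpenMap v.left
  refine ⟨Over.mk (O.ι ≫ (hbrep.pullback (e ≫ g)).hom), Over.homMk O.ι ≫ t₁,
    (yon S).map (Over.homMk O.ι ≫ hbrep.snd (e ≫ g)) ≫ e, ?_, ?_, ?_, ?_, ?_⟩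
  · exact isCompact_iff_compactSpace.mp hOc
  · change Flat (O.ι ≫ t₁.left)
    infer_instance
  · have h1 : Etale (Over.homMk O.ι ≫ hbrep.snd (e ≫ g) :
        Over.mk (O.ι ≫ (hbrep.pullback (e ≫ g)).hom) ⟶ V₁).left := by
      change Etale (O.ι ≫ (hbrep.snd (e ≫ g)).left)
      infer_instance
    exact (repWith_isMultiplicative (S := S) @Etale).comp_mem _ _
      ((repWith_yon_map_iff @Etale _).2 h1) heet
  · rw [Functor.map_comp, Functor.map_comp, Category.assoc, Category.assoc, Category.assoc,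
      ← hτ', Category.assoc]
  · rintro _ ⟨w, rfl⟩
    obtain ⟨w', rfl, hw'⟩ := hO w
    refine ⟨⟨v.left w', hw'⟩, ?_⟩
    change t₁.left (O.ι ⟨v.left w', hw'⟩) = _
    exact hv1'' w'

/-- the affine case of fpqc locality on the base of `AlgSp.IsLCIMor`. -/
theorem lci_chart_of_fpqc_affine {ι : Type u} {Y : Sp S} (Yi : ι → Sp S) (g : ∀ i, Yi i ⟶ Y)
    (hYi : ∀ i, IsAlgSpace (Yi i)) (hcov : IsFpqcCover Yi g) {X : Sp S} (f : X ⟶ Y)
    (Xi : ι → Sp S) (p : ∀ i, Xi i ⟶ Yi i) (q : ∀ i, Xi i ⟶ X)
    (sq : ∀ i, IsPullback (q i) (p i) f (g i)) (H : ∀ i, LocP AlgSp.lci (p i))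
    {U V : Over S} (hV : IsAffine V.left) (a : (yon S).obj U ⟶ X) (b : (yon S).obj V ⟶ Y)
    (h : U ⟶ V) (ha : RepWith @Etale a) (hb : RepWith @Etale b)
    (hsq : a ≫ f = (yon S).map h ≫ b) : AlgSp.lci h.left := by
  have hm := repWith_etale_lift a b h ha hb hsq
  obtain ⟨m, W, c, hWa, hcf, hcs, hl⟩ := hcov.2 V hV b
  choose i l hli using hl
  have hC : ∀ j, ∃ (T : Over S) (t : T ⟶ V) (τ : (yon S).obj T ⟶ Yi (i j)),
      CompactSpace T.left ∧ Flat t.left ∧ RepWith @Etale τ ∧
      τ ≫ g (i j) = (yon S).map t ≫ b ∧ Set.range (c j).left ⊆ Set.range t.left := by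
    intro j
    haveI : IsAffine (W j).left := hWa j
    exact exists_compact_chart (g (i j)) (hYi (i j)) b hb (hcov.1 (i j)) (c j) (l j) (hli j)
  choose T t τ hTc htf hτet hτ hrange using hC
  have sqE : ∀ j, IsPullback (pullback.fst h (t j)) (pullback.snd h (t j)) h (t j) :=
    fun j => IsPullback.of_hasPullback _ _
  have hPj : ∀ j, AlgSp.lci (pullback.snd h (t j)).left := by
    intro j
    obtain ⟨aE, w, hmE⟩ := exists_chart_baseChange (sq (i j)) a b h hsq hm (pullback.snd h (t j))
      ((yon S).map (pullback.fst h (t j))) ((yon S).map (t j)) ((sqE j).map (yon S)) (τ j) (hτ j)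
    have haE : RepWith @Etale aE := by
      have h1 : RepWith @Etale (pullback.fst (p (i j)) (τ j)) :=
        (RepWith (S := S) @Etale).of_isPullback (IsPullback.of_hasPullback _ _).flip (hτet j)
      have := (repWith_isMultiplicative (S := S) @Etale).comp_mem _ _ hmE h1
      rwa [pullback.lift_fst] at this
    exact H (i j) aE (τ j) (pullback.snd h (t j)) haE (hτet j) w
  haveI := hV
  haveI : ∀ j, CompactSpace (T j).left := hTc
  haveI : ∀ j, Flat (t j).left := htf
  exact of_finite_flat_family_compact AlgSp.lci h.left (fun j => (T j).left)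
    (fun j => (t j).left) (fun z => by
      obtain ⟨j, hj⟩ := hcs z
      exact ⟨j, hrange j hj⟩)
    (fun j => (pullback h (t j)).left) (fun j => (pullback.fst h (t j)).left)
    (fun j => (pullback.snd h (t j)).left) (fun j => (sqE j).map (Over.forget S)) hPj

/-- **`AlgSp.IsLCIMor` is fpqc local on the base.** -/
theorem isLocalOnBase_fpqc_isLCIMor :
    AlgSp.IsLocalOnBase (AlgSp.IsFpqcCover (S := S)) AlgSp.IsLCIMor := by
  intro ι Y Yi g hY hYi hcov X f hX Xi p q hXi sq
  constructor
  · intro hf i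
    exact locP_of_isPullback_flat lci_locPFlatData hX hY (hYi i) (sq i) (hcov.1 i) hf
  · intro H U V a b h ha hb hsq
    apply IsZariskiLocalAtTarget.of_openCover (P := AlgSp.lci) V.left.affineCover
    intro k
    let Tk : Over S := Over.mk (V.left.affineCover.f k ≫ V.hom)
    let jk : Tk ⟶ V := Over.homMk (V.left.affineCover.f k)
    have hTk : IsAffine Tk.left := by
      change IsAffine (V.left.affineCover.X k); infer_instance
    have s0 : IsPullback (pullback.fst h jk) (pullback.snd h jk) h jk :=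
      IsPullback.of_hasPullback _ _
    have s2 : IsPullback (pullback.fst h jk).left (pullback.snd h jk).left h.left
        (V.left.affineCover.f k) := s0.map (Over.forget S)
    have hjk : Etale jk.left := by
      change Etale (V.left.affineCover.f k); infer_instance
    have hfstet : Etale (pullback.fst h jk).left :=
      MorphismProperty.of_isPullback (P := @Etale) s2.flip hjk
    have ha_k : RepWith @Etale ((yon S).map (pullback.fst h jk) ≫ a) :=
      (repWith_isMultiplicative (S := S) @Etale).comp_mem _ _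
        ((repWith_yon_map_iff @Etale _).2 hfstet) ha
    have hb_k : RepWith @Etale ((yon S).map jk ≫ b) :=
      (repWith_isMultiplicative (S := S) @Etale).comp_mem _ _
        ((repWith_yon_map_iff @Etale jk).2 hjk) hb
    have hsq_k : ((yon S).map (pullback.fst h jk) ≫ a) ≫ f =
        (yon S).map (pullback.snd h jk) ≫ ((yon S).map jk ≫ b) := by
      rw [Category.assoc, hsq, ← Category.assoc, ← Functor.map_comp, s0.w, Functor.map_comp,
        Category.assoc]
    have hk : AlgSp.lci (pullback.snd h jk).left :=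
      lci_chart_of_fpqc_affine Yi g hYi hcov f Xi p q sq H hTk _ _ _ ha_k hb_k hsq_k
    have e := s2.isoPullback_hom_snd
    change AlgSp.lci (pullback.snd h.left (V.left.affineCover.f k))
    rw [← (AlgSp.lci.cancel_left_of_respectsIso s2.isoPullback.hom), e]
    exact hk

end Groth.Agent.LibAlgSpLciFpqc29
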