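import Mathlib
import Groth.Prelude.Def_RegImm
import Groth.Agent.LibFibReg6_29
import Groth.Agent.LibKoszulFFDescent29
import Groth.Agent.LibRegImmBasic29
import Groth.Agent.LibKoszulFlat29
import Groth.Agent.Lib.Helper17.LciH1a
import Groth.Agent.Lib.Helper17.RegNear

/-!
# Ideals of fibre local rings generated by regular sequences: invariance under base change,
ring level (helper29)

* `regGen_iff_of_flat_isLocalHom`: for a flat local homomorphism `F₁ → F₂` of Noetherian local rings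
  and an ideal `J` of `F₁`: `J` is generated by a regular sequence iff `J F₂` is.
* `exists_equiv_localization_fiber`: an abstract model `Sr → L` of the local ring of the fibre is
  isomorphic to `(κ(p) ⊗ S)_q`.
* `regGen_fibre_iff`: `A₀' = R₀' ⊗[R₀] A₀`, `r'` a prime of `A₀'` with contraction `r`; for an ideal
  `I₀` of `A₀`, the image of `I₀` in the local ring of the fibre at `r` is generated by a regular
  sequence iff the image of `I₀ A₀'` in the local ring of the fibre at `r'` is.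
-/

set_option autoImplicit false
set_option linter.style.haveILetI false
universe u
open TensorProduct IsLocalRing RingTheory.Sequence

namespace Groth.Agent.LibFibRegInvRing29

open Groth.Agent.LibFibReg29 Groth.Agent.Lib.helper17.RegNear

section AD

variable {F₁ F₂ : Type u} [CommRing F₁] [CommRing F₂]

theorem isKoszulRegularIdeal_ofList (ts : List F₂) (hts : IsWeaklyRegular F₂ ts) :
    LCI.IsKoszulRegularIdeal (Ideal.ofList ts) := by
  intro 𝔭 _
  refine ⟨1, fun h => 𝔭.isPrime.ne_top ((Ideal.eq_top_iff_one _).mpr h),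
    ts.map (algebraMap F₂ (Localization.Away (1 : F₂))), ?_, ?_⟩
  · have hfl : (algebraMap F₂ (Localization.Away (1 : F₂))).Flat := by
      rw [RingHom.flat_algebraMap_iff]
      exact IsLocalization.flat _ (Submonoid.powers (1 : F₂))
    exact Groth.Agent.LibKoszulFlat29.isKoszulRegularSeq_map_of_flat _ hfl ts
      (Groth.Agent.LibRegImmBasic29.isKoszulRegularSeq_of_isWeaklyRegular ts hts)
  · rw [Ideal.map_ofList]

/-- transport along a ring isomorphism. -/
theorem regGen_iff_of_ringEquiv (E : F₁ ≃+* F₂) (J : Ideal F₁) :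
    (∃ ts : List F₁, IsRegular F₁ ts ∧ J = Ideal.ofList ts) ↔
      (∃ ts : List F₂, IsRegular F₂ ts ∧ J.map (E : F₁ →+* F₂) = Ideal.ofList ts) := by
  constructor
  · rintro ⟨ts, hts, rfl⟩
    exact ⟨ts.map E, (isRegular_map_ringEquiv E ts).mp hts, by rw [Ideal.map_ofList]; rfl⟩
  · rintro ⟨ts, hts, hJ⟩
    refine ⟨ts.map E.symm, (isRegular_map_ringEquiv E.symm ts).mp hts, ?_⟩
    have h1 : (J.map (E : F₁ →+* F₂)).map (E.symm : F₂ →+* F₁) = J := by
      rw [Ideal.map_map]
      have : (E.symm : F₂ →+* F₁).comp (E : F₁ →+* F₂) = RingHom.id F₁ := by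
        ext a
        exact E.symm_apply_apply a
      rw [this, Ideal.map_id]
    rw [← h1, hJ, Ideal.map_ofList]
    rfl

theorem regGen_iff_of_flat_isLocalHom [IsLocalRing F₁] [IsLocalRing F₂] [IsNoetherianRing F₁]
    (φ : F₁ →+* F₂) (hφ : φ.Flat) [hloc : IsLocalHom φ] (J : Ideal F₁) :
    (∃ ts : List F₁, IsRegular F₁ ts ∧ J = Ideal.ofList ts) ↔
      (∃ ts : List F₂, IsRegular F₂ ts ∧ J.map φ = Ideal.ofList ts) := by
  letI := φ.toAlgebra
  haveI : Module.Flat F₁ F₂ := hφ
  haveI : IsLocalHom (algebraMap F₁ F₂) := hloc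
  haveI hff : Module.FaithfullyFlat F₁ F₂ := Module.FaithfullyFlat.of_flat_of_isLocalHom
  constructor
  · rintro ⟨ts, hts, rfl⟩
    refine ⟨ts.map (algebraMap F₁ F₂), IsRegular.of_faithfullyFlat hts, ?_⟩
    rw [Ideal.map_ofList]
    rfl
  · rintro ⟨ts, hts, hJ⟩
    have hK : LCI.IsKoszulRegularIdeal (J.map φ) := by
      rw [hJ]
      exact isKoszulRegularIdeal_ofList ts hts.toIsWeaklyRegular
    have hJK : LCI.IsKoszulRegularIdeal J :=
      Groth.Agent.LibKoszulFFDescent29.isKoszulRegularIdeal_of_faithfullyFlat_ringHom φ hff J hK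
    have hJne : J ≠ ⊤ := by
      rintro rfl
      rw [Ideal.map_top] at hJ
      apply hts.top_ne_smul
      rw [← hJ, smul_eq_mul, Ideal.mul_top]
    have hJle : J ≤ maximalIdeal F₁ := IsLocalRing.le_maximalIdeal hJne
    obtain ⟨c, f', -, hgen, -, hreg⟩ :=
      Groth.Agent.Lib.helper17.LciH1.exists_h1Regular_atPrime F₁ J (maximalIdeal F₁) hJK hJle
    let e : F₁ ≃ₐ[F₁] Localization.AtPrime (maximalIdeal F₁) :=
      IsLocalization.atUnits F₁ (maximalIdeal F₁).primeCompl (fun x hx =>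
        (IsUnit.mem_submonoid_iff x).mpr (IsLocalRing.notMem_maximalIdeal.mp hx))
    refine (regGen_iff_of_ringEquiv e.toRingEquiv J).mpr ⟨List.ofFn f', hreg, ?_⟩
    rw [Groth.Agent.Lib.helper17.H1Reg.ofList_ofFn, ← hgen]
    have hc : (e.toRingEquiv : F₁ →+* Localization.AtPrime (maximalIdeal F₁)) =
        algebraMap F₁ (Localization.AtPrime (maximalIdeal F₁)) := by
      ext a
      exact e.commutes a
    rw [hc]

end AD

section Model

variable {R S : Type u} [CommRing R] [CommRing S] [Algebra R S] (p : Ideal R) [p.IsPrime]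

/-- an abstract model of the local ring of the fibre is isomorphic to `(κ(p) ⊗ S)_q`. -/
theorem exists_equiv_localization_fiber (q : Ideal (p.Fiber S)) [q.IsPrime]
    (r : Ideal S) [r.IsPrime] (hqr : fibPrime p q = r)
    (Sr : Type u) [CommRing Sr] [Algebra S Sr] [IsLocalization.AtPrime Sr r]
    (L : Type u) [CommRing L] (ψ : Sr →+* L) (hψ : Function.Surjective ψ)
    (hker : RingHom.ker ψ = (p.map (algebraMap R S)).map (algebraMap S Sr)) :
    ∃ E : L ≃+* Localization.AtPrime q, ∀ s : S, E (ψ (algebraMap S Sr s)) = fibMap p q s := by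
  subst hqr
  set r := fibPrime p q with hr
  let e1 : Sr ≃ₐ[S] Localization.AtPrime r := IsLocalization.algEquiv r.primeCompl _ _
  let I : Ideal (Localization.AtPrime r) :=
    (p.map (algebraMap R S)).map (algebraMap S (Localization.AtPrime r))
  have hI : I = (RingHom.ker ψ).map (e1.toRingEquiv : Sr →+* Localization.AtPrime r) := by
    rw [hker, Ideal.map_map]
    have : (algebraMap S (Localization.AtPrime r)) =
        (e1.toRingEquiv : Sr →+* Localization.AtPrime r).comp (algebraMap S Sr) := by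
      ext a
      exact (e1.commutes a).symm
    rw [← this]
  let e2 : L ≃+* Sr ⧸ RingHom.ker ψ := (RingHom.quotientKerEquivOfSurjective hψ).symm
  let e3 : (Sr ⧸ RingHom.ker ψ) ≃+* (Localization.AtPrime r ⧸ I) :=
    Ideal.quotientEquiv _ _ e1.toRingEquiv hI
  let e4 : (Localization.AtPrime r ⧸ I) ≃+* Localization.AtPrime q :=
    (Ideal.Fiber.algEquivAux₂ p q).symm.toRingEquiv
  refine ⟨(e2.trans e3).trans e4, fun s => ?_⟩
  change e4 (e3 (e2 (ψ (algebraMap S Sr s)))) = _
  have h2 : e2 (ψ (algebraMap S Sr s)) = Ideal.Quotient.mk _ (algebraMap S Sr s) := by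
    apply (RingHom.quotientKerEquivOfSurjective hψ).injective
    rw [RingEquiv.apply_symm_apply]
    rfl
  rw [h2]
  have h3 : e3 (Ideal.Quotient.mk _ (algebraMap S Sr s)) =
      Ideal.Quotient.mk _ (algebraMap S (Localization.AtPrime r) s) := by
    change Ideal.Quotient.mk _ (e1 (algebraMap S Sr s)) = _
    rw [e1.commutes]
  rw [h3]
  change (Ideal.Fiber.algEquivAux₂ p q).symm _ = _
  rw [AlgEquiv.symm_apply_eq]
  exact (algEquivAux₂_fibMap p q s).symm

/-- regular generation in an abstract model versus in `(κ(p) ⊗ S)_q`. -/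
theorem regGen_model_iff (q : Ideal (p.Fiber S)) [q.IsPrime]
    (r : Ideal S) [r.IsPrime] (hqr : fibPrime p q = r)
    (Sr : Type u) [CommRing Sr] [Algebra S Sr] [IsLocalization.AtPrime Sr r]
    (L : Type u) [CommRing L] (ψ : Sr →+* L) (hψ : Function.Surjective ψ)
    (hker : RingHom.ker ψ = (p.map (algebraMap R S)).map (algebraMap S Sr)) (I₀ : Ideal S) :
    (∃ ts : List L, IsRegular L ts ∧ I₀.map (ψ.comp (algebraMap S Sr)) = Ideal.ofList ts) ↔
      (∃ ts : List (Localization.AtPrime q), IsRegular (Localization.AtPrime q) ts ∧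
        I₀.map (fibMap p q) = Ideal.ofList ts) := by
  obtain ⟨E, hE⟩ := exists_equiv_localization_fiber p q r hqr Sr L ψ hψ hker
  have hcomp : (E : L →+* Localization.AtPrime q).comp (ψ.comp (algebraMap S Sr)) =
      fibMap p q := RingHom.ext hE
  have hmap : (I₀.map (ψ.comp (algebraMap S Sr))).map (E : L →+* Localization.AtPrime q) =
      I₀.map (fibMap p q) := by
    rw [Ideal.map_map, hcomp]
  have key := regGen_iff_of_ringEquiv (F₁ := L) (F₂ := Localization.AtPrime q) E
    (I₀.map (ψ.comp (algebraMap S Sr)))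
  rw [hmap] at key
  exact key

end Model

section INV

variable (R₀ R₀' A₀ A₀' : Type u) [CommRing R₀] [CommRing R₀'] [CommRing A₀] [CommRing A₀']
  [Algebra R₀ R₀'] [Algebra R₀ A₀] [Algebra R₀' A₀'] [Algebra A₀ A₀'] [Algebra R₀ A₀']
  [IsScalarTower R₀ R₀' A₀'] [IsScalarTower R₀ A₀ A₀'] [Algebra.IsPushout R₀ R₀' A₀ A₀']
  (p' : Ideal R₀') [p'.IsPrime]

/-- the canonical (flat) map between the fibre rings, for an abstract pushout. -/
noncomputable def fibBC' : (p'.comap (algebraMap R₀ R₀')).Fiber A₀ →+* p'.Fiber A₀' :=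
  ((Algebra.TensorProduct.congr AlgEquiv.refl (Algebra.IsPushout.equiv R₀ R₀' A₀ A₀') :
    p'.Fiber (R₀' ⊗[R₀] A₀) ≃ₐ[p'.ResidueField] p'.Fiber A₀').toAlgHom.toRingHom).comp
    (fibBC R₀ R₀' A₀ p')

theorem fibBC'_one_tmul (a : A₀) :
    fibBC' R₀ R₀' A₀ A₀' p' ((1 : (p'.comap (algebraMap R₀ R₀')).ResidueField) ⊗ₜ[R₀] a) =
      (1 : p'.ResidueField) ⊗ₜ[R₀'] (algebraMap A₀ A₀' a) := by
  change (Algebra.TensorProduct.congr AlgEquiv.refl (Algebra.IsPushout.equiv R₀ R₀' A₀ A₀') :
    p'.Fiber (R₀' ⊗[R₀] A₀) ≃ₐ[p'.ResidueField] p'.Fiber A₀') (fibBC R₀ R₀' A₀ p' _) = _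
  have h1 : (Algebra.IsPushout.equiv R₀ R₀' A₀ A₀') ((1 : R₀') ⊗ₜ[R₀] a) = algebraMap A₀ A₀' a := by
    rw [Algebra.IsPushout.equiv_tmul, map_one, one_mul]
  rw [fibBC_one_tmul, Algebra.TensorProduct.congr_apply, Algebra.TensorProduct.map_tmul]
  change _ ⊗ₜ[R₀'] (Algebra.IsPushout.equiv R₀ R₀' A₀ A₀') ((1 : R₀') ⊗ₜ[R₀] a) = _
  rw [h1]
  rfl

theorem fibBC'_flat : (fibBC' R₀ R₀' A₀ A₀' p').Flat :=
  (fibBC_flat R₀ R₀' A₀ p').comp (RingHom.Flat.of_bijective
    (Algebra.TensorProduct.congr AlgEquiv.refl (Algebra.IsPushout.equiv R₀ R₀' A₀ A₀') :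
      p'.Fiber (R₀' ⊗[R₀] A₀) ≃ₐ[p'.ResidueField] p'.Fiber A₀').bijective)

/-- **invariance under base change**: the image of `I₀` in the local ring of the fibre at the
contraction of `r'` is generated by a regular sequence iff the image of `I₀ A₀'` in the local ring
of the fibre at `r'` is. -/
theorem regGen_fibre_iff [Algebra.FiniteType R₀ A₀] (r' : Ideal A₀') [r'.IsPrime]
    (Sr L : Type u) [CommRing Sr] [Algebra A₀ Sr]
    [IsLocalization.AtPrime Sr (r'.comap (algebraMap A₀ A₀'))] [CommRing L] (ψ : Sr →+* L)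
    (hψ : Function.Surjective ψ)
    (hker : RingHom.ker ψ = ((((r'.comap (algebraMap R₀' A₀')).comap (algebraMap R₀ R₀')).map
      (algebraMap R₀ A₀)).map (algebraMap A₀ Sr)))
    (Sr' L' : Type u) [CommRing Sr'] [Algebra A₀' Sr'] [IsLocalization.AtPrime Sr' r']
    [CommRing L'] (ψ' : Sr' →+* L') (hψ' : Function.Surjective ψ')
    (hker' : RingHom.ker ψ' = (((r'.comap (algebraMap R₀' A₀')).map (algebraMap R₀' A₀')).map
      (algebraMap A₀' Sr')))
    (I₀ : Ideal A₀) :
    (∃ ts : List L, IsRegular L ts ∧ I₀.map (ψ.comp (algebraMap A₀ Sr)) = Ideal.ofList ts) ↔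
      (∃ ts : List L', IsRegular L' ts ∧
        (I₀.map (algebraMap A₀ A₀')).map (ψ'.comp (algebraMap A₀' Sr')) = Ideal.ofList ts) := by
  set p' : Ideal R₀' := r'.comap (algebraMap R₀' A₀') with hp'
  haveI : r'.LiesOver p' := ⟨rfl⟩
  obtain ⟨q', hq', hq'r⟩ := Groth.Agent.Lib.Helper24.FibreRegular.exists_fiber_prime R₀' A₀' p' r'
  haveI := hq'
  set φ := fibBC' R₀ R₀' A₀ A₀' p' with hφdef
  have hφ : φ.Flat := fibBC'_flat R₀ R₀' A₀ A₀' p'
  set q := q'.comap φ with hq
  have hqr : fibPrime (p'.comap (algebraMap R₀ R₀')) q = r'.comap (algebraMap A₀ A₀') := by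
    have hmem : ∀ b : A₀', b ∈ r' ↔ (1 : p'.ResidueField) ⊗ₜ[R₀'] b ∈ q' := fun b =>
      (Ideal.ext_iff.mp hq'r b).symm
    ext a
    rw [mem_fibPrime, hq, Ideal.mem_comap, hφdef, fibBC'_one_tmul, Ideal.mem_comap, hmem]
  rw [regGen_model_iff (p'.comap (algebraMap R₀ R₀')) q _ hqr Sr L ψ hψ hker I₀,
    regGen_model_iff p' q' r' hq'r Sr' L' ψ' hψ' hker' (I₀.map (algebraMap A₀ A₀'))]
  -- the flat local homomorphism
  set θ := Localization.localRingHom q q' φ rfl with hθ
  have hθflat : RingHom.Flat (R := Localization.AtPrime q) (S := Localization.AtPrime q') θ :=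
    hφ.localRingHom q' q rfl
  haveI hθloc : IsLocalHom θ := Localization.isLocalHom_localRingHom _ q' φ rfl
  haveI : IsNoetherianRing ((p'.comap (algebraMap R₀ R₀')).Fiber A₀) :=
    Algebra.FiniteType.isNoetherianRing (p'.comap (algebraMap R₀ R₀')).ResidueField _
  haveI : IsNoetherianRing (Localization.AtPrime q) :=
    IsLocalization.isNoetherianRing q.primeCompl _ inferInstance
  have hcomp : θ.comp (fibMap (p'.comap (algebraMap R₀ R₀')) q) =
      (fibMap p' q').comp (algebraMap A₀ A₀') := by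
    ext a
    simp only [RingHom.comp_apply, fibMap_apply, hθ, Localization.localRingHom_to_map]
    rw [hφdef, fibBC'_one_tmul]
  have hmap : (I₀.map (fibMap (p'.comap (algebraMap R₀ R₀')) q)).map θ =
      (I₀.map (algebraMap A₀ A₀')).map (fibMap p' q') := by
    rw [Ideal.map_map, Ideal.map_map, hcomp]
  have key := regGen_iff_of_flat_isLocalHom (F₁ := Localization.AtPrime q)
    (F₂ := Localization.AtPrime q') θ hθflat
    (I₀.map (fibMap (p'.comap (algebraMap R₀ R₀')) q))
  rw [hmap] at key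
  constructor
  · rintro ⟨ts, hts, hJ⟩
    exact key.mp ⟨ts, hts, hJ⟩
  · intro h
    obtain ⟨ts, hts, hJ⟩ := key.mpr h
    exact ⟨ts, hts, hJ⟩

end INV

end Groth.Agent.LibFibRegInvRing29
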