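import Mathlib
import Groth.Prelude.Def_BlowUp2
import Groth.Agent.LibFibRegSch29
import Groth.Agent.Lib.Helper16.RelCartier
import Groth.Agent.Lib.Helper16.EffCartier
import Groth.Agent.Lib.Helper7.IdealComap

/-!
# Relative effective Cartier divisors from the fibres (helper29)

* `exists_effCartier_of_notMem_support`: away from its support an ideal sheaf is trivially generated
  by a nonzerodivisor.
* `exists_nzd_flat_of_fibre`: `φ : X ⟶ S` flat locally of finite presentation, `𝓘` principal on the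
  affine `U ⊆ φ⁻¹V` around the image `x` of a point `z` of the fibre `X_s`, the inverse image of
  `𝓘` on `X_s` effective Cartier.  Then on a principal open `D ∋ x` of `U` the ideal `𝓘` is generated
  by a nonzerodivisor and `Γ(D)/𝓘(D)` is flat over `Γ(S, V)`.
-/

set_option autoImplicit false
set_option linter.style.haveILetI false
universe u
open CategoryTheory AlgebraicGeometry IsLocalRing RingTheory.Sequence

namespace Groth.Agent.LibRelCartier29

open Groth.Agent.LibFibReg29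

theorem exists_effCartier_of_notMem_support {X : Scheme.{u}} (𝓘 : X.IdealSheafData) (x : X)
    (hx : x ∉ 𝓘.support) :
    ∃ U : X.affineOpens, x ∈ U.1 ∧
      ∃ f : Γ(X, U.1), f ∈ nonZeroDivisors Γ(X, U.1) ∧ 𝓘.ideal U = Ideal.span {f} := by
  obtain ⟨_, ⟨U0, hU0, rfl⟩, hxU0, -⟩ :=
    X.isBasis_affineOpens.exists_subset_of_mem_open (Set.mem_univ x) isOpen_univ
  let U : X.affineOpens := ⟨U0, hU0⟩
  rw [𝓘.mem_support_iff_of_mem (U := U) hxU0, Scheme.mem_zeroLocus_iff] at hx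
  push Not at hx
  obtain ⟨f, hf, hxf⟩ := hx
  refine ⟨X.affineBasicOpen f, hxf, 1, one_mem _, ?_⟩
  rw [Ideal.span_singleton_one, ← 𝓘.map_ideal_basicOpen U f]
  have hu : IsUnit ((X.presheaf.map (homOfLE (X.basicOpen_le f)).op).hom f) :=
    RingedSpace.isUnit_res_basicOpen _ f
  have hm : (X.presheaf.map (homOfLE (X.basicOpen_le f)).op).hom f ∈
      (𝓘.ideal U).map (X.presheaf.map (homOfLE (X.basicOpen_le f)).op).hom :=
    Ideal.mem_map_of_mem _ hf
  exact Ideal.eq_top_of_isUnit_mem _ hm hu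

theorem exists_nzd_flat_of_fibre {X S : Scheme.{u}} (φ : X ⟶ S) [Flat φ]
    [LocallyOfFinitePresentation φ] (𝓘 : X.IdealSheafData) (s : S) (z : φ.fiber s)
    (hfib : BlowUp.IsEffCartierIdeal (𝓘.comap (φ.fiberι s)))
    (U : X.affineOpens) (V : S.affineOpens) (e : U.1 ≤ φ ⁻¹ᵁ V.1) (hz : φ.fiberι s z ∈ U.1)
    (h : Γ(X, U.1)) (hI : 𝓘.ideal U = Ideal.span {h}) :
    ∃ (D : X.affineOpens) (_ : φ.fiberι s z ∈ D.1) (e' : D.1 ≤ φ ⁻¹ᵁ V.1),
      (∃ t ∈ nonZeroDivisors Γ(X, D.1), 𝓘.ideal D = Ideal.span {t}) ∧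
      ((Ideal.Quotient.mk (𝓘.ideal D)).comp (φ.appLE V.1 D.1 e').hom).Flat := by
  set ι := φ.fiberι s with hι
  -- a chart of the fibre inside `ι⁻¹ U` on which the pulled back ideal is generated by a nzd
  obtain ⟨W, hzW, hWU, t, ht, hIW⟩ :=
    Groth.Agent.Lib.helper16.EffCartier.exists_principal_le hfib z (ι ⁻¹ᵁ U.1) hz
  have hIW' : (𝓘.comap ι).ideal W = Ideal.span {(ι.appLE U.1 W.1 hWU).hom h} := by
    have := Groth.Agent.Lib.helper7.IdealComap.ideal_comap ι 𝓘 U.2 W.2 hWU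
    rw [this, hI, Ideal.map_span, Set.image_singleton]
  -- the image of `h` on the chart is a nonzerodivisor
  have hnzd : (ι.appLE U.1 W.1 hWU).hom h ∈ nonZeroDivisors Γ(φ.fiber s, W.1) := by
    have h1 : t ∈ Ideal.span {(ι.appLE U.1 W.1 hWU).hom h} := by
      rw [← hIW', hIW]
      exact Ideal.mem_span_singleton_self t
    obtain ⟨a, ha⟩ := Ideal.mem_span_singleton'.mp h1
    exact Groth.Agent.Lib.helper16.EffCartier.mem_nonZeroDivisors_of_mul_mem (ha ▸ ht)
  -- pass to the stalk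
  letI a1 : Algebra Γ(φ.fiber s, W.1) ((φ.fiber s).presheaf.stalk z) :=
    (φ.fiber s).presheaf.algebra_section_stalk (⟨z, hzW⟩ : W.1)
  haveI l1 : IsLocalization.AtPrime ((φ.fiber s).presheaf.stalk z)
      (W.2.primeIdealOf ⟨z, hzW⟩).asIdeal := W.2.isLocalization_stalk ⟨z, hzW⟩
  haveI : Module.Flat Γ(φ.fiber s, W.1) ((φ.fiber s).presheaf.stalk z) :=
    IsLocalization.flat _ (W.2.primeIdealOf ⟨z, hzW⟩).asIdeal.primeCompl
  have hreg : IsSMulRegular ((φ.fiber s).presheaf.stalk z)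
      ((ι.stalkMap z).hom ((X.presheaf.germ U.1 (ι z) hz).hom h)) := by
    have h1 : IsSMulRegular Γ(φ.fiber s, W.1) ((ι.appLE U.1 W.1 hWU).hom h) :=
      (isRegular_iff_mem_nonZeroDivisors.mpr hnzd).left.isSMulRegular
    have h3 := IsSMulRegular.of_flat (S := (φ.fiber s).presheaf.stalk z) h1
    have h4 : algebraMap Γ(φ.fiber s, W.1) ((φ.fiber s).presheaf.stalk z)
        ((ι.appLE U.1 W.1 hWU).hom h) =
        (ι.stalkMap z).hom ((X.presheaf.germ U.1 (ι z) hz).hom h) := by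
      have := appLE_germ ι W.1 U.1 hWU z hzW
      exact congrArg (fun f => f.hom h) this
    rw [h4] at h3
    exact h3
  have hwr : IsWeaklyRegular ((φ.fiber s).presheaf.stalk z)
      ([h].map (fun y => (ι.stalkMap z).hom ((X.presheaf.germ U.1 (ι z) hz).hom y))) := by
    rw [List.map_singleton]
    exact (isWeaklyRegular_cons_iff _ _ _).mpr ⟨hreg, IsWeaklyRegular.nil _ _⟩
  obtain ⟨g, hxg, hRF⟩ := exists_basicOpen_regFlat φ s z U.2 V.2 e hz [h] hwr
  refine ⟨X.affineBasicOpen g, hxg, (X.basicOpen_le g).trans e, ?_, ?_⟩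
  · refine ⟨(X.presheaf.map (homOfLE (X.basicOpen_le g)).op).hom h, ?_, ?_⟩
    · have := hRF.1
      rw [List.map_singleton, isWeaklyRegular_cons_iff] at this
      have h1 := this.1
      rw [mem_nonZeroDivisors_iff_right]
      intro a ha
      apply h1
      change _ * a = _ * 0
      rw [mul_zero, mul_comm]
      exact ha
    · rw [← 𝓘.map_ideal_basicOpen U g, hI, Ideal.map_span, Set.image_singleton]
      rfl
  · letI := (φ.appLE V.1 (X.basicOpen g) ((X.basicOpen_le g).trans e)).hom.toAlgebra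
    have h1 := hRF.2 1
    rw [List.map_singleton, List.take_one, List.head?_cons, Option.toList_some] at h1
    have h2 : 𝓘.ideal (X.affineBasicOpen g) =
        Ideal.ofList [(X.presheaf.map (homOfLE (X.basicOpen_le g)).op).hom h] := by
      rw [← 𝓘.map_ideal_basicOpen U g, hI, Ideal.map_span, Set.image_singleton]
      simp [Ideal.ofList]
    rw [h2]
    exact (Groth.Agent.Lib.helper16.RelCartier.flat_comp_mk_iff _).mpr h1

/-- the key local statement at a point `x` of the support. -/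
theorem exists_nzd_flat_of_locPrincipal {X S : Scheme.{u}} (φ : X ⟶ S) [Flat φ]
    [LocallyOfFinitePresentation φ] (𝓘 : X.IdealSheafData)
    (hfib : ∀ s : S, BlowUp.IsEffCartierIdeal (𝓘.comap (φ.fiberι s))) (x : X)
    (hx : ∃ U : X.affineOpens, x ∈ U.1 ∧ ∃ f : Γ(X, U.1), 𝓘.ideal U = Ideal.span {f}) :
    ∃ (D : X.affineOpens) (V : S.affineOpens) (_ : x ∈ D.1) (e' : D.1 ≤ φ ⁻¹ᵁ V.1),
      (∃ t ∈ nonZeroDivisors Γ(X, D.1), 𝓘.ideal D = Ideal.span {t}) ∧
      ((Ideal.Quotient.mk (𝓘.ideal D)).comp (φ.appLE V.1 D.1 e').hom).Flat := by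
  obtain ⟨U0, hxU0, h0, hI0⟩ := hx
  obtain ⟨_, ⟨V0, hV0, rfl⟩, hxV0, -⟩ :=
    S.isBasis_affineOpens.exists_subset_of_mem_open (Set.mem_univ (φ x)) isOpen_univ
  let V : S.affineOpens := ⟨V0, hV0⟩
  obtain ⟨f, hfle, hxf⟩ := U0.2.exists_basicOpen_le (V := φ ⁻¹ᵁ V.1) ⟨x, hxV0⟩ hxU0
  let U : X.affineOpens := X.affineBasicOpen f
  have hI : 𝓘.ideal U = Ideal.span {(X.presheaf.map (homOfLE (X.basicOpen_le f)).op).hom h0} := by
    rw [← 𝓘.map_ideal_basicOpen U0 f, hI0, Ideal.map_span, Set.image_singleton]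
  have hxz : φ.fiberι (φ x) (φ.asFiber x) = x := φ.fiberι_asFiber x
  have hz : φ.fiberι (φ x) (φ.asFiber x) ∈ U.1 := by rw [hxz]; exact hxf
  obtain ⟨D, hD, e', h1, h2⟩ := exists_nzd_flat_of_fibre φ 𝓘 (φ x) (φ.asFiber x) (hfib (φ x)) U V
    hfle hz _ hI
  rw [hxz] at hD
  exact ⟨D, V, hD, e', h1, h2⟩

/-- **Relative effective Cartier divisors from the fibres**: `φ` flat, locally of finite
presentation, `𝓘` locally principal at the points of its support, and effective Cartier on every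
fibre.  Then `𝓘` is effective Cartier and its closed subscheme is flat over `S`. -/
theorem relEffCartier_of_locPrincipal {X S : Scheme.{u}} (φ : X ⟶ S) [Flat φ]
    [LocallyOfFinitePresentation φ] (𝓘 : X.IdealSheafData)
    (hZ : ∀ x ∈ 𝓘.support, ∃ U : X.affineOpens, x ∈ U.1 ∧
      ∃ f : Γ(X, U.1), 𝓘.ideal U = Ideal.span {f})
    (hfib : ∀ s : S, BlowUp.IsEffCartierIdeal (𝓘.comap (φ.fiberι s))) :
    BlowUp.IsEffCartierIdeal 𝓘 ∧ Flat (𝓘.subschemeι ≫ φ) := by
  constructor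
  · intro x
    by_cases hx : x ∈ 𝓘.support
    · obtain ⟨D, V, hxD, e, ⟨t, ht, hI⟩, -⟩ :=
        exists_nzd_flat_of_locPrincipal φ 𝓘 hfib x (hZ x hx)
      exact ⟨D, hxD, t, ht, hI⟩
    · exact exists_effCartier_of_notMem_support 𝓘 x hx
  · refine Groth.Agent.Lib.helper16.RelCartier.flat_sub_of_flat_quot φ 𝓘 (fun x hx => ?_)
    obtain ⟨D, V, hxD, e, -, hfl⟩ := exists_nzd_flat_of_locPrincipal φ 𝓘 hfib x (hZ x hx)
    exact ⟨D, V, hxD, e, hfl⟩

end Groth.Agent.LibRelCartier29
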