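import Mathlib
import Groth.Agent.LibRelCartier29
import Groth.Agent.LibRelCartier2_29

/-!
# Local principality of an ideal sheaf with flat, finitely presented quotient (helper29)

`exists_principal_of_fibre`: `φ : X ⟶ S` locally of finite presentation, `𝓘` an ideal sheaf whose
closed subscheme is flat and locally of finite presentation over `S`.  If the inverse image of `𝓘`
on every fibre is effective Cartier then `𝓘` is locally principal.
-/

set_option autoImplicit false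
set_option linter.style.haveILetI false
universe u
open CategoryTheory AlgebraicGeometry IsLocalRing

namespace Groth.Agent.LibRelCartier29

open Groth.Agent.LibFibReg29

/-- the kernel of `O_{X,x} → O_{X_s,z}` in terms of affine charts. -/
theorem ker_fiberι_stalkMap_eq {X S : Scheme.{u}} (φ : X ⟶ S) (s : S) (z : φ.fiber s)
    {U : X.Opens} {V : S.Opens} (hV : IsAffineOpen V) (e : U ≤ φ ⁻¹ᵁ V)
    (hz : φ.fiberι s z ∈ U) :
    RingHom.ker ((φ.fiberι s).stalkMap z).hom =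
      (((hV.primeIdealOf ⟨φ (φ.fiberι s z), e hz⟩).asIdeal.map (φ.appLE V U e).hom).map
        (X.presheaf.germ U (φ.fiberι s z) hz).hom) := by
  set x := φ.fiberι s z with hx
  let p : Ideal Γ(S, V) := (hV.primeIdealOf ⟨φ x, e hz⟩).asIdeal
  letI a2 : Algebra Γ(S, V) (S.presheaf.stalk (φ x)) :=
    S.presheaf.algebra_section_stalk (⟨φ x, e hz⟩ : V)
  haveI l2 : IsLocalization.AtPrime (S.presheaf.stalk (φ x)) p :=
    hV.isLocalization_stalk ⟨φ x, e hz⟩
  rw [Groth.Agent.Lib.helper17.FibreStalk.ker_fiberι_stalkMap φ s z,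
    ← IsLocalization.AtPrime.map_eq_maximalIdeal p (S.presheaf.stalk (φ x)),
    Ideal.map_map, Ideal.map_map]
  congr 1
  have := appLE_germ φ U V e x hz
  exact (congrArg CommRingCat.Hom.hom this).symm

theorem fp_quot_of_fp_sub {X S : Scheme.{u}} (f : X ⟶ S) (𝓘 : X.IdealSheafData)
    [LocallyOfFinitePresentation (𝓘.subschemeι ≫ f)]
    (U : X.affineOpens) (V : S.affineOpens) (e : U.1 ≤ f ⁻¹ᵁ V.1) :
    ((Ideal.Quotient.mk (𝓘.ideal U)).comp (f.appLE V.1 U.1 e).hom).FinitePresentation := by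
  have e' : 𝓘.subschemeι ⁻¹ᵁ U.1 ≤ (𝓘.subschemeι ≫ f) ⁻¹ᵁ V.1 := by
    intro z hz
    exact e hz
  have h1 : ((𝓘.subschemeι ≫ f).appLE V.1 (𝓘.subschemeι ⁻¹ᵁ U.1) e').hom.FinitePresentation :=
    HasRingHomProperty.appLE (P := @LocallyOfFinitePresentation) _ inferInstance V
      ⟨𝓘.subschemeι ⁻¹ᵁ U.1, U.2.preimage 𝓘.subschemeι⟩ e'
  rw [Groth.Agent.Lib.helper16.RelCartier.appLE_sub_eq f 𝓘 U V.1 e e'] at h1
  have h2 : (f.appLE V.1 U.1 e ≫ CommRingCat.ofHom (Ideal.Quotient.mk (𝓘.ideal U)) ≫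
        (𝓘.subschemeObjIso U).inv).hom =
      ((𝓘.subschemeObjIso U).symm.commRingCatIsoToRingEquiv : _ →+* _).comp
        ((Ideal.Quotient.mk (𝓘.ideal U)).comp (f.appLE V.1 U.1 e).hom) := rfl
  rw [h2] at h1
  set ε := (𝓘.subschemeObjIso U).symm.commRingCatIsoToRingEquiv with hε
  have h4 := RingHom.finitePresentation_respectsIso.1 _ ε.symm h1
  have h5 : ε.symm.toRingHom.comp ((ε : _ →+* _).comp
      ((Ideal.Quotient.mk (𝓘.ideal U)).comp (f.appLE V.1 U.1 e).hom)) =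
      (Ideal.Quotient.mk (𝓘.ideal U)).comp (f.appLE V.1 U.1 e).hom := by
    ext a
    simp
  rw [h5] at h4
  exact h4

theorem exists_principal_of_fibre_aux {X S : Scheme.{u}} (φ : X ⟶ S)
    [LocallyOfFinitePresentation φ] (𝓘 : X.IdealSheafData) [Flat (𝓘.subschemeι ≫ φ)]
    [LocallyOfFinitePresentation (𝓘.subschemeι ≫ φ)] (s : S) (z : φ.fiber s)
    (hfib : BlowUp.IsEffCartierIdeal (𝓘.comap (φ.fiberι s)))
    (U : X.affineOpens) (V : S.affineOpens) (e : U.1 ≤ φ ⁻¹ᵁ V.1) (hz : φ.fiberι s z ∈ U.1) :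
    ∃ D : X.affineOpens, φ.fiberι s z ∈ D.1 ∧ ∃ f : Γ(X, D.1), 𝓘.ideal D = Ideal.span {f} := by
  set ι := φ.fiberι s with hι
  set x := ι z with hx
  obtain ⟨W, hzW, hWU, t, ht, hIW⟩ :=
    Groth.Agent.Lib.helper16.EffCartier.exists_principal_le hfib z (ι ⁻¹ᵁ U.1) hz
  have hIW' : (𝓘.comap ι).ideal W = (𝓘.ideal U).map (ι.appLE U.1 W.1 hWU).hom :=
    Groth.Agent.Lib.helper7.IdealComap.ideal_comap ι 𝓘 U.2 W.2 hWU
  letI algAB : Algebra Γ(S, V.1) Γ(X, U.1) := (φ.appLE V.1 U.1 e).hom.toAlgebra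
  haveI hfp : Algebra.FinitePresentation Γ(S, V.1) Γ(X, U.1) :=
    HasRingHomProperty.appLE (P := @LocallyOfFinitePresentation) φ inferInstance V U e
  haveI hflat : Module.Flat Γ(S, V.1) (Γ(X, U.1) ⧸ 𝓘.ideal U) :=
    (Groth.Agent.Lib.helper16.RelCartier.flat_comp_mk_iff _).mp
      (Groth.Agent.Lib.helper16.RelCartier.flat_quot_of_flat_sub φ 𝓘 U V e)
  haveI hfpq : Algebra.FinitePresentation Γ(S, V.1) (Γ(X, U.1) ⧸ 𝓘.ideal U) := by
    have h1 := fp_quot_of_fp_sub φ 𝓘 U V e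
    have h2 : (Ideal.Quotient.mk (𝓘.ideal U)).comp (φ.appLE V.1 U.1 e).hom =
        algebraMap Γ(S, V.1) (Γ(X, U.1) ⧸ 𝓘.ideal U) := rfl
    rw [h2, RingHom.finitePresentation_algebraMap] at h1
    exact h1
  have hFG : (𝓘.ideal U).FG := by
    have := Algebra.FinitePresentation.ker_fG_of_surjective
      (Ideal.Quotient.mkₐ Γ(S, V.1) (𝓘.ideal U)) (Ideal.Quotient.mkₐ_surjective _ _)
    have h2 : RingHom.ker (Ideal.Quotient.mkₐ Γ(S, V.1) (𝓘.ideal U)).toRingHom = 𝓘.ideal U :=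
      Ideal.mk_ker
    rw [h2] at this
    exact this
  let r : Ideal Γ(X, U.1) := (U.2.primeIdealOf ⟨x, hz⟩).asIdeal
  let p : Ideal Γ(S, V.1) := (V.2.primeIdealOf ⟨φ x, e hz⟩).asIdeal
  have hpr : p.map (algebraMap Γ(S, V.1) Γ(X, U.1)) ≤ r := by
    have := IsAffineOpen.comap_primeIdealOf_appLE (f := φ) (x := x) V.1 V.2 U.1 U.2 e hz
    have h1 : p = r.comap (algebraMap Γ(S, V.1) Γ(X, U.1)) :=
      (congrArg PrimeSpectrum.asIdeal this).symm
    rw [h1]
    exact Ideal.map_comap_le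
  letI a1 : Algebra Γ(X, U.1) (X.presheaf.stalk x) :=
    X.presheaf.algebra_section_stalk (⟨x, hz⟩ : U.1)
  haveI l1 : IsLocalization.AtPrime (X.presheaf.stalk x) r := U.2.isLocalization_stalk ⟨x, hz⟩
  letI a3 : Algebra Γ(S, V.1) (X.presheaf.stalk x) :=
    ((algebraMap Γ(X, U.1) (X.presheaf.stalk x)).comp (algebraMap Γ(S, V.1) Γ(X, U.1))).toAlgebra
  haveI : IsScalarTower Γ(S, V.1) Γ(X, U.1) (X.presheaf.stalk x) :=
    IsScalarTower.of_algebraMap_eq' rfl
  have hker := ker_fiberι_stalkMap_eq φ s z V.2 e hz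
  -- the ideal of the fibre in the stalk
  have htL : ((𝓘.ideal U).map (algebraMap Γ(X, U.1) (X.presheaf.stalk x))).map
      (ι.stalkMap z).hom =
      Ideal.span {((φ.fiber s).presheaf.germ W.1 z hzW).hom t} := by
    have h1 : ((𝓘.comap ι).ideal W).map ((φ.fiber s).presheaf.germ W.1 z hzW).hom =
        Ideal.span {((φ.fiber s).presheaf.germ W.1 z hzW).hom t} := by
      rw [hIW, Ideal.map_span, Set.image_singleton]
    rw [← h1, hIW', Ideal.map_map, Ideal.map_map]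
    congr 1
    have := appLE_germ ι W.1 U.1 hWU z hzW
    exact (congrArg CommRingCat.Hom.hom this).symm
  obtain ⟨f, hfI, g, hg, H⟩ := exists_away_principal (𝓘.ideal U) hFG p r hpr (X.presheaf.stalk x)
    ((φ.fiber s).presheaf.stalk z) (ι.stalkMap z).hom (ι.stalkMap_surjective z) hker _ htL
  have hxg : x ∈ X.basicOpen g := by
    rw [Scheme.mem_basicOpen _ _ x hz]
    have h1 : (algebraMap Γ(X, U.1) (X.presheaf.stalk x)) g ∉ maximalIdeal (X.presheaf.stalk x) := by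
      intro hm
      apply hg
      rw [← IsLocalization.AtPrime.under_maximalIdeal (X.presheaf.stalk x) r]
      exact hm
    exact (IsLocalRing.notMem_maximalIdeal).mp h1
  refine ⟨X.affineBasicOpen g, hxg, (X.presheaf.map (homOfLE (X.basicOpen_le g)).op).hom f, ?_⟩
  haveI : IsLocalization.Away g Γ(X, X.basicOpen g) := U.2.isLocalization_basicOpen g
  rw [← 𝓘.map_ideal_basicOpen U g]
  exact H Γ(X, X.basicOpen g)

theorem exists_principal_of_fibre {X S : Scheme.{u}} (φ : X ⟶ S)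
    [LocallyOfFinitePresentation φ] (𝓘 : X.IdealSheafData) [Flat (𝓘.subschemeι ≫ φ)]
    [LocallyOfFinitePresentation (𝓘.subschemeι ≫ φ)]
    (hfib : ∀ s : S, BlowUp.IsEffCartierIdeal (𝓘.comap (φ.fiberι s))) (x : X) :
    ∃ U : X.affineOpens, x ∈ U.1 ∧ ∃ f : Γ(X, U.1), 𝓘.ideal U = Ideal.span {f} := by
  obtain ⟨_, ⟨V0, hV0, rfl⟩, hxV0, -⟩ :=
    S.isBasis_affineOpens.exists_subset_of_mem_open (Set.mem_univ (φ x)) isOpen_univ
  obtain ⟨_, ⟨U0, hU0, rfl⟩, hxU0, hU0V⟩ :=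
    X.isBasis_affineOpens.exists_subset_of_mem_open (show x ∈ ((φ ⁻¹ᵁ V0 : X.Opens) : Set X) from hxV0)
      (φ ⁻¹ᵁ V0).isOpen
  have hxz : φ.fiberι (φ x) (φ.asFiber x) = x := φ.fiberι_asFiber x
  have hz : φ.fiberι (φ x) (φ.asFiber x) ∈ U0 := by rw [hxz]; exact hxU0
  obtain ⟨D, hD, f, hf⟩ := exists_principal_of_fibre_aux φ 𝓘 (φ x) (φ.asFiber x) (hfib (φ x))
    ⟨U0, hU0⟩ ⟨V0, hV0⟩ hU0V hz
  rw [hxz] at hD
  exact ⟨D, hD, f, hf⟩

/-- `φ` flat, locally of finite presentation, the closed subscheme of `𝓘` flat and locally of finite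
presentation over `S`, `𝓘` effective Cartier on every fibre: then `𝓘` is effective Cartier. -/
theorem isEffCartier_of_fibres {X S : Scheme.{u}} (φ : X ⟶ S) [Flat φ]
    [LocallyOfFinitePresentation φ] (𝓘 : X.IdealSheafData) [Flat (𝓘.subschemeι ≫ φ)]
    [LocallyOfFinitePresentation (𝓘.subschemeι ≫ φ)]
    (hfib : ∀ s : S, BlowUp.IsEffCartierIdeal (𝓘.comap (φ.fiberι s))) :
    BlowUp.IsEffCartierIdeal 𝓘 :=
  (relEffCartier_of_locPrincipal φ 𝓘 (fun x _ => exists_principal_of_fibre φ 𝓘 hfib x) hfib).1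

end Groth.Agent.LibRelCartier29
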