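import Mathlib
import Groth.Agent.LibFibReg8_29
import Groth.Agent.LibFibRegSch29
import Groth.Agent.LibRelCartier3_29

/-!
# Fibrewise criterion for regular sequences generating an ideal: scheme form (helper29)

`exists_basicOpen_regFlat_of_fibre_gens`: `φ : X ⟶ S` flat, locally of finite presentation,
`U ⊆ φ⁻¹ V` affine opens, `I ⊆ Γ(X, U)` a finitely generated ideal with `Γ(X, U)/I` flat over
`Γ(S, V)`, `z` a point of the fibre `X_s` with image in `U` such that `I O_{X_s, z}` is generated by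
a weakly regular sequence.  Then on a principal open `D(g) ∋ x` of `U` the ideal `I` is generated
by a sequence of elements of `I` which is weakly regular with successive quotients flat over
`Γ(S, V)`.
-/

set_option autoImplicit false
set_option linter.style.haveILetI false
universe u
open CategoryTheory AlgebraicGeometry IsLocalRing RingTheory.Sequence

namespace Groth.Agent.LibFibReg29

open Groth.Agent.LibRelCartier29

theorem isLocallyNoetherian_fiber {X S : Scheme.{u}} (φ : X ⟶ S) [LocallyOfFiniteType φ] (s : S) :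
    IsLocallyNoetherian (φ.fiber s) := by
  haveI : LocallyOfFiniteType (φ.fiberToSpecResidueField s) :=
    MorphismProperty.pullback_snd _ _ inferInstance
  exact LocallyOfFiniteType.isLocallyNoetherian (φ.fiberToSpecResidueField s)

theorem exists_basicOpen_regFlat_of_fibre_gens {X S : Scheme.{u}} (φ : X ⟶ S) [Flat φ]
    [LocallyOfFinitePresentation φ] (s : S) (z : φ.fiber s) {U : X.Opens} (hU : IsAffineOpen U)
    {V : S.Opens} (hV : IsAffineOpen V) (e : U ≤ φ ⁻¹ᵁ V) (hz : φ.fiberι s z ∈ U)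
    (I : Ideal Γ(X, U)) (hI : I.FG)
    (hflat : ((Ideal.Quotient.mk I).comp (φ.appLE V U e).hom).Flat)
    (ts : List ((φ.fiber s).presheaf.stalk z))
    (hts : IsWeaklyRegular ((φ.fiber s).presheaf.stalk z) ts)
    (hgen : (I.map (X.presheaf.germ U (φ.fiberι s z) hz).hom).map
      ((φ.fiberι s).stalkMap z).hom = Ideal.ofList ts) :
    ∃ g : Γ(X, U), φ.fiberι s z ∈ X.basicOpen g ∧ ∃ as : List Γ(X, U),
      as.length = ts.length ∧ (∀ a ∈ as, a ∈ I) ∧
      I.map (X.presheaf.map (homOfLE (X.basicOpen_le g)).op).hom =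
        Ideal.ofList (as.map (X.presheaf.map (homOfLE (X.basicOpen_le g)).op).hom) ∧
      (letI := (φ.appLE V (X.basicOpen g) ((X.basicOpen_le g).trans e)).hom.toAlgebra
       RegFlat Γ(S, V) Γ(X, X.basicOpen g)
        (as.map (X.presheaf.map (homOfLE (X.basicOpen_le g)).op).hom)) := by
  set x := φ.fiberι s z with hx
  letI algAB : Algebra Γ(S, V) Γ(X, U) := (φ.appLE V U e).hom.toAlgebra
  haveI hflatB : Module.Flat Γ(S, V) Γ(X, U) :=
    HasRingHomProperty.appLE (P := @Flat) φ inferInstance ⟨V, hV⟩ ⟨U, hU⟩ e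
  haveI hfp : Algebra.FinitePresentation Γ(S, V) Γ(X, U) :=
    HasRingHomProperty.appLE (P := @LocallyOfFinitePresentation) φ inferInstance ⟨V, hV⟩ ⟨U, hU⟩ e
  haveI hflatQ : Module.Flat Γ(S, V) (Γ(X, U) ⧸ I) :=
    (Groth.Agent.Lib.helper16.RelCartier.flat_comp_mk_iff _).mp hflat
  let r : Ideal Γ(X, U) := (hU.primeIdealOf ⟨x, hz⟩).asIdeal
  let p : Ideal Γ(S, V) := (hV.primeIdealOf ⟨φ x, e hz⟩).asIdeal
  haveI : r.LiesOver p := ⟨by
    have := IsAffineOpen.comap_primeIdealOf_appLE (f := φ) (x := x) V hV U hU e hz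
    exact (congrArg PrimeSpectrum.asIdeal this).symm⟩
  letI a1 : Algebra Γ(X, U) (X.presheaf.stalk x) := X.presheaf.algebra_section_stalk (⟨x, hz⟩ : U)
  haveI l1 : IsLocalization.AtPrime (X.presheaf.stalk x) r := hU.isLocalization_stalk ⟨x, hz⟩
  letI a3 : Algebra Γ(S, V) (X.presheaf.stalk x) :=
    ((algebraMap Γ(X, U) (X.presheaf.stalk x)).comp (algebraMap Γ(S, V) Γ(X, U))).toAlgebra
  haveI : IsScalarTower Γ(S, V) Γ(X, U) (X.presheaf.stalk x) :=
    IsScalarTower.of_algebraMap_eq' rfl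
  have hker := ker_fiberι_stalkMap_eq φ s z hV e hz
  obtain ⟨as, hlen, hasI, g, hg, H⟩ := exists_away_regFlat_of_fibre_gens I hI p r
    (X.presheaf.stalk x) ((φ.fiber s).presheaf.stalk z) ((φ.fiberι s).stalkMap z).hom
    ((φ.fiberι s).stalkMap_surjective z) hker ts hts hgen
  have hxg : x ∈ X.basicOpen g := by
    rw [Scheme.mem_basicOpen _ _ x hz]
    exact (IsLocalization.AtPrime.isUnit_to_map_iff (X.presheaf.stalk x) r g).mpr hg
  refine ⟨g, hxg, as, hlen, hasI, ?_⟩
  letI algAB' : Algebra Γ(S, V) Γ(X, X.basicOpen g) :=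
    (φ.appLE V (X.basicOpen g) ((X.basicOpen_le g).trans e)).hom.toAlgebra
  haveI : IsScalarTower Γ(S, V) Γ(X, U) Γ(X, X.basicOpen g) := by
    apply IsScalarTower.of_algebraMap_eq'
    have := Scheme.Hom.appLE_map φ e (homOfLE (X.basicOpen_le g)).op
    exact (congrArg CommRingCat.Hom.hom this).symm
  haveI : IsLocalization.Away g Γ(X, X.basicOpen g) := hU.isLocalization_basicOpen g
  exact H Γ(X, X.basicOpen g)

end Groth.Agent.LibFibReg29
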