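import Mathlib
import Groth.Prelude.Def_CAlgX
import Groth.Agent.Lib.Helper2.FlatSeq

/-!
# Quasi-regular sequences with flat quotient: base change (helper29)

Stacks 15.31.4 (1): if `f₁, …, f_r` is quasi-regular in `B` and `B/(f)` is flat over `A`, then all
`B/(f)ⁿ` are flat over `A` and the images of the `f_i` in `A' ⊗_A B` are quasi-regular.
-/

set_option autoImplicit false
universe u
open TensorProduct MvPolynomial

namespace Groth.Agent.LibQuasiBC29

section Basic

variable {B : Type u} [CommRing B] {r : ℕ} (f : Fin r → B)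

/-- the monomial `f^d`. -/
noncomputable def fpow (d : Fin r →₀ ℕ) : B := ∏ i, f i ^ d i

theorem eval_monomial_eq (d : Fin r →₀ ℕ) (b : B) : eval f (monomial d b) = b * fpow f d := by
  rw [MvPolynomial.eval_monomial, fpow, Finsupp.prod_fintype]
  intro i
  exact pow_zero _

/-- exponents of degree `n`. -/
noncomputable def Dn (r n : ℕ) : Finset (Fin r →₀ ℕ) :=
  (Finset.univ : Finset (Fin r)).finsuppAntidiag n

theorem mem_Dn {n : ℕ} {d : Fin r →₀ ℕ} : d ∈ Dn r n ↔ d.degree = n := by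
  rw [Dn, Finset.mem_finsuppAntidiag, Finsupp.degree_eq_sum]
  simp

theorem fpow_mem {n : ℕ} {d : Fin r →₀ ℕ} (hd : d.degree = n) :
    fpow f d ∈ Ideal.span (Set.range f) ^ n := by
  rw [Ideal.mem_span_pow_iff_exists_isHomogeneous]
  exact ⟨monomial d 1, isHomogeneous_monomial 1 hd, by rw [eval_monomial_eq, one_mul]⟩

/-- evaluation of a homogeneous polynomial as a sum over `Dn`. -/
theorem eval_eq_sum_of_isHomogeneous {n : ℕ} (P : MvPolynomial (Fin r) B)
    (hP : P.IsHomogeneous n) : eval f P = ∑ d ∈ Dn r n, P.coeff d * fpow f d := by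
  have hsub : P.support ⊆ Dn r n := by
    intro d hd
    rw [mem_Dn]
    by_contra hne
    exact (MvPolynomial.mem_support_iff.mp hd) (hP.coeff_eq_zero hne)
  conv_lhs => rw [P.as_sum]
  rw [map_sum, Finset.sum_subset hsub]
  · exact Finset.sum_congr rfl fun d _ => eval_monomial_eq f d _
  · intro d _ hd
    rw [MvPolynomial.notMem_support_iff.mp hd, monomial_zero, map_zero]

/-- the homogeneous polynomial with prescribed coefficients. -/
noncomputable def polyOf (n : ℕ) (c : (Fin r →₀ ℕ) → B) : MvPolynomial (Fin r) B :=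
  ∑ d ∈ Dn r n, monomial d (c d)

theorem polyOf_isHomogeneous (n : ℕ) (c : (Fin r →₀ ℕ) → B) : (polyOf n c).IsHomogeneous n :=
  IsHomogeneous.sum _ _ _ fun d hd => isHomogeneous_monomial _ (mem_Dn.mp hd)

theorem coeff_polyOf (n : ℕ) (c : (Fin r →₀ ℕ) → B) {d : Fin r →₀ ℕ} (hd : d ∈ Dn r n) :
    (polyOf n c).coeff d = c d := by
  classical
  rw [polyOf, coeff_sum]
  simp only [coeff_monomial]
  rw [Finset.sum_ite_eq' (Dn r n) d, if_pos hd]

theorem eval_polyOf (n : ℕ) (c : (Fin r →₀ ℕ) → B) :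
    eval f (polyOf n c) = ∑ d ∈ Dn r n, c d * fpow f d := by
  rw [polyOf, map_sum]
  exact Finset.sum_congr rfl fun d _ => eval_monomial_eq f d _

/-- quasi-regularity in terms of coefficient families. -/
theorem quasi_iff : CAlgX.IsQuasiRegular f ↔ ∀ (n : ℕ) (c : (Fin r →₀ ℕ) → B),
    (∑ d ∈ Dn r n, c d * fpow f d) ∈ Ideal.span (Set.range f) ^ (n + 1) →
      ∀ d ∈ Dn r n, c d ∈ Ideal.span (Set.range f) := by
  constructor
  · intro h n c hc d hd
    have := h n (polyOf n c) (polyOf_isHomogeneous n c) (by rw [eval_polyOf]; exact hc) d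
    rwa [coeff_polyOf n c hd] at this
  · intro h n P hP hmem d
    by_cases hd : d ∈ Dn r n
    · exact h n (fun d => P.coeff d) (by rw [← eval_eq_sum_of_isHomogeneous f P hP]; exact hmem)
        d hd
    · rw [hP.coeff_eq_zero (fun hh => hd (mem_Dn.mpr hh))]
      exact zero_mem _

/-- membership in `Jⁿ` in terms of coefficient families. -/
theorem mem_pow_iff {n : ℕ} (b : B) : b ∈ Ideal.span (Set.range f) ^ n ↔
    ∃ c : (Fin r →₀ ℕ) → B, b = ∑ d ∈ Dn r n, c d * fpow f d := by
  rw [Ideal.mem_span_pow_iff_exists_isHomogeneous]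
  constructor
  · rintro ⟨P, hP, rfl⟩
    exact ⟨fun d => P.coeff d, eval_eq_sum_of_isHomogeneous f P hP⟩
  · rintro ⟨c, rfl⟩
    exact ⟨polyOf n c, polyOf_isHomogeneous n c, eval_polyOf f n c⟩

end Basic

section Seq

variable {B : Type u} [CommRing B] {r : ℕ} (f : Fin r → B)

local notation "J" => Ideal.span (Set.range f)

theorem mul_fpow_mem {n : ℕ} {d : Fin r →₀ ℕ} (hd : d.degree = n) {j : B} (hj : j ∈ J) :
    fpow f d * j ∈ J ^ (n + 1) := by
  rw [pow_succ]
  exact Ideal.mul_mem_mul (fpow_mem f hd) hj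

/-- multiplication by `f^d` as a map `B/J → B/J^(n+1)`. -/
noncomputable def psi (n : ℕ) (d : Dn r n) : (B ⧸ J) →ₗ[B] B ⧸ J ^ (n + 1) :=
  Submodule.liftQ J (fpow f d.1 • Submodule.mkQ (J ^ (n + 1))) (by
    intro j hj
    rw [LinearMap.mem_ker, LinearMap.smul_apply, Submodule.mkQ_apply, ← Submodule.Quotient.mk_smul,
      Submodule.Quotient.mk_eq_zero, smul_eq_mul]
    exact mul_fpow_mem f (mem_Dn.mp d.2) hj)

theorem psi_mk (n : ℕ) (d : Dn r n) (b : B) :
    psi f n d (Ideal.Quotient.mk J b) = Ideal.Quotient.mk (J ^ (n + 1)) (fpow f d.1 * b) := by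
  rfl

/-- the map `(B/J)^{Dn} → B/J^(n+1)`. -/
noncomputable def PhiBar (n : ℕ) : (Dn r n → B ⧸ J) →ₗ[B] B ⧸ J ^ (n + 1) :=
  ∑ d : Dn r n, (psi f n d) ∘ₗ (LinearMap.proj d)

theorem phiBar_mk (n : ℕ) (c : (Fin r →₀ ℕ) → B) :
    PhiBar f n (fun d => Ideal.Quotient.mk J (c d.1)) =
      Ideal.Quotient.mk (J ^ (n + 1)) (∑ d ∈ Dn r n, c d * fpow f d) := by
  rw [PhiBar, LinearMap.sum_apply, map_sum, ← Finset.sum_coe_sort (Dn r n)]
  refine Finset.sum_congr rfl fun d _ => ?_
  rw [LinearMap.comp_apply, LinearMap.proj_apply, psi_mk, mul_comm]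

theorem exists_rep (n : ℕ) (cb : Dn r n → B ⧸ J) :
    ∃ c : (Fin r →₀ ℕ) → B, cb = fun d => Ideal.Quotient.mk J (c d.1) := by
  classical
  choose c hc using fun d => Ideal.Quotient.mk_surjective (cb d)
  refine ⟨fun d => if h : d ∈ Dn r n then c ⟨d, h⟩ else 0, ?_⟩
  funext d
  show cb d = Ideal.Quotient.mk J (if h : d.1 ∈ Dn r n then c ⟨d.1, h⟩ else 0)
  rw [dif_pos d.2, hc]

theorem phiBar_injective (hq : CAlgX.IsQuasiRegular f) (n : ℕ) :
    Function.Injective (PhiBar f n) := by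
  rw [injective_iff_map_eq_zero]
  intro cb hc
  obtain ⟨c, rfl⟩ := exists_rep f n cb
  rw [phiBar_mk, Ideal.Quotient.eq_zero_iff_mem] at hc
  funext d
  exact Ideal.Quotient.eq_zero_iff_mem.mpr ((quasi_iff f).mp hq n c hc d.1 d.2)

/-- the projection `B/J^(n+1) → B/J^n`. -/
noncomputable def piN (n : ℕ) : (B ⧸ J ^ (n + 1)) →ₗ[B] B ⧸ J ^ n :=
  Submodule.factor (Ideal.pow_le_pow_right (Nat.le_succ n))

theorem piN_mk (n : ℕ) (b : B) :
    piN f n (Ideal.Quotient.mk (J ^ (n + 1)) b) = Ideal.Quotient.mk (J ^ n) b := rfl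

theorem piN_surjective (n : ℕ) : Function.Surjective (piN f n) := by
  intro x
  obtain ⟨b, rfl⟩ := Ideal.Quotient.mk_surjective x
  exact ⟨Ideal.Quotient.mk _ b, rfl⟩

theorem exact_phiBar_piN (n : ℕ) : Function.Exact (PhiBar f n) (piN f n) := by
  intro x
  constructor
  · intro hx
    obtain ⟨b, rfl⟩ := Ideal.Quotient.mk_surjective x
    rw [piN_mk, Ideal.Quotient.eq_zero_iff_mem, mem_pow_iff] at hx
    obtain ⟨c, rfl⟩ := hx
    exact ⟨_, phiBar_mk f n c⟩
  · rintro ⟨cb, rfl⟩
    obtain ⟨c, rfl⟩ := exists_rep f n cb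
    rw [phiBar_mk, piN_mk, Ideal.Quotient.eq_zero_iff_mem]
    exact Ideal.sum_mem _ fun d hd => Ideal.mul_mem_left _ _ (fpow_mem f (mem_Dn.mp hd))

variable {A : Type u} [CommRing A] [Algebra A B]

/-- all the quotients `B/Jⁿ` are flat over `A`. -/
theorem flat_quotient_pow (hq : CAlgX.IsQuasiRegular f) [Module.Flat A (B ⧸ J)] (n : ℕ) :
    Module.Flat A (B ⧸ J ^ n) := by
  induction n with
  | zero =>
    haveI : Subsingleton (B ⧸ J ^ 0) := by
      rw [pow_zero, Ideal.one_eq_top]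
      exact Ideal.Quotient.subsingleton_iff.mpr rfl
    infer_instance
  | succ n ih =>
    haveI := ih
    haveI : Module.Flat A (Dn r n → B ⧸ J) :=
      Module.Flat.of_linearEquiv (DFinsupp.linearEquivFunOnFintype (R := A)
        (M := fun _ : Dn r n => B ⧸ J)).symm
    exact Groth.Agent.Lib.helper2.FlatSeq.flat_of_exact_mid
      ((PhiBar f n).restrictScalars A) ((piN f n).restrictScalars A)
      (phiBar_injective f hq n) (piN_surjective f n) (exact_phiBar_piN f n)

end Seq

section BaseChange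

variable (A B A' : Type u) [CommRing A] [CommRing B] [CommRing A'] [Algebra A B] [Algebra A A']
  {r : ℕ} (f : Fin r → B)

local notation "J" => Ideal.span (Set.range f)

/-- the images of the `f i` in `A' ⊗ B`. -/
noncomputable def fT : Fin r → A' ⊗[A] B := fun i => (1 : A') ⊗ₜ[A] f i

theorem fT_eq : fT A B A' f = (Algebra.TensorProduct.includeRight : B →ₐ[A] A' ⊗[A] B) ∘ f := rfl

theorem fpow_fT (d : Fin r →₀ ℕ) : fpow (fT A B A' f) d = (1 : A') ⊗ₜ[A] fpow f d := by
  rw [fpow, fpow, fT_eq]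
  have : ((1 : A') ⊗ₜ[A] ∏ i, f i ^ d i : A' ⊗[A] B) =
      (Algebra.TensorProduct.includeRight : B →ₐ[A] A' ⊗[A] B) (∏ i, f i ^ d i) := rfl
  rw [this, map_prod]
  simp only [map_pow, Function.comp_apply]

theorem span_fT : Ideal.span (Set.range (fT A B A' f)) =
    (J).map (Algebra.TensorProduct.includeRight : B →ₐ[A] A' ⊗[A] B) := by
  rw [Ideal.map_span, fT_eq, Set.range_comp]

/-- right multiplication by `1 ⊗ b` is `lTensor` of right multiplication by `b`. -/
theorem lTensor_mulRight (b : B) (x : A' ⊗[A] B) :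
    (LinearMap.mulRight A b).lTensor A' x = x * ((1 : A') ⊗ₜ[A] b) := by
  induction x using TensorProduct.induction_on with
  | zero => simp
  | tmul a y =>
    rw [LinearMap.lTensor_tmul, LinearMap.mulRight_apply, Algebra.TensorProduct.tmul_mul_tmul,
      mul_one]
  | add x y hx hy => rw [map_add, hx, hy, add_mul]

/-- the quotient map `B → B/Jᵐ` as an `A`-linear map. -/
noncomputable def qm (m : ℕ) : B →ₗ[A] B ⧸ J ^ m := (Ideal.Quotient.mkₐ A (J ^ m)).toLinearMap

theorem qm_apply (m : ℕ) (b : B) : qm A B f m b = Ideal.Quotient.mk (J ^ m) b := rfl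

theorem lTensor_qm_eq_zero (m : ℕ) (x : A' ⊗[A] B)
    (hx : x ∈ (J ^ m).map (Algebra.TensorProduct.includeRight : B →ₐ[A] A' ⊗[A] B)) :
    (qm A B f m).lTensor A' x = 0 := by
  suffices h : ∀ y : A' ⊗[A] B, (qm A B f m).lTensor A' (y * x) = 0 by simpa using h 1
  rw [Ideal.map] at hx
  induction hx using Submodule.span_induction with
  | mem x hx =>
    obtain ⟨j, hj, rfl⟩ := hx
    intro y
    have h1 : y * (Algebra.TensorProduct.includeRight : B →ₐ[A] A' ⊗[A] B) j =
        (LinearMap.mulRight A j).lTensor A' y := (lTensor_mulRight A B A' j y).symm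
    rw [h1, ← LinearMap.comp_apply, ← LinearMap.lTensor_comp]
    have h2 : (qm A B f m) ∘ₗ (LinearMap.mulRight A j) = 0 := by
      ext b
      rw [LinearMap.comp_apply, LinearMap.mulRight_apply, qm_apply, LinearMap.zero_apply,
        Ideal.Quotient.eq_zero_iff_mem]
      exact Ideal.mul_mem_left _ _ hj
    rw [h2, LinearMap.lTensor_zero, LinearMap.zero_apply]
  | zero => intro y; rw [mul_zero, map_zero]
  | add x y _ _ hx hy => intro z; rw [mul_add, map_add, hx, hy, add_zero]
  | smul a x _ hx =>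
    intro y
    rw [smul_eq_mul, ← mul_assoc]
    exact hx (y * a)

/-- the quotient map `B → B/J` as an `A`-linear map. -/
noncomputable def qJ : B →ₗ[A] B ⧸ J := (Ideal.Quotient.mkₐ A J).toLinearMap

theorem qJ_apply (b : B) : qJ A B f b = Ideal.Quotient.mk J b := rfl

/-- the kernel of `A' ⊗ B → A' ⊗ B/J` is contained in `J (A' ⊗ B)`. -/
theorem mem_map_of_lTensor_eq_zero (x : A' ⊗[A] B) (hx : (qJ A B f).lTensor A' x = 0) :
    x ∈ (J).map (Algebra.TensorProduct.includeRight : B →ₐ[A] A' ⊗[A] B) := by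
  have hex : Function.Exact ((J).restrictScalars A).subtype (qJ A B f) := by
    intro b
    rw [qJ_apply, Ideal.Quotient.eq_zero_iff_mem]
    constructor
    · intro hb; exact ⟨⟨b, hb⟩, rfl⟩
    · rintro ⟨⟨b', hb'⟩, rfl⟩; exact hb'
  have hsurj : Function.Surjective (qJ A B f) := Ideal.Quotient.mk_surjective
  obtain ⟨t, rfl⟩ := (lTensor_exact A' hex hsurj x).mp hx
  clear hx
  induction t using TensorProduct.induction_on with
  | zero => rw [map_zero]; exact zero_mem _
  | tmul a j =>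
    obtain ⟨j, hj⟩ := j
    rw [LinearMap.lTensor_tmul]
    change (a ⊗ₜ[A] j : A' ⊗[A] B) ∈ _
    have : (a ⊗ₜ[A] j : A' ⊗[A] B) = (a ⊗ₜ[A] (1 : B)) *
        (Algebra.TensorProduct.includeRight : B →ₐ[A] A' ⊗[A] B) j := by
      change _ = (a ⊗ₜ[A] (1 : B)) * ((1 : A') ⊗ₜ[A] j)
      rw [Algebra.TensorProduct.tmul_mul_tmul, mul_one, one_mul]
    rw [this]
    exact Ideal.mul_mem_left _ _ (Ideal.mem_map_of_mem _ hj)
  | add x y hx hy => rw [map_add]; exact add_mem hx hy

theorem phiBar_single (n : ℕ) (d : Dn r n) (b : B) :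
    PhiBar f n (Pi.single d (Ideal.Quotient.mk J b)) =
      Ideal.Quotient.mk (J ^ (n + 1)) (b * fpow f d.1) := by
  classical
  rw [PhiBar, LinearMap.sum_apply, Finset.sum_eq_single d]
  · rw [LinearMap.comp_apply, LinearMap.proj_apply, Pi.single_eq_same, psi_mk, mul_comm]
  · intro e _ hed
    rw [LinearMap.comp_apply, LinearMap.proj_apply, Pi.single_eq_of_ne hed, map_zero]
  · intro h; exact absurd (Finset.mem_univ d) h

/-- **Stacks 15.31.4 (1).** -/
theorem isQuasiRegular_baseChange (hflat : Module.Flat A (B ⧸ J)) (hq : CAlgX.IsQuasiRegular f) :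
    CAlgX.IsQuasiRegular (fT A B A' f) := by
  classical
  rw [quasi_iff]
  intro n c' hc' e he
  rw [span_fT] at hc' ⊢
  rw [← Ideal.map_pow] at hc'
  haveI : Module.Flat A (B ⧸ J ^ n) := flat_quotient_pow f hq n
  have hinj : Function.Injective (((PhiBar f n).restrictScalars A).lTensor A') :=
    LinearMap.lTensor_injective_of_exact_of_flat ((piN f n).restrictScalars A)
      (piN_surjective f n) ((PhiBar f n).restrictScalars A) (phiBar_injective f hq n)
      (exact_phiBar_piN f n) A'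
  set chat : A' ⊗[A] (Dn r n → B ⧸ J) := ∑ d : Dn r n,
    ((LinearMap.single A (fun _ : Dn r n => B ⧸ J) d ∘ₗ qJ A B f).lTensor A') (c' d.1) with hchat
  have h1 : ((PhiBar f n).restrictScalars A).lTensor A' chat =
      (qm A B f (n + 1)).lTensor A' (∑ d ∈ Dn r n, c' d * fpow (fT A B A' f) d) := by
    rw [hchat, map_sum, map_sum, ← Finset.sum_coe_sort (Dn r n)]
    refine Finset.sum_congr rfl fun d _ => ?_
    rw [fpow_fT, ← lTensor_mulRight, ← LinearMap.comp_apply, ← LinearMap.lTensor_comp,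
      ← LinearMap.comp_apply, ← LinearMap.lTensor_comp]
    congr 2
    ext b
    simp only [LinearMap.comp_apply, LinearMap.restrictScalars_apply, LinearMap.single_apply,
      qJ_apply, LinearMap.mulRight_apply, qm_apply]
    exact phiBar_single B f n d b
  have h2 : chat = 0 := hinj (by rw [h1, lTensor_qm_eq_zero A B A' f _ _ hc', map_zero])
  have h3 : ((LinearMap.proj ⟨e, he⟩ : (Dn r n → B ⧸ J) →ₗ[A] B ⧸ J).lTensor A') chat =
      (qJ A B f).lTensor A' (c' e) := by
    rw [hchat, map_sum, Finset.sum_eq_single ⟨e, he⟩]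
    · rw [← LinearMap.comp_apply, ← LinearMap.lTensor_comp]
      congr 2
      ext b
      simp
    · intro d _ hde
      rw [← LinearMap.comp_apply, ← LinearMap.lTensor_comp]
      have : (LinearMap.proj ⟨e, he⟩ : (Dn r n → B ⧸ J) →ₗ[A] B ⧸ J) ∘ₗ
          (LinearMap.single A (fun _ : Dn r n => B ⧸ J) d ∘ₗ qJ A B f) = 0 := by
        ext b
        simp [Pi.single_eq_of_ne hde.symm]
      rw [this, LinearMap.lTensor_zero, LinearMap.zero_apply]
    · intro h; exact absurd (Finset.mem_univ _) h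
  rw [h2, map_zero] at h3
  exact mem_map_of_lTensor_eq_zero A B A' f (c' e) h3.symm

end BaseChange

end Groth.Agent.LibQuasiBC29
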