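import Mathlib
import Groth.Prelude.Def_CAlgX
import Groth.Agent.LibQuasiBC29

/-!
# Quasi-regular sequences in Noetherian local rings are regular (helper29)

* `mem_pow_of_mul_mem` (Stacks 063H, key step): `f i₀ * z ∈ Jⁿ ⇒ z ∈ J^(n-1)` for a quasi-regular `f`.
* `isQuasiRegular_quotient` (Stacks 063H): `f₂, …, f_c` is quasi-regular in `R/(f₁)`.
* `isWeaklyRegular_of_isQuasiRegular` (Stacks 063I).
-/

set_option autoImplicit false
universe u
open MvPolynomial
open scoped Pointwise

namespace Groth.Agent.LibQuasiRegNoeth29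

open Groth.Agent.LibQuasiBC29

section General

variable {R : Type u} [CommRing R] {r : ℕ} (f : Fin r → R)

local notation "J" => Ideal.span (Set.range f)

/-- a homogeneous polynomial of degree `k` with coefficients in `J` has value in `J^(k+1)`. -/
theorem eval_mem_pow_succ {k : ℕ} (P : MvPolynomial (Fin r) R) (hP : P.IsHomogeneous k)
    (hc : ∀ d, P.coeff d ∈ J) : eval f P ∈ J ^ (k + 1) := by
  rw [eval_eq_sum_of_isHomogeneous f P hP, pow_succ']
  exact Ideal.sum_mem _ fun d hd => Ideal.mul_mem_mul (hc d) (fpow_mem f (mem_Dn.mp hd))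

theorem coeff_mem_of_mul_mem (hq : CAlgX.IsQuasiRegular f) (i₀ : Fin r) {k : ℕ}
    (P : MvPolynomial (Fin r) R) (hP : P.IsHomogeneous k)
    (h : f i₀ * eval f P ∈ J ^ (k + 2)) (d : Fin r →₀ ℕ) : P.coeff d ∈ J := by
  have hP' : (X i₀ * P).IsHomogeneous (k + 1) := by
    rw [add_comm]
    exact (isHomogeneous_X R i₀).mul hP
  have := hq (k + 1) (X i₀ * P) hP' (by rw [map_mul, eval_X]; exact h) (Finsupp.single i₀ 1 + d)
  rwa [coeff_X_mul] at this

/-- `J^n ∩ f_{i₀} R ⊆ f_{i₀} J^(n-1)`. -/
theorem mem_pow_of_mul_mem (hq : CAlgX.IsQuasiRegular f) (i₀ : Fin r) (n : ℕ) (z : R)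
    (h : f i₀ * z ∈ J ^ (n + 1)) : z ∈ J ^ n := by
  have key : ∀ k, k ≤ n → z ∈ J ^ k := by
    intro k
    induction k with
    | zero => intro _; rw [pow_zero, Ideal.one_eq_top]; trivial
    | succ k ih =>
      intro hk
      have hz := ih (Nat.le_of_succ_le hk)
      obtain ⟨P, hP, rfl⟩ := (Ideal.mem_span_pow_iff_exists_isHomogeneous f z).mp hz
      have h' : f i₀ * eval f P ∈ J ^ (k + 2) :=
        Ideal.pow_le_pow_right (by omega) h
      exact eval_mem_pow_succ f P hP (coeff_mem_of_mul_mem f hq i₀ P hP h')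
  exact key n le_rfl

/-- lifting a homogeneous polynomial along a surjective ring map. -/
theorem exists_isHomogeneous_map_eq {R' : Type u} [CommRing R'] (π : R →+* R')
    (hπ : Function.Surjective π) {c n : ℕ} (Pb : MvPolynomial (Fin c) R')
    (hPb : Pb.IsHomogeneous n) :
    ∃ P₀ : MvPolynomial (Fin c) R, P₀.IsHomogeneous n ∧ map π P₀ = Pb := by
  refine ⟨∑ d ∈ Pb.support, monomial d (Function.surjInv hπ (Pb.coeff d)), ?_, ?_⟩
  · refine IsHomogeneous.sum _ _ _ fun d hd => isHomogeneous_monomial _ ?_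
    by_contra hne
    exact (MvPolynomial.mem_support_iff.mp hd) (hPb.coeff_eq_zero hne)
  · rw [map_sum]
    conv_rhs => rw [Pb.as_sum]
    refine Finset.sum_congr rfl fun d _ => ?_
    rw [map_monomial, Function.surjInv_eq hπ]

/-- **Stacks 063H**: the tail of a quasi-regular sequence is quasi-regular modulo its head. -/
theorem isQuasiRegular_quotient {c : ℕ} (f : Fin (c + 1) → R) (hq : CAlgX.IsQuasiRegular f) :
    CAlgX.IsQuasiRegular
      (fun i : Fin c => Ideal.Quotient.mk (Ideal.span {f 0}) (f i.succ)) := by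
  classical
  set π := Ideal.Quotient.mk (Ideal.span {f 0}) with hπdef
  have hπ : Function.Surjective π := Ideal.Quotient.mk_surjective
  set g : Fin c → R ⧸ Ideal.span {f 0} := fun i => π (f i.succ) with hg
  -- the ideals
  have hJg : Ideal.span (Set.range g) = (Ideal.span (Set.range f)).map π := by
    rw [Ideal.map_span]
    apply le_antisymm
    · rw [Ideal.span_le]
      rintro _ ⟨i, rfl⟩
      exact Ideal.subset_span ⟨f i.succ, ⟨i.succ, rfl⟩, rfl⟩
    · rw [Ideal.span_le]
      rintro _ ⟨_, ⟨i, rfl⟩, rfl⟩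
      refine Fin.cases ?_ (fun j => ?_) i
      · have : π (f 0) = 0 :=
          Ideal.Quotient.eq_zero_iff_mem.mpr (Ideal.mem_span_singleton_self _)
        rw [SetLike.mem_coe, this]
        exact zero_mem _
      · exact Ideal.subset_span ⟨j, rfl⟩
  intro n Pb hPb hmem d
  obtain ⟨P₀, hP₀, rfl⟩ := exists_isHomogeneous_map_eq π hπ Pb hPb
  rw [coeff_map, hJg]
  apply Ideal.mem_map_of_mem
  -- the polynomial in `c + 1` variables
  set P : MvPolynomial (Fin (c + 1)) R := rename Fin.succ P₀ with hPdef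
  have hP : P.IsHomogeneous n := hP₀.rename_isHomogeneous
  have hevalP : eval f P = eval (f ∘ Fin.succ) P₀ := eval_rename _ _ _
  have hcoeffP : P.coeff (Finsupp.mapDomain Fin.succ d) = P₀.coeff d :=
    coeff_rename_mapDomain Fin.succ (Fin.succ_injective _) P₀ d
  -- the value
  have heval : eval g (map π P₀) = π (eval (f ∘ Fin.succ) P₀) :=
    (map_eval π (f ∘ Fin.succ) P₀).symm
  rw [heval, hJg, ← Ideal.map_pow] at hmem
  obtain ⟨y, hy, hyπ⟩ := (Ideal.mem_map_iff_of_surjective π hπ).mp hmem
  have hker : eval f P - y ∈ Ideal.span {f 0} := by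
    rw [← Ideal.Quotient.eq_zero_iff_mem, map_sub, hevalP, ← hπdef, hyπ, sub_self]
  obtain ⟨z, hz⟩ := Ideal.mem_span_singleton'.mp hker
  have hf0 : f 0 ∈ Ideal.span (Set.range f) := Ideal.subset_span ⟨0, rfl⟩
  rw [← hcoeffP]
  cases n with
  | zero =>
    refine hq 0 P hP ?_ _
    have : eval f P = y + z * f 0 := by rw [hz]; ring
    rw [this]
    exact add_mem hy (by rw [zero_add, pow_one]; exact Ideal.mul_mem_left _ _ hf0)
  | succ m =>
    have ha : eval f P ∈ Ideal.span (Set.range f) ^ (m + 1) :=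
      (Ideal.mem_span_pow_iff_exists_isHomogeneous f _).mpr ⟨P, hP, rfl⟩
    have hfz : f 0 * z ∈ Ideal.span (Set.range f) ^ (m + 1) := by
      rw [mul_comm, hz]
      exact sub_mem ha (Ideal.pow_le_pow_right (Nat.le_succ _) hy)
    have hzm := mem_pow_of_mul_mem f hq 0 m z hfz
    obtain ⟨G, hG, rfl⟩ := (Ideal.mem_span_pow_iff_exists_isHomogeneous f z).mp hzm
    have hXG : (X 0 * G).IsHomogeneous (m + 1) := by
      have h1 : (X 0 * G).IsHomogeneous (1 + m) := (isHomogeneous_X R 0).mul hG
      rwa [Nat.add_comm 1 m] at h1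
    have hQ : (P - X 0 * G).IsHomogeneous (m + 1) := hP.sub hXG
    have hQeval : eval f (P - X 0 * G) = y := by
      rw [map_sub, map_mul, eval_X, mul_comm, hz]
      ring
    have := hq (m + 1) (P - X 0 * G) hQ (by rw [hQeval]; exact hy)
      (Finsupp.mapDomain Fin.succ d)
    rw [coeff_sub, coeff_X_mul', if_neg, sub_zero] at this
    · exact this
    · rw [Finsupp.mem_support_iff, not_not]
      rw [Finsupp.mapDomain_notin_range]
      rintro ⟨j, hj⟩
      exact Fin.succ_ne_zero j hj

end General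

section Local

variable {R : Type u} [CommRing R] [IsLocalRing R] [IsNoetherianRing R] {r : ℕ} (f : Fin r → R)

/-- in a Noetherian local ring, the members of a quasi-regular sequence contained in the maximal
ideal are nonzerodivisors. -/
theorem isSMulRegular_of_isQuasiRegular (hq : CAlgX.IsQuasiRegular f)
    (hm : ∀ i, f i ∈ IsLocalRing.maximalIdeal R) (i₀ : Fin r) : IsSMulRegular R (f i₀) := by
  refine IsSMulRegular.of_right_eq_zero_of_smul ?_
  intro x hx
  rw [smul_eq_mul] at hx
  have hJ : Ideal.span (Set.range f) ≠ ⊤ := by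
    intro htop
    have hle : Ideal.span (Set.range f) ≤ IsLocalRing.maximalIdeal R := by
      rw [Ideal.span_le]
      rintro _ ⟨i, rfl⟩
      exact hm i
    exact (IsLocalRing.maximalIdeal.isMaximal R).ne_top (top_le_iff.mp (htop ▸ hle))
  have hall : ∀ n, x ∈ Ideal.span (Set.range f) ^ n := fun n =>
    mem_pow_of_mul_mem f hq i₀ n x (by rw [hx]; exact zero_mem _)
  have : x ∈ (⨅ n : ℕ, Ideal.span (Set.range f) ^ n) := by
    rw [Ideal.mem_iInf]
    exact hall
  rw [Ideal.iInf_pow_eq_bot_of_isLocalRing _ hJ] at this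
  exact this

end Local

open RingTheory.Sequence in
/-- **Stacks 063I**: in a Noetherian local ring a quasi-regular sequence contained in the maximal
ideal is a regular sequence. -/
theorem isWeaklyRegular_of_isQuasiRegular : ∀ (c : ℕ) (R : Type u) [CommRing R] [IsLocalRing R]
    [IsNoetherianRing R] (f : Fin c → R), CAlgX.IsQuasiRegular f →
    (∀ i, f i ∈ IsLocalRing.maximalIdeal R) → IsWeaklyRegular R (List.ofFn f)
  | 0, R, _, _, _, f, _, _ => by
    rw [List.ofFn_zero]
    exact IsWeaklyRegular.nil R R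
  | c + 1, R, _, _, _, f, hq, hm => by
    rw [List.ofFn_succ, isWeaklyRegular_cons_iff]
    refine ⟨isSMulRegular_of_isQuasiRegular f hq hm 0, ?_⟩
    have hne : Ideal.span {f 0} ≠ ⊤ := by
      intro htop
      have hle : Ideal.span {f 0} ≤ IsLocalRing.maximalIdeal R := by
        rw [Ideal.span_le, Set.singleton_subset_iff]
        exact hm 0
      exact (IsLocalRing.maximalIdeal.isMaximal R).ne_top (top_le_iff.mp (htop ▸ hle))
    haveI : Nontrivial (R ⧸ Ideal.span {f 0}) := Ideal.Quotient.nontrivial_iff.mpr hne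
    haveI : IsLocalRing (R ⧸ Ideal.span {f 0}) :=
      IsLocalRing.of_surjective' (Ideal.Quotient.mk _) Ideal.Quotient.mk_surjective
    have IH := isWeaklyRegular_of_isQuasiRegular c (R ⧸ Ideal.span {f 0})
      (fun i : Fin c => Ideal.Quotient.mk (Ideal.span {f 0}) (f i.succ))
      (isQuasiRegular_quotient f hq) (fun i => by
        haveI : IsLocalHom (Ideal.Quotient.mk (Ideal.span {f 0})) :=
          IsLocalHom.of_surjective _ Ideal.Quotient.mk_surjective
        exact map_nonunit (Ideal.Quotient.mk (Ideal.span {f 0})) _ (hm i.succ))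
    have hmap : List.ofFn (fun i : Fin c => Ideal.Quotient.mk (Ideal.span {f 0}) (f i.succ)) =
        (List.ofFn fun i : Fin c => f i.succ).map (algebraMap R (R ⧸ Ideal.span {f 0})) := by
      rw [List.map_ofFn]
      rfl
    rw [hmap, isWeaklyRegular_map_algebraMap_iff] at IH
    have heq : (f 0 • (⊤ : Submodule R R) : Submodule R R) = Ideal.span {f 0} := by
      rw [← Submodule.ideal_span_singleton_smul, smul_eq_mul, Ideal.mul_top]
    exact ((Submodule.quotEquivOfEq _ _ heq).isWeaklyRegular_congr _).mpr IH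

end Groth.Agent.LibQuasiRegNoeth29
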