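import Mathlib
import Groth.Prelude.Def_LCI2
import Groth.Agent.LibKoszulFFDescent29

/-!
# Generic faithfully flat descent of "locally generated by a sequence of class `C`" ideals
(helper29)

`SeqClass` axiomatizes a property `P R l` of finite sequences `l` in commutative rings `R`
(intended: Koszul-regular, `H_1`-regular, quasi-regular) through the permanence properties used in
the descent arguments.  `SeqClass.IsLocally C I`: around every prime containing `I`, on a basic
open, `I` is generated by a sequence with `C.P`.  Main result: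
`SeqClass.isLocally_of_faithfullyFlat_ringHom` (generic version of
`LibKoszulFFDescent29.isKoszulRegularIdeal_of_faithfullyFlat_ringHom`).
-/

set_option autoImplicit false
universe u

namespace Groth.Agent.LibSeqClass29

open Groth.Agent.LibKoszulFFDescent29

/-- a class of finite sequences in commutative rings with the permanence properties needed for
faithfully flat descent of the ideals they generate. -/
structure SeqClass : Type (u + 1) where
  P : ∀ (R : Type u) [CommRing R], List R → Prop
  map_flat : ∀ {R R' : Type u} [CommRing R] [CommRing R'] (φ : R →+* R'), φ.Flat →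
    ∀ l : List R, P R l → P R' (l.map φ)
  of_faithfullyFlat : ∀ {R R' : Type u} [CommRing R] [CommRing R'] (φ : R →+* R'),
    φ.FaithfullyFlat → ∀ l : List R, P R' (l.map φ) → P R l
  of_forall_away : ∀ {R : Type u} [CommRing R] (l : List R),
    (∀ 𝔮 : PrimeSpectrum R, ∃ g : R, g ∉ 𝔮.asIdeal ∧
      P (Localization.Away g) (l.map (algebraMap R (Localization.Away g)))) → P R l
  of_isUnit_mem : ∀ {R : Type u} [CommRing R] (l : List R) (x : R), x ∈ l → IsUnit x → P R l
  of_ofList_eq : ∀ {R : Type u} [CommRing R] (l l' : List R), P R l →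
    Ideal.ofList l' = Ideal.ofList l → l'.length = l.length → P R l'
  coord_mem : ∀ {R : Type u} [CommRing R] (l : List R), P R l →
    ∀ ρ : Fin l.length → R, ∑ k, ρ k * l.get k = 0 → ∀ k, ρ k ∈ Ideal.ofList l

namespace SeqClass

variable (C : SeqClass.{u})

/-- around every prime containing `I`, on a basic open, `I` is generated by a sequence of class
`C`. -/
def IsLocally {A : Type u} [CommRing A] (I : Ideal A) : Prop :=
  ∀ 𝔭 : PrimeSpectrum A, I ≤ 𝔭.asIdeal → ∃ g : A, g ∉ 𝔭.asIdeal ∧
    ∃ l : List (Localization.Away g), C.P (Localization.Away g) l ∧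
      I.map (algebraMap A (Localization.Away g)) = Ideal.ofList l

section FG

variable {A : Type u} [CommRing A]

theorem fg_of_isLocally (J : Ideal A) (hJ : C.IsLocally J) : J.FG := by
  classical
  set t : Set A := {g | (J.map (algebraMap A (Localization.Away g))).FG} with ht
  have hspan : Ideal.span t = ⊤ := by
    by_contra hne
    obtain ⟨m, hm, hle⟩ := Ideal.exists_le_maximal _ hne
    by_cases hJm : J ≤ m
    · obtain ⟨g, hg, l, -, hl⟩ := hJ ⟨m, hm.isPrime⟩ hJm
      apply hg
      apply hle
      apply Ideal.subset_span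
      change (J.map (algebraMap A (Localization.Away g))).FG
      rw [hl]
      exact ⟨l.toFinset, by rw [Ideal.ofList]; congr 1; ext x; simp⟩
    · obtain ⟨a, haJ, ham⟩ := SetLike.not_le_iff_exists.mp hJm
      apply ham
      apply hle
      apply Ideal.subset_span
      change (J.map (algebraMap A (Localization.Away a))).FG
      have : J.map (algebraMap A (Localization.Away a)) = ⊤ := by
        apply Ideal.eq_top_of_isUnit_mem _ (Ideal.mem_map_of_mem _ haJ)
        exact IsLocalization.Away.algebraMap_isUnit a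
      rw [this]
      exact ⟨{1}, by simp⟩
  exact Ideal.fg_of_localizationSpan t hspan (fun g => g.2)

end FG

section Minimal

variable {B : Type u} [CommRing B]

/-- a sequence of class `C` is a minimal system of generators near every prime containing
it. -/
theorem length_le_of_genLE (l : List B) (hl : C.P B l)
    (𝔮 : Ideal B) [h𝔮 : 𝔮.IsPrime] (hle : Ideal.ofList l ≤ 𝔮) (m : ℕ)
    (h : GenLE (Ideal.ofList l) 𝔮 m) : l.length ≤ m := by
  classical
  obtain ⟨κ, _, u, hcκ, hu, g, hg, hgen⟩ := h
  have hspan : Ideal.ofList l = Ideal.span (Set.range l.get) := by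
    rw [Ideal.ofList, Set.range_list_get]
  have h1 : ∀ i : Fin l.length, ∃ c : κ → B, ∑ j, c j * u j = g * l.get i := fun i =>
    (Ideal.mem_span_range_iff_exists_fun).1
      (hgen _ (Ideal.subset_span (List.get_mem l i)))
  choose c hc using h1
  have h2 : ∀ j, ∃ e : Fin l.length → B, ∑ k, e k * l.get k = u j := fun j => by
    have := hu j
    rw [hspan] at this
    exact (Ideal.mem_span_range_iff_exists_fun).1 this
  choose e he using h2
  have hle' : Fintype.card (Fin l.length) ≤ Fintype.card κ := by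
    apply card_le_of_forall_mem_prime 𝔮 c e g hg
    intro i
    set ρ : Fin l.length → B := fun k => (if i = k then g else 0) - ∑ j, c i j * e j k with hρ
    have hsum : ∑ k, ρ k * l.get k = 0 := by
      simp only [hρ, sub_mul, Finset.sum_sub_distrib]
      rw [sub_eq_zero]
      have e1 : ∑ k, (if i = k then g else 0) * l.get k = g * l.get i := by
        simp [Finset.sum_ite_eq]
      have e2 : ∑ k, (∑ j, c i j * e j k) * l.get k = ∑ j, c i j * u j := by
        simp_rw [← he, Finset.mul_sum, Finset.sum_mul]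
        rw [Finset.sum_comm]
        refine Finset.sum_congr rfl fun j _ => Finset.sum_congr rfl fun k _ => by ring
      rw [e1, e2, hc]
    intro k
    exact hle (C.coord_mem l hl ρ hsum k)
  simpa using hle'.trans hcκ

end Minimal

section Away

variable {B : Type u} [CommRing B]

/-- for an ideal `J` locally of class `C`, the set of primes `𝔮 ⊇ J` near which `J` has at most
`m` generators is closed. -/
theorem isClosed_setOf_genLE (J : Ideal B) (hJ : C.IsLocally J) (m : ℕ) :
    IsClosed {𝔮 : PrimeSpectrum B | J ≤ 𝔮.asIdeal ∧ GenLE J 𝔮.asIdeal m} := by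
  have hfg : J.FG := C.fg_of_isLocally J hJ
  rw [← isOpen_compl_iff, isOpen_iff_forall_mem_open]
  intro 𝔮 h𝔮
  by_cases hle : J ≤ 𝔮.asIdeal
  · obtain ⟨g, hg, l, hl, hspan⟩ := hJ 𝔮 hle
    have hnot : ¬ GenLE J 𝔮.asIdeal m := fun h => h𝔮 ⟨hle, h⟩
    have hlen : m < l.length := by
      by_contra hcon
      push Not at hcon
      exact hnot ((GenLE.of_away J hfg g l hspan 𝔮.asIdeal hg).mono hcon)
    refine ⟨PrimeSpectrum.basicOpen g, ?_, (PrimeSpectrum.basicOpen g).isOpen, hg⟩
    rintro 𝔮'' (hg'' : g ∉ 𝔮''.asIdeal) ⟨hle'', hgen''⟩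
    have hdisj : Disjoint (Submonoid.powers g : Set B) 𝔮''.asIdeal :=
      (Ideal.disjoint_powers_iff_notMem_of_isPrime g).2 hg''
    have h𝔔prime : (𝔮''.asIdeal.map (algebraMap B (Localization.Away g))).IsPrime :=
      IsLocalization.isPrime_of_isPrime_disjoint (Submonoid.powers g) _ _ 𝔮''.isPrime hdisj
    have hcomap : (𝔮''.asIdeal.map (algebraMap B (Localization.Away g))).comap
        (algebraMap B (Localization.Away g)) = 𝔮''.asIdeal :=
      IsLocalization.under_map_of_isPrime_disjoint (Submonoid.powers g) _ 𝔮''.isPrime hdisj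
    have hofList : Ideal.ofList l = J.map (algebraMap B (Localization.Away g)) := hspan.symm
    have h3 : GenLE (Ideal.ofList l) (𝔮''.asIdeal.map (algebraMap B (Localization.Away g))) m := by
      rw [hofList]
      apply GenLE.map
      rw [hcomap]
      exact hgen''
    have h4 : Ideal.ofList l ≤ 𝔮''.asIdeal.map (algebraMap B (Localization.Away g)) := by
      rw [hofList]
      exact Ideal.map_mono hle''
    have := C.length_le_of_genLE l hl _ h4 m h3
    omega
  · refine ⟨(PrimeSpectrum.zeroLocus J)ᶜ, ?_, (PrimeSpectrum.isClosed_zeroLocus _).isOpen_compl,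
      ?_⟩
    · rintro 𝔮'' h'' ⟨hle'', -⟩
      exact h'' hle''
    · exact hle

end Away

section Descent

variable {A B : Type u} [CommRing A] [CommRing B]

theorem isClosed_setOf_genLE_of_faithfullyFlat (φ : A →+* B) (hφ : φ.FaithfullyFlat)
    (I : Ideal A) (hI : I.FG) (hJ : C.IsLocally (I.map φ)) (m : ℕ) :
    IsClosed {𝔭 : PrimeSpectrum A | I ≤ 𝔭.asIdeal ∧ GenLE I 𝔭.asIdeal m} := by
  have hq : Topology.IsQuotientMap (PrimeSpectrum.comap φ) :=
    PrimeSpectrum.isQuotientMap_of_generalizingMap
      (RingHom.FaithfullyFlat.iff_flat_and_comap_surjective.1 hφ).2 hφ.flat.generalizingMap_comap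
  rw [← hq.isClosed_preimage]
  convert C.isClosed_setOf_genLE (I.map φ) hJ m using 1
  ext 𝔮
  simp only [Set.mem_preimage, Set.mem_ofPred_eq]
  constructor
  · rintro ⟨h1, h2⟩
    exact ⟨Ideal.map_le_iff_le_comap.2 h1, GenLE.map φ h2⟩
  · rintro ⟨h1, h2⟩
    exact ⟨Ideal.map_le_iff_le_comap.1 h1, GenLE.descend φ hφ.flat I hI 𝔮.asIdeal m h2⟩

/-- flat base change of ideals locally of class `C`. -/
theorem isLocally_map_of_flat {B' : Type u} [CommRing B'] (ψ : B →+* B') (hψ : ψ.Flat)
    (J : Ideal B) (hJ : C.IsLocally J) : C.IsLocally (J.map ψ) := by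
  intro 𝔮' h𝔮'
  have h𝔮 : J ≤ (PrimeSpectrum.comap ψ 𝔮').asIdeal := Ideal.map_le_iff_le_comap.1 h𝔮'
  obtain ⟨g, hg, l, hl, hspan⟩ := hJ (PrimeSpectrum.comap ψ 𝔮') h𝔮
  refine ⟨ψ g, hg, ?_⟩
  have hψg : (IsLocalization.Away.map (Localization.Away g) (Localization.Away (ψ g)) ψ g).Flat :=
    RingHom.Flat.propertyIsLocal.localizationAwayPreserves ψ g _ _ hψ
  have hcomm : (IsLocalization.Away.map (Localization.Away g) (Localization.Away (ψ g)) ψ g).comp
      (algebraMap B (Localization.Away g)) = (algebraMap B' (Localization.Away (ψ g))).comp ψ :=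
    IsLocalization.map_comp _
  refine ⟨l.map (IsLocalization.Away.map (Localization.Away g) (Localization.Away (ψ g)) ψ g),
    C.map_flat _ hψg l hl, ?_⟩
  rw [Ideal.map_map, ← hcomm, ← Ideal.map_map, hspan, Ideal.map_ofList]

/-- descent with global generators, all of whose upstairs generator counts agree. -/
theorem of_faithfullyFlat_of_min (φ : A →+* B) (hφ : φ.FaithfullyFlat)
    (t : List A) (hJ : C.IsLocally ((Ideal.ofList t).map φ))
    (hmin : ∀ 𝔮 : PrimeSpectrum B, (Ideal.ofList t).map φ ≤ 𝔮.asIdeal → ∀ m < t.length,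
      ¬ GenLE ((Ideal.ofList t).map φ) 𝔮.asIdeal m) :
    C.P A t := by
  apply C.of_faithfullyFlat φ hφ
  apply C.of_forall_away
  intro 𝔮
  have hJt : (Ideal.ofList t).map φ = Ideal.ofList (t.map φ) := Ideal.map_ofList _ _
  by_cases hle : (Ideal.ofList t).map φ ≤ 𝔮.asIdeal
  · obtain ⟨g, hg, l, hl, hspan⟩ := hJ 𝔮 hle
    refine ⟨g, hg, ?_⟩
    have hfg : ((Ideal.ofList t).map φ).FG := C.fg_of_isLocally _ hJ
    have hge : t.length ≤ l.length := by
      by_contra hcon
      push Not at hcon
      exact hmin 𝔮 hle _ hcon (GenLE.of_away _ hfg g l hspan 𝔮.asIdeal hg)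
    have hdisj : Disjoint (Submonoid.powers g : Set B) 𝔮.asIdeal :=
      (Ideal.disjoint_powers_iff_notMem_of_isPrime g).2 hg
    have h𝔔prime : (𝔮.asIdeal.map (algebraMap B (Localization.Away g))).IsPrime :=
      IsLocalization.isPrime_of_isPrime_disjoint (Submonoid.powers g) _ _ 𝔮.isPrime hdisj
    have hofList : Ideal.ofList ((t.map φ).map (algebraMap B (Localization.Away g))) =
        Ideal.ofList l := by
      rw [← Ideal.map_ofList, ← hJt, hspan]
    have hle' : l.length ≤ t.length := by
      have h3 := GenLE.of_ofList ((t.map φ).map (algebraMap B (Localization.Away g)))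
        (𝔮.asIdeal.map (algebraMap B (Localization.Away g)))
      rw [hofList] at h3
      have h4 : Ideal.ofList l ≤ 𝔮.asIdeal.map (algebraMap B (Localization.Away g)) := by
        rw [← hspan]
        exact Ideal.map_mono hle
      have := C.length_le_of_genLE l hl _ h4 _ h3
      simpa using this
    exact C.of_ofList_eq l _ hl hofList (by simp; omega)
  · have hex : ∃ x ∈ t.map φ, x ∉ 𝔮.asIdeal := by
      by_contra hcon
      push Not at hcon
      apply hle
      rw [hJt]
      exact Ideal.span_le.2 hcon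
    obtain ⟨x, hx, hx𝔮⟩ := hex
    exact ⟨x, hx𝔮, C.of_isUnit_mem _ (algebraMap B (Localization.Away x) x)
      (List.mem_map_of_mem hx) (IsLocalization.Away.algebraMap_isUnit x)⟩

/-- **Faithfully flat descent of ideals locally of class `C`** (ring hom form). -/
theorem isLocally_of_faithfullyFlat_ringHom (φ : A →+* B) (hφ : φ.FaithfullyFlat)
    (I : Ideal A) (hJ : C.IsLocally (I.map φ)) : C.IsLocally I := by
  classical
  have hIfg : I.FG := by
    letI := φ.toAlgebra
    haveI : Module.FaithfullyFlat A B := hφ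
    exact Ideal.FG.of_FG_map_of_faithfullyFlat (C.fg_of_isLocally _ hJ)
  intro 𝔭 h𝔭
  have hex := GenLE.of_fg hIfg 𝔭.asIdeal
  obtain ⟨ι, _, t, hc, ht, a₁, ha₁, hgen⟩ := Nat.find_spec hex
  have hcard : Fintype.card ι = Nat.find hex := by
    by_contra hne
    exact Nat.find_min hex (lt_of_le_of_ne hc hne) ⟨ι, _, t, le_rfl, ht, a₁, ha₁, hgen⟩
  obtain ⟨a₂, ha₂, hZ⟩ : ∃ a₂ : A, a₂ ∉ 𝔭.asIdeal ∧ ∀ 𝔭' : PrimeSpectrum A,
      a₂ ∉ 𝔭'.asIdeal → I ≤ 𝔭'.asIdeal → ∀ m < Nat.find hex, ¬ GenLE I 𝔭'.asIdeal m := by
    rcases Nat.eq_zero_or_pos (Nat.find hex) with h0 | hpos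
    · exact ⟨1, fun h => 𝔭.isPrime.ne_top ((Ideal.eq_top_iff_one _).2 h),
        fun _ _ _ m hm => by omega⟩
    · have hcl := C.isClosed_setOf_genLE_of_faithfullyFlat φ hφ I hIfg hJ (Nat.find hex - 1)
      have h𝔭Z : 𝔭 ∈ {𝔭 : PrimeSpectrum A | I ≤ 𝔭.asIdeal ∧
          GenLE I 𝔭.asIdeal (Nat.find hex - 1)}ᶜ :=
        fun h => Nat.find_min hex (by omega) h.2
      obtain ⟨_, ⟨_, ⟨a₂, rfl⟩, rfl⟩, h1, h2⟩ :=
        PrimeSpectrum.isBasis_basic_opens.exists_subset_of_mem_open h𝔭Z hcl.isOpen_compl
      exact ⟨a₂, h1, fun 𝔭' h' hI' m hm hG => h2 h' ⟨hI', hG.mono (by omega)⟩⟩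
  have ha : a₁ * a₂ ∉ 𝔭.asIdeal := fun h => (𝔭.isPrime.mem_or_mem h).elim ha₁ ha₂
  refine ⟨a₁ * a₂, ha, ?_⟩
  set a := a₁ * a₂ with hadef
  set e : ι ≃ Fin (Nat.find hex) := Fintype.equivFinOfCardEq hcard with he
  set tl : List A := List.ofFn (t ∘ e.symm) with htl
  have htl_len : tl.length = Nat.find hex := List.length_ofFn
  have hoftl : Ideal.ofList tl = Ideal.span (Set.range t) := by
    rw [Ideal.ofList]
    congr 1
    ext x
    simp only [Set.mem_ofPred_eq, htl, List.mem_ofFn, Set.mem_range, Function.comp_apply]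
    constructor
    · rintro ⟨k, rfl⟩
      exact ⟨_, rfl⟩
    · rintro ⟨i, rfl⟩
      exact ⟨e i, by simp⟩
  have hunit₁ : IsUnit (algebraMap A (Localization.Away a) a₁) := by
    have h1 : IsUnit (algebraMap A (Localization.Away a) a) :=
      IsLocalization.Away.algebraMap_isUnit a
    rw [hadef, map_mul] at h1
    exact isUnit_of_mul_isUnit_left h1
  have hspan' : I.map (algebraMap A (Localization.Away a)) =
      Ideal.ofList (tl.map (algebraMap A (Localization.Away a))) := by
    rw [← Ideal.map_ofList, hoftl]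
    apply le_antisymm
    · rw [Ideal.map_le_iff_le_comap]
      intro x hx
      rw [Ideal.mem_comap]
      have h1 := Ideal.mem_map_of_mem (algebraMap A (Localization.Away a)) (hgen x hx)
      rw [map_mul] at h1
      obtain ⟨u, hu⟩ := hunit₁
      rw [← hu] at h1
      have h2 := Ideal.mul_mem_left _ (↑u⁻¹ : Localization.Away a) h1
      rwa [← mul_assoc, Units.inv_mul, one_mul] at h2
    · apply Ideal.map_mono
      rw [Ideal.span_le]
      rintro _ ⟨i, rfl⟩
      exact ht i
  refine ⟨tl.map (algebraMap A (Localization.Away a)), ?_, hspan'⟩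
  have hφ'ff := faithfullyFlat_awayMap φ hφ a
  have hcomm := awayMap_comp φ a
  have hflatB : (algebraMap B (Localization.Away (φ a))).Flat :=
    RingHom.flat_algebraMap_iff.2 inferInstance
  have hmapeq : (Ideal.ofList (tl.map (algebraMap A (Localization.Away a)))).map
      (IsLocalization.Away.map (Localization.Away a) (Localization.Away (φ a)) φ a) =
      I.map ((algebraMap B (Localization.Away (φ a))).comp φ) := by
    rw [← hspan', Ideal.map_map, hcomm]
  apply C.of_faithfullyFlat_of_min _ hφ'ff
  · rw [hmapeq, ← Ideal.map_map]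
    exact C.isLocally_map_of_flat _ hflatB _ hJ
  · intro 𝔮' hle m hm hG
    rw [hmapeq] at hle hG
    have hψflat : ((algebraMap B (Localization.Away (φ a))).comp φ).Flat :=
      hφ.flat.comp hflatB
    have hG' := GenLE.descend _ hψflat I hIfg 𝔮'.asIdeal m hG
    have hm' : m < Nat.find hex := by
      rw [List.length_map, htl_len] at hm
      exact hm
    refine hZ ⟨𝔮'.asIdeal.comap ((algebraMap B (Localization.Away (φ a))).comp φ), inferInstance⟩
      ?_ (Ideal.map_le_iff_le_comap.1 hle) m hm' hG'
    intro hmem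
    change ((algebraMap B (Localization.Away (φ a))).comp φ) a₂ ∈ 𝔮'.asIdeal at hmem
    have h1 : ((algebraMap B (Localization.Away (φ a))).comp φ) a ∈ 𝔮'.asIdeal := by
      have h2 : ((algebraMap B (Localization.Away (φ a))).comp φ) a =
          ((algebraMap B (Localization.Away (φ a))).comp φ) a₁ *
            ((algebraMap B (Localization.Away (φ a))).comp φ) a₂ := by
        rw [← map_mul]
      rw [h2]
      exact Ideal.mul_mem_left _ _ hmem
    exact 𝔮'.isPrime.ne_top (Ideal.eq_top_of_isUnit_mem _ h1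
      (IsLocalization.Away.algebraMap_isUnit (φ a)))

/-- **Faithfully flat descent of ideals locally of class `C`.** -/
theorem isLocally_of_faithfullyFlat [Algebra A B] [Module.FaithfullyFlat A B]
    (I : Ideal A) (h : C.IsLocally (I.map (algebraMap A B))) : C.IsLocally I :=
  C.isLocally_of_faithfullyFlat_ringHom (algebraMap A B)
    (RingHom.faithfullyFlat_algebraMap_iff.2 inferInstance) I h

end Descent

end SeqClass

end Groth.Agent.LibSeqClass29
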