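import Mathlib
import Groth.Prelude.Def_CAlgX
import Groth.Prelude.Def_PP16
import Groth.Agent.LibSeqFlat29
import Groth.Agent.LibSeqClass29
import Groth.Agent.S3824

/-!
# Quasi-regular sequences: permanence properties and the `SeqClass` instance (helper29)

* `coeff_mem_map_of_isQuasiRegular_comp`, `isQuasiRegular_of_faithfullyFlat`,
  `isQuasiRegular_of_forall_away`, `isQuasiRegular_of_isUnit`, `coord_mem_of_isQuasiRegular`.
* `quasiClass : SeqClass` with `P R l := CAlgX.IsQuasiRegular l.get`.
-/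

set_option autoImplicit false
universe u

namespace Groth.Agent.LibQuasiSeq29

open MvPolynomial Groth.Agent.LibSeqClass29

section Fn

variable {R R' : Type u} [CommRing R] [CommRing R']

theorem isQuasiRegular_cast {c c' : ℕ} (h : c' = c) (f : Fin c → R)
    (hf : CAlgX.IsQuasiRegular f) : CAlgX.IsQuasiRegular (f ∘ Fin.cast h) := by
  subst h
  exact hf

theorem isQuasiRegular_of_cast {c c' : ℕ} (h : c' = c) (f : Fin c → R)
    (hf : CAlgX.IsQuasiRegular (f ∘ Fin.cast h)) : CAlgX.IsQuasiRegular f := by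
  subst h
  exact hf

theorem map_span_range (φ : R →+* R') {c : ℕ} (f : Fin c → R) :
    (Ideal.span (Set.range f)).map φ = Ideal.span (Set.range (φ ∘ f)) := by
  rw [Ideal.map_span, Set.range_comp]

/-- if `φ ∘ f` is quasi-regular, the coefficients of a homogeneous polynomial `P` of degree `n`
with `P(f) ∈ J^(n+1)` map into `J R'`. -/
theorem coeff_mem_map_of_isQuasiRegular_comp (φ : R →+* R') {c : ℕ} (f : Fin c → R)
    (h : CAlgX.IsQuasiRegular (φ ∘ f)) (n : ℕ) (P : MvPolynomial (Fin c) R)
    (hP : P.IsHomogeneous n) (hmem : eval f P ∈ Ideal.span (Set.range f) ^ (n + 1))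
    (d : Fin c →₀ ℕ) : φ (P.coeff d) ∈ (Ideal.span (Set.range f)).map φ := by
  have hP' : (map φ P).IsHomogeneous n := hP.map φ
  have heval : eval (φ ∘ f) (map φ P) = φ (eval f P) := by
    rw [eval_map]
    have := eval₂_comp_left φ (RingHom.id R) f P
    rw [RingHom.comp_id] at this
    rw [← this]
    rfl
  have hmem' : eval (φ ∘ f) (map φ P) ∈ Ideal.span (Set.range (φ ∘ f)) ^ (n + 1) := by
    rw [heval, ← map_span_range, ← Ideal.map_pow]
    exact Ideal.mem_map_of_mem _ hmem
  have := h n (map φ P) hP' hmem' d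
  rwa [coeff_map, ← map_span_range] at this

theorem isQuasiRegular_of_faithfullyFlat (φ : R →+* R') (hφ : φ.FaithfullyFlat) {c : ℕ}
    (f : Fin c → R) (h : CAlgX.IsQuasiRegular (φ ∘ f)) : CAlgX.IsQuasiRegular f := by
  intro n P hP hmem d
  have h1 := coeff_mem_map_of_isQuasiRegular_comp φ f h n P hP hmem d
  letI := φ.toAlgebra
  haveI : Module.FaithfullyFlat R R' := hφ
  have h2 : P.coeff d ∈ ((Ideal.span (Set.range f)).map (algebraMap R R')).comap
      (algebraMap R R') := h1
  rwa [Ideal.comap_map_eq_self_of_faithfullyFlat] at h2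

theorem isQuasiRegular_of_forall_away {c : ℕ} (f : Fin c → R)
    (h : ∀ 𝔮 : PrimeSpectrum R, ∃ g : R, g ∉ 𝔮.asIdeal ∧
      CAlgX.IsQuasiRegular (algebraMap R (Localization.Away g) ∘ f)) :
    CAlgX.IsQuasiRegular f := by
  intro n P hP hmem d
  by_contra hd
  set J := Ideal.span (Set.range f) with hJ
  set N : Ideal R := J.colon (Ideal.span {P.coeff d}) with hN
  have hNtop : N ≠ ⊤ := by
    intro htop
    have h1 : (1 : R) ∈ N := htop ▸ Submodule.mem_top
    rw [hN, Ideal.mem_colon_span_singleton] at h1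
    exact hd (by simpa using h1)
  obtain ⟨𝔪, h𝔪, hle⟩ := Ideal.exists_le_maximal N hNtop
  obtain ⟨g, hg, hreg⟩ := h ⟨𝔪, h𝔪.isPrime⟩
  have h1 := coeff_mem_map_of_isQuasiRegular_comp (algebraMap R (Localization.Away g)) f hreg n P
    hP hmem d
  obtain ⟨k, hk⟩ := Groth.Agent.LibKoszulFFDescent29.exists_mul_mem_of_mem_map_away g J _ h1
  have h3 : g ^ k ∈ N := by
    rw [hN, Ideal.mem_colon_span_singleton]
    exact hk
  exact hg (h𝔪.isPrime.mem_of_pow_mem _ (hle h3))

theorem isQuasiRegular_of_isUnit {c : ℕ} (f : Fin c → R) (i : Fin c) (hu : IsUnit (f i)) :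
    CAlgX.IsQuasiRegular f := by
  intro n P _ _ d
  have : Ideal.span (Set.range f) = ⊤ :=
    Ideal.eq_top_of_isUnit_mem _ (Ideal.subset_span ⟨i, rfl⟩) hu
  rw [this]
  exact Submodule.mem_top

/-- a relation among the members of a quasi-regular sequence has its coefficients in the
ideal. -/
theorem coord_mem_of_isQuasiRegular {c : ℕ} (f : Fin c → R) (h : CAlgX.IsQuasiRegular f)
    (ρ : Fin c → R) (hρ : ∑ k, ρ k * f k = 0) (k : Fin c) :
    ρ k ∈ Ideal.span (Set.range f) := by
  classical
  set P : MvPolynomial (Fin c) R := ∑ j, C (ρ j) * X j with hPdef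
  have hP : P.IsHomogeneous 1 := by
    apply IsHomogeneous.sum
    intro j _
    have := (isHomogeneous_C (Fin c) (ρ j)).mul (isHomogeneous_X R j)
    simpa using this
  have heval : eval f P = 0 := by
    rw [hPdef, map_sum, ← hρ]
    refine Finset.sum_congr rfl fun j _ => ?_
    rw [map_mul, eval_C, eval_X]
  have hmem : eval f P ∈ Ideal.span (Set.range f) ^ (1 + 1) := by
    rw [heval]
    exact Ideal.zero_mem _
  have h1 := h 1 P hP hmem (Finsupp.single k 1)
  have hcoeff : P.coeff (Finsupp.single k 1) = ρ k := by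
    rw [hPdef, coeff_sum]
    rw [Finset.sum_eq_single k]
    · rw [coeff_C_mul, coeff_X, if_pos rfl, mul_one]
    · intro j _ hjk
      rw [coeff_C_mul, coeff_X, if_neg, mul_zero]
      intro heq
      apply hjk
      have := Finsupp.single_left_injective (one_ne_zero) heq
      exact this
    · intro hk
      exact absurd (Finset.mem_univ k) hk
  rwa [hcoeff] at h1

end Fn

section ListForm

variable {R R' : Type u} [CommRing R] [CommRing R']

theorem ofList_eq_span_range_get (l : List R) :
    Ideal.ofList l = Ideal.span (Set.range l.get) := by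
  rw [Ideal.ofList, Set.range_list_get]

theorem get_map (φ : R →+* R') (l : List R) :
    (l.map φ).get = (φ ∘ l.get) ∘ Fin.cast (List.length_map φ) := by
  funext i
  simp

theorem isQuasiRegular_get_map_iff (φ : R →+* R') (l : List R) :
    CAlgX.IsQuasiRegular (l.map φ).get ↔ CAlgX.IsQuasiRegular (φ ∘ l.get) := by
  rw [get_map]
  exact ⟨isQuasiRegular_of_cast _ _, isQuasiRegular_cast _ _⟩

/-- the class of quasi-regular sequences. -/
def quasiClass : SeqClass.{u} where
  P R _ l := CAlgX.IsQuasiRegular l.get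
  map_flat φ hφ l h := (isQuasiRegular_get_map_iff φ l).2
    (Groth.Agent.LibSeqFlat29.isQuasiRegular_map_of_flat φ hφ l.get h)
  of_faithfullyFlat φ hφ l h :=
    isQuasiRegular_of_faithfullyFlat φ hφ l.get ((isQuasiRegular_get_map_iff φ l).1 h)
  of_forall_away l h := by
    apply isQuasiRegular_of_forall_away
    intro 𝔮
    obtain ⟨g, hg, hreg⟩ := h 𝔮
    exact ⟨g, hg, (isQuasiRegular_get_map_iff _ l).1 hreg⟩
  of_isUnit_mem l x hx hu := by
    obtain ⟨i, rfl⟩ := List.mem_iff_get.1 hx
    exact isQuasiRegular_of_isUnit l.get i hu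
  of_ofList_eq l l' hl hJ hlen := by
    have h1 : CAlgX.IsQuasiRegular (l'.get ∘ Fin.cast hlen.symm) := by
      refine Groth.Agent.S3824.result l.get (l'.get ∘ Fin.cast hlen.symm) hl ?_
      rw [← ofList_eq_span_range_get, ← hJ, ofList_eq_span_range_get]
      congr 1
      ext x
      constructor
      · rintro ⟨i, rfl⟩
        exact ⟨_, rfl⟩
      · rintro ⟨i, rfl⟩
        exact ⟨Fin.cast hlen i, by simp⟩
    exact isQuasiRegular_of_cast _ _ h1
  coord_mem l hl ρ hρ k := by
    rw [ofList_eq_span_range_get]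
    exact coord_mem_of_isQuasiRegular l.get hl ρ hρ k

end ListForm

end Groth.Agent.LibQuasiSeq29

namespace Groth.Agent.LibQuasiSeq29

open Groth.Agent.LibSeqClass29

section PP16Bridge

variable {R : Type u} [CommRing R]

theorem get_ofFn {c : ℕ} (f : Fin c → R) :
    (List.ofFn f).get = f ∘ Fin.cast (List.length_ofFn (f := f)) := by
  funext i
  simp
  rfl

theorem ofList_ofFn {c : ℕ} (f : Fin c → R) :
    Ideal.ofList (List.ofFn f) = Ideal.span (Set.range f) := by
  rw [Ideal.ofList]
  congr 1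
  ext x
  simp [List.mem_ofFn]

theorem isLocally_quasi_iff (J : Ideal R) :
    quasiClass.IsLocally J ↔ PP16.IsLocallyQuasiRegular R J := by
  constructor
  · intro h P hP hle
    obtain ⟨g, hg, l, hl, hspan⟩ := h ⟨P, hP⟩ hle
    exact ⟨g, hg, l.length, l.get, hl, by rw [hspan, ofList_eq_span_range_get]⟩
  · intro h 𝔭 hle
    obtain ⟨g, hg, r, f, hf, hspan⟩ := h 𝔭.asIdeal hle
    refine ⟨g, hg, List.ofFn f, ?_, by rw [ofList_ofFn, hspan]⟩
    change CAlgX.IsQuasiRegular (List.ofFn f).get
    rw [get_ofFn]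
    exact isQuasiRegular_cast _ _ hf

/-- **Faithfully flat descent of quasi-regular ideals.** -/
theorem isLocallyQuasiRegular_of_faithfullyFlat {A B : Type u} [CommRing A] [CommRing B]
    [Algebra A B] [Module.FaithfullyFlat A B] (I : Ideal A)
    (h : PP16.IsLocallyQuasiRegular B (Ideal.map (algebraMap A B) I)) :
    PP16.IsLocallyQuasiRegular A I :=
  (isLocally_quasi_iff I).1
    (quasiClass.isLocally_of_faithfullyFlat I ((isLocally_quasi_iff _).2 h))

end PP16Bridge

end Groth.Agent.LibQuasiSeq29
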