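import Groth.Statements.S9273
import Mathlib


set_option autoImplicit false
universe u
open CAlgX

namespace Groth.Agent.S9273

set_option linter.style.haveILetI false

open scoped TensorProduct

theorem main (A B A' : Type u) [CommRing A] [CommRing B]
    [CommRing A'] [Algebra A B] [Algebra A A'] (r : ℕ) (f : Fin r → B)
    (hflat : Module.Flat A (B ⧸ Ideal.span (Set.range f))) (hq : CAlgX.IsH1Regular f) :
    CAlgX.IsH1Regular (fun i => ((1 : A') ⊗ₜ[A] f i : TensorProduct A A' B)) := by
  classical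
  intro a' ha'
  set T : Set (Fin r → B) := {v | ∃ i j : Fin r, v = Pi.single i (f j) - Pi.single j (f i)} with hT
  set f' : Fin r → A' ⊗[A] B := fun i => (1 : A') ⊗ₜ[A] f i with hf'
  set T' : Set (Fin r → A' ⊗[A] B) :=
    {v | ∃ i j : Fin r, v = Pi.single i (f' j) - Pi.single j (f' i)} with hT'
  change a' ∈ Submodule.span (A' ⊗[A] B) T'
  -- the linear map φ
  let φ : (Fin r → B) →ₗ[A] B :=
    { toFun := fun v => ∑ i, v i * f i
      map_add' := fun v w => by simp [add_mul, Finset.sum_add_distrib]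
      map_smul' := fun c v => by simp [Finset.smul_sum] }
  have hφ : ∀ v, φ v = ∑ i, v i * f i := fun v => rfl
  set J : Ideal B := Ideal.span (Set.range f) with hJ
  have hφJ : ∀ v, φ v ∈ J := by
    intro v
    rw [hφ]
    refine Ideal.sum_mem _ (fun i _ => Ideal.mul_mem_left _ _ (Ideal.subset_span ⟨i, rfl⟩))
  let JA : Submodule A B := J.restrictScalars A
  let φ₀ : (Fin r → B) →ₗ[A] JA := φ.codRestrict JA hφJ
  let ι : JA →ₗ[A] B := JA.subtype
  let π : B →ₗ[A] (B ⧸ J) := (Ideal.Quotient.mkₐ A J).toLinearMap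
  have hπ : Function.Surjective π := Ideal.Quotient.mk_surjective
  have hιπ : Function.Exact ι π := by
    intro b
    constructor
    · intro hb
      have : b ∈ J := Ideal.Quotient.eq_zero_iff_mem.1 hb
      exact ⟨⟨b, this⟩, rfl⟩
    · rintro ⟨⟨b', hb'⟩, rfl⟩
      exact Ideal.Quotient.eq_zero_iff_mem.2 hb'
  have hιinj : Function.Injective (ι.lTensor A') :=
    LinearMap.lTensor_injective_of_exact_of_flat π hπ ι JA.injective_subtype hιπ A'
  have hφ₀surj : Function.Surjective φ₀ := by
    rintro ⟨b, hb⟩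
    have hb' : b ∈ Ideal.span (Set.range f) := hb
    rw [Ideal.span, Submodule.mem_span_range_iff_exists_fun] at hb'
    obtain ⟨c, hc⟩ := hb'
    refine ⟨c, Subtype.ext ?_⟩
    change ∑ i, c i * f i = b
    rw [← hc]
    simp [smul_eq_mul]
  let Z₁ : Submodule A (Fin r → B) := LinearMap.ker φ
  have hex : Function.Exact Z₁.subtype φ₀ := by
    intro v
    constructor
    · intro hv
      have : φ v = 0 := congrArg Subtype.val hv
      exact ⟨⟨v, this⟩, rfl⟩
    · rintro ⟨⟨v', hv'⟩, rfl⟩
      exact Subtype.ext hv'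
  have hex' : Function.Exact (Z₁.subtype.lTensor A') (φ₀.lTensor A') := lTensor_exact A' hex hφ₀surj
  -- the pi iso
  let Ψ : A' ⊗[A] (Fin r → B) ≃ₗ[A'] (Fin r → A' ⊗[A] B) :=
    TensorProduct.piRight A A' A' (fun _ : Fin r => B)
  have hΨ : ∀ (x : A') (v : Fin r → B), Ψ (x ⊗ₜ v) = fun j => x ⊗ₜ v j := by
    intro x v
    simp [Ψ]
  have hΨadd : ∀ s t, Ψ (s + t) = Ψ s + Ψ t := fun s t => map_add Ψ s t
  -- φ after tensoring
  have hkey : ∀ t : A' ⊗[A] (Fin r → B), (φ.lTensor A') t = ∑ i, (Ψ t) i * f' i := by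
    intro t
    induction t using TensorProduct.induction_on with
    | zero => simp
    | tmul x v =>
      rw [LinearMap.lTensor_tmul, hΨ, hφ, TensorProduct.tmul_sum]
      refine Finset.sum_congr rfl (fun i _ => ?_)
      simp [hf', Algebra.TensorProduct.tmul_mul_tmul]
    | add s t hs ht =>
      rw [map_add, hs, ht, hΨadd, ← Finset.sum_add_distrib]
      refine Finset.sum_congr rfl (fun i _ => ?_)
      rw [Pi.add_apply, add_mul]
  set t := Ψ.symm a' with ht
  have hΨt : Ψ t = a' := Ψ.apply_symm_apply a'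
  have h0 : (φ.lTensor A') t = 0 := by
    rw [hkey, hΨt]; exact ha'
  have hcomp : φ = ι ∘ₗ φ₀ := rfl
  have h1 : (φ₀.lTensor A') t = 0 := by
    apply hιinj
    rw [map_zero, ← LinearMap.comp_apply, ← LinearMap.lTensor_comp, ← hcomp]
    exact h0
  obtain ⟨u, hu⟩ := (hex' t).1 h1
  rw [← hΨt, ← hu]
  clear hu
  -- now show Ψ (lTensor subtype u) ∈ span T'
  have hpure : ∀ (x : A') (z : Fin r → B), z ∈ Submodule.span B T →
      Ψ (x ⊗ₜ z) ∈ Submodule.span (A' ⊗[A] B) T' := by
    intro x z hz
    refine Submodule.span_induction (p := fun z _ => Ψ (x ⊗ₜ z) ∈ Submodule.span (A' ⊗[A] B) T')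
      ?_ ?_ ?_ ?_ hz
    · rintro _ ⟨i, j, rfl⟩
      have : Ψ (x ⊗ₜ[A] (Pi.single i (f j) - Pi.single j (f i))) =
          (x ⊗ₜ[A] (1 : B)) • (Pi.single i (f' j) - Pi.single j (f' i)) := by
        rw [hΨ]
        funext k
        simp only [Pi.sub_apply, Pi.smul_apply, smul_eq_mul, hf', Pi.single_apply]
        split_ifs <;> simp [TensorProduct.tmul_sub, TensorProduct.tmul_neg, mul_sub, Algebra.TensorProduct.tmul_mul_tmul]
      rw [this]
      exact Submodule.smul_mem _ _ (Submodule.subset_span ⟨i, j, rfl⟩)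
    · rw [TensorProduct.tmul_zero, map_zero]
      exact Submodule.zero_mem _
    · intro z w _ _ hz hw
      rw [TensorProduct.tmul_add, map_add]
      exact Submodule.add_mem _ hz hw
    · intro b z _ hz
      have : Ψ (x ⊗ₜ[A] (b • z)) = ((1 : A') ⊗ₜ[A] b) • Ψ (x ⊗ₜ[A] z) := by
        rw [hΨ, hΨ]
        funext k
        simp [Algebra.TensorProduct.tmul_mul_tmul]
      rw [this]
      exact Submodule.smul_mem _ _ hz
  induction u using TensorProduct.induction_on with
  | zero => rw [map_zero, map_zero]; exact Submodule.zero_mem _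
  | tmul x z =>
    rw [LinearMap.lTensor_tmul]
    apply hpure
    have hz : ∑ i, (z.1) i * f i = 0 := z.2
    exact hq z.1 hz
  | add s t hs ht =>
    rw [map_add, map_add]
    exact Submodule.add_mem _ hs ht



/-- Let A → B and A → A' be ring maps and B' = A' ⊗_A B. If f_1, ..., f_r is an H_1-regular sequence in
B with B/(f_1, ..., f_r) flat over A, then the images of the f_i in B' form an H_1-regular sequence. -/
theorem result (A B A' : Type u) [CommRing A] [CommRing B]
    [CommRing A'] [Algebra A B] [Algebra A A'] (r : ℕ) (f : Fin r → B)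
    (hflat : Module.Flat A (B ⧸ Ideal.span (Set.range f))) (hq : CAlgX.IsH1Regular f) :
    CAlgX.IsH1Regular (fun i => ((1 : A') ⊗ₜ[A] f i : TensorProduct A A' B)) := by
  exact main A B A' r f hflat hq

end Groth.Agent.S9273
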