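import Mathlib
import Groth.Prelude.Def_RegImm
import Groth.Agent.LibQuasiBC29
import Groth.Agent.LibQuasiSeq29
import Groth.Agent.LibSeqFlat29
import Groth.Agent.S9273
import Groth.Agent.S9272

/-!
# Base change of `H_1`-regular and quasi-regular sequences with flat quotient (helper29)

Algebra form (`A' ⊗[A] B`), and the form for a pushout square of commutative rings.
-/

set_option autoImplicit false
universe u
open TensorProduct CategoryTheory CategoryTheory.Limits

namespace Groth.Agent.LibRelRegImmBC29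

section Alg

variable (A B A' : Type u) [CommRing A] [CommRing B] [CommRing A'] [Algebra A B] [Algebra A A']

theorem h1_cast {R : Type u} [CommRing R] {c c' : ℕ} (h : c' = c) (f : Fin c → R)
    (hf : CAlgX.IsH1Regular f) : CAlgX.IsH1Regular (f ∘ Fin.cast h) := by
  subst h
  exact hf

theorem quasi_cast {R : Type u} [CommRing R] {c c' : ℕ} (h : c' = c) (f : Fin c → R)
    (hf : CAlgX.IsQuasiRegular f) : CAlgX.IsQuasiRegular (f ∘ Fin.cast h) := by
  subst h
  exact hf

/-- base change of sequences of the kinds `h1`, `quasi` with flat quotient. -/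
theorem seq_baseChange (k : RegImm.Kind) (hk : k = RegImm.Kind.h1 ∨ k = RegImm.Kind.quasi)
    (rs : List B) (hrs : k.Seq B rs) (hflat : Module.Flat A (B ⧸ Ideal.ofList rs)) :
    k.Seq (A' ⊗[A] B)
      (rs.map (Algebra.TensorProduct.includeRight : B →ₐ[A] A' ⊗[A] B).toRingHom) := by
  rw [Groth.Agent.LibQuasiSeq29.ofList_eq_span_range_get] at hflat
  rcases hk with rfl | rfl
  · change CAlgX.IsH1Regular (rs.map _).get
    rw [Groth.Agent.LibQuasiSeq29.get_map]
    exact h1_cast _ _ (Groth.Agent.S9273.result A B A' _ rs.get hflat hrs)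
  · change CAlgX.IsQuasiRegular (rs.map _).get
    rw [Groth.Agent.LibQuasiSeq29.get_map]
    exact quasi_cast _ _ (Groth.Agent.S9272.result A B A' _ rs.get hflat hrs)

end Alg

section Flat

variable {R R' : Type u} [CommRing R] [CommRing R'] (φ : R →+* R')

/-- flat base change of sequences of the kinds `h1`, `quasi`. -/
theorem seq_map_of_flat (hφ : φ.Flat) (k : RegImm.Kind)
    (hk : k = RegImm.Kind.h1 ∨ k = RegImm.Kind.quasi) (rs : List R) (h : k.Seq R rs) :
    k.Seq R' (rs.map φ) := by
  rcases hk with rfl | rfl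
  · change CAlgX.IsH1Regular (rs.map φ).get
    rw [Groth.Agent.LibQuasiSeq29.get_map]
    exact h1_cast _ _ (Groth.Agent.LibSeqFlat29.isH1Regular_map_of_flat φ hφ rs.get h)
  · change CAlgX.IsQuasiRegular (rs.map φ).get
    rw [Groth.Agent.LibQuasiSeq29.get_map]
    exact quasi_cast _ _ (Groth.Agent.LibSeqFlat29.isQuasiRegular_map_of_flat φ hφ rs.get h)

end Flat

/-- flatness of `R → B → B/I` from flatness of `R → B → C` with `B → C` surjective with kernel `I`. -/
theorem flat_mk_comp_of_surjective {R B C : Type u} [CommRing R] [CommRing B] [CommRing C]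
    (φ : R →+* B) (σ : B →+* C) (hσ : Function.Surjective σ) (I : Ideal B)
    (hI : RingHom.ker σ = I) (h : (σ.comp φ).Flat) : ((Ideal.Quotient.mk I).comp φ).Flat := by
  let ε : B ⧸ I ≃+* C :=
    (Ideal.quotEquivOfEq hI.symm).trans (RingHom.quotientKerEquivOfSurjective hσ)
  have hε : ∀ b, ε (Ideal.Quotient.mk I b) = σ b := fun b => rfl
  have h1 : (Ideal.Quotient.mk I).comp φ = ε.symm.toRingHom.comp (σ.comp φ) := by
    ext a
    apply ε.injective
    simp only [RingHom.comp_apply, RingEquiv.toRingHom_eq_coe, RingHom.coe_coe,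
      RingEquiv.apply_symm_apply]
    exact hε _
  rw [h1]
  exact RingHom.Flat.comp h (RingHom.Flat.of_bijective ε.symm.bijective)

/-- base change of sequences of the kinds `h1`, `quasi` with flat quotient along a pushout square of
commutative rings. -/
theorem seq_of_isPushout {R B R' X : CommRingCat.{u}} {φ : R ⟶ B} {ψ : R ⟶ R'} {β : B ⟶ X}
    {ρ : R' ⟶ X} (H : IsPushout φ ψ β ρ) (k : RegImm.Kind)
    (hk : k = RegImm.Kind.h1 ∨ k = RegImm.Kind.quasi) (rs : List B) (hrs : k.Seq B rs)
    (hflat : ((Ideal.Quotient.mk (Ideal.ofList rs)).comp φ.hom).Flat) :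
    k.Seq X (rs.map β.hom) := by
  algebraize [φ.hom, ψ.hom]
  have hflat' : Module.Flat R (B ⧸ Ideal.ofList rs) := hflat
  let e : R' ⊗[R] B ≃+* X :=
    ((CommRingCat.isPushout_tensorProduct R R' B).isoIsPushout R' B H.flip).commRingCatIsoToRingEquiv
  have he0 := (CommRingCat.isPushout_tensorProduct R R' B).inr_isoIsPushout_hom R' B H.flip
  have he : ∀ b : B, e ((1 : R') ⊗ₜ[R] b) = β.hom b := fun b =>
    congrArg (fun (t : B ⟶ X) => t.hom b) he0
  have h1 := seq_baseChange R B R' k hk rs hrs hflat'
  have h2 := seq_map_of_flat e.toRingHom (RingHom.Flat.of_bijective e.bijective) k hk _ h1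
  rw [List.map_map] at h2
  convert h2 using 2
  ext b
  exact (he b).symm

end Groth.Agent.LibRelRegImmBC29
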