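import Mathlib
import Groth.Prelude.Def_RegImm
import Groth.Agent.LibFibRegSch2_29
import Groth.Agent.LibRegImmBasic29
import Groth.Agent.LibRegImmComp29
import Groth.Agent.LibRegImmStalk29
import Groth.Agent.LibRelRegImmBC29
import Groth.Agent.LibQuasiRegNoeth29
import Groth.Agent.Lib.Helper7.KoszulLow
import Groth.Agent.S2103

/-!
# Fibrewise quasi-regular closed subschemes are transversally regular (helper29)

`transRegular_at_of_fibre_quasi`: `φ : X ⟶ S` flat, locally of finite presentation, `𝓘` an ideal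
sheaf with flat, locally finitely presented closed subscheme `T`, `x` a point of `T` with
`s = φ x` such that `T_s ⟶ X_s` is a quasi-regular immersion at the point over `x`.  Then on a
small affine neighbourhood `D` of `x` the ideal `𝓘(D)` is generated by a regular sequence with
successive quotients flat over the base.
-/

set_option autoImplicit false
set_option linter.style.haveILetI false
universe u
open CategoryTheory CategoryTheory.Limits AlgebraicGeometry IsLocalRing RingTheory.Sequence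

namespace Groth.Agent.LibFibQuasiImm29

open Groth.Agent.LibFibReg29 Groth.Agent.LibRelCartier29

theorem quasi_of_isWeaklyRegular {R : Type u} [CommRing R] (rs : List R)
    (h : IsWeaklyRegular R rs) : RegImm.Kind.quasi.Seq R rs :=
  Groth.Agent.S2103.result rs.get
    (Groth.Agent.Lib.helper7.KoszulLow.isH1Regular_of_isKoszulRegularSeq R rs
      (Groth.Agent.LibRegImmBasic29.isKoszulRegularSeq_of_isWeaklyRegular rs h))

theorem ideal_fg_of_fp {X S : Scheme.{u}} (φ : X ⟶ S) [LocallyOfFinitePresentation φ]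
    (𝓘 : X.IdealSheafData) [LocallyOfFinitePresentation (𝓘.subschemeι ≫ φ)]
    (U : X.affineOpens) (V : S.affineOpens) (e : U.1 ≤ φ ⁻¹ᵁ V.1) : (𝓘.ideal U).FG := by
  letI algAB : Algebra Γ(S, V.1) Γ(X, U.1) := (φ.appLE V.1 U.1 e).hom.toAlgebra
  haveI hfp : Algebra.FinitePresentation Γ(S, V.1) Γ(X, U.1) :=
    HasRingHomProperty.appLE (P := @LocallyOfFinitePresentation) φ inferInstance V U e
  haveI hfpq : Algebra.FinitePresentation Γ(S, V.1) (Γ(X, U.1) ⧸ 𝓘.ideal U) := by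
    have h1 := fp_quot_of_fp_sub φ 𝓘 U V e
    have h2 : (Ideal.Quotient.mk (𝓘.ideal U)).comp (φ.appLE V.1 U.1 e).hom =
        algebraMap Γ(S, V.1) (Γ(X, U.1) ⧸ 𝓘.ideal U) := rfl
    rw [h2, RingHom.finitePresentation_algebraMap] at h1
    exact h1
  have := Algebra.FinitePresentation.ker_fG_of_surjective
    (Ideal.Quotient.mkₐ Γ(S, V.1) (𝓘.ideal U)) (Ideal.Quotient.mkₐ_surjective _ _)
  have h2 : RingHom.ker (Ideal.Quotient.mkₐ Γ(S, V.1) (𝓘.ideal U)).toRingHom = 𝓘.ideal U :=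
    Ideal.mk_ker
  rw [h2] at this
  exact this

/-- the local statement, in terms of a point `z` of the fibre. -/
theorem transRegular_of_fibre_quasi_aux {X S : Scheme.{u}} (φ : X ⟶ S) [Flat φ]
    [LocallyOfFinitePresentation φ] (𝓘 : X.IdealSheafData) [Flat (𝓘.subschemeι ≫ φ)]
    [LocallyOfFinitePresentation (𝓘.subschemeι ≫ φ)] (s : S) (z : φ.fiber s)
    (w : ↑(pullback 𝓘.subschemeι (φ.fiberι s)))
    (hw : pullback.snd 𝓘.subschemeι (φ.fiberι s) w = z)
    (hfib : RegImm.IsRegularImmersionAt RegImm.Kind.quasi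
      (pullback.snd 𝓘.subschemeι (φ.fiberι s)) w)
    (U : X.affineOpens) (V : S.affineOpens) (e : U.1 ≤ φ ⁻¹ᵁ V.1) (hz : φ.fiberι s z ∈ U.1) :
    ∃ (D : X.affineOpens) (e' : D.1 ≤ φ ⁻¹ᵁ V.1), φ.fiberι s z ∈ D.1 ∧
      ∃ rs : List Γ(X, D.1), 𝓘.ideal D = Ideal.ofList rs ∧
        (letI := (φ.appLE V.1 D.1 e').hom.toAlgebra
         RegFlat Γ(S, V.1) Γ(X, D.1) rs) := by
  subst hw
  obtain ⟨W0, hwW0, hcl0, ts0, hts0, hker0⟩ := hfib
  haveI := hcl0
  haveI : IsLocallyNoetherian (φ.fiber s) := isLocallyNoetherian_fiber φ s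
  -- shrink `W0` into `(φ.fiberι s)⁻¹ U`
  obtain ⟨a, hale, hza⟩ := W0.2.exists_basicOpen_le (V := (φ.fiberι s) ⁻¹ᵁ U.1) ⟨(pullback.snd 𝓘.subschemeι (φ.fiberι s)) w, hz⟩ hwW0
  have hW : IsAffineOpen ((φ.fiber s).basicOpen a) := W0.2.basicOpen a
  obtain ⟨hcl, hker1⟩ := Groth.Agent.LibRegImmComp29.restrict_of_le (pullback.snd 𝓘.subschemeι (φ.fiberι s)) W0.1 W0.2
    ((φ.fiber s).basicOpen a) hW ((φ.fiber s).basicOpen_le a)
  haveI := hcl
  set W : (φ.fiber s).Opens := (φ.fiber s).basicOpen a with hWdef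
  have hρ : ((φ.fiber s).presheaf.map (homOfLE ((φ.fiber s).basicOpen_le a)).op).hom.Flat := by
    haveI := W0.2.isLocalization_basicOpen a
    have : ((φ.fiber s).presheaf.map (homOfLE ((φ.fiber s).basicOpen_le a)).op).hom =
        algebraMap Γ(φ.fiber s, W0.1) Γ(φ.fiber s, (φ.fiber s).basicOpen a) := rfl
    rw [this, RingHom.flat_algebraMap_iff]
    exact IsLocalization.flat _ (Submonoid.powers a)
  set ts : List Γ(φ.fiber s, W) :=
    ts0.map ((φ.fiber s).presheaf.map (homOfLE ((φ.fiber s).basicOpen_le a)).op).hom with hts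
  have hq : RegImm.Kind.quasi.Seq Γ(φ.fiber s, W) ts :=
    Groth.Agent.LibRelRegImmBC29.seq_map_of_flat _ hρ RegImm.Kind.quasi (Or.inr rfl) ts0 hts0
  have hker : RingHom.ker ((pullback.snd 𝓘.subschemeι (φ.fiberι s)).app W).hom = Ideal.ofList ts := by
    rw [hker1, hker0, Ideal.map_ofList]
  -- the kernel as the extension of `𝓘(U)`
  have H : IsPullback (pullback.fst 𝓘.subschemeι (φ.fiberι s)) (pullback.snd 𝓘.subschemeι (φ.fiberι s)) 𝓘.subschemeι (φ.fiberι s) := IsPullback.of_hasPullback 𝓘.subschemeι (φ.fiberι s)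
  obtain ⟨-, hker2⟩ := Groth.Agent.LibRegImmComp29.restrict_of_isPullback 𝓘.subschemeι (φ.fiberι s) (pullback.snd 𝓘.subschemeι (φ.fiberι s))
    (pullback.fst 𝓘.subschemeι (φ.fiberι s)) H U.1 U.2 W hW hale
  rw [𝓘.ker_subschemeι_app U] at hker2
  -- the stalk
  letI a1 : Algebra Γ(φ.fiber s, W) ((φ.fiber s).presheaf.stalk ((pullback.snd 𝓘.subschemeι (φ.fiberι s)) w)) :=
    (φ.fiber s).presheaf.algebra_section_stalk (⟨(pullback.snd 𝓘.subschemeι (φ.fiberι s)) w, hza⟩ : W)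
  haveI l1 : IsLocalization.AtPrime ((φ.fiber s).presheaf.stalk ((pullback.snd 𝓘.subschemeι (φ.fiberι s)) w))
      (hW.primeIdealOf ⟨(pullback.snd 𝓘.subschemeι (φ.fiberι s)) w, hza⟩).asIdeal := hW.isLocalization_stalk ⟨(pullback.snd 𝓘.subschemeι (φ.fiberι s)) w, hza⟩
  have hgflat : (algebraMap Γ(φ.fiber s, W) ((φ.fiber s).presheaf.stalk ((pullback.snd 𝓘.subschemeι (φ.fiberι s)) w))).Flat := by
    rw [RingHom.flat_algebraMap_iff]
    exact IsLocalization.flat _ (hW.primeIdealOf ⟨(pullback.snd 𝓘.subschemeι (φ.fiberι s)) w, hza⟩).asIdeal.primeCompl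
  have hqL := Groth.Agent.LibRelRegImmBC29.seq_map_of_flat _ hgflat RegImm.Kind.quasi (Or.inr rfl)
    ts hq
  obtain ⟨haff, -⟩ :=
    Groth.Agent.LibRegImmStalk29.affine_and_app_surjective_of_restrict (pullback.snd 𝓘.subschemeι (φ.fiberι s)) W hW
  have hcomap : (haff.primeIdealOf ⟨w, hza⟩).asIdeal.comap ((pullback.snd 𝓘.subschemeι (φ.fiberι s)).app W).hom =
      (hW.primeIdealOf ⟨(pullback.snd 𝓘.subschemeι (φ.fiberι s)) w, hza⟩).asIdeal := by
    have := IsAffineOpen.comap_primeIdealOf_appLE (f := (pullback.snd 𝓘.subschemeι (φ.fiberι s))) (x := w) W hW ((pullback.snd 𝓘.subschemeι (φ.fiberι s)) ⁻¹ᵁ W) haff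
      le_rfl hza
    rw [Scheme.Hom.appLE_eq_app] at this
    exact congrArg PrimeSpectrum.asIdeal this
  have hle : RingHom.ker ((pullback.snd 𝓘.subschemeι (φ.fiberι s)).app W).hom ≤ (hW.primeIdealOf ⟨(pullback.snd 𝓘.subschemeι (φ.fiberι s)) w, hza⟩).asIdeal := by
    intro b hb
    rw [← hcomap, Ideal.mem_comap, RingHom.mem_ker.mp hb]
    exact Ideal.zero_mem _
  set tsL : List ((φ.fiber s).presheaf.stalk ((pullback.snd 𝓘.subschemeι (φ.fiberι s)) w)) :=
    ts.map (algebraMap Γ(φ.fiber s, W) ((φ.fiber s).presheaf.stalk ((pullback.snd 𝓘.subschemeι (φ.fiberι s)) w))) with htsL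
  have hm : ∀ j, tsL.get j ∈ maximalIdeal ((φ.fiber s).presheaf.stalk ((pullback.snd 𝓘.subschemeι (φ.fiberι s)) w)) := by
    intro j
    have hj : (j : ℕ) < ts.length := by simpa [htsL] using j.2
    have : tsL.get j = algebraMap Γ(φ.fiber s, W) ((φ.fiber s).presheaf.stalk ((pullback.snd 𝓘.subschemeι (φ.fiberι s)) w))
        (ts[(j : ℕ)]'hj) := by
      simp [htsL]
    rw [this, IsLocalization.AtPrime.to_map_mem_maximal_iff _
      (hW.primeIdealOf ⟨(pullback.snd 𝓘.subschemeι (φ.fiberι s)) w, hza⟩).asIdeal]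
    apply hle
    rw [hker]
    exact Ideal.subset_span (List.getElem_mem _)
  have hwr : IsWeaklyRegular ((φ.fiber s).presheaf.stalk ((pullback.snd 𝓘.subschemeι (φ.fiberι s)) w)) tsL := by
    have := Groth.Agent.LibQuasiRegNoeth29.isWeaklyRegular_of_isQuasiRegular tsL.length
      ((φ.fiber s).presheaf.stalk ((pullback.snd 𝓘.subschemeι (φ.fiberι s)) w)) tsL.get hqL hm
    rw [List.ofFn_get] at this
    exact this
  have hgen : ((𝓘.ideal U).map (X.presheaf.germ U.1 ((φ.fiberι s) ((pullback.snd 𝓘.subschemeι (φ.fiberι s)) w)) hz).hom).map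
      ((φ.fiberι s).stalkMap ((pullback.snd 𝓘.subschemeι (φ.fiberι s)) w)).hom = Ideal.ofList tsL := by
    rw [htsL, ← Ideal.map_ofList, ← hker, hker2, Ideal.map_map, Ideal.map_map]
    congr 1
    have := appLE_germ (φ.fiberι s) W U.1 hale ((pullback.snd 𝓘.subschemeι (φ.fiberι s)) w) hza
    exact (congrArg CommRingCat.Hom.hom this).symm
  have hflat := Groth.Agent.Lib.helper16.RelCartier.flat_quot_of_flat_sub φ 𝓘 U V e
  obtain ⟨g, hxg, as, -, -, hIg, hRF⟩ := exists_basicOpen_regFlat_of_fibre_gens φ s ((pullback.snd 𝓘.subschemeι (φ.fiberι s)) w) U.2 V.2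
    e hz (𝓘.ideal U) (ideal_fg_of_fp φ 𝓘 U V e) hflat tsL hwr hgen
  refine ⟨X.affineBasicOpen g, (X.basicOpen_le g).trans e, hxg,
    as.map (X.presheaf.map (homOfLE (X.basicOpen_le g)).op).hom, ?_, hRF⟩
  rw [← 𝓘.map_ideal_basicOpen U g]
  exact hIg

end Groth.Agent.LibFibQuasiImm29
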