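import Mathlib
import Groth.Prelude.Def_RegImm
import Groth.Agent.LibFibQuasiImm29

/-!
# Fibrewise quasi-regular closed subschemes are transversally regular: local flatness version
(helper29)

Variants of `LibFibReg29.exists_basicOpen_regFlat_of_fibre_gens` and
`LibFibQuasiImm29.transRegular_of_fibre_quasi_aux` in which `φ : X ⟶ S` is only assumed flat on the
affine chart `U` (hypothesis `(φ.appLE V U e).hom.Flat`) instead of globally.
-/

set_option autoImplicit false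
set_option linter.style.haveILetI false
universe u
open CategoryTheory CategoryTheory.Limits AlgebraicGeometry IsLocalRing RingTheory.Sequence

namespace Groth.Agent.LibFibQuasiImmLoc29

open Groth.Agent.LibFibReg29 Groth.Agent.LibRelCartier29 Groth.Agent.LibFibQuasiImm29

theorem exists_basicOpen_regFlat_of_fibre_gens' {X S : Scheme.{u}} (φ : X ⟶ S)
    [LocallyOfFinitePresentation φ] (s : S) (z : φ.fiber s) {U : X.Opens} (hU : IsAffineOpen U)
    {V : S.Opens} (hV : IsAffineOpen V) (e : U ≤ φ ⁻¹ᵁ V) (hz : φ.fiberι s z ∈ U)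
    (hB : (φ.appLE V U e).hom.Flat) (I : Ideal Γ(X, U)) (hI : I.FG)
    (hflat : ((Ideal.Quotient.mk I).comp (φ.appLE V U e).hom).Flat)
    (ts : List ((φ.fiber s).presheaf.stalk z))
    (hts : IsWeaklyRegular ((φ.fiber s).presheaf.stalk z) ts)
    (hgen : (I.map (X.presheaf.germ U (φ.fiberι s z) hz).hom).map
      ((φ.fiberι s).stalkMap z).hom = Ideal.ofList ts) :
    ∃ g : Γ(X, U), φ.fiberι s z ∈ X.basicOpen g ∧ ∃ as : List Γ(X, U),
      as.length = ts.length ∧ (∀ a ∈ as, a ∈ I) ∧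
      I.map (X.presheaf.map (homOfLE (X.basicOpen_le g)).op).hom =
        Ideal.ofList (as.map (X.presheaf.map (homOfLE (X.basicOpen_le g)).op).hom) ∧
      (letI := (φ.appLE V (X.basicOpen g) ((X.basicOpen_le g).trans e)).hom.toAlgebra
       RegFlat Γ(S, V) Γ(X, X.basicOpen g)
        (as.map (X.presheaf.map (homOfLE (X.basicOpen_le g)).op).hom)) := by
  set x := φ.fiberι s z with hx
  letI algAB : Algebra Γ(S, V) Γ(X, U) := (φ.appLE V U e).hom.toAlgebra
  haveI hflatB : Module.Flat Γ(S, V) Γ(X, U) := by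
    rw [← RingHom.flat_algebraMap_iff]
    exact hB
  haveI hfp : Algebra.FinitePresentation Γ(S, V) Γ(X, U) :=
    HasRingHomProperty.appLE (P := @LocallyOfFinitePresentation) φ inferInstance ⟨V, hV⟩ ⟨U, hU⟩ e
  haveI hflatQ : Module.Flat Γ(S, V) (Γ(X, U) ⧸ I) :=
    (Groth.Agent.Lib.helper16.RelCartier.flat_comp_mk_iff _).mp hflat
  let r : Ideal Γ(X, U) := (hU.primeIdealOf ⟨x, hz⟩).asIdeal
  let p : Ideal Γ(S, V) := (hV.primeIdealOf ⟨φ x, e hz⟩).asIdeal
  haveI : r.LiesOver p := ⟨by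
    have := IsAffineOpen.comap_primeIdealOf_appLE (f := φ) (x := x) V hV U hU e hz
    exact (congrArg PrimeSpectrum.asIdeal this).symm⟩
  letI a1 : Algebra Γ(X, U) (X.presheaf.stalk x) := X.presheaf.algebra_section_stalk (⟨x, hz⟩ : U)
  haveI l1 : IsLocalization.AtPrime (X.presheaf.stalk x) r := hU.isLocalization_stalk ⟨x, hz⟩
  letI a3 : Algebra Γ(S, V) (X.presheaf.stalk x) :=
    ((algebraMap Γ(X, U) (X.presheaf.stalk x)).comp (algebraMap Γ(S, V) Γ(X, U))).toAlgebra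
  haveI : IsScalarTower Γ(S, V) Γ(X, U) (X.presheaf.stalk x) :=
    IsScalarTower.of_algebraMap_eq' rfl
  have hker := ker_fiberι_stalkMap_eq φ s z hV e hz
  obtain ⟨as, hlen, hasI, g, hg, H⟩ := exists_away_regFlat_of_fibre_gens I hI p r
    (X.presheaf.stalk x) ((φ.fiber s).presheaf.stalk z) ((φ.fiberι s).stalkMap z).hom
    ((φ.fiberι s).stalkMap_surjective z) hker ts hts hgen
  have hxg : x ∈ X.basicOpen g := by
    rw [Scheme.mem_basicOpen _ _ x hz]
    exact (IsLocalization.AtPrime.isUnit_to_map_iff (X.presheaf.stalk x) r g).mpr hg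
  refine ⟨g, hxg, as, hlen, hasI, ?_⟩
  letI algAB' : Algebra Γ(S, V) Γ(X, X.basicOpen g) :=
    (φ.appLE V (X.basicOpen g) ((X.basicOpen_le g).trans e)).hom.toAlgebra
  haveI : IsScalarTower Γ(S, V) Γ(X, U) Γ(X, X.basicOpen g) := by
    apply IsScalarTower.of_algebraMap_eq'
    have := Scheme.Hom.appLE_map φ e (homOfLE (X.basicOpen_le g)).op
    exact (congrArg CommRingCat.Hom.hom this).symm
  haveI : IsLocalization.Away g Γ(X, X.basicOpen g) := hU.isLocalization_basicOpen g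
  exact H Γ(X, X.basicOpen g)

/-- the local statement, in terms of a point `z` of the fibre. -/
theorem transRegular_of_fibre_quasi_aux' {X S : Scheme.{u}} (φ : X ⟶ S)
    [LocallyOfFinitePresentation φ] (𝓘 : X.IdealSheafData) [Flat (𝓘.subschemeι ≫ φ)]
    [LocallyOfFinitePresentation (𝓘.subschemeι ≫ φ)] (s : S) (z : φ.fiber s)
    (w : ↑(pullback 𝓘.subschemeι (φ.fiberι s)))
    (hw : pullback.snd 𝓘.subschemeι (φ.fiberι s) w = z)
    (hfib : RegImm.IsRegularImmersionAt RegImm.Kind.quasi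
      (pullback.snd 𝓘.subschemeι (φ.fiberι s)) w)
    (U : X.affineOpens) (V : S.affineOpens) (e : U.1 ≤ φ ⁻¹ᵁ V.1) (hz : φ.fiberι s z ∈ U.1)
    (hB : (φ.appLE V.1 U.1 e).hom.Flat) :
    ∃ (D : X.affineOpens) (e' : D.1 ≤ φ ⁻¹ᵁ V.1), φ.fiberι s z ∈ D.1 ∧
      ∃ rs : List Γ(X, D.1), 𝓘.ideal D = Ideal.ofList rs ∧
        (letI := (φ.appLE V.1 D.1 e').hom.toAlgebra
         RegFlat Γ(S, V.1) Γ(X, D.1) rs) := by
  subst hw
  obtain ⟨W0, hwW0, hcl0, ts0, hts0, hker0⟩ := hfib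
  haveI := hcl0
  haveI : IsLocallyNoetherian (φ.fiber s) := isLocallyNoetherian_fiber φ s
  -- shrink `W0` into `(φ.fiberι s)⁻¹ U`
  obtain ⟨a, hale, hza⟩ := W0.2.exists_basicOpen_le (V := (φ.fiberι s) ⁻¹ᵁ U.1) ⟨(pullback.snd 𝓘.subschemeι (φ.fiberι s)) w, hz⟩ hwW0
  have hW : IsAffineOpen ((φ.fiber s).basicOpen a) := W0.2.basicOpen a
  obtain ⟨hcl, hker1⟩ := Groth.Agent.LibRegImmComp29.restrict_of_le (pullback.snd 𝓘.subschemeι (φ.fiberι s)) W0.1 W0.2
    ((φ.fiber s).basicOpen a) hW ((φ.fiber s).basicOpen_le a)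
  haveI := hcl
  set W : (φ.fiber s).Opens := (φ.fiber s).basicOpen a with hWdef
  have hρ : ((φ.fiber s).presheaf.map (homOfLE ((φ.fiber s).basicOpen_le a)).op).hom.Flat := by
    haveI := W0.2.isLocalization_basicOpen a
    have : ((φ.fiber s).presheaf.map (homOfLE ((φ.fiber s).basicOpen_le a)).op).hom =
        algebraMap Γ(φ.fiber s, W0.1) Γ(φ.fiber s, (φ.fiber s).basicOpen a) := rfl
    rw [this, RingHom.flat_algebraMap_iff]
    exact IsLocalization.flat _ (Submonoid.powers a)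
  set ts : List Γ(φ.fiber s, W) :=
    ts0.map ((φ.fiber s).presheaf.map (homOfLE ((φ.fiber s).basicOpen_le a)).op).hom with hts
  have hq : RegImm.Kind.quasi.Seq Γ(φ.fiber s, W) ts :=
    Groth.Agent.LibRelRegImmBC29.seq_map_of_flat _ hρ RegImm.Kind.quasi (Or.inr rfl) ts0 hts0
  have hker : RingHom.ker ((pullback.snd 𝓘.subschemeι (φ.fiberι s)).app W).hom = Ideal.ofList ts := by
    rw [hker1, hker0, Ideal.map_ofList]
  -- the kernel as the extension of `𝓘(U)`
  have H : IsPullback (pullback.fst 𝓘.subschemeι (φ.fiberι s)) (pullback.snd 𝓘.subschemeι (φ.fiberι s)) 𝓘.subschemeι (φ.fiberι s) := IsPullback.of_hasPullback 𝓘.subschemeι (φ.fiberι s)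
  obtain ⟨-, hker2⟩ := Groth.Agent.LibRegImmComp29.restrict_of_isPullback 𝓘.subschemeι (φ.fiberι s) (pullback.snd 𝓘.subschemeι (φ.fiberι s))
    (pullback.fst 𝓘.subschemeι (φ.fiberι s)) H U.1 U.2 W hW hale
  rw [𝓘.ker_subschemeι_app U] at hker2
  -- the stalk
  letI a1 : Algebra Γ(φ.fiber s, W) ((φ.fiber s).presheaf.stalk ((pullback.snd 𝓘.subschemeι (φ.fiberι s)) w)) :=
    (φ.fiber s).presheaf.algebra_section_stalk (⟨(pullback.snd 𝓘.subschemeι (φ.fiberι s)) w, hza⟩ : W)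
  haveI l1 : IsLocalization.AtPrime ((φ.fiber s).presheaf.stalk ((pullback.snd 𝓘.subschemeι (φ.fiberι s)) w))
      (hW.primeIdealOf ⟨(pullback.snd 𝓘.subschemeι (φ.fiberι s)) w, hza⟩).asIdeal := hW.isLocalization_stalk ⟨(pullback.snd 𝓘.subschemeι (φ.fiberι s)) w, hza⟩
  have hgflat : (algebraMap Γ(φ.fiber s, W) ((φ.fiber s).presheaf.stalk ((pullback.snd 𝓘.subschemeι (φ.fiberι s)) w))).Flat := by
    rw [RingHom.flat_algebraMap_iff]
    exact IsLocalization.flat _ (hW.primeIdealOf ⟨(pullback.snd 𝓘.subschemeι (φ.fiberι s)) w, hza⟩).asIdeal.primeCompl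
  have hqL := Groth.Agent.LibRelRegImmBC29.seq_map_of_flat _ hgflat RegImm.Kind.quasi (Or.inr rfl)
    ts hq
  obtain ⟨haff, -⟩ :=
    Groth.Agent.LibRegImmStalk29.affine_and_app_surjective_of_restrict (pullback.snd 𝓘.subschemeι (φ.fiberι s)) W hW
  have hcomap : (haff.primeIdealOf ⟨w, hza⟩).asIdeal.comap ((pullback.snd 𝓘.subschemeι (φ.fiberι s)).app W).hom =
      (hW.primeIdealOf ⟨(pullback.snd 𝓘.subschemeι (φ.fiberι s)) w, hza⟩).asIdeal := by
    have := IsAffineOpen.comap_primeIdealOf_appLE (f := (pullback.snd 𝓘.subschemeι (φ.fiberι s))) (x := w) W hW ((pullback.snd 𝓘.subschemeι (φ.fiberι s)) ⁻¹ᵁ W) haff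
      le_rfl hza
    rw [Scheme.Hom.appLE_eq_app] at this
    exact congrArg PrimeSpectrum.asIdeal this
  have hle : RingHom.ker ((pullback.snd 𝓘.subschemeι (φ.fiberι s)).app W).hom ≤ (hW.primeIdealOf ⟨(pullback.snd 𝓘.subschemeι (φ.fiberι s)) w, hza⟩).asIdeal := by
    intro b hb
    rw [← hcomap, Ideal.mem_comap, RingHom.mem_ker.mp hb]
    exact Ideal.zero_mem _
  set tsL : List ((φ.fiber s).presheaf.stalk ((pullback.snd 𝓘.subschemeι (φ.fiberι s)) w)) :=
    ts.map (algebraMap Γ(φ.fiber s, W) ((φ.fiber s).presheaf.stalk ((pullback.snd 𝓘.subschemeι (φ.fiberι s)) w))) with htsL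
  have hm : ∀ j, tsL.get j ∈ maximalIdeal ((φ.fiber s).presheaf.stalk ((pullback.snd 𝓘.subschemeι (φ.fiberι s)) w)) := by
    intro j
    have hj : (j : ℕ) < ts.length := by simpa [htsL] using j.2
    have : tsL.get j = algebraMap Γ(φ.fiber s, W) ((φ.fiber s).presheaf.stalk ((pullback.snd 𝓘.subschemeι (φ.fiberι s)) w))
        (ts[(j : ℕ)]'hj) := by
      simp [htsL]
    rw [this, IsLocalization.AtPrime.to_map_mem_maximal_iff _
      (hW.primeIdealOf ⟨(pullback.snd 𝓘.subschemeι (φ.fiberι s)) w, hza⟩).asIdeal]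
    apply hle
    rw [hker]
    exact Ideal.subset_span (List.getElem_mem _)
  have hwr : IsWeaklyRegular ((φ.fiber s).presheaf.stalk ((pullback.snd 𝓘.subschemeι (φ.fiberι s)) w)) tsL := by
    have := Groth.Agent.LibQuasiRegNoeth29.isWeaklyRegular_of_isQuasiRegular tsL.length
      ((φ.fiber s).presheaf.stalk ((pullback.snd 𝓘.subschemeι (φ.fiberι s)) w)) tsL.get hqL hm
    rw [List.ofFn_get] at this
    exact this
  have hgen : ((𝓘.ideal U).map (X.presheaf.germ U.1 ((φ.fiberι s) ((pullback.snd 𝓘.subschemeι (φ.fiberι s)) w)) hz).hom).map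
      ((φ.fiberι s).stalkMap ((pullback.snd 𝓘.subschemeι (φ.fiberι s)) w)).hom = Ideal.ofList tsL := by
    rw [htsL, ← Ideal.map_ofList, ← hker, hker2, Ideal.map_map, Ideal.map_map]
    congr 1
    have := appLE_germ (φ.fiberι s) W U.1 hale ((pullback.snd 𝓘.subschemeι (φ.fiberι s)) w) hza
    exact (congrArg CommRingCat.Hom.hom this).symm
  have hflat := Groth.Agent.Lib.helper16.RelCartier.flat_quot_of_flat_sub φ 𝓘 U V e
  obtain ⟨g, hxg, as, -, -, hIg, hRF⟩ := exists_basicOpen_regFlat_of_fibre_gens' φ s ((pullback.snd 𝓘.subschemeι (φ.fiberι s)) w) U.2 V.2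
    e hz hB (𝓘.ideal U) (ideal_fg_of_fp φ 𝓘 U V e) hflat tsL hwr hgen
  refine ⟨X.affineBasicOpen g, (X.basicOpen_le g).trans e, hxg,
    as.map (X.presheaf.map (homOfLE (X.basicOpen_le g)).op).hom, ?_, hRF⟩
  rw [← 𝓘.map_ideal_basicOpen U g]
  exact hIg

end Groth.Agent.LibFibQuasiImmLoc29
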