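import Mathlib
import Groth.Agent.LibFibReg3_29
import Groth.Agent.Lib.Helper16.RelCartier

/-!
# Flatness of a Noetherian local algebra from a regular sequence with flat quotient (helper29)

`flat_of_isWeaklyRegular_of_flat_quot`: `B` a Noetherian local `A`-algebra, `ys` a weakly regular
sequence in the maximal ideal of `B` with `B/(ys)` flat over `A`.  Then `B` (and every
`B/(y₁,…,yᵢ)`) is flat over `A` (iterated Stacks 062Y / 00ME).
-/

set_option autoImplicit false
set_option linter.style.haveILetI false
universe u
open IsLocalRing RingTheory.Sequence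

namespace Groth.Agent.LibFlatOfRegQuot29

open Groth.Agent.LibFibReg29

theorem flat_take_of_isWeaklyRegular_of_flat_quot {A B : Type u} [CommRing A] [CommRing B]
    [Algebra A B] [IsLocalRing B] [IsNoetherianRing B] (ys : List B)
    (hm : ∀ y ∈ ys, y ∈ maximalIdeal B) (hreg : IsWeaklyRegular B ys)
    (hflat : Module.Flat A (B ⧸ Ideal.ofList ys)) :
    ∀ k i : ℕ, i + k = ys.length → Module.Flat A (B ⧸ Ideal.ofList (ys.take i)) := by
  rw [isWeaklyRegular_ring_iff] at hreg
  intro k
  induction k with
  | zero =>
    intro i hi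
    rw [add_zero] at hi
    rw [hi, List.take_length]
    exact hflat
  | succ k ih =>
    intro i hi
    have hi' : i < ys.length := by omega
    have h1 := ih (i + 1) (by omega)
    have hy := hreg i hi'
    set I := Ideal.ofList (ys.take i) with hI
    have hIne : I ≠ ⊤ := by
      intro htop
      have h1mem : (1 : B) ∈ I := htop ▸ Submodule.mem_top
      have hle : I ≤ maximalIdeal B := by
        rw [hI]
        apply Ideal.span_le.mpr
        intro y hy'
        exact hm y (List.mem_of_mem_take hy')
      exact (Ideal.ne_top_iff_one _).mp (IsLocalRing.maximalIdeal.isMaximal B).ne_top (hle h1mem)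
    haveI : Nontrivial (B ⧸ I) := Ideal.Quotient.nontrivial_iff.mpr hIne
    haveI : IsLocalRing (B ⧸ I) :=
      IsLocalRing.of_surjective' (Ideal.Quotient.mk I) Ideal.Quotient.mk_surjective
    have hsucc : Ideal.ofList (ys.take (i + 1)) = I ⊔ Ideal.span {ys[i]} := by
      rw [← List.take_append_getElem hi', Ideal.ofList_append, Ideal.ofList_singleton]
    let e : ((B ⧸ I) ⧸ (Ideal.span {ys[i]}).map (Ideal.Quotient.mkₐ A I)) ≃ₐ[A]
        B ⧸ I ⊔ Ideal.span {ys[i]} := DoubleQuot.quotQuotEquivQuotSupₐ A I (Ideal.span {ys[i]})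
    have hspan : (Ideal.span {ys[i]}).map (Ideal.Quotient.mkₐ A I) =
        Ideal.span {Ideal.Quotient.mk I ys[i]} := by
      rw [Ideal.map_span, Set.image_singleton]
      rfl
    haveI : Module.Flat A ((B ⧸ I) ⧸ Ideal.span {Ideal.Quotient.mk I ys[i]}) := by
      rw [← hspan]
      rw [hsucc] at h1
      exact Module.Flat.of_linearEquiv e.toLinearEquiv
    have hmem : Ideal.Quotient.mk I ys[i] ∈ maximalIdeal (B ⧸ I) := by
      have := hm ys[i] (List.getElem_mem hi')
      have hloc : IsLocalHom (Ideal.Quotient.mk I) :=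
        IsLocalHom.of_surjective _ Ideal.Quotient.mk_surjective
      exact (IsLocalRing.mem_maximalIdeal _).mpr (fun hu =>
        (IsLocalRing.mem_maximalIdeal _).mp this (hloc.map_nonunit _ hu))
    have hnzd : Ideal.Quotient.mk I ys[i] ∈ nonZeroDivisors (B ⧸ I) := by
      rw [mem_nonZeroDivisors_iff_right]
      intro b hb
      apply hy
      change ys[i] • b = ys[i] • 0
      rw [smul_zero, Algebra.smul_def, mul_comm]
      exact hb
    exact Groth.Agent.Lib.helper16.RelCartier.flat_of_flat_quot_of_noetherian_local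
      (Ideal.Quotient.mk I ys[i]) hmem hnzd

theorem flat_of_isWeaklyRegular_of_flat_quot {A B : Type u} [CommRing A] [CommRing B]
    [Algebra A B] [IsLocalRing B] [IsNoetherianRing B] (ys : List B)
    (hm : ∀ y ∈ ys, y ∈ maximalIdeal B) (hreg : IsWeaklyRegular B ys)
    (hflat : Module.Flat A (B ⧸ Ideal.ofList ys)) : Module.Flat A B := by
  haveI := flat_take_of_isWeaklyRegular_of_flat_quot ys hm hreg hflat ys.length 0 (by omega)
  rw [List.take_zero, Ideal.ofList_nil] at this
  exact Module.Flat.of_linearEquiv (AlgEquiv.quotientBot A B).symm.toLinearEquiv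

end Groth.Agent.LibFlatOfRegQuot29
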