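import Mathlib
/-!
# Kernels commute with base change when the cokernel is flat (helper29)

* `mem_range_lTensor_ker_of_flat_coker` : `f : M → N` `R`-linear with `N ⧸ range f` flat over `R`.  For every
  `R`-module `P`, `ker (P ⊗ f) = im (P ⊗ ker f → P ⊗ M)`.
* `ker_le_span_of_isBaseChange` : the same in `IsBaseChange` form: `M' = R' ⊗ M`, `N' = R' ⊗ N`,
  `f' = R' ⊗ f`; then `ker f'` is the `R'`-span of the image of `ker f`.
-/

set_option autoImplicit false
set_option linter.style.haveILetI false

universe u

open TensorProduct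

namespace Groth.Agent.LibKerBC29

section A

variable {R : Type*} [CommRing R] {M N : Type*} [AddCommGroup M] [AddCommGroup N] [Module R M]
  [Module R N] (f : M →ₗ[R] N)

theorem mem_range_lTensor_ker_of_flat_coker [Module.Flat R (N ⧸ LinearMap.range f)]
    (P : Type*) [AddCommGroup P] [Module R P] (x : P ⊗[R] M) (hx : f.lTensor P x = 0) :
    x ∈ LinearMap.range ((LinearMap.ker f).subtype.lTensor P) := by
  have hinj : Function.Injective ((LinearMap.range f).subtype.lTensor P) :=
    LinearMap.lTensor_injective_of_exact_of_flat (LinearMap.range f).mkQ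
      (Submodule.mkQ_surjective _) (LinearMap.range f).subtype (Submodule.injective_subtype _)
      (LinearMap.exact_subtype_mkQ _) P
  have hcomp : f = (LinearMap.range f).subtype ∘ₗ f.rangeRestrict := by
    ext m
    rfl
  have h1 : f.rangeRestrict.lTensor P x = 0 := by
    apply hinj
    rw [map_zero, ← LinearMap.comp_apply, ← LinearMap.lTensor_comp, ← hcomp]
    exact hx
  have hex : Function.Exact ((LinearMap.ker f.rangeRestrict).subtype.lTensor P)
      (f.rangeRestrict.lTensor P) :=
    lTensor_exact P (LinearMap.exact_subtype_ker_map _) f.surjective_rangeRestrict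
  have hker : LinearMap.ker f.rangeRestrict = LinearMap.ker f := by
    ext m
    rw [LinearMap.mem_ker, LinearMap.mem_ker, Subtype.ext_iff]
    rfl
  obtain ⟨y, hy⟩ := (hex x).mp h1
  rw [← hy]
  clear hy
  induction y using TensorProduct.induction_on with
  | zero => simp
  | tmul p k =>
    refine ⟨p ⊗ₜ ⟨k.1, hker ▸ k.2⟩, ?_⟩
    simp
  | add a b ha hb =>
    rw [map_add]
    exact Submodule.add_mem _ ha hb

end A

section B

variable {R R' : Type*} [CommRing R] [CommRing R'] [Algebra R R']
  {M N M' N' : Type*} [AddCommGroup M] [AddCommGroup N] [Module R M] [Module R N]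
  [AddCommGroup M'] [AddCommGroup N'] [Module R M'] [Module R N'] [Module R' M'] [Module R' N']
  [IsScalarTower R R' M'] [IsScalarTower R R' N']

theorem ker_le_span_of_isBaseChange (f : M →ₗ[R] N) [Module.Flat R (N ⧸ LinearMap.range f)]
    {gM : M →ₗ[R] M'} {gN : N →ₗ[R] N'} (hM : IsBaseChange R' gM) (hN : IsBaseChange R' gN)
    (f' : M' →ₗ[R'] N') (hcomm : ∀ m, f' (gM m) = gN (f m)) :
    LinearMap.ker f' ≤ Submodule.span R' (gM '' (LinearMap.ker f : Set M)) := by
  intro x' hx'
  rw [LinearMap.mem_ker] at hx'
  -- transport to the tensor product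
  set x : R' ⊗[R] M := hM.equiv.symm x' with hxdef
  have hxx : hM.equiv x = x' := by rw [hxdef, LinearEquiv.apply_symm_apply]
  have key : ∀ y : R' ⊗[R] M, hN.equiv (f.lTensor R' y) = f' (hM.equiv y) := by
    intro y
    induction y using TensorProduct.induction_on with
    | zero => simp
    | tmul a m =>
      rw [LinearMap.lTensor_tmul, IsBaseChange.equiv_tmul, IsBaseChange.equiv_tmul, map_smul, hcomm]
    | add a b ha hb => rw [map_add, map_add, map_add, map_add, ha, hb]
  have h0 : f.lTensor R' x = 0 := by
    apply hN.equiv.injective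
    rw [key, hxx, hx', map_zero]
  obtain ⟨y, hy⟩ := mem_range_lTensor_ker_of_flat_coker f R' x h0
  rw [← hxx, ← hy]
  clear hy
  induction y using TensorProduct.induction_on with
  | zero => simp
  | tmul a k =>
    rw [LinearMap.lTensor_tmul, IsBaseChange.equiv_tmul]
    exact Submodule.smul_mem _ _ (Submodule.subset_span ⟨k.1, k.2, rfl⟩)
  | add a b ha hb =>
    rw [map_add, map_add]
    exact Submodule.add_mem _ ha hb

end B

end Groth.Agent.LibKerBC29
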