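import Mathlib
import Groth.Prelude.Def_CAlgX
import Groth.Agent.LibKerBC29
import Groth.Agent.Lib.Helper3.FlatDescQ
/-!
# Noetherian descent of `H_1`-regular sequences with flat quotient (helper29)

`A` any ring, `B = A[X]/(w)` of finite presentation, `f : Fin c → B` an `H_1`-regular sequence with
`B/(f)` flat over `A` (for `c = 1`: a non-zero-divisor with flat quotient).  Then `(A, B, f)` is the
base change of `(A', B', f')` with `A' ⊆ A` a finitely generated subalgebra over a Noetherian ring
`R0`, `f'` again `H_1`-regular and `B'/(f')` flat over `A'`  (`exists_fg_subalgebra_h1`).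

The point (EGA IV 11.3.8 c) ⇒ b), Stacks 062Z / 063U): the module of relations
`Z₁ = ker (B^c → B)` commutes with base change as soon as `B/(f)` is flat
(`LibKerBC29.ker_le_span_of_isBaseChange`), so that the finitely many generators of `Z₁` at a
Noetherian level, which become trivial relations over `A`, already are trivial at a finite level.
-/

set_option autoImplicit false
set_option linter.style.haveILetI false

universe u

open TensorProduct

namespace Groth.Agent.LibH1Desc29

open Groth.Agent.Lib.helper3.FlatDesc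

section Triv

variable {R R' : Type*} [CommRing R] [CommRing R'] {c : ℕ}

/-- the module of trivial relations of `f`. -/
def Triv (f : Fin c → R) : Submodule R (Fin c → R) :=
  Submodule.span R {v | ∃ i j : Fin c, v = Pi.single i (f j) - Pi.single j (f i)}

theorem isH1Regular_iff {R : Type u} [CommRing R] (f : Fin c → R) :
    CAlgX.IsH1Regular f ↔ ∀ a : Fin c → R, ∑ i, a i * f i = 0 → a ∈ Triv f := Iff.rfl

theorem map_mem_Triv (ψ : R →+* R') (f : Fin c → R) {a : Fin c → R} (ha : a ∈ Triv f) :
    (fun i => ψ (a i)) ∈ Triv (fun i => ψ (f i)) := by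
  classical
  induction ha using Submodule.span_induction with
  | mem v hv =>
    obtain ⟨i, j, rfl⟩ := hv
    apply Submodule.subset_span
    refine ⟨i, j, ?_⟩
    funext l
    simp only [Pi.sub_apply, map_sub]
    congr 1
    · by_cases h : l = i
      · subst h; simp
      · simp [h]
    · by_cases h : l = j
      · subst h; simp
      · simp [h]
  | zero =>
    have : (fun i => ψ ((0 : Fin c → R) i)) = 0 := by funext i; simp
    rw [this]
    exact Submodule.zero_mem _
  | add x y _ _ hx hy =>
    have : (fun i => ψ ((x + y) i)) = (fun i => ψ (x i)) + (fun i => ψ (y i)) := by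
      funext i; simp
    rw [this]
    exact Submodule.add_mem _ hx hy
  | smul r x _ hx =>
    have : (fun i => ψ ((r • x) i)) = ψ r • (fun i => ψ (x i)) := by
      funext i; simp
    rw [this]
    exact Submodule.smul_mem _ _ hx

theorem isH1Regular_map_equiv {R R' : Type u} [CommRing R] [CommRing R'] (e : R ≃+* R')
    (f : Fin c → R) (h : CAlgX.IsH1Regular f) : CAlgX.IsH1Regular (fun i => e (f i)) := by
  intro a' ha'
  have h1 : ∑ i, e.symm (a' i) * f i = 0 := by
    apply e.injective
    rw [map_sum, map_zero, ← ha']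
    exact Finset.sum_congr rfl fun i _ => by rw [map_mul, e.apply_symm_apply]
  have h2 := map_mem_Triv (e : R →+* R') f (h _ h1)
  have h3 : (fun i => (e : R →+* R') (e.symm (a' i))) = a' := by
    funext i
    exact e.apply_symm_apply _
  rw [h3] at h2
  exact h2

end Triv

section Level

variable {R0 : Type*} [CommRing R0] {n d c : ℕ} (w0 : Fin d → MvPolynomial (Fin n) R0)
  (φ0 : Fin c → MvPolynomial (Fin n) R0) (C : Type*) [CommRing C] [Algebra R0 C]

/-- the sequence at level `C`. -/
noncomputable def fC : Fin c → B0 w0 C :=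
  fun i => Ideal.Quotient.mk _ (MvPolynomial.map (algebraMap R0 C) (φ0 i))

/-- generators (over `R0`) of the polynomial vectors reducing to trivial relations. -/
noncomputable def gens0 : (Fin c × Fin c) ⊕ (Fin c × Fin d) → (Fin c → MvPolynomial (Fin n) R0) :=
  Sum.elim (fun ij => Pi.single ij.1 (φ0 ij.2) - Pi.single ij.2 (φ0 ij.1))
    (fun lr => Pi.single lr.1 (w0 lr.2))

/-- the module of polynomial vectors reducing to trivial relations, at level `C`. -/
noncomputable def G : Submodule (MvPolynomial (Fin n) C) (Fin c → MvPolynomial (Fin n) C) :=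
  Submodule.span _ (Set.range fun k => mapF n c (B' := C) (gens0 w0 φ0 k))

variable {C}

theorem mapF_single {b : ℕ} {B B' : Type*} [CommRing B] [CommRing B'] [Algebra B B'] (l : Fin b)
    (p : MvPolynomial (Fin n) B) :
    mapF n b (B' := B') (Pi.single l p) = Pi.single l (MvPolynomial.map (algebraMap B B') p) := by
  classical
  funext l'
  rw [mapF_apply]
  by_cases h : l' = l
  · subst h; simp
  · simp [h]

theorem single_mem_G (l : Fin c) {x : MvPolynomial (Fin n) C}
    (hx : x ∈ Ideal.span (Set.range (wmap C w0))) : Pi.single l x ∈ G w0 φ0 C := by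
  classical
  induction hx using Submodule.span_induction with
  | mem x hx =>
    obtain ⟨r, rfl⟩ := hx
    apply Submodule.subset_span
    refine ⟨Sum.inr (l, r), ?_⟩
    simp only [gens0, Sum.elim_inr]
    rw [mapF_single]
  | zero =>
    rw [Pi.single_zero]
    exact Submodule.zero_mem _
  | add x y _ _ hx hy =>
    rw [Pi.single_add]
    exact Submodule.add_mem _ hx hy
  | smul p x _ hx =>
    have : (Pi.single l (p • x) : Fin c → MvPolynomial (Fin n) C) = p • Pi.single l x := by
      rw [← Pi.single_smul]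
    rw [this]
    exact Submodule.smul_mem _ _ hx

theorem mem_G_of_forall_mem (x : Fin c → MvPolynomial (Fin n) C)
    (hx : ∀ l, x l ∈ Ideal.span (Set.range (wmap C w0))) : x ∈ G w0 φ0 C := by
  classical
  rw [← Finset.univ_sum_single x]
  exact Submodule.sum_mem _ fun l _ => single_mem_G w0 φ0 l (hx l)

/-- reduction of polynomial vectors modulo the relations. -/
noncomputable def red (a : Fin c → MvPolynomial (Fin n) C) : Fin c → B0 w0 C :=
  fun i => Ideal.Quotient.mk _ (a i)

theorem red_mem_Triv_of_mem_G {a : Fin c → MvPolynomial (Fin n) C} (ha : a ∈ G w0 φ0 C) :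
    red w0 a ∈ Triv (fC w0 φ0 C) := by
  classical
  induction ha using Submodule.span_induction with
  | mem v hv =>
    obtain ⟨k, rfl⟩ := hv
    rcases k with ⟨i, j⟩ | ⟨l, r⟩
    · apply Submodule.subset_span
      refine ⟨i, j, ?_⟩
      funext l
      simp only [red, gens0, Sum.elim_inl, map_sub, mapF_single, Pi.sub_apply, fC]
      congr 1
      · by_cases h : l = i
        · subst h; simp
        · simp [h]
      · by_cases h : l = j
        · subst h; simp
        · simp [h]
    · have : red w0 (mapF n c (B' := C) (gens0 w0 φ0 (Sum.inr (l, r)))) = 0 := by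
        funext l'
        simp only [red, gens0, Sum.elim_inr, mapF_single, Pi.zero_apply]
        by_cases h : l' = l
        · subst h
          simp only [Pi.single_eq_same]
          exact Ideal.Quotient.eq_zero_iff_mem.mpr (Ideal.subset_span ⟨r, rfl⟩)
        · simp [h]
      rw [this]
      exact Submodule.zero_mem _
  | zero =>
    have : red w0 (0 : Fin c → MvPolynomial (Fin n) C) = 0 := by funext i; simp [red]
    rw [this]
    exact Submodule.zero_mem _
  | add x y _ _ hx hy =>
    have : red w0 (x + y) = red w0 x + red w0 y := by funext i; simp [red]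
    rw [this]
    exact Submodule.add_mem _ hx hy
  | smul p x _ hx =>
    have : red w0 (p • x) = (Ideal.Quotient.mk _ p : B0 w0 C) • red w0 x := by
      funext i; simp [red]
    rw [this]
    exact Submodule.smul_mem _ _ hx

theorem exists_mem_G_red_eq {v : Fin c → B0 w0 C} (hv : v ∈ Triv (fC w0 φ0 C)) :
    ∃ a ∈ G w0 φ0 C, red w0 a = v := by
  classical
  induction hv using Submodule.span_induction with
  | mem v hv =>
    obtain ⟨i, j, rfl⟩ := hv
    refine ⟨mapF n c (B' := C) (gens0 w0 φ0 (Sum.inl (i, j))),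
      Submodule.subset_span ⟨_, rfl⟩, ?_⟩
    funext l
    simp only [red, gens0, Sum.elim_inl, map_sub, mapF_single, Pi.sub_apply, fC]
    congr 1
    · by_cases h : l = i
      · subst h; simp
      · simp [h]
    · by_cases h : l = j
      · subst h; simp
      · simp [h]
  | zero => exact ⟨0, Submodule.zero_mem _, by funext i; simp [red]⟩
  | add x y _ _ hx hy =>
    obtain ⟨a1, h1, rfl⟩ := hx
    obtain ⟨a2, h2, rfl⟩ := hy
    exact ⟨a1 + a2, Submodule.add_mem _ h1 h2, by funext i; simp [red]⟩
  | smul β x _ hx =>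
    obtain ⟨a1, h1, rfl⟩ := hx
    obtain ⟨b, rfl⟩ := Ideal.Quotient.mk_surjective β
    exact ⟨b • a1, Submodule.smul_mem _ _ h1, by funext i; simp [red]⟩

theorem mem_G_of_red_mem_Triv {a : Fin c → MvPolynomial (Fin n) C}
    (ha : red w0 a ∈ Triv (fC w0 φ0 C)) : a ∈ G w0 φ0 C := by
  obtain ⟨a', ha', h⟩ := exists_mem_G_red_eq w0 φ0 ha
  have h1 : a - a' ∈ G w0 φ0 C := by
    apply mem_G_of_forall_mem
    intro l
    rw [Pi.sub_apply, ← Ideal.Quotient.eq]
    exact (congrFun h l).symm
  have := Submodule.add_mem _ h1 ha'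
  rwa [sub_add_cancel] at this

end Level

section Desc

variable {R0 R : Type u} [CommRing R0] [CommRing R] [Algebra R0 R] {n b : ℕ} {ι : Type*}
  [Fintype ι] (v0 : ι → (Fin b → MvPolynomial (Fin n) R0))

/-- **Descent of membership in a finitely generated submodule of polynomial vectors.** -/
theorem exists_finset_mem_span (x : Fin b → MvPolynomial (Fin n) R)
    (hx : x ∈ Submodule.span (MvPolynomial (Fin n) R)
      (Set.range fun k => mapF n b (B' := R) (v0 k))) :
    ∃ T : Finset R, ∀ B : Subalgebra R0 R, (T : Set R) ⊆ B →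
      ∀ y : Fin b → MvPolynomial (Fin n) B, mapF n b (B' := R) y = x →
        y ∈ Submodule.span (MvPolynomial (Fin n) B)
          (Set.range fun k => mapF n b (B' := B) (v0 k)) := by
  classical
  obtain ⟨cc, hcc⟩ := (Submodule.mem_span_range_iff_exists_fun _).mp hx
  refine ⟨Finset.univ.biUnion fun k => (cc k).coeffs, fun B hTB y hy => ?_⟩
  have hlift : ∀ k, ∃ p' : MvPolynomial (Fin n) B,
      MvPolynomial.map (algebraMap B R) p' = cc k := by
    intro k
    apply lift_of_coeffs_subset
    refine subset_trans ?_ hTB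
    intro a ha
    simp only [Finset.coe_biUnion, Set.mem_iUnion]
    exact ⟨k, by simp, ha⟩
  choose cc' hcc' using hlift
  have hy' : y = ∑ k, cc' k • mapF n b (B' := B) (v0 k) := by
    apply mapF_injective (n := n) (b := b) (B := B) (B' := R) Subtype.val_injective
    rw [hy, ← hcc, map_sum]
    refine Finset.sum_congr rfl fun k _ => ?_
    rw [mapF_smul, hcc', mapF_mapF]
  rw [hy']
  exact Submodule.sum_mem _ fun k _ => Submodule.smul_mem _ _ (Submodule.subset_span ⟨k, rfl⟩)

end Desc

section FlatBridge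

variable {R0 : Type*} [CommRing R0] {n d c : ℕ} (w0 : Fin d → MvPolynomial (Fin n) R0)
  (φ0 : Fin c → MvPolynomial (Fin n) R0) (C : Type*) [CommRing C] [Algebra R0 C]

theorem range_wmap_append :
    Set.range (wmap C (Fin.append w0 φ0)) = Set.range (wmap C w0) ∪ Set.range (wmap C φ0) := by
  ext x
  constructor
  · rintro ⟨i, rfl⟩
    refine Fin.addCases (fun i => ?_) (fun i => ?_) i
    · left
      exact ⟨i, by simp [wmap, Fin.append_left]⟩
    · right
      exact ⟨i, by simp [wmap, Fin.append_right]⟩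
  · rintro (⟨i, rfl⟩ | ⟨i, rfl⟩)
    · exact ⟨Fin.castAdd c i, by simp [wmap, Fin.append_left]⟩
    · exact ⟨Fin.natAdd d i, by simp [wmap, Fin.append_right]⟩

/-- `C[X]/(w, φ) ≃ (C[X]/(w))/(f)`. -/
noncomputable def quotAppendEquiv :
    (MvPolynomial (Fin n) C ⧸ Ideal.span (Set.range (wmap C (Fin.append w0 φ0)))) ≃ₐ[C]
      (B0 w0 C ⧸ Ideal.span (Set.range (fC w0 φ0 C))) :=
  (Ideal.quotientEquivAlgOfEq C (by
    rw [range_wmap_append, Ideal.span_union])).trans <|
  (DoubleQuot.quotQuotEquivQuotSupₐ C (Ideal.span (Set.range (wmap C w0)))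
    (Ideal.span (Set.range (wmap C φ0)))).symm.trans <|
  Ideal.quotientEquivAlgOfEq C (by
    rw [Ideal.map_span]
    congr 1
    ext x
    simp only [Set.mem_image, Set.mem_range, exists_exists_eq_and]
    rfl)

theorem flat_model_iff_quot :
    Module.Flat C ((Fin 1 → MvPolynomial (Fin n) C) ⧸ NB (vmap C (vOf (Fin.append w0 φ0)))) ↔
      Module.Flat C (B0 w0 C ⧸ Ideal.span (Set.range (fC w0 φ0 C))) :=
  Module.Flat.equiv_iff
    (((modelEquivQuot (wmap C (Fin.append w0 φ0))).restrictScalars C).trans
      (quotAppendEquiv w0 φ0 C).toLinearEquiv)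

/-- the map `B^c → B`, `a ↦ ∑ a_i f_i`, as a `C`-linear map. -/
noncomputable def dOne : (Fin c → B0 w0 C) →ₗ[C] B0 w0 C :=
  (Fintype.linearCombination (B0 w0 C) (fC w0 φ0 C)).restrictScalars C

theorem dOne_apply (a : Fin c → B0 w0 C) : dOne w0 φ0 C a = ∑ i, a i * fC w0 φ0 C i := by
  simp [dOne, Fintype.linearCombination_apply]

theorem flat_quot_range (h : Module.Flat C (B0 w0 C ⧸ Ideal.span (Set.range (fC w0 φ0 C)))) :
    Module.Flat C (B0 w0 C ⧸ LinearMap.range (dOne w0 φ0 C)) := by
  have hr : LinearMap.range (dOne w0 φ0 C) =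
      (Ideal.span (Set.range (fC w0 φ0 C))).restrictScalars C := by
    ext x
    rw [Submodule.restrictScalars_mem]
    change _ ↔ x ∈ Submodule.span (B0 w0 C) (Set.range (fC w0 φ0 C))
    rw [← Fintype.range_linearCombination]
    rfl
  exact Module.Flat.of_linearEquiv ((Submodule.quotEquivOfEq _ _ hr).trans
    (Submodule.Quotient.restrictScalarsEquiv C (Ideal.span (Set.range (fC w0 φ0 C)))))

end FlatBridge

section Zt

variable {R0 : Type*} [CommRing R0] {n d c : ℕ} (w0 : Fin d → MvPolynomial (Fin n) R0)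
  (φ0 : Fin c → MvPolynomial (Fin n) R0) (C : Type*) [CommRing C] [Algebra R0 C]

/-- polynomial vectors whose reduction is a relation among the `f_i`. -/
noncomputable def Zt : Submodule (MvPolynomial (Fin n) C) (Fin c → MvPolynomial (Fin n) C) :=
  Submodule.comap (Fintype.linearCombination (MvPolynomial (Fin n) C) (wmap C φ0))
    (Ideal.span (Set.range (wmap C w0)))

variable {C}

theorem mem_Zt_iff (a : Fin c → MvPolynomial (Fin n) C) :
    a ∈ Zt w0 φ0 C ↔ ∑ i, a i * wmap C φ0 i ∈ Ideal.span (Set.range (wmap C w0)) := by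
  rw [Zt, Submodule.mem_comap, Fintype.linearCombination_apply]
  rfl

theorem dOne_red (a : Fin c → MvPolynomial (Fin n) C) :
    dOne w0 φ0 C (red w0 a) = Ideal.Quotient.mk _ (∑ i, a i * wmap C φ0 i) := by
  rw [dOne_apply, map_sum]
  refine Finset.sum_congr rfl fun i _ => ?_
  rw [map_mul]
  rfl

theorem mem_Zt_iff_dOne (a : Fin c → MvPolynomial (Fin n) C) :
    a ∈ Zt w0 φ0 C ↔ dOne w0 φ0 C (red w0 a) = 0 := by
  rw [mem_Zt_iff, dOne_red, Ideal.Quotient.eq_zero_iff_mem]

theorem mapF_mem_Zt {C' : Type*} [CommRing C'] [Algebra R0 C'] [Algebra C C']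
    [IsScalarTower R0 C C'] {a : Fin c → MvPolynomial (Fin n) C} (ha : a ∈ Zt w0 φ0 C) :
    mapF n c (B' := C') a ∈ Zt w0 φ0 C' := by
  rw [mem_Zt_iff] at ha ⊢
  have h1 := Ideal.mem_map_of_mem (MvPolynomial.map (algebraMap C C')) ha
  rw [map_span_range_eq, wmap_wmap (A := C') C, map_sum] at h1
  convert h1 using 1
  refine Finset.sum_congr rfl fun i _ => ?_
  rw [map_mul, mapF_apply]
  congr 1
  exact (congrFun (wmap_wmap (A := C') (w0 := φ0) C) i).symm

end Zt

section Core

variable {R0 A : Type u} [CommRing R0] [CommRing A] [Algebra R0 A] [IsNoetherianRing R0]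
  {n d c : ℕ} (w0 : Fin d → MvPolynomial (Fin n) R0) (φ0 : Fin c → MvPolynomial (Fin n) R0)

/-- **Noetherian descent of an `H_1`-regular sequence with flat quotient** (model form). -/
theorem exists_fg_subalgebra_h1
    (hflat : Module.Flat A (B0 w0 A ⧸ Ideal.span (Set.range (fC w0 φ0 A))))
    (hH1 : CAlgX.IsH1Regular (fC w0 φ0 A)) :
    ∃ A' : Subalgebra R0 A, A'.FG ∧
      Module.Flat A' (B0 w0 A' ⧸ Ideal.span (Set.range (fC w0 φ0 A'))) ∧
      CAlgX.IsH1Regular (fC w0 φ0 A') := by
  classical
  obtain ⟨A1, hA1, hfl1⟩ := exists_fg_subalgebra_flat_model (vOf (Fin.append w0 φ0))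
    ((flat_model_iff_quot w0 φ0 A).mpr hflat)
  haveI : Algebra.FiniteType R0 A1 := (Subalgebra.fg_iff_finiteType A1).mp hA1
  haveI : IsNoetherianRing A1 := Algebra.FiniteType.isNoetherianRing R0 A1
  obtain ⟨S, hS⟩ := (IsNoetherian.noetherian (Zt w0 φ0 A1) : (Zt w0 φ0 A1).FG)
  -- generators become trivial at the top level
  have hGA : ∀ z ∈ Zt w0 φ0 A1, mapF n c (B' := A) z ∈ G w0 φ0 A := by
    intro z hz
    apply mem_G_of_red_mem_Triv
    apply hH1
    have := (mem_Zt_iff_dOne w0 φ0 _).mp (mapF_mem_Zt w0 φ0 (C' := A) hz)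
    rw [dOne_apply] at this
    exact this
  have hT : ∀ z : S, ∃ T : Finset A, ∀ B : Subalgebra R0 A, (T : Set A) ⊆ B →
      ∀ y : Fin c → MvPolynomial (Fin n) B, mapF n c (B' := A) y = mapF n c (B' := A) z.1 →
        y ∈ G w0 φ0 B := fun z =>
    exists_finset_mem_span (gens0 w0 φ0) _ (hGA z.1 (hS ▸ Submodule.subset_span z.2))
  choose T hT using hT
  let TT : Finset A := Finset.univ.biUnion T
  let A2 : Subalgebra R0 A := A1 ⊔ Algebra.adjoin R0 (TT : Set A)
  have hle : A1 ≤ A2 := le_sup_left
  have hTT : (TT : Set A) ⊆ A2 :=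
    subset_trans Algebra.subset_adjoin (le_sup_right : Algebra.adjoin R0 (TT : Set A) ≤ A2)
  letI alg12 : Algebra A1 A2 := (Subalgebra.inclusion hle).toRingHom.toAlgebra
  haveI : IsScalarTower R0 A1 A2 := IsScalarTower.of_algebraMap_eq (fun r => rfl)
  haveI : IsScalarTower A1 A2 A := IsScalarTower.of_algebraMap_eq (fun r => rfl)
  have hG2 : ∀ z ∈ Zt w0 φ0 A1, mapF n c (B' := A2) z ∈ G w0 φ0 A2 := by
    intro z hz
    rw [← hS] at hz
    induction hz using Submodule.span_induction with
    | mem z hz =>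
      refine hT ⟨z, hz⟩ A2 ?_ _ (mapF_mapF z)
      refine subset_trans ?_ hTT
      intro a ha
      simp only [TT, Finset.coe_biUnion, Set.mem_iUnion]
      exact ⟨⟨z, hz⟩, by simp, ha⟩
    | zero => rw [map_zero]; exact Submodule.zero_mem _
    | add x y _ _ hx hy => rw [map_add]; exact Submodule.add_mem _ hx hy
    | smul p x _ hx => rw [mapF_smul]; exact Submodule.smul_mem _ _ hx
  refine ⟨A2, Subalgebra.FG.sup hA1 (Subalgebra.fg_adjoin_finset _),
    (flat_model_iff_quot w0 φ0 A2).mp (flat_model_of_le _ hle hfl1), ?_⟩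
  -- the pushout square
  obtain ⟨algB, towB, hpo, halg⟩ := exists_isPushout_B0 (w0 := w0) (A := A2) (B := B0 w0 A2) A1
    (Ideal.Quotient.mkₐ A2 _) (Ideal.Quotient.mkₐ_ker A2 _) (Ideal.Quotient.mkₐ_surjective A2 _)
  have hfC : ∀ i, algebraMap (B0 w0 A1) (B0 w0 A2) (fC w0 φ0 A1 i) = fC w0 φ0 A2 i := by
    intro i
    rw [fC, halg, MvPolynomial.map_map, ← IsScalarTower.algebraMap_eq]
    rfl
  intro ā hā
  have hN := hpo.out
  have hM := IsBaseChange.finitePow (Fin c) hN
  haveI := flat_quot_range w0 φ0 A1 ((flat_model_iff_quot w0 φ0 A1).mp hfl1)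
  have hker := Groth.Agent.LibKerBC29.ker_le_span_of_isBaseChange (dOne w0 φ0 A1) hM hN
    (dOne w0 φ0 A2) (by
      intro m
      rw [dOne_apply, dOne_apply]
      change _ = algebraMap (B0 w0 A1) (B0 w0 A2) _
      rw [map_sum]
      refine Finset.sum_congr rfl fun i _ => ?_
      rw [map_mul, hfC]
      rfl)
  have hmem : ā ∈ LinearMap.ker (dOne w0 φ0 A2) := by
    rw [LinearMap.mem_ker, dOne_apply]
    exact hā
  have hle' : Submodule.span A2 ((((IsScalarTower.toAlgHom A1 (B0 w0 A1)
      (B0 w0 A2)).toLinearMap).compLeft (Fin c)) '' (LinearMap.ker (dOne w0 φ0 A1) : Set _)) ≤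
      (Triv (fC w0 φ0 A2)).restrictScalars A2 := by
    rw [Submodule.span_le]
    rintro _ ⟨k, hk, rfl⟩
    have hlift : ∀ i, ∃ p : MvPolynomial (Fin n) A1, Ideal.Quotient.mk _ p = k i :=
      fun i => Ideal.Quotient.mk_surjective (k i)
    choose kt hkt using hlift
    have hred : red w0 kt = k := funext hkt
    have hkZ : kt ∈ Zt w0 φ0 A1 := by
      rw [mem_Zt_iff_dOne, hred]
      exact hk
    have h1 := red_mem_Triv_of_mem_G w0 φ0 (hG2 kt hkZ)
    have h2 : red w0 (mapF n c (B' := A2) kt) =
        ((IsScalarTower.toAlgHom A1 (B0 w0 A1) (B0 w0 A2)).toLinearMap).compLeft (Fin c) k := by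
      funext i
      rw [← hred]
      exact (halg (kt i)).symm
    rw [h2] at h1
    exact h1
  exact hle' (hker hmem)

end Core

end Groth.Agent.LibH1Desc29
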