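import Mathlib
import Groth.Prelude.Def_CAlgX
import Groth.Agent.LibH1Desc29
import Groth.Agent.LibFlatRegT329
import Groth.Agent.LibFlatOfRegQuot29
import Groth.Agent.Lib.Helper17.H1Reg
import Groth.Agent.Lib.Helper3.FlatDescG
/-!
# `H_1`-regular sequences with flat quotient: flatness of the ambient algebra (helper29)

`A → B` of finite presentation (no Noetherian hypothesis), `f : Fin c → B` an `H_1`-regular sequence
with `B/(f)` flat over `A`.

* `exists_noetherian_model_h1` : `(A, B, f)` is the base change of `(A₀, B₀, f₀)` with `A₀ ⊆ A` a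
  finitely generated `ℤ`-algebra, `f₀` `H_1`-regular and `B₀/(f₀)` flat over `A₀`.
* `flat_atPrime_of_isH1Regular` : `B_q` is flat over `A` for every prime `q ⊇ (f)`
  (EGA IV 11.3.8 c) ⇒ b), Stacks 062Z/063U (1); for `c = 1`: `t` a non-zero-divisor with `B/tB` flat).
* `exists_away_flat_of_isH1Regular` : there is `g ∉ q` with `B_g` flat over `A`.
-/

set_option autoImplicit false
set_option linter.style.haveILetI false

universe u

open TensorProduct

namespace Groth.Agent.LibH1Flat29

open Groth.Agent.Lib.helper3.FlatDesc Groth.Agent.LibH1Desc29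

section Model

variable {A B : Type u} [CommRing A] [CommRing B] [Algebra A B]

/-- **Noetherian descent of an `H_1`-regular sequence with flat quotient.** -/
theorem exists_noetherian_model_h1 [Algebra.FinitePresentation A B] {c : ℕ} (f : Fin c → B)
    (hH1 : CAlgX.IsH1Regular f) (hflat : Module.Flat A (B ⧸ Ideal.span (Set.range f))) :
    ∃ (A₀ : Type u) (_ : CommRing A₀) (_ : Algebra A₀ A) (_ : Algebra A₀ B)
      (_ : IsScalarTower A₀ A B),
      Algebra.FiniteType ℤ A₀ ∧ Function.Injective (algebraMap A₀ A) ∧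
    ∃ (B₀ : Type u) (_ : CommRing B₀) (_ : Algebra A₀ B₀) (_ : Algebra B₀ B)
      (_ : IsScalarTower A₀ B₀ B),
      Algebra.FinitePresentation A₀ B₀ ∧ Algebra.IsPushout A₀ A B₀ B ∧
    ∃ f₀ : Fin c → B₀, (∀ i, algebraMap B₀ B (f₀ i) = f i) ∧ CAlgX.IsH1Regular f₀ ∧
      Module.Flat A₀ (B₀ ⧸ Ideal.span (Set.range f₀)) := by
  classical
  obtain ⟨n, π, hπ, hfg⟩ := Algebra.FinitePresentation.out (R := A) (A := B)
  obtain ⟨d, w, hw⟩ := Submodule.fg_iff_exists_fin_generating_family.mp hfg
  have hφ : ∀ i, ∃ p, π p = f i := fun i => hπ (f i)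
  choose φ hφ using hφ
  obtain ⟨R0, hR0, -, w0', hw0'⟩ := exists_wmap_eq A (Fin.append w φ) ∅
  haveI : Algebra.FiniteType ℤ R0 := (Subalgebra.fg_iff_finiteType R0).mp hR0
  haveI : IsNoetherianRing R0 := Algebra.FiniteType.isNoetherianRing ℤ R0
  set w0 : Fin d → MvPolynomial (Fin n) R0 := fun l => w0' (Fin.castAdd c l) with hw0def
  set φ0 : Fin c → MvPolynomial (Fin n) R0 := fun i => w0' (Fin.natAdd d i) with hφ0def
  have hw0 : wmap A w0 = w := by
    funext l
    have := congrFun hw0' (Fin.castAdd c l)
    rw [Fin.append_left] at this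
    exact this
  have hφ0 : wmap A φ0 = φ := by
    funext i
    have := congrFun hw0' (Fin.natAdd d i)
    rw [Fin.append_right] at this
    exact this
  have hw' : RingHom.ker π = Ideal.span (Set.range (wmap A w0)) := by
    rw [hw0]
    exact hw.symm
  -- the presentation as an isomorphism
  let e : B0 w0 A ≃ₐ[A] B :=
    (Ideal.quotientEquivAlgOfEq A hw'.symm).trans (Ideal.quotientKerAlgEquivOfSurjective hπ)
  have he : ∀ p : MvPolynomial (Fin n) A, e (Ideal.Quotient.mk _ p) = π p := fun p => rfl
  have hef : ∀ i, e (fC w0 φ0 A i) = f i := by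
    intro i
    rw [fC, he]
    have := congrFun hφ0 i
    simp only [wmap] at this
    rw [this, hφ]
  have hH1' : CAlgX.IsH1Regular (fC w0 φ0 A) := by
    have := isH1Regular_map_equiv e.symm.toRingEquiv f hH1
    convert this using 1
    funext i
    rw [← hef i]
    exact (e.symm_apply_apply _).symm
  have hflat' : Module.Flat A (B0 w0 A ⧸ Ideal.span (Set.range (fC w0 φ0 A))) := by
    have hmap : Ideal.span (Set.range f) =
        (Ideal.span (Set.range (fC w0 φ0 A))).map (e : B0 w0 A →+* B) := by
      rw [Ideal.map_span]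
      congr 1
      ext x
      simp only [Set.mem_range, Set.mem_image, exists_exists_eq_and]
      constructor
      · rintro ⟨i, rfl⟩
        exact ⟨i, hef i⟩
      · rintro ⟨i, rfl⟩
        exact ⟨i, (hef i).symm⟩
    exact Module.Flat.of_linearEquiv
      (Ideal.quotientEquivAlg _ _ e hmap).toLinearEquiv
  obtain ⟨A', hA'fg, hfl, hH⟩ := exists_fg_subalgebra_h1 w0 φ0 hflat' hH1'
  haveI : Algebra.FiniteType R0 A' := (Subalgebra.fg_iff_finiteType A').mp hA'fg
  obtain ⟨algB, towB, hpo, halg⟩ := exists_isPushout_B0 (w0 := w0) (A := A) (B := B) A' π hw' hπ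
  refine ⟨A', inferInstance, inferInstance, inferInstance, inferInstance,
    Algebra.FiniteType.trans (S := R0) ‹_› ‹_›, Subtype.val_injective,
    B0 w0 A', inferInstance, inferInstance, algB, towB, ?_, hpo, fC w0 φ0 A', ?_, hH, hfl⟩
  · exact Algebra.FinitePresentation.quotient ⟨Finset.univ.image (wmap A' w0), by simp⟩
  · intro i
    rw [fC, halg, MvPolynomial.map_map, ← IsScalarTower.algebraMap_eq]
    have := congrFun hφ0 i
    simp only [wmap] at this
    rw [this, hφ]

end Model

section AtPrime

open RingTheory.Sequence Groth.Agent.LibFlatQuots29 Groth.Agent.Lib.helper17.H1Reg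
  Groth.Agent.LibFlatRegLoc29 Groth.Agent.LibFlatOfRegQuot29

variable {A B : Type u} [CommRing A] [CommRing B] [Algebra A B]

/-- the Noetherian case: regular sequence with flat quotient in a Noetherian local ring. -/
theorem flat_atPrime_of_isH1Regular_noeth [IsNoetherianRing B] {c : ℕ} (f : Fin c → B)
    (hH1 : CAlgX.IsH1Regular f) (hflat : Module.Flat A (B ⧸ Ideal.span (Set.range f)))
    (q : Ideal B) [q.IsPrime] (hq : ∀ i, f i ∈ q) :
    Module.Flat A (Localization.AtPrime q) := by
  have h1 : CAlgX.IsH1Regular (fun i => algebraMap B (Localization.AtPrime q) (f i)) :=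
    isH1Regular_localization q.primeCompl f hH1
  have hm : ∀ i, algebraMap B (Localization.AtPrime q) (f i) ∈
      IsLocalRing.maximalIdeal (Localization.AtPrime q) := fun i =>
    (IsLocalization.AtPrime.to_map_mem_maximal_iff (Localization.AtPrime q) q (f i)).mpr (hq i)
  have hreg := isRegular_of_isH1Regular _ hm h1
  haveI : IsLocalizedModule q.primeCompl (Algebra.linearMap B (Localization.AtPrime q)) :=
    (isLocalizedModule_iff_isLocalization).2 inferInstance
  have hJeq : (Ideal.span (Set.range f)).localized' (Localization.AtPrime q) q.primeCompl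
      (Algebra.linearMap B (Localization.AtPrime q)) =
      Ideal.ofList (List.ofFn fun i => algebraMap B (Localization.AtPrime q) (f i)) := by
    rw [Submodule.localized'_eq_span, ofList_ofFn]
    change Ideal.map (algebraMap B (Localization.AtPrime q)) (Ideal.span (Set.range f)) = _
    rw [Ideal.map_span]
    congr 1
    ext x
    simp only [Set.mem_image, Set.mem_range, exists_exists_eq_and]
  have hflatJ : Module.Flat A ((Localization.AtPrime q) ⧸
      (Ideal.span (Set.range f)).localized' (Localization.AtPrime q) q.primeCompl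
        (Algebra.linearMap B (Localization.AtPrime q))) :=
    flat_of_isLocalizedModule' (R := A) q.primeCompl
      ((Ideal.span (Set.range f)).toLocalizedQuotient' (Localization.AtPrime q) q.primeCompl
        (Algebra.linearMap B (Localization.AtPrime q)))
  rw [hJeq] at hflatJ
  refine flat_of_isWeaklyRegular_of_flat_quot _ ?_ hreg.toIsWeaklyRegular hflatJ
  intro y hy
  obtain ⟨i, rfl⟩ := (List.mem_ofFn' _ y).1 hy
  exact hm i

/-- **Flatness near the zero locus of an `H_1`-regular sequence with flat quotient**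
(EGA IV 11.3.8 c) ⇒ b); Stacks 062Z, 063U (1)). -/
theorem flat_atPrime_of_isH1Regular [Algebra.FinitePresentation A B] {c : ℕ} (f : Fin c → B)
    (hH1 : CAlgX.IsH1Regular f) (hflat : Module.Flat A (B ⧸ Ideal.span (Set.range f)))
    (q : Ideal B) [q.IsPrime] (hq : ∀ i, f i ∈ q) :
    Module.Flat A (Localization.AtPrime q) := by
  obtain ⟨A₀, _, _, _, _, hft, -, B₀, _, _, _, _, hfp, hpo, f₀, hf₀, hH₀, hfl₀⟩ :=
    exists_noetherian_model_h1 f hH1 hflat
  haveI : IsNoetherianRing A₀ := Algebra.FiniteType.isNoetherianRing ℤ A₀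
  haveI : IsNoetherianRing B₀ := Algebra.FiniteType.isNoetherianRing A₀ B₀
  set q₀ : Ideal B₀ := q.comap (algebraMap B₀ B) with hq₀
  haveI : q₀.IsPrime := Ideal.comap_isPrime _ _
  have h0 : Module.Flat A₀ (Localization.AtPrime q₀) :=
    flat_atPrime_of_isH1Regular_noeth f₀ hH₀ hfl₀ q₀ (fun i => by
      rw [hq₀, Ideal.mem_comap, hf₀]
      exact hq i)
  have := Groth.Agent.LibFlatRegT329.transfer (R₀ := A₀) (R := A) (P₀ := B₀) (P := B) q q₀ hq₀ []
    (IsWeaklyRegular.nil _ _) (flatQuots_nil_iff.mpr h0)
  exact flatQuots_nil_iff.mp this.2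

end AtPrime

section Away

open Groth.Agent.Lib.helper3.FlatLocus

variable {A B : Type u} [CommRing A] [CommRing B] [Algebra A B]

/-- openness of the flat locus, pointwise ring form: if `B_q` is flat over `A` then so is `B_g` for
some `g ∉ q`. -/
theorem exists_away_flat_of_flat_atPrime [Algebra.FinitePresentation A B] (q : Ideal B)
    [q.IsPrime] (h : Module.Flat A (Localization.AtPrime q)) :
    ∃ g : B, g ∉ q ∧ ∀ (B' : Type u) [CommRing B'] [Algebra B B'] [Algebra A B']
      [IsScalarTower A B B'] [IsLocalization.Away g B'], Module.Flat A B' := by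
  have hopen := isOpen_flatLocus_of_finitePresentation (R := A) (S := B) (M := B)
  have hq : (⟨q, inferInstance⟩ : PrimeSpectrum B) ∈
      {r : PrimeSpectrum B | Module.Flat A (LocalizedModule r.asIdeal.primeCompl B)} := by
    change Module.Flat A (LocalizedModule q.primeCompl B)
    exact flat_of_le q.primeCompl q.primeCompl (Algebra.linearMap B (Localization.AtPrime q))
      (LocalizedModule.mkLinearMap q.primeCompl B) le_rfl h
  obtain ⟨_, ⟨_, ⟨g, rfl⟩, rfl⟩, hqg, hsub⟩ :=
    PrimeSpectrum.isBasis_basic_opens.exists_subset_of_mem_open hq hopen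
  refine ⟨g, hqg, ?_⟩
  intro B' _ _ _ _ _
  have h1 : Module.Flat A (LocalizedModule (Submonoid.powers g) B) := by
    apply flat_localizedModule_powers_of_forall_prime
    intro r _ hr
    exact hsub (show (⟨r, inferInstance⟩ : PrimeSpectrum B) ∈ PrimeSpectrum.basicOpen g from hr)
  haveI : IsLocalizedModule (Submonoid.powers g) (Algebra.linearMap B B') :=
    (isLocalizedModule_iff_isLocalization).2 inferInstance
  exact flat_of_le (Submonoid.powers g) (Submonoid.powers g)
    (LocalizedModule.mkLinearMap (Submonoid.powers g) B) (Algebra.linearMap B B') le_rfl h1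

/-- `A → B` of finite presentation, `f` an `H_1`-regular sequence with `B/(f)` flat over `A`, `q` a
prime containing `f`: then `B_g` is flat over `A` for some `g ∉ q`. -/
theorem exists_away_flat_of_isH1Regular [Algebra.FinitePresentation A B] {c : ℕ} (f : Fin c → B)
    (hH1 : CAlgX.IsH1Regular f) (hflat : Module.Flat A (B ⧸ Ideal.span (Set.range f)))
    (q : Ideal B) [q.IsPrime] (hq : ∀ i, f i ∈ q) :
    ∃ g : B, g ∉ q ∧ ∀ (B' : Type u) [CommRing B'] [Algebra B B'] [Algebra A B']
      [IsScalarTower A B B'] [IsLocalization.Away g B'], Module.Flat A B' :=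
  exists_away_flat_of_flat_atPrime q (flat_atPrime_of_isH1Regular f hH1 hflat q hq)

end Away

end Groth.Agent.LibH1Flat29
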