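import Mathlib
import Groth.Prelude.Def_RegImm
import Groth.Prelude.Def_Mor2
import Groth.Prelude.Def_CInt
import Groth.Agent.LibRegImmBasic29
import Groth.Agent.Lib.Helper7.KoszulLow

/-!
# Bridges between `Mor2.IsRegularClosedImmersion` and `RegImm.IsRegularImmersion` (helper29)

* `regImm_of_mor2`, `mor2_of_regImm` : a regular closed immersion in the sense of `Mor2` is the same as a
  closed immersion which is a regular immersion of kind `regular`.
* `h1_of_regular`, `quasi_of_regular` : regular immersions are `H_1`-regular and quasi-regular.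
* `fiberMap_eq` : `CInt.fiberMap u g s` is, up to the pasting isomorphism, the base change of `u` along
  `X_s ⟶ X`.
-/

set_option autoImplicit false
set_option linter.style.haveILetI false
universe u
open CategoryTheory CategoryTheory.Limits AlgebraicGeometry RingTheory.Sequence

namespace Groth.Agent.LibMor2RegImm29

variable {Z X : Scheme.{u}}

theorem regImm_of_mor2 (i : Z ⟶ X) (h : Mor2.IsRegularClosedImmersion i) :
    RegImm.IsRegularImmersion RegImm.Kind.regular i := by
  obtain ⟨hcl, h⟩ := h
  haveI := hcl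
  refine ⟨inferInstance, fun z => ?_⟩
  obtain ⟨U, hU, hzU, rs, hrs, hker⟩ := h z
  refine ⟨⟨U, hU⟩, hzU, inferInstance, rs, hrs, ?_⟩
  rw [← hker, Scheme.Hom.ker_apply]

theorem mor2_of_regImm (i : Z ⟶ X) [IsClosedImmersion i]
    (h : RegImm.IsRegularImmersion RegImm.Kind.regular i) : Mor2.IsRegularClosedImmersion i := by
  refine ⟨inferInstance, fun z => ?_⟩
  obtain ⟨U, hzU, -, rs, hrs, hker⟩ := h.2 z
  refine ⟨U.1, U.2, hzU, rs, hrs, ?_⟩
  rw [← hker, Scheme.Hom.ker_apply]

theorem seq_h1_of_regular {R : Type u} [CommRing R] (rs : List R)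
    (h : RegImm.Kind.regular.Seq R rs) : RegImm.Kind.h1.Seq R rs :=
  Groth.Agent.Lib.helper7.KoszulLow.isH1Regular_of_isKoszulRegularSeq R rs
    (Groth.Agent.LibRegImmBasic29.isKoszulRegularSeq_of_isWeaklyRegular rs
      (IsRegular.toIsWeaklyRegular h))

theorem h1_at_of_regular_at (i : Z ⟶ X) (z : Z)
    (h : RegImm.IsRegularImmersionAt RegImm.Kind.regular i z) :
    RegImm.IsRegularImmersionAt RegImm.Kind.h1 i z := by
  obtain ⟨U, hz, hcl, rs, hrs, hker⟩ := h
  exact ⟨U, hz, hcl, rs, seq_h1_of_regular rs hrs, hker⟩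

theorem h1_of_regular (i : Z ⟶ X) (h : RegImm.IsRegularImmersion RegImm.Kind.regular i) :
    RegImm.IsRegularImmersion RegImm.Kind.h1 i :=
  ⟨h.1, fun z => h1_at_of_regular_at i z (h.2 z)⟩

/-- precomposition with an isomorphism preserves regular immersions. -/
theorem regImm_iso_comp (k : RegImm.Kind) {Z' : Scheme.{u}} (e : Z' ⟶ Z) [IsIso e] (i : Z ⟶ X)
    (h : RegImm.IsRegularImmersion k i) : RegImm.IsRegularImmersion k (e ≫ i) := by
  haveI := h.1
  exact ⟨inferInstance, fun z' =>
    Groth.Agent.LibRegImmBasic29.isRegularImmersionAt_iso_comp k e i z' (h.2 (e z'))⟩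

section Fibre

variable {Y S : Scheme.{u}}

theorem pullback_map_eq {K : Scheme.{u}} (u : Y ⟶ X) (g : X ⟶ S) (k : K ⟶ S) :
    pullback.map (u ≫ g) k g k u (𝟙 _) (𝟙 _) (by simp) (by simp) =
      (pullbackRightPullbackFstIso g k u).inv ≫ pullback.snd u (pullback.fst g k) := by
  apply pullback.hom_ext
  · rw [pullback.lift_fst, Category.assoc]
    exact (pullbackRightPullbackFstIso_inv_snd_fst g k u).symm
  · rw [pullback.lift_snd, Category.assoc, Category.comp_id]
    exact (pullbackRightPullbackFstIso_inv_snd_snd g k u).symm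

theorem fiberMap_eq (u : Y ⟶ X) (g : X ⟶ S) (s : S) :
    CInt.fiberMap u g s =
      (pullbackRightPullbackFstIso g (S.fromSpecResidueField s) u).inv ≫
        pullback.snd u (g.fiberι s) :=
  pullback_map_eq u g (S.fromSpecResidueField s)

theorem snd_eq_fiberMap (u : Y ⟶ X) (g : X ⟶ S) (s : S) :
    pullback.snd u (g.fiberι s) =
      (pullbackRightPullbackFstIso g (S.fromSpecResidueField s) u).hom ≫ CInt.fiberMap u g s := by
  rw [fiberMap_eq, Iso.hom_inv_id_assoc]

instance (u : Y ⟶ X) [IsClosedImmersion u] (g : X ⟶ S) (s : S) :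
    IsClosedImmersion (CInt.fiberMap u g s) := by
  rw [fiberMap_eq]
  haveI : IsClosedImmersion (pullback.snd u (g.fiberι s)) :=
    MorphismProperty.pullback_snd _ _ inferInstance
  exact (MorphismProperty.cancel_left_of_respectsIso @IsClosedImmersion
    (pullbackRightPullbackFstIso g (S.fromSpecResidueField s) u).inv
    (pullback.snd u (g.fiberι s))).mpr this

end Fibre

end Groth.Agent.LibMor2RegImm29
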