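import Mathlib
import Groth.Prelude.Def_RegImm
import Groth.Prelude.Def_Mor2
import Groth.Prelude.Def_CInt
import Groth.Agent.LibMor2RegImm29
import Groth.Agent.LibFibQuasiImmLoc29
import Groth.Agent.LibH1Flat29
import Groth.Agent.Lib.Helper3.FlatLocus5

/-!
# Fibrewise criterion for regular closed immersions, with flatness only at the point (helper29)

`regAt_of_fibre_regular` : `g : X ⟶ S` locally of finite presentation, `u : Y ⟶ X` a closed immersion
with `Y` flat and locally of finite presentation over `S`, `y` a point of `Y` such that `g` is flat at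
`u y` and the base change `Y_s ⟶ X_s` (`s = g (u y)`) of `u` to the fibre is a regular immersion.  Then
near `u y` the ideal of `Y` is generated by a regular sequence (EGA IV 19.2.4).
-/

set_option autoImplicit false
set_option linter.style.haveILetI false
universe u
open CategoryTheory CategoryTheory.Limits AlgebraicGeometry IsLocalRing RingTheory.Sequence

namespace Groth.Agent.LibFibRegClosed29

open Groth.Agent.LibFibReg29 Groth.Agent.LibMor2RegImm29 Groth.Agent.LibFibQuasiImmLoc29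
  Groth.Agent.LibH1Flat29 Groth.Agent.Lib.helper3.FlatLocus

theorem quasi_at_of_regular_at {Z X : Scheme.{u}} (i : Z ⟶ X) (z : Z)
    (h : RegImm.IsRegularImmersionAt RegImm.Kind.regular i z) :
    RegImm.IsRegularImmersionAt RegImm.Kind.quasi i z := by
  obtain ⟨U, hz, hcl, rs, hrs, hker⟩ := h
  exact ⟨U, hz, hcl, rs,
    Groth.Agent.LibFibQuasiImm29.quasi_of_isWeaklyRegular rs (IsRegular.toIsWeaklyRegular hrs), hker⟩

theorem regAt_of_fibre_regular {X Y S : Scheme.{u}} (u : Y ⟶ X) (g : X ⟶ S) [IsClosedImmersion u]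
    [LocallyOfFinitePresentation g] [LocallyOfFinitePresentation (u ≫ g)] [Flat (u ≫ g)] (y : Y)
    (hpt : (g.stalkMap (u y)).hom.Flat)
    (hfib : RegImm.IsRegularImmersion RegImm.Kind.regular (pullback.snd u (g.fiberι (g (u y))))) :
    ∃ (U : X.Opens) (hU : IsAffineOpen U), u y ∈ U ∧ ∃ rs : List Γ(X, U),
      IsRegular Γ(X, U) rs ∧ u.ker.ideal ⟨U, hU⟩ = Ideal.ofList rs := by
  -- the closed subscheme
  have hτ : u.toImage ≫ u.ker.subschemeι = u := u.toImage_imageι
  have hι : u.ker.subschemeι = inv u.toImage ≫ u := by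
    rw [IsIso.eq_inv_comp]; exact hτ
  haveI : Flat (u.ker.subschemeι ≫ g) := by rw [hι, Category.assoc]; infer_instance
  haveI : LocallyOfFinitePresentation (u.ker.subschemeι ≫ g) := by
    rw [hι, Category.assoc]; infer_instance
  -- the points
  have hz : g.fiberι (g (u y)) (g.asFiber (u y)) = u y := g.fiberι_asFiber (u y)
  obtain ⟨w, hw1, hw2⟩ := Scheme.Pullback.exists_preimage_pullback
    (f := u.ker.subschemeι) (g := g.fiberι (g (u y))) (u.toImage y) (g.asFiber (u y)) (by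
      rw [hz, ← Scheme.Hom.comp_apply, hτ])
  -- the fibre hypothesis for the closed subscheme
  have hfib' : RegImm.IsRegularImmersionAt RegImm.Kind.quasi
      (pullback.snd u.ker.subschemeι (g.fiberι (g (u y)))) w := by
    let e' : pullback u.ker.subschemeι (g.fiberι (g (u y))) ⟶ pullback u (g.fiberι (g (u y))) :=
      pullback.map _ _ _ _ (inv u.toImage) (𝟙 _) (𝟙 _) (by rw [Category.comp_id, hι]) (by simp)
    have he' : e' ≫ pullback.snd u (g.fiberι (g (u y))) =
        pullback.snd u.ker.subschemeι (g.fiberι (g (u y))) := by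
      rw [pullback.lift_snd, Category.comp_id]
    rw [← he']
    exact quasi_at_of_regular_at _ _
      (Groth.Agent.LibRegImmBasic29.isRegularImmersionAt_iso_comp _ e' _ w (hfib.2 (e' w)))
  -- a chart on which `g` is flat
  obtain ⟨_, ⟨V, hV, rfl⟩, hsV, -⟩ :=
    S.isBasis_affineOpens.exists_subset_of_mem_open (Set.mem_univ (g (u y))) isOpen_univ
  obtain ⟨_, ⟨U₀, hU₀, rfl⟩, hxU₀, hU₀V'⟩ :=
    X.isBasis_affineOpens.exists_subset_of_mem_open (show u y ∈ (g ⁻¹ᵁ V : Set X) from hsV)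
      (g ⁻¹ᵁ V).isOpen
  have e₀ : U₀ ≤ g ⁻¹ᵁ V := hU₀V'
  have hfl₀ := (flat_stalkMap_iff g V hV U₀ hU₀ e₀ hxU₀).mp hpt
  letI alg₀ : Algebra Γ(S, V) Γ(X, U₀) := (g.appLE V U₀ e₀).hom.toAlgebra
  haveI hfp₀ : Algebra.FinitePresentation Γ(S, V) Γ(X, U₀) :=
    HasRingHomProperty.appLE (P := @LocallyOfFinitePresentation) g inferInstance ⟨V, hV⟩
      ⟨U₀, hU₀⟩ e₀
  obtain ⟨g₁, hg₁, H₁⟩ := exists_away_flat_of_flat_atPrime
    (hU₀.primeIdealOf ⟨u y, hxU₀⟩).asIdeal hfl₀
  have hU : IsAffineOpen (X.basicOpen g₁) := hU₀.basicOpen g₁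
  have hxU : u y ∈ X.basicOpen g₁ := by
    letI := X.presheaf.algebra_section_stalk (⟨u y, hxU₀⟩ : U₀)
    haveI := hU₀.isLocalization_stalk ⟨u y, hxU₀⟩
    rw [Scheme.mem_basicOpen _ _ _ hxU₀]
    exact (IsLocalization.AtPrime.isUnit_to_map_iff (X.presheaf.stalk (u y))
      (hU₀.primeIdealOf ⟨u y, hxU₀⟩).asIdeal g₁).mpr hg₁
  have e : X.basicOpen g₁ ≤ g ⁻¹ᵁ V := (X.basicOpen_le g₁).trans e₀
  have hB : (g.appLE V (X.basicOpen g₁) e).hom.Flat := by
    letI alg' : Algebra Γ(S, V) Γ(X, X.basicOpen g₁) := (g.appLE V (X.basicOpen g₁) e).hom.toAlgebra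
    haveI : IsScalarTower Γ(S, V) Γ(X, U₀) Γ(X, X.basicOpen g₁) := by
      apply IsScalarTower.of_algebraMap_eq'
      have := Scheme.Hom.appLE_map g e₀ (homOfLE (X.basicOpen_le g₁)).op
      exact (congrArg CommRingCat.Hom.hom this).symm
    haveI : IsLocalization.Away g₁ Γ(X, X.basicOpen g₁) := hU₀.isLocalization_basicOpen g₁
    have := H₁ Γ(X, X.basicOpen g₁)
    rw [← RingHom.flat_algebraMap_iff] at this
    exact this
  -- the fibrewise criterion
  obtain ⟨D, e', hzD, rs, hI, hRF⟩ := transRegular_of_fibre_quasi_aux' g u.ker (g (u y))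
    (g.asFiber (u y)) w hw2 hfib' ⟨X.basicOpen g₁, hU⟩ ⟨V, hV⟩ e (by rw [hz]; exact hxU) hB
  rw [hz] at hzD
  refine ⟨D.1, D.2, hzD, rs, ⟨hRF.1, ?_⟩, hI⟩
  intro htop
  rw [smul_eq_mul, Ideal.mul_top] at htop
  have hsupp : u y ∈ u.ker.support := u.range_subset_ker_support ⟨y, rfl⟩
  rw [Scheme.IdealSheafData.mem_support_iff_of_mem (U := D) hzD, hI,
    Scheme.mem_zeroLocus_iff] at hsupp
  have h1 : (1 : Γ(X, D.1)) ∈ (Ideal.ofList rs : Set Γ(X, D.1)) := by
    have : (1 : Γ(X, D.1)) ∈ (⊤ : Ideal Γ(X, D.1)) := Submodule.mem_top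
    rw [htop] at this
    exact this
  apply hsupp 1 h1
  rw [Scheme.basicOpen_of_isUnit _ isUnit_one]
  exact hzD

end Groth.Agent.LibFibRegClosed29
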