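import Mathlib
import Groth.Agent.LibFibReg5_29
import Groth.Agent.LibRelRegImmBC29
import Groth.Agent.LibQuasiRegNoeth29
import Groth.Agent.Lib.Helper24.FibreRegular

/-!
# Quasi-regular sequences with flat quotient in a flat finitely presented algebra are regular (helper29)

`exists_away_regFlat_of_isQuasiRegular`: `A → B` flat of finite presentation, `rs` a quasi-regular
sequence in `B` with `B/(rs)` flat over `A`, `r ⊇ (rs)` a prime.  Then on some `D(g) ∋ r` the
sequence `rs` is (weakly) regular and all the successive quotients are flat over `A`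
(Stacks 063T/0470 type statement: relative quasi-regular ⇒ regular).
-/

set_option autoImplicit false
set_option linter.style.haveILetI false
universe u
open TensorProduct IsLocalRing RingTheory.Sequence

namespace Groth.Agent.LibFibReg29

theorem exists_away_regFlat_of_isQuasiRegular {A B : Type u} [CommRing A] [CommRing B]
    [Algebra A B] [Module.Flat A B] [Algebra.FinitePresentation A B]
    (rs : List B) (hq : RegImm.Kind.quasi.Seq B rs)
    (hflat : Module.Flat A (B ⧸ Ideal.ofList rs))
    (r : Ideal B) [r.IsPrime] (hr : Ideal.ofList rs ≤ r) :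
    ∃ g : B, g ∉ r ∧ ∀ (B' : Type u) [CommRing B'] [Algebra B B'] [Algebra A B']
      [IsScalarTower A B B'] [IsLocalization.Away g B'],
      RegFlat A B' (rs.map (algebraMap B B')) := by
  set p : Ideal A := r.comap (algebraMap A B) with hp
  haveI : r.LiesOver p := ⟨rfl⟩
  obtain ⟨q, hqp, hqr⟩ := Groth.Agent.Lib.Helper24.FibreRegular.exists_fiber_prime A B p r
  -- quasi-regularity in the fibre
  have h1 := Groth.Agent.LibRelRegImmBC29.seq_baseChange (A := A) (B := B) (A' := p.ResidueField)
    RegImm.Kind.quasi (Or.inr rfl) rs hq hflat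
  have hfl : RingHom.Flat (R := p.Fiber B) (S := Localization.AtPrime q)
      (algebraMap (p.Fiber B) (Localization.AtPrime q)) :=
    RingHom.flat_algebraMap_iff.mpr inferInstance
  have h2 := Groth.Agent.LibRelRegImmBC29.seq_map_of_flat (R := p.Fiber B)
    (R' := Localization.AtPrime q)
    (algebraMap (p.Fiber B) (Localization.AtPrime q)) hfl RegImm.Kind.quasi (Or.inr rfl) _ h1
  rw [List.map_map] at h2
  haveI : IsNoetherianRing (p.Fiber B) :=
    Algebra.FiniteType.isNoetherianRing p.ResidueField (p.Fiber B)
  haveI : IsNoetherianRing (Localization.AtPrime q) :=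
    IsLocalization.isNoetherianRing q.primeCompl _ inferInstance
  have hfun : ((algebraMap (p.Fiber B) (Localization.AtPrime q)) ∘
      ((Algebra.TensorProduct.includeRight : B →ₐ[A] p.ResidueField ⊗[A] B).toRingHom)) =
      fibMap p q := rfl
  rw [hfun] at h2
  have h3 : IsWeaklyRegular (Localization.AtPrime q) (rs.map (fibMap p q)) := by
    have := Groth.Agent.LibQuasiRegNoeth29.isWeaklyRegular_of_isQuasiRegular _ (Localization.AtPrime q)
      (rs.map (fibMap p q)).get h2 (fun i => by
        rw [List.get_eq_getElem, List.getElem_map]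
        have hm : rs[(i : ℕ)]'(by simpa using i.2) ∈ r :=
          hr (Ideal.subset_span (List.getElem_mem _))
        have hm' : rs[(i : ℕ)]'(by simpa using i.2) ∈ fibPrime p q := by
          change _ ∈ q.comap _
          rw [hqr]
          exact hm
        rw [fibMap_apply, ← Localization.AtPrime.map_eq_maximalIdeal]
        exact Ideal.mem_map_of_mem _ hm')
    rw [List.ofFn_get] at this
    exact this
  obtain ⟨g, hg, H⟩ := exists_away_regFlat p q rs h3
  refine ⟨g, fun hgr => hg ?_, H⟩
  change g ∈ q.comap _
  rw [hqr]
  exact hgr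

end Groth.Agent.LibFibReg29
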