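import Mathlib
import Groth.Prelude.Def_RegImm
import Groth.Agent.LibH1Flat29
import Groth.Agent.LibFibReg7_29
import Groth.Agent.LibRelRegImmBC29
import Groth.Agent.Lib.Helper7.RegImmKinds
/-!
# Relative `H_1`-regular sequences in finitely presented algebras are transversally regular near
their zero locus (helper29)

`exists_away_regFlat_of_isH1Regular` : `A → B` of finite presentation (NOT assumed flat), `rs` an
`H_1`-regular sequence in `B` with `B/(rs)` flat over `A`, `q ⊇ (rs)` a prime.  Then there is `g ∉ q`
such that on `B_g` the sequence `rs` is weakly regular with all successive quotients (including `B_g`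
itself) flat over `A`  (Stacks 063U, EGA IV 19.2.4 + 11.3.8).
-/

set_option autoImplicit false
set_option linter.style.haveILetI false

universe u

open TensorProduct RingTheory.Sequence

namespace Groth.Agent.LibH1RegFlat29

open Groth.Agent.LibFibReg29 Groth.Agent.LibH1Flat29 Groth.Agent.LibFlatRegLoc29

theorem span_range_get {B : Type*} [CommRing B] (rs : List B) :
    Ideal.span (Set.range rs.get) = Ideal.ofList rs := by
  rw [Set.range_list_get]

theorem exists_away_regFlat_of_isH1Regular {A B : Type u} [CommRing A] [CommRing B]
    [Algebra A B] [Algebra.FinitePresentation A B]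
    (rs : List B) (hq : RegImm.Kind.h1.Seq B rs)
    (hflat : Module.Flat A (B ⧸ Ideal.ofList rs))
    (q : Ideal B) [q.IsPrime] (hqr : Ideal.ofList rs ≤ q) :
    ∃ g : B, g ∉ q ∧ ∀ (B' : Type u) [CommRing B'] [Algebra B B'] [Algebra A B']
      [IsScalarTower A B B'] [IsLocalization.Away g B'],
      RegFlat A B' (rs.map (algebraMap B B')) := by
  have hflat' : Module.Flat A (B ⧸ Ideal.span (Set.range rs.get)) := by
    rw [span_range_get]; exact hflat
  obtain ⟨g₁, hg₁, H₁⟩ := exists_away_flat_of_isH1Regular rs.get hq hflat' q (fun i =>
    hqr (Ideal.subset_span (List.get_mem rs i)))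
  -- the first localization
  haveI hfl₁ : Module.Flat A (Localization.Away g₁) := H₁ (Localization.Away g₁)
  haveI : Algebra.FinitePresentation B (Localization.Away g₁) :=
    IsLocalization.Away.finitePresentation g₁
  haveI : Algebra.FinitePresentation A (Localization.Away g₁) :=
    Algebra.FinitePresentation.trans A B (Localization.Away g₁)
  have hρ : (algebraMap B (Localization.Away g₁)).Flat := by
    rw [RingHom.flat_algebraMap_iff]
    exact IsLocalization.flat _ (Submonoid.powers g₁)
  have hq₁ : RegImm.Kind.quasi.Seq (Localization.Away g₁)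
      (rs.map (algebraMap B (Localization.Away g₁))) :=
    Groth.Agent.Lib.helper7.RegImmKinds.seq_quasi_of_h1 _ _
      (Groth.Agent.LibRelRegImmBC29.seq_map_of_flat _ hρ RegImm.Kind.h1 (Or.inl rfl) rs hq)
  -- flat quotient
  haveI : IsLocalizedModule (Submonoid.powers g₁) (Algebra.linearMap B (Localization.Away g₁)) :=
    (isLocalizedModule_iff_isLocalization).2 inferInstance
  have hJeq : (Ideal.ofList rs).localized' (Localization.Away g₁) (Submonoid.powers g₁)
      (Algebra.linearMap B (Localization.Away g₁)) =
      Ideal.ofList (rs.map (algebraMap B (Localization.Away g₁))) := by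
    rw [Submodule.localized'_eq_span, ← Ideal.map_ofList]
    rfl
  have hflatJ : Module.Flat A ((Localization.Away g₁) ⧸
      (Ideal.ofList rs).localized' (Localization.Away g₁) (Submonoid.powers g₁)
        (Algebra.linearMap B (Localization.Away g₁))) :=
    flat_of_isLocalizedModule' (R := A) (Submonoid.powers g₁)
      ((Ideal.ofList rs).toLocalizedQuotient' (Localization.Away g₁) (Submonoid.powers g₁)
        (Algebra.linearMap B (Localization.Away g₁)))
  rw [hJeq] at hflatJ
  -- the prime
  have hdisj : Disjoint (Submonoid.powers g₁ : Set B) (q : Set B) := by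
    rw [Set.disjoint_left]
    rintro _ ⟨k, rfl⟩ hk
    exact hg₁ (Ideal.IsPrime.mem_of_pow_mem inferInstance k hk)
  haveI hq₁p : (q.map (algebraMap B (Localization.Away g₁))).IsPrime :=
    IsLocalization.isPrime_of_isPrime_disjoint (Submonoid.powers g₁) _ q inferInstance hdisj
  have hle₁ : Ideal.ofList (rs.map (algebraMap B (Localization.Away g₁))) ≤
      q.map (algebraMap B (Localization.Away g₁)) := by
    rw [← Ideal.map_ofList]
    exact Ideal.map_mono hqr
  obtain ⟨g₂, hg₂, H₂⟩ := exists_away_regFlat_of_isQuasiRegular
    (rs.map (algebraMap B (Localization.Away g₁))) hq₁ hflatJ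
    (q.map (algebraMap B (Localization.Away g₁))) hle₁
  obtain ⟨k, b, hb⟩ := IsLocalization.Away.surj g₁ g₂
  have hunit : IsUnit (algebraMap B (Localization.Away g₁) g₁ ^ k) :=
    IsLocalization.Away.algebraMap_pow_isUnit g₁ k
  have hassoc : Associated (algebraMap B (Localization.Away g₁) b) g₂ := by
    refine Associated.symm ⟨hunit.unit, ?_⟩
    rw [IsUnit.unit_spec]
    exact hb
  have hbq : b ∉ q := by
    intro hbq
    apply hg₂
    have h1 : algebraMap B (Localization.Away g₁) b ∈
        q.map (algebraMap B (Localization.Away g₁)) := Ideal.mem_map_of_mem _ hbq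
    rw [← hb] at h1
    exact (Ideal.IsPrime.mem_or_mem inferInstance h1).resolve_right (fun h2 =>
      (inferInstance : (q.map (algebraMap B (Localization.Away g₁))).IsPrime).ne_top
        (Ideal.eq_top_of_isUnit_mem _ h2 hunit))
  refine ⟨g₁ * b, fun h => (Ideal.IsPrime.mem_or_mem inferInstance h).elim hg₁ hbq, ?_⟩
  intro B' _ _ _ _ _
  -- the concrete two-step localization
  haveI : IsLocalization.Away g₂
      (Localization.Away (algebraMap B (Localization.Away g₁) b)) :=
    IsLocalization.Away.of_associated hassoc
  have h3 := H₂ (Localization.Away (algebraMap B (Localization.Away g₁) b))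
  rw [List.map_map] at h3
  have h4 : (algebraMap (Localization.Away g₁)
      (Localization.Away (algebraMap B (Localization.Away g₁) b))) ∘
      (algebraMap B (Localization.Away g₁)) =
      algebraMap B (Localization.Away (algebraMap B (Localization.Away g₁) b)) := by
    funext x
    exact (IsScalarTower.algebraMap_apply B (Localization.Away g₁) _ x).symm
  rw [h4] at h3
  let e : Localization.Away (algebraMap B (Localization.Away g₁) b) ≃ₐ[B] B' :=
    IsLocalization.algEquiv (Submonoid.powers (g₁ * b)) _ _
  exact RegFlat.of_algEquiv e rs h3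

end Groth.Agent.LibH1RegFlat29
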