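import Mathlib
import Groth.Prelude.Def_RegImm
import Groth.Agent.LibH1RegFlat29
import Groth.Agent.LibRegImmComp29
import Groth.Agent.LibRegImmStalk29
import Groth.Agent.Lib.Helper3.FlatDescI

/-!
# Relative `H_1`-regular immersions into finitely presented schemes (helper29)

`transRegular_at_of_relH1_at`: `f : X ⟶ S` locally of finite presentation (NOT assumed flat),
`i : Z ⟶ X` with `Z` flat over `S`, `H_1`-regular at `z`.  Then on a small affine neighbourhood `D` of
`i z` the ideal of `Z` is generated by a regular sequence all of whose successive quotients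
(including `Γ(X, D)` itself) are flat over the base (Stacks 063U).

`regular_of_relH1`, `flat_stalkMap_of_relH1`, `exists_flat_nbhd_of_relH1`.
-/

set_option autoImplicit false
set_option linter.style.haveILetI false
universe u
open CategoryTheory AlgebraicGeometry IsLocalRing RingTheory.Sequence

namespace Groth.Agent.LibRelH1Reg29

open Groth.Agent.LibFibReg29 Groth.Agent.LibH1RegFlat29

theorem transRegular_at_of_relH1_at {Z X S : Scheme.{u}} (f : X ⟶ S)
    [LocallyOfFinitePresentation f] (i : Z ⟶ X) [Flat (i ≫ f)] (z : Z)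
    (h : RegImm.IsRegularImmersionAt RegImm.Kind.h1 i z)
    (V : S.affineOpens) (hzV : f (i z) ∈ V.1) :
    ∃ (D : X.affineOpens) (e : D.1 ≤ f ⁻¹ᵁ V.1), i z ∈ D.1 ∧ IsClosedImmersion (i ∣_ D.1) ∧
      ∃ rs : List Γ(X, D.1),
        (letI := (f.appLE V.1 D.1 e).hom.toAlgebra
         RegFlat Γ(S, V.1) Γ(X, D.1) rs) ∧ IsRegular Γ(X, D.1) rs ∧
        RingHom.ker (i.app D.1).hom = Ideal.ofList rs := by
  obtain ⟨U0, hzU0, hcl0, rs0, hrs0, hker0⟩ := h
  haveI := hcl0
  -- shrink `U0` into `f⁻¹ V`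
  obtain ⟨a, hale, hza⟩ := U0.2.exists_basicOpen_le (V := f ⁻¹ᵁ V.1) ⟨i z, hzV⟩ hzU0
  have hU : IsAffineOpen (X.basicOpen a) := U0.2.basicOpen a
  obtain ⟨hcl, hker1⟩ := Groth.Agent.LibRegImmComp29.restrict_of_le i U0.1 U0.2 (X.basicOpen a) hU
    (X.basicOpen_le a)
  haveI := hcl
  set U : X.Opens := X.basicOpen a with hUdef
  have hρ : (X.presheaf.map (homOfLE (X.basicOpen_le a)).op).hom.Flat := by
    haveI := U0.2.isLocalization_basicOpen a
    have : (X.presheaf.map (homOfLE (X.basicOpen_le a)).op).hom =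
        algebraMap Γ(X, U0.1) Γ(X, X.basicOpen a) := rfl
    rw [this, RingHom.flat_algebraMap_iff]
    exact IsLocalization.flat _ (Submonoid.powers a)
  set rs : List Γ(X, U) := rs0.map (X.presheaf.map (homOfLE (X.basicOpen_le a)).op).hom with hrs
  have hq : RegImm.Kind.h1.Seq Γ(X, U) rs :=
    Groth.Agent.LibRelRegImmBC29.seq_map_of_flat _ hρ RegImm.Kind.h1 (Or.inl rfl) rs0 hrs0
  have hker : RingHom.ker (i.app U).hom = Ideal.ofList rs := by
    rw [hker1, hker0, Ideal.map_ofList]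
  -- the algebra structure and flatness of the quotient
  letI algAB : Algebra Γ(S, V.1) Γ(X, U) := (f.appLE V.1 U hale).hom.toAlgebra
  haveI hfpB : Algebra.FinitePresentation Γ(S, V.1) Γ(X, U) :=
    HasRingHomProperty.appLE (P := @LocallyOfFinitePresentation) f inferInstance V ⟨U, hU⟩ hale
  obtain ⟨haff, hsurj⟩ :=
    Groth.Agent.LibRegImmStalk29.affine_and_app_surjective_of_restrict i U hU
  have hcomp : ((i.app U).hom.comp (f.appLE V.1 U hale).hom).Flat := by
    have h1 : ((i ≫ f).appLE V.1 (i ⁻¹ᵁ U) (i.preimage_mono hale)).hom.Flat :=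
      Scheme.Hom.flat_appLE (i ≫ f) V.2 haff _
    have h2 : (i ≫ f).appLE V.1 (i ⁻¹ᵁ U) (i.preimage_mono hale) =
        f.appLE V.1 U hale ≫ i.app U := by
      rw [Scheme.Hom.app_eq_appLE, Scheme.Hom.appLE_comp_appLE]
    rw [h2] at h1
    exact h1
  have hfl := Groth.Agent.LibRelRegImmBC29.flat_mk_comp_of_surjective (f.appLE V.1 U hale).hom
    (i.app U).hom hsurj _ hker hcomp
  haveI hflatQ : Module.Flat Γ(S, V.1) (Γ(X, U) ⧸ Ideal.ofList rs) := by
    have h2 : (Ideal.Quotient.mk (Ideal.ofList rs)).comp (f.appLE V.1 U hale).hom =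
        algebraMap Γ(S, V.1) (Γ(X, U) ⧸ Ideal.ofList rs) := rfl
    rw [h2, RingHom.flat_algebraMap_iff] at hfl
    exact hfl
  -- the prime of `i z`
  have hcomap : (haff.primeIdealOf ⟨z, hza⟩).asIdeal.comap (i.app U).hom =
      (hU.primeIdealOf ⟨i z, hza⟩).asIdeal := by
    have := IsAffineOpen.comap_primeIdealOf_appLE (f := i) (x := z) U hU (i ⁻¹ᵁ U) haff le_rfl hza
    rw [Scheme.Hom.appLE_eq_app] at this
    exact congrArg PrimeSpectrum.asIdeal this
  have hle : Ideal.ofList rs ≤ (hU.primeIdealOf ⟨i z, hza⟩).asIdeal := by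
    rw [← hker]
    intro b hb
    rw [← hcomap, Ideal.mem_comap, RingHom.mem_ker.mp hb]
    exact Ideal.zero_mem _
  obtain ⟨g, hg, H⟩ := exists_away_regFlat_of_isH1Regular rs hq hflatQ
    (hU.primeIdealOf ⟨i z, hza⟩).asIdeal hle
  -- the basic open `D(g)`
  have hD : IsAffineOpen (X.basicOpen g) := hU.basicOpen g
  have hzg : i z ∈ X.basicOpen g := by
    letI := X.presheaf.algebra_section_stalk (⟨i z, hza⟩ : U)
    haveI := hU.isLocalization_stalk ⟨i z, hza⟩
    rw [Scheme.mem_basicOpen _ _ _ hza]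
    exact (IsLocalization.AtPrime.isUnit_to_map_iff (X.presheaf.stalk (i z))
      (hU.primeIdealOf ⟨i z, hza⟩).asIdeal g).mpr hg
  obtain ⟨hcl', hker'⟩ := Groth.Agent.LibRegImmComp29.restrict_of_le i U hU (X.basicOpen g) hD
    (X.basicOpen_le g)
  have eD : X.basicOpen g ≤ f ⁻¹ᵁ V.1 := (X.basicOpen_le g).trans hale
  refine ⟨⟨X.basicOpen g, hD⟩, eD, hzg, hcl',
    rs.map (X.presheaf.map (homOfLE (X.basicOpen_le g)).op).hom, ?_, ?_, ?_⟩
  · letI algAB' : Algebra Γ(S, V.1) Γ(X, X.basicOpen g) := (f.appLE V.1 (X.basicOpen g) eD).hom.toAlgebra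
    haveI : IsScalarTower Γ(S, V.1) Γ(X, U) Γ(X, X.basicOpen g) := by
      apply IsScalarTower.of_algebraMap_eq'
      have := Scheme.Hom.appLE_map f hale (homOfLE (X.basicOpen_le g)).op
      exact (congrArg CommRingCat.Hom.hom this).symm
    haveI : IsLocalization.Away g Γ(X, X.basicOpen g) := hU.isLocalization_basicOpen g
    exact H Γ(X, X.basicOpen g)
  · letI algAB' : Algebra Γ(S, V.1) Γ(X, X.basicOpen g) := (f.appLE V.1 (X.basicOpen g) eD).hom.toAlgebra
    haveI : IsScalarTower Γ(S, V.1) Γ(X, U) Γ(X, X.basicOpen g) := by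
      apply IsScalarTower.of_algebraMap_eq'
      have := Scheme.Hom.appLE_map f hale (homOfLE (X.basicOpen_le g)).op
      exact (congrArg CommRingCat.Hom.hom this).symm
    haveI : IsLocalization.Away g Γ(X, X.basicOpen g) := hU.isLocalization_basicOpen g
    refine ⟨(H Γ(X, X.basicOpen g)).1, ?_⟩
    intro htop
    rw [smul_eq_mul, Ideal.mul_top] at htop
    have h1 : (1 : Γ(X, X.basicOpen g)) ∈ RingHom.ker (i.app (X.basicOpen g)).hom := by
      rw [hker', hker, Ideal.map_ofList]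
      have : (1 : Γ(X, X.basicOpen g)) ∈ (⊤ : Ideal Γ(X, X.basicOpen g)) := Submodule.mem_top
      rw [htop] at this
      exact this
    rw [RingHom.mem_ker, map_one] at h1
    haveI : Nonempty (i ⁻¹ᵁ X.basicOpen g : Z.Opens) := ⟨⟨z, hzg⟩⟩
    exact one_ne_zero h1
  · rw [hker', hker, Ideal.map_ofList]

/-- a relative `H_1`-regular immersion into a scheme locally of finite presentation over the base is
a regular immersion. -/
theorem regular_of_relH1 {Z X S : Scheme.{u}} (f : X ⟶ S)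
    [LocallyOfFinitePresentation f] (i : Z ⟶ X)
    (hi : RegImm.IsRelRegularImmersion RegImm.Kind.h1 f i) :
    RegImm.IsRegularImmersion RegImm.Kind.regular i := by
  obtain ⟨⟨himm, hreg⟩, hflat⟩ := hi
  haveI := hflat
  refine ⟨himm, fun z => ?_⟩
  obtain ⟨_, ⟨V0, hV0, rfl⟩, hzV0, -⟩ :=
    S.isBasis_affineOpens.exists_subset_of_mem_open (Set.mem_univ (f (i z))) isOpen_univ
  obtain ⟨D, e, hzD, hcl, rs, -, hreg', hker⟩ :=
    transRegular_at_of_relH1_at f i z (hreg z) ⟨V0, hV0⟩ hzV0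
  exact ⟨D, hzD, hcl, rs, hreg', hker⟩

open Groth.Agent.Lib.helper3.FlatLocus in
/-- `f` is flat at the points of a relative `H_1`-regular immersion. -/
theorem flat_stalkMap_of_relH1 {Z X S : Scheme.{u}} (f : X ⟶ S)
    [LocallyOfFinitePresentation f] (i : Z ⟶ X)
    (hi : RegImm.IsRelRegularImmersion RegImm.Kind.h1 f i) (z : Z) :
    (f.stalkMap (i z)).hom.Flat := by
  obtain ⟨⟨himm, hreg⟩, hflat⟩ := hi
  haveI := hflat
  obtain ⟨_, ⟨V0, hV0, rfl⟩, hzV0, -⟩ :=
    S.isBasis_affineOpens.exists_subset_of_mem_open (Set.mem_univ (f (i z))) isOpen_univ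
  obtain ⟨D, e, hzD, hcl, rs, hRF, -, -⟩ :=
    transRegular_at_of_relH1_at f i z (hreg z) ⟨V0, hV0⟩ hzV0
  rw [flat_stalkMap_iff f V0 hV0 D.1 D.2 e hzD]
  letI := (f.appLE V0 D.1 e).hom.toAlgebra
  haveI : Module.Flat Γ(S, V0) Γ(X, D.1) := by
    have := hRF.2 0
    rw [List.take_zero, Ideal.ofList_nil] at this
    exact Module.Flat.of_linearEquiv (AlgEquiv.quotientBot Γ(S, V0) Γ(X, D.1)).symm.toLinearEquiv
  exact Module.Flat.trans Γ(S, V0) Γ(X, D.1) _

/-- the open flat neighbourhood. -/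
theorem exists_flat_nbhd_of_relH1 {Z X S : Scheme.{u}} (f : X ⟶ S)
    [LocallyOfFinitePresentation f] (i : Z ⟶ X)
    (hi : RegImm.IsRelRegularImmersion RegImm.Kind.h1 f i) :
    ∃ U : X.Opens, Set.range (fun z : ↥Z => i z) ⊆ (U : Set ↥X) ∧ Flat (U.ι ≫ f) := by
  refine ⟨⟨{x : X | (f.stalkMap x).hom.Flat},
    Groth.Agent.Lib.helper3.FlatDesc.isOpen_flatLocus_of_locallyOfFinitePresentation f⟩, ?_, ?_⟩
  · rintro _ ⟨z, rfl⟩
    exact flat_stalkMap_of_relH1 f i hi z
  · apply Flat.of_stalkMap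
    intro x
    rw [Scheme.Hom.stalkMap_comp]
    have h1 : (f.stalkMap ((Scheme.Opens.ι _) x)).hom.Flat := x.2
    have h2 : ((Scheme.Opens.ι _).stalkMap x).hom.Flat :=
      RingHom.Flat.of_bijective (ConcreteCategory.bijective_of_isIso _)
    exact h1.comp h2

end Groth.Agent.LibRelH1Reg29
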