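import Mathlib
import Groth.Prelude.Def_RegImm
import Groth.Agent.LibFibRegInvRing29
import Groth.Agent.LibFibStalk29
import Groth.Agent.LibRegImmComp29

/-!
# `FibReg` is invariant under base change (helper29)

* `regGen_fibre_iff_of_isPushout`: `LibFibRegInvRing29.regGen_fibre_iff` for a pushout square of
  `CommRingCat` and ring homs instead of algebra instances.
* `fibReg_baseChange_iff`: for cartesian squares `P' = P ×_S S'`, `Z' = Z ×_P P'` with `Z ⟶ P` a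
  closed immersion and `P ⟶ S` locally of finite type: `FibReg i' q' z' ↔ FibReg i q (gZ z')`.
-/

set_option autoImplicit false
set_option linter.style.haveILetI false
universe u
open CategoryTheory CategoryTheory.Limits AlgebraicGeometry IsLocalRing RingTheory.Sequence

namespace Groth.Agent.LibFibRegInv29

open Groth.Agent.LibFibStalk29 Groth.Agent.Lib.helper17.RegNear Groth.Agent.Lib.helper17.FibreStalk

theorem regGen_fibre_iff_of_isPushout {R₀ R₀' A₀ A₀' : CommRingCat.{u}} {a : R₀ ⟶ A₀}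
    {b : R₀ ⟶ R₀'} {c : A₀ ⟶ A₀'} {a' : R₀' ⟶ A₀'} (H : IsPushout b a a' c)
    (hft : a.hom.FiniteType) (r' : Ideal A₀') [r'.IsPrime]
    (Sr L : Type u) [CommRing Sr] [CommRing L] (σ : A₀ →+* Sr)
    (hσ : @IsLocalization.AtPrime A₀ _ Sr _ σ.toAlgebra (r'.comap c.hom) _)
    (ψ : Sr →+* L) (hψ : Function.Surjective ψ)
    (hker : RingHom.ker ψ = ((((r'.comap a'.hom).comap b.hom).map a.hom).map σ))
    (Sr' L' : Type u) [CommRing Sr'] [CommRing L'] (σ' : A₀' →+* Sr')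
    (hσ' : @IsLocalization.AtPrime A₀' _ Sr' _ σ'.toAlgebra r' _)
    (ψ' : Sr' →+* L') (hψ' : Function.Surjective ψ')
    (hker' : RingHom.ker ψ' = ((r'.comap a'.hom).map a'.hom).map σ')
    (I₀ : Ideal A₀) :
    (∃ ts : List L, IsRegular L ts ∧ I₀.map (ψ.comp σ) = Ideal.ofList ts) ↔
      (∃ ts : List L', IsRegular L' ts ∧
        (I₀.map c.hom).map (ψ'.comp σ') = Ideal.ofList ts) := by
  letI alg1 : Algebra R₀ R₀' := b.hom.toAlgebra
  letI alg2 : Algebra R₀ A₀ := a.hom.toAlgebra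
  letI alg3 : Algebra R₀' A₀' := a'.hom.toAlgebra
  letI alg4 : Algebra A₀ A₀' := c.hom.toAlgebra
  letI alg5 : Algebra R₀ A₀' := (a'.hom.comp b.hom).toAlgebra
  haveI st1 : IsScalarTower R₀ R₀' A₀' := IsScalarTower.of_algebraMap_eq' rfl
  haveI st2 : IsScalarTower R₀ A₀ A₀' := by
    apply IsScalarTower.of_algebraMap_eq'
    have := H.w
    exact congrArg CommRingCat.Hom.hom this
  haveI po : Algebra.IsPushout R₀ R₀' A₀ A₀' := by
    rw [← CommRingCat.isPushout_iff_isPushout]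
    exact H
  haveI ft : Algebra.FiniteType R₀ A₀ := hft
  letI alg6 : Algebra A₀ Sr := σ.toAlgebra
  letI alg7 : Algebra A₀' Sr' := σ'.toAlgebra
  haveI := hσ
  haveI := hσ'
  exact Groth.Agent.LibFibRegInvRing29.regGen_fibre_iff R₀ R₀' A₀ A₀' r' Sr L ψ hψ hker Sr' L' ψ'
    hψ' hker' I₀


theorem isLocalization_atPrime_congr {R S : Type*} [CommRing R] [CommRing S] [Algebra R S]
    {p p' : Ideal R} [p.IsPrime] [p'.IsPrime] (h : p = p')
    (H : IsLocalization.AtPrime S p) : IsLocalization.AtPrime S p' := by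
  subst h
  exact H

theorem fibReg_baseChange_iff {P P' S S' Z Z' : Scheme.{u}} (q : P ⟶ S) (q' : P' ⟶ S')
    (h : S' ⟶ S) (gP : P' ⟶ P) (H : IsPullback gP q' q h) (i : Z ⟶ P) (i' : Z' ⟶ P')
    (gZ : Z' ⟶ Z) (H' : IsPullback gZ i' i gP) [IsClosedImmersion i] [IsClosedImmersion i']
    [LocallyOfFiniteType q] (z' : Z') :
    FibReg i' q' z' ↔ FibReg i q (gZ z') := by
  have hx : gP (i' z') = i (gZ z') := by
    rw [← Scheme.Hom.comp_apply, ← Scheme.Hom.comp_apply, H'.w]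
  have hs : h (q' (i' z')) = q (i (gZ z')) := by
    rw [← hx, ← Scheme.Hom.comp_apply q' h, ← H.w, Scheme.Hom.comp_apply]
  obtain ⟨W, hW, hsW, -⟩ := exists_isAffineOpen_mem_and_subset
    (show q (i (gZ z')) ∈ (⊤ : S.Opens) from trivial)
  have hs' : q' (i' z') ∈ h ⁻¹ᵁ W := by
    change h (q' (i' z')) ∈ W
    rw [hs]
    exact hsW
  obtain ⟨W', hW', hs'W', hW'le0⟩ := exists_isAffineOpen_mem_and_subset hs'
  have hW'le : W' ≤ h ⁻¹ᵁ W := hW'le0
  obtain ⟨D, hD, hxD, hDle0⟩ := exists_isAffineOpen_mem_and_subset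
    (show i (gZ z') ∈ q ⁻¹ᵁ W from hsW)
  have hDle : D ≤ q ⁻¹ᵁ W := hDle0
  have hD' : IsAffineOpen (gP ⁻¹ᵁ D ⊓ q' ⁻¹ᵁ W') := by
    haveI : IsAffine W.toScheme := hW
    haveI : IsAffine W'.toScheme := hW'
    haveI : IsAffine D.toScheme := hD
    exact .of_isIso (Scheme.Hom.isPullback_resLE H hW'le hDle rfl).isoPullback.hom
  have hx'D' : i' z' ∈ gP ⁻¹ᵁ D ⊓ q' ⁻¹ᵁ W' := by
    refine ⟨?_, hs'W'⟩
    change gP (i' z') ∈ D
    rw [hx]
    exact hxD
  have hiso := isIso_pushoutSection_of_isAffineOpen H hW'le hDle rfl hW hW' hD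
  have hpo := (isIso_pushoutSection_iff H hW'le hDle rfl).mp hiso
  have eD : gP ⁻¹ᵁ D ⊓ q' ⁻¹ᵁ W' ≤ gP ⁻¹ᵁ D := inf_le_left
  have eW : gP ⁻¹ᵁ D ⊓ q' ⁻¹ᵁ W' ≤ q' ⁻¹ᵁ W' := inf_le_right
  obtain ⟨-, hker'⟩ := Groth.Agent.LibRegImmComp29.restrict_of_isPullback i gP i' gZ H' D hD _ hD' eD
  -- the primes
  have hr1 : (hD'.primeIdealOf ⟨i' z', hx'D'⟩).asIdeal.comap (gP.appLE D _ eD).hom =
      (hD.primeIdealOf ⟨i (gZ z'), hxD⟩).asIdeal := by
    have := IsAffineOpen.comap_primeIdealOf_appLE D hD _ hD' eD hx'D'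
    have h2 : (⟨gP (i' z'), eD hx'D'⟩ : D) = ⟨i (gZ z'), hxD⟩ := Subtype.ext hx
    rw [h2] at this
    exact congrArg PrimeSpectrum.asIdeal this
  have hr2 : (hD'.primeIdealOf ⟨i' z', hx'D'⟩).asIdeal.comap (q'.appLE W' _ eW).hom =
      (hW'.primeIdealOf ⟨q' (i' z'), hs'W'⟩).asIdeal :=
    congrArg PrimeSpectrum.asIdeal (IsAffineOpen.comap_primeIdealOf_appLE W' hW' _ hD' eW hx'D')
  have hr3 : (hW'.primeIdealOf ⟨q' (i' z'), hs'W'⟩).asIdeal.comap (h.appLE W W' hW'le).hom =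
      (hW.primeIdealOf ⟨q (i (gZ z')), hsW⟩).asIdeal := by
    have := IsAffineOpen.comap_primeIdealOf_appLE W hW _ hW' hW'le hs'W'
    have h2 : (⟨h (q' (i' z')), hW'le hs'W'⟩ : W) = ⟨q (i (gZ z')), hsW⟩ := Subtype.ext hs
    rw [h2] at this
    exact congrArg PrimeSpectrum.asIdeal this
  have hft : (q.appLE W D hDle).hom.FiniteType :=
    HasRingHomProperty.appLE (P := @LocallyOfFiniteType) q inferInstance ⟨W, hW⟩ ⟨D, hD⟩ hDle
  have key := regGen_fibre_iff_of_isPushout hpo.flip hft (hD'.primeIdealOf ⟨i' z', hx'D'⟩).asIdeal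
    (P.presheaf.stalk (i (gZ z'))) (FibRing q (i (gZ z'))) (P.presheaf.germ D _ hxD).hom
    (by
      letI := (P.presheaf.germ D _ hxD).hom.toAlgebra
      exact isLocalization_atPrime_congr hr1.symm (hD.isLocalization_stalk ⟨i (gZ z'), hxD⟩))
    (Ideal.Quotient.mk _) Ideal.Quotient.mk_surjective
    (by rw [Ideal.mk_ker, hr2, hr3]; exact fibIdeal_eq q (i (gZ z')) hW hDle hxD)
    (P'.presheaf.stalk (i' z')) (FibRing q' (i' z')) (P'.presheaf.germ _ _ hx'D').hom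
    (hD'.isLocalization_stalk ⟨i' z', hx'D'⟩)
    (Ideal.Quotient.mk _) Ideal.Quotient.mk_surjective
    (by rw [Ideal.mk_ker, hr2]; exact fibIdeal_eq q' (i' z') hW' eW hx'D')
    (RingHom.ker (i.app D).hom)
  have e1 : (RingHom.ker (i.app D).hom).map ((Ideal.Quotient.mk
      ((maximalIdeal (S.presheaf.stalk (q (i (gZ z'))))).map (q.stalkMap (i (gZ z'))).hom)).comp
        (P.presheaf.germ D _ hxD).hom) =
      (RingHom.ker (i.stalkMap (gZ z')).hom).map (Ideal.Quotient.mk _) := by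
    rw [← Ideal.map_map]
    congr 1
    exact ker_stalkMap_eq_map i (gZ z') D hD hxD
  have e2 : ((RingHom.ker (i.app D).hom).map (gP.appLE D _ eD).hom).map ((Ideal.Quotient.mk
      ((maximalIdeal (S'.presheaf.stalk (q' (i' z')))).map (q'.stalkMap (i' z')).hom)).comp
        (P'.presheaf.germ _ _ hx'D').hom) =
      (RingHom.ker (i'.stalkMap z').hom).map (Ideal.Quotient.mk _) := by
    rw [← hker', ← Ideal.map_map]
    congr 1
    exact ker_stalkMap_eq_map i' z' _ hD' hx'D'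
  rw [e1, e2] at key
  exact key.symm

end Groth.Agent.LibFibRegInv29
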