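import Mathlib
import Groth.Prelude.Def_RegImm
import Groth.Agent.LibFibRegInv29
import Groth.Agent.LibFibStalk29
import Groth.Agent.LibLCIBridge29
import Groth.Agent.LibKoszulAtComp29
import Groth.Agent.LibMor2RegImm29
import Groth.Agent.LibRegImmBasic29
import Groth.Agent.LibRelH1Reg29
import Groth.Agent.LibSecRegApp29
import Groth.Agent.LibRegImmSmoothDesc29
import Groth.Agent.Lib.Helper7.KoszulLow

/-!
# The Koszul locus of a morphism of flat, locally finitely presented `S`-schemes, via the fibres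
(helper29)

`f : X ⟶ Y` over `S`, with `X`, `Y` flat and locally of finite presentation over `S`.
A *chart* of `f` is an open `U` of `X`, a closed immersion `i : U ⟶ P` and a smooth `π : P ⟶ Y`
with `i ≫ π = U.ι ≫ f`.

* `isKoszulAt_of_regAt`: a closed immersion which is regular near a point is Koszul at this point.
* `isRegularImmersionAt_koszul_of_isKoszulAt`: pointwise form of S8656.
* `isKoszulAt_iff_fibReg`: on a chart, `f` is Koszul at `x` iff the ideal of `U` in `P` induces in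
  the local ring of the fibre of `P ⟶ S` an ideal generated by a regular sequence.
* `exists_chart`: charts exist around any point if `f` is locally of finite type.
* `isKoszulAt_baseChange_iff`: the Koszul locus commutes with any base change `S' ⟶ S`.
-/

set_option autoImplicit false
set_option linter.style.haveILetI false
universe u
open CategoryTheory CategoryTheory.Limits AlgebraicGeometry IsLocalRing RingTheory.Sequence

namespace Groth.Agent.LibKoszulFib29

open Groth.Agent.LibFibStalk29 Groth.Agent.Lib.helper17.RegNear Groth.Agent.Lib.helper17.FibreStalk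
  Groth.Agent.LibFibRegInv29

/-- a closed immersion which is regular near a point is Koszul at this point. -/
theorem isKoszulAt_of_regAt {Z X : Scheme.{u}} (i : Z ⟶ X) [IsClosedImmersion i] (z : Z)
    (h : RegAt i z) : Synt.IsKoszulAt i z := by
  obtain ⟨V, hzV, hV⟩ := (regNear_iff_regAt i z).mpr h
  have h1 : RegImm.IsRegularImmersion .koszul (i ∣_ V) :=
    Groth.Agent.LibRegImmBasic29.isRegularImmersion_koszul_of_regular _
      (Groth.Agent.LibMor2RegImm29.regImm_of_mor2 _ hV)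
  have h2 : Synt.IsKoszulAt (i ∣_ V) ⟨z, hzV⟩ :=
    Groth.Agent.LibRegImmBasic29.isKoszulAt_of_isRegularImmersion_koszul _ h1 _
  have h3 : Synt.IsKoszulAt ((i ∣_ V) ≫ V.ι) ⟨z, hzV⟩ :=
    Groth.Agent.LibKoszulAtComp29.isKoszulAt_comp _ _ _ h2
      (Groth.Agent.LibKoszulAtComp29.isKoszulAt_of_smooth _ _)
  rw [morphismRestrict_ι] at h3
  exact Groth.Agent.LibLCIBridge29.isKoszulAt_of_openImmersion_comp (i ⁻¹ᵁ V).ι i ⟨z, hzV⟩ h3

/-- pointwise form of S8656. -/
theorem isRegularImmersionAt_koszul_of_isKoszulAt {X Y Z : Scheme.{u}} (f : X ⟶ Y) (x : X)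
    (hf : Synt.IsKoszulAt f x) (p : Z ⟶ Y) [Smooth p] (i : X ⟶ Z) [IsImmersion i]
    (h : i ≫ p = f) : RegImm.IsRegularImmersionAt .koszul i x := by
  obtain ⟨U, P, j, π, hxU, -, hj, hπ, hjπ⟩ := hf
  haveI : Smooth π := hπ
  have w : j ≫ π = (U.ι ≫ i) ≫ p := by rw [Category.assoc, h, hjπ]
  have hl := Groth.Agent.LibSecRegApp29.isRegularImmersion_koszul_lift j π p (U.ι ≫ i) w hj
  have hU : RegImm.IsRegularImmersion .koszul (U.ι ≫ i) :=
    Groth.Agent.LibRegImmSmoothDesc29.isRegularImmersion_koszul_of_comp_smooth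
      (pullback.lift j (U.ι ≫ i) w) (pullback.snd π p) (U.ι ≫ i) (pullback.lift_snd _ _ _) hl
  exact Groth.Agent.LibRegImmSmoothDesc29.isRegularImmersionAt_koszul_of_restrict_source i U x hxU
    (hU.2 ⟨x, hxU⟩)

theorem isRegularImmersionAt_h1_of_koszul {Z X : Scheme.{u}} (i : Z ⟶ X) (z : Z)
    (h : RegImm.IsRegularImmersionAt .koszul i z) : RegImm.IsRegularImmersionAt .h1 i z := by
  obtain ⟨U, hzU, hcl, rs, hrs, hker⟩ := h
  exact ⟨U, hzU, hcl, rs,
    Groth.Agent.Lib.helper7.KoszulLow.isH1Regular_of_isKoszulRegularSeq _ rs hrs, hker⟩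

section Chart

variable {X Y S P : Scheme.{u}} (f : X ⟶ Y) (g : Y ⟶ S)
  [Flat (f ≫ g)] [LocallyOfFinitePresentation (f ≫ g)] [Flat g] [LocallyOfFinitePresentation g]
  (U : X.Opens) (i : (U : Scheme.{u}) ⟶ P) (π : P ⟶ Y) [IsClosedImmersion i] [Smooth π]

include g in
/-- on a chart, `f` is Koszul at `x` iff the ideal of `U` in `P` induces in the local ring of the
fibre of `P ⟶ S` an ideal generated by a regular sequence. -/
theorem isKoszulAt_iff_fibReg (hfac : i ≫ π = U.ι ≫ f) (x : (U : Scheme.{u})) :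
    Synt.IsKoszulAt f (U.ι x) ↔ FibReg i (π ≫ g) x := by
  have hcomp : i ≫ π ≫ g = U.ι ≫ f ≫ g := by rw [← Category.assoc, hfac, Category.assoc]
  haveI : Flat (i ≫ π ≫ g) := by rw [hcomp]; infer_instance
  haveI : LocallyOfFinitePresentation (i ≫ π ≫ g) := by rw [hcomp]; infer_instance
  have hY : ((i ≫ π ≫ g).stalkMap x).hom.Flat := Flat.stalkMap (i ≫ π ≫ g) x
  have hX : ((π ≫ g).stalkMap (i x)).hom.Flat := Flat.stalkMap (π ≫ g) (i x)
  constructor
  · intro h
    have h1 : Synt.IsKoszulAt (U.ι ≫ f) x :=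
      Groth.Agent.LibKoszulAtComp29.isKoszulAt_comp U.ι f x
        (Groth.Agent.LibKoszulAtComp29.isKoszulAt_of_smooth _ _) h
    have h2 : RegImm.IsRegularImmersionAt .koszul i x :=
      isRegularImmersionAt_koszul_of_isKoszulAt (U.ι ≫ f) x h1 π i hfac
    have h3 := isRegularImmersionAt_h1_of_koszul i x h2
    obtain ⟨_, ⟨V0, hV0, rfl⟩, hzV0, -⟩ :=
      S.isBasis_affineOpens.exists_subset_of_mem_open (Set.mem_univ ((π ≫ g) (i x))) isOpen_univ
    obtain ⟨D, e, hzD, hcl, rs, -, hreg', hker⟩ :=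
      Groth.Agent.LibRelH1Reg29.transRegular_at_of_relH1_at (π ≫ g) i x h3 ⟨V0, hV0⟩ hzV0
    have h4 : RegAt i x := by
      refine ⟨D.1, D.2, hzD, rs, hreg', ?_⟩
      rw [← hker, Scheme.Hom.ker_apply]
    exact fibReg_of_regAt i (π ≫ g) x hY h4
  · intro h
    have h1 : RegAt i x := regAt_of_fibReg i (π ≫ g) x hX hY h
    have h2 : Synt.IsKoszulAt i x := isKoszulAt_of_regAt i x h1
    have h3 : Synt.IsKoszulAt (i ≫ π) x :=
      Groth.Agent.LibKoszulAtComp29.isKoszulAt_comp i π x h2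
        (Groth.Agent.LibKoszulAtComp29.isKoszulAt_of_smooth _ _)
    rw [hfac] at h3
    exact Groth.Agent.LibLCIBridge29.isKoszulAt_of_openImmersion_comp U.ι f x h3

end Chart


/-- charts exist around any point. -/
theorem exists_chart {X Y : Scheme.{u}} (f : X ⟶ Y) [LocallyOfFiniteType f] (x : X) :
    ∃ (U : X.Opens) (P : Scheme.{u}) (i : (U : Scheme.{u}) ⟶ P) (π : P ⟶ Y), x ∈ U ∧
      IsClosedImmersion i ∧ Smooth π ∧ i ≫ π = U.ι ≫ f := by
  obtain ⟨V, hV, hfxV, -⟩ := exists_isAffineOpen_mem_and_subset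
    (show f x ∈ (⊤ : Y.Opens) from trivial)
  obtain ⟨U, hU, hxU, hUle0⟩ := exists_isAffineOpen_mem_and_subset
    (show x ∈ f ⁻¹ᵁ V from hfxV)
  have e : U ≤ f ⁻¹ᵁ V := hUle0
  have hft : (f.appLE V U e).hom.FiniteType :=
    HasRingHomProperty.appLE (P := @LocallyOfFiniteType) f inferInstance ⟨V, hV⟩ ⟨U, hU⟩ e
  letI alg : Algebra Γ(Y, V) Γ(X, U) := (f.appLE V U e).hom.toAlgebra
  haveI hft' : Algebra.FiniteType Γ(Y, V) Γ(X, U) := hft
  obtain ⟨n, α, hα⟩ := Algebra.FiniteType.iff_quotient_mvPolynomial''.1 hft'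
  haveI hcl : IsClosedImmersion (Spec.map (CommRingCat.ofHom α.toRingHom)) :=
    IsClosedImmersion.spec_of_surjective _ hα
  haveI hsm := Groth.Agent.LibLCIBridge29.smooth_specMap_C Γ(Y, V) n
  refine ⟨U, Spec (CommRingCat.of (MvPolynomial (Fin n) Γ(Y, V))),
    hU.isoSpec.hom ≫ Spec.map (CommRingCat.ofHom α.toRingHom),
    Spec.map (CommRingCat.ofHom (MvPolynomial.C : Γ(Y, V) →+* MvPolynomial (Fin n) Γ(Y, V))) ≫
      hV.fromSpec, hxU, inferInstance, inferInstance, ?_⟩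
  have h1 := Groth.Agent.LibLCIBridge29.specMap_fac Γ(Y, V) Γ(X, U) n α
  have h2 := IsAffineOpen.SpecMap_appLE_fromSpec f hV hU e
  have h3 : Spec.map (CommRingCat.ofHom (algebraMap Γ(Y, V) Γ(X, U))) =
      Spec.map (f.appLE V U e) := rfl
  rw [Category.assoc, ← Category.assoc (Spec.map (CommRingCat.ofHom α.toRingHom)), h1, h3, h2,
    IsAffineOpen.isoSpec_hom_fromSpec_assoc]


/-- the locus where `f` is Koszul is open. -/
theorem isOpen_setOf_isKoszulAt {X Y : Scheme.{u}} (f : X ⟶ Y) :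
    IsOpen {x : X | Synt.IsKoszulAt f x} := by
  rw [isOpen_iff_forall_mem_open]
  intro x hx
  obtain ⟨U, P, i, π, hxU, hlft, hi, hπ, hfac⟩ := hx
  exact ⟨U, fun x₁ hx₁ => ⟨U, P, i, π, hx₁, hlft, hi, hπ, hfac⟩, U.isOpen, hxU⟩

/-- the locus of the affine-local definition is the locus where `f` is Koszul. -/
theorem lciLocus_eq {X Y : Scheme.{u}} (f : X ⟶ Y) :
    {x : ↑X | (∃ (U : X.Opens) (V : Y.Opens) (hU : IsAffineOpen U) (hV : IsAffineOpen V)
        (hUV : U ≤ f ⁻¹ᵁ V), x ∈ U ∧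
          letI := (f.appLE V U hUV).hom.toAlgebra
          LCI.IsLCI Γ(Y, V) Γ(X, U))} = {x : X | Synt.IsKoszulAt f x} := by
  ext x
  constructor
  · rintro ⟨U, V, hU, hV, hUV, hxU, h⟩
    exact Groth.Agent.LibLCIBridge29.isKoszulAt_of_isLCI_appLE f U V hU hV hUV h x hxU
  · intro hx
    obtain ⟨V, hV, hfxV, -⟩ := exists_isAffineOpen_mem_and_subset
      (show f x ∈ (⊤ : Y.Opens) from trivial)
    have hopen := isOpen_setOf_isKoszulAt f
    obtain ⟨U, hU, hxU, hUle0⟩ := exists_isAffineOpen_mem_and_subset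
      (show x ∈ (f ⁻¹ᵁ V ⊓ ⟨_, hopen⟩ : X.Opens) from ⟨hfxV, hx⟩)
    have e : U ≤ f ⁻¹ᵁ V := fun a ha => (hUle0 ha).1
    exact ⟨U, V, hU, hV, e, hxU,
      Groth.Agent.LibLCIBridge29.isLCI_appLE_of_isKoszulAt f U V hU hV e
        (fun a ha => (hUle0 ha).2)⟩

/-- **the Koszul locus commutes with base change** (`X`, `Y` flat and locally of finite presentation
over `S`). -/
theorem isKoszulAt_baseChange_iff {X Y S X' Y' S' : Scheme.{u}} (f : X ⟶ Y) (g : Y ⟶ S)
    [Flat (f ≫ g)] [LocallyOfFinitePresentation (f ≫ g)] [Flat g] [LocallyOfFinitePresentation g]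
    (h : S' ⟶ S) (gY : Y' ⟶ Y) (g' : Y' ⟶ S') (hY : IsPullback gY g' g h)
    (gX : X' ⟶ X) (f' : X' ⟶ Y') (hX : IsPullback gX (f' ≫ g') (f ≫ g) h)
    (w : gX ≫ f = f' ≫ gY) (x' : X') :
    Synt.IsKoszulAt f' x' ↔ Synt.IsKoszulAt f (gX x') := by
  haveI : LocallyOfFiniteType f := locallyOfFiniteType_of_comp f g
  obtain ⟨U, P, i, π, hxU, hcl, hsm, hfac⟩ := exists_chart f (gX x')
  haveI := hcl
  haveI := hsm
  haveI : Flat g' := MorphismProperty.of_isPullback (P := @Flat) hY inferInstance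
  haveI : LocallyOfFinitePresentation g' :=
    MorphismProperty.of_isPullback (P := @LocallyOfFinitePresentation) hY inferInstance
  haveI : Flat (f' ≫ g') := MorphismProperty.of_isPullback (P := @Flat) hX inferInstance
  haveI : LocallyOfFinitePresentation (f' ≫ g') :=
    MorphismProperty.of_isPullback (P := @LocallyOfFinitePresentation) hX inferInstance
  have hXY : IsPullback gX f' f gY := IsPullback.of_bot hX w hY
  have HP : IsPullback (pullback.fst π gY) (pullback.snd π gY) π gY :=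
    IsPullback.of_hasPullback π gY
  have HU : IsPullback (gX ∣_ U) (gX ⁻¹ᵁ U).ι U.ι gX := isPullback_morphismRestrict gX U
  have HU2 : IsPullback (gX ∣_ U) ((gX ⁻¹ᵁ U).ι ≫ f') (U.ι ≫ f) gY := HU.paste_vert hXY
  have wi : ((gX ∣_ U) ≫ i) ≫ π = ((gX ⁻¹ᵁ U).ι ≫ f') ≫ gY := by
    rw [Category.assoc, hfac, HU2.w]
  have hi'1 : pullback.lift ((gX ∣_ U) ≫ i) ((gX ⁻¹ᵁ U).ι ≫ f') wi ≫ pullback.fst π gY =
      (gX ∣_ U) ≫ i := pullback.lift_fst _ _ _
  have hi'2 : pullback.lift ((gX ∣_ U) ≫ i) ((gX ⁻¹ᵁ U).ι ≫ f') wi ≫ pullback.snd π gY =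
      (gX ⁻¹ᵁ U).ι ≫ f' := pullback.lift_snd _ _ _
  have HI : IsPullback (gX ∣_ U) (pullback.lift ((gX ∣_ U) ≫ i) ((gX ⁻¹ᵁ U).ι ≫ f') wi) i
      (pullback.fst π gY) := by
    refine IsPullback.of_bot ?_ hi'1.symm HP
    rw [hi'2, hfac]
    exact HU2
  haveI : IsClosedImmersion (pullback.lift ((gX ∣_ U) ≫ i) ((gX ⁻¹ᵁ U).ι ≫ f') wi) :=
    MorphismProperty.of_isPullback (P := @IsClosedImmersion) HI inferInstance
  have HPS : IsPullback (pullback.fst π gY) (pullback.snd π gY ≫ g') (π ≫ g) h :=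
    HP.paste_vert hY
  have hx'U' : x' ∈ gX ⁻¹ᵁ U := hxU
  have k1 := isKoszulAt_iff_fibReg f' g' (gX ⁻¹ᵁ U)
    (pullback.lift ((gX ∣_ U) ≫ i) ((gX ⁻¹ᵁ U).ι ≫ f') wi) (pullback.snd π gY) hi'2 ⟨x', hx'U'⟩
  have k2 := isKoszulAt_iff_fibReg f g U i π hfac ((gX ∣_ U) ⟨x', hx'U'⟩)
  have k3 := fibReg_baseChange_iff (π ≫ g) (pullback.snd π gY ≫ g') h (pullback.fst π gY) HPS i
    (pullback.lift ((gX ∣_ U) ≫ i) ((gX ⁻¹ᵁ U).ι ≫ f') wi) (gX ∣_ U) HI ⟨x', hx'U'⟩
  have e1 : U.ι ((gX ∣_ U) ⟨x', hx'U'⟩) = gX x' := by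
    rw [← Scheme.Hom.comp_apply, morphismRestrict_ι, Scheme.Hom.comp_apply]
    rfl
  rw [e1] at k2
  exact k1.trans (k3.trans k2.symm)

end Groth.Agent.LibKoszulFib29
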