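import Mathlib
import Groth.Prelude.Def_AlgSpMor6
import Groth.Agent.Lib.Helper5.AlgSpNearLocus
import Groth.Agent.Lib.Helper5.AlgSpOpenSub
import Groth.Agent.Lib.Helper17.ChartBC
import Groth.Agent.LibAlgSpLci29
import Groth.Agent.LibKoszulFib29
import Groth.Agent.S9729
import Groth.Agent.S9730
import Groth.Agent.S9758

/-!
# The Koszul locus of a morphism of algebraic spaces (helper29)

* `etLocal_lci`: `AlgSp.lci` is étale local on the source and on the target (helper5's `EtLocal`).
* `nearAt_lci_iff`: `lci` on an open neighbourhood of `u` iff Koszul at `u`.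
* `locPNear_iff_hasAtMor`: `AlgSp.LocPNear P f x` iff `f` has `P` near `x` in some chart.
-/

set_option autoImplicit false
set_option linter.style.haveILetI false
universe u
open CategoryTheory CategoryTheory.Limits AlgebraicGeometry
open AlgSp

namespace Groth.Agent.LibAlgSpLciLocus29

open Groth.Agent.Lib.helper5.NearLocus Groth.Agent.LibAlgSpLci29

theorem etLocal_lci : EtLocal (AlgSp.lci : MorphismProperty Scheme.{u}) where
  pre := by
    intro W U V g _ h hh
    exact lci_comp g h (lci_of_smooth g) hh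
  desc := by
    intro W U V g _ _ h hh
    have hsyn : Synt.IsSyntomicMor g :=
      (Groth.Agent.S9758.result g).mp ⟨inferInstance, fun x =>
        Groth.Agent.LibKoszulAtComp29.isKoszulAt_of_smooth g x⟩
    exact (Groth.Agent.S9730.result g hsyn h).mp hh
  post := by
    intro W T V m k _
    constructor
    · intro hh x
      exact Groth.Agent.S9729.result m k hh x
    · intro hm
      exact lci_comp m k hm (lci_of_smooth k)
  src := by
    apply IsZariskiLocalAtSource.mk'
    · intro X Y f U hf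
      exact lci_comp U.ι f (lci_of_smooth U.ι) hf
    · intro X Y f ι U hU h
      exact lci_of_iSup_eq_top f U hU h

theorem nearAt_lci_iff {U V : Scheme.{u}} (h : U ⟶ V) (u : U) :
    NearAt AlgSp.lci U V h u ↔ Synt.IsKoszulAt h u := by
  constructor
  · rintro ⟨W, huW, hW⟩
    exact Groth.Agent.LibLCIBridge29.isKoszulAt_of_openImmersion_comp W.ι h ⟨u, huW⟩ (hW ⟨u, huW⟩)
  · intro hu
    refine ⟨⟨_, Groth.Agent.LibKoszulFib29.isOpen_setOf_isKoszulAt h⟩, hu, ?_⟩
    intro w
    exact Groth.Agent.LibKoszulAtComp29.isKoszulAt_comp _ h w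
      (Groth.Agent.LibKoszulAtComp29.isKoszulAt_of_smooth _ _) w.2

variable {S : Scheme.{u}}

/-- `P` on an open subspace through `x` iff `P` near `x` in some chart. -/
theorem locPNear_iff_hasAtMor {P : MorphismProperty Scheme.{u}} (hP : EtLocal P) {X Y : Space S}
    (f : X ⟶ Y) (x : Points X.obj) :
    LocPNear P f.hom x ↔ HasAtMor (NearAt P) f.hom x := by
  constructor
  · rintro ⟨W, j, hj, ⟨x₀, rfl⟩, hjf⟩
    obtain ⟨U, V, a, b, h, u, hae, hbe, hc, hu⟩ :=
      Groth.Agent.Lib.helper5.LocPFam.exists_chart_at_point X.property Y.property f.hom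
        (Points.map j x₀)
    obtain ⟨U₀, ι₀, a₀, sq⟩ := hj.1 a
    haveI hι : IsOpenImmersion ι₀.left := hj.2 a a₀ ι₀ sq
    have ha₀e : RepWith @Etale a₀ := (RepWith (S := S) @Etale).of_isPullback sq.flip hae
    obtain ⟨u₀, hu₀1, hu₀2⟩ := Groth.Agent.Lib.helper11.exists_of_isPullback_scheme sq x₀ u hu.symm
    have hc₀ : a₀ ≫ (j ≫ f.hom) = (yon S).map (ι₀ ≫ h) ≫ b := by
      rw [← Category.assoc, sq.w, Category.assoc, hc, Functor.map_comp, Category.assoc]
    have h1 : P (ι₀ ≫ h).left := hjf a₀ b (ι₀ ≫ h) ha₀e hbe hc₀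
    refine ⟨U, V, a, b, h, u, hae, hbe, hc, hu, ?_⟩
    rw [← hu₀2, ← nearAt_comp_etale_left hP ι₀.left h.left u₀]
    exact ⟨⊤, trivial, hP.pre _ _ h1⟩
  · intro hx
    obtain ⟨X', j, hj, hr, -⟩ := Groth.Agent.Lib.helper5.OpenSub.exists_openSub X _
      (isOpen_nearLocus P f.hom)
    refine ⟨X'.obj, j.hom, hj, ?_, ?_⟩
    · rw [hr]
      exact hx
    · refine locP_comp_openImm hP j.hom hj f.hom fun x₀ => ?_
      have : Points.map j.hom x₀ ∈ Set.range (Points.map j.hom) := ⟨x₀, rfl⟩
      rw [hr] at this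
      exact this


/-- charts of a base change square over given charts of the base: for `X' = X ×_Y Y'`, étale charts
`b : h_V ⟶ Y`, `b' : h_{V'} ⟶ Y'` with `k : V' ⟶ V` over `g`, a point `x'` of `X'` and a point `v'`
of `V'` over `f' x'`, there are an étale chart `a : h_U ⟶ X` with `h : U ⟶ V` over `f`, and an
étale chart `a' : h_{U ×_V V'} ⟶ X'` with a point `u'` over `x'`. -/
theorem exists_bc_charts_over {X Y Y' X' : Sp S} (hX : IsAlgSpace X) (hY : IsAlgSpace Y)
    {f : X ⟶ Y} {g : Y' ⟶ Y} {g' : X' ⟶ X} {f' : X' ⟶ Y'}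
    (sq : IsPullback g' f' f g) {V V' : Over S} (b : (yon S).obj V ⟶ Y)
    (b' : (yon S).obj V' ⟶ Y') (k : V' ⟶ V) (hbe : RepWith @Etale b) (hb'e : RepWith @Etale b')
    (hβg : b' ≫ g = (yon S).map k ≫ b)
    (x' : Points X') (v' : ↥V'.left) (hv' : Points.ofPt b' v' = Points.map f' x') :
    ∃ (U : Over S) (a : (yon S).obj U ⟶ X) (h : U ⟶ V)
      (a' : (yon S).obj (pullback h k) ⟶ X') (u' : ↥(pullback h k).left),
      RepWith @Etale a ∧ RepWith @Etale a' ∧ a ≫ f = (yon S).map h ≫ b ∧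
      a' ≫ f' = (yon S).map (pullback.snd h k) ≫ b' ∧
      a' ≫ g' = (yon S).map (pullback.fst h k) ≫ a ∧ Points.ofPt a' u' = x' := by
  -- `X_V = X ×_Y V`
  have sqF : IsPullback (pullback.fst f b) (pullback.snd f b) f b := IsPullback.of_hasPullback _ _
  have hFV : IsAlgSpace (pullback f b) :=
    Groth.Agent.Lib.helper5.isAlgSpace_of_isPullback hY.diag hX (IsAlgSpace.yon_obj V) sqF
  obtain ⟨U, q, hqe, hqs⟩ := hFV.atlas
  obtain ⟨h, hh⟩ := (yon S).map_surjective (q ≫ pullback.snd f b)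
  have hfe : RepWith @Etale (pullback.fst f b) :=
    (RepWith (S := S) @Etale).of_isPullback sqF.flip hbe
  have hae : RepWith @Etale (q ≫ pullback.fst f b) :=
    (RepWith (S := S) @Etale).comp_mem _ _ hqe hfe
  have haf : (q ≫ pullback.fst f b) ≫ f = (yon S).map h ≫ b := by
    rw [Category.assoc, sqF.w, hh, Category.assoc]
  -- `E₁ = X' ×_{Y'} V'`
  have sqE1 : IsPullback (pullback.fst f' b') (pullback.snd f' b') f' b' :=
    IsPullback.of_hasPullback _ _
  have he1e : RepWith @Etale (pullback.fst f' b') :=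
    (RepWith (S := S) @Etale).of_isPullback sqE1.flip hb'e
  have big1 := sqE1.paste_horiz sq
  rw [hβg] at big1
  have hl1 : (pullback.fst f' b' ≫ g') ≫ f = (pullback.snd f' b' ≫ (yon S).map k) ≫ b := by
    rw [big1.w, Category.assoc]
  have sqE1' : IsPullback (sqF.lift _ _ hl1) (pullback.snd f' b') (pullback.snd f b)
      ((yon S).map k) := by
    refine IsPullback.of_right ?_ (sqF.lift_snd _ _ _) sqF
    rw [sqF.lift_fst]
    exact big1
  -- `U' = U ×_V V'`
  have sqU0 := IsPullback.of_hasPullback h k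
  have sqU := sqU0.map (yon S)
  have hc1 : ((yon S).map (pullback.fst h k) ≫ q) ≫ pullback.snd f b =
      (yon S).map (pullback.snd h k) ≫ (yon S).map k := by
    rw [Category.assoc, ← hh]
    exact sqU.w
  have sqC1 : IsPullback ((yon S).map (pullback.fst h k)) (sqE1'.lift _ _ hc1) q
      (sqF.lift _ _ hl1) := by
    refine IsPullback.of_bot ?_ (sqE1'.lift_fst _ _ _).symm sqE1'
    rw [sqE1'.lift_snd, ← hh]
    exact sqU
  have hc1e : RepWith @Etale (sqE1'.lift _ _ hc1) :=
    (RepWith (S := S) @Etale).of_isPullback sqC1 hqe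
  have hc1s : RepWith @Surjective (sqE1'.lift _ _ hc1) :=
    (RepWith (S := S) @Surjective).of_isPullback sqC1 hqs
  have hce : RepWith @Etale (sqE1'.lift _ _ hc1 ≫ pullback.fst f' b') :=
    (RepWith (S := S) @Etale).comp_mem _ _ hc1e he1e
  -- the point
  have hxv : Points.map f' x' = Points.map b' (Points.ofScheme V' v') := by
    rw [← Points.ofPt_eq_map_ofScheme, hv']
  obtain ⟨e₁, he₁1, -⟩ := Groth.Agent.Lib.helper10.exists_point_of_isPullback sqE1 x'
    (Points.ofScheme V' v') hxv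
  obtain ⟨u', hu'⟩ := Groth.Agent.Lib.helper11.surjective_ofPt _ hc1s e₁
  refine ⟨U, q ≫ pullback.fst f b, h, sqE1'.lift _ _ hc1 ≫ pullback.fst f' b', u', hae, hce, haf,
    ?_, ?_, ?_⟩
  · rw [Category.assoc, sqE1.w, ← Category.assoc, sqE1'.lift_snd]
  · have e1 : sqF.lift _ _ hl1 ≫ pullback.fst f b = pullback.fst f' b' ≫ g' :=
      sqF.lift_fst _ _ hl1
    have e2 := sqC1.w
    rw [Category.assoc]
    calc _ = sqE1'.lift _ _ hc1 ≫ (sqF.lift _ _ hl1 ≫ pullback.fst f b) :=
          congrArg (sqE1'.lift _ _ hc1 ≫ ·) e1.symm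
      _ = (sqE1'.lift _ _ hc1 ≫ sqF.lift _ _ hl1) ≫ pullback.fst f b :=
          (Category.assoc _ _ _).symm
      _ = ((yon S).map (pullback.fst h k) ≫ q) ≫ pullback.fst f b :=
          congrArg (· ≫ pullback.fst f b) e2.symm
      _ = _ := Category.assoc _ _ _
  · rw [← Points.map_ofPt, hu', he₁1]


/-- **the Koszul locus of a morphism of algebraic spaces flat and locally of finite presentation over
a base commutes with any base change** (chart form). -/
theorem hasAtMor_lci_baseChange_iff {X Y Z Z' Y' X' : Space S} (f : X ⟶ Y) (p : X ⟶ Z) (q : Y ⟶ Z)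
    (hc : f ≫ q = p)
    (hp1 : LocP @Flat p.hom) (hp2 : LocP @LocallyOfFinitePresentation p.hom)
    (hq1 : LocP @Flat q.hom) (hq2 : LocP @LocallyOfFinitePresentation q.hom)
    (g : Z' ⟶ Z) (gY : Y' ⟶ Y) (q' : Y' ⟶ Z') (hY : IsPullback gY.hom q'.hom q.hom g.hom)
    (gX : X' ⟶ X) (f' : X' ⟶ Y') (hX : IsPullback gX.hom f'.hom f.hom gY.hom)
    (x' : Points X'.obj) :
    HasAtMor (NearAt AlgSp.lci) f'.hom x' ↔
      HasAtMor (NearAt AlgSp.lci) f.hom (Points.map gX.hom x') := by
  obtain ⟨V, W, V', W', b, c, b', c', qV, qV', pV, kW, v', hbe, hce, hb'e, hc'e, hbq, hb'q', hb'gY,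
    hc'g, sqVW, hv', -⟩ :=
    Groth.Agent.Lib.helper17.ChartBC.exists_bc_charts Y.property Z.property Z'.property hY
      (Points.map f'.hom x')
  obtain ⟨U, a, h, a', u', hae, ha'e, haf, ha'f', ha'gX, hu'⟩ :=
    exists_bc_charts_over X.property Y.property hX b b' pV hbe hb'e hb'gY x' v' hv'
  have sqU : IsPullback (pullback.fst h pV).left (pullback.snd h pV).left h.left pV.left :=
    (IsPullback.of_hasPullback h pV).map (Over.forget S)
  have sqV : IsPullback pV.left qV'.left qV.left kW.left := sqVW.map (Over.forget S)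
  have hap : a ≫ p.hom = (yon S).map (h ≫ qV) ≫ c := by
    rw [← hc]
    change a ≫ f.hom ≫ q.hom = _
    rw [← Category.assoc, haf, Category.assoc, hbq, Functor.map_comp, Category.assoc]
  haveI : Flat (h.left ≫ qV.left) := hp1 a c (h ≫ qV) hae hce hap
  haveI : LocallyOfFinitePresentation (h.left ≫ qV.left) := hp2 a c (h ≫ qV) hae hce hap
  haveI : Flat qV.left := hq1 b c qV hbe hce hbq
  haveI : LocallyOfFinitePresentation qV.left := hq2 b c qV hbe hce hbq
  have key := Groth.Agent.LibKoszulFib29.isKoszulAt_baseChange_iff h.left qV.left kW.left pV.left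
    qV'.left sqV (pullback.fst h pV).left (pullback.snd h pV).left (sqU.paste_vert sqV) sqU.w u'
  have hx : Points.map gX.hom x' = Points.ofPt a ((pullback.fst h pV).left u') := by
    rw [← hu', Points.map_ofPt, ha'gX, Groth.Agent.Lib.helper11.ofPt_yon_map_comp]
  constructor
  · intro hx'
    have := locPAt_nearAt_of_hasAtMor etLocal_lci f'.hom x' hx' a' b' (pullback.snd h pV) u' ha'e
      hb'e ha'f' hu'
    exact ⟨U, V, a, b, h, _, hae, hbe, haf, hx.symm,
      (nearAt_lci_iff _ _).mpr (key.1 ((nearAt_lci_iff _ _).mp this))⟩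
  · intro hxx
    have := locPAt_nearAt_of_hasAtMor etLocal_lci f.hom _ hxx a b h _ hae hbe haf hx.symm
    exact ⟨_, V', a', b', pullback.snd h pV, u', ha'e, hb'e, ha'f', hu',
      (nearAt_lci_iff _ _).mpr (key.2 ((nearAt_lci_iff _ _).mp this))⟩

end Groth.Agent.LibAlgSpLciLocus29
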