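import Mathlib
import Groth.Prelude.Def_AlgSpModX
import Groth.Prelude.Def_AlgSpSub
import Groth.Agent.LibAlgSpDense29
import Groth.Agent.Lib.Helper4.GlueClosedPoint
import Groth.Agent.Lib.Helper5.AlgSpProperSurj
import Groth.Agent.Lib.Helper10.AlgSpPoints

/-!
# Valuation rings through points of the scheme theoretic image (helper29)

* `exists_valuationSubring_of_specializes`: for `g : U ⟶ B`, `x' : U` and `v : B` with `g x' ⤳ v` there
  is a valuation subring `A` of `κ(x')` and `t : Spec A ⟶ B` sending the closed point to `v` and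
  restricting to `Spec κ(x') ⟶ U ⟶ B` on the generic point.
* `idealSheafData_eq_bot_of_factors`: a closed subscheme of the spectrum of a domain through which
  the generic point factors is everything.
* `exists_valuationRing_to_schImage` (= S9979).
-/

set_option autoImplicit false
set_option backward.isDefEq.respectTransparency false
universe u
open CategoryTheory CategoryTheory.Limits AlgebraicGeometry
open AlgSp

namespace Groth.Agent.LibAlgSpIdeal29

open Groth.Agent.LibAlgSpCartier29 Groth.Agent.Lib.helper11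

variable {S : Scheme.{u}}

open IsLocalRing in
set_option backward.isDefEq.respectTransparency.types false in
/-- A specialization `g x' ⤳ v` is realised by a valuation subring of the residue field of `x'`. -/
theorem exists_valuationSubring_of_specializes {U B : Scheme.{u}} (g : U ⟶ B) (x' : U) (v : B)
    (h : g x' ⤳ v) :
    ∃ (A : ValuationSubring (U.residueField x')) (t : Spec (.of A) ⟶ B),
      t (closedPoint A) = v ∧
      U.fromSpecResidueField x' ≫ g =
        Spec.map (CommRingCat.ofHom (algebraMap A (U.residueField x'))) ≫ t := by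
  let stalk_y_to_residue_x' : B.presheaf.stalk v ⟶ U.residueField x' :=
    B.presheaf.stalkSpecializes h ≫ g.stalkMap x' ≫ U.residue x'
  obtain ⟨A, hA, hA_local⟩ := exists_factor_valuationRing stalk_y_to_residue_x'.hom
  let stalk_y_to_A : B.presheaf.stalk v ⟶ .of A :=
    CommRingCat.ofHom (stalk_y_to_residue_x'.hom.codRestrict _ hA)
  have w : U.fromSpecResidueField x' ≫ g =
      Spec.map (CommRingCat.ofHom (algebraMap A (U.residueField x'))) ≫
        Spec.map stalk_y_to_A ≫ B.fromSpecStalk v := by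
    rw [Scheme.fromSpecResidueField, Category.assoc, ← Scheme.SpecMap_stalkMap_fromSpecStalk,
      ← Scheme.SpecMap_stalkSpecializes_fromSpecStalk h]
    simp_rw [← Spec.map_comp_assoc]
    rfl
  refine ⟨A, Spec.map stalk_y_to_A ≫ B.fromSpecStalk v, ?_, w⟩
  rw [Scheme.Hom.comp_apply]
  have : Spec.map stalk_y_to_A (closedPoint A) = closedPoint (B.presheaf.stalk v) :=
    comap_closedPoint (S := A) (stalk_y_to_residue_x'.hom.codRestrict A.toSubring hA)
  rw [this, B.fromSpecStalk_closedPoint]

/-- A closed subscheme of the spectrum of a ring `A` through which `Spec K ⟶ Spec A` factors, for an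
injective `A → K`, is everything. -/
theorem idealSheafData_eq_bot_of_factors {A K : CommRingCat.{u}} (ι : A ⟶ K)
    (hι : Function.Injective ι.hom) (J : (Spec A).IdealSheafData) (l : Spec K ⟶ J.subscheme)
    (hl : l ≫ J.subschemeι = Spec.map ι) : J = ⊥ := by
  rw [eq_bot_iff]
  have h1 : J ≤ (l ≫ J.subschemeι).ker := by
    conv_lhs => rw [← J.ker_subschemeι]
    exact Scheme.Hom.le_ker_comp l J.subschemeι
  rw [hl, Scheme.ker_of_isAffine] at h1
  have h2 : RingHom.ker (Spec.map ι).appTop.hom = ⊥ := by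
    rw [← RingHom.injective_iff_ker_eq_bot]
    have h3 := Scheme.ΓSpecIso_naturality ι
    have h4 : (Spec.map ι).appTop = (Scheme.ΓSpecIso A).hom ≫ ι ≫ (Scheme.ΓSpecIso K).inv := by
      rw [← Category.assoc, ← h3, Category.assoc, Iso.hom_inv_id, Category.comp_id]
    rw [h4]
    simp only [CommRingCat.hom_comp, RingHom.coe_comp]
    exact ((ConcreteCategory.bijective_of_isIso (Scheme.ΓSpecIso K).inv).1.comp hι).comp
      (ConcreteCategory.bijective_of_isIso (Scheme.ΓSpecIso A).hom).1
  rw [h2] at h1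
  refine h1.trans ?_
  rw [le_bot_iff, ← Scheme.IdealSheafData.equivOfIsAffine_symm_apply]
  exact map_bot _

open IsLocalRing in
/-- Every point of the scheme theoretic image of a quasi-compact morphism is reached by a valuation
ring whose generic point lifts to the source. -/
theorem exists_valuationRing_to_schImage {X Y Z : AlgSp.Space S} (f : X ⟶ Y) (i : Z ⟶ Y)
    (hq : IsQuasiCompactMor f.hom) (hZ : IsSchImage f.hom i.hom) (z : Points Z.obj) :
    ∃ (A : Type u) (_ : CommRing A) (_ : IsDomain A) (_ : ValuationRing A)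
      (str : Spec (CommRingCat.of A) ⟶ S)
      (a : (yon S).obj (Over.mk str) ⟶ Z.obj)
      (x : (yon S).obj (Over.mk
        (Spec.map (CommRingCat.ofHom (algebraMap A (FractionRing A))) ≫ str)) ⟶ X.obj),
      Points.ofPt a (IsLocalRing.closedPoint A) = z ∧
      x ≫ f.hom = (yon S).map (Over.homMk
        (Spec.map (CommRingCat.ofHom (algebraMap A (FractionRing A)))) rfl) ≫ a ≫ i.hom := by
  have hcut := (isSchImage_iff_isCutOutBy_kerIdeal f hq Z i).1 hZ
  have hsub := range_subset_closure_of_isCutOutBy f i hcut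
  obtain ⟨hi, ⟨f', hf'⟩, -⟩ := hZ
  obtain ⟨V, φ, hφe, hφs⟩ := Y.property.atlas
  obtain ⟨v₀, hv₀⟩ := surjective_ofPt φ hφs (Points.map i.hom z)
  obtain ⟨A₀, hA, hvA, -⟩ := TopologicalSpace.Opens.isBasis_iff_nbhd.mp
    V.left.isBasis_affineOpens (show v₀ ∈ (⊤ : V.left.Opens) from trivial)
  let A : V.left.affineOpens := ⟨A₀, hA⟩
  let T₀ : Over S := Over.mk (A.1.ι ≫ V.hom)
  let ψ : (yon S).obj T₀ ⟶ Y.obj := (yon S).map (Over.homMk (U := T₀) A.1.ι rfl) ≫ φ
  have hψe : RepWith @Etale ψ := (chartObj φ hφe A).property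
  haveI : IsAffine T₀.left := hA
  let v : T₀.left := ⟨v₀, hvA⟩
  have hv : Points.ofPt ψ v = Points.map i.hom z := by
    rw [← hv₀]
    show Points.ofPt ((yon S).map _ ≫ φ) v = _
    rw [ofPt_yon_map_comp]
    rfl
  -- the quasi-compact chart of the fibre product
  have sqX := IsPullback.of_hasPullback f.hom ψ
  obtain ⟨U, q, hqe, hqs, hU⟩ := hq (IsAlgSpace.yon_obj T₀)
    (Groth.Agent.Lib.helper7.AlgSpQC.isQuasiCompactSp_yon T₀) ψ (pullback.fst f.hom ψ)
    (pullback.snd f.hom ψ) sqX
  haveI : CompactSpace U.left := hU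
  obtain ⟨u, hu⟩ := (yon S).map_surjective (q ≫ pullback.snd f.hom ψ)
  haveI : QuasiCompact u.left := inferInstance
  have hvcl : v ∈ closure (Set.range u.left) := by
    have h1 : v ∈ Points.ofPt ψ ⁻¹' closure (Set.range (Points.map f.hom)) := by
      show Points.ofPt ψ v ∈ closure (Set.range (Points.map f.hom))
      rw [hv]
      exact hsub ⟨z, rfl⟩
    rw [(isOpenMap_ofPt ψ hψe).preimage_closure_eq_closure_preimage
      (Points.continuous_ofPt ψ)] at h1
    refine closure_mono ?_ h1
    rintro t ⟨x, hx⟩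
    have hx' : Points.map f.hom x = Points.map ψ (Points.ofScheme T₀ t) := by
      rw [hx, Points.ofPt_eq_map_ofScheme]
    obtain ⟨w, -, hw⟩ := Groth.Agent.Lib.helper10.exists_point_of_isPullback sqX x _ hx'
    obtain ⟨u', rfl⟩ := surjective_ofPt q hqs w
    rw [Points.map_ofPt, ← hu, ofPt_yon_map] at hw
    exact ⟨u', (Function.LeftInverse.injective (Points.toScheme_ofScheme T₀)) hw⟩
  obtain ⟨x', hx'⟩ :=
    Groth.Agent.Lib.Helper4.GlueClosedPoint.exists_specializes_of_mem_closure_range u.left v hvcl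
  obtain ⟨Av, t, htcp, hw⟩ := exists_valuationSubring_of_specializes u.left x' v hx'
  -- the valuation ring and its generic point
  let str : Spec (CommRingCat.of Av) ⟶ S := t ≫ T₀.hom
  let tO : Over.mk str ⟶ T₀ := Over.homMk t rfl
  let ψT : (yon S).obj (Over.mk str) ⟶ Y.obj := (yon S).map tO ≫ ψ
  let ιK : CommRingCat.of Av ⟶ CommRingCat.of (FractionRing Av) :=
    CommRingCat.ofHom (algebraMap Av (FractionRing Av))
  let gK : Over.mk (Spec.map ιK ≫ str) ⟶ Over.mk str := Over.homMk (Spec.map ιK) rfl
  let e : FractionRing Av ≃ₐ[Av] U.left.residueField x' := FractionRing.algEquiv Av _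
  let η : Spec (CommRingCat.of (FractionRing Av)) ⟶ U.left :=
    Spec.map (CommRingCat.ofHom e.symm.toRingHom) ≫ U.left.fromSpecResidueField x'
  have hη : η ≫ u.left = Spec.map ιK ≫ t := by
    show (Spec.map (CommRingCat.ofHom e.symm.toRingHom) ≫ U.left.fromSpecResidueField x') ≫ u.left
      = _
    rw [Category.assoc, hw, ← Category.assoc, ← Spec.map_comp]
    congr 2
    ext a
    exact e.symm.commutes a
  let ηO : Over.mk (Spec.map ιK ≫ str) ⟶ U := Over.homMk η (by
    show η ≫ U.hom = Spec.map ιK ≫ t ≫ T₀.hom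
    rw [← Over.w u, ← Category.assoc, hη, Category.assoc])
  have hηu : ηO ≫ u = gK ≫ tO := by
    apply Over.OverMorphism.ext
    exact hη
  let x : (yon S).obj (Over.mk (Spec.map ιK ≫ str)) ⟶ X.obj :=
    (yon S).map ηO ≫ q ≫ pullback.fst f.hom ψ
  have hxf : x ≫ f.hom = (yon S).map gK ≫ ψT := by
    have h1 : q ≫ pullback.fst f.hom ψ ≫ f.hom = (yon S).map u ≫ ψ := by
      rw [sqX.w, hu]
      exact (Category.assoc _ _ _).symm
    have h2 : (yon S).map ηO ≫ (yon S).map u = (yon S).map gK ≫ (yon S).map tO := by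
      rw [← Functor.map_comp, hηu, Functor.map_comp]
    calc x ≫ f.hom = (yon S).map ηO ≫ (q ≫ pullback.fst f.hom ψ ≫ f.hom) := by
          simp only [x, Category.assoc]
      _ = ((yon S).map ηO ≫ (yon S).map u) ≫ ψ := by
          rw [h1]
          exact (Category.assoc _ _ _).symm
      _ = (yon S).map gK ≫ ψT := by
          rw [h2]
          exact Category.assoc _ _ _
  -- the valuation ring maps to the scheme theoretic image
  obtain ⟨J, fstJ, sqJ⟩ := exists_ideal_chart hi ψT
  obtain ⟨l, hl⟩ := (yon S).map_surjective (sqJ.lift (x ≫ f') ((yon S).map gK)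
    (by rw [Category.assoc, hf', hxf]))
  have hl2 : l ≫ (Over.homMk J.subschemeι rfl : Over.mk (J.subschemeι ≫ str) ⟶ Over.mk str) = gK :=
    (yon S).map_injective (by rw [Functor.map_comp, hl, sqJ.lift_snd])
  have hl3 : l.left ≫ J.subschemeι = Spec.map ιK := by
    have := congrArg (fun z => z.left) hl2
    exact this
  have hJ : J = ⊥ := idealSheafData_eq_bot_of_factors ιK
    (IsFractionRing.injective Av (FractionRing Av)) J l.left hl3
  haveI : IsIso J.subschemeι := (Scheme.isIso_subschemeι_iff_eq_bot J).2 hJ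
  let eJ : Over.mk (J.subschemeι ≫ str) ≅ Over.mk str := Over.isoMk (asIso J.subschemeι) (by simp)
  have heJ : eJ.inv ≫ (Over.homMk J.subschemeι rfl :
      Over.mk (J.subschemeι ≫ str) ⟶ Over.mk str) = 𝟙 _ := by
    have : eJ.hom = Over.homMk J.subschemeι rfl := by
      apply Over.OverMorphism.ext
      rfl
    rw [← this, Iso.inv_hom_id]
  let a : (yon S).obj (Over.mk str) ⟶ Z.obj := (yon S).map eJ.inv ≫ fstJ
  have hai : a ≫ i.hom = ψT := by
    show ((yon S).map eJ.inv ≫ fstJ) ≫ i.hom = ψT
    rw [Category.assoc, sqJ.w, ← Category.assoc, ← Functor.map_comp, heJ,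
      CategoryTheory.Functor.map_id, Category.id_comp]
  refine ⟨Av, _, inferInstance, inferInstance, str, a, x, ?_, ?_⟩
  · apply Groth.Agent.Lib.helper5.ProperSurj.injective_map_of_closedImmersion hi
    rw [Points.map_ofPt, hai, ← hv]
    show Points.ofPt ((yon S).map tO ≫ ψ) _ = _
    rw [ofPt_yon_map_comp]
    congr 1
  · rw [hxf, hai]

end Groth.Agent.LibAlgSpIdeal29
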