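import Mathlib
import Groth.Prelude.Def_AlgSpModX
import Groth.Agent.LibAlgSpCartier29j
import Groth.Agent.Lib.Helper1.EtaleReducedScheme

/-!
# Weakly associated points of the structure sheaf of a reduced algebraic space (helper29)
-/

set_option autoImplicit false
universe u
open CategoryTheory CategoryTheory.Limits AlgebraicGeometry

namespace Groth.Agent.LibAlgSpWeakAss29

/-- In a reduced ring a prime minimal over the annihilator of an element is a minimal prime. -/
lemma mem_minimalPrimes_of_isReduced {R : Type*} [CommRing R] [IsReduced R] {s : R}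
    {K p : Ideal R} (hK : ∀ c, c ∈ K ↔ c * s = 0) (hp : p ∈ K.minimalPrimes) :
    p ∈ minimalPrimes R := by
  haveI hpp : p.IsPrime := hp.1.1
  have hs : s ∉ p := by
    intro hsp
    obtain ⟨y, hy, hsy⟩ := Ideal.exists_mul_mem_of_mem_minimalPrimes hp hsp
    apply hy
    rw [hK] at hsy ⊢
    have h2 : (y * s) ^ 2 = 0 := by
      have : (y * s) ^ 2 = y * (s * y * s) := by ring
      rw [this, hsy, mul_zero]
    exact IsReduced.eq_zero _ ⟨2, h2⟩
  refine ⟨⟨hpp, bot_le⟩, ?_⟩
  rintro q ⟨hq, -⟩ hqp
  refine hp.2 ⟨hq, ?_⟩ hqp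
  intro c hc
  have h0 : c * s ∈ q := by rw [(hK c).1 hc]; exact q.zero_mem
  exact (hq.mem_or_mem h0).resolve_right fun hsq => hs (hqp hsq)

/-- The prime of a point of an affine scheme, as `IsAffineOpen.primeIdealOf`. -/
lemma primeIdealOf_top_asIdeal (T : Scheme.{u}) [IsAffine T] (u : T) :
    ((isAffineOpen_top T).primeIdealOf ⟨u, trivial⟩).asIdeal = AlgSp.primeAtPt T u := by
  have h2 := (isAffineOpen_top T).primeIdealOf_eq_map_closedPoint ⟨u, trivial⟩
  exact congrArg PrimeSpectrum.asIdeal h2

/-- The dimension of the local ring of an affine scheme at a point is the height of its prime. -/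
lemma ringKrullDim_stalk_eq_height (T : Scheme.{u}) [IsAffine T] (u : T) :
    ringKrullDim (T.presheaf.stalk u) = (AlgSp.primeAtPt T u).height := by
  have hloc := (isAffineOpen_top T).isLocalization_stalk ⟨u, trivial⟩
  rw [← primeIdealOf_top_asIdeal]
  exact @IsLocalization.AtPrime.ringKrullDim_eq_height _ _
    ((isAffineOpen_top T).primeIdealOf ⟨u, trivial⟩).asIdeal _ (T.presheaf.stalk u) _
    (T.presheaf.algebra_section_stalk (U := ⊤) ⟨u, trivial⟩) hloc

open AlgSp in
/-- On a reduced algebraic space the weakly associated points of the structure sheaf are the points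
of codimension `0`. -/
theorem mem_weakAssEt_unit_iff {S : Scheme.{u}} {X : Sp S} (hX : IsReducedSp X) (x : Points X) :
    x ∈ WeakAssEt (unitModEt X) ↔
      HasAt (fun U u => ringKrullDim ↥(U.presheaf.stalk u) = 0) X x := by
  constructor
  · rintro ⟨E, hEa, u, rfl, s, hmin⟩
    refine ⟨E.obj.left, E.obj.hom, u, E.property, rfl, ?_⟩
    haveI : IsReduced E.obj.left.left :=
      Groth.Agent.H1.EtaleReduced.isReduced_of_chart hX E.obj.hom E.property
    haveI : _root_.IsReduced Γ(E.obj.left.left, ⊤) := inferInstance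
    show ringKrullDim (E.obj.left.left.presheaf.stalk u) = 0
    rw [ringKrullDim_stalk_eq_height]
    let s' : ULift.{u + 1} Γ(E.obj.left.left, ⊤) := s
    have hK : ∀ c, c ∈ annSect s ↔ c * s'.down = 0 := by
      intro c
      rw [mem_annSect_iff]
      change (ULift.up (c * s'.down) : ULift.{u + 1} Γ(E.obj.left.left, ⊤)) = 0 ↔ _
      exact ⟨fun h0 => congrArg ULift.down h0, fun h0 => congrArg ULift.up h0⟩
    have hm := mem_minimalPrimes_of_isReduced hK hmin
    rw [Ideal.height_eq_zero_iff.mpr hm]
    rfl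
  · rintro ⟨U, a, u, hae, rfl, hdim⟩
    obtain ⟨V₀, hV₀, huV₀, -⟩ :=
      exists_isAffineOpen_mem_and_subset (X := U.left) (x := u) (U := ⊤) trivial
    let T : Over S := Over.mk (V₀.ι ≫ U.hom)
    let j : T ⟶ U := Over.homMk V₀.ι rfl
    have hje : RepWith @Etale ((yon S).map j) :=
      (repWith_yon_map_iff _ _).2 (show Etale V₀.ι from inferInstance)
    have hE : RepWith @Etale ((yon S).map j ≫ a) :=
      (RepWith (S := S) @Etale).comp_mem _ _ hje hae
    let E : EtOver X := EtOver.mk ((yon S).map j ≫ a) hE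
    haveI : IsAffine E.obj.left.left := hV₀
    haveI : IsAffine (Scheme.Opens.toScheme V₀) := hV₀
    let u' : Scheme.Opens.toScheme V₀ := ⟨u, huV₀⟩
    refine ⟨E, inferInstance, u', ?_, (ULift.up 1 : ULift.{u + 1} Γ(E.obj.left.left, ⊤)), ?_⟩
    · exact Groth.Agent.Lib.helper11.ofPt_yon_map_comp j a u'
    · have hann : annSect (M := unitModEt X) (E := E)
          (ULift.up 1 : ULift.{u + 1} Γ(E.obj.left.left, ⊤)) = ⊥ := by
        refine Ideal.ext fun (c : Γ(Scheme.Opens.toScheme V₀, ⊤)) => ?_
        rw [mem_annSect_iff, Ideal.mem_bot]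
        change (ULift.up (c * 1) :
          ULift.{u + 1} Γ(Scheme.Opens.toScheme V₀, ⊤)) = 0 ↔ _
        rw [mul_one]
        exact ⟨fun h0 => congrArg ULift.down h0, fun h0 => congrArg ULift.up h0⟩
      rw [hann]
      have hdim' : ringKrullDim ((Scheme.Opens.toScheme V₀).presheaf.stalk u') = 0 := by
        rw [← hdim]
        exact ringKrullDim_eq_of_ringEquiv (V₀.stalkIso u').commRingCatIsoToRingEquiv
      rw [ringKrullDim_stalk_eq_height] at hdim'
      have h0 : (primeAtPt (Scheme.Opens.toScheme V₀) u').height = 0 := by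
        exact_mod_cast hdim'
      exact Ideal.height_eq_zero_iff.mp h0

end Groth.Agent.LibAlgSpWeakAss29
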