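import Mathlib
import Groth.Prelude.Def_ArtFun3

/-!
# Smoothness of a functor of Artin rings can be tested on small extensions (seat helper29)

Every surjection in `Art Λ k` is, up to isomorphism, a composite of small extensions (surjections with non-zero
principal kernel killed by the maximal ideal).  Hence a functor `F` with `F(B) → F(A)` surjective for all small
extensions is smooth.
-/

set_option autoImplicit false
universe u v

open CategoryTheory

namespace Groth.Agent.LibArtSmall29

open ArtFun ArtFun.Art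

variable {Λ : Type u} {k : Type u} [CommRing Λ] [Field k] [Algebra Λ k]

section Iso

variable (F : Art Λ k ⥤ Type v)

/-- a bijective morphism induces a surjection on `F` -/
lemma map_surjective_of_bijective {A B : Art Λ k} (φ : A ⟶ B) (hφ : Function.Bijective φ) :
    Function.Surjective (F.map φ) := by
  let e : A ≃ₐ[Λ] B := AlgEquiv.ofBijective φ.toAlgHom hφ
  let ψ : B ⟶ A := ⟨e.symm.toAlgHom, by
    apply AlgHom.ext
    intro b
    obtain ⟨a, rfl⟩ := hφ.2 b
    have h1 : e.symm (φ a) = a := e.symm_apply_apply a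
    change A.res (e.symm (φ a)) = B.res (φ a)
    rw [h1, Art.res_app]⟩
  have h : ψ ≫ φ = 𝟙 B := by
    apply Art.hom_ext
    apply AlgHom.ext
    intro b
    exact e.apply_symm_apply b
  intro x
  refine ⟨F.map ψ x, ?_⟩
  have h2 : F.map (ψ ≫ φ) x = F.map φ (F.map ψ x) := by
    rw [F.map_comp]
    rfl
  rw [← h2, h, F.map_id]
  rfl

end Iso

section Step

variable (B : Art Λ k)

/-- the projection as an algebra map -/
noncomputable abbrev qa (K : Ideal B) (hK : K ≤ IsLocalRing.maximalIdeal B) : B →ₐ[Λ] (quot B K hK) :=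
  (quotMk B K hK).toAlgHom

lemma qa_surjective (K : Ideal B) (hK : K ≤ IsLocalRing.maximalIdeal B) : Function.Surjective (qa B K hK) :=
  quotMk_surjective B K hK

lemma qa_eq_zero_iff (K : Ideal B) (hK : K ≤ IsLocalRing.maximalIdeal B) (b : B) : qa B K hK b = 0 ↔ b ∈ K :=
  Ideal.Quotient.eq_zero_iff_mem

lemma qa_mem_maximalIdeal_iff (K : Ideal B) (hK : K ≤ IsLocalRing.maximalIdeal B) (b : B) :
    qa B K hK b ∈ IsLocalRing.maximalIdeal (quot B K hK) ↔ b ∈ IsLocalRing.maximalIdeal B := by
  rw [Art.mem_maximalIdeal_iff, Art.mem_maximalIdeal_iff]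
  exact Iff.rfl

/-- below a non-zero ideal `K` of the maximal ideal there is `K' < K` with `B/K' → B/K` a small extension -/
lemma exists_small_step (K : Ideal B) (hK : K ≤ IsLocalRing.maximalIdeal B) (hK0 : K ≠ ⊥) :
    ∃ (K' : Ideal B) (hK' : K' ≤ IsLocalRing.maximalIdeal B) (hle : K' ≤ RingHom.ker (quotMk B K hK).toAlgHom),
      K' < K ∧ IsSmallExt (quotFactor hK' (quotMk B K hK) hle) := by
  classical
  -- a maximal ideal strictly below `K`
  have hne : {K'' : Ideal B | K'' < K}.Nonempty := ⟨⊥, bot_lt_iff_ne_bot.mpr hK0⟩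
  obtain ⟨K', hK'K, hmax⟩ := wellFounded_gt.has_min {K'' : Ideal B | K'' < K} hne
  have hK'K' : K' < K := hK'K
  have hK' : K' ≤ IsLocalRing.maximalIdeal B := hK'K'.le.trans hK
  have hkerK : RingHom.ker (quotMk B K hK).toAlgHom = K := by
    ext x
    rw [RingHom.mem_ker]
    exact qa_eq_zero_iff B K hK x
  have hle : K' ≤ RingHom.ker (quotMk B K hK).toAlgHom := by
    rw [hkerK]
    exact hK'K'.le
  refine ⟨K', hK', hle, hK'K', ?_⟩
  -- `𝔪 K ≤ K'`
  have hmK : IsLocalRing.maximalIdeal B * K ≤ K' := by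
    have h1 : K' ⊔ IsLocalRing.maximalIdeal B * K ≤ K := sup_le hK'K'.le Ideal.mul_le_right
    have h2 : ¬ (K' ⊔ IsLocalRing.maximalIdeal B * K = K) := by
      intro h
      have h3 : K ≤ K' ⊔ IsLocalRing.maximalIdeal B • K := by
        rw [smul_eq_mul, h]
      have h4 := Submodule.le_of_le_smul_of_le_jacobson_bot (IsNoetherian.noetherian K)
        (IsLocalRing.maximalIdeal_le_jacobson ⊥) h3
      exact absurd h4 (not_le_of_gt hK'K')
    have h5 : K' ⊔ IsLocalRing.maximalIdeal B * K < K := lt_of_le_of_ne h1 h2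
    have h6 : ¬ (K' ⊔ IsLocalRing.maximalIdeal B * K > K') := hmax _ h5
    have h7 : K' ⊔ IsLocalRing.maximalIdeal B * K = K' := by
      by_contra h
      exact h6 (lt_of_le_of_ne le_sup_left (Ne.symm h))
    rw [← h7]
    exact le_sup_right
  -- a generator
  obtain ⟨t, htK, htK'⟩ := SetLike.exists_of_lt hK'K'
  have hsup : K' ⊔ Ideal.span {t} = K := by
    have h1 : K' ⊔ Ideal.span {t} ≤ K := sup_le hK'K'.le ((Ideal.span_singleton_le_iff_mem _).mpr htK)
    by_contra h
    have h5 : K' ⊔ Ideal.span {t} < K := lt_of_le_of_ne h1 h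
    have h6 : ¬ (K' ⊔ Ideal.span {t} > K') := hmax _ h5
    apply h6
    refine lt_of_le_of_ne le_sup_left ?_
    intro h7
    apply htK'
    rw [h7]
    exact Ideal.mem_sup_right (Ideal.mem_span_singleton_self t)
  -- the factored map on classes
  have hfac : ∀ b : B, (quotFactor hK' (quotMk B K hK) hle).toAlgHom (qa B K' hK' b) = qa B K hK b :=
    fun b => rfl
  -- the kernel of `B/K' → B/K`
  have hker : RingHom.ker (quotFactor hK' (quotMk B K hK) hle).toAlgHom =
      Ideal.span {qa B K' hK' t} := by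
    apply le_antisymm
    · intro x hx
      obtain ⟨b, rfl⟩ := qa_surjective B K' hK' x
      have hb : b ∈ K := by
        rw [RingHom.mem_ker, hfac] at hx
        exact (qa_eq_zero_iff B K hK b).mp hx
      rw [← hsup] at hb
      obtain ⟨y, hy, z, hz, rfl⟩ := Submodule.mem_sup.mp hb
      obtain ⟨c, rfl⟩ := Ideal.mem_span_singleton'.mp hz
      rw [map_add, (qa_eq_zero_iff B K' hK' y).mpr hy, zero_add, map_mul]
      exact Ideal.mul_mem_left _ _ (Ideal.mem_span_singleton_self _)
    · rw [Ideal.span_singleton_le_iff_mem, RingHom.mem_ker, hfac]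
      exact (qa_eq_zero_iff B K hK t).mpr htK
  refine ⟨?_, ?_, ?_, ?_⟩
  · intro x
    obtain ⟨b, rfl⟩ := qa_surjective B K hK x
    exact ⟨qa B K' hK' b, hfac b⟩
  · rw [hker]
    intro h
    apply htK'
    have : qa B K' hK' t ∈ (⊥ : Ideal (quot B K' hK')) := h ▸ Ideal.mem_span_singleton_self _
    exact (qa_eq_zero_iff B K' hK' t).mp ((Ideal.mem_bot).mp this)
  · rw [hker]
    exact ⟨⟨_, rfl⟩⟩
  · rw [hker, eq_bot_iff, Ideal.mul_le]
    intro x hx y hy
    obtain ⟨b, rfl⟩ := qa_surjective B K' hK' x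
    obtain ⟨c, rfl⟩ := Ideal.mem_span_singleton'.mp hy
    obtain ⟨c', rfl⟩ := qa_surjective B K' hK' c
    have hb : b ∈ IsLocalRing.maximalIdeal B := (qa_mem_maximalIdeal_iff B K' hK' b).mp hx
    rw [Ideal.mem_bot, ← map_mul, ← map_mul, qa_eq_zero_iff]
    have : b * (c' * t) = c' * (b * t) := by ring
    rw [this]
    exact Ideal.mul_mem_left _ _ (hmK (Ideal.mul_mem_mul hb htK))

end Step

section Main

variable (F : Art Λ k ⥤ Type v)
  (hF : ∀ ⦃B A : Art Λ k⦄ (p : B ⟶ A), IsSmallExt p → Function.Surjective (F.map p))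

include hF in
/-- `F(B) → F(B/K)` is surjective -/
theorem map_quotMk_surjective (B : Art Λ k) (K : Ideal B) (hK : K ≤ IsLocalRing.maximalIdeal B) :
    Function.Surjective (F.map (quotMk B K hK)) := by
  induction K using WellFoundedLT.induction with
  | ind K ih =>
    by_cases hK0 : K = ⊥
    · apply map_surjective_of_bijective
      refine ⟨?_, quotMk_surjective B K hK⟩
      intro x y hxy
      have h1 : qa B K hK (x - y) = 0 := by
        rw [map_sub, sub_eq_zero]
        exact hxy
      rw [qa_eq_zero_iff, hK0, Ideal.mem_bot, sub_eq_zero] at h1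
      exact h1
    · obtain ⟨K', hK', hle, hlt, hsmall⟩ := exists_small_step B K hK hK0
      have h1 := ih K' hlt hK'
      have h2 := hF _ hsmall
      have h3 : quotMk B K' hK' ≫ quotFactor hK' (quotMk B K hK) hle = quotMk B K hK :=
        quotMk_quotFactor hK' _ hle
      rw [← h3, F.map_comp]
      exact h2.comp h1

include hF in
/-- **a functor which is surjective along small extensions is smooth** -/
theorem isSmoothFunctor_of_smallExt : IsSmoothFunctor F := by
  intro B A μ hμ
  have hK : RingHom.ker μ.toAlgHom ≤ IsLocalRing.maximalIdeal B := by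
    intro x hx
    rw [Art.mem_maximalIdeal_iff, ← Art.res_app μ]
    rw [RingHom.mem_ker] at hx
    change A.res (μ.toAlgHom x) = 0
    rw [hx, map_zero]
  have h1 := map_quotMk_surjective F hF B (RingHom.ker μ.toAlgHom) hK
  have h2 : quotMk B _ hK ≫ quotFactor hK μ le_rfl = μ := quotMk_quotFactor hK μ le_rfl
  have h3 : Function.Bijective (quotFactor hK μ le_rfl) := by
    constructor
    · intro x y hxy
      obtain ⟨a, rfl⟩ := qa_surjective B _ hK x
      obtain ⟨b, rfl⟩ := qa_surjective B _ hK y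
      have h4 : μ.toAlgHom a = μ.toAlgHom b := hxy
      have h5 : qa B _ hK (a - b) = 0 := by
        rw [qa_eq_zero_iff, RingHom.mem_ker, map_sub, h4, sub_self]
      rw [map_sub, sub_eq_zero] at h5
      exact h5
    · intro a
      obtain ⟨b, rfl⟩ := hμ a
      exact ⟨qa B _ hK b, rfl⟩
  rw [← h2, F.map_comp]
  exact (map_surjective_of_bijective F _ h3).comp h1

end Main

end Groth.Agent.LibArtSmall29
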