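import Mathlib

/-!
# Ring-level ingredients for Bertini's theorem in characteristic zero (helper29)

* `Inc a = R[X_i] / (Σ a_i X_i)`: the incidence algebra of the linear system spanned by `a_i`;
  it is formally smooth over `R` when the `a_i` generate the unit ideal (`formallySmooth_inc`).
* `formallySmooth_quotient_of_fibre`: the fibre of a formally smooth `A`-algebra over a rational
  point of `A` is formally smooth over the base field.
-/

set_option autoImplicit false
set_option linter.style.haveILetI false
universe u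

open MvPolynomial

namespace Groth.Agent.LibBertini29

section inc

variable {R : Type u} [CommRing R] {n : ℕ} (a : Fin n → R)

/-- the universal linear combination `Σ a_i X_i` -/
noncomputable def linForm : MvPolynomial (Fin n) R := ∑ i, C (a i) * X i

theorem aeval_linForm {C' : Type u} [CommRing C'] [Algebra R C'] (x : Fin n → C') :
    aeval x (linForm a) = ∑ i, algebraMap R C' (a i) * x i := by
  simp [linForm, map_sum]

/-- the incidence algebra `R[X_i] / (Σ a_i X_i)` -/
abbrev Inc : Type u := MvPolynomial (Fin n) R ⧸ Ideal.span {linForm a}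

theorem formallySmooth_inc (h : Ideal.span (Set.range a) = ⊤) :
    Algebra.FormallySmooth R (Inc a) := by
  apply Algebra.FormallySmooth.of_comp_surjective
  intro C' _ _ N hN g
  obtain ⟨b, hb⟩ : ∃ b : Fin n → R, ∑ i, b i * a i = 1 :=
    (Ideal.mem_span_range_iff_exists_fun).mp (h ▸ Submodule.mem_top)
  have hx : ∀ i, ∃ x : C', Ideal.Quotient.mk N x = g (Ideal.Quotient.mk _ (X i)) :=
    fun i => Ideal.Quotient.mk_surjective _
  choose x hx using hx
  set ε : C' := ∑ i, algebraMap R C' (a i) * x i with hεdef
  have hε : ε ∈ N := by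
    rw [← Ideal.Quotient.eq_zero_iff_mem, hεdef, map_sum]
    have h1 : ∀ i, Ideal.Quotient.mk N (algebraMap R C' (a i) * x i) =
        g (Ideal.Quotient.mk _ (C (a i) * X i)) := by
      intro i
      rw [map_mul, hx, map_mul, map_mul]
      congr 1
      have : (Ideal.Quotient.mk (Ideal.span {linForm a})) (C (a i)) =
          algebraMap R (Inc a) (a i) := rfl
      rw [this, AlgHom.commutes]
      rfl
    simp_rw [h1]
    rw [← map_sum, ← map_sum]
    have h2 : (Ideal.Quotient.mk (Ideal.span {linForm a})) (∑ i, C (a i) * X i) = 0 :=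
      Ideal.Quotient.eq_zero_iff_mem.mpr (Ideal.subset_span rfl)
    rw [h2, map_zero]
  have hε2 : ε * ε = 0 := by
    have : ε * ε ∈ N ^ 2 := by rw [pow_two]; exact Ideal.mul_mem_mul hε hε
    rw [hN] at this
    exact this
  set x' : Fin n → C' := fun i => x i - algebraMap R C' (b i) * ε with hx'def
  have hx' : ∑ i, algebraMap R C' (a i) * x' i = 0 := by
    have h1 : ∑ i, algebraMap R C' (a i) * x' i =
        ε - (∑ i, algebraMap R C' (b i * a i)) * ε := by
      rw [hεdef, Finset.sum_mul, ← Finset.sum_sub_distrib]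
      refine Finset.sum_congr rfl fun i _ => ?_
      rw [hx'def, map_mul]
      ring
    rw [h1, ← map_sum, hb, map_one, one_mul, sub_self]
  have hker : ∀ f ∈ Ideal.span {linForm a}, (aeval x' : MvPolynomial (Fin n) R →ₐ[R] C') f = 0 := by
    intro f hf
    obtain ⟨q, rfl⟩ := Ideal.mem_span_singleton'.mp hf
    rw [map_mul, aeval_linForm, hx', mul_zero]
  refine ⟨Ideal.Quotient.liftₐ _ (aeval x') hker, ?_⟩
  have hcomp : ((Ideal.Quotient.mkₐ R N).comp (Ideal.Quotient.liftₐ _ (aeval x') hker)).comp
      (Ideal.Quotient.mkₐ R (Ideal.span {linForm a})) =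
      g.comp (Ideal.Quotient.mkₐ R (Ideal.span {linForm a})) := by
    apply MvPolynomial.algHom_ext
    intro i
    simp only [AlgHom.comp_apply, Ideal.Quotient.mkₐ_eq_mk, Ideal.Quotient.liftₐ_apply,
      Ideal.Quotient.lift_mk, AlgHom.coe_toRingHom, aeval_X]
    rw [hx'def]
    simp only
    rw [map_sub, hx, map_mul, Ideal.Quotient.eq_zero_iff_mem.mpr hε, mul_zero, sub_zero]
  apply AlgHom.ext
  intro z
  obtain ⟨f, rfl⟩ := Ideal.Quotient.mk_surjective z
  exact AlgHom.congr_fun hcomp f

instance finitePresentation_inc : Algebra.FinitePresentation R (Inc a) :=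
  Algebra.FinitePresentation.quotient ⟨{linForm a}, by simp⟩

end inc

section fibre

variable {k A R B' : Type u} [CommRing k] [CommRing A] [CommRing R] [CommRing B']
  [Algebra k A] [Algebra k R] [Algebra A B'] [Algebra R B'] [Algebra k B']
  [IsScalarTower k A B'] [IsScalarTower k R B']

/-- the fibre over a rational point of a formally smooth algebra is formally smooth -/
theorem formallySmooth_quotient_of_fibre (ε : A →ₐ[k] k) (fc : R) [Algebra.FormallySmooth A B']
    (ψ' : B' →+* R ⧸ Ideal.span {fc})
    (hψR : ∀ r, ψ' (algebraMap R B' r) = Ideal.Quotient.mk _ r)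
    (hψA : ∀ t, ψ' (algebraMap A B' t) = algebraMap k (R ⧸ Ideal.span {fc}) (ε t))
    (hfc : algebraMap R B' fc ∈ Ideal.map (algebraMap A B') (RingHom.ker ε)) :
    Algebra.FormallySmooth k (R ⧸ Ideal.span {fc}) := by
  apply Algebra.FormallySmooth.of_comp_surjective
  intro C' _ _ N hN g
  letI algAC : Algebra A C' := ((algebraMap k C').comp (ε : A →+* k)).toAlgebra
  have hAC : ∀ t : A, algebraMap A C' t = algebraMap k C' (ε t) := fun t => rfl
  let G : B' →ₐ[A] C' ⧸ N :=
    { (g : (R ⧸ Ideal.span {fc}) →+* C' ⧸ N).comp ψ' with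
      commutes' := fun t => by
        change g (ψ' (algebraMap A B' t)) = _
        rw [hψA, AlgHom.commutes]
        rfl }
  obtain ⟨h, hh⟩ := Algebra.FormallySmooth.comp_surjective A B' N hN G
  have hh' : ∀ b, Ideal.Quotient.mk N (h b) = g (ψ' b) := fun b => AlgHom.congr_fun hh b
  let l₀ : R →ₐ[k] C' :=
    { (h : B' →+* C').comp (algebraMap R B') with
      commutes' := fun c => by
        change h (algebraMap R B' (algebraMap k R c)) = _
        rw [← IsScalarTower.algebraMap_apply k R B', IsScalarTower.algebraMap_apply k A B',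
          AlgHom.commutes, hAC, AlgHom.commutes]
        rfl }
  have hl₀ : ∀ r, l₀ r = h (algebraMap R B' r) := fun r => rfl
  have hle : Ideal.map (algebraMap A B') (RingHom.ker ε) ≤ RingHom.ker (h : B' →+* C') := by
    rw [Ideal.map_le_iff_le_comap]
    intro t ht
    rw [Ideal.mem_comap, RingHom.mem_ker]
    change h (algebraMap A B' t) = 0
    rw [AlgHom.commutes, hAC, (RingHom.mem_ker).mp ht, map_zero]
  have hker : ∀ r ∈ Ideal.span {fc}, l₀ r = 0 := by
    intro r hr
    obtain ⟨q, rfl⟩ := Ideal.mem_span_singleton'.mp hr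
    have h0 : h (algebraMap R B' fc) = 0 := (RingHom.mem_ker).mp (hle hfc)
    rw [map_mul, hl₀ fc, h0, mul_zero]
  refine ⟨Ideal.Quotient.liftₐ _ l₀ hker, ?_⟩
  apply AlgHom.ext
  intro z
  obtain ⟨r, rfl⟩ := Ideal.Quotient.mk_surjective z
  change Ideal.Quotient.mk N (l₀ r) = g (Ideal.Quotient.mk _ r)
  rw [hl₀, hh', hψR]

end fibre

end Groth.Agent.LibBertini29
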