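import Mathlib.RingTheory.Kaehler.JacobiZariski
import Mathlib.RingTheory.Smooth.Basic
import Mathlib.RingTheory.Etale.Kaehler
import Mathlib.RingTheory.LocalRing.Module

/-!
# Formal smoothness in a tower through the Jacobi–Zariski sequence (helper29)

`R → S → T` with `T` formally smooth over `R`: `T` is formally smooth over `S` iff
`T ⊗[S] Ω[S/R] → Ω[T/R]` is a split injection.
-/

set_option autoImplicit false

namespace Groth.Agent.LibJZ29

open TensorProduct KaehlerDifferential Algebra

universe u

variable (R S T : Type u) [CommRing R] [CommRing S] [CommRing T] [Algebra R S] [Algebra S T]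
  [Algebra R T] [IsScalarTower R S T]

theorem formallySmooth_tower_iff [Algebra.FormallySmooth R T] :
    Algebra.FormallySmooth S T ↔
      ∃ l : Ω[T⁄R] →ₗ[T] T ⊗[S] Ω[S⁄R], l ∘ₗ mapBaseChange R S T = LinearMap.id := by
  have hH1 : Subsingleton (Algebra.H1Cotangent R T) :=
    ((Algebra.formallySmooth_iff R T).mp inferInstance).2
  have hprojRT : Module.Projective T Ω[T⁄R] :=
    ((Algebra.formallySmooth_iff R T).mp inferInstance).1
  have hex : Function.Exact (mapBaseChange R S T) (KaehlerDifferential.map R S T T) :=
    exact_mapBaseChange_map R S T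
  have hsurj : Function.Surjective (KaehlerDifferential.map R S T T) :=
    KaehlerDifferential.map_surjective R S T
  have htfae := (hex.split_tfae').out 0 1
  rw [Algebra.formallySmooth_iff]
  constructor
  · rintro ⟨hproj, hsub⟩
    have hinj : Function.Injective (mapBaseChange R S T) := by
      rw [injective_iff_map_eq_zero]
      intro x hx
      obtain ⟨y, rfl⟩ := (Algebra.H1Cotangent.exact_δ_mapBaseChange R S T x).mp hx
      rw [Subsingleton.elim y 0, map_zero]
    obtain ⟨l, hl⟩ := Module.projective_lifting_property (KaehlerDifferential.map R S T T)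
      LinearMap.id hsurj
    exact (htfae.mp ⟨hinj, l, hl⟩).2
  · rintro ⟨l, hl⟩
    obtain ⟨hinj, l', hl'⟩ := htfae.mpr ⟨hsurj, l, hl⟩
    refine ⟨Module.Projective.of_split l' _ hl', ?_⟩
    refine ⟨fun x y => ?_⟩
    have hδ0 : ∀ z, Algebra.H1Cotangent.δ R S T z = 0 := by
      intro z
      apply hinj
      rw [map_zero]
      exact (Algebra.H1Cotangent.exact_δ_mapBaseChange R S T _).mpr ⟨z, rfl⟩
    have hz : ∀ z : Algebra.H1Cotangent S T, z = 0 := by
      intro z
      obtain ⟨w, rfl⟩ := (Algebra.H1Cotangent.exact_map_δ R S T z).mp (hδ0 z)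
      rw [Subsingleton.elim w 0, map_zero]
    rw [hz x, hz y]

/-- local version: over a local ring `T`, with finiteness, the splitting can be tested on the
residue field. -/
theorem formallySmooth_tower_iff_of_isLocalRing [Algebra.FormallySmooth R T] [IsLocalRing T]
    [Module.Finite T (T ⊗[S] Ω[S⁄R])] [Module.Finite T Ω[T⁄R]] :
    Algebra.FormallySmooth S T ↔
      Function.Injective ((mapBaseChange R S T).lTensor (IsLocalRing.ResidueField T)) := by
  have hprojRT : Module.Projective T Ω[T⁄R] :=
    ((Algebra.formallySmooth_iff R T).mp inferInstance).1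
  have : Module.Free T Ω[T⁄R] := Module.free_of_flat_of_isLocalRing
  rw [formallySmooth_tower_iff R S T,
    IsLocalRing.split_injective_iff_lTensor_residueField_injective]

end Groth.Agent.LibJZ29
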