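import Groth.Statements.S11311
import Groth.Agent.S9442
import Mathlib.RingTheory.Smooth.Kaehler
import Mathlib.RingTheory.EssentialFiniteness
import Mathlib.RingTheory.RegularLocalRing.Defs
-- import your own Groth.Agent.* helpers here

set_option autoImplicit false
universe u
open CAlg

namespace Groth.Agent.S11311

open IsLocalRing KaehlerDifferential TensorProduct

noncomputable def cotEquivOfEq {B : Type*} [CommRing B] (I J : Ideal B) (h : I = J) :
    I.Cotangent ≃ₗ[B] J.Cotangent := by
  subst h; exact LinearEquiv.refl _ _

section
variable (k B : Type u) [Field k] [CommRing B] [Algebra k B] [IsLocalRing B]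

lemma kerCot_bijective (hres : Function.Bijective (algebraMap k (ResidueField B))) :
    Function.Bijective (kerCotangentToTensor k B (ResidueField B)) := by
  have hsurj : Function.Surjective (algebraMap B (ResidueField B)) := residue_surjective
  constructor
  · let eκ : k ≃ₐ[k] ResidueField B := AlgEquiv.ofBijective (Algebra.ofId k _) hres
    let g : ResidueField B →ₐ[k]
        B ⧸ (RingHom.ker (IsScalarTower.toAlgHom k B (ResidueField B)).toRingHom) ^ 2 :=
      (Algebra.ofId k _).comp eκ.symm.toAlgHom
    have hg : (IsScalarTower.toAlgHom k B (ResidueField B)).kerSquareLift.comp g =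
        AlgHom.id k _ := by
      ext x
      obtain ⟨c, rfl⟩ := hres.2 x
      simp
    obtain ⟨l, hl⟩ := (retractionKerCotangentToTensorEquivSection (R := k) hsurj).symm ⟨g, hg⟩
    exact Function.LeftInverse.injective (g := l) (fun x => LinearMap.congr_fun hl x)
  · have := KaehlerDifferential.subsingleton_of_surjective k (ResidueField B) hres.2
    intro y
    exact (exact_kerCotangentToTensor_mapBaseChange k B (ResidueField B) hsurj y).mp
      (Subsingleton.elim _ _)

/-- the cotangent space and the fibre of the differentials have the same dimension -/
lemma finrank_cot_eq (hres : Function.Bijective (algebraMap k (ResidueField B))) :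
    Module.finrank (ResidueField B) (CotangentSpace B) =
      Module.finrank (ResidueField B) (ResidueField B ⊗[B] Ω[B⁄k]) := by
  have hker : maximalIdeal B = RingHom.ker (algebraMap B (ResidueField B)) := by
    rw [ResidueField.algebraMap_eq, ker_residue]
  let e₁ : (maximalIdeal B).Cotangent ≃ₗ[B] ResidueField B ⊗[B] Ω[B⁄k] :=
    (cotEquivOfEq _ _ hker).trans (LinearEquiv.ofBijective _ (kerCot_bijective k B hres))
  let e₂ : CotangentSpace B ≃ₗ[ResidueField B] ResidueField B ⊗[B] Ω[B⁄k] :=
    LinearEquiv.extendScalarsOfSurjective (residue_surjective (R := B)) e₁
  exact e₂.finrank_eq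

lemma formallySmooth_of_regular_rational [Algebra.EssFiniteType k B] [IsRegularLocalRing B]
    (hres : Function.Bijective (algebraMap k (ResidueField B))) : Algebra.FormallySmooth k B := by
  let S := Algebra.EssFiniteType.subalgebra k B
  let M := Algebra.EssFiniteType.submonoid k B
  let q : Ideal S := (maximalIdeal B).comap (algebraMap S B)
  have hq : q.IsPrime := Ideal.comap_isPrime _ _
  have hM : M = q.primeCompl := by
    ext s
    simp [M, q, Algebra.EssFiniteType.submonoid, Ideal.primeCompl, IsUnit.mem_submonoid_iff,
      mem_maximalIdeal]
  have hloc : IsLocalization q.primeCompl B := hM ▸ (inferInstance : IsLocalization M B)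
  let e : Localization.AtPrime q ≃ₐ[S] B := IsLocalization.algEquiv q.primeCompl _ _
  let e' : Localization.AtPrime q ≃ₐ[k] B := e.restrictScalars k
  have hreg : IsRegularLocalRing (Localization.AtPrime q) :=
    IsRegularLocalRing.of_ringEquiv e.symm.toRingEquiv
  have hsurj : Function.Surjective (algebraMap k q.ResidueField) := by
    intro y
    obtain ⟨x, rfl⟩ := residue_surjective (R := Localization.AtPrime q) y
    obtain ⟨c, hc⟩ := hres.2 (residue B (e' x))
    refine ⟨c, ?_⟩
    rw [IsScalarTower.algebraMap_apply k (Localization.AtPrime q) q.ResidueField,
      ResidueField.algebraMap_eq]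
    rw [IsScalarTower.algebraMap_apply k B (ResidueField B), ResidueField.algebraMap_eq] at hc
    have h1 : algebraMap k B c - e' x ∈ maximalIdeal B := by
      rw [← ker_residue, RingHom.mem_ker, map_sub, hc, sub_self]
    have h2 : algebraMap k (Localization.AtPrime q) c - x ∈ maximalIdeal (Localization.AtPrime q) := by
      rw [mem_maximalIdeal, mem_nonunits_iff] at h1 ⊢
      intro hu
      apply h1
      have := hu.map e'
      rwa [map_sub, AlgEquiv.commutes] at this
    rw [← sub_eq_zero, ← map_sub, ← RingHom.mem_ker, ker_residue]
    exact h2
  have hbij : Function.Bijective (algebraMap k q.ResidueField) :=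
    ⟨(algebraMap k q.ResidueField).injective, hsurj⟩
  have : Algebra.FormallySmooth k q.ResidueField :=
    .of_equiv (AlgEquiv.ofBijective (Algebra.ofId k _) hbij)
  have := Groth.Agent.S9442.formallySmooth_of_regular k S q
  exact .of_equiv e'

end


/-- Let k be a field and B a local ring containing k whose residue field is k (the composite k → B → B/m
is bijective), and which is a localization of a finitely generated k-algebra (essentially of finite
type over k); let d = dim B. If the module of differentials Ω_{B/k} is free of rank d then B is a
regular local ring. Conversely, if k is perfect and B is a regular local ring, then Ω_{B/k} is free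
of rank d. (The published statement assumes k perfect as one of its hypotheses and asserts the
equivalence; its proof of the first implication does not use perfectness, so that hypothesis is
placed on the converse only.) -/
theorem result (k B : Type u) [Field k] [CommRing B] [Algebra k B]
    [IsLocalRing B] [Algebra.EssFiniteType k B]
    (hres : Function.Bijective (algebraMap k (IsLocalRing.ResidueField B)))
    (d : ℕ) (hd : ringKrullDim B = (d : WithBot ℕ∞)) :
    ((Module.Free B (KaehlerDifferential k B) ∧ Module.finrank B (KaehlerDifferential k B) = d) →
        IsRegularLocalRing B) ∧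
      (PerfectField k → IsRegularLocalRing B →
        Module.Free B (KaehlerDifferential k B) ∧ Module.finrank B (KaehlerDifferential k B) = d) := by
  have hN : IsNoetherianRing B := Algebra.EssFiniteType.isNoetherianRing k B
  have hfin := finrank_cot_eq k B hres
  constructor
  · rintro ⟨hfree, hrank⟩
    rw [IsRegularLocalRing.iff_finrank_cotangentSpace, hfin, Module.finrank_baseChange, hrank, hd]
  · intro _ hreg
    have hsm : Algebra.FormallySmooth k B := formallySmooth_of_regular_rational k B hres
    have hfree : Module.Free B Ω[B⁄k] := Module.free_of_flat_of_isLocalRing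
    refine ⟨hfree, ?_⟩
    have h1 := (IsRegularLocalRing.iff_finrank_cotangentSpace B).mp hreg
    rw [hfin, Module.finrank_baseChange, hd] at h1
    exact_mod_cast h1

end Groth.Agent.S11311
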