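import Mathlib
import Groth.Agent.S11311
import Groth.Agent.LibJZ29

/-!
# Cotangent maps of local homomorphisms of rational local algebras (helper29)

For local `k`-algebras `S → T` (local homomorphism) whose residue fields are `k`:
the cotangent map `m_S/m_S² → m_T/m_T²` is injective iff
`κ_T ⊗ (T ⊗_S Ω[S/k]) → κ_T ⊗ Ω[T/k]` is injective.
-/

set_option autoImplicit false

namespace Groth.Agent.LibCotTan29

open IsLocalRing KaehlerDifferential TensorProduct

universe u

section one

variable (k B : Type u) [Field k] [CommRing B] [Algebra k B] [IsLocalRing B]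

omit [Field k] [Algebra k B] in
lemma ker_algebraMap_residueField :
    RingHom.ker (algebraMap B (ResidueField B)) = maximalIdeal B := by
  rw [ResidueField.algebraMap_eq, ker_residue]

omit [Field k] [Algebra k B] [IsLocalRing B] in
lemma cotEquivOfEq_toCotangent {I J : Ideal B} (h : I = J) (s : B) (hs : s ∈ I) :
    Groth.Agent.S11311.cotEquivOfEq I J h (I.toCotangent ⟨s, hs⟩) =
      J.toCotangent ⟨s, h ▸ hs⟩ := by
  subst h; rfl

/-- `m/m² → κ ⊗ Ω[B/k]`, `[s] ↦ 1 ⊗ ds`. -/
noncomputable def cotToFibre :
    (maximalIdeal B).Cotangent →ₗ[B] ResidueField B ⊗[B] Ω[B⁄k] :=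
  (kerCotangentToTensor k B (ResidueField B)) ∘ₗ
    (Groth.Agent.S11311.cotEquivOfEq _ _ (ker_algebraMap_residueField B).symm).toLinearMap

lemma cotToFibre_toCotangent (s : B) (hs : s ∈ maximalIdeal B) :
    cotToFibre k B ((maximalIdeal B).toCotangent ⟨s, hs⟩) = 1 ⊗ₜ D k B s := by
  simp only [cotToFibre, LinearMap.comp_apply, LinearEquiv.coe_coe]
  rw [cotEquivOfEq_toCotangent, kerCotangentToTensor_toCotangent]

lemma cotToFibre_bijective (hres : Function.Bijective (algebraMap k (ResidueField B))) :
    Function.Bijective (cotToFibre k B) := by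
  simp only [cotToFibre, LinearMap.coe_comp, LinearEquiv.coe_coe]
  exact (Groth.Agent.S11311.kerCot_bijective k B hres).comp (LinearEquiv.bijective _)

end one

section two

variable (k S T : Type u) [Field k] [CommRing S] [CommRing T] [Algebra k S] [Algebra k T]
  [Algebra S T] [IsScalarTower k S T] [IsLocalRing S] [IsLocalRing T]
  [IsLocalHom (algebraMap S T)]

/-- the residue field map as an `S`-linear map -/
noncomputable def resLin : ResidueField S →ₗ[S] ResidueField T :=
  (Algebra.linearMap (ResidueField S) (ResidueField T)).restrictScalars S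

lemma resLin_bijective (hS : Function.Bijective (algebraMap k (ResidueField S)))
    (hT : Function.Bijective (algebraMap k (ResidueField T))) :
    Function.Bijective (resLin S T) := by
  have h : (algebraMap (ResidueField S) (ResidueField T)) ∘ (algebraMap k (ResidueField S)) =
      algebraMap k (ResidueField T) := by
    funext c
    exact (IsScalarTower.algebraMap_apply k (ResidueField S) (ResidueField T) c).symm
  have h2 : Function.Bijective (algebraMap (ResidueField S) (ResidueField T)) := by
    rw [← h] at hT
    exact (Function.Bijective.of_comp_iff _ hS).mp hT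
  exact h2

omit [IsScalarTower k S T] in
/-- if the residue field of `T` is `k` then so is that of `S` -/
lemma residue_bijective_of_tower [IsScalarTower k S T]
    (hT : Function.Bijective (algebraMap k (ResidueField T))) :
    Function.Bijective (algebraMap k (ResidueField S)) := by
  refine ⟨(algebraMap k (ResidueField S)).injective, fun z => ?_⟩
  obtain ⟨c, hc⟩ := hT.2 (algebraMap (ResidueField S) (ResidueField T) z)
  refine ⟨c, ?_⟩
  apply (algebraMap (ResidueField S) (ResidueField T)).injective
  rw [← hc]
  exact (IsScalarTower.algebraMap_apply k (ResidueField S) (ResidueField T) c).symm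

/-- `κ_S ⊗ Ω[S/k] → κ_T ⊗_T (T ⊗_S Ω[S/k])`, `c ⊗ ω ↦ c̄ ⊗ (1 ⊗ ω)`. -/
noncomputable def gam :
    ResidueField S ⊗[S] Ω[S⁄k] →ₗ[S] ResidueField T ⊗[T] (T ⊗[S] Ω[S⁄k]) :=
  ((AlgebraTensorModule.cancelBaseChange S T (ResidueField T) (ResidueField T)
      Ω[S⁄k]).symm.toLinearMap.restrictScalars S) ∘ₗ
    (LinearMap.rTensor Ω[S⁄k] (resLin S T))

omit [Algebra k T] [IsScalarTower k S T] in
lemma gam_tmul (c : ResidueField S) (ω : Ω[S⁄k]) :
    gam k S T (c ⊗ₜ ω) = (algebraMap (ResidueField S) (ResidueField T) c) ⊗ₜ (1 ⊗ₜ ω) := by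
  simp only [gam, LinearMap.comp_apply, LinearMap.rTensor_tmul, LinearMap.restrictScalars_apply,
    LinearEquiv.coe_coe]
  rw [AlgebraTensorModule.cancelBaseChange_symm_tmul]
  rfl

lemma gam_bijective (hS : Function.Bijective (algebraMap k (ResidueField S)))
    (hT : Function.Bijective (algebraMap k (ResidueField T))) :
    Function.Bijective (gam k S T) := by
  let e : ResidueField S ≃ₗ[S] ResidueField T :=
    LinearEquiv.ofBijective (resLin S T) (resLin_bijective k S T hS hT)
  have h1 : Function.Bijective (LinearMap.rTensor Ω[S⁄k] (resLin S T)) :=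
    (LinearEquiv.rTensor Ω[S⁄k] e).bijective
  simp only [gam, LinearMap.coe_comp]
  exact (LinearEquiv.bijective _).comp h1

lemma lTensor_gam_cotToFibre (s : S) (hs : s ∈ maximalIdeal S)
    (hs' : algebraMap S T s ∈ maximalIdeal T) :
    (mapBaseChange k S T).lTensor (ResidueField T)
        (gam k S T (cotToFibre k S ((maximalIdeal S).toCotangent ⟨s, hs⟩))) =
      cotToFibre k T ((maximalIdeal T).toCotangent ⟨algebraMap S T s, hs'⟩) := by
  rw [cotToFibre_toCotangent, cotToFibre_toCotangent, gam_tmul, LinearMap.lTensor_tmul,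
    mapBaseChange_tmul, one_smul, map_D, map_one]

/-- **Cotangent criterion.** -/
theorem mapCotangent_injective_iff
    (hS : Function.Bijective (algebraMap k (ResidueField S)))
    (hT : Function.Bijective (algebraMap k (ResidueField T)))
    (g : S →ₐ[ℤ] T) (hg : ∀ s, g s = algebraMap S T s)
    (h : maximalIdeal S ≤ (maximalIdeal T).comap g) :
    Function.Injective (Ideal.mapCotangent (maximalIdeal S) (maximalIdeal T) g h) ↔
      Function.Injective ((mapBaseChange k S T).lTensor (ResidueField T)) := by
  have key : ∀ z : (maximalIdeal S).Cotangent,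
      (mapBaseChange k S T).lTensor (ResidueField T) (gam k S T (cotToFibre k S z)) =
        cotToFibre k T (Ideal.mapCotangent (maximalIdeal S) (maximalIdeal T) g h z) := by
    intro z
    obtain ⟨⟨s, hs⟩, rfl⟩ := Ideal.toCotangent_surjective _ z
    rw [Ideal.mapCotangent_toCotangent]
    have hs' : algebraMap S T s ∈ maximalIdeal T := by
      have := h hs
      rwa [Ideal.mem_comap, hg] at this
    rw [lTensor_gam_cotToFibre k S T s hs hs']
    congr 2
    exact Subtype.ext (hg s).symm
  have hbS := cotToFibre_bijective k S hS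
  have hbT := cotToFibre_bijective k T hT
  have hbγ := gam_bijective k S T hS hT
  constructor
  · intro hinj
    rw [injective_iff_map_eq_zero]
    intro w hw
    obtain ⟨v, rfl⟩ := hbγ.2 w
    obtain ⟨z, rfl⟩ := hbS.2 v
    rw [key] at hw
    have h1 : Ideal.mapCotangent (maximalIdeal S) (maximalIdeal T) g h z = 0 := by
      apply hbT.1
      rw [hw, map_zero]
    have h2 : z = 0 := by
      apply hinj
      rw [h1, map_zero]
    rw [h2, map_zero, map_zero]
  · intro hinj
    rw [injective_iff_map_eq_zero]
    intro z hz
    have h1 := key z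
    rw [hz, map_zero] at h1
    have h2 : gam k S T (cotToFibre k S z) = 0 := by
      apply hinj
      rw [h1, map_zero]
    have h3 : cotToFibre k S z = 0 := by
      apply hbγ.1
      rw [h2, map_zero]
    apply hbS.1
    rw [h3, map_zero]

/-- **Smoothness of a local homomorphism of rational local algebras through the cotangent map.** -/
theorem formallySmooth_iff_mapCotangent_injective [Algebra.FormallySmooth k T]
    [Module.Finite T (T ⊗[S] Ω[S⁄k])] [Module.Finite T Ω[T⁄k]]
    (hS : Function.Bijective (algebraMap k (ResidueField S)))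
    (hT : Function.Bijective (algebraMap k (ResidueField T)))
    (g : S →ₐ[ℤ] T) (hg : ∀ s, g s = algebraMap S T s)
    (h : maximalIdeal S ≤ (maximalIdeal T).comap g) :
    Algebra.FormallySmooth S T ↔
      Function.Injective (Ideal.mapCotangent (maximalIdeal S) (maximalIdeal T) g h) := by
  rw [Groth.Agent.LibJZ29.formallySmooth_tower_iff_of_isLocalRing k S T,
    mapCotangent_injective_iff k S T hS hT g hg h]

end two

end Groth.Agent.LibCotTan29
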