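import Groth.Agent.S11451

/-!
# Curvilinear jets: truncated polynomial rings `k[X]/(X^l)` and maps out of regular local algebras (helper29)
-/

set_option autoImplicit false
universe u

namespace Groth.Agent.LibJet29

open IsLocalRing

section trunc

open Polynomial

variable (k : Type u) [Field k]

/-- the truncated polynomial ring. -/
abbrev T (l : ℕ) : Type u := k[X] ⧸ Ideal.span {(X : k[X]) ^ l}

/-- the class of the variable. -/
noncomputable def τ (l : ℕ) : T k l := Ideal.Quotient.mk _ X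

lemma tau_pow (l : ℕ) : (τ k l) ^ l = 0 := by
  unfold τ
  rw [← map_pow, Ideal.Quotient.eq_zero_iff_mem]
  exact Ideal.subset_span rfl

lemma tau_pow_of_le (l n : ℕ) (h : l ≤ n) : (τ k l) ^ n = 0 := by
  obtain ⟨j, rfl⟩ := Nat.exists_eq_add_of_le h
  rw [pow_add, tau_pow, zero_mul]

lemma exists_const (l : ℕ) (y : T k l) :
    ∃ (c : k) (z : T k l), y = algebraMap k (T k l) c + τ k l * z := by
  obtain ⟨p, rfl⟩ := Ideal.Quotient.mk_surjective y
  refine ⟨p.coeff 0, Ideal.Quotient.mk _ p.divX, ?_⟩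
  unfold τ
  rw [← map_mul]
  have h : algebraMap k (T k l) (p.coeff 0) = Ideal.Quotient.mk _ (C (p.coeff 0)) := rfl
  rw [h, ← map_add]
  congr 1
  rw [add_comm, mul_comm]
  exact (divX_mul_X_add p).symm

lemma algebraMap_mul_tau_pow_ne_zero (r : ℕ) (c : k) (hc : c ≠ 0) :
    algebraMap k (T k (r + 1)) c * (τ k (r + 1)) ^ r ≠ 0 := by
  unfold τ
  have h : algebraMap k (T k (r + 1)) c = Ideal.Quotient.mk _ (C c) := rfl
  rw [h, ← map_pow, ← map_mul, Ne, Ideal.Quotient.eq_zero_iff_mem, Ideal.mem_span_singleton,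
    X_pow_dvd_iff]
  intro h0
  have := h0 r (Nat.lt_succ_self r)
  rw [coeff_C_mul, coeff_X_pow, if_pos rfl, mul_one] at this
  exact hc this

/-- the truncation map. -/
noncomputable def fac (l : ℕ) : T k (l + 1) →ₐ[k] T k l :=
  Ideal.Quotient.factorₐ k
    (Ideal.span_singleton_le_span_singleton.mpr (pow_dvd_pow (X : k[X]) (Nat.le_succ l)))

lemma fac_mk (l : ℕ) (p : k[X]) :
    fac k l (Ideal.Quotient.mk _ p) = Ideal.Quotient.mk _ p := rfl

lemma fac_tau (l : ℕ) : fac k l (τ k (l + 1)) = τ k l := rfl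

lemma fac_surjective (l : ℕ) : Function.Surjective (fac k l) := by
  intro y
  obtain ⟨p, rfl⟩ := Ideal.Quotient.mk_surjective y
  exact ⟨Ideal.Quotient.mk _ p, rfl⟩

lemma exists_of_fac_eq_zero (l : ℕ) (y : T k (l + 1)) (hy : fac k l y = 0) :
    ∃ w : T k (l + 1), y = (τ k (l + 1)) ^ l * w := by
  obtain ⟨p, rfl⟩ := Ideal.Quotient.mk_surjective y
  rw [fac_mk, Ideal.Quotient.eq_zero_iff_mem, Ideal.mem_span_singleton] at hy
  obtain ⟨q, rfl⟩ := hy
  refine ⟨Ideal.Quotient.mk _ q, ?_⟩
  unfold τ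
  rw [← map_pow, ← map_mul]

lemma isNilpotent_of_fac (l : ℕ) (hl : 1 ≤ l) (y : T k (l + 1)) (hy : IsNilpotent (fac k l y)) :
    IsNilpotent y := by
  obtain ⟨n, hn⟩ := hy
  rw [← map_pow] at hn
  obtain ⟨w, hw⟩ := exists_of_fac_eq_zero k l _ hn
  refine ⟨n * 2, ?_⟩
  rw [pow_mul, hw, mul_pow, ← pow_mul, tau_pow_of_le k (l + 1) (l * 2) (by omega), zero_mul]

lemma isNilpotent_tau_mul (l : ℕ) (z : T k l) : IsNilpotent (τ k l * z) :=
  ⟨l, by rw [mul_pow, tau_pow, zero_mul]⟩

/-- nilpotent elements are multiples of `τ`. -/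
lemma exists_eq_tau_mul_of_isNilpotent (l : ℕ) (y : T k l) (hy : IsNilpotent y) (hl : 1 ≤ l) :
    ∃ z : T k l, y = τ k l * z := by
  obtain ⟨c, z, rfl⟩ := exists_const k l y
  refine ⟨z, ?_⟩
  by_cases hc : c = 0
  · rw [hc, map_zero, zero_add]
  · exfalso
    have hu : IsUnit (algebraMap k (T k l) c) := (isUnit_iff_ne_zero.2 hc).map _
    have h1 : IsNilpotent (-(τ k l * z)) := (isNilpotent_tau_mul k l z).neg
    have h2 : IsUnit (algebraMap k (T k l) c + τ k l * z + -(τ k l * z)) := by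
      rw [add_neg_cancel_right]; exact hu
    have h3 : IsNilpotent (algebraMap k (T k l) c) := by
      have := Commute.isNilpotent_add (Commute.all _ _) hy h1
      rwa [add_neg_cancel_right] at this
    obtain ⟨n, hn⟩ := h3
    have h4 : IsUnit ((algebraMap k (T k l) c) ^ n) := hu.pow n
    rw [hn, isUnit_zero_iff] at h4
    -- `T k l` is nontrivial for `l ≥ 1`
    have h5 : (1 : k[X]) ∈ Ideal.span {(X : k[X]) ^ l} := by
      rw [← Ideal.Quotient.eq_zero_iff_mem, map_one]
      exact h4.symm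
    rw [Ideal.mem_span_singleton] at h5
    have h6 := (X_pow_dvd_iff.1 h5) 0 (by omega)
    simp at h6

end trunc

section maps

open MvPolynomial

variable {k : Type u} [Field k] {A : Type u} [CommRing A] [IsLocalRing A] [Algebra k A]
  {d : ℕ} (x : Fin d → A) (hx : Ideal.span (Set.range x) = maximalIdeal A)

include hx in
/-- an algebra map killing `𝔪^N` is computed on polynomial approximations. -/
lemma algHom_apply_eq_aeval {B : Type*} [CommRing B] [Algebra k B] (f : A →ₐ[k] B) (N : ℕ)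
    (hN : Ideal.span (Set.range (fun i => f (x i))) ^ N = ⊥) (a : A) (F : MvPolynomial (Fin d) k)
    (h : a - aeval x F ∈ maximalIdeal A ^ N) : f a = aeval (fun i => f (x i)) F := by
  have h1 := Ideal.mem_map_of_mem f.toRingHom h
  rw [Ideal.map_pow, ← hx, Ideal.map_span, ← Set.range_comp] at h1
  have h2 : (f.toRingHom ∘ x) = fun i => f (x i) := rfl
  rw [h2, hN, Ideal.mem_bot] at h1
  have h3 : f (a - aeval x F) = 0 := h1
  rw [map_sub, sub_eq_zero] at h3
  rw [h3]
  exact DFunLike.congr_fun (comp_aeval (R := k) x f) F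

/-- scaling the arguments of a homogeneous polynomial. -/
lemma aeval_mul_of_isHomogeneous {B : Type*} [CommRing B] [Algebra k B] {r : ℕ}
    (Φ : MvPolynomial (Fin d) k) (hΦ : Φ.IsHomogeneous r) (t : B) (y : Fin d → B) :
    aeval (fun i => t * y i) Φ = t ^ r * aeval y Φ := by
  rw [aeval_def, aeval_def, eval₂_eq', eval₂_eq', Finset.mul_sum]
  apply Finset.sum_congr rfl
  intro α hα
  have h1 : α.degree = r := by
    rw [Finsupp.degree_eq_weight_one]
    exact hΦ (mem_support_iff.1 hα)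
  have h2 : ∑ i, α i = r := by rw [← Finsupp.degree_eq_sum, h1]
  simp_rw [mul_pow]
  rw [Finset.prod_mul_distrib, Finset.prod_pow_eq_pow_sum, h2]
  ring

/-- evaluating a polynomial at a point congruent to a rational point. -/
lemma exists_aeval_add_mul {B : Type*} [CommRing B] [Algebra k B]
    (Φ : MvPolynomial (Fin d) k) (a : Fin d → k) (t : B) (u : Fin d → B) :
    ∃ w : B, aeval (fun i => algebraMap k B (a i) + t * u i) Φ =
      algebraMap k B (eval a Φ) + t * w := by
  induction Φ using MvPolynomial.induction_on with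
  | C c => exact ⟨0, by simp⟩
  | add p q hp hq =>
    obtain ⟨wp, hp⟩ := hp
    obtain ⟨wq, hq⟩ := hq
    exact ⟨wp + wq, by rw [map_add, map_add, hp, hq, map_add]; ring⟩
  | mul_X p i hp =>
    obtain ⟨wp, hp⟩ := hp
    refine ⟨algebraMap k B (eval a p) * u i + wp * algebraMap k B (a i) + wp * t * u i, ?_⟩
    rw [map_mul, map_mul, hp, aeval_X, eval_X, map_mul]
    ring

end maps

section presentation

/-- a minimal presentation of a local ring essentially of finite type over a field. -/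
theorem exists_min_presentation (k : Type u) [Field k] (R : Type u) [CommRing R] [IsLocalRing R]
    [Algebra k R] [Algebra.EssFiniteType k R] :
    ∃ (P : Type u) (_ : CommRing P) (_ : IsRegularLocalRing P) (_ : Algebra k P)
      (π : P →ₐ[k] R), Function.Surjective π ∧ RingHom.ker π ≤ maximalIdeal P ^ 2 := by
  obtain ⟨P₀, _, _, _, π₀, hπ₀⟩ := Groth.Agent.LibObs29.exists_presentation k R
  have hI₀ : RingHom.ker π₀ ≤ maximalIdeal P₀ :=
    IsLocalRing.le_maximalIdeal (RingHom.ker_ne_top _)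
  obtain ⟨𝔟, h𝔟I, hI𝔟, hreg⟩ := Groth.Agent.LibObs29.exists_regular_quotient P₀ (RingHom.ker π₀) hI₀
  let π : P₀ ⧸ 𝔟 →ₐ[k] R := Ideal.Quotient.liftₐ 𝔟 π₀ (fun x hx => h𝔟I hx)
  have hπ : Function.Surjective π := fun r => by
    obtain ⟨x, rfl⟩ := hπ₀ r
    exact ⟨Ideal.Quotient.mk 𝔟 x, rfl⟩
  have hkerπ : RingHom.ker π = (RingHom.ker π₀).map (Ideal.Quotient.mk 𝔟) :=
    Ideal.ker_quotient_lift (π₀ : P₀ →+* R) h𝔟I
  have hI2 : RingHom.ker π ≤ maximalIdeal (P₀ ⧸ 𝔟) ^ 2 := by
    rw [hkerπ]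
    have hmax : maximalIdeal (P₀ ⧸ 𝔟) = (maximalIdeal P₀).map (Ideal.Quotient.mk 𝔟) :=
      (IsLocalRing.map_maximalIdeal_of_surjective (Ideal.Quotient.mk 𝔟)
        Ideal.Quotient.mk_surjective).symm
    rw [hmax, ← Ideal.map_pow]
    calc (RingHom.ker π₀).map (Ideal.Quotient.mk 𝔟)
        ≤ (𝔟 ⊔ maximalIdeal P₀ ^ 2).map (Ideal.Quotient.mk 𝔟) := Ideal.map_mono hI𝔟
      _ = (maximalIdeal P₀ ^ 2).map (Ideal.Quotient.mk 𝔟) := by
        rw [Ideal.map_sup, Ideal.map_quotient_self, bot_sup_eq]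
  exact ⟨P₀ ⧸ 𝔟, inferInstance, hreg, inferInstance, π, hπ, hI2⟩

/-- the residue field of a finitely generated algebra over an algebraically closed field at a maximal ideal. -/
lemma exists_scalar_of_maximal (k : Type u) [Field k] [IsAlgClosed k] (A : Type u) [CommRing A]
    [Algebra k A] [Algebra.FiniteType k A] (m : Ideal A) [m.IsMaximal] (a : A) :
    ∃ c : k, a - algebraMap k A c ∈ m := by
  let _ : Field (A ⧸ m) := Ideal.Quotient.field m
  have hfin : Module.Finite k (A ⧸ m) := finite_of_finite_type_of_isJacobsonRing k (A ⧸ m)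
  have : Algebra.IsIntegral k (A ⧸ m) := Algebra.IsIntegral.of_finite k _
  obtain ⟨c, hc⟩ := (IsAlgClosed.algebraMap_bijective_of_isIntegral (k := k) (K := A ⧸ m)).2
    (Ideal.Quotient.mk m a)
  refine ⟨c, ?_⟩
  rw [← Ideal.Quotient.eq_zero_iff_mem, map_sub, sub_eq_zero, ← hc]
  rfl

lemma exists_scalar_localization (k : Type u) [Field k] [IsAlgClosed k] (A : Type u) [CommRing A]
    [Algebra k A] [Algebra.FiniteType k A] (m : Ideal A) [m.IsMaximal]
    (r : Localization.AtPrime m) :
    ∃ c : k, r - algebraMap k (Localization.AtPrime m) c ∈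
      maximalIdeal (Localization.AtPrime m) := by
  obtain ⟨y, hy⟩ := (IsLocalization.AtPrime.equivQuotMaximalIdeal m (Localization.AtPrime m)).surjective
    (Ideal.Quotient.mk _ r)
  obtain ⟨a, rfl⟩ := Ideal.Quotient.mk_surjective y
  rw [IsLocalization.AtPrime.equivQuotMaximalIdeal_apply_mk, Ideal.Quotient.eq] at hy
  obtain ⟨c, hc⟩ := exists_scalar_of_maximal k A m a
  refine ⟨c, ?_⟩
  have h1 : algebraMap A (Localization.AtPrime m) (a - algebraMap k A c) ∈
      maximalIdeal (Localization.AtPrime m) := by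
    rw [← Localization.AtPrime.map_eq_maximalIdeal]
    exact Ideal.mem_map_of_mem _ hc
  have h2 : r - algebraMap k (Localization.AtPrime m) c =
      algebraMap A (Localization.AtPrime m) (a - algebraMap k A c) -
        (algebraMap A (Localization.AtPrime m) a - r) := by
    rw [map_sub, ← IsScalarTower.algebraMap_apply k A (Localization.AtPrime m)]
    ring
  rw [h2]
  exact Ideal.sub_mem _ h1 hy

/-- factoring an algebra map through a surjection. -/
lemma exists_algHom_of_ker_le {k : Type u} [Field k] {P R B : Type u} [CommRing P] [CommRing R]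
    [CommRing B] [Algebra k P] [Algebra k R] [Algebra k B] (π : P →ₐ[k] R)
    (hπ : Function.Surjective π) (g₀ : P →ₐ[k] B) (h : ∀ y ∈ RingHom.ker π, g₀ y = 0) :
    ∃ φR : R →ₐ[k] B, ∀ y, φR (π y) = g₀ y := by
  let e := Ideal.quotientKerAlgEquivOfSurjective hπ
  refine ⟨(Ideal.Quotient.liftₐ (RingHom.ker π) g₀ h).comp
    (e.symm : R →ₐ[k] (P ⧸ RingHom.ker π)), fun y => ?_⟩
  have h1 : e (Ideal.Quotient.mk _ y) = π y := rfl
  rw [AlgHom.comp_apply, ← h1]
  have h2 : (e.symm : R →ₐ[k] (P ⧸ RingHom.ker π)) (e (Ideal.Quotient.mk _ y)) =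
      Ideal.Quotient.mk _ y := e.symm_apply_apply _
  rw [h2]
  rfl

end presentation

section params

open MvPolynomial Groth.Agent.Lib.helper11.QuasiReg

/-- a regular system of parameters, which is quasi-regular. -/
theorem exists_params (R : Type u) [CommRing R] [IsRegularLocalRing R] :
    ∃ (d : ℕ) (x : Fin d → R), Ideal.span (Set.range x) = maximalIdeal R ∧ QR x := by
  classical
  have hfg : (maximalIdeal R).FG := IsNoetherian.noetherian _
  obtain ⟨s, hs1, hs2⟩ := Submodule.FG.exists_span_finset_card_eq_spanFinrank hfg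
  obtain ⟨d, hd⟩ : ∃ d, (maximalIdeal R).spanFinrank = d := ⟨_, rfl⟩
  let e : Fin d ≃ s := (s.equivFinOfCardEq (hs1.trans hd)).symm
  let x : Fin d → R := fun j => (e j : R)
  have hx : Ideal.span (Set.range x) = maximalIdeal R := by
    rw [← hs2]
    congr 1
    ext a
    constructor
    · rintro ⟨j, rfl⟩
      exact (e j).2
    · intro ha
      exact ⟨e.symm ⟨a, ha⟩, by simp [x]⟩
  exact ⟨d, x, hx, QR_of_isWeaklyRegular d x
    (Groth.Agent.Lib.helper15.isWeaklyRegular_ofFn R d hd x hx)⟩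

/-- removing the lowest homogeneous component. -/
lemma sub_homogeneousComponent_mem {k : Type u} [Field k] {d : ℕ} (j : ℕ)
    (F : MvPolynomial (Fin d) k) (hF : F ∈ idealOfVars (Fin d) k ^ j) :
    F - homogeneousComponent j F ∈ idealOfVars (Fin d) k ^ (j + 1) := by
  rw [mem_pow_idealOfVars_iff']
  intro α hα
  rw [coeff_sub, coeff_homogeneousComponent]
  split_ifs with h
  · rw [sub_self]
  · have : α.degree < j := by omega
    rw [(mem_pow_idealOfVars_iff' j F).1 hF α this, sub_zero]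

end params

end Groth.Agent.LibJet29
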