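import Groth.Statements.S10909
import Groth.Agent.S12290
import Groth.Agent.S11311
import Groth.Agent.S2680
import Groth.Agent.LibJet29
-- import your own Groth.Agent.* helpers here

set_option autoImplicit false
universe u
open TensorProduct
open SmVar

namespace Groth.Agent.S10909

/-- the prime spectrum of `A/nil(A)` -/
noncomputable def specIso (A : Type u) [CommRing A] :
    PrimeSpectrum (A ⧸ nilradical A) ≃o PrimeSpectrum A :=
  { toEquiv := Equiv.ofBijective (PrimeSpectrum.comap (Ideal.Quotient.mk (nilradical A)))
      (PrimeSpectrum.comap_quotientMk_bijective_of_le_nilradical le_rfl)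
    map_rel_iff' := by
      intro p q
      simp only [Equiv.ofBijective_apply, ← PrimeSpectrum.asIdeal_le_asIdeal,
        PrimeSpectrum.comap_asIdeal]
      exact Ideal.comap_le_comap_iff_of_surjective _ Ideal.Quotient.mk_surjective _ _ }

lemma dim_localization_eq (k : Type u) [Field k] (A : Type u) [CommRing A] [Algebra k A]
    [Algebra.FiniteType k A] (hirr : (nilradical A).IsPrime) (n : ℕ) (hn : ringKrullDim A = n)
    (m : Ideal A) [m.IsMaximal] : ringKrullDim (Localization.AtPrime m) = n := by
  have : IsDomain (A ⧸ nilradical A) := Ideal.Quotient.isDomain _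
  obtain ⟨n', -, hdim, hloc⟩ := Groth.Agent.S2680.result k (A ⧸ nilradical A)
  have h1 : ringKrullDim (A ⧸ nilradical A) = ringKrullDim A :=
    Order.krullDim_eq_of_orderIso (specIso A)
  have hn' : n' = n := by
    rw [hdim, hn] at h1
    exact_mod_cast h1
  let q : PrimeSpectrum (A ⧸ nilradical A) := (specIso A).symm ⟨m, inferInstance⟩
  have hq' : specIso A q = ⟨m, inferInstance⟩ := (specIso A).apply_symm_apply _
  have hq : q.asIdeal.comap (Ideal.Quotient.mk (nilradical A)) = m :=
    congrArg PrimeSpectrum.asIdeal hq'
  have hqmax : q.asIdeal.IsMaximal := by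
    have h2 : q.asIdeal = m.map (Ideal.Quotient.mk (nilradical A)) := by
      rw [← hq, Ideal.map_comap_of_surjective _ Ideal.Quotient.mk_surjective]
    rcases Ideal.map_eq_top_or_isMaximal_of_surjective (Ideal.Quotient.mk (nilradical A))
      Ideal.Quotient.mk_surjective (inferInstance : m.IsMaximal) with h3 | h3
    · exact absurd (h2.trans h3) q.isPrime.ne_top
    · rw [h2]; exact h3
  have h3 := hloc q.asIdeal
  rw [IsLocalization.AtPrime.ringKrullDim_eq_height q.asIdeal,
    PrimeSpectrum.height_eq_orderHeight, ← Order.height_orderIso (specIso A), hq',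
    ← PrimeSpectrum.height_eq_orderHeight] at h3
  rw [IsLocalization.AtPrime.ringKrullDim_eq_height m, h3, hn']

lemma finrank_fibre_eq (k A : Type u) [Field k] [CommRing A] [Algebra k A] (m : Ideal A)
    [m.IsPrime] :
    Module.finrank (IsLocalRing.ResidueField (Localization.AtPrime m))
      (IsLocalRing.ResidueField (Localization.AtPrime m) ⊗[Localization.AtPrime m]
        Ω[Localization.AtPrime m⁄k]) =
    Module.finrank m.ResidueField (m.ResidueField ⊗[A] Ω[A⁄k]) := by
  have : Algebra.FormallyEtale A (Localization.AtPrime m) :=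
    Algebra.FormallyEtale.of_isLocalization m.primeCompl
  let e1 : Localization.AtPrime m ⊗[A] Ω[A⁄k] ≃ₗ[Localization.AtPrime m]
      Ω[Localization.AtPrime m⁄k] :=
    KaehlerDifferential.tensorKaehlerEquivOfFormallyEtale k A (Localization.AtPrime m)
  let e2 : m.ResidueField ⊗[Localization.AtPrime m] (Localization.AtPrime m ⊗[A] Ω[A⁄k])
      ≃ₗ[m.ResidueField] m.ResidueField ⊗[Localization.AtPrime m] Ω[Localization.AtPrime m⁄k] :=
    LinearEquiv.baseChange (Localization.AtPrime m) m.ResidueField _ _ e1
  let e3 : m.ResidueField ⊗[Localization.AtPrime m] (Localization.AtPrime m ⊗[A] Ω[A⁄k])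
      ≃ₗ[m.ResidueField] m.ResidueField ⊗[A] Ω[A⁄k] :=
    AlgebraTensorModule.cancelBaseChange A (Localization.AtPrime m) m.ResidueField
      m.ResidueField Ω[A⁄k]
  exact (e2.symm.trans e3).finrank_eq

lemma residue_bijective (k A : Type u) [Field k] [IsAlgClosed k] [CommRing A] [Algebra k A]
    [Algebra.FiniteType k A] (m : Ideal A) [m.IsMaximal] :
    Function.Bijective (algebraMap k (IsLocalRing.ResidueField (Localization.AtPrime m))) := by
  refine ⟨(algebraMap k _).injective, fun y => ?_⟩
  obtain ⟨r, rfl⟩ := IsLocalRing.residue_surjective y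
  obtain ⟨c, hc⟩ := Groth.Agent.LibJet29.exists_scalar_localization k A m r
  refine ⟨c, ?_⟩
  rw [IsScalarTower.algebraMap_apply k (Localization.AtPrime m) (IsLocalRing.ResidueField _),
    IsLocalRing.ResidueField.algebraMap_eq]
  symm
  rw [← sub_eq_zero, ← map_sub, ← RingHom.mem_ker, IsLocalRing.ker_residue]
  exact hc

lemma regular_iff_finrank (k A : Type u) [Field k] [IsAlgClosed k] [CommRing A] [Algebra k A]
    [Algebra.FiniteType k A] (m : Ideal A) [m.IsMaximal] (n : ℕ)
    (hdim : ringKrullDim (Localization.AtPrime m) = n) :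
    IsRegularLocalRing (Localization.AtPrime m) ↔
      Module.finrank m.ResidueField (m.ResidueField ⊗[A] Ω[A⁄k]) = n := by
  have hN : IsNoetherianRing A := Algebra.FiniteType.isNoetherianRing k A
  rw [IsRegularLocalRing.iff_finrank_cotangentSpace,
    Groth.Agent.S11311.finrank_cot_eq k _ (residue_bijective k A m), finrank_fibre_eq, hdim]
  exact_mod_cast Iff.rfl


/-- Let k be an algebraically closed field and A a k-algebra of finite type with irreducible spectrum
(the nilradical of A is prime) and Krull dimension n; X = Spec A is then an irreducible separated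
k-scheme of finite type of dimension n. Then X is a nonsingular variety — A is reduced and every
localization of A at a prime is a regular local ring — if and only if the module of Kähler
differentials Ω_{A/k} is locally free of rank n: projective, with fibre κ(P) ⊗_A Ω_{A/k} of
dimension n at every prime P. -/
theorem result (k : Type u) [Field k]
    [IsAlgClosed k] (A : Type u) [CommRing A] [Algebra k A] [Algebra.FiniteType k A]
    (hirr : (nilradical A).IsPrime) (n : ℕ) (hn : ringKrullDim A = n) :
    (IsReduced A ∧ IsRegularRing A) ↔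
      (Module.Projective A (Ω[A⁄k]) ∧
        ∀ (P : Ideal A) [P.IsPrime],
          Module.finrank P.ResidueField (P.ResidueField ⊗[A] Ω[A⁄k]) = n) := by
  have hN : IsNoetherianRing A := Algebra.FiniteType.isNoetherianRing k A
  have hfp : Algebra.FinitePresentation k A :=
    Algebra.FinitePresentation.of_finiteType.mp inferInstance
  constructor
  · rintro ⟨hred, hreg⟩
    have hfs : Algebra.FormallySmooth k A :=
      (Groth.Agent.S12290.formallySmooth_iff_regular k A).mpr (isRegularRing_iff.mp hreg)
    have hproj : Module.Projective A Ω[A⁄k] := inferInstance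
    refine ⟨hproj, fun P hP => ?_⟩
    obtain ⟨m, hm, hle⟩ := Ideal.exists_le_maximal P hP.ne_top
    have h1 := Ideal.finrank_fiber_eq_rankAtStalk (M := Ω[A⁄k]) P
    have h2 := Ideal.finrank_fiber_eq_rankAtStalk (M := Ω[A⁄k]) m
    have h3 := Module.rankAtStalk_eq_of_le_of_finite_of_flat' Ω[A⁄k] hle
    have h4 := (regular_iff_finrank k A m n (dim_localization_eq k A hirr n hn m)).mp
      (isRegularRing_iff.mp hreg m)
    exact h1.trans (h3.trans (h2.symm.trans h4))
  · rintro ⟨hproj, hrank⟩
    have hregm : ∀ (m : Ideal A) [m.IsMaximal], IsRegularLocalRing (Localization.AtPrime m) :=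
      fun m _ => (regular_iff_finrank k A m n (dim_localization_eq k A hirr n hn m)).mpr (hrank m)
    have h1 : Algebra.smoothLocus k A = Set.univ := by
      by_contra hne
      obtain ⟨p, hp⟩ := (Set.ne_univ_iff_exists_notMem _).mp hne
      obtain ⟨m, hm, hle⟩ := Ideal.exists_le_maximal p.asIdeal p.isPrime.ne_top
      have hgr : Algebra.IsGeometricallyReduced k m.ResidueField :=
        Groth.Agent.Lib.helper3.GeomRed.isGeometricallyReduced_of_perfectField k _
      have hmem : (⟨m, hm.isPrime⟩ : PrimeSpectrum A) ∈ Algebra.smoothLocus k A :=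
        (Groth.Agent.S9442.result k A m).mpr (hregm m)
      have hspec : p ⤳ ⟨m, hm.isPrime⟩ := (PrimeSpectrum.le_iff_specializes _ _).mp hle
      exact hp (hspec.mem_open Algebra.isOpen_smoothLocus hmem)
    have hfs : Algebra.FormallySmooth k A := Algebra.smoothLocus_eq_univ_iff.mp h1
    have hreg := (Groth.Agent.S12290.formallySmooth_iff_regular k A).mp hfs
    refine ⟨?_, isRegularRing_iff.mpr hreg⟩
    refine isReduced_ofLocalizationMaximal A fun m hm => ?_
    have := hreg m
    have := Groth.Agent.Lib.helper15.isDomain_of_isRegularLocalRing (Localization.AtPrime m)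
    infer_instance

end Groth.Agent.S10909
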