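import Mathlib
import Groth.Prelude
import Groth.Agent.S10909
import Groth.Agent.Lib.Helper7.OmegaQCoh
import Groth.Agent.Lib.Helper16.FLF8
import Groth.Agent.Lib.Helper16.FLF5
import Groth.Agent.Lib.Helper3.IrredDim

/-!
# Sheaves of differentials over a field and regularity (helper29)

Bridges between a universal derivation `d : O_X → Ω` on a scheme `X` over a field `k` and the modules
of Kähler differentials of the coordinate rings `Γ(X, U)` of affine opens, seen as `k`-algebras through
helper3's `sec k X U`.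
-/

set_option autoImplicit false
set_option linter.style.haveILetI false
universe u

open CategoryTheory AlgebraicGeometry TensorProduct
open Groth.Agent.Lib.helper3.FTField

namespace Groth.Agent.LibOmegaReg29

/-- `Ω[A⁄R] → Ω[A⁄S]` is bijective when `R → S` is surjective. -/
theorem kaehler_map_bijective_of_surjective (R S A : Type*) [CommRing R] [CommRing S] [CommRing A]
    [Algebra R S] [Algebra R A] [Algebra S A] [IsScalarTower R S A]
    (h : Function.Surjective (algebraMap R S)) :
    Function.Bijective (KaehlerDifferential.map R S A A) := by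
  refine ⟨?_, KaehlerDifferential.map_surjective R S A⟩
  rw [← LinearMap.ker_eq_bot, ← KaehlerDifferential.range_mapBaseChange R S A, eq_bot_iff]
  rintro _ ⟨x, rfl⟩
  haveI := KaehlerDifferential.subsingleton_of_surjective R S h
  haveI : Subsingleton (A ⊗[S] Ω[S⁄R]) := by
    refine ⟨fun a b => ?_⟩
    have h0 : ∀ z : A ⊗[S] Ω[S⁄R], z = 0 := by
      intro z
      induction z with
      | zero => rfl
      | tmul a w => rw [Subsingleton.elim w 0, TensorProduct.tmul_zero]
      | add a b ha hb => rw [ha, hb, add_zero]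
    rw [h0 a, h0 b]
  rw [Subsingleton.elim x 0, map_zero]
  exact Submodule.zero_mem _

variable (k : Type u) [Field k] (X : Scheme.{u}) [X.Over (Spec (CommRingCat.of k))]

/-- **Sections of a universal receptacle of differentials over an affine open are the Kähler
differentials of the coordinate ring over `k`.** -/
theorem exists_sectionsEquiv_sec {Ω : X.Modules}
    (d : OmegaSh.Der (X ↘ Spec (CommRingCat.of k)) Ω) (hd : OmegaSh.IsUniversal d)
    {U : X.Opens} (hU : IsAffineOpen U) :
    letI := (sec k X U).toAlgebra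
    Nonempty (Γ(Ω, U) ≃ₗ[Γ(X, U)] Ω[Γ(X, U)⁄k]) := by
  have e : U ≤ (X ↘ Spec (CommRingCat.of k)) ⁻¹ᵁ ⊤ := by simp
  obtain ⟨ψ, -⟩ := Groth.Agent.Lib.helper7.OmegaStruct.exists_sectionsEquiv
    (X ↘ Spec (CommRingCat.of k)) d hd hU (isAffineOpen_top _) e
  letI algKA : Algebra Γ(Spec (CommRingCat.of k), ⊤) Γ(X, U) :=
    ((X ↘ Spec (CommRingCat.of k)).appLE ⊤ U e).hom.toAlgebra
  letI algkA : Algebra k Γ(X, U) := (sec k X U).toAlgebra
  letI algkK : Algebra k Γ(Spec (CommRingCat.of k), ⊤) :=
    (Scheme.ΓSpecIso (CommRingCat.of k)).inv.hom.toAlgebra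
  haveI : IsScalarTower k Γ(Spec (CommRingCat.of k), ⊤) Γ(X, U) := by
    refine IsScalarTower.of_algebraMap_eq' ?_
    change sec k X U = _
    rw [sec_eq_appLE]
    rfl
  have hsurj : Function.Surjective (algebraMap k Γ(Spec (CommRingCat.of k), ⊤)) :=
    (ConcreteCategory.bijective_of_isIso (Scheme.ΓSpecIso (CommRingCat.of k)).inv).surjective
  have hbij := kaehler_map_bijective_of_surjective k Γ(Spec (CommRingCat.of k), ⊤) Γ(X, U) hsurj
  exact ⟨ψ ≪≫ₗ (LinearEquiv.ofBijective _ hbij).symm⟩

section irr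

open Groth.Agent.Lib.helper3.IrredDim Groth.Agent.Lib.helper3.DimIneq

variable [LocallyOfFiniteType (X ↘ Spec (CommRingCat.of k))] [IrreducibleSpace X]

omit [LocallyOfFiniteType (X ↘ Spec (CommRingCat.of k))] [X.Over (Spec (CommRingCat.of k))] in
/-- the coordinate ring of a nonempty affine open of an irreducible scheme has prime nilradical -/
theorem isPrime_nilradical_sections {U : X.Opens} (hU : IsAffineOpen U) (x : X) (hx : x ∈ U) :
    (nilradical Γ(X, U)).IsPrime := by
  rw [← PrimeSpectrum.irreducibleSpace_iff_isPrime_nilradical]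
  haveI : Nonempty (Spec Γ(X, U)) := ⟨hU.primeIdealOf ⟨x, hx⟩⟩
  exact (hU.fromSpec.isOpenEmbedding).irreducibleSpace

omit [LocallyOfFiniteType (X ↘ Spec (CommRingCat.of k))] [X.Over (Spec (CommRingCat.of k))]
  [IrreducibleSpace X] in
theorem primeIdealOf_fromSpec {U : X.Opens} (hU : IsAffineOpen U) (y : Spec Γ(X, U))
    (hy : hU.fromSpec y ∈ U) : hU.primeIdealOf ⟨hU.fromSpec y, hy⟩ = y := by
  apply hU.fromSpec.isOpenEmbedding.injective
  exact hU.fromSpec_primeIdealOf ⟨hU.fromSpec y, hy⟩

omit [LocallyOfFiniteType (X ↘ Spec (CommRingCat.of k))] [X.Over (Spec (CommRingCat.of k))]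
  [IrreducibleSpace X] in
theorem fromSpec_mem {U : X.Opens} (hU : IsAffineOpen U) (y : Spec Γ(X, U)) :
    hU.fromSpec y ∈ U := by
  have : hU.fromSpec y ∈ Set.range hU.fromSpec := ⟨y, rfl⟩
  rw [hU.range_fromSpec] at this
  exact this

variable (n : ℕ) (hn : topologicalKrullDim X = (n : WithBot ℕ∞))

include k hn in
/-- all maximal ideals of the coordinate ring of an affine open of an irreducible scheme of
dimension `n`, locally of finite type over a field, have height `n`. -/
theorem height_eq_of_isMaximal {U : X.Opens} (hU : IsAffineOpen U) (m : Ideal Γ(X, U))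
    [hm : m.IsMaximal] : (m.height : WithBot ℕ∞) = n := by
  let y : Spec Γ(X, U) := ⟨m, hm.isPrime⟩
  have hy : hU.fromSpec y ∈ U := fromSpec_mem X hU y
  have hy' : hU.primeIdealOf ⟨hU.fromSpec y, hy⟩ = y := primeIdealOf_fromSpec X hU y hy
  obtain ⟨d, hd1, hd2⟩ := exists_dim_eq_localDim_of_irreducible k X
  have hdn : d = n := by
    rw [hn] at hd1
    exact_mod_cast hd1.symm
  subst hdn
  obtain ⟨a, b, ha, hb, hl⟩ := localDim_eq_trdeg_add_stalk k X (hU.fromSpec y)
  have hmax : (hU.primeIdealOf ⟨hU.fromSpec y, hy⟩).asIdeal.IsMaximal := by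
    rw [hy']; exact hm
  have h0 := trdeg_residueField_eq_zero_of_isMaximal k X hU (hU.fromSpec y) hy hmax
  rw [h0] at ha
  have ha0 : a = 0 := by exact_mod_cast ha.symm
  subst ha0
  rw [hd2, zero_add] at hl
  have hdb : d = b := by exact_mod_cast hl
  have h1 := ringKrullDim_stalk_eq_height hU (hU.fromSpec y) hy
  rw [hy', hb] at h1
  rw [hdb]
  exact h1.symm

include k hn in
theorem ringKrullDim_sections {U : X.Opens} (hU : IsAffineOpen U) (x : X) (hx : x ∈ U) :
    ringKrullDim Γ(X, U) = (n : WithBot ℕ∞) := by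
  apply le_antisymm
  · rw [ringKrullDim_le_iff_isMaximal_height_le]
    intro m hm
    exact (height_eq_of_isMaximal k X n hn hU m).le
  · haveI : Nontrivial Γ(X, U) := (hU.primeIdealOf ⟨x, hx⟩).nontrivial
    obtain ⟨m, hm⟩ := Ideal.exists_maximal Γ(X, U)
    rw [← height_eq_of_isMaximal k X n hn hU m]
    exact Ideal.height_le_ringKrullDim_of_ne_top hm.ne_top

end irr

section main

open Groth.Agent.Lib.helper16.FLF

variable [IsAlgClosed k] [LocallyOfFiniteType (X ↘ Spec (CommRingCat.of k))] [IrreducibleSpace X]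
  (n : ℕ) (hn : topologicalKrullDim X = (n : WithBot ℕ∞))

omit [IsAlgClosed k] [LocallyOfFiniteType (X ↘ Spec (CommRingCat.of k))] [IrreducibleSpace X]
  [X.Over (Spec (CommRingCat.of k))] [Field k] in
/-- regularity of the stalk at a point of an affine open, in terms of the coordinate ring -/
theorem isRegularLocalRing_stalk_iff {U : X.Opens} (hU : IsAffineOpen U) (x : X) (hx : x ∈ U) :
    IsRegularLocalRing (X.presheaf.stalk x) ↔
      IsRegularLocalRing (Localization.AtPrime (hU.primeIdealOf ⟨x, hx⟩).asIdeal) := by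
  letI : Algebra Γ(X, U) (X.presheaf.stalk x) :=
    TopCat.Presheaf.algebra_section_stalk X.presheaf ⟨x, hx⟩
  haveI := hU.isLocalization_stalk ⟨x, hx⟩
  let e : Localization.AtPrime (hU.primeIdealOf ⟨x, hx⟩).asIdeal ≃ₐ[Γ(X, U)] X.presheaf.stalk x :=
    IsLocalization.algEquiv (hU.primeIdealOf ⟨x, hx⟩).asIdeal.primeCompl _ _
  exact ⟨fun h => IsRegularLocalRing.of_ringEquiv e.symm.toRingEquiv,
    fun h => IsRegularLocalRing.of_ringEquiv e.toRingEquiv⟩

include hn in
/-- the coordinate ring of an affine open containing `x` satisfies the hypotheses of `S10909` -/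
theorem sections_iff {U : X.Opens} (hU : IsAffineOpen U) (x : X) (hx : x ∈ U) :
    letI := (sec k X U).toAlgebra
    (IsReduced Γ(X, U) ∧ IsRegularRing Γ(X, U)) ↔
      (Module.Projective Γ(X, U) (Ω[Γ(X, U)⁄k]) ∧
        ∀ (P : Ideal Γ(X, U)) [P.IsPrime],
          Module.finrank P.ResidueField (P.ResidueField ⊗[Γ(X, U)] Ω[Γ(X, U)⁄k]) = n) := by
  letI := (sec k X U).toAlgebra
  haveI : Algebra.FiniteType k Γ(X, U) := sec_finiteType k X hU
  exact Groth.Agent.S10909.result k Γ(X, U) (isPrime_nilradical_sections X hU x hx) n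
    (ringKrullDim_sections k X n hn hU x hx)

include hn in
theorem regular_of_isFinLocFreeOfRank {Ω : X.Modules}
    (d : OmegaSh.Der (X ↘ Spec (CommRingCat.of k)) Ω) (hd : OmegaSh.IsUniversal d)
    (hΩ : FlatMod.IsFinLocFreeOfRank n Ω) (x : X) : IsRegularLocalRing (X.presheaf.stalk x) := by
  obtain ⟨U, hU, hxU, -, ⟨e⟩⟩ := exists_affine_free_sections_of_isFinLocFreeOfRank Ω hΩ x
  letI := (sec k X U).toAlgebra
  obtain ⟨ψ⟩ := exists_sectionsEquiv_sec k X d hd hU
  let e' : Ω[Γ(X, U)⁄k] ≃ₗ[Γ(X, U)] (Fin n → Γ(X, U)) := ψ.symm ≪≫ₗ e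
  haveI : Nontrivial Γ(X, U) := (hU.primeIdealOf ⟨x, hxU⟩).nontrivial
  haveI hfree : Module.Free Γ(X, U) Ω[Γ(X, U)⁄k] := Module.Free.of_equiv e'.symm
  haveI : Module.Finite Γ(X, U) Ω[Γ(X, U)⁄k] := Module.Finite.equiv e'.symm
  have hrk : Module.finrank Γ(X, U) Ω[Γ(X, U)⁄k] = n := by
    rw [LinearEquiv.finrank_eq e', Module.finrank_pi]
    simp
  have h := (sections_iff k X n hn hU x hxU).mpr ⟨inferInstance, fun P hP => by
    rw [Module.finrank_baseChange, hrk]⟩
  rw [isRegularLocalRing_stalk_iff X hU x hxU]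
  haveI := h.2
  exact IsRegularRing.isRegularLocalRing_localization _

include hn in
theorem isFinLocFreeOfRank_of_regular {Ω : X.Modules}
    (d : OmegaSh.Der (X ↘ Spec (CommRingCat.of k)) Ω) (hd : OmegaSh.IsUniversal d)
    (hreg : ∀ x : X, IsRegularLocalRing (X.presheaf.stalk x)) :
    FlatMod.IsFinLocFreeOfRank n Ω := by
  haveI : Ω.IsQuasicoherent :=
    Groth.Agent.Lib.helper7.OmegaQCoh.isQuasicoherent_of_isUniversal _ d hd
  -- the coordinate rings are reduced regular rings
  have key : ∀ {U : X.Opens} (hU : IsAffineOpen U) (x : X) (hx : x ∈ U),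
      letI := (sec k X U).toAlgebra
      (Module.Projective Γ(X, U) (Ω[Γ(X, U)⁄k]) ∧
        ∀ (P : Ideal Γ(X, U)) [P.IsPrime],
          Module.finrank P.ResidueField (P.ResidueField ⊗[Γ(X, U)] Ω[Γ(X, U)⁄k]) = n) := by
    intro U hU x hx
    letI := (sec k X U).toAlgebra
    haveI : Algebra.FiniteType k Γ(X, U) := sec_finiteType k X hU
    haveI hN : IsNoetherianRing Γ(X, U) := Algebra.FiniteType.isNoetherianRing k Γ(X, U)
    have hregP : ∀ (P : Ideal Γ(X, U)) [P.IsPrime], IsRegularLocalRing (Localization.AtPrime P) := by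
      intro P hP
      let y : Spec Γ(X, U) := ⟨P, hP⟩
      have hy : hU.fromSpec y ∈ U := fromSpec_mem X hU y
      have hy' : hU.primeIdealOf ⟨hU.fromSpec y, hy⟩ = y := primeIdealOf_fromSpec X hU y hy
      have h1 := (isRegularLocalRing_stalk_iff X hU (hU.fromSpec y) hy).mp (hreg _)
      rw [hy'] at h1
      exact h1
    refine (sections_iff k X n hn hU x hx).mp ⟨?_, isRegularRing_iff.mpr hregP⟩
    refine isReduced_ofLocalizationMaximal Γ(X, U) fun m hm => ?_
    have := hregP m
    have := Groth.Agent.Lib.helper15.isDomain_of_isRegularLocalRing (Localization.AtPrime m)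
    infer_instance
  have hflf : FlatMod.IsFinLocFree Ω := by
    rw [isFinLocFree_iff_projective_sections]
    intro U
    by_cases hne : (U.1 : Set X).Nonempty
    · obtain ⟨x, hx⟩ := hne
      letI := (sec k X U.1).toAlgebra
      haveI : Algebra.FiniteType k Γ(X, U.1) := sec_finiteType k X U.2
      obtain ⟨ψ⟩ := exists_sectionsEquiv_sec k X d hd U.2
      haveI := (key U.2 x hx).1
      haveI : Algebra.FinitePresentation k Γ(X, U.1) :=
        Algebra.FinitePresentation.of_finiteType.mp inferInstance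
      haveI : Module.Finite Γ(X, U.1) Ω[Γ(X, U.1)⁄k] := inferInstance
      exact ⟨Module.Finite.equiv ψ.symm, Module.Projective.of_equiv ψ.symm⟩
    · have hbot : U.1 = ⊥ := by
        ext y
        simp only [TopologicalSpace.Opens.coe_bot, Set.mem_empty_iff_false, iff_false]
        exact fun hy => hne ⟨y, hy⟩
      haveI : Subsingleton Γ(X, U.1) := by rw [hbot]; infer_instance
      haveI : Subsingleton Γ(Ω, U.1) := Module.subsingleton Γ(X, U.1) _
      exact ⟨inferInstance, inferInstance⟩
  rw [isFinLocFreeOfRank_iff_sections]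
  intro x
  obtain ⟨U, m, hU, hxU, -, ⟨e⟩⟩ := exists_affine_free_sections_of_isFinLocFree Ω hflf x
  letI := (sec k X U).toAlgebra
  obtain ⟨ψ⟩ := exists_sectionsEquiv_sec k X d hd hU
  let e' : Ω[Γ(X, U)⁄k] ≃ₗ[Γ(X, U)] (Fin m → Γ(X, U)) := ψ.symm ≪≫ₗ e
  haveI : Nontrivial Γ(X, U) := (hU.primeIdealOf ⟨x, hxU⟩).nontrivial
  haveI hfree : Module.Free Γ(X, U) Ω[Γ(X, U)⁄k] := Module.Free.of_equiv e'.symm
  haveI : Module.Finite Γ(X, U) Ω[Γ(X, U)⁄k] := Module.Finite.equiv e'.symm
  have hrk : Module.finrank Γ(X, U) Ω[Γ(X, U)⁄k] = m := by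
    rw [LinearEquiv.finrank_eq e', Module.finrank_pi]
    simp
  have h2 := (key hU x hxU).2 (hU.primeIdealOf ⟨x, hxU⟩).asIdeal
  rw [Module.finrank_baseChange, hrk] at h2
  subst h2
  exact ⟨U, hU, hxU, ⟨e⟩⟩

include hn in
/-- **Hartshorne II.8.15**: on an irreducible scheme of dimension `n`, locally of finite type over an
algebraically closed field, a sheaf of differentials is locally free of rank `n` iff all local rings
are regular. -/
theorem isFinLocFreeOfRank_iff_regular {Ω : X.Modules}
    (d : OmegaSh.Der (X ↘ Spec (CommRingCat.of k)) Ω) (hd : OmegaSh.IsUniversal d) :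
    FlatMod.IsFinLocFreeOfRank n Ω ↔ ∀ x : X, IsRegularLocalRing (X.presheaf.stalk x) :=
  ⟨fun h x => regular_of_isFinLocFreeOfRank k X n hn d hd h x,
    fun h => isFinLocFreeOfRank_of_regular k X n hn d hd h⟩

end main

end Groth.Agent.LibOmegaReg29
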