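import Mathlib
import Groth.Agent.LibJZ29

/-!
# Smoothness in a tower from a rank count (helper29)

* `injective_of_surjective_of_rankAtStalk_eq` : a surjection of finite projective modules with the
  same rank function is injective.
* `formallySmooth_of_rank` : `R → S → T` with `T` formally smooth over `R`, `Ω[T/S]` projective,
  all modules of differentials finite, `T ⊗ Ω[S/R]` projective and
  `rank (T ⊗ Ω[S/R]) + rank Ω[T/S] = rank Ω[T/R]` ⇒ `T` is formally smooth over `S`.
-/

set_option autoImplicit false

namespace Groth.Agent.LibSmoothTower29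

open TensorProduct KaehlerDifferential Algebra Module

universe u

/-- a surjection onto a projective module splits: retraction onto the kernel and product
decomposition -/
theorem exists_retraction_ker {R : Type u} [CommRing R]
    {P K : Type u} [AddCommGroup P] [Module R P] [AddCommGroup K] [Module R K]
    [Module.Projective R K] (g : P →ₗ[R] K) (hg : Function.Surjective g) :
    ∃ (r : P →ₗ[R] LinearMap.ker g) (_ : P ≃ₗ[R] LinearMap.ker g × K),
      r ∘ₗ (LinearMap.ker g).subtype = LinearMap.id := by
  obtain ⟨s, hs⟩ := Module.projective_lifting_property g LinearMap.id hg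
  have hex : Function.Exact (LinearMap.ker g).subtype g := LinearMap.exact_subtype_ker_map g
  have hinj : Function.Injective (LinearMap.ker g).subtype := Subtype.val_injective
  obtain ⟨e, he1, he2⟩ := hex.splitSurjectiveEquiv hinj ⟨s, hs⟩
  refine ⟨(LinearMap.fst R _ _) ∘ₗ e.toLinearMap, e, ?_⟩
  ext x
  have := LinearMap.congr_fun he1 x
  simp only [LinearMap.comp_apply, LinearEquiv.coe_coe, LinearMap.inl_apply,
    Submodule.subtype_apply] at this
  have h2 : e (x : P) = (x, 0) := by
    rw [this, LinearEquiv.apply_symm_apply]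
  simp only [LinearMap.comp_apply, LinearEquiv.coe_coe, Submodule.subtype_apply,
    LinearMap.fst_apply, LinearMap.id_apply]
  rw [h2]

/-- the kernel of a surjection of finite projective modules is finite projective and ranks add -/
theorem ker_finite_projective {R : Type u} [CommRing R]
    {P K : Type u} [AddCommGroup P] [Module R P] [AddCommGroup K] [Module R K]
    [Module.Finite R P] [Module.Projective R P] [Module.Finite R K] [Module.Projective R K]
    (g : P →ₗ[R] K) (hg : Function.Surjective g) :
    Module.Finite R (LinearMap.ker g) ∧ Module.Projective R (LinearMap.ker g) ∧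
      Module.rankAtStalk (R := R) P =
        Module.rankAtStalk (LinearMap.ker g) + Module.rankAtStalk K := by
  obtain ⟨r, e, hr1⟩ := exists_retraction_ker g hg
  haveI : Module.Projective R (LinearMap.ker g) :=
    Module.Projective.of_split (LinearMap.ker g).subtype r hr1
  haveI : Module.Finite R (LinearMap.ker g) :=
    Module.Finite.of_surjective r (fun x => ⟨x.1, LinearMap.congr_fun hr1 x⟩)
  refine ⟨inferInstance, inferInstance, ?_⟩
  rw [Module.rankAtStalk_eq_of_equiv e, Module.rankAtStalk_prod]

theorem injective_of_surjective_of_rankAtStalk_eq {R : Type u} [CommRing R]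
    {P K : Type u} [AddCommGroup P] [Module R P] [AddCommGroup K] [Module R K]
    [Module.Finite R P] [Module.Projective R P] [Module.Finite R K] [Module.Projective R K]
    (g : P →ₗ[R] K) (hg : Function.Surjective g)
    (hr : Module.rankAtStalk (R := R) P = Module.rankAtStalk K) : Function.Injective g := by
  obtain ⟨hfin, hproj, h1⟩ := ker_finite_projective g hg
  have h2 : Module.rankAtStalk (R := R) (LinearMap.ker g) = 0 := by
    rw [hr] at h1
    ext p
    have := congrFun h1 p
    simp only [Pi.add_apply] at this
    simp only [Pi.zero_apply]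
    omega
  haveI : Subsingleton (LinearMap.ker g) := Module.rankAtStalk_eq_zero_iff_subsingleton.mp h2
  rw [← LinearMap.ker_eq_bot]
  exact Submodule.eq_bot_of_subsingleton

variable (R S T : Type u) [CommRing R] [CommRing S] [CommRing T] [Algebra R S] [Algebra S T]
  [Algebra R T] [IsScalarTower R S T]

/-- **Smoothness in a tower by a rank count.** -/
theorem formallySmooth_of_rank [Algebra.FormallySmooth R T]
    [Module.Finite T Ω[T⁄R]] [Module.Finite T (T ⊗[S] Ω[S⁄R])]
    [Module.Projective T (T ⊗[S] Ω[S⁄R])] [Module.Projective T Ω[T⁄S]]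
    (hrk : Module.rankAtStalk (R := T) (T ⊗[S] Ω[S⁄R]) + Module.rankAtStalk (R := T) Ω[T⁄S] =
      Module.rankAtStalk (R := T) Ω[T⁄R]) :
    Algebra.FormallySmooth S T := by
  have hprojRT : Module.Projective T Ω[T⁄R] :=
    ((Algebra.formallySmooth_iff R T).mp inferInstance).1
  set ψ : Ω[T⁄R] →ₗ[T] Ω[T⁄S] := KaehlerDifferential.map R S T T with hψ
  set φ : T ⊗[S] Ω[S⁄R] →ₗ[T] Ω[T⁄R] := mapBaseChange R S T with hφ
  have hex : Function.Exact φ ψ := exact_mapBaseChange_map R S T
  have hsurj : Function.Surjective ψ := KaehlerDifferential.map_surjective R S T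
  haveI : Module.Finite T Ω[T⁄S] := Module.Finite.of_surjective ψ hsurj
  obtain ⟨hfin, hproj, h1⟩ := ker_finite_projective ψ hsurj
  obtain ⟨r, -, hr1⟩ := exists_retraction_ker ψ hsurj
  -- the corestriction of `φ` to `ker ψ`
  let φ' : T ⊗[S] Ω[S⁄R] →ₗ[T] LinearMap.ker ψ :=
    φ.codRestrict (LinearMap.ker ψ) (fun x => hex.apply_apply_eq_zero x)
  have hφ'surj : Function.Surjective φ' := by
    rintro ⟨y, hy⟩
    obtain ⟨x, rfl⟩ := (hex y).mp hy
    exact ⟨x, rfl⟩
  have hrk' : Module.rankAtStalk (R := T) (T ⊗[S] Ω[S⁄R]) =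
      Module.rankAtStalk (LinearMap.ker ψ) := by
    ext p
    have e1 := congrFun h1 p
    have e2 := congrFun hrk p
    simp only [Pi.add_apply] at e1 e2
    omega
  have hφ'inj : Function.Injective φ' :=
    injective_of_surjective_of_rankAtStalk_eq φ' hφ'surj hrk'
  let E : T ⊗[S] Ω[S⁄R] ≃ₗ[T] LinearMap.ker ψ := LinearEquiv.ofBijective φ' ⟨hφ'inj, hφ'surj⟩
  rw [Groth.Agent.LibJZ29.formallySmooth_tower_iff R S T]
  refine ⟨E.symm.toLinearMap ∘ₗ r, LinearMap.ext fun x => ?_⟩
  have h3 : φ x = (LinearMap.ker ψ).subtype (E x) := rfl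
  simp only [LinearMap.comp_apply, LinearEquiv.coe_coe, LinearMap.id_apply]
  rw [← hφ, h3]
  have h4 := LinearMap.congr_fun hr1 (E x)
  simp only [LinearMap.comp_apply, LinearMap.id_apply] at h4
  rw [h4, LinearEquiv.symm_apply_apply]

end Groth.Agent.LibSmoothTower29
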