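import Mathlib
import Groth.Prelude
import Groth.Agent.LibOmegaReg29a
import Groth.Agent.LibSmoothTower29a
import Groth.Agent.Lib.Helper16.FLF9
import Groth.Agent.Lib.Helper24.SmoothRegular

/-!
# Smooth morphisms between smooth varieties and the sheaf of relative differentials (helper29)
-/

set_option autoImplicit false
set_option linter.style.haveILetI false
universe u

open CategoryTheory AlgebraicGeometry TensorProduct
open Groth.Agent.Lib.helper3.FTField

namespace Groth.Agent.LibSmoothTower29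

section overField

variable (k : Type u) [Field k] (X : Scheme.{u}) [X.Over (Spec (CommRingCat.of k))]

/-- the coordinate rings of a smooth `k`-scheme are smooth `k`-algebras -/
theorem sec_smooth [Smooth (X ↘ Spec (CommRingCat.of k))] {U : X.Opens} (hU : IsAffineOpen U) :
    (sec k X U).Smooth := by
  rw [sec_eq_appLE]
  refine RingHom.Smooth.comp ?_ ?_
  · exact RingHom.Smooth.of_bijective
      (ConcreteCategory.bijective_of_isIso (Scheme.ΓSpecIso (CommRingCat.of k)).inv)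
  · exact HasRingHomProperty.appLE (P := @Smooth) _ inferInstance ⟨⊤, isAffineOpen_top _⟩ ⟨U, hU⟩ _

variable [IsAlgClosed k] [LocallyOfFiniteType (X ↘ Spec (CommRingCat.of k))] [IrreducibleSpace X]
  [Smooth (X ↘ Spec (CommRingCat.of k))]
  (n : ℕ) (hn : topologicalKrullDim X = (n : WithBot ℕ∞))

include hn in
/-- on a smooth irreducible `k`-scheme of dimension `n`, the Kähler differentials of the coordinate
ring of a (nonempty) affine open form a finite projective module of constant rank `n`. -/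
theorem kaehler_sections_rank {U : X.Opens} (hU : IsAffineOpen U) (x : X) (hx : x ∈ U) :
    letI := (sec k X U).toAlgebra
    Module.Finite Γ(X, U) Ω[Γ(X, U)⁄k] ∧ Module.Projective Γ(X, U) Ω[Γ(X, U)⁄k] ∧
      ∀ p : PrimeSpectrum Γ(X, U), Module.rankAtStalk Ω[Γ(X, U)⁄k] p = n := by
  letI := (sec k X U).toAlgebra
  haveI : Algebra.Smooth k Γ(X, U) := RingHom.smooth_algebraMap.mp (sec_smooth k X hU)
  haveI : Algebra.FiniteType k Γ(X, U) := inferInstance
  haveI hN : IsNoetherianRing Γ(X, U) := Algebra.FiniteType.isNoetherianRing k Γ(X, U)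
  haveI hreg : IsRegularRing Γ(X, U) :=
    Groth.Agent.Lib.Helper24.SmoothRegular.isRegularRing_of_smooth k Γ(X, U)
  have hred : IsReduced Γ(X, U) := by
    refine isReduced_ofLocalizationMaximal Γ(X, U) fun m hm => ?_
    have : IsRegularLocalRing (Localization.AtPrime m) := inferInstance
    have := Groth.Agent.Lib.helper15.isDomain_of_isRegularLocalRing (Localization.AtPrime m)
    infer_instance
  obtain ⟨hproj, hrk⟩ := (Groth.Agent.LibOmegaReg29.sections_iff k X n hn hU x hx).mp ⟨hred, hreg⟩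
  haveI : Module.Finite Γ(X, U) Ω[Γ(X, U)⁄k] := inferInstance
  refine ⟨inferInstance, hproj, fun p => ?_⟩
  rw [Module.rankAtStalk_eq]
  exact hrk p.asIdeal

end overField

section rel

variable (k : Type u) [Field k] {X Y : Scheme.{u}} [X.Over (Spec (CommRingCat.of k))]
  [Y.Over (Spec (CommRingCat.of k))] (f : X ⟶ Y)
  (hf : f ≫ (Y ↘ Spec (CommRingCat.of k)) = (X ↘ Spec (CommRingCat.of k)))

include hf in
/-- compatibility of the structure maps from `k` with `f` -/
theorem appLE_comp_sec {V : Y.Opens} {U : X.Opens} (e : U ≤ f ⁻¹ᵁ V) :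
    (f.appLE V U e).hom.comp (sec k Y V) = sec k X U := by
  rw [sec_eq_appLE, sec_eq_appLE]
  have h1 : (X ↘ Spec (CommRingCat.of k)).appLE ⊤ U (by simp) =
      (Y ↘ Spec (CommRingCat.of k)).appLE ⊤ V (by simp) ≫ f.appLE V U e := by
    rw [Scheme.Hom.appLE_comp_appLE]
    congr 1
    exact hf.symm
  rw [h1]
  rfl

variable [IsAlgClosed k]
  [LocallyOfFiniteType (X ↘ Spec (CommRingCat.of k))] [IrreducibleSpace X]
  [Smooth (X ↘ Spec (CommRingCat.of k))]
  [LocallyOfFiniteType (Y ↘ Spec (CommRingCat.of k))] [IrreducibleSpace Y]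
  [Smooth (Y ↘ Spec (CommRingCat.of k))]
  (n dY : ℕ) (hY : topologicalKrullDim Y = (dY : WithBot ℕ∞))
  (hX : topologicalKrullDim X = ((dY + n : ℕ) : WithBot ℕ∞))

open Groth.Agent.Lib.helper16.FLF Groth.Agent.Lib.helper7 in
include hf hY hX in
/-- **Core**: if `Ω_{X/Y}` is locally free of rank `n = dim X - dim Y` then `f` is smooth on affine
charts. -/
theorem smooth_appLE_of_isFinLocFreeOfRank [QuasiSeparated f]
    (hΩ : FlatMod.IsFinLocFreeOfRank n (Omega.sheaf f))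
    {V : Y.Opens} (hV : IsAffineOpen V) {U : X.Opens} (hU : IsAffineOpen U) (e : U ≤ f ⁻¹ᵁ V)
    (x : X) (hx : x ∈ U) : (f.appLE V U e).hom.Smooth := by
  letI algA : Algebra k Γ(Y, V) := (sec k Y V).toAlgebra
  letI algB : Algebra k Γ(X, U) := (sec k X U).toAlgebra
  letI algAB : Algebra Γ(Y, V) Γ(X, U) := (f.appLE V U e).hom.toAlgebra
  haveI : IsScalarTower k Γ(Y, V) Γ(X, U) :=
    IsScalarTower.of_algebraMap_eq' (appLE_comp_sec k f hf e).symm
  obtain ⟨hfinA, hprojA, hrkA⟩ := kaehler_sections_rank k Y dY hY hV (f x) (e hx)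
  obtain ⟨hfinB, hprojB, hrkB⟩ := kaehler_sections_rank k X (dY + n) hX hU x hx
  haveI : Algebra.Smooth k Γ(X, U) := RingHom.smooth_algebraMap.mp (sec_smooth k X hU)
  haveI : Algebra.FiniteType k Γ(Y, V) := sec_finiteType k Y hV
  haveI : Algebra.FiniteType k Γ(X, U) := sec_finiteType k X hU
  haveI hNA : IsNoetherianRing Γ(Y, V) := Algebra.FiniteType.isNoetherianRing k Γ(Y, V)
  obtain ⟨ψ, -⟩ := OmegaStruct.exists_sectionsEquiv f (OmegaSh.dOmega f)
    (OmegaUniv.isUniversal_dOmega f) hU hV e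
  have hflf := isFinLocFree_of_isFinLocFreeOfRank hΩ
  obtain ⟨hfinΩ, hprojΩ⟩ := projective_sections_of_isFinLocFree (Omega.sheaf f) hflf hU
  haveI : Module.Projective Γ(X, U) Ω[Γ(X, U)⁄Γ(Y, V)] := Module.Projective.of_equiv ψ
  haveI : Module.Finite Γ(X, U) Ω[Γ(X, U)⁄Γ(Y, V)] := Module.Finite.equiv ψ
  have hrkΩ : ∀ p : PrimeSpectrum Γ(X, U), Module.rankAtStalk Ω[Γ(X, U)⁄Γ(Y, V)] p = n := by
    intro p
    rw [← Module.rankAtStalk_eq_of_equiv ψ]
    exact rankAtStalk_sections (Omega.sheaf f) hΩ hU p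
  haveI : Algebra.FormallySmooth Γ(Y, V) Γ(X, U) := by
    refine formallySmooth_of_rank k Γ(Y, V) Γ(X, U) ?_
    ext p
    simp only [Pi.add_apply]
    rw [Module.rankAtStalk_baseChange, hrkA, hrkΩ, hrkB]
  haveI : Algebra.FiniteType Γ(Y, V) Γ(X, U) :=
    Algebra.FiniteType.of_restrictScalars_finiteType k Γ(Y, V) Γ(X, U)
  haveI : Algebra.FinitePresentation Γ(Y, V) Γ(X, U) :=
    Algebra.FinitePresentation.of_finiteType.mp inferInstance
  have : Algebra.Smooth Γ(Y, V) Γ(X, U) := ⟨inferInstance, inferInstance⟩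
  exact RingHom.smooth_algebraMap.mpr this

open Groth.Agent.Lib.helper16.FLF Groth.Agent.Lib.helper7 in
include hf hY hX in
/-- `Ω_{X/Y}` locally free of rank `n = dim X - dim Y` ⇒ `f` smooth of relative dimension `n`. -/
theorem smoothOfRelativeDimension_of_isFinLocFreeOfRank [QuasiSeparated f]
    (hΩ : FlatMod.IsFinLocFreeOfRank n (Omega.sheaf f)) : SmoothOfRelativeDimension n f := by
  refine ⟨fun x => ?_⟩
  obtain ⟨V, hV, hfx, -⟩ := TopologicalSpace.Opens.isBasis_iff_nbhd.mp Y.isBasis_affineOpens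
    (TopologicalSpace.Opens.mem_top <| f x)
  obtain ⟨U₀, hU₀, hx₀, e₀⟩ := TopologicalSpace.Opens.isBasis_iff_nbhd.mp X.isBasis_affineOpens
    (show x ∈ f ⁻¹ᵁ V from hfx)
  have hsm := smooth_appLE_of_isFinLocFreeOfRank k f hf n dY hY hX hΩ hV hU₀ e₀ x hx₀
  letI algAB₀ : Algebra Γ(Y, V) Γ(X, U₀) := (f.appLE V U₀ e₀).hom.toAlgebra
  haveI : Algebra.Smooth Γ(Y, V) Γ(X, U₀) := RingHom.smooth_algebraMap.mp hsm
  obtain ⟨s, hs, hstd⟩ := Algebra.Smooth.exists_span_eq_top_isStandardSmooth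
    (R := Γ(Y, V)) (S := Γ(X, U₀))
  apply hU₀.iSup_basicOpen_eq_self_iff.mpr at hs
  have hx1 : x ∈ (⨆ i : s, X.basicOpen (i : Γ(X, U₀))) := hs.symm ▸ hx₀
  obtain ⟨⟨r, hr⟩, hxr⟩ : ∃ r : s, x ∈ X.basicOpen (r : Γ(X, U₀)) := by simpa using hx1
  have hstd' := hstd r hr
  have e' : X.basicOpen r ≤ f ⁻¹ᵁ V := (X.basicOpen_le r).trans e₀
  have hU : IsAffineOpen (X.basicOpen r) := hU₀.basicOpen r
  refine ⟨V, hV, X.basicOpen r, hU, hxr, e', ?_⟩
  letI algAC : Algebra Γ(Y, V) Γ(X, X.basicOpen r) := (f.appLE V (X.basicOpen r) e').hom.toAlgebra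
  haveI : IsScalarTower Γ(Y, V) Γ(X, U₀) Γ(X, X.basicOpen r) := by
    refine IsScalarTower.of_algebraMap_eq' ?_
    change (f.appLE V (X.basicOpen r) e').hom = _
    rw [← f.appLE_map e₀ (homOfLE (X.basicOpen_le r)).op]
    rfl
  haveI : IsLocalization.Away r Γ(X, X.basicOpen r) := hU₀.isLocalization_basicOpen r
  let E : Localization.Away r ≃ₐ[Γ(X, U₀)] Γ(X, X.basicOpen r) :=
    IsLocalization.algEquiv (Submonoid.powers r) _ _
  haveI : Algebra.IsStandardSmooth Γ(Y, V) Γ(X, X.basicOpen r) :=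
    Algebra.IsStandardSmooth.of_algEquiv (E.restrictScalars Γ(Y, V))
  haveI : Nontrivial Γ(X, X.basicOpen r) := (hU.primeIdealOf ⟨x, hxr⟩).nontrivial
  obtain ⟨ψ, -⟩ := OmegaStruct.exists_sectionsEquiv f (OmegaSh.dOmega f)
    (OmegaUniv.isUniversal_dOmega f) hU hV e'
  have hrk : Module.rankAtStalk Ω[Γ(X, X.basicOpen r)⁄Γ(Y, V)]
      (hU.primeIdealOf ⟨x, hxr⟩) = n := by
    rw [← Module.rankAtStalk_eq_of_equiv ψ]
    exact rankAtStalk_sections (Omega.sheaf f) hΩ hU _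
  haveI : Module.Finite Γ(X, X.basicOpen r) Ω[Γ(X, X.basicOpen r)⁄Γ(Y, V)] := inferInstance
  rw [Module.rankAtStalk_eq_finrank_of_free] at hrk
  have hrank : Module.rank Γ(X, X.basicOpen r) Ω[Γ(X, X.basicOpen r)⁄Γ(Y, V)] = n := by
    rw [← Module.finrank_eq_rank]
    exact_mod_cast hrk
  exact (Algebra.IsStandardSmoothOfRelativeDimension.iff_of_isStandardSmooth n).mpr hrank

end rel

section fwd

open Groth.Agent.Lib.helper16.FLF Groth.Agent.Lib.helper7

/-- smooth of relative dimension `n` ⇒ `Ω_{X/Y}` locally free of rank `n` (any schemes). -/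
theorem isFinLocFreeOfRank_of_smoothOfRelativeDimension {X Y : Scheme.{u}} (f : X ⟶ Y)
    [QuasiSeparated f] (n : ℕ) [SmoothOfRelativeDimension n f] :
    FlatMod.IsFinLocFreeOfRank n (Omega.sheaf f) := by
  haveI : (Omega.sheaf f).IsQuasicoherent :=
    OmegaQCoh.isQuasicoherent_of_isUniversal f (OmegaSh.dOmega f) (OmegaUniv.isUniversal_dOmega f)
  rw [isFinLocFreeOfRank_iff_sections]
  intro x
  obtain ⟨V, hV, U, hU, hx, e, hstd⟩ :=
    SmoothOfRelativeDimension.exists_isStandardSmoothOfRelativeDimension (n := n) (f := f) x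
  refine ⟨U, hU, hx, ?_⟩
  letI alg : Algebra Γ(Y, V) Γ(X, U) := (f.appLE V U e).hom.toAlgebra
  haveI : Algebra.IsStandardSmoothOfRelativeDimension n Γ(Y, V) Γ(X, U) := hstd
  haveI : Algebra.IsStandardSmooth Γ(Y, V) Γ(X, U) :=
    Algebra.IsStandardSmoothOfRelativeDimension.isStandardSmooth n
  haveI : Nontrivial Γ(X, U) := (hU.primeIdealOf ⟨x, hx⟩).nontrivial
  obtain ⟨ψ, -⟩ := OmegaStruct.exists_sectionsEquiv f (OmegaSh.dOmega f)
    (OmegaUniv.isUniversal_dOmega f) hU hV e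
  have hrank : Module.rank Γ(X, U) Ω[Γ(X, U)⁄Γ(Y, V)] = n :=
    Algebra.IsStandardSmoothOfRelativeDimension.rank_kaehlerDifferential n
  haveI : Module.Finite Γ(X, U) Ω[Γ(X, U)⁄Γ(Y, V)] := inferInstance
  have hfr : Module.finrank Γ(X, U) Ω[Γ(X, U)⁄Γ(Y, V)] = n := by
    have := Module.finrank_eq_rank Γ(X, U) Ω[Γ(X, U)⁄Γ(Y, V)]
    rw [hrank] at this
    exact_mod_cast this
  let b := Module.finBasisOfFinrankEq Γ(X, U) Ω[Γ(X, U)⁄Γ(Y, V)] hfr
  exact ⟨ψ ≪≫ₗ b.equivFun⟩

end fwd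

end Groth.Agent.LibSmoothTower29
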