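import Mathlib
import Groth.Prelude
import Groth.Agent.LibSmoothTower29b
import Groth.Agent.LibCotTan29a
import Groth.Agent.LibJet29

/-!
# Smooth morphisms of smooth varieties and the cotangent maps at closed points (helper29)
-/

set_option autoImplicit false
set_option linter.style.haveILetI false
universe u

open CategoryTheory AlgebraicGeometry TensorProduct IsLocalRing
open Groth.Agent.Lib.helper3.FTField

namespace Groth.Agent.LibCotTan29

section overField

variable (k : Type u) [Field k] (X : Scheme.{u}) [X.Over (Spec (CommRingCat.of k))]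

/-- the structure map to a stalk factors through sections over an open neighbourhood -/
theorem stalkMap_eq_germ_comp_sec (U : X.Opens) (x : X) (hx : x ∈ U) :
    Curv2.stalkMap k X x = (X.presheaf.germ U x hx).hom.comp (sec k X U) := by
  ext a
  simp only [Curv2.stalkMap, sec, RingHom.comp_apply]
  exact (TopCat.Presheaf.germ_res_apply X.presheaf (homOfLE (le_top : U ≤ ⊤)) x hx _).symm

attribute [local instance] Curv2.stalkAlgebra

theorem stalk_isScalarTower (U : X.Opens) (x : X) (hx : x ∈ U) :
    letI := (sec k X U).toAlgebra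
    letI := TopCat.Presheaf.algebra_section_stalk X.presheaf (⟨x, hx⟩ : U)
    IsScalarTower k Γ(X, U) (X.presheaf.stalk x) := by
  letI := (sec k X U).toAlgebra
  letI := TopCat.Presheaf.algebra_section_stalk X.presheaf (⟨x, hx⟩ : U)
  exact IsScalarTower.of_algebraMap_eq' (stalkMap_eq_germ_comp_sec k X U x hx)

/-- the local rings of a smooth `k`-scheme are formally smooth over `k` -/
theorem stalk_formallySmooth [Smooth (X ↘ Spec (CommRingCat.of k))] (x : X) :
    Algebra.FormallySmooth k (X.presheaf.stalk x) := by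
  obtain ⟨U, hU, hx, -⟩ := TopologicalSpace.Opens.isBasis_iff_nbhd.mp X.isBasis_affineOpens
    (TopologicalSpace.Opens.mem_top x)
  letI := (sec k X U).toAlgebra
  letI := TopCat.Presheaf.algebra_section_stalk X.presheaf (⟨x, hx⟩ : U)
  haveI := stalk_isScalarTower k X U x hx
  haveI : Algebra.FormallySmooth k Γ(X, U) :=
    RingHom.formallySmooth_algebraMap.mp (Groth.Agent.LibSmoothTower29.sec_smooth k X hU).formallySmooth
  haveI : IsLocalization.AtPrime (X.presheaf.stalk x) (hU.primeIdealOf ⟨x, hx⟩).asIdeal :=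
    hU.isLocalization_stalk ⟨x, hx⟩
  haveI : Algebra.FormallySmooth Γ(X, U) (X.presheaf.stalk x) :=
    Algebra.FormallySmooth.of_isLocalization (hU.primeIdealOf ⟨x, hx⟩).asIdeal.primeCompl
  exact Algebra.FormallySmooth.comp k Γ(X, U) (X.presheaf.stalk x)

/-- the local rings of a `k`-scheme locally of finite type are essentially of finite type -/
theorem stalk_essFiniteType [LocallyOfFiniteType (X ↘ Spec (CommRingCat.of k))] (x : X) :
    Algebra.EssFiniteType k (X.presheaf.stalk x) := by
  obtain ⟨U, hU, hx, -⟩ := TopologicalSpace.Opens.isBasis_iff_nbhd.mp X.isBasis_affineOpens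
    (TopologicalSpace.Opens.mem_top x)
  letI := (sec k X U).toAlgebra
  letI := TopCat.Presheaf.algebra_section_stalk X.presheaf (⟨x, hx⟩ : U)
  haveI := stalk_isScalarTower k X U x hx
  haveI : Algebra.FiniteType k Γ(X, U) := sec_finiteType k X hU
  haveI : IsLocalization.AtPrime (X.presheaf.stalk x) (hU.primeIdealOf ⟨x, hx⟩).asIdeal :=
    hU.isLocalization_stalk ⟨x, hx⟩
  haveI : Algebra.EssFiniteType Γ(X, U) (X.presheaf.stalk x) :=
    Algebra.EssFiniteType.of_isLocalization _ (hU.primeIdealOf ⟨x, hx⟩).asIdeal.primeCompl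
  exact Algebra.EssFiniteType.comp k Γ(X, U) (X.presheaf.stalk x)

/-- the residue field at a closed point of a scheme locally of finite type over an algebraically
closed field is the base field -/
theorem stalk_residue_bijective [IsAlgClosed k]
    [LocallyOfFiniteType (X ↘ Spec (CommRingCat.of k))] (x : X) (hxc : IsClosed ({x} : Set X)) :
    Function.Bijective (algebraMap k (ResidueField (X.presheaf.stalk x))) := by
  refine ⟨(algebraMap k (ResidueField (X.presheaf.stalk x))).injective, fun z => ?_⟩
  obtain ⟨U, hU, hx, -⟩ := TopologicalSpace.Opens.isBasis_iff_nbhd.mp X.isBasis_affineOpens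
    (TopologicalSpace.Opens.mem_top x)
  letI := (sec k X U).toAlgebra
  letI := TopCat.Presheaf.algebra_section_stalk X.presheaf (⟨x, hx⟩ : U)
  haveI := stalk_isScalarTower k X U x hx
  haveI : Algebra.FiniteType k Γ(X, U) := sec_finiteType k X hU
  haveI hmax : (hU.primeIdealOf ⟨x, hx⟩).asIdeal.IsMaximal :=
    hU.primeIdealOf_isMaximal_of_isClosed ⟨x, hx⟩ hxc
  haveI : IsLocalization.AtPrime (X.presheaf.stalk x) (hU.primeIdealOf ⟨x, hx⟩).asIdeal :=
    hU.isLocalization_stalk ⟨x, hx⟩
  obtain ⟨r, rfl⟩ := residue_surjective z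
  obtain ⟨y, hy⟩ := (IsLocalization.AtPrime.equivQuotMaximalIdeal
    (hU.primeIdealOf ⟨x, hx⟩).asIdeal (X.presheaf.stalk x)).surjective (Ideal.Quotient.mk _ r)
  obtain ⟨a, rfl⟩ := Ideal.Quotient.mk_surjective y
  obtain ⟨c, hc⟩ := Groth.Agent.LibJet29.exists_scalar_of_maximal k Γ(X, U)
    (hU.primeIdealOf ⟨x, hx⟩).asIdeal a
  refine ⟨c, ?_⟩
  have h1 : Ideal.Quotient.mk (hU.primeIdealOf ⟨x, hx⟩).asIdeal a =
      Ideal.Quotient.mk _ (algebraMap k Γ(X, U) c) := by
    rw [Ideal.Quotient.eq]; exact hc
  rw [h1, IsLocalization.AtPrime.equivQuotMaximalIdeal_apply_mk] at hy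
  rw [IsScalarTower.algebraMap_apply k (X.presheaf.stalk x) (ResidueField (X.presheaf.stalk x)),
    IsScalarTower.algebraMap_apply k Γ(X, U) (X.presheaf.stalk x)]
  exact hy

end overField

section rel

variable (k : Type u) [Field k] {X Y : Scheme.{u}} [X.Over (Spec (CommRingCat.of k))]
  [Y.Over (Spec (CommRingCat.of k))] (f : X ⟶ Y)
  (hf : f ≫ (Y ↘ Spec (CommRingCat.of k)) = (X ↘ Spec (CommRingCat.of k)))

include hf in
theorem stalkMap_comp_stalkMap (x : X) :
    (f.stalkMap x).hom.comp (Curv2.stalkMap k Y (f x)) = Curv2.stalkMap k X x := by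
  ext a
  simp only [Curv2.stalkMap, Coh.toGlobal, RingHom.comp_apply]
  rw [Scheme.Hom.germ_stalkMap_apply]
  have h1 : (X ↘ Spec (CommRingCat.of k)).appTop =
      (Y ↘ Spec (CommRingCat.of k)).appTop ≫ f.appTop := by
    rw [← Scheme.Hom.comp_appTop, hf]
  rw [h1]
  rfl

attribute [local instance] Curv2.stalkAlgebra

include hf in
/-- **Pointwise criterion**: at a closed point of a smooth variety over an algebraically closed
field, the stalk map of a `k`-morphism is formally smooth iff the cotangent map is injective. -/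
theorem formallySmooth_stalkMap_iff_cotangentMapAt_injective [IsAlgClosed k]
    [LocallyOfFiniteType (X ↘ Spec (CommRingCat.of k))] [Smooth (X ↘ Spec (CommRingCat.of k))]
    [LocallyOfFiniteType (Y ↘ Spec (CommRingCat.of k))] (x : X) (hxc : IsClosed ({x} : Set X)) :
    (f.stalkMap x).hom.FormallySmooth ↔
      Function.Injective (FixPt.cotangentMapAt f x (f x) rfl) := by
  letI algST : Algebra (Y.presheaf.stalk (f x)) (X.presheaf.stalk x) :=
    (f.stalkMap x).hom.toAlgebra
  haveI : IsScalarTower k (Y.presheaf.stalk (f x)) (X.presheaf.stalk x) :=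
    IsScalarTower.of_algebraMap_eq' (stalkMap_comp_stalkMap k f hf x).symm
  haveI : IsLocalHom (algebraMap (Y.presheaf.stalk (f x)) (X.presheaf.stalk x)) :=
    inferInstanceAs (IsLocalHom (f.stalkMap x).hom)
  haveI := stalk_formallySmooth k X x
  haveI := stalk_essFiniteType k X x
  haveI := stalk_essFiniteType k Y (f x)
  haveI : Module.Finite (X.presheaf.stalk x) Ω[(X.presheaf.stalk x)⁄k] := inferInstance
  haveI : Module.Finite (Y.presheaf.stalk (f x)) Ω[(Y.presheaf.stalk (f x))⁄k] := inferInstance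
  have hT := stalk_residue_bijective k X x hxc
  have hS := residue_bijective_of_tower k (Y.presheaf.stalk (f x)) (X.presheaf.stalk x) hT
  have hg : ∀ s, (FixPt.stalkMapAt f x (f x) rfl).toIntAlgHom s =
      algebraMap (Y.presheaf.stalk (f x)) (X.presheaf.stalk x) s := by
    intro s
    change (FixPt.stalkMapAt f x (f x) rfl) s = (f.stalkMap x).hom s
    simp [FixPt.stalkMapAt, TopCat.Presheaf.stalkCongr]
  exact formallySmooth_iff_mapCotangent_injective k (Y.presheaf.stalk (f x)) (X.presheaf.stalk x)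
    hS hT (FixPt.stalkMapAt f x (f x) rfl).toIntAlgHom hg
    (FixPt.maximalIdeal_le_comap_stalkMapAt f x (f x) rfl)

variable [IsAlgClosed k]
  [LocallyOfFiniteType (X ↘ Spec (CommRingCat.of k))] [IrreducibleSpace X]
  [Smooth (X ↘ Spec (CommRingCat.of k))]
  [LocallyOfFiniteType (Y ↘ Spec (CommRingCat.of k))] [IrreducibleSpace Y]
  [Smooth (Y ↘ Spec (CommRingCat.of k))]
  (n dY : ℕ) (hY : topologicalKrullDim Y = (dY : WithBot ℕ∞))
  (hX : topologicalKrullDim X = ((dY + n : ℕ) : WithBot ℕ∞))

omit [IsAlgClosed k] [IrreducibleSpace X] [Smooth (X ↘ Spec (CommRingCat.of k))]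
  [IrreducibleSpace Y] [Smooth (Y ↘ Spec (CommRingCat.of k))] in
include hf in
/-- a `k`-morphism of schemes locally of finite type over a field is locally of finite
presentation -/
theorem locallyOfFinitePresentation_of_over : LocallyOfFinitePresentation f := by
  haveI : LocallyOfFiniteType (f ≫ (Y ↘ Spec (CommRingCat.of k))) := by rw [hf]; infer_instance
  haveI : LocallyOfFiniteType f := locallyOfFiniteType_of_comp f (Y ↘ Spec (CommRingCat.of k))
  rw [HasRingHomProperty.iff_appLE (P := @LocallyOfFinitePresentation)]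
  intro V U e
  letI := (sec k Y V.1).toAlgebra
  haveI : Algebra.FiniteType k Γ(Y, V.1) := sec_finiteType k Y V.2
  haveI : IsNoetherianRing Γ(Y, V.1) := Algebra.FiniteType.isNoetherianRing k Γ(Y, V.1)
  exact RingHom.FinitePresentation.of_finiteType.mp
    (LocallyOfFiniteType.finiteType_appLE f V.2 U.2 e)

include hf hY hX in
/-- a smooth `k`-morphism between smooth irreducible `k`-schemes of dimensions `dY + n`, `dY` is
smooth of relative dimension `n` -/
theorem smoothOfRelativeDimension_of_smooth [Smooth f] : SmoothOfRelativeDimension n f := by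
  refine ⟨fun x => ?_⟩
  obtain ⟨V, hV, U, hU, hx, e, hstd⟩ := Smooth.exists_isStandardSmooth f x
  refine ⟨V, hV, U, hU, hx, e, ?_⟩
  letI algA : Algebra k Γ(Y, V) := (sec k Y V).toAlgebra
  letI algB : Algebra k Γ(X, U) := (sec k X U).toAlgebra
  letI algAB : Algebra Γ(Y, V) Γ(X, U) := (f.appLE V U e).hom.toAlgebra
  haveI : IsScalarTower k Γ(Y, V) Γ(X, U) :=
    IsScalarTower.of_algebraMap_eq'
      (Groth.Agent.LibSmoothTower29.appLE_comp_sec k f hf e).symm
  obtain ⟨hfinA, hprojA, hrkA⟩ :=
    Groth.Agent.LibSmoothTower29.kaehler_sections_rank k Y dY hY hV (f x) (e hx)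
  obtain ⟨hfinB, hprojB, hrkB⟩ :=
    Groth.Agent.LibSmoothTower29.kaehler_sections_rank k X (dY + n) hX hU x hx
  haveI : Algebra.Smooth k Γ(X, U) :=
    RingHom.smooth_algebraMap.mp (Groth.Agent.LibSmoothTower29.sec_smooth k X hU)
  haveI : Algebra.IsStandardSmooth Γ(Y, V) Γ(X, U) := hstd
  haveI : Nontrivial Γ(X, U) := (hU.primeIdealOf ⟨x, hx⟩).nontrivial
  haveI : Module.Finite Γ(X, U) Ω[Γ(X, U)⁄Γ(Y, V)] := inferInstance
  obtain ⟨l, hl⟩ := (Groth.Agent.LibJZ29.formallySmooth_tower_iff k Γ(Y, V) Γ(X, U)).mp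
    inferInstance
  have hinj : Function.Injective (KaehlerDifferential.mapBaseChange k Γ(Y, V) Γ(X, U)) :=
    Function.LeftInverse.injective (g := l) (fun z => LinearMap.congr_fun hl z)
  have hex := KaehlerDifferential.exact_mapBaseChange_map k Γ(Y, V) Γ(X, U)
  have hsurj := KaehlerDifferential.map_surjective k Γ(Y, V) Γ(X, U)
  obtain ⟨s, hs⟩ := Module.projective_lifting_property
    (KaehlerDifferential.map k Γ(Y, V) Γ(X, U) Γ(X, U)) LinearMap.id hsurj
  obtain ⟨E, -, -⟩ := hex.splitSurjectiveEquiv hinj ⟨s, hs⟩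
  have h1 := congrFun (Module.rankAtStalk_eq_of_equiv E) (hU.primeIdealOf ⟨x, hx⟩)
  rw [Module.rankAtStalk_prod, Pi.add_apply, Module.rankAtStalk_baseChange, hrkA, hrkB,
    Module.rankAtStalk_eq_finrank_of_free] at h1
  have h2 : Module.finrank Γ(X, U) Ω[Γ(X, U)⁄Γ(Y, V)] = n := by
    simp only [Pi.natCast_def, Nat.cast_id] at h1
    omega
  have hrank : Module.rank Γ(X, U) Ω[Γ(X, U)⁄Γ(Y, V)] = n := by
    rw [← Module.finrank_eq_rank]
    exact_mod_cast h2
  exact (Algebra.IsStandardSmoothOfRelativeDimension.iff_of_isStandardSmooth n).mpr hrank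

include hf hY hX in
/-- **Hartshorne III.10.4 (a)⇔(c)**. -/
theorem smoothOfRelativeDimension_iff_cotangentMapAt_injective [CompactSpace X] :
    SmoothOfRelativeDimension n f ↔
      ∀ x : X, IsClosed ({x} : Set X) → Function.Injective (FixPt.cotangentMapAt f x (f x) rfl) := by
  haveI := locallyOfFinitePresentation_of_over k f hf
  constructor
  · intro h x hxc
    haveI : Smooth f := SmoothOfRelativeDimension.smooth n f
    have h1 : x ∈ f.smoothLocus := by rw [f.smoothLocus_eq_top]; trivial
    exact (formallySmooth_stalkMap_iff_cotangentMapAt_injective k f hf x hxc).mp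
      (Scheme.Hom.mem_smoothLocus.mp h1)
  · intro h
    have htop : f.smoothLocus = ⊤ := by
      by_contra hne
      have hne' : ((f.smoothLocus : Set X)ᶜ).Nonempty := by
        rw [Set.nonempty_compl]
        intro hu
        exact hne (TopologicalSpace.Opens.ext hu)
      obtain ⟨x, hxS, hxc⟩ := IsClosed.exists_closed_singleton
        (f.smoothLocus.isOpen.isClosed_compl) hne'
      exact hxS (Scheme.Hom.mem_smoothLocus.mpr
        ((formallySmooth_stalkMap_iff_cotangentMapAt_injective k f hf x hxc).mpr (h x hxc)))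
    haveI : Smooth f := Scheme.Hom.smoothLocus_eq_top_iff.mp htop
    exact smoothOfRelativeDimension_of_smooth k f hf n dY hY hX

end rel

end Groth.Agent.LibCotTan29
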