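import Mathlib
import Groth.Prelude
import Groth.Agent.LibCotTan29b

/-!
# Generic smoothness in characteristic zero, first form (helper29)
-/

set_option autoImplicit false
set_option linter.style.haveILetI false
universe u

open CategoryTheory AlgebraicGeometry TensorProduct IsLocalRing
open Groth.Agent.Lib.helper3.FTField

namespace Groth.Agent.LibGenSmooth29

/-- A morphism with dense range between irreducible schemes maps the generic point to the generic
point. -/
theorem map_genericPoint_of_denseRange {X Y : Scheme.{u}} [IrreducibleSpace X] [IrreducibleSpace Y]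
    (f : X ⟶ Y) (h : DenseRange f) : f (genericPoint X) = genericPoint Y := by
  have h1 : IsGenericPoint (f (genericPoint X)) (closure (f '' Set.univ)) :=
    (genericPoint_spec X).image f.continuous
  rw [Set.image_univ, h.closure_range] at h1
  exact ((genericPoint_spec Y).eq h1).symm

variable (k : Type u) [Field k] [CharZero k] {X Y : Scheme.{u}} [X.Over (Spec (CommRingCat.of k))]
  [Y.Over (Spec (CommRingCat.of k))] (f : X ⟶ Y)
  (hf : f ≫ (Y ↘ Spec (CommRingCat.of k)) = (X ↘ Spec (CommRingCat.of k)))
  [LocallyOfFiniteType (X ↘ Spec (CommRingCat.of k))]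
  [LocallyOfFiniteType (Y ↘ Spec (CommRingCat.of k))] [IsIntegral X] [IsIntegral Y]

omit [LocallyOfFiniteType (Y ↘ Spec (CommRingCat.of k))] in
include hf in
set_option backward.isDefEq.respectTransparency false in
/-- in characteristic zero a dominant morphism of integral schemes of finite type over a field is
formally smooth at the generic point -/
theorem formallySmooth_stalkMap_genericPoint (hdom : DenseRange f) :
    (f.stalkMap (genericPoint X)).hom.FormallySmooth := by
  haveI : LocallyOfFiniteType (f ≫ (Y ↘ Spec (CommRingCat.of k))) := by rw [hf]; infer_instance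
  haveI : LocallyOfFiniteType f := locallyOfFiniteType_of_comp f (Y ↘ Spec (CommRingCat.of k))
  have hξ : f (genericPoint X) = genericPoint Y := map_genericPoint_of_denseRange f hdom
  have hess := LocallyOfFiniteType.stalkMap f (genericPoint X)
  have hS : IsField (Y.presheaf.stalk (f (genericPoint X))) :=
    (Y.presheaf.stalkCongr (.of_eq hξ)).commRingCatIsoToRingEquiv.toMulEquiv.isField
      (Field.toIsField Y.functionField)
  letI : Field (Y.presheaf.stalk (f (genericPoint X))) := hS.toField
  haveI : CharZero (Y.presheaf.stalk (f (genericPoint X))) :=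
    charZero_of_injective_ringHom (Curv2.stalkMap k Y (f (genericPoint X))).injective
  algebraize [(f.stalkMap (genericPoint X)).hom]
  exact Algebra.FormallySmooth.of_perfectField

include hf in
/-- **Generic smoothness (Hartshorne III.10.5)**. -/
theorem exists_open_smooth (hdom : DenseRange f) :
    ∃ U : X.Opens, (U : Set X).Nonempty ∧ Smooth (U.ι ≫ f) := by
  haveI := Groth.Agent.LibCotTan29.locallyOfFinitePresentation_of_over k f hf
  refine ⟨f.smoothLocus, ⟨genericPoint X, Scheme.Hom.mem_smoothLocus.mpr
    (formallySmooth_stalkMap_genericPoint k f hf hdom)⟩, ?_⟩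
  rw [← Scheme.Hom.smoothLocus_eq_top_iff, ← Scheme.Hom.preimage_smoothLocus_eq,
    Scheme.Opens.ι_preimage_self]

end Groth.Agent.LibGenSmooth29
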