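import Mathlib

/-!
# Cotangent maps of local homomorphisms: injectivity for formally smooth maps, surjectivity for
surjections, and a rank estimate (helper29)
-/

set_option autoImplicit false
set_option linter.style.haveILetI false
universe u

open IsLocalRing

namespace Groth.Agent.LibTanRank29

section R1

variable {R₀ A B : Type u} [CommRing R₀] [CommRing A] [CommRing B] [Algebra R₀ A] [Algebra R₀ B]
  [IsLocalRing A] [IsLocalRing B] [Algebra A B] [IsLocalHom (algebraMap A B)]

/-- A formally smooth local homomorphism inducing an isomorphism of residue fields is injective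
on cotangent spaces. -/
theorem mapCotangent_injective_of_formallySmooth [Algebra.FormallySmooth A B]
    (hres : Function.Bijective (algebraMap (ResidueField A) (ResidueField B)))
    (g : A →ₐ[R₀] B) (hg : ∀ a, g a = algebraMap A B a)
    (h : maximalIdeal A ≤ (maximalIdeal B).comap g) :
    Function.Injective (Ideal.mapCotangent (maximalIdeal A) (maximalIdeal B) g h) := by
  have hAB : ∀ a : A, algebraMap A (ResidueField B) a =
      algebraMap (ResidueField A) (ResidueField B) (residue A a) := fun a => by
    rw [IsScalarTower.algebraMap_apply A (ResidueField A) (ResidueField B)]; rfl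
  have hker : ∀ a : A, algebraMap A (ResidueField B) a = 0 ↔ a ∈ maximalIdeal A := by
    intro a
    rw [hAB, map_eq_zero_iff _ hres.1, residue_eq_zero_iff]
  let gC : (A ⧸ maximalIdeal A ^ 2) →ₐ[A] ResidueField B :=
    Ideal.Quotient.liftₐ (maximalIdeal A ^ 2) (Algebra.ofId A (ResidueField B)) (fun a ha => by
      rw [Algebra.ofId_apply, hker]; exact Ideal.pow_le_self two_ne_zero ha)
  have hgC : ∀ a : A, gC (Ideal.Quotient.mk _ a) = algebraMap A (ResidueField B) a := fun a => rfl
  have hsurj : Function.Surjective gC := by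
    intro z
    obtain ⟨w, rfl⟩ := hres.2 z
    obtain ⟨a, rfl⟩ := residue_surjective w
    exact ⟨Ideal.Quotient.mk _ a, by rw [hgC, hAB]⟩
  have hkerC : ∀ c, gC c = 0 → ∀ c', gC c' = 0 → c * c' = 0 := by
    intro c hc c' hc'
    obtain ⟨a, rfl⟩ := Ideal.Quotient.mk_surjective c
    obtain ⟨a', rfl⟩ := Ideal.Quotient.mk_surjective c'
    rw [hgC, hker] at hc hc'
    rw [← map_mul, Ideal.Quotient.eq_zero_iff_mem, pow_two]
    exact Ideal.mul_mem_mul hc hc'
  have hnil : IsNilpotent (RingHom.ker (gC : (A ⧸ maximalIdeal A ^ 2) →+* ResidueField B)) := by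
    refine ⟨2, ?_⟩
    rw [Ideal.zero_eq_bot, eq_bot_iff,
      show RingHom.ker (gC : (A ⧸ maximalIdeal A ^ 2) →+* ResidueField B) ^ 2 =
        RingHom.ker (gC : (A ⧸ maximalIdeal A ^ 2) →+* ResidueField B) *
          RingHom.ker (gC : (A ⧸ maximalIdeal A ^ 2) →+* ResidueField B) from pow_two _,
      Ideal.mul_le]
    intro c hc c' hc'
    exact (Submodule.mem_bot _).mpr (hkerC c hc c' hc')
  let f : B →ₐ[A] ResidueField B := IsScalarTower.toAlgHom A B (ResidueField B)
  let φ : B →ₐ[A] (A ⧸ maximalIdeal A ^ 2) := Algebra.FormallySmooth.liftOfSurjective f gC hsurj hnil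
  have hφ : ∀ b, gC (φ b) = f b := fun b => Algebra.FormallySmooth.liftOfSurjective_apply f gC hsurj hnil b
  have hφm : ∀ b ∈ maximalIdeal B, gC (φ b) = 0 := by
    intro b hb
    rw [hφ]
    exact (residue_eq_zero_iff b).mpr hb
  have hφ2 : ∀ b ∈ maximalIdeal B ^ 2, φ b = 0 := by
    intro b hb
    rw [pow_two] at hb
    refine Submodule.mul_induction_on hb ?_ ?_
    · intro b1 hb1 b2 hb2
      rw [map_mul]
      exact hkerC _ (hφm b1 hb1) _ (hφm b2 hb2)
    · intro x y hx hy
      rw [map_add, hx, hy, add_zero]
  rw [injective_iff_map_eq_zero]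
  intro v hv
  obtain ⟨⟨a, ha⟩, rfl⟩ := Ideal.toCotangent_surjective _ v
  rw [Ideal.mapCotangent_toCotangent, Ideal.toCotangent_eq_zero] at hv
  rw [Ideal.toCotangent_eq_zero]
  have h1 := hφ2 _ hv
  change φ (g a) = 0 at h1
  rw [hg, AlgHom.commutes] at h1
  exact Ideal.Quotient.eq_zero_iff_mem.mp h1

end R1

section R2

variable {R₀ A B : Type u} [CommRing R₀] [CommRing A] [CommRing B] [Algebra R₀ A] [Algebra R₀ B]
  [IsLocalRing A] [IsLocalRing B]

/-- A surjective homomorphism of local rings is surjective on cotangent spaces. -/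
theorem mapCotangent_surjective_of_surjective (g : A →ₐ[R₀] B) (hsurj : Function.Surjective g)
    (h : maximalIdeal A ≤ (maximalIdeal B).comap g) :
    Function.Surjective (Ideal.mapCotangent (maximalIdeal A) (maximalIdeal B) g h) := by
  intro v
  obtain ⟨⟨b, hb⟩, rfl⟩ := Ideal.toCotangent_surjective _ v
  obtain ⟨a, rfl⟩ := hsurj b
  have ha : a ∈ maximalIdeal A := by
    rw [mem_maximalIdeal, mem_nonunits_iff]
    intro hu
    exact (mem_nonunits_iff.mp ((mem_maximalIdeal _).mp hb)) (hu.map g)
  exact ⟨Ideal.toCotangent _ ⟨a, ha⟩, rfl⟩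

end R2

section R3

variable (k : Type u) [Field k]

theorem isScalarTower_cotangentSpace (O : Type u) [CommRing O] [IsLocalRing O] [Algebra k O] :
    IsScalarTower k (ResidueField O) (CotangentSpace O) := by
  refine IsScalarTower.of_algebraMap_smul fun c v => ?_
  have h1 : algebraMap k (ResidueField O) c = algebraMap O (ResidueField O) (algebraMap k O c) :=
    IsScalarTower.algebraMap_apply k O (ResidueField O) c
  rw [h1, algebraMap_smul, algebraMap_smul]

/-- the dimension of a vector space over a field `κ` which is `k` is the dimension over `k` -/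
theorem finrank_eq_of_bijective (κ V : Type u) [Field κ] [Algebra k κ] [AddCommGroup V] [Module k V]
    [Module κ V] [IsScalarTower k κ V] (h : Function.Bijective (algebraMap k κ)) :
    Module.finrank κ V = Module.finrank k V := by
  have h1 : Module.finrank k κ = 1 := by
    rw [← (LinearEquiv.ofBijective (Algebra.linearMap k κ) h).finrank_eq, Module.finrank_self]
  rw [← Module.finrank_mul_finrank k κ V, h1, one_mul]

variable {Oy Ox Oy' Ox' : Type u} [CommRing Oy] [CommRing Ox] [CommRing Oy'] [CommRing Ox']
  [IsLocalRing Oy] [IsLocalRing Ox] [IsLocalRing Oy'] [IsLocalRing Ox']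
  [Algebra k Oy] [Algebra k Ox] [Algebra k Oy'] [Algebra k Ox']

/-- **Rank estimate.** In a commutative square of local `k`-algebras `ι ∘ φ = φ' ∘ π` with `π`
surjective and `φ'` injective on cotangent spaces, if the image of the cotangent map of `φ` lies in
the span of `r` vectors then the cotangent space of the target of `π` has dimension at most `r`. -/
theorem finrank_cotangentSpace_le (r : ℕ)
    (φ : Oy →ₐ[k] Ox) (ι : Ox →ₐ[k] Ox') (π : Oy →ₐ[k] Oy') (φ' : Oy' →ₐ[k] Ox')
    (hcomm : ∀ a, ι (φ a) = φ' (π a))
    (hφ : maximalIdeal Oy ≤ (maximalIdeal Ox).comap φ)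
    (hι : maximalIdeal Ox ≤ (maximalIdeal Ox').comap ι)
    (hπ : maximalIdeal Oy ≤ (maximalIdeal Oy').comap π)
    (hφ' : maximalIdeal Oy' ≤ (maximalIdeal Ox').comap φ')
    (hinj : Function.Injective (Ideal.mapCotangent _ _ φ' hφ'))
    (hsurj : Function.Surjective (Ideal.mapCotangent _ _ π hπ))
    (hresx : Function.Surjective (algebraMap k (ResidueField Ox)))
    (hresy' : Function.Bijective (algebraMap k (ResidueField Oy')))
    (S : Finset (CotangentSpace Ox)) (hS : S.card ≤ r)
    (hrange : ∀ v, Ideal.mapCotangent _ _ φ hφ v ∈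
      Submodule.span (ResidueField Ox) (S : Set (CotangentSpace Ox))) :
    Module.finrank (ResidueField Oy') (CotangentSpace Oy') ≤ r := by
  classical
  haveI := isScalarTower_cotangentSpace k Ox
  haveI := isScalarTower_cotangentSpace k Oy'
  rw [finrank_eq_of_bijective k (ResidueField Oy') (CotangentSpace Oy') hresy']
  have h1 : ∀ v, Ideal.mapCotangent _ _ φ hφ v ∈
      Submodule.span k (S : Set (CotangentSpace Ox)) := by
    intro v
    rw [← Submodule.restrictScalars_span k (ResidueField Ox) hresx, Submodule.restrictScalars_mem]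
    exact hrange v
  have hcomp : ∀ v, Ideal.mapCotangent _ _ ι hι (Ideal.mapCotangent _ _ φ hφ v) =
      Ideal.mapCotangent _ _ φ' hφ' (Ideal.mapCotangent _ _ π hπ v) := by
    intro v
    obtain ⟨⟨a, ha⟩, rfl⟩ := Ideal.toCotangent_surjective _ v
    simp only [Ideal.mapCotangent_toCotangent, hcomm]
  have hle : LinearMap.range (Ideal.mapCotangent _ _ φ' hφ') ≤
      Submodule.span k ((S.image (Ideal.mapCotangent _ _ ι hι) : Finset (CotangentSpace Ox')) :
        Set (CotangentSpace Ox')) := by
    rintro _ ⟨w, rfl⟩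
    obtain ⟨v, rfl⟩ := hsurj w
    rw [← hcomp, Finset.coe_image, ← Submodule.map_span]
    exact Submodule.mem_map_of_mem (h1 v)
  calc Module.finrank k (CotangentSpace Oy')
      = Module.finrank k (LinearMap.range (Ideal.mapCotangent _ _ φ' hφ')) :=
        (LinearMap.finrank_range_of_inj hinj).symm
    _ ≤ Module.finrank k (Submodule.span k
          ((S.image (Ideal.mapCotangent _ _ ι hι) : Finset (CotangentSpace Ox')) :
            Set (CotangentSpace Ox'))) := Submodule.finrank_mono hle
    _ ≤ (S.image (Ideal.mapCotangent _ _ ι hι)).card := finrank_span_finset_le_card _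
    _ ≤ S.card := Finset.card_image_le
    _ ≤ r := hS

end R3

end Groth.Agent.LibTanRank29
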