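import Mathlib
import Groth.Prelude
import Groth.Agent.Lib.Helper3.FTFieldClosureDim

/-!
# Generic points of the closure of a subset of a Noetherian sober space; a dimension bound
through transcendence degrees (helper29)
-/

set_option autoImplicit false
set_option linter.style.haveILetI false
universe u

open CategoryTheory AlgebraicGeometry TopologicalSpace

namespace Groth.Agent.LibTanRank29

/-- In a Noetherian quasi-sober space every subset `A` is covered by the closures of finitely many
points `ξ`, each of which has `A ∩ closure {ξ}` dense near `ξ`. -/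
theorem exists_finite_generic {X : Type u} [TopologicalSpace X] [NoetherianSpace X] [QuasiSober X]
    (A : Set X) :
    ∃ F : Set X, F.Finite ∧ A ⊆ ⋃ ξ ∈ F, closure {ξ} ∧
      ∀ ξ ∈ F, ∀ U : Set X, IsOpen U → ξ ∈ U → (U ∩ A ∩ closure {ξ}).Nonempty := by
  classical
  rcases A.eq_empty_or_nonempty with rfl | ⟨a0, ha0⟩
  · exact ⟨∅, Set.finite_empty, by simp, by simp⟩
  set C : Set X := closure A with hC
  haveI : Nonempty ↥C := ⟨⟨a0, subset_closure ha0⟩⟩
  haveI : QuasiSober ↥C := isClosed_closure.isClosedEmbedding_subtypeVal.quasiSober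
  have hfin : (irreducibleComponents ↥C).Finite := NoetherianSpace.finite_irreducibleComponents
  have hgen : ∀ T : Set ↥C, T ∈ irreducibleComponents ↥C → ∃ t : ↥C, IsGenericPoint t T :=
    fun T hT => QuasiSober.sober hT.1 (isClosed_of_mem_irreducibleComponents T hT)
  choose! gp hgp using hgen
  have hdense : Dense ((↑) ⁻¹' A : Set ↥C) := by
    rw [Subtype.dense_iff]
    intro x hx
    rwa [Subtype.image_preimage_coe, Set.inter_eq_right.mpr subset_closure]
  have hclos : ∀ T : Set ↥C, T ∈ irreducibleComponents ↥C → ∀ a : ↥C, a ∈ T →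
      (a : X) ∈ closure ({(gp T : X)} : Set X) := by
    intro T hT a ha
    have h1 : a ∈ closure ({gp T} : Set ↥C) := by rw [(hgp T hT).def]; exact ha
    have h2 := map_mem_closure continuous_subtype_val h1
      (fun z (hz : z ∈ ({gp T} : Set ↥C)) => by
        rw [Set.mem_singleton_iff] at hz
        rw [hz]; exact Set.mem_singleton _ : Set.MapsTo Subtype.val ({gp T} : Set ↥C)
          ({(gp T : X)} : Set X))
    exact h2
  refine ⟨(fun T => (gp T : X)) '' irreducibleComponents ↥C, hfin.image _, ?_, ?_⟩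
  · intro a ha
    have haC : a ∈ C := subset_closure ha
    have h1 : (⟨a, haC⟩ : ↥C) ∈ ⋃₀ irreducibleComponents ↥C := by
      rw [sUnion_irreducibleComponents]; trivial
    obtain ⟨T, hT, haT⟩ := h1
    rw [Set.mem_iUnion₂]
    exact ⟨(gp T : X), ⟨T, hT, rfl⟩, hclos T hT ⟨a, haC⟩ haT⟩
  · rintro _ ⟨T, hT, rfl⟩ U hU hξU
    set V : Set ↥C := (⋃₀ (irreducibleComponents ↥C \ {T}))ᶜ with hV
    have hVopen : IsOpen V := by
      rw [hV, Set.sUnion_eq_biUnion, isOpen_compl_iff]
      exact hfin.sdiff.isClosed_biUnion fun W hW => isClosed_of_mem_irreducibleComponents W hW.1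
    have hVcl : closure V = T := closure_sUnion_irreducibleComponents_sdiff_singleton hfin T hT
    have hVT : V ⊆ T := by rw [← hVcl]; exact subset_closure
    have hVne : V.Nonempty := by
      by_contra hne
      rw [Set.not_nonempty_iff_eq_empty] at hne
      rw [hne, closure_empty] at hVcl
      exact hT.1.1.ne_empty hVcl.symm
    have hgpV : gp T ∈ V := by
      rw [(hgp T hT).mem_open_set_iff hVopen]
      obtain ⟨v, hv⟩ := hVne
      exact ⟨v, hVT hv, hv⟩
    have hU' : IsOpen ((↑) ⁻¹' U : Set ↥C) := hU.preimage continuous_subtype_val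
    obtain ⟨a, ⟨haU, haV⟩, haA⟩ := hdense.inter_open_nonempty _ (hU'.inter hVopen) ⟨gp T, hξU, hgpV⟩
    exact ⟨(a : X), ⟨haU, haA⟩, hclos T hT a (hVT haV)⟩

/-- an element of `WithBot ℕ∞` all of whose natural lower bounds are at most `r` is at most `r` -/
theorem le_of_forall_nat_le (a : WithBot ℕ∞) (r : ℕ)
    (h : ∀ m : ℕ, (m : WithBot ℕ∞) ≤ a → m ≤ r) : a ≤ (r : WithBot ℕ∞) := by
  induction a using WithBot.recBotCoe with
  | bot => exact bot_le
  | coe a =>
    induction a using ENat.recTopCoe with
    | top =>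
      have := h (r + 1) (WithBot.coe_le_coe.mpr le_top)
      omega
    | coe n =>
      have := h n le_rfl
      exact_mod_cast this

section dim

open Groth.Agent.Lib.helper3.FTField

variable (k : Type u) [Field k] (Y : Scheme.{u}) [Y.Over (Spec (CommRingCat.of k))]
  [LocallyOfFiniteType (Y ↘ Spec (CommRingCat.of k))]

/-- a closed subset all of whose points are specializations of points of transcendence degree at
most `r` has dimension at most `r` -/
theorem dim_le_of_forall_exists_specializes (Z : Set Y) (hZ : IsClosed Z) (r : ℕ)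
    (h : ∀ η ∈ Z, ∃ (ξ : Y) (n : ℕ), ξ ⤳ η ∧ n ≤ r ∧
      @Algebra.trdeg k (Y.residueField ξ) _ _ (Curv2.resAlgebra k Y ξ) = n) :
    topologicalKrullDim ↥Z ≤ (r : WithBot ℕ∞) := by
  apply le_of_forall_nat_le
  intro m hm
  obtain ⟨c, hc, hcZ⟩ := exists_chain_of_le_dim Z hZ m hm
  obtain ⟨ξ, n, hξ, hnr, hn⟩ := h (c 0) (hcZ 0)
  exact (length_le_trdeg_of_mem_closure k Y ξ n hn m c hc hξ).trans hnr

end dim

end Groth.Agent.LibTanRank29
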