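import Mathlib
import Groth.Prelude

/-!
# The reduced induced closed subscheme on the closure of a point (helper29)

`clSub ξ` with its closed immersion `clι ξ : clSub ξ ⟶ X`: integral, with range `closure {ξ}`,
generic point mapping to `ξ`; `clLift`: morphisms between them.
(The first lemmas are copies of helper4/helper5/helper18 lemmas.)
-/

set_option autoImplicit false
set_option linter.style.haveILetI false
universe u

open CategoryTheory AlgebraicGeometry TopologicalSpace

namespace Groth.Agent.LibTanRank29

section Copies

variable {X : Scheme.{u}}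

theorem ker_eq_vanishingIdeal_range {Z : Scheme.{u}} [IsReduced Z] (i : Z ⟶ X) :
    i.ker = Scheme.IdealSheafData.vanishingIdeal (.closure (Set.range i)) := by
  rw [← Scheme.IdealSheafData.map_bot, ← Scheme.nilradical_eq_bot,
    ← Scheme.IdealSheafData.vanishingIdeal_top, Scheme.IdealSheafData.map_vanishingIdeal]
  congr 2
  simp

theorem vanishingIdeal_le_ker_of_range_subset {Z : Scheme.{u}} [IsReduced Z] (i : Z ⟶ X)
    (C : Closeds X) (h : Set.range i ⊆ (C : Set X)) :
    Scheme.IdealSheafData.vanishingIdeal C ≤ i.ker := by
  rw [ker_eq_vanishingIdeal_range]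
  apply Scheme.IdealSheafData.vanishingIdeal_antimono
  rw [Closeds.closure_le]
  exact h

theorem isReduced_subscheme_vanishingIdeal (C : Closeds X) :
    IsReduced (Scheme.IdealSheafData.vanishingIdeal C).subscheme := by
  have : ∀ i, IsReduced ((Scheme.IdealSheafData.vanishingIdeal C).subschemeCover.openCover.X i) := by
    intro (U : X.affineOpens)
    have hrad : ((Scheme.IdealSheafData.vanishingIdeal C).ideal U).IsRadical := by
      rw [Scheme.IdealSheafData.vanishingIdeal_ideal]
      exact PrimeSpectrum.isRadical_vanishingIdeal _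
    have : _root_.IsReduced (Γ(X, U) ⧸ (Scheme.IdealSheafData.vanishingIdeal C).ideal U) :=
      (Ideal.isRadical_iff_quotient_reduced _).mp hrad
    change IsReduced (Spec (.of (Γ(X, U) ⧸ (Scheme.IdealSheafData.vanishingIdeal C).ideal U)))
    infer_instance
  exact IsReduced.of_openCover _ (Scheme.IdealSheafData.vanishingIdeal C).subschemeCover.openCover

theorem range_subschemeι_vanishingIdeal (C : Closeds X) :
    Set.range (Scheme.IdealSheafData.vanishingIdeal C).subschemeι = (C : Set X) := by
  rw [Scheme.IdealSheafData.range_subschemeι, Scheme.IdealSheafData.coe_support_vanishingIdeal]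

theorem isIntegral_subscheme_vanishingIdeal (C : Closeds X) (hC : IsIrreducible (C : Set X)) :
    IsIntegral (Scheme.IdealSheafData.vanishingIdeal C).subscheme := by
  haveI := isReduced_subscheme_vanishingIdeal C
  haveI : IrreducibleSpace ↥(Scheme.IdealSheafData.vanishingIdeal C).subscheme := by
    have hemb := (Scheme.IdealSheafData.vanishingIdeal C).subschemeι.isEmbedding
    have hr := range_subschemeι_vanishingIdeal C
    have : IsIrreducible (Set.univ : Set ↥(Scheme.IdealSheafData.vanishingIdeal C).subscheme) := by
      haveI : IrreducibleSpace ↥(Set.range (Scheme.IdealSheafData.vanishingIdeal C).subschemeι) :=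
        Subtype.irreducibleSpace (hr ▸ hC)
      have h1 := (IrreducibleSpace.isIrreducible_univ
        ↥(Set.range (Scheme.IdealSheafData.vanishingIdeal C).subschemeι)).image
          hemb.toHomeomorph.symm hemb.toHomeomorph.symm.continuous.continuousOn
      rwa [Set.image_univ, hemb.toHomeomorph.symm.surjective.range_eq] at h1
    exact (irreducibleSpace_def _).mpr this
  exact isIntegral_of_irreducibleSpace_of_isReduced _

end Copies

section Cl

variable {X Y : Scheme.{u}}

/-- the reduced induced closed subscheme on the closure of a point -/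
noncomputable def clSub (ξ : X) : Scheme.{u} :=
  (Scheme.IdealSheafData.vanishingIdeal (Closeds.closure {ξ})).subscheme

/-- its closed immersion -/
noncomputable def clι (ξ : X) : clSub ξ ⟶ X :=
  (Scheme.IdealSheafData.vanishingIdeal (Closeds.closure {ξ})).subschemeι

instance (ξ : X) : IsClosedImmersion (clι ξ) :=
  inferInstanceAs (IsClosedImmersion (Scheme.IdealSheafData.subschemeι _))

theorem range_clι (ξ : X) : Set.range (clι ξ) = closure {ξ} :=
  range_subschemeι_vanishingIdeal _

instance isIntegral_clSub (ξ : X) : IsIntegral (clSub ξ) :=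
  isIntegral_subscheme_vanishingIdeal _ (by
    rw [Closeds.coe_closure]; exact isIrreducible_singleton.closure)

theorem clι_genericPoint (ξ : X) : clι ξ (genericPoint (clSub ξ)) = ξ := by
  have h1 : IsGenericPoint (clι ξ (genericPoint (clSub ξ))) (closure (clι ξ '' Set.univ)) :=
    (genericPoint_spec (clSub ξ)).image (clι ξ).continuous
  rw [Set.image_univ, range_clι, closure_closure] at h1
  exact h1.eq (isGenericPoint_closure)

theorem ker_clι (ξ : X) :
    (clι ξ).ker = Scheme.IdealSheafData.vanishingIdeal (Closeds.closure {ξ}) :=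
  Scheme.IdealSheafData.ker_subschemeι _

/-- a morphism maps the reduced closure of a point to the reduced closure of its image -/
noncomputable def clMap (f : X ⟶ Y) (ξ : X) : clSub ξ ⟶ clSub (f ξ) :=
  IsClosedImmersion.lift (clι (f ξ)) (clι ξ ≫ f) (by
    rw [ker_clι]
    apply vanishingIdeal_le_ker_of_range_subset
    rintro _ ⟨z, rfl⟩
    have hz : clι ξ z ∈ closure ({ξ} : Set X) := by rw [← range_clι]; exact ⟨z, rfl⟩
    rw [Closeds.coe_closure]
    have := image_closure_subset_closure_image f.continuous (Set.mem_image_of_mem f hz)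
    rwa [Set.image_singleton] at this)

@[reassoc]
theorem clMap_clι (f : X ⟶ Y) (ξ : X) : clMap f ξ ≫ clι (f ξ) = clι ξ ≫ f :=
  IsClosedImmersion.lift_fac _ _ _

theorem clMap_genericPoint (f : X ⟶ Y) (ξ : X) :
    clMap f ξ (genericPoint (clSub ξ)) = genericPoint (clSub (f ξ)) := by
  apply (clι (f ξ)).isEmbedding.injective
  rw [← Scheme.Hom.comp_apply, clMap_clι, Scheme.Hom.comp_apply, clι_genericPoint,
    clι_genericPoint]

theorem denseRange_clMap (f : X ⟶ Y) (ξ : X) : DenseRange (clMap f ξ) := by
  rw [DenseRange, dense_iff_closure_eq, Set.eq_univ_iff_forall]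
  intro y
  have h1 : genericPoint (clSub (f ξ)) ∈ Set.range (clMap f ξ) :=
    ⟨_, clMap_genericPoint f ξ⟩
  have h2 : y ∈ closure ({genericPoint (clSub (f ξ))} : Set (clSub (f ξ))) := by
    rw [(genericPoint_spec (clSub (f ξ))).def]; trivial
  exact closure_mono (Set.singleton_subset_iff.mpr h1) h2

end Cl

end Groth.Agent.LibTanRank29
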