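import Mathlib
import Groth.Prelude
import Groth.Agent.LibGenSmooth29a
import Groth.Agent.LibTanRank29a
import Groth.Agent.LibTanRank29b
import Groth.Agent.LibTanRank29c
import Groth.Agent.Lib.Helper3.IrredDim

/-!
# Hartshorne III.10.6: the image of the locus where the tangent map has rank `≤ r` has
dimension `≤ r` (helper29)
-/

set_option autoImplicit false
set_option linter.style.haveILetI false
universe u

open CategoryTheory AlgebraicGeometry IsLocalRing TopologicalSpace
open Groth.Agent.Lib.helper3.FTField Groth.Agent.LibCotTan29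

namespace Groth.Agent.LibTanRank29

/-- the closed points at which the cotangent map of `f` has rank at most `r` -/
def lowRank {X Y : Scheme.{u}} (f : X ⟶ Y) (r : ℕ) : Set X :=
  {x | IsClosed ({x} : Set X) ∧
    ∃ S : Finset (CotangentSpace (X.presheaf.stalk x)), S.card ≤ r ∧
      (LinearMap.range (FixPt.cotangentMapAt f x (f x) rfl) :
        Set (CotangentSpace (X.presheaf.stalk x))) ⊆
        (Submodule.span (ResidueField (X.presheaf.stalk x))
          (S : Set (CotangentSpace (X.presheaf.stalk x))) :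
            Set (CotangentSpace (X.presheaf.stalk x)))}

theorem stalkMapAt_rfl {X Y : Scheme.{u}} (f : X ⟶ Y) (x : X) :
    FixPt.stalkMapAt f x (f x) rfl = (f.stalkMap x).hom := by
  ext a
  simp [FixPt.stalkMapAt, TopCat.Presheaf.stalkCongr]

attribute [local instance] Curv2.stalkAlgebra

section algHom

variable (k : Type u) [Field k] {X Y : Scheme.{u}} [X.Over (Spec (CommRingCat.of k))]
  [Y.Over (Spec (CommRingCat.of k))] (f : X ⟶ Y)
  (hf : f ≫ (Y ↘ Spec (CommRingCat.of k)) = (X ↘ Spec (CommRingCat.of k)))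

include hf in
theorem stalkMapAt_algebraMap (x : X) (y : Y) (hxy : f x = y) (c : k) :
    FixPt.stalkMapAt f x y hxy (algebraMap k (Y.presheaf.stalk y) c) =
      algebraMap k (X.presheaf.stalk x) c := by
  subst hxy
  rw [stalkMapAt_rfl]
  exact congrArg (fun φ => φ c) (stalkMap_comp_stalkMap k f hf x)

/-- the local homomorphism of a `k`-morphism at a point, as a `k`-algebra homomorphism -/
noncomputable def stalkAlgHomAt (x : X) (y : Y) (hxy : f x = y) :
    Y.presheaf.stalk y →ₐ[k] X.presheaf.stalk x :=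
  { FixPt.stalkMapAt f x y hxy with
    commutes' := stalkMapAt_algebraMap k f hf x y hxy }

theorem stalkAlgHomAt_apply (x : X) (y : Y) (hxy : f x = y) (a : Y.presheaf.stalk y) :
    stalkAlgHomAt k f hf x y hxy a = FixPt.stalkMapAt f x y hxy a := rfl

theorem stalkAlgHomAt_rfl_apply (x : X) (a : Y.presheaf.stalk (f x)) :
    stalkAlgHomAt k f hf x (f x) rfl a = (f.stalkMap x).hom a := by
  rw [stalkAlgHomAt_apply, stalkMapAt_rfl]

theorem le_comap_stalkAlgHomAt (x : X) (y : Y) (hxy : f x = y) :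
    maximalIdeal (Y.presheaf.stalk y) ≤
      (maximalIdeal (X.presheaf.stalk x)).comap (stalkAlgHomAt k f hf x y hxy) :=
  FixPt.maximalIdeal_le_comap_stalkMapAt f x y hxy

end algHom

section square

variable {X Y X' Y' : Scheme.{u}} (f : X ⟶ Y) (i : X' ⟶ X) (j : Y' ⟶ Y) (f' : X' ⟶ Y')

theorem stalkMapAt_surjective [IsPreimmersion j] (z : Y') (y : Y) (hzy : j z = y) :
    Function.Surjective (FixPt.stalkMapAt j z y hzy) := by
  subst hzy
  rw [stalkMapAt_rfl]
  exact j.stalkMap_surjective z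

theorem stalk_square (hsq : f' ≫ j = i ≫ f) (x' : X') (hzy : j (f' x') = f (i x'))
    (a : Y.presheaf.stalk (f (i x'))) :
    (i.stalkMap x').hom ((f.stalkMap (i x')).hom a) =
      (f'.stalkMap x').hom (FixPt.stalkMapAt j (f' x') (f (i x')) hzy a) := by
  have e1 := Scheme.Hom.stalkMap_congr_hom (i ≫ f) (f' ≫ j) hsq.symm x'
  rw [Scheme.Hom.stalkMap_comp, Scheme.Hom.stalkMap_comp] at e1
  have e2 := congrArg (fun φ => φ.hom a) e1
  exact e2

end square

section core

variable (k : Type u) [Field k] [IsAlgClosed k]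
  {X Y X' Y' : Scheme.{u}} [X.Over (Spec (CommRingCat.of k))] [Y.Over (Spec (CommRingCat.of k))]
  [X'.Over (Spec (CommRingCat.of k))] [Y'.Over (Spec (CommRingCat.of k))]
  [LocallyOfFiniteType (X ↘ Spec (CommRingCat.of k))]
  [LocallyOfFiniteType (X' ↘ Spec (CommRingCat.of k))]
  (f : X ⟶ Y) (hf : f ≫ (Y ↘ Spec (CommRingCat.of k)) = (X ↘ Spec (CommRingCat.of k)))
  (i : X' ⟶ X) (hi : i ≫ (X ↘ Spec (CommRingCat.of k)) = (X' ↘ Spec (CommRingCat.of k)))
  (j : Y' ⟶ Y) (hj : j ≫ (Y ↘ Spec (CommRingCat.of k)) = (Y' ↘ Spec (CommRingCat.of k)))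
  (f' : X' ⟶ Y') (hf' : f' ≫ (Y' ↘ Spec (CommRingCat.of k)) = (X' ↘ Spec (CommRingCat.of k)))
  (hsq : f' ≫ j = i ≫ f) [IsPreimmersion j]

include hf hi hj hf' hsq in
/-- the cotangent space of `Y'` at the image of a closed point `x'` of `X'` where `f'` is smooth and
the cotangent map of `f` has rank `≤ r` has dimension `≤ r` -/
theorem finrank_cotangentSpace_le_of_lowRank (r : ℕ) (x' : X') (hx'c : IsClosed ({x'} : Set X'))
    (hsm : (f'.stalkMap x').hom.FormallySmooth) (hlow : i x' ∈ lowRank f r) :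
    Module.finrank (ResidueField (Y'.presheaf.stalk (f' x')))
      (CotangentSpace (Y'.presheaf.stalk (f' x'))) ≤ r := by
  obtain ⟨hxc, S, hS, hrange⟩ := hlow
  have hzy : j (f' x') = f (i x') := by
    rw [← Scheme.Hom.comp_apply, hsq, Scheme.Hom.comp_apply]
  letI algST : Algebra (Y'.presheaf.stalk (f' x')) (X'.presheaf.stalk x') :=
    (f'.stalkMap x').hom.toAlgebra
  haveI : IsScalarTower k (Y'.presheaf.stalk (f' x')) (X'.presheaf.stalk x') :=
    IsScalarTower.of_algebraMap_eq' (stalkMap_comp_stalkMap k f' hf' x').symm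
  haveI : IsLocalHom (algebraMap (Y'.presheaf.stalk (f' x')) (X'.presheaf.stalk x')) :=
    inferInstanceAs (IsLocalHom (f'.stalkMap x').hom)
  haveI : Algebra.FormallySmooth (Y'.presheaf.stalk (f' x')) (X'.presheaf.stalk x') := hsm
  have hT := stalk_residue_bijective k X' x' hx'c
  have hS' := residue_bijective_of_tower k (Y'.presheaf.stalk (f' x')) (X'.presheaf.stalk x') hT
  have hres : Function.Bijective (algebraMap (ResidueField (Y'.presheaf.stalk (f' x')))
      (ResidueField (X'.presheaf.stalk x'))) :=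
    resLin_bijective k (Y'.presheaf.stalk (f' x')) (X'.presheaf.stalk x') hS' hT
  have hinj := mapCotangent_injective_of_formallySmooth hres
    (stalkAlgHomAt k f' hf' x' (f' x') rfl) (stalkAlgHomAt_rfl_apply k f' hf' x')
    (le_comap_stalkAlgHomAt k f' hf' x' (f' x') rfl)
  have hsurj := mapCotangent_surjective_of_surjective
    (stalkAlgHomAt k j hj (f' x') (f (i x')) hzy) (stalkMapAt_surjective j (f' x') (f (i x')) hzy)
    (le_comap_stalkAlgHomAt k j hj (f' x') (f (i x')) hzy)
  refine finrank_cotangentSpace_le k r (stalkAlgHomAt k f hf (i x') (f (i x')) rfl)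
    (stalkAlgHomAt k i hi x' (i x') rfl) (stalkAlgHomAt k j hj (f' x') (f (i x')) hzy)
    (stalkAlgHomAt k f' hf' x' (f' x') rfl) ?_
    (le_comap_stalkAlgHomAt k f hf (i x') (f (i x')) rfl)
    (le_comap_stalkAlgHomAt k i hi x' (i x') rfl)
    (le_comap_stalkAlgHomAt k j hj (f' x') (f (i x')) hzy)
    (le_comap_stalkAlgHomAt k f' hf' x' (f' x') rfl) hinj hsurj
    (stalk_residue_bijective k X (i x') hxc).2 hS' S hS ?_
  · intro a
    rw [stalkAlgHomAt_rfl_apply, stalkAlgHomAt_rfl_apply, stalkAlgHomAt_rfl_apply,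
      stalkAlgHomAt_apply]
    exact stalk_square f i j f' hsq x' hzy a
  · intro v
    exact hrange ⟨v, rfl⟩

end core

section main

variable (k : Type u) [Field k] [IsAlgClosed k] [CharZero k]
  {X Y : Scheme.{u}} [X.Over (Spec (CommRingCat.of k))] [Y.Over (Spec (CommRingCat.of k))]
  [LocallyOfFiniteType (X ↘ Spec (CommRingCat.of k))]
  [LocallyOfFiniteType (Y ↘ Spec (CommRingCat.of k))]
  (f : X ⟶ Y) (hf : f ≫ (Y ↘ Spec (CommRingCat.of k)) = (X ↘ Spec (CommRingCat.of k)))

include hf in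
/-- if the low rank locus is dense near `ξ` in `closure {ξ}`, then `f ξ` has transcendence degree
at most `r` -/
theorem trdeg_le_of_dense_lowRank (r : ℕ) (ξ : X)
    (hd : ∀ U : Set X, IsOpen U → ξ ∈ U → (U ∩ lowRank f r ∩ closure {ξ}).Nonempty) :
    ∃ n : ℕ, n ≤ r ∧
      @Algebra.trdeg k (Y.residueField (f ξ)) _ _ (Curv2.resAlgebra k Y (f ξ)) = n := by
  set X' := clSub ξ with hX'
  set i := clι ξ with hi'
  set Y' := clSub (f ξ) with hY'
  set j := clι (f ξ) with hj'
  set f' := clMap f ξ with hf''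
  have hsq : f' ≫ j = i ≫ f := clMap_clι f ξ
  letI : X'.Over (Spec (CommRingCat.of k)) := ⟨i ≫ (X ↘ Spec (CommRingCat.of k))⟩
  letI : Y'.Over (Spec (CommRingCat.of k)) := ⟨j ≫ (Y ↘ Spec (CommRingCat.of k))⟩
  have hi : i ≫ (X ↘ Spec (CommRingCat.of k)) = (X' ↘ Spec (CommRingCat.of k)) := rfl
  have hj : j ≫ (Y ↘ Spec (CommRingCat.of k)) = (Y' ↘ Spec (CommRingCat.of k)) := rfl
  have hf' : f' ≫ (Y' ↘ Spec (CommRingCat.of k)) = (X' ↘ Spec (CommRingCat.of k)) := by
    change f' ≫ j ≫ _ = i ≫ _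
    rw [← Category.assoc, hsq, Category.assoc, hf]
  haveI : LocallyOfFiniteType (X' ↘ Spec (CommRingCat.of k)) :=
    inferInstanceAs (LocallyOfFiniteType (i ≫ (X ↘ Spec (CommRingCat.of k))))
  haveI : LocallyOfFiniteType (Y' ↘ Spec (CommRingCat.of k)) :=
    inferInstanceAs (LocallyOfFiniteType (j ≫ (Y ↘ Spec (CommRingCat.of k))))
  haveI : IsIntegral X' := isIntegral_clSub ξ
  haveI : IsIntegral Y' := isIntegral_clSub (f ξ)
  have hdom : DenseRange f' := denseRange_clMap f ξ
  haveI := locallyOfFinitePresentation_of_over k f' hf'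
  have hgen : genericPoint X' ∈ f'.smoothLocus := Scheme.Hom.mem_smoothLocus.mpr
    (Groth.Agent.LibGenSmooth29.formallySmooth_stalkMap_genericPoint k f' hf' hdom)
  obtain ⟨U, hU, hUeq⟩ := (i.isEmbedding.isInducing.isOpen_iff).mp f'.smoothLocus.2
  have hξU : ξ ∈ U := by
    rw [← clι_genericPoint ξ]
    change genericPoint X' ∈ i ⁻¹' U
    rw [hUeq]
    exact hgen
  obtain ⟨a, ⟨haU, haA⟩, hacl⟩ := hd U hU hξU
  obtain ⟨x', rfl⟩ : a ∈ Set.range i := by rw [range_clι]; exact hacl
  have hx'sm : x' ∈ f'.smoothLocus := by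
    have h1 : x' ∈ i ⁻¹' U := haU
    rwa [hUeq] at h1
  have hx'c : IsClosed ({x'} : Set X') := by
    have h1 := haA.1.preimage i.continuous
    rwa [← Set.image_singleton, Set.preimage_image_eq _ i.isEmbedding.injective] at h1
  have hfin := finrank_cotangentSpace_le_of_lowRank k f hf i hi j hj f' hf' hsq r x' hx'c
    (Scheme.Hom.mem_smoothLocus.mp hx'sm) haA
  haveI : IsLocallyNoetherian Y' :=
    LocallyOfFiniteType.isLocallyNoetherian (Y' ↘ Spec (CommRingCat.of k))
  have hdimO : ringKrullDim (Y'.presheaf.stalk (f' x')) ≤ (r : WithBot ℕ∞) := by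
    refine (ringKrullDim_le_spanFinrank_maximalIdeal _).trans ?_
    rw [spanFinrank_maximalIdeal_eq_finrank_cotangentSpace]
    exact_mod_cast hfin
  haveI : JacobsonSpace Y' := LocallyOfFiniteType.jacobsonSpace (Y' ↘ Spec (CommRingCat.of k))
  haveI : LocallyOfFiniteType f' := by
    haveI : LocallyOfFiniteType (f' ≫ (Y' ↘ Spec (CommRingCat.of k))) := by rw [hf']; infer_instance
    exact locallyOfFiniteType_of_comp f' (Y' ↘ Spec (CommRingCat.of k))
  have hy'c : IsClosed ({f' x'} : Set Y') :=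
    f'.closePoints_subset_preimage_closedPoints hx'c
  obtain ⟨d, hd1, hd2⟩ := Groth.Agent.Lib.helper3.IrredDim.exists_dim_eq_localDim_of_irreducible k Y'
  obtain ⟨a, b, ha, hb, hab⟩ :=
    Groth.Agent.Lib.helper3.IrredDim.localDim_eq_trdeg_add_stalk k Y' (f' x')
  have h0 := trdeg_residueField_eq_zero_of_isClosed k Y' (f' x') hy'c
  obtain ⟨n, hn⟩ := exists_nat_trdeg_residueField k Y (f ξ)
  have h1 := dim_closure_eq_trdeg k Y (f ξ) n hn
  have h2 : topologicalKrullDim Y' = topologicalKrullDim ↥(closure ({f ξ} : Set Y)) := by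
    rw [← range_clι (f ξ)]
    exact IsHomeomorph.topologicalKrullDim_eq _ j.isEmbedding.toHomeomorph.isHomeomorph
  refine ⟨n, ?_, hn⟩
  rw [h0] at ha
  have ha0 : a = 0 := by exact_mod_cast ha.symm
  subst ha0
  rw [hd2, zero_add] at hab
  have hdb : d = b := by exact_mod_cast hab
  rw [h2, h1] at hd1
  have hnd : n = d := by exact_mod_cast hd1
  rw [hb] at hdimO
  have hbr : b ≤ r := by exact_mod_cast hdimO
  omega

include hf in
/-- **Hartshorne III.10.6.** -/
theorem dim_closure_image_lowRank_le [QuasiCompact (X ↘ Spec (CommRingCat.of k))] (r : ℕ) :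
    topologicalKrullDim ↥(closure (f '' lowRank f r)) ≤ (r : WithBot ℕ∞) := by
  haveI : IsLocallyNoetherian X :=
    LocallyOfFiniteType.isLocallyNoetherian (X ↘ Spec (CommRingCat.of k))
  haveI : CompactSpace X := QuasiCompact.compactSpace_of_compactSpace (X ↘ Spec (CommRingCat.of k))
  haveI : IsNoetherian X := {}
  obtain ⟨F, hFfin, hFcov, hFd⟩ := exists_finite_generic (lowRank f r)
  apply dim_le_of_forall_exists_specializes k Y _ isClosed_closure r
  intro η hη
  have hsub : closure (f '' lowRank f r) ⊆ ⋃ ξ ∈ F, closure {f ξ} := by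
    apply closure_minimal _ (hFfin.isClosed_biUnion fun ξ _ => isClosed_closure)
    rintro _ ⟨a, ha, rfl⟩
    obtain ⟨ξ, hξ, haξ⟩ := Set.mem_iUnion₂.mp (hFcov ha)
    refine Set.mem_iUnion₂.mpr ⟨ξ, hξ, ?_⟩
    have := image_closure_subset_closure_image f.continuous (Set.mem_image_of_mem f haξ)
    rwa [Set.image_singleton] at this
  obtain ⟨ξ, hξ, hηξ⟩ := Set.mem_iUnion₂.mp (hsub hη)
  obtain ⟨n, hn, htr⟩ := trdeg_le_of_dense_lowRank k f hf r ξ (hFd ξ hξ)
  exact ⟨f ξ, n, specializes_iff_mem_closure.mpr hηξ, hn, htr⟩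

end main

end Groth.Agent.LibTanRank29
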