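import Mathlib
import Groth.Prelude
import Groth.Agent.LibTanRank29d
import Groth.Agent.S1535

/-!
# Generic smoothness on the target (Hartshorne III.10.7) (helper29)
-/

set_option autoImplicit false
set_option linter.style.haveILetI false
universe u

open CategoryTheory AlgebraicGeometry IsLocalRing TopologicalSpace
open Groth.Agent.Lib.helper3.FTField Groth.Agent.LibCotTan29 Groth.Agent.LibTanRank29

namespace Groth.Agent.LibGenSmoothII29

section ring

variable (k : Type u) [Field k] {Oy Ox : Type u} [CommRing Oy] [CommRing Ox]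
  [IsLocalRing Oy] [IsLocalRing Ox] [Algebra k Oy] [Algebra k Ox] [IsNoetherianRing Oy]

/-- a cotangent map which is not injective has rank smaller than the dimension of its source -/
theorem exists_finset_of_not_injective (d : ℕ) (φ : Oy →ₐ[k] Ox)
    (hφ : maximalIdeal Oy ≤ (maximalIdeal Ox).comap φ)
    (hres : Function.Bijective (algebraMap k (ResidueField Oy)))
    (hd : Module.finrank (ResidueField Oy) (CotangentSpace Oy) = d)
    (hni : ¬ Function.Injective (Ideal.mapCotangent _ _ φ hφ)) :
    1 ≤ d ∧ ∃ S : Finset (CotangentSpace Ox), S.card ≤ d - 1 ∧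
      ∀ v, Ideal.mapCotangent _ _ φ hφ v ∈
        Submodule.span (ResidueField Ox) (S : Set (CotangentSpace Ox)) := by
  classical
  haveI := isScalarTower_cotangentSpace k Oy
  haveI := isScalarTower_cotangentSpace k Ox
  rw [finrank_eq_of_bijective k (ResidueField Oy) (CotangentSpace Oy) hres] at hd
  haveI : Module.Finite k (ResidueField Oy) :=
    Module.Finite.of_surjective (Algebra.linearMap k (ResidueField Oy)) hres.2
  haveI : Module.Finite k (CotangentSpace Oy) :=
    Module.Finite.trans (ResidueField Oy) (CotangentSpace Oy)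
  set c := Ideal.mapCotangent (maximalIdeal Oy) (maximalIdeal Ox) φ hφ with hc
  have hrn := LinearMap.finrank_range_add_finrank_ker c
  rw [hd] at hrn
  have hker : 1 ≤ Module.finrank k (LinearMap.ker c) := by
    rw [Nat.one_le_iff_ne_zero, Ne, Submodule.finrank_eq_zero]
    intro h
    exact hni (LinearMap.ker_eq_bot.mp h)
  refine ⟨by omega, ?_⟩
  let b := Module.finBasis k (LinearMap.range c)
  refine ⟨Finset.univ.image (fun i => (b i : CotangentSpace Ox)), ?_, ?_⟩
  · refine Finset.card_image_le.trans ?_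
    rw [Finset.card_univ, Fintype.card_fin]
    omega
  · intro v
    have h1 : (⟨c v, LinearMap.mem_range_self c v⟩ : LinearMap.range c) ∈
        Submodule.span k (Set.range b) := by rw [b.span_eq]; trivial
    have h2 : c v ∈ Submodule.span k
        ((Finset.univ.image (fun i => (b i : CotangentSpace Ox)) : Finset (CotangentSpace Ox)) :
          Set (CotangentSpace Ox)) := by
      have h3 := Submodule.mem_map_of_mem (f := (LinearMap.range c).subtype) h1
      rw [Submodule.map_span, ← Set.range_comp] at h3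
      rw [Finset.coe_image, Finset.coe_univ, Set.image_univ]
      exact h3
    exact Submodule.span_le_restrictScalars k (ResidueField Ox) _ h2

end ring

attribute [local instance] Curv2.stalkAlgebra

section sch

variable (k : Type u) [Field k] (Y : Scheme.{u}) [Y.Over (Spec (CommRingCat.of k))]
  [LocallyOfFiniteType (Y ↘ Spec (CommRingCat.of k))]

include k in
/-- the local rings at closed points of an irreducible scheme of finite type over a field all have
the dimension of the scheme -/
theorem exists_dim_stalk_closed [IrreducibleSpace Y] :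
    ∃ d : ℕ, topologicalKrullDim Y = (d : WithBot ℕ∞) ∧
      ∀ y : Y, IsClosed ({y} : Set Y) → ringKrullDim (Y.presheaf.stalk y) = (d : WithBot ℕ∞) := by
  obtain ⟨d, hd1, hd2⟩ := Groth.Agent.Lib.helper3.IrredDim.exists_dim_eq_localDim_of_irreducible k Y
  refine ⟨d, hd1, fun y hyc => ?_⟩
  obtain ⟨a, b, ha, hb, hab⟩ := Groth.Agent.Lib.helper3.IrredDim.localDim_eq_trdeg_add_stalk k Y y
  have h0 := trdeg_residueField_eq_zero_of_isClosed k Y y hyc
  rw [h0] at ha
  have ha0 : a = 0 := by exact_mod_cast ha.symm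
  subst ha0
  rw [hd2, zero_add] at hab
  have hdb : d = b := by exact_mod_cast hab
  rw [hb, hdb]

/-- the local rings at the points of the smooth locus are regular -/
theorem isRegularLocalRing_stalk_of_mem_smoothLocus (y : Y)
    (hy : y ∈ (Y ↘ Spec (CommRingCat.of k)).smoothLocus) :
    IsRegularLocalRing (Y.presheaf.stalk y) := by
  set V := (Y ↘ Spec (CommRingCat.of k)).smoothLocus with hV
  letI : (V : Scheme.{u}).Over (Spec (CommRingCat.of k)) :=
    ⟨V.ι ≫ (Y ↘ Spec (CommRingCat.of k))⟩
  haveI : Smooth ((V : Scheme.{u}) ↘ Spec (CommRingCat.of k)) := by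
    change Smooth (V.ι ≫ (Y ↘ Spec (CommRingCat.of k)))
    rw [← Scheme.Hom.smoothLocus_eq_top_iff, ← Scheme.Hom.preimage_smoothLocus_eq]
    exact Scheme.Opens.ι_preimage_self V
  have h1 := Groth.Agent.S1535.result k (V : Scheme.{u}) ⟨y, hy⟩
  exact IsRegularLocalRing.of_ringEquiv
    (asIso (V.ι.stalkMap ⟨y, hy⟩)).commRingCatIsoToRingEquiv.symm

end sch

section main

variable (k : Type u) [Field k] [IsAlgClosed k]
  {X Y : Scheme.{u}} [X.Over (Spec (CommRingCat.of k))] [Y.Over (Spec (CommRingCat.of k))]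
  [LocallyOfFiniteType (X ↘ Spec (CommRingCat.of k))] [Smooth (X ↘ Spec (CommRingCat.of k))]
  [LocallyOfFiniteType (Y ↘ Spec (CommRingCat.of k))]
  (f : X ⟶ Y) (hf : f ≫ (Y ↘ Spec (CommRingCat.of k)) = (X ↘ Spec (CommRingCat.of k)))

include hf in
/-- at a closed point of a smooth variety lying over the smooth locus of `Y` where `f` is not
smooth, the cotangent map has rank `< dim Y` -/
theorem mem_lowRank_of_not_formallySmooth (d : ℕ)
    (hd : ∀ y : Y, IsClosed ({y} : Set Y) → ringKrullDim (Y.presheaf.stalk y) = (d : WithBot ℕ∞))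
    (x : X) (hxc : IsClosed ({x} : Set X))
    (hy : f x ∈ (Y ↘ Spec (CommRingCat.of k)).smoothLocus)
    (hns : ¬ (f.stalkMap x).hom.FormallySmooth) :
    1 ≤ d ∧ x ∈ lowRank f (d - 1) := by
  haveI : JacobsonSpace Y := LocallyOfFiniteType.jacobsonSpace (Y ↘ Spec (CommRingCat.of k))
  haveI : LocallyOfFiniteType f := by
    haveI : LocallyOfFiniteType (f ≫ (Y ↘ Spec (CommRingCat.of k))) := by rw [hf]; infer_instance
    exact locallyOfFiniteType_of_comp f (Y ↘ Spec (CommRingCat.of k))
  have hyc : IsClosed ({f x} : Set Y) := f.closePoints_subset_preimage_closedPoints hxc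
  haveI : IsLocallyNoetherian Y :=
    LocallyOfFiniteType.isLocallyNoetherian (Y ↘ Spec (CommRingCat.of k))
  haveI hreg := isRegularLocalRing_stalk_of_mem_smoothLocus k Y (f x) hy
  have hfr : Module.finrank (ResidueField (Y.presheaf.stalk (f x)))
      (CotangentSpace (Y.presheaf.stalk (f x))) = d := by
    have h1 := (IsRegularLocalRing.iff_finrank_cotangentSpace (R := Y.presheaf.stalk (f x))).mp hreg
    rw [hd _ hyc] at h1
    exact_mod_cast h1
  have hni : ¬ Function.Injective (FixPt.cotangentMapAt f x (f x) rfl) := fun h =>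
    hns ((formallySmooth_stalkMap_iff_cotangentMapAt_injective k f hf x hxc).mpr h)
  obtain ⟨h1, S, hS, hrange⟩ := exists_finset_of_not_injective k d
    (stalkAlgHomAt k f hf x (f x) rfl) (le_comap_stalkAlgHomAt k f hf x (f x) rfl)
    (stalk_residue_bijective k Y (f x) hyc) hfr hni
  refine ⟨h1, hxc, S, hS, ?_⟩
  rintro _ ⟨v, rfl⟩
  exact hrange v

omit [IsAlgClosed k] [X.Over (Spec (CommRingCat.of k))] [Y.Over (Spec (CommRingCat.of k))]
  [LocallyOfFiniteType (X ↘ Spec (CommRingCat.of k))] [Smooth (X ↘ Spec (CommRingCat.of k))]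
  [LocallyOfFiniteType (Y ↘ Spec (CommRingCat.of k))] in
/-- the smooth locus is not changed by composing with an open immersion into a bigger target -/
theorem smoothLocus_comp_openImmersion {Z : Scheme.{u}} (e : Y ⟶ Z) [IsOpenImmersion e]
    [LocallyOfFinitePresentation f] : (f ≫ e).smoothLocus = f.smoothLocus := by
  ext x
  change ((f ≫ e).stalkMap x).hom.FormallySmooth ↔ (f.stalkMap x).hom.FormallySmooth
  rw [Scheme.Hom.stalkMap_comp]
  exact RingHom.FormallySmooth.respectsIso.cancel_left_isIso (e.stalkMap (f x)) (f.stalkMap x)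

include hf in
/-- **Generic smoothness on the target (Hartshorne III.10.7).** -/
theorem exists_open_smooth_restrict [CharZero k] [IsIntegral X] [IsIntegral Y]
    [QuasiCompact (X ↘ Spec (CommRingCat.of k))] :
    ∃ V : Y.Opens, (V : Set Y).Nonempty ∧ Smooth (f ∣_ V) := by
  obtain ⟨d, hd1, hd2⟩ := exists_dim_stalk_closed k Y
  set V₀ := (Y ↘ Spec (CommRingCat.of k)).smoothLocus with hV₀def
  have hV₀ : genericPoint Y ∈ V₀ :=
    Scheme.Hom.genericPoint_mem_smoothLocus_of_perfectField _
  haveI := locallyOfFinitePresentation_of_over k f hf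
  haveI : JacobsonSpace X := LocallyOfFiniteType.jacobsonSpace (X ↘ Spec (CommRingCat.of k))
  set B : Set X := {x | IsClosed ({x} : Set X) ∧ f x ∈ V₀ ∧ ¬ (f.stalkMap x).hom.FormallySmooth}
    with hBdef
  have hB : ∀ x ∈ B, 1 ≤ d ∧ x ∈ lowRank f (d - 1) := fun x hx =>
    mem_lowRank_of_not_formallySmooth k f hf d hd2 x hx.1 hx.2.1 hx.2.2
  have hne : closure (f '' B) ≠ Set.univ := by
    intro huniv
    rcases B.eq_empty_or_nonempty with hBe | ⟨x0, hx0⟩
    · rw [hBe, Set.image_empty, closure_empty] at huniv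
      exact Set.empty_ne_univ huniv
    · obtain ⟨h1, -⟩ := hB x0 hx0
      have hsub : f '' B ⊆ f '' lowRank f (d - 1) := Set.image_mono (fun x hx => (hB x hx).2)
      have hZ : closure (f '' lowRank f (d - 1)) = Set.univ := by
        apply Set.eq_univ_of_univ_subset
        rw [← huniv]
        exact closure_mono hsub
      have hdim := dim_closure_image_lowRank_le k f hf (d - 1)
      rw [hZ, Groth.Agent.Lib.helper3.IrredDim.dim_univ_eq, hd1] at hdim
      have h2 : d ≤ d - 1 := by exact_mod_cast hdim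
      omega
  let W : Y.Opens := ⟨(closure (f '' B))ᶜ, isClosed_closure.isOpen_compl⟩
  have hWne : (W : Set Y).Nonempty := Set.nonempty_compl.mpr hne
  refine ⟨V₀ ⊓ W, nonempty_preirreducible_inter V₀.2 W.2 ⟨_, hV₀⟩ hWne, ?_⟩
  have hU : f ⁻¹ᵁ (V₀ ⊓ W) ≤ f.smoothLocus := by
    by_contra hcon
    obtain ⟨x0, hx0V, hx0s⟩ := Set.not_subset.mp hcon
    have hne2 : (((f ⁻¹ᵁ (V₀ ⊓ W) : X.Opens) : Set X) ∩ (f.smoothLocus : Set X)ᶜ).Nonempty :=
      ⟨x0, hx0V, hx0s⟩
    obtain ⟨x, ⟨hxV, hxs⟩, hxc⟩ := nonempty_inter_closedPoints hne2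
      ((f ⁻¹ᵁ (V₀ ⊓ W)).2.isLocallyClosed.inter f.smoothLocus.2.isClosed_compl.isLocallyClosed)
    have hxB : x ∈ B := ⟨hxc, hxV.1, hxs⟩
    exact hxV.2 (subset_closure ⟨x, hxB, rfl⟩)
  have h1 : Smooth ((f ⁻¹ᵁ (V₀ ⊓ W)).ι ≫ f) := by
    rw [← Scheme.Hom.smoothLocus_eq_top_iff, ← Scheme.Hom.preimage_smoothLocus_eq, eq_top_iff]
    rintro ⟨x, hx⟩ -
    exact hU hx
  rw [← morphismRestrict_ι] at h1
  rw [← Scheme.Hom.smoothLocus_eq_top_iff] at h1 ⊢
  rwa [smoothLocus_comp_openImmersion] at h1

end main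

end Groth.Agent.LibGenSmoothII29
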