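import Mathlib
import Groth.Prelude
import Groth.Agent.LibGenSmoothII29a

/-!
# Generic smoothness on the target, without irreducibility of the source (helper29)
-/

set_option autoImplicit false
set_option linter.style.haveILetI false
universe u

open CategoryTheory AlgebraicGeometry IsLocalRing TopologicalSpace
open Groth.Agent.Lib.helper3.FTField Groth.Agent.LibCotTan29 Groth.Agent.LibTanRank29

namespace Groth.Agent.LibGenSmoothII29

variable (k : Type u) [Field k] [IsAlgClosed k] [CharZero k]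
  {X Y : Scheme.{u}} [X.Over (Spec (CommRingCat.of k))] [Y.Over (Spec (CommRingCat.of k))]
  [LocallyOfFiniteType (X ↘ Spec (CommRingCat.of k))] [Smooth (X ↘ Spec (CommRingCat.of k))]
  [LocallyOfFiniteType (Y ↘ Spec (CommRingCat.of k))]
  (f : X ⟶ Y) (hf : f ≫ (Y ↘ Spec (CommRingCat.of k)) = (X ↘ Spec (CommRingCat.of k)))

include hf in
/-- **Generic smoothness on the target**: `X` smooth, quasi-compact (not necessarily irreducible),
`Y` integral, characteristic zero: over a nonempty open of `Y` the morphism is smooth. -/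
theorem exists_open_preimage_le_smoothLocus [IsIntegral Y]
    [QuasiCompact (X ↘ Spec (CommRingCat.of k))] [LocallyOfFinitePresentation f] :
    ∃ V : Y.Opens, (V : Set Y).Nonempty ∧ f ⁻¹ᵁ V ≤ f.smoothLocus := by
  obtain ⟨d, hd1, hd2⟩ := exists_dim_stalk_closed k Y
  set V₀ := (Y ↘ Spec (CommRingCat.of k)).smoothLocus with hV₀def
  have hV₀ : genericPoint Y ∈ V₀ :=
    Scheme.Hom.genericPoint_mem_smoothLocus_of_perfectField _
  haveI : JacobsonSpace X := LocallyOfFiniteType.jacobsonSpace (X ↘ Spec (CommRingCat.of k))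
  set B : Set X := {x | IsClosed ({x} : Set X) ∧ f x ∈ V₀ ∧ ¬ (f.stalkMap x).hom.FormallySmooth}
    with hBdef
  have hB : ∀ x ∈ B, 1 ≤ d ∧ x ∈ lowRank f (d - 1) := fun x hx =>
    mem_lowRank_of_not_formallySmooth k f hf d hd2 x hx.1 hx.2.1 hx.2.2
  have hne : closure (f '' B) ≠ Set.univ := by
    intro huniv
    rcases B.eq_empty_or_nonempty with hBe | ⟨x0, hx0⟩
    · rw [hBe, Set.image_empty, closure_empty] at huniv
      exact Set.empty_ne_univ huniv
    · obtain ⟨h1, -⟩ := hB x0 hx0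
      have hsub : f '' B ⊆ f '' lowRank f (d - 1) := Set.image_mono (fun x hx => (hB x hx).2)
      have hZ : closure (f '' lowRank f (d - 1)) = Set.univ := by
        apply Set.eq_univ_of_univ_subset
        rw [← huniv]
        exact closure_mono hsub
      have hdim := dim_closure_image_lowRank_le k f hf (d - 1)
      rw [hZ, Groth.Agent.Lib.helper3.IrredDim.dim_univ_eq, hd1] at hdim
      have h2 : d ≤ d - 1 := by exact_mod_cast hdim
      omega
  let W : Y.Opens := ⟨(closure (f '' B))ᶜ, isClosed_closure.isOpen_compl⟩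
  have hWne : (W : Set Y).Nonempty := Set.nonempty_compl.mpr hne
  refine ⟨V₀ ⊓ W, nonempty_preirreducible_inter V₀.2 W.2 ⟨_, hV₀⟩ hWne, ?_⟩
  by_contra hcon
  obtain ⟨x0, hx0V, hx0s⟩ := Set.not_subset.mp hcon
  have hne2 : (((f ⁻¹ᵁ (V₀ ⊓ W) : X.Opens) : Set X) ∩ (f.smoothLocus : Set X)ᶜ).Nonempty :=
    ⟨x0, hx0V, hx0s⟩
  obtain ⟨x, ⟨hxV, hxs⟩, hxc⟩ := nonempty_inter_closedPoints hne2
    ((f ⁻¹ᵁ (V₀ ⊓ W)).2.isLocallyClosed.inter f.smoothLocus.2.isClosed_compl.isLocallyClosed)
  have hxB : x ∈ B := ⟨hxc, hxV.1, hxs⟩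
  exact hxV.2 (subset_closure ⟨x, hxB, rfl⟩)

end Groth.Agent.LibGenSmoothII29
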