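import Mathlib
import Groth.Prelude
import Groth.Agent.LibBertini29a
import Groth.Agent.LibGenSmoothII29b

/-!
# Ring-level Bertini theorem in characteristic zero (helper29)

`exists_poly_formallySmooth`: `R` smooth over an algebraically closed field `k` of characteristic
zero, `a_i ∈ R` generating the unit ideal: for `c` outside a proper closed subset of `k^n`, the
quotient `R / (Σ c_i a_i)` is formally smooth over `k`.
-/

set_option autoImplicit false
set_option linter.style.haveILetI false
universe u

open CategoryTheory AlgebraicGeometry MvPolynomial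

namespace Groth.Agent.LibBertini29

variable (k : Type u) [Field k] (R : Type u) [CommRing R] [Algebra k R] {n : ℕ} (a : Fin n → R)

/-- the coordinate map `k[T] → R[X]/(Σ a_i X_i)` -/
noncomputable def incMap : MvPolynomial (Fin n) k →ₐ[k] Inc a :=
  aeval (fun i => Ideal.Quotient.mk (Ideal.span {linForm a}) (X i))

/-- the element `Σ c_i a_i` -/
noncomputable def linComb (c : Fin n → k) : R := ∑ i, algebraMap k R (c i) * a i

/-- evaluation at `c`: `R[X]/(Σ a_i X_i) → R/(Σ c_i a_i)` -/
noncomputable def incEval (c : Fin n → k) : Inc a →ₐ[R] R ⧸ Ideal.span {linComb k R a c} :=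
  Ideal.Quotient.liftₐ _ ((Ideal.Quotient.mkₐ R (Ideal.span {linComb k R a c})).comp
    (aeval (fun i => algebraMap k R (c i)))) (by
    intro f hf
    obtain ⟨q, rfl⟩ := Ideal.mem_span_singleton'.mp hf
    rw [map_mul, AlgHom.comp_apply (Ideal.Quotient.mkₐ R (Ideal.span {linComb k R a c}))
      (aeval fun i => (algebraMap k R) (c i)) (linForm a), aeval_linForm, Ideal.Quotient.mkₐ_eq_mk]
    have : (Ideal.Quotient.mk (Ideal.span {linComb k R a c}))
        (∑ i, algebraMap R R (a i) * algebraMap k R (c i)) = 0 := by
      rw [Ideal.Quotient.eq_zero_iff_mem]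
      have : ∑ i, algebraMap R R (a i) * algebraMap k R (c i) = linComb k R a c := by
        unfold linComb
        refine Finset.sum_congr rfl fun i _ => ?_
        rw [Algebra.algebraMap_self, RingHom.id_apply, mul_comm]
      rw [this]
      exact Ideal.subset_span rfl
    rw [this, mul_zero])

theorem incEval_mk (c : Fin n → k) (f : MvPolynomial (Fin n) R) :
    incEval k R a c (Ideal.Quotient.mk _ f) =
      Ideal.Quotient.mk _ (aeval (fun i => algebraMap k R (c i)) f) := rfl

theorem incEval_incMap (c : Fin n → k) (t : MvPolynomial (Fin n) k) :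
    incEval k R a c (incMap k R a t) =
      algebraMap k (R ⧸ Ideal.span {linComb k R a c}) (aeval c t) := by
  have h : ((incEval k R a c).restrictScalars k).comp (incMap k R a) =
      (Algebra.ofId k (R ⧸ Ideal.span {linComb k R a c})).comp (aeval c) := by
    apply MvPolynomial.algHom_ext
    intro i
    simp only [AlgHom.comp_apply, AlgHom.restrictScalars_apply, incMap, aeval_X, incEval_mk,
      Algebra.ofId_apply]
    rfl
  exact AlgHom.congr_fun h t

theorem linComb_mem (c : Fin n → k) :
    algebraMap R (Inc a) (linComb k R a c) ∈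
      Ideal.map (incMap k R a : MvPolynomial (Fin n) k →+* Inc a)
        (RingHom.ker (aeval c : MvPolynomial (Fin n) k →ₐ[k] k)) := by
  have h0 : (Ideal.Quotient.mk (Ideal.span {linForm a})) (linForm a) = 0 :=
    Ideal.Quotient.eq_zero_iff_mem.mpr (Ideal.subset_span rfl)
  have h1 : algebraMap R (Inc a) (linComb k R a c) =
      ∑ i, (- algebraMap R (Inc a) (a i)) * incMap k R a (X i - C (c i)) := by
    have h2 : ∀ i, incMap k R a (X i - C (c i)) =
        Ideal.Quotient.mk _ (X i) - algebraMap R (Inc a) (algebraMap k R (c i)) := by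
      intro i
      rw [map_sub, incMap, aeval_X, aeval_C, IsScalarTower.algebraMap_apply k R (Inc a)]
    simp_rw [h2, mul_sub, Finset.sum_sub_distrib]
    have hsum : (Ideal.Quotient.mk (Ideal.span {linForm a})) (linForm a) =
        ∑ i, algebraMap R (Inc a) (a i) * (Ideal.Quotient.mk (Ideal.span {linForm a})) (X i) := by
      have e : linForm a = ∑ i, C (a i) * X i := rfl
      calc (Ideal.Quotient.mk (Ideal.span {linForm a})) (linForm a)
          = (Ideal.Quotient.mk (Ideal.span {linForm a})) (∑ i, C (a i) * X i) :=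
            congrArg (Ideal.Quotient.mk (Ideal.span {linForm a})) e
        _ = _ := by
            rw [map_sum]
            refine Finset.sum_congr rfl fun i _ => ?_
            rw [map_mul]
            rfl
    have h3 : ∑ i, -algebraMap R (Inc a) (a i) * (Ideal.Quotient.mk (Ideal.span {linForm a})) (X i)
        = 0 := by
      have hneg : ∀ i, -algebraMap R (Inc a) (a i) *
          (Ideal.Quotient.mk (Ideal.span {linForm a})) (X i) =
          -(algebraMap R (Inc a) (a i) * (Ideal.Quotient.mk (Ideal.span {linForm a})) (X i)) :=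
        fun i => by ring
      rw [Finset.sum_congr rfl (fun i _ => hneg i), Finset.sum_neg_distrib, ← hsum, h0, neg_zero]
    rw [h3, zero_sub, ← Finset.sum_neg_distrib, linComb, map_sum]
    refine Finset.sum_congr rfl fun i _ => ?_
    rw [map_mul]
    ring
  rw [h1]
  refine Ideal.sum_mem _ fun i _ => Ideal.mul_mem_left _ _ (Ideal.mem_map_of_mem _ ?_)
  rw [RingHom.mem_ker, map_sub, aeval_X, aeval_C]
  simp

section main

variable [IsAlgClosed k] [CharZero k] [Algebra.Smooth k R]

set_option maxHeartbeats 800000 in
/-- **Ring-level Bertini theorem in characteristic zero.** -/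
theorem exists_poly_formallySmooth (ha : Ideal.span (Set.range a) = ⊤) :
    ∃ p : MvPolynomial (Fin n) k, p ≠ 0 ∧ ∀ c : Fin n → k, eval c p ≠ 0 →
      Algebra.FormallySmooth k (R ⧸ Ideal.span {linComb k R a c}) := by
  haveI : Algebra.FormallySmooth R (Inc a) := formallySmooth_inc a ha
  haveI : Algebra.Smooth R (Inc a) := {}
  haveI : Algebra.Smooth k (Inc a) := Algebra.Smooth.comp k R (Inc a)
  let XB : Scheme.{u} := Spec (CommRingCat.of (Inc a))
  let YA : Scheme.{u} := Spec (CommRingCat.of (MvPolynomial (Fin n) k))
  letI : XB.Over (Spec (CommRingCat.of k)) :=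
    ⟨Spec.map (CommRingCat.ofHom (algebraMap k (Inc a)))⟩
  letI : YA.Over (Spec (CommRingCat.of k)) :=
    ⟨Spec.map (CommRingCat.ofHom (algebraMap k (MvPolynomial (Fin n) k)))⟩
  let f : XB ⟶ YA :=
    Spec.map (CommRingCat.ofHom (incMap k R a : MvPolynomial (Fin n) k →+* Inc a))
  have hf : f ≫ (YA ↘ Spec (CommRingCat.of k)) = (XB ↘ Spec (CommRingCat.of k)) := by
    change Spec.map _ ≫ Spec.map _ = Spec.map _
    rw [← Spec.map_comp, ← CommRingCat.ofHom_comp]
    congr 2
    exact (incMap k R a).comp_algebraMap
  haveI : LocallyOfFiniteType (XB ↘ Spec (CommRingCat.of k)) := by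
    change LocallyOfFiniteType (Spec.map _)
    rw [HasRingHomProperty.Spec_iff (P := @LocallyOfFiniteType)]
    exact RingHom.finiteType_algebraMap.mpr inferInstance
  haveI : Smooth (XB ↘ Spec (CommRingCat.of k)) := by
    change Smooth (Spec.map _)
    rw [HasRingHomProperty.Spec_iff (P := @Smooth)]
    exact RingHom.smooth_algebraMap.mpr inferInstance
  haveI : LocallyOfFiniteType (YA ↘ Spec (CommRingCat.of k)) := by
    change LocallyOfFiniteType (Spec.map _)
    rw [HasRingHomProperty.Spec_iff (P := @LocallyOfFiniteType)]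
    exact RingHom.finiteType_algebraMap.mpr inferInstance
  haveI : QuasiCompact (XB ↘ Spec (CommRingCat.of k)) := by
    change QuasiCompact (Spec.map _)
    infer_instance
  haveI : IsIntegral YA := inferInstance
  haveI := Groth.Agent.LibCotTan29.locallyOfFinitePresentation_of_over k f hf
  obtain ⟨V, ⟨v, hv⟩, hV⟩ :=
    Groth.Agent.LibGenSmoothII29.exists_open_preimage_le_smoothLocus k f hf
  obtain ⟨_, ⟨_, ⟨p, rfl⟩, rfl⟩, hvp, hpV⟩ :=
    PrimeSpectrum.isBasis_basic_opens.exists_subset_of_mem_open hv V.2
  refine ⟨p, ?_, fun c hc => ?_⟩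
  · rintro rfl
    simp at hvp
  · set φp : Inc a := incMap k R a p with hφp
    let B' := Localization.Away φp
    let j : Spec (CommRingCat.of B') ⟶ XB :=
      Spec.map (CommRingCat.ofHom (algebraMap (Inc a) B'))
    haveI : IsOpenImmersion j := inferInstance
    have hjmem : ∀ q' : Spec (CommRingCat.of B'), j q' ∈ f ⁻¹ᵁ V := by
      intro q'
      apply hpV
      have h1 : j q' ∈ Set.range j := ⟨q', rfl⟩
      have h2 : Set.range j = (PrimeSpectrum.basicOpen φp : Set (PrimeSpectrum (Inc a))) :=
        PrimeSpectrum.localization_away_comap_range B' φp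
      rw [h2] at h1
      exact h1
    have hsl : (j ≫ f).smoothLocus = ⊤ := by
      rw [← Scheme.Hom.preimage_smoothLocus_eq, eq_top_iff]
      intro q' _
      exact hV (hjmem q')
    have hsm : Smooth (j ≫ f) := Scheme.Hom.smoothLocus_eq_top_iff.mp hsl
    letI algAB : Algebra (MvPolynomial (Fin n) k) (Inc a) :=
      (incMap k R a : MvPolynomial (Fin n) k →+* Inc a).toAlgebra
    have hAB : ∀ t, algebraMap (MvPolynomial (Fin n) k) (Inc a) t = incMap k R a t := fun t => rfl
    haveI : IsScalarTower k (MvPolynomial (Fin n) k) (Inc a) :=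
      IsScalarTower.of_algebraMap_eq' (incMap k R a).comp_algebraMap.symm
    haveI : IsScalarTower k (MvPolynomial (Fin n) k) B' := by
      refine IsScalarTower.of_algebraMap_eq' ?_
      rw [IsScalarTower.algebraMap_eq k (Inc a) B',
        IsScalarTower.algebraMap_eq (MvPolynomial (Fin n) k) (Inc a) B', RingHom.comp_assoc,
        ← IsScalarTower.algebraMap_eq k (MvPolynomial (Fin n) k) (Inc a)]
    have h2 : j ≫ f = Spec.map (CommRingCat.ofHom (algebraMap (MvPolynomial (Fin n) k) B')) := by
      change Spec.map _ ≫ Spec.map _ = _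
      rw [← Spec.map_comp, ← CommRingCat.ofHom_comp]
    rw [h2, HasRingHomProperty.Spec_iff (P := @Smooth)] at hsm
    haveI : Algebra.Smooth (MvPolynomial (Fin n) k) B' := RingHom.smooth_algebraMap.mp hsm
    have hunit : IsUnit ((incEval k R a c : Inc a →+* R ⧸ Ideal.span {linComb k R a c}) φp) := by
      change IsUnit (incEval k R a c (incMap k R a p))
      rw [incEval_incMap, MvPolynomial.aeval_eq_eval]
      exact (IsUnit.mk0 _ hc).map _
    let ψ' : B' →+* R ⧸ Ideal.span {linComb k R a c} :=
      IsLocalization.Away.lift φp (g := (incEval k R a c : Inc a →+* _)) hunit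
    have hψ' : ∀ b, ψ' (algebraMap (Inc a) B' b) = incEval k R a c b := fun b =>
      IsLocalization.Away.lift_eq φp hunit b
    refine formallySmooth_quotient_of_fibre (A := MvPolynomial (Fin n) k) (B' := B')
      (aeval c : MvPolynomial (Fin n) k →ₐ[k] k) (linComb k R a c) ψ' ?_ ?_ ?_
    · intro r
      rw [IsScalarTower.algebraMap_apply R (Inc a) B', hψ', AlgHom.commutes]
      rfl
    · intro t
      rw [IsScalarTower.algebraMap_apply (MvPolynomial (Fin n) k) (Inc a) B', hψ', hAB,
        incEval_incMap]
    · rw [IsScalarTower.algebraMap_apply R (Inc a) B',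
        IsScalarTower.algebraMap_eq (MvPolynomial (Fin n) k) (Inc a) B', ← Ideal.map_map]
      exact Ideal.mem_map_of_mem _ (linComb_mem k R a c)

end main

end Groth.Agent.LibBertini29
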