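import Mathlib
import Groth.Prelude
import Groth.Agent.LibBertini29b
import Groth.Agent.LibSmoothTower29b
import Groth.Agent.Lib.Helper18.ZeroSchemeIdeal

/-!
# Bertini's theorem in characteristic zero for a base-point free linear system (helper29)
-/

set_option autoImplicit false
set_option linter.style.haveILetI false
set_option backward.isDefEq.respectTransparency false
set_option backward.isDefEq.respectTransparency.types false
universe u

open CategoryTheory AlgebraicGeometry MvPolynomial Opposite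
open Groth.Agent.Lib.helper3.FTField
open Groth.Agent.Lib.Helper18.InvGen Groth.Agent.Lib.Helper18.ZeroSchemeIdeal

namespace Groth.Agent.LibBertini29

section sections

variable {X : Scheme.{u}} (L : X.Modules)

theorem sv_add (s t : Coh.structureModule X ⟶ L) (U : X.Opens) :
    sv L (s + t) U = sv L s U + sv L t U := by
  rfl

theorem sv_zero (U : X.Opens) : sv L (0 : Coh.structureModule X ⟶ L) U = 0 := by
  rfl

/-- `sv` as an additive map -/
noncomputable def svHom (U : X.Opens) : (Coh.structureModule X ⟶ L) →+ Γ(L, U) where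
  toFun s := sv L s U
  map_zero' := sv_zero L U
  map_add' s t := sv_add L s t U

theorem sv_sum {ι : Type*} (S : Finset ι) (s : ι → (Coh.structureModule X ⟶ L)) (U : X.Opens) :
    sv L (∑ i ∈ S, s i) U = ∑ i ∈ S, sv L (s i) U :=
  map_sum (svHom L U) s S

end sections

section chart

variable (k : Type u) [Field k] {X : Scheme.{u}} [X.Over (Spec (CommRingCat.of k))] (L : X.Modules)

theorem sv_smulMod_comp (c : k) (s : Coh.structureModule X ⟶ L) (U : X.Opens) :
    sv L (Formal.smulMod k (Coh.structureModule X) c ≫ s) U = sec k X U c • sv L s U := by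
  have h1 : sv L (Formal.smulMod k (Coh.structureModule X) c ≫ s) U =
      (s.val.app (op U)).hom (((Formal.smulMod k (Coh.structureModule X) c).val.app (op U)).hom
        (1 : X.ringCatSheaf.obj.obj (op U))) := rfl
  have h2 : ((Formal.smulMod k (Coh.structureModule X) c).val.app (op U)).hom
        (1 : X.ringCatSheaf.obj.obj (op U)) =
      (show X.ringCatSheaf.obj.obj (op U) from sec k X U c) •
        (show (Coh.structureModule X).val.obj (op U) from (1 : X.ringCatSheaf.obj.obj (op U))) := rfl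
  rw [h1, h2]
  exact (s.val.app (op U)).hom.map_smul (show X.ringCatSheaf.obj.obj (op U) from sec k X U c) _

variable [IsAlgClosed k] [CharZero k] [Smooth (X ↘ Spec (CommRingCat.of k))]

theorem chart (hL : FlatMod.IsFinLocFree L) {m : ℕ} (s : Fin (m + 1) → (Coh.structureModule X ⟶ L))
    (hgen : ⨆ i, PicF2.zeroScheme L (s i) = ⊤) {W : X.Opens} (hW : IsAffineOpen W) (ℓ : Γ(L, W))
    (hℓ : IsGen L W ℓ) :
    ∃ p : MvPolynomial (Fin (m + 1)) k, p ≠ 0 ∧ ∀ c : Fin (m + 1) → k, eval c p ≠ 0 →
      ((Ideal.Quotient.mk ((PicF2.zeroScheme L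
        (∑ i, Formal.smulMod k (Coh.structureModule X) (c i) ≫ s i)).ideal ⟨W, hW⟩)).comp
          (sec k X W)).FormallySmooth := by
  letI := (sec k X W).toAlgebra
  have hres : L.presheaf.map (homOfLE (le_refl W)).op ℓ = ℓ := by
    have : (homOfLE (le_refl W)).op = 𝟙 (op W) := rfl
    rw [this, L.presheaf.map_id]
    rfl
  have ha : ∀ i, ∃ a : Γ(X, W), a • ℓ = sv L (s i) W := fun i => by
    obtain ⟨g, hg⟩ := hℓ.exists_smul_eq le_rfl (sv L (s i) W)
    rw [hres] at hg
    exact ⟨g, hg⟩
  choose a ha using ha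
  have hI : ∀ i, (PicF2.zeroScheme L (s i)).ideal ⟨W, hW⟩ = Ideal.span {a i} := fun i => by
    rw [zeroScheme_ideal L hL (s i) ⟨W, hW⟩]
    exact zeroIdealOn_eq_span (s i) hℓ (a i) (ha i)
  have htop : Ideal.span (Set.range a) = ⊤ := by
    have h1 := congrArg (fun I => Scheme.IdealSheafData.ideal I ⟨W, hW⟩) hgen
    simp only [Scheme.IdealSheafData.ideal_iSup, iSup_apply, Scheme.IdealSheafData.ideal_top,
      Pi.top_apply] at h1
    rw [← h1, Ideal.span_range_eq_iSup]
    congr 1
    funext i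
    exact (hI i).symm
  haveI : Algebra.Smooth k Γ(X, W) := RingHom.smooth_algebraMap.mp (Groth.Agent.LibSmoothTower29.sec_smooth k X hW)
  obtain ⟨p, hp0, hp⟩ := exists_poly_formallySmooth k Γ(X, W) a htop
  refine ⟨p, hp0, fun c hc => ?_⟩
  have hlin : linComb k Γ(X, W) a c • ℓ =
      sv L (∑ i, Formal.smulMod k (Coh.structureModule X) (c i) ≫ s i) W := by
    rw [sv_sum, linComb, Finset.sum_smul]
    refine Finset.sum_congr rfl fun i _ => ?_
    rw [sv_smulMod_comp, mul_smul, ha i]
    rfl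
  have hI' : (PicF2.zeroScheme L
      (∑ i, Formal.smulMod k (Coh.structureModule X) (c i) ≫ s i)).ideal ⟨W, hW⟩ =
        Ideal.span {linComb k Γ(X, W) a c} := by
    rw [zeroScheme_ideal L hL _ ⟨W, hW⟩]
    exact zeroIdealOn_eq_span _ hℓ _ hlin
  rw [hI']
  exact RingHom.formallySmooth_algebraMap.mpr (hp c hc)


end chart

section charts

theorem lfp_of_lft_noeth {Z S : Scheme.{u}} (g : Z ⟶ S) [IsLocallyNoetherian S]
    [LocallyOfFiniteType g] : LocallyOfFinitePresentation g := by
  rw [HasRingHomProperty.iff_appLE (P := @LocallyOfFinitePresentation)]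
  intro V U e
  haveI : IsNoetherianRing Γ(S, V.1) := IsLocallyNoetherian.component_noetherian V
  exact RingHom.FinitePresentation.of_finiteType.mp
    (LocallyOfFiniteType.finiteType_appLE g V.2 U.2 e)

variable (k : Type u) [Field k] {X : Scheme.{u}} [X.Over (Spec (CommRingCat.of k))]

theorem smooth_of_charts [LocallyOfFiniteType (X ↘ Spec (CommRingCat.of k))]
    (I : X.IdealSheafData)
    (h : ∀ x : X, ∃ (W : X.Opens) (hW : IsAffineOpen W), x ∈ W ∧
      ((Ideal.Quotient.mk (I.ideal ⟨W, hW⟩)).comp (sec k X W)).FormallySmooth) :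
    Smooth (I.subschemeι ≫ (X ↘ Spec (CommRingCat.of k))) := by
  set f := I.subschemeι ≫ (X ↘ Spec (CommRingCat.of k)) with hf
  haveI : LocallyOfFiniteType f := by rw [hf]; infer_instance
  haveI : LocallyOfFinitePresentation f := lfp_of_lft_noeth f
  rw [← Scheme.Hom.smoothLocus_eq_top_iff, eq_top_iff]
  intro z _
  obtain ⟨W, hW, hzW, hsm⟩ := h (I.subschemeι z)
  have hz : z ∈ (I.subschemeCover.f ⟨W, hW⟩).opensRange := by
    rw [I.opensRange_subschemeCover_map]
    exact hzW
  obtain ⟨z', rfl⟩ := hz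
  set g := I.subschemeCover.f ⟨W, hW⟩ with hg
  have e1 : g ≫ f = Spec.map (CommRingCat.ofHom (Ideal.Quotient.mk (I.ideal ⟨W, hW⟩))) ≫
      hW.fromSpec ≫ (X ↘ Spec (CommRingCat.of k)) := by
    rw [hf, ← Category.assoc, hg, I.subschemeCover_map_subschemeι, I.glueDataObjι_ι,
      Category.assoc]
  have e2 : hW.fromSpec ≫ (X ↘ Spec (CommRingCat.of k)) =
      Spec.map ((X ↘ Spec (CommRingCat.of k)).appLE ⊤ W (by simp)) ≫
        (isAffineOpen_top (Spec (CommRingCat.of k))).fromSpec :=
    (IsAffineOpen.SpecMap_appLE_fromSpec _ (isAffineOpen_top _) hW _).symm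
  have hsmooth : Smooth (g ≫ f) := by
    rw [e1, e2, ← Category.assoc, ← Spec.map_comp]
    haveI : IsIso (isAffineOpen_top (Spec (CommRingCat.of k))).fromSpec := by
      rw [IsAffineOpen.fromSpec_top]
      infer_instance
    haveI : Smooth (Spec.map ((X ↘ Spec (CommRingCat.of k)).appLE ⊤ W (by simp) ≫
        CommRingCat.ofHom (Ideal.Quotient.mk (I.ideal ⟨W, hW⟩)))) := by
      rw [HasRingHomProperty.Spec_iff (P := @Smooth)]
      have hφ : ((Ideal.Quotient.mk (I.ideal ⟨W, hW⟩)).comp (sec k X W)).Smooth := by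
        rw [RingHom.smooth_def]
        refine ⟨hsm, ?_⟩
        apply RingHom.FinitePresentation.of_finiteType.mp
        exact RingHom.FiniteType.comp
          (RingHom.FiniteType.of_surjective _ Ideal.Quotient.mk_surjective)
          (sec_finiteType k X hW)
      have heq : ((X ↘ Spec (CommRingCat.of k)).appLE ⊤ W (by simp) ≫
          CommRingCat.ofHom (Ideal.Quotient.mk (I.ideal ⟨W, hW⟩))).hom =
          ((Ideal.Quotient.mk (I.ideal ⟨W, hW⟩)).comp (sec k X W)).comp
            (Scheme.ΓSpecIso (CommRingCat.of k)).hom.hom := by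
        rw [sec_eq_appLE]
        ext a
        simp
      rw [heq]
      refine RingHom.Smooth.comp ?_ hφ
      exact RingHom.Smooth.of_bijective
        (ConcreteCategory.bijective_of_isIso (Scheme.ΓSpecIso (CommRingCat.of k)).hom)
    infer_instance
  have h2 : g ⁻¹ᵁ f.smoothLocus = ⊤ := by
    rw [Scheme.Hom.preimage_smoothLocus_eq, Scheme.Hom.smoothLocus_eq_top]
  have h3 : z' ∈ g ⁻¹ᵁ f.smoothLocus := by rw [h2]; trivial
  exact h3


end charts

section main

open Groth.Agent.Lib.helper16.FLF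

variable (k : Type u) [Field k] {X : Scheme.{u}} [X.Over (Spec (CommRingCat.of k))] (L : X.Modules)
  [IsAlgClosed k] [CharZero k] [Smooth (X ↘ Spec (CommRingCat.of k))]

/-- **Bertini's theorem in characteristic zero** for a base-point free linear system on a smooth
quasi-compact `k`-scheme. -/
theorem bertini_charZero [QuasiCompact (X ↘ Spec (CommRingCat.of k))]
    (hL : FlatMod.IsFinLocFreeOfRank 1 L) (m : ℕ)
    (s : Fin (m + 1) → (Coh.structureModule X ⟶ L))
    (hgen : ⨆ i : Fin (m + 1), PicF2.zeroScheme L (s i) = ⊤) :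
    ∃ p : MvPolynomial (Fin (m + 1)) k, p ≠ 0 ∧ ∀ c : Fin (m + 1) → k, MvPolynomial.eval c p ≠ 0 →
      Smooth ((PicF2.zeroScheme L (∑ i : Fin (m + 1),
        Formal.smulMod k (Coh.structureModule X) (c i) ≫ s i)).subschemeι ≫
        (X ↘ Spec (CommRingCat.of k))) := by
  have hInv : PicF.IsInvertible L := (isInvertible_iff_isFinLocFreeOfRank_one L).2 hL
  have hLF : FlatMod.IsFinLocFree L := isFinLocFree_of_isFinLocFreeOfRank hL
  have hch : ∀ x : X, ∃ (W : X.Opens) (ℓ : Γ(L, W)), IsAffineOpen W ∧ x ∈ W ∧ W ≤ ⊤ ∧ IsGen L W ℓ :=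
    fun x => exists_isGen hInv x ⊤ trivial
  choose W ℓ hW hxW _ hℓ using hch
  have hp : ∀ x : X, ∃ p : MvPolynomial (Fin (m + 1)) k, p ≠ 0 ∧ ∀ c : Fin (m + 1) → k,
      eval c p ≠ 0 → ((Ideal.Quotient.mk ((PicF2.zeroScheme L
        (∑ i, Formal.smulMod k (Coh.structureModule X) (c i) ≫ s i)).ideal ⟨W x, hW x⟩)).comp
          (sec k X (W x))).FormallySmooth := fun x => chart k L hLF s hgen (hW x) (ℓ x) (hℓ x)
  choose p hp0 hp using hp
  haveI : CompactSpace X :=
    QuasiCompact.compactSpace_of_compactSpace (X ↘ Spec (CommRingCat.of k))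
  obtain ⟨t, ht⟩ := CompactSpace.elim_nhds_subcover (fun x => ((W x : X.Opens) : Set X))
    (fun x => (W x).2.mem_nhds (hxW x))
  refine ⟨∏ x ∈ t, p x, Finset.prod_ne_zero_iff.mpr fun x _ => hp0 x, fun c hc => ?_⟩
  rw [map_prod] at hc
  have hc' : ∀ x ∈ t, eval c (p x) ≠ 0 := fun x hx => (Finset.prod_ne_zero_iff.mp hc) x hx
  haveI : LocallyOfFiniteType (X ↘ Spec (CommRingCat.of k)) := inferInstance
  apply smooth_of_charts k
  intro y
  have hy : y ∈ ⋃ x ∈ t, ((W x : X.Opens) : Set X) := by rw [ht]; trivial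
  simp only [Set.mem_iUnion] at hy
  obtain ⟨x, hxt, hyx⟩ := hy
  exact ⟨W x, hW x, hyx, hp x c (hc' x hxt)⟩


end main

end Groth.Agent.LibBertini29
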