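import Mathlib

/-!
# Bertini via jets, ring level, part 1 (helper29)

* `formallySmooth_quotient_of_derivation`: `R` formally smooth over `k`, `g : R` and a
  `k`-derivation `D` of `R` with `D g ≡ 1 mod g` ⇒ `R/(g)` is formally smooth over `k`.
* `jetGen`, `jetIdeal`: the ideal of `R[T₁..Tₘ]` cutting out the pairs `(x, c)` such that
  `b + Σ cᵢ aᵢ` vanishes to second order at `x`.
* `formallySmooth_of_map_mem_jetIdeal`: a polynomial `q ∈ k[T]` lying in the jet ideal certifies
  smoothness of the members `b + Σ cᵢ aᵢ` with `q(c) ≠ 0`.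
-/

set_option autoImplicit false
set_option linter.style.haveILetI false
universe u

open MvPolynomial

namespace Groth.Agent.LibBertiniJet29

section crit

variable {k R : Type u} [CommRing k] [CommRing R] [Algebra k R]

/-- **Jacobian criterion for a hypersurface**, derivation form. -/
theorem formallySmooth_quotient_of_derivation [Algebra.FormallySmooth k R] (g : R)
    (D : Derivation k R R) (u : R) (hD : D g = 1 + g * u) :
    Algebra.FormallySmooth k (R ⧸ Ideal.span {g}) := by
  apply Algebra.FormallySmooth.of_comp_surjective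
  intro C' _ _ N hN φ
  obtain ⟨ψ₀, hψ₀⟩ := Algebra.FormallySmooth.comp_surjective k R N hN
    (φ.comp (Ideal.Quotient.mkₐ k (Ideal.span {g})))
  have hψ₀' : ∀ r, Ideal.Quotient.mk N (ψ₀ r) = φ (Ideal.Quotient.mk _ r) :=
    fun r => AlgHom.congr_fun hψ₀ r
  set ε : C' := ψ₀ g with hεdef
  have hε : ε ∈ N := by
    rw [← Ideal.Quotient.eq_zero_iff_mem, hεdef, hψ₀']
    have h0 : Ideal.Quotient.mk (Ideal.span {g}) g = 0 :=
      Ideal.Quotient.eq_zero_iff_mem.mpr (Ideal.subset_span rfl)
    rw [h0, map_zero]
  have hsq : ∀ x ∈ N, ∀ y ∈ N, x * y = 0 := by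
    intro x hx y hy
    have : x * y ∈ N ^ 2 := by rw [pow_two]; exact Ideal.mul_mem_mul hx hy
    rw [hN] at this
    exact this
  have hε2 : ε * ε = 0 := hsq ε hε ε hε
  let ψ : R →ₐ[k] C' :=
    { toFun := fun r => ψ₀ r - ψ₀ (D r) * ε
      map_one' := by
        simp
      map_mul' := fun r s => by
        rw [Derivation.leibniz, smul_eq_mul, smul_eq_mul, map_add, map_mul, map_mul, map_mul]
        have h : ψ₀ (D r) * ε * (ψ₀ (D s) * ε) = 0 := by
          calc ψ₀ (D r) * ε * (ψ₀ (D s) * ε) = ψ₀ (D r) * ψ₀ (D s) * (ε * ε) := by ring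
            _ = 0 := by rw [hε2, mul_zero]
        linear_combination (-1 : C') * h
      map_zero' := by simp
      map_add' := fun r s => by
        rw [map_add, map_add, map_add]
        ring
      commutes' := fun c => by
        simp }
  have hψg : ψ g = 0 := by
    change ψ₀ g - ψ₀ (D g) * ε = 0
    rw [hD, map_add, map_one, map_mul, ← hεdef]
    calc ε - (1 + ε * ψ₀ u) * ε = -(ψ₀ u) * (ε * ε) := by ring
      _ = 0 := by rw [hε2, mul_zero]
  have hker : ∀ r ∈ Ideal.span {g}, ψ r = 0 := by
    intro r hr
    obtain ⟨q, rfl⟩ := Ideal.mem_span_singleton'.mp hr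
    rw [map_mul, hψg, mul_zero]
  refine ⟨Ideal.Quotient.liftₐ _ ψ hker, ?_⟩
  apply AlgHom.ext
  intro z
  obtain ⟨r, rfl⟩ := Ideal.Quotient.mk_surjective z
  change Ideal.Quotient.mk N (ψ₀ r - ψ₀ (D r) * ε) = φ (Ideal.Quotient.mk _ r)
  rw [map_sub, map_mul, Ideal.Quotient.eq_zero_iff_mem.mpr hε, mul_zero, sub_zero, hψ₀']

end crit

section jet

variable (k : Type u) {R : Type u} [Field k] [CommRing R] [Algebra k R] {m : ℕ}
  (a : Fin m → R) (b : R)

/-- generators of the jet ideal: `r • G + D G` for `G = b + Σ aᵢ Tᵢ` -/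
noncomputable def jetGen (r : R) (D : Derivation k R R) : MvPolynomial (Fin m) R :=
  C (r * b + D b) + ∑ i, C (r * a i + D (a i)) * X i

/-- the ideal of `R[T]` cutting out the pairs `(x, c)` with `b + Σ cᵢ aᵢ` vanishing to second
order at `x` -/
noncomputable def jetIdeal : Ideal (MvPolynomial (Fin m) R) :=
  Ideal.span {f | ∃ (r : R) (D : Derivation k R R), f = jetGen k a b r D}

/-- the member `b + Σ cᵢ aᵢ` of the (affine) linear system -/
noncomputable def member (c : Fin m → k) : R := b + ∑ i, algebraMap k R (c i) * a i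

/-- evaluation of the parameters at `c` -/
noncomputable def evalAt (R : Type u) [CommRing R] [Algebra k R] (c : Fin m → k) :
    MvPolynomial (Fin m) R →ₐ[R] R :=
  aeval (fun i => algebraMap k R (c i))

theorem evalAt_jetGen (c : Fin m → k) (r : R) (D : Derivation k R R) :
    evalAt k R c (jetGen k a b r D) = r * member k a b c + D (member k a b c) := by
  have hD : ∀ i, D (algebraMap k R (c i) * a i) = algebraMap k R (c i) * D (a i) := by
    intro i
    rw [Derivation.leibniz, Derivation.map_algebraMap, smul_zero, add_zero, smul_eq_mul]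
  simp only [evalAt, jetGen, member, map_add, map_sum, map_mul, aeval_C, aeval_X,
    Algebra.algebraMap_self, RingHom.id_apply, hD, mul_add, Finset.mul_sum]
  rw [add_add_add_comm, ← Finset.sum_add_distrib]
  congr 1
  refine Finset.sum_congr rfl fun i _ => ?_
  ring

theorem evalAt_map (c : Fin m → k) (q : MvPolynomial (Fin m) k) :
    evalAt k R c (MvPolynomial.map (algebraMap k R) q) = algebraMap k R (eval c q) := by
  rw [evalAt, aeval_map_algebraMap]
  have : (fun i => algebraMap k R (c i)) = algebraMap k R ∘ c := rfl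
  rw [this, aeval_algebraMap_apply]
  rfl

theorem mem_span_member (c : Fin m → k) (x : R)
    (hx : x ∈ Ideal.span {y | ∃ (r : R) (D : Derivation k R R),
      y = r * member k a b c + D (member k a b c)}) :
    ∃ (r : R) (D : Derivation k R R), x = r * member k a b c + D (member k a b c) := by
  induction hx using Submodule.span_induction with
  | mem y hy => exact hy
  | zero => exact ⟨0, 0, by simp⟩
  | add y z _ _ hy hz =>
    obtain ⟨r, D, rfl⟩ := hy
    obtain ⟨r', D', rfl⟩ := hz
    exact ⟨r + r', D + D', by rw [Derivation.add_apply]; ring⟩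
  | smul s y _ hy =>
    obtain ⟨r, D, rfl⟩ := hy
    exact ⟨s * r, s • D, by rw [Derivation.smul_apply, smul_eq_mul, smul_eq_mul]; ring⟩

/-- a polynomial in the parameters lying in the jet ideal certifies smoothness of the members at
which it does not vanish -/
theorem formallySmooth_of_map_mem_jetIdeal [Algebra.FormallySmooth k R]
    (q : MvPolynomial (Fin m) k) (hq : MvPolynomial.map (algebraMap k R) q ∈ jetIdeal k a b)
    (c : Fin m → k) (hc : eval c q ≠ 0) :
    Algebra.FormallySmooth k (R ⧸ Ideal.span {member k a b c}) := by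
  have h1 : evalAt k R c (MvPolynomial.map (algebraMap k R) q) ∈
      Ideal.map (evalAt k R c) (jetIdeal k a b) := Ideal.mem_map_of_mem _ hq
  rw [evalAt_map, jetIdeal, Ideal.map_span] at h1
  have h2 : (evalAt k R c : MvPolynomial (Fin m) R →+* R) ''
      {f | ∃ (r : R) (D : Derivation k R R), f = jetGen k a b r D} ⊆
      {y | ∃ (r : R) (D : Derivation k R R),
        y = r * member k a b c + D (member k a b c)} := by
    rintro _ ⟨f, ⟨r, D, rfl⟩, rfl⟩
    exact ⟨r, D, evalAt_jetGen k a b c r D⟩
  have h3 := Ideal.span_mono h2 h1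
  have h4 : (1 : R) ∈ Ideal.span {y | ∃ (r : R) (D : Derivation k R R),
      y = r * member k a b c + D (member k a b c)} := by
    have hu : algebraMap k R (eval c q)⁻¹ * algebraMap k R (eval c q) = 1 := by
      rw [← map_mul, inv_mul_cancel₀ hc, map_one]
    rw [← hu]
    exact Ideal.mul_mem_left _ _ h3
  obtain ⟨r, D, hrD⟩ := mem_span_member k a b c 1 h4
  refine formallySmooth_quotient_of_derivation (member k a b c) D (-r) ?_
  linear_combination (-1 : R) * hrD

end jet

end Groth.Agent.LibBertiniJet29
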