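import Mathlib
import Groth.Agent.LibBertiniJet29a

/-!
# Bertini via jets, ring level, part 2: jets span (helper29)

* `eq_top_of_forall_maximal_sup_smul`: a submodule `N` of a finite module with `N + 𝔪 M = M` for all
  maximal ideals `𝔪` is everything.
* `span_jets_eq_top`: if the `k`-span of `a₁..aₘ` maps onto `R/𝔪²` for every maximal ideal `𝔪`, the
  pairs `(aᵢ, d aᵢ)` span `R × Ω[R⁄k]`.
-/

set_option autoImplicit false
set_option linter.style.haveILetI false
universe u

open MvPolynomial

namespace Groth.Agent.LibBertiniJet29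

theorem eq_top_of_forall_maximal_sup_smul {R M : Type*} [CommRing R] [AddCommGroup M] [Module R M]
    [Module.Finite R M] (N : Submodule R M)
    (h : ∀ 𝔪 : Ideal R, 𝔪.IsMaximal → N ⊔ 𝔪 • (⊤ : Submodule R M) = ⊤) : N = ⊤ := by
  have hc : N.colon (⊤ : Submodule R M) = ⊤ := by
    by_contra hne
    obtain ⟨𝔪, h𝔪, hle⟩ := Ideal.exists_le_maximal _ hne
    obtain ⟨r, hr1, hr2⟩ := Submodule.exists_sub_one_mem_and_smul_le_of_fg_of_le_sup
      (I := 𝔪) (N := N) (N' := ⊤) (P := ⊤) Module.Finite.fg_top le_rfl (h 𝔪 h𝔪).ge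
    have hr : r ∈ N.colon (⊤ : Submodule R M) := by
      rw [Submodule.mem_colon]
      intro p _
      exact hr2 (Submodule.smul_mem_pointwise_smul p r ⊤ trivial)
    have h1 : (1 : R) ∈ 𝔪 := by
      have := 𝔪.sub_mem (hle hr) hr1
      simpa using this
    exact h𝔪.ne_top ((Ideal.eq_top_iff_one _).mpr h1)
  rw [eq_top_iff]
  intro p _
  have h1 : (1 : R) ∈ N.colon (⊤ : Submodule R M) := by rw [hc]; trivial
  rw [Submodule.mem_colon] at h1
  simpa using h1 p trivial

section jets

open KaehlerDifferential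

variable (k R : Type u) [Field k] [CommRing R] [Algebra k R] {m : ℕ} (a : Fin m → R)

/-- the first order jet `(r, dr)` -/
noncomputable def jet : R →ₗ[k] R × Ω[R⁄k] :=
  LinearMap.prod LinearMap.id (D k R).toLinearMap

@[simp] theorem jet_apply (r : R) : jet k R r = (r, D k R r) := rfl

theorem jet_mem_smul_of_mem_sq (𝔪 : Ideal R) (e : R) (he : e ∈ 𝔪 ^ 2) :
    jet k R e ∈ 𝔪 • (⊤ : Submodule R (R × Ω[R⁄k])) := by
  rw [pow_two] at he
  refine Submodule.mul_induction_on he (fun x hx y hy => ?_) (fun x y hx hy => ?_)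
  · have h1 : jet k R (x * y) =
        x • ((y, D k R y) : R × Ω[R⁄k]) + y • ((0, D k R x) : R × Ω[R⁄k]) := by
      rw [jet_apply, Derivation.leibniz]
      ext
      · simp
      · simp
    rw [h1]
    exact Submodule.add_mem _ (Submodule.smul_mem_smul hx trivial)
      (Submodule.smul_mem_smul hy trivial)
  · rw [map_add]
    exact Submodule.add_mem _ hx hy

theorem span_jets_eq_top [Module.Finite R Ω[R⁄k]]
    (hjet : ∀ 𝔪 : Ideal R, 𝔪.IsMaximal → ∀ l : R, ∃ c : Fin m → k,
      (∑ i, algebraMap k R (c i) * a i) - l ∈ 𝔪 ^ 2) :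
    Submodule.span R (Set.range fun i => jet k R (a i)) = ⊤ := by
  apply eq_top_of_forall_maximal_sup_smul
  intro 𝔪 h𝔪
  set N := Submodule.span R (Set.range fun i => jet k R (a i)) with hN
  set N' := N ⊔ 𝔪 • (⊤ : Submodule R (R × Ω[R⁄k])) with hN'
  have hkey : ∀ l : R, jet k R l ∈ N' := by
    intro l
    obtain ⟨c, hc⟩ := hjet 𝔪 h𝔪 l
    have h1 : jet k R l = (∑ i, algebraMap k R (c i) • jet k R (a i)) -
        jet k R ((∑ i, algebraMap k R (c i) * a i) - l) := by
      rw [map_sub, map_sum]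
      have : ∀ i, jet k R (algebraMap k R (c i) * a i) = algebraMap k R (c i) • jet k R (a i) := by
        intro i
        rw [← smul_eq_mul, algebraMap_smul, map_smul, algebraMap_smul]
      simp_rw [this]
      abel
    rw [h1]
    refine Submodule.sub_mem _ (Submodule.mem_sup_left ?_)
      (Submodule.mem_sup_right (jet_mem_smul_of_mem_sq k R 𝔪 _ hc))
    exact Submodule.sum_mem _ fun i _ =>
      Submodule.smul_mem _ _ (Submodule.subset_span ⟨i, rfl⟩)
  have h10 : ∀ r : R, ((r, 0) : R × Ω[R⁄k]) ∈ N' := by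
    intro r
    have h1 : ((r, 0) : R × Ω[R⁄k]) = r • jet k R 1 := by
      rw [jet_apply]
      ext
      · simp
      · simp
    rw [h1]
    exact Submodule.smul_mem _ _ (hkey 1)
  have h01 : ∀ ω : Ω[R⁄k], ((0, ω) : R × Ω[R⁄k]) ∈ N' := by
    intro ω
    have hω : ω ∈ Submodule.span R (Set.range (D k R)) := by
      rw [KaehlerDifferential.span_range_derivation]; trivial
    induction hω using Submodule.span_induction with
    | mem y hy =>
      obtain ⟨x, rfl⟩ := hy
      have h1 : ((0, D k R x) : R × Ω[R⁄k]) = jet k R x - (x, 0) := by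
        rw [jet_apply]
        ext
        · simp
        · simp
      rw [h1]
      exact Submodule.sub_mem _ (hkey x) (h10 x)
    | zero => exact Submodule.zero_mem _
    | add y z _ _ hy hz =>
      have : ((0, y + z) : R × Ω[R⁄k]) = (0, y) + (0, z) := by ext <;> simp
      rw [this]
      exact Submodule.add_mem _ hy hz
    | smul s y _ hy =>
      have : ((0, s • y) : R × Ω[R⁄k]) = s • (0, y) := by ext <;> simp
      rw [this]
      exact Submodule.smul_mem _ _ hy
  rw [eq_top_iff]
  rintro ⟨r, ω⟩ -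
  have : ((r, ω) : R × Ω[R⁄k]) = (r, 0) + (0, ω) := by ext <;> simp
  rw [this]
  exact Submodule.add_mem _ (h10 r) (h01 ω)

end jets

end Groth.Agent.LibBertiniJet29
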