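import Mathlib
import Groth.Agent.LibBertiniJet29b

/-!
# Bertini via jets, ring level, part 3: the derivation count (helper29)

`finrank_derivation_add_one_le`: let `π : R[T₁..Tₘ] → L` be a `k`-algebra map to a field killing the
jet ideal and such that `L` is "generated" by the image (derivations of `L` vanishing on the image
vanish).  If the jets `(aᵢ, daᵢ)` span `R × Ω[R⁄k]` and `Ω[R⁄k]` is finite projective, then
`dim_L Der_k(L, L) + 1 ≤ m`.
-/

set_option autoImplicit false
set_option linter.style.haveILetI false
universe u

open MvPolynomial KaehlerDifferential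

namespace Groth.Agent.LibBertiniJet29

section count

variable (k R : Type u) [Field k] [CommRing R] [Algebra k R] {m : ℕ} (a : Fin m → R) (b : R)
  (L : Type u) [Field L] [Algebra k L] [Algebra R L] [IsScalarTower k R L]

/-- the map `(μ, δ) ↦ (μ aᵢ + δ aᵢ)ᵢ` -/
noncomputable def Θ : (L × Derivation k R L) →ₗ[L] (Fin m → L) where
  toFun x := fun i => x.1 * algebraMap R L (a i) + x.2 (a i)
  map_add' x y := by
    funext i
    simp only [Prod.fst_add, Prod.snd_add, Derivation.add_apply, Pi.add_apply]
    ring
  map_smul' c x := by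
    funext i
    simp only [Prod.smul_fst, Prod.smul_snd, Derivation.smul_apply, Pi.smul_apply, smul_eq_mul,
      RingHom.id_apply]
    ring

omit [IsScalarTower k R L] in
theorem Θ_apply (x : L × Derivation k R L) (i : Fin m) :
    Θ k R a L x i = x.1 * algebraMap R L (a i) + x.2 (a i) := rfl

theorem Θ_injective (hspan : Submodule.span R (Set.range fun i => jet k R (a i)) = ⊤) :
    Function.Injective (Θ k R a L) := by
  rw [injective_iff_map_eq_zero]
  rintro ⟨μ, δ⟩ h
  let ψ : R × Ω[R⁄k] →ₗ[R] L :=
    (LinearMap.toSpanSingleton R L μ).coprod δ.liftKaehlerDifferential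
  have hψ : ∀ x : R, ψ (jet k R x) = μ * algebraMap R L x + δ x := by
    intro x
    simp only [ψ, jet_apply, LinearMap.coprod_apply, LinearMap.toSpanSingleton_apply,
      Derivation.liftKaehlerDifferential_comp_D, Algebra.smul_def]
    ring
  have hψ0 : ψ = 0 := by
    apply LinearMap.ext_on_range (v := fun i => jet k R (a i)) hspan
    intro i
    rw [hψ, LinearMap.zero_apply]
    exact congrFun h i
  have hμ : μ = 0 := by
    have := hψ 1
    rw [hψ0, LinearMap.zero_apply, map_one, mul_one, Derivation.map_one_eq_zero, add_zero] at this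
    exact this.symm
  have hδ : δ = 0 := by
    ext x
    have := hψ x
    rw [hψ0, LinearMap.zero_apply, hμ, zero_mul, zero_add] at this
    rw [← this]
    rfl
  rw [hμ, hδ]
  rfl

/-- a derivation `R → R` viewed with values in `L` -/
noncomputable def toL (D : Derivation k R R) : Derivation k R L :=
  (Algebra.linearMap R L).compDer D

theorem toL_apply (D : Derivation k R R) (x : R) : toL k R L D x = algebraMap R L (D x) := rfl

theorem span_toL_eq_top [Module.Finite R Ω[R⁄k]] [Module.Projective R Ω[R⁄k]] :
    Submodule.span L (Set.range (toL k R L)) = ⊤ := by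
  rw [eq_top_iff]
  intro δ _
  obtain ⟨n, f, g, -, -, hfg⟩ := Module.Finite.exists_comp_eq_id_of_projective R Ω[R⁄k]
  set φ := δ.liftKaehlerDifferential with hφ
  let Dl : Fin n → Derivation k R R := fun l =>
    ((LinearMap.proj l : (Fin n → R) →ₗ[R] R).comp g).compDer (D k R)
  have hδ : δ = ∑ l, φ (f (Pi.single l 1)) • toL k R L (Dl l) := by
    ext x
    have hsum : (∑ l, φ (f (Pi.single l 1)) • toL k R L (Dl l)) x =
        ∑ l, (φ (f (Pi.single l 1)) • toL k R L (Dl l)) x := by
      have := congrFun (map_sum (Derivation.coeFnAddMonoidHom (R := k) (A := R) (M := L))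
        (fun l => φ (f (Pi.single l 1)) • toL k R L (Dl l)) Finset.univ) x
      simpa only [Derivation.coeFnAddMonoidHom_apply, Finset.sum_apply] using this
    rw [hsum]
    have h1 : δ x = φ (f (g (D k R x))) := by
      have : f (g (D k R x)) = D k R x := LinearMap.congr_fun hfg _
      rw [this, hφ, Derivation.liftKaehlerDifferential_comp_D]
    rw [h1]
    conv_lhs => rw [pi_eq_sum_univ (g (D k R x))]
    rw [map_sum, map_sum]
    refine Finset.sum_congr rfl fun l _ => ?_
    rw [Derivation.smul_apply, toL_apply, smul_eq_mul]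
    have : (fun j => if l = j then (1 : R) else 0) = Pi.single l 1 := by
      funext j
      simp [Pi.single_apply, eq_comm]
    rw [this, map_smul, map_smul, Algebra.smul_def, mul_comm]
    rfl
  rw [hδ]
  exact Submodule.sum_mem _ fun l _ => Submodule.smul_mem _ _ (Submodule.subset_span ⟨_, rfl⟩)

end count

section count2

variable (k R : Type u) [Field k] [CommRing R] [Algebra k R] {m : ℕ} (a : Fin m → R) (b : R)
  (L : Type u) [Field L] [Algebra k L] [Algebra R L] [IsScalarTower k R L]
  (π : MvPolynomial (Fin m) R →ₐ[k] L) (hπ : ∀ r, π (C r) = algebraMap R L r)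

/-- the values of a derivation of `L` on the parameters -/
noncomputable def τ : Derivation k L L →ₗ[L] (Fin m → L) where
  toFun δ := fun i => δ (π (X i))
  map_add' _ _ := rfl
  map_smul' _ _ := rfl

omit [IsScalarTower k R L] [Algebra R L] in
theorem τ_apply (δ : Derivation k L L) (i : Fin m) : τ k R L π δ i = δ (π (X i)) := rfl

/-- the dot product functional -/
noncomputable def dotDual : (Fin m → L) →ₗ[L] Module.Dual L (Fin m → L) where
  toFun v := ∑ i, v i • (LinearMap.proj i : (Fin m → L) →ₗ[L] L)
  map_add' v w := by simp [add_smul, Finset.sum_add_distrib]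
  map_smul' c v := by simp [mul_smul, Finset.smul_sum]

theorem dotDual_apply (v w : Fin m → L) : dotDual L v w = ∑ i, v i * w i := by
  simp [dotDual, LinearMap.sum_apply]

theorem dotDual_injective : Function.Injective (dotDual (m := m) L) := by
  rw [injective_iff_map_eq_zero]
  intro v hv
  funext i
  have := LinearMap.congr_fun hv (Pi.single i 1)
  rw [dotDual_apply, LinearMap.zero_apply] at this
  simpa [Pi.single_apply] using this

include hπ in
theorem apply_π_eq_zero (δ : Derivation k L L)
    (h1 : Derivation.compAlgebraMapL k R L L δ = 0) (h2 : τ k R L π δ = 0)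
    (f : MvPolynomial (Fin m) R) : δ (π f) = 0 := by
  induction f using MvPolynomial.induction_on with
  | C r =>
    rw [hπ]
    exact Derivation.congr_fun h1 r
  | add p q hp hq => rw [map_add, map_add, hp, hq, add_zero]
  | mul_X p i hp =>
    rw [map_mul, Derivation.leibniz, hp, smul_zero, add_zero]
    have : δ (π (X i)) = 0 := congrFun h2 i
    rw [this, smul_zero]

include hπ in
theorem sum_Θ_mul_eq_zero [Module.Finite R Ω[R⁄k]] [Module.Projective R Ω[R⁄k]]
    (hker : ∀ f ∈ jetIdeal k a b, π f = 0) (δ : Derivation k L L)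
    (h1 : Derivation.compAlgebraMapL k R L L δ = 0) (x : L × Derivation k R L) :
    ∑ i, Θ k R a L x i * δ (π (X i)) = 0 := by
  have hδ0 : ∀ y : R, δ (algebraMap R L y) = 0 := fun y => Derivation.congr_fun h1 y
  let Λ : (L × Derivation k R L) →ₗ[L] L :=
    (dotDual L (fun i => δ (π (X i)))).comp (Θ k R a L)
  have hΛ : ∀ x, Λ x = ∑ i, Θ k R a L x i * δ (π (X i)) := by
    intro x
    change dotDual L (fun i => δ (π (X i))) (Θ k R a L x) = _
    rw [dotDual_apply]
    exact Finset.sum_congr rfl fun i _ => mul_comm _ _
  rw [← hΛ]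
  have hgen : ∀ (r : R) (D : Derivation k R R), Λ (algebraMap R L r, toL k R L D) = 0 := by
    intro r D
    have h2 : π (jetGen k a b r D) = 0 := hker _ (Ideal.subset_span ⟨r, D, rfl⟩)
    have h3 := congrArg δ h2
    rw [map_zero] at h3
    rw [hΛ, ← h3, jetGen, map_add, map_add, hπ, hδ0, zero_add, map_sum, map_sum]
    refine Finset.sum_congr rfl fun i _ => ?_
    rw [map_mul, Derivation.leibniz, hπ, hδ0, smul_zero, add_zero, smul_eq_mul, Θ_apply]
    simp only [toL_apply, map_add, map_mul]
  have e1 : Λ ((1 : L), (0 : Derivation k R L)) = 0 := by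
    have := hgen 1 0
    have h0 : toL k R L 0 = 0 := map_zero ((Algebra.linearMap R L).compDer)
    rwa [map_one, h0] at this
  have h0δ : ∀ δ' : Derivation k R L, Λ ((0 : L), δ') = 0 := by
    intro δ'
    have hδ' : δ' ∈ Submodule.span L (Set.range (toL k R L)) := by
      rw [span_toL_eq_top]; trivial
    induction hδ' using Submodule.span_induction with
    | mem y hy =>
      obtain ⟨D, rfl⟩ := hy
      have := hgen 0 D
      rwa [map_zero] at this
    | zero => exact map_zero Λ
    | add y z _ _ hy hz =>
      have : ((0 : L), y + z) = (0, y) + (0, z) := by ext <;> simp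
      rw [this, map_add, hy, hz, add_zero]
    | smul c y _ hy =>
      have : ((0 : L), c • y) = c • ((0 : L), y) := by ext <;> simp
      rw [this, map_smul, hy, smul_zero]
  obtain ⟨μ, δ'⟩ := x
  have hd : (μ, δ') = μ • ((1 : L), (0 : Derivation k R L)) + (0, δ') := by
    ext <;> simp
  rw [hd, map_add, map_smul, e1, smul_zero, zero_add, h0δ]

include hπ in
/-- **The derivation count.** -/
theorem finrank_derivation_add_one_le [Module.Finite R Ω[R⁄k]] [Module.Projective R Ω[R⁄k]]
    (hspan : Submodule.span R (Set.range fun i => jet k R (a i)) = ⊤)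
    (hker : ∀ f ∈ jetIdeal k a b, π f = 0)
    (hgen : ∀ δ : Derivation k L L, (∀ f, δ (π f) = 0) → δ = 0) :
    Module.Finite L (Derivation k L L) ∧ Module.finrank L (Derivation k L L) + 1 ≤ m := by
  have hΘ := Θ_injective k R a L hspan
  haveI : Module.Finite L (L × Derivation k R L) := Module.Finite.of_injective _ hΘ
  haveI : Module.Finite L (Derivation k R L) :=
    Module.Finite.of_surjective (LinearMap.snd L L (Derivation k R L)) LinearMap.snd_surjective
  set ρ₁ := Derivation.compAlgebraMapL k R L L with hρ₁
  let res : Derivation k L L →ₗ[L] Derivation k R L × (Fin m → L) := ρ₁.prod (τ k R L π)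
  have hres : Function.Injective res := by
    rw [injective_iff_map_eq_zero]
    intro δ hδ
    have h1 : ρ₁ δ = 0 := congrArg Prod.fst hδ
    have h2 : τ k R L π δ = 0 := congrArg Prod.snd hδ
    exact hgen δ (apply_π_eq_zero k R L π hπ δ h1 h2)
  haveI : Module.Finite L (Derivation k L L) := Module.Finite.of_injective _ hres
  refine ⟨inferInstance, ?_⟩
  set d' := Module.finrank L (Derivation k R L) with hd'
  have hrankΘ : Module.finrank L (LinearMap.range (Θ k R a L)) = 1 + d' := by
    rw [LinearMap.finrank_range_of_inj hΘ, Module.finrank_prod, Module.finrank_self]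
  have hdual := LinearMap.finrank_range_dualMap_eq_finrank_range (Θ k R a L)
  have hrn := LinearMap.finrank_range_add_finrank_ker (Θ k R a L).dualMap
  rw [hdual, hrankΘ, Subspace.dual_finrank_eq, Module.finrank_fin_fun] at hrn
  -- the kernel of `ρ₁` embeds into the kernel of the dual map
  let j : LinearMap.ker ρ₁ →ₗ[L] LinearMap.ker (Θ k R a L).dualMap :=
    LinearMap.codRestrict _ ((dotDual L).comp ((τ k R L π).comp (LinearMap.ker ρ₁).subtype))
      (fun δ => by
        rw [LinearMap.mem_ker]
        apply LinearMap.ext
        intro x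
        rw [LinearMap.dualMap_apply, LinearMap.zero_apply]
        change dotDual L (τ k R L π δ.1) (Θ k R a L x) = 0
        rw [dotDual_apply]
        have := sum_Θ_mul_eq_zero k R a b L π hπ hker δ.1 δ.2 x
        rw [← this]
        exact Finset.sum_congr rfl fun i _ => mul_comm _ _)
  have hj : Function.Injective j := by
    rw [injective_iff_map_eq_zero]
    intro δ hδ
    have h1 : dotDual L (τ k R L π δ.1) = 0 := congrArg Subtype.val hδ
    have h2 : τ k R L π δ.1 = 0 := dotDual_injective L (h1.trans (map_zero _).symm)
    have h3 : δ.1 = 0 := hgen δ.1 (apply_π_eq_zero k R L π hπ δ.1 δ.2 h2)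
    exact Subtype.ext h3
  have hle1 := LinearMap.finrank_le_finrank_of_injective hj
  have hrn2 := LinearMap.finrank_range_add_finrank_ker ρ₁
  have hle2 : Module.finrank L (LinearMap.range ρ₁) ≤ d' := Submodule.finrank_le _
  omega

end count2

end Groth.Agent.LibBertiniJet29
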