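import Groth.Agent.S11311

/-!
# Cotangent space vs fibre of differentials for a separable residue field (helper29)

For a local `k`-algebra `B` whose residue field is formally étale over `k`, the map
`m/m² → κ ⊗ Ω[B/k]` is bijective.
-/

set_option autoImplicit false

namespace Groth.Agent.LibCotSep29

open IsLocalRing KaehlerDifferential TensorProduct

universe u

variable (k B : Type u) [CommRing k] [CommRing B] [Algebra k B] [IsLocalRing B]

lemma kerCot_bijective [Algebra.FormallyEtale k (ResidueField B)] :
    Function.Bijective (kerCotangentToTensor k B (ResidueField B)) := by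
  have hsurj : Function.Surjective (algebraMap B (ResidueField B)) := residue_surjective
  constructor
  · have hsurj' : Function.Surjective
        (IsScalarTower.toAlgHom k B (ResidueField B)).kerSquareLift := by
      intro y
      obtain ⟨b, rfl⟩ := hsurj y
      exact ⟨Ideal.Quotient.mk _ b, rfl⟩
    have hnil : IsNilpotent (RingHom.ker
        (((IsScalarTower.toAlgHom k B (ResidueField B)).kerSquareLift :
          (B ⧸ (RingHom.ker (IsScalarTower.toAlgHom k B (ResidueField B)).toRingHom) ^ 2) →ₐ[k]
            ResidueField B) :
          (B ⧸ (RingHom.ker (IsScalarTower.toAlgHom k B (ResidueField B)).toRingHom) ^ 2) →+*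
            ResidueField B)) := by
      refine ⟨2, ?_⟩
      have := AlgHom.ker_kerSquareLift (IsScalarTower.toAlgHom k B (ResidueField B))
      change RingHom.ker (IsScalarTower.toAlgHom k B (ResidueField B)).kerSquareLift.toRingHom ^ 2
        = 0
      rw [this, Ideal.cotangentIdeal_square]
      rfl
    let g : ResidueField B →ₐ[k]
        B ⧸ (RingHom.ker (IsScalarTower.toAlgHom k B (ResidueField B)).toRingHom) ^ 2 :=
      Algebra.FormallySmooth.liftOfSurjective (AlgHom.id k (ResidueField B))
        (IsScalarTower.toAlgHom k B (ResidueField B)).kerSquareLift hsurj' hnil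
    have hg : (IsScalarTower.toAlgHom k B (ResidueField B)).kerSquareLift.comp g =
        AlgHom.id k _ := Algebra.FormallySmooth.comp_liftOfSurjective _ _ hsurj' hnil
    obtain ⟨l, hl⟩ := (retractionKerCotangentToTensorEquivSection (R := k) hsurj).symm ⟨g, hg⟩
    exact Function.LeftInverse.injective (g := l) (fun x => LinearMap.congr_fun hl x)
  · have : Subsingleton Ω[ResidueField B⁄k] := inferInstance
    intro y
    exact (exact_kerCotangentToTensor_mapBaseChange k B (ResidueField B) hsurj y).mp
      (Subsingleton.elim _ _)

/-- the cotangent space and the fibre of the differentials have the same dimension -/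
lemma finrank_cot_eq [Algebra.FormallyEtale k (ResidueField B)] :
    Module.finrank (ResidueField B) (CotangentSpace B) =
      Module.finrank (ResidueField B) (ResidueField B ⊗[B] Ω[B⁄k]) := by
  have hker : maximalIdeal B = RingHom.ker (algebraMap B (ResidueField B)) := by
    rw [ResidueField.algebraMap_eq, ker_residue]
  let e₁ : (maximalIdeal B).Cotangent ≃ₗ[B] ResidueField B ⊗[B] Ω[B⁄k] :=
    (Groth.Agent.S11311.cotEquivOfEq _ _ hker).trans
      (LinearEquiv.ofBijective _ (kerCot_bijective k B))
  let e₂ : CotangentSpace B ≃ₗ[ResidueField B] ResidueField B ⊗[B] Ω[B⁄k] :=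
    LinearEquiv.extendScalarsOfSurjective (residue_surjective (R := B)) e₁
  exact e₂.finrank_eq

end Groth.Agent.LibCotSep29
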