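import Mathlib
import Groth.Agent.LibBertiniJet29c
import Groth.Agent.S7623

/-!
# Bertini via jets, ring level, part 4: the main ring-level theorem (helper29)
-/

set_option autoImplicit false
set_option linter.style.haveILetI false
universe u

open MvPolynomial KaehlerDifferential

namespace Groth.Agent.LibBertiniJet29

/-- derivations of a field of fractions are determined on the subring -/
theorem derivation_eq_zero_of_fractionRing {k B L : Type*} [CommRing k] [CommRing B] [IsDomain B]
    [Field L]
    [Algebra k B] [Algebra k L] [Algebra B L] [IsScalarTower k B L] [IsFractionRing B L]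
    (δ : Derivation k L L) (h : ∀ x : B, δ (algebraMap B L x) = 0) : δ = 0 := by
  ext y
  obtain ⟨x, s, hs, rfl⟩ := IsFractionRing.div_surjective (A := B) y
  have hs0 : algebraMap B L s ≠ 0 :=
    IsFractionRing.to_map_ne_zero_of_mem_nonZeroDivisors hs
  have h1 : algebraMap B L x / algebraMap B L s * algebraMap B L s = algebraMap B L x :=
    div_mul_cancel₀ _ hs0
  have h2 := congrArg δ h1
  rw [Derivation.leibniz, h, h, smul_zero, zero_add, smul_eq_mul] at h2
  rcases mul_eq_zero.mp h2 with h3 | h3
  · exact absurd h3 hs0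
  · exact h3

section main

variable (k R : Type u) [Field k] [PerfectField k] [CommRing R] [Algebra k R]
  [Algebra.FiniteType k R] [Module.Finite R Ω[R⁄k]] [Module.Projective R Ω[R⁄k]]
  {m : ℕ} (a : Fin m → R) (b : R)

/-- **Dimension count**: the jet ideal meets `k[T]` nontrivially. -/
theorem exists_ne_zero_map_mem_jetIdeal
    (hspan : Submodule.span R (Set.range fun i => jet k R (a i)) = ⊤) :
    ∃ q : MvPolynomial (Fin m) k, q ≠ 0 ∧
      MvPolynomial.map (algebraMap k R) q ∈ jetIdeal k a b := by
  by_contra hcon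
  push Not at hcon
  set φ : MvPolynomial (Fin m) k →+* MvPolynomial (Fin m) R :=
    MvPolynomial.map (algebraMap k R) with hφ
  set S : Submonoid (MvPolynomial (Fin m) R) :=
    Submonoid.map φ (nonZeroDivisors (MvPolynomial (Fin m) k)) with hS
  have hdisj : Disjoint (jetIdeal k a b : Set (MvPolynomial (Fin m) R)) S := by
    rw [Set.disjoint_left]
    rintro x hx ⟨q, hq, rfl⟩
    exact hcon q (nonZeroDivisors.ne_zero hq) hx
  obtain ⟨𝔓, h𝔓, hle, hd𝔓⟩ := Ideal.exists_le_prime_disjoint _ S hdisj
  let B' := MvPolynomial (Fin m) R ⧸ 𝔓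
  let L := FractionRing B'
  let π : MvPolynomial (Fin m) R →ₐ[k] L :=
    (IsScalarTower.toAlgHom k B' L).comp (Ideal.Quotient.mkₐ k 𝔓)
  have hπ0 : ∀ f, π f = 0 ↔ f ∈ 𝔓 := by
    intro f
    change algebraMap B' L (Ideal.Quotient.mk 𝔓 f) = 0 ↔ _
    rw [map_eq_zero_iff _ (IsFractionRing.injective B' L), Ideal.Quotient.eq_zero_iff_mem]
  have hπC : ∀ r, π (C r) = algebraMap R L r := by
    intro r
    rw [IsScalarTower.algebraMap_apply R B' L]
    rfl
  haveI : IsScalarTower k R L := by
    refine IsScalarTower.of_algebraMap_eq (R := k) (S := R) (A := L) fun c => ?_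
    rw [← hπC]
    have h1 : C (algebraMap k R c) = algebraMap k (MvPolynomial (Fin m) R) c :=
      (MvPolynomial.algebraMap_apply (σ := Fin m) (R := k) (S₁ := R) c).symm
    rw [h1, AlgHom.commutes]
  -- algebraic independence of the parameters
  have hinj : Function.Injective (aeval (R := k) (fun i => π (X i))) := by
    rw [injective_iff_map_eq_zero]
    intro q hq
    have h1 : aeval (R := k) (fun i => π (X i)) q = π (φ q) := by
      have : (aeval (R := k) (fun i => π (X i))) =
          (π.comp (MvPolynomial.mapAlgHom (Algebra.ofId k R))) := by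
        apply MvPolynomial.algHom_ext
        intro i
        simp
      rw [this]
      rfl
    rw [h1, hπ0] at hq
    by_contra hq0
    exact Set.disjoint_left.mp hd𝔓 hq ⟨q, mem_nonZeroDivisors_of_ne_zero hq0, rfl⟩
  have hai : AlgebraicIndependent k (fun i => π (X i)) :=
    algebraicIndependent_iff_injective_aeval.mpr hinj
  have hm : (m : Cardinal.{u}) ≤ Algebra.trdeg k L := by
    have := hai.lift_cardinalMk_le_trdeg
    simpa using this
  -- the derivation count
  have hgen : ∀ δ : Derivation k L L, (∀ f, δ (π f) = 0) → δ = 0 := by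
    intro δ hδ
    apply derivation_eq_zero_of_fractionRing (B := B') δ
    intro x
    obtain ⟨f, rfl⟩ := Ideal.Quotient.mk_surjective x
    exact hδ f
  have hker : ∀ f ∈ jetIdeal k a b, π f = 0 := fun f hf => (hπ0 f).mpr (hle hf)
  obtain ⟨hfin, hcount⟩ :=
    finrank_derivation_add_one_le k R a b L π hπC hspan hker hgen
  -- transcendence degree via differentials
  haveI : Algebra.FiniteType k (MvPolynomial (Fin m) R) :=
    Algebra.FiniteType.trans ‹Algebra.FiniteType k R› inferInstance
  haveI : Algebra.FiniteType k B' := Algebra.FiniteType.of_surjective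
    (Ideal.Quotient.mkₐ k 𝔓) Ideal.Quotient.mk_surjective
  haveI : Algebra.EssFiniteType B' L := Algebra.EssFiniteType.of_isLocalization L (nonZeroDivisors B')
  haveI : Algebra.EssFiniteType k L := Algebra.EssFiniteType.comp k B' L
  have htr := Groth.Agent.S7623.finrank_kaehler_eq_trdeg k L
  have hdual : Module.finrank L (Derivation k L L) = Module.finrank L Ω[L⁄k] := by
    rw [← (KaehlerDifferential.linearMapEquivDerivation k L (M := L)).finrank_eq]
    exact Subspace.dual_finrank_eq
  rw [← htr, ← hdual] at hm
  have : m ≤ Module.finrank L (Derivation k L L) := by exact_mod_cast hm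
  omega

/-- **Bertini via jets, ring level.** -/
theorem exists_poly_formallySmooth_of_jets [Algebra.FormallySmooth k R]
    (hjet : ∀ 𝔪 : Ideal R, 𝔪.IsMaximal → ∀ l : R, ∃ c : Fin m → k,
      (∑ i, algebraMap k R (c i) * a i) - l ∈ 𝔪 ^ 2) :
    ∃ q : MvPolynomial (Fin m) k, q ≠ 0 ∧ ∀ c : Fin m → k, eval c q ≠ 0 →
      Algebra.FormallySmooth k (R ⧸ Ideal.span {member k a b c}) := by
  obtain ⟨q, hq0, hq⟩ := exists_ne_zero_map_mem_jetIdeal k R a b (span_jets_eq_top k R a hjet)
  exact ⟨q, hq0, fun c hc => formallySmooth_of_map_mem_jetIdeal k a b q hq c hc⟩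

end main

end Groth.Agent.LibBertiniJet29
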