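import Mathlib
import Groth.Agent.LibBertiniJet29d

/-!
# Bertini for hyperplane sections: ring-level preparations (helper29)

* `notMem_sq_of_map_mem_jetIdeal`: a polynomial `q ∈ k[T]` in the jet ideal certifies
  `b + Σ cᵢ aᵢ ∉ 𝔪²` for every proper ideal `𝔪` and every `c` with `q(c) ≠ 0`.
* `jets_of_surjective`: if `R` is a quotient of a polynomial ring `k[Y_s]` (`k` algebraically closed)
  and the family `a` contains `1` and the images of the `Y_s`, the `k`-span of `a` maps onto `R/𝔪²`
  for every maximal ideal `𝔪`.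
* `eq_sum_of_isHomogeneous_one`: a linear form is `Σ cᵢ Xᵢ`.
-/

set_option autoImplicit false
set_option linter.style.haveILetI false
universe u

open MvPolynomial

namespace Groth.Agent.LibBertiniJet29

section sq

variable (k : Type u) {R : Type u} [Field k] [CommRing R] [Algebra k R] {m : ℕ}
  (a : Fin m → R) (b : R)

theorem derivation_mem_of_mem_sq (D : Derivation k R R) (𝔪 : Ideal R) (g : R) (hg : g ∈ 𝔪 ^ 2) :
    D g ∈ 𝔪 := by
  rw [pow_two] at hg
  refine Submodule.mul_induction_on hg (fun x hx y hy => ?_) (fun x y hx hy => ?_)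
  · rw [Derivation.leibniz]
    exact 𝔪.add_mem (𝔪.mul_mem_right _ hx) (𝔪.mul_mem_right _ hy)
  · rw [map_add]
    exact 𝔪.add_mem hx hy

theorem notMem_sq_of_map_mem_jetIdeal
    (q : MvPolynomial (Fin m) k) (hq : MvPolynomial.map (algebraMap k R) q ∈ jetIdeal k a b)
    (c : Fin m → k) (hc : eval c q ≠ 0) (𝔪 : Ideal R) (h𝔪 : 𝔪 ≠ ⊤) :
    member k a b c ∉ 𝔪 ^ 2 := by
  intro hmem
  have h1 : evalAt k R c (MvPolynomial.map (algebraMap k R) q) ∈
      Ideal.map (evalAt k R c) (jetIdeal k a b) := Ideal.mem_map_of_mem _ hq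
  rw [evalAt_map, jetIdeal, Ideal.map_span] at h1
  have h2 : (evalAt k R c : MvPolynomial (Fin m) R →+* R) ''
      {f | ∃ (r : R) (D : Derivation k R R), f = jetGen k a b r D} ⊆
      {y | ∃ (r : R) (D : Derivation k R R),
        y = r * member k a b c + D (member k a b c)} := by
    rintro _ ⟨f, ⟨r, D, rfl⟩, rfl⟩
    exact ⟨r, D, evalAt_jetGen k a b c r D⟩
  have h3 := Ideal.span_mono h2 h1
  obtain ⟨r, D, hrD⟩ := mem_span_member k a b c _ h3
  have h4 : algebraMap k R (eval c q) ∈ 𝔪 := by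
    rw [hrD]
    exact 𝔪.add_mem (𝔪.mul_mem_left _ (Ideal.pow_le_self two_ne_zero hmem))
      (derivation_mem_of_mem_sq k D 𝔪 _ hmem)
  apply h𝔪
  rw [Ideal.eq_top_iff_one]
  have hu : algebraMap k R (eval c q)⁻¹ * algebraMap k R (eval c q) = 1 := by
    rw [← map_mul, inv_mul_cancel₀ hc, map_one]
  rw [← hu]
  exact 𝔪.mul_mem_left _ h4

end sq

section gen

variable (k : Type u) {R : Type u} [Field k] [IsAlgClosed k] [CommRing R] [Algebra k R]
  [Algebra.FiniteType k R] {m : ℕ} (a : Fin m → R)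

/-- residue fields at maximal ideals are `k` -/
theorem exists_sub_algebraMap_mem (𝔪 : Ideal R) [h𝔪 : 𝔪.IsMaximal] (r : R) :
    ∃ e : k, r - algebraMap k R e ∈ 𝔪 := by
  letI : Field (R ⧸ 𝔪) := Ideal.Quotient.field 𝔪
  haveI : Module.Finite k (R ⧸ 𝔪) := finite_of_finite_type_of_isJacobsonRing k (R ⧸ 𝔪)
  haveI : Algebra.IsIntegral k (R ⧸ 𝔪) := Algebra.IsIntegral.of_finite k (R ⧸ 𝔪)
  obtain ⟨e, he⟩ := (IsAlgClosed.algebraMap_bijective_of_isIntegral (k := k) (K := R ⧸ 𝔪)).2
    (Ideal.Quotient.mk 𝔪 r)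
  refine ⟨e, ?_⟩
  rw [← Ideal.Quotient.eq_zero_iff_mem, map_sub, ← he]
  exact sub_self _

theorem jets_of_surjective {σ : Type*} (Ψ : MvPolynomial σ k →ₐ[k] R)
    (hΨ : Function.Surjective Ψ) (j : Fin m) (hj : a j = 1)
    (hY : ∀ s : σ, ∃ i, a i = Ψ (X s))
    (𝔪 : Ideal R) (h𝔪 : 𝔪.IsMaximal) (l : R) :
    ∃ c : Fin m → k, (∑ i, algebraMap k R (c i) * a i) - l ∈ 𝔪 ^ 2 := by
  -- the set of good elements
  let T : Set R := {l | ∃ c : Fin m → k, (∑ i, algebraMap k R (c i) * a i) - l ∈ 𝔪 ^ 2}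
  have hlin : ∀ c : Fin m → k, (∑ i, algebraMap k R (c i) * a i) ∈ T :=
    fun c => ⟨c, by rw [sub_self]; exact Ideal.zero_mem _⟩
  have hadd : ∀ x y, x ∈ T → y ∈ T → x + y ∈ T := by
    rintro x y ⟨c, hc⟩ ⟨c', hc'⟩
    refine ⟨c + c', ?_⟩
    have : (∑ i, algebraMap k R ((c + c') i) * a i) - (x + y) =
        ((∑ i, algebraMap k R (c i) * a i) - x) + ((∑ i, algebraMap k R (c' i) * a i) - y) := by
      simp only [Pi.add_apply, map_add, add_mul, Finset.sum_add_distrib]
      ring
    rw [this]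
    exact Ideal.add_mem _ hc hc'
  have hsmul : ∀ (e : k) x, x ∈ T → algebraMap k R e * x ∈ T := by
    rintro e x ⟨c, hc⟩
    refine ⟨e • c, ?_⟩
    have : (∑ i, algebraMap k R ((e • c) i) * a i) - algebraMap k R e * x =
        algebraMap k R e * ((∑ i, algebraMap k R (c i) * a i) - x) := by
      simp only [Pi.smul_apply, smul_eq_mul, map_mul, Finset.mul_sum, mul_sub]
      congr 1
      refine Finset.sum_congr rfl fun i _ => ?_
      ring
    rw [this]
    exact Ideal.mul_mem_left _ _ hc
  have hone : (1 : R) ∈ T := by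
    have := hlin (Pi.single j 1)
    simpa [Pi.single_apply, hj] using this
  have ha : ∀ i, a i ∈ T := by
    intro i
    have := hlin (Pi.single i 1)
    simpa [Pi.single_apply] using this
  have hconst : ∀ e : k, algebraMap k R e ∈ T := by
    intro e
    have := hsmul e 1 hone
    rwa [mul_one] at this
  have hsq : ∀ x, x ∈ 𝔪 ^ 2 → x ∈ T := by
    intro x hx
    refine ⟨0, ?_⟩
    simp only [Pi.zero_apply, map_zero, zero_mul, Finset.sum_const_zero, zero_sub]
    exact Ideal.neg_mem_iff _ |>.mpr hx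
  have hcongr : ∀ x y, x ∈ T → x - y ∈ 𝔪 ^ 2 → y ∈ T := by
    rintro x y ⟨c, hc⟩ hxy
    refine ⟨c, ?_⟩
    have : (∑ i, algebraMap k R (c i) * a i) - y =
        ((∑ i, algebraMap k R (c i) * a i) - x) + (x - y) := by ring
    rw [this]
    exact Ideal.add_mem _ hc hxy
  -- products of two linear combinations
  have hmul_lin : ∀ c c' : Fin m → k,
      (∑ i, algebraMap k R (c i) * a i) * (∑ i, algebraMap k R (c' i) * a i) ∈ T := by
    intro c c'
    set lam := ∑ i, algebraMap k R (c i) * a i with hlam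
    set lam' := ∑ i, algebraMap k R (c' i) * a i with hlam'
    obtain ⟨e, he⟩ := exists_sub_algebraMap_mem k 𝔪 lam
    obtain ⟨e', he'⟩ := exists_sub_algebraMap_mem k 𝔪 lam'
    have h1 : algebraMap k R e * lam' + algebraMap k R e' * lam +
        algebraMap k R (-(e * e')) ∈ T :=
      hadd _ _ (hadd _ _ (hsmul e _ (hlin c')) (hsmul e' _ (hlin c))) (hconst _)
    refine hcongr _ _ h1 ?_
    have : algebraMap k R e * lam' + algebraMap k R e' * lam + algebraMap k R (-(e * e')) -
        lam * lam' = -((lam - algebraMap k R e) * (lam' - algebraMap k R e')) := by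
      rw [map_neg, map_mul]
      ring
    rw [this, pow_two]
    exact Ideal.neg_mem_iff _ |>.mpr (Ideal.mul_mem_mul he he')
  have hmul : ∀ x y, x ∈ T → y ∈ T → x * y ∈ T := by
    rintro x y ⟨c, hc⟩ ⟨c', hc'⟩
    refine hcongr _ _ (hmul_lin c c') ?_
    have : (∑ i, algebraMap k R (c i) * a i) * (∑ i, algebraMap k R (c' i) * a i) - x * y =
        ((∑ i, algebraMap k R (c i) * a i) - x) * (∑ i, algebraMap k R (c' i) * a i) +
          x * ((∑ i, algebraMap k R (c' i) * a i) - y) := by ring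
    rw [this]
    exact Ideal.add_mem _ (Ideal.mul_mem_right _ _ hc) (Ideal.mul_mem_left _ _ hc')
  obtain ⟨p, rfl⟩ := hΨ l
  change Ψ p ∈ T
  induction p using MvPolynomial.induction_on with
  | C e =>
    have : Ψ (C e) = algebraMap k R e := by
      rw [← MvPolynomial.algebraMap_eq, AlgHom.commutes]
    rw [this]
    exact hconst e
  | add p q hp hq =>
    rw [map_add]
    exact hadd _ _ hp hq
  | mul_X p s hp =>
    rw [map_mul]
    obtain ⟨i, hi⟩ := hY s
    rw [← hi]
    exact hmul _ _ hp (ha i)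

end gen

section lin

variable {k : Type u} [CommRing k] {n : ℕ}

/-- a linear form is the sum of its monomials -/
theorem eq_sum_of_isHomogeneous_one (h : MvPolynomial (Fin n) k) (hh : h.IsHomogeneous 1) :
    h = ∑ i, C (coeff (Finsupp.single i 1) h) * X i := by
  ext d
  rw [coeff_sum]
  simp only [coeff_C_mul, coeff_X']
  by_cases hd : ∃ i, d = Finsupp.single i 1
  · obtain ⟨i₀, rfl⟩ := hd
    rw [Finset.sum_eq_single i₀]
    · simp
    · intro i _ hi
      have : Finsupp.single i 1 ≠ Finsupp.single i₀ 1 := by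
        intro h'
        exact hi ((Finsupp.single_left_injective one_ne_zero) h')
      simp [this]
    · intro h'
      exact absurd (Finset.mem_univ _) h'
  · push Not at hd
    have h0 : coeff d h = 0 := by
      by_contra hne
      have hdeg := hh hne
      -- degree one monomials are single
      have : ∃ i, d = Finsupp.single i 1 := by
        have hdeg' : d.degree = 1 := by
          rw [Finsupp.degree_eq_weight_one]
          exact hdeg
        have hmem : d ∈ { d : Fin n →₀ ℕ | d.degree = 1 } := hdeg'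
        rw [← Finsupp.range_single_one] at hmem
        obtain ⟨i, hi⟩ := hmem
        exact ⟨i, hi.symm⟩
      exact absurd this (by push Not; exact hd)
    rw [h0]
    symm
    apply Finset.sum_eq_zero
    intro i _
    rw [if_neg (fun h' => hd i h'.symm), mul_zero]

end lin

end Groth.Agent.LibBertiniJet29
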