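import Mathlib
import Groth.Prelude
import Groth.Agent.LibBertini29c
import Groth.Agent.LibBertiniJet29d

/-!
# Bertini via jets (any characteristic), scheme level (helper29)
-/

set_option autoImplicit false
set_option linter.style.haveILetI false
set_option backward.isDefEq.respectTransparency false
set_option backward.isDefEq.respectTransparency.types false
universe u

open CategoryTheory AlgebraicGeometry MvPolynomial Opposite
open Groth.Agent.Lib.helper3.FTField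
open Groth.Agent.Lib.Helper18.InvGen Groth.Agent.Lib.Helper18.ZeroSchemeIdeal
open Groth.Agent.LibBertini29

namespace Groth.Agent.LibBertiniJet29

/-- membership in `I M` of a multiple of a free generator -/
theorem mem_of_smul_mem_smul_top {A M : Type*} [CommRing A] [AddCommGroup M] [Module A M]
    (ℓ : M) (hgen : Function.Bijective (fun a : A => a • ℓ)) (I : Ideal A) (a : A)
    (h : a • ℓ ∈ I • (⊤ : Submodule A M)) : a ∈ I := by
  have key : ∀ n ∈ I • (⊤ : Submodule A M), ∃ a' ∈ I, n = a' • ℓ := by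
    intro n hn
    refine Submodule.smul_induction_on hn (fun r hr n _ => ?_) (fun x y hx hy => ?_)
    · obtain ⟨y, rfl⟩ := hgen.2 n
      exact ⟨r * y, I.mul_mem_right _ hr, (mul_smul r y ℓ).symm⟩
    · obtain ⟨a₁, h₁, rfl⟩ := hx
      obtain ⟨a₂, h₂, rfl⟩ := hy
      exact ⟨a₁ + a₂, I.add_mem h₁ h₂, (add_smul a₁ a₂ ℓ).symm⟩
  obtain ⟨a', ha', h'⟩ := key _ h
  have : a = a' := hgen.1 h'
  rw [this]
  exact ha'

/-- contraction of the square of a maximal ideal from the localization -/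
theorem mem_sq_of_algebraMap_mem {R S : Type*} [CommRing R] [CommRing S] [Algebra R S]
    (𝔪 : Ideal R) [h𝔪 : 𝔪.IsMaximal] [IsLocalization.AtPrime S 𝔪] (e : R)
    (h : algebraMap R S e ∈ (Ideal.map (algebraMap R S) 𝔪) ^ 2) : e ∈ 𝔪 ^ 2 := by
  rw [← Ideal.map_pow, IsLocalization.algebraMap_mem_map_algebraMap_iff 𝔪.primeCompl] at h
  obtain ⟨s, hs, hse⟩ := h
  have hrad : (𝔪 ^ 2).radical = 𝔪 := by
    rw [Ideal.radical_pow 𝔪 two_ne_zero, h𝔪.isPrime.radical]
  have hprim : (𝔪 ^ 2).IsPrimary := by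
    apply Ideal.isPrimary_of_isMaximal_radical
    rw [hrad]
    exact h𝔪
  rw [mul_comm] at hse
  rcases (Ideal.isPrimary_iff.mp hprim).2 hse with h1 | h1
  · exact h1
  · rw [hrad] at h1
    exact absurd h1 hs

section scheme

variable (k : Type u) [Field k] {Y : Scheme.{u}} [Y.Over (Spec (CommRingCat.of k))]
  (L : Y.Modules)

theorem ring_jets [LocallyOfFiniteType (Y ↘ Spec (CommRingCat.of k))] {m : ℕ}
    (s : Fin m → (Coh.structureModule Y ⟶ L))
    (hjet : ∀ p : Y, IsClosed ({p} : Set Y) → ∀ l : ↥(L.presheaf.stalk p), ∃ c : Fin m → k,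
      (L.presheaf.germ ⊤ p trivial)
          (PicF2.secVal L (∑ i : Fin m, Formal.smulMod k (Coh.structureModule Y) (c i) ≫ s i) ⊤) - l ∈
        (IsLocalRing.maximalIdeal ↥(Y.presheaf.stalk p)) ^ 2 •
          (⊤ : Submodule ↥(Y.presheaf.stalk p) ↥(L.presheaf.stalk p)))
    {W : Y.Opens} (hW : IsAffineOpen W) (ℓ : Γ(L, W)) (hℓ : IsGen L W ℓ)
    (a : Fin m → Γ(Y, W)) (ha : ∀ i, a i • ℓ = sv L (s i) W)
    (𝔪 : Ideal Γ(Y, W)) (h𝔪 : 𝔪.IsMaximal) (l : Γ(Y, W)) :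
    ∃ c : Fin m → k, (∑ i, sec k Y W (c i) * a i) - l ∈ 𝔪 ^ 2 := by
  haveI : JacobsonSpace Y := LocallyOfFiniteType.jacobsonSpace (Y ↘ Spec (CommRingCat.of k))
  let y : Spec Γ(Y, W) := ⟨𝔪, h𝔪.isPrime⟩
  set x : Y := hW.fromSpec y with hx
  have hxW : x ∈ W := by
    have : x ∈ hW.fromSpec.opensRange := ⟨y, rfl⟩
    rwa [hW.opensRange_fromSpec] at this
  have hxc : IsClosed ({x} : Set Y) := by
    have hy : y ∈ closedPoints (Spec Γ(Y, W)) :=
      (PrimeSpectrum.isClosed_singleton_iff_isMaximal y).mpr h𝔪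
    rw [← hW.fromSpec.isOpenEmbedding.preimage_closedPoints] at hy
    exact hy
  obtain ⟨c, hc⟩ := hjet x hxc
    (Y.presheaf.germ W x hxW l • L.presheaf.germ W x hxW ℓ)
  refine ⟨c, ?_⟩
  set t := ∑ i : Fin m, Formal.smulMod k (Coh.structureModule Y) (c i) ≫ s i with ht
  have h1 : L.presheaf.germ ⊤ x trivial (PicF2.secVal L t ⊤) =
      L.presheaf.germ W x hxW (sv L t W) := by
    rw [← map_sv L t (le_top : W ≤ ⊤)]
    exact (TopCat.Presheaf.germ_res_apply L.presheaf (homOfLE (le_top : W ≤ ⊤)) x hxW _).symm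
  have h2 : sv L t W = (∑ i, sec k Y W (c i) * a i) • ℓ := by
    rw [ht, sv_sum, Finset.sum_smul]
    refine Finset.sum_congr rfl fun i _ => ?_
    rw [sv_smulMod_comp, mul_smul, ha i]
  have h3 : Y.presheaf.germ W x hxW ((∑ i, sec k Y W (c i) * a i) - l) •
      L.presheaf.germ W x hxW ℓ ∈ (IsLocalRing.maximalIdeal ↥(Y.presheaf.stalk x)) ^ 2 •
          (⊤ : Submodule ↥(Y.presheaf.stalk x) ↥(L.presheaf.stalk x)) := by
    rw [h1, h2, Mero.germ_smul] at hc
    rw [map_sub, sub_smul]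
    exact hc
  have h4 := mem_of_smul_mem_smul_top _ (hℓ x hxW) _ _ h3
  letI := TopCat.Presheaf.algebra_section_stalk Y.presheaf (⟨x, hxW⟩ : W)
  haveI hloc : IsLocalization.AtPrime (Y.presheaf.stalk x) 𝔪 := hW.isLocalization_stalk' y hxW
  rw [← IsLocalization.AtPrime.map_eq_maximalIdeal 𝔪 (Y.presheaf.stalk x)] at h4
  exact mem_sq_of_algebraMap_mem 𝔪 _ h4


variable [IsAlgClosed k] [Smooth (Y ↘ Spec (CommRingCat.of k))]

theorem chartJet (hL : FlatMod.IsFinLocFree L) {m : ℕ}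
    (s : Fin m → (Coh.structureModule Y ⟶ L)) (f : Coh.structureModule Y ⟶ L)
    (hjet : ∀ p : Y, IsClosed ({p} : Set Y) → ∀ l : ↥(L.presheaf.stalk p), ∃ c : Fin m → k,
      (L.presheaf.germ ⊤ p trivial)
          (PicF2.secVal L (∑ i : Fin m, Formal.smulMod k (Coh.structureModule Y) (c i) ≫ s i) ⊤) - l ∈
        (IsLocalRing.maximalIdeal ↥(Y.presheaf.stalk p)) ^ 2 •
          (⊤ : Submodule ↥(Y.presheaf.stalk p) ↥(L.presheaf.stalk p)))
    {W : Y.Opens} (hW : IsAffineOpen W) (ℓ : Γ(L, W)) (hℓ : IsGen L W ℓ) :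
    ∃ q : MvPolynomial (Fin m) k, q ≠ 0 ∧ ∀ c : Fin m → k, eval c q ≠ 0 →
      ((Ideal.Quotient.mk ((PicF2.zeroScheme L
        (f + ∑ i, Formal.smulMod k (Coh.structureModule Y) (c i) ≫ s i)).ideal ⟨W, hW⟩)).comp
          (sec k Y W)).FormallySmooth := by
  letI := (sec k Y W).toAlgebra
  have hres : L.presheaf.map (homOfLE (le_refl W)).op ℓ = ℓ := by
    have : (homOfLE (le_refl W)).op = 𝟙 (op W) := rfl
    rw [this, L.presheaf.map_id]
    rfl
  have hex : ∀ t : Coh.structureModule Y ⟶ L, ∃ a : Γ(Y, W), a • ℓ = sv L t W := fun t => by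
    obtain ⟨g, hg⟩ := hℓ.exists_smul_eq le_rfl (sv L t W)
    rw [hres] at hg
    exact ⟨g, hg⟩
  choose a ha using fun i => hex (s i)
  obtain ⟨b, hb⟩ := hex f
  haveI : Algebra.Smooth k Γ(Y, W) :=
    RingHom.smooth_algebraMap.mp (Groth.Agent.LibSmoothTower29.sec_smooth k Y hW)
  haveI : Algebra.FiniteType k Γ(Y, W) := sec_finiteType k Y hW
  have hj : ∀ 𝔪 : Ideal Γ(Y, W), 𝔪.IsMaximal → ∀ l : Γ(Y, W), ∃ c : Fin m → k,
      (∑ i, algebraMap k Γ(Y, W) (c i) * a i) - l ∈ 𝔪 ^ 2 :=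
    fun 𝔪 h𝔪 l => ring_jets k L s hjet hW ℓ hℓ a ha 𝔪 h𝔪 l
  obtain ⟨q, hq0, hq⟩ := exists_poly_formallySmooth_of_jets k Γ(Y, W) a b hj
  refine ⟨q, hq0, fun c hc => ?_⟩
  have hlin : member k a b c • ℓ =
      sv L (f + ∑ i, Formal.smulMod k (Coh.structureModule Y) (c i) ≫ s i) W := by
    rw [sv_add, sv_sum, member, add_smul, hb, Finset.sum_smul]
    congr 1
    refine Finset.sum_congr rfl fun i _ => ?_
    rw [sv_smulMod_comp, mul_smul, ha i]
    rfl
  have hI' : (PicF2.zeroScheme L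
      (f + ∑ i, Formal.smulMod k (Coh.structureModule Y) (c i) ≫ s i)).ideal ⟨W, hW⟩ =
        Ideal.span {member k a b c} := by
    rw [zeroScheme_ideal L hL _ ⟨W, hW⟩]
    exact zeroIdealOn_eq_span _ hℓ _ hlin
  rw [hI']
  exact RingHom.formallySmooth_algebraMap.mpr (hq c hc)

open Groth.Agent.Lib.helper16.FLF in
/-- **Bertini's theorem via jets** (any characteristic). -/
theorem bertini_jets [QuasiCompact (Y ↘ Spec (CommRingCat.of k))]
    (hL : FlatMod.IsFinLocFreeOfRank 1 L) (m : ℕ)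
    (s : Fin m → (Coh.structureModule Y ⟶ L)) (f : Coh.structureModule Y ⟶ L)
    (hjet : ∀ p : Y, IsClosed ({p} : Set Y) → ∀ l : ↥(L.presheaf.stalk p), ∃ c : Fin m → k,
      (L.presheaf.germ ⊤ p trivial)
          (PicF2.secVal L (∑ i : Fin m, Formal.smulMod k (Coh.structureModule Y) (c i) ≫ s i) ⊤) - l ∈
        (IsLocalRing.maximalIdeal ↥(Y.presheaf.stalk p)) ^ 2 •
          (⊤ : Submodule ↥(Y.presheaf.stalk p) ↥(L.presheaf.stalk p))) :
    ∃ q : MvPolynomial (Fin m) k, q ≠ 0 ∧ ∀ c : Fin m → k, MvPolynomial.eval c q ≠ 0 →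
      Smooth ((PicF2.zeroScheme L (f + ∑ i : Fin m,
        Formal.smulMod k (Coh.structureModule Y) (c i) ≫ s i)).subschemeι ≫
        (Y ↘ Spec (CommRingCat.of k))) := by
  have hInv : PicF.IsInvertible L := (isInvertible_iff_isFinLocFreeOfRank_one L).2 hL
  have hLF : FlatMod.IsFinLocFree L := isFinLocFree_of_isFinLocFreeOfRank hL
  have hch : ∀ x : Y, ∃ (W : Y.Opens) (ℓ : Γ(L, W)), IsAffineOpen W ∧ x ∈ W ∧ W ≤ ⊤ ∧ IsGen L W ℓ :=
    fun x => exists_isGen hInv x ⊤ trivial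
  choose W ℓ hW hxW _ hℓ using hch
  have hp : ∀ x : Y, ∃ q : MvPolynomial (Fin m) k, q ≠ 0 ∧ ∀ c : Fin m → k,
      eval c q ≠ 0 → ((Ideal.Quotient.mk ((PicF2.zeroScheme L
        (f + ∑ i, Formal.smulMod k (Coh.structureModule Y) (c i) ≫ s i)).ideal ⟨W x, hW x⟩)).comp
          (sec k Y (W x))).FormallySmooth :=
    fun x => chartJet k L hLF s f hjet (hW x) (ℓ x) (hℓ x)
  choose p hp0 hp using hp
  haveI : CompactSpace Y :=
    QuasiCompact.compactSpace_of_compactSpace (Y ↘ Spec (CommRingCat.of k))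
  obtain ⟨t, ht⟩ := CompactSpace.elim_nhds_subcover (fun x => ((W x : Y.Opens) : Set Y))
    (fun x => (W x).2.mem_nhds (hxW x))
  refine ⟨∏ x ∈ t, p x, Finset.prod_ne_zero_iff.mpr fun x _ => hp0 x, fun c hc => ?_⟩
  rw [map_prod] at hc
  have hc' : ∀ x ∈ t, eval c (p x) ≠ 0 := fun x hx => (Finset.prod_ne_zero_iff.mp hc) x hx
  haveI : LocallyOfFiniteType (Y ↘ Spec (CommRingCat.of k)) := inferInstance
  apply smooth_of_charts k
  intro y
  have hy : y ∈ ⋃ x ∈ t, ((W x : Y.Opens) : Set Y) := by rw [ht]; trivial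
  simp only [Set.mem_iUnion] at hy
  obtain ⟨x, hxt, hyx⟩ := hy
  exact ⟨W x, hW x, hyx, hp x c (hc' x hxt)⟩


end scheme

end Groth.Agent.LibBertiniJet29
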