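import Mathlib
import Groth.Prelude
import Groth.Agent.LibBertiniJet29e
import Groth.Agent.LibBertiniHyp29a
import Groth.Agent.Lib.Helper20.JacHyp2
import Groth.Agent.Lib.Helper15.Regular
import Groth.Agent.Lib.Helper17.RegSmoothSch
import Groth.Agent.Lib.Helper19.ProjSpaceProper

/-!
# Bertini for hyperplane sections of a regular closed subscheme of `P^n_k` (helper29)

* `germ_dh` : the germ of `h / X_j` via `Proj.stalkIso'` is the germ of the chart section `dh h j`;
* `smooth_of_regular` : a closed subscheme of `P^n_k` (k alg. closed) with regular local rings is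
  smooth over `k`;
* `chart_hyp` : on the chart `ι⁻¹ D₊(X_j)`, there is `q ≠ 0` such that for every linear form `h`
  with `q(coeffs h) ≠ 0`, the dehomogenised `h / X_j` lies in no `𝔪²`;
* `exists_linear`, `regular_quot`, `bertini_hyp` (the statement of S10921).
-/

set_option autoImplicit false
set_option linter.style.haveILetI false
set_option backward.isDefEq.respectTransparency false
set_option backward.isDefEq.respectTransparency.types false
universe u

open CategoryTheory AlgebraicGeometry MvPolynomial Opposite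
open Groth.Agent.Lib.helper3.FTField
open Groth.Agent.Lib.helper20.JacHyp Groth.Agent.Lib.helper20.HypIdeal
  Groth.Agent.Lib.Helper18.ProjChart
open Groth.Agent.LibBertiniJet29

namespace Groth.Agent.LibBertiniHyp29

variable (k : Type u) [Field k] (n : ℕ)

theorem germ_dh (h : ↥(CohB1.polyGrading n k 1)) (j : Fin (n + 1))
    (y : Proj (CohB1.polyGrading n k))
    (hj : (X j : MvPolynomial (Fin (n + 1)) k) ∉ y.asHomogeneousIdeal) :
    (Proj.stalkIso' (CohB1.polyGrading n k) y).symm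
      (HomogeneousLocalization.mk ⟨1, h, ⟨X j, isHomogeneous_X k j⟩, hj⟩) =
    (Proj (CohB1.polyGrading n k)).presheaf.germ (ch n k j) y
      ((ProjectiveSpectrum.mem_basicOpen (CohB1.polyGrading n k) _ y).mpr hj) (dh h j) := by
  rw [RingEquiv.symm_apply_eq]
  erw [Proj.stalkIso'_germ]
  apply HomogeneousLocalization.val_injective
  rw [HomogeneousLocalization.val_mk]
  erw [dh_val]
  simp [pow_one]

section B1

variable [IsAlgClosed k] {Z : Scheme.{u}} (ι : Z ⟶ CohB1.ProjSpace n k) [IsClosedImmersion ι]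

omit [IsAlgClosed k] in
theorem lft_comp : LocallyOfFiniteType (ι ≫ CohB1.ProjSpace.toSpec n k) := by
  haveI : IsProper (CohB1.ProjSpace.toSpec n k) := inferInstance
  infer_instance

theorem smooth_of_regular (hreg : ∀ x : Z, IsRegularLocalRing (Z.presheaf.stalk x)) :
    Smooth (ι ≫ CohB1.ProjSpace.toSpec n k) := by
  haveI := lft_comp k n ι
  haveI : LocallyOfFinitePresentation (ι ≫ CohB1.ProjSpace.toSpec n k) :=
    Groth.Agent.LibBertini29.lfp_of_lft_noeth _
  rw [← Scheme.Hom.smoothLocus_eq_top_iff, eq_top_iff]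
  intro x _
  exact (Groth.Agent.Lib.helper17.RegSmooth.mem_smoothLocus_iff_isRegularLocalRing_of_perfectField
    (ι ≫ CohB1.ProjSpace.toSpec n k) x).mpr (hreg x)

/-- the coefficient vector of a linear form -/
noncomputable def cf (h : ↥(CohB1.polyGrading n k 1)) : Fin (n + 1) → k :=
  fun i => coeff (Finsupp.single i 1) (h : MvPolynomial (Fin (n + 1)) k)

theorem chart_hyp (hreg : ∀ x : Z, IsRegularLocalRing (Z.presheaf.stalk x)) (j : Fin (n + 1)) :
    ∃ q : MvPolynomial (Fin (n + 1)) k, q ≠ 0 ∧ ∀ h : ↥(CohB1.polyGrading n k 1),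
      eval (cf k n h) q ≠ 0 →
      ∀ 𝔪 : Ideal Γ(Z, ι ⁻¹ᵁ ch n k j), 𝔪 ≠ ⊤ → (ι.app (ch n k j)).hom (dh h j) ∉ 𝔪 ^ 2 := by
  letI : (CohB1.ProjSpace n k).Over (Spec (CommRingCat.of k)) := ⟨CohB1.ProjSpace.toSpec n k⟩
  letI : Z.Over (Spec (CommRingCat.of k)) := ⟨ι ≫ CohB1.ProjSpace.toSpec n k⟩
  haveI : LocallyOfFiniteType (Z ↘ Spec (CommRingCat.of k)) := lft_comp k n ι
  haveI : Smooth (Z ↘ Spec (CommRingCat.of k)) := smooth_of_regular k n ι hreg
  have hU : IsAffineOpen (ι ⁻¹ᵁ ch n k j) := (isAffineOpen_ch j).preimage ι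
  letI := (sec k Z (ι ⁻¹ᵁ ch n k j)).toAlgebra
  haveI : Algebra.Smooth k Γ(Z, ι ⁻¹ᵁ ch n k j) :=
    RingHom.smooth_algebraMap.mp (Groth.Agent.LibSmoothTower29.sec_smooth k Z hU)
  haveI : Algebra.FiniteType k Γ(Z, ι ⁻¹ᵁ ch n k j) := sec_finiteType k Z hU
  have hφ : Function.Surjective (ι.app (ch n k j)).hom :=
    ι.app_surjective _ (isAffineOpen_ch j)
  let a : Fin (n + 1) → Γ(Z, ι ⁻¹ᵁ ch n k j) :=
    fun i => (ι.app (ch n k j)).hom (dh ⟨X i, LefPen.X_mem n k i⟩ j)
  have hcomm : ∀ c : k, (ι.app (ch n k j)).hom (strMap j c) =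
      algebraMap k Γ(Z, ι ⁻¹ᵁ ch n k j) c := by
    intro c
    have h1 := Groth.Agent.LibSmoothTower29.appLE_comp_sec k ι rfl (V := ch n k j)
      (U := ι ⁻¹ᵁ ch n k j) le_rfl
    have h2 := congrArg (fun f => f c) h1
    simp only [RingHom.comp_apply] at h2
    rw [Scheme.Hom.appLE_eq_app] at h2
    exact h2
  let Ψ : MvPolynomial (Idx n j) k →ₐ[k] Γ(Z, ι ⁻¹ᵁ ch n k j) :=
    { toRingHom := (ι.app (ch n k j)).hom.comp (chartRing j).toRingHom
      commutes' := fun c => by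
        show (ι.app (ch n k j)).hom (chartRing j (C c)) = _
        rw [chartRing_C]
        exact hcomm c }
  have hΨ : Function.Surjective Ψ := hφ.comp (chartRing j).surjective
  have haj : a j = 1 := by
    show (ι.app (ch n k j)).hom (dh ⟨X j, LefPen.X_mem n k j⟩ j) = 1
    rw [← chartRing_psi j ⟨X j, LefPen.X_mem n k j⟩, ψ_X_self, map_one, map_one]
  have hY : ∀ s : Idx n j, ∃ i, a i = Ψ (X s) := fun s => ⟨s.1, by
    show (ι.app (ch n k j)).hom (dh ⟨X s.1, LefPen.X_mem n k s.1⟩ j) =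
      (ι.app (ch n k j)).hom (chartRing j (X s))
    rw [← chartRing_psi j ⟨X s.1, LefPen.X_mem n k s.1⟩, ψ_X_ne]⟩
  have hjet := fun 𝔪 h𝔪 l => jets_of_surjective k a Ψ hΨ j haj hY 𝔪 h𝔪 l
  obtain ⟨q, hq0, hq⟩ := exists_ne_zero_map_mem_jetIdeal k _ a 0 (span_jets_eq_top k _ a hjet)
  refine ⟨q, hq0, fun h hc 𝔪 h𝔪 => ?_⟩
  have hmem : member k a 0 (cf k n h) = (ι.app (ch n k j)).hom (dh h j) := by
    have hh : (h : MvPolynomial (Fin (n + 1)) k) = ∑ i, C (cf k n h i) * X i :=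
      eq_sum_of_isHomogeneous_one h.1 ((mem_homogeneousSubmodule 1 _).mp h.2)
    rw [← chartRing_psi j h, hh, map_sum, map_sum, map_sum, member, zero_add]
    refine Finset.sum_congr rfl fun i _ => ?_
    rw [map_mul, map_mul, map_mul, ψ_C, chartRing_C, hcomm,
      chartRing_psi j ⟨X i, LefPen.X_mem n k i⟩]
  rw [← hmem]
  exact notMem_sq_of_map_mem_jetIdeal k a 0 q hq _ hc 𝔪 h𝔪

omit [IsAlgClosed k] [IsClosedImmersion ι] in
theorem exists_linear [Nonempty Z] :
    ∃ g₀ : MvPolynomial (Fin (n + 1)) k, g₀ ≠ 0 ∧ ∀ h : ↥(CohB1.polyGrading n k 1),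
      eval (cf k n h) g₀ ≠ 0 →
        ∃ x : Z, (h : MvPolynomial (Fin (n + 1)) k) ∉ (ι.base x).asHomogeneousIdeal := by
  obtain ⟨x₀⟩ := ‹Nonempty Z›
  -- a chart containing the point
  obtain ⟨i₀, hi₀⟩ : ∃ i₀ : Fin (n + 1),
      (X i₀ : MvPolynomial (Fin (n + 1)) k) ∉ (ι.base x₀).asHomogeneousIdeal := by
    have h1 : ι.base x₀ ∈ (⨆ i : Fin (n + 1), (chA n k i).1 : (Proj (CohB1.polyGrading n k)).Opens) := by
      rw [iSup_ch]; trivial
    rw [TopologicalSpace.Opens.mem_iSup] at h1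
    obtain ⟨i, hi⟩ := h1
    exact ⟨i, (ProjectiveSpectrum.mem_basicOpen (CohB1.polyGrading n k) _ _).mp hi⟩
  let L : (Fin (n + 1) → k) →ₗ[k] MvPolynomial (Fin (n + 1)) k :=
    ∑ i, (LinearMap.proj i : (Fin (n + 1) → k) →ₗ[k] k).smulRight
      (X i : MvPolynomial (Fin (n + 1)) k)
  have hL : ∀ c, L c = ∑ i, C (c i) * X i := by
    intro c
    simp only [L, LinearMap.sum_apply, LinearMap.smulRight_apply, LinearMap.proj_apply,
      MvPolynomial.smul_eq_C_mul]
  let V : Submodule k (Fin (n + 1) → k) :=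
    ((ι.base x₀).asHomogeneousIdeal.toIdeal.restrictScalars k).comap L
  have hV : V < ⊤ := by
    rw [lt_top_iff_ne_top]
    intro hV
    have h1 : (Pi.single i₀ 1 : Fin (n + 1) → k) ∈ V := by rw [hV]; trivial
    have h2 : L (Pi.single i₀ 1) = X i₀ := by
      rw [hL, Finset.sum_eq_single i₀]
      · simp
      · intro b _ hb
        simp [hb]
      · intro h; exact absurd (Finset.mem_univ _) h
    have h3 : L (Pi.single i₀ 1) ∈ (ι.base x₀).asHomogeneousIdeal.toIdeal := h1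
    rw [h2] at h3
    exact hi₀ h3
  obtain ⟨f, hf0, hfV⟩ := Submodule.exists_le_ker_of_lt_top V hV
  let g₀ : MvPolynomial (Fin (n + 1)) k :=
    ∑ i, C (f fun j => if i = j then 1 else 0) * X i
  have heval : ∀ c, eval c g₀ = f c := by
    intro c
    rw [LinearMap.pi_apply_eq_sum_univ f c]
    simp only [g₀, map_sum, map_mul, eval_C, eval_X, smul_eq_mul]
    exact Finset.sum_congr rfl fun i _ => mul_comm _ _
  refine ⟨g₀, ?_, fun h hh => ⟨x₀, fun hmem => ?_⟩⟩
  · intro h0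
    refine hf0 (LinearMap.ext fun c => ?_)
    rw [← heval, h0]
    simp
  · rw [heval] at hh
    apply hh
    have : cf k n h ∈ V := by
      show L (cf k n h) ∈ (ι.base x₀).asHomogeneousIdeal.toIdeal
      rw [hL]
      unfold cf
      rw [← eq_sum_of_isHomogeneous_one h.1 ((mem_homogeneousSubmodule 1 _).mp h.2)]
      exact hmem
    exact hfV this

omit [IsAlgClosed k] in
theorem regular_quot (hreg : ∀ x : Z, IsRegularLocalRing (Z.presheaf.stalk x))
    (h : ↥(CohB1.polyGrading n k 1)) (j : Fin (n + 1))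
    (hnot : ∀ 𝔪 : Ideal Γ(Z, ι ⁻¹ᵁ ch n k j), 𝔪 ≠ ⊤ →
      (ι.app (ch n k j)).hom (dh h j) ∉ 𝔪 ^ 2)
    (x : Z) (hx : IsClosed ({x} : Set Z))
    (hhx : (h : MvPolynomial (Fin (n + 1)) k) ∈ (ι.base x).asHomogeneousIdeal)
    (hj : (X j : MvPolynomial (Fin (n + 1)) k) ∉ (ι.base x).asHomogeneousIdeal) :
    IsRegularLocalRing (Z.presheaf.stalk x ⧸ Ideal.span
      {(ι.stalkMap x).hom ((Proj.stalkIso' (CohB1.polyGrading n k) (ι.base x)).symm
        (HomogeneousLocalization.mk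
          ⟨1, h, ⟨X j, isHomogeneous_X k j⟩, hj⟩))}) := by
  have hxU : x ∈ ι ⁻¹ᵁ ch n k j :=
    (ProjectiveSpectrum.mem_basicOpen (CohB1.polyGrading n k) _ _).mpr hj
  have hU : IsAffineOpen (ι ⁻¹ᵁ ch n k j) := (isAffineOpen_ch j).preimage ι
  haveI := hreg x
  have hE1 : (ι.stalkMap x).hom ((Proj.stalkIso' (CohB1.polyGrading n k) (ι.base x)).symm
        (HomogeneousLocalization.mk
          ⟨1, h, ⟨X j, isHomogeneous_X k j⟩, hj⟩)) =
      Z.presheaf.germ (ι ⁻¹ᵁ ch n k j) x hxU ((ι.app (ch n k j)).hom (dh h j)) := by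
    rw [germ_dh]
    exact Scheme.Hom.germ_stalkMap_apply ι (ch n k j) x hxU (dh h j)
  have hEm : (ι.stalkMap x).hom ((Proj.stalkIso' (CohB1.polyGrading n k) (ι.base x)).symm
        (HomogeneousLocalization.mk
          ⟨1, h, ⟨X j, isHomogeneous_X k j⟩, hj⟩)) ∈
      IsLocalRing.maximalIdeal (Z.presheaf.stalk x) := by
    rw [IsLocalRing.mem_maximalIdeal, mem_nonunits_iff]
    intro hu
    have h1 := (isUnit_map_iff (ι.stalkMap x).hom _).mp hu
    have h2 : IsUnit (HomogeneousLocalization.mk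
        (⟨1, h, ⟨X j, isHomogeneous_X k j⟩, hj⟩ :
          HomogeneousLocalization.NumDenSameDeg (CohB1.polyGrading n k)
            (ι.base x).asHomogeneousIdeal.toIdeal.primeCompl)) := by
      exact (isUnit_map_iff (Proj.stalkIso' (CohB1.polyGrading n k) (ι.base x)).symm _).mp h1
    rw [← HomogeneousLocalization.isUnit_iff_isUnit_val, HomogeneousLocalization.val_mk,
      Localization.mk_eq_mk', IsLocalization.AtPrime.isUnit_mk'_iff] at h2
    exact h2 hhx
  have hE2 : (ι.stalkMap x).hom ((Proj.stalkIso' (CohB1.polyGrading n k) (ι.base x)).symm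
        (HomogeneousLocalization.mk
          ⟨1, h, ⟨X j, isHomogeneous_X k j⟩, hj⟩)) ∉
      IsLocalRing.maximalIdeal (Z.presheaf.stalk x) ^ 2 := by
    intro hmem
    letI := TopCat.Presheaf.algebra_section_stalk Z.presheaf (⟨x, hxU⟩ : ↥(ι ⁻¹ᵁ ch n k j))
    haveI hmax := hU.primeIdealOf_isMaximal_of_isClosed ⟨x, hxU⟩ hx
    haveI hloc := hU.isLocalization_stalk ⟨x, hxU⟩
    rw [hE1, ← IsLocalization.AtPrime.map_eq_maximalIdeal (hU.primeIdealOf ⟨x, hxU⟩).asIdeal
      (Z.presheaf.stalk x)] at hmem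
    exact hnot _ hmax.ne_top (mem_sq_of_algebraMap_mem _ _ hmem)
  obtain ⟨hR, -⟩ := Groth.Agent.Lib.helper15.isRegularLocalRing_quotient_singleton _ hEm hE2
  exact hR

/-- **Bertini for hyperplane sections** (regularity at closed points). -/
theorem bertini_hyp [IsIntegral Z] (hreg : ∀ x : Z, IsRegularLocalRing (Z.presheaf.stalk x)) :
    ∃ g : MvPolynomial (Fin (n + 1)) k, g ≠ 0 ∧
      ∀ h : ↥(CohB1.polyGrading n k 1),
        eval (fun i => coeff (Finsupp.single i 1) (h : MvPolynomial (Fin (n + 1)) k)) g ≠ 0 →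
          (∃ x : Z, (h : MvPolynomial (Fin (n + 1)) k) ∉ (ι.base x).asHomogeneousIdeal) ∧
          ∀ x : Z, IsClosed ({x} : Set Z) →
            (h : MvPolynomial (Fin (n + 1)) k) ∈ (ι.base x).asHomogeneousIdeal →
            ∀ (j : Fin (n + 1))
              (hj : (X j : MvPolynomial (Fin (n + 1)) k) ∉ (ι.base x).asHomogeneousIdeal),
              IsRegularLocalRing (Z.presheaf.stalk x ⧸ Ideal.span
                {(ι.stalkMap x).hom ((Proj.stalkIso' (CohB1.polyGrading n k) (ι.base x)).symm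
                  (HomogeneousLocalization.mk
                    ⟨1, h, ⟨X j, isHomogeneous_X k j⟩, hj⟩))}) := by
  choose q hq0 hq using fun j => chart_hyp k n ι hreg j
  obtain ⟨g₀, hg₀, hg₀'⟩ := exists_linear k n ι
  refine ⟨g₀ * ∏ j, q j, mul_ne_zero hg₀ (Finset.prod_ne_zero_iff.mpr fun j _ => hq0 j),
    fun h hh => ?_⟩
  change eval (cf k n h) (g₀ * ∏ j, q j) ≠ 0 at hh
  rw [map_mul, map_prod] at hh
  have h1 := left_ne_zero_of_mul hh
  have h2 : ∀ j, eval (cf k n h) (q j) ≠ 0 := fun j =>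
    Finset.prod_ne_zero_iff.mp (right_ne_zero_of_mul hh) j (Finset.mem_univ j)
  exact ⟨hg₀' h h1, fun x hx hhx j hj =>
    regular_quot k n ι hreg h j (hq j h (h2 j)) x hx hhx hj⟩

end B1

end Groth.Agent.LibBertiniHyp29
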