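import Mathlib
import Groth.Agent.LibBertiniJet29d
import Groth.Agent.LibBertiniHyp29a

/-!
# Ring-level Bertini over an arbitrary field, by base change to an algebraically closed extension
(helper29)

`exists_poly_smooth_of_generators`: `R` a smooth `k`-algebra generated by `a_i` (`a_j = 1`), `K` an
algebraically closed extension of `k`. Then there is a nonzero polynomial `q` over `K` such that
for every `c ∈ k^m` with `q(c) ≠ 0` the quotient `R / (∑ c_i a_i)` is smooth over `k`.
-/

set_option autoImplicit false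
universe u

open MvPolynomial TensorProduct

namespace Groth.Agent.LibBertiniJet29

section inf

variable (k : Type u) [Field k] (K : Type u) [Field K] [Algebra k K] [IsAlgClosed K]
  {R : Type u} [CommRing R] [Algebra k R] [Algebra.Smooth k R]
  {m : ℕ} (a : Fin m → R)

theorem exists_poly_smooth_of_generators {σ : Type*} (Ψ : MvPolynomial σ k →ₐ[k] R)
    (hΨ : Function.Surjective Ψ) (j : Fin m) (hj : a j = 1)
    (hY : ∀ s : σ, ∃ i, a i = Ψ (X s)) :
    ∃ q : MvPolynomial (Fin m) K, q ≠ 0 ∧ ∀ c : Fin m → k,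
      eval (fun i => algebraMap k K (c i)) q ≠ 0 →
      Algebra.Smooth k (R ⧸ Ideal.span {∑ i, algebraMap k R (c i) * a i}) := by
  -- the base-changed algebra
  let ā : Fin m → K ⊗[k] R := fun i => (1 : K) ⊗ₜ[k] a i
  let Ψ' : MvPolynomial σ K →ₐ[K] K ⊗[k] R :=
    (Algebra.TensorProduct.map (AlgHom.id K K) Ψ).comp
      (MvPolynomial.algebraTensorAlgEquiv k K).symm.toAlgHom
  have hΨ' : Function.Surjective Ψ' := by
    have h1 : Function.Surjective (Algebra.TensorProduct.map (AlgHom.id K K) Ψ) := by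
      intro z
      induction z using TensorProduct.induction_on with
      | zero => exact ⟨0, map_zero _⟩
      | tmul c r =>
        obtain ⟨p, rfl⟩ := hΨ r
        exact ⟨c ⊗ₜ p, by simp⟩
      | add x y hx hy =>
        obtain ⟨x', rfl⟩ := hx
        obtain ⟨y', rfl⟩ := hy
        exact ⟨x' + y', map_add _ _ _⟩
    exact h1.comp (MvPolynomial.algebraTensorAlgEquiv k K).symm.surjective
  have hΨ'X : ∀ s, Ψ' (X s) = (1 : K) ⊗ₜ[k] Ψ (X s) := by
    intro s
    show (Algebra.TensorProduct.map (AlgHom.id K K) Ψ)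
      ((MvPolynomial.algebraTensorAlgEquiv k K).symm (X s)) = _
    rw [MvPolynomial.algebraTensorAlgEquiv_symm_X]
    simp
  have hj' : ā j = 1 := by
    show (1 : K) ⊗ₜ[k] a j = 1
    rw [hj]; rfl
  have hY' : ∀ s : σ, ∃ i, ā i = Ψ' (X s) := fun s => by
    obtain ⟨i, hi⟩ := hY s
    exact ⟨i, by rw [hΨ'X, ← hi]⟩
  haveI : Algebra.FiniteType K (K ⊗[k] R) := inferInstance
  have hjet := fun 𝔪 h𝔪 l => jets_of_surjective K ā Ψ' hΨ' j hj' hY' 𝔪 h𝔪 l
  obtain ⟨q, hq0, hq⟩ := exists_poly_formallySmooth_of_jets K (K ⊗[k] R) ā 0 hjet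
  refine ⟨q, hq0, fun c hc => ?_⟩
  have hsm := hq _ hc
  set mc : R := ∑ i, algebraMap k R (c i) * a i with hmc
  have hmem : member K ā 0 (fun i => algebraMap k K (c i)) =
      (Algebra.TensorProduct.includeRight : R →ₐ[k] K ⊗[k] R) mc := by
    rw [member, zero_add, hmc, map_sum]
    refine Finset.sum_congr rfl fun i _ => ?_
    show algebraMap K (K ⊗[k] R) (algebraMap k K (c i)) * ((1 : K) ⊗ₜ[k] a i) =
      (1 : K) ⊗ₜ[k] (algebraMap k R (c i) * a i)
    have h1 : algebraMap k K (c i) = c i • (1 : K) := Algebra.algebraMap_eq_smul_one _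
    have h2 : algebraMap k R (c i) * a i = c i • a i := (Algebra.smul_def _ _).symm
    rw [Algebra.TensorProduct.algebraMap_apply, Algebra.TensorProduct.tmul_mul_tmul, mul_one,
      one_mul, h2]
    erw [h1]
    rw [TensorProduct.smul_tmul]
  have hI : (Ideal.span {mc}).map
      (Algebra.TensorProduct.includeRight : R →ₐ[k] K ⊗[k] R) =
      Ideal.span {member K ā 0 (fun i => algebraMap k K (c i))} := by
    rw [Ideal.map_span, Set.image_singleton, hmem]
  let e := Algebra.TensorProduct.tensorQuotientEquiv (R := k) K R K (Ideal.span {mc})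
  rw [← hI] at hsm
  haveI : Algebra.FormallySmooth K (K ⊗[k] (R ⧸ Ideal.span {mc})) :=
    Algebra.FormallySmooth.of_equiv e.symm
  haveI : Algebra.FinitePresentation k (R ⧸ Ideal.span {mc}) :=
    Algebra.FinitePresentation.quotient (Submodule.fg_span_singleton mc)
  haveI : Algebra.Smooth K (K ⊗[k] (R ⧸ Ideal.span {mc})) := ⟨inferInstance, inferInstance⟩
  exact Algebra.Smooth.of_smooth_tensorProduct_of_faithfullyFlat K

end inf

end Groth.Agent.LibBertiniJet29
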