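import Mathlib
import Groth.Prelude
import Groth.Agent.LibBertiniHyp29b
import Groth.Agent.LibBertiniInf29a
import Groth.Agent.Lib.Helper12.Hyperplane3
import Groth.Agent.Lib.Helper6.IdealSheaf

/-!
# Bertini over an infinite field: smooth hyperplane sections defined over `k` (helper29)

* `fr_eq_dh`, `zeroScheme_ideal_ch` : the zero scheme of the section of `O(1)` given by a linear
  form `h` has ideal `(h / X_j)` on the chart `D₊(X_j)`;
* `notMem_support` : `h ∉ 𝔭_y` ⇒ `y ∉ Z(h)`;
* `chart_inf` : chartwise Bertini with the bad-locus polynomial over an algebraically closed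
  extension `K` of `k`;
* `exists_eval_ne_zero` : a nonzero polynomial over `K ⊇ k`, `k` infinite, has a non-root in `k^m`;
* `bertini_infinite` (the statement of S15554).
-/

set_option autoImplicit false
set_option linter.style.haveILetI false
set_option backward.isDefEq.respectTransparency false
set_option backward.isDefEq.respectTransparency.types false
universe u

open CategoryTheory CategoryTheory.Limits AlgebraicGeometry MvPolynomial Opposite
open Groth.Agent.Lib.helper3.FTField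
open Groth.Agent.Lib.helper20.JacHyp Groth.Agent.Lib.helper20.HypIdeal
  Groth.Agent.Lib.Helper18.ProjChart
open Groth.Agent.LibBertiniJet29
open Groth.Agent.Lib.helper28.TwistSecHom Groth.Agent.Lib.helper12.ProjClosed

namespace Groth.Agent.LibBertiniHyp29

variable (k : Type u) [Field k] (n : ℕ)

theorem fr_eq_dh (h : ↥(CohB1.polyGrading n k 1)) (j : Fin (n + 1)) :
    fr (CohB1.polyGrading n k) (Proj.basicOpen (CohB1.polyGrading n k)
      (X j : MvPolynomial (Fin (n + 1)) k)) h.2 (LefPen.X_mem n k j)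
      (notMem_of_mem_basicOpen (CohB1.polyGrading n k)) = dh h j := by
  refine sec_ext (CohB1.polyGrading n k) _ _ fun x => ?_
  rw [fr_val]
  erw [dh_val]
  simp [pow_one]

theorem isFinLocFree_twist_one :
    FlatMod.IsFinLocFree (Twist.twist (CohB1.polyGrading n k) ((1 : ℕ) : ℤ)) :=
  Groth.Agent.Lib.helper16.FLF.isFinLocFree_of_isInvertible
    (Groth.Agent.Lib.helper28.TwistAll.isInvertible_twist (CohB1.polyGrading n k)
      (Groth.Agent.Lib.helper28.TwistPn.hcov n k) _)

theorem zeroScheme_ideal_ch (h : ↥(CohB1.polyGrading n k 1)) (j : Fin (n + 1)) :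
    (PicF2.zeroScheme (Twist.twist (CohB1.polyGrading n k) ((1 : ℕ) : ℤ))
      (secHom (CohB1.polyGrading n k) h)).ideal ⟨ch n k j, isAffineOpen_ch j⟩ =
      Ideal.span {dh h j} := by
  rw [Groth.Agent.Lib.Helper18.ZeroSchemeIdeal.zeroScheme_ideal _ (isFinLocFree_twist_one k n)]
  have h1 := Groth.Agent.Lib.Helper12.Hyperplane.zeroIdealOn_secHom (CohB1.polyGrading n k)
    (LefPen.X_mem n k j) h.2
  rw [fr_eq_dh] at h1
  exact h1

theorem notMem_support (h : ↥(CohB1.polyGrading n k 1))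
    (y : Proj (CohB1.polyGrading n k))
    (hy : (h : MvPolynomial (Fin (n + 1)) k) ∉ y.asHomogeneousIdeal) :
    y ∉ (PicF2.zeroScheme (Twist.twist (CohB1.polyGrading n k) ((1 : ℕ) : ℤ))
      (secHom (CohB1.polyGrading n k) h)).support := by
  obtain ⟨j, hj⟩ := Groth.Agent.Lib.helper28.TwistPn.exists_X_notMem n k y
  have hyU : y ∈ ch n k j := (ProjectiveSpectrum.mem_basicOpen (CohB1.polyGrading n k) _ y).mpr hj
  intro hmem
  rw [Scheme.IdealSheafData.mem_support_iff_of_mem (U := ⟨ch n k j, isAffineOpen_ch j⟩) hyU,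
    zeroScheme_ideal_ch, Scheme.mem_zeroLocus_iff] at hmem
  apply hmem (dh h j) (Ideal.subset_span rfl)
  rw [Scheme.mem_basicOpen _ _ _ hyU, ← germ_dh k n h j y hj]
  apply IsUnit.map
  rw [← HomogeneousLocalization.isUnit_iff_isUnit_val, HomogeneousLocalization.val_mk,
    Localization.mk_eq_mk', IsLocalization.AtPrime.isUnit_mk'_iff]
  exact hy

section B2

variable (K : Type u) [Field K] [Algebra k K] [IsAlgClosed K]
  {Z : Scheme.{u}} (ι : Z ⟶ CohB1.ProjSpace n k) [IsClosedImmersion ι]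
  [Smooth (ι ≫ CohB1.ProjSpace.toSpec n k)]

theorem chart_inf (j : Fin (n + 1)) :
    letI : Z.Over (Spec (CommRingCat.of k)) := ⟨ι ≫ CohB1.ProjSpace.toSpec n k⟩
    ∃ q : MvPolynomial (Fin (n + 1)) K, q ≠ 0 ∧ ∀ h : ↥(CohB1.polyGrading n k 1),
      eval (fun i => algebraMap k K (cf k n h i)) q ≠ 0 →
      ((Ideal.Quotient.mk (Ideal.span {(ι.app (ch n k j)).hom (dh h j)})).comp
        (sec k Z (ι ⁻¹ᵁ ch n k j))).FormallySmooth := by
  letI : Z.Over (Spec (CommRingCat.of k)) := ⟨ι ≫ CohB1.ProjSpace.toSpec n k⟩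
  haveI : LocallyOfFiniteType (Z ↘ Spec (CommRingCat.of k)) := lft_comp k n ι
  haveI : Smooth (Z ↘ Spec (CommRingCat.of k)) := ‹Smooth (ι ≫ CohB1.ProjSpace.toSpec n k)›
  have hU : IsAffineOpen (ι ⁻¹ᵁ ch n k j) := (isAffineOpen_ch j).preimage ι
  letI := (sec k Z (ι ⁻¹ᵁ ch n k j)).toAlgebra
  haveI : Algebra.Smooth k Γ(Z, ι ⁻¹ᵁ ch n k j) :=
    RingHom.smooth_algebraMap.mp (Groth.Agent.LibSmoothTower29.sec_smooth k Z hU)
  have hφ : Function.Surjective (ι.app (ch n k j)).hom :=
    ι.app_surjective _ (isAffineOpen_ch j)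
  let a : Fin (n + 1) → Γ(Z, ι ⁻¹ᵁ ch n k j) :=
    fun i => (ι.app (ch n k j)).hom (dh ⟨X i, LefPen.X_mem n k i⟩ j)
  have hcomm : ∀ c : k, (ι.app (ch n k j)).hom (strMap j c) =
      algebraMap k Γ(Z, ι ⁻¹ᵁ ch n k j) c := by
    intro c
    have h1 := Groth.Agent.LibSmoothTower29.appLE_comp_sec k ι rfl (V := ch n k j)
      (U := ι ⁻¹ᵁ ch n k j) le_rfl
    have h2 := congrArg (fun f => f c) h1
    simp only [RingHom.comp_apply] at h2
    rw [Scheme.Hom.appLE_eq_app] at h2
    exact h2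
  let Ψ : MvPolynomial (Idx n j) k →ₐ[k] Γ(Z, ι ⁻¹ᵁ ch n k j) :=
    { toRingHom := (ι.app (ch n k j)).hom.comp (chartRing j).toRingHom
      commutes' := fun c => by
        show (ι.app (ch n k j)).hom (chartRing j (C c)) = _
        rw [chartRing_C]
        exact hcomm c }
  have hΨ : Function.Surjective Ψ := hφ.comp (chartRing j).surjective
  have haj : a j = 1 := by
    show (ι.app (ch n k j)).hom (dh ⟨X j, LefPen.X_mem n k j⟩ j) = 1
    rw [← chartRing_psi j ⟨X j, LefPen.X_mem n k j⟩, ψ_X_self, map_one, map_one]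
  have hY : ∀ s : Idx n j, ∃ i, a i = Ψ (X s) := fun s => ⟨s.1, by
    show (ι.app (ch n k j)).hom (dh ⟨X s.1, LefPen.X_mem n k s.1⟩ j) =
      (ι.app (ch n k j)).hom (chartRing j (X s))
    rw [← chartRing_psi j ⟨X s.1, LefPen.X_mem n k s.1⟩, ψ_X_ne]⟩
  obtain ⟨q, hq0, hq⟩ := exists_poly_smooth_of_generators k K a Ψ hΨ j haj hY
  refine ⟨q, hq0, fun h hc => ?_⟩
  have hmem : ∑ i, algebraMap k Γ(Z, ι ⁻¹ᵁ ch n k j) (cf k n h i) * a i =
      (ι.app (ch n k j)).hom (dh h j) := by
    have hh : (h : MvPolynomial (Fin (n + 1)) k) = ∑ i, C (cf k n h i) * X i :=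
      eq_sum_of_isHomogeneous_one h.1 ((mem_homogeneousSubmodule 1 _).mp h.2)
    rw [← chartRing_psi j h, hh, map_sum, map_sum, map_sum]
    refine Finset.sum_congr rfl fun i _ => ?_
    rw [map_mul, map_mul, map_mul, ψ_C, chartRing_C, hcomm,
      chartRing_psi j ⟨X i, LefPen.X_mem n k i⟩]
  have hsm := hq (cf k n h) hc
  rw [hmem] at hsm
  haveI := hsm
  exact RingHom.formallySmooth_algebraMap.mpr inferInstance

omit [IsAlgClosed K] in
theorem exists_eval_ne_zero [Infinite k] {m : ℕ} (Q : MvPolynomial (Fin m) K) (hQ : Q ≠ 0) :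
    ∃ c : Fin m → k, eval (fun i => algebraMap k K (c i)) Q ≠ 0 := by
  by_contra hcon
  push Not at hcon
  apply hQ
  refine MvPolynomial.funext_set (fun _ => Set.range (algebraMap k K))
    (fun _ => Set.infinite_range_of_injective (algebraMap k K).injective) ?_
  intro x hx
  choose c hc using fun i => hx i (Set.mem_univ i)
  have hxc : x = fun i => algebraMap k K (c i) := funext fun i => (hc i).symm
  rw [hxc, hcon c, map_zero]

end B2

section B3

variable {Z : Scheme.{u}} (ι : Z ⟶ CohB1.ProjSpace n k) [IsClosedImmersion ι]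
  [Smooth (ι ≫ CohB1.ProjSpace.toSpec n k)]

/-- **Bertini over an infinite field**: a smooth closed subscheme of `P^n_k` has a smooth
hyperplane section defined over `k`. -/
theorem bertini_infinite [Infinite k] [IsIntegral Z] :
    ∃ s : Coh.structureModule (CohB1.ProjSpace n k) ⟶ Twist.twistProjSpace n k 1,
      (∃ x : Z, ι.base x ∉ (PicF2.zeroScheme (Twist.twistProjSpace n k 1) s).support) ∧
      Smooth (pullback.fst ι (PicF2.zeroScheme (Twist.twistProjSpace n k 1) s).subschemeι ≫ ι ≫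
        CohB1.ProjSpace.toSpec n k) := by
  letI : Z.Over (Spec (CommRingCat.of k)) := ⟨ι ≫ CohB1.ProjSpace.toSpec n k⟩
  haveI : LocallyOfFiniteType (Z ↘ Spec (CommRingCat.of k)) := lft_comp k n ι
  choose q hq0 hq using fun j => chart_inf k n (AlgebraicClosure k) ι j
  obtain ⟨g₀, hg₀, hg₀'⟩ := exists_linear k n ι
  have hQ : MvPolynomial.map (algebraMap k (AlgebraicClosure k)) g₀ * ∏ j, q j ≠ 0 :=
    mul_ne_zero ((map_ne_zero_iff _ (map_injective _
      (algebraMap k (AlgebraicClosure k)).injective)).mpr hg₀)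
      (Finset.prod_ne_zero_iff.mpr fun j _ => hq0 j)
  obtain ⟨c, hc⟩ := exists_eval_ne_zero k (AlgebraicClosure k) _ hQ
  rw [map_mul, map_prod] at hc
  have hc1 := left_ne_zero_of_mul hc
  have hc2 : ∀ j, eval (fun i => algebraMap k (AlgebraicClosure k) (c i)) (q j) ≠ 0 := fun j =>
    Finset.prod_ne_zero_iff.mp (right_ne_zero_of_mul hc) j (Finset.mem_univ j)
  -- the linear form
  let h : ↥(CohB1.polyGrading n k 1) := ⟨∑ i, C (c i) * X i, by
    refine Submodule.sum_mem _ fun i _ => ?_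
    rw [mem_homogeneousSubmodule]
    have := (isHomogeneous_C (Fin (n + 1)) (c i)).mul (isHomogeneous_X k i)
    rwa [zero_add] at this⟩
  have hcf : cf k n h = c := by
    funext i
    show coeff (Finsupp.single i 1) (∑ i, C (c i) * X i) = c i
    rw [coeff_sum, Finset.sum_eq_single i]
    · simp
    · intro b _ hb
      rw [coeff_C_mul, coeff_X, if_neg, mul_zero]
      intro h'
      exact hb ((Finsupp.single_left_injective one_ne_zero) h')
    · intro h'; exact absurd (Finset.mem_univ _) h'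
  refine ⟨secHom (CohB1.polyGrading n k) h, ?_, ?_⟩
  · have h1 : eval (cf k n h) g₀ ≠ 0 := by
      rw [hcf]
      intro h0
      apply hc1
      have h2 := MvPolynomial.eval₂_comp (algebraMap k (AlgebraicClosure k)) c g₀
      rw [MvPolynomial.eval_map]
      rw [h0, map_zero] at h2
      exact h2.symm
    obtain ⟨x, hx⟩ := hg₀' h h1
    exact ⟨x, notMem_support k n h (ι.base x) hx⟩
  · set I := PicF2.zeroScheme (Twist.twistProjSpace n k 1) (secHom (CohB1.polyGrading n k) h)
      with hI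
    have hsm : Smooth ((I.comap ι).subschemeι ≫ (Z ↘ Spec (CommRingCat.of k))) := by
      refine Groth.Agent.LibBertini29.smooth_of_charts k (I.comap ι) fun x => ?_
      obtain ⟨j, hj⟩ := Groth.Agent.Lib.helper28.TwistPn.exists_X_notMem n k (ι.base x)
      have hxU : x ∈ ι ⁻¹ᵁ ch n k j :=
        (ProjectiveSpectrum.mem_basicOpen (CohB1.polyGrading n k) _ _).mpr hj
      have hU : IsAffineOpen (ι ⁻¹ᵁ ch n k j) := (isAffineOpen_ch j).preimage ι
      refine ⟨ι ⁻¹ᵁ ch n k j, hU, hxU, ?_⟩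
      have h1 := Groth.Agent.Lib.helper6.ideal_comap ι I ⟨ch n k j, isAffineOpen_ch j⟩
        ⟨ι ⁻¹ᵁ ch n k j, hU⟩ le_rfl
      have hid : (I.comap ι).ideal ⟨ι ⁻¹ᵁ ch n k j, hU⟩ =
          Ideal.span {(ι.app (ch n k j)).hom (dh h j)} := by
        rw [h1]
        erw [zeroScheme_ideal_ch k n h j]
        rw [Ideal.map_span, Set.image_singleton]
        have happ : ι.appLE (ch n k j) (ι ⁻¹ᵁ ch n k j) le_rfl = ι.app (ch n k j) :=
          Scheme.Hom.appLE_eq_app ι
        exact congrArg (fun f : Γ(CohB1.ProjSpace n k, ch n k j) ⟶ Γ(Z, ι ⁻¹ᵁ ch n k j) =>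
          Ideal.span {f.hom (dh h j)}) happ
      rw [hid]
      have := hq j h
      rw [hcf] at this
      exact this (hc2 j)
    have he : pullback.fst ι I.subschemeι ≫ ι ≫ CohB1.ProjSpace.toSpec n k =
        (I.comapIso ι).inv ≫ (I.comap ι).subschemeι ≫ (Z ↘ Spec (CommRingCat.of k)) := by
      rw [← Scheme.IdealSheafData.comapIso_inv_subschemeι I ι, Category.assoc]
      rfl
    rw [he]
    infer_instance

end B3

end Groth.Agent.LibBertiniHyp29
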