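import Mathlib
import Groth.Agent.Lib.Helper17.CINum1
import Groth.Agent.Lib.Helper24.FlatQuot

/-!
# Ideals generated by regular sequences and flat local homomorphisms (helper29)

`A → B` a flat local homomorphism of local rings.
* `mem_maximalIdeal_of_relation`: relations over `B` among a minimal generating set of an ideal
  of `A` have coefficients in `m_B`.
* `spanFinrank_le_map`: `μ(J) ≤ μ(JB)`.
* `isRegGen_of_map`, `isRegGen_map`: for regular local rings `A`, `B`: `J` is generated by a regular
  sequence iff `JB` is.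
-/

set_option autoImplicit false
set_option linter.style.haveILetI false
universe u

namespace Groth.Agent.LibFlatRegGen29

open IsLocalRing Groth.Agent.Lib.helper17.CINum

variable (A B : Type u) [CommRing A] [CommRing B] [IsLocalRing A] [IsLocalRing B] [Algebra A B]
  [IsLocalHom (algebraMap A B)] [Module.Flat A B]

theorem mem_maximalIdeal_of_relation {m : ℕ} (z : Fin m → A)
    (hmin : (Ideal.span (Set.range z)).spanFinrank = m)
    (b : Fin m → B) (hb : ∑ i, z i • b i = 0) (i : Fin m) : b i ∈ maximalIdeal B := by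
  classical
  obtain ⟨k, a, y, hxy, hrel⟩ := Module.Flat.isTrivialRelation_of_sum_smul_eq_zero
    (R := A) (M := B) (f := z) (x := b) (by convert hb)
  have ha : ∀ i j, a i j ∈ maximalIdeal A := by
    intro i₀ j
    by_contra hu
    have hunit : IsUnit (a i₀ j) := by
      rwa [mem_maximalIdeal, mem_nonunits_iff, not_not] at hu
    obtain ⟨u, hu'⟩ := hunit
    have hz : z i₀ ∈ Ideal.span (z '' {i | i ≠ i₀}) := by
      have h1 := hrel j
      rw [← Finset.add_sum_erase _ _ (Finset.mem_univ i₀)] at h1
      have h2 : z i₀ = -(∑ i ∈ Finset.univ.erase i₀, z i * a i j) * ↑u⁻¹ := by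
        have h3 : z i₀ * a i₀ j = -(∑ i ∈ Finset.univ.erase i₀, z i * a i j) :=
          eq_neg_of_add_eq_zero_left h1
        rw [← h3, ← hu', mul_assoc, Units.mul_inv, mul_one]
      rw [h2]
      apply Ideal.mul_mem_right
      apply Ideal.neg_mem_iff _ |>.mpr
      refine Ideal.sum_mem _ fun i hi => ?_
      apply Ideal.mul_mem_right
      exact Ideal.subset_span ⟨i, Finset.ne_of_mem_erase hi, rfl⟩
    have hspan : Ideal.span (Set.range z) = Ideal.span (z '' {i | i ≠ i₀}) := by
      apply le_antisymm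
      · rw [Ideal.span_le]
        rintro _ ⟨i, rfl⟩
        by_cases hi : i = i₀
        · rw [hi]; exact hz
        · exact Ideal.subset_span ⟨i, hi, rfl⟩
      · exact Ideal.span_mono (Set.image_subset_range _ _)
    have hfin : (z '' {i | i ≠ i₀}).Finite := Set.toFinite _
    have h4 := Submodule.spanFinrank_span_le_ncard_of_finite (R := A) hfin
    have h5 : (z '' {i | i ≠ i₀}).ncard ≤ ({i | i ≠ i₀} : Set (Fin m)).ncard :=
      Set.ncard_image_le (Set.toFinite _)
    have h6 : ({i | i ≠ i₀} : Set (Fin m)).ncard = m - 1 := by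
      have : ({i | i ≠ i₀} : Set (Fin m)) = ({i₀} : Set (Fin m))ᶜ := by
        ext i; simp
      rw [this, Set.ncard_compl, Set.ncard_singleton, Nat.card_eq_fintype_card, Fintype.card_fin]
    have hm : 0 < m := Fin.pos i₀
    have h7 : (Ideal.span (z '' {i | i ≠ i₀})).spanFinrank = m := by rw [← hspan]; exact hmin
    have h8 : (Ideal.span (z '' {i | i ≠ i₀})).spanFinrank ≤ m - 1 := by
      rw [← h6]; exact h4.trans h5
    omega
  rw [hxy i]
  refine Ideal.sum_mem _ fun j _ => ?_
  rw [Algebra.smul_def]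
  apply Ideal.mul_mem_right
  rw [mem_maximalIdeal, mem_nonunits_iff]
  intro hunit
  have := isUnit_of_map_unit (algebraMap A B) _ hunit
  exact (mem_maximalIdeal _).mp (ha i j) this


/-- a finite generating family of minimal size. -/
theorem exists_fin_gens {R : Type u} [CommRing R] (J : Ideal R) (hJ : J.FG) :
    ∃ z : Fin J.spanFinrank → R, Ideal.span (Set.range z) = J := by
  classical
  obtain ⟨s, hcard, hspan⟩ := Submodule.FG.exists_span_finset_card_eq_spanFinrank hJ
  refine ⟨fun i => ((s.equivFinOfCardEq hcard).symm i : R), ?_⟩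
  have : Set.range (fun i => ((s.equivFinOfCardEq hcard).symm i : R)) = (s : Set R) := by
    ext x
    constructor
    · rintro ⟨i, rfl⟩
      exact ((s.equivFinOfCardEq hcard).symm i).2
    · intro hx
      exact ⟨s.equivFinOfCardEq hcard ⟨x, hx⟩, by simp⟩
  rw [this]
  exact hspan

theorem le_of_gens (J : Ideal A) {m c : ℕ} (z : Fin m → A) (hz : Ideal.span (Set.range z) = J)
    (hm : J.spanFinrank = m) (y : Fin c → B)
    (hy : Ideal.span (Set.range y) = J.map (algebraMap A B)) : m ≤ c := by
  classical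
  have hmap : J.map (algebraMap A B) = Ideal.span (Set.range fun i => algebraMap A B (z i)) := by
    conv_lhs => rw [← hz]
    rw [Ideal.map_span, ← Set.range_comp]
    rfl
  -- `z = p y`
  have hp : ∀ i, ∃ p : Fin c → B, ∑ j, p j * y j = algebraMap A B (z i) := by
    intro i
    have : algebraMap A B (z i) ∈ Ideal.span (Set.range y) := by
      rw [hy]
      exact Ideal.mem_map_of_mem _ (hz ▸ Ideal.subset_span ⟨i, rfl⟩)
    exact Ideal.mem_span_range_iff_exists_fun.mp this
  choose p hp using hp
  have hq : ∀ j, ∃ q : Fin m → B, ∑ i, q i * algebraMap A B (z i) = y j := by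
    intro j
    have : y j ∈ Ideal.span (Set.range fun i => algebraMap A B (z i)) := by
      rw [← hmap, ← hy]
      exact Ideal.subset_span ⟨j, rfl⟩
    exact Ideal.mem_span_range_iff_exists_fun.mp this
  choose q hq using hq
  let P : Matrix (Fin m) (Fin c) B := Matrix.of p
  let Qm : Matrix (Fin c) (Fin m) B := Matrix.of q
  have hrel : ∀ i, ∑ l, z l • ((P * Qm) i l - (1 : Matrix (Fin m) (Fin m) B) i l) = 0 := by
    intro i
    simp only [Algebra.smul_def, mul_sub, Finset.sum_sub_distrib]
    rw [sub_eq_zero]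
    have h1 : ∑ l, algebraMap A B (z l) * (1 : Matrix (Fin m) (Fin m) B) i l =
        algebraMap A B (z i) := by
      simp [Matrix.one_apply]
    rw [h1, ← hp i]
    simp only [Matrix.mul_apply, P, Qm, Matrix.of_apply, Finset.mul_sum]
    rw [Finset.sum_comm]
    refine Finset.sum_congr rfl fun j _ => ?_
    rw [← hq j, Finset.mul_sum]
    refine Finset.sum_congr rfl fun l _ => ?_
    ring
  have hmem : ∀ i l, (P * Qm) i l - (1 : Matrix (Fin m) (Fin m) B) i l ∈ maximalIdeal B := by
    intro i l
    exact mem_maximalIdeal_of_relation A B z (by rw [hz]; exact hm) _ (hrel i) l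
  -- reduce mod `m_B`
  let ρ : B →+* ResidueField B := residue B
  have hone : (P.map ρ) * (Qm.map ρ) = 1 := by
    rw [← Matrix.map_mul]
    ext i l
    have h2 : ρ ((P * Qm) i l) = ρ ((1 : Matrix (Fin m) (Fin m) B) i l) :=
      Ideal.Quotient.eq.mpr (hmem i l)
    simp only [Matrix.map_apply]
    rw [h2, Matrix.one_apply, Matrix.one_apply]
    split_ifs <;> simp
  have h3 : ((P.map ρ) * (Qm.map ρ)).rank ≤ (P.map ρ).rank := Matrix.rank_mul_le_left _ _
  rw [hone, Matrix.rank_one, Fintype.card_fin] at h3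
  have h4 : (P.map ρ).rank ≤ c := by
    have := Matrix.rank_le_width (P.map ρ)
    simpa using this
  exact h3.trans h4

theorem spanFinrank_le_map (J : Ideal A) (hJ : J.FG) :
    J.spanFinrank ≤ (J.map (algebraMap A B)).spanFinrank := by
  have hJB : (J.map (algebraMap A B)).FG := hJ.map _
  obtain ⟨z, hz⟩ := exists_fin_gens J hJ
  obtain ⟨y, hy⟩ := exists_fin_gens _ hJB
  exact le_of_gens A B J z hz rfl y hy


section Regular

open Groth.Agent.Lib.Helper24.FlatDimFormula Groth.Agent.Lib.Helper24.FlatQuot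

theorem num_of_map [IsNoetherianRing A] [IsNoetherianRing B] (J : Ideal A) (hJ : J ≠ ⊤)
    (h : Num B (J.map (algebraMap A B))) : Num A J := by
  have hJB : J.map (algebraMap A B) ≠ ⊤ := map_ne_top A B J hJ
  obtain ⟨dA, hdA⟩ := exists_nat_dim A
  obtain ⟨dAJ, hdAJ⟩ := exists_nat_dim_quot' A J hJ
  have hmne : (maximalIdeal A).map (algebraMap A B) ≠ ⊤ :=
    map_ne_top A B _ (maximalIdeal.isMaximal A).ne_top
  obtain ⟨dF, hdF⟩ := exists_nat_dim_quot' B _ hmne
  have hdB : ringKrullDim B = ((dA + dF : ℕ) : WithBot ℕ∞) := by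
    rw [ringKrullDim_eq_add_of_flat A B, hdA, hdF]
    rfl
  have hdBJ : ringKrullDim (B ⧸ J.map (algebraMap A B)) = ((dAJ + dF : ℕ) : WithBot ℕ∞) := by
    rw [ringKrullDim_quotient_map_eq_add A B J hJ, hdAJ, hdF]
    rfl
  rw [num_iff_nat A J dA dAJ hdA hdAJ]
  rw [num_iff_nat B _ (dA + dF) (dAJ + dF) hdB hdBJ] at h
  have h1 := spanFinrank_le_map A B J (IsNoetherian.noetherian J)
  omega

theorem isRegGen_of_map [IsRegularLocalRing A] [IsRegularLocalRing B] (J : Ideal A) (hJ : J ≠ ⊤)
    (h : IsRegGen B (J.map (algebraMap A B))) : IsRegGen A J := by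
  rw [isRegGen_iff_num A J hJ]
  exact num_of_map A B J hJ ((isRegGen_iff_num B _ (map_ne_top A B J hJ)).mp h)

theorem isRegGen_map (J : Ideal A) (h : IsRegGen A J) : IsRegGen B (J.map (algebraMap A B)) := by
  obtain ⟨rs, hrs, hreg⟩ := h
  haveI : Module.FaithfullyFlat A B := Module.FaithfullyFlat.of_flat_of_isLocalHom
  refine ⟨rs.map (algebraMap A B), ?_, hreg.of_faithfullyFlat⟩
  rw [← hrs, Ideal.map_ofList]

end Regular

end Groth.Agent.LibFlatRegGen29
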