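import Mathlib
import Groth.Prelude.Def_RegImm
import Groth.Agent.LibFlatRegGen29
import Groth.Agent.Lib.Helper17.CIField2
import Groth.Agent.Lib.Helper17.CIField6

/-!
# Complete intersections over a field and extension of the base field (helper29)

`T` of finite type over a field `k`, `K/k` a field extension, `q'` a prime of `K ⊗[k] T`, `q` its
contraction to `T`: `(K ⊗ T)_{q'}` is a complete intersection over `K` iff `T_q` is one over `k`.
-/

set_option autoImplicit false
set_option linter.style.haveILetI false
universe u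

namespace Groth.Agent.LibCIFieldExt29

open TensorProduct IsLocalRing RingTheory.Sequence
open Groth.Agent.Lib.helper17.CIField Groth.Agent.Lib.helper17.CINum Groth.Agent.LibFlatRegGen29

attribute [local instance] Algebra.TensorProduct.rightAlgebra

section

variable (k K : Type u) [Field k] [Field K] [Algebra k K]

theorem flat_rightAlgebra (P : Type u) [CommRing P] [Algebra k P] :
    Module.Flat P (K ⊗[k] P) := by
  have h : (algebraMap k K).Flat := by
    rw [RingHom.flat_algebraMap_iff]
    infer_instance
  have h2 : (algebraMap P (K ⊗[k] P)).Flat :=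
    RingHom.Flat.isStableUnderBaseChange k K P (K ⊗[k] P) h
  rwa [RingHom.flat_algebraMap_iff] at h2

variable (T : Type u) [CommRing T] [Algebra k T]

theorem isCIOver_baseChange_iff [Algebra.FiniteType k T] (q' : Ideal (K ⊗[k] T)) [q'.IsPrime] :
    Synt.IsCIOver K (Localization.AtPrime q') ↔
      Synt.IsCIOver k (Localization.AtPrime (q'.comap (algebraMap T (K ⊗[k] T)))) := by
  obtain ⟨n, φ, hφ⟩ := Algebra.FiniteType.iff_quotient_mvPolynomial''.mp
    (inferInstance : Algebra.FiniteType k T)
  let φ' : K ⊗[k] MvPolynomial (Fin n) k →ₐ[K] K ⊗[k] T :=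
    Algebra.TensorProduct.map (AlgHom.id K K) φ
  have hφ' : Function.Surjective φ' := Algebra.TensorProduct.map_surjective _ _
    Function.surjective_id hφ
  -- compatibility of `φ'` with `φ`
  have hcompat : ∀ x : MvPolynomial (Fin n) k,
      φ' (algebraMap (MvPolynomial (Fin n) k) (K ⊗[k] MvPolynomial (Fin n) k) x) =
        algebraMap T (K ⊗[k] T) (φ x) := by
    intro x
    change φ' (1 ⊗ₜ x) = 1 ⊗ₜ φ x
    simp [φ']
  have hker : RingHom.ker φ'.toRingHom = (RingHom.ker φ.toRingHom).map
      (algebraMap (MvPolynomial (Fin n) k) (K ⊗[k] MvPolynomial (Fin n) k)) := by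
    have h1 := Algebra.TensorProduct.lTensor_ker (A := K) φ hφ
    have h2 : RingHom.ker φ'.toRingHom =
        RingHom.ker (Algebra.TensorProduct.map (AlgHom.id k K) φ) := by
      ext x
      simp only [RingHom.mem_ker]
      have : φ'.toRingHom x = (Algebra.TensorProduct.map (AlgHom.id k K) φ) x := by
        induction x using TensorProduct.induction_on with
        | zero => simp
        | tmul a b => simp [φ']
        | add a b ha hb => rw [map_add, map_add, ha, hb]
      rw [this]
    rw [h2, h1]
    rfl
  set q : Ideal T := q'.comap (algebraMap T (K ⊗[k] T)) with hq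
  set Q : Ideal (MvPolynomial (Fin n) k) := q.comap φ.toRingHom with hQ
  set Q' : Ideal (K ⊗[k] MvPolynomial (Fin n) k) := q'.comap φ'.toRingHom with hQ'
  haveI : Q.IsPrime := Ideal.comap_isPrime _ _
  haveI : Q'.IsPrime := Ideal.comap_isPrime _ _
  haveI : IsRegularRing (K ⊗[k] MvPolynomial (Fin n) k) :=
    IsRegularRing.of_ringEquiv (MvPolynomial.algebraTensorAlgEquiv k K).symm.toRingEquiv
  haveI : Algebra.EssFiniteType K (K ⊗[k] MvPolynomial (Fin n) k) := inferInstance
  rw [isCIOver_atPrime_iff K φ' hφ' q' Q' rfl, isCIOver_atPrime_iff k φ hφ q Q rfl]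
  -- the flat local homomorphism `P_Q → P'_{Q'}`
  have hQQ' : Q = Q'.comap (algebraMap (MvPolynomial (Fin n) k) (K ⊗[k] MvPolynomial (Fin n) k)) := by
    ext x
    simp only [hQ, hQ', hq, Ideal.mem_comap]
    change algebraMap T (K ⊗[k] T) (φ x) ∈ q' ↔ φ' (algebraMap _ _ x) ∈ q'
    rw [hcompat]
  letI algAB : Algebra (Localization.AtPrime Q) (Localization.AtPrime Q') :=
    (Localization.localRingHom Q Q' (algebraMap _ _) hQQ').toAlgebra
  haveI : IsScalarTower (MvPolynomial (Fin n) k) (K ⊗[k] MvPolynomial (Fin n) k)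
      (Localization.AtPrime Q') := inferInstance
  haveI : IsScalarTower (MvPolynomial (Fin n) k) (Localization.AtPrime Q)
      (Localization.AtPrime Q') := IsScalarTower.of_algebraMap_eq (fun x => by
    change _ = Localization.localRingHom Q Q' (algebraMap _ _) hQQ' (algebraMap _ _ x)
    rw [Localization.localRingHom_to_map]
    exact IsScalarTower.algebraMap_apply _ _ _ x)
  haveI : IsLocalHom (algebraMap (Localization.AtPrime Q) (Localization.AtPrime Q')) :=
    Localization.isLocalHom_localRingHom Q Q' _ hQQ'
  haveI := flat_rightAlgebra k K (MvPolynomial (Fin n) k)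
  haveI : Module.Flat (Localization.AtPrime Q) (Localization.AtPrime Q') := by
    rw [Module.flat_iff_of_isLocalization (Localization.AtPrime Q) Q.primeCompl]
    exact Module.Flat.trans (MvPolynomial (Fin n) k) (K ⊗[k] MvPolynomial (Fin n) k)
      (Localization.AtPrime Q')
  set J : Ideal (Localization.AtPrime Q) := (RingHom.ker φ.toRingHom).map
    (algebraMap (MvPolynomial (Fin n) k) (Localization.AtPrime Q)) with hJ
  have hJB : J.map (algebraMap (Localization.AtPrime Q) (Localization.AtPrime Q')) =
      (RingHom.ker φ'.toRingHom).map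
        (algebraMap (K ⊗[k] MvPolynomial (Fin n) k) (Localization.AtPrime Q')) := by
    rw [hJ, Ideal.map_map, ← IsScalarTower.algebraMap_eq, hker, Ideal.map_map,
      ← IsScalarTower.algebraMap_eq]
  have hJne : J ≠ ⊤ := by
    have hle : J ≤ maximalIdeal (Localization.AtPrime Q) := by
      rw [hJ, Ideal.map_le_iff_le_comap]
      have hcm : (maximalIdeal (Localization.AtPrime Q)).comap
          (algebraMap (MvPolynomial (Fin n) k) (Localization.AtPrime Q)) = Q :=
        IsLocalization.AtPrime.under_maximalIdeal (Localization.AtPrime Q) Q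
      rw [hcm]
      intro x hx
      rw [hQ, Ideal.mem_comap]
      rw [RingHom.mem_ker] at hx
      rw [hx]
      exact Ideal.zero_mem _
    exact ne_top_of_le_ne_top (maximalIdeal.isMaximal _).ne_top hle
  rw [← hJB]
  constructor
  · rintro ⟨rs, hreg, hrs⟩
    obtain ⟨rs', hrs', hreg'⟩ := isRegGen_of_map (Localization.AtPrime Q) (Localization.AtPrime Q')
      J hJne ⟨rs, hrs, hreg⟩
    exact ⟨rs', hreg', hrs'⟩
  · rintro ⟨rs, hreg, hrs⟩
    obtain ⟨rs', hrs', hreg'⟩ := isRegGen_map (Localization.AtPrime Q) (Localization.AtPrime Q')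
      J ⟨rs, hrs, hreg⟩
    exact ⟨rs', hreg', hrs'⟩

theorem faithfullyFlat_rightAlgebra (P : Type u) [CommRing P] [Algebra k P] :
    Module.FaithfullyFlat P (K ⊗[k] P) := by
  have h : (algebraMap k K).FaithfullyFlat := by
    rw [RingHom.faithfullyFlat_algebraMap_iff]
    infer_instance
  have h2 : (algebraMap P (K ⊗[k] P)).FaithfullyFlat :=
    RingHom.FaithfullyFlat.isStableUnderBaseChange k K P (K ⊗[k] P) h
  rwa [RingHom.faithfullyFlat_algebraMap_iff] at h2

/-- local complete intersections over a field and extension of the base field. -/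
theorem isLCIOver_baseChange_iff [Algebra.FiniteType k T] :
    Synt.IsLCIOver K (K ⊗[k] T) ↔ Synt.IsLCIOver k T := by
  haveI : Algebra.FiniteType K (K ⊗[k] T) := inferInstance
  rw [isLCIOver_iff_forall_isCIOver K, isLCIOver_iff_forall_isCIOver k]
  constructor
  · intro h q
    haveI := faithfullyFlat_rightAlgebra k K T
    obtain ⟨q', hq'⟩ := PrimeSpectrum.comap_surjective_of_faithfullyFlat (A := T) (B := K ⊗[k] T) q
    have h1 := (isCIOver_baseChange_iff k K T q'.asIdeal).mp (h q')
    have h2 : q'.asIdeal.comap (algebraMap T (K ⊗[k] T)) = q.asIdeal :=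
      congrArg PrimeSpectrum.asIdeal hq'
    have key : ∀ (I : Ideal T) [I.IsPrime], I = q.asIdeal →
        Synt.IsCIOver k (Localization.AtPrime I) → Synt.IsCIOver k (Localization.AtPrime q.asIdeal) := by
      intro I _ hI
      subst hI
      exact id
    exact key _ h2 h1
  · intro h q'
    exact (isCIOver_baseChange_iff k K T q'.asIdeal).mpr
      (h ⟨q'.asIdeal.comap (algebraMap T (K ⊗[k] T)), Ideal.comap_isPrime _ _⟩)

end

end Groth.Agent.LibCIFieldExt29
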