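import Groth.Statements.S9368
import Mathlib
import Groth.Agent.Lib.Helper17.CIField11

set_option autoImplicit false
set_option linter.style.haveILetI false
universe u
open Synt

namespace Groth.Agent.S9368

open AlgebraicGeometry CategoryTheory TopologicalSpace Opposite

section

variable (k : Type u) [Field k] (X : Scheme.{u}) (p : X ⟶ Spec (CommRingCat.of k))

/-- the structure map `k → Γ(X, U)` -/
noncomputable abbrev sm (U : X.Opens) : k →+* Γ(X, U) :=
  ((Scheme.ΓSpecIso (CommRingCat.of k)).inv ≫ p.appLE ⊤ U le_top).hom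

/-- the structure map `k → O_{X,x}` -/
noncomputable abbrev smx (x : X) : k →+* X.presheaf.stalk x :=
  ((Scheme.ΓSpecIso (CommRingCat.of k)).inv ≫ p.appLE ⊤ ⊤ le_top ≫
    X.presheaf.germ ⊤ x trivial).hom

theorem sm_res {U U' : X.Opens} (h : U' ≤ U) (c : k) :
    (X.presheaf.map (homOfLE h).op).hom (sm k X p U c) = sm k X p U' c := by
  have h1 := p.appLE_map (U := ⊤) (V := U) (V' := U') le_top (homOfLE h).op
  change (X.presheaf.map (homOfLE h).op).hom ((p.appLE ⊤ U le_top).hom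
    ((Scheme.ΓSpecIso (CommRingCat.of k)).inv.hom c)) =
    (p.appLE ⊤ U' le_top).hom ((Scheme.ΓSpecIso (CommRingCat.of k)).inv.hom c)
  rw [← h1]
  rfl

theorem sm_germ (U : X.Opens) (x : X) (hx : x ∈ U) (c : k) :
    (X.presheaf.germ U x hx).hom (sm k X p U c) = smx k X p x c := by
  have h1 := p.appLE_map (U := ⊤) (V := ⊤) (V' := U) le_top (homOfLE le_top).op
  have h2 := X.presheaf.germ_res (homOfLE (le_top : U ≤ ⊤)) x hx
  change (X.presheaf.germ U x hx).hom ((p.appLE ⊤ U le_top).hom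
    ((Scheme.ΓSpecIso (CommRingCat.of k)).inv.hom c)) =
    (X.presheaf.germ ⊤ x trivial).hom ((p.appLE ⊤ ⊤ le_top).hom
      ((Scheme.ΓSpecIso (CommRingCat.of k)).inv.hom c))
  rw [← h2, ← h1]
  rfl

theorem stalk_iff {U : X.Opens} (hU : IsAffineOpen U) (x : X) (hx : x ∈ U) :
    letI := (sm k X p U).toAlgebra
    letI : Algebra k (X.presheaf.stalk x) := (smx k X p x).toAlgebra
    Synt.IsCIOver k (X.presheaf.stalk x) ↔
      Synt.IsCIOver k (Localization.AtPrime (hU.primeIdealOf ⟨x, hx⟩).asIdeal) := by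
  letI a1 := (sm k X p U).toAlgebra
  letI a2 : Algebra k (X.presheaf.stalk x) := (smx k X p x).toAlgebra
  letI a3 := X.presheaf.algebra_section_stalk (⟨x, hx⟩ : U)
  haveI : IsScalarTower k Γ(X, U) (X.presheaf.stalk x) :=
    IsScalarTower.of_algebraMap_eq (fun c => (sm_germ k X p U x hx c).symm)
  haveI := hU.isLocalization_stalk ⟨x, hx⟩
  let e : Localization.AtPrime (hU.primeIdealOf ⟨x, hx⟩).asIdeal ≃ₐ[k] X.presheaf.stalk x :=
    (IsLocalization.algEquiv (hU.primeIdealOf ⟨x, hx⟩).asIdeal.primeCompl _ _).restrictScalars k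
  exact ⟨Groth.Agent.Lib.helper17.CIField.isCIOver_of_algEquiv k _ _ e.symm,
    Groth.Agent.Lib.helper17.CIField.isCIOver_of_algEquiv k _ _ e⟩

theorem basicOpen_iff {U : X.Opens} (hU : IsAffineOpen U) (g : Γ(X, U)) :
    letI := (sm k X p U).toAlgebra
    letI := (sm k X p (X.basicOpen g)).toAlgebra
    Synt.IsGlobalCI k (Localization.Away g) ↔ Synt.IsGlobalCI k Γ(X, X.basicOpen g) := by
  letI a1 := (sm k X p U).toAlgebra
  letI a2 := (sm k X p (X.basicOpen g)).toAlgebra
  haveI : IsScalarTower k Γ(X, U) Γ(X, X.basicOpen g) :=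
    IsScalarTower.of_algebraMap_eq (fun c => (sm_res k X p (X.basicOpen_le g) c).symm)
  haveI := hU.isLocalization_basicOpen g
  let e : Localization.Away g ≃ₐ[k] Γ(X, X.basicOpen g) :=
    (IsLocalization.algEquiv (Submonoid.powers g) _ _).restrictScalars k
  exact ⟨Groth.Agent.Lib.helper17.CIField.isGlobalCI_of_algEquiv k e,
    Groth.Agent.Lib.helper17.CIField.isGlobalCI_of_algEquiv k e.symm⟩

end

section Main

variable (k : Type u) [Field k] (X : Scheme.{u}) (p : X ⟶ Spec (CommRingCat.of k))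
  [LocallyOfFiniteType p]

theorem finiteType_sm {U : X.Opens} (hU : IsAffineOpen U) :
    letI := (sm k X p U).toAlgebra
    Algebra.FiniteType k Γ(X, U) := by
  have h1 : (p.appLE ⊤ U le_top).hom.FiniteType :=
    HasRingHomProperty.appLE @LocallyOfFiniteType p inferInstance ⟨⊤, isAffineOpen_top _⟩ ⟨U, hU⟩ le_top
  have h2 : ((Scheme.ΓSpecIso (CommRingCat.of k)).inv).hom.FiniteType := by
    apply RingHom.FiniteType.of_surjective
    exact (ConcreteCategory.bijective_of_isIso (Scheme.ΓSpecIso (CommRingCat.of k)).inv).2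
  exact RingHom.FiniteType.comp h1 h2

theorem mem_basicOpen_iff {U : X.Opens} (hU : IsAffineOpen U) (x : X) (hx : x ∈ U) (g : Γ(X, U)) :
    x ∈ X.basicOpen g ↔ g ∉ (hU.primeIdealOf ⟨x, hx⟩).asIdeal := by
  rw [hU.primeIdealOf_eq_map_closedPoint, Scheme.mem_basicOpen X g x hx]
  change _ ↔ ¬ ((X.presheaf.germ U x hx).hom g ∈ IsLocalRing.maximalIdeal (X.presheaf.stalk x))
  rw [IsLocalRing.mem_maximalIdeal, mem_nonunits_iff, not_not]

theorem exists_of_isCIOver_prime {U : X.Opens} (hU : IsAffineOpen U) (x : X) (hx : x ∈ U)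
    (h : letI := (sm k X p U).toAlgebra
      Synt.IsCIOver k (Localization.AtPrime (hU.primeIdealOf ⟨x, hx⟩).asIdeal)) :
    ∃ U' : X.affineOpens, x ∈ U'.1 ∧
      letI := ((Scheme.ΓSpecIso (CommRingCat.of k)).inv ≫ p.appLE ⊤ U'.1 le_top).hom.toAlgebra
      Synt.IsGlobalCI k Γ(X, U'.1) := by
  letI := (sm k X p U).toAlgebra
  haveI := finiteType_sm k X p hU
  obtain ⟨g, hg, hG⟩ :=
    (Groth.Agent.Lib.helper17.CIField.isCIOver_atPrime_iff_exists_isGlobalCI_away k _).mp h
  exact ⟨⟨X.basicOpen g, hU.basicOpen g⟩, (mem_basicOpen_iff X hU x hx g).mpr hg,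
    (basicOpen_iff k X p hU g).mp hG⟩

end Main

open AlgebraicGeometry CategoryTheory in
/-- For X locally of finite type over a field k with structure morphism p, the following are equivalent:
(1) p is syntomic; (2) every x ∈ X has an affine open neighbourhood whose coordinate ring is a
global complete intersection over k; (3) each stalk O_{X,x} is a complete intersection ring over k
(k-algebra structures induced by p). -/
theorem result (k : Type u) [Field k] (X : Scheme.{u}) (p : X ⟶ Spec (CommRingCat.of k)) [LocallyOfFiniteType p] :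
    [Synt.IsSyntomicMor p,
      ∀ x : ↑X, ∃ U : X.affineOpens, x ∈ U.1 ∧
        letI := ((Scheme.ΓSpecIso (CommRingCat.of k)).inv ≫ p.appLE ⊤ U.1 le_top).hom.toAlgebra
        Synt.IsGlobalCI k Γ(X, U.1),
      ∀ x : ↑X,
        letI := ((Scheme.ΓSpecIso (CommRingCat.of k)).inv ≫ p.appLE ⊤ ⊤ le_top ≫ X.presheaf.germ ⊤ x trivial).hom.toAlgebra
        Synt.IsCIOver k (X.presheaf.stalk x)].TFAE := by
  classical
  tfae_have 2 → 3 := by
    intro h x
    obtain ⟨U, hxU, hG⟩ := h x
    exact (stalk_iff k X p U.2 x hxU).mpr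
      (@Groth.Agent.Lib.helper17.CIField.isCIOver_atPrime_of_isGlobalCI k _ _ _
        (sm k X p U.1).toAlgebra hG _ _)
  tfae_have 3 → 2 := by
    intro h x
    obtain ⟨_, ⟨U, hU : IsAffineOpen U, rfl⟩, hxU, -⟩ :=
      X.isBasis_affineOpens.exists_subset_of_mem_open (Set.mem_univ x) isOpen_univ
    exact exists_of_isCIOver_prime k X p hU x hxU ((stalk_iff k X p hU x hxU).mp (h x))
  tfae_have 1 → 2 := by
    intro h x
    obtain ⟨U, ⟨V, hV⟩, e, hxU, hsyn⟩ := h x
    have hVtop : V = ⊤ := by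
      ext y
      simp only [Opens.coe_top, Set.mem_univ, iff_true]
      have : y = p x := Subsingleton.elim (α := PrimeSpectrum k) y (p x)
      rw [this]
      exact e hxU
    subst hVtop
    letI algR : Algebra Γ(Spec (CommRingCat.of k), ⊤) Γ(X, U.1) := (p.appLE ⊤ U.1 e).hom.toAlgebra
    letI algk := (sm k X p U.1).toAlgebra
    let σ : k ≃+* Γ(Spec (CommRingCat.of k), ⊤) :=
      (Scheme.ΓSpecIso (CommRingCat.of k)).symm.commRingCatIsoToRingEquiv
    have hc : ∀ c, algebraMap k Γ(X, U.1) c =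
        algebraMap Γ(Spec (CommRingCat.of k), ⊤) Γ(X, U.1) (σ c) := fun c => rfl
    haveI : Nontrivial Γ(Spec (CommRingCat.of k), ⊤) := σ.injective.nontrivial
    obtain ⟨𝔭⟩ : Nonempty (PrimeSpectrum Γ(Spec (CommRingCat.of k), ⊤)) := inferInstance
    have hL : Synt.IsLCIOver k Γ(X, U.1) :=
      (Groth.Agent.Lib.helper17.CIField.isLCIOver_fiber_iff k _ σ _ hc 𝔭).mp (hsyn.2.2 𝔭)
    exact exists_of_isCIOver_prime k X p U.2 x hxU
      (Groth.Agent.Lib.helper17.CIField.isCIOver_atPrime_of_isLCIOver k hL _)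
  tfae_have 2 → 1 := by
    intro h x
    obtain ⟨U, hxU, hG⟩ := h x
    refine ⟨U, ⟨⊤, isAffineOpen_top _⟩, le_top, hxU, ?_⟩
    letI algR : Algebra Γ(Spec (CommRingCat.of k), ⊤) Γ(X, U.1) :=
      (p.appLE ⊤ U.1 le_top).hom.toAlgebra
    letI algk := (sm k X p U.1).toAlgebra
    let σ : k ≃+* Γ(Spec (CommRingCat.of k), ⊤) :=
      (Scheme.ΓSpecIso (CommRingCat.of k)).symm.commRingCatIsoToRingEquiv
    have hc : ∀ c, algebraMap k Γ(X, U.1) c =
        algebraMap Γ(Spec (CommRingCat.of k), ⊤) Γ(X, U.1) (σ c) := fun c => rfl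
    have hR : IsField Γ(Spec (CommRingCat.of k), ⊤) :=
      MulEquiv.isField (Field.toIsField k) σ.symm.toMulEquiv
    haveI := finiteType_sm k X p U.2
    haveI : IsNoetherianRing Γ(Spec (CommRingCat.of k), ⊤) := isNoetherianRing_of_ringEquiv k σ
    have hft : Algebra.FiniteType Γ(Spec (CommRingCat.of k), ⊤) Γ(X, U.1) :=
      HasRingHomProperty.appLE @LocallyOfFiniteType p inferInstance ⟨⊤, isAffineOpen_top _⟩ U le_top
    exact ⟨RingHom.Flat.of_isField hR _, Algebra.FinitePresentation.of_finiteType.mp hft,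
      fun 𝔭 => (Groth.Agent.Lib.helper17.CIField.isLCIOver_fiber_iff k _ σ _ hc 𝔭).mpr
        (Groth.Agent.Lib.helper17.CIField.isLCIOver_of_isGlobalCI k hG)⟩
  tfae_finish

end Groth.Agent.S9368
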