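import Groth.Statements.S8660
import Groth.Agent.LibCIMor29
import Groth.Agent.S9758
-- import your own Groth.Agent.* helpers here

set_option autoImplicit false
universe u
open CategoryTheory CategoryTheory.Limits AlgebraicGeometry
open Synt

namespace Groth.Agent.S8660

open Groth.Agent.LibCIMor29


/-- Let f : X ⟶ Y be flat and locally of finite presentation. Then f is a local complete intersection
morphism in the factorisation sense (around each point of X, f is locally of finite type and factors
as a Koszul-regular immersion followed by a smooth morphism) if and only if f is a
complete-intersection morphism in the fibrewise sense: flat, locally of finite presentation, and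
every local ring of every fibre is a complete intersection (its completion is a regular local ring
modulo a regular sequence). -/
theorem result {X Y : Scheme.{u}} (f : X ⟶ Y) [Flat f] [LocallyOfFinitePresentation f] :
    (∀ x : X, Synt.IsKoszulAt f x) ↔ CInt.IsCIMorphism f := by
  have hlft : ∀ s, LocallyOfFiniteType (f.fiberToSpecResidueField s) := fun s =>
    MorphismProperty.pullback_snd (P := @LocallyOfFiniteType) _ _ inferInstance
  constructor
  · intro h
    have hsyn : Synt.IsSyntomicMor f := (Groth.Agent.S9758.result f).mp ⟨inferInstance, h⟩
    refine ⟨inferInstance, inferInstance, fun x => ?_⟩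
    have := hlft (f x)
    exact (isSyntomicMor_iff_forall_pi1 (Y.residueField (f x)) (f.fiber (f x))
      (f.fiberToSpecResidueField (f x))).mp (isSyntomicMor_fiber f hsyn (f x)) (f.asFiber x)
  · rintro ⟨_, _, h⟩
    have hall : ∀ (s : Y) (y : f.fiber s),
        Pi1.IsCompleteIntersection ((f.fiber s).presheaf.stalk y) :=
      forall_fiber_of_forall_asFiber f
        (fun s y => Pi1.IsCompleteIntersection ((f.fiber s).presheaf.stalk y)) h
    have hsyn : Synt.IsSyntomicMor f := Groth.Agent.S9365.result f (fun s => by
      have := hlft s
      exact (isSyntomicMor_iff_forall_pi1 (Y.residueField s) (f.fiber s)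
        (f.fiberToSpecResidueField s)).mpr (hall s))
    exact ((Groth.Agent.S9758.result f).mpr hsyn).2

end Groth.Agent.S8660
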