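import Groth.Agent.LibCR29
import Mathlib.RingTheory.TensorProduct.Basic

/-!
# The augmentation ideal of a tensor product of complete local augmented algebras is f.g.
-/

set_option autoImplicit false
universe u

namespace Groth.Agent.LibCR29

open IsLocalRing ArtFun TensorProduct

section

variable {Λ k : Type u} [CommRing Λ] [Field k] [Algebra Λ k]

theorem ker_productMap_fg [Module.Finite Λ k] (R S : CRing Λ k) :
    (RingHom.ker (Algebra.TensorProduct.productMap R.res S.res)).FG := by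
  obtain ⟨n, c, hc⟩ := Module.Finite.exists_fin (R := Λ) (M := k)
  have hr : ∀ i, ∃ r : R.carrier, R.res r = c i := fun i => R.res_surjective (c i)
  have hs : ∀ i, ∃ s : S.carrier, S.res s = c i := fun i => S.res_surjective (c i)
  choose r hr using hr
  choose s hs using hs
  let iL : R.carrier →ₐ[Λ] R.carrier ⊗[Λ] S.carrier := Algebra.TensorProduct.includeLeft
  let iR : S.carrier →ₐ[Λ] R.carrier ⊗[Λ] S.carrier := Algebra.TensorProduct.includeRight
  set ε := Algebra.TensorProduct.productMap R.res S.res with hε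
  let 𝔫' : Ideal (R.carrier ⊗[Λ] S.carrier) :=
    (maximalIdeal R.carrier).map iL.toRingHom ⊔ (maximalIdeal S.carrier).map iR.toRingHom ⊔
      Ideal.span (Set.range fun i => r i ⊗ₜ[Λ] (1 : S.carrier) - (1 : R.carrier) ⊗ₜ[Λ] s i)
  have hfg : 𝔫'.FG := by
    refine Submodule.FG.sup (Submodule.FG.sup ?_ ?_) ?_
    · exact Ideal.FG.map ((isNoetherianRing_iff_ideal_fg _).1 inferInstance _) _
    · exact Ideal.FG.map ((isNoetherianRing_iff_ideal_fg _).1 inferInstance _) _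
    · exact Submodule.fg_span (Set.finite_range _)
  have hεt : ∀ a b, ε (a ⊗ₜ[Λ] b) = R.res a * S.res b := fun a b =>
    Algebra.TensorProduct.productMap_apply_tmul _ _ a b
  have hle : 𝔫' ≤ RingHom.ker ε := by
    refine sup_le (sup_le ?_ ?_) ?_
    · rw [Ideal.map_le_iff_le_comap]
      intro x hx
      rw [Ideal.mem_comap, RingHom.mem_ker]
      change ε (x ⊗ₜ[Λ] 1) = 0
      rw [hεt, (CRing.mem_maximalIdeal_iff R x).1 hx, zero_mul]
    · rw [Ideal.map_le_iff_le_comap]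
      intro x hx
      rw [Ideal.mem_comap, RingHom.mem_ker]
      change ε (1 ⊗ₜ[Λ] x) = 0
      rw [hεt, (CRing.mem_maximalIdeal_iff S x).1 hx, mul_zero]
    · rw [Ideal.span_le]
      rintro _ ⟨i, rfl⟩
      change _ ∈ RingHom.ker ε
      rw [RingHom.mem_ker, map_sub, hεt, hεt, hr, hs, map_one, map_one, mul_one, one_mul,
        sub_self]
  have hL : ∀ x ∈ maximalIdeal R.carrier, ∀ b : S.carrier, x ⊗ₜ[Λ] b ∈ 𝔫' := by
    intro x hx b
    have h1 : x ⊗ₜ[Λ] b = iL.toRingHom x * (1 : R.carrier) ⊗ₜ[Λ] b := by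
      change x ⊗ₜ[Λ] b = (x ⊗ₜ[Λ] (1 : S.carrier)) * ((1 : R.carrier) ⊗ₜ[Λ] b)
      rw [Algebra.TensorProduct.tmul_mul_tmul, mul_one, one_mul]
    rw [h1]
    exact Ideal.mul_mem_right _ _
      (Ideal.mem_sup_left (Ideal.mem_sup_left (Ideal.mem_map_of_mem _ hx)))
  have hRm : ∀ y ∈ maximalIdeal S.carrier, (1 : R.carrier) ⊗ₜ[Λ] y ∈ 𝔫' := by
    intro y hy
    exact Ideal.mem_sup_left (Ideal.mem_sup_right (Ideal.mem_map_of_mem iR.toRingHom hy))
  have hD : ∀ (i : Fin n) (b : S.carrier),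
      r i ⊗ₜ[Λ] b - (1 : R.carrier) ⊗ₜ[Λ] (s i * b) ∈ 𝔫' := by
    intro i b
    have h1 : r i ⊗ₜ[Λ] b - (1 : R.carrier) ⊗ₜ[Λ] (s i * b) =
        (r i ⊗ₜ[Λ] (1 : S.carrier) - (1 : R.carrier) ⊗ₜ[Λ] s i) * ((1 : R.carrier) ⊗ₜ[Λ] b) := by
      rw [sub_mul, Algebra.TensorProduct.tmul_mul_tmul, Algebra.TensorProduct.tmul_mul_tmul,
        mul_one, one_mul, one_mul]
    rw [h1]
    exact Ideal.mul_mem_right _ _ (Ideal.mem_sup_right (Ideal.subset_span ⟨i, rfl⟩))
  have hclaim : ∀ t : R.carrier ⊗[Λ] S.carrier, ∃ s' : S.carrier,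
      t - (1 : R.carrier) ⊗ₜ[Λ] s' ∈ 𝔫' := by
    intro t
    induction t using TensorProduct.induction_on with
    | zero => exact ⟨0, by rw [TensorProduct.tmul_zero, sub_zero]; exact Ideal.zero_mem _⟩
    | tmul a b =>
      have hmem : R.res a ∈ Submodule.span Λ (Set.range c) := by rw [hc]; exact Submodule.mem_top
      obtain ⟨l, hl⟩ := (Submodule.mem_span_range_iff_exists_fun Λ).1 hmem
      have ha : a - ∑ i, l i • r i ∈ maximalIdeal R.carrier := by
        rw [CRing.mem_maximalIdeal_iff, map_sub, map_sum, ← hl, sub_eq_zero]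
        refine Finset.sum_congr rfl fun i _ => ?_
        rw [map_smul, hr]
      refine ⟨∑ i, l i • (s i * b), ?_⟩
      have h1 : a ⊗ₜ[Λ] b - (1 : R.carrier) ⊗ₜ[Λ] (∑ i, l i • (s i * b)) =
          (a - ∑ i, l i • r i) ⊗ₜ[Λ] b +
            ∑ i, l i • (r i ⊗ₜ[Λ] b - (1 : R.carrier) ⊗ₜ[Λ] (s i * b)) := by
        rw [TensorProduct.sub_tmul, TensorProduct.sum_tmul, TensorProduct.tmul_sum]
        simp only [smul_sub, Finset.sum_sub_distrib, TensorProduct.smul_tmul',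
          TensorProduct.tmul_smul]
        abel
      rw [h1]
      refine Ideal.add_mem _ (hL _ ha b) (Ideal.sum_mem _ fun i _ => ?_)
      rw [Algebra.smul_def]
      exact Ideal.mul_mem_left _ _ (hD i b)
    | add t₁ t₂ h₁ h₂ =>
      obtain ⟨s₁, hs₁⟩ := h₁
      obtain ⟨s₂, hs₂⟩ := h₂
      refine ⟨s₁ + s₂, ?_⟩
      have : t₁ + t₂ - (1 : R.carrier) ⊗ₜ[Λ] (s₁ + s₂) =
          (t₁ - (1 : R.carrier) ⊗ₜ[Λ] s₁) + (t₂ - (1 : R.carrier) ⊗ₜ[Λ] s₂) := by
        rw [TensorProduct.tmul_add]; abel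
      rw [this]
      exact Ideal.add_mem _ hs₁ hs₂
  have heq : RingHom.ker ε = 𝔫' := by
    apply le_antisymm _ hle
    intro t ht
    obtain ⟨s', hs'⟩ := hclaim t
    have h1 : (1 : R.carrier) ⊗ₜ[Λ] s' ∈ RingHom.ker ε := by
      have h2 := Ideal.sub_mem _ ht (hle hs')
      rw [sub_sub_cancel] at h2
      exact h2
    rw [RingHom.mem_ker, hεt, map_one, one_mul] at h1
    have h3 := hRm s' ((CRing.mem_maximalIdeal_iff S s').2 h1)
    have h4 := Ideal.add_mem _ hs' h3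
    rw [sub_add_cancel] at h4
    exact h4
  rw [heq]
  exact hfg

end

end Groth.Agent.LibCR29
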