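import Groth.Agent.LibCR29
import Groth.Prelude.Def_ArtFun5

/-!
# Maps into a complete local Noetherian augmented algebra from compatible systems
-/

set_option autoImplicit false
universe u

namespace Groth.Agent.LibCR29

open IsLocalRing ArtFun

section

variable {Λ k : Type u} [CommRing Λ] [Field k] [Algebra Λ k]

lemma truncMap_apply (S : CRing Λ k) (n : ℕ) (a : S.carrier) :
    (S.truncMap n).toAlgHom (Ideal.Quotient.mk (CRing.mpow S (n + 1)) a) =
      Ideal.Quotient.mk (CRing.mpow S n) a := rfl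

/-- iterated compatibility -/
lemma compat_le {R' : Type u} [CommRing R'] [Algebra Λ R'] (S : CRing Λ k)
    (g : ∀ n, R' →ₐ[Λ] (S.trunc n).carrier)
    (hg : ∀ n, (S.truncMap n).toAlgHom.comp (g (n + 1)) = g n) {m n : ℕ} (hmn : m ≤ n) (r : R') :
    Ideal.Quotient.factor (Ideal.pow_le_pow_right (Nat.succ_le_succ hmn) :
      maximalIdeal S.carrier ^ (n + 1) ≤ maximalIdeal S.carrier ^ (m + 1)) (g n r) = g m r := by
  induction n, hmn using Nat.le_induction with
  | base =>
    obtain ⟨a, ha⟩ := Ideal.Quotient.mk_surjective (g m r)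
    rw [← ha, Ideal.Quotient.factor_mk]
  | succ n hmn ih =>
    rw [← ih, ← hg n]
    change _ = Ideal.Quotient.factor _ ((S.truncMap n).toAlgHom (g (n + 1) r))
    obtain ⟨a, ha⟩ := Ideal.Quotient.mk_surjective (g (n + 1) r)
    rw [← ha, Ideal.Quotient.factor_mk, truncMap_apply, Ideal.Quotient.factor_mk]

/-- a compatible system of maps to the truncations of a complete local ring comes from a map to
the ring. -/
theorem exists_algHom_of_compat {R' : Type u} [CommRing R'] [Algebra Λ R'] (S : CRing Λ k)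
    (g : ∀ n, R' →ₐ[Λ] (S.trunc n).carrier)
    (hg : ∀ n, (S.truncMap n).toAlgHom.comp (g (n + 1)) = g n) :
    ∃ G : R' →ₐ[Λ] S.carrier, ∀ n, (S.truncHom n).1.comp G = g n := by
  have hc : IsAdicComplete (maximalIdeal S.carrier) S.carrier := S.isAdicComplete
  let f : (m : ℕ) → R' →ₐ[Λ] S.carrier ⧸ maximalIdeal S.carrier ^ m := fun m =>
    (Ideal.Quotient.factorₐ Λ (Ideal.pow_le_pow_right (Nat.le_succ m))).comp (g m)
  have hf : ∀ {m n : ℕ} (hle : m ≤ n),
      (Ideal.Quotient.factorₐ Λ (Ideal.pow_le_pow_right hle)).comp (f n) = f m := by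
    intro m n hle
    ext r
    change Ideal.Quotient.factor (Ideal.pow_le_pow_right hle)
      (Ideal.Quotient.factor (Ideal.pow_le_pow_right (Nat.le_succ n)) (g n r)) =
      Ideal.Quotient.factor (Ideal.pow_le_pow_right (Nat.le_succ m)) (g m r)
    rw [← compat_le S g hg hle r]
    obtain ⟨a, ha⟩ := Ideal.Quotient.mk_surjective (g n r)
    rw [← ha]
    simp only [Ideal.Quotient.factor_mk]
  let h₀ : R' →ₐ[Λ] AdicCompletion (maximalIdeal S.carrier) S.carrier :=
    AdicCompletion.liftAlgHom (maximalIdeal S.carrier) f hf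
  let e : AdicCompletion (maximalIdeal S.carrier) S.carrier →ₐ[Λ] S.carrier :=
    ((AdicCompletion.ofAlgEquiv (maximalIdeal S.carrier)).symm :
      AdicCompletion (maximalIdeal S.carrier) S.carrier →ₐ[S.carrier] S.carrier).restrictScalars Λ
  have key : ∀ (m : ℕ) (x : R'),
      Ideal.Quotient.mk (maximalIdeal S.carrier ^ m) (e (h₀ x)) = f m x := by
    intro m x
    change Ideal.Quotient.mk (maximalIdeal S.carrier ^ m)
      ((AdicCompletion.ofAlgEquiv (maximalIdeal S.carrier)).symm (h₀ x)) = f m x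
    rw [AdicCompletion.mk_ofAlgEquiv_symm]
    exact AdicCompletion.evalₐ_liftAlgHom (maximalIdeal S.carrier) f hf m x
  refine ⟨e.comp h₀, fun n => ?_⟩
  ext r
  change Ideal.Quotient.mk (maximalIdeal S.carrier ^ (n + 1)) (e (h₀ r)) = g n r
  rw [key (n + 1) r, ← hg n]
  change Ideal.Quotient.factor (Ideal.pow_le_pow_right (Nat.le_succ (n + 1))) (g (n + 1) r) =
    (S.truncMap n).toAlgHom (g (n + 1) r)
  obtain ⟨a, ha⟩ := Ideal.Quotient.mk_surjective (g (n + 1) r)
  rw [← ha, Ideal.Quotient.factor_mk, truncMap_apply]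

/-- the augmentation of such a map -/
lemma res_comp_of_truncHom {R' : Type u} [CommRing R'] [Algebra Λ R'] (S : CRing Λ k)
    (G : R' →ₐ[Λ] S.carrier) : S.res.comp G = (S.trunc 0).res.comp ((S.truncHom 0).1.comp G) := by
  rw [← AlgHom.comp_assoc, (S.truncHom 0).2]

end

end Groth.Agent.LibCR29
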