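import Groth.Statements.S2117
import Groth.Agent.Lib.Helper17.SmoothArtin
import Mathlib

set_option autoImplicit false
universe u
open CAlg

namespace Groth.Agent.S2117


open TensorProduct in
/-- `Ω[B⁄ℤ] → Ω[B⁄ZMod p]` is injective. -/
theorem map_int_zmod_injective (p : ℕ) [Fact p.Prime] (B : Type*) [CommRing B] [Algebra (ZMod p) B] :
    Function.Injective (KaehlerDifferential.map ℤ (ZMod p) B B) := by
  rw [injective_iff_map_eq_zero]
  intro ω hω
  obtain ⟨z, rfl⟩ := (KaehlerDifferential.exact_mapBaseChange_map ℤ (ZMod p) B ω).mp hω
  haveI : Subsingleton (Ω[ZMod p⁄ℤ]) :=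
    KaehlerDifferential.subsingleton_of_surjective ℤ (ZMod p) (ZMod.intCast_surjective)
  rw [Subsingleton.elim z 0, map_zero]

open TensorProduct in
theorem mapBaseChange_zmod_injective (p : ℕ) [Fact p.Prime] {k K : Type*} [Field k] [Field K]
    [Algebra k K] [Algebra (ZMod p) k] [Algebra (ZMod p) K] [IsScalarTower (ZMod p) k K]
    (h : Function.Injective (KaehlerDifferential.mapBaseChange ℤ k K)) :
    Function.Injective (KaehlerDifferential.mapBaseChange (ZMod p) k K) := by
  have hsq : ∀ ω : Ω[k⁄ℤ], KaehlerDifferential.map ℤ (ZMod p) K K (KaehlerDifferential.map ℤ ℤ k K ω)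
      = KaehlerDifferential.map (ZMod p) (ZMod p) k K (KaehlerDifferential.map ℤ (ZMod p) k k ω) := by
    intro ω
    have hω : ω ∈ Submodule.span k (Set.range (KaehlerDifferential.D ℤ k)) := by
      rw [KaehlerDifferential.span_range_derivation]; trivial
    induction hω using Submodule.span_induction with
    | mem x hx =>
      obtain ⟨a, rfl⟩ := hx
      simp only [KaehlerDifferential.map_D]
      rfl
    | zero => simp
    | add x y _ _ hx hy => simp only [map_add, hx, hy]
    | smul c x _ hx =>
      have h1 : KaehlerDifferential.map ℤ ℤ k K (c • x)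
          = algebraMap k K c • KaehlerDifferential.map ℤ ℤ k K x := by
        rw [map_smul, algebraMap_smul]
      have h2 : KaehlerDifferential.map (ZMod p) (ZMod p) k K
            (KaehlerDifferential.map ℤ (ZMod p) k k (c • x))
          = algebraMap k K c • KaehlerDifferential.map (ZMod p) (ZMod p) k K
            (KaehlerDifferential.map ℤ (ZMod p) k k x) := by
        rw [map_smul, map_smul, algebraMap_smul]
      rw [h1, h2, map_smul, hx]
  rw [injective_iff_map_eq_zero]
  intro y hy
  obtain ⟨y', rfl⟩ := LinearMap.lTensor_surjective K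
    (KaehlerDifferential.map_surjective ℤ (ZMod p) k) y
  have hcomm : ∀ t : K ⊗[k] Ω[k⁄ℤ],
      KaehlerDifferential.mapBaseChange (ZMod p) k K
        ((KaehlerDifferential.map ℤ (ZMod p) k k).lTensor K t)
      = KaehlerDifferential.map ℤ (ZMod p) K K (KaehlerDifferential.mapBaseChange ℤ k K t) := by
    intro t
    induction t using TensorProduct.induction_on with
    | zero => simp
    | tmul c ω =>
      rw [LinearMap.lTensor_tmul, KaehlerDifferential.mapBaseChange_tmul,
        KaehlerDifferential.mapBaseChange_tmul, map_smul, hsq]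
    | add a b ha hb => simp only [map_add, ha, hb]
  rw [hcomm] at hy
  have h1 : KaehlerDifferential.mapBaseChange ℤ k K y' = 0 :=
    map_int_zmod_injective p K (by rw [hy, map_zero])
  have h2 : y' = 0 := h (by rw [h1, map_zero])
  rw [h2, map_zero]

/-- Let k be a field of characteristic p > 0 and K a field extension of k. Then K is geometrically
reduced over k (equivalently, K/k is separable: every finitely generated subextension is separably
generated) if and only if the natural base-change map K ⊗_k Ω_{k/ℤ} → Ω_{K/ℤ} on absolute Kähler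
differentials is injective. -/
theorem result {k K : Type u} [Field k] [Field K] [Algebra k K] (p : ℕ)
    [Fact p.Prime] [CharP k p] :
    Algebra.IsGeometricallyReduced k K ↔ Function.Injective (KaehlerDifferential.mapBaseChange ℤ k K) := by
  constructor
  · intro h
    haveI : Algebra.FormallySmooth k K :=
      Groth.Agent.Lib.helper17.FieldLift.formallySmooth_of_isGeometricallyReduced
    rw [injective_iff_map_eq_zero]
    intro x hx
    obtain ⟨y, rfl⟩ := (Algebra.H1Cotangent.exact_δ_mapBaseChange ℤ k K x).mp hx
    rw [Subsingleton.elim y 0, map_zero]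
  · intro hinj
    haveI : CharP K p := charP_of_injective_algebraMap (algebraMap k K).injective p
    letI a1 : Algebra (ZMod p) k := ZMod.algebra k p
    letI a2 : Algebra (ZMod p) K := ZMod.algebra K p
    haveI : IsScalarTower (ZMod p) k K := IsScalarTower.of_algebraMap_eq' (Subsingleton.elim _ _)
    have hinj' := mapBaseChange_zmod_injective p hinj
    haveI : Algebra.FormallySmooth (ZMod p) K :=
      Groth.Agent.Lib.helper17.SmoothArtin.formallySmooth_zmod p K
    have hsub : Subsingleton (Algebra.H1Cotangent k K) := by
      refine ⟨fun a b => ?_⟩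
      have hz : ∀ y : Algebra.H1Cotangent k K, y = 0 := by
        intro y
        have h1 : KaehlerDifferential.mapBaseChange (ZMod p) k K
            (Algebra.H1Cotangent.δ (ZMod p) k K y) = 0 :=
          (Algebra.H1Cotangent.exact_δ_mapBaseChange (ZMod p) k K _).mpr ⟨y, rfl⟩
        have h2 : Algebra.H1Cotangent.δ (ZMod p) k K y = 0 := hinj' (by rw [h1, map_zero])
        obtain ⟨z, rfl⟩ := (Algebra.H1Cotangent.exact_map_δ (ZMod p) k K y).mp h2
        rw [Subsingleton.elim z 0, map_zero]
      rw [hz a, hz b]
    haveI : Algebra.FormallySmooth k K := ⟨inferInstance, hsub⟩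
    exact Groth.Agent.Lib.helper17.SmoothArtin.isGeometricallyReduced_of_formallySmooth

end Groth.Agent.S2117
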