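import Groth.Statements.S4523
import Groth.Agent.Lib.Helper17.SmoothArtin
import Groth.Agent.S2117
import Mathlib

set_option autoImplicit false
universe u
open EGA41

namespace Groth.Agent.S4523


theorem geomReduced_iff_injective {k K : Type u} [Field k] [Field K] [Algebra k K] :
    Algebra.IsGeometricallyReduced k K ↔
      Function.Injective (KaehlerDifferential.mapBaseChange ℤ k K) := by
  constructor
  · intro h
    haveI : Algebra.FormallySmooth k K :=
      Groth.Agent.Lib.helper17.FieldLift.formallySmooth_of_isGeometricallyReduced
    rw [injective_iff_map_eq_zero]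
    intro x hx
    obtain ⟨y, rfl⟩ := (Algebra.H1Cotangent.exact_δ_mapBaseChange ℤ k K x).mp hx
    rw [Subsingleton.elim y 0, map_zero]
  · intro h
    obtain ⟨p, hp⟩ := CharP.exists k
    rcases CharP.char_is_prime_or_zero k p with hp' | rfl
    · haveI : Fact p.Prime := ⟨hp'⟩
      exact (Groth.Agent.S2117.result p).mpr h
    · haveI : CharZero k := CharP.charP_to_charZero k
      haveI : Algebra.FormallySmooth k K :=
        Groth.Agent.Lib.helper17.FieldLift.formallySmooth_of_charZero
      exact Groth.Agent.Lib.helper17.SmoothArtin.isGeometricallyReduced_of_formallySmooth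

/-- Let k ⊆ K be fields. Then K is a separable extension of k if and only if the imperfection module
Υ_{K/k} vanishes, i.e. the canonical map Ω_{k/ℤ} ⊗_k K → Ω_{K/ℤ} is injective, and if and only if
every derivation of k into K extends to a derivation of K into itself. (No hypothesis on the
characteristic.) -/
theorem result {k K : Type u} [Field k] [Field K] [Algebra k K] :
    (Algebra.IsGeometricallyReduced k K ↔ EGA41.imperfection ℤ k K = ⊥) ∧
    (Algebra.IsGeometricallyReduced k K ↔
      ∀ D : Derivation ℤ k K, ∃ D' : Derivation ℤ K K, ∀ a : k, D' (algebraMap k K a) = D a) := by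
  classical
  refine ⟨?_, ?_⟩
  · rw [geomReduced_iff_injective, ← LinearMap.ker_eq_bot]
    rfl
  · rw [geomReduced_iff_injective]
    constructor
    · intro hinj D
      obtain ⟨ρ, hρ⟩ := LinearMap.exists_leftInverse_of_injective
        (KaehlerDifferential.mapBaseChange ℤ k K) (LinearMap.ker_eq_bot.mpr hinj)
      let ψ : TensorProduct k K (Ω[k⁄ℤ]) →ₗ[K] K :=
        LinearMap.liftBaseChange K D.liftKaehlerDifferential
      refine ⟨(ψ.comp ρ).compDer (KaehlerDifferential.D ℤ K), fun a => ?_⟩
      show ψ (ρ (KaehlerDifferential.D ℤ K (algebraMap k K a))) = D a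
      have h1 : KaehlerDifferential.D ℤ K (algebraMap k K a)
          = KaehlerDifferential.mapBaseChange ℤ k K ((1 : K) ⊗ₜ[k] KaehlerDifferential.D ℤ k a) := by
        rw [KaehlerDifferential.mapBaseChange_tmul, one_smul, KaehlerDifferential.map_D]
      rw [h1]
      have h2 : ρ (KaehlerDifferential.mapBaseChange ℤ k K
          ((1 : K) ⊗ₜ[k] KaehlerDifferential.D ℤ k a)) = (1 : K) ⊗ₜ[k] KaehlerDifferential.D ℤ k a :=
        LinearMap.congr_fun hρ _
      rw [h2]
      simp [ψ]
    · intro hext
      rw [injective_iff_map_eq_zero]
      intro x hx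
      by_contra hne
      obtain ⟨ψ, hψ⟩ : ∃ ψ : TensorProduct k K (Ω[k⁄ℤ]) →ₗ[K] K, ψ x ≠ 0 := by
        by_contra hcon
        push Not at hcon
        exact hne ((Module.forall_dual_apply_eq_zero_iff K x).mp hcon)
      let D : Derivation ℤ k K :=
        ((ψ.restrictScalars k).comp (TensorProduct.mk k K (Ω[k⁄ℤ]) 1)).compDer
          (KaehlerDifferential.D ℤ k)
      have hD : ∀ a, D a = ψ ((1 : K) ⊗ₜ[k] KaehlerDifferential.D ℤ k a) := fun a => rfl
      obtain ⟨D', hD'⟩ := hext D
      have hpure : ∀ (ω : Ω[k⁄ℤ]) (c : K),
          D'.liftKaehlerDifferential (KaehlerDifferential.mapBaseChange ℤ k K (c ⊗ₜ[k] ω))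
            = ψ (c ⊗ₜ[k] ω) := by
        intro ω
        have hω : ω ∈ Submodule.span k (Set.range (KaehlerDifferential.D ℤ k)) := by
          rw [KaehlerDifferential.span_range_derivation]; trivial
        induction hω using Submodule.span_induction with
        | mem y hy =>
          intro c
          obtain ⟨a, rfl⟩ := hy
          rw [KaehlerDifferential.mapBaseChange_tmul, map_smul, KaehlerDifferential.map_D,
            Derivation.liftKaehlerDifferential_comp_D, hD', hD, ← map_smul,
            TensorProduct.smul_tmul', smul_eq_mul, mul_one]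
        | zero => intro c; simp
        | add y z _ _ hy hz =>
          intro c
          rw [TensorProduct.tmul_add, map_add, map_add, map_add, hy, hz]
        | smul r y _ hy =>
          intro c
          rw [← TensorProduct.smul_tmul]
          exact hy (r • c)
      have hcomp : ∀ t : TensorProduct k K (Ω[k⁄ℤ]),
          D'.liftKaehlerDifferential (KaehlerDifferential.mapBaseChange ℤ k K t) = ψ t := by
        intro t
        induction t using TensorProduct.induction_on with
        | zero => simp
        | tmul c ω => exact hpure ω c
        | add a b ha hb => rw [map_add, map_add, map_add, ha, hb]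
      apply hψ
      rw [← hcomp, hx, map_zero]

end Groth.Agent.S4523
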