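import Groth.Agent.LibCart29a

/-!
# LibCart29f: the index of maps in a six-term exact sequence (helper29)

For an exact sequence `0 → X₁ → X₂ → X₃ → X₄ → X₅ → X₆ → 0` of vector spaces:
* `six_A`: if `X₃`, `X₆` are finite-dimensional then `f₁`, `f₄` are Fredholm and
  `ind f₄ - ind f₁ = dim X₆ - dim X₃`;
* `six_B`: if `X₁`, `X₄` are finite-dimensional then `f₂`, `f₅` are Fredholm and
  `ind f₅ - ind f₂ = dim X₁ - dim X₄`.
-/

set_option autoImplicit false

namespace Groth.Agent.LibCart29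

open Module LinearMap

variable {F : Type*} [Field F]
variable {X₁ X₂ X₃ X₄ X₅ X₆ : Type*}
  [AddCommGroup X₁] [Module F X₁] [AddCommGroup X₂] [Module F X₂]
  [AddCommGroup X₃] [Module F X₃] [AddCommGroup X₄] [Module F X₄]
  [AddCommGroup X₅] [Module F X₅] [AddCommGroup X₆] [Module F X₆]
  (f₁ : X₁ →ₗ[F] X₂) (f₂ : X₂ →ₗ[F] X₃) (f₃ : X₃ →ₗ[F] X₄) (f₄ : X₄ →ₗ[F] X₅)
  (f₅ : X₅ →ₗ[F] X₆)

lemma exact_rangeRestrict {U V W : Type*} [AddCommGroup U] [Module F U] [AddCommGroup V]
    [Module F V] [AddCommGroup W] [Module F W] (f : U →ₗ[F] V) (g : V →ₗ[F] W)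
    (h : Function.Exact f g) : Function.Exact f g.rangeRestrict := by
  intro y
  rw [← h y]
  constructor
  · intro hy
    exact congrArg Subtype.val hy
  · intro hy
    exact Subtype.ext hy

lemma exact_subtype_range {U V W : Type*} [AddCommGroup U] [Module F U] [AddCommGroup V]
    [Module F V] [AddCommGroup W] [Module F W] (f : U →ₗ[F] V) (g : V →ₗ[F] W)
    (h : Function.Exact f g) : Function.Exact (range f).subtype g := by
  intro y
  rw [h y]
  constructor
  · rintro ⟨x, rfl⟩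
    exact ⟨⟨f x, x, rfl⟩, rfl⟩
  · rintro ⟨⟨_, x, rfl⟩, rfl⟩
    exact ⟨x, rfl⟩

theorem six_A (h1 : Function.Injective f₁) (h12 : Function.Exact f₁ f₂)
    (h23 : Function.Exact f₂ f₃) (h34 : Function.Exact f₃ f₄) (h45 : Function.Exact f₄ f₅)
    (h5 : Function.Surjective f₅) [FiniteDimensional F X₃] [FiniteDimensional F X₆] :
    Fred f₁ ∧ Fred f₄ ∧ ind f₄ - ind f₁ = (finrank F X₆ : ℤ) - finrank F X₃ := by
  have hA : Fred f₁ ∧ ind f₁ = (finrank F (range f₂) : ℤ) - finrank F PUnit.{1} := by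
    refine fred_ind_of_exact f₁ (0 : PUnit.{1} →ₗ[F] X₁) f₂.rangeRestrict
      (fun a b _ => Subsingleton.elim a b) ?_ (exact_rangeRestrict f₁ f₂ h12)
      f₂.surjective_rangeRestrict
    intro y
    constructor
    · intro hy
      have h0 : y = 0 := h1 (by rw [hy, map_zero])
      exact ⟨PUnit.unit, h0.symm⟩
    · rintro ⟨_, rfl⟩
      simp
  have hB : Fred f₄ ∧ ind f₄ = (finrank F X₆ : ℤ) - finrank F (range f₃) :=
    fred_ind_of_exact f₄ (range f₃).subtype f₅ Subtype.val_injective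
      (exact_subtype_range f₃ f₄ h34) h45 h5
  refine ⟨hA.1, hB.1, ?_⟩
  have hrn := LinearMap.finrank_range_add_finrank_ker f₃
  have hk : ker f₃ = range f₂ := (LinearMap.exact_iff.1 h23)
  rw [hk] at hrn
  have hP : finrank F PUnit.{1} = 0 := Module.finrank_zero_of_subsingleton
  rw [hA.2, hB.2, hP, ← hrn]
  push_cast
  ring

theorem six_B (h1 : Function.Injective f₁) (h12 : Function.Exact f₁ f₂)
    (h23 : Function.Exact f₂ f₃) (h34 : Function.Exact f₃ f₄) (h45 : Function.Exact f₄ f₅)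
    (h5 : Function.Surjective f₅) [FiniteDimensional F X₁] [FiniteDimensional F X₄] :
    Fred f₂ ∧ Fred f₅ ∧ ind f₅ - ind f₂ = (finrank F X₁ : ℤ) - finrank F X₄ := by
  have hA : Fred f₂ ∧ ind f₂ = (finrank F (range f₃) : ℤ) - finrank F X₁ :=
    fred_ind_of_exact f₂ f₁ f₃.rangeRestrict h1 h12 (exact_rangeRestrict f₂ f₃ h23)
      f₃.surjective_rangeRestrict
  have hB : Fred f₅ ∧ ind f₅ = (finrank F PUnit.{1} : ℤ) - finrank F (range f₄) := by
    refine fred_ind_of_exact f₅ (range f₄).subtype (0 : X₆ →ₗ[F] PUnit.{1})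
      Subtype.val_injective (exact_subtype_range f₄ f₅ h45) ?_
      (fun a => ⟨0, Subsingleton.elim _ _⟩)
    intro y
    constructor
    · intro _
      exact h5 y
    · intro _
      exact Subsingleton.elim _ _
  refine ⟨hA.1, hB.1, ?_⟩
  have hrn := LinearMap.finrank_range_add_finrank_ker f₄
  have hk : ker f₄ = range f₃ := (LinearMap.exact_iff.1 h34)
  rw [hk] at hrn
  have hP : finrank F PUnit.{1} = 0 := Module.finrank_zero_of_subsingleton
  rw [hA.2, hB.2, hP, ← hrn]
  push_cast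
  ring

end Groth.Agent.LibCart29
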