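import Groth.Agent.LibCart29e
import Groth.Agent.LibCart29f
import Groth.Agent.S9319
import Groth.Agent.Lib.Helper19.CohenK4

/-!
# LibCart29g: `Υ_{L/K/ℤ} ≅ H₁(L_{L/K})` for fields, and Cartier's equality with `H₁` (helper29)
-/

set_option autoImplicit false
universe u

namespace Groth.Agent.LibCart29

open Module LinearMap TensorProduct Algebra
open Groth.Agent.Lib.helper19.CohenK

section delta

variable (K L : Type u) [Field K] [Field L] [Algebra K L]

/-- `H₁(L_{L/ℤ}) → H₁(L_{L/K})` is zero: it factors through `H₁(L_{L/P}) = 0`, `P` the prime field. -/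
theorem h1map_eq_zero (x : Algebra.H1Cotangent ℤ L) :
    Algebra.H1Cotangent.map ℤ K L L x = 0 := by
  haveI := perfectField_P0 K
  letI : Algebra (P0 K) K := (P0.incl K).toAlgebra
  letI : Algebra (P0 K) L := ((algebraMap K L).comp (P0.incl K)).toAlgebra
  haveI : IsScalarTower (P0 K) K L := IsScalarTower.of_algebraMap_eq fun _ => rfl
  have hsub : Subsingleton (Algebra.H1Cotangent (P0 K) L) :=
    Groth.Agent.S9319.subsingleton_h1Cotangent_of_perfectField (P0 K) L
  have hcomp : Algebra.H1Cotangent.map ℤ K L L x =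
      Algebra.H1Cotangent.map (P0 K) K L L (Algebra.H1Cotangent.map ℤ (P0 K) L L x) := by
    unfold Algebra.H1Cotangent.map
    rw [← Extension.H1Cotangent.map_comp_apply]
    exact congrFun (congrArg DFunLike.coe (Extension.H1Cotangent.map_eq _ _)) x
  rw [hcomp, Subsingleton.elim (Algebra.H1Cotangent.map ℤ (P0 K) L L x) 0, map_zero]

theorem delta_injective : Function.Injective (Algebra.H1Cotangent.δ ℤ K L) := by
  rw [injective_iff_map_eq_zero]
  intro y hy
  obtain ⟨x, rfl⟩ := (Algebra.H1Cotangent.exact_map_δ ℤ K L y).mp hy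
  exact h1map_eq_zero K L x

/-- `H₁(L_{L/K}) ≃ Υ_{L/K/ℤ}` -/
noncomputable def h1EquivImperfection :
    Algebra.H1Cotangent K L ≃ₗ[L] EGA41.imperfection ℤ K L :=
  (LinearEquiv.ofInjective _ (delta_injective K L)).trans
    (LinearEquiv.ofEq _ _ (imperfection_eq_range_δ ℤ K L).symm)

/-- **Cartier's equality** with `H₁` of the naive cotangent complex. -/
theorem cartier_h1 [Algebra.EssFiniteType K L] :
    Module.Finite L (Ω[L⁄K]) ∧ Module.Finite L (Algebra.H1Cotangent K L) ∧
      (finrank L (Ω[L⁄K]) : ℤ) - finrank L (Algebra.H1Cotangent K L) =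
        Cardinal.toNat (Algebra.trdeg K L) := by
  obtain ⟨⟨h1, h2⟩, h3⟩ := fg_eq_int K L
  refine ⟨h1, Module.Finite.equiv (h1EquivImperfection K L).symm, ?_⟩
  rw [LinearEquiv.finrank_eq (h1EquivImperfection K L), h3]
  rfl

end delta

end Groth.Agent.LibCart29
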