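import Groth.Agent.LibCart29g

/-!
# LibCart29h: the Cartier square (helper29)

`k → K`, `k → k'`, `k' → K'`, `K → K'` a commutative square of fields, `k'/k` and `K'/K` finitely
generated: the comparison maps `α : K' ⊗ Ω_{K/k} → Ω_{K'/k'}`, `β : K' ⊗ H₁(L_{K/k}) → H₁(L_{K'/k'})`
are Fredholm and `ind α - ind β = trdeg_K K' - trdeg_k k'`.
-/

set_option autoImplicit false
universe u

namespace Groth.Agent.LibCart29

open Module LinearMap TensorProduct Algebra KaehlerDifferential

section tower1

variable (k K K' : Type u) [Field k] [Field K] [Field K'] [Algebra k K] [Algebra K K']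
  [Algebra k K'] [IsScalarTower k K K']

/-- the tower `k → K → K'` with `K'/K` finitely generated -/
theorem tower_one [Algebra.EssFiniteType K K'] :
    Fred ((Algebra.H1Cotangent.map k k K K').liftBaseChange K') ∧
    Fred (mapBaseChange k K K') ∧
    ind (mapBaseChange k K K') - ind ((Algebra.H1Cotangent.map k k K K').liftBaseChange K') =
      Cardinal.toNat (Algebra.trdeg K K') := by
  obtain ⟨hf1, hf2, heq⟩ := cartier_h1 K K'
  haveI := hf1
  haveI := hf2
  obtain ⟨h1, h2, h3⟩ := six_A ((Algebra.H1Cotangent.map k k K K').liftBaseChange K')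
    (Algebra.H1Cotangent.map k K K' K') (Algebra.H1Cotangent.δ k K K') (mapBaseChange k K K')
    (KaehlerDifferential.map k K K' K')
    Groth.Agent.S9319.result
    (Algebra.H1Cotangent.exact_liftBaseChange_map_of_flat k K K')
    (Algebra.H1Cotangent.exact_map_δ k K K')
    (Algebra.H1Cotangent.exact_δ_mapBaseChange k K K')
    (KaehlerDifferential.exact_mapBaseChange_map k K K')
    (KaehlerDifferential.map_surjective k K K')
  exact ⟨h1, h2, h3.trans heq⟩

end tower1

section tower2

variable (k k' K' : Type u) [Field k] [Field k'] [Field K'] [Algebra k k'] [Algebra k' K']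
  [Algebra k K'] [IsScalarTower k k' K']

/-- the tower `k → k' → K'` with `k'/k` finitely generated -/
theorem tower_two [Algebra.EssFiniteType k k'] :
    Fred (Algebra.H1Cotangent.map k k' K' K') ∧
    Fred (KaehlerDifferential.map k k' K' K') ∧
    ind (KaehlerDifferential.map k k' K' K') - ind (Algebra.H1Cotangent.map k k' K' K') =
      - (Cardinal.toNat (Algebra.trdeg k k') : ℤ) := by
  obtain ⟨hf1, hf2, heq⟩ := cartier_h1 k k'
  haveI := hf1
  haveI := hf2
  obtain ⟨h1, h2, h3⟩ := six_B ((Algebra.H1Cotangent.map k k k' K').liftBaseChange K')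
    (Algebra.H1Cotangent.map k k' K' K') (Algebra.H1Cotangent.δ k k' K') (mapBaseChange k k' K')
    (KaehlerDifferential.map k k' K' K')
    Groth.Agent.S9319.result
    (Algebra.H1Cotangent.exact_liftBaseChange_map_of_flat k k' K')
    (Algebra.H1Cotangent.exact_map_δ k k' K')
    (Algebra.H1Cotangent.exact_δ_mapBaseChange k k' K')
    (KaehlerDifferential.exact_mapBaseChange_map k k' K')
    (KaehlerDifferential.map_surjective k k' K')
  refine ⟨h1, h2, ?_⟩
  rw [h3, Module.finrank_baseChange, Module.finrank_baseChange]
  linarith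

end tower2

section square

variable (k k' K K' : Type u) [Field k] [Field k'] [Field K] [Field K'] [Algebra k k']
  [Algebra k K] [Algebra k K'] [Algebra k' K'] [Algebra K K'] [IsScalarTower k k' K']
  [IsScalarTower k K K']

lemma kaehler_map_comp (ω : Ω[K⁄k]) :
    KaehlerDifferential.map k k' K K' ω =
      KaehlerDifferential.map k k' K' K' (KaehlerDifferential.map k k K K' ω) := by
  have hω : ω ∈ Submodule.span K (Set.range (KaehlerDifferential.D k K)) := by
    rw [KaehlerDifferential.span_range_derivation]; trivial
  induction hω using Submodule.span_induction with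
  | mem y hy =>
    obtain ⟨z, rfl⟩ := hy
    simp only [KaehlerDifferential.map_D]
    rfl
  | zero => simp
  | add a b _ _ ha hb => simp only [map_add, ha, hb]
  | smul c a _ ha =>
    simp only [LinearMap.map_smul_of_tower, ha]

lemma kaehler_comp :
    (KaehlerDifferential.map k k' K K').liftBaseChange K' =
      (KaehlerDifferential.map k k' K' K') ∘ₗ (mapBaseChange k K K') := by
  apply LinearMap.ext
  intro z
  induction z using TensorProduct.induction_on with
  | zero => simp
  | add a b ha hb => rw [map_add, map_add, ha, hb]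
  | tmul x ω =>
    rw [LinearMap.liftBaseChange_tmul, LinearMap.comp_apply, mapBaseChange_tmul, map_smul,
      kaehler_map_comp]

lemma h1_comp :
    (Algebra.H1Cotangent.map k k' K K').liftBaseChange K' =
      (Algebra.H1Cotangent.map k k' K' K') ∘ₗ
        ((Algebra.H1Cotangent.map k k K K').liftBaseChange K') := by
  rw [LinearMap.liftBaseChange_comp]
  congr 1
  unfold Algebra.H1Cotangent.map
  rw [← Extension.H1Cotangent.map_comp]
  exact Extension.H1Cotangent.map_eq _ _

theorem cartier_square [Algebra.EssFiniteType k k'] [Algebra.EssFiniteType K K'] :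
    Fred ((KaehlerDifferential.map k k' K K').liftBaseChange K') ∧
    Fred ((Algebra.H1Cotangent.map k k' K K').liftBaseChange K') ∧
    ind ((KaehlerDifferential.map k k' K K').liftBaseChange K') -
      ind ((Algebra.H1Cotangent.map k k' K K').liftBaseChange K') =
      (Cardinal.toNat (Algebra.trdeg K K') : ℤ) - Cardinal.toNat (Algebra.trdeg k k') := by
  obtain ⟨a1, a2, a3⟩ := tower_one k K K'
  obtain ⟨b1, b2, b3⟩ := tower_two k k' K'
  rw [kaehler_comp, h1_comp]
  refine ⟨fred_comp a2 b2, fred_comp a1 b1, ?_⟩
  rw [ind_comp a2 b2, ind_comp a1 b1]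
  linarith

end square

end Groth.Agent.LibCart29
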