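import Mathlib
import Groth.Agent.Lib.Helper10.DetV1
import Groth.Agent.Lib.Helper24.SmoothRegular

/-!
# Affine cones and their charts (helper29), part 1

`S = k[x_σ]`, `s` a set of homogeneous polynomials, `I = (s)`.
`Cone s = S/I`, `Chart s j = S/(I + (x_j - 1))`.

* `coneEquiv`: `(S/I)[1/x_j] ≃ₐ[k] (Chart s j)[T;T⁻¹]`.
* `isRegularLocalRing_of_chart_smooth`: if `Chart s j` is smooth over `k`, the cone is regular at
  every prime not containing `x_j`.
-/

set_option autoImplicit false
set_option linter.style.haveILetI false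
universe u

open MvPolynomial

noncomputable section

namespace Groth.Agent.LibConeCI29

variable {k : Type u} [Field k] {σ : Type} (s : Set (MvPolynomial σ k)) (j : σ)

/-- The chart ideal `I + (x_j - 1)`. -/
abbrev chartIdeal : Ideal (MvPolynomial σ k) :=
  Ideal.span s ⊔ Ideal.span {(X j - 1 : MvPolynomial σ k)}

/-- The chart ring `S/(I + (x_j - 1))`. -/
abbrev Chart : Type u := MvPolynomial σ k ⧸ chartIdeal s j

/-- The cone ring `S/I`. -/
abbrev Cone : Type u := MvPolynomial σ k ⧸ Ideal.span s

/-- The localized cone. -/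
abbrev ConeAway : Type u :=
  Localization.Away (Ideal.Quotient.mk (Ideal.span s) (X j : MvPolynomial σ k))

local notation "LT" => LaurentPolynomial.T
local notation "LC" => LaurentPolynomial.C

/-- `x_i ↦ x̄_i T`. -/
def alphaPoly : MvPolynomial σ k →ₐ[k] LaurentPolynomial (Chart s j) :=
  aeval fun i => LT 1 * LC (Ideal.Quotient.mk (chartIdeal s j) (X i))

theorem aeval_LC (g : MvPolynomial σ k) :
    aeval (fun i => (LC (Ideal.Quotient.mk (chartIdeal s j) (X i)) :
      LaurentPolynomial (Chart s j))) g = LC (Ideal.Quotient.mk (chartIdeal s j) g) := by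
  induction g using MvPolynomial.induction_on with
  | C a =>
    rw [aeval_C, LaurentPolynomial.algebraMap_apply]
    rfl
  | add p q hp hq => rw [map_add, hp, hq, map_add, map_add]
  | mul_X p i hp => rw [map_mul, hp, aeval_X, map_mul, map_mul]

theorem alphaPoly_of_isHomogeneous {g : MvPolynomial σ k} {d : ℕ} (hg : g.IsHomogeneous d) :
    alphaPoly s j g = LT d * LC (Ideal.Quotient.mk (chartIdeal s j) g) := by
  unfold alphaPoly
  rw [Groth.Agent.Lib.helper10.DetV.aeval_mul_of_isHomogeneous (LT 1)
    (fun i => LC (Ideal.Quotient.mk (chartIdeal s j) (X i))) hg, LaurentPolynomial.T_pow, mul_one,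
    aeval_LC]

variable (hs : ∀ g ∈ s, ∃ d : ℕ, g.IsHomogeneous d)

include hs in
theorem alphaPoly_eq_zero (g : MvPolynomial σ k) (hg : g ∈ Ideal.span s) : alphaPoly s j g = 0 := by
  have hle : Ideal.span s ≤ RingHom.ker (alphaPoly s j).toRingHom := by
    rw [Ideal.span_le]
    intro g hg
    obtain ⟨d, hd⟩ := hs g hg
    change alphaPoly s j g = 0
    rw [alphaPoly_of_isHomogeneous s j hd]
    have : Ideal.Quotient.mk (chartIdeal s j) g = 0 :=
      Ideal.Quotient.eq_zero_iff_mem.mpr (Ideal.mem_sup_left (Ideal.subset_span hg))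
    rw [this, map_zero, mul_zero]
  exact hle hg

/-- `α` on the cone. -/
def alphaCone : Cone s →ₐ[k] LaurentPolynomial (Chart s j) :=
  Ideal.Quotient.liftₐ (Ideal.span s) (alphaPoly s j) (alphaPoly_eq_zero s j hs)

theorem alphaCone_mk (g : MvPolynomial σ k) :
    alphaCone s j hs (Ideal.Quotient.mk (Ideal.span s) g) = alphaPoly s j g := rfl

theorem mk_X_self : Ideal.Quotient.mk (chartIdeal s j) (X j) = 1 := by
  rw [← sub_eq_zero, ← map_one (Ideal.Quotient.mk (chartIdeal s j)), ← map_sub]
  exact Ideal.Quotient.eq_zero_iff_mem.mpr (Ideal.mem_sup_right (Ideal.subset_span rfl))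

theorem alphaPoly_X (i : σ) :
    alphaPoly s j (X i) = LT 1 * LC (Ideal.Quotient.mk (chartIdeal s j) (X i)) := by
  unfold alphaPoly
  rw [aeval_X]

theorem alphaPoly_X_self : alphaPoly s j (X j) = LT 1 := by
  rw [alphaPoly_X, mk_X_self, map_one, mul_one]

theorem isUnit_alphaCone
    (y : Submonoid.powers (Ideal.Quotient.mk (Ideal.span s) (X j : MvPolynomial σ k))) :
    IsUnit (alphaCone s j hs y) := by
  obtain ⟨_, n, rfl⟩ := y
  change IsUnit (alphaCone s j hs
    ((Ideal.Quotient.mk (Ideal.span s) (X j : MvPolynomial σ k)) ^ n))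
  rw [map_pow (alphaCone s j hs), alphaCone_mk, alphaPoly_X_self]
  exact (LaurentPolynomial.isUnit_T 1).pow n

/-- `α` on the localized cone. -/
def alpha : ConeAway s j →ₐ[k] LaurentPolynomial (Chart s j) :=
  IsLocalization.liftAlgHom (A := k) (R := Cone s) (S := ConeAway s j)
    (P := LaurentPolynomial (Chart s j))
    (M := Submonoid.powers (Ideal.Quotient.mk (Ideal.span s) (X j : MvPolynomial σ k)))
    (f := alphaCone s j hs) (isUnit_alphaCone s j hs)

theorem alpha_algebraMap (x : Cone s) :
    alpha s j hs (algebraMap (Cone s) (ConeAway s j) x) = alphaCone s j hs x := by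
  unfold alpha
  rw [IsLocalization.liftAlgHom_apply, IsLocalization.lift_eq]
  rfl

/-- The class of `x_j` in the localized cone. -/
abbrev xj : ConeAway s j :=
  algebraMap (Cone s) (ConeAway s j) (Ideal.Quotient.mk (Ideal.span s) (X j))

/-- The inverse of `x_j` in the localized cone. -/
abbrev xjInv : ConeAway s j :=
  IsLocalization.Away.invSelf (S := ConeAway s j)
    (Ideal.Quotient.mk (Ideal.span s) (X j : MvPolynomial σ k))

theorem xj_mul_xjInv : xj s j * xjInv s j = 1 :=
  IsLocalization.Away.mul_invSelf _

/-- The canonical map `S → (S/I)[1/x_j]`. -/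
def toAway : MvPolynomial σ k →ₐ[k] ConeAway s j :=
  (IsScalarTower.toAlgHom k (Cone s) (ConeAway s j)).comp (Ideal.Quotient.mkₐ k (Ideal.span s))

theorem toAway_apply (g : MvPolynomial σ k) :
    toAway s j g = algebraMap (Cone s) (ConeAway s j) (Ideal.Quotient.mk (Ideal.span s) g) := rfl

/-- `x_i ↦ x_i / x_j`. -/
def betaPoly : MvPolynomial σ k →ₐ[k] ConeAway s j :=
  aeval fun i => xjInv s j * toAway s j (X i)

theorem betaPoly_X (i : σ) : betaPoly s j (X i) = xjInv s j * toAway s j (X i) := by
  unfold betaPoly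
  rw [aeval_X]

theorem betaPoly_of_isHomogeneous {g : MvPolynomial σ k} {d : ℕ} (hg : g.IsHomogeneous d) :
    betaPoly s j g = xjInv s j ^ d * toAway s j g := by
  unfold betaPoly
  rw [Groth.Agent.Lib.helper10.DetV.aeval_mul_of_isHomogeneous (xjInv s j)
    (fun i => toAway s j (X i)) hg]
  congr 1
  have := MvPolynomial.aeval_unique (toAway s j)
  conv_rhs => rw [this]
  rfl

include hs in
theorem betaPoly_eq_zero (g : MvPolynomial σ k) (hg : g ∈ chartIdeal s j) :
    betaPoly s j g = 0 := by
  have hle : chartIdeal s j ≤ RingHom.ker (betaPoly s j).toRingHom := by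
    unfold chartIdeal
    rw [sup_le_iff, Ideal.span_le, Ideal.span_le]
    constructor
    · intro g hg
      obtain ⟨d, hd⟩ := hs g hg
      change betaPoly s j g = 0
      rw [betaPoly_of_isHomogeneous s j hd, toAway_apply]
      have : Ideal.Quotient.mk (Ideal.span s) g = 0 :=
        Ideal.Quotient.eq_zero_iff_mem.mpr (Ideal.subset_span hg)
      rw [this, map_zero, mul_zero]
    · intro g hg
      rw [Set.mem_singleton_iff] at hg
      subst hg
      change betaPoly s j (X j - 1) = 0
      rw [map_sub, map_one, betaPoly_X, toAway_apply, mul_comm]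
      rw [sub_eq_zero]
      exact xj_mul_xjInv s j
  exact hle hg

/-- `β` on the chart. -/
def betaChart : Chart s j →ₐ[k] ConeAway s j :=
  Ideal.Quotient.liftₐ (chartIdeal s j) (betaPoly s j) (betaPoly_eq_zero s j hs)

theorem betaChart_mk (g : MvPolynomial σ k) :
    betaChart s j hs (Ideal.Quotient.mk (chartIdeal s j) g) = betaPoly s j g := rfl

/-- `x_j` as a unit. -/
def xjUnit : (ConeAway s j)ˣ :=
  (IsLocalization.Away.algebraMap_isUnit (S := ConeAway s j)
    (Ideal.Quotient.mk (Ideal.span s) (X j : MvPolynomial σ k))).unit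

theorem xjUnit_val : (xjUnit s j : ConeAway s j) = xj s j := rfl

/-- `β : R_j[T;T⁻¹] → (S/I)[1/x_j]`, `T ↦ x_j`. -/
def beta : LaurentPolynomial (Chart s j) →+* ConeAway s j :=
  LaurentPolynomial.eval₂ (betaChart s j hs : Chart s j →+* ConeAway s j) (xjUnit s j)

theorem beta_C (a : Chart s j) : beta s j hs (LC a) = betaChart s j hs a := by
  unfold beta
  rw [LaurentPolynomial.eval₂_C]
  rfl

theorem beta_T_one : beta s j hs (LT 1) = xj s j := by
  unfold beta
  have := LaurentPolynomial.eval₂_T_n (betaChart s j hs : Chart s j →+* ConeAway s j)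
    (xjUnit s j) 1
  rw [pow_one] at this
  exact this

theorem alpha_xj : alpha s j hs (xj s j) = LT 1 := by
  unfold xj
  rw [alpha_algebraMap, alphaCone_mk, alphaPoly_X_self]

theorem LT_neg_one_mul : (LT (-1) : LaurentPolynomial (Chart s j)) * LT 1 = 1 := by
  rw [← LaurentPolynomial.T_add]
  exact LaurentPolynomial.T_zero

theorem alpha_xjInv : alpha s j hs (xjInv s j) = LT (-1) := by
  have h1 : alpha s j hs (xj s j) * alpha s j hs (xjInv s j) = 1 := by
    rw [← map_mul, xj_mul_xjInv, map_one]
  rw [alpha_xj] at h1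
  calc alpha s j hs (xjInv s j) = (LT (-1) * LT 1) * alpha s j hs (xjInv s j) := by
        rw [LT_neg_one_mul, one_mul]
    _ = LT (-1) * (LT 1 * alpha s j hs (xjInv s j)) := by rw [mul_assoc]
    _ = LT (-1) := by rw [h1, mul_one]

theorem beta_alpha (a : ConeAway s j) : beta s j hs (alpha s j hs a) = a := by
  have h : (beta s j hs).comp (alpha s j hs : ConeAway s j →+* LaurentPolynomial (Chart s j)) =
      RingHom.id _ := by
    apply IsLocalization.ringHom_ext
      (Submonoid.powers (Ideal.Quotient.mk (Ideal.span s) (X j : MvPolynomial σ k)))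
    apply Ideal.Quotient.ringHom_ext
    apply MvPolynomial.ringHom_ext
    · intro r
      change beta s j hs (alpha s j hs (algebraMap (Cone s) (ConeAway s j)
        (Ideal.Quotient.mk (Ideal.span s) (C r)))) =
        algebraMap (Cone s) (ConeAway s j) (Ideal.Quotient.mk (Ideal.span s) (C r))
      rw [alpha_algebraMap, alphaCone_mk]
      have e1 : (C r : MvPolynomial σ k) = algebraMap k _ r := rfl
      rw [e1, AlgHom.commutes, LaurentPolynomial.algebraMap_apply, beta_C, AlgHom.commutes]
      rfl
    · intro i
      change beta s j hs (alpha s j hs (algebraMap (Cone s) (ConeAway s j)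
        (Ideal.Quotient.mk (Ideal.span s) (X i)))) =
        algebraMap (Cone s) (ConeAway s j) (Ideal.Quotient.mk (Ideal.span s) (X i))
      rw [alpha_algebraMap, alphaCone_mk, alphaPoly_X, map_mul, beta_T_one, beta_C, betaChart_mk,
        betaPoly_X, ← mul_assoc, xj_mul_xjInv, one_mul, toAway_apply]
  exact RingHom.congr_fun h a

theorem alpha_betaChart (a : Chart s j) : alpha s j hs (betaChart s j hs a) = LC a := by
  have h : (alpha s j hs : ConeAway s j →+* LaurentPolynomial (Chart s j)).comp
      (betaChart s j hs : Chart s j →+* ConeAway s j) = LC := by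
    apply Ideal.Quotient.ringHom_ext
    apply MvPolynomial.ringHom_ext
    · intro r
      change alpha s j hs (betaChart s j hs (Ideal.Quotient.mk (chartIdeal s j) (C r))) =
        LC (Ideal.Quotient.mk (chartIdeal s j) (C r))
      rw [betaChart_mk]
      have e1 : (C r : MvPolynomial σ k) = algebraMap k _ r := rfl
      rw [e1, AlgHom.commutes, AlgHom.commutes, LaurentPolynomial.algebraMap_apply]
      rfl
    · intro i
      change alpha s j hs (betaChart s j hs (Ideal.Quotient.mk (chartIdeal s j) (X i))) =
        LC (Ideal.Quotient.mk (chartIdeal s j) (X i))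
      rw [betaChart_mk, betaPoly_X, map_mul, alpha_xjInv, toAway_apply, alpha_algebraMap,
        alphaCone_mk, alphaPoly_X, ← mul_assoc, LT_neg_one_mul, one_mul]
  exact RingHom.congr_fun h a

theorem alpha_beta (p : LaurentPolynomial (Chart s j)) : alpha s j hs (beta s j hs p) = p := by
  have hT1 : alpha s j hs (beta s j hs (LT 1)) = LT 1 := by
    rw [beta_T_one, alpha_xj]
  have hTm1 : alpha s j hs (beta s j hs (LT (-1))) = LT (-1) := by
    have h1 : alpha s j hs (beta s j hs (LT (-1))) * alpha s j hs (beta s j hs (LT 1)) = 1 := by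
      rw [← map_mul, ← map_mul, LT_neg_one_mul, map_one, map_one]
    rw [hT1] at h1
    have h2 : (LT 1 : LaurentPolynomial (Chart s j)) * LT (-1) = 1 := by
      rw [← LaurentPolynomial.T_add]
      exact LaurentPolynomial.T_zero
    calc alpha s j hs (beta s j hs (LT (-1)))
        = alpha s j hs (beta s j hs (LT (-1))) * (LT 1 * LT (-1)) := by rw [h2, mul_one]
      _ = (alpha s j hs (beta s j hs (LT (-1))) * LT 1) * LT (-1) := by rw [mul_assoc]
      _ = LT (-1) := by rw [h1, one_mul]
  induction p using LaurentPolynomial.induction_on with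
  | h_C a => rw [beta_C, alpha_betaChart]
  | h_add hp hq => rw [map_add, map_add, hp, hq]
  | h_C_mul_T n a h =>
    rw [LaurentPolynomial.T_add, ← mul_assoc, map_mul, map_mul, h, hT1]
  | h_C_mul_T_Z n a h =>
    rw [sub_eq_add_neg, LaurentPolynomial.T_add, ← mul_assoc, map_mul, map_mul, h, hTm1]

/-- **The cone away from `x_j` is a Laurent polynomial ring over the chart.** -/
def coneEquiv : ConeAway s j ≃ₐ[k] LaurentPolynomial (Chart s j) :=
  AlgEquiv.ofBijective (alpha s j hs)
    ⟨Function.LeftInverse.injective (g := beta s j hs) (beta_alpha s j hs),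
     Function.RightInverse.surjective (g := beta s j hs) (alpha_beta s j hs)⟩

theorem formallySmooth_laurent (R : Type u) [CommRing R] [Algebra k R]
    [Algebra.FormallySmooth k R] : Algebra.FormallySmooth k (LaurentPolynomial R) := by
  haveI : IsScalarTower R (Polynomial R) (LaurentPolynomial R) :=
    IsScalarTower.of_algebraMap_eq fun r => by
      rw [LaurentPolynomial.algebraMap_eq_toLaurent]
      change LC r = Polynomial.toLaurent (Polynomial.C r)
      rw [Polynomial.toLaurent_C]
  haveI : Algebra.FormallySmooth (Polynomial R) (LaurentPolynomial R) :=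
    Algebra.FormallySmooth.of_isLocalization (Submonoid.powers (Polynomial.X : Polynomial R))
  haveI : Algebra.FormallySmooth R (LaurentPolynomial R) :=
    Algebra.FormallySmooth.comp R (Polynomial R) (LaurentPolynomial R)
  exact Algebra.FormallySmooth.comp k R (LaurentPolynomial R)

include hs in
theorem formallySmooth_coneAway [Algebra.FormallySmooth k (Chart s j)] :
    Algebra.FormallySmooth k (ConeAway s j) := by
  haveI := formallySmooth_laurent (k := k) (Chart s j)
  exact Algebra.FormallySmooth.of_equiv (R := k) (A := LaurentPolynomial (Chart s j))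
    (B := ConeAway s j) (coneEquiv s j hs).symm

include hs in
/-- If the chart `S/(I + (x_j - 1))` is smooth over `k`, then the cone `S/I` is regular at every
prime not containing `x_j`. -/
theorem isRegularLocalRing_of_chart_smooth [Finite σ] [Algebra.FormallySmooth k (Chart s j)]
    (Q : Ideal (Cone s)) [Q.IsPrime]
    (hQ : Ideal.Quotient.mk (Ideal.span s) (X j : MvPolynomial σ k) ∉ Q) :
    IsRegularLocalRing (Localization.AtPrime Q) := by
  haveI : Algebra.FinitePresentation k (Cone s) :=
    (Algebra.FinitePresentation.of_finiteType).mp inferInstance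
  haveI := formallySmooth_coneAway s j hs
  have h1 := (Algebra.basicOpen_subset_smoothLocus_iff (R := k) (A := Cone s)
    (f := Ideal.Quotient.mk (Ideal.span s) (X j : MvPolynomial σ k))).mpr inferInstance
  have h2 : (⟨Q, inferInstance⟩ : PrimeSpectrum (Cone s)) ∈ Algebra.smoothLocus k (Cone s) :=
    h1 hQ
  haveI : Algebra.IsSmoothAt k Q := h2
  exact Groth.Agent.Lib.Helper24.SmoothRegular.isRegularLocalRing_atPrime_of_smoothAt k (Cone s) Q

end Groth.Agent.LibConeCI29
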