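import Mathlib
import Groth.Agent.LibConeCI29a
import Groth.Agent.LibBertiniInf29a

/-!
# Affine cones and their charts (helper29), part 2: the Bertini step

`genPoly e d c = ∑ c_i x_p x_q^(d-1)` (`e i = (p, q)`), a homogeneous polynomial of degree `d`.
`exists_poly_chart_smooth`: over an algebraically closed field, if the chart `S/(I + (x_j - 1))`
is smooth then so is the chart of `I + (genPoly e d c)` for all `c` outside a proper hypersurface.
-/

set_option autoImplicit false
set_option linter.style.haveILetI false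
universe u

open MvPolynomial

noncomputable section

namespace Groth.Agent.LibConeCI29

variable {k : Type u} [Field k] {σ : Type} {m : ℕ} (e : Fin m ≃ σ × σ)

/-- The monomial `x_p x_q^(d-1)`. -/
def mon (d : ℕ) (p : σ × σ) : MvPolynomial σ k := X p.1 * X p.2 ^ (d - 1)

theorem mon_isHomogeneous {d : ℕ} (hd : 0 < d) (p : σ × σ) :
    (mon (k := k) d p).IsHomogeneous d := by
  have h := (isHomogeneous_X k p.1).mul ((isHomogeneous_X k p.2).pow (d - 1))
  have e1 : 1 + 1 * (d - 1) = d := by omega
  rw [e1] at h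
  exact h

/-- The general member `∑ c_i x_p x_q^(d-1)`. -/
def genPoly (d : ℕ) (c : Fin m → k) : MvPolynomial σ k := ∑ i, C (c i) * mon d (e i)

theorem genPoly_isHomogeneous {d : ℕ} (hd : 0 < d) (c : Fin m → k) :
    (genPoly e d c).IsHomogeneous d := by
  unfold genPoly
  apply IsHomogeneous.sum
  intro i _
  have h := (isHomogeneous_C σ (c i)).mul (mon_isHomogeneous (k := k) hd (e i))
  rwa [zero_add] at h

theorem chartIdeal_insert (s : Set (MvPolynomial σ k)) (j : σ) (g : MvPolynomial σ k) :
    chartIdeal (insert g s) j = chartIdeal s j ⊔ Ideal.span {g} := by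
  unfold chartIdeal
  rw [Ideal.span_insert]
  ac_rfl

/-- The chart of `I + (g)` is the quotient of the chart of `I` by the class of `g`. -/
def chartInsertEquiv (s : Set (MvPolynomial σ k)) (j : σ) (g : MvPolynomial σ k) :
    (Chart s j ⧸ Ideal.span {Ideal.Quotient.mk (chartIdeal s j) g}) ≃ₐ[k] Chart (insert g s) j :=
  ((Ideal.quotientEquivAlgOfEq k (by rw [Ideal.map_span, Set.image_singleton]; rfl)).trans
    (DoubleQuot.quotQuotEquivQuotSupₐ k (chartIdeal s j) (Ideal.span {g}))).trans
    (Ideal.quotientEquivAlgOfEq k (chartIdeal_insert s j g).symm)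

theorem exists_poly_chart_smooth [IsAlgClosed k] (s : Set (MvPolynomial σ k)) (j : σ)
    [Algebra.Smooth k (Chart s j)] (d : ℕ) :
    ∃ q : MvPolynomial (Fin m) k, q ≠ 0 ∧ ∀ c : Fin m → k, eval c q ≠ 0 →
      Algebra.Smooth k (Chart (insert (genPoly e d c) s) j) := by
  let Ψ : MvPolynomial σ k →ₐ[k] Chart s j := Ideal.Quotient.mkₐ k (chartIdeal s j)
  let a : Fin m → Chart s j := fun i => Ψ (mon d (e i))
  have hΨ : Function.Surjective Ψ := Ideal.Quotient.mkₐ_surjective k _
  have hXj : Ψ (X j) = 1 := mk_X_self s j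
  have ha : ∀ p q : σ, q = j → a (e.symm (p, q)) = Ψ (X p) := by
    intro p q hq
    subst hq
    change Ψ (mon d (e (e.symm (p, q)))) = _
    rw [Equiv.apply_symm_apply]
    unfold mon
    rw [map_mul, map_pow, hXj, one_pow, mul_one]
  obtain ⟨q, hq0, hq⟩ := Groth.Agent.LibBertiniJet29.exists_poly_smooth_of_generators k k a Ψ hΨ
    (e.symm (j, j)) (by rw [ha j j rfl, hXj]) (fun p => ⟨e.symm (p, j), ha p j rfl⟩)
  refine ⟨q, hq0, fun c hc => ?_⟩
  have hc' : eval (fun i => algebraMap k k (c i)) q ≠ 0 := by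
    simpa using hc
  have hsm := hq c hc'
  have hmem : (∑ i, algebraMap k (Chart s j) (c i) * a i) =
      Ideal.Quotient.mk (chartIdeal s j) (genPoly e d c) := by
    unfold genPoly
    rw [map_sum]
    refine Finset.sum_congr rfl fun i _ => ?_
    rw [map_mul]
    rfl
  rw [hmem] at hsm
  exact Algebra.Smooth.of_equiv (R := k)
    (A := Chart s j ⧸ Ideal.span {Ideal.Quotient.mk (chartIdeal s j) (genPoly e d c)})
    (B := Chart (insert (genPoly e d c) s) j) (chartInsertEquiv s j (genPoly e d c))

end Groth.Agent.LibConeCI29
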