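import Groth.Statements.S10918
import Mathlib
import Groth.Agent.Lib.Helper26.ProjNormal

set_option autoImplicit false
set_option linter.style.haveILetI false
universe u
open CInt

namespace Groth.Agent.S10918

open Groth.Agent.Lib.helper26 Groth.Agent.Lib.Helper24 Groth.Agent.Lib.helper12

attribute [local instance] MvPolynomial.gradedAlgebra

/-- Let k be a field, S = k[x_0, …, x_n], and f_1, …, f_r with r < n homogeneous polynomials of positive
degrees whose ideal J has height r, so that Y = V_+(J) ⊆ P^n_k is a global complete intersection of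
dimension n − r ≥ 1 with homogeneous coordinate ring S' = S/J. Suppose Y is normal, expressed on the
affine cone: for every prime ideal Q of S' not containing all the classes of the x_i (every point of
the cone Spec S' other than the vertex), the localization S'_Q is an integrally closed domain. Then
S' is an integrally closed domain, i.e. Y is projectively normal. -/
theorem result
    (k : Type u) [Field k] (n r : ℕ) (hr : r < n) (f : Fin r → MvPolynomial (Fin (n + 1)) k) (d : Fin r → ℕ)
    (hf : ∀ i, (f i).IsHomogeneous (d i)) (hd : ∀ i, 0 < d i)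
    (hJ : (Ideal.span (Set.range f)).height = r)
    (hnorm : ∀ (Q : Ideal (MvPolynomial (Fin (n + 1)) k ⧸ Ideal.span (Set.range f))) [Q.IsPrime],
      (∃ i, Ideal.Quotient.mk (Ideal.span (Set.range f)) (MvPolynomial.X i) ∉ Q) →
        IsDomain (Localization.AtPrime Q) ∧ IsIntegrallyClosed (Localization.AtPrime Q)) :
    IsDomain (MvPolynomial (Fin (n + 1)) k ⧸ Ideal.span (Set.range f)) ∧
      IsIntegrallyClosed (MvPolynomial (Fin (n + 1)) k ⧸ Ideal.span (Set.range f)) := by
  classical
  have hk := CMCat.isCohenMacaulayRing_field k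
  haveI hS : LocCoh.IsCohenMacaulayRing (MvPolynomial (Fin (n + 1)) k) :=
    CMPoly.isCohenMacaulayRing_mvPolynomial k (n + 1)
  have hlist : Ideal.ofList (List.ofFn f) = Ideal.span (Set.range f) := by
    unfold Ideal.ofList
    congr 1
    ext x
    simp [List.mem_ofFn]
  -- Cohen–Macaulay
  haveI hCM : LocCoh.IsCohenMacaulayRing
      (MvPolynomial (Fin (n + 1)) k ⧸ Ideal.span (Set.range f)) := by
    have h := ProjNormal.isCohenMacaulayRing_quotient_of_height (MvPolynomial (Fin (n + 1)) k)
      (List.ofFn f) (by rw [hlist, hJ, List.length_ofFn])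
    rw [hlist] at h
    exact h
  have hS2 : LocCoh.HasSk 2 (MvPolynomial (Fin (n + 1)) k ⧸ Ideal.span (Set.range f))
      (MvPolynomial (Fin (n + 1)) k ⧸ Ideal.span (Set.range f)) :=
    ExtRees.hasSk_of_isCohenMacaulayRing 2 _
  -- the irrelevant ideal
  set m : Ideal (MvPolynomial (Fin (n + 1)) k) :=
    RingHom.ker (MvPolynomial.constantCoeff : MvPolynomial (Fin (n + 1)) k →+* k) with hm
  have hmmax : m.IsMaximal := RingHom.ker_isMaximal_of_surjective _
    (fun c => ⟨MvPolynomial.C c, MvPolynomial.constantCoeff_C _ c⟩)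
  have hJm : Ideal.span (Set.range f) ≤ m := by
    rw [Ideal.span_le]
    rintro _ ⟨i, rfl⟩
    change f i ∈ RingHom.ker _
    rw [RingHom.mem_ker, MvPolynomial.constantCoeff_eq]
    apply (hf i).coeff_eq_zero
    rw [map_zero]
    exact (hd i).ne
  -- (R_1)
  have hR1 : LocCoh.HasRk 1 (MvPolynomial (Fin (n + 1)) k ⧸ Ideal.span (Set.range f)) := by
    intro p _ hp
    have hex : ∃ i, Ideal.Quotient.mk (Ideal.span (Set.range f)) (MvPolynomial.X i) ∉ p := by
      by_contra hcon
      push Not at hcon
      set Q := p.comap (Ideal.Quotient.mk (Ideal.span (Set.range f))) with hQ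
      haveI hQprime : Q.IsPrime := Ideal.comap_isPrime _ _
      have hmQ : m ≤ Q := ProjNormal.ker_constantCoeff_le k (Fin (n + 1)) Q hcon
      have hQm : m = Q := hmmax.eq_of_le hQprime.ne_top hmQ
      have hQht : Q.height = (n + 1 : ℕ) :=
        PolyMax.height_eq_of_isMaximal k (n + 1) Q (hQm ▸ hmmax)
      have hsub : Set.range f ⊆ (Q : Set (MvPolynomial (Fin (n + 1)) k)) := by
        rintro _ ⟨i, rfl⟩
        exact hmQ (hJm (Ideal.subset_span ⟨i, rfl⟩))
      have h1 := Ideal.height_le_height_add_encard_of_subset (Set.range f) (p := Q) hsub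
      have hmap : Q.map (Ideal.Quotient.mk (Ideal.span (Set.range f))) = p :=
        Ideal.map_comap_of_surjective _ Ideal.Quotient.mk_surjective p
      rw [hmap, hQht] at h1
      have h2 : (Set.range f).encard ≤ r := by
        rw [← Set.image_univ]
        refine (Set.encard_image_le f Set.univ).trans ?_
        rw [Set.encard_univ, ENat.card_eq_coe_fintype_card, Fintype.card_fin]
      have h3 : ((n + 1 : ℕ) : ℕ∞) ≤ 1 + r := h1.trans (add_le_add hp h2)
      have h4 : n + 1 ≤ 1 + r := by exact_mod_cast h3
      omega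
    obtain ⟨hdom, hic⟩ := hnorm p hex
    refine SerreNormal.regular_of_normal_dim_le_one _ ?_
    rw [IsLocalization.AtPrime.ringKrullDim_eq_height p]
    exact_mod_cast hp
  have hloc : ∀ (p : Ideal (MvPolynomial (Fin (n + 1)) k ⧸ Ideal.span (Set.range f)))
      [p.IsPrime], IsDomain (Localization.AtPrime p) ∧
        IsIntegrallyClosed (Localization.AtPrime p) :=
    fun p _ => SerreNormal.normal_of_R1_S2 _ hR1 hS2 p
  -- minimal primes lie in the vertex
  haveI hM' : (m.map (Ideal.Quotient.mk (Ideal.span (Set.range f)))).IsPrime :=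
    Ideal.isPrime_map_quotientMk_of_isPrime hJm
  have hJhom : (Ideal.span (Set.range f)).IsHomogeneous
      (MvPolynomial.homogeneousSubmodule (Fin (n + 1)) k) := by
    apply Ideal.homogeneous_span
    rintro _ ⟨i, rfl⟩
    exact ⟨d i, (MvPolynomial.mem_homogeneousSubmodule _ _).mpr (hf i)⟩
  have hmin : ∀ P ∈ minimalPrimes (MvPolynomial (Fin (n + 1)) k ⧸ Ideal.span (Set.range f)),
      P ≤ m.map (Ideal.Quotient.mk (Ideal.span (Set.range f))) := by
    intro P hP
    have h1 : P.comap (Ideal.Quotient.mk (Ideal.span (Set.range f))) ∈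
        (Ideal.span (Set.range f)).minimalPrimes := by
      rw [Ideal.minimalPrimes_eq_comap]
      exact ⟨P, hP, rfl⟩
    have h2 := HypCover.isHomogeneous_of_mem_minimalPrimes
      (MvPolynomial.homogeneousSubmodule (Fin (n + 1)) k) hJhom h1
    have h3 := ProjNormal.le_ker_constantCoeff_of_isHomogeneous k (Fin (n + 1)) _ h2
      h1.1.1.ne_top
    rw [← Ideal.map_comap_of_surjective _ Ideal.Quotient.mk_surjective P]
    exact Ideal.map_mono h3
  haveI hdomS : IsDomain (MvPolynomial (Fin (n + 1)) k ⧸ Ideal.span (Set.range f)) :=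
    ProjNormal.isDomain_of_minimalPrimes_le _ _ hmin (fun P _ => (hloc P).1)
  refine ⟨hdomS, ?_⟩
  exact IsIntegrallyClosed.of_localization_maximal (fun p _ _ => (hloc p).2)

end Groth.Agent.S10918
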