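import Mathlib
import Groth.Agent.LibConeCI29b
import Groth.Agent.S10918
import Groth.Agent.Lib.Helper26.RegularNormal
import Groth.Agent.Lib.Helper15.Regular

/-!
# Affine cones and their charts (helper29), part 3: auxiliary lemmas for the induction
-/

set_option autoImplicit false
set_option linter.style.haveILetI false
universe u

open MvPolynomial

noncomputable section

namespace Groth.Agent.LibConeCI29

variable {k : Type u} [Field k]

/-- The chart of the zero ideal is an affine space. -/
theorem chart_empty_smooth {σ : Type} [Finite σ] (j : σ) :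
    Algebra.Smooth k (Chart (∅ : Set (MvPolynomial σ k)) j) := by
  have hI : chartIdeal (∅ : Set (MvPolynomial σ k)) j = Ideal.span {(X j - 1 : MvPolynomial σ k)} := by
    unfold chartIdeal
    rw [Ideal.span_empty, bot_sup_eq]
  have hfs : Algebra.FormallySmooth k
      (MvPolynomial σ k ⧸ Ideal.span {(X j - 1 : MvPolynomial σ k)}) := by
    apply Groth.Agent.LibBertiniJet29.formallySmooth_quotient_of_derivation
      (X j - 1 : MvPolynomial σ k) (pderiv j) 0
    rw [map_sub, pderiv_X_self, pderiv_one, sub_zero, mul_zero, add_zero]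
  unfold Chart
  rw [hI]
  exact ⟨hfs, (Algebra.FinitePresentation.of_finiteType).mp inferInstance⟩

/-- A prime of small height misses some variable. -/
theorem exists_X_notMem (n : ℕ) (J : Ideal (MvPolynomial (Fin (n + 1)) k)) [J.IsPrime] (r : ℕ)
    (hJ : J.height = r) (hr : r < n + 1) : ∃ j, (X j : MvPolynomial (Fin (n + 1)) k) ∉ J := by
  by_contra hcon
  push Not at hcon
  set m : Ideal (MvPolynomial (Fin (n + 1)) k) :=
    RingHom.ker (MvPolynomial.constantCoeff : MvPolynomial (Fin (n + 1)) k →+* k) with hm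
  have hmmax : m.IsMaximal := RingHom.ker_isMaximal_of_surjective _
    (fun c => ⟨MvPolynomial.C c, MvPolynomial.constantCoeff_C _ c⟩)
  have hmJ : m ≤ J := Groth.Agent.Lib.helper26.ProjNormal.ker_constantCoeff_le k (Fin (n + 1)) J hcon
  have hJm : m = J := hmmax.eq_of_le (Ideal.IsPrime.ne_top inferInstance) hmJ
  have hht : J.height = (n + 1 : ℕ) :=
    Groth.Agent.Lib.helper26.PolyMax.height_eq_of_isMaximal k (n + 1) J (hJm ▸ hmmax)
  rw [hJ] at hht
  have : r = n + 1 := by exact_mod_cast hht
  omega

/-- Adding a new element to a prime raises the height. -/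
theorem height_sup_span_singleton_ge {R : Type*} [CommRing R] [IsNoetherianRing R]
    (J : Ideal R) [J.IsPrime] (g : R) (hg : g ∉ J) :
    J.height + 1 ≤ (Ideal.span {g} ⊔ J).height := by
  rw [(Ideal.span {g} ⊔ J).height_eq_inf_minimalPrimes]
  refine le_iInf₂ fun P hP => ?_
  haveI := hP.1.1
  have hle : Ideal.span {g} ⊔ J ≤ P := hP.1.2
  have hlt : J < P := by
    refine lt_of_le_of_ne (le_sup_right.trans hle) ?_
    rintro rfl
    exact hg (hle (Ideal.mem_sup_left (Ideal.subset_span rfl)))
  exact Ideal.height_add_one_le_of_lt_of_isPrime hlt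

/-- Krull's bound for the ideal generated by a family. -/
theorem height_span_range_le {R : Type*} [CommRing R] [IsNoetherianRing R] {r : ℕ}
    (f : Fin r → R) (hne : Ideal.span (Set.range f) ≠ ⊤) :
    (Ideal.span (Set.range f)).height ≤ r := by
  obtain ⟨P, hP⟩ := Ideal.nonempty_minimalPrimes hne
  rw [(Ideal.span (Set.range f)).height_eq_inf_minimalPrimes]
  refine (iInf₂_le P hP).trans ?_
  refine (Ideal.height_le_card_of_mem_minimalPrimes_span (Set.finite_range f) hP).trans ?_
  have : (Set.range f).ncard ≤ r := by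
    have h1 := Set.ncard_image_le (f := f) (s := Set.univ) Set.finite_univ
    rw [Set.image_univ, Set.ncard_univ, Nat.card_eq_fintype_card, Fintype.card_fin] at h1
    exact h1
  exact_mod_cast this

/-- If some monomial of the system is not in `J`, the members lying in `J` are contained in a
hyperplane. -/
theorem exists_linear_form {σ : Type} {m : ℕ} (e : Fin m ≃ σ × σ) (d : ℕ)
    (J : Ideal (MvPolynomial σ k)) (i₀ : Fin m) (h : mon (k := k) d (e i₀) ∉ J) :
    ∃ ℓ : MvPolynomial (Fin m) k, ℓ ≠ 0 ∧ ∀ c : Fin m → k, eval c ℓ ≠ 0 → genPoly e d c ∉ J := by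
  classical
  let v : Fin m → MvPolynomial σ k ⧸ J := fun i => Ideal.Quotient.mk J (mon d (e i))
  let G : (Fin m → k) →ₗ[k] MvPolynomial σ k ⧸ J := Fintype.linearCombination k v
  have hG : ∀ c, Ideal.Quotient.mk J (genPoly e d c) = G c := by
    intro c
    unfold genPoly
    rw [map_sum, Fintype.linearCombination_apply]
    refine Finset.sum_congr rfl fun i _ => ?_
    rw [MvPolynomial.C_mul']
    exact map_smul (Ideal.Quotient.mkₐ k J) (c i) (mon d (e i))
  have hW : LinearMap.ker G < ⊤ := by
    rw [lt_top_iff_ne_top]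
    intro htop
    have h1 : Pi.single i₀ (1 : k) ∈ LinearMap.ker G := by rw [htop]; trivial
    rw [LinearMap.mem_ker, Fintype.linearCombination_apply_single, one_smul] at h1
    exact h (Ideal.Quotient.eq_zero_iff_mem.mp h1)
  obtain ⟨f, hf0, hf⟩ := Submodule.exists_le_ker_of_lt_top _ hW
  let ℓ : MvPolynomial (Fin m) k := ∑ i, C (f (Pi.single i 1)) * X i
  have hℓ : ∀ c : Fin m → k, eval c ℓ = f c := by
    intro c
    rw [LinearMap.pi_apply_eq_sum_univ f c]
    simp only [ℓ, map_sum, map_mul, eval_C, eval_X, smul_eq_mul]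
    refine Finset.sum_congr rfl fun i _ => ?_
    rw [mul_comm]
    congr 2
    ext j'
    simp [Pi.single_apply, eq_comm]
  refine ⟨ℓ, ?_, ?_⟩
  · intro h0
    apply hf0
    apply LinearMap.ext
    intro c
    rw [← hℓ, h0, map_zero, LinearMap.zero_apply]
  · intro c hc hmem
    apply hc
    rw [hℓ]
    have : c ∈ LinearMap.ker G := by
      rw [LinearMap.mem_ker, ← hG]
      exact Ideal.Quotient.eq_zero_iff_mem.mpr hmem
    exact hf this

end Groth.Agent.LibConeCI29
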