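import Mathlib
import Groth.Agent.LibConeCI29c

/-!
# Affine cones and their charts (helper29), part 4: existence of nonsingular complete
intersections of prescribed degrees

`exists_family`: for `r < n` and positive degrees `d_i` there are homogeneous `f_i` of degree `d_i`
in `k[x_0..x_n]` (`k` algebraically closed) such that all charts of every `(f_i)` and of
`(f_1, …, f_r)` are smooth, `S/(f_1, …, f_r)` is a domain and `(f_1, …, f_r)` has height `r`.
-/

set_option autoImplicit false
set_option linter.style.haveILetI false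
universe u

open MvPolynomial

noncomputable section

namespace Groth.Agent.LibConeCI29

variable {k : Type u} [Field k]

theorem span_range_le_ker {σ : Type} {r : ℕ} (f : Fin r → MvPolynomial σ k) (d : Fin r → ℕ)
    (hf : ∀ i, (f i).IsHomogeneous (d i)) (hd : ∀ i, 0 < d i) :
    Ideal.span (Set.range f) ≤
      RingHom.ker (MvPolynomial.constantCoeff : MvPolynomial σ k →+* k) := by
  rw [Ideal.span_le]
  rintro _ ⟨i, rfl⟩
  change f i ∈ RingHom.ker _
  rw [RingHom.mem_ker, MvPolynomial.constantCoeff_eq]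
  apply (hf i).coeff_eq_zero
  rw [map_zero]
  exact (hd i).ne

theorem span_range_ne_top {σ : Type} {r : ℕ} (f : Fin r → MvPolynomial σ k) (d : Fin r → ℕ)
    (hf : ∀ i, (f i).IsHomogeneous (d i)) (hd : ∀ i, 0 < d i) :
    Ideal.span (Set.range f) ≠ ⊤ := by
  intro h
  have h1 := span_range_le_ker f d hf hd
  rw [h, top_le_iff] at h1
  have : (1 : MvPolynomial σ k) ∈ RingHom.ker
      (MvPolynomial.constantCoeff : MvPolynomial σ k →+* k) := by rw [h1]; trivial
  rw [RingHom.mem_ker, map_one] at this
  exact one_ne_zero this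

/-- The cone over a family with smooth charts is a normal domain (uses S10918). -/
theorem isDomain_of_charts (n r : ℕ) (hr : r < n) (f : Fin r → MvPolynomial (Fin (n + 1)) k)
    (d : Fin r → ℕ) (hf : ∀ i, (f i).IsHomogeneous (d i)) (hd : ∀ i, 0 < d i)
    (hJ : (Ideal.span (Set.range f)).height = r)
    (hch : ∀ j, Algebra.Smooth k (Chart (Set.range f) j)) :
    IsDomain (MvPolynomial (Fin (n + 1)) k ⧸ Ideal.span (Set.range f)) := by
  refine (Groth.Agent.S10918.result k n r hr f d hf hd hJ ?_).1
  intro Q _ ⟨i, hi⟩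
  haveI := hch i
  have hs : ∀ g ∈ Set.range f, ∃ d : ℕ, g.IsHomogeneous d := by
    rintro _ ⟨i, rfl⟩
    exact ⟨d i, hf i⟩
  haveI := isRegularLocalRing_of_chart_smooth (Set.range f) i hs Q hi
  exact ⟨Groth.Agent.Lib.helper15.isDomain_of_isRegularLocalRing (Localization.AtPrime Q),
    Groth.Agent.Lib.helper26.RegNormal.isIntegrallyClosed (Localization.AtPrime Q)⟩

theorem exists_eval_ne_zero [Infinite k] {m : ℕ} (Q : MvPolynomial (Fin m) k) (hQ : Q ≠ 0) :
    ∃ c : Fin m → k, eval c Q ≠ 0 := by
  by_contra h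
  push Not at h
  exact hQ (MvPolynomial.funext fun c => by rw [h c, map_zero])

theorem exists_family [IsAlgClosed k] (n : ℕ) : ∀ r : ℕ, r < n → ∀ d : Fin r → ℕ, (∀ i, 0 < d i) →
    ∃ f : Fin r → MvPolynomial (Fin (n + 1)) k,
      (∀ i, (f i).IsHomogeneous (d i)) ∧
      (∀ i j, Algebra.Smooth k (Chart {f i} j)) ∧
      (∀ j, Algebra.Smooth k (Chart (Set.range f) j)) ∧
      IsDomain (MvPolynomial (Fin (n + 1)) k ⧸ Ideal.span (Set.range f)) ∧
      (Ideal.span (Set.range f)).height = r := by
  intro r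
  induction r with
  | zero =>
    intro _ d _
    refine ⟨fun i => i.elim0, fun i => i.elim0, fun i => i.elim0, ?_, ?_, ?_⟩
    · intro j
      rw [Set.range_eq_empty]
      exact chart_empty_smooth j
    · rw [Set.range_eq_empty, Ideal.span_empty]
      infer_instance
    · rw [Set.range_eq_empty, Ideal.span_empty, Ideal.height_bot]
      rfl
  | succ r ih =>
    intro hr d hd
    classical
    obtain ⟨f', hf', hch1, hch, hdom, hht⟩ := ih (by omega) (fun i => d i.succ) (fun i => hd i.succ)
    set J : Ideal (MvPolynomial (Fin (n + 1)) k) := Ideal.span (Set.range f') with hJdef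
    haveI hJprime : J.IsPrime := (Ideal.Quotient.isDomain_iff_prime J).mp hdom
    obtain ⟨j₀, hj₀⟩ := exists_X_notMem n J r hht (by omega)
    let e : Fin ((n + 1) * (n + 1)) ≃ Fin (n + 1) × Fin (n + 1) := finProdFinEquiv.symm
    have hmon : mon (k := k) (d 0) (e (e.symm (j₀, j₀))) ∉ J := by
      rw [Equiv.apply_symm_apply]
      unfold mon
      intro hmem
      rcases hJprime.mem_or_mem hmem with h1 | h1
      · exact hj₀ h1
      · exact hj₀ (hJprime.mem_of_pow_mem _ h1)
    obtain ⟨ℓ, hℓ0, hℓ⟩ := exists_linear_form e (d 0) J (e.symm (j₀, j₀)) hmon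
    have hex0 : ∀ j : Fin (n + 1), ∃ q : MvPolynomial (Fin ((n + 1) * (n + 1))) k, q ≠ 0 ∧
        ∀ c : Fin ((n + 1) * (n + 1)) → k, eval c q ≠ 0 →
          Algebra.Smooth k (Chart (insert (genPoly e (d 0) c)
            (∅ : Set (MvPolynomial (Fin (n + 1)) k))) j) := by
      intro j
      haveI := chart_empty_smooth (k := k) (σ := Fin (n + 1)) j
      exact exists_poly_chart_smooth e ∅ j (d 0)
    have hex1 : ∀ j : Fin (n + 1), ∃ q : MvPolynomial (Fin ((n + 1) * (n + 1))) k, q ≠ 0 ∧
        ∀ c : Fin ((n + 1) * (n + 1)) → k, eval c q ≠ 0 →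
          Algebra.Smooth k (Chart (insert (genPoly e (d 0) c) (Set.range f')) j) := by
      intro j
      haveI := hch j
      exact exists_poly_chart_smooth e (Set.range f') j (d 0)
    choose q0 hq0 hq0' using hex0
    choose q1 hq1 hq1' using hex1
    have hQ : (∏ j, q0 j) * (∏ j, q1 j) * ℓ ≠ 0 :=
      mul_ne_zero (mul_ne_zero (Finset.prod_ne_zero_iff.mpr fun j _ => hq0 j)
        (Finset.prod_ne_zero_iff.mpr fun j _ => hq1 j)) hℓ0
    haveI : Infinite k := IsAlgClosed.instInfinite
    obtain ⟨c, hc⟩ := exists_eval_ne_zero _ hQ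
    rw [map_mul, map_mul, map_prod, map_prod] at hc
    have hc0 : ∀ j, eval c (q0 j) ≠ 0 := fun j =>
      Finset.prod_ne_zero_iff.mp (left_ne_zero_of_mul (left_ne_zero_of_mul hc)) j (Finset.mem_univ j)
    have hc1 : ∀ j, eval c (q1 j) ≠ 0 := fun j =>
      Finset.prod_ne_zero_iff.mp (right_ne_zero_of_mul (left_ne_zero_of_mul hc)) j
        (Finset.mem_univ j)
    have hcℓ : eval c ℓ ≠ 0 := right_ne_zero_of_mul hc
    set g : MvPolynomial (Fin (n + 1)) k := genPoly e (d 0) c with hgdef
    have hg : g.IsHomogeneous (d 0) := genPoly_isHomogeneous e (hd 0) c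
    have hgJ : g ∉ J := hℓ c hcℓ
    have hrange : Set.range (Fin.cons g f' : Fin (r + 1) → MvPolynomial (Fin (n + 1)) k) =
        insert g (Set.range f') := Fin.range_cons g f'
    have hfhom : ∀ i, ((Fin.cons g f' : Fin (r + 1) → MvPolynomial (Fin (n + 1)) k) i).IsHomogeneous
        (d i) := by
      intro i
      refine Fin.cases ?_ (fun i' => ?_) i
      · rw [Fin.cons_zero]; exact hg
      · rw [Fin.cons_succ]; exact hf' i'
    have hchf : ∀ j, Algebra.Smooth k
        (Chart (Set.range (Fin.cons g f' : Fin (r + 1) → MvPolynomial (Fin (n + 1)) k)) j) := by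
      intro j
      rw [hrange]
      exact hq1' j c (hc1 j)
    have hhtf : (Ideal.span (Set.range
        (Fin.cons g f' : Fin (r + 1) → MvPolynomial (Fin (n + 1)) k))).height = (r + 1 : ℕ) := by
      apply le_antisymm
      · exact height_span_range_le _ (span_range_ne_top _ d hfhom hd)
      · rw [hrange, Ideal.span_insert]
        have h1 := height_sup_span_singleton_ge J g hgJ
        rw [hht] at h1
        exact_mod_cast h1
    refine ⟨Fin.cons g f', hfhom, ?_, hchf, ?_, hhtf⟩
    · intro i j
      refine Fin.cases ?_ (fun i' => ?_) i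
      · rw [Fin.cons_zero, ← insert_empty_eq]
        exact hq0' j c (hc0 j)
      · rw [Fin.cons_succ]
        exact hch1 i' j
    · exact isDomain_of_charts n (r + 1) hr _ d hfhom hd hhtf hchf

end Groth.Agent.LibConeCI29
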