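import Mathlib.RingTheory.Kaehler.Basic

/-!
# The conormal sequence `I/I² → J/J² → C ⊗_B Ω_{B/A}` for `A → B → C` with `A → C` surjective
-/

set_option autoImplicit false
set_option linter.unusedSectionVars false
universe u

namespace Groth.Agent.LibCot29

open scoped TensorProduct

variable (A B C : Type u) [CommRing A] [CommRing B] [CommRing C] [Algebra A B] [Algebra B C]
  [Algebra A C] [IsScalarTower A B C]

lemma sub_mem_ker (b : B) (a : A) (ha : algebraMap A C a = algebraMap B C b) :
    b - algebraMap A B a ∈ RingHom.ker (algebraMap B C) := by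
  rw [RingHom.mem_ker, map_sub, ← IsScalarTower.algebraMap_apply, ha, sub_self]

variable (h : RingHom.ker (algebraMap A C) ≤
  (RingHom.ker (algebraMap B C)).comap (Algebra.ofId A B))

/-- the `B`-span of the image of `I/I²` in `J/J²` -/
noncomputable def Kspan : Submodule B (RingHom.ker (algebraMap B C)).Cotangent :=
  Submodule.span B (Set.range (Ideal.mapCotangent (RingHom.ker (algebraMap A C))
    (RingHom.ker (algebraMap B C)) (Algebra.ofId A B) h))

/-- the quotient of `J/J²` by the span of the image of `I/I²` -/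
abbrev Mq : Type u := (RingHom.ker (algebraMap B C)).Cotangent ⧸ Kspan A B C h

/-- the class of an element of `J` -/
noncomputable def mkc (x : B) (hx : x ∈ RingHom.ker (algebraMap B C)) : Mq A B C h :=
  Submodule.Quotient.mk ((RingHom.ker (algebraMap B C)).toCotangent ⟨x, hx⟩)

lemma mkc_congr {x y : B} (hxy : x = y) (hx : x ∈ RingHom.ker (algebraMap B C)) :
    mkc A B C h x hx = mkc A B C h y (hxy ▸ hx) := by
  subst hxy
  rfl

lemma mkc_add (x y : B) (hx : x ∈ RingHom.ker (algebraMap B C))
    (hy : y ∈ RingHom.ker (algebraMap B C)) :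
    mkc A B C h (x + y) (add_mem hx hy) = mkc A B C h x hx + mkc A B C h y hy := by
  unfold mkc
  rw [← Submodule.Quotient.mk_add, ← map_add]
  rfl

lemma mkc_mul (b x : B) (hx : x ∈ RingHom.ker (algebraMap B C)) :
    mkc A B C h (b * x) (Ideal.mul_mem_left _ b hx) = b • mkc A B C h x hx := by
  unfold mkc
  rw [← Submodule.Quotient.mk_smul, ← map_smul]
  rfl

lemma mkc_eq_zero_of_mem_sq (x : B) (hx : x ∈ RingHom.ker (algebraMap B C))
    (hx2 : x ∈ RingHom.ker (algebraMap B C) ^ 2) : mkc A B C h x hx = 0 := by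
  unfold mkc
  have : (RingHom.ker (algebraMap B C)).toCotangent ⟨x, hx⟩ = 0 := by
    rw [Ideal.toCotangent_eq_zero]
    exact hx2
  rw [this, Submodule.Quotient.mk_zero]

lemma mkc_algebraMap (a : A) (ha : a ∈ RingHom.ker (algebraMap A C)) :
    mkc A B C h (algebraMap A B a) (h ha) = 0 := by
  unfold mkc
  rw [Submodule.Quotient.mk_eq_zero]
  refine Submodule.subset_span ⟨(RingHom.ker (algebraMap A C)).toCotangent ⟨a, ha⟩, ?_⟩
  rw [Ideal.mapCotangent_toCotangent]
  rfl

lemma mkc_neg (x : B) (hx : x ∈ RingHom.ker (algebraMap B C)) :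
    mkc A B C h (-x) (neg_mem hx) = -mkc A B C h x hx := by
  have h1 := mkc_add A B C h x (-x) hx (neg_mem hx)
  have h2 : mkc A B C h (x + -x) (add_mem hx (neg_mem hx)) = 0 := by
    rw [mkc_congr A B C h (add_neg_cancel x)]
    exact mkc_eq_zero_of_mem_sq A B C h 0 (zero_mem _) (zero_mem _)
  rw [h2] at h1
  exact (neg_eq_of_add_eq_zero_right h1.symm).symm

variable (hAC : Function.Surjective (algebraMap A C))

/-- the function underlying the derivation `b ↦ class of b - a(b)` -/
noncomputable def deltaFun (b : B) : Mq A B C h :=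
  mkc A B C h (b - algebraMap A B (Function.surjInv hAC (algebraMap B C b)))
    (sub_mem_ker A B C b _ (Function.surjInv_eq hAC _))

lemma deltaFun_eq (b : B) (a : A) (ha : algebraMap A C a = algebraMap B C b) :
    deltaFun A B C h hAC b = mkc A B C h (b - algebraMap A B a) (sub_mem_ker A B C b a ha) := by
  unfold deltaFun
  set a₀ := Function.surjInv hAC (algebraMap B C b) with ha₀
  have ha₀' : algebraMap A C a₀ = algebraMap B C b := Function.surjInv_eq hAC _
  have hmem : a - a₀ ∈ RingHom.ker (algebraMap A C) := by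
    rw [RingHom.mem_ker, map_sub, ha, ha₀', sub_self]
  have h1 : b - algebraMap A B a₀ = (b - algebraMap A B a) + algebraMap A B (a - a₀) := by
    rw [map_sub]
    ring
  have hmemB : algebraMap A B (a - a₀) ∈ RingHom.ker (algebraMap B C) := h hmem
  rw [mkc_congr A B C h h1, mkc_add A B C h _ _ (sub_mem_ker A B C b a ha) hmemB]
  have h2 : mkc A B C h (algebraMap A B (a - a₀)) hmemB = 0 := mkc_algebraMap A B C h _ hmem
  rw [h2, add_zero]

/-- the derivation `B → (J/J²) / (image of I/I²)` -/
noncomputable def delta : Derivation A B (Mq A B C h) where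
  toFun := deltaFun A B C h hAC
  map_add' b b' := by
    obtain ⟨a, ha⟩ := hAC (algebraMap B C b)
    obtain ⟨a', ha'⟩ := hAC (algebraMap B C b')
    have h1 : b + b' - algebraMap A B (a + a') =
        (b - algebraMap A B a) + (b' - algebraMap A B a') := by
      rw [map_add]
      ring
    rw [deltaFun_eq A B C h hAC b a ha, deltaFun_eq A B C h hAC b' a' ha',
      deltaFun_eq A B C h hAC (b + b') (a + a') (by rw [map_add, map_add, ha, ha']),
      mkc_congr A B C h h1, mkc_add]
  map_smul' r b := by
    obtain ⟨a, ha⟩ := hAC (algebraMap B C b)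
    have h1 : r • b - algebraMap A B (r * a) = algebraMap A B r * (b - algebraMap A B a) := by
      rw [map_mul, Algebra.smul_def]
      ring
    rw [deltaFun_eq A B C h hAC b a ha,
      deltaFun_eq A B C h hAC (r • b) (r * a) (by
        rw [map_mul, ha, Algebra.smul_def, map_mul, ← IsScalarTower.algebraMap_apply]),
      RingHom.id_apply, mkc_congr A B C h h1, mkc_mul, algebraMap_smul]
  map_one_eq_zero' := by
    change deltaFun A B C h hAC 1 = 0
    have h1 : (1 : B) - algebraMap A B 1 = 0 := by rw [map_one, sub_self]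
    rw [deltaFun_eq A B C h hAC 1 1 (by rw [map_one, map_one]), mkc_congr A B C h h1]
    exact mkc_eq_zero_of_mem_sq A B C h 0 (zero_mem _) (zero_mem _)
  leibniz' b b' := by
    obtain ⟨a, ha⟩ := hAC (algebraMap B C b)
    obtain ⟨a', ha'⟩ := hAC (algebraMap B C b')
    change deltaFun A B C h hAC (b * b') = b • deltaFun A B C h hAC b' + b' • deltaFun A B C h hAC b
    have hu : b - algebraMap A B a ∈ RingHom.ker (algebraMap B C) := sub_mem_ker A B C b a ha
    have hu' : b' - algebraMap A B a' ∈ RingHom.ker (algebraMap B C) := sub_mem_ker A B C b' a' ha'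
    have h3 : b * b' - algebraMap A B (a * a') =
        (b * (b' - algebraMap A B a') + b' * (b - algebraMap A B a)) +
        -((b - algebraMap A B a) * (b' - algebraMap A B a')) := by
      rw [map_mul]
      ring
    have h4 : (b - algebraMap A B a) * (b' - algebraMap A B a') ∈
        RingHom.ker (algebraMap B C) ^ 2 := by
      rw [pow_two]
      exact Ideal.mul_mem_mul hu hu'
    rw [deltaFun_eq A B C h hAC b a ha, deltaFun_eq A B C h hAC b' a' ha',
      deltaFun_eq A B C h hAC (b * b') (a * a') (by rw [map_mul, map_mul, ha, ha']),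
      mkc_congr A B C h h3,
      mkc_add A B C h _ _ (add_mem (Ideal.mul_mem_left _ b hu') (Ideal.mul_mem_left _ b' hu))
        (neg_mem (Ideal.mul_mem_left _ _ hu')),
      mkc_neg A B C h _ (Ideal.mul_mem_left _ _ hu'),
      mkc_eq_zero_of_mem_sq A B C h _ (Ideal.mul_mem_left _ _ hu') h4, neg_zero, add_zero,
      mkc_add A B C h _ _ (Ideal.mul_mem_left _ b hu') (Ideal.mul_mem_left _ b' hu),
      mkc_mul, mkc_mul]

lemma delta_apply_of_mem (x : B) (hx : x ∈ RingHom.ker (algebraMap B C)) :
    delta A B C h hAC x = mkc A B C h x hx := by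
  change deltaFun A B C h hAC x = _
  have h1 : x - algebraMap A B 0 = x := by rw [map_zero, sub_zero]
  rw [deltaFun_eq A B C h hAC x 0 (by rw [map_zero, RingHom.mem_ker.1 hx]), mkc_congr A B C h h1]

lemma smul_cotangent_eq_zero (j : B) (hj : j ∈ RingHom.ker (algebraMap B C))
    (y : (RingHom.ker (algebraMap B C)).Cotangent) : j • y = 0 := by
  obtain ⟨x, rfl⟩ := Ideal.toCotangent_surjective _ y
  rw [← map_smul, Ideal.toCotangent_eq_zero]
  change j * (x : B) ∈ _
  rw [pow_two]
  exact Ideal.mul_mem_mul hj x.2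

lemma smul_Mq_eq_zero (j : B) (hj : j ∈ RingHom.ker (algebraMap B C)) (m : Mq A B C h) :
    j • m = 0 := by
  obtain ⟨y, rfl⟩ := Submodule.Quotient.mk_surjective _ m
  rw [← Submodule.Quotient.mk_smul, smul_cotangent_eq_zero B C j hj, Submodule.Quotient.mk_zero]

include hAC in
lemma surjective_algebraMap_BC : Function.Surjective (algebraMap B C) := by
  intro c
  obtain ⟨a, rfl⟩ := hAC c
  exact ⟨algebraMap A B a, (IsScalarTower.algebraMap_apply A B C a).symm⟩

/-- the linear map `Ω_{B/A} → (J/J²)/(image of I/I²)` induced by the derivation -/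
noncomputable def gLin : Ω[B⁄A] →ₗ[B] Mq A B C h := (delta A B C h hAC).liftKaehlerDifferential

lemma gLin_D (b : B) : gLin A B C h hAC (KaehlerDifferential.D A B b) = delta A B C h hAC b :=
  Derivation.liftKaehlerDifferential_comp_D _ b

/-- the bilinear pairing `C × Ω → M` -/
noncomputable def rho : C →ₗ[B] Ω[B⁄A] →ₗ[B] Mq A B C h :=
  (Submodule.liftQ (LinearMap.ker (Algebra.linearMap B C))
      (LinearMap.toSpanSingleton B _ (gLin A B C h hAC)) (by
        intro j hj
        rw [LinearMap.mem_ker, Algebra.linearMap_apply] at hj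
        rw [LinearMap.mem_ker, LinearMap.toSpanSingleton_apply]
        refine LinearMap.ext fun ω => ?_
        rw [LinearMap.smul_apply, LinearMap.zero_apply]
        exact smul_Mq_eq_zero A B C h j hj _)) ∘ₗ
    ((Algebra.linearMap B C).quotKerEquivOfSurjective
      (surjective_algebraMap_BC A B C hAC)).symm.toLinearMap

lemma rho_one : rho A B C h hAC 1 = gLin A B C h hAC := by
  unfold rho
  have h1 : ((Algebra.linearMap B C).quotKerEquivOfSurjective
      (surjective_algebraMap_BC A B C hAC)).symm 1 = Submodule.Quotient.mk 1 := by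
    rw [LinearEquiv.symm_apply_eq, LinearMap.quotKerEquivOfSurjective_apply_mk,
      Algebra.linearMap_apply, map_one]
  rw [LinearMap.comp_apply, LinearEquiv.coe_coe, h1, Submodule.liftQ_apply,
    LinearMap.toSpanSingleton_apply, one_smul]

/-- the linear map `C ⊗ Ω → M` -/
noncomputable def LL : C ⊗[B] Ω[B⁄A] →ₗ[B] Mq A B C h := TensorProduct.lift (rho A B C h hAC)

lemma LL_one_tmul (ω : Ω[B⁄A]) : LL A B C h hAC ((1 : C) ⊗ₜ[B] ω) = gLin A B C h hAC ω := by
  unfold LL
  rw [TensorProduct.lift.tmul, rho_one]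

include hAC in
/-- an element of `J` whose differential vanishes in `C ⊗ Ω` has class in the span of the image
of `I/I²` -/
lemma toCotangent_mem_Kspan (x : B) (hx : x ∈ RingHom.ker (algebraMap B C))
    (h0 : KaehlerDifferential.kerCotangentToTensor A B C
      ((RingHom.ker (algebraMap B C)).toCotangent ⟨x, hx⟩) = 0) :
    (RingHom.ker (algebraMap B C)).toCotangent ⟨x, hx⟩ ∈ Kspan A B C h := by
  rw [KaehlerDifferential.kerCotangentToTensor_toCotangent] at h0
  have h1 := congrArg (LL A B C h hAC) h0
  rw [LL_one_tmul, map_zero, gLin_D, delta_apply_of_mem A B C h hAC x hx] at h1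
  unfold mkc at h1
  rwa [Submodule.Quotient.mk_eq_zero] at h1

include hAC in
/-- the span of the image of `I/I²` is the image -/
lemma Kspan_le_range (y : (RingHom.ker (algebraMap B C)).Cotangent) (hy : y ∈ Kspan A B C h) :
    y ∈ Set.range (Ideal.mapCotangent (RingHom.ker (algebraMap A C))
      (RingHom.ker (algebraMap B C)) (Algebra.ofId A B) h) := by
  unfold Kspan at hy
  induction hy using Submodule.span_induction with
  | mem y hy => exact hy
  | zero => exact ⟨0, map_zero _⟩
  | add y z _ _ hy hz =>
    obtain ⟨y', rfl⟩ := hy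
    obtain ⟨z', rfl⟩ := hz
    exact ⟨y' + z', map_add _ _ _⟩
  | smul b y _ hy =>
    obtain ⟨y', rfl⟩ := hy
    obtain ⟨a, ha⟩ := hAC (algebraMap B C b)
    refine ⟨a • y', ?_⟩
    rw [map_smul]
    have h1 : b - algebraMap A B a ∈ RingHom.ker (algebraMap B C) := sub_mem_ker A B C b a ha
    have h2 := smul_cotangent_eq_zero B C _ h1
      (Ideal.mapCotangent (RingHom.ker (algebraMap A C))
        (RingHom.ker (algebraMap B C)) (Algebra.ofId A B) h y')
    rw [sub_smul, sub_eq_zero, algebraMap_smul] at h2
    exact h2.symm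

include hAC in
/-- exactness of `I/I² → J/J² → C ⊗ Ω` -/
theorem exact_mapCotangent_kerCotangentToTensor :
    Function.Exact
      (Ideal.mapCotangent (RingHom.ker (algebraMap A C)) (RingHom.ker (algebraMap B C))
        (Algebra.ofId A B) h)
      (KaehlerDifferential.kerCotangentToTensor A B C) := by
  intro y
  constructor
  · intro h0
    obtain ⟨⟨x, hx⟩, rfl⟩ := Ideal.toCotangent_surjective _ y
    exact Kspan_le_range A B C h hAC _ (toCotangent_mem_Kspan A B C h hAC x hx h0)
  · rintro ⟨z, rfl⟩
    obtain ⟨⟨a, ha⟩, rfl⟩ := Ideal.toCotangent_surjective _ z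
    rw [Ideal.mapCotangent_toCotangent, KaehlerDifferential.kerCotangentToTensor_toCotangent]
    change (1 : C) ⊗ₜ[B] KaehlerDifferential.D A B (algebraMap A B a) = 0
    rw [Derivation.map_algebraMap, TensorProduct.tmul_zero]

end Groth.Agent.LibCot29
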