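import Mathlib.Algebra.Algebra.Unitization
import Mathlib.LinearAlgebra.Quotient.Basic
import Mathlib.Algebra.MvPolynomial.Eval
import Mathlib.RingTheory.Ideal.Maps

/-!
# The Koszul quotient `F/F₀` of a linear form and the homotopy operator (helper library of seat helper29)

For a commutative ring `R`, an `R`-module `F` and a linear form `j : F → R`, the submodule `triv j` of
trivial relations is spanned by the `j a • b - j b • a`.  The quotient `KE j = F ⧸ triv j` is a non-unital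
commutative `R`-algebra under `a * b = j̄ a • b`, and `j̄ : KE j → R` is a homomorphism; the unitization
`Unitization R (KE j)` has the two projections `fst` and `p1 = fst + j̄ ∘ snd`.

`homotopy`: for two semilinear morphisms `(τ₁, g₁)`, `(τ₂, g₂) : (R, F, j) → (R', F', j')` and a ring
homomorphism `Φ : R → Unitization R' (KE j')` with `fst ∘ Φ = τ₂`, `p1 ∘ Φ = τ₁`, the map
`f ↦ [g₁ f] - [g₂ f] - snd (Φ (j f))` is `τ₂`-semilinear `F → KE j'`, is killed by `j̄'`, and on `ker j` it is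
`[g₁ q - g₂ q]`.
-/

set_option autoImplicit false

universe u v u' v' w

namespace Groth.Agent.LibCotT29

section KE

variable {R : Type u} [CommRing R] {F : Type v} [AddCommGroup F] [Module R F] (j : F →ₗ[R] R)

/-- the trivial relations -/
def triv : Submodule R F := Submodule.span R {y | ∃ a b : F, y = j a • b - j b • a}

lemma triv_le_ker : triv j ≤ LinearMap.ker j := by
  refine Submodule.span_le.mpr ?_
  rintro _ ⟨a, b, rfl⟩
  simp [mul_comm]

lemma sub_mem_triv (a b : F) : j a • b - j b • a ∈ triv j := Submodule.subset_span ⟨a, b, rfl⟩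

/-- `F ⧸ F₀` -/
def KE : Type v := F ⧸ triv j

instance : AddCommGroup (KE j) := inferInstanceAs (AddCommGroup (F ⧸ triv j))
instance : Module R (KE j) := inferInstanceAs (Module R (F ⧸ triv j))

/-- the class map -/
def KE.mk : F →ₗ[R] KE j := (triv j).mkQ

lemma KE.mk_surjective : Function.Surjective (KE.mk j) := Submodule.mkQ_surjective _

lemma KE.mk_eq_zero_iff (f : F) : KE.mk j f = 0 ↔ f ∈ triv j :=
  Submodule.Quotient.mk_eq_zero _

/-- `j̄ : F/F₀ → R` -/
def KE.jbar : KE j →ₗ[R] R := (triv j).liftQ j (triv_le_ker j)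

@[simp] lemma KE.jbar_mk (f : F) : KE.jbar j (KE.mk j f) = j f := rfl

lemma KE.jbar_smul_comm (a b : KE j) : KE.jbar j a • b = KE.jbar j b • a := by
  obtain ⟨a, rfl⟩ := KE.mk_surjective j a
  obtain ⟨b, rfl⟩ := KE.mk_surjective j b
  rw [KE.jbar_mk, KE.jbar_mk, ← map_smul, ← map_smul, ← sub_eq_zero, ← map_sub, KE.mk_eq_zero_iff]
  exact sub_mem_triv j a b

instance : Mul (KE j) := ⟨fun a b => KE.jbar j a • b⟩

lemma KE.mul_def (a b : KE j) : a * b = KE.jbar j a • b := rfl

instance : NonUnitalCommRing (KE j) :=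
  { (inferInstance : AddCommGroup (KE j)) with
    mul := (· * ·)
    left_distrib := fun a b c => by simp only [KE.mul_def, smul_add]
    right_distrib := fun a b c => by simp only [KE.mul_def, map_add, add_smul]
    zero_mul := fun a => by simp only [KE.mul_def, map_zero, zero_smul]
    mul_zero := fun a => by simp only [KE.mul_def, smul_zero]
    mul_assoc := fun a b c => by
      simp only [KE.mul_def, map_smul, smul_eq_mul, mul_smul]
    mul_comm := fun a b => KE.jbar_smul_comm j a b }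

instance : IsScalarTower R (KE j) (KE j) :=
  ⟨fun r a b => by
    change (r • a) * b = r • (a * b)
    simp only [KE.mul_def, map_smul, smul_eq_mul, mul_smul]⟩

instance : SMulCommClass R (KE j) (KE j) :=
  ⟨fun r a b => by
    change r • (a * b) = a * (r • b)
    simp only [KE.mul_def]
    rw [smul_comm]⟩

/-- `j̄` as a non-unital algebra homomorphism -/
def KE.jbarHom : KE j →ₙₐ[R] R where
  toFun := KE.jbar j
  map_smul' := fun r a => by simp
  map_zero' := map_zero _
  map_add' := map_add _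
  map_mul' := fun a b => by simp [KE.mul_def]

/-- the second projection `(r, a) ↦ r + j̄ a` of the unitization -/
def p1 : Unitization R (KE j) →ₐ[R] R := NonUnitalAlgHom.toAlgHom (KE.jbarHom j)

lemma p1_apply (x : Unitization R (KE j)) : p1 j x = x.fst + KE.jbar j x.snd := rfl

end KE

section Homotopy

variable {R : Type u} [CommRing R] {F : Type v} [AddCommGroup F] [Module R F] (j : F →ₗ[R] R)
variable {R' : Type u'} [CommRing R'] {F' : Type v'} [AddCommGroup F'] [Module R' F'] (j' : F' →ₗ[R'] R')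
variable {τ₁ τ₂ : R →+* R'} (g₁ : F →ₛₗ[τ₁] F') (g₂ : F →ₛₗ[τ₂] F')
variable (hg₁ : ∀ f, j' (g₁ f) = τ₁ (j f)) (hg₂ : ∀ f, j' (g₂ f) = τ₂ (j f))
variable (Φ : R →+* Unitization R' (KE j')) (hΦ₂ : ∀ r, (Φ r).fst = τ₂ r) (hΦ₁ : ∀ r, p1 j' (Φ r) = τ₁ r)

include hΦ₂ hΦ₁ in
lemma jbar_snd (r : R) : KE.jbar j' (Φ r).snd = τ₁ r - τ₂ r := by
  have := hΦ₁ r
  rw [p1_apply, hΦ₂] at this
  rw [← this]; ring

include hΦ₂ in
lemma snd_mul (r s : R) :
    (Φ (r * s)).snd = τ₂ r • (Φ s).snd + τ₂ s • (Φ r).snd + KE.jbar j' (Φ r).snd • (Φ s).snd := by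
  rw [map_mul, Unitization.snd_mul, hΦ₂, hΦ₂, KE.mul_def]

/-- the homotopy operator as a function -/
def hfun (f : F) : KE j' := KE.mk j' (g₁ f) - KE.mk j' (g₂ f) - (Φ (j f)).snd

include hg₁ hg₂ hΦ₂ hΦ₁ in
lemma jbar_hfun (f : F) : KE.jbar j' (hfun j j' g₁ g₂ Φ f) = 0 := by
  rw [hfun, map_sub, map_sub, KE.jbar_mk, KE.jbar_mk, hg₁, hg₂, jbar_snd j' Φ hΦ₂ hΦ₁]
  ring

lemma hfun_add (f f' : F) : hfun j j' g₁ g₂ Φ (f + f') = hfun j j' g₁ g₂ Φ f + hfun j j' g₁ g₂ Φ f' := by
  simp only [hfun, map_add, Unitization.snd_add]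
  abel

include hg₁ hΦ₂ hΦ₁ in
lemma hfun_smul (r : R) (f : F) : hfun j j' g₁ g₂ Φ (r • f) = τ₂ r • hfun j j' g₁ g₂ Φ f := by
  have h1 : KE.mk j' (g₁ (r • f)) = τ₂ r • KE.mk j' (g₁ f) + τ₁ (j f) • (Φ r).snd := by
    rw [LinearMap.map_smulₛₗ, map_smul]
    have : τ₁ r = τ₂ r + KE.jbar j' (Φ r).snd := by rw [jbar_snd j' Φ hΦ₂ hΦ₁]; ring
    rw [this, add_smul, KE.jbar_smul_comm, KE.jbar_mk, hg₁]
  have h2 : KE.mk j' (g₂ (r • f)) = τ₂ r • KE.mk j' (g₂ f) := by
    rw [LinearMap.map_smulₛₗ, map_smul]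
  have h3 : (Φ (j (r • f))).snd = τ₂ r • (Φ (j f)).snd + τ₂ (j f) • (Φ r).snd
      + KE.jbar j' (Φ r).snd • (Φ (j f)).snd := by
    rw [map_smul, smul_eq_mul, snd_mul j' Φ hΦ₂]
  have h4 : KE.jbar j' (Φ r).snd • (Φ (j f)).snd = (τ₁ (j f) - τ₂ (j f)) • (Φ r).snd := by
    rw [KE.jbar_smul_comm, jbar_snd j' Φ hΦ₂ hΦ₁]
  rw [hfun, hfun, h1, h2, h3, h4, sub_smul, smul_sub, smul_sub]
  abel

/-- the homotopy operator `F → F'/F₀'`, semilinear over `τ₂` -/
def homotopy : F →ₛₗ[τ₂] KE j' where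
  toFun := hfun j j' g₁ g₂ Φ
  map_add' := hfun_add j j' g₁ g₂ Φ
  map_smul' := hfun_smul j j' g₁ g₂ hg₁ Φ hΦ₂ hΦ₁

lemma homotopy_apply (f : F) :
    homotopy j j' g₁ g₂ hg₁ Φ hΦ₂ hΦ₁ f = KE.mk j' (g₁ f) - KE.mk j' (g₂ f) - (Φ (j f)).snd := rfl

lemma homotopy_of_mem_ker (q : F) (hq : j q = 0) :
    homotopy j j' g₁ g₂ hg₁ Φ hΦ₂ hΦ₁ q = KE.mk j' (g₁ q) - KE.mk j' (g₂ q) := by
  rw [homotopy_apply, hq, map_zero, Unitization.snd_zero, sub_zero]

end Homotopy

section Poly

variable {A : Type u} [CommRing A] {ι : Type w}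
variable {R' : Type u'} [CommRing R'] {F' : Type v'} [AddCommGroup F'] [Module R' F'] (j' : F' →ₗ[R'] R')
variable (τ₁ τ₂ : MvPolynomial ι A →+* R')

/-- For a polynomial ring, two ring maps that agree on constants and whose values on the variables differ by
elements of the range of `j'` are the two projections of a ring map to the unitization of `F'/F₀'`. -/
lemma exists_Phi (hC : ∀ a, τ₁ (MvPolynomial.C a) = τ₂ (MvPolynomial.C a))
    (hX : ∀ i, τ₁ (MvPolynomial.X i) - τ₂ (MvPolynomial.X i) ∈ LinearMap.range j') :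
    ∃ Φ : MvPolynomial ι A →+* Unitization R' (KE j'),
      (∀ r, (Φ r).fst = τ₂ r) ∧ (∀ r, p1 j' (Φ r) = τ₁ r) := by
  choose fi hfi using hX
  let Φ : MvPolynomial ι A →+* Unitization R' (KE j') :=
    MvPolynomial.eval₂Hom ((Unitization.inlRingHom R' (KE j')).comp (τ₂.comp MvPolynomial.C))
      (fun i => Unitization.inl (τ₂ (MvPolynomial.X i)) + ((KE.mk j' (fi i) : KE j') : Unitization R' (KE j')))
  refine ⟨Φ, ?_, ?_⟩
  · intro r
    have : ((Unitization.fstHom R' (KE j')).toRingHom.comp Φ) = τ₂ := by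
      apply MvPolynomial.ringHom_ext
      · intro a
        simp [Φ]
      · intro i
        simp [Φ]
    exact RingHom.congr_fun this r
  · intro r
    have : ((p1 j').toRingHom.comp Φ) = τ₁ := by
      apply MvPolynomial.ringHom_ext
      · intro a
        simp [Φ, p1_apply, hC]
      · intro i
        simp [Φ, p1_apply, hfi]
    exact RingHom.congr_fun this r

end Poly

section Triv

variable {R : Type u} [CommRing R]
variable {R' : Type u'} [CommRing R'] {F' : Type v'} [AddCommGroup F'] [Module R' F'] (j' : F' →ₗ[R'] R')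

/-- a single ring map is both projections of its composite with `inl` -/
lemma exists_Phi_of_eq (τ : R →+* R') :
    ∃ Φ : R →+* Unitization R' (KE j'), (∀ r, (Φ r).fst = τ r) ∧ (∀ r, p1 j' (Φ r) = τ r) := by
  refine ⟨(Unitization.inlRingHom R' (KE j')).comp τ, fun r => ?_, fun r => ?_⟩
  · simp
  · simp [p1_apply]

end Triv

end Groth.Agent.LibCotT29
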