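import Groth.Prelude.Def_CotT2
import Groth.Agent.LibCotT29

/-!
# Generalised morphisms of presentations and the homotopy invariance of `T²` (seat helper29)

`GHom P P'`: a ring map `τ : R → R'` between the polynomial rings of two presentations (of `B` over `A` and of `B'`
over `A'`, with only a ring map `B → B'` given, no relation between `A` and `A'` required) compatible with `B → B'`,
and lifts of the images of the relations.  The induced maps `L1map`, `L2map`, `T2pull` copy the prelude's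
(`CotT.PresHom`), of which they are a generalisation (`PresHom.toGHom`).

Main result: `GHom.T2pull_eq`: two generalised morphisms which are the two projections of a ring map
`Φ : R → Unitization R' (F'/F₀')` induce the same map on `T²`.
-/

set_option autoImplicit false

universe u v w t u' v' w' t' m n

open TensorProduct CotT

noncomputable section

namespace Groth.Agent.LibCotT29

variable {A : Type u} {B : Type v} {ι : Type w} {σ : Type t}
variable {A' : Type u'} {B' : Type v'} {ι' : Type w'} {σ' : Type t'}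
variable [CommRing A] [CommRing B] [Algebra A B] [CommRing A'] [CommRing B'] [Algebra A' B']
variable [Algebra B B']

/-- generalised morphism of presentations: no condition on the base rings -/
structure GHom (P : Algebra.Presentation A B ι σ) (P' : Algebra.Presentation A' B' ι' σ') where
  /-- the ring map `R → R'` -/
  τ : P.toExtension.Ring →+* P'.toExtension.Ring
  hτ : ∀ r, algebraMap P'.toExtension.Ring B' (τ r) = algebraMap B B' (algebraMap P.toExtension.Ring B r)
  /-- lifts of the images of the relations -/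
  relVal : σ → relMod P'
  jmap_relVal : ∀ s, jmap P' (relVal s) = τ (rel P s)

namespace GHom

variable {P : Algebra.Presentation A B ι σ} {P' : Algebra.Presentation A' B' ι' σ'} (h : GHom P P')

/-- `F → F'` -/
def relModMap : relMod P →ₛₗ[h.τ] relMod P' where
  toFun f := Finsupp.linearCombination P'.toExtension.Ring h.relVal (Finsupp.mapRange h.τ (map_zero _) f)
  map_add' f g := by rw [Finsupp.mapRange_add (map_add _), map_add]
  map_smul' r f := by
    rw [← map_smul]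
    congr 1
    ext s
    simp [Finsupp.mapRange_apply, map_mul]

@[simp] lemma relModMap_single (s : σ) (r : P.toExtension.Ring) :
    h.relModMap (Finsupp.single s r) = h.τ r • h.relVal s := by
  simp [relModMap]

lemma jmap_relModMap (f : relMod P) : jmap P' (h.relModMap f) = h.τ (jmap P f) := by
  induction f using Finsupp.induction_linear with
  | zero => simp
  | add f g hf hg => rw [map_add, map_add, hf, hg, map_add, map_add]
  | single s r => rw [relModMap_single, map_smul, jmap_relVal, jmap_single, smul_eq_mul, map_mul]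

/-- `Q → Q'` -/
def relKerMap : relKer P →ₛₗ[h.τ] relKer P' :=
  (h.relModMap.comp (relKer P).subtype).codRestrict (relKer P') (fun q => by
    change jmap P' (h.relModMap (q : relMod P)) = 0
    rw [jmap_relModMap, show jmap P (q : relMod P) = 0 from q.2, map_zero])

@[simp] lemma relKerMap_coe (q : relKer P) : (h.relKerMap q : relMod P') = h.relModMap q := rfl

lemma relModMap_mem_trivRel {y : relMod P} (hy : y ∈ trivRel P) : h.relModMap y ∈ trivRel P' := by
  induction hy using Submodule.span_induction with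
  | mem x hx =>
    obtain ⟨a, b, rfl⟩ := hx
    refine Submodule.subset_span ⟨h.relModMap a, h.relModMap b, ?_⟩
    rw [map_sub, LinearMap.map_smulₛₗ, LinearMap.map_smulₛₗ, jmap_relModMap, jmap_relModMap]
  | zero => simp
  | add x y _ _ hx hy => rw [map_add]; exact Submodule.add_mem _ hx hy
  | smul r x _ hx => rw [LinearMap.map_smulₛₗ]; exact Submodule.smul_mem _ _ hx

/-- `L₁ → L₁'` -/
def L1map : L1 P →ₛₗ[(algebraMap B B' : B →+* B')] L1 P' :=
  tensorMap h.τ h.hτ h.relModMap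

@[simp] lemma L1map_tmul (b : B) (f : relMod P) :
    h.L1map (b ⊗ₜ f) = algebraMap B B' b ⊗ₜ h.relModMap f := rfl

/-- auxiliary -/
def L2mapAux : B ⊗[P.toExtension.Ring] relKer P →ₛₗ[(algebraMap B B' : B →+* B')] L2 P' where
  toFun z := Submodule.Quotient.mk (tensorMap h.τ h.hτ h.relKerMap z)
  map_add' x y := by rw [map_add, Submodule.Quotient.mk_add]
  map_smul' b z := by rw [LinearMap.map_smulₛₗ, Submodule.Quotient.mk_smul]

lemma L2mapAux_tmul (b : B) (q : relKer P) :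
    h.L2mapAux (b ⊗ₜ q) = Submodule.Quotient.mk (algebraMap B B' b ⊗ₜ h.relKerMap q) := rfl

/-- `L₂ → L₂'` -/
def L2map : L2 P →ₛₗ[(algebraMap B B' : B →+* B')] L2 P' :=
  Submodule.liftQ _ h.L2mapAux (by
    rintro _ ⟨z, rfl⟩
    rw [LinearMap.mem_ker]
    induction z using TensorProduct.induction_on with
    | zero => simp
    | add x y hx hy => rw [map_add, map_add, hx, hy, add_zero]
    | tmul b k =>
      rw [LinearMap.baseChange_tmul, L2mapAux_tmul, Submodule.Quotient.mk_eq_zero]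
      refine ⟨algebraMap B B' b ⊗ₜ ⟨h.relKerMap (k : relKer P), ?_⟩, rfl⟩
      change (h.relKerMap (k : relKer P) : relMod P') ∈ trivRel P'
      rw [relKerMap_coe]
      exact h.relModMap_mem_trivRel k.2)

@[simp] lemma L2map_mk_tmul (b : B) (q : relKer P) :
    h.L2map (Submodule.Quotient.mk (b ⊗ₜ q)) = Submodule.Quotient.mk (algebraMap B B' b ⊗ₜ h.relKerMap q) := rfl

lemma d2_L2map (z : L2 P) : d2 P' (h.L2map z) = h.L1map (d2 P z) := by
  induction z using Submodule.Quotient.induction_on with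
  | H z =>
    induction z using TensorProduct.induction_on with
    | zero => simp
    | add x y hx hy =>
      rw [Submodule.Quotient.mk_add, map_add, map_add, hx, hy, map_add, map_add]
    | tmul b q => rw [L2map_mk_tmul, d2_mk_tmul, d2_mk_tmul, L1map_tmul, relKerMap_coe]

section Pull

variable (M' : Type m) [AddCommGroup M'] [Module B' M'] [Module B M'] [IsScalarTower B B' M']

/-- precomposition with `L₁ → L₁'` -/
def pull1 : (L1 P' →ₗ[B'] M') →ₗ[B] (L1 P →ₗ[B] M') where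
  toFun ψ := PresHom.linOfSemilinear M' (ψ.comp h.L1map)
  map_add' _ _ := rfl
  map_smul' _ _ := rfl

/-- precomposition with `L₂ → L₂'` -/
def pull2 : (L2 P' →ₗ[B'] M') →ₗ[B] (L2 P →ₗ[B] M') where
  toFun ψ := PresHom.linOfSemilinear M' (ψ.comp h.L2map)
  map_add' _ _ := rfl
  map_smul' _ _ := rfl

@[simp] lemma pull1_apply (ψ : L1 P' →ₗ[B'] M') (x : L1 P) : h.pull1 M' ψ x = ψ (h.L1map x) := rfl
@[simp] lemma pull2_apply (ψ : L2 P' →ₗ[B'] M') (x : L2 P) : h.pull2 M' ψ x = ψ (h.L2map x) := rfl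

lemma pull2_d2Star (ψ : L1 P' →ₗ[B'] M') : h.pull2 M' (d2Star P' M' ψ) = d2Star P M' (h.pull1 M' ψ) := by
  refine LinearMap.ext fun z => ?_
  simp [d2_L2map]

/-- the induced map on `T²` -/
def T2pull : T2 P' M' →ₗ[B] T2 P M' :=
  (Submodule.mapQ ((LinearMap.range (d2Star P' M')).restrictScalars B) (LinearMap.range (d2Star P M'))
    (h.pull2 M') (by
    rintro _ ⟨ψ, rfl⟩
    exact ⟨h.pull1 M' ψ, (h.pull2_d2Star M' ψ).symm⟩)).comp
  (Submodule.Quotient.restrictScalarsEquiv B (LinearMap.range (d2Star P' M'))).symm.toLinearMap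

lemma T2pull_mk (ψ : L2 P' →ₗ[B'] M') :
    h.T2pull M' (Submodule.Quotient.mk ψ) = Submodule.Quotient.mk (h.pull2 M' ψ) := rfl

end Pull

end GHom

section Homotopy

variable (P' : Algebra.Presentation A' B' ι' σ')

/-- `ν : Q' → L₂'`, `q ↦ [1 ⊗ q]` -/
def nu : relKer P' →ₗ[P'.toExtension.Ring] L2 P' :=
  ((LinearMap.range ((trivRelKer P').subtype.baseChange B')).mkQ.restrictScalars P'.toExtension.Ring).comp
    (TensorProduct.mk P'.toExtension.Ring B' (relKer P') 1)

lemma nu_apply (q : relKer P') : nu P' q = Submodule.Quotient.mk ((1 : B') ⊗ₜ q) := rfl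

lemma nu_eq_zero_of_mem (q : relKer P') (hq : (q : relMod P') ∈ trivRel P') : nu P' q = 0 := by
  rw [nu_apply, Submodule.Quotient.mk_eq_zero]
  exact ⟨1 ⊗ₜ ⟨q, hq⟩, rfl⟩

lemma nu_eq_of_mk_eq (q q' : relKer P')
    (h : KE.mk (jmap P') (q : relMod P') = KE.mk (jmap P') (q' : relMod P')) : nu P' q = nu P' q' := by
  rw [← sub_eq_zero, ← map_sub]
  apply nu_eq_zero_of_mem
  rw [← sub_eq_zero, ← map_sub, KE.mk_eq_zero_iff] at h
  exact h

lemma exists_relKer_of_jbar_eq_zero (x : KE (jmap P')) (hx : KE.jbar (jmap P') x = 0) :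
    ∃ q : relKer P', KE.mk (jmap P') (q : relMod P') = x := by
  obtain ⟨f, rfl⟩ := KE.mk_surjective _ x
  rw [KE.jbar_mk] at hx
  exact ⟨⟨f, hx⟩, rfl⟩

variable {P'} {P : Algebra.Presentation A B ι σ}
variable (g₁ g₂ : GHom P P')
variable (Φ : P.toExtension.Ring →+* Unitization P'.toExtension.Ring (KE (jmap P')))
  (hΦ₂ : ∀ r, (Φ r).fst = g₂.τ r) (hΦ₁ : ∀ r, p1 (jmap P') (Φ r) = g₁.τ r)

/-- the homotopy operator `F → F'/F₀'` -/
def Hop : relMod P →ₛₗ[g₂.τ] KE (jmap P') :=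
  homotopy (jmap P) (jmap P') g₁.relModMap g₂.relModMap g₁.jmap_relModMap Φ hΦ₂ hΦ₁

lemma jbar_Hop (f : relMod P) : KE.jbar (jmap P') (Hop g₁ g₂ Φ hΦ₂ hΦ₁ f) = 0 :=
  jbar_hfun (jmap P) (jmap P') g₁.relModMap g₂.relModMap g₁.jmap_relModMap g₂.jmap_relModMap Φ hΦ₂ hΦ₁ f

/-- `F → L₂'` as a function -/
def PsiFun (f : relMod P) : L2 P' :=
  nu P' (Classical.choose (exists_relKer_of_jbar_eq_zero P' _ (jbar_Hop g₁ g₂ Φ hΦ₂ hΦ₁ f)))

lemma PsiFun_spec (f : relMod P) (q : relKer P')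
    (hq : KE.mk (jmap P') (q : relMod P') = Hop g₁ g₂ Φ hΦ₂ hΦ₁ f) :
    PsiFun g₁ g₂ Φ hΦ₂ hΦ₁ f = nu P' q := by
  apply nu_eq_of_mk_eq
  rw [hq]
  exact Classical.choose_spec (exists_relKer_of_jbar_eq_zero P' _ (jbar_Hop g₁ g₂ Φ hΦ₂ hΦ₁ f))

/-- `F → L₂'` -/
def Psi : relMod P →ₛₗ[g₂.τ] L2 P' where
  toFun := PsiFun g₁ g₂ Φ hΦ₂ hΦ₁
  map_add' f f' := by
    obtain ⟨q, hq⟩ := exists_relKer_of_jbar_eq_zero P' _ (jbar_Hop g₁ g₂ Φ hΦ₂ hΦ₁ f)
    obtain ⟨q', hq'⟩ := exists_relKer_of_jbar_eq_zero P' _ (jbar_Hop g₁ g₂ Φ hΦ₂ hΦ₁ f')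
    rw [PsiFun_spec g₁ g₂ Φ hΦ₂ hΦ₁ f q hq, PsiFun_spec g₁ g₂ Φ hΦ₂ hΦ₁ f' q' hq',
      PsiFun_spec g₁ g₂ Φ hΦ₂ hΦ₁ (f + f') (q + q') (by
        rw [map_add, ← hq, ← hq']
        exact map_add _ _ _), map_add]
  map_smul' r f := by
    obtain ⟨q, hq⟩ := exists_relKer_of_jbar_eq_zero P' _ (jbar_Hop g₁ g₂ Φ hΦ₂ hΦ₁ f)
    rw [PsiFun_spec g₁ g₂ Φ hΦ₂ hΦ₁ f q hq,
      PsiFun_spec g₁ g₂ Φ hΦ₂ hΦ₁ (r • f) (g₂.τ r • q) (by
        rw [LinearMap.map_smulₛₗ, ← hq]
        exact map_smul _ _ _), map_smul]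

lemma Psi_of_relKer (q : relKer P) :
    Psi g₁ g₂ Φ hΦ₂ hΦ₁ (q : relMod P) = nu P' (g₁.relKerMap q - g₂.relKerMap q) := by
  apply PsiFun_spec
  rw [Hop, homotopy_of_mem_ker _ _ _ _ _ _ _ _ _ q.2, ← map_sub]
  rfl

/-- the homotopy `s₁ : L₁ → L₂'` -/
def s1 : L1 P →ₛₗ[(algebraMap B B' : B →+* B')] L2 P' :=
  (LinearMap.liftBaseChange B' (LinearMap.id : L2 P' →ₗ[P'.toExtension.Ring] L2 P')).comp
    (tensorMap g₂.τ g₂.hτ (Psi g₁ g₂ Φ hΦ₂ hΦ₁))

lemma s1_tmul (b : B) (f : relMod P) :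
    s1 g₁ g₂ Φ hΦ₂ hΦ₁ (b ⊗ₜ f) = algebraMap B B' b • Psi g₁ g₂ Φ hΦ₂ hΦ₁ f := by
  simp [s1]

lemma L2map_sub (z : L2 P) : g₁.L2map z - g₂.L2map z = s1 g₁ g₂ Φ hΦ₂ hΦ₁ (d2 P z) := by
  induction z using Submodule.Quotient.induction_on with
  | H z =>
    induction z using TensorProduct.induction_on with
    | zero => simp
    | add x y hx hy =>
      rw [Submodule.Quotient.mk_add, map_add, map_add, map_add, map_add, ← hx, ← hy]
      abel
    | tmul b q =>
      rw [GHom.L2map_mk_tmul, GHom.L2map_mk_tmul, d2_mk_tmul, s1_tmul, Psi_of_relKer, nu_apply,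
        ← Submodule.Quotient.mk_smul, TensorProduct.smul_tmul', smul_eq_mul, mul_one,
        ← Submodule.Quotient.mk_sub]
      congr 1
      exact (map_sub (TensorProduct.mk P'.toExtension.Ring B' (relKer P') (algebraMap B B' b)) _ _).symm

include Φ hΦ₂ hΦ₁ in
theorem GHom.T2pull_eq (M' : Type m) [AddCommGroup M'] [Module B' M'] [Module B M'] [IsScalarTower B B' M'] :
    g₁.T2pull M' = g₂.T2pull M' := by
  refine LinearMap.ext fun x => ?_
  obtain ⟨ψ, rfl⟩ := Submodule.Quotient.mk_surjective _ x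
  rw [GHom.T2pull_mk, GHom.T2pull_mk, ← sub_eq_zero, ← Submodule.Quotient.mk_sub,
    Submodule.Quotient.mk_eq_zero]
  refine ⟨PresHom.linOfSemilinear M' (ψ.comp (s1 g₁ g₂ Φ hΦ₂ hΦ₁)), ?_⟩
  refine LinearMap.ext fun z => ?_
  rw [d2Star_apply]
  change ψ (s1 g₁ g₂ Φ hΦ₂ hΦ₁ (d2 P z)) = ψ (g₁.L2map z) - ψ (g₂.L2map z)
  rw [← L2map_sub, map_sub]

end Homotopy

end Groth.Agent.LibCotT29

end
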