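import Groth.Agent.LibCotT29b

/-!
# Composition of generalised morphisms of presentations; `T²` is independent of the presentation (seat helper29)
-/

set_option autoImplicit false

universe u v w t u' v' w' t' u'' v'' w'' t'' m n

open TensorProduct CotT

noncomputable section

namespace Groth.Agent.LibCotT29

variable {A : Type u} {B : Type v} {ι : Type w} {σ : Type t}
variable {A' : Type u'} {B' : Type v'} {ι' : Type w'} {σ' : Type t'}
variable {A'' : Type u''} {B'' : Type v''} {ι'' : Type w''} {σ'' : Type t''}
variable [CommRing A] [CommRing B] [Algebra A B] [CommRing A'] [CommRing B'] [Algebra A' B']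
variable [CommRing A''] [CommRing B''] [Algebra A'' B'']
variable [Algebra B B'] [Algebra B' B''] [Algebra B B''] [IsScalarTower B B' B'']
variable {P : Algebra.Presentation A B ι σ} {P' : Algebra.Presentation A' B' ι' σ'}
variable {P'' : Algebra.Presentation A'' B'' ι'' σ''}

namespace GHom

/-- composition -/
def comp (h' : GHom P' P'') (h : GHom P P') : GHom P P'' where
  τ := h'.τ.comp h.τ
  hτ r := by
    rw [RingHom.comp_apply, h'.hτ, h.hτ, ← IsScalarTower.algebraMap_apply]
  relVal s := h'.relModMap (h.relVal s)
  jmap_relVal s := by
    rw [h'.jmap_relModMap, h.jmap_relVal]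
    rfl

variable (h' : GHom P' P'') (h : GHom P P')

lemma comp_relModMap (f : relMod P) : (h'.comp h).relModMap f = h'.relModMap (h.relModMap f) := by
  induction f using Finsupp.induction_linear with
  | zero => simp
  | add f g hf hg => rw [map_add, map_add, map_add, hf, hg]
  | single s r =>
    rw [relModMap_single, relModMap_single, LinearMap.map_smulₛₗ]
    rfl

lemma comp_L1map (x : L1 P) : (h'.comp h).L1map x = h'.L1map (h.L1map x) := by
  induction x using TensorProduct.induction_on with
  | zero => simp
  | add x y hx hy => rw [map_add, map_add, map_add, hx, hy]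
  | tmul b f =>
    rw [L1map_tmul, L1map_tmul, L1map_tmul, comp_relModMap, ← IsScalarTower.algebraMap_apply]

lemma comp_L2map (z : L2 P) : (h'.comp h).L2map z = h'.L2map (h.L2map z) := by
  induction z using Submodule.Quotient.induction_on with
  | H z =>
    induction z using TensorProduct.induction_on with
    | zero => simp
    | add x y hx hy =>
      rw [Submodule.Quotient.mk_add, map_add, map_add, map_add, hx, hy]
    | tmul b q =>
      rw [L2map_mk_tmul, L2map_mk_tmul, L2map_mk_tmul, ← IsScalarTower.algebraMap_apply]
      congr 2
      apply Subtype.ext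
      rw [relKerMap_coe, relKerMap_coe, relKerMap_coe, comp_relModMap]

variable (M : Type m) [AddCommGroup M] [Module B'' M] [Module B' M] [Module B M]
  [IsScalarTower B' B'' M] [IsScalarTower B B' M] [IsScalarTower B B'' M]

lemma comp_T2pull (x : T2 P'' M) : (h'.comp h).T2pull M x = h.T2pull M (h'.T2pull M x) := by
  obtain ⟨ψ, rfl⟩ := Submodule.Quotient.mk_surjective _ x
  rw [T2pull_mk, T2pull_mk, T2pull_mk]
  congr 1
  refine LinearMap.ext fun z => ?_
  rw [pull2_apply, pull2_apply, pull2_apply, comp_L2map]

end GHom

/-- the identity -/
def GHom.id (P : Algebra.Presentation A B ι σ) : GHom P P where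
  τ := RingHom.id _
  hτ _ := rfl
  relVal s := Finsupp.single s 1
  jmap_relVal s := by rw [jmap_single, one_mul]; rfl

lemma GHom.id_relModMap (f : relMod P) : (GHom.id P).relModMap f = f := by
  induction f using Finsupp.induction_linear with
  | zero => simp
  | add f g hf hg => rw [map_add, hf, hg]
  | single s r =>
    rw [GHom.relModMap_single]
    change r • Finsupp.single s (1 : P.toExtension.Ring) = _
    rw [Finsupp.smul_single, smul_eq_mul, mul_one]

lemma GHom.id_L2map (z : L2 P) : (GHom.id P).L2map z = z := by
  induction z using Submodule.Quotient.induction_on with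
  | H z =>
    induction z using TensorProduct.induction_on with
    | zero => simp
    | add x y hx hy =>
      rw [Submodule.Quotient.mk_add, map_add, hx, hy]
    | tmul b q =>
      rw [GHom.L2map_mk_tmul]
      congr 2
      apply Subtype.ext
      rw [GHom.relKerMap_coe, GHom.id_relModMap]

lemma GHom.id_T2pull (M : Type m) [AddCommGroup M] [Module B M] (x : T2 P M) :
    (GHom.id P).T2pull M x = x := by
  obtain ⟨ψ, rfl⟩ := Submodule.Quotient.mk_surjective _ x
  rw [GHom.T2pull_mk]
  congr 1
  refine LinearMap.ext fun z => ?_
  rw [GHom.pull2_apply, GHom.id_L2map]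

end Groth.Agent.LibCotT29

end
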