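import Mathlib.RingTheory.AdicCompletion.Functoriality
import Mathlib.RingTheory.AdicCompletion.Algebra
import Mathlib.Algebra.Module.Projective
import Mathlib.RingTheory.LocalRing.ResidueField.Basic
import Mathlib.LinearAlgebra.Basis.Basic
import Mathlib.LinearAlgebra.FiniteDimensional.Lemmas
import Mathlib.LinearAlgebra.Dimension.Free

/-!
# LibCplFree29a: completions of modules with projective truncations (helper29)

`R` a ring, `I` an ideal, `f : M → N` a linear map which is bijective modulo `I`, and such that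
`N / I^n N` is a projective `R / I^n`-module for all `n`.  Then `f` is bijective modulo `I^n` for
all `n` and `AdicCompletion.map I f` is bijective.  In particular, if `R` is `I`-adically complete
and `M = R^r`, the completion of `N` is free of rank `r`.
-/

set_option autoImplicit false

namespace Groth.Agent.LibCplFree29

open Submodule LinearMap

section general

variable {R : Type*} [CommRing R] (I : Ideal R) {M N : Type*} [AddCommGroup M] [Module R M]
  [AddCommGroup N] [Module R N] (f : M →ₗ[R] N)

lemma surjective_mkQ_comp (h : Function.Surjective (f.reduceModIdeal I)) :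
    Function.Surjective (mkQ (I • ⊤ : Submodule R N) ∘ₗ f) := by
  intro y
  obtain ⟨x', hx'⟩ := h y
  obtain ⟨x, rfl⟩ := Submodule.Quotient.mk_surjective _ x'
  exact ⟨x, hx'⟩

/-- surjectivity mod `I` gives approximations mod `I^n` -/
lemma exists_sub_mem_pow (h : Function.Surjective (f.reduceModIdeal I)) (n : ℕ) (y : N) :
    ∃ x : M, y - f x ∈ (I ^ n • ⊤ : Submodule R N) := by
  induction n with
  | zero => exact ⟨0, by simp⟩
  | succ n ih =>
    obtain ⟨x, hx⟩ := ih
    obtain ⟨x', -, hx'⟩ :=
      AdicCompletion.exists_smodEq_pow_add_one_smul (surjective_mkQ_comp I f h) hx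
    refine ⟨x + x', ?_⟩
    have h1 := SModEq.sub_mem.1 hx'
    have h2 : y - f (x + x') = -(f x' - (y - f x)) := by rw [map_add]; abel
    rw [h2]
    exact Submodule.neg_mem _ h1

lemma reduceModIdeal_pow_surjective (h : Function.Surjective (f.reduceModIdeal I)) (n : ℕ) :
    Function.Surjective (f.reduceModIdeal (I ^ n)) := by
  intro y'
  obtain ⟨y, rfl⟩ := Submodule.Quotient.mk_surjective _ y'
  obtain ⟨x, hx⟩ := exists_sub_mem_pow I f h n y
  refine ⟨Submodule.Quotient.mk x, ?_⟩
  rw [LinearMap.reduceModIdeal_apply]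
  exact ((Submodule.Quotient.eq _).2 hx).symm

lemma pow_smul_top_quotient_eq_bot (n : ℕ) :
    (I ^ n • ⊤ : Submodule R (M ⧸ (I ^ n • ⊤ : Submodule R M))) = ⊥ := by
  rw [eq_bot_iff]
  intro x hx
  refine Submodule.smul_induction_on hx (fun a ha y _ => ?_) (fun x y hx hy => ?_)
  · obtain ⟨m, rfl⟩ := Submodule.Quotient.mk_surjective _ y
    rw [Submodule.mem_bot, ← Submodule.Quotient.mk_smul, Submodule.Quotient.mk_eq_zero]
    exact Submodule.smul_mem_smul ha Submodule.mem_top
  · exact Submodule.add_mem _ hx hy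

lemma reduceModIdeal_pow_injective (h1 : Function.Bijective (f.reduceModIdeal I)) (n : ℕ)
    [Module.Projective (R ⧸ I ^ n) (N ⧸ (I ^ n • ⊤ : Submodule R N))] :
    Function.Injective (f.reduceModIdeal (I ^ n)) := by
  rcases Nat.eq_zero_or_pos n with rfl | hn
  · intro x y _
    have : (I ^ 0 • ⊤ : Submodule R M) = ⊤ := by simp
    have hs : Subsingleton (M ⧸ (I ^ 0 • ⊤ : Submodule R M)) :=
      Submodule.Quotient.subsingleton_iff.2 this
    exact Subsingleton.elim _ _
  set fn := f.reduceModIdeal (I ^ n) with hfn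
  have hsurj : Function.Surjective fn := reduceModIdeal_pow_surjective I f h1.2 n
  obtain ⟨s, hs⟩ := Module.projective_lifting_property fn LinearMap.id hsurj
  let fR : (M ⧸ (I ^ n • ⊤ : Submodule R M)) →ₗ[R] (N ⧸ (I ^ n • ⊤ : Submodule R N)) :=
    fn.restrictScalars R
  let sR : (N ⧸ (I ^ n • ⊤ : Submodule R N)) →ₗ[R] (M ⧸ (I ^ n • ⊤ : Submodule R M)) :=
    s.restrictScalars R
  have hsR : ∀ y, fR (sR y) = y := fun y => LinearMap.congr_fun hs y
  let π : (M ⧸ (I ^ n • ⊤ : Submodule R M)) →ₗ[R] (M ⧸ (I ^ n • ⊤ : Submodule R M)) :=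
    LinearMap.id - sR ∘ₗ fR
  let Kn : Submodule R (M ⧸ (I ^ n • ⊤ : Submodule R M)) := LinearMap.ker fR
  have hπK : ∀ x ∈ Kn, π x = x := by
    intro x hx
    have : fR x = 0 := hx
    simp [π, this]
  have hπ : Submodule.map π ⊤ ≤ Kn := by
    rintro _ ⟨y, -, rfl⟩
    show fR (π y) = 0
    simp only [π, LinearMap.sub_apply, LinearMap.id_apply, LinearMap.comp_apply, map_sub, hsR,
      sub_self]
  -- basic claim
  have hle : (I ^ n • ⊤ : Submodule R N) ≤ (I • ⊤ : Submodule R N) := by
    refine Submodule.smul_mono_left ?_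
    exact Ideal.pow_le_self (Nat.pos_iff_ne_zero.1 hn)
  have hbasic : Kn ≤ I • Kn := by
    intro x hx
    have hx1 : x ∈ (I • ⊤ : Submodule R (M ⧸ (I ^ n • ⊤ : Submodule R M))) := by
      obtain ⟨m, rfl⟩ := Submodule.Quotient.mk_surjective _ x
      have h0 : fn (Submodule.Quotient.mk m) = 0 := hx
      rw [hfn, LinearMap.reduceModIdeal_apply, Submodule.Quotient.mk_eq_zero] at h0
      have h2 : f.reduceModIdeal I (Submodule.Quotient.mk m) = 0 := by
        rw [LinearMap.reduceModIdeal_apply, Submodule.Quotient.mk_eq_zero]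
        exact hle h0
      have h3 : (Submodule.Quotient.mk m : M ⧸ (I • ⊤ : Submodule R M)) = 0 :=
        h1.1 (by rw [h2, map_zero])
      rw [Submodule.Quotient.mk_eq_zero] at h3
      have h4 : Submodule.map (mkQ (I ^ n • ⊤ : Submodule R M)) (I • ⊤ : Submodule R M) ≤
          (I • ⊤ : Submodule R (M ⧸ (I ^ n • ⊤ : Submodule R M))) := by
        rw [Submodule.map_smul'']
        exact smul_mono_right _ le_top
      exact h4 ⟨m, h3, rfl⟩
    have hx2 : π x ∈ Submodule.map π (I • ⊤ : Submodule R (M ⧸ (I ^ n • ⊤ : Submodule R M))) :=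
      ⟨x, hx1, rfl⟩
    rw [Submodule.map_smul''] at hx2
    rw [hπK x hx] at hx2
    exact smul_mono_right _ hπ hx2
  have hpow : ∀ k : ℕ, Kn ≤ I ^ k • Kn := by
    intro k
    induction k with
    | zero => simp
    | succ k ih =>
      calc Kn ≤ I • Kn := hbasic
        _ ≤ I • (I ^ k • Kn) := smul_mono_right _ ih
        _ = I ^ (k + 1) • Kn := by rw [← mul_smul, ← pow_succ']
  have hbot : Kn = ⊥ := by
    rw [eq_bot_iff]
    calc Kn ≤ I ^ n • Kn := hpow n
      _ ≤ I ^ n • ⊤ := smul_mono_right _ le_top
      _ = ⊥ := pow_smul_top_quotient_eq_bot I n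
  have : Function.Injective fR := LinearMap.ker_eq_bot.1 hbot
  exact this

/-- **bijectivity on completions** -/
theorem map_bijective (h1 : Function.Bijective (f.reduceModIdeal I))
    (hproj : ∀ n, Module.Projective (R ⧸ I ^ n) (N ⧸ (I ^ n • ⊤ : Submodule R N))) :
    Function.Bijective (AdicCompletion.map I f) := by
  refine ⟨?_, AdicCompletion.map_surjective_of_mkQ_comp_surjective (surjective_mkQ_comp I f h1.2)⟩
  rw [injective_iff_map_eq_zero]
  intro x hx
  apply AdicCompletion.ext
  intro n
  haveI := hproj n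
  apply reduceModIdeal_pow_injective I f h1 n
  have h2 : (AdicCompletion.map I f x).val n = 0 := by rw [hx]; rfl
  rw [AdicCompletion.map_val_apply] at h2
  rw [h2, AdicCompletion.val_zero_apply, map_zero]

end general

section free

variable {A : Type*} [CommRing A] (I : Ideal A) [IsAdicComplete I A]

/-- the completion of `A^r` is `A^r` for complete `A` -/
noncomputable def piEquiv (r : ℕ) : AdicCompletion I (Fin r → A) ≃ₗ[A] (Fin r → A) :=
  ((AdicCompletion.piEquivFin I r).restrictScalars A).trans
    (LinearEquiv.piCongrRight fun _ => (AdicCompletion.ofLinearEquiv I A).symm)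

variable {N : Type*} [AddCommGroup N] [Module A N]

theorem nonempty_linearEquiv (r : ℕ) (b : Fin r → N)
    (hb : Function.Bijective ((Fintype.linearCombination A b).reduceModIdeal I))
    (hproj : ∀ n, Module.Projective (A ⧸ I ^ n) (N ⧸ (I ^ n • ⊤ : Submodule A N))) :
    Nonempty ((Fin r → A) ≃ₗ[A] AdicCompletion I N) := by
  have h := map_bijective I (Fintype.linearCombination A b) hb hproj
  let e : AdicCompletion I (Fin r → A) ≃ₗ[A] AdicCompletion I N :=
    LinearEquiv.ofBijective ((AdicCompletion.map I (Fintype.linearCombination A b)).restrictScalars A) h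
  exact ⟨(piEquiv I r).symm.trans e⟩

end free

section loc

open IsLocalRing

variable {A : Type*} [CommRing A] [IsLocalRing A] {N : Type*} [AddCommGroup N] [Module A N]

theorem bijective_reduceModIdeal_of_basis (r : ℕ) (b : Fin r → N)
    (hli : LinearIndependent (A ⧸ maximalIdeal A) (fun i =>
      (Submodule.Quotient.mk (b i) : N ⧸ (maximalIdeal A • ⊤ : Submodule A N))))
    (hsp : Submodule.span (A ⧸ maximalIdeal A) (Set.range fun i =>
      (Submodule.Quotient.mk (b i) : N ⧸ (maximalIdeal A • ⊤ : Submodule A N))) = ⊤) :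
    Function.Bijective ((Fintype.linearCombination A b).reduceModIdeal (maximalIdeal A)) := by
  classical
  set f1 := (Fintype.linearCombination A b).reduceModIdeal (maximalIdeal A) with hf1
  have key : ∀ x : Fin r → A, f1 (Submodule.Quotient.mk x) =
      ∑ i, (Ideal.Quotient.mk (maximalIdeal A) (x i)) •
        (Submodule.Quotient.mk (b i) : N ⧸ (maximalIdeal A • ⊤ : Submodule A N)) := by
    intro x
    rw [hf1, LinearMap.reduceModIdeal_apply, Fintype.linearCombination_apply]
    rw [← Submodule.mkQ_apply, map_sum]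
    refine Finset.sum_congr rfl fun i _ => ?_
    rw [map_smul]
    rfl
  constructor
  · rw [injective_iff_map_eq_zero]
    intro x' hx'
    obtain ⟨x, rfl⟩ := Submodule.Quotient.mk_surjective _ x'
    rw [key] at hx'
    have h0 := Fintype.linearIndependent_iff.1 hli _ hx'
    rw [Submodule.Quotient.mk_eq_zero]
    have hx : x = ∑ i, x i • (Pi.single i (1 : A) : Fin r → A) := by
      ext j
      simp [Finset.sum_apply, Pi.single_apply]
    rw [hx]
    refine Submodule.sum_mem _ fun i _ => ?_
    exact Submodule.smul_mem_smul (Ideal.Quotient.eq_zero_iff_mem.1 (h0 i)) Submodule.mem_top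
  · rw [← LinearMap.range_eq_top, eq_top_iff, ← hsp, Submodule.span_le]
    rintro _ ⟨i, rfl⟩
    refine ⟨Submodule.Quotient.mk (Pi.single i (1 : A)), ?_⟩
    rw [key]
    rw [Finset.sum_eq_single i]
    · simp
    · intro j _ hj
      simp [hj]
    · intro h
      exact absurd (Finset.mem_univ i) h

theorem nonempty_linearEquiv_of_finite [IsAdicComplete (maximalIdeal A) A]
    [Module.Finite A (N ⧸ (maximalIdeal A • ⊤ : Submodule A N))]
    (hproj : ∀ n, Module.Projective (A ⧸ maximalIdeal A ^ n)
      (N ⧸ (maximalIdeal A ^ n • ⊤ : Submodule A N))) :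
    Nonempty ((Fin (Module.finrank (A ⧸ maximalIdeal A)
      (N ⧸ (maximalIdeal A • ⊤ : Submodule A N))) → A) ≃ₗ[A]
        AdicCompletion (maximalIdeal A) N) := by
  classical
  letI : Field (A ⧸ maximalIdeal A) := Ideal.Quotient.field _
  haveI : Module.Finite (A ⧸ maximalIdeal A) (N ⧸ (maximalIdeal A • ⊤ : Submodule A N)) :=
    Module.Finite.of_restrictScalars_finite A _ _
  let bs := Module.finBasis (A ⧸ maximalIdeal A) (N ⧸ (maximalIdeal A • ⊤ : Submodule A N))
  choose b hb using fun i => Submodule.Quotient.mk_surjective _ (bs i)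
  have hfun : (fun i => (Submodule.Quotient.mk (b i) :
      N ⧸ (maximalIdeal A • ⊤ : Submodule A N))) = bs := funext hb
  refine nonempty_linearEquiv (maximalIdeal A) _ b ?_ hproj
  apply bijective_reduceModIdeal_of_basis
  · rw [hfun]; exact bs.linearIndependent
  · rw [hfun]; exact bs.span_eq

end loc

end Groth.Agent.LibCplFree29
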