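import Groth.Statements.S3441
import Mathlib

set_option autoImplicit false
universe u
open EGA41

namespace Groth.Agent.S3441


open TensorProduct in
lemma ext_tmul_D {R S T N : Type*} [CommRing R] [CommRing S] [CommRing T] [Algebra R S]
    [Algebra S T] [AddCommGroup N] [Module T N]
    (f g : T ⊗[S] Ω[S⁄R] →ₗ[T] N)
    (h : ∀ s : S, f ((1 : T) ⊗ₜ[S] KaehlerDifferential.D R S s) =
      g ((1 : T) ⊗ₜ[S] KaehlerDifferential.D R S s)) : f = g := by
  apply LinearMap.ext
  intro z
  induction z using TensorProduct.induction_on with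
  | zero => simp
  | tmul t w =>
    have hw : w ∈ Submodule.span S (Set.range (KaehlerDifferential.D R S)) := by
      rw [KaehlerDifferential.span_range_derivation]; trivial
    induction hw using Submodule.span_induction generalizing t with
    | mem w hw =>
      obtain ⟨s, rfl⟩ := hw
      have : t ⊗ₜ[S] KaehlerDifferential.D R S s =
          t • ((1 : T) ⊗ₜ[S] KaehlerDifferential.D R S s) := by
        rw [TensorProduct.smul_tmul', smul_eq_mul, mul_one]
      rw [this, map_smul, map_smul, h]
    | zero => simp
    | add a b _ _ ha hb => rw [TensorProduct.tmul_add, map_add, map_add, ha, hb]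
    | smul s w _ ih => rw [← TensorProduct.smul_tmul]; exact ih _
  | add a b ha hb => rw [map_add, map_add, ha, hb]

open TensorProduct in
lemma fsrel_of_leftInverse (A B C : Type u) [CommRing A] [CommRing B]
    [CommRing C] [Algebra A B] [Algebra B C] [Algebra A C] [IsScalarTower A B C]
    (l : Ω[C⁄A] →ₗ[C] C ⊗[B] Ω[B⁄A])
    (hl : l ∘ₗ KaehlerDifferential.mapBaseChange A B C = LinearMap.id) :
    EGA41.IsFormallySmoothRel A B C := by
  intro E _ _ _ _ J hJ u₀ hu
  obtain ⟨u, hu⟩ := hu
  letI algCE : Algebra C E := u.toRingHom.toAlgebra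
  haveI : IsScalarTower A C E := IsScalarTower.of_algebraMap_eq (fun a => (u.commutes a).symm)
  have halg : ∀ c : C, algebraMap C E c = u c := fun c => rfl
  have hmem : ∀ b : B, u (algebraMap B C b) - algebraMap B E b ∈ J := by
    intro b
    rw [← Ideal.Quotient.eq_zero_iff_mem, map_sub, sub_eq_zero]
    have h1 := congrArg (fun f => f (algebraMap B C b)) hu
    simp only [AlgHom.comp_apply, AlgHom.restrictScalars_apply, Ideal.Quotient.mkₐ_eq_mk] at h1
    rw [h1, u₀.commutes]
    rfl
  have hsq : ∀ x ∈ J, ∀ y ∈ J, x * y = 0 := by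
    intro x hx y hy
    have : x * y ∈ J ^ 2 := by rw [pow_two]; exact Ideal.mul_mem_mul hx hy
    rwa [hJ, Ideal.mem_bot] at this
  have hJmul : ∀ (b : B) (j : E), j ∈ J → u (algebraMap B C b) * j = algebraMap B E b * j := by
    intro b j hj
    have := hsq _ (hmem b) j hj
    rw [sub_mul, sub_eq_zero] at this
    exact this
  haveI : IsScalarTower B C J := ⟨fun b c j => Subtype.ext (by
    show (b • c) • (j : E) = b • (c • (j : E))
    rw [Algebra.smul_def (b • c) (j : E), Algebra.smul_def c (j : E), halg, halg,
      Algebra.smul_def b c, map_mul, mul_assoc, Algebra.smul_def b (u c * (j : E))]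
    exact hJmul b _ (J.mul_mem_left _ j.2))⟩
  let δlin : B →ₗ[A] J :=
    { toFun := fun b => ⟨u (algebraMap B C b) - algebraMap B E b, hmem b⟩
      map_add' := fun x y => Subtype.ext (by
        show u (algebraMap B C (x + y)) - algebraMap B E (x + y) =
          (u (algebraMap B C x) - algebraMap B E x) + (u (algebraMap B C y) - algebraMap B E y)
        rw [map_add, map_add, map_add]; ring)
      map_smul' := fun a x => Subtype.ext (by
        show u (algebraMap B C (a • x)) - algebraMap B E (a • x) =
          a • (u (algebraMap B C x) - algebraMap B E x)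
        rw [Algebra.smul_def a x, map_mul, map_mul, map_mul, ← IsScalarTower.algebraMap_apply,
          ← IsScalarTower.algebraMap_apply, u.commutes, Algebra.smul_def a]
        ring) }
  let δ : Derivation A B J := Derivation.mk' δlin (fun b b' => Subtype.ext (by
    show u (algebraMap B C (b * b')) - algebraMap B E (b * b') =
      b • (u (algebraMap B C b') - algebraMap B E b') + b' • (u (algebraMap B C b) - algebraMap B E b)
    have h0 := hsq _ (hmem b) _ (hmem b')
    rw [Algebra.smul_def b, Algebra.smul_def b', map_mul, map_mul, map_mul]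
    linear_combination h0))
  have hδ : ∀ b, ((δ b : J) : E) = u (algebraMap B C b) - algebraMap B E b := fun b => rfl
  let ψ : C ⊗[B] Ω[B⁄A] →ₗ[C] J := (δ.liftKaehlerDifferential).liftBaseChange C
  let Dder : Derivation A C J := (ψ ∘ₗ l).compDer (KaehlerDifferential.D A C)
  have hD : ∀ b : B, Dder (algebraMap B C b) = δ b := by
    intro b
    have h1 : KaehlerDifferential.D A C (algebraMap B C b) =
        KaehlerDifferential.mapBaseChange A B C ((1 : C) ⊗ₜ[B] KaehlerDifferential.D A B b) := by
      rw [KaehlerDifferential.mapBaseChange_tmul, one_smul, KaehlerDifferential.map_D]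
    have h2 : l (KaehlerDifferential.mapBaseChange A B C
        ((1 : C) ⊗ₜ[B] KaehlerDifferential.D A B b)) = (1 : C) ⊗ₜ[B] KaehlerDifferential.D A B b :=
      congrArg (fun F => F ((1 : C) ⊗ₜ[B] KaehlerDifferential.D A B b)) hl
    show ψ (l (KaehlerDifferential.D A C (algebraMap B C b))) = δ b
    rw [h1, h2]
    show (δ.liftKaehlerDifferential).liftBaseChange C _ = _
    rw [LinearMap.liftBaseChange_tmul, one_smul, Derivation.liftKaehlerDifferential_comp_D]
  let v0 : C →ₐ[A] E := liftOfDerivationToSquareZero J hJ (-Dder)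
  have hv0 : ∀ c, v0 c = ((-Dder) c : J) + u c := fun c => rfl
  let v : C →ₐ[B] E :=
    { v0.toRingHom with
      commutes' := fun b => by
        show v0 (algebraMap B C b) = algebraMap B E b
        rw [hv0, Derivation.neg_apply, hD, Submodule.coe_neg, hδ]
        ring }
  refine ⟨v, ?_⟩
  ext c
  show Ideal.Quotient.mk J (v0 c) = u₀ c
  rw [hv0, map_add, Ideal.Quotient.eq_zero_iff_mem.mpr ((-Dder) c).2, zero_add]
  exact congrArg (fun f => f c) hu

section Twisted

open TensorProduct

variable (A B C : Type u) [CommRing A] [CommRing B] [CommRing C] [Algebra A B] [Algebra B C]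
  [Algebra A C] [IsScalarTower A B C]

/-- the twisted structure map `b ↦ (b, 1 ⊗ db)` -/
noncomputable def φ0 : B →+* TrivSqZeroExt C (C ⊗[B] Ω[B⁄A]) where
  toFun b := TrivSqZeroExt.inl (algebraMap B C b) +
    TrivSqZeroExt.inr ((1 : C) ⊗ₜ[B] KaehlerDifferential.D A B b)
  map_one' := by ext <;> simp
  map_mul' b b' := by
    ext
    · simp
    · simp [TensorProduct.tmul_add, TensorProduct.tmul_smul, TensorProduct.smul_tmul',
        Algebra.smul_def]
  map_zero' := by ext <;> simp
  map_add' b b' := by
    ext
    · simp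
    · simp [TensorProduct.tmul_add]

lemma fst_φ0 (b : B) : TrivSqZeroExt.fst (φ0 A B C b) = algebraMap B C b := by simp [φ0]

lemma snd_φ0 (b : B) : TrivSqZeroExt.snd (φ0 A B C b) =
    (1 : C) ⊗ₜ[B] KaehlerDifferential.D A B b := by simp [φ0]

/-- the trivial square-zero extension of `C` by `C ⊗ Ω_{B/A}` with the twisted `B`-algebra
structure -/
def TwE : Type u := TrivSqZeroExt C (C ⊗[B] Ω[B⁄A])

noncomputable instance : CommRing (TwE A B C) :=
  inferInstanceAs (CommRing (TrivSqZeroExt C (C ⊗[B] Ω[B⁄A])))

noncomputable instance : Algebra B (TwE A B C) := RingHom.toAlgebra (φ0 A B C)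
noncomputable instance : Algebra A (TwE A B C) :=
  RingHom.toAlgebra ((φ0 A B C).comp (algebraMap A B))
instance : IsScalarTower A B (TwE A B C) := IsScalarTower.of_algebraMap_eq (fun _ => rfl)

/-- forget the twisted structure -/
def toT (x : TwE A B C) : TrivSqZeroExt C (C ⊗[B] Ω[B⁄A]) := x

/-- remember the twisted structure -/
def ofT (x : TrivSqZeroExt C (C ⊗[B] Ω[B⁄A])) : TwE A B C := x

lemma toT_mul (x y : TwE A B C) : toT A B C (x * y) = toT A B C x * toT A B C y := rfl
lemma toT_add (x y : TwE A B C) : toT A B C (x + y) = toT A B C x + toT A B C y := rfl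
lemma toT_sub (x y : TwE A B C) : toT A B C (x - y) = toT A B C x - toT A B C y := rfl
lemma toT_ofT (x : TrivSqZeroExt C (C ⊗[B] Ω[B⁄A])) : toT A B C (ofT A B C x) = x := rfl
lemma toT_algebraMap (b : B) : toT A B C (algebraMap B (TwE A B C) b) = φ0 A B C b := rfl
lemma toT_algebraMap' (a : A) :
    toT A B C (algebraMap A (TwE A B C) a) = φ0 A B C (algebraMap A B a) := rfl

/-- `inl` as a ring hom into the twisted extension -/
noncomputable def inlR : C →+* TwE A B C := TrivSqZeroExt.inlHom C (C ⊗[B] Ω[B⁄A])

lemma toT_inlR (c : C) : toT A B C (inlR A B C c) = TrivSqZeroExt.inl c := rfl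

/-- the kernel ideal -/
noncomputable def Jid : Ideal (TwE A B C) := TrivSqZeroExt.kerIdeal C (C ⊗[B] Ω[B⁄A])

lemma Jid_sq : Jid A B C ^ 2 = ⊥ := TrivSqZeroExt.kerIdeal_sq C _

lemma mem_Jid (x : TwE A B C) : x ∈ Jid A B C ↔ TrivSqZeroExt.fst (toT A B C x) = 0 := Iff.rfl

lemma leftInverse_of_fsrel (h : EGA41.IsFormallySmoothRel A B C) :
    ∃ l : Ω[C⁄A] →ₗ[C] C ⊗[B] Ω[B⁄A],
      l ∘ₗ KaehlerDifferential.mapBaseChange A B C = LinearMap.id := by
  let u : C →ₐ[A] TwE A B C :=
    { inlR A B C with
      commutes' := fun a => by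
        show inlR A B C (algebraMap A C a) = algebraMap A (TwE A B C) a
        have : toT A B C (inlR A B C (algebraMap A C a)) =
            toT A B C (algebraMap A (TwE A B C) a) := by
          rw [toT_inlR, toT_algebraMap']
          ext
          · rw [fst_φ0, TrivSqZeroExt.fst_inl, ← IsScalarTower.algebraMap_apply]
          · rw [snd_φ0, TrivSqZeroExt.snd_inl, Derivation.map_algebraMap,
              TensorProduct.tmul_zero]
        exact this }
  let u₀ : C →ₐ[B] TwE A B C ⧸ Jid A B C :=
    { (Ideal.Quotient.mk (Jid A B C)).comp (inlR A B C) with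
      commutes' := fun b => by
        show Ideal.Quotient.mk (Jid A B C) (inlR A B C (algebraMap B C b)) =
          Ideal.Quotient.mk (Jid A B C) (algebraMap B (TwE A B C) b)
        rw [Ideal.Quotient.eq, mem_Jid, toT_sub, toT_inlR, toT_algebraMap,
          TrivSqZeroExt.fst_sub, fst_φ0, TrivSqZeroExt.fst_inl, sub_self] }
  obtain ⟨v, hv⟩ := h (TwE A B C) (Jid A B C) (Jid_sq A B C) u₀ ⟨u, by ext c; rfl⟩
  have hfst : ∀ c, TrivSqZeroExt.fst (toT A B C (v c)) = c := by
    intro c
    have h1 := congrArg (fun f => f c) hv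
    have h2 : Ideal.Quotient.mk (Jid A B C) (v c) =
        Ideal.Quotient.mk (Jid A B C) (inlR A B C c) := h1
    rw [Ideal.Quotient.eq, mem_Jid, toT_sub, toT_inlR, TrivSqZeroExt.fst_sub,
      TrivSqZeroExt.fst_inl, sub_eq_zero] at h2
    exact h2
  have hvB : ∀ b : B, toT A B C (v (algebraMap B C b)) = φ0 A B C b := fun b => by
    rw [v.commutes b, toT_algebraMap]
  have hleib : ∀ c c' : C, TrivSqZeroExt.snd (toT A B C (v (c * c'))) =
      c • TrivSqZeroExt.snd (toT A B C (v c')) + c' • TrivSqZeroExt.snd (toT A B C (v c)) := by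
    intro c c'
    rw [map_mul, toT_mul, TrivSqZeroExt.snd_mul, hfst, hfst, op_smul_eq_smul]
  let Dlin : C →ₗ[A] C ⊗[B] Ω[B⁄A] :=
    { toFun := fun c => TrivSqZeroExt.snd (toT A B C (v c))
      map_add' := fun c c' => by rw [map_add, toT_add, TrivSqZeroExt.snd_add]
      map_smul' := fun a c => by
        rw [Algebra.smul_def, hleib, IsScalarTower.algebraMap_apply A B C, hvB, snd_φ0,
          Derivation.map_algebraMap, TensorProduct.tmul_zero, smul_zero, add_zero,
          ← IsScalarTower.algebraMap_apply, RingHom.id_apply, algebraMap_smul] }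
  let D : Derivation A C (C ⊗[B] Ω[B⁄A]) := Derivation.mk' Dlin hleib
  have hDapp : ∀ c, D c = TrivSqZeroExt.snd (toT A B C (v c)) := fun c => rfl
  refine ⟨D.liftKaehlerDifferential, ?_⟩
  apply ext_tmul_D
  intro b
  rw [LinearMap.comp_apply, KaehlerDifferential.mapBaseChange_tmul, one_smul,
    KaehlerDifferential.map_D, Derivation.liftKaehlerDifferential_comp_D, hDapp, hvB, snd_φ0,
    LinearMap.id_apply]

end Twisted

open TensorProduct in
/-- Let A → B → C be ring homomorphisms. The canonical C-linear map Ω_{B/A} ⊗_B C → Ω_{C/A} is left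
invertible (has a C-linear left inverse) if and only if C is a formally smooth B-algebra relative to
A for the discrete topologies: every B-algebra homomorphism from C to a quotient C'/J of a B-algebra
C' by an ideal J of square zero that lifts to C' as an A-algebra homomorphism also lifts to C' as a
B-algebra homomorphism. (The published definition of relative formal smoothness tests every
nilpotent ideal J; its reduction to ideals of square zero does not carry over to the relative
setting, and the square-zero form, which is what the published proof of this statement uses, is the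
one taken here.) -/
theorem result (A B C : Type u) [CommRing A] [CommRing B]
    [CommRing C] [Algebra A B] [Algebra B C] [Algebra A C] [IsScalarTower A B C] :
    (∃ l : Ω[C⁄A] →ₗ[C] C ⊗[B] Ω[B⁄A], l ∘ₗ KaehlerDifferential.mapBaseChange A B C = LinearMap.id) ↔
      EGA41.IsFormallySmoothRel A B C := by
  constructor
  · rintro ⟨l, hl⟩
    exact fsrel_of_leftInverse A B C l hl
  · exact leftInverse_of_fsrel A B C

end Groth.Agent.S3441
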