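import Groth.Statements.S4544
import Groth.Agent.S3441
import Mathlib

set_option autoImplicit false
universe u
open EGA41

namespace Groth.Agent.S4544


section aux

open TensorProduct

variable (A B : Type u) [CommRing A] [CommRing B] [Algebra A B] (𝔄 : Ideal B)

/-- the quotient ring -/
abbrev Rq : Type u := B ⧸ 𝔄
/-- the module in question -/
abbrev Pq : Type u := (B ⧸ 𝔄) ⊗[B] Ω[B⁄A]
/-- the free cover -/
abbrev Fq : Type u := (Pq A B 𝔄) →₀ (B ⧸ 𝔄)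
/-- the covering map -/
noncomputable abbrev πq : Fq A B 𝔄 →ₗ[B ⧸ 𝔄] Pq A B 𝔄 := Finsupp.linearCombination (B ⧸ 𝔄) id
/-- the test ring -/
abbrev Eq : Type u := TrivSqZeroExt (B ⧸ 𝔄) (Fq A B 𝔄)
/-- the map of extensions -/
noncomputable abbrev fq : Eq A B 𝔄 →ₐ[A] TrivSqZeroExt (B ⧸ 𝔄) (Pq A B 𝔄) :=
  (TrivSqZeroExt.map (πq A B 𝔄)).restrictScalars A

lemma fq_apply (x : Eq A B 𝔄) : fq A B 𝔄 x = TrivSqZeroExt.map (πq A B 𝔄) x := rfl

lemma πq_surj : Function.Surjective (πq A B 𝔄) := Finsupp.linearCombination_id_surjective _ _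

lemma fq_surj : Function.Surjective (fq A B 𝔄) := by
  intro y
  obtain ⟨m, hm⟩ := πq_surj A B 𝔄 y.snd
  refine ⟨TrivSqZeroExt.inl y.fst + TrivSqZeroExt.inr m, ?_⟩
  rw [fq_apply]
  ext
  · simp
  · simp [hm]

lemma ker_fq_nilpotent : IsNilpotent (RingHom.ker (fq A B 𝔄)) := by
  have hJle : RingHom.ker (fq A B 𝔄) ≤ TrivSqZeroExt.kerIdeal (B ⧸ 𝔄) (Fq A B 𝔄) := by
    intro x hx
    have h0 : fq A B 𝔄 x = 0 := hx
    show TrivSqZeroExt.fst x = 0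
    rw [← TrivSqZeroExt.fst_map (πq A B 𝔄) x, ← fq_apply, h0, TrivSqZeroExt.fst_zero]
  refine ⟨2, ?_⟩
  have : RingHom.ker (fq A B 𝔄) ^ 2 ≤ TrivSqZeroExt.kerIdeal (B ⧸ 𝔄) (Fq A B 𝔄) ^ 2 :=
    Ideal.pow_right_mono hJle 2
  rw [TrivSqZeroExt.kerIdeal_sq] at this
  exact le_bot_iff.mp this

/-- the map `b ↦ (b, 1 ⊗ db)` as an `A`-algebra map -/
noncomputable def uP : B →ₐ[A] TrivSqZeroExt (B ⧸ 𝔄) (Pq A B 𝔄) :=
  { Groth.Agent.S3441.φ0 A B (B ⧸ 𝔄) with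
    commutes' := fun a => by
      show Groth.Agent.S3441.φ0 A B (B ⧸ 𝔄) (algebraMap A B a) = algebraMap A _ a
      rw [TrivSqZeroExt.algebraMap_eq_inl']
      ext
      · rw [Groth.Agent.S3441.fst_φ0, TrivSqZeroExt.fst_inl, ← IsScalarTower.algebraMap_apply]
      · rw [Groth.Agent.S3441.snd_φ0, TrivSqZeroExt.snd_inl, Derivation.map_algebraMap,
          TensorProduct.tmul_zero] }

lemma uP_apply (b : B) : uP A B 𝔄 b = Groth.Agent.S3441.φ0 A B (B ⧸ 𝔄) b := rfl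

lemma uP_kill (x : B) (hx : x ∈ 𝔄 * 𝔄) : uP A B 𝔄 x = 0 := by
  refine Submodule.mul_induction_on hx ?_ ?_
  · intro y hy z hz
    have hy0 : algebraMap B (B ⧸ 𝔄) y = 0 := Ideal.Quotient.eq_zero_iff_mem.mpr hy
    have hz0 : algebraMap B (B ⧸ 𝔄) z = 0 := Ideal.Quotient.eq_zero_iff_mem.mpr hz
    rw [uP_apply]
    ext
    · rw [Groth.Agent.S3441.fst_φ0, map_mul, hy0, zero_mul, TrivSqZeroExt.fst_zero]
    · rw [Groth.Agent.S3441.snd_φ0, Derivation.leibniz, TensorProduct.tmul_add,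
        TensorProduct.tmul_smul, TensorProduct.tmul_smul, TensorProduct.smul_tmul',
        TensorProduct.smul_tmul', Algebra.smul_def, Algebra.smul_def, hy0, hz0]
      simp
  · intro y z hy hz
    rw [map_add, hy, hz, add_zero]

lemma projective_of_lift
    (v : B →ₐ[A] Eq A B 𝔄)
    (hfv : ∀ b, TrivSqZeroExt.map (πq A B 𝔄) (v b) = Groth.Agent.S3441.φ0 A B (B ⧸ 𝔄) b) :
    Module.Projective (B ⧸ 𝔄) ((B ⧸ 𝔄) ⊗[B] Ω[B⁄A]) := by
  have hfst : ∀ b, TrivSqZeroExt.fst (v b) = algebraMap B (B ⧸ 𝔄) b := by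
    intro b
    rw [← TrivSqZeroExt.fst_map (πq A B 𝔄), hfv, Groth.Agent.S3441.fst_φ0]
  have hπsnd : ∀ b, πq A B 𝔄 (TrivSqZeroExt.snd (v b)) =
      (1 : B ⧸ 𝔄) ⊗ₜ[B] KaehlerDifferential.D A B b := by
    intro b
    rw [← TrivSqZeroExt.snd_map (πq A B 𝔄), hfv, Groth.Agent.S3441.snd_φ0]
  have hleib : ∀ b b' : B, TrivSqZeroExt.snd (v (b * b')) =
      b • TrivSqZeroExt.snd (v b') + b' • TrivSqZeroExt.snd (v b) := by
    intro b b'
    rw [map_mul, TrivSqZeroExt.snd_mul, hfst, hfst, op_smul_eq_smul, algebraMap_smul,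
      algebraMap_smul]
  let Dlin : B →ₗ[A] Fq A B 𝔄 :=
    { toFun := fun b => TrivSqZeroExt.snd (v b)
      map_add' := fun b b' => by rw [map_add, TrivSqZeroExt.snd_add]
      map_smul' := fun a b => by rw [map_smul, TrivSqZeroExt.snd_smul, RingHom.id_apply] }
  let D : Derivation A B (Fq A B 𝔄) := Derivation.mk' Dlin hleib
  have hDapp : ∀ b, D b = TrivSqZeroExt.snd (v b) := fun b => rfl
  let s : Pq A B 𝔄 →ₗ[B ⧸ 𝔄] Fq A B 𝔄 := (D.liftKaehlerDifferential).liftBaseChange (B ⧸ 𝔄)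
  have hs : πq A B 𝔄 ∘ₗ s = LinearMap.id := by
    apply Groth.Agent.S3441.ext_tmul_D
    intro b
    show πq A B 𝔄 ((D.liftKaehlerDifferential).liftBaseChange (B ⧸ 𝔄)
      ((1 : B ⧸ 𝔄) ⊗ₜ[B] KaehlerDifferential.D A B b)) = _
    rw [LinearMap.liftBaseChange_tmul, one_smul, Derivation.liftKaehlerDifferential_comp_D, hDapp,
      hπsnd, LinearMap.id_apply]
  exact Module.Projective.of_split s (πq A B 𝔄) hs

end aux

open TensorProduct in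
/-- Let B (𝔟-adic) be a formally smooth topological A-algebra over A (𝔞-adic), the structure map being
continuous (a power of 𝔞 maps into 𝔟); squares of open ideals of B are then open. For every open
ideal 𝔄 of B (an ideal containing a power of 𝔟), Ω_{B/A} ⊗_B (B/𝔄) = Ω_{B/A}/𝔄Ω_{B/A} is a
projective (B/𝔄)-module. -/
theorem result {A B : Type u} [CommRing A] [CommRing B] [Algebra A B]
    (𝔞 : Ideal A) (𝔟 : Ideal B) (hAB : ∃ k : ℕ, (𝔞 ^ k).map (algebraMap A B) ≤ 𝔟)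
    (h : EGA41.IsFormallySmoothAdic A 𝔞 B 𝔟) (𝔄 : Ideal B) (h𝔄 : ∃ n : ℕ, 𝔟 ^ n ≤ 𝔄) :
    Module.Projective (B ⧸ 𝔄) ((B ⧸ 𝔄) ⊗[B] Ω[B⁄A]) := by
  classical
  obtain ⟨k0, hk0⟩ := hAB
  obtain ⟨n, hn⟩ := h𝔄
  have hA𝔄 : ∀ a ∈ 𝔞 ^ (k0 * n), algebraMap A B a ∈ 𝔄 := by
    intro a ha
    apply hn
    have h1 : algebraMap A B a ∈ (𝔞 ^ (k0 * n)).map (algebraMap A B) := Ideal.mem_map_of_mem _ ha
    rw [pow_mul, Ideal.map_pow] at h1
    exact Ideal.pow_right_mono hk0 n h1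
  have hE : ∃ k, (𝔞 ^ k).map (algebraMap A (Eq A B 𝔄)) = ⊥ := ⟨k0 * n, by
    rw [eq_bot_iff, Ideal.map_le_iff_le_comap]
    intro a ha
    show algebraMap A (Eq A B 𝔄) a = 0
    rw [TrivSqZeroExt.algebraMap_eq_inl', IsScalarTower.algebraMap_apply A B (B ⧸ 𝔄),
      Ideal.Quotient.algebraMap_eq, Ideal.Quotient.eq_zero_iff_mem.mpr (hA𝔄 a ha),
      TrivSqZeroExt.inl_zero]⟩
  let eqv := Ideal.quotientKerAlgEquivOfSurjective (fq_surj A B 𝔄)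
  let u : B →ₐ[A] Eq A B 𝔄 ⧸ RingHom.ker (fq A B 𝔄) :=
    (eqv.symm : TrivSqZeroExt (B ⧸ 𝔄) (Pq A B 𝔄) →ₐ[A] _).comp (uP A B 𝔄)
  have hu : ∃ k, ∀ x ∈ 𝔟 ^ k, u x = 0 := ⟨n + n, fun x hx => by
    have hx' : x ∈ 𝔄 * 𝔄 := by
      rw [pow_add] at hx
      exact Ideal.mul_mono hn hn hx
    show eqv.symm (uP A B 𝔄 x) = 0
    rw [uP_kill A B 𝔄 x hx', map_zero]⟩
  obtain ⟨v, hv⟩ := h (Eq A B 𝔄) (RingHom.ker (fq A B 𝔄)) (ker_fq_nilpotent A B 𝔄) hE u hu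
  refine projective_of_lift A B 𝔄 v ?_
  intro b
  have h1 := congrArg (fun g => g b) hv
  have h2 : Ideal.Quotient.mk (RingHom.ker (fq A B 𝔄)) (v b) = eqv.symm (uP A B 𝔄 b) := h1
  have h3 := congrArg eqv h2
  rw [AlgEquiv.apply_symm_apply, Ideal.quotientKerAlgEquivOfSurjective_mk] at h3
  rw [← fq_apply, h3, uP_apply]

end Groth.Agent.S4544
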