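import Groth.Agent.LibCplFree29a
import Groth.Agent.LibAdicFS29d
import Groth.Agent.LibCart29e
import Groth.Agent.S4544
import Groth.Agent.S4537
import Groth.Agent.Lib.Helper24.CplFinite

/-!
# LibCplFree29b: the completed module of differentials of a formally smooth complete local
algebra over a field is free of rank `dim A + trdeg` (EGA 0_IV 22.?)  (helper29)
-/

set_option autoImplicit false
universe u

namespace Groth.Agent.LibCplFree29

open TensorProduct KaehlerDifferential IsLocalRing Module
open Groth.Agent.LibCart29 Groth.Agent.LibAdicFS29 Groth.Agent.Lib.helper19.CohenK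

section cotangent

/-- the cotangent map `m/m² → K ⊗ Ω_{A/ℤ}` is injective when `A` contains a field. -/
theorem kerCotangentToTensor_injective (k A : Type u) [Field k] [CommRing A] [IsLocalRing A]
    [Algebra k A] :
    Function.Injective (kerCotangentToTensor ℤ A (ResidueField A)) := by
  have hsurj : Function.Surjective (algebraMap A (ResidueField A)) := residue_surjective
  haveI := perfectField_P0 k
  letI : Algebra (P0 k) k := (P0.incl k).toAlgebra
  letI : Algebra (P0 k) A := ((algebraMap k A).comp (P0.incl k)).toAlgebra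
  haveI : Algebra.FormallySmooth (P0 k) (ResidueField A) := formallySmooth_of_perfectField _ _
  let f := IsScalarTower.toAlgHom (P0 k) A (ResidueField A)
  have hs : Function.Surjective f.kerSquareLift :=
    Ideal.Quotient.lift_surjective_of_surjective _ _ hsurj
  have hnil : IsNilpotent (RingHom.ker
      (f.kerSquareLift : A ⧸ RingHom.ker f.toRingHom ^ 2 →+* ResidueField A)) := by
    refine ⟨2, ?_⟩
    have := AlgHom.ker_kerSquareLift f
    show RingHom.ker f.kerSquareLift.toRingHom ^ 2 = ⊥
    rw [this, Ideal.cotangentIdeal_square]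
  let σ := Algebra.FormallySmooth.liftOfSurjective (AlgHom.id (P0 k) (ResidueField A))
    f.kerSquareLift hs hnil
  have hσ : ∀ x, f.kerSquareLift (σ x) = x := fun x =>
    Algebra.FormallySmooth.liftOfSurjective_apply _ _ hs hnil x
  let g : ResidueField A →ₐ[ℤ] A ⧸ RingHom.ker (algebraMap A (ResidueField A)) ^ 2 :=
    RingHom.toIntAlgHom (show ResidueField A →+*
      A ⧸ RingHom.ker (algebraMap A (ResidueField A)) ^ 2 from σ.toRingHom)
  have hg : (IsScalarTower.toAlgHom ℤ A (ResidueField A)).kerSquareLift.comp g =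
      AlgHom.id ℤ (ResidueField A) := by
    ext x
    exact hσ x
  obtain ⟨l, hl⟩ := (retractionKerCotangentToTensorEquivSection (R := ℤ) hsurj).symm ⟨g, hg⟩
  exact Function.LeftInverse.injective (g := l) fun x => LinearMap.congr_fun hl x

end cotangent

section rank

variable (k A : Type u) [Field k] [CommRing A] [IsLocalRing A] [Algebra k A]

/-- the comparison `(maximalIdeal A).Cotangent → (ker (A → K)).Cotangent` -/
noncomputable def cotE :
    (maximalIdeal A).Cotangent →ₗ[A] (RingHom.ker (algebraMap A (ResidueField A))).Cotangent :=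
  Ideal.mapCotangent (maximalIdeal A) (RingHom.ker (algebraMap A (ResidueField A)))
    (AlgHom.id A A) (by
      intro x hx
      rw [Ideal.mem_comap, RingHom.mem_ker]
      exact (residue_eq_zero_iff x).2 hx)

lemma ker_eq_maximalIdeal :
    RingHom.ker (algebraMap A (ResidueField A)) = maximalIdeal A :=
  ker_algebraMap_eq A (ResidueField A) residue_surjective

lemma cotE_injective : Function.Injective (cotE A) := by
  rw [injective_iff_map_eq_zero]
  intro x hx
  obtain ⟨x, rfl⟩ := Ideal.toCotangent_surjective _ x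
  rw [cotE, Ideal.mapCotangent_toCotangent, Ideal.toCotangent_eq_zero] at hx
  rw [Ideal.toCotangent_eq_zero]
  have h2 : (x : A) ∈ RingHom.ker (algebraMap A (ResidueField A)) ^ 2 := hx
  rw [ker_eq_maximalIdeal A] at h2
  exact h2

lemma cotE_surjective : Function.Surjective (cotE A) := by
  intro y
  obtain ⟨y, rfl⟩ := Ideal.toCotangent_surjective _ y
  have hy : y.1 ∈ maximalIdeal A := by
    have h2 : (y : A) ∈ RingHom.ker (algebraMap A (ResidueField A)) := y.2
    generalize (y : A) = z at h2 ⊢
    rw [ker_eq_maximalIdeal A] at h2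
    exact h2
  refine ⟨Ideal.toCotangent _ ⟨y.1, hy⟩, ?_⟩
  rw [cotE, Ideal.mapCotangent_toCotangent]
  rfl

/-- the `K`-linear cotangent map `m/m² → K ⊗ Ω_{A/ℤ}` -/
noncomputable def cotK :
    CotangentSpace A →ₗ[ResidueField A] (ResidueField A) ⊗[A] Ω[A⁄ℤ] :=
  LinearMap.extendScalarsOfSurjective (residue_surjective (R := A))
    ((kerCotangentToTensor ℤ A (ResidueField A)) ∘ₗ cotE A)

include k in
lemma cotK_injective : Function.Injective (cotK A) := by
  show Function.Injective ((kerCotangentToTensor ℤ A (ResidueField A)) ∘ cotE A)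
  exact (kerCotangentToTensor_injective k A).comp (cotE_injective A)

lemma exact_cotK : Function.Exact (cotK A) (mapBaseChange ℤ A (ResidueField A)) := by
  have h := KaehlerDifferential.exact_kerCotangentToTensor_mapBaseChange ℤ A (ResidueField A)
    residue_surjective
  intro y
  rw [h y]
  constructor
  · rintro ⟨x, rfl⟩
    obtain ⟨x', rfl⟩ := cotE_surjective A x
    exact ⟨x', rfl⟩
  · rintro ⟨x, rfl⟩
    exact ⟨cotE A x, rfl⟩

end rank

section formula

variable (k A : Type u) [Field k] [CommRing A] [IsLocalRing A] [IsNoetherianRing A] [Algebra k A]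

/-- **the rank formula**: `dim_K (K ⊗ Ω_{A/k}) = trdeg_k K + dim_K (m/m²)` for `A` formally smooth
over `k`. -/
theorem finrank_residue_tensor_kaehler [Algebra.EssFiniteType k (ResidueField A)]
    (hfs : CAlgX.IsAdicFormallySmooth k A (maximalIdeal A)) :
    Module.Finite (ResidueField A) ((ResidueField A) ⊗[A] Ω[A⁄k]) ∧
    (finrank (ResidueField A) ((ResidueField A) ⊗[A] Ω[A⁄k]) : ℤ) =
      (Cardinal.toNat (Algebra.trdeg k (ResidueField A)) : ℤ) +
        finrank (ResidueField A) (CotangentSpace A) := by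
  have hsurj : Function.Surjective (algebraMap A (ResidueField A)) := residue_surjective
  -- finiteness
  haveI hfinA : Module.Finite A ((ResidueField A) ⊗[A] Ω[A⁄k]) :=
    Groth.Agent.Lib.Helper24.CplFinite.finite_residue_tensor k A
  haveI hfinK : Module.Finite (ResidueField A) ((ResidueField A) ⊗[A] Ω[A⁄k]) :=
    Module.Finite.of_restrictScalars_finite A _ _
  refine ⟨hfinK, ?_⟩
  -- the maps
  let u' : (ResidueField A) ⊗[A] (A ⊗[k] Ω[k⁄ℤ]) →ₗ[ResidueField A]
      (ResidueField A) ⊗[A] Ω[A⁄ℤ] := (mapBaseChange ℤ k A).baseChange (ResidueField A)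
  let v : (ResidueField A) ⊗[A] Ω[A⁄ℤ] →ₗ[ResidueField A] Ω[ResidueField A⁄ℤ] :=
    mapBaseChange ℤ A (ResidueField A)
  let π' : (ResidueField A) ⊗[A] Ω[A⁄ℤ] →ₗ[ResidueField A] (ResidueField A) ⊗[A] Ω[A⁄k] :=
    (KaehlerDifferential.map ℤ k A A).baseChange (ResidueField A)
  have hinjL := ((main_field k A).1 hfs).2
  have hinj : Function.Injective u' := hinjL
  -- index of `u'`
  have hu' : Fred u' ∧ ind u' = (finrank (ResidueField A) ((ResidueField A) ⊗[A] Ω[A⁄k]) : ℤ) -
      finrank (ResidueField A) PUnit.{u+1} := by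
    refine fred_ind_of_exact u' (0 : PUnit.{u+1} →ₗ[ResidueField A] _) π'
      (fun a b _ => Subsingleton.elim a b) ?_ ?_ ?_
    · intro y
      constructor
      · intro hy
        have h0 : y = 0 := hinj (by rw [hy, map_zero])
        exact ⟨PUnit.unit, h0.symm⟩
      · rintro ⟨_, rfl⟩
        simp
    · have h1 := KaehlerDifferential.exact_mapBaseChange_map ℤ k A
      have h2 := lTensor_exact (ResidueField A) h1 (KaehlerDifferential.map_surjective ℤ k A)
      exact h2
    · exact LinearMap.lTensor_surjective (ResidueField A)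
        (KaehlerDifferential.map_surjective ℤ k A)
  -- index of `v`
  have hv : Fred v ∧ ind v = (finrank (ResidueField A) PUnit.{u+1} : ℤ) -
      finrank (ResidueField A) (CotangentSpace A) := by
    refine fred_ind_of_exact v (cotK A) (0 : _ →ₗ[ResidueField A] PUnit.{u+1})
      (cotK_injective k A) (exact_cotK A) ?_ (fun a => ⟨0, Subsingleton.elim _ _⟩)
    intro y
    constructor
    · intro _
      exact KaehlerDifferential.mapBaseChange_surjective ℤ A (ResidueField A) hsurj y
    · intro _
      exact Subsingleton.elim _ _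
  -- Cartier's equality
  obtain ⟨hfc, hchi⟩ := fg_eq_int k (ResidueField A)
  have hm : Fred (mapBaseChange ℤ k (ResidueField A)) :=
    (fred_iff_finCart ℤ k (ResidueField A)).2 hfc
  have hθ := fred_equiv (thetaK k A (ResidueField A))
  have e1 := ind_comp hu'.1 hv.1
  have e2 := ind_comp hθ hm
  have e3 : v ∘ₗ u' = (mapBaseChange ℤ k (ResidueField A)) ∘ₗ
      ((thetaK k A (ResidueField A) : _ ≃ₗ[ResidueField A] _) : _ →ₗ[ResidueField A] _) :=
    square_comm k A (ResidueField A)
  rw [e3, e2, ind_equiv, ind_eq_chi, hu'.2, hv.2] at e1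
  have hP : finrank (ResidueField A) PUnit.{u+1} = 0 := Module.finrank_zero_of_subsingleton
  rw [hP] at e1
  have h5 : (0 : ℤ) + (Cardinal.toNat (Algebra.trdeg k (ResidueField A)) : ℤ) = _ :=
    (congrArg (fun z : ℤ => (0 : ℤ) + z) hchi).trans e1
  push_cast at h5
  linarith

/-- the `(A/I)`-linear identification `(A/I) ⊗ M ≃ M / I M` -/
noncomputable def quotTensorEquiv' {A : Type*} [CommRing A] (I : Ideal A) (M : Type*)
    [AddCommGroup M] [Module A M] :
    ((A ⧸ I) ⊗[A] M) ≃ₗ[A ⧸ I] (M ⧸ (I • ⊤ : Submodule A M)) :=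
  LinearEquiv.extendScalarsOfSurjective (Ideal.Quotient.mk_surjective (I := I))
    (TensorProduct.quotTensorEquivQuotSMul M I)

/-- **EGA 0_IV 22.?**: the completed module of differentials is free of rank `trdeg + dim m/m²`. -/
theorem completedKaehler_free [IsAdicComplete (maximalIdeal A) A]
    [Algebra.EssFiniteType k (ResidueField A)]
    (hfs : CAlgX.IsAdicFormallySmooth k A (maximalIdeal A)) :
    ∃ r : ℕ, Nonempty ((Fin r → A) ≃ₗ[A] AdicCompletion (maximalIdeal A) (Ω[A⁄k])) ∧
      r = Cardinal.toNat (Algebra.trdeg k (ResidueField A)) +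
        finrank (ResidueField A) (CotangentSpace A) := by
  have hproj : ∀ n, Module.Projective (A ⧸ maximalIdeal A ^ n)
      (Ω[A⁄k] ⧸ (maximalIdeal A ^ n • ⊤ : Submodule A (Ω[A⁄k]))) := by
    intro n
    have h1 := Groth.Agent.S4544.result (⊥ : Ideal k) (maximalIdeal A) ⟨1, by simp⟩
      ((Groth.Agent.S4537.result (maximalIdeal A)).1 hfs) (maximalIdeal A ^ n) ⟨n, le_rfl⟩
    exact Module.Projective.of_equiv (quotTensorEquiv' (maximalIdeal A ^ n) (Ω[A⁄k]))
  haveI : Module.Finite A (Ω[A⁄k] ⧸ (maximalIdeal A • ⊤ : Submodule A (Ω[A⁄k]))) :=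
    Groth.Agent.Lib.Helper24.CplFinite.finite_quotient k A
  obtain ⟨e⟩ := nonempty_linearEquiv_of_finite (A := A) (N := Ω[A⁄k]) hproj
  refine ⟨_, ⟨e⟩, ?_⟩
  obtain ⟨hfin, hrk⟩ := finrank_residue_tensor_kaehler k A hfs
  have h2 : finrank (A ⧸ maximalIdeal A) (Ω[A⁄k] ⧸ (maximalIdeal A • ⊤ : Submodule A (Ω[A⁄k]))) =
      finrank (ResidueField A) ((ResidueField A) ⊗[A] Ω[A⁄k]) :=
    (LinearEquiv.finrank_eq (quotTensorEquiv' (maximalIdeal A) (Ω[A⁄k]))).symm
  rw [h2]
  exact_mod_cast hrk

end formula

end Groth.Agent.LibCplFree29
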