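import Mathlib
import Groth.Agent.Lib.Helper15.Regular

/-!
# Principal ideals generated by nonzerodivisors: from a local ring to a neighbourhood (helper29)

* `exists_notMem_forall_mul_mem_span`: `J` a f.g. ideal of `A`, `p` a prime, `J A_p ⊆ (a)`; then
  `h J ⊆ (a)` for some `h ∉ p`.
* `exists_notMem_forall_mul_eq_zero`: `A` Noetherian, `a` a nonzerodivisor in `A_p`; then some
  `w ∉ p` kills the annihilator of `a`.
* `exists_away_nzd_span`: `A` Noetherian, `J A_p = (g)` with `g` a nonzerodivisor of `A_p`; then for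
  some `s ∉ p` the ideal `J A_s` is generated by a nonzerodivisor.
* `exists_nzd_span_of_regular`: a nonzero ideal of a regular local ring of dimension `≤ 1` is generated
  by a nonzerodivisor.
-/

set_option autoImplicit false
universe u

namespace Groth.Agent.LibCurveCartierRing29

theorem exists_notMem_forall_mul_mem_span {A : Type*} [CommRing A] (p : Ideal A) [p.IsPrime]
    (J : Ideal A) (hfg : J.FG)
    (S : Type*) [CommRing S] [Algebra A S] [IsLocalization.AtPrime S p] (a : A)
    (h : Ideal.map (algebraMap A S) J ≤ Ideal.span {algebraMap A S a}) :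
    ∃ h : A, h ∉ p ∧ ∀ x ∈ J, h * x ∈ Ideal.span {a} := by
  classical
  obtain ⟨s, hs⟩ := hfg
  have key : ∀ f ∈ J, ∃ u : A, u ∉ p ∧ u * f ∈ Ideal.span {a} := by
    intro f hf
    have h1 : algebraMap A S f ∈ Ideal.map (algebraMap A S) (Ideal.span {a}) := by
      rw [Ideal.map_span, Set.image_singleton]
      exact h (Ideal.mem_map_of_mem _ hf)
    rw [IsLocalization.mem_map_algebraMap_iff p.primeCompl] at h1
    obtain ⟨⟨i, m⟩, h2⟩ := h1
    rw [← map_mul, IsLocalization.eq_iff_exists p.primeCompl] at h2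
    obtain ⟨c, hc⟩ := h2
    refine ⟨c * m, ?_, ?_⟩
    · exact (c * m).2
    · have : (c : A) * (m : A) * f = c * (i : A) := by
        rw [← hc]; ring
      rw [this]
      exact Ideal.mul_mem_left _ _ i.2
  choose! u hu1 hu2 using key
  refine ⟨∏ f ∈ s, u f, ?_, ?_⟩
  · intro hmem
    rw [Ideal.IsPrime.prod_mem_iff] at hmem
    obtain ⟨f, hf, hmem⟩ := hmem
    have hfp : f ∈ J := by
      rw [← hs]; exact Submodule.subset_span hf
    exact hu1 f hfp hmem
  · intro x hx
    rw [← hs] at hx
    induction hx using Submodule.span_induction with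
    | mem f hf =>
      have hfp : f ∈ J := by
        rw [← hs]; exact Submodule.subset_span hf
      rw [← Finset.mul_prod_erase s u hf]
      have : (u f * ∏ x ∈ s.erase f, u x) * f = (∏ x ∈ s.erase f, u x) * (u f * f) := by ring
      rw [this]
      exact Ideal.mul_mem_left _ _ (hu2 f hfp)
    | zero => simp
    | add x y _ _ hx hy =>
      rw [mul_add]; exact Ideal.add_mem _ hx hy
    | smul r x _ hx =>
      rw [smul_eq_mul, mul_left_comm]; exact Ideal.mul_mem_left _ _ hx

theorem exists_notMem_forall_mul_eq_zero {A : Type*} [CommRing A] [IsNoetherianRing A]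
    (p : Ideal A) [p.IsPrime]
    (S : Type*) [CommRing S] [Algebra A S] [IsLocalization.AtPrime S p] (a : A)
    (ha : algebraMap A S a ∈ nonZeroDivisors S) :
    ∃ w : A, w ∉ p ∧ ∀ n : A, n * a = 0 → w * n = 0 := by
  classical
  -- the annihilator of `a`
  let N : Ideal A := (Ideal.span {a}).annihilator
  have hN : ∀ n, n ∈ N ↔ n * a = 0 := by
    intro n
    simp only [N, Submodule.mem_annihilator_span_singleton, smul_eq_mul]
  obtain ⟨s, hs⟩ := (isNoetherianRing_iff_ideal_fg A).mp inferInstance N
  have key : ∀ f ∈ N, ∃ u : A, u ∉ p ∧ u * f = 0 := by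
    intro f hf
    have h1 : algebraMap A S f * algebraMap A S a = 0 := by
      rw [← map_mul, (hN f).1 hf, map_zero]
    have h2 : algebraMap A S f = 0 := (mem_nonZeroDivisors_iff.1 ha).2 _ h1
    rw [← map_zero (algebraMap A S), IsLocalization.eq_iff_exists p.primeCompl] at h2
    obtain ⟨c, hc⟩ := h2
    exact ⟨c, c.2, by simpa using hc⟩
  choose! u hu1 hu2 using key
  refine ⟨∏ f ∈ s, u f, ?_, ?_⟩
  · intro hmem
    rw [Ideal.IsPrime.prod_mem_iff] at hmem
    obtain ⟨f, hf, hmem⟩ := hmem
    have hfp : f ∈ N := by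
      rw [← hs]; exact Submodule.subset_span hf
    exact hu1 f hfp hmem
  · intro n hn
    have hnN : n ∈ N := (hN n).2 hn
    rw [← hs] at hnN
    clear hn
    induction hnN using Submodule.span_induction with
    | mem f hf =>
      have hfp : f ∈ N := by
        rw [← hs]; exact Submodule.subset_span hf
      rw [← Finset.mul_prod_erase s u hf]
      have : (u f * ∏ x ∈ s.erase f, u x) * f = (∏ x ∈ s.erase f, u x) * (u f * f) := by ring
      rw [this, hu2 f hfp, mul_zero]
    | zero => simp
    | add x y _ _ hx hy => rw [mul_add, hx, hy, add_zero]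
    | smul r x _ hx => rw [smul_eq_mul, mul_left_comm, hx, mul_zero]

theorem exists_away_nzd_span {A : Type u} [CommRing A] [IsNoetherianRing A]
    (p : Ideal A) [p.IsPrime]
    (S : Type*) [CommRing S] [Algebra A S] [IsLocalization.AtPrime S p] (J : Ideal A) (g : S)
    (hg : g ∈ nonZeroDivisors S) (hJ : J.map (algebraMap A S) = Ideal.span {g}) :
    ∃ s : A, s ∉ p ∧ ∃ a ∈ J, ∀ (T : Type u) [CommRing T] [Algebra A T] [IsLocalization.Away s T],
      algebraMap A T a ∈ nonZeroDivisors T ∧
        J.map (algebraMap A T) = Ideal.span {algebraMap A T a} := by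
  have hgJ : g ∈ J.map (algebraMap A S) := hJ ▸ Ideal.mem_span_singleton_self g
  rw [IsLocalization.mem_map_algebraMap_iff p.primeCompl] at hgJ
  obtain ⟨⟨a, m⟩, h2⟩ := hgJ
  have hm : IsUnit (algebraMap A S m) := IsLocalization.map_units S m
  have ha_nzd : algebraMap A S a ∈ nonZeroDivisors S := by
    rw [← h2]; exact mul_mem hg hm.mem_nonZeroDivisors
  have hspan : Ideal.span {g} = Ideal.span {algebraMap A S (a : A)} := by
    rw [← h2]; exact (Ideal.span_singleton_mul_right_unit hm g).symm
  obtain ⟨h, hh1, hh2⟩ := exists_notMem_forall_mul_mem_span p J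
    ((isNoetherianRing_iff_ideal_fg A).mp inferInstance J) S (a : A) (by rw [hJ, hspan])
  obtain ⟨w, hw1, hw2⟩ := exists_notMem_forall_mul_eq_zero p S (a : A) ha_nzd
  refine ⟨h * w, fun hmem => ?_, a, a.2, ?_⟩
  · rcases Ideal.IsPrime.mem_or_mem inferInstance hmem with h' | h'
    · exact hh1 h'
    · exact hw1 h'
  intro T _ _ _
  have hu : IsUnit (algebraMap A T (h * w)) := IsLocalization.Away.algebraMap_isUnit (h * w)
  have huh : IsUnit (algebraMap A T h) := by
    rw [map_mul] at hu; exact isUnit_of_mul_isUnit_left hu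
  refine ⟨?_, ?_⟩
  · rw [mem_nonZeroDivisors_iff_right]
    intro t ht
    obtain ⟨n, c, hc⟩ := IsLocalization.Away.surj (h * w) t
    have h3 : algebraMap A T (c * a) = 0 := by
      rw [map_mul, ← hc, mul_right_comm, ht, zero_mul]
    rw [← map_zero (algebraMap A T)] at h3
    obtain ⟨k, hk⟩ := IsLocalization.Away.exists_of_eq (h * w) h3
    have h4 : ((h * w) ^ k * c) * a = 0 := by rw [mul_assoc, hk, mul_zero]
    have h5 : w * ((h * w) ^ k * c) = 0 := hw2 _ h4
    have h6 : algebraMap A T ((h * w) ^ (k + 1) * c) = 0 := by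
      have : (h * w) ^ (k + 1) * c = h * (w * ((h * w) ^ k * c)) := by ring
      rw [this, h5, mul_zero, map_zero]
    rw [map_mul, map_pow] at h6
    have h7 : algebraMap A T c = 0 := (hu.pow (k + 1)).mul_right_eq_zero.mp h6
    have h8 : t * algebraMap A T (h * w) ^ n = 0 := by rw [hc, h7]
    exact (hu.pow n).mul_left_eq_zero.mp h8
  · apply le_antisymm
    · rw [Ideal.map_le_iff_le_comap]
      intro x hx
      rw [Ideal.mem_comap]
      obtain ⟨c, hc⟩ := Ideal.mem_span_singleton'.1 (hh2 x hx)
      have h3 : algebraMap A T h * algebraMap A T x = algebraMap A T c * algebraMap A T a := by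
        rw [← map_mul, ← map_mul, hc]
      obtain ⟨v, hv⟩ := huh
      have h4 : algebraMap A T x = (↑v⁻¹ * algebraMap A T c) * algebraMap A T a := by
        rw [mul_assoc, ← h3, ← hv, ← mul_assoc, Units.inv_mul, one_mul]
      rw [h4]
      exact Ideal.mul_mem_left _ _ (Ideal.mem_span_singleton_self _)
    · rw [Ideal.span_singleton_le_iff_mem]
      exact Ideal.mem_map_of_mem _ a.2

open IsLocalRing in
theorem exists_nzd_span_of_regular (B : Type*) [CommRing B] [IsRegularLocalRing B]
    (hdim : ringKrullDim B ≤ 1) (J : Ideal B) (hJ : J ≠ ⊥) :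
    ∃ g ∈ nonZeroDivisors B, J = Ideal.span {g} := by
  haveI : IsDomain B := Groth.Agent.Lib.helper15.isDomain_of_isRegularLocalRing B
  have h1 : Module.finrank (ResidueField B) (CotangentSpace B) ≤ 1 := by
    have h2 := (IsRegularLocalRing.iff_finrank_cotangentSpace B).1 inferInstance
    have h3 : ((Module.finrank (ResidueField B) (CotangentSpace B) : ℕ) : WithBot ℕ∞) ≤ 1 := by
      rw [h2]; exact hdim
    exact_mod_cast h3
  haveI : IsPrincipalIdealRing B :=
    ((tfae_of_isNoetherianRing_of_isLocalRing_of_isDomain B).out 5 0).1 h1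
  obtain ⟨g, hg⟩ := IsPrincipalIdealRing.principal J
  refine ⟨g, ?_, hg⟩
  apply mem_nonZeroDivisors_of_ne_zero
  rintro rfl
  apply hJ
  rw [hg]
  simp

/-- In a Noetherian ring all of whose primes have height `≤ 1`, the quotient by an ideal
containing a nonzerodivisor is Artinian. -/
theorem isArtinianRing_of_surjective_of_nzd_mem_ker {A B : Type*} [CommRing A] [CommRing B]
    [IsNoetherianRing A] (hA : ∀ m : Ideal A, m.IsPrime → m.height ≤ 1)
    (φ : A →+* B) (hφ : Function.Surjective φ) (g : A) (hg : g ∈ nonZeroDivisors A)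
    (hgφ : φ g = 0) : IsArtinianRing B := by
  haveI : IsNoetherianRing B := isNoetherianRing_of_surjective A B φ hφ
  rw [isArtinianRing_iff_krullDimLE_zero]
  apply Ring.KrullDimLE.mk₀
  intro Q hQ
  obtain ⟨M, hM, hQM⟩ := Ideal.exists_le_maximal Q hQ.ne_top
  haveI := hQ
  haveI hqp : (Q.comap φ).IsPrime := Ideal.comap_isPrime φ Q
  haveI hmm : (M.comap φ).IsMaximal := Ideal.comap_isMaximal_of_surjective φ hφ
  haveI hmp : (M.comap φ).IsPrime := hmm.isPrime
  have hle : Q.comap φ ≤ M.comap φ := Ideal.comap_mono hQM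
  have hgq : Ideal.span {g} ≤ Q.comap φ := by
    rw [Ideal.span_singleton_le_iff_mem, Ideal.mem_comap, hgφ]
    exact Q.zero_mem
  have h1 : 1 ≤ (Q.comap φ).height :=
    (Ideal.one_le_height_span_singleton_of_mem_nonZeroDivisors hg).trans (Ideal.height_mono hgq)
  have heq : Q.comap φ = M.comap φ := by
    by_contra hne
    have hlt : Q.comap φ < M.comap φ := lt_of_le_of_ne hle hne
    have h2 := Ideal.height_add_one_le_of_lt_of_isPrime hlt
    have h3 := hA (M.comap φ) hmp
    have h4 : (1 : ℕ∞) + 1 ≤ 1 := (add_le_add_left h1 1).trans (h2.trans h3)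
    exact absurd h4 (by decide)
  have : Q = M := Ideal.comap_injective_of_surjective φ hφ heq
  rw [this]
  exact hM

end Groth.Agent.LibCurveCartierRing29
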