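import Mathlib
import Groth.Agent.Lib.Helper3.FTFieldLocalDim
import Groth.Agent.Lib.Helper5.SmoothFibreDim
import Groth.Agent.Lib.Helper5.FibreDimLocal
import Groth.Agent.S1535

/-!
# Dimension of local rings of a smooth scheme over a field (helper29)

A light-weight version (smaller import closure) of part of `Groth.Agent.Lib.Helper21.SmoothCodim`.

* `localDim_eq_of_smooth`: a `k`-scheme smooth of relative dimension `n` has local dimension `n`
  at every point (same proof as helper21's lemma of the same name).
* `ringKrullDim_stalk_le_of_smooth`: `dim O_{X,y} ≤ n`.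
-/

set_option autoImplicit false
universe u

open CategoryTheory CategoryTheory.Limits AlgebraicGeometry Opposite TopologicalSpace

namespace Groth.Agent.LibCurveDim29

open Groth.Agent.Lib.helper3.FTField Groth.Agent.Lib.helper3.DimIneq

theorem smooth_of_rel (k : Type u) [Field k] (n : ℕ) (X : Scheme.{u})
    [X.Over (Spec (CommRingCat.of k))]
    [SmoothOfRelativeDimension n (X ↘ Spec (CommRingCat.of k))] :
    Smooth (X ↘ Spec (CommRingCat.of k)) :=
  SmoothOfRelativeDimension.smooth n (X ↘ Spec (CommRingCat.of k))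

theorem locallyOfFiniteType_of_rel (k : Type u) [Field k] (n : ℕ) (X : Scheme.{u})
    [X.Over (Spec (CommRingCat.of k))]
    [SmoothOfRelativeDimension n (X ↘ Spec (CommRingCat.of k))] :
    LocallyOfFiniteType (X ↘ Spec (CommRingCat.of k)) := by
  haveI := smooth_of_rel k n X
  infer_instance

/-- a `k`-scheme smooth of relative dimension `n` has local dimension `n` at every point -/
theorem localDim_eq_of_smooth (k : Type u) [Field k] (n : ℕ) (X : Scheme.{u})
    [X.Over (Spec (CommRingCat.of k))]
    [SmoothOfRelativeDimension n (X ↘ Spec (CommRingCat.of k))] (y : X) :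
    FlatMor.localDim X y = (n : WithBot ℕ∞) := by
  have h1 := Groth.Agent.Lib.helper5.SmoothFibreDim.fibreDimAt_of_smoothOfRelativeDimension n
    (X ↘ Spec (CommRingCat.of k)) y
  rw [Groth.Agent.Lib.helper5.FibreDimLocal.fibreDimAt_eq_localDim_preimage] at h1
  have huniv : ((X ↘ Spec (CommRingCat.of k)) ⁻¹' {(X ↘ Spec (CommRingCat.of k)) y} : Set X) =
      Set.univ := by
    ext z
    simp only [Set.mem_preimage, Set.mem_singleton_iff, Set.mem_univ, iff_true]
    exact Subsingleton.elim _ _
  rw [Groth.Agent.Lib.helper5.FibreDimLocal.localDim_congr_set huniv y rfl] at h1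
  rw [← h1]
  exact (Groth.Agent.Lib.helper5.FibreDimLocal.localDim_eq_of_isOpenEmbedding
    (fun z : ((Set.univ : Set X) : Type u) => (z.1 : X))
    (isOpen_univ (X := X)).isOpenEmbedding_subtypeVal ⟨y, trivial⟩).symm

/-- `dim O_{X,y} ≤ n` on a `k`-scheme smooth of relative dimension `n` -/
theorem ringKrullDim_stalk_le_of_smooth (k : Type u) [Field k] (n : ℕ)
    (X : Scheme.{u}) [X.Over (Spec (CommRingCat.of k))]
    [SmoothOfRelativeDimension n (X ↘ Spec (CommRingCat.of k))] (y : X) :
    ringKrullDim (X.presheaf.stalk y) ≤ (n : WithBot ℕ∞) := by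
  haveI := smooth_of_rel k n X
  haveI := locallyOfFiniteType_of_rel k n X
  haveI : IsRegularLocalRing (X.presheaf.stalk y) := Groth.Agent.S1535.result k X y
  obtain ⟨a, ha⟩ := exists_nat_trdeg_residueField k X y
  have hb : ringKrullDim (X.presheaf.stalk y) =
      (((IsLocalRing.maximalIdeal (X.presheaf.stalk y)).spanFinrank : ℕ) : WithBot ℕ∞) :=
    (IsRegularLocalRing.spanFinrank_maximalIdeal (R := X.presheaf.stalk y)).symm
  have h1 := localDim_eq k X y a _ ha hb
  rw [localDim_eq_of_smooth k n X y] at h1
  rw [hb, h1]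
  exact_mod_cast Nat.le_add_left _ _

end Groth.Agent.LibCurveDim29
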