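import Mathlib
import Groth.Agent.LibCurveCartierRing29
import Groth.Agent.LibCurveDim29
import Groth.Agent.LibRelCartier3_29

/-!
# Closed subschemes of smooth curves over a field which are quasi-finite are effective Cartier
(helper29)

* `isDiscrete_support_of_lqf`: if the closed subscheme of `J` is locally quasi-finite over a field
  then `J.support` is a discrete subspace.
* `isEffCartier_of_lqf_of_smooth_curve`: `X` smooth of relative dimension `1` over a field `k`,
  `J` an ideal sheaf whose closed subscheme is locally quasi-finite over `k`; then `J` is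
  effective Cartier.
-/

set_option autoImplicit false
universe u

open CategoryTheory CategoryTheory.Limits AlgebraicGeometry Opposite TopologicalSpace

namespace Groth.Agent.LibCurveCartier29

open Groth.Agent.LibCurveCartierRing29 Groth.Agent.LibCurveDim29

theorem isDiscrete_support_of_lqf (k : Type u) [Field k] {X : Scheme.{u}}
    (p : X ⟶ Spec (CommRingCat.of k)) (J : X.IdealSheafData)
    [LocallyQuasiFinite (J.subschemeι ≫ p)] : _root_.IsDiscrete (J.support : Set X) := by
  by_cases hne : Nonempty J.subscheme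
  · obtain ⟨z⟩ := hne
    have h1 := (J.subschemeι ≫ p).isDiscrete_preimage_singleton ((J.subschemeι ≫ p) z)
    have h2 : ((J.subschemeι ≫ p) ⁻¹' {(J.subschemeι ≫ p) z} : Set J.subscheme) = Set.univ := by
      ext w
      simp only [Set.mem_preimage, Set.mem_singleton_iff, Set.mem_univ, iff_true]
      exact Subsingleton.elim _ _
    rw [h2] at h1
    have h3 := h1.image J.subschemeι.isEmbedding.isInducing
    rw [Set.image_univ, J.range_subschemeι] at h3
    exact h3
  · have h1 : (J.support : Set X) = ∅ := by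
      rw [← J.range_subschemeι]
      rw [Set.range_eq_empty_iff]
      exact not_nonempty_iff.mp hne
    rw [h1]
    exact Set.subsingleton_empty.isDiscrete

theorem map_stalk_ne_bot (k : Type u) [Field k] (X : Scheme.{u})
    [X.Over (Spec (CommRingCat.of k))] [SmoothOfRelativeDimension 1 (X ↘ Spec (CommRingCat.of k))]
    (J : X.IdealSheafData) [LocallyQuasiFinite (J.subschemeι ≫ (X ↘ Spec (CommRingCat.of k)))]
    (U : X.affineOpens) (hfg : (J.ideal U).FG) (x : X) (hxU : x ∈ U.1) :
    letI := X.presheaf.algebra_section_stalk (⟨x, hxU⟩ : U.1)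
    (J.ideal U).map (algebraMap Γ(X, U.1) (X.presheaf.stalk x)) ≠ ⊥ := by
  intro hbot
  letI := X.presheaf.algebra_section_stalk (⟨x, hxU⟩ : U.1)
  set 𝔭 := U.2.primeIdealOf ⟨x, hxU⟩ with h𝔭
  haveI : IsLocalization.AtPrime (X.presheaf.stalk x) 𝔭.asIdeal := U.2.isLocalization_stalk ⟨x, hxU⟩
  obtain ⟨h, hh1, hh2⟩ := exists_notMem_forall_mul_mem_span 𝔭.asIdeal (J.ideal U) hfg
    (X.presheaf.stalk x) 0 (by rw [hbot]; exact bot_le)
  -- `D(h) ⊆ supp J`
  have hxh : x ∈ X.basicOpen h := by
    have e1 : U.2.fromSpec (U.2.primeIdealOf ⟨x, hxU⟩) = x := U.2.fromSpec_primeIdealOf ⟨x, hxU⟩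
    have e2 : U.2.primeIdealOf ⟨x, hxU⟩ ∈ U.2.fromSpec ⁻¹ᵁ X.basicOpen h := by
      rw [U.2.fromSpec_preimage_basicOpen]
      exact hh1
    rw [← e1]; exact e2
  have hsub : (X.basicOpen h : Set X) ⊆ J.support := by
    intro y hy
    have hyU : y ∈ U.1 := X.basicOpen_le h hy
    rw [SetLike.mem_coe, Scheme.IdealSheafData.mem_support_iff_of_mem (U := U) hyU]
    rw [Scheme.mem_zeroLocus_iff]
    intro f hf hyf
    have h0 : h * f = 0 := by
      have := hh2 f hf
      rwa [Ideal.span_singleton_zero, Ideal.mem_bot] at this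
    have : y ∈ X.basicOpen (h * f) := by
      rw [X.basicOpen_mul]; exact ⟨hy, hyf⟩
    rw [h0, X.basicOpen_zero] at this
    exact this
  have hdisc : _root_.IsDiscrete ((X.basicOpen h : X.Opens) : Set X) :=
    (isDiscrete_support_of_lqf k (X ↘ Spec (CommRingCat.of k)) J).mono hsub
  haveI : DiscreteTopology ((X.basicOpen h : X.Opens) : Set X) :=
    isDiscrete_iff_discreteTopology.mp hdisc
  have h1 := localDim_eq_of_smooth k 1 X x
  have h2 : FlatMor.localDim X x ≤ topologicalKrullDim ((X.basicOpen h : X.Opens) : Set X) :=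
    iInf_le (fun U : {U : TopologicalSpace.Opens X // x ∈ U} => topologicalKrullDim (U.1 : Set X))
      ⟨X.basicOpen h, hxh⟩
  have h3 := topologicalKrullDim_zero_of_discreteTopology ((X.basicOpen h : X.Opens) : Set X)
  rw [h1] at h2
  have h4 := h2.trans h3
  norm_num at h4

theorem ringKrullDim_stalk_le_one (k : Type u) [Field k] (X : Scheme.{u})
    [X.Over (Spec (CommRingCat.of k))] [SmoothOfRelativeDimension 1 (X ↘ Spec (CommRingCat.of k))]
    (x : X) : ringKrullDim (X.presheaf.stalk x) ≤ 1 := by
  have h1 := ringKrullDim_stalk_le_of_smooth k 1 X x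
  exact_mod_cast h1

/-- `X` smooth of relative dimension one over a field, `J` an ideal sheaf whose closed subscheme is
locally quasi-finite over the field: then `J` is effective Cartier. -/
theorem isEffCartier_of_lqf_of_smooth_curve (k : Type u) [Field k] (X : Scheme.{u})
    [X.Over (Spec (CommRingCat.of k))] [SmoothOfRelativeDimension 1 (X ↘ Spec (CommRingCat.of k))]
    (J : X.IdealSheafData) [LocallyQuasiFinite (J.subschemeι ≫ (X ↘ Spec (CommRingCat.of k)))] :
    BlowUp.IsEffCartierIdeal J := by
  intro x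
  haveI := smooth_of_rel k 1 X
  haveI := locallyOfFiniteType_of_rel k 1 X
  haveI : IsLocallyNoetherian X :=
    LocallyOfFiniteType.isLocallyNoetherian (X ↘ Spec (CommRingCat.of k))
  obtain ⟨U0, hU0, hxU, -⟩ := exists_isAffineOpen_mem_and_subset (x := x) (U := ⊤) trivial
  let U : X.affineOpens := ⟨U0, hU0⟩
  haveI : IsNoetherianRing Γ(X, U.1) := IsLocallyNoetherian.component_noetherian U
  set 𝔭 := U.2.primeIdealOf ⟨x, hxU⟩ with h𝔭
  letI := X.presheaf.algebra_section_stalk (⟨x, hxU⟩ : U.1)
  haveI : IsLocalization.AtPrime (X.presheaf.stalk x) 𝔭.asIdeal := U.2.isLocalization_stalk ⟨x, hxU⟩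
  haveI hreg : IsRegularLocalRing (X.presheaf.stalk x) := Groth.Agent.S1535.result k X x
  have hdim := ringKrullDim_stalk_le_one k X x
  have hfg : (J.ideal U).FG := (isNoetherianRing_iff_ideal_fg _).mp inferInstance _
  have hne := map_stalk_ne_bot k X J U hfg x hxU
  obtain ⟨g, hg, hJg⟩ := exists_nzd_span_of_regular (X.presheaf.stalk x) hdim _ hne
  obtain ⟨s, hs, a, haJ, H⟩ := exists_away_nzd_span 𝔭.asIdeal (X.presheaf.stalk x) (J.ideal U) g
    hg hJg
  have hxs : x ∈ X.basicOpen s := by
    have e1 : U.2.fromSpec (U.2.primeIdealOf ⟨x, hxU⟩) = x := U.2.fromSpec_primeIdealOf ⟨x, hxU⟩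
    have e2 : U.2.primeIdealOf ⟨x, hxU⟩ ∈ U.2.fromSpec ⁻¹ᵁ X.basicOpen s := by
      rw [U.2.fromSpec_preimage_basicOpen]
      exact hs
    rw [← e1]; exact e2
  haveI : IsLocalization.Away s Γ(X, X.basicOpen s) := U.2.isLocalization_basicOpen s
  obtain ⟨h1, h2⟩ := H Γ(X, X.basicOpen s)
  refine ⟨X.affineBasicOpen s, hxs, algebraMap Γ(X, U.1) Γ(X, X.basicOpen s) a, h1, ?_⟩
  rw [← J.map_ideal_basicOpen U s]
  exact h2

theorem lqf_comap_fiberι {X S : Scheme.{u}} (f : X ⟶ S) (I : X.IdealSheafData)
    [LocallyQuasiFinite (I.subschemeι ≫ f)] (s : S) :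
    LocallyQuasiFinite ((I.comap (f.fiberι s)).subschemeι ≫ f.fiberToSpecResidueField s) := by
  rw [← Scheme.IdealSheafData.comapIso_hom_fst, Category.assoc]
  have top : IsPullback (pullback.snd (f.fiberι s) I.subschemeι)
      (pullback.fst (f.fiberι s) I.subschemeι) I.subschemeι (f.fiberι s) :=
    (IsPullback.of_hasPullback (f.fiberι s) I.subschemeι).flip
  have bot : IsPullback (f.fiberι s) (f.fiberToSpecResidueField s) f (S.fromSpecResidueField s) :=
    IsPullback.of_hasPullback f (S.fromSpecResidueField s)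
  have hpb := top.paste_vert bot
  haveI : LocallyQuasiFinite
      (pullback.fst (f.fiberι s) I.subschemeι ≫ f.fiberToSpecResidueField s) :=
    MorphismProperty.of_isPullback (P := @LocallyQuasiFinite) hpb inferInstance
  infer_instance

theorem isEffCartier_comap_fiberι {X S : Scheme.{u}} (f : X ⟶ S) [SmoothOfRelativeDimension 1 f]
    (I : X.IdealSheafData) [LocallyQuasiFinite (I.subschemeι ≫ f)] (s : S) :
    BlowUp.IsEffCartierIdeal (I.comap (f.fiberι s)) := by
  letI : (f.fiber s).Over (Spec (CommRingCat.of (S.residueField s))) :=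
    ⟨f.fiberToSpecResidueField s⟩
  haveI : MorphismProperty.IsStableUnderBaseChange (@SmoothOfRelativeDimension 1) :=
    smoothOfRelativeDimension_isStableUnderBaseChange 1
  haveI : SmoothOfRelativeDimension 1 ((f.fiber s) ↘ Spec (CommRingCat.of (S.residueField s))) :=
    MorphismProperty.pullback_snd (P := @SmoothOfRelativeDimension 1) f _ inferInstance
  haveI : LocallyQuasiFinite ((I.comap (f.fiberι s)).subschemeι ≫
      ((f.fiber s) ↘ Spec (CommRingCat.of (S.residueField s)))) := lqf_comap_fiberι f I s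
  exact isEffCartier_of_lqf_of_smooth_curve (S.residueField s) (f.fiber s) _

/-- Stacks 0B9C/0B9D: on a smooth relative curve, a closed subscheme which is flat, locally of finite
presentation and locally quasi-finite over the base is a (relative) effective Cartier divisor. -/
theorem isEffCartier_of_lqf_flat {X S : Scheme.{u}} (f : X ⟶ S) [SmoothOfRelativeDimension 1 f]
    (I : X.IdealSheafData) [LocallyQuasiFinite (I.subschemeι ≫ f)] [Flat (I.subschemeι ≫ f)]
    [LocallyOfFinitePresentation (I.subschemeι ≫ f)] : BlowUp.IsEffCartierIdeal I := by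
  haveI : Smooth f := SmoothOfRelativeDimension.smooth 1 f
  exact Groth.Agent.LibRelCartier29.isEffCartier_of_fibres f I
    (fun s => isEffCartier_comap_fiberι f I s)

/-- A closed subscheme with locally finitely generated ideal is locally of finite presentation. -/
theorem locallyOfFinitePresentation_subschemeι_of_fg {X : Scheme.{u}} (I : X.IdealSheafData)
    (H : ∀ x : X, ∃ U : X.affineOpens, x ∈ U.1 ∧ (I.ideal U).FG) :
    LocallyOfFinitePresentation I.subschemeι := by
  rw [HasRingHomProperty.iff_exists_appLE (P := @LocallyOfFinitePresentation)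
    (RingHom.finitePresentation_stableUnderComposition.stableUnderCompositionWithLocalizationAway
      RingHom.finitePresentation_holdsForLocalizationAway).1]
  intro z
  obtain ⟨U, hzU, hfg⟩ := H (I.subschemeι z)
  refine ⟨U, ⟨I.subschemeι ⁻¹ᵁ U.1, U.2.preimage I.subschemeι⟩, hzU, le_rfl, ?_⟩
  rw [← Scheme.Hom.app_eq_appLE]
  apply RingHom.FinitePresentation.of_surjective _ (I.subschemeι_app_surjective U)
  rw [I.ker_subschemeι_app U]
  exact hfg

theorem locallyOfFinitePresentation_subschemeι_of_isEffCartier {X : Scheme.{u}}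
    (I : X.IdealSheafData) (hI : BlowUp.IsEffCartierIdeal I) :
    LocallyOfFinitePresentation I.subschemeι := by
  apply locallyOfFinitePresentation_subschemeι_of_fg
  intro x
  obtain ⟨U, hxU, g, -, hg⟩ := hI x
  exact ⟨U, hxU, hg ▸ ⟨{g}, by simp⟩⟩

theorem height_le_one (k : Type u) [Field k] (X : Scheme.{u})
    [X.Over (Spec (CommRingCat.of k))] [SmoothOfRelativeDimension 1 (X ↘ Spec (CommRingCat.of k))]
    (U : X.affineOpens) (m : Ideal Γ(X, U.1)) (hm : m.IsPrime) : m.height ≤ 1 := by
  set y : X := U.2.fromSpec ⟨m, hm⟩ with hy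
  have hyU : y ∈ U.1 := by
    have : y ∈ Set.range U.2.fromSpec := ⟨_, rfl⟩
    rw [U.2.range_fromSpec] at this
    exact this
  have hp : U.2.primeIdealOf ⟨y, hyU⟩ = ⟨m, hm⟩ :=
    U.2.fromSpec.isOpenEmbedding.injective (U.2.fromSpec_primeIdealOf ⟨y, hyU⟩)
  letI := X.presheaf.algebra_section_stalk (⟨y, hyU⟩ : U.1)
  haveI : IsLocalization.AtPrime (X.presheaf.stalk y) m := by
    have := U.2.isLocalization_stalk ⟨y, hyU⟩
    rwa [hp] at this
  have h1 := IsLocalization.AtPrime.ringKrullDim_eq_height m (X.presheaf.stalk y)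
  have h2 := ringKrullDim_stalk_le_one k X y
  rw [h1] at h2
  exact_mod_cast h2

/-- An effective Cartier divisor on a smooth curve over a field is locally quasi-finite over the
field. -/
theorem lqf_of_isEffCartier_of_smooth_curve (k : Type u) [Field k] (X : Scheme.{u})
    [X.Over (Spec (CommRingCat.of k))] [SmoothOfRelativeDimension 1 (X ↘ Spec (CommRingCat.of k))]
    (J : X.IdealSheafData) (hJ : BlowUp.IsEffCartierIdeal J) :
    LocallyQuasiFinite (J.subschemeι ≫ (X ↘ Spec (CommRingCat.of k))) := by
  haveI := smooth_of_rel k 1 X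
  haveI := locallyOfFiniteType_of_rel k 1 X
  haveI : IsLocallyNoetherian X :=
    LocallyOfFiniteType.isLocallyNoetherian (X ↘ Spec (CommRingCat.of k))
  rw [HasRingHomProperty.iff_exists_appLE (P := @LocallyQuasiFinite)
    (RingHom.QuasiFinite.stableUnderComposition.stableUnderCompositionWithLocalizationAway
      RingHom.QuasiFinite.holdsForLocalizationAway).1]
  intro z
  obtain ⟨U, hzU, g, hg, hgJ⟩ := hJ (J.subschemeι z)
  haveI : IsNoetherianRing Γ(X, U.1) := IsLocallyNoetherian.component_noetherian U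
  let V : (Spec (CommRingCat.of k)).affineOpens := ⟨⊤, isAffineOpen_top _⟩
  let W : J.subscheme.affineOpens := ⟨J.subschemeι ⁻¹ᵁ U.1, U.2.preimage J.subschemeι⟩
  have e : W.1 ≤ (J.subschemeι ≫ (X ↘ Spec (CommRingCat.of k))) ⁻¹ᵁ V.1 := fun _ _ => trivial
  refine ⟨V, W, hzU, e, ?_⟩
  have hft : ((J.subschemeι ≫ (X ↘ Spec (CommRingCat.of k))).appLE V.1 W.1 e).hom.FiniteType :=
    HasRingHomProperty.appLE (P := @LocallyOfFiniteType) _ inferInstance V W e
  -- the target ring is Artinian
  haveI hart : IsArtinianRing Γ(J.subscheme, W.1) := by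
    refine isArtinianRing_of_surjective_of_nzd_mem_ker (fun m hm => height_le_one k X U m hm)
      (J.subschemeι.app U.1).hom (J.subschemeι_app_surjective U) g hg ?_
    have : g ∈ RingHom.ker (J.subschemeι.app U.1).hom := by
      rw [J.ker_subschemeι_app U, hgJ]
      exact Ideal.mem_span_singleton_self g
    exact this
  algebraize [((J.subschemeι ≫ (X ↘ Spec (CommRingCat.of k))).appLE V.1 W.1 e).hom]
  rw [RingHom.QuasiFinite]
  rw [Algebra.QuasiFinite.iff_finite_comap_preimage_singleton]
  intro x
  exact Set.toFinite _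

end Groth.Agent.LibCurveCartier29
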