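import Mathlib
import Groth.Agent.LibCurveCartier29
import Groth.Agent.LibAlgSpCartier29b

/-!
# Relative effective Cartier divisors on smooth relative curves are locally quasi-finite
(helper29)

* `lqf_of_isEffCartier_flat`: `f : X ⟶ S` smooth of relative dimension `1`, `I` an effective
  Cartier ideal sheaf with `V(I)` flat over `S`; then `V(I) ⟶ S` is locally quasi-finite.
-/

set_option autoImplicit false
universe u

open CategoryTheory CategoryTheory.Limits AlgebraicGeometry Opposite TopologicalSpace

namespace Groth.Agent.LibCurveCartier29

theorem lofp_comp_of_isEffCartier {X S : Scheme.{u}} (f : X ⟶ S) [LocallyOfFinitePresentation f]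
    (I : X.IdealSheafData) (hI : BlowUp.IsEffCartierIdeal I) :
    LocallyOfFinitePresentation (I.subschemeι ≫ f) := by
  haveI := locallyOfFinitePresentation_subschemeι_of_isEffCartier I hI
  infer_instance

/-- Stacks 0B9D (other direction): a relative effective Cartier divisor on a smooth relative curve
is locally quasi-finite over the base. -/
theorem lqf_of_isEffCartier_flat {X S : Scheme.{u}} (f : X ⟶ S) [SmoothOfRelativeDimension 1 f]
    (I : X.IdealSheafData) (hI : BlowUp.IsEffCartierIdeal I) [Flat (I.subschemeι ≫ f)] :
    LocallyQuasiFinite (I.subschemeι ≫ f) := by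
  haveI : Smooth f := SmoothOfRelativeDimension.smooth 1 f
  haveI := lofp_comp_of_isEffCartier f I hI
  rw [locallyQuasiFinite_iff_isDiscrete_preimage_singleton]
  intro s
  letI : (f.fiber s).Over (Spec (CommRingCat.of (S.residueField s))) :=
    ⟨f.fiberToSpecResidueField s⟩
  haveI : MorphismProperty.IsStableUnderBaseChange (@SmoothOfRelativeDimension 1) :=
    smoothOfRelativeDimension_isStableUnderBaseChange 1
  haveI : SmoothOfRelativeDimension 1 ((f.fiber s) ↘ Spec (CommRingCat.of (S.residueField s))) :=
    MorphismProperty.pullback_snd (P := @SmoothOfRelativeDimension 1) f _ inferInstance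
  have hJ : BlowUp.IsEffCartierIdeal (I.comap (f.fiberι s)) :=
    Groth.Agent.LibAlgSpCartier29.isEffCartier_comap_of_isPullback
      (IsPullback.of_hasPullback f (S.fromSpecResidueField s)) I hI
  haveI := lqf_of_isEffCartier_of_smooth_curve (S.residueField s) (f.fiber s) _ hJ
  have h1 : _root_.IsDiscrete ((I.comap (f.fiberι s)).support : Set (f.fiber s)) :=
    isDiscrete_support_of_lqf (S.residueField s)
      ((f.fiber s) ↘ Spec (CommRingCat.of (S.residueField s))) _
  have h2 := h1.image (f.fiberι s).isEmbedding.isInducing
  rw [Scheme.IdealSheafData.support_comap, TopologicalSpace.Closeds.coe_preimage,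
    Set.image_preimage_eq_inter_range, Scheme.Hom.range_fiberι] at h2
  have h3 := h2.preimage (I.subschemeι.continuous.continuousOn)
    I.subschemeι.isEmbedding.injective
  convert h3 using 1
  ext z
  simp only [Set.mem_preimage, Set.mem_singleton_iff, Set.mem_inter_iff]
  constructor
  · intro h
    refine ⟨?_, h⟩
    rw [← I.range_subschemeι]
    exact ⟨z, rfl⟩
  · rintro ⟨-, h⟩
    exact h

end Groth.Agent.LibCurveCartier29
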