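import Mathlib

/-!
# Additivity of dimensions of quotients of an Artinian algebra from local data (helper29)

`k` a field, `C` a finite-dimensional commutative `k`-algebra.

* `finrank_quot_eq_sum`: `dim_k C/K = ∑_p dim_k C_p / K C_p`.
* `finrank_quot_add_of_span_of_ann`: if `K₁ = (a)` and `Ann a = K₂` then
  `dim R/K₁ + dim R/K₂ = dim R`.
* `finrank_quot_add_of_local`: the same with the hypothesis only at each localization.
-/

set_option autoImplicit false
universe u

namespace Groth.Agent.LibFinrankLocal29

open PrimeSpectrum

section local_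

variable (k : Type*) [Field k] (R : Type*) [CommRing R] [Algebra k R] [Module.Finite k R]

theorem finrank_quot_add_finrank (K : Ideal R) :
    Module.finrank k (R ⧸ K) + Module.finrank k (K.restrictScalars k) = Module.finrank k R := by
  have h1 := Submodule.finrank_quotient_add_finrank (K.restrictScalars k)
  have h2 : Module.finrank k (R ⧸ K.restrictScalars k) = Module.finrank k (R ⧸ K) :=
    LinearEquiv.finrank_eq (Submodule.Quotient.restrictScalarsEquiv k K)
  rw [← h2]
  exact h1

theorem finrank_quot_add_of_span_of_ann (K₁ K₂ : Ideal R) (a : R) (h1 : K₁ = Ideal.span {a})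
    (h2 : ∀ c : R, c * a = 0 ↔ c ∈ K₂) :
    Module.finrank k (R ⧸ K₁) + Module.finrank k (R ⧸ K₂) = Module.finrank k R := by
  let μ : R →ₗ[k] R := LinearMap.mulRight k a
  have hr : LinearMap.range μ = K₁.restrictScalars k := by
    ext x
    simp only [LinearMap.mem_range, Submodule.restrictScalars_mem, h1, Ideal.mem_span_singleton']
    rfl
  have hk : LinearMap.ker μ = K₂.restrictScalars k := by
    ext x
    simp only [LinearMap.mem_ker, Submodule.restrictScalars_mem]
    exact h2 x
  have h3 := LinearMap.finrank_range_add_finrank_ker μ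
  rw [hr, hk] at h3
  have h4 := finrank_quot_add_finrank k R K₁
  have h5 := finrank_quot_add_finrank k R K₂
  omega

end local_

section global

variable (k : Type u) [Field k] (C : Type u) [CommRing C] [Algebra k C] [Module.Finite k C]

/-- the map `C → ∏_p C_p / K C_p` -/
noncomputable def toPiQuot (K : Ideal C) :
    C →ₐ[k] (Π p : PrimeSpectrum C, (Localization.AtPrime p.asIdeal ⧸
      K.map (algebraMap C (Localization.AtPrime p.asIdeal)))) :=
  AlgHom.pi fun p =>
    (Ideal.Quotient.mkₐ k (K.map (algebraMap C (Localization.AtPrime p.asIdeal)))).comp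
      (IsScalarTower.toAlgHom k C (Localization.AtPrime p.asIdeal))

omit [Module.Finite k C] in
theorem toPiQuot_apply (K : Ideal C) (c : C) (p : PrimeSpectrum C) :
    toPiQuot k C K c p = Ideal.Quotient.mk _ (algebraMap C (Localization.AtPrime p.asIdeal) c) :=
  rfl

theorem toPiQuot_surjective (K : Ideal C) : Function.Surjective (toPiQuot k C K) := by
  haveI : IsArtinianRing C := IsArtinianRing.of_finite k C
  intro y
  choose x hx using fun p => Ideal.Quotient.mk_surjective (y p)
  obtain ⟨c, hc⟩ := (PrimeSpectrum.toPiLocalization_bijective (R := C)).2 x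
  refine ⟨c, funext fun p => ?_⟩
  rw [toPiQuot_apply, ← hx p, ← hc]
  rfl

theorem ker_toPiQuot (K : Ideal C) : RingHom.ker (toPiQuot k C K) = K := by
  ext c
  rw [RingHom.mem_ker]
  constructor
  · intro h
    refine Ideal.mem_of_localization_maximal fun P hP => ?_
    have := congrFun h ⟨P, hP.isPrime⟩
    rw [toPiQuot_apply] at this
    exact Ideal.Quotient.eq_zero_iff_mem.mp this
  · intro h
    funext p
    rw [toPiQuot_apply]
    exact Ideal.Quotient.eq_zero_iff_mem.mpr (Ideal.mem_map_of_mem _ h)

/-- `C/K ≃ ∏_p C_p / K C_p` -/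
noncomputable def quotEquivPi (K : Ideal C) :
    (C ⧸ K) ≃ₗ[k] (Π p : PrimeSpectrum C, (Localization.AtPrime p.asIdeal ⧸
      K.map (algebraMap C (Localization.AtPrime p.asIdeal)))) :=
  ((Ideal.quotientEquivAlgOfEq k (ker_toPiQuot k C K).symm).trans
    (Ideal.quotientKerAlgEquivOfSurjective (toPiQuot_surjective k C K))).toLinearEquiv

instance finite_localization (p : PrimeSpectrum C) :
    Module.Finite k (Localization.AtPrime p.asIdeal) := by
  haveI : IsArtinianRing C := IsArtinianRing.of_finite k C
  have hs : Function.Surjective (algebraMap C (Localization.AtPrime p.asIdeal)) :=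
    IsArtinianRing.localization_surjective p.asIdeal.primeCompl _
  exact Module.Finite.of_surjective (IsScalarTower.toAlgHom k C _).toLinearMap hs

theorem finrank_quot_eq_sum [Fintype (PrimeSpectrum C)] (K : Ideal C) :
    Module.finrank k (C ⧸ K) = ∑ p : PrimeSpectrum C,
      Module.finrank k (Localization.AtPrime p.asIdeal ⧸
        K.map (algebraMap C (Localization.AtPrime p.asIdeal))) := by
  rw [LinearEquiv.finrank_eq (quotEquivPi k C K), Module.finrank_pi_fintype]

theorem finrank_eq_sum [Fintype (PrimeSpectrum C)] :
    Module.finrank k C = ∑ p : PrimeSpectrum C,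
      Module.finrank k (Localization.AtPrime p.asIdeal) := by
  haveI : IsArtinianRing C := IsArtinianRing.of_finite k C
  let e : C ≃ₗ[k] (Π p : PrimeSpectrum C, Localization.AtPrime p.asIdeal) :=
    LinearEquiv.ofBijective
      ((PrimeSpectrum.toPiLocalization C).toLinearMap.restrictScalars k)
      (PrimeSpectrum.toPiLocalization_bijective (R := C))
  rw [LinearEquiv.finrank_eq e, Module.finrank_pi_fintype]

/-- Additivity from local data: if at every prime `p` the ideal `K₁ C_p` is principal, generated
by an element whose annihilator is `K₂ C_p`, then `dim C/K₁ + dim C/K₂ = dim C`. -/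
theorem finrank_quot_add_of_local (K₁ K₂ : Ideal C)
    (H : ∀ p : PrimeSpectrum C, ∃ a : Localization.AtPrime p.asIdeal,
      K₁.map (algebraMap C (Localization.AtPrime p.asIdeal)) = Ideal.span {a} ∧
      ∀ c : Localization.AtPrime p.asIdeal, c * a = 0 ↔
        c ∈ K₂.map (algebraMap C (Localization.AtPrime p.asIdeal))) :
    Module.finrank k (C ⧸ K₁) + Module.finrank k (C ⧸ K₂) = Module.finrank k C := by
  haveI : IsArtinianRing C := IsArtinianRing.of_finite k C
  haveI : Fintype (PrimeSpectrum C) := Fintype.ofFinite _
  rw [finrank_quot_eq_sum k C K₁, finrank_quot_eq_sum k C K₂, finrank_eq_sum k C,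
    ← Finset.sum_add_distrib]
  refine Finset.sum_congr rfl fun p _ => ?_
  obtain ⟨a, h1, h2⟩ := H p
  exact finrank_quot_add_of_span_of_ann k _ _ _ a h1 h2

/-- transfer of the local data along an isomorphism of `C`-algebras -/
theorem local_data_transfer {L L' : Type*} [CommRing L] [CommRing L'] [Algebra C L] [Algebra C L']
    (e : L ≃ₐ[C] L') (K₁ K₂ : Ideal C) (a : L)
    (h1 : K₁.map (algebraMap C L) = Ideal.span {a})
    (h2 : ∀ c : L, c * a = 0 ↔ c ∈ K₂.map (algebraMap C L)) :
    K₁.map (algebraMap C L') = Ideal.span {e a} ∧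
      ∀ c : L', c * e a = 0 ↔ c ∈ K₂.map (algebraMap C L') := by
  have hmap : ∀ K : Ideal C, K.map (algebraMap C L') =
      (K.map (algebraMap C L)).map (e : L →+* L') := by
    intro K
    rw [Ideal.map_map]
    congr 1
    ext c
    exact (e.commutes c).symm
  refine ⟨?_, ?_⟩
  · rw [hmap, h1, Ideal.map_span, Set.image_singleton]
    rfl
  · intro c
    obtain ⟨c, rfl⟩ := e.surjective c
    rw [hmap, ← map_mul]
    rw [EmbeddingLike.map_eq_zero_iff, h2]
    constructor
    · intro h
      exact Ideal.mem_map_of_mem _ h
    · intro h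
      have := Ideal.mem_map_of_mem (e.symm : L' →+* L) h
      rw [Ideal.map_map] at this
      have h3 : ((e.symm : L' →+* L).comp (e : L →+* L')) = RingHom.id L := by
        ext x
        exact e.symm_apply_apply x
      rw [h3, Ideal.map_id] at this
      simpa using this

end global

end Groth.Agent.LibFinrankLocal29
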