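import Mathlib
import Groth.Prelude.Def_BlowUp2
import Groth.Agent.LibFinrankLocal29
import Groth.Agent.Lib.Helper17.RegNear
import Groth.Agent.Lib.Helper16.RelCartier

/-!
# Degrees of sums of effective Cartier divisors which are finite over a field (helper29)
-/

set_option autoImplicit false
universe u

open CategoryTheory CategoryTheory.Limits AlgebraicGeometry Opposite TopologicalSpace

namespace Groth.Agent.LibDivDeg29

open Groth.Agent.LibFinrankLocal29

/-- kernel of the restriction to a closed subscheme of a closed subscheme, on sections -/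
theorem app_app_eq_zero_iff {X D D' : Scheme.{u}} (h : D' ⟶ D) (ι : D ⟶ X) (ι' : D' ⟶ X)
    (e : h ≫ ι = ι') (U : X.Opens) (a : Γ(X, U)) :
    (h.app (ι ⁻¹ᵁ U)).hom ((ι.app U).hom a) = 0 ↔ (ι'.app U).hom a = 0 := by
  subst e
  rw [Scheme.Hom.comp_app]
  rfl

theorem ker_app_eq_map {X D D' : Scheme.{u}} (h : D' ⟶ D) (ι : D ⟶ X) (ι' : D' ⟶ X)
    (e : h ≫ ι = ι') (U : X.Opens) (hs : Function.Surjective (ι.app U).hom) :
    RingHom.ker (h.app (ι ⁻¹ᵁ U)).hom = (RingHom.ker (ι'.app U).hom).map (ι.app U).hom := by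
  apply le_antisymm
  · intro b hb
    obtain ⟨a, rfl⟩ := hs b
    rw [RingHom.mem_ker, app_app_eq_zero_iff h ι ι' e U a] at hb
    exact Ideal.mem_map_of_mem _ hb
  · rw [Ideal.map_le_iff_le_comap]
    intro a ha
    rw [Ideal.mem_comap, RingHom.mem_ker, app_app_eq_zero_iff h ι ι' e U a]
    exact ha

theorem mul_le_left' {X : Scheme.{u}} (J₁ J₂ : X.IdealSheafData) : J₁ * J₂ ≤ J₁ :=
  fun _ => Ideal.mul_le_left (I := _) (J := _)

theorem mul_le_right' {X : Scheme.{u}} (J₁ J₂ : X.IdealSheafData) : J₁ * J₂ ≤ J₂ :=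
  fun _ => Ideal.mul_le_right (I := _) (J := _)

open Groth.Agent.Lib.helper16.RelCartier in
/-- the ideal of the closed subscheme `V(J') ⊆ V(J)` in the local ring of `V(J)` at `z`, when
`J'` is principal near `z` -/
theorem ker_inclusion_map_germ {X : Scheme.{u}} (J J' : X.IdealSheafData) (hle : J ≤ J')
    [IsAffine J.subscheme] (z : J.subscheme) (U : X.affineOpens) (hzU : J.subschemeι z ∈ U.1)
    (g : Γ(X, U.1)) (hg : J'.ideal U = Ideal.span {g}) :
    (RingHom.ker (Scheme.IdealSheafData.inclusion hle).appTop.hom).map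
        (J.subscheme.presheaf.germ ⊤ z trivial).hom =
      Ideal.span {(J.subscheme.presheaf.germ (J.subschemeι ⁻¹ᵁ U.1) z hzU).hom
        ((J.subschemeι.app U.1).hom g)} := by
  have hW : IsAffineOpen (J.subschemeι ⁻¹ᵁ U.1) := U.2.preimage J.subschemeι
  have e1 : (Scheme.IdealSheafData.inclusion hle).ker.ideal ⟨⊤, isAffineOpen_top J.subscheme⟩ =
      RingHom.ker (Scheme.IdealSheafData.inclusion hle).appTop.hom :=
    (Scheme.IdealSheafData.inclusion hle).ker_apply _
  have e2 : (Scheme.IdealSheafData.inclusion hle).ker.ideal ⟨J.subschemeι ⁻¹ᵁ U.1, hW⟩ =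
      RingHom.ker ((Scheme.IdealSheafData.inclusion hle).app (J.subschemeι ⁻¹ᵁ U.1)).hom :=
    (Scheme.IdealSheafData.inclusion hle).ker_apply _
  have e3 := (Scheme.IdealSheafData.inclusion hle).ker.map_ideal
    (U := ⟨J.subschemeι ⁻¹ᵁ U.1, hW⟩) (V := ⟨⊤, isAffineOpen_top J.subscheme⟩)
    (show (⟨J.subschemeι ⁻¹ᵁ U.1, hW⟩ : J.subscheme.affineOpens) ≤
      ⟨⊤, isAffineOpen_top J.subscheme⟩ from (le_top : J.subschemeι ⁻¹ᵁ U.1 ≤ ⊤))
  rw [e1, e2] at e3
  have e4 := ker_app_eq_map (Scheme.IdealSheafData.inclusion hle) J.subschemeι J'.subschemeι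
    (Scheme.IdealSheafData.inclusion_subschemeι hle) U.1 (J.subschemeι_app_surjective U)
  rw [J'.ker_subschemeι_app U, hg, Ideal.map_span, Set.image_singleton] at e4
  have e5 : (J.subscheme.presheaf.germ ⊤ z trivial).hom =
      (J.subscheme.presheaf.germ (J.subschemeι ⁻¹ᵁ U.1) z hzU).hom.comp
        (J.subscheme.presheaf.map (homOfLE (le_top : J.subschemeι ⁻¹ᵁ U.1 ≤ ⊤)).op).hom := by
    rw [← CommRingCat.hom_comp, J.subscheme.presheaf.germ_res]
  rw [e5, ← Ideal.map_map]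
  refine (congrArg (Ideal.map _) (e3.trans e4)).trans ?_
  rw [Ideal.map_span, Set.image_singleton]

open Groth.Agent.Lib.helper16.RelCartier Groth.Agent.Lib.helper17.RegNear in
/-- Local structure of `V(J₁) ⊆ V(J₁J₂) ⊇ V(J₂)` at a point, for effective Cartier `J₁`, `J₂`. -/
theorem local_data {X : Scheme.{u}} (J₁ J₂ : X.IdealSheafData)
    (h₁ : BlowUp.IsEffCartierIdeal J₁) (h₂ : BlowUp.IsEffCartierIdeal J₂)
    [IsAffine (J₁ * J₂).subscheme] (z : (J₁ * J₂).subscheme) :
    ∃ a : (J₁ * J₂).subscheme.presheaf.stalk z,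
      (RingHom.ker (Scheme.IdealSheafData.inclusion (mul_le_left' J₁ J₂)).appTop.hom).map
        ((J₁ * J₂).subscheme.presheaf.germ ⊤ z trivial).hom = Ideal.span {a} ∧
      ∀ c, c * a = 0 ↔
        c ∈ (RingHom.ker (Scheme.IdealSheafData.inclusion (mul_le_right' J₁ J₂)).appTop.hom).map
          ((J₁ * J₂).subscheme.presheaf.germ ⊤ z trivial).hom := by
  obtain ⟨U₁, hxU₁, -, t₁, ht₁, hI₁⟩ := exists_gen_le J₁ h₁ ((J₁ * J₂).subschemeι z) ⊤ trivial
  obtain ⟨U, hxU, hUU₁, g₂, hg₂, hI₂⟩ :=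
    exists_gen_le J₂ h₂ ((J₁ * J₂).subschemeι z) U₁.1 hxU₁
  obtain ⟨hg₁, hI₁'⟩ := gen_restrict J₁ U₁ U hUU₁ t₁ ht₁ hI₁
  generalize (X.presheaf.map (homOfLE hUU₁).op).hom t₁ = g₁ at hg₁ hI₁'
  have k1 := ker_inclusion_map_germ (J₁ * J₂) J₁ (mul_le_left' J₁ J₂) z U hxU g₁ hI₁'
  have k2 := ker_inclusion_map_germ (J₁ * J₂) J₂ (mul_le_right' J₁ J₂) z U hxU g₂ hI₂
  rw [k1, k2]
  refine ⟨_, rfl, ?_⟩
  have hσs : Function.Surjective ((J₁ * J₂).subschemeι.stalkMap z).hom :=
    (J₁ * J₂).subschemeι.stalkMap_surjective z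
  letI := X.presheaf.algebra_section_stalk (⟨(J₁ * J₂).subschemeι z, hxU⟩ : U.1)
  have hker := ker_stalkMap_eq_map (J₁ * J₂).subschemeι z U.1 U.2 hxU
  rw [(J₁ * J₂).ker_subschemeι_app U, Scheme.IdealSheafData.ideal_mul, Pi.mul_apply, hI₁', hI₂,
    Ideal.span_singleton_mul_span_singleton, Ideal.map_span, Set.image_singleton, map_mul] at hker
  have hgerm : ∀ a : Γ(X, U.1), ((J₁ * J₂).subschemeι.stalkMap z).hom
      (algebraMap Γ(X, U.1) (X.presheaf.stalk ((J₁ * J₂).subschemeι z)) a) =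
      ((J₁ * J₂).subscheme.presheaf.germ _ z hxU).hom (((J₁ * J₂).subschemeι.app U.1).hom a) :=
    fun a => Scheme.Hom.germ_stalkMap_apply _ U.1 z hxU a
  rw [← hgerm, ← hgerm]
  haveI : IsLocalization.AtPrime (X.presheaf.stalk ((J₁ * J₂).subschemeι z))
      (U.2.primeIdealOf ⟨(J₁ * J₂).subschemeι z, hxU⟩).asIdeal :=
    U.2.isLocalization_stalk ⟨(J₁ * J₂).subschemeι z, hxU⟩
  have hnzd : algebraMap Γ(X, U.1) (X.presheaf.stalk ((J₁ * J₂).subschemeι z)) g₁ ∈
      nonZeroDivisors (X.presheaf.stalk ((J₁ * J₂).subschemeι z)) :=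
    IsLocalization.map_nonZeroDivisors_le
      (U.2.primeIdealOf ⟨(J₁ * J₂).subschemeι z, hxU⟩).asIdeal.primeCompl _
      (Submonoid.mem_map_of_mem _ hg₁)
  generalize algebraMap Γ(X, U.1) (X.presheaf.stalk ((J₁ * J₂).subschemeι z)) g₁ = γ₁ at *
  generalize algebraMap Γ(X, U.1) (X.presheaf.stalk ((J₁ * J₂).subschemeι z)) g₂ = γ₂ at *
  intro c
  obtain ⟨r, rfl⟩ := hσs c
  rw [← map_mul, ← RingHom.mem_ker, ← hker, Ideal.mem_span_singleton']
  constructor
  · rintro ⟨s, hs⟩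
    have h0 : (r - s * γ₂) * γ₁ = 0 := by rw [sub_mul, ← hs]; ring
    have h1 := (mem_nonZeroDivisors_iff.1 hnzd).2 _ h0
    rw [sub_eq_zero] at h1
    rw [Ideal.mem_span_singleton']
    exact ⟨((J₁ * J₂).subschemeι.stalkMap z).hom s, by rw [← map_mul, ← h1]⟩
  · intro h
    rw [Ideal.mem_span_singleton'] at h
    obtain ⟨c', hc'⟩ := h
    obtain ⟨s, rfl⟩ := hσs c'
    rw [← map_mul] at hc'
    have h0 : r - s * γ₂ ∈ RingHom.ker ((J₁ * J₂).subschemeι.stalkMap z).hom := by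
      rw [RingHom.mem_ker, map_sub, hc', sub_self]
    rw [← hker, Ideal.mem_span_singleton'] at h0
    obtain ⟨s', hs'⟩ := h0
    refine ⟨s + s' * γ₁, ?_⟩
    have : r = s * γ₂ + s' * (γ₁ * γ₂) := by rw [hs']; ring
    rw [this]; ring

section field

variable (k : Type u) [Field k]

/-- the `k`-algebra structure map on global sections of a scheme over `Spec k` -/
noncomputable abbrev gammaAlg {D : Scheme.{u}} (g : D ⟶ Spec (CommRingCat.of k)) :
    CommRingCat.of k ⟶ Γ(D, ⊤) :=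
  (Scheme.ΓSpecIso (CommRingCat.of k)).inv ≫ g.appTop

theorem eq_isoSpec_comp {D : Scheme.{u}} [IsAffine D] (g : D ⟶ Spec (CommRingCat.of k)) :
    g = D.isoSpec.hom ≫ Spec.map (gammaAlg k g) := by
  have h := Scheme.isoSpec_hom_naturality g
  rw [Scheme.isoSpec_Spec_hom] at h
  rw [gammaAlg, Spec.map_comp, ← Category.assoc, h, Category.assoc, ← Spec.map_comp,
    Iso.inv_hom_id, Spec.map_id, Category.comp_id]

theorem gammaAlg_comp {D D' : Scheme.{u}} (h : D' ⟶ D) (g : D ⟶ Spec (CommRingCat.of k)) :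
    gammaAlg k (h ≫ g) = gammaAlg k g ≫ h.appTop := by
  rw [gammaAlg, gammaAlg, Scheme.Hom.comp_appTop, Category.assoc]

/-- the rank of a finite morphism to the spectrum of a field is the dimension of the ring of
global sections -/
theorem finrank_eq_finrank_gamma {D : Scheme.{u}} (g : D ⟶ Spec (CommRingCat.of k)) [IsFinite g]
    (y : Spec (CommRingCat.of k)) :
    letI := (gammaAlg k g).hom.toAlgebra
    g.finrank y = Module.finrank k Γ(D, ⊤) := by
  haveI : IsAffine D := isAffine_of_isAffineHom g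
  have e := eq_isoSpec_comp k g
  have hfin : IsFinite (Spec.map (gammaAlg k g)) := by
    rw [← MorphismProperty.cancel_left_of_respectsIso @IsFinite D.isoSpec.hom, ← e]
    infer_instance
  have h1 : (gammaAlg k g).hom.Finite := by rwa [IsFinite.SpecMap_iff] at hfin
  have h2 : (gammaAlg k g).hom.Flat := by
    letI : Algebra k Γ(D, ⊤) := (gammaAlg k g).hom.toAlgebra
    change Module.Flat k Γ(D, ⊤)
    infer_instance
  have hflat : Flat (Spec.map (gammaAlg k g)) := by rwa [Flat.SpecMap_iff]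
  letI := (gammaAlg k g).hom.toAlgebra
  conv_lhs => rw [e]
  rw [Scheme.Hom.finrank_comp_left_of_isIso, Scheme.Hom.finrank_SpecMap_eq_finrank h1 h2]
  change Module.rankAtStalk (R := k) Γ(D, ⊤) y = _
  rw [Module.rankAtStalk_eq_finrank_of_free]
  rfl

theorem finrank_congr_alg {C : Type u} [CommRing C] (ψ₁ ψ₂ : k →+* C) (h : ψ₁ = ψ₂) :
    @Module.finrank k C _ _ ψ₁.toAlgebra.toModule = @Module.finrank k C _ _ ψ₂.toAlgebra.toModule := by
  subst h; rfl

theorem finrank_of_surjective {C C' : Type u} [CommRing C] [CommRing C'] [Algebra k C]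
    (φ : C →+* C') (hφ : Function.Surjective φ) :
    @Module.finrank k C' _ _ (φ.comp (algebraMap k C)).toAlgebra.toModule =
      Module.finrank k (C ⧸ RingHom.ker φ) := by
  letI := (φ.comp (algebraMap k C)).toAlgebra
  let φ' : C →ₐ[k] C' := ⟨φ, fun r => rfl⟩
  exact (LinearEquiv.finrank_eq
    (Ideal.quotientKerAlgEquivOfSurjective (f := φ') hφ).toLinearEquiv).symm

/-- Degree of a sum of effective Cartier divisors, finite over a field. -/
theorem finrank_mul_eq_add {X : Scheme.{u}} (p : X ⟶ Spec (CommRingCat.of k))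
    (J₁ J₂ : X.IdealSheafData)
    (h₁ : BlowUp.IsEffCartierIdeal J₁) (h₂ : BlowUp.IsEffCartierIdeal J₂)
    [IsFinite ((J₁ * J₂).subschemeι ≫ p)] (y : Spec (CommRingCat.of k)) :
    ((J₁ * J₂).subschemeι ≫ p).finrank y =
      (J₁.subschemeι ≫ p).finrank y + (J₂.subschemeι ≫ p).finrank y := by
  haveI : IsAffine (J₁ * J₂).subscheme := isAffine_of_isAffineHom ((J₁ * J₂).subschemeι ≫ p)
  letI alg : Algebra k Γ((J₁ * J₂).subscheme, ⊤) :=
    (gammaAlg k ((J₁ * J₂).subschemeι ≫ p)).hom.toAlgebra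
  haveI hfin : Module.Finite k Γ((J₁ * J₂).subscheme, ⊤) := by
    have e := eq_isoSpec_comp k ((J₁ * J₂).subschemeι ≫ p)
    have hfin : IsFinite (Spec.map (gammaAlg k ((J₁ * J₂).subschemeι ≫ p))) := by
      rw [← MorphismProperty.cancel_left_of_respectsIso @IsFinite (J₁ * J₂).subscheme.isoSpec.hom,
        ← e]
      infer_instance
    rw [IsFinite.SpecMap_iff] at hfin
    exact hfin
  have key : ∀ (J' : X.IdealSheafData) (hle : J₁ * J₂ ≤ J'),
      (J'.subschemeι ≫ p).finrank y = Module.finrank k (Γ((J₁ * J₂).subscheme, ⊤) ⧸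
        RingHom.ker (Scheme.IdealSheafData.inclusion hle).appTop.hom) := by
    intro J' hle
    have e : J'.subschemeι ≫ p = Scheme.IdealSheafData.inclusion hle ≫
        ((J₁ * J₂).subschemeι ≫ p) := by
      rw [← Category.assoc, Scheme.IdealSheafData.inclusion_subschemeι]
    haveI : IsClosedImmersion (Scheme.IdealSheafData.inclusion hle ≫ (J₁ * J₂).subschemeι) := by
      rw [Scheme.IdealSheafData.inclusion_subschemeι]; infer_instance
    haveI : IsClosedImmersion (Scheme.IdealSheafData.inclusion hle) :=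
      IsClosedImmersion.of_comp_isClosedImmersion (Scheme.IdealSheafData.inclusion hle)
        (J₁ * J₂).subschemeι
    rw [e, finrank_eq_finrank_gamma k _ y]
    have hs : Function.Surjective (Scheme.IdealSheafData.inclusion hle).appTop.hom :=
      (IsClosedImmersion.isAffine_surjective_of_isAffine (Scheme.IdealSheafData.inclusion hle)).2
    rw [← finrank_of_surjective k (Scheme.IdealSheafData.inclusion hle).appTop.hom hs]
    apply finrank_congr_alg
    rw [gammaAlg_comp]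
    rfl
  rw [key J₁ (mul_le_left' J₁ J₂), key J₂ (mul_le_right' J₁ J₂),
    finrank_eq_finrank_gamma k ((J₁ * J₂).subschemeι ≫ p) y]
  refine (finrank_quot_add_of_local k Γ((J₁ * J₂).subscheme, ⊤) _ _ fun 𝔭 => ?_).symm
  have hz : (isAffineOpen_top (J₁ * J₂).subscheme).fromSpec 𝔭 ∈
      (⊤ : (J₁ * J₂).subscheme.Opens) := trivial
  letI := (J₁ * J₂).subscheme.presheaf.algebra_section_stalk
    ⟨(isAffineOpen_top (J₁ * J₂).subscheme).fromSpec 𝔭, hz⟩
  haveI hloc : IsLocalization 𝔭.asIdeal.primeCompl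
      ((J₁ * J₂).subscheme.presheaf.stalk ((isAffineOpen_top (J₁ * J₂).subscheme).fromSpec 𝔭)) :=
    (isAffineOpen_top (J₁ * J₂).subscheme).isLocalization_stalk' 𝔭 hz
  obtain ⟨a, ha1, ha2⟩ := local_data J₁ J₂ h₁ h₂
    ((isAffineOpen_top (J₁ * J₂).subscheme).fromSpec 𝔭)
  let e := IsLocalization.algEquiv 𝔭.asIdeal.primeCompl
    ((J₁ * J₂).subscheme.presheaf.stalk ((isAffineOpen_top (J₁ * J₂).subscheme).fromSpec 𝔭))
    (Localization.AtPrime 𝔭.asIdeal)
  exact ⟨e a, local_data_transfer Γ((J₁ * J₂).subscheme, ⊤) e _ _ a ha1 ha2⟩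

end field

end Groth.Agent.LibDivDeg29
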