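import Mathlib
import Groth.Agent.LibDivDeg29
import Groth.Agent.LibAlgSpCartier29b

/-!
# Degrees of sums of relative effective Cartier divisors finite flat over the base (helper29)

* `finrank_comap_fiberι`: the rank of `V(I) ⟶ S` at `y` is the rank of the fibre over `κ(y)`.
* `finrank_mul_eq_add`: `deg (D₁ + D₂) = deg D₁ + deg D₂` pointwise on the base.
-/

set_option autoImplicit false
universe u

open CategoryTheory CategoryTheory.Limits AlgebraicGeometry Opposite TopologicalSpace

namespace Groth.Agent.LibDivDeg29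

theorem isPullback_comap_fiberι {X S : Scheme.{u}} (f : X ⟶ S) (I : X.IdealSheafData) (y : S) :
    IsPullback (pullback.snd (f.fiberι y) I.subschemeι)
      (pullback.fst (f.fiberι y) I.subschemeι ≫ f.fiberToSpecResidueField y)
      (I.subschemeι ≫ f) (S.fromSpecResidueField y) := by
  have top : IsPullback (pullback.snd (f.fiberι y) I.subschemeι)
      (pullback.fst (f.fiberι y) I.subschemeι) I.subschemeι (f.fiberι y) :=
    (IsPullback.of_hasPullback (f.fiberι y) I.subschemeι).flip
  have bot : IsPullback (f.fiberι y) (f.fiberToSpecResidueField y) f (S.fromSpecResidueField y) :=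
    IsPullback.of_hasPullback f (S.fromSpecResidueField y)
  exact top.paste_vert bot

theorem isFinite_comap_fiberι {X S : Scheme.{u}} (f : X ⟶ S) (I : X.IdealSheafData) (y : S)
    [IsFinite (I.subschemeι ≫ f)] :
    IsFinite ((I.comap (f.fiberι y)).subschemeι ≫ f.fiberToSpecResidueField y) := by
  rw [← Scheme.IdealSheafData.comapIso_hom_fst, Category.assoc]
  haveI : IsFinite (pullback.fst (f.fiberι y) I.subschemeι ≫ f.fiberToSpecResidueField y) :=
    MorphismProperty.of_isPullback (P := @IsFinite) (isPullback_comap_fiberι f I y) inferInstance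
  infer_instance

theorem finrank_comap_fiberι {X S : Scheme.{u}} (f : X ⟶ S) (I : X.IdealSheafData) (y : S)
    [IsFinite (I.subschemeι ≫ f)] [Flat (I.subschemeι ≫ f)]
    (t : Spec (CommRingCat.of (S.residueField y))) :
    ((I.comap (f.fiberι y)).subschemeι ≫ f.fiberToSpecResidueField y).finrank t =
      (I.subschemeι ≫ f).finrank y := by
  rw [← Scheme.IdealSheafData.comapIso_hom_fst, Category.assoc]
  have hpb := isPullback_comap_fiberι f I y
  haveI : IsFinite (pullback.fst (f.fiberι y) I.subschemeι ≫ f.fiberToSpecResidueField y) :=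
    MorphismProperty.of_isPullback (P := @IsFinite) hpb inferInstance
  haveI : Flat (pullback.fst (f.fiberι y) I.subschemeι ≫ f.fiberToSpecResidueField y) :=
    MorphismProperty.of_isPullback (P := @Flat) hpb inferInstance
  rw [Scheme.Hom.finrank_comp_left_of_isIso]
  rw [Scheme.Hom.finrank_of_isPullback _ _ _ _ hpb t, Scheme.fromSpecResidueField_apply]

/-- Degree of a sum of relative effective Cartier divisors, finite and flat over the base. -/
theorem finrank_mul_eq_add_rel {X S : Scheme.{u}} (f : X ⟶ S) (I₁ I₂ : X.IdealSheafData)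
    (h₁ : BlowUp.IsEffCartierIdeal I₁) (h₂ : BlowUp.IsEffCartierIdeal I₂)
    [IsFinite (I₁.subschemeι ≫ f)] [Flat (I₁.subschemeι ≫ f)]
    [IsFinite (I₂.subschemeι ≫ f)] [Flat (I₂.subschemeι ≫ f)]
    [IsFinite ((I₁ * I₂).subschemeι ≫ f)] [Flat ((I₁ * I₂).subschemeι ≫ f)] (y : S) :
    ((I₁ * I₂).subschemeι ≫ f).finrank y =
      (I₁.subschemeι ≫ f).finrank y + (I₂.subschemeι ≫ f).finrank y := by
  have t : Spec (CommRingCat.of (S.residueField y)) := Classical.arbitrary _
  have hJ₁ : BlowUp.IsEffCartierIdeal (I₁.comap (f.fiberι y)) :=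
    Groth.Agent.LibAlgSpCartier29.isEffCartier_comap_of_isPullback
      (IsPullback.of_hasPullback f (S.fromSpecResidueField y)) I₁ h₁
  have hJ₂ : BlowUp.IsEffCartierIdeal (I₂.comap (f.fiberι y)) :=
    Groth.Agent.LibAlgSpCartier29.isEffCartier_comap_of_isPullback
      (IsPullback.of_hasPullback f (S.fromSpecResidueField y)) I₂ h₂
  rw [← finrank_comap_fiberι f (I₁ * I₂) y t, ← finrank_comap_fiberι f I₁ y t,
    ← finrank_comap_fiberι f I₂ y t]
  have hfin := isFinite_comap_fiberι f (I₁ * I₂) y
  rw [Groth.Agent.Lib.helper6.comap_mul] at hfin ⊢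
  haveI := hfin
  exact finrank_mul_eq_add (S.residueField y) (f.fiberToSpecResidueField y) _ _ hJ₁ hJ₂ t

end Groth.Agent.LibDivDeg29
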