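import Mathlib
import Groth.Agent.LibDivDeg29b
import Groth.Agent.LibCurveCartier29b
import Groth.Agent.Lib.Helper12.JointProper
import Groth.Agent.Lib.Helper16.EffDiv

/-!
# Sums of relative effective Cartier divisors (helper29)

* `flat_mul`: the sum of two relative effective Cartier divisors is flat over the base.
* `isFinite_mul`: finiteness of the sum.
-/

set_option autoImplicit false
universe u

open CategoryTheory CategoryTheory.Limits AlgebraicGeometry Opposite TopologicalSpace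

namespace Groth.Agent.LibCurveDivSum29

open Groth.Agent.Lib.helper16.RelCartier Groth.Agent.LibDivDeg29

/-- common principal generators on a small affine neighbourhood -/
theorem exists_common_gen {X : Scheme.{u}} (I₁ I₂ : X.IdealSheafData)
    (h₁ : BlowUp.IsEffCartierIdeal I₁) (h₂ : BlowUp.IsEffCartierIdeal I₂) (x : X) (W : X.Opens)
    (hxW : x ∈ W) :
    ∃ U : X.affineOpens, x ∈ U.1 ∧ U.1 ≤ W ∧ ∃ g₁ ∈ nonZeroDivisors Γ(X, U.1),
      ∃ g₂ ∈ nonZeroDivisors Γ(X, U.1), I₁.ideal U = Ideal.span {g₁} ∧ I₂.ideal U = Ideal.span {g₂} := by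
  obtain ⟨U₁, hxU₁, hU₁W, t₁, ht₁, hI₁⟩ := exists_gen_le I₁ h₁ x W hxW
  obtain ⟨U, hxU, hUU₁, g₂, hg₂, hI₂⟩ := exists_gen_le I₂ h₂ x U₁.1 hxU₁
  obtain ⟨hg₁, hI₁'⟩ := gen_restrict I₁ U₁ U hUU₁ t₁ ht₁ hI₁
  exact ⟨U, hxU, hUU₁.trans hU₁W, _, hg₁, g₂, hg₂, hI₁', hI₂⟩

/-- The sum of two relative effective Cartier divisors is flat over the base. -/
theorem flat_mul {X S : Scheme.{u}} (f : X ⟶ S) (I₁ I₂ : X.IdealSheafData)
    (h₁ : BlowUp.IsEffCartierIdeal I₁) (h₂ : BlowUp.IsEffCartierIdeal I₂)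
    [Flat (I₁.subschemeι ≫ f)] [Flat (I₂.subschemeι ≫ f)] :
    Flat ((I₁ * I₂).subschemeι ≫ f) := by
  apply flat_sub_of_flat_quot
  intro x _
  obtain ⟨V0, hV0, hxV, -⟩ := exists_isAffineOpen_mem_and_subset (x := f x) (U := ⊤) trivial
  let V : S.affineOpens := ⟨V0, hV0⟩
  obtain ⟨U, hxU, e, g₁, hg₁, g₂, hg₂, hI₁, hI₂⟩ :=
    exists_common_gen I₁ I₂ h₁ h₂ x (f ⁻¹ᵁ V.1) hxV
  refine ⟨U, V, hxU, e, ?_⟩
  have q1 := flat_quot_of_flat_sub f I₁ U V e
  have q2 := flat_quot_of_flat_sub f I₂ U V e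
  rw [Scheme.IdealSheafData.ideal_mul, Pi.mul_apply, hI₁, hI₂,
    Ideal.span_singleton_mul_span_singleton]
  rw [hI₁] at q1
  rw [hI₂] at q2
  algebraize [(f.appLE V.1 U.1 e).hom]
  have hA : (f.appLE V.1 U.1 e).hom = algebraMap Γ(S, V.1) Γ(X, U.1) := rfl
  rw [hA, flat_comp_mk_iff] at q1 q2 ⊢
  exact flat_of_exact (mulQ g₁ g₂) (facQ g₁ g₂) (mulQ_injective g₁ g₂ hg₁) (facQ_surjective g₁ g₂)
    (exact_mulQ_facQ g₁ g₂)

/-- If `D₁ + D` and `D₁` are flat over the base then so is `D`. -/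
theorem flat_of_flat_mul {X S : Scheme.{u}} (f : X ⟶ S) (I₁ I : X.IdealSheafData)
    (h₁ : BlowUp.IsEffCartierIdeal I₁) (h : BlowUp.IsEffCartierIdeal I)
    [Flat (I₁.subschemeι ≫ f)] [Flat ((I₁ * I).subschemeι ≫ f)] :
    Flat (I.subschemeι ≫ f) := by
  apply flat_sub_of_flat_quot
  intro x _
  obtain ⟨V0, hV0, hxV, -⟩ := exists_isAffineOpen_mem_and_subset (x := f x) (U := ⊤) trivial
  let V : S.affineOpens := ⟨V0, hV0⟩
  obtain ⟨U, hxU, e, g₁, hg₁, g₂, hg₂, hI₁, hI₂⟩ :=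
    exists_common_gen I₁ I h₁ h x (f ⁻¹ᵁ V.1) hxV
  refine ⟨U, V, hxU, e, ?_⟩
  have q1 := flat_quot_of_flat_sub f I₁ U V e
  have q2 := flat_quot_of_flat_sub f (I₁ * I) U V e
  rw [Scheme.IdealSheafData.ideal_mul, Pi.mul_apply, hI₁, hI₂,
    Ideal.span_singleton_mul_span_singleton] at q2
  rw [hI₁] at q1
  rw [hI₂]
  algebraize [(f.appLE V.1 U.1 e).hom]
  have hA : (f.appLE V.1 U.1 e).hom = algebraMap Γ(S, V.1) Γ(X, U.1) := rfl
  rw [hA, flat_comp_mk_iff] at q1 q2 ⊢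
  exact flat_ker_of_exact (mulQ g₁ g₂) (facQ g₁ g₂) (mulQ_injective g₁ g₂ hg₁)
    (facQ_surjective g₁ g₂) (exact_mulQ_facQ g₁ g₂)

/-- The sum of two finite closed subschemes is finite over the base, if it is locally
quasi-finite and locally of finite type. -/
theorem isFinite_mul {X S : Scheme.{u}} (f : X ⟶ S) (I₁ I₂ : X.IdealSheafData)
    [IsFinite (I₁.subschemeι ≫ f)] [IsFinite (I₂.subschemeι ≫ f)]
    [LocallyOfFiniteType ((I₁ * I₂).subschemeι ≫ f)]
    [LocallyQuasiFinite ((I₁ * I₂).subschemeι ≫ f)] :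
    IsFinite ((I₁ * I₂).subschemeι ≫ f) := by
  have hs : ∀ x : (I₁ * I₂).subscheme,
      (∃ x' : I₁.subscheme, (Scheme.IdealSheafData.inclusion (mul_le_left' I₁ I₂)).base x' = x) ∨
      (∃ y : I₂.subscheme, (Scheme.IdealSheafData.inclusion (mul_le_right' I₁ I₂)).base y = x) := by
    intro x
    have hx : (I₁ * I₂).subschemeι x ∈ ((I₁ * I₂).support : Set X) := by
      rw [← (I₁ * I₂).range_subschemeι]; exact ⟨x, rfl⟩
    rw [Scheme.IdealSheafData.support_mul] at hx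
    rcases hx with hx | hx
    · left
      rw [SetLike.mem_coe, ← SetLike.mem_coe, ← I₁.range_subschemeι] at hx
      obtain ⟨x', hx'⟩ := hx
      refine ⟨x', (I₁ * I₂).subschemeι.isEmbedding.injective ?_⟩
      rw [← hx', ← Scheme.IdealSheafData.inclusion_subschemeι (mul_le_left' I₁ I₂)]
      rfl
    · right
      rw [SetLike.mem_coe, ← SetLike.mem_coe, ← I₂.range_subschemeι] at hx
      obtain ⟨x', hx'⟩ := hx
      refine ⟨x', (I₁ * I₂).subschemeι.isEmbedding.injective ?_⟩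
      rw [← hx', ← Scheme.IdealSheafData.inclusion_subschemeι (mul_le_right' I₁ I₂)]
      rfl
  have e1 : Scheme.IdealSheafData.inclusion (mul_le_left' I₁ I₂) ≫ ((I₁ * I₂).subschemeι ≫ f) =
      I₁.subschemeι ≫ f := by
    rw [← Category.assoc, Scheme.IdealSheafData.inclusion_subschemeι]
  have e2 : Scheme.IdealSheafData.inclusion (mul_le_right' I₁ I₂) ≫ ((I₁ * I₂).subschemeι ≫ f) =
      I₂.subschemeι ≫ f := by
    rw [← Category.assoc, Scheme.IdealSheafData.inclusion_subschemeι]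
  haveI : IsClosedImmersion (Scheme.IdealSheafData.inclusion (mul_le_left' I₁ I₂) ≫
      (I₁ * I₂).subschemeι) := by
    rw [Scheme.IdealSheafData.inclusion_subschemeι]; infer_instance
  haveI : IsClosedImmersion (Scheme.IdealSheafData.inclusion (mul_le_left' I₁ I₂)) :=
    IsClosedImmersion.of_comp_isClosedImmersion _ (I₁ * I₂).subschemeι
  haveI : IsClosedImmersion (Scheme.IdealSheafData.inclusion (mul_le_right' I₁ I₂) ≫
      (I₁ * I₂).subschemeι) := by
    rw [Scheme.IdealSheafData.inclusion_subschemeι]; infer_instance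
  haveI : IsClosedImmersion (Scheme.IdealSheafData.inclusion (mul_le_right' I₁ I₂)) :=
    IsClosedImmersion.of_comp_isClosedImmersion _ (I₁ * I₂).subschemeι
  haveI : IsProper (Scheme.IdealSheafData.inclusion (mul_le_left' I₁ I₂) ≫
      ((I₁ * I₂).subschemeι ≫ f)) := by rw [e1]; infer_instance
  haveI : IsProper (Scheme.IdealSheafData.inclusion (mul_le_right' I₁ I₂) ≫
      ((I₁ * I₂).subschemeι ≫ f)) := by rw [e2]; infer_instance
  haveI : IsProper ((I₁ * I₂).subschemeι ≫ f) :=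
    Groth.Agent.Lib.Helper12.JointProper.isProper_of_joint
      (Scheme.IdealSheafData.inclusion (mul_le_left' I₁ I₂))
      (Scheme.IdealSheafData.inclusion (mul_le_right' I₁ I₂)) _ hs
  exact IsFinite.of_isProper_of_locallyQuasiFinite _

open Groth.Agent.LibCurveCartier29 in
/-- Sum of two finite locally free closed subschemes of a smooth relative curve. -/
theorem isFinLocFreeOfDeg_mul {X S : Scheme.{u}} (f : X ⟶ S) [SmoothOfRelativeDimension 1 f]
    (I₁ I₂ : X.IdealSheafData) (d₁ d₂ : ℕ)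
    (h₁ : Mor2.IsFinLocFreeOfDeg d₁ (I₁.subschemeι ≫ f))
    (h₂ : Mor2.IsFinLocFreeOfDeg d₂ (I₂.subschemeι ≫ f)) :
    Mor2.IsFinLocFreeOfDeg (d₁ + d₂) ((I₁ * I₂).subschemeι ≫ f) := by
  obtain ⟨⟨hf1, hfl1, hfp1⟩, hd1⟩ := h₁
  obtain ⟨⟨hf2, hfl2, hfp2⟩, hd2⟩ := h₂
  haveI := hf1
  haveI := hfl1
  haveI := hfp1
  haveI := hf2
  haveI := hfl2
  haveI := hfp2
  haveI : Smooth f := SmoothOfRelativeDimension.smooth 1 f
  haveI : LocallyQuasiFinite (I₁.subschemeι ≫ f) := inferInstance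
  haveI : LocallyQuasiFinite (I₂.subschemeι ≫ f) := inferInstance
  have hc1 := isEffCartier_of_lqf_flat f I₁
  have hc2 := isEffCartier_of_lqf_flat f I₂
  have hc : BlowUp.IsEffCartierIdeal (I₁ * I₂) :=
    Groth.Agent.Lib.helper16.EffCartier.isEffCartier_mul hc1 hc2
  haveI := flat_mul f I₁ I₂ hc1 hc2
  haveI := lofp_comp_of_isEffCartier f (I₁ * I₂) hc
  haveI := lqf_of_isEffCartier_flat f (I₁ * I₂) hc
  haveI := isFinite_mul f I₁ I₂
  refine ⟨⟨inferInstance, inferInstance, inferInstance⟩, fun y => ?_⟩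
  rw [finrank_mul_eq_add_rel f I₁ I₂ hc1 hc2 y, hd1, hd2]

open Groth.Agent.LibCurveCartier29 in
/-- Difference of two finite locally free closed subschemes `D₁ ⊆ D₂` of a smooth relative
curve. -/
theorem isFinLocFreeOfDeg_sub {X S : Scheme.{u}} (f : X ⟶ S) [SmoothOfRelativeDimension 1 f]
    (I₁ I₂ : X.IdealSheafData) (hle : I₂ ≤ I₁) (d₁ d₂ : ℕ)
    (h₁ : Mor2.IsFinLocFreeOfDeg d₁ (I₁.subschemeι ≫ f))
    (h₂ : Mor2.IsFinLocFreeOfDeg d₂ (I₂.subschemeι ≫ f)) :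
    ∃ I : X.IdealSheafData, Mor2.IsFinLocFreeOfDeg (d₂ - d₁) (I.subschemeι ≫ f) ∧
      I₂ = I₁ * I := by
  obtain ⟨⟨hf1, hfl1, hfp1⟩, hd1⟩ := h₁
  obtain ⟨⟨hf2, hfl2, hfp2⟩, hd2⟩ := h₂
  haveI := hf1
  haveI := hfl1
  haveI := hfp1
  haveI := hf2
  haveI := hfl2
  haveI := hfp2
  haveI : Smooth f := SmoothOfRelativeDimension.smooth 1 f
  haveI : LocallyQuasiFinite (I₁.subschemeι ≫ f) := inferInstance
  haveI : LocallyQuasiFinite (I₂.subschemeι ≫ f) := inferInstance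
  have hc1 := isEffCartier_of_lqf_flat f I₁
  have hc2 := isEffCartier_of_lqf_flat f I₂
  obtain ⟨C, hC, hC2⟩ := Groth.Agent.Lib.helper16.EffDiv.exists_eq_mul hc2 hc1 hle
  rw [mul_comm] at hC2
  subst hC2
  haveI := flat_of_flat_mul f I₁ C hc1 hC
  haveI := lofp_comp_of_isEffCartier f C hC
  haveI : IsFinite (C.subschemeι ≫ f) := by
    have e : C.subschemeι ≫ f = Scheme.IdealSheafData.inclusion (mul_le_right' I₁ C) ≫
        ((I₁ * C).subschemeι ≫ f) := by
      rw [← Category.assoc, Scheme.IdealSheafData.inclusion_subschemeι]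
    haveI : IsClosedImmersion (Scheme.IdealSheafData.inclusion (mul_le_right' I₁ C) ≫
        (I₁ * C).subschemeι) := by
      rw [Scheme.IdealSheafData.inclusion_subschemeι]; infer_instance
    haveI : IsClosedImmersion (Scheme.IdealSheafData.inclusion (mul_le_right' I₁ C)) :=
      IsClosedImmersion.of_comp_isClosedImmersion _ (I₁ * C).subschemeι
    rw [e]
    infer_instance
  refine ⟨C, ⟨⟨inferInstance, inferInstance, inferInstance⟩, fun y => ?_⟩, rfl⟩
  have h := finrank_mul_eq_add_rel f I₁ C hc1 hC y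
  rw [hd1, hd2] at h
  omega

end Groth.Agent.LibCurveDivSum29
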