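import Mathlib
import Groth.Agent.LibCurveDivSum29

/-!
# The monoid of relative divisors on a smooth relative curve (helper29)

`f : X ⟶ S` smooth of relative dimension one.  A relative divisor of degree `d` is an ideal sheaf
`I` with `V(I) ⟶ S` finite locally free of degree `d` (`Mor2.IsFinLocFreeOfDeg`).

* `isEffCartier_of_div`, `div_mul`, `div_sub`, `mul_left_cancel_of_div`, `eq_top_of_div_zero`,
  `eq_of_le_of_div`.
-/

set_option autoImplicit false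
universe u

open CategoryTheory CategoryTheory.Limits AlgebraicGeometry Opposite TopologicalSpace

namespace Groth.Agent.LibCurveDivAlg29

variable {X S : Scheme.{u}} (f : X ⟶ S) [SmoothOfRelativeDimension 1 f]

theorem isEffCartier_of_div {d : ℕ} {I : X.IdealSheafData}
    (h : Mor2.IsFinLocFreeOfDeg d (I.subschemeι ≫ f)) : BlowUp.IsEffCartierIdeal I := by
  obtain ⟨⟨hf1, hfl1, hfp1⟩, -⟩ := h
  haveI := hf1
  haveI := hfl1
  haveI := hfp1
  haveI : LocallyQuasiFinite (I.subschemeι ≫ f) := inferInstance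
  exact Groth.Agent.LibCurveCartier29.isEffCartier_of_lqf_flat f I

theorem div_mul {d₁ d₂ : ℕ} {I₁ I₂ : X.IdealSheafData}
    (h₁ : Mor2.IsFinLocFreeOfDeg d₁ (I₁.subschemeι ≫ f))
    (h₂ : Mor2.IsFinLocFreeOfDeg d₂ (I₂.subschemeι ≫ f)) :
    Mor2.IsFinLocFreeOfDeg (d₁ + d₂) ((I₁ * I₂).subschemeι ≫ f) :=
  Groth.Agent.LibCurveDivSum29.isFinLocFreeOfDeg_mul f I₁ I₂ d₁ d₂ h₁ h₂

theorem div_sub {d₁ d₂ : ℕ} {I₁ I₂ : X.IdealSheafData} (hle : I₂ ≤ I₁)
    (h₁ : Mor2.IsFinLocFreeOfDeg d₁ (I₁.subschemeι ≫ f))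
    (h₂ : Mor2.IsFinLocFreeOfDeg d₂ (I₂.subschemeι ≫ f)) :
    ∃ I : X.IdealSheafData, Mor2.IsFinLocFreeOfDeg (d₂ - d₁) (I.subschemeι ≫ f) ∧ I₂ = I₁ * I :=
  Groth.Agent.LibCurveDivSum29.isFinLocFreeOfDeg_sub f I₁ I₂ hle d₁ d₂ h₁ h₂

theorem mul_left_cancel_of_div {d : ℕ} {I₀ A B : X.IdealSheafData}
    (h : Mor2.IsFinLocFreeOfDeg d (I₀.subschemeι ≫ f)) (hAB : I₀ * A = I₀ * B) : A = B := by
  have hc := isEffCartier_of_div f h
  apply le_antisymm
  · apply Groth.Agent.Lib.helper16.EffDiv.le_of_mul_le_mul hc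
    rw [mul_comm A, mul_comm B, hAB]
  · apply Groth.Agent.Lib.helper16.EffDiv.le_of_mul_le_mul hc
    rw [mul_comm A, mul_comm B, hAB]

omit [SmoothOfRelativeDimension 1 f] in
theorem eq_top_of_div_zero {I : X.IdealSheafData}
    (h : Mor2.IsFinLocFreeOfDeg 0 (I.subschemeι ≫ f)) : I = ⊤ := by
  obtain ⟨⟨hf1, hfl1, hfp1⟩, hd⟩ := h
  haveI := hf1
  haveI := hfl1
  haveI : IsEmpty I.subscheme := by
    refine ⟨fun z => ?_⟩
    have := Scheme.Hom.one_le_finrank_map (I.subschemeι ≫ f) z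
    rw [hd] at this
    exact absurd this (by norm_num)
  rw [← I.ker_subschemeι]
  exact (I.subschemeι.ker_eq_top_iff_isEmpty).mpr inferInstance

theorem eq_of_le_of_div {d : ℕ} {I I' : X.IdealSheafData} (hle : I ≤ I')
    (h : Mor2.IsFinLocFreeOfDeg d (I.subschemeι ≫ f))
    (h' : Mor2.IsFinLocFreeOfDeg d (I'.subschemeι ≫ f)) : I = I' := by
  obtain ⟨C, hC, rfl⟩ := div_sub f hle h' h
  rw [Nat.sub_self] at hC
  rw [eq_top_of_div_zero f hC, Scheme.IdealSheafData.mul_top]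

end Groth.Agent.LibCurveDivAlg29
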