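import Groth.Prelude.Def_W4bk5brsh16IT
import Mathlib.CategoryTheory.Limits.ConcreteCategory.Basic
import Mathlib.CategoryTheory.Limits.FunctorCategory.Basic
import Mathlib.Algebra.Category.ModuleCat.FilteredColimits
import Mathlib.CategoryTheory.Limits.Preserves.Filtered

/-! helper29's library: elementwise API for the ideal transform `LocCoh.DT I M`. -/

universe u
open CategoryTheory CategoryTheory.Limits Opposite
namespace Groth.Agent.LibDT29
variable {R : Type u} [CommRing R] (I : Ideal R)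

/-- the evaluated diagram -/
noncomputable abbrev G (X : ModuleCat.{u} R) : ℕᵒᵖᵒᵖ ⥤ ModuleCat.{u} R :=
  LocCoh.transformDiagram I ⋙ (evaluation _ _).obj X

instance : PreservesFilteredColimitsOfSize.{0, 0} (forget (ModuleCat.{u} R)) :=
  preservesSmallestFilteredColimits_of_preservesFilteredColimits.{u, u} _

/-- class of `f : I^n → X` in `D_I(X)` -/
noncomputable def rep (X : ModuleCat.{u} R) (n : ℕ) (f : ↥(I ^ n) →ₗ[R] X) :
    (LocCoh.idealTransform I).obj X :=
  ((colimit.ι (LocCoh.transformDiagram I) (op (op n))).app X).hom (ModuleCat.ofHom f)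

theorem rep_surj (X : ModuleCat.{u} R) (x : (LocCoh.idealTransform I).obj X) :
    ∃ (n : ℕ) (f : ↥(I ^ n) →ₗ[R] X), rep I X n f = x := by
  let iso := colimitObjIsoColimitCompEvaluation (LocCoh.transformDiagram I) X
  obtain ⟨j, y, hy⟩ := Concrete.colimit_exists_rep (G I X) (iso.hom.hom x)
  refine ⟨j.unop.unop, ModuleCat.Hom.hom (show ModuleCat.of R ↥(I ^ j.unop.unop) ⟶ X from y), ?_⟩
  have h1 : ((colimit.ι (LocCoh.transformDiagram I) j).app X).hom y = x := by
    have h2 := colimitObjIsoColimitCompEvaluation_ι_inv (LocCoh.transformDiagram I) j X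
    have h3 : (colimit.ι (G I X) j ≫ iso.inv).hom y = x := by
      rw [ModuleCat.hom_comp, LinearMap.comp_apply]
      erw [hy]
      change (iso.hom ≫ iso.inv).hom x = x
      rw [Iso.hom_inv_id]; rfl
    rw [h2] at h3
    exact h3
  exact h1


theorem G_map_apply (X : ModuleCat.{u} R) {n k : ℕ} (h : n ≤ k) (f : ↥(I ^ n) →ₗ[R] X) :
    ((G I X).map (homOfLE h).op.op).hom (ModuleCat.ofHom f) =
      ModuleCat.ofHom (f ∘ₗ Submodule.inclusion (Ideal.pow_le_pow_right h)) := by
  rfl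

theorem rep_eq_colimit (X : ModuleCat.{u} R) (n : ℕ) (f : ↥(I ^ n) →ₗ[R] X) :
    rep I X n f = (colimitObjIsoColimitCompEvaluation (LocCoh.transformDiagram I) X).inv.hom
      ((colimit.ι (G I X) (op (op n))).hom (ModuleCat.ofHom f)) := by
  have h2 := colimitObjIsoColimitCompEvaluation_ι_inv (LocCoh.transformDiagram I) (op (op n)) X
  unfold rep
  rw [← h2]
  rfl


theorem rep_restrict (X : ModuleCat.{u} R) {n k : ℕ} (h : n ≤ k) (f : ↥(I ^ n) →ₗ[R] X) :
    rep I X n f = rep I X k (f ∘ₗ Submodule.inclusion (Ideal.pow_le_pow_right h)) := by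
  rw [rep_eq_colimit, rep_eq_colimit]
  congr 1
  have w := colimit.w (G I X) (homOfLE h).op.op
  have h1 : (colimit.ι (G I X) (op (op n))).hom (ModuleCat.ofHom f) =
      (colimit.ι (G I X) (op (op k))).hom
        (((G I X).map (homOfLE h).op.op).hom (ModuleCat.ofHom f)) := by
    rw [← w]; rfl
  exact h1.trans (congrArg _ (G_map_apply I X h f))

theorem rep_eq_iff (X : ModuleCat.{u} R) (n m : ℕ) (f : ↥(I ^ n) →ₗ[R] X) (g : ↥(I ^ m) →ₗ[R] X) :
    rep I X n f = rep I X m g ↔ ∃ (k : ℕ) (hn : n ≤ k) (hm : m ≤ k),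
      f ∘ₗ Submodule.inclusion (Ideal.pow_le_pow_right hn) =
        g ∘ₗ Submodule.inclusion (Ideal.pow_le_pow_right hm) := by
  constructor
  · intro h
    rw [rep_eq_colimit, rep_eq_colimit] at h
    have hinj : Function.Injective
        (colimitObjIsoColimitCompEvaluation (LocCoh.transformDiagram I) X).inv.hom :=
      (ConcreteCategory.bijective_of_isIso
        (colimitObjIsoColimitCompEvaluation (LocCoh.transformDiagram I) X).inv).1
    have h' := hinj h
    obtain ⟨k', a, b, hab⟩ := Concrete.colimit_exists_of_rep_eq (G I X) _ _ h'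
    have hn : n ≤ k'.unop.unop := a.unop.unop.le
    have hm : m ≤ k'.unop.unop := b.unop.unop.le
    refine ⟨k'.unop.unop, hn, hm, ?_⟩
    have ha : a = (homOfLE hn).op.op := Subsingleton.elim _ _
    have hb : b = (homOfLE hm).op.op := Subsingleton.elim _ _
    rw [ha, hb] at hab
    erw [G_map_apply I X hn f, G_map_apply I X hm g] at hab
    exact ModuleCat.hom_ext_iff.mp hab
  · rintro ⟨k, hn, hm, h⟩
    rw [rep_restrict I X hn f, rep_restrict I X hm g, h]


theorem rep_add (X : ModuleCat.{u} R) (n : ℕ) (f g : ↥(I ^ n) →ₗ[R] X) :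
    rep I X n (f + g) = rep I X n f + rep I X n g := by
  unfold rep
  exact map_add ((colimit.ι (LocCoh.transformDiagram I) (op (op n))).app X).hom
    (ModuleCat.ofHom f) (ModuleCat.ofHom g)

theorem rep_smul (X : ModuleCat.{u} R) (n : ℕ) (r : R) (f : ↥(I ^ n) →ₗ[R] X) :
    rep I X n (r • f) = r • rep I X n f := by
  unfold rep
  exact map_smul ((colimit.ι (LocCoh.transformDiagram I) (op (op n))).app X).hom
    r (ModuleCat.ofHom f)

theorem rep_zero (X : ModuleCat.{u} R) (n : ℕ) : rep I X n 0 = 0 := by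
  unfold rep
  exact map_zero _

theorem rep_eq_zero_iff (X : ModuleCat.{u} R) (n : ℕ) (f : ↥(I ^ n) →ₗ[R] X) :
    rep I X n f = 0 ↔ ∃ (k : ℕ) (hn : n ≤ k),
      f ∘ₗ Submodule.inclusion (Ideal.pow_le_pow_right hn) = 0 := by
  rw [← rep_zero I X n, rep_eq_iff]
  constructor
  · rintro ⟨k, hn, hm, h⟩
    exact ⟨k, hn, by rw [h]; simp⟩
  · rintro ⟨k, hn, h⟩
    exact ⟨k, hn, hn, by rw [h]; simp⟩

theorem map_rep {X Y : ModuleCat.{u} R} (φ : X ⟶ Y) (n : ℕ) (f : ↥(I ^ n) →ₗ[R] X) :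
    ((LocCoh.idealTransform I).map φ).hom (rep I X n f) = rep I Y n (φ.hom ∘ₗ f) := by
  unfold rep
  have := (colimit.ι (LocCoh.transformDiagram I) (op (op n))).naturality φ
  have h2 := congrArg (fun t => t.hom (ModuleCat.ofHom f)) this
  simp only [ModuleCat.hom_comp, LinearMap.comp_apply] at h2
  exact h2.symm

theorem toDT_eq_rep (M : Type u) [AddCommGroup M] [Module R M] (m : M) :
    LocCoh.toDT I M m = rep I (ModuleCat.of R M) 0
      ((LinearMap.lsmul R M).flip m ∘ₗ (Submodule.subtype (I ^ 0))) := by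
  rfl


section Alg
variable {N : Type u} [AddCommGroup N] [Module R N]

theorem kill (n t : ℕ) (f : ↥(I ^ n) →ₗ[R] N)
    (h : ∀ a ∈ I ^ t, ∀ y : ↥(I ^ n), a • f y = 0) :
    f ∘ₗ Submodule.inclusion (Ideal.pow_le_pow_right (Nat.le_add_left n t) : I ^ (t + n) ≤ I ^ n) = 0 := by
  ext ⟨z, hz⟩
  simp only [LinearMap.comp_apply, LinearMap.zero_apply]
  have hz' : z ∈ I ^ t * I ^ n := by rwa [← pow_add]
  have hle : I ^ t * I ^ n ≤ I ^ n := Ideal.mul_le_right
  suffices H : ∀ (w : R) (hw : w ∈ I ^ t * I ^ n), f ⟨w, hle hw⟩ = 0 from H z hz'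
  intro w hw
  induction hw using Submodule.mul_induction_on' with
  | mem_mul_mem a ha y hy =>
    have : (⟨a * y, hle (Submodule.mul_mem_mul ha hy)⟩ : ↥(I ^ n)) = a • ⟨y, hy⟩ := rfl
    rw [this, map_smul]
    exact h a ha ⟨y, hy⟩
  | add x hx y hy ihx ihy =>
    have : (⟨x + y, hle (add_mem hx hy)⟩ : ↥(I ^ n)) = ⟨x, hle hx⟩ + ⟨y, hle hy⟩ := rfl
    rw [this, map_add, ihx, ihy, add_zero]

theorem exists_kill [IsNoetherianRing R] (n : ℕ) (f : ↥(I ^ n) →ₗ[R] N)
    (h : ∀ y : ↥(I ^ n), ∃ t, ∀ a ∈ I ^ t, a • f y = 0) :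
    ∃ t, ∀ a ∈ I ^ t, ∀ y : ↥(I ^ n), a • f y = 0 := by
  obtain ⟨S, hS⟩ := (Module.Finite.fg_top : (⊤ : Submodule R ↥(I ^ n)).FG)
  choose τ hτ using h
  refine ⟨S.sup τ, fun a ha y => ?_⟩
  have hy : y ∈ Submodule.span R (S : Set ↥(I ^ n)) := by rw [hS]; trivial
  induction hy using Submodule.span_induction with
  | mem x hx =>
    exact hτ x a (Ideal.pow_le_pow_right (Finset.le_sup hx) ha)
  | zero => simp
  | add x y _ _ ihx ihy => rw [map_add, smul_add, ihx, ihy, add_zero]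
  | smul r x _ ihx => rw [map_smul, smul_comm, ihx, smul_zero]

end Alg

end Groth.Agent.LibDT29
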