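import Groth.Agent.LibDT29
import Mathlib.RingTheory.Filtration

/-! helper29's library, part b: algebra for `D_I(e)` bijective when `ker e`, `coker e` are torsion. -/

universe u
open CategoryTheory CategoryTheory.Limits Opposite
namespace Groth.Agent.LibDT29
variable {R : Type u} [CommRing R] (I : Ideal R)

section Alg2

theorem uniform_kill {Q : Type u} [AddCommGroup Q] [Module R Q] (K : Submodule R Q) (hK : K.FG)
    (htors : ∀ q ∈ K, ∃ t, ∀ a ∈ I ^ t, a • q = 0) :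
    ∃ s, ∀ a ∈ I ^ s, ∀ q ∈ K, a • q = 0 := by
  obtain ⟨T, hT⟩ := hK
  have h' : ∀ q : Q, ∃ t, q ∈ K → ∀ a ∈ I ^ t, a • q = 0 := by
    intro q
    by_cases hq : q ∈ K
    · obtain ⟨t, ht⟩ := htors q hq
      exact ⟨t, fun _ => ht⟩
    · exact ⟨0, fun h => absurd h hq⟩
  choose τ hτ using h'
  refine ⟨T.sup τ, fun a ha q hq => ?_⟩
  rw [← hT] at hq
  induction hq using Submodule.span_induction with
  | mem x hx =>
    have hxK : x ∈ K := by rw [← hT]; exact Submodule.subset_span hx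
    exact hτ x hxK a (Ideal.pow_le_pow_right (Finset.le_sup hx) ha)
  | zero => simp
  | add x y _ _ ihx ihy => rw [smul_add, ihx, ihy, add_zero]
  | smul r x _ ihx => rw [smul_comm, ihx, smul_zero]

theorem lemA [IsNoetherianRing R] {Q A : Type u} [AddCommGroup Q] [Module R Q] [Module.Finite R Q]
    [AddCommGroup A] [Module R A] (p : Q →ₗ[R] A)
    (htors : ∀ q ∈ LinearMap.ker p, ∃ t, ∀ a ∈ I ^ t, a • q = 0) :
    ∃ t, (I ^ t • ⊤ : Submodule R Q) ⊓ LinearMap.ker p = ⊥ := by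
  have hKfg : (LinearMap.ker p).FG := IsNoetherian.noetherian _
  obtain ⟨s, hs⟩ := uniform_kill I (LinearMap.ker p) hKfg htors
  obtain ⟨c, hc⟩ := Ideal.exists_pow_inf_eq_pow_smul I (LinearMap.ker p)
  refine ⟨c + s, ?_⟩
  rw [hc (c + s) (Nat.le_add_right c s), Nat.add_sub_cancel_left, eq_bot_iff]
  have h1 : I ^ s • (I ^ c • ⊤ ⊓ LinearMap.ker p) ≤ I ^ s • LinearMap.ker p :=
    Submodule.smul_mono le_rfl inf_le_right
  refine h1.trans ?_
  rw [Submodule.smul_le]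
  intro a ha q hq
  rw [hs a ha q hq]
  exact Submodule.zero_mem _


theorem mem_smul_top_of_mem_mul (J : Ideal R) (t : ℕ) (z : R) (hz : z ∈ I ^ t * J) :
    (⟨z, Ideal.mul_le_right hz⟩ : ↥J) ∈ (I ^ t • ⊤ : Submodule R ↥J) := by
  have h1 : (I ^ t • ⊤ : Submodule R ↥J).map J.subtype = I ^ t * J := by
    rw [Submodule.map_smul'', Submodule.map_top, Submodule.range_subtype]
    rfl
  rw [← h1] at hz
  obtain ⟨y, hy, hyz⟩ := hz
  have : y = ⟨z, hyz ▸ y.2⟩ := Subtype.ext hyz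
  rw [this] at hy
  exact hy

theorem lemB [IsNoetherianRing R] {M M' : Type u} [AddCommGroup M] [Module R M]
    [AddCommGroup M'] [Module R M'] (e : M →ₗ[R] M')
    (hker : ∀ m ∈ LinearMap.ker e, ∃ t, ∀ a ∈ I ^ t, a • m = 0)
    (J : Ideal R) (g₁ : ↥J →ₗ[R] M') (hrange : ∀ y, g₁ y ∈ LinearMap.range e) :
    ∃ (t : ℕ) (f : ↥(I ^ t * J) →ₗ[R] M),
      ∀ z : ↥(I ^ t * J), e (f z) = g₁ ⟨z.1, Ideal.mul_le_right z.2⟩ := by
  obtain ⟨S, hS⟩ := (Module.Finite.fg_top : (⊤ : Submodule R ↥J).FG)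
  choose μ hμ using hrange
  let Q' : Submodule R (↥J × M) := Submodule.span R ((fun y => (y, μ y)) '' (S : Set ↥J))
  have : Module.Finite R Q' := Module.Finite.span_of_finite R ((S.finite_toSet).image _)
  have hQ' : ∀ q ∈ Q', g₁ q.1 = e q.2 := by
    intro q hq
    induction hq using Submodule.span_induction with
    | mem x hx =>
      obtain ⟨y, -, rfl⟩ := hx
      exact (hμ y).symm
    | zero => simp
    | add x y _ _ ihx ihy => simp [ihx, ihy]
    | smul r x _ ihx => simp [ihx]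
  let p : Q' →ₗ[R] ↥J := LinearMap.fst R _ _ ∘ₗ Q'.subtype
  have hp_surj : LinearMap.range p = ⊤ := by
    rw [eq_top_iff, ← hS, Submodule.span_le]
    intro y hy
    exact ⟨⟨(y, μ y), Submodule.subset_span ⟨y, hy, rfl⟩⟩, rfl⟩
  have htors : ∀ q ∈ LinearMap.ker p, ∃ t, ∀ a ∈ I ^ t, a • q = 0 := by
    rintro ⟨⟨y, m⟩, hq⟩ hq0
    have hy : y = 0 := hq0
    subst hy
    have hm : m ∈ LinearMap.ker e := by
      have := hQ' _ hq
      simpa using this.symm
    obtain ⟨t, ht⟩ := hker m hm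
    refine ⟨t, fun a ha => ?_⟩
    apply Subtype.ext
    simp [ht a ha]
  obtain ⟨t, ht⟩ := lemA I p htors
  let P : Submodule R Q' := I ^ t • ⊤
  let pP : P →ₗ[R] ↥J := p ∘ₗ P.subtype
  have hinj : Function.Injective pP := by
    intro q q' hqq
    have h0 : p ((q : Q') - (q' : Q')) = 0 := by
      rw [map_sub]
      exact sub_eq_zero.mpr hqq
    have h1 : ((q : Q') - (q' : Q')) ∈ (I ^ t • ⊤ : Submodule R Q') ⊓ LinearMap.ker p :=
      ⟨Submodule.sub_mem _ q.2 q'.2, h0⟩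
    rw [ht] at h1
    exact Subtype.ext (sub_eq_zero.mp h1)
  have hrange : LinearMap.range pP = (I ^ t • ⊤ : Submodule R ↥J) := by
    rw [LinearMap.range_comp, Submodule.range_subtype, Submodule.map_smul'', Submodule.map_top, hp_surj]
  let ι₁ : ↥(I ^ t * J) →ₗ[R] LinearMap.range pP :=
    LinearMap.codRestrict (LinearMap.range pP) (Submodule.inclusion (Ideal.mul_le_right : I ^ t * J ≤ J))
      (fun z => by rw [hrange]; exact mem_smul_top_of_mem_mul I J t z.1 z.2)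
  let eqv := LinearEquiv.ofInjective pP hinj
  refine ⟨t, LinearMap.snd R _ _ ∘ₗ Q'.subtype ∘ₗ P.subtype ∘ₗ eqv.symm.toLinearMap ∘ₗ ι₁, fun z => ?_⟩
  simp only [LinearMap.comp_apply]
  set q := eqv.symm (ι₁ z) with hq
  have h1 : pP q = (ι₁ z : ↥J) := by
    have := eqv.apply_symm_apply (ι₁ z)
    exact congrArg Subtype.val this
  have h2 := hQ' (q : Q').1 (q : Q').2
  have h3 : ((q : Q') : ↥J × M).1 = ⟨z.1, Ideal.mul_le_right z.2⟩ := h1
  rw [← h3]
  exact h2.symm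

end Alg2


section Bij
variable [IsNoetherianRing R] {M M' : Type u} [AddCommGroup M] [Module R M]
  [AddCommGroup M'] [Module R M']

theorem inj_core (e : M →ₗ[R] M') (hker : LinearMap.ker e ≤ DRing.torsionSub I M)
    (n k : ℕ) (hnk : n ≤ k) (f : ↥(I ^ n) →ₗ[R] M)
    (h : (e ∘ₗ f) ∘ₗ Submodule.inclusion (Ideal.pow_le_pow_right hnk) = 0) :
    ∃ (k' : ℕ) (hk' : n ≤ k'), f ∘ₗ Submodule.inclusion (Ideal.pow_le_pow_right hk') = 0 := by
  let f' : ↥(I ^ k) →ₗ[R] M := f ∘ₗ Submodule.inclusion (Ideal.pow_le_pow_right hnk)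
  have htors : ∀ y : ↥(I ^ k), ∃ t, ∀ a ∈ I ^ t, a • f' y = 0 := fun y =>
    hker (show f' y ∈ LinearMap.ker e from LinearMap.congr_fun h y)
  obtain ⟨t, ht⟩ := exists_kill I k f' htors
  refine ⟨t + k, le_trans hnk (Nat.le_add_left k t), ?_⟩
  have h2 := kill I k t f' ht
  ext z
  exact LinearMap.congr_fun h2 z

theorem surj_core (e : M →ₗ[R] M') (hker : LinearMap.ker e ≤ DRing.torsionSub I M)
    (hcoker : LocCoh.IsPowerTorsion I (M' ⧸ LinearMap.range e))
    (n : ℕ) (g : ↥(I ^ n) →ₗ[R] M') :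
    ∃ (m : ℕ) (hm : n ≤ m) (f : ↥(I ^ m) →ₗ[R] M),
      e ∘ₗ f = g ∘ₗ Submodule.inclusion (Ideal.pow_le_pow_right hm) := by
  -- step 1
  let π := (LinearMap.range e).mkQ
  obtain ⟨t₁, ht₁⟩ := exists_kill I n (π ∘ₗ g) (fun y => hcoker (π (g y)))
  have hk1 := kill I n t₁ (π ∘ₗ g) ht₁
  let g₁ : ↥(I ^ (t₁ + n)) →ₗ[R] M' :=
    g ∘ₗ Submodule.inclusion (Ideal.pow_le_pow_right (Nat.le_add_left n t₁))
  have hrange : ∀ y, g₁ y ∈ LinearMap.range e := by
    intro y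
    have := LinearMap.congr_fun hk1 y
    exact (Submodule.Quotient.mk_eq_zero _).mp this
  obtain ⟨t, f, hf⟩ := lemB I e (fun m hm => hker hm) (I ^ (t₁ + n)) g₁ hrange
  have hle : I ^ (t + (t₁ + n)) ≤ I ^ t * I ^ (t₁ + n) := le_of_eq (pow_add I t (t₁ + n))
  refine ⟨t + (t₁ + n), by omega, f ∘ₗ Submodule.inclusion hle, ?_⟩
  ext z
  simp only [LinearMap.comp_apply]
  rw [hf]
  rfl

theorem DT_map_bijective (e : M →ₗ[R] M') (hker : LinearMap.ker e ≤ DRing.torsionSub I M)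
    (hcoker : LocCoh.IsPowerTorsion I (M' ⧸ LinearMap.range e)) :
    Function.Bijective ((LocCoh.idealTransform I).map (ModuleCat.ofHom e)).hom := by
  constructor
  · rw [injective_iff_map_eq_zero]
    intro x hx
    obtain ⟨n, f, rfl⟩ := rep_surj I (ModuleCat.of R M) x
    rw [map_rep, rep_eq_zero_iff] at hx
    obtain ⟨k, hnk, h⟩ := hx
    obtain ⟨k', hk', h'⟩ := inj_core I e hker n k hnk f h
    rw [rep_eq_zero_iff]
    exact ⟨k', hk', h'⟩
  · intro y
    obtain ⟨n, g, rfl⟩ := rep_surj I (ModuleCat.of R M') y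
    obtain ⟨m, hm, f, hf⟩ := surj_core I e hker hcoker n g
    refine ⟨rep I (ModuleCat.of R M) m f, ?_⟩
    rw [map_rep, rep_restrict I (ModuleCat.of R M') hm g]
    congr 1

end Bij

end Groth.Agent.LibDT29
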