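import Mathlib.RingTheory.Kaehler.Basic
import Mathlib.RingTheory.Smooth.Basic
import Mathlib.RingTheory.Smooth.Fiber
import Mathlib.RingTheory.Flat.Basic
import Mathlib.RingTheory.FiniteType
import Mathlib.RingTheory.Ideal.Quotient.Operations
import Mathlib.Algebra.Polynomial.Basic
import Mathlib.LinearAlgebra.TensorProduct.Tower
import Mathlib.Algebra.Module.Projective
import Mathlib.RingTheory.TensorProduct.Quotient
import Mathlib.Algebra.TrivSqZeroExt.Basic

/-!
# Flat deformations over truncated polynomial rings: Kähler differentials (helper29)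
-/

set_option autoImplicit false
universe u
open Polynomial TensorProduct

namespace Groth.Agent.LibDef29

section general

/-- flat + finitely presented + smooth modulo a nilpotent ideal implies smooth -/
theorem smooth_of_flat_of_quotient {R S : Type u} [CommRing R] [CommRing S] [Algebra R S]
    [Module.Flat R S] [Algebra.FinitePresentation R S] (N : Ideal R) (hN : IsNilpotent N)
    [Algebra.FormallySmooth (R ⧸ N) (S ⧸ N.map (algebraMap R S))] : Algebra.Smooth R S := by
  apply Algebra.Smooth.of_formallySmooth_fiber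
  intro I hI
  have hNI : N ≤ I := by
    obtain ⟨m, hm⟩ := hN
    intro x hx
    have h1 : x ^ m ∈ N ^ m := Ideal.pow_mem_pow hx m
    rw [hm] at h1
    have h2 : x ^ m ∈ I := by
      rw [Ideal.mem_bot.1 h1]; exact I.zero_mem
    exact hI.mem_of_pow_mem m h2
  have hker : ∀ x ∈ N, algebraMap R I.ResidueField x = 0 := by
    intro x hx
    rw [Ideal.algebraMap_residueField_eq_zero]
    exact hNI hx
  let _ : Algebra (R ⧸ N) I.ResidueField :=
    (Ideal.Quotient.lift N (algebraMap R I.ResidueField) hker).toAlgebra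
  have : IsScalarTower R (R ⧸ N) I.ResidueField :=
    IsScalarTower.of_algebraMap_eq (fun x => rfl)
  have h1 : Algebra.FormallySmooth (R ⧸ N) ((R ⧸ N) ⊗[R] S) :=
    .of_equiv (Algebra.TensorProduct.quotIdealMapEquivQuotTensor S N)
  have h2 : Algebra.FormallySmooth I.ResidueField
      (I.ResidueField ⊗[R ⧸ N] ((R ⧸ N) ⊗[R] S)) := inferInstance
  exact .of_equiv (Algebra.TensorProduct.cancelBaseChange R (R ⧸ N) I.ResidueField
    I.ResidueField S)

end general

section trunc

variable {k : Type u} [Field k] {n : ℕ} {D : Type u} [CommRing D] [Algebra k D] {τ : D}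
  (e : (k[X] ⧸ Ideal.span {(X : k[X]) ^ (n + 1)}) ≃ₐ[k] D)
  (he : e (Ideal.Quotient.mk (Ideal.span {(X : k[X]) ^ (n + 1)}) X) = τ)

include he in
theorem tau_pow : τ ^ (n + 1) = 0 := by
  rw [← he, ← map_pow, ← map_pow]
  have h : Ideal.Quotient.mk (Ideal.span {(X : k[X]) ^ (n + 1)}) (X ^ (n + 1)) = 0 :=
    Ideal.Quotient.eq_zero_iff_mem.2 (Ideal.mem_span_singleton_self _)
  rw [h, map_zero]

include he in
theorem comp_mk_eq_aeval :
    (e.toAlgHom.comp (Ideal.Quotient.mkₐ k (Ideal.span {(X : k[X]) ^ (n + 1)}))) =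
      Polynomial.aeval τ := by
  apply Polynomial.algHom_ext
  rw [Polynomial.aeval_X]
  exact he

include he in
theorem exists_aeval (x : D) : ∃ p : k[X], Polynomial.aeval τ p = x := by
  obtain ⟨y, rfl⟩ := e.surjective x
  obtain ⟨p, rfl⟩ := Ideal.Quotient.mk_surjective y
  exact ⟨p, by rw [← comp_mk_eq_aeval e he]; rfl⟩

include he in
theorem exists_algHom {C : Type u} [CommRing C] [Algebra k C] (c : C) (hc : c ^ (n + 1) = 0) :
    ∃ φ : D →ₐ[k] C, φ τ = c := by
  have hker : ∀ a ∈ Ideal.span {(X : k[X]) ^ (n + 1)}, Polynomial.aeval c a = 0 := by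
    intro a ha
    obtain ⟨q, rfl⟩ := Ideal.mem_span_singleton.1 ha
    rw [map_mul, map_pow, Polynomial.aeval_X, hc, zero_mul]
  refine ⟨(Ideal.Quotient.liftₐ _ (Polynomial.aeval c) hker).comp e.symm.toAlgHom, ?_⟩
  rw [← he]
  change Ideal.Quotient.liftₐ _ (Polynomial.aeval c) hker (e.symm (e _)) = c
  rw [AlgEquiv.symm_apply_apply]
  change Polynomial.aeval c X = c
  exact Polynomial.aeval_X c

variable {B : Type u} [CommRing B] [Algebra k B] [Algebra D B] [IsScalarTower k D B]

include e in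
theorem isNoetherianRing_D : IsNoetherianRing D :=
  isNoetherianRing_of_ringEquiv _ e.toRingEquiv

include he in
theorem surjective_algebraMap_quot :
    Function.Surjective (algebraMap k (D ⧸ Ideal.span {τ})) := by
  intro y
  obtain ⟨x, rfl⟩ := Ideal.Quotient.mk_surjective y
  obtain ⟨p, rfl⟩ := exists_aeval e he x
  refine ⟨p.coeff 0, ?_⟩
  have h1 : p = p.divX * X + C (p.coeff 0) := (Polynomial.divX_mul_X_add p).symm
  conv_rhs => rw [h1]
  rw [map_add, map_mul, Polynomial.aeval_X, Polynomial.aeval_C, map_add]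
  have h2 : Ideal.Quotient.mk (Ideal.span {τ}) (Polynomial.aeval τ p.divX * τ) = 0 :=
    Ideal.Quotient.eq_zero_iff_mem.2
      (Ideal.mul_mem_left _ _ (Ideal.mem_span_singleton_self τ))
  rw [h2, zero_add]
  rfl

include he in
theorem smooth_of_fibre [Algebra.FiniteType k B] [Module.Flat D B] (t : B)
    (ht : t = algebraMap D B τ) (hsm : Algebra.Smooth k (B ⧸ Ideal.span {t})) :
    Algebra.Smooth D B := by
  have hD : IsNoetherianRing D := isNoetherianRing_D e
  have hft : Algebra.FiniteType D B := Algebra.FiniteType.of_restrictScalars_finiteType k D B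
  have hfp : Algebra.FinitePresentation D B := Algebra.FinitePresentation.of_finiteType.1 hft
  have hN : IsNilpotent (Ideal.span {τ}) := by
    refine ⟨n + 1, ?_⟩
    rw [Ideal.span_singleton_pow, tau_pow e he]
    exact Ideal.span_singleton_eq_bot.2 rfl
  have hmap : (Ideal.span {τ}).map (algebraMap D B) = Ideal.span {t} := by
    rw [Ideal.map_span, Set.image_singleton, ht]
  have hfs : Algebra.FormallySmooth k (B ⧸ Ideal.span {t}) := hsm.formallySmooth
  have h1 : Algebra.FormallySmooth k (B ⧸ (Ideal.span {τ}).map (algebraMap D B)) :=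
    .of_equiv (Ideal.quotientEquivAlgOfEq k hmap.symm)
  have h2 : Algebra.FormallyUnramified k (D ⧸ Ideal.span {τ}) :=
    Algebra.FormallyUnramified.of_surjective (Algebra.ofId k _)
      (surjective_algebraMap_quot e he)
  have : IsScalarTower k (D ⧸ Ideal.span {τ}) (B ⧸ (Ideal.span {τ}).map (algebraMap D B)) := by
    refine IsScalarTower.of_algebraMap_eq (fun x => ?_)
    change Ideal.Quotient.mk _ (algebraMap k B x) =
      Ideal.Quotient.mk _ (algebraMap D B (algebraMap k D x))
    rw [← IsScalarTower.algebraMap_apply]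
  have h3 : Algebra.FormallySmooth (D ⧸ Ideal.span {τ})
      (B ⧸ (Ideal.span {τ}).map (algebraMap D B)) :=
    Algebra.FormallySmooth.of_restrictScalars k _ _
  exact smooth_of_flat_of_quotient (Ideal.span {τ}) hN

include he in
theorem algHom_ext_D {C : Type u} [CommRing C] [Algebra k C] (f g : D →ₐ[k] C)
    (h : f τ = g τ) : f = g := by
  apply AlgHom.ext
  intro x
  obtain ⟨p, rfl⟩ := exists_aeval e he x
  rw [← Polynomial.aeval_algHom_apply, ← Polynomial.aeval_algHom_apply, h]

set_option maxHeartbeats 800000 in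
include he in
/-- the derivation `d/dτ` extended to a flat deformation with smooth fibre -/
theorem exists_derivation [Algebra.FormallySmooth D B] (t : B) (ht : t = algebraMap D B τ) :
    ∃ δ : Derivation k B (B ⧸ Ideal.span {t ^ n}), δ t = 1 := by
  let c : TrivSqZeroExt (B ⧸ Ideal.span {t ^ n}) (B ⧸ Ideal.span {t ^ n}) :=
    TrivSqZeroExt.inl (Ideal.Quotient.mk _ t) + TrivSqZeroExt.inr 1
  have htn : (Ideal.Quotient.mk (Ideal.span {t ^ n}) t) ^ n = 0 := by
    rw [← map_pow]
    exact Ideal.Quotient.eq_zero_iff_mem.2 (Ideal.mem_span_singleton_self _)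
  have hc : c ^ (n + 1) = 0 := by
    apply TrivSqZeroExt.ext
    · rw [TrivSqZeroExt.fst_pow]
      simp only [c, TrivSqZeroExt.fst_add, TrivSqZeroExt.fst_inl, TrivSqZeroExt.fst_inr, add_zero,
        TrivSqZeroExt.fst_zero]
      rw [pow_succ, htn, zero_mul]
    · rw [TrivSqZeroExt.snd_pow]
      simp only [c, TrivSqZeroExt.fst_add, TrivSqZeroExt.fst_inl, TrivSqZeroExt.fst_inr, add_zero,
        TrivSqZeroExt.snd_zero, Nat.pred_succ]
      rw [htn, zero_smul, smul_zero]
  obtain ⟨φ, hφ⟩ := exists_algHom e he c hc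
  let _ : Algebra D (TrivSqZeroExt (B ⧸ Ideal.span {t ^ n}) (B ⧸ Ideal.span {t ^ n})) :=
    φ.toRingHom.toAlgebra
  have hfst : ∀ d : D, TrivSqZeroExt.fst (φ d) =
      algebraMap D (B ⧸ Ideal.span {t ^ n}) d := by
    intro d
    have h1 : (TrivSqZeroExt.fstHom k (B ⧸ Ideal.span {t ^ n}) (B ⧸ Ideal.span {t ^ n})).comp φ =
        IsScalarTower.toAlgHom k D (B ⧸ Ideal.span {t ^ n}) := by
      apply algHom_ext_D e he
      change TrivSqZeroExt.fst (φ τ) = algebraMap D (B ⧸ Ideal.span {t ^ n}) τ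
      rw [hφ]
      simp only [c, TrivSqZeroExt.fst_add, TrivSqZeroExt.fst_inl, TrivSqZeroExt.fst_inr, add_zero]
      rw [ht]
      rfl
    exact congrArg (fun f : D →ₐ[k] (B ⧸ Ideal.span {t ^ n}) => f d) h1
  let π : TrivSqZeroExt (B ⧸ Ideal.span {t ^ n}) (B ⧸ Ideal.span {t ^ n}) →ₐ[D]
      (B ⧸ Ideal.span {t ^ n}) :=
    { (TrivSqZeroExt.fstHom k (B ⧸ Ideal.span {t ^ n}) (B ⧸ Ideal.span {t ^ n})).toRingHom with
      commutes' := fun d => hfst d }
  have hπsurj : Function.Surjective π := fun y => ⟨TrivSqZeroExt.inl y, rfl⟩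
  have hπnil : IsNilpotent (RingHom.ker (π : TrivSqZeroExt (B ⧸ Ideal.span {t ^ n})
      (B ⧸ Ideal.span {t ^ n}) →+* (B ⧸ Ideal.span {t ^ n}))) := by
    refine ⟨2, ?_⟩
    have hsq : ∀ I : Ideal (TrivSqZeroExt (B ⧸ Ideal.span {t ^ n}) (B ⧸ Ideal.span {t ^ n})),
        I ^ 2 = I * I := fun I => pow_two I
    rw [Ideal.zero_eq_bot, eq_bot_iff, hsq, Ideal.mul_le]
    intro r hr s hs
    have hr' : TrivSqZeroExt.fst r = 0 := hr
    have hs' : TrivSqZeroExt.fst s = 0 := hs
    rw [Ideal.mem_bot]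
    apply TrivSqZeroExt.ext
    · rw [TrivSqZeroExt.fst_mul, hr', zero_mul, TrivSqZeroExt.fst_zero]
    · rw [TrivSqZeroExt.snd_mul, hr', hs', zero_smul, MulOpposite.op_zero, zero_smul, add_zero,
        TrivSqZeroExt.snd_zero]
  let ψ : B →ₐ[D] TrivSqZeroExt (B ⧸ Ideal.span {t ^ n}) (B ⧸ Ideal.span {t ^ n}) :=
    Algebra.FormallySmooth.liftOfSurjective (IsScalarTower.toAlgHom D B (B ⧸ Ideal.span {t ^ n}))
      π hπsurj hπnil
  have hψfst : ∀ b : B, TrivSqZeroExt.fst (ψ b) = Ideal.Quotient.mk _ b := fun b =>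
    Algebra.FormallySmooth.liftOfSurjective_apply _ π hπsurj hπnil b
  have hψk : ∀ (r : k) (b : B), ψ (r • b) = r • ψ b := by
    intro r b
    rw [Algebra.smul_def, map_mul, Algebra.smul_def]
    congr 1
    rw [IsScalarTower.algebraMap_apply k D B, ψ.commutes]
    exact φ.commutes r
  let lin : B →ₗ[k] (B ⧸ Ideal.span {t ^ n}) :=
    { toFun := fun b => TrivSqZeroExt.snd (ψ b)
      map_add' := fun a b => by rw [map_add, TrivSqZeroExt.snd_add]
      map_smul' := fun r b => by rw [hψk, TrivSqZeroExt.snd_smul]; rfl }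
  refine ⟨Derivation.mk' lin ?_, ?_⟩
  · intro a b
    change TrivSqZeroExt.snd (ψ (a * b)) = a • TrivSqZeroExt.snd (ψ b) + b • TrivSqZeroExt.snd (ψ a)
    rw [map_mul, TrivSqZeroExt.snd_mul, hψfst, hψfst, op_smul_eq_smul]
    rfl
  · change TrivSqZeroExt.snd (ψ t) = 1
    have h1 : ψ (algebraMap D B τ) = algebraMap D _ τ := ψ.commutes τ
    rw [← ht] at h1
    rw [h1]
    change TrivSqZeroExt.snd (φ τ) = 1
    rw [hφ]
    simp only [c, TrivSqZeroExt.snd_add, TrivSqZeroExt.snd_inl, TrivSqZeroExt.snd_inr, zero_add]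

end trunc

section kaehler

variable {k : Type u} [Field k] {n : ℕ} {D : Type u} [CommRing D] [Algebra k D] {τ : D}
variable {B : Type u} [CommRing B] [Algebra k B] [Algebra D B] [IsScalarTower k D B]

/-- the retraction of `b ↦ b • (1 ⊗ dt)` given by a derivation with `δ t = 1` -/
theorem exists_retraction (t : B) (δ : Derivation k B (B ⧸ Ideal.span {t ^ n})) (hδ : δ t = 1) :
    ∃ r : ((B ⧸ Ideal.span {t ^ n}) ⊗[B] Ω[B⁄k]) →ₗ[B ⧸ Ideal.span {t ^ n}]
        (B ⧸ Ideal.span {t ^ n}),
      ∀ b, r (LinearMap.toSpanSingleton (B ⧸ Ideal.span {t ^ n})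
        ((B ⧸ Ideal.span {t ^ n}) ⊗[B] Ω[B⁄k])
        ((1 : (B ⧸ Ideal.span {t ^ n})) ⊗ₜ[B] KaehlerDifferential.D k B t) b) = b := by
  refine ⟨LinearMap.liftBaseChange (B ⧸ Ideal.span {t ^ n}) δ.liftKaehlerDifferential, ?_⟩
  intro b
  rw [LinearMap.toSpanSingleton_apply, map_smul, LinearMap.liftBaseChange_tmul,
    Derivation.liftKaehlerDifferential_comp_D, hδ, one_smul, smul_eq_mul, mul_one]

theorem map_D_t (t : B) (ht : t = algebraMap D B τ) :
    KaehlerDifferential.map k D B B (KaehlerDifferential.D k B t) = 0 := by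
  rw [KaehlerDifferential.map_D, Algebra.algebraMap_self_apply, ht, Derivation.map_algebraMap]

/-- the kernel of `Ω[B⁄k] → Ω[B⁄D]` is generated by `dt` when `D = k[τ]` -/
theorem ker_map_eq (hgen : ∀ x : D, ∃ p : k[X], Polynomial.aeval τ p = x)
    (t : B) (ht : t = algebraMap D B τ) :
    LinearMap.ker (KaehlerDifferential.map k D B B) =
      Submodule.span B {KaehlerDifferential.D k B t} := by
  apply le_antisymm
  · rw [← KaehlerDifferential.range_mapBaseChange]
    rintro _ ⟨y, rfl⟩
    induction y with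
    | zero => rw [map_zero]; exact Submodule.zero_mem _
    | add y z hy hz => rw [map_add]; exact Submodule.add_mem _ hy hz
    | tmul b ω =>
      rw [KaehlerDifferential.mapBaseChange_tmul]
      refine Submodule.smul_mem _ _ ?_
      have hω : ω ∈ Submodule.span D (Set.range (KaehlerDifferential.D k D)) := by
        rw [KaehlerDifferential.span_range_derivation]; exact Submodule.mem_top
      induction hω using Submodule.span_induction with
      | mem ω h =>
        obtain ⟨x, rfl⟩ := h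
        obtain ⟨p, rfl⟩ := hgen x
        rw [KaehlerDifferential.map_D, ← Polynomial.aeval_algebraMap_apply, ← ht,
          Derivation.map_aeval]
        exact Submodule.smul_mem _ _ (Submodule.mem_span_singleton_self _)
      | zero => rw [map_zero]; exact Submodule.zero_mem _
      | add x y _ _ hx hy => rw [map_add]; exact Submodule.add_mem _ hx hy
      | smul c x _ hx =>
        rw [map_smul, ← algebraMap_smul B c]
        exact Submodule.smul_mem _ _ hx
  · rw [Submodule.span_le, Set.singleton_subset_iff]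
    exact map_D_t t ht

/-- exactness of `B' → B' ⊗ Ω[B⁄k] → B' ⊗ Ω[B⁄D]` in the middle -/
theorem exact_mid (hgen : ∀ x : D, ∃ p : k[X], Polynomial.aeval τ p = x)
    (t : B) (ht : t = algebraMap D B τ) (I : Ideal B) :
    Function.Exact
      (LinearMap.toSpanSingleton (B ⧸ I) ((B ⧸ I) ⊗[B] Ω[B⁄k])
        ((1 : (B ⧸ I)) ⊗ₜ[B] KaehlerDifferential.D k B t))
      (LinearMap.baseChange (B ⧸ I) (KaehlerDifferential.map k D B B)) := by
  intro y
  constructor
  · intro hy
    have hex : Function.Exact (LinearMap.ker (KaehlerDifferential.map k D B B)).subtype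
        (KaehlerDifferential.map k D B B) := LinearMap.exact_subtype_ker_map _
    have hex' := lTensor_exact (B ⧸ I) hex (KaehlerDifferential.map_surjective k D B)
    rw [LinearMap.baseChange_eq_ltensor] at hy
    obtain ⟨z, rfl⟩ := (hex' y).1 hy
    clear hy
    induction z with
    | zero => rw [map_zero]; exact ⟨0, map_zero _⟩
    | add y z hy hz =>
      obtain ⟨a, ha⟩ := hy
      obtain ⟨b, hb⟩ := hz
      exact ⟨a + b, by rw [map_add, map_add, ha, hb]⟩
    | tmul b ω =>
      obtain ⟨ω, hω⟩ := ω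
      rw [ker_map_eq hgen t ht, Submodule.mem_span_singleton] at hω
      obtain ⟨c, rfl⟩ := hω
      refine ⟨c • b, ?_⟩
      rw [LinearMap.toSpanSingleton_apply, LinearMap.lTensor_tmul]
      change _ = b ⊗ₜ[B] (c • KaehlerDifferential.D k B t)
      rw [← TensorProduct.smul_tmul, TensorProduct.smul_tmul', smul_eq_mul, mul_one]
  · rintro ⟨b, rfl⟩
    rw [LinearMap.toSpanSingleton_apply, map_smul, LinearMap.baseChange_tmul, map_D_t t ht,
      TensorProduct.tmul_zero, smul_zero]

omit [Algebra D B] [IsScalarTower k D B] in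
/-- `1 ⊗ d(c tⁿ) = (n c tⁿ⁻¹) • (1 ⊗ dt)` in `B/tⁿ ⊗ Ω[B⁄k]` -/
theorem tmul_D_mul_pow (t c : B) :
    ((1 : B ⧸ Ideal.span {t ^ n}) ⊗ₜ[B] KaehlerDifferential.D k B (c * t ^ n) :
      (B ⧸ Ideal.span {t ^ n}) ⊗[B] Ω[B⁄k]) =
    LinearMap.toSpanSingleton (B ⧸ Ideal.span {t ^ n}) ((B ⧸ Ideal.span {t ^ n}) ⊗[B] Ω[B⁄k])
        ((1 : (B ⧸ Ideal.span {t ^ n})) ⊗ₜ[B] KaehlerDifferential.D k B t)
      (Ideal.Quotient.mk _ (n • (c * t ^ (n - 1)))) := by
  rw [LinearMap.toSpanSingleton_apply, Derivation.leibniz, Derivation.leibniz_pow,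
    TensorProduct.tmul_add, ← TensorProduct.smul_tmul (t ^ n)]
  have h1 : (t ^ n) • (1 : B ⧸ Ideal.span {t ^ n}) = 0 := by
    change Ideal.Quotient.mk _ (t ^ n) * 1 = 0
    rw [mul_one]
    exact Ideal.Quotient.eq_zero_iff_mem.2 (Ideal.mem_span_singleton_self _)
  rw [h1, TensorProduct.zero_tmul, add_zero]
  have h2 : c • n • t ^ (n - 1) • KaehlerDifferential.D k B t =
      (n • (c * t ^ (n - 1))) • KaehlerDifferential.D k B t := by
    module
  rw [h2, ← TensorProduct.smul_tmul, TensorProduct.smul_tmul']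
  congr 1

/-- the two ways from `Ω[B⁄k]` to `Ω[(B/I)⁄D]` agree -/
theorem map_map_eq (I : Ideal B) (η : Ω[B⁄k]) :
    KaehlerDifferential.map D D B (B ⧸ I) (KaehlerDifferential.map k D B B η) =
      KaehlerDifferential.map k D (B ⧸ I) (B ⧸ I) (KaehlerDifferential.map k k B (B ⧸ I) η) := by
  have hη : η ∈ Submodule.span B (Set.range (KaehlerDifferential.D k B)) := by
    rw [KaehlerDifferential.span_range_derivation]; exact Submodule.mem_top
  induction hη using Submodule.span_induction with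
  | mem ω h =>
    obtain ⟨x, rfl⟩ := h
    rw [KaehlerDifferential.map_D, KaehlerDifferential.map_D, KaehlerDifferential.map_D,
      KaehlerDifferential.map_D]
    rfl
  | zero => simp only [map_zero]
  | add x y _ _ hx hy => simp only [map_add, hx, hy]
  | smul c x _ hx =>
    rw [map_smul, map_smul, map_smul, hx, LinearMap.map_smul_of_tower]

/-- factorisation of `B/I ⊗ Ω[B⁄k] → Ω[(B/I)⁄D]` -/
theorem map_mapBaseChange_eq (I : Ideal B) (α : (B ⧸ I) ⊗[B] Ω[B⁄k]) :
    KaehlerDifferential.map k D (B ⧸ I) (B ⧸ I) (KaehlerDifferential.mapBaseChange k B (B ⧸ I) α) =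
      KaehlerDifferential.mapBaseChange D B (B ⧸ I)
        (LinearMap.baseChange (B ⧸ I) (KaehlerDifferential.map k D B B) α) := by
  induction α with
  | zero => simp only [map_zero]
  | add x y hx hy => simp only [map_add, hx, hy]
  | tmul b η =>
    rw [KaehlerDifferential.mapBaseChange_tmul, LinearMap.baseChange_tmul,
      KaehlerDifferential.mapBaseChange_tmul, map_smul, map_map_eq]

/-- `B/tⁿ ⊗ Ω[B⁄D] → Ω[(B/tⁿ)⁄D]` is injective for `t` coming from `D` -/
theorem injective_mapBaseChange_D (t : B) (ht : t = algebraMap D B τ) (m : ℕ) :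
    Function.Injective (KaehlerDifferential.mapBaseChange D B (B ⧸ Ideal.span {t ^ m})) := by
  have hsurj : Function.Surjective (algebraMap B (B ⧸ Ideal.span {t ^ m})) :=
    Ideal.Quotient.mk_surjective
  have hex := KaehlerDifferential.exact_kerCotangentToTensor_mapBaseChange D B
    (B ⧸ Ideal.span {t ^ m}) hsurj
  rw [injective_iff_map_eq_zero]
  intro α hα
  obtain ⟨x, rfl⟩ := (hex α).1 hα
  obtain ⟨y, rfl⟩ := Ideal.toCotangent_surjective _ x
  rw [KaehlerDifferential.kerCotangentToTensor_toCotangent]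
  have hy : y.1 ∈ Ideal.span {t ^ m} := by
    have h := RingHom.mem_ker.1 y.2
    exact Ideal.Quotient.eq_zero_iff_mem.1 h
  obtain ⟨c, hc⟩ := Ideal.mem_span_singleton'.1 hy
  have h0 : KaehlerDifferential.D D B (t ^ m) = 0 := by
    rw [ht, ← map_pow, Derivation.map_algebraMap]
  rw [← hc, Derivation.leibniz, h0, smul_zero, zero_add, ← TensorProduct.smul_tmul]
  have h1 : (t ^ m) • (1 : B ⧸ Ideal.span {t ^ m}) = 0 := by
    change Ideal.Quotient.mk _ (t ^ m) * 1 = 0
    rw [mul_one]
    exact Ideal.Quotient.eq_zero_iff_mem.2 (Ideal.mem_span_singleton_self _)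
  rw [h1, TensorProduct.zero_tmul]

end kaehler

end Groth.Agent.LibDef29
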