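import Mathlib
import Groth.Prelude.Def_Exal

/-!
# First-order deformation data of an algebra and extensions of `B` by `B` (ring level; seat helper29)

A datum is a `k`-algebra `E` with an element `ε`, `ε² = 0`, a surjection `p : E → B` with kernel `(ε)` and
`Ann ε ⊆ ker p` (flatness over the dual numbers).  Data up to isomorphism correspond to extensions of `B` by `B` up to
equivalence.
-/

set_option autoImplicit false
universe u

namespace Groth.Agent.LibDefDual29

/-- a first-order deformation datum of the `k`-algebra `B` -/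
structure Datum (k B : Type u) [Field k] [CommRing B] [Algebra k B] where
  E : Type u
  [commRing : CommRing E]
  [algebra : Algebra k E]
  ε : E
  p : E →ₐ[k] B
  surj : Function.Surjective p
  ker_eq : RingHom.ker p = Ideal.span {ε}
  sq : ε * ε = 0
  ann : ∀ y, ε * y = 0 → p y = 0

namespace Datum

variable {k B : Type u} [Field k] [CommRing B] [Algebra k B]

instance (T : Datum k B) : CommRing T.E := T.commRing
instance (T : Datum k B) : Algebra k T.E := T.algebra

lemma p_eps (T : Datum k B) : T.p T.ε = 0 := by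
  have h : T.ε ∈ RingHom.ker T.p := by
    rw [T.ker_eq]
    exact Ideal.mem_span_singleton_self _
  exact h

lemma eps_mul_eq_of_p_eq (T : Datum k B) (x y : T.E) (h : T.p x = T.p y) : T.ε * x = T.ε * y := by
  have h1 : x - y ∈ RingHom.ker T.p := by
    rw [RingHom.mem_ker, map_sub, h, sub_self]
  rw [T.ker_eq] at h1
  obtain ⟨c, hc⟩ := Ideal.mem_span_singleton'.mp h1
  have h2 : T.ε * (x - y) = 0 := by
    rw [← hc, mul_comm c, ← mul_assoc, T.sq, zero_mul]
  rw [mul_sub, sub_eq_zero] at h2
  exact h2

/-- the inclusion `B → E`, `b ↦ ε · (lift of b)` -/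
noncomputable def incl (T : Datum k B) : B →+ T.E :=
  AddMonoidHom.mk' (fun b => T.ε * Function.surjInv T.surj b) (fun b c => by
    rw [← mul_add]
    apply T.eps_mul_eq_of_p_eq
    rw [map_add, Function.surjInv_eq T.surj, Function.surjInv_eq T.surj, Function.surjInv_eq T.surj])

lemma incl_p (T : Datum k B) (y : T.E) : T.incl (T.p y) = T.ε * y :=
  T.eps_mul_eq_of_p_eq _ _ (Function.surjInv_eq T.surj _)

/-- the extension of `B` by `B` attached to a datum -/
noncomputable def toExt (T : Datum k B) : Exal.Ext k B B where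
  E := T.E
  proj := T.p
  incl := T.incl
  isExtension :=
    { proj_surjective := T.surj
      incl_injective := by
        intro b c hbc
        obtain ⟨x, rfl⟩ := T.surj b
        obtain ⟨y, rfl⟩ := T.surj c
        rw [incl_p, incl_p, ← sub_eq_zero, ← mul_sub] at hbc
        have h := T.ann _ hbc
        rw [map_sub, sub_eq_zero] at h
        exact h
      exact := by
        intro x
        constructor
        · intro hx
          have h1 : x ∈ RingHom.ker T.p := hx
          rw [T.ker_eq] at h1
          obtain ⟨c, hc⟩ := Ideal.mem_span_singleton'.mp h1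
          exact ⟨T.p c, by rw [incl_p, ← hc, mul_comm]⟩
        · rintro ⟨b, rfl⟩
          obtain ⟨y, rfl⟩ := T.surj b
          rw [incl_p, map_mul, T.p_eps, zero_mul]
      mul_incl := by
        intro x z
        obtain ⟨y, rfl⟩ := T.surj z
        rw [smul_eq_mul, ← map_mul, incl_p, incl_p]
        ring }

/-- the datum attached to an extension of `B` by `B` -/
def ofExt (X : Exal.Ext k B B) : Datum k B where
  E := X.E
  ε := X.incl 1
  p := X.proj
  surj := X.isExtension.proj_surjective
  ker_eq := by
    ext x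
    rw [RingHom.mem_ker, Ideal.mem_span_singleton']
    constructor
    · intro hx
      obtain ⟨b, rfl⟩ := (X.isExtension.exact x).mp hx
      obtain ⟨y, rfl⟩ := X.isExtension.proj_surjective b
      exact ⟨y, by rw [X.isExtension.mul_incl, smul_eq_mul, mul_one]⟩
    · rintro ⟨c, rfl⟩
      rw [X.isExtension.mul_incl]
      exact (X.isExtension.exact _).mpr ⟨_, rfl⟩
  sq := by
    rw [X.isExtension.mul_incl]
    have h : X.proj (X.incl 1) = 0 := (X.isExtension.exact _).mpr ⟨1, rfl⟩
    rw [h, zero_smul, map_zero]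
  ann := by
    intro y hy
    rw [mul_comm, X.isExtension.mul_incl, smul_eq_mul, mul_one] at hy
    exact X.isExtension.incl_injective (hy.trans (map_zero X.incl).symm)

/-- isomorphism of data -/
def Iso (T T' : Datum k B) : Prop :=
  ∃ ψ : T.E ≃ₐ[k] T'.E, (∀ x, T'.p (ψ x) = T.p x) ∧ ψ T.ε = T'.ε

lemma toExt_equiv_of_iso {T T' : Datum k B} (h : Iso T T') : Nonempty (Exal.Ext.Equiv T.toExt T'.toExt) := by
  obtain ⟨ψ, hψp, hψε⟩ := h
  refine ⟨{ toAlgEquiv := ψ, proj_apply := hψp, apply_incl := ?_ }⟩
  intro z
  obtain ⟨y, rfl⟩ := T.surj z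
  change ψ (T.incl (T.p y)) = T'.incl (T.p y)
  rw [incl_p, ← hψp y, incl_p, map_mul, hψε]

lemma incl_one (T : Datum k B) : T.incl 1 = T.ε := by
  have h := T.incl_p 1
  rw [map_one, mul_one] at h
  exact h

lemma iso_of_toExt_equiv {T T' : Datum k B} (h : Nonempty (Exal.Ext.Equiv T.toExt T'.toExt)) : Iso T T' := by
  obtain ⟨e⟩ := h
  refine ⟨e.toAlgEquiv, e.proj_apply, ?_⟩
  have h1 := e.apply_incl 1
  change e.toAlgEquiv (T.incl 1) = T'.incl 1 at h1
  rw [incl_one, incl_one] at h1
  exact h1

lemma ofExt_toExt_equiv (X : Exal.Ext k B B) : Nonempty (Exal.Ext.Equiv (ofExt X).toExt X) := by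
  refine ⟨{ toAlgEquiv := AlgEquiv.refl, proj_apply := fun _ => rfl, apply_incl := ?_ }⟩
  intro z
  obtain ⟨y, rfl⟩ := X.isExtension.proj_surjective z
  change (ofExt X).incl ((ofExt X).p y) = X.incl (X.proj y)
  rw [incl_p]
  change X.incl 1 * y = _
  rw [mul_comm, X.isExtension.mul_incl, smul_eq_mul, mul_one]

end Datum

end Groth.Agent.LibDefDual29
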