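import Mathlib

/-!
# Flatness and colon ideals (seat helper29)

For a flat `R`-module `M`, an ideal `I` and `t : R`: if `t • m ∈ I M` then `m ∈ (I : t) M`.
-/

set_option autoImplicit false
open Module

namespace Groth.Agent.LibRigid29

variable {R M : Type*} [CommRing R] [AddCommGroup M] [Module R M]

theorem mem_smul_top_of_flat [Module.Flat R M] (I K : Ideal R) (t : R)
    (hK : ∀ a, t * a ∈ I → a ∈ K) (m : M)
    (h : t • m ∈ I • (⊤ : Submodule R M)) : m ∈ K • (⊤ : Submodule R M) := by
  classical
  have h0 : (⊤ : Submodule R M) = Submodule.span R (Set.range (id : M → M)) := by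
    rw [Set.range_id, Submodule.span_univ]
  rw [h0, Submodule.mem_ideal_smul_span_iff_exists_sum] at h
  obtain ⟨a, ha, hsum⟩ := h
  -- the relation
  let f : Option a.support → R := fun o => o.elim t (fun i => - a i)
  let x : Option a.support → M := fun o => o.elim m (fun i => (i : M))
  have hrel : ∑ o, f o • x o = 0 := by
    rw [Fintype.sum_option]
    change t • m + ∑ i : a.support, (- a i) • (i : M) = 0
    have h1 : ∑ i : a.support, (- a i) • (i : M) = - ∑ i : a.support, a i • (i : M) := by
      rw [← Finset.sum_neg_distrib]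
      exact Finset.sum_congr rfl fun i _ => neg_smul _ _
    have h2 : ∑ i : a.support, a i • (i : M) = t • m := by
      rw [← hsum, Finsupp.sum]
      exact (Finset.sum_coe_sort a.support (fun i => a i • (id i : M)))
    rw [h1, h2, add_neg_cancel]
  obtain ⟨κ, c, y, hxy, hfc⟩ := Module.Flat.isTrivialRelation_of_sum_smul_eq_zero hrel
  have hm : m = ∑ j, c none j • y j := hxy none
  rw [hm]
  refine Submodule.sum_mem _ fun j _ => Submodule.smul_mem_smul (hK _ ?_) Submodule.mem_top
  have h3 := hfc j
  rw [Fintype.sum_option] at h3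
  change t * c none j + ∑ i : a.support, (- a i) * c (some i) j = 0 at h3
  have h4 : t * c none j = ∑ i : a.support, a i * c (some i) j := by
    rw [← sub_eq_zero, ← h3, sub_eq_add_neg, ← Finset.sum_neg_distrib]
    congr 1
    exact Finset.sum_congr rfl fun i _ => (neg_mul _ _).symm
  rw [h4]
  exact Ideal.sum_mem _ fun i _ => Ideal.mul_mem_right _ _ (ha i)

end Groth.Agent.LibRigid29
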