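import Groth.Agent.LibAffDef29e
import Groth.Agent.LibRigid29a
import Groth.Agent.LibDefDual29a
import Groth.Prelude.Def_ArtFun4

/-!
# Deformations of `Spec B` over the dual numbers and first-order deformation data (seat helper29)
-/

set_option autoImplicit false
universe u
open CategoryTheory CategoryTheory.Limits AlgebraicGeometry

namespace Groth.Agent.LibDefDual29

open Groth.Agent.LibAffDef29

/-- a commuting square of rings with `q` and `inl` surjective and `ker inl ≤ f(ker q) S` is a pushout -/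
theorem isPushout_of_surjective {R S T P : CommRingCat.{u}} (f : R ⟶ S) (q : R ⟶ T) (inl : S ⟶ P) (inr : T ⟶ P)
    (w : f ≫ inl = q ≫ inr) (hq : Function.Surjective q.hom) (hinl : Function.Surjective inl.hom)
    (hker : RingHom.ker inl.hom ≤ Ideal.map f.hom (RingHom.ker q.hom)) : IsPushout f q inl inr := by
  haveI : Epi q := ConcreteCategory.epi_of_surjective q hq
  haveI : Epi inl := ConcreteCategory.epi_of_surjective inl hinl
  have hk : ∀ s : PushoutCocone f q, RingHom.ker inl.hom ≤ RingHom.ker s.inl.hom := by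
    intro s
    refine le_trans hker ?_
    rw [Ideal.map_le_iff_le_comap]
    intro r hr
    rw [Ideal.mem_comap, RingHom.mem_ker]
    have h1 : s.inl.hom (f.hom r) = s.inr.hom (q.hom r) := congrArg (fun φ => φ.hom r) s.condition
    rw [h1, (RingHom.mem_ker).mp hr, map_zero]
  have hfac : ∀ s : PushoutCocone f q,
      inl ≫ CommRingCat.ofHom (RingHom.liftOfSurjective inl.hom hinl ⟨s.inl.hom, hk s⟩) = s.inl := by
    intro s
    ext x
    exact RingHom.congr_fun (RingHom.liftOfSurjective_comp inl.hom hinl ⟨s.inl.hom, hk s⟩) x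
  refine ⟨⟨w⟩, ⟨PushoutCocone.IsColimit.mk _
    (fun s => CommRingCat.ofHom (RingHom.liftOfSurjective inl.hom hinl ⟨s.inl.hom, hk s⟩)) hfac ?_ ?_⟩⟩
  · intro s
    rw [← cancel_epi q, ← Category.assoc, ← w, Category.assoc, hfac s, s.condition]
  · intro s m hm _
    rw [← cancel_epi inl, hm, hfac s]

section Package

variable {k : Type u} [Field k] {A : Type u} [CommRing A] [Algebra k A] {B₀ : Type u} [CommRing B₀] [Algebra k B₀]
  (e : A →ₐ[k] k) {X' : Scheme.{u}} (g : X' ⟶ Spec (CommRingCat.of A)) (i : Spec (CommRingCat.of B₀) ⟶ X')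

lemma toΓ_SpecMap_comp_ΓSpecIso' {R S : Type u} [CommRing R] [CommRing S] (φ : CommRingCat.of R ⟶ CommRingCat.of S) :
    toΓ (Spec.map φ) ≫ (Scheme.ΓSpecIso (CommRingCat.of S)).hom = φ := by
  rw [toΓ, Category.assoc, Scheme.ΓSpecIso_naturality, Iso.inv_hom_id_assoc]

/-- the ring-level package of a deformation of `Spec B₀` over `A` -/
theorem def_package (n : ℕ) (hn : (RingHom.ker e) ^ n = ⊥) [Flat g]
    (hsq : IsPullback i (Spec.map (CommRingCat.ofHom (algebraMap k B₀))) g
      (Spec.map (CommRingCat.ofHom e.toRingHom))) :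
    IsAffine X' ∧ (toΓ g).hom.Flat ∧ Function.Surjective (fromΓ i).hom ∧
      RingHom.ker (fromΓ i).hom ≤ Ideal.map (toΓ g).hom (RingHom.ker e.toRingHom) ∧
      toΓ g ≫ fromΓ i = CommRingCat.ofHom e.toRingHom ≫ CommRingCat.ofHom (algebraMap k B₀) := by
  set hX : Spec (CommRingCat.of B₀) ⟶ Spec (CommRingCat.of k) :=
    Spec.map (CommRingCat.ofHom (algebraMap k B₀)) with hXdef
  have he : Function.Surjective e.toRingHom := fun c => ⟨algebraMap k A c, by simp⟩
  have hnil : RingHom.ker e.toRingHom ≤ nilradical A := by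
    intro x hx
    have h1 : x ^ n ∈ (RingHom.ker e) ^ n := Ideal.pow_mem_pow hx n
    rw [hn] at h1
    exact ⟨n, h1⟩
  haveI : IsAffine X' := isAffine_total e.toRingHom hX g i hsq he hnil
  have hpo := isPushout_rings e.toRingHom hX g i hsq
  have hflat : (toΓ g).hom.Flat := by
    have h1 : g.appTop.hom.Flat := Scheme.Hom.flat_appTop g
    have h2 : (Scheme.ΓSpecIso (CommRingCat.of A)).inv.hom.Flat :=
      RingHom.Flat.of_bijective (ConcreteCategory.bijective_of_isIso _)
    exact RingHom.Flat.comp h2 h1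
  have hγinj : Function.Injective (Scheme.ΓSpecIso (CommRingCat.of B₀)).hom.hom :=
    (ConcreteCategory.bijective_of_isIso (Scheme.ΓSpecIso (CommRingCat.of B₀)).hom).1
  have hγsurj : Function.Surjective (Scheme.ΓSpecIso (CommRingCat.of B₀)).hom.hom :=
    (ConcreteCategory.bijective_of_isIso (Scheme.ΓSpecIso (CommRingCat.of B₀)).hom).2
  haveI := isClosedImmersion_i e.toRingHom hX g i hsq he
  have hker0 : RingHom.ker i.appTop.hom ≤
      Ideal.map (toΓ g).hom (RingHom.ker (CommRingCat.ofHom e.toRingHom).hom) :=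
    ker_le_map_of_isPushout (toΓ g) (CommRingCat.ofHom e.toRingHom) i.appTop (toΓ hX) hpo he
  refine ⟨inferInstance, hflat, ?_, ?_, ?_⟩
  · intro b
    obtain ⟨y, hy⟩ := hγsurj b
    obtain ⟨x, hx⟩ := (IsClosedImmersion.isAffine_surjective_of_isAffine i).2 y
    refine ⟨x, ?_⟩
    change (Scheme.ΓSpecIso (CommRingCat.of B₀)).hom.hom (i.appTop.hom x) = b
    rw [hx, hy]
  · intro x hx
    have hx' : x ∈ RingHom.ker i.appTop.hom := by
      rw [RingHom.mem_ker] at hx ⊢
      apply hγinj
      rw [map_zero]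
      exact hx
    exact hker0 hx'
  · rw [fromΓ, ← Category.assoc, hpo.w, Category.assoc]
    congr 1
    exact toΓ_SpecMap_comp_ΓSpecIso' _

end Package

end Groth.Agent.LibDefDual29
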