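import Groth.Agent.LibDefDual29b

/-!
# The first-order deformation datum of a deformation of `Spec B` over the dual numbers (seat helper29)
-/

set_option autoImplicit false
universe u
open CategoryTheory CategoryTheory.Limits AlgebraicGeometry

namespace Groth.Agent.LibDefDual29

open Groth.Agent.LibAffDef29

section DualFacts

variable (k : Type u) [Field k]

lemma ker_fstHom : RingHom.ker (TrivSqZeroExt.fstHom k k k) = Ideal.span {(DualNumber.eps : DualNumber k)} := by
  ext x
  rw [RingHom.mem_ker, Ideal.mem_span_singleton']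
  constructor
  · intro hx
    have hx' : x.fst = 0 := hx
    refine ⟨TrivSqZeroExt.inl x.snd, ?_⟩
    apply TrivSqZeroExt.ext
    · rw [TrivSqZeroExt.fst_mul, DualNumber.fst_eps, mul_zero, hx']
    · rw [TrivSqZeroExt.snd_mul, DualNumber.fst_eps, DualNumber.snd_eps, TrivSqZeroExt.fst_inl,
        TrivSqZeroExt.snd_inl]
      simp
  · rintro ⟨a, rfl⟩
    change (a * DualNumber.eps).fst = 0
    rw [TrivSqZeroExt.fst_mul, DualNumber.fst_eps, mul_zero]

lemma ker_fstHom_sq : (RingHom.ker (TrivSqZeroExt.fstHom k k k)) ^ 2 = ⊥ := by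
  rw [ker_fstHom, Ideal.span_singleton_pow, pow_two, DualNumber.eps_mul_eps]
  exact Ideal.span_singleton_eq_bot.mpr rfl

lemma mem_ker_fstHom_of_eps_mul (a : DualNumber k) (h : (DualNumber.eps : DualNumber k) * a = 0) :
    a ∈ RingHom.ker (TrivSqZeroExt.fstHom k k k) := by
  rw [RingHom.mem_ker]
  change a.fst = 0
  have h1 := congrArg TrivSqZeroExt.snd h
  rw [TrivSqZeroExt.snd_mul, DualNumber.fst_eps, DualNumber.snd_eps, TrivSqZeroExt.snd_zero] at h1
  simpa using h1

end DualFacts

section DatumOf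

variable {k B : Type u} [Field k] [CommRing B] [Algebra k B]
variable {X' : Scheme.{u}} (g : X' ⟶ Spec (CommRingCat.of (DualNumber k))) [Flat g]
  (i : Spec (CommRingCat.of B) ⟶ X')
  (hsq : IsPullback i (Spec.map (CommRingCat.ofHom (algebraMap k B))) g
    (Spec.map (CommRingCat.ofHom (TrivSqZeroExt.fstHom k k k).toRingHom)))

include hsq in
lemma datum_aux :
    Function.Surjective (fromΓ i).hom ∧
      RingHom.ker (fromΓ i).hom = Ideal.span {(toΓ g).hom DualNumber.eps} ∧
      (∀ d : DualNumber k, (fromΓ i).hom ((toΓ g).hom d) = algebraMap k B d.fst) ∧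
      (∀ y : Γ(X', ⊤), (toΓ g).hom DualNumber.eps * y = 0 → (fromΓ i).hom y = 0) := by
  obtain ⟨-, hflat, hsurj, hker, hcomm⟩ :=
    def_package (TrivSqZeroExt.fstHom k k k) g i 2 (ker_fstHom_sq k) hsq
  have hcomm' : ∀ d : DualNumber k, (fromΓ i).hom ((toΓ g).hom d) = algebraMap k B d.fst :=
    fun d => congrArg (fun φ => φ.hom d) hcomm
  have hmap : Ideal.map (toΓ g).hom (RingHom.ker (TrivSqZeroExt.fstHom k k k).toRingHom) =
      Ideal.span {(toΓ g).hom DualNumber.eps} := by
    have h1 : RingHom.ker (TrivSqZeroExt.fstHom k k k).toRingHom = Ideal.span {(DualNumber.eps : DualNumber k)} :=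
      ker_fstHom k
    rw [h1, Ideal.map_span, Set.image_singleton]
  have hkereq : RingHom.ker (fromΓ i).hom = Ideal.span {(toΓ g).hom DualNumber.eps} := by
    refine le_antisymm (hmap ▸ hker) ?_
    rw [Ideal.span_singleton_le_iff_mem, RingHom.mem_ker, hcomm', DualNumber.fst_eps, map_zero]
  refine ⟨hsurj, hkereq, hcomm', ?_⟩
  intro y hy
  letI : Algebra (DualNumber k) Γ(X', ⊤) := (toΓ g).hom.toAlgebra
  haveI : Module.Flat (DualNumber k) Γ(X', ⊤) := hflat
  have h3 : (DualNumber.eps : DualNumber k) • y ∈ (⊥ : Ideal (DualNumber k)) • (⊤ : Submodule (DualNumber k) Γ(X', ⊤)) := by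
    rw [Algebra.smul_def]
    change (toΓ g).hom DualNumber.eps * y ∈ _
    rw [hy]
    exact Submodule.zero_mem _
  have h4 := Groth.Agent.LibRigid29.mem_smul_top_of_flat (⊥ : Ideal (DualNumber k))
    (RingHom.ker (TrivSqZeroExt.fstHom k k k) : Ideal (DualNumber k)) DualNumber.eps
    (fun a ha => mem_ker_fstHom_of_eps_mul k a ha) y h3
  rw [Ideal.smul_top_eq_map] at h4
  have h5 : y ∈ RingHom.ker (fromΓ i).hom := by
    rw [hkereq, ← hmap]
    exact h4
  exact h5

/-- the first-order deformation datum of a deformation over the dual numbers -/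
noncomputable def datumOf : Datum k B :=
  letI : Algebra k Γ(X', ⊤) := ((toΓ g).hom.comp (algebraMap k (DualNumber k))).toAlgebra
  { E := Γ(X', ⊤)
    ε := (toΓ g).hom DualNumber.eps
    p :=
      { (fromΓ i).hom with
        commutes' := fun c => by
          change (fromΓ i).hom ((toΓ g).hom (algebraMap k (DualNumber k) c)) = algebraMap k B c
          rw [(datum_aux g i hsq).2.2.1]
          rfl }
    surj := (datum_aux g i hsq).1
    ker_eq := (datum_aux g i hsq).2.1
    sq := by
      rw [← map_mul, DualNumber.eps_mul_eps, map_zero]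
    ann := (datum_aux g i hsq).2.2.2 }

end DatumOf

end Groth.Agent.LibDefDual29
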