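import Groth.Agent.LibDefDual29a

/-!
# A first-order deformation datum is flat over the dual numbers (seat helper29)
-/

set_option autoImplicit false
universe u
open TensorProduct

namespace Groth.Agent.LibDefDual29

namespace Datum

variable {k B : Type u} [Field k] [CommRing B] [Algebra k B]

/-- the structure map `k[ε] → E` of a datum -/
noncomputable def φ (T : Datum k B) : DualNumber k →ₐ[k] T.E :=
  DualNumber.lift ⟨(Algebra.ofId k T.E, T.ε), T.sq, fun _ => Commute.all _ _⟩

lemma φ_eps (T : Datum k B) : T.φ DualNumber.eps = T.ε := DualNumber.lift_apply_eps _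

theorem flat (T : Datum k B) : T.φ.toRingHom.Flat := by
  letI : Algebra (DualNumber k) T.E := T.φ.toRingHom.toAlgebra
  haveI : IsScalarTower k (DualNumber k) T.E := ⟨fun c d x => by
    change T.φ (c • d) * x = c • (T.φ d * x)
    rw [map_smul, smul_mul_assoc]⟩
  change Module.Flat (DualNumber k) T.E
  obtain ⟨σ, hσ⟩ := T.p.toLinearMap.exists_rightInverse_of_surjective (LinearMap.range_eq_top.mpr T.surj)
  have hσ' : ∀ b, T.p (σ b) = b := fun b => LinearMap.congr_fun hσ b
  let Ψ : DualNumber k ⊗[k] B →ₗ[DualNumber k] T.E := σ.liftBaseChange (DualNumber k)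
  have hεsmul : ∀ x : T.E, (DualNumber.eps : DualNumber k) • x = T.ε * x := by
    intro x
    rw [Algebra.smul_def]
    change T.φ DualNumber.eps * x = _
    rw [φ_eps]
  have hdec : ∀ z : DualNumber k ⊗[k] B, ∃ b₁ b₂ : B,
      z = (1 : DualNumber k) ⊗ₜ[k] b₁ + (DualNumber.eps : DualNumber k) ⊗ₜ[k] b₂ := by
    intro z
    induction z using TensorProduct.induction_on with
    | zero => exact ⟨0, 0, by rw [TensorProduct.tmul_zero, TensorProduct.tmul_zero, add_zero]⟩
    | tmul d b =>
      refine ⟨d.fst • b, d.snd • b, ?_⟩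
      have hd : d = d.fst • (1 : DualNumber k) + d.snd • (DualNumber.eps : DualNumber k) := by
        rw [← DualNumber.inr_eq_smul_eps, ← Algebra.algebraMap_eq_smul_one, TrivSqZeroExt.algebraMap_eq_inl,
          TrivSqZeroExt.inl_fst_add_inr_snd_eq]
      conv_lhs => rw [hd]
      rw [TensorProduct.add_tmul, TensorProduct.smul_tmul, TensorProduct.smul_tmul]
    | add x y hx hy =>
      obtain ⟨b₁, b₂, rfl⟩ := hx
      obtain ⟨c₁, c₂, rfl⟩ := hy
      refine ⟨b₁ + c₁, b₂ + c₂, ?_⟩
      rw [TensorProduct.tmul_add, TensorProduct.tmul_add]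
      abel
  have hΨ : ∀ b₁ b₂ : B, Ψ ((1 : DualNumber k) ⊗ₜ[k] b₁ + (DualNumber.eps : DualNumber k) ⊗ₜ[k] b₂) =
      σ b₁ + T.ε * σ b₂ := by
    intro b₁ b₂
    rw [map_add, LinearMap.liftBaseChange_tmul, LinearMap.liftBaseChange_tmul, one_smul, hεsmul]
  have hbij : Function.Bijective Ψ := by
    constructor
    · rw [injective_iff_map_eq_zero]
      intro z hz
      obtain ⟨b₁, b₂, rfl⟩ := hdec z
      rw [hΨ] at hz
      have h1 : b₁ = 0 := by
        have := congrArg T.p hz
        rw [map_add, map_mul, T.p_eps, zero_mul, add_zero, hσ', map_zero] at this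
        exact this
      rw [h1, map_zero, zero_add] at hz
      have h2 : b₂ = 0 := by
        have := T.ann _ hz
        rw [hσ'] at this
        exact this
      rw [h1, h2, TensorProduct.tmul_zero, TensorProduct.tmul_zero, add_zero]
    · intro x
      have h1 : x - σ (T.p x) ∈ RingHom.ker T.p := by
        rw [RingHom.mem_ker, map_sub, hσ', sub_self]
      rw [T.ker_eq] at h1
      obtain ⟨c, hc⟩ := Ideal.mem_span_singleton'.mp h1
      refine ⟨(1 : DualNumber k) ⊗ₜ[k] T.p x + (DualNumber.eps : DualNumber k) ⊗ₜ[k] T.p c, ?_⟩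
      rw [hΨ, T.eps_mul_eq_of_p_eq (σ (T.p c)) c (hσ' _), mul_comm, hc]
      ring
  exact Module.Flat.of_linearEquiv (LinearEquiv.ofBijective Ψ hbij).symm

end Datum

end Groth.Agent.LibDefDual29
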