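import Groth.Agent.LibDefDual29c
import Groth.Agent.LibDefDual29e

/-!
# Isomorphisms of deformations over the dual numbers vs isomorphisms of data (seat helper29)
-/

set_option autoImplicit false
universe u
open CategoryTheory CategoryTheory.Limits AlgebraicGeometry

namespace Groth.Agent.LibDefDual29

open Groth.Agent.LibAffDef29

variable {k B : Type u} [Field k] [CommRing B] [Algebra k B]

section

variable {X' X'' : Scheme.{u}} (g : X' ⟶ Spec (CommRingCat.of (DualNumber k))) [Flat g]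
  (i : Spec (CommRingCat.of B) ⟶ X')
  (hsq : IsPullback i (Spec.map (CommRingCat.ofHom (algebraMap k B))) g
    (Spec.map (CommRingCat.ofHom (TrivSqZeroExt.fstHom k k k).toRingHom)))
  (g' : X'' ⟶ Spec (CommRingCat.of (DualNumber k))) [Flat g']
  (i' : Spec (CommRingCat.of B) ⟶ X'')
  (hsq' : IsPullback i' (Spec.map (CommRingCat.ofHom (algebraMap k B))) g'
    (Spec.map (CommRingCat.ofHom (TrivSqZeroExt.fstHom k k k).toRingHom)))

lemma toΓ_comp {R : Type u} [CommRing R] {Y Z : Scheme.{u}} (h : Y ⟶ Z) (f : Z ⟶ Spec (CommRingCat.of R)) :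
    toΓ (h ≫ f) = toΓ f ≫ h.appTop := by
  rw [toΓ, toΓ, Scheme.Hom.comp_appTop, Category.assoc]

/-- an isomorphism of deformations gives an isomorphism of data -/
theorem datum_iso_of_iso (θ : X' ≅ X'') (hθg : θ.hom ≫ g' = g) (hθi : i ≫ θ.hom = i') :
    Datum.Iso (datumOf g i hsq) (datumOf g' i' hsq') := by
  have h1 : θ.hom.appTop ≫ θ.inv.appTop = 𝟙 _ := by
    rw [← Scheme.Hom.comp_appTop, θ.inv_hom_id, Scheme.Hom.id_appTop]
  have h2 : θ.inv.appTop ≫ θ.hom.appTop = 𝟙 _ := by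
    rw [← Scheme.Hom.comp_appTop, θ.hom_inv_id, Scheme.Hom.id_appTop]
  let ψ₀ : Γ(X', ⊤) ≃+* Γ(X'', ⊤) :=
    RingEquiv.ofRingHom θ.inv.appTop.hom θ.hom.appTop.hom
      (by
        ext x
        exact congrArg (fun φ => φ.hom x) h1)
      (by
        ext x
        exact congrArg (fun φ => φ.hom x) h2)
  have hg : toΓ g ≫ θ.inv.appTop = toΓ g' := by
    rw [← toΓ_comp, ← hθg, Iso.inv_hom_id_assoc]
  have hi : θ.inv.appTop ≫ fromΓ i' = fromΓ i := by
    rw [← fromΓ_comp, ← hθi, Category.assoc, Iso.hom_inv_id, Category.comp_id]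
  refine ⟨AlgEquiv.ofRingEquiv (f := ψ₀) ?_, ?_, ?_⟩
  · intro c
    exact congrArg (fun φ => φ.hom (algebraMap k (DualNumber k) c)) hg
  · intro x
    exact congrArg (fun φ => φ.hom x) hi
  · exact congrArg (fun φ => φ.hom DualNumber.eps) hg

/-- an isomorphism of data gives an isomorphism of deformations -/
theorem iso_of_datum_iso (h : Datum.Iso (datumOf g i hsq) (datumOf g' i' hsq')) :
    ∃ θ : X' ≅ X'', θ.hom ≫ g' = g ∧ i ≫ θ.hom = i' := by
  obtain ⟨ψ, hψp, hψε⟩ := h
  obtain ⟨hX'aff, -, -, -, -⟩ := def_package (TrivSqZeroExt.fstHom k k k) g i 2 (ker_fstHom_sq k) hsq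
  obtain ⟨hX''aff, -, -, -, -⟩ := def_package (TrivSqZeroExt.fstHom k k k) g' i' 2 (ker_fstHom_sq k) hsq'
  -- the ring maps
  let ψr : Γ(X', ⊤) →+* Γ(X'', ⊤) := (ψ : (datumOf g i hsq).E →+* (datumOf g' i' hsq').E)
  let ψs : Γ(X'', ⊤) →+* Γ(X', ⊤) := (ψ.symm : (datumOf g' i' hsq').E →+* (datumOf g i hsq).E)
  have hrs : ψr.comp ψs = RingHom.id _ := by
    ext x
    exact ψ.apply_symm_apply x
  have hsr : ψs.comp ψr = RingHom.id _ := by
    ext x
    exact ψ.symm_apply_apply x
  have hg : toΓ g ≫ CommRingCat.ofHom ψr = toΓ g' := by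
    have h1 : ψr.comp (toΓ g).hom = (toΓ g').hom := by
      apply DualNumber.ringHom_ext
      · ext c
        exact ψ.commutes c
      · exact hψε
    exact CommRingCat.hom_ext h1
  have hg' : toΓ g' ≫ CommRingCat.ofHom ψs = toΓ g := by
    rw [← hg, Category.assoc, ← CommRingCat.ofHom_comp, hsr, CommRingCat.ofHom_id, Category.comp_id]
  have hi : CommRingCat.ofHom ψr ≫ fromΓ i' = fromΓ i := by
    ext x
    exact hψp x
  have hi' : CommRingCat.ofHom ψs ≫ fromΓ i = fromΓ i' := by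
    rw [← hi, ← Category.assoc, ← CommRingCat.ofHom_comp, hrs, CommRingCat.ofHom_id, Category.id_comp]
  have hSS : Spec.map (CommRingCat.ofHom ψs) ≫ Spec.map (CommRingCat.ofHom ψr) = 𝟙 _ := by
    rw [← Spec.map_comp, ← CommRingCat.ofHom_comp, hsr, CommRingCat.ofHom_id, Spec.map_id]
  have hSS' : Spec.map (CommRingCat.ofHom ψr) ≫ Spec.map (CommRingCat.ofHom ψs) = 𝟙 _ := by
    rw [← Spec.map_comp, ← CommRingCat.ofHom_comp, hrs, CommRingCat.ofHom_id, Spec.map_id]
  let θ : X' ≅ X'' :=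
    { hom := X'.isoSpec.hom ≫ Spec.map (CommRingCat.ofHom ψs) ≫ X''.isoSpec.inv
      inv := X''.isoSpec.hom ≫ Spec.map (CommRingCat.ofHom ψr) ≫ X'.isoSpec.inv
      hom_inv_id := by
        rw [Category.assoc, Category.assoc, Iso.inv_hom_id_assoc, reassoc_of% hSS, Iso.hom_inv_id]
      inv_hom_id := by
        rw [Category.assoc, Category.assoc, Iso.inv_hom_id_assoc, reassoc_of% hSS', Iso.hom_inv_id] }
  refine ⟨θ, ?_, ?_⟩
  · change (X'.isoSpec.hom ≫ Spec.map (CommRingCat.ofHom ψs) ≫ X''.isoSpec.inv) ≫ g' = g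
    rw [eq_isoSpec_hom_comp g', Category.assoc, Category.assoc, Iso.inv_hom_id_assoc, ← Spec.map_comp, hg']
    exact (eq_isoSpec_hom_comp g).symm
  · change i ≫ (X'.isoSpec.hom ≫ Spec.map (CommRingCat.ofHom ψs) ≫ X''.isoSpec.inv) = i'
    rw [← Category.assoc, comp_isoSpec_hom, ← Category.assoc, ← Spec.map_comp, hi', Iso.comp_inv_eq,
      comp_isoSpec_hom]

end

section Surj

lemma fromΓ_SpecMap {R S : Type u} [CommRing R] [CommRing S] (φ : CommRingCat.of R ⟶ CommRingCat.of S) :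
    fromΓ (Spec.map φ) = (Scheme.ΓSpecIso (CommRingCat.of R)).hom ≫ φ := by
  rw [fromΓ, Scheme.ΓSpecIso_naturality]

/-- every datum comes from a deformation of `Spec B` over the dual numbers -/
theorem exists_def_of_datum (T : Datum k B) :
    ∃ (X' : Scheme.{u}) (g : X' ⟶ Spec (CommRingCat.of (DualNumber k))) (_ : Flat g)
      (i : Spec (CommRingCat.of B) ⟶ X')
      (hsq : IsPullback i (Spec.map (CommRingCat.ofHom (algebraMap k B))) g
        (Spec.map (CommRingCat.ofHom (TrivSqZeroExt.fstHom k k k).toRingHom))),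
      Datum.Iso (datumOf g i hsq) T := by
  have hflat : Flat (Spec.map (CommRingCat.ofHom T.φ.toRingHom)) := Flat.SpecMap_iff.mpr T.flat
  have hpo : IsPushout (CommRingCat.ofHom T.φ.toRingHom)
      (CommRingCat.ofHom (TrivSqZeroExt.fstHom k k k).toRingHom)
      (CommRingCat.ofHom T.p.toRingHom) (CommRingCat.ofHom (algebraMap k B)) := by
    apply isPushout_of_surjective
    · ext d
      · change T.p (T.φ (algebraMap k (DualNumber k) d)) = algebraMap k B ((algebraMap k (DualNumber k) d).fst)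
        rw [AlgHom.commutes, AlgHom.commutes]
        rfl
      · change T.p (T.φ DualNumber.eps) = algebraMap k B (DualNumber.eps : DualNumber k).fst
        rw [T.φ_eps, T.p_eps, DualNumber.fst_eps, map_zero]
    · intro c
      exact ⟨algebraMap k (DualNumber k) c, rfl⟩
    · exact T.surj
    · change RingHom.ker T.p.toRingHom ≤ Ideal.map T.φ.toRingHom (RingHom.ker (TrivSqZeroExt.fstHom k k k).toRingHom)
      have h1 : RingHom.ker (TrivSqZeroExt.fstHom k k k).toRingHom = Ideal.span {(DualNumber.eps : DualNumber k)} :=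
        ker_fstHom k
      have h2 : RingHom.ker T.p.toRingHom = Ideal.span {T.ε} := T.ker_eq
      rw [h1, h2, Ideal.map_span, Set.image_singleton]
      change Ideal.span {T.ε} ≤ Ideal.span {T.φ DualNumber.eps}
      rw [T.φ_eps]
  have hsq := isPullback_SpecMap_of_isPushout _ _ _ _ hpo
  refine ⟨Spec (CommRingCat.of T.E), Spec.map (CommRingCat.ofHom T.φ.toRingHom), hflat,
    Spec.map (CommRingCat.ofHom T.p.toRingHom), hsq, ?_⟩
  have hg : toΓ (Spec.map (CommRingCat.ofHom T.φ.toRingHom)) ≫ (Scheme.ΓSpecIso (CommRingCat.of T.E)).hom =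
      CommRingCat.ofHom T.φ.toRingHom := toΓ_SpecMap_comp_ΓSpecIso' _
  have hi : fromΓ (Spec.map (CommRingCat.ofHom T.p.toRingHom)) =
      (Scheme.ΓSpecIso (CommRingCat.of T.E)).hom ≫ CommRingCat.ofHom T.p.toRingHom := fromΓ_SpecMap _
  let ψ₀ : Γ(Spec (CommRingCat.of T.E), ⊤) ≃+* T.E :=
    (Scheme.ΓSpecIso (CommRingCat.of T.E)).commRingCatIsoToRingEquiv
  refine ⟨AlgEquiv.ofRingEquiv (f := ψ₀) ?_, ?_, ?_⟩
  · intro c
    have h1 := congrArg (fun φ => φ.hom (algebraMap k (DualNumber k) c)) hg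
    exact h1.trans (T.φ.commutes c)
  · intro x
    exact (congrArg (fun φ => φ.hom x) hi).symm
  · have h1 := congrArg (fun φ => φ.hom (DualNumber.eps : DualNumber k)) hg
    exact h1.trans T.φ_eps

end Surj

end Groth.Agent.LibDefDual29
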