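import Groth.Agent.LibDefDual29d
import Groth.Agent.Lib.Helper15.NilFlat

/-!
# Deformations of an affine scheme over an Artinian base: the general ring-level dictionary (seat helper29)

For `ξ : ArtFun.DefSch (Spec B₀) _ A` the ring data are `Γ(ξ.total)`, `toΓ ξ.f : A → Γ(ξ.total)` and
`fromΓ ξ.i : Γ(ξ.total) → B₀`.
-/

set_option autoImplicit false
universe u
open CategoryTheory CategoryTheory.Limits AlgebraicGeometry

namespace Groth.Agent.LibDefRing29

open Groth.Agent.LibAffDef29 Groth.Agent.LibDefDual29 ArtFun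

lemma toΓ_comp_fromΓ_of_eq {R S : Type u} [CommRing R] [CommRing S] {Y : Scheme.{u}}
    (f : Spec (CommRingCat.of S) ⟶ Y) (h : Y ⟶ Spec (CommRingCat.of R))
    (φ : CommRingCat.of R ⟶ CommRingCat.of S) (hf : f ≫ h = Spec.map φ) :
    toΓ h ≫ fromΓ f = φ := by
  rw [toΓ_comp_fromΓ, hf, Scheme.ΓSpecIso_naturality, Iso.inv_hom_id_assoc]

/-- a cartesian square of affine schemes over `Spec`s of ring maps gives a pushout of rings -/
theorem isPushout_toΓ {R S T : Type u} [CommRing R] [CommRing S] [CommRing T]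
    (f : CommRingCat.of R ⟶ CommRingCat.of S) (g : CommRingCat.of R ⟶ CommRingCat.of T)
    {P : Scheme.{u}} [IsAffine P] (fst : P ⟶ Spec (CommRingCat.of S)) (snd : P ⟶ Spec (CommRingCat.of T))
    (h : IsPullback fst snd (Spec.map f) (Spec.map g)) :
    IsPushout f g (toΓ fst) (toΓ snd) := by
  apply isPushout_of_isPullback_SpecMap
  refine IsPullback.of_iso h P.isoSpec (Iso.refl _) (Iso.refl _) (Iso.refl _) ?_ ?_ ?_ ?_
  · rw [Iso.refl_hom, Category.comp_id]
    exact eq_isoSpec_hom_comp fst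
  · rw [Iso.refl_hom, Category.comp_id]
    exact eq_isoSpec_hom_comp snd
  · rw [Iso.refl_hom, Iso.refl_hom, Category.comp_id, Category.id_comp]
  · rw [Iso.refl_hom, Iso.refl_hom, Category.comp_id, Category.id_comp]

section

variable {k : Type u} [Field k] {B₀ : Type u} [CommRing B₀] [Algebra k B₀]

lemma exists_ker_res_pow (A : Art k k) : ∃ n : ℕ, (RingHom.ker A.res) ^ n = ⊥ := by
  have he : Function.Surjective A.res := A.res_surjective
  haveI hmax : (RingHom.ker A.res.toRingHom).IsMaximal :=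
    RingHom.ker_isMaximal_of_surjective A.res.toRingHom he
  have hkm : RingHom.ker A.res = IsLocalRing.maximalIdeal A := IsLocalRing.eq_maximalIdeal hmax
  obtain ⟨n, hn0⟩ : IsNilpotent (Ideal.jacobson (⊥ : Ideal A)) := IsArtinianRing.isNilpotent_jacobson_bot
  refine ⟨n, ?_⟩
  rw [hkm, ← IsLocalRing.jacobson_eq_maximalIdeal ⊥ bot_ne_top]
  exact hn0

variable {A : Art k k}
  (ξ : DefSch (Spec (CommRingCat.of B₀)) (Spec.map (CommRingCat.ofHom (algebraMap k B₀))) A)

/-- the ring-level package of a deformation -/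
theorem package :
    IsAffine ξ.total ∧ (toΓ ξ.f).hom.Flat ∧ Function.Surjective (fromΓ ξ.i).hom ∧
      RingHom.ker (fromΓ ξ.i).hom ≤ Ideal.map (toΓ ξ.f).hom (RingHom.ker A.res.toRingHom) ∧
      toΓ ξ.f ≫ fromΓ ξ.i =
        CommRingCat.ofHom A.res.toRingHom ≫ CommRingCat.ofHom (algebraMap k B₀) := by
  obtain ⟨n, hn⟩ := exists_ker_res_pow A
  haveI : Flat ξ.f := ξ.flat
  exact def_package A.res ξ.f ξ.i n hn ξ.isPullback

lemma isAffine_total : IsAffine ξ.total := (package ξ).1

variable (ξ' : DefSch (Spec (CommRingCat.of B₀)) (Spec.map (CommRingCat.ofHom (algebraMap k B₀))) A)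

/-- a compatible bijective ring map between the rings of global sections gives an isomorphism of deformations -/
theorem iso_of_ringHom (Φ : Γ(ξ'.total, ⊤) ⟶ Γ(ξ.total, ⊤)) (hΦ : Function.Bijective Φ.hom)
    (h1 : toΓ ξ'.f ≫ Φ = toΓ ξ.f) (h2 : Φ ≫ fromΓ ξ.i = fromΓ ξ'.i) : Nonempty (ξ.Iso ξ') := by
  haveI := isAffine_total ξ
  haveI := isAffine_total ξ'
  haveI : IsIso Φ := (ConcreteCategory.isIso_iff_bijective Φ).mpr hΦ
  let θ : ξ.total ≅ ξ'.total :=
    ξ.total.isoSpec ≪≫ Scheme.Spec.mapIso (asIso Φ).op ≪≫ ξ'.total.isoSpec.symm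
  have hθ : θ.hom = ξ.total.isoSpec.hom ≫ Spec.map Φ ≫ ξ'.total.isoSpec.inv := rfl
  refine ⟨⟨θ, ?_, ?_⟩⟩
  · rw [hθ, eq_isoSpec_hom_comp ξ'.f, Category.assoc, Category.assoc, Iso.inv_hom_id_assoc,
      ← Spec.map_comp, h1]
    exact (eq_isoSpec_hom_comp ξ.f).symm
  · rw [hθ, ← Category.assoc, comp_isoSpec_hom, ← Category.assoc, ← Spec.map_comp, h2, Iso.comp_inv_eq,
      comp_isoSpec_hom]

end

section BaseChange

variable {k : Type u} [Field k] {B₀ : Type u} [CommRing B₀] [Algebra k B₀]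
variable {A' A : Art k k}
  (ξ η : DefSch (Spec (CommRingCat.of B₀)) (Spec.map (CommRingCat.ofHom (algebraMap k B₀))) A')
  (p : A' ⟶ A)

/-- ring-level description of a base change along a surjection -/
theorem baseChange_package (hp : Function.Surjective p) :
    Function.Surjective (pullback.fst ξ.f (Art.specMap p)).appTop.hom ∧
      RingHom.ker (pullback.fst ξ.f (Art.specMap p)).appTop.hom ≤
        Ideal.map (toΓ ξ.f).hom (RingHom.ker p.toAlgHom.toRingHom) ∧
      (pullback.fst ξ.f (Art.specMap p)).appTop ≫ fromΓ (ξ.baseChange p).i = fromΓ ξ.i := by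
  haveI := isAffine_total ξ
  haveI : IsAffine (pullback ξ.f (Art.specMap p)) := isAffine_total (ξ.baseChange p)
  have hsq : IsPullback (pullback.fst ξ.f (Art.specMap p)) (pullback.snd ξ.f (Art.specMap p)) ξ.f
      (Spec.map (CommRingCat.ofHom p.toAlgHom.toRingHom)) := IsPullback.of_hasPullback _ _
  have hpo : IsPushout (toΓ ξ.f) (CommRingCat.ofHom p.toAlgHom.toRingHom)
      (pullback.fst ξ.f (Art.specMap p)).appTop (toΓ (pullback.snd ξ.f (Art.specMap p))) :=
    isPushout_rings p.toAlgHom.toRingHom (pullback.snd ξ.f (Art.specMap p)) ξ.f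
      (pullback.fst ξ.f (Art.specMap p)) hsq
  have hps : Function.Surjective (CommRingCat.ofHom p.toAlgHom.toRingHom).hom := hp
  haveI : IsClosedImmersion (pullback.fst ξ.f (Art.specMap p)) :=
    MorphismProperty.of_isPullback hsq.flip
      (IsClosedImmersion.spec_of_surjective (CommRingCat.ofHom p.toAlgHom.toRingHom) hp)
  have hk := ker_le_map_of_isPushout (toΓ ξ.f) (CommRingCat.ofHom p.toAlgHom.toRingHom)
      (pullback.fst ξ.f (Art.specMap p)).appTop (toΓ (pullback.snd ξ.f (Art.specMap p))) hpo hps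
  refine ⟨(IsClosedImmersion.isAffine_surjective_of_isAffine _).2, hk, ?_⟩
  rw [← fromΓ_comp]
  exact congrArg fromΓ (DefSch.baseChange_i_fst ξ p)

/-- ring-level content of an isomorphism between base changes along a surjection -/
theorem exists_ringHom_of_baseChange_iso (hp : Function.Surjective p)
    (θ : (η.baseChange p).Iso (ξ.baseChange p)) :
    ∃ (G : CommRingCat.{u}) (π : Γ(η.total, ⊤) ⟶ G) (χ : Γ(ξ.total, ⊤) ⟶ G)
      (pG : G ⟶ CommRingCat.of B₀),
      Function.Surjective π.hom ∧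
      RingHom.ker π.hom ≤ Ideal.map (toΓ η.f).hom (RingHom.ker p.toAlgHom.toRingHom) ∧
      toΓ ξ.f ≫ χ = toΓ η.f ≫ π ∧ π ≫ pG = fromΓ η.i ∧ χ ≫ pG = fromΓ ξ.i := by
  obtain ⟨h1, h2, h3⟩ := baseChange_package η p hp
  have e1 : θ.iso.hom ≫ pullback.fst ξ.f (Art.specMap p) ≫ ξ.f =
      pullback.fst η.f (Art.specMap p) ≫ η.f := by
    rw [pullback.condition, pullback.condition]
    have := θ.hom_f
    exact (Category.assoc _ _ _).symm.trans (congrArg (fun q => q ≫ Art.specMap p) this)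
  have e2 : (η.baseChange p).i ≫ θ.iso.hom ≫ pullback.fst ξ.f (Art.specMap p) = ξ.i := by
    have := θ.i_hom
    refine (Category.assoc _ _ _).symm.trans ?_
    refine (congrArg (fun q => q ≫ pullback.fst ξ.f (Art.specMap p)) this).trans ?_
    exact DefSch.baseChange_i_fst ξ p
  refine ⟨Γ((η.baseChange p).total, ⊤), (pullback.fst η.f (Art.specMap p)).appTop,
    (pullback.fst ξ.f (Art.specMap p)).appTop ≫ θ.iso.hom.appTop, fromΓ (η.baseChange p).i,
    h1, h2, ?_, h3, ?_⟩
  · rw [← Category.assoc, ← toΓ_comp, ← toΓ_comp, ← toΓ_comp]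
    exact congrArg toΓ e1
  · rw [Category.assoc, ← fromΓ_comp, ← fromΓ_comp]
    exact congrArg fromΓ e2

end BaseChange

section Bij

variable {A E E' B₀ : Type u} [CommRing A] [CommRing E] [CommRing E'] [CommRing B₀]
  [Algebra A E] [Algebra A E'] [Module.Flat A E']

/-- a compatible map between flat deformations over a nilpotent base is bijective -/
theorem bijective_of_compat (I : Ideal A) (n : ℕ) (hn : I ^ n = ⊥)
    (p : E →+* B₀) (p' : E' →+* B₀) (hp : Function.Surjective p)
    (hker : RingHom.ker p ≤ I.map (algebraMap A E)) (hker' : RingHom.ker p' ≤ I.map (algebraMap A E'))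
    (Φ : E →ₐ[A] E') (h : ∀ v, p' (Φ v) = p v) : Function.Bijective Φ := by
  refine Groth.Agent.Lib.helper15.NilFlat.bijective_of_flat_of_nilpotent I n hn
    Φ.toLinearMap (p : E →+ B₀) (p' : E' →+ B₀) h hp ?_ ?_
  · intro v hv
    rw [Ideal.smul_top_eq_map]
    exact hker hv
  · intro v hv
    rw [Ideal.smul_top_eq_map]
    exact hker' hv

end Bij

end Groth.Agent.LibDefRing29
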