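import Groth.Agent.LibLift29e

/-!
# Deformations of an affine scheme over an Artinian base, mixed characteristic version (seat helper29)

Copies of `LibDefDual29.def_package`, `LibDefRing29.package`, `LibDefRing29.baseChange_package` and of the
scheme ↔ ring dictionary for extensions `LibLift29.exists_lift_of_ring` with `Art Λ k` in place of `Art k k`.
-/

set_option autoImplicit false
universe u
open CategoryTheory CategoryTheory.Limits AlgebraicGeometry

namespace Groth.Agent.LibDefRingL29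

open Groth.Agent.LibAffDef29 Groth.Agent.LibDefDual29 ArtFun
open Groth.Agent.LibDefRing29 (toΓ_comp_fromΓ_of_eq isPushout_toΓ)
open Groth.Agent.LibLift29 (toΓ_comp_SpecMap bijective_appTop_inv appTop_isoSpec_conj)

section Package

variable {k : Type u} [Field k] {A : Type u} [CommRing A] {B₀ : Type u} [CommRing B₀] [Algebra k B₀]
  (e : A →+* k) {X' : Scheme.{u}} (g : X' ⟶ Spec (CommRingCat.of A)) (i : Spec (CommRingCat.of B₀) ⟶ X')

/-- the ring-level package of a deformation of `Spec B₀` over `A` -/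
theorem def_package (he : Function.Surjective e) (n : ℕ) (hn : (RingHom.ker e) ^ n = ⊥) [Flat g]
    (hsq : IsPullback i (Spec.map (CommRingCat.ofHom (algebraMap k B₀))) g
      (Spec.map (CommRingCat.ofHom e))) :
    IsAffine X' ∧ (toΓ g).hom.Flat ∧ Function.Surjective (fromΓ i).hom ∧
      RingHom.ker (fromΓ i).hom ≤ Ideal.map (toΓ g).hom (RingHom.ker e) ∧
      toΓ g ≫ fromΓ i = CommRingCat.ofHom e ≫ CommRingCat.ofHom (algebraMap k B₀) := by
  set hX : Spec (CommRingCat.of B₀) ⟶ Spec (CommRingCat.of k) :=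
    Spec.map (CommRingCat.ofHom (algebraMap k B₀)) with hXdef
  have hnil : RingHom.ker e ≤ nilradical A := by
    intro x hx
    have h1 : x ^ n ∈ (RingHom.ker e) ^ n := Ideal.pow_mem_pow hx n
    rw [hn] at h1
    exact ⟨n, h1⟩
  haveI : IsAffine X' := isAffine_total e hX g i hsq he hnil
  have hpo := isPushout_rings e hX g i hsq
  have hflat : (toΓ g).hom.Flat := by
    have h1 : g.appTop.hom.Flat := Scheme.Hom.flat_appTop g
    have h2 : (Scheme.ΓSpecIso (CommRingCat.of A)).inv.hom.Flat :=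
      RingHom.Flat.of_bijective (ConcreteCategory.bijective_of_isIso _)
    exact RingHom.Flat.comp h2 h1
  have hγinj : Function.Injective (Scheme.ΓSpecIso (CommRingCat.of B₀)).hom.hom :=
    (ConcreteCategory.bijective_of_isIso (Scheme.ΓSpecIso (CommRingCat.of B₀)).hom).1
  have hγsurj : Function.Surjective (Scheme.ΓSpecIso (CommRingCat.of B₀)).hom.hom :=
    (ConcreteCategory.bijective_of_isIso (Scheme.ΓSpecIso (CommRingCat.of B₀)).hom).2
  haveI := isClosedImmersion_i e hX g i hsq he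
  have hker0 : RingHom.ker i.appTop.hom ≤
      Ideal.map (toΓ g).hom (RingHom.ker (CommRingCat.ofHom e).hom) :=
    ker_le_map_of_isPushout (toΓ g) (CommRingCat.ofHom e) i.appTop (toΓ hX) hpo he
  refine ⟨inferInstance, hflat, ?_, ?_, ?_⟩
  · intro b
    obtain ⟨y, hy⟩ := hγsurj b
    obtain ⟨x, hx⟩ := (IsClosedImmersion.isAffine_surjective_of_isAffine i).2 y
    refine ⟨x, ?_⟩
    change (Scheme.ΓSpecIso (CommRingCat.of B₀)).hom.hom (i.appTop.hom x) = b
    rw [hx, hy]
  · intro x hx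
    have hx' : x ∈ RingHom.ker i.appTop.hom := by
      rw [RingHom.mem_ker] at hx ⊢
      apply hγinj
      rw [map_zero]
      exact hx
    exact hker0 hx'
  · rw [fromΓ, ← Category.assoc, hpo.w, Category.assoc]
    congr 1
    exact toΓ_SpecMap_comp_ΓSpecIso' _

end Package

section

variable {Λ k : Type u} [CommRing Λ] [Field k] [Algebra Λ k] {B₀ : Type u} [CommRing B₀] [Algebra k B₀]

lemma exists_ker_res_pow (A : Art Λ k) : ∃ n : ℕ, (RingHom.ker A.res) ^ n = ⊥ := by
  have he : Function.Surjective A.res := A.res_surjective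
  haveI hmax : (RingHom.ker A.res.toRingHom).IsMaximal :=
    RingHom.ker_isMaximal_of_surjective A.res.toRingHom he
  have hkm : RingHom.ker A.res = IsLocalRing.maximalIdeal A := IsLocalRing.eq_maximalIdeal hmax
  obtain ⟨n, hn0⟩ : IsNilpotent (Ideal.jacobson (⊥ : Ideal A)) := IsArtinianRing.isNilpotent_jacobson_bot
  refine ⟨n, ?_⟩
  rw [hkm, ← IsLocalRing.jacobson_eq_maximalIdeal ⊥ bot_ne_top]
  exact hn0

variable {A : Art Λ k}
  (ξ : DefSch (Spec (CommRingCat.of B₀)) (Spec.map (CommRingCat.ofHom (algebraMap k B₀))) A)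

/-- the ring-level package of a deformation -/
theorem package :
    IsAffine ξ.total ∧ (toΓ ξ.f).hom.Flat ∧ Function.Surjective (fromΓ ξ.i).hom ∧
      RingHom.ker (fromΓ ξ.i).hom ≤ Ideal.map (toΓ ξ.f).hom (RingHom.ker A.res.toRingHom) ∧
      toΓ ξ.f ≫ fromΓ ξ.i =
        CommRingCat.ofHom A.res.toRingHom ≫ CommRingCat.ofHom (algebraMap k B₀) := by
  obtain ⟨n, hn⟩ := exists_ker_res_pow A
  haveI : Flat ξ.f := ξ.flat
  exact def_package A.res.toRingHom ξ.f ξ.i A.res_surjective n hn ξ.isPullback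

lemma isAffine_total : IsAffine ξ.total := (package ξ).1

end

section BaseChange

variable {Λ k : Type u} [CommRing Λ] [Field k] [Algebra Λ k] {B₀ : Type u} [CommRing B₀] [Algebra k B₀]
variable {A' A : Art Λ k}
  (ξ η : DefSch (Spec (CommRingCat.of B₀)) (Spec.map (CommRingCat.ofHom (algebraMap k B₀))) A')
  (p : A' ⟶ A)

/-- ring-level description of a base change along a surjection -/
theorem baseChange_package (hp : Function.Surjective p.toAlgHom) :
    Function.Surjective (pullback.fst ξ.f (Art.specMap p)).appTop.hom ∧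
      RingHom.ker (pullback.fst ξ.f (Art.specMap p)).appTop.hom ≤
        Ideal.map (toΓ ξ.f).hom (RingHom.ker p.toAlgHom.toRingHom) ∧
      (pullback.fst ξ.f (Art.specMap p)).appTop ≫ fromΓ (ξ.baseChange p).i = fromΓ ξ.i := by
  haveI := isAffine_total ξ
  haveI : IsAffine (pullback ξ.f (Art.specMap p)) := isAffine_total (ξ.baseChange p)
  have hsq : IsPullback (pullback.fst ξ.f (Art.specMap p)) (pullback.snd ξ.f (Art.specMap p)) ξ.f
      (Spec.map (CommRingCat.ofHom p.toAlgHom.toRingHom)) := IsPullback.of_hasPullback _ _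
  have hpo : IsPushout (toΓ ξ.f) (CommRingCat.ofHom p.toAlgHom.toRingHom)
      (pullback.fst ξ.f (Art.specMap p)).appTop (toΓ (pullback.snd ξ.f (Art.specMap p))) :=
    isPushout_rings p.toAlgHom.toRingHom (pullback.snd ξ.f (Art.specMap p)) ξ.f
      (pullback.fst ξ.f (Art.specMap p)) hsq
  have hps : Function.Surjective (CommRingCat.ofHom p.toAlgHom.toRingHom).hom := hp
  haveI : IsClosedImmersion (pullback.fst ξ.f (Art.specMap p)) :=
    MorphismProperty.of_isPullback hsq.flip
      (IsClosedImmersion.spec_of_surjective (CommRingCat.ofHom p.toAlgHom.toRingHom) hp)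
  have hk := ker_le_map_of_isPushout (toΓ ξ.f) (CommRingCat.ofHom p.toAlgHom.toRingHom)
      (pullback.fst ξ.f (Art.specMap p)).appTop (toΓ (pullback.snd ξ.f (Art.specMap p))) hpo hps
  refine ⟨(IsClosedImmersion.isAffine_surjective_of_isAffine _).2, hk, ?_⟩
  rw [← fromΓ_comp]
  exact congrArg fromΓ (DefSch.baseChange_i_fst ξ p)

end BaseChange

section Lifts

variable {Λ k : Type u} [CommRing Λ] [Field k] [Algebra Λ k] {B₀ : Type u} [CommRing B₀] [Algebra k B₀]
variable {C' C : Art Λ k} (p : C' ⟶ C)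
  (𝒳 : DefSch (Spec (CommRingCat.of B₀)) (Spec.map (CommRingCat.ofHom (algebraMap k B₀))) C)

/-- extensions of `𝒳` over `C'` -/
abbrev Lifts : Type (u + 1) :=
  Σ 𝒳' : DefSch (Spec (CommRingCat.of B₀)) (Spec.map (CommRingCat.ofHom (algebraMap k B₀))) C',
    (𝒳'.baseChange p).Iso 𝒳

variable {p 𝒳}

/-- the surjection `Γ(𝒳') → Γ(𝒳)` of an extension -/
noncomputable def βs (s : Lifts p 𝒳) : Γ(s.1.total, ⊤) ⟶ Γ(𝒳.total, ⊤) :=
  (pullback.fst s.1.f (Art.specMap p)).appTop ≫ s.2.iso.inv.appTop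

lemma toΓ_βs (s : Lifts p 𝒳) :
    toΓ s.1.f ≫ βs s = CommRingCat.ofHom p.toAlgHom.toRingHom ≫ toΓ 𝒳.f := by
  have h1 : s.2.iso.inv ≫ pullback.snd s.1.f (Art.specMap p) = 𝒳.f := s.2.symm.hom_f
  rw [βs, ← Scheme.Hom.comp_appTop, ← toΓ_comp, Category.assoc, pullback.condition, ← Category.assoc, h1]
  exact toΓ_comp_SpecMap _ _

lemma βs_fromΓ (hp : Function.Surjective p.toAlgHom) (s : Lifts p 𝒳) : βs s ≫ fromΓ 𝒳.i = fromΓ s.1.i := by
  obtain ⟨-, -, h3⟩ := baseChange_package s.1 p hp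
  have h1 : (s.1.baseChange p).i ≫ s.2.iso.hom = 𝒳.i := s.2.i_hom
  rw [βs, Category.assoc, ← fromΓ_comp, ← h1, Category.assoc, Iso.hom_inv_id, Category.comp_id]
  exact h3

lemma βs_surjective (hp : Function.Surjective p.toAlgHom) (s : Lifts p 𝒳) : Function.Surjective (βs s).hom := by
  obtain ⟨h1, -, -⟩ := baseChange_package s.1 p hp
  have h2 : Function.Bijective s.2.iso.inv.appTop.hom := bijective_appTop_inv s.2.iso
  rw [βs, CommRingCat.hom_comp]
  exact h2.2.comp h1

lemma ker_βs_le (hp : Function.Surjective p.toAlgHom) (s : Lifts p 𝒳) :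
    RingHom.ker (βs s).hom ≤ Ideal.map (toΓ s.1.f).hom (RingHom.ker p.toAlgHom.toRingHom) := by
  obtain ⟨-, h2, -⟩ := baseChange_package s.1 p hp
  have h3 : Function.Bijective s.2.iso.inv.appTop.hom := bijective_appTop_inv s.2.iso
  refine le_trans ?_ h2
  intro x hx
  rw [RingHom.mem_ker] at hx ⊢
  apply h3.1
  rw [map_zero]
  exact hx

variable (𝒳) in
/-- a flat ring-level lift of `Γ(𝒳)` comes from an extension of `𝒳` -/
theorem exists_lift_of_ring (hp : Function.Surjective p.toAlgHom) (E : Type u) [CommRing E] (φ : C' →+* E)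
    (hflat : φ.Flat) (β : E →+* Γ(𝒳.total, ⊤)) (hβ : Function.Surjective β)
    (hker : RingHom.ker β ≤ Ideal.map φ (RingHom.ker p.toAlgHom.toRingHom))
    (hcompat : β.comp φ = (toΓ 𝒳.f).hom.comp p.toAlgHom.toRingHom) :
    ∃ (s : Lifts p 𝒳) (e : Γ(s.1.total, ⊤) ≃+* E),
      (∀ c, e ((toΓ s.1.f).hom c) = φ c) ∧ (∀ x, β (e x) = (βs s).hom x) := by
  haveI := isAffine_total 𝒳
  obtain ⟨-, -, hπsurj, hπker, hπcompat⟩ := package 𝒳
  set π : Γ(𝒳.total, ⊤) →+* B₀ := (fromΓ 𝒳.i).hom with hπ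
  have hres : ∀ c : C', C.res (p.toAlgHom c) = C'.res c := fun c => congrArg (fun g => g c) p.res_comp
  -- the closed fibre square
  have hw : ∀ c : C', π (β (φ c)) = algebraMap k B₀ (C'.res c) := by
    intro c
    have h1 : β (φ c) = (toΓ 𝒳.f).hom (p.toAlgHom c) := congrArg (fun g => g c) hcompat
    have h2 := congrArg (fun g => g.hom (p.toAlgHom c)) hπcompat
    rw [h1, ← hres]
    exact h2
  have hkerπβ : RingHom.ker (π.comp β) ≤ Ideal.map φ (RingHom.ker C'.res.toRingHom) := by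
    intro x hx
    have hx' : β x ∈ RingHom.ker π := hx
    have h1 := hπker hx'
    have h2 : Ideal.map (toΓ 𝒳.f).hom (RingHom.ker C.res.toRingHom) ≤
        Ideal.map β (Ideal.map φ (RingHom.ker C'.res.toRingHom)) := by
      rw [Ideal.map_map, Ideal.map_le_iff_le_comap]
      intro c hc
      obtain ⟨c', rfl⟩ := hp c
      rw [Ideal.mem_comap]
      have h3 : (toΓ 𝒳.f).hom (p.toAlgHom c') = (β.comp φ) c' := (congrArg (fun g => g c') hcompat).symm
      change (toΓ 𝒳.f).hom (p.toAlgHom c') ∈ _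
      rw [h3]
      apply Ideal.mem_map_of_mem
      rw [RingHom.mem_ker] at hc ⊢
      exact (hres c').symm.trans hc
    obtain ⟨y, hy, hyx⟩ := (Ideal.mem_map_iff_of_surjective β hβ).mp (h2 h1)
    have h4 : x - y ∈ RingHom.ker β := by
      rw [RingHom.mem_ker, map_sub, sub_eq_zero]
      exact hyx.symm
    have h5 : Ideal.map φ (RingHom.ker p.toAlgHom.toRingHom) ≤ Ideal.map φ (RingHom.ker C'.res.toRingHom) := by
      apply Ideal.map_mono
      intro c hc
      rw [RingHom.mem_ker] at hc ⊢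
      change C'.res c = 0
      rw [← hres]
      change C.res (p.toAlgHom.toRingHom c) = 0
      rw [hc, map_zero]
    have h6 := Ideal.add_mem _ (h5 (hker h4)) hy
    rwa [sub_add_cancel] at h6
  have hpo : IsPushout (CommRingCat.ofHom φ) (CommRingCat.ofHom C'.res.toRingHom)
      (CommRingCat.ofHom (π.comp β)) (CommRingCat.ofHom (algebraMap k B₀)) := by
    apply isPushout_of_surjective
    · ext c
      exact hw c
    · exact C'.res_surjective
    · exact hπsurj.comp hβ
    · exact hkerπβ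
  have hsq := isPullback_SpecMap_of_isPushout _ _ _ _ hpo
  let 𝒳' : DefSch (Spec (CommRingCat.of B₀)) (Spec.map (CommRingCat.ofHom (algebraMap k B₀))) C' :=
    { total := Spec (CommRingCat.of E)
      f := Spec.map (CommRingCat.ofHom φ)
      flat := Flat.SpecMap_iff.mpr hflat
      i := Spec.map (CommRingCat.ofHom (π.comp β))
      isPullback := hsq }
  -- the base change square
  have hpo2 : IsPushout (CommRingCat.ofHom φ) (CommRingCat.ofHom p.toAlgHom.toRingHom)
      (CommRingCat.ofHom β) (toΓ 𝒳.f) := by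
    apply isPushout_of_surjective
    · ext c
      exact congrArg (fun g => g c) hcompat
    · exact hp
    · exact hβ
    · exact hker
  have hsq2 := isPullback_SpecMap_of_isPushout _ _ _ _ hpo2
  let g : 𝒳.total ⟶ Spec (CommRingCat.of E) := 𝒳.total.isoSpec.hom ≫ Spec.map (CommRingCat.ofHom β)
  have hbig : IsPullback g 𝒳.f (Spec.map (CommRingCat.ofHom φ)) (Art.specMap p) := by
    refine IsPullback.of_iso hsq2 𝒳.total.isoSpec.symm (Iso.refl _) (Iso.refl _) (Iso.refl _) ?_ ?_ ?_ ?_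
    · rw [Iso.refl_hom, Category.comp_id, Iso.symm_hom]
      exact (Iso.inv_hom_id_assoc _ _).symm
    · rw [Iso.refl_hom, Category.comp_id, Iso.symm_hom, Iso.eq_inv_comp]
      exact (eq_isoSpec_hom_comp 𝒳.f).symm
    · rw [Iso.refl_hom, Iso.refl_hom, Category.comp_id, Category.id_comp]
    · rw [Iso.refl_hom, Iso.refl_hom, Category.comp_id, Category.id_comp]
  let θ : pullback 𝒳'.f (Art.specMap p) ≅ 𝒳.total :=
    (IsPullback.of_hasPullback 𝒳'.f (Art.specMap p)).isoIsPullback _ _ hbig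
  have hθfst : θ.hom ≫ g = pullback.fst 𝒳'.f (Art.specMap p) :=
    IsPullback.isoIsPullback_hom_fst _ _ (IsPullback.of_hasPullback 𝒳'.f (Art.specMap p)) hbig
  have hθsnd : θ.hom ≫ 𝒳.f = pullback.snd 𝒳'.f (Art.specMap p) :=
    IsPullback.isoIsPullback_hom_snd _ _ (IsPullback.of_hasPullback 𝒳'.f (Art.specMap p)) hbig
  have hig : 𝒳.i ≫ g = 𝒳'.i := by
    change 𝒳.i ≫ 𝒳.total.isoSpec.hom ≫ Spec.map (CommRingCat.ofHom β) = Spec.map (CommRingCat.ofHom (π.comp β))
    rw [← Category.assoc, comp_isoSpec_hom, ← Spec.map_comp]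
    rfl
  let ι : (𝒳'.baseChange p).Iso 𝒳 :=
    { iso := θ
      hom_f := hθsnd
      i_hom := by
        apply hbig.hom_ext
        · rw [Category.assoc, hθfst, DefSch.baseChange_i_fst, hig]
        · rw [Category.assoc, hθsnd]
          exact (DefSch.baseChange_i_f 𝒳' p).trans (DefSch.i_f 𝒳).symm }
  refine ⟨⟨𝒳', ι⟩, (Scheme.ΓSpecIso (CommRingCat.of E)).commRingCatIsoToRingEquiv, ?_, ?_⟩
  · intro c
    have h1 : toΓ (Spec.map (CommRingCat.ofHom φ)) ≫ (Scheme.ΓSpecIso (CommRingCat.of E)).hom =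
        CommRingCat.ofHom φ := toΓ_SpecMap_comp_ΓSpecIso' _
    exact congrArg (fun g => g.hom c) h1
  · intro x
    have h1 : βs (⟨𝒳', ι⟩ : Lifts p 𝒳) = (Scheme.ΓSpecIso (CommRingCat.of E)).hom ≫ CommRingCat.ofHom β := by
      have h2 : θ.inv ≫ pullback.fst 𝒳'.f (Art.specMap p) = g := by
        rw [← hθfst, Iso.inv_hom_id_assoc]
      change (pullback.fst 𝒳'.f (Art.specMap p)).appTop ≫ θ.inv.appTop = _
      rw [← Scheme.Hom.comp_appTop, h2]
      change (𝒳.total.isoSpec.hom ≫ Spec.map (CommRingCat.ofHom β)).appTop = _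
      rw [Scheme.Hom.comp_appTop]
      have h3 : 𝒳.total.isoSpec.hom.appTop = (Scheme.ΓSpecIso Γ(𝒳.total, ⊤)).hom := 𝒳.total.toSpecΓ_appTop
      rw [h3]
      exact Scheme.ΓSpecIso_naturality (CommRingCat.ofHom β)
    exact (congrArg (fun g => g.hom x) h1).symm

end Lifts

end Groth.Agent.LibDefRingL29
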