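import Groth.Prelude.Def_DiffOp
import Mathlib.RingTheory.Kaehler.Basic
import Mathlib.RingTheory.TensorProduct.Basic
import Mathlib.Algebra.BigOperators.Group.Finset.Basic
import Mathlib.Algebra.BigOperators.Group.Finset.Powerset

/-!
# Commutator calculus for differential operators (`Diff16.IsDiffOpLE`)

Helper library by helper29.
-/

set_option autoImplicit false
universe u v

namespace Groth.Agent.LibDiff29

open Diff16
open scoped TensorProduct

section basic

variable {A B : Type u} [CommRing A] [CommRing B] [Algebra A B]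
variable {M N P : Type v} [AddCommGroup M] [Module A M] [Module B M] [IsScalarTower A B M]
  [AddCommGroup N] [Module A N] [Module B N] [IsScalarTower A B N]
  [AddCommGroup P] [Module A P] [Module B P] [IsScalarTower A B P]

@[simp] lemma commutator_apply (D : M →ₗ[A] N) (b : B) (m : M) :
    commutator A B M N D b m = D (b • m) - b • D m := by
  simp [Diff16.commutator]

lemma isDiffOpLE_zero_iff (D : M →ₗ[A] N) :
    IsDiffOpLE A B M N 0 D ↔ ∀ (b : B) (m : M), D (b • m) = b • D m := Iff.rfl

lemma isDiffOpLE_succ_iff (n : ℕ) (D : M →ₗ[A] N) :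
    IsDiffOpLE A B M N (n + 1) D ↔ ∀ b : B, IsDiffOpLE A B M N n (commutator A B M N D b) :=
  Iff.rfl

lemma commutator_add (D D' : M →ₗ[A] N) (b : B) :
    commutator A B M N (D + D') b = commutator A B M N D b + commutator A B M N D' b := by
  ext m; simp [smul_add]; abel

lemma commutator_zero (b : B) : commutator A B M N (0 : M →ₗ[A] N) b = 0 := by
  ext m; simp

lemma commutator_neg (D : M →ₗ[A] N) (b : B) :
    commutator A B M N (-D) b = - commutator A B M N D b := by
  ext m; simp [smul_neg]; abel

lemma commutator_sub (D D' : M →ₗ[A] N) (b : B) :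
    commutator A B M N (D - D') b = commutator A B M N D b - commutator A B M N D' b := by
  ext m; simp [smul_sub]; abel

lemma commutator_comp (D : M →ₗ[A] N) (D' : N →ₗ[A] P) (b : B) :
    commutator A B M P (D' ∘ₗ D) b =
      commutator A B N P D' b ∘ₗ D + D' ∘ₗ commutator A B M N D b := by
  ext m; simp

lemma commutator_eq_zero_of_zero {D : M →ₗ[A] N} (h : IsDiffOpLE A B M N 0 D) (b : B) :
    commutator A B M N D b = 0 := by
  ext m; simp [(isDiffOpLE_zero_iff D).1 h b m]

lemma isDiffOpLE_zero' (n : ℕ) : IsDiffOpLE A B M N n (0 : M →ₗ[A] N) := by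
  induction n with
  | zero => intro b m; simp
  | succ n ih => intro b; rw [commutator_zero]; exact ih

lemma isDiffOpLE_add {n : ℕ} {D D' : M →ₗ[A] N} (h : IsDiffOpLE A B M N n D)
    (h' : IsDiffOpLE A B M N n D') : IsDiffOpLE A B M N n (D + D') := by
  induction n generalizing D D' with
  | zero =>
    intro b m
    simp [(isDiffOpLE_zero_iff D).1 h b m, (isDiffOpLE_zero_iff D').1 h' b m]
  | succ n ih =>
    intro b
    rw [commutator_add]
    exact ih (h b) (h' b)

lemma isDiffOpLE_neg {n : ℕ} {D : M →ₗ[A] N} (h : IsDiffOpLE A B M N n D) :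
    IsDiffOpLE A B M N n (-D) := by
  induction n generalizing D with
  | zero =>
    intro b m
    simp [(isDiffOpLE_zero_iff D).1 h b m]
  | succ n ih =>
    intro b
    rw [commutator_neg]
    exact ih (h b)

lemma isDiffOpLE_sub {n : ℕ} {D D' : M →ₗ[A] N} (h : IsDiffOpLE A B M N n D)
    (h' : IsDiffOpLE A B M N n D') : IsDiffOpLE A B M N n (D - D') := by
  rw [sub_eq_add_neg]; exact isDiffOpLE_add h (isDiffOpLE_neg h')

lemma isDiffOpLE_succ {n : ℕ} {D : M →ₗ[A] N} (h : IsDiffOpLE A B M N n D) :
    IsDiffOpLE A B M N (n + 1) D := by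
  induction n generalizing D with
  | zero =>
    intro b
    rw [commutator_eq_zero_of_zero h]
    exact isDiffOpLE_zero' 0
  | succ n ih =>
    intro b
    exact ih (h b)

lemma isDiffOpLE_of_le {n m : ℕ} (hnm : n ≤ m) {D : M →ₗ[A] N} (h : IsDiffOpLE A B M N n D) :
    IsDiffOpLE A B M N m D := by
  induction hnm with
  | refl => exact h
  | step _ ih => exact isDiffOpLE_succ ih

/-- composition of differential operators -/
theorem isDiffOpLE_comp {n n' : ℕ} {D : M →ₗ[A] N} {D' : N →ₗ[A] P}
    (hD : IsDiffOpLE A B M N n D) (hD' : IsDiffOpLE A B N P n' D') :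
    IsDiffOpLE A B M P (n + n') (D' ∘ₗ D) := by
  obtain ⟨k, hk⟩ : ∃ k, n + n' = k := ⟨_, rfl⟩
  induction k generalizing n n' D D' with
  | zero =>
    have hn : n = 0 := by omega
    have hn' : n' = 0 := by omega
    subst hn hn'
    intro b m
    simp [(isDiffOpLE_zero_iff D).1 hD b m, (isDiffOpLE_zero_iff D').1 hD' b]
  | succ k ih =>
    rw [hk]
    intro b
    rw [commutator_comp]
    refine isDiffOpLE_add ?_ ?_
    · cases n' with
      | zero =>
        rw [commutator_eq_zero_of_zero hD', LinearMap.zero_comp]
        exact isDiffOpLE_zero' k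
      | succ m' =>
        have := ih hD (hD' b) (by omega)
        rwa [show n + m' = k by omega] at this
    · cases n with
      | zero =>
        rw [commutator_eq_zero_of_zero hD, LinearMap.comp_zero]
        exact isDiffOpLE_zero' k
      | succ m =>
        have := ih (hD b) hD' (by omega)
        rwa [show m + n' = k by omega] at this

end basic

end Groth.Agent.LibDiff29
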