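import Groth.Agent.LibDiff29

/-!
# Differential operators: generators, alternating sums, linearisation
-/

set_option autoImplicit false
universe u v

namespace Groth.Agent.LibDiff29

open Diff16
open scoped TensorProduct

section gens

variable {A B : Type u} [CommRing A] [CommRing B] [Algebra A B]
variable {M N : Type v} [AddCommGroup M] [Module A M] [Module B M] [IsScalarTower A B M]
  [AddCommGroup N] [Module A N] [Module B N] [IsScalarTower A B N]

variable (A M) in
/-- multiplication by `b` as an `A`-linear map -/
noncomputable abbrev mulL (b : B) : M →ₗ[A] M := (LinearMap.lsmul B M b).restrictScalars A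

lemma mulL_apply (b : B) (m : M) : mulL A M b m = b • m := rfl

lemma isDiffOpLE_mulL (b : B) : IsDiffOpLE A B M M 0 (mulL A M b) := by
  intro c m
  simp only [mulL_apply]
  rw [smul_comm]

lemma isDiffOpLE_comp_mulL {n : ℕ} {D : M →ₗ[A] N} (h : IsDiffOpLE A B M N n D) (b : B) :
    IsDiffOpLE A B M N n (D ∘ₗ mulL A M b) := by
  have := isDiffOpLE_comp (isDiffOpLE_mulL (A := A) (M := M) b) h
  simpa using this

lemma isDiffOpLE_mulL_comp {n : ℕ} {D : M →ₗ[A] N} (h : IsDiffOpLE A B M N n D) (b : B) :
    IsDiffOpLE A B M N n (mulL A N b ∘ₗ D) := by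
  have := isDiffOpLE_comp h (isDiffOpLE_mulL (A := A) (M := N) b)
  simpa using this

lemma commutator_algebraMap (D : M →ₗ[A] N) (a : A) :
    commutator A B M N D (algebraMap A B a) = 0 := by
  ext m
  simp [algebraMap_smul]

lemma commutator_add_right (D : M →ₗ[A] N) (b b' : B) :
    commutator A B M N D (b + b') = commutator A B M N D b + commutator A B M N D b' := by
  ext m
  simp [add_smul]
  abel

lemma commutator_mul_right (D : M →ₗ[A] N) (b b' : B) :
    commutator A B M N D (b * b') =
      commutator A B M N D b ∘ₗ mulL A M b' + mulL A N b ∘ₗ commutator A B M N D b' := by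
  ext m
  simp [mul_smul, smul_sub]

/-- S2797 -/
theorem isDiffOpLE_succ_of_gens (s : Set B) (hs : Algebra.adjoin A s = ⊤) (n : ℕ) (D : M →ₗ[A] N)
    (hD : ∀ g ∈ s, IsDiffOpLE A B M N n (commutator A B M N D g)) :
    IsDiffOpLE A B M N (n + 1) D := by
  intro b
  have hb : b ∈ Algebra.adjoin A s := by rw [hs]; trivial
  induction hb using Algebra.adjoin_induction with
  | mem x hx => exact hD x hx
  | algebraMap a => rw [commutator_algebraMap]; exact isDiffOpLE_zero' n
  | add x y _ _ hx hy => rw [commutator_add_right]; exact isDiffOpLE_add hx hy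
  | mul x y _ _ hx hy =>
    rw [commutator_mul_right]
    exact isDiffOpLE_add (isDiffOpLE_comp_mulL hx y) (isDiffOpLE_mulL_comp hy x)

end gens

end Groth.Agent.LibDiff29
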