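import Groth.Agent.LibDiff29b

/-!
# Differential operators: alternating sums
-/

set_option autoImplicit false
set_option linter.unusedSectionVars false
universe u v

namespace Groth.Agent.LibDiff29

open Diff16
open scoped TensorProduct

section alt

variable {A B : Type u} [CommRing A] [CommRing B] [Algebra A B]
variable {M N : Type v} [AddCommGroup M] [Module A M] [Module B M] [IsScalarTower A B M]
  [AddCommGroup N] [Module A N] [Module B N] [IsScalarTower A B N]
variable {ι : Type*} [DecidableEq ι]

/-- the alternating sum attached to a finite family of scalars -/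
noncomputable def alt (D : M →ₗ[A] N) (b : ι → B) (s : Finset ι) (t : M) : N :=
  ∑ H ∈ s.powerset, ((-1 : ℤ) ^ H.card) • ((∏ i ∈ H, b i) • D ((∏ i ∈ s \ H, b i) • t))

lemma alt_empty (D : M →ₗ[A] N) (b : ι → B) (t : M) : alt D b ∅ t = D t := by
  simp [alt]

lemma alt_insert (D : M →ₗ[A] N) (b : ι → B) (s : Finset ι) (j : ι) (hj : j ∉ s) (t : M) :
    alt D b (insert j s) t = alt (commutator A B M N D (b j)) b s t := by
  unfold alt
  rw [Finset.sum_powerset_insert hj, ← Finset.sum_add_distrib]
  refine Finset.sum_congr rfl fun H hH => ?_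
  have hHs : H ⊆ s := Finset.mem_powerset.1 hH
  have hjH : j ∉ H := fun h => hj (hHs h)
  have h1 : insert j s \ H = insert j (s \ H) := by
    rw [Finset.insert_sdiff_of_notMem _ hjH]
  have h2 : insert j s \ insert j H = s \ H := by
    ext x
    simp only [Finset.mem_sdiff, Finset.mem_insert]
    constructor
    · rintro ⟨h | h, h'⟩
      · exact absurd (Or.inl h) h'
      · exact ⟨h, fun hx => h' (Or.inr hx)⟩
    · rintro ⟨h, h'⟩
      refine ⟨Or.inr h, ?_⟩
      rintro (rfl | hx)
      · exact hj h
      · exact h' hx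
  have hj' : j ∉ s \ H := fun h => hj (Finset.mem_sdiff.1 h).1
  rw [h1, h2, Finset.prod_insert hj', Finset.prod_insert hjH, Finset.card_insert_of_notMem hjH,
    commutator_apply, smul_sub, smul_sub, pow_succ, mul_neg_one, neg_smul, mul_smul, mul_smul,
    sub_eq_add_neg]
  congr 2
  rw [smul_comm (∏ i ∈ H, b i) (b j)]

lemma alt_congr (D : M →ₗ[A] N) (b b' : ι → B) (s : Finset ι) (h : ∀ i ∈ s, b i = b' i) (t : M) :
    alt D b s t = alt D b' s t := by
  unfold alt
  refine Finset.sum_congr rfl fun H hH => ?_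
  have hHs : H ⊆ s := Finset.mem_powerset.1 hH
  rw [Finset.prod_congr rfl (fun i hi => h i (hHs hi)),
    Finset.prod_congr rfl (fun i hi => h i (Finset.mem_sdiff.1 hi).1)]

lemma alt_eq_zero_of_isDiffOpLE (n : ℕ) (D : M →ₗ[A] N) (h : IsDiffOpLE A B M N n D)
    (b : ι → B) (s : Finset ι) (hs : s.card = n + 1) (t : M) : alt D b s t = 0 := by
  induction n generalizing D s with
  | zero =>
    obtain ⟨j, rfl⟩ := Finset.card_eq_one.1 hs
    rw [show ({j} : Finset ι) = insert j ∅ from rfl, alt_insert _ _ _ _ (Finset.notMem_empty j),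
      alt_empty, commutator_apply, (isDiffOpLE_zero_iff D).1 h, sub_self]
  | succ n ih =>
    have hne : s.Nonempty := Finset.card_pos.1 (by omega)
    obtain ⟨j, hj⟩ := hne
    rw [← Finset.insert_erase hj, alt_insert _ _ _ _ (Finset.notMem_erase j s)]
    exact ih _ (h (b j)) _ (by rw [Finset.card_erase_of_mem hj]; omega)

lemma isDiffOpLE_of_alt_eq_zero (n : ℕ) (D : M →ₗ[A] N) (s : Finset ι) (hs : s.card = n + 1)
    (h : ∀ (b : ι → B) (t : M), alt D b s t = 0) : IsDiffOpLE A B M N n D := by
  induction n generalizing D s with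
  | zero =>
    obtain ⟨j, rfl⟩ := Finset.card_eq_one.1 hs
    intro c m
    have := h (fun _ => c) m
    rw [show ({j} : Finset ι) = insert j ∅ from rfl, alt_insert _ _ _ _ (Finset.notMem_empty j),
      alt_empty, commutator_apply, sub_eq_zero] at this
    exact this
  | succ n ih =>
    have hne : s.Nonempty := Finset.card_pos.1 (by omega)
    obtain ⟨j, hj⟩ := hne
    intro c
    refine ih _ (s.erase j) (by rw [Finset.card_erase_of_mem hj]; omega) ?_
    intro b t
    have := h (Function.update b j c) t
    rw [← Finset.insert_erase hj, alt_insert _ _ _ _ (Finset.notMem_erase j s),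
      Function.update_self] at this
    rw [← this]
    refine alt_congr _ _ _ _ (fun i hi => ?_) t
    rw [Function.update_of_ne (Finset.ne_of_mem_erase hi)]

/-- S2798 -/
theorem isDiffOpLE_iff_alt (n : ℕ) (D : M →ₗ[A] N) :
    IsDiffOpLE A B M N n D ↔
      ∀ (b : Fin (n + 1) → B) (t : M),
        ∑ H : Finset (Fin (n + 1)), ((-1 : ℤ) ^ H.card) • ((∏ i ∈ H, b i) • D ((∏ i ∈ Hᶜ, b i) • t)) = 0 := by
  have key : ∀ (b : Fin (n + 1) → B) (t : M),
      ∑ H : Finset (Fin (n + 1)), ((-1 : ℤ) ^ H.card) • ((∏ i ∈ H, b i) • D ((∏ i ∈ Hᶜ, b i) • t))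
        = alt D b Finset.univ t := by
    intro b t
    unfold alt
    rw [Finset.powerset_univ]
    refine Finset.sum_congr rfl fun H _ => ?_
    rw [Finset.compl_eq_univ_sdiff]
  constructor
  · intro h b t
    rw [key]
    exact alt_eq_zero_of_isDiffOpLE n D h b _ (by simp) t
  · intro h
    refine isDiffOpLE_of_alt_eq_zero n D (Finset.univ : Finset (Fin (n + 1))) (by simp) ?_
    intro b t
    rw [← key]
    exact h b t

end alt

end Groth.Agent.LibDiff29
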