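import Groth.Agent.LibDiff29c

/-!
# Differential operators: linearisation and powers of the diagonal ideal
-/

set_option autoImplicit false
set_option linter.unusedSectionVars false
universe u v

namespace Groth.Agent.LibDiff29

open Diff16
open scoped TensorProduct

section lin

variable {A B : Type u} [CommRing A] [CommRing B] [Algebra A B]
variable {M N : Type v} [AddCommGroup M] [Module A M] [Module B M] [IsScalarTower A B M]
  [AddCommGroup N] [Module A N] [Module B N] [IsScalarTower A B N]

@[simp] lemma linearize_tmul (D : M →ₗ[A] N) (b : B) (m : M) :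
    linearize A B M N D (b ⊗ₜ[A] m) = b • D m := by
  simp [linearize]

end lin

section linB

variable {A B : Type u} [CommRing A] [CommRing B] [Algebra A B]
variable {N : Type u} [AddCommGroup N] [Module A N] [Module B N] [IsScalarTower A B N]

/-- the generator `1 ⊗ c - c ⊗ 1` of the diagonal ideal -/
noncomputable abbrev dgen (c : B) : B ⊗[A] B := (1 : B) ⊗ₜ[A] c - c ⊗ₜ[A] (1 : B)

lemma dgen_mem (c : B) : dgen (A := A) c ∈ KaehlerDifferential.ideal A B :=
  KaehlerDifferential.one_smul_sub_smul_one_mem_ideal A c

lemma linearize_dgen_mul (D : B →ₗ[A] N) (c : B) (x : B ⊗[A] B) :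
    linearize A B B N D (dgen c * x) = linearize A B B N (commutator A B B N D c) x := by
  induction x using TensorProduct.induction_on with
  | zero => simp
  | tmul b m =>
    simp only [dgen, sub_mul, Algebra.TensorProduct.tmul_mul_tmul, one_mul, map_sub,
      linearize_tmul, commutator_apply, smul_eq_mul, smul_sub, mul_smul]
    rw [smul_comm b c]
  | add x y hx hy => rw [mul_add, map_add, map_add, hx, hy]

lemma linearize_eq_of_zero (D : B →ₗ[A] N) (h : IsDiffOpLE A B B N 0 D) (x : B ⊗[A] B) :
    linearize A B B N D x = D (Algebra.TensorProduct.lmul' A x) := by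
  induction x using TensorProduct.induction_on with
  | zero => simp
  | tmul b m =>
    rw [linearize_tmul, Algebra.TensorProduct.lmul'_apply_tmul, ← smul_eq_mul, (isDiffOpLE_zero_iff D).1 h]
  | add x y hx hy => rw [map_add, map_add, map_add, hx, hy]

lemma linearize_eq_zero_of_isDiffOpLE (n : ℕ) (D : B →ₗ[A] N) (h : IsDiffOpLE A B B N n D)
    (x : B ⊗[A] B) (hx : x ∈ (KaehlerDifferential.ideal A B) ^ (n + 1)) :
    linearize A B B N D x = 0 := by
  induction n generalizing D x with
  | zero =>
    rw [zero_add, pow_one] at hx
    rw [linearize_eq_of_zero D h]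
    have : Algebra.TensorProduct.lmul' A x = 0 := hx
    rw [this, map_zero]
  | succ n ih =>
    rw [pow_succ'] at hx
    refine Submodule.mul_induction_on hx ?_ ?_
    · intro y hy x' hx'
      rw [← KaehlerDifferential.span_range_eq_ideal] at hy
      revert x'
      induction hy using Submodule.span_induction with
      | mem y hy =>
        obtain ⟨c, rfl⟩ := hy
        intro x' hx'
        change linearize A B B N D (dgen c * x') = 0
        rw [linearize_dgen_mul]
        exact ih _ (h c) x' hx'
      | zero => intro x' _; simp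
      | add y z _ _ hy hz => intro x' hx'; rw [add_mul, map_add, hy x' hx', hz x' hx', add_zero]
      | smul z y _ hy =>
        intro x' hx'
        rw [smul_eq_mul, mul_assoc, mul_left_comm]
        exact hy _ (Ideal.mul_mem_left _ z hx')
    · intro x y hx hy
      rw [map_add, hx, hy, add_zero]

lemma isDiffOpLE_of_linearize_eq_zero (n : ℕ) (D : B →ₗ[A] N)
    (h : ∀ x ∈ (KaehlerDifferential.ideal A B) ^ (n + 1), linearize A B B N D x = 0) :
    IsDiffOpLE A B B N n D := by
  induction n generalizing D with
  | zero =>
    intro b m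
    have hx : (1 : B) ⊗ₜ[A] (b * m) - b ⊗ₜ[A] m ∈ (KaehlerDifferential.ideal A B) ^ (0 + 1) := by
      rw [zero_add, pow_one]
      change Algebra.TensorProduct.lmul' A _ = 0
      rw [map_sub, Algebra.TensorProduct.lmul'_apply_tmul, Algebra.TensorProduct.lmul'_apply_tmul, one_mul, sub_self]
    have := h _ hx
    rw [map_sub, linearize_tmul, linearize_tmul, one_smul, sub_eq_zero] at this
    rw [smul_eq_mul]
    exact this
  | succ n ih =>
    intro c
    refine ih _ ?_
    intro x hx
    rw [← linearize_dgen_mul]
    refine h _ ?_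
    rw [pow_succ']
    exact Ideal.mul_mem_mul (dgen_mem c) hx

/-- S2796 -/
theorem isDiffOpLE_iff_linearize (n : ℕ) (D : B →ₗ[A] N) :
    IsDiffOpLE A B B N n D ↔
      ∀ x ∈ (KaehlerDifferential.ideal A B) ^ (n + 1), linearize A B B N D x = 0 :=
  ⟨fun h x hx => linearize_eq_zero_of_isDiffOpLE n D h x hx, isDiffOpLE_of_linearize_eq_zero n D⟩

end linB

end Groth.Agent.LibDiff29
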