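import Groth.Agent.LibDiff29d
import Mathlib.RingTheory.MvPolynomial.Basic

/-!
# Differential operators are determined by their values on monomials in coordinates
-/

set_option autoImplicit false
set_option linter.unusedSectionVars false
universe u v

namespace Groth.Agent.LibDiff29

open Diff16
open scoped TensorProduct

section coords

variable {A B : Type u} [CommRing A] [CommRing B] [Algebra A B]
variable {N : Type u} [AddCommGroup N] [Module A N] [Module B N] [IsScalarTower A B N]
variable {n : ℕ} (z : Fin n → B)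

local notation "I" => KaehlerDifferential.ideal A B

/-- `B ⊗ A[X₁..Xₙ] → B ⊗ B` -/
noncomputable def phi : B ⊗[A] MvPolynomial (Fin n) A →ₐ[B] B ⊗[A] B :=
  Algebra.TensorProduct.map (AlgHom.id B B) (MvPolynomial.aeval z)

/-- the `B`-subalgebra of `B ⊗ B` generated by the `1 ⊗ zᵢ` -/
noncomputable def W : Subalgebra B (B ⊗[A] B) := (phi (A := A) z).range

lemma phi_tmul (b : B) (f : MvPolynomial (Fin n) A) :
    phi (A := A) z (b ⊗ₜ f) = b ⊗ₜ[A] (MvPolynomial.aeval z f) := by
  simp [phi]

lemma linearize_phi (E : B →ₗ[A] N) (hE : ∀ q : Fin n → ℕ, E (∏ i, z i ^ q i) = 0)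
    (y : B ⊗[A] MvPolynomial (Fin n) A) : linearize A B B N E (phi (A := A) z y) = 0 := by
  have hf : ∀ f : MvPolynomial (Fin n) A, E (MvPolynomial.aeval z f) = 0 := by
    intro f
    induction f using MvPolynomial.induction_on' with
    | monomial q a =>
      rw [MvPolynomial.aeval_monomial, Algebra.algebraMap_eq_smul_one, smul_mul_assoc, one_mul,
        map_smul]
      have : (q.prod fun i k => z i ^ k) = ∏ i, z i ^ q i :=
        Finsupp.prod_fintype _ _ (fun i => pow_zero _)
      rw [this, hE, smul_zero]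
    | add f g hf hg => rw [map_add, map_add, hf, hg, add_zero]
  induction y using TensorProduct.induction_on with
  | zero => simp
  | tmul b f => rw [phi_tmul, linearize_tmul, hf, smul_zero]
  | add x y hx hy => rw [map_add, map_add, hx, hy, add_zero]

lemma linearize_W (E : B →ₗ[A] N) (hE : ∀ q : Fin n → ℕ, E (∏ i, z i ^ q i) = 0)
    (x : B ⊗[A] B) (hx : x ∈ W (A := A) z) : linearize A B B N E x = 0 := by
  obtain ⟨y, rfl⟩ := hx
  exact linearize_phi z E hE y

lemma tmul_one_mem_W (b : B) : b ⊗ₜ[A] (1 : B) ∈ W (A := A) z :=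
  ⟨b ⊗ₜ 1, by change phi (A := A) z (b ⊗ₜ 1) = _; rw [phi_tmul, map_one]⟩

lemma one_tmul_z_mem_W (i : Fin n) : (1 : B) ⊗ₜ[A] z i ∈ W (A := A) z :=
  ⟨1 ⊗ₜ MvPolynomial.X i, by change phi (A := A) z (1 ⊗ₜ MvPolynomial.X i) = _; rw [phi_tmul, MvPolynomial.aeval_X]⟩

lemma dgen_z_mem_W (i : Fin n) : dgen (A := A) (z i) ∈ W (A := A) z :=
  Subalgebra.sub_mem _ (one_tmul_z_mem_W z i) (tmul_one_mem_W z (z i))

lemma dgen_sub_mem_sq
    (hspan : Submodule.span B (Set.range fun i => KaehlerDifferential.D A B (z i)) = ⊤) (c : B) :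
    ∃ a : Fin n → B, dgen (A := A) c - ∑ i, a i • dgen (A := A) (z i) ∈ I ^ 2 := by
  have hc : KaehlerDifferential.D A B c ∈
      Submodule.span B (Set.range fun i => KaehlerDifferential.D A B (z i)) := by
    rw [hspan]; trivial
  obtain ⟨a, ha⟩ := (Submodule.mem_span_range_iff_exists_fun B).1 hc
  refine ⟨a, ?_⟩
  have : LinearMap.CompatibleSMul { x // x ∈ I } Ω[B⁄A] B (B ⊗[A] B) := inferInstance
  have h2 : (I).toCotangent (∑ i, a i • (⟨dgen (z i), dgen_mem (z i)⟩ : I)) =
      (I).toCotangent ⟨dgen c, dgen_mem c⟩ := by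
    rw [map_sum]
    rw [← KaehlerDifferential.D_apply, ← ha]
    refine Finset.sum_congr rfl fun i _ => ?_
    rw [KaehlerDifferential.D_apply]
    exact LinearMap.map_smul_of_tower (I).toCotangent (a i) _
  have h3 := (Ideal.toCotangent_eq _).1 h2.symm
  convert h3 using 1
  simp only [Submodule.coe_sum]
  rfl


variable (hspan : Submodule.span B (Set.range fun i => KaehlerDifferential.D A B (z i)) = ⊤)
include hspan

lemma ideal_le_W_sup_sq :
    (I).restrictScalars B ≤ (W (A := A) z).toSubmodule ⊔ (I ^ 2).restrictScalars B := by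
  rw [← KaehlerDifferential.submodule_span_range_eq_ideal, Submodule.span_le]
  rintro _ ⟨c, rfl⟩
  obtain ⟨a, ha⟩ := dgen_sub_mem_sq z hspan c
  have : (1 : B) ⊗ₜ[A] c - c ⊗ₜ[A] (1 : B) =
      (∑ i, a i • dgen (A := A) (z i)) + (dgen (A := A) c - ∑ i, a i • dgen (A := A) (z i)) := by
    simp [dgen]
  change (1 : B) ⊗ₜ[A] c - c ⊗ₜ[A] (1 : B) ∈ _
  rw [this]
  refine Submodule.add_mem_sup ?_ ha
  exact Submodule.sum_mem _ fun i _ => Submodule.smul_mem _ _ (dgen_z_mem_W z i)

lemma pow_le_W_sup_pow_succ (k : ℕ) :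
    (I ^ k).restrictScalars B ≤ (W (A := A) z).toSubmodule ⊔ (I ^ (k + 1)).restrictScalars B := by
  induction k with
  | zero =>
    intro x hx
    clear hx
    induction x using TensorProduct.induction_on with
    | zero => exact zero_mem _
    | tmul b c =>
      have : b ⊗ₜ[A] c = (b * c) ⊗ₜ[A] (1 : B) + b • dgen (A := A) c := by
        simp [dgen, smul_sub, TensorProduct.smul_tmul', mul_comm b c]
      rw [this]
      refine Submodule.add_mem_sup (tmul_one_mem_W z _) ?_
      rw [zero_add, pow_one]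
      exact Submodule.smul_mem ((I).restrictScalars B) b (dgen_mem c)
    | add x y hx hy => exact add_mem hx hy
  | succ k ih =>
    intro x hx
    rw [Submodule.restrictScalars_mem, pow_succ'] at hx
    refine Submodule.mul_induction_on hx ?_ ?_
    · intro y hy x' hx'
      obtain ⟨w, hw, a, ha, rfl⟩ := Submodule.mem_sup.1 (ideal_le_W_sup_sq z hspan hy)
      obtain ⟨w', hw', a', ha', rfl⟩ := Submodule.mem_sup.1 (ih hx')
      rw [Submodule.restrictScalars_mem] at ha ha'
      have hwI : w ∈ I := by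
        have h1 : w + a ∈ I := hy
        have h2 : a ∈ I := Ideal.pow_le_self (by norm_num) ha
        simpa using Ideal.sub_mem _ h1 h2
      have hx'I : w' + a' ∈ I ^ k := hx'
      have : (w + a) * (w' + a') = w * w' + (w * a' + a * (w' + a')) := by ring
      rw [this]
      refine Submodule.add_mem_sup (Subalgebra.mul_mem _ hw hw') ?_
      rw [Submodule.restrictScalars_mem]
      refine Ideal.add_mem _ ?_ ?_
      · have := Ideal.mul_mem_mul hwI ha'
        rwa [← pow_succ'] at this
      · have := Ideal.mul_mem_mul ha hx'I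
        rwa [← pow_add, show 2 + k = k + 1 + 1 by ring] at this
    · intro x y hx hy
      exact add_mem hx hy

lemma W_sup_pow_eq_top (k : ℕ) :
    (W (A := A) z).toSubmodule ⊔ (I ^ k).restrictScalars B = ⊤ := by
  induction k with
  | zero =>
    rw [pow_zero, Ideal.one_eq_top]
    rw [eq_top_iff]
    intro x _
    exact Submodule.mem_sup_right (by simp)
  | succ k ih =>
    rw [eq_top_iff, ← ih]
    refine sup_le le_sup_left ?_
    exact pow_le_W_sup_pow_succ z hspan k

/-- A differential operator of finite order vanishing on all monomials in the coordinates is zero. -/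
theorem eq_zero_of_monomials (m : ℕ) (E : B →ₗ[A] N) (hE : IsDiffOpLE A B B N m E)
    (hEz : ∀ q : Fin n → ℕ, E (∏ i, z i ^ q i) = 0) : E = 0 := by
  ext t
  have h1 : (1 : B) ⊗ₜ[A] t ∈ (W (A := A) z).toSubmodule ⊔ (I ^ (m + 1)).restrictScalars B := by
    rw [W_sup_pow_eq_top z hspan]; trivial
  obtain ⟨w, hw, a, ha, hwa⟩ := Submodule.mem_sup.1 h1
  have h2 : E t = linearize A B B N E ((1 : B) ⊗ₜ[A] t) := by rw [linearize_tmul, one_smul]
  rw [h2, ← hwa, map_add, linearize_W z E hEz w hw,
    linearize_eq_zero_of_isDiffOpLE m E hE a ha, add_zero]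
  rfl

end coords

end Groth.Agent.LibDiff29
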