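import Groth.Agent.LibDiff29e
import Mathlib.RingTheory.Smooth.Basic
import Mathlib.RingTheory.Kaehler.JacobiZariski
import Mathlib.RingTheory.Kaehler.Polynomial
import Mathlib.RingTheory.MvPolynomial.Ideal

set_option autoImplicit false
universe u
open scoped BigOperators TensorProduct
open Diff16

namespace Groth.Agent.LibDiff29


section step1
variable {A B : Type u} [CommRing A] [CommRing B] [Algebra A B]
variable {n : ℕ} (z : Fin n → B)

/-- Step 1: `B` is formally smooth over the polynomial ring `P = A[T₁..Tₙ]`, `Tᵢ ↦ zᵢ`. -/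
theorem formallySmooth_over_poly [Algebra.FormallySmooth A B]
    [Algebra (MvPolynomial (Fin n) A) B] [IsScalarTower A (MvPolynomial (Fin n) A) B]
    (hzalg : ∀ i, algebraMap (MvPolynomial (Fin n) A) B (MvPolynomial.X i) = z i)
    (b : Module.Basis (Fin n) B (KaehlerDifferential A B))
    (hb : ∀ i, b i = KaehlerDifferential.D A B (z i)) :
    Algebra.FormallySmooth (MvPolynomial (Fin n) A) B := by
  set P := MvPolynomial (Fin n) A
  -- the base change map is bijective
  let bP : Module.Basis (Fin n) B (B ⊗[P] Ω[P⁄A]) :=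
    (KaehlerDifferential.mvPolynomialBasis A (Fin n)).baseChange B
  have hmap : ∀ i, KaehlerDifferential.mapBaseChange A P B (bP i) = b i := by
    intro i
    simp only [bP, Module.Basis.baseChange_apply, KaehlerDifferential.mvPolynomialBasis_apply]
    erw [KaehlerDifferential.mapBaseChange_tmul]
    rw [one_smul, KaehlerDifferential.map_D, hzalg, hb]
  have heq : KaehlerDifferential.mapBaseChange A P B = (bP.equiv b (Equiv.refl _)).toLinearMap := by
    refine bP.ext fun i => ?_
    rw [hmap]; simp
  have hbij : Function.Bijective (KaehlerDifferential.mapBaseChange A P B) := by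
    rw [heq]; exact (bP.equiv b (Equiv.refl _)).bijective
  refine ⟨?_, ?_⟩
  · -- Ω[B/P] = 0
    have hsub : Subsingleton (Ω[B⁄P]) := by
      refine ⟨fun x y => ?_⟩
      have h0 : ∀ w : Ω[B⁄P], w = 0 := by
        intro w
        obtain ⟨w', rfl⟩ := KaehlerDifferential.map_surjective A P B w
        obtain ⟨w'', rfl⟩ := hbij.2 w'
        exact (KaehlerDifferential.exact_mapBaseChange_map A P B _).mpr ⟨w'', rfl⟩
      rw [h0 x, h0 y]
    infer_instance
  · refine ⟨fun x y => ?_⟩
    have h0 : ∀ w : Algebra.H1Cotangent P B, w = 0 := by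
      intro w
      have h1 : Algebra.H1Cotangent.δ A P B w = 0 := by
        apply hbij.1
        rw [map_zero]
        exact (Algebra.H1Cotangent.exact_δ_mapBaseChange A P B _).mpr ⟨w, rfl⟩
      obtain ⟨w', rfl⟩ := (Algebra.H1Cotangent.exact_map_δ A P B w).mp h1
      rw [Subsingleton.elim w' 0, map_zero]
    rw [h0 x, h0 y]

/-- Step 2: lifting along a nilpotent thickening with prescribed values on the `zᵢ`. -/
theorem exists_lift_coords [Algebra.FormallySmooth A B]
    (b : Module.Basis (Fin n) B (KaehlerDifferential A B))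
    (hb : ∀ i, b i = KaehlerDifferential.D A B (z i))
    {C : Type u} [CommRing C] [Algebra A C] (π : C →ₐ[A] B) (hπ : Function.Surjective π)
    (hnil : IsNilpotent (RingHom.ker (π : C →+* B))) (c : Fin n → C) (hc : ∀ i, π (c i) = z i) :
    ∃ τ : B →ₐ[A] C, (∀ x, π (τ x) = x) ∧ ∀ i, τ (z i) = c i := by
  let algPB : Algebra (MvPolynomial (Fin n) A) B := (MvPolynomial.aeval z).toRingHom.toAlgebra
  let algPC : Algebra (MvPolynomial (Fin n) A) C := (MvPolynomial.aeval c).toRingHom.toAlgebra
  have : IsScalarTower A (MvPolynomial (Fin n) A) B :=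
    IsScalarTower.of_algebraMap_eq fun a => ((MvPolynomial.aeval z).commutes a).symm
  have : IsScalarTower A (MvPolynomial (Fin n) A) C :=
    IsScalarTower.of_algebraMap_eq fun a => ((MvPolynomial.aeval c).commutes a).symm
  have hzalg : ∀ i, algebraMap (MvPolynomial (Fin n) A) B (MvPolynomial.X i) = z i := by
    intro i
    change MvPolynomial.aeval z (MvPolynomial.X i) = z i
    simp
  have hcalg : ∀ i, algebraMap (MvPolynomial (Fin n) A) C (MvPolynomial.X i) = c i := by
    intro i
    change MvPolynomial.aeval c (MvPolynomial.X i) = c i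
    simp
  have := formallySmooth_over_poly z hzalg b hb
  have hcomp : π.comp (MvPolynomial.aeval c) = MvPolynomial.aeval z := by
    apply MvPolynomial.algHom_ext
    intro i
    simp [hc]
  let π' : C →ₐ[MvPolynomial (Fin n) A] B :=
    { (π : C →+* B) with
      commutes' := fun f => by
        change π (MvPolynomial.aeval c f) = MvPolynomial.aeval z f
        rw [← hcomp]; rfl }
  have hπ' : Function.Surjective π' := hπ
  let τ' := Algebra.FormallySmooth.liftOfSurjective (AlgHom.id (MvPolynomial (Fin n) A) B) π' hπ' hnil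
  refine ⟨τ'.restrictScalars A, fun x => ?_, fun i => ?_⟩
  · exact Algebra.FormallySmooth.liftOfSurjective_apply
      (AlgHom.id (MvPolynomial (Fin n) A) B) π' hπ' hnil x
  · change τ' (z i) = c i
    rw [← hzalg, τ'.commutes, hcalg]

end step1

section step3
variable (A B : Type u) [CommRing A] [CommRing B] [Algebra A B]
variable (n m : ℕ)

/-- The truncated polynomial ring `B[ε₁..εₙ]/(ε)^{m+1}`. -/
abbrev Cm : Type u :=
  MvPolynomial (Fin n) B ⧸ (MvPolynomial.idealOfVars (Fin n) B) ^ (m + 1)

/-- The augmentation `Cm → B`. -/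
noncomputable def aug : Cm B n m →ₐ[A] B :=
  Ideal.Quotient.liftₐ _ ((MvPolynomial.aeval (fun _ : Fin n => (0 : B))).restrictScalars A)
    (by
      intro f hf
      rw [MvPolynomial.mem_pow_idealOfVars_iff'] at hf
      have := hf 0 (by simp)
      change MvPolynomial.aeval (fun _ : Fin n => (0 : B)) f = 0
      rw [MvPolynomial.aeval_zero' ] 
      simpa [MvPolynomial.constantCoeff_eq] using this)

lemma aug_mk (f : MvPolynomial (Fin n) B) :
    aug A B n m (Ideal.Quotient.mk _ f) = MvPolynomial.coeff 0 f := by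
  change MvPolynomial.aeval (fun _ : Fin n => (0 : B)) f = _
  rw [MvPolynomial.aeval_zero']
  simp [MvPolynomial.constantCoeff_eq]

lemma aug_surjective : Function.Surjective (aug A B n m) := by
  intro b
  refine ⟨Ideal.Quotient.mk _ (MvPolynomial.C b), ?_⟩
  rw [aug_mk]; simp

lemma aug_ker_nilpotent : IsNilpotent (RingHom.ker (aug A B n m : Cm B n m →+* B)) := by
  refine ⟨m + 1, ?_⟩
  have hle : RingHom.ker (aug A B n m : Cm B n m →+* B) ≤
      Ideal.map (Ideal.Quotient.mk _) (MvPolynomial.idealOfVars (Fin n) B) := by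
    intro x hx
    obtain ⟨f, rfl⟩ := Ideal.Quotient.mk_surjective x
    rw [RingHom.mem_ker] at hx
    change aug A B n m (Ideal.Quotient.mk _ f) = 0 at hx
    rw [aug_mk] at hx
    refine Ideal.mem_map_of_mem _ ?_
    have h1 := (MvPolynomial.mem_pow_idealOfVars_iff' (σ := Fin n) (R := B) 1 f).mpr ?_
    · simpa using h1
    · intro x hx1
      have : x = 0 := by
        have h2 : Finsupp.degree x = 0 := by omega
        exact (Finsupp.degree_eq_zero_iff x).mp h2
      rw [this, hx]
  rw [Ideal.zero_eq_bot, eq_bot_iff]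
  refine (Ideal.pow_right_mono hle (m + 1)).trans ?_
  rw [← Ideal.map_pow, Ideal.map_quotient_self]

/-- The coefficient functional `Cm → B` (for `degree p ≤ m`; zero otherwise). -/
noncomputable def cf (p : Fin n →₀ ℕ) : Cm B n m →ₗ[A] B :=
  if h : Finsupp.degree p ≤ m then
    (Submodule.liftQ (((MvPolynomial.idealOfVars (Fin n) B) ^ (m + 1)).restrictScalars A)
      ((MvPolynomial.lcoeff B p).restrictScalars A) (by
        intro f hf
        rw [Submodule.restrictScalars_mem, MvPolynomial.mem_pow_idealOfVars_iff'] at hf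
        exact hf p (by omega))) ∘ₗ
      (Submodule.Quotient.restrictScalarsEquiv A
        ((MvPolynomial.idealOfVars (Fin n) B) ^ (m + 1))).symm.toLinearMap
  else 0

lemma cf_mk (p : Fin n →₀ ℕ) (h : Finsupp.degree p ≤ m) (f : MvPolynomial (Fin n) B) :
    cf A B n m p (Ideal.Quotient.mk _ f) = MvPolynomial.coeff p f := by
  unfold cf
  rw [dif_pos h]
  rw [LinearMap.comp_apply, ← Ideal.Quotient.mk_eq_mk, LinearEquiv.coe_coe,
    Submodule.Quotient.restrictScalarsEquiv_symm_mk, Submodule.liftQ_apply]
  rfl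

lemma cf_zero_eq_aug (x : Cm B n m) : cf A B n m 0 x = aug A B n m x := by
  obtain ⟨f, rfl⟩ := Ideal.Quotient.mk_surjective x
  rw [cf_mk _ _ _ _ _ (by simp), aug_mk]

lemma cf_mul (p : Fin n →₀ ℕ) (h : Finsupp.degree p ≤ m) (x y : Cm B n m) :
    cf A B n m p (x * y) =
      ∑ k ∈ Finset.antidiagonal p, cf A B n m k.1 x * cf A B n m k.2 y := by
  obtain ⟨f, rfl⟩ := Ideal.Quotient.mk_surjective x
  obtain ⟨g, rfl⟩ := Ideal.Quotient.mk_surjective y
  rw [← map_mul, cf_mk _ _ _ _ _ h, MvPolynomial.coeff_mul]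
  refine Finset.sum_congr rfl fun k hk => ?_
  rw [Finset.mem_antidiagonal] at hk
  have h1 : Finsupp.degree k.1 ≤ m := by
    have := congrArg Finsupp.degree hk
    rw [map_add] at this
    omega
  have h2 : Finsupp.degree k.2 ≤ m := by
    have := congrArg Finsupp.degree hk
    rw [map_add] at this
    omega
  rw [cf_mk _ _ _ _ _ h1, cf_mk _ _ _ _ _ h2]

end step3

lemma coeff_prod_shift {B : Type u} [CommRing B] {n : ℕ} (z : Fin n → B) (q : Fin n → ℕ)
    (p : Fin n →₀ ℕ) :
    MvPolynomial.coeff p (∏ i, (MvPolynomial.C (z i) + MvPolynomial.X i) ^ (q i)) =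
      ((∏ i, Nat.choose (q i) (p i) : ℕ) : B) * ∏ i, z i ^ (q i - p i) := by
  classical
  have h1 : ∀ i, (MvPolynomial.C (z i) + MvPolynomial.X i : MvPolynomial (Fin n) B) ^ (q i) =
      ∑ j ∈ Finset.range (q i + 1), MvPolynomial.monomial (Finsupp.single i j)
        (((Nat.choose (q i) j : ℕ) : B) * (z i) ^ (q i - j)) := by
    intro i
    rw [add_comm, add_pow]
    refine Finset.sum_congr rfl fun j _ => ?_
    rw [MvPolynomial.X_pow_eq_monomial, ← MvPolynomial.C_pow, mul_comm (MvPolynomial.monomial _ _),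
      MvPolynomial.C_mul_monomial, mul_one, mul_comm, ← map_natCast (MvPolynomial.C (σ := Fin n) (R := B)),
      MvPolynomial.C_mul_monomial]
  simp_rw [h1]
  rw [Finset.prod_univ_sum, MvPolynomial.coeff_sum]
  have h2 : ∀ k : Fin n → ℕ,
      (∏ i, MvPolynomial.monomial (Finsupp.single i (k i))
        (((Nat.choose (q i) (k i) : ℕ) : B) * (z i) ^ (q i - k i))) =
      MvPolynomial.monomial (Finsupp.equivFunOnFinite.symm k)
        (∏ i, (((Nat.choose (q i) (k i) : ℕ) : B) * (z i) ^ (q i - k i))) := by
    intro k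
    rw [← MvPolynomial.monomial_sum_prod]
    have := Finsupp.univ_sum_single (Finsupp.equivFunOnFinite.symm k)
    simp only [Finsupp.equivFunOnFinite_symm_apply_apply] at this
    rw [this]
  simp_rw [h2, MvPolynomial.coeff_monomial]
  by_cases hp : ∀ i, p i ≤ q i
  · rw [Finset.sum_eq_single (⇑p)]
    · rw [if_pos (by ext i; simp), Finset.prod_mul_distrib, Nat.cast_prod]
    · intro k _ hk
      rw [if_neg]
      intro h
      apply hk
      rw [← h]; rfl
    · intro h
      exfalso; apply h
      simp only [Fintype.mem_piFinset, Finset.mem_range]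
      intro i; have := hp i; omega
  · push Not at hp
    obtain ⟨i, hi⟩ := hp
    rw [Finset.sum_eq_zero]
    · have : (∏ i, Nat.choose (q i) (p i)) = 0 := 
        Finset.prod_eq_zero (Finset.mem_univ i) (Nat.choose_eq_zero_of_lt hi)
      rw [this]; simp
    · intro k hk
      rw [if_neg]
      intro h
      simp only [Fintype.mem_piFinset, Finset.mem_range] at hk
      have := hk i
      rw [← h] at hi
      simp at hi
      omega

section step4
variable {A B : Type u} [CommRing A] [CommRing B] [Algebra A B]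
variable {n m : ℕ} (z : Fin n → B)

lemma isDiffOpLE_sum {ι : Type*} (s : Finset ι) (f : ι → (B →ₗ[A] B)) (k : ℕ)
    (h : ∀ i ∈ s, IsDiffOpLE A B B B k (f i)) : IsDiffOpLE A B B B k (∑ i ∈ s, f i) := by
  classical
  induction s using Finset.induction_on with
  | empty => simpa using isDiffOpLE_zero' (A := A) (B := B) (M := B) (N := B) k
  | insert a s ha ih =>
    rw [Finset.sum_insert ha]
    exact isDiffOpLE_add (h a (Finset.mem_insert_self a s))
      (ih fun i hi => h i (Finset.mem_insert_of_mem hi))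

variable (τ : B →ₐ[A] Cm B n m)

/-- The operators obtained from a Taylor map `τ`. -/
noncomputable def E (p : Fin n →₀ ℕ) : B →ₗ[A] B := cf A B n m p ∘ₗ τ.toLinearMap

lemma E_apply (p : Fin n →₀ ℕ) (x : B) : E τ p x = cf A B n m p (τ x) := rfl

lemma E_zero (hτ1 : ∀ x, aug A B n m (τ x) = x) : E τ 0 = LinearMap.id := by
  ext x
  rw [E_apply, cf_zero_eq_aug, hτ1]; rfl

lemma E_mul (p : Fin n →₀ ℕ) (h : Finsupp.degree p ≤ m) (x y : B) :
    E τ p (x * y) = ∑ k ∈ Finset.antidiagonal p, E τ k.1 x * E τ k.2 y := by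
  simp only [E_apply, map_mul]
  exact cf_mul A B n m p h _ _

lemma E_order (hτ1 : ∀ x, aug A B n m (τ x) = x) (k : ℕ) :
    ∀ p : Fin n →₀ ℕ, Finsupp.degree p = k → k ≤ m → IsDiffOpLE A B B B k (E τ p) := by
  classical
  induction k using Nat.strong_induction_on with
  | _ k ih =>
    intro p hp hk
    cases k with
    | zero =>
      have : p = 0 := (Finsupp.degree_eq_zero_iff p).mp hp
      subst this
      rw [E_zero τ hτ1]
      intro b c; simp
    | succ k =>
      rw [isDiffOpLE_succ_iff]
      intro b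
      have hmem : ((0 : Fin n →₀ ℕ), p) ∈ Finset.antidiagonal p := by simp
      have hcomm : Diff16.commutator A B B B (E τ p) b =
          ∑ x ∈ (Finset.antidiagonal p).erase (0, p), mulL A B (E τ x.1 b) ∘ₗ E τ x.2 := by
        ext c
        rw [commutator_apply, smul_eq_mul, smul_eq_mul, E_mul τ p (by omega),
          ← Finset.add_sum_erase _ _ hmem, E_zero τ hτ1, LinearMap.sum_apply]
        simp
      rw [hcomm]
      refine isDiffOpLE_sum _ _ _ fun x hx => ?_
      rw [Finset.mem_erase, Finset.mem_antidiagonal] at hx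
      obtain ⟨hx1, hx2⟩ := hx
      have hdeg : Finsupp.degree x.1 + Finsupp.degree x.2 = k + 1 := by
        rw [← map_add, hx2, hp]
      have hx1' : x.1 ≠ 0 := by
        intro h0
        apply hx1
        rw [h0, zero_add] at hx2
        exact Prod.ext h0 hx2
      have hd1 : Finsupp.degree x.1 ≠ 0 := fun h => hx1' ((Finsupp.degree_eq_zero_iff _).mp h)
      have h2 := ih (Finsupp.degree x.2) (by omega) x.2 rfl (by omega)
      exact isDiffOpLE_mulL_comp (isDiffOpLE_of_le (by omega) h2) _

lemma E_monomial (hτ2 : ∀ i, τ (z i) =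
      Ideal.Quotient.mk _ (MvPolynomial.C (z i) + MvPolynomial.X i))
    (p : Fin n →₀ ℕ) (h : Finsupp.degree p ≤ m) (q : Fin n → ℕ) :
    E τ p (∏ i, z i ^ q i) =
      ((∏ i, Nat.choose (q i) (p i) : ℕ) : B) * ∏ i, z i ^ (q i - p i) := by
  rw [E_apply, map_prod]
  simp_rw [map_pow, hτ2, ← map_pow]
  rw [← map_prod, cf_mk _ _ _ _ _ h, coeff_prod_shift]

end step4

end Groth.Agent.LibDiff29
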