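import Groth.Agent.LibDiff29f

/-!
# Differential operators and coordinates indexed by a finite type

Generalisation of `LibDiff29e` from `Fin n` to a finite index type, an order-reduction
criterion through commutators with the coordinates, and the functionals `lam`.
-/

set_option autoImplicit false
set_option linter.unusedSectionVars false
universe u v

namespace Groth.Agent.LibDiff29

open Diff16
open scoped TensorProduct BigOperators

section fintype

variable {A B : Type u} [CommRing A] [CommRing B] [Algebra A B]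
variable {N : Type u} [AddCommGroup N] [Module A N] [Module B N] [IsScalarTower A B N]
variable {ι : Type v} [Fintype ι] (z : ι → B)

local notation "I" => KaehlerDifferential.ideal A B

/-- A differential operator of finite order vanishing on all monomials in the coordinates is
zero (finite index type). -/
theorem eq_zero_of_monomials_fintype
    (hspan : Submodule.span B (Set.range fun i => KaehlerDifferential.D A B (z i)) = ⊤)
    (m : ℕ) (E : B →ₗ[A] N) (hE : IsDiffOpLE A B B N m E)
    (hEz : ∀ q : ι → ℕ, E (∏ i, z i ^ q i) = 0) : E = 0 := by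
  let e : ι ≃ Fin (Fintype.card ι) := Fintype.equivFin ι
  refine eq_zero_of_monomials (fun j => z (e.symm j)) ?_ m E hE ?_
  · rw [← hspan]
    congr 1
    ext x
    constructor
    · rintro ⟨j, rfl⟩; exact ⟨e.symm j, rfl⟩
    · rintro ⟨i, rfl⟩; exact ⟨e i, by simp⟩
  · intro q
    have := hEz (fun i => q (e i))
    rw [← this]
    congr 1
    exact (Fintype.prod_equiv e _ _ (fun i => by simp)).symm

lemma dgen_sub_mem_sq'
    (hspan : Submodule.span B (Set.range fun i => KaehlerDifferential.D A B (z i)) = ⊤) (c : B) :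
    ∃ a : ι → B, dgen (A := A) c - ∑ i, a i • dgen (A := A) (z i) ∈ I ^ 2 := by
  have hc : KaehlerDifferential.D A B c ∈
      Submodule.span B (Set.range fun i => KaehlerDifferential.D A B (z i)) := by
    rw [hspan]; trivial
  obtain ⟨a, ha⟩ := (Submodule.mem_span_range_iff_exists_fun B).1 hc
  refine ⟨a, ?_⟩
  have : LinearMap.CompatibleSMul { x // x ∈ I } Ω[B⁄A] B (B ⊗[A] B) := inferInstance
  have h2 : (I).toCotangent (∑ i, a i • (⟨dgen (z i), dgen_mem (z i)⟩ : I)) =
      (I).toCotangent ⟨dgen c, dgen_mem c⟩ := by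
    rw [map_sum]
    rw [← KaehlerDifferential.D_apply, ← ha]
    refine Finset.sum_congr rfl fun i _ => ?_
    rw [KaehlerDifferential.D_apply]
    exact LinearMap.map_smul_of_tower (I).toCotangent (a i) _
  have h3 := (Ideal.toCotangent_eq _).1 h2.symm
  convert h3 using 1
  simp only [Submodule.coe_sum]
  rfl

/-- The ideal of `B ⊗ B` generated by the `1 ⊗ zᵢ - zᵢ ⊗ 1`. -/
noncomputable def Zid : Ideal (B ⊗[A] B) := Ideal.span (Set.range fun i => dgen (A := A) (z i))

lemma ideal_le_Zid_sup_sq
    (hspan : Submodule.span B (Set.range fun i => KaehlerDifferential.D A B (z i)) = ⊤) :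
    I ≤ Zid (A := A) z ⊔ I ^ 2 := by
  refine le_trans (le_of_eq (KaehlerDifferential.span_range_eq_ideal A B).symm) (Ideal.span_le.2 ?_)
  rintro _ ⟨c, rfl⟩
  obtain ⟨a, ha⟩ := dgen_sub_mem_sq' z hspan c
  have : (1 : B) ⊗ₜ[A] c - c ⊗ₜ[A] (1 : B) =
      (∑ i, a i • dgen (A := A) (z i)) + (dgen (A := A) c - ∑ i, a i • dgen (A := A) (z i)) := by
    simp [dgen]
  change (1 : B) ⊗ₜ[A] c - c ⊗ₜ[A] (1 : B) ∈ _
  rw [this]
  refine Submodule.add_mem_sup ?_ ha
  refine Ideal.sum_mem _ fun i _ => ?_
  have h1 : a i • dgen (A := A) (z i) = (a i ⊗ₜ[A] (1 : B)) * dgen (A := A) (z i) := by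
    simp [dgen, mul_sub, smul_sub, TensorProduct.smul_tmul']
  rw [h1]
  exact Ideal.mul_mem_left _ _ (Ideal.subset_span ⟨i, rfl⟩)

lemma pow_le_Zid_mul_sup_pow
    (hspan : Submodule.span B (Set.range fun i => KaehlerDifferential.D A B (z i)) = ⊤)
    (n j : ℕ) : I ^ (n + 2) ≤ Zid (A := A) z * I ^ (n + 1) ⊔ I ^ (n + 2 + j) := by
  induction j with
  | zero => exact le_sup_right
  | succ j ih =>
    refine ih.trans (sup_le le_sup_left ?_)
    have h1 : I ^ (n + 2 + j) = I * I ^ (n + 1 + j) := by
      rw [← pow_succ']; congr 1; ring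
    rw [h1]
    refine (Ideal.mul_mono_left (ideal_le_Zid_sup_sq z hspan)).trans ?_
    rw [Ideal.sup_mul]
    refine sup_le_sup ?_ ?_
    · exact Ideal.mul_mono_right (Ideal.pow_le_pow_right (by omega))
    · rw [← pow_add]
      exact Ideal.pow_le_pow_right (by omega)

lemma linearize_Zid_mul (n : ℕ) (D : B →ₗ[A] N)
    (h : ∀ i, IsDiffOpLE A B B N n (commutator A B B N D (z i)))
    (x : B ⊗[A] B) (hx : x ∈ Zid (A := A) z * I ^ (n + 1)) :
    linearize A B B N D x = 0 := by
  refine Submodule.mul_induction_on hx ?_ ?_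
  · intro y hy x' hx'
    revert x'
    refine Submodule.span_induction (p := fun y _ => ∀ x' ∈ I ^ (n + 1),
      linearize A B B N D (y * x') = 0) ?_ ?_ ?_ ?_ hy
    · rintro _ ⟨i, rfl⟩ x' hx'
      change linearize A B B N D (dgen (z i) * x') = 0
      rw [linearize_dgen_mul]
      exact linearize_eq_zero_of_isDiffOpLE n _ (h i) x' hx'
    · intro x' _; simp
    · intro y y' _ _ hy hy' x' hx'
      rw [add_mul, map_add, hy x' hx', hy' x' hx', add_zero]
    · intro w y _ hy x' hx'
      rw [smul_eq_mul, mul_assoc, mul_left_comm]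
      exact hy _ (Ideal.mul_mem_left _ w hx')
  · intro x y hx hy
    rw [map_add, hx, hy, add_zero]

/-- Order reduction: an operator of finite order all of whose commutators with the coordinates
have order `≤ n` has order `≤ n + 1`. -/
theorem isDiffOpLE_succ_of_coords
    (hspan : Submodule.span B (Set.range fun i => KaehlerDifferential.D A B (z i)) = ⊤)
    (k n : ℕ) (D : B →ₗ[A] N) (hk : IsDiffOpLE A B B N k D)
    (h : ∀ i, IsDiffOpLE A B B N n (commutator A B B N D (z i))) :
    IsDiffOpLE A B B N (n + 1) D := by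
  refine isDiffOpLE_of_linearize_eq_zero (n + 1) D ?_
  intro x hx
  by_cases hkn : k + 1 ≤ n + 2
  · exact linearize_eq_zero_of_isDiffOpLE k D hk x (Ideal.pow_le_pow_right hkn hx)
  · push Not at hkn
    obtain ⟨j, hj⟩ : ∃ j, k + 1 = n + 2 + j := ⟨k + 1 - (n + 2), by omega⟩
    have hx' := pow_le_Zid_mul_sup_pow z hspan n j hx
    obtain ⟨u, hu, v, hv, rfl⟩ := Submodule.mem_sup.1 hx'
    rw [map_add, linearize_Zid_mul z n D h u hu,
      linearize_eq_zero_of_isDiffOpLE k D hk v (by rw [hj]; exact hv), add_zero]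

end fintype

section lam

variable {A B : Type u} [CommRing A] [CommRing B] [Algebra A B]
variable {N : Type u} [AddCommGroup N] [Module A N] [Module B N] [IsScalarTower A B N]
variable {ι : Type v} [Fintype ι] [DecidableEq ι] (z : ι → B)

local notation "I" => KaehlerDifferential.ideal A B

lemma linearize_add_left (D D' : B →ₗ[A] N) (x : B ⊗[A] B) :
    linearize A B B N (D + D') x = linearize A B B N D x + linearize A B B N D' x := by
  induction x using TensorProduct.induction_on with
  | zero => simp
  | tmul b m => simp [smul_add]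
  | add x y hx hy => rw [map_add, map_add, map_add, hx, hy]; abel

lemma linearize_zero_left (x : B ⊗[A] B) : linearize A B B N (0 : B →ₗ[A] N) x = 0 := by
  induction x using TensorProduct.induction_on with
  | zero => simp
  | tmul b m => simp
  | add x y hx hy => rw [map_add, hx, hy, add_zero]

lemma linearize_neg_left (D : B →ₗ[A] N) (x : B ⊗[A] B) :
    linearize A B B N (-D) x = - linearize A B B N D x := by
  induction x using TensorProduct.induction_on with
  | zero => simp
  | tmul b m => simp
  | add x y hx hy => rw [map_add, map_add, hx, hy]; abel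

lemma linearize_sub_left (D D' : B →ₗ[A] N) (x : B ⊗[A] B) :
    linearize A B B N (D - D') x = linearize A B B N D x - linearize A B B N D' x := by
  rw [sub_eq_add_neg, linearize_add_left, linearize_neg_left, ← sub_eq_add_neg]

lemma linearize_mulL_comp (c : B) (D : B →ₗ[A] N) (x : B ⊗[A] B) :
    linearize A B B N (mulL A N c ∘ₗ D) x = c • linearize A B B N D x := by
  induction x using TensorProduct.induction_on with
  | zero => simp
  | tmul b m => simp [mulL_apply, smul_comm c b]
  | add x y hx hy => rw [map_add, map_add, hx, hy, smul_add]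

lemma linearize_sum_left {κ : Type*} (s : Finset κ) (f : κ → (B →ₗ[A] N)) (x : B ⊗[A] B) :
    linearize A B B N (∑ j ∈ s, f j) x = ∑ j ∈ s, linearize A B B N (f j) x := by
  classical
  induction s using Finset.induction_on with
  | empty => simp [linearize_zero_left]
  | insert a s ha ih => rw [Finset.sum_insert ha, Finset.sum_insert ha, linearize_add_left, ih]

/-- The value of the linearisation of `D` on the monomial `ζ^q`, `ζᵢ = 1 ⊗ zᵢ - zᵢ ⊗ 1`. -/
noncomputable def lam (D : B →ₗ[A] N) (q : ι → ℕ) : N :=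
  linearize A B B N D (∏ i, dgen (A := A) (z i) ^ q i)

lemma lam_zero (D : B →ₗ[A] N) : lam z D 0 = D 1 := by
  simp [lam, Algebra.TensorProduct.one_def]

lemma prod_pow_add_single {R : Type*} [CommMonoid R] (g : ι → R) (q : ι → ℕ) (i : ι) :
    ∏ j, g j ^ ((q + Pi.single i 1 : ι → ℕ) j) = g i * ∏ j, g j ^ q j := by
  simp only [Pi.add_apply, pow_add, Finset.prod_mul_distrib]
  rw [mul_comm]
  congr 1
  rw [Finset.prod_eq_single i]
  · simp
  · intro j _ hj
    simp [Pi.single_apply, hj]
  · intro h; exact absurd (Finset.mem_univ i) h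

lemma lam_add_single (D : B →ₗ[A] N) (q : ι → ℕ) (i : ι) :
    lam z D (q + Pi.single i 1) = lam z (commutator A B B N D (z i)) q := by
  unfold lam
  rw [prod_pow_add_single, linearize_dgen_mul]

lemma prod_dgen_pow_mem (q : ι → ℕ) :
    ∏ i, dgen (A := A) (z i) ^ q i ∈ I ^ (∑ i, q i) := by
  rw [← Finset.prod_pow_eq_pow_sum]
  exact Ideal.prod_mem_prod fun i _ => Ideal.pow_mem_pow (dgen_mem (z i)) _

lemma lam_eq_zero_of_isDiffOpLE (m : ℕ) (D : B →ₗ[A] N) (hD : IsDiffOpLE A B B N m D)
    (q : ι → ℕ) (hq : m < ∑ i, q i) : lam z D q = 0 :=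
  linearize_eq_zero_of_isDiffOpLE m D hD _
    (Ideal.pow_le_pow_right (by omega) (prod_dgen_pow_mem z q))

lemma exists_pos_of_sum_eq_succ (q : ι → ℕ) (s : ℕ) (h : ∑ i, q i = s + 1) :
    ∃ i, q i ≠ 0 := by
  by_contra hcon
  push Not at hcon
  rw [Finset.sum_eq_zero fun i _ => hcon i] at h
  omega

lemma sub_single_add_single (q : ι → ℕ) (i : ι) (hi : q i ≠ 0) :
    (q - Pi.single i 1) + Pi.single i 1 = q := by
  funext j
  by_cases hj : j = i
  · subst hj; simp; omega
  · simp [Pi.single_apply, hj]

lemma sum_sub_single (q : ι → ℕ) (i : ι) (hi : q i ≠ 0) :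
    ∑ j, (q - Pi.single i 1 : ι → ℕ) j + 1 = ∑ j, q j := by
  conv_rhs => rw [← sub_single_add_single q i hi]
  simp only [Pi.add_apply, Finset.sum_add_distrib]
  congr 1
  simp [Pi.single_apply]

/-- If all `lam` vanish, the operator vanishes on monomials. -/
lemma monomial_eq_zero_of_lam (s : ℕ) : ∀ (E : B →ₗ[A] N), (∀ q, lam z E q = 0) →
    ∀ q : ι → ℕ, ∑ i, q i = s → E (∏ i, z i ^ q i) = 0 := by
  induction s with
  | zero =>
    intro E hE q hq
    have hq0 : q = 0 := by
      funext i
      have := (Finset.sum_eq_zero_iff.1 hq) i (Finset.mem_univ i)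
      simpa using this
    subst hq0
    have := hE 0
    rw [lam_zero] at this
    simpa using this
  | succ s ih =>
    intro E hE q hq
    obtain ⟨i, hi⟩ := exists_pos_of_sum_eq_succ q s hq
    have hq' : ∑ j, (q - Pi.single i 1 : ι → ℕ) j = s := by
      have := sum_sub_single q i hi
      omega
    have h1 := ih E hE _ hq'
    have h2 := ih (commutator A B B N E (z i))
      (fun q' => by rw [← lam_add_single]; exact hE _) _ hq'
    rw [commutator_apply, h1, smul_zero, sub_zero, smul_eq_mul,
      ← prod_pow_add_single, sub_single_add_single q i hi] at h2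
    exact h2

/-- An operator of finite order all of whose `lam` vanish is zero. -/
theorem eq_zero_of_lam
    (hspan : Submodule.span B (Set.range fun i => KaehlerDifferential.D A B (z i)) = ⊤)
    (m : ℕ) (E : B →ₗ[A] N) (hE : IsDiffOpLE A B B N m E) (h : ∀ q, lam z E q = 0) : E = 0 :=
  eq_zero_of_monomials_fintype z hspan m E hE fun q => monomial_eq_zero_of_lam z _ E h q rfl

end lam

end Groth.Agent.LibDiff29
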