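import Groth.Agent.LibDiff29c
import Mathlib.RingTheory.TensorProduct.Basic

/-!
# The universal differential operator of order `≤ k` out of a module
-/

set_option autoImplicit false
set_option linter.unusedSectionVars false
universe u

namespace Groth.Agent.LibDiff29

open Diff16
open scoped TensorProduct

section
variable (R S : Type u) [CommRing R] [CommRing S] [Algebra R S] (M : Type u)
    [AddCommGroup M] [Module S M] [Module R M] [IsScalarTower R S M] (k : ℕ)

/-- the alternating-sum elements of `S ⊗ M` -/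
noncomputable def altT (b : Fin (k + 1) → S) (t : M) : S ⊗[R] M :=
  ∑ H : Finset (Fin (k + 1)), ((-1 : ℤ) ^ H.card) • ((∏ i ∈ H, b i) ⊗ₜ[R] ((∏ i ∈ Hᶜ, b i) • t))

/-- the submodule of relations -/
noncomputable def Krel : Submodule S (S ⊗[R] M) :=
  Submodule.span S {x | ∃ (b : Fin (k + 1) → S) (t : M), x = altT R S M k b t}

/-- the universal operator -/
noncomputable def Duniv : M →ₗ[R] (S ⊗[R] M) ⧸ Krel R S M k :=
  ((Krel R S M k).mkQ.restrictScalars R) ∘ₗ (TensorProduct.mk R S M 1)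

lemma smul_Duniv (c : S) (m : M) :
    c • Duniv R S M k m = (Krel R S M k).mkQ (c ⊗ₜ[R] m) := by
  change c • (Krel R S M k).mkQ ((1 : S) ⊗ₜ[R] m) = _
  rw [← map_smul, TensorProduct.smul_tmul', smul_eq_mul, mul_one]

lemma Duniv_order : IsDiffOpLE R S M ((S ⊗[R] M) ⧸ Krel R S M k) k (Duniv R S M k) := by
  rw [isDiffOpLE_iff_alt]
  intro b t
  have : ∀ H : Finset (Fin (k + 1)),
      ((-1 : ℤ) ^ H.card) • ((∏ i ∈ H, b i) • Duniv R S M k ((∏ i ∈ Hᶜ, b i) • t)) =
      (Krel R S M k).mkQ (((-1 : ℤ) ^ H.card) • ((∏ i ∈ H, b i) ⊗ₜ[R] ((∏ i ∈ Hᶜ, b i) • t))) := by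
    intro H
    rw [smul_Duniv, map_zsmul]
  rw [Finset.sum_congr rfl fun H _ => this H, ← map_sum]
  change (Krel R S M k).mkQ (altT R S M k b t) = 0
  rw [Submodule.mkQ_apply, Submodule.Quotient.mk_eq_zero]
  exact Submodule.subset_span ⟨b, t, rfl⟩

end


section
variable (R S : Type u) [CommRing R] [CommRing S] [Algebra R S] (M : Type u)
    [AddCommGroup M] [Module S M] [Module R M] [IsScalarTower R S M] (k : ℕ)

theorem Duniv_universal (N : Type u) [AddCommGroup N] [Module S N] [Module R N]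
    [IsScalarTower R S N] (D' : M →ₗ[R] N) (hD' : IsDiffOpLE R S M N k D') :
    ∃! α : ((S ⊗[R] M) ⧸ Krel R S M k) →ₗ[S] N, α.restrictScalars R ∘ₗ Duniv R S M k = D' := by
  have hker : Krel R S M k ≤ LinearMap.ker (D'.liftBaseChange S) := by
    unfold Krel
    rw [Submodule.span_le]
    rintro _ ⟨b, t, rfl⟩
    rw [SetLike.mem_coe, LinearMap.mem_ker]
    unfold altT
    rw [map_sum]
    have := (isDiffOpLE_iff_alt k D').1 hD' b t
    rw [← this]
    refine Finset.sum_congr rfl fun H _ => ?_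
    rw [map_zsmul, LinearMap.liftBaseChange_tmul]
  refine ⟨(Krel R S M k).liftQ (D'.liftBaseChange S) hker, ?_, ?_⟩
  · ext m
    change (Krel R S M k).liftQ (D'.liftBaseChange S) hker ((Krel R S M k).mkQ ((1 : S) ⊗ₜ[R] m)) = D' m
    rw [Submodule.mkQ_apply, Submodule.liftQ_apply, LinearMap.liftBaseChange_tmul, one_smul]
  · intro α hα
    apply Submodule.linearMap_qext
    apply TensorProduct.AlgebraTensorModule.curry_injective
    ext m
    have h1 := LinearMap.congr_fun hα m
    change α ((Krel R S M k).mkQ ((1 : S) ⊗ₜ[R] m)) =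
      (Krel R S M k).liftQ (D'.liftBaseChange S) hker ((Krel R S M k).mkQ ((1 : S) ⊗ₜ[R] m))
    rw [Submodule.mkQ_apply, Submodule.liftQ_apply, LinearMap.liftBaseChange_tmul, one_smul, ← h1]
    rfl

end

end Groth.Agent.LibDiff29
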