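import Groth.Agent.LibDiff29g
import Mathlib.RingTheory.Unramified.Basic

/-!
# Differential operators along formally unramified maps: uniqueness of extensions
-/

set_option autoImplicit false
set_option linter.unusedSectionVars false
universe u v

namespace Groth.Agent.LibDiff29

open Diff16
open scoped TensorProduct BigOperators

section subalg

variable {A B : Type u} [CommRing A] [CommRing B] [Algebra A B]
variable {N : Type u} [AddCommGroup N] [Module A N] [Module B N] [IsScalarTower A B N]

local notation "I" => KaehlerDifferential.ideal A B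

variable (W : Subalgebra B (B ⊗[A] B))

lemma pow_le_subalgebra_sup_pow_succ
    (hW : (I).restrictScalars B ≤ Subalgebra.toSubmodule W ⊔ (I ^ 2).restrictScalars B) (k : ℕ) :
    (I ^ k).restrictScalars B ≤ Subalgebra.toSubmodule W ⊔ (I ^ (k + 1)).restrictScalars B := by
  induction k with
  | zero =>
    intro x hx
    clear hx
    induction x using TensorProduct.induction_on with
    | zero => exact zero_mem _
    | tmul b c =>
      have : b ⊗ₜ[A] c = (b * c) ⊗ₜ[A] (1 : B) + b • dgen (A := A) c := by
        simp [dgen, smul_sub, TensorProduct.smul_tmul', mul_comm b c]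
      rw [this]
      refine Submodule.add_mem_sup ?_ ?_
      · have : (b * c) ⊗ₜ[A] (1 : B) = algebraMap B (B ⊗[A] B) (b * c) := rfl
        rw [this]
        exact Subalgebra.algebraMap_mem W _
      · rw [zero_add, pow_one]
        exact Submodule.smul_mem ((I).restrictScalars B) b (dgen_mem c)
    | add x y hx hy => exact add_mem hx hy
  | succ k ih =>
    intro x hx
    rw [Submodule.restrictScalars_mem, pow_succ'] at hx
    refine Submodule.mul_induction_on hx ?_ ?_
    · intro y hy x' hx'
      obtain ⟨w, hw, a, ha, rfl⟩ := Submodule.mem_sup.1 (hW hy)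
      obtain ⟨w', hw', a', ha', rfl⟩ := Submodule.mem_sup.1 (ih hx')
      rw [Submodule.restrictScalars_mem] at ha ha'
      have hwI : w ∈ I := by
        have h1 : w + a ∈ I := hy
        have h2 : a ∈ I := Ideal.pow_le_self (by norm_num) ha
        simpa using Ideal.sub_mem _ h1 h2
      have hx'I : w' + a' ∈ I ^ k := hx'
      have : (w + a) * (w' + a') = w * w' + (w * a' + a * (w' + a')) := by ring
      rw [this]
      refine Submodule.add_mem_sup (Subalgebra.mul_mem _ hw hw') ?_
      rw [Submodule.restrictScalars_mem]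
      refine Ideal.add_mem _ ?_ ?_
      · have := Ideal.mul_mem_mul hwI ha'
        rwa [← pow_succ'] at this
      · have := Ideal.mul_mem_mul ha hx'I
        rwa [← pow_add, show 2 + k = k + 1 + 1 by ring] at this
    · intro x y hx hy
      exact add_mem hx hy

lemma subalgebra_sup_pow_eq_top
    (hW : (I).restrictScalars B ≤ Subalgebra.toSubmodule W ⊔ (I ^ 2).restrictScalars B) (k : ℕ) :
    Subalgebra.toSubmodule W ⊔ (I ^ k).restrictScalars B = ⊤ := by
  induction k with
  | zero =>
    rw [pow_zero, Ideal.one_eq_top]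
    rw [eq_top_iff]
    intro x _
    exact Submodule.mem_sup_right (by simp)
  | succ k ih =>
    rw [eq_top_iff, ← ih]
    refine sup_le le_sup_left ?_
    exact pow_le_subalgebra_sup_pow_succ W hW k

/-- A differential operator of finite order whose linearisation vanishes on a subalgebra `W`
with `I ≤ W + I²` is zero. -/
theorem eq_zero_of_subalgebra
    (hW : (I).restrictScalars B ≤ Subalgebra.toSubmodule W ⊔ (I ^ 2).restrictScalars B)
    (m : ℕ) (E : B →ₗ[A] N) (hE : IsDiffOpLE A B B N m E)
    (hEW : ∀ x ∈ W, linearize A B B N E x = 0) : E = 0 := by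
  ext t
  have h1 : (1 : B) ⊗ₜ[A] t ∈ Subalgebra.toSubmodule W ⊔ (I ^ (m + 1)).restrictScalars B := by
    rw [subalgebra_sup_pow_eq_top W hW]; trivial
  obtain ⟨w, hw, a, ha, hwa⟩ := Submodule.mem_sup.1 h1
  have h2 : E t = linearize A B B N E ((1 : B) ⊗ₜ[A] t) := by rw [linearize_tmul, one_smul]
  rw [h2, ← hwa, map_add, hEW w hw,
    linearize_eq_zero_of_isDiffOpLE m E hE a ha, add_zero]
  rfl

end subalg

section cot

variable {A B : Type u} [CommRing A] [CommRing B] [Algebra A B]

local notation "I" => KaehlerDifferential.ideal A B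

lemma dgen_sub_sum_mem_sq {κ : Type*} (t : Finset κ) (a y : κ → B) (c : B)
    (h : KaehlerDifferential.D A B c = ∑ j ∈ t, a j • KaehlerDifferential.D A B (y j)) :
    dgen (A := A) c - ∑ j ∈ t, a j • dgen (A := A) (y j) ∈ I ^ 2 := by
  have : LinearMap.CompatibleSMul { x // x ∈ I } Ω[B⁄A] B (B ⊗[A] B) := inferInstance
  have h2 : (I).toCotangent (∑ j ∈ t, a j • (⟨dgen (y j), dgen_mem (y j)⟩ : I)) =
      (I).toCotangent ⟨dgen c, dgen_mem c⟩ := by
    rw [map_sum]
    rw [← KaehlerDifferential.D_apply, h]
    refine Finset.sum_congr rfl fun i _ => ?_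
    rw [KaehlerDifferential.D_apply]
    exact LinearMap.map_smul_of_tower (I).toCotangent (a i) _
  have h3 := (Ideal.toCotangent_eq _).1 h2.symm
  convert h3 using 1
  simp only [Submodule.coe_sum]
  rfl

end cot

section unram

variable {R S S' : Type u} [CommRing R] [CommRing S] [CommRing S'] [Algebra R S] [Algebra R S']
  [Algebra S S'] [IsScalarTower R S S']

local notation "I'" => KaehlerDifferential.ideal R S'

variable (R S S') in
/-- the image of `S' ⊗[R] S` in `S' ⊗[R] S'` -/
noncomputable def Wim : Subalgebra S' (S' ⊗[R] S') :=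
  (Algebra.TensorProduct.map (AlgHom.id S' S') (IsScalarTower.toAlgHom R S S')).range

lemma tmul_mem_Wim (b : S') (s : S) : b ⊗ₜ[R] algebraMap S S' s ∈ Wim R S S' :=
  ⟨b ⊗ₜ s, by simp⟩

variable (R S S') in
lemma span_D_algebraMap_eq_top [Algebra.FormallyUnramified S S'] :
    Submodule.span S' (Set.range fun s : S => KaehlerDifferential.D R S' (algebraMap S S' s)) = ⊤ := by
  set Sg := Submodule.span S' (Set.range fun s : S => KaehlerDifferential.D R S' (algebraMap S S' s))
  have hmap : ∀ ω₀ : Ω[S⁄R], KaehlerDifferential.map R R S S' ω₀ ∈ Sg := by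
    intro ω₀
    have hω₀ : ω₀ ∈ Submodule.span S (Set.range (KaehlerDifferential.D R S)) := by
      rw [KaehlerDifferential.span_range_derivation]; trivial
    induction hω₀ using Submodule.span_induction with
    | mem x hx =>
      obtain ⟨s, rfl⟩ := hx
      rw [KaehlerDifferential.map_D]
      exact Submodule.subset_span ⟨s, rfl⟩
    | zero => rw [map_zero]; exact zero_mem _
    | add x y _ _ hx hy => rw [map_add]; exact add_mem hx hy
    | smul a x _ hx =>
      rw [map_smul, ← algebraMap_smul S' a]
      exact Submodule.smul_mem _ _ hx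
  have hall : ∀ y : S' ⊗[S] Ω[S⁄R], KaehlerDifferential.mapBaseChange R S S' y ∈ Sg := by
    intro y
    induction y using TensorProduct.induction_on with
    | zero => rw [map_zero]; exact zero_mem _
    | tmul b ω₀ =>
      rw [KaehlerDifferential.mapBaseChange_tmul]
      exact Submodule.smul_mem _ _ (hmap ω₀)
    | add x y hx hy => rw [map_add]; exact add_mem hx hy
  rw [eq_top_iff]
  intro ω _
  have h0 : KaehlerDifferential.map R S S' S' ω = 0 := Subsingleton.elim _ _
  obtain ⟨y, rfl⟩ := (KaehlerDifferential.exact_mapBaseChange_map R S S' ω).1 h0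
  exact hall y

variable (R S S') in
lemma ideal_le_Wim_sup_sq [Algebra.FormallyUnramified S S'] :
    (I').restrictScalars S' ≤ Subalgebra.toSubmodule (Wim R S S') ⊔ (I' ^ 2).restrictScalars S' := by
  rw [← KaehlerDifferential.submodule_span_range_eq_ideal, Submodule.span_le]
  rintro _ ⟨c, rfl⟩
  have hc : KaehlerDifferential.D R S' c ∈
      Submodule.span S' (Set.range fun s : S => KaehlerDifferential.D R S' (algebraMap S S' s)) := by
    rw [span_D_algebraMap_eq_top]; trivial
  obtain ⟨a, ha⟩ := (Finsupp.mem_span_range_iff_exists_finsupp).1 hc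
  have h1 := dgen_sub_sum_mem_sq (A := R) a.support (fun s => a s) (fun s => algebraMap S S' s) c
    (by rw [← ha]; rfl)
  have : (1 : S') ⊗ₜ[R] c - c ⊗ₜ[R] (1 : S') =
      (∑ s ∈ a.support, a s • dgen (A := R) (algebraMap S S' s)) +
        (dgen (A := R) c - ∑ s ∈ a.support, a s • dgen (A := R) (algebraMap S S' s)) := by
    simp [dgen]
  change (1 : S') ⊗ₜ[R] c - c ⊗ₜ[R] (1 : S') ∈ _
  rw [this]
  refine Submodule.add_mem_sup ?_ h1
  refine Submodule.sum_mem _ fun s _ => Submodule.smul_mem _ _ ?_
  refine Subalgebra.sub_mem _ ?_ ?_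
  · exact tmul_mem_Wim 1 s
  · have := tmul_mem_Wim (R := R) (algebraMap S S' s) (1 : S)
    simpa using this

variable {N : Type u} [AddCommGroup N] [Module R N] [Module S' N] [IsScalarTower R S' N]

/-- An operator on `S'` of finite order vanishing on the image of `S` is zero, when `S → S'` is
formally unramified. -/
theorem eq_zero_of_vanish_on_base [Algebra.FormallyUnramified S S'] (m : ℕ) (E : S' →ₗ[R] N)
    (hE : IsDiffOpLE R S' S' N m E) (h : ∀ s : S, E (algebraMap S S' s) = 0) : E = 0 := by
  refine eq_zero_of_subalgebra (Wim R S S') (ideal_le_Wim_sup_sq R S S') m E hE ?_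
  rintro _ ⟨y, rfl⟩
  induction y using TensorProduct.induction_on with
  | zero => simp
  | tmul b s =>
    change linearize R S' S' N E (Algebra.TensorProduct.map (AlgHom.id S' S')
      (IsScalarTower.toAlgHom R S S') (b ⊗ₜ s)) = 0
    rw [Algebra.TensorProduct.map_tmul, linearize_tmul]
    change b • E (algebraMap S S' s) = 0
    rw [h, smul_zero]
  | add x y hx hy =>
    have : ∀ z, (Algebra.TensorProduct.map (AlgHom.id S' S')
      (IsScalarTower.toAlgHom R S S')).toRingHom z = Algebra.TensorProduct.map (AlgHom.id S' S')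
      (IsScalarTower.toAlgHom R S S') z := fun z => rfl
    rw [map_add, map_add]
    rw [hx, hy, add_zero]

end unram

section Dm

variable {A B : Type u} [CommRing A] [CommRing B] [Algebra A B]
variable {M N : Type u} [AddCommGroup M] [Module A M] [Module B M] [IsScalarTower A B M]
  [AddCommGroup N] [Module A N] [Module B N] [IsScalarTower A B N]

/-- `c ↦ D (c • m)` -/
noncomputable def Dm (D : M →ₗ[A] N) (m : M) : B →ₗ[A] N :=
  D ∘ₗ ((LinearMap.toSpanSingleton B M m).restrictScalars A)

lemma Dm_apply (D : M →ₗ[A] N) (m : M) (c : B) : Dm D m c = D (c • m) := rfl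

lemma Dm_add (D : M →ₗ[A] N) (m m' : M) : Dm (B := B) D (m + m') = Dm D m + Dm D m' := by
  ext c; simp [Dm_apply, smul_add]

lemma Dm_order {n : ℕ} {D : M →ₗ[A] N} (hD : IsDiffOpLE A B M N n D) (m : M) :
    IsDiffOpLE A B B N n (Dm D m) := by
  have h0 : IsDiffOpLE A B B M 0 ((LinearMap.toSpanSingleton B M m).restrictScalars A) :=
    fun b c => by simp [mul_smul]
  have := isDiffOpLE_comp h0 hD
  rw [zero_add] at this
  exact this

end Dm

section modU

variable {R S S' : Type u} [CommRing R] [CommRing S] [CommRing S'] [Algebra R S] [Algebra R S']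
  [Algebra S S'] [IsScalarTower R S S']
variable {M : Type u} [AddCommGroup M] [Module S M]
variable {N' : Type u} [AddCommGroup N'] [Module S' N'] [Module R N'] [IsScalarTower R S' N']

lemma algebraMap_tmul_eq (s : S) (m : M) :
    (algebraMap S S' s) ⊗ₜ[S] m = (1 : S') ⊗ₜ[S] (s • m) := by
  rw [← TensorProduct.smul_tmul, Algebra.smul_def, mul_one]

/-- Uniqueness of extensions of differential operators along a formally unramified map. -/
theorem eq_zero_of_vanish_on_mk [Algebra.FormallyUnramified S S'] (k : ℕ)
    (E : S' ⊗[S] M →ₗ[R] N') (hE : IsDiffOpLE R S' (S' ⊗[S] M) N' k E)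
    (h : ∀ m : M, E ((1 : S') ⊗ₜ[S] m) = 0) : E = 0 := by
  have key : ∀ m : M, Dm (B := S') E ((1 : S') ⊗ₜ[S] m) = 0 := by
    intro m
    refine eq_zero_of_vanish_on_base (S := S) k _ (Dm_order hE _) ?_
    intro s
    rw [Dm_apply, TensorProduct.smul_tmul', smul_eq_mul, mul_one, algebraMap_tmul_eq, h]
  ext t
  induction t using TensorProduct.induction_on with
  | zero => simp
  | tmul c m =>
    have := LinearMap.congr_fun (key m) c
    rw [Dm_apply, TensorProduct.smul_tmul', smul_eq_mul, mul_one] at this
    rw [this]; rfl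
  | add x y hx hy => rw [map_add, hx, hy]; simp

end modU

end Groth.Agent.LibDiff29
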