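import Groth.Agent.LibDiff29i
import Mathlib.RingTheory.Smooth.Basic
import Mathlib.RingTheory.Etale.Basic

/-!
# Extension of differential operators along formally smooth maps (existence)
-/

set_option autoImplicit false
set_option linter.unusedSectionVars false
universe u v

namespace Groth.Agent.LibDiff29

open Diff16
open scoped TensorProduct BigOperators

attribute [local instance] Algebra.TensorProduct.rightAlgebra

section ringlevel

variable (R S S' : Type u) [CommRing R] [CommRing S] [CommRing S'] [Algebra R S] [Algebra R S']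
  [Algebra S S'] [IsScalarTower R S S']

/-- the multiplication map `S' ⊗[R] S → S'` -/
noncomputable def eps : S' ⊗[R] S →ₐ[S'] S' :=
  Algebra.TensorProduct.productLeftAlgHom (AlgHom.id S' S') (IsScalarTower.toAlgHom R S S')

variable {R S S'} in
@[simp] lemma eps_tmul (a : S') (s : S) : eps R S S' (a ⊗ₜ[R] s) = a * algebraMap S S' s := by
  simp [eps]

/-- the same map as an `S`-algebra map for the right structure -/
noncomputable def epsS : S' ⊗[R] S →ₐ[S] S' :=
  { (eps R S S' : S' ⊗[R] S →+* S') with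
    commutes' := fun s => by
      change eps R S S' ((1 : S') ⊗ₜ[R] s) = _
      rw [eps_tmul, one_mul] }

variable {R S S'} in
lemma epsS_apply (y : S' ⊗[R] S) : epsS R S S' y = eps R S S' y := rfl

/-- the kernel of `eps` -/
noncomputable def Jid : Ideal (S' ⊗[R] S) := RingHom.ker (eps R S S' : S' ⊗[R] S →+* S')

variable {R S S'} in
/-- generators of `Jid` -/
noncomputable abbrev dgen' (s : S) : S' ⊗[R] S :=
  (1 : S') ⊗ₜ[R] s - (algebraMap S S' s) ⊗ₜ[R] (1 : S)

variable {R S S'} in
lemma dgen'_mem (s : S) : dgen' (R := R) (S' := S') s ∈ Jid R S S' := by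
  change eps R S S' _ = 0
  rw [map_sub, eps_tmul, eps_tmul, one_mul, map_one, mul_one, sub_self]

variable {R S S'} in
lemma sub_eps_mem_span (y : S' ⊗[R] S) :
    y - (eps R S S' y) ⊗ₜ[R] (1 : S) ∈
      Ideal.span (Set.range fun s : S => dgen' (R := R) (S' := S') s) := by
  induction y using TensorProduct.induction_on with
  | zero => simp
  | tmul a s =>
    have : a ⊗ₜ[R] s - (eps R S S' (a ⊗ₜ[R] s)) ⊗ₜ[R] (1 : S) =
        (a ⊗ₜ[R] (1 : S)) * dgen' (R := R) (S' := S') s := by
      rw [eps_tmul, mul_sub, Algebra.TensorProduct.tmul_mul_tmul,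
        Algebra.TensorProduct.tmul_mul_tmul, mul_one, one_mul, mul_one]
    rw [this]
    exact Ideal.mul_mem_left _ _ (Ideal.subset_span ⟨s, rfl⟩)
  | add x y hx hy =>
    have : x + y - (eps R S S' (x + y)) ⊗ₜ[R] (1 : S) =
        (x - (eps R S S' x) ⊗ₜ[R] (1 : S)) + (y - (eps R S S' y) ⊗ₜ[R] (1 : S)) := by
      rw [map_add, TensorProduct.add_tmul]; abel
    rw [this]
    exact Ideal.add_mem _ hx hy

lemma Jid_eq_span :
    Jid R S S' = Ideal.span (Set.range fun s : S => dgen' (R := R) (S' := S') s) := by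
  apply le_antisymm
  · intro y hy
    have h1 := sub_eps_mem_span y
    have h2 : eps R S S' y = 0 := hy
    rwa [h2, TensorProduct.zero_tmul, sub_zero] at h1
  · rw [Ideal.span_le]
    rintro _ ⟨s, rfl⟩
    exact dgen'_mem s

end ringlevel

section Lg

variable {R S S' : Type u} [CommRing R] [CommRing S] [CommRing S'] [Algebra R S] [Algebra R S']
  [Algebra S S'] [IsScalarTower R S S']
variable {N' : Type u} [AddCommGroup N'] [Module R N'] [Module S' N'] [IsScalarTower R S' N']
  [Module S N'] [IsScalarTower S S' N'] [IsScalarTower R S N']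

/-- the `S'`-linearisation of `g : S → N'` -/
noncomputable def Lg (g : S →ₗ[R] N') : S' ⊗[R] S →ₗ[S'] N' := g.liftBaseChange S'

@[simp] lemma Lg_tmul (g : S →ₗ[R] N') (a : S') (s : S) : Lg g (a ⊗ₜ[R] s) = a • g s := rfl

lemma Lg_add (g g' : S →ₗ[R] N') : Lg (S' := S') (g + g') = Lg g + Lg g' := by
  apply TensorProduct.AlgebraTensorModule.curry_injective
  ext s
  simp

lemma Lg_dgen'_mul (g : S →ₗ[R] N') (s : S) (y : S' ⊗[R] S) :
    Lg g (dgen' s * y) = Lg (commutator R S S N' g s) y := by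
  induction y using TensorProduct.induction_on with
  | zero => simp
  | tmul a c =>
    simp only [dgen', sub_mul, Algebra.TensorProduct.tmul_mul_tmul, one_mul, map_sub, Lg_tmul,
      commutator_apply, smul_eq_mul, smul_sub]
    rw [mul_smul, algebraMap_smul, smul_comm]
  | add x y hx hy => rw [mul_add, map_add, map_add, hx, hy]

lemma Lg_eq_of_zero (g : S →ₗ[R] N') (hg : IsDiffOpLE R S S N' 0 g) (y : S' ⊗[R] S) :
    Lg g y = (eps R S S' y) • g 1 := by
  induction y using TensorProduct.induction_on with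
  | zero => simp
  | tmul a c =>
    have h1 : g c = c • g 1 := by
      have := hg c 1
      rwa [smul_eq_mul, mul_one] at this
    rw [Lg_tmul, eps_tmul, h1, mul_smul, algebraMap_smul]
  | add x y hx hy => rw [map_add, map_add, hx, hy, add_smul]

lemma Lg_eq_zero_of_isDiffOpLE (k : ℕ) (g : S →ₗ[R] N') (hg : IsDiffOpLE R S S N' k g)
    (y : S' ⊗[R] S) (hy : y ∈ (Jid R S S') ^ (k + 1)) : Lg g y = 0 := by
  induction k generalizing g y with
  | zero =>
    rw [zero_add, pow_one] at hy
    rw [Lg_eq_of_zero g hg]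
    have : eps R S S' y = 0 := hy
    rw [this, zero_smul]
  | succ k ih =>
    rw [pow_succ'] at hy
    refine Submodule.mul_induction_on hy ?_ ?_
    · intro x hx x' hx'
      rw [Jid_eq_span] at hx
      revert x'
      refine Submodule.span_induction (p := fun x _ => ∀ x' ∈ Jid R S S' ^ (k + 1),
        Lg g (x * x') = 0) ?_ ?_ ?_ ?_ hx
      · rintro _ ⟨s, rfl⟩ x' hx'
        change Lg g (dgen' s * x') = 0
        rw [Lg_dgen'_mul]
        exact ih _ (hg s) x' hx'
      · intro x' _; simp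
      · intro x z _ _ hx hz x' hx'
        rw [add_mul, map_add, hx x' hx', hz x' hx', add_zero]
      · intro w x _ hx x' hx'
        rw [smul_eq_mul, mul_assoc, mul_left_comm]
        exact hx _ (Ideal.mul_mem_left _ w hx')
    · intro x y hx hy
      rw [map_add, hx, hy, add_zero]

end Lg

lemma mul_mem_pow_succ' {A : Type*} [CommRing A] (K : Ideal A) (n : ℕ) {x y : A}
    (hx : x ∈ K ^ n) (hy : y ∈ K) : x * y ∈ K ^ (n + 1) := by
  rw [pow_succ]; exact Ideal.mul_mem_mul hx hy

lemma mem_pow_zero' {A : Type*} [CommRing A] (K : Ideal A) (x : A) : x ∈ K ^ 0 := by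
  rw [pow_zero, Ideal.one_eq_top]; trivial

section taylor

variable (R S S' : Type u) [CommRing R] [CommRing S] [CommRing S'] [Algebra R S] [Algebra R S']
  [Algebra S S'] [IsScalarTower R S S'] (k : ℕ)

/-- the ring `(S' ⊗[R] S) / J^(k+1)` -/
abbrev Qk : Type u := (S' ⊗[R] S) ⧸ (Jid R S S') ^ (k + 1)

/-- the augmentation `Qk → S'` as an `S`-algebra map (right structure) -/
noncomputable def epsbar : Qk R S S' k →ₐ[S] S' :=
  Ideal.Quotient.liftₐ _ (epsS R S S') (by
    intro y hy
    have : y ∈ Jid R S S' := Ideal.pow_le_self (by omega) hy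
    exact this)

lemma epsbar_mk (y : S' ⊗[R] S) : epsbar R S S' k (Ideal.Quotient.mk _ y) = eps R S S' y := rfl

lemma epsbar_algebraMap (a : S') : epsbar R S S' k (algebraMap S' (Qk R S S' k) a) = a := by
  change epsbar R S S' k (Ideal.Quotient.mk _ (a ⊗ₜ[R] (1 : S))) = a
  rw [epsbar_mk, eps_tmul, map_one, mul_one]

lemma epsbar_surjective : Function.Surjective (epsbar R S S' k) :=
  fun a => ⟨_, epsbar_algebraMap R S S' k a⟩

lemma ker_epsbar_le :
    RingHom.ker (epsbar R S S' k : Qk R S S' k →+* S') ≤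
      Ideal.map (Ideal.Quotient.mk _) (Jid R S S') := by
  intro x hx
  obtain ⟨y, rfl⟩ := Ideal.Quotient.mk_surjective x
  rw [RingHom.mem_ker] at hx
  change epsbar R S S' k (Ideal.Quotient.mk _ y) = 0 at hx
  rw [epsbar_mk] at hx
  exact Ideal.mem_map_of_mem _ hx

lemma ker_epsbar_pow : (RingHom.ker (epsbar R S S' k : Qk R S S' k →+* S')) ^ (k + 1) = ⊥ := by
  rw [eq_bot_iff]
  refine (Ideal.pow_right_mono (ker_epsbar_le R S S' k) (k + 1)).trans ?_
  rw [← Ideal.map_pow, Ideal.map_quotient_self]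

lemma ker_epsbar_nilpotent :
    IsNilpotent (RingHom.ker (epsbar R S S' k : Qk R S S' k →+* S')) :=
  ⟨k + 1, ker_epsbar_pow R S S' k⟩

variable [Algebra.FormallySmooth S S']

/-- the Taylor map `S' → Qk`, an `S`-algebra section of the augmentation -/
noncomputable def tau : S' →ₐ[S] Qk R S S' k :=
  Algebra.FormallySmooth.liftOfSurjective (AlgHom.id S S') (epsbar R S S' k)
    (epsbar_surjective R S S' k) (ker_epsbar_nilpotent R S S' k)

lemma epsbar_tau (a : S') : epsbar R S S' k (tau R S S' k a) = a :=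
  Algebra.FormallySmooth.liftOfSurjective_apply (AlgHom.id S S') (epsbar R S S' k)
    (epsbar_surjective R S S' k) (ker_epsbar_nilpotent R S S' k) a

/-- `η a = τ a - a ⊗ 1` lies in the augmentation ideal -/
noncomputable def eta (a : S') : Qk R S S' k := tau R S S' k a - algebraMap S' (Qk R S S' k) a

lemma eta_mem (a : S') : eta R S S' k a ∈ RingHom.ker (epsbar R S S' k : Qk R S S' k →+* S') := by
  rw [RingHom.mem_ker]
  change epsbar R S S' k (eta R S S' k a) = 0
  rw [eta, map_sub, epsbar_tau, epsbar_algebraMap, sub_self]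

end taylor

section ext

variable {R S S' : Type u} [CommRing R] [CommRing S] [CommRing S'] [Algebra R S] [Algebra R S']
  [Algebra S S'] [IsScalarTower R S S'] {k : ℕ}
variable {N' : Type u} [AddCommGroup N'] [Module R N'] [Module S' N'] [IsScalarTower R S' N']
  [Module S N'] [IsScalarTower S S' N'] [IsScalarTower R S N']

/-- the induced map `Qk → N'` -/
noncomputable def Lbar {g : S →ₗ[R] N'} (hg : IsDiffOpLE R S S N' k g) : Qk R S S' k →ₗ[S'] N' :=
  (Submodule.liftQ (((Jid R S S') ^ (k + 1)).restrictScalars S') (Lg g)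
    (fun y hy => Lg_eq_zero_of_isDiffOpLE k g hg y hy)) ∘ₗ
    (Submodule.Quotient.restrictScalarsEquiv S' ((Jid R S S') ^ (k + 1))).symm.toLinearMap

lemma Lbar_mk {g : S →ₗ[R] N'} (hg : IsDiffOpLE R S S N' k g) (y : S' ⊗[R] S) :
    Lbar hg (Ideal.Quotient.mk _ y) = Lg g y := by
  unfold Lbar
  rw [LinearMap.comp_apply, ← Ideal.Quotient.mk_eq_mk, LinearEquiv.coe_coe,
    Submodule.Quotient.restrictScalarsEquiv_symm_mk, Submodule.liftQ_apply]

lemma Lbar_algebraMap_mul {g : S →ₗ[R] N'} (hg : IsDiffOpLE R S S N' k g) (a : S')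
    (x : Qk R S S' k) : Lbar hg (algebraMap S' (Qk R S S' k) a * x) = a • Lbar hg x := by
  rw [← Algebra.smul_def, map_smul]

variable [Algebra.FormallySmooth S S']

/-- the operators `s' ↦ Lbar (q * τ s')` -/
noncomputable def Dq {g : S →ₗ[R] N'} (hg : IsDiffOpLE R S S N' k g) (q : Qk R S S' k) :
    S' →ₗ[R] N' where
  toFun a := Lbar hg (q * tau R S S' k a)
  map_add' a b := by rw [map_add, mul_add, map_add]
  map_smul' r a := by
    have h1 : tau R S S' k (r • a) = algebraMap S' (Qk R S S' k) (algebraMap R S' r) *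
        tau R S S' k a := by
      rw [Algebra.smul_def, map_mul]
      congr 1
      rw [IsScalarTower.algebraMap_apply R S S', AlgHom.commutes,
        ← IsScalarTower.algebraMap_apply R S S']
      exact (IsScalarTower.algebraMap_apply R S (Qk R S S' k) r).symm.trans
        (IsScalarTower.algebraMap_apply R S' (Qk R S S' k) r)
    rw [h1, mul_left_comm, Lbar_algebraMap_mul, RingHom.id_apply, algebraMap_smul]

lemma Dq_apply {g : S →ₗ[R] N'} (hg : IsDiffOpLE R S S N' k g) (q : Qk R S S' k) (a : S') :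
    Dq hg q a = Lbar hg (q * tau R S S' k a) := rfl

lemma Dq_comm {g : S →ₗ[R] N'} (hg : IsDiffOpLE R S S N' k g) (q : Qk R S S' k) (b : S') :
    commutator R S' S' N' (Dq hg q) b = Dq hg (q * eta R S S' k b) := by
  ext a
  rw [commutator_apply, Dq_apply, Dq_apply, Dq_apply, smul_eq_mul, map_mul (tau R S S' k) b a,
    ← Lbar_algebraMap_mul, ← map_sub, eta]
  congr 1
  ring

lemma Dq_zero {g : S →ₗ[R] N'} (hg : IsDiffOpLE R S S N' k g) :
    Dq (S' := S') hg 0 = 0 := by
  ext a
  rw [Dq_apply, zero_mul, map_zero]; rfl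

lemma Dq_order {g : S →ₗ[R] N'} (hg : IsDiffOpLE R S S N' k g) (j : ℕ) :
    ∀ q : Qk R S S' k, q ∈ (RingHom.ker (epsbar R S S' k : Qk R S S' k →+* S')) ^ (k - j) →
      IsDiffOpLE R S' S' N' j (Dq hg q) := by
  induction j with
  | zero =>
    intro q hq b a
    have h1 : q * eta R S S' k b = 0 := by
      have : q * eta R S S' k b ∈
          (RingHom.ker (epsbar R S S' k : Qk R S S' k →+* S')) ^ (k + 1) :=
        mul_mem_pow_succ' _ k hq (eta_mem R S S' k b)
      rwa [ker_epsbar_pow, Ideal.mem_bot] at this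
    have h2 := LinearMap.congr_fun (Dq_comm hg q b) a
    rw [h1, Dq_zero, commutator_apply, LinearMap.zero_apply, sub_eq_zero] at h2
    exact h2
  | succ j ih =>
    intro q hq b
    rw [Dq_comm]
    refine ih _ ?_
    have : q * eta R S S' k b ∈
        (RingHom.ker (epsbar R S S' k : Qk R S S' k →+* S')) ^ (k - (j + 1) + 1) :=
      mul_mem_pow_succ' _ _ hq (eta_mem R S S' k b)
    exact Ideal.pow_le_pow_right (by omega) this

/-- the extension `S' → N'` of the operator `g : S → N'` -/
noncomputable def De {g : S →ₗ[R] N'} (hg : IsDiffOpLE R S S N' k g) : S' →ₗ[R] N' := Dq hg 1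

lemma De_apply {g : S →ₗ[R] N'} (hg : IsDiffOpLE R S S N' k g) (a : S') :
    De hg a = Lbar hg (tau R S S' k a) := by
  rw [De, Dq_apply, one_mul]

lemma De_order {g : S →ₗ[R] N'} (hg : IsDiffOpLE R S S N' k g) :
    IsDiffOpLE R S' S' N' k (De (S' := S') hg) :=
  Dq_order hg k 1 (by rw [Nat.sub_self]; exact mem_pow_zero' _ _)

lemma De_algebraMap {g : S →ₗ[R] N'} (hg : IsDiffOpLE R S S N' k g) (s : S) :
    De (S' := S') hg (algebraMap S S' s) = g s := by
  rw [De_apply, AlgHom.commutes]
  change Lbar hg (Ideal.Quotient.mk _ ((1 : S') ⊗ₜ[R] s)) = g s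
  rw [Lbar_mk, Lg_tmul, one_smul]

lemma De_add {g g' : S →ₗ[R] N'} (hg : IsDiffOpLE R S S N' k g)
    (hg' : IsDiffOpLE R S S N' k g') (hgg' : IsDiffOpLE R S S N' k (g + g')) (a : S') :
    De (S' := S') hgg' a = De hg a + De hg' a := by
  rw [De_apply, De_apply, De_apply]
  obtain ⟨y, hy⟩ := Ideal.Quotient.mk_surjective (tau R S S' k a)
  rw [← hy, Lbar_mk, Lbar_mk, Lbar_mk, Lg_add, LinearMap.add_apply]

lemma De_comp_mul {g : S →ₗ[R] N'} (hg : IsDiffOpLE R S S N' k g) (s : S)
    (hgs : IsDiffOpLE R S S N' k (g ∘ₗ mulL R S s)) (a : S') :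
    De (S' := S') hgs a = De hg (a * algebraMap S S' s) := by
  rw [De_apply, De_apply, map_mul, AlgHom.commutes]
  obtain ⟨y, hy⟩ := Ideal.Quotient.mk_surjective (tau R S S' k a)
  rw [← hy]
  change Lbar hgs (Ideal.Quotient.mk _ y) =
    Lbar hg (Ideal.Quotient.mk _ y * Ideal.Quotient.mk _ ((1 : S') ⊗ₜ[R] s))
  rw [← map_mul, Lbar_mk, Lbar_mk]
  clear hy
  induction y using TensorProduct.induction_on with
  | zero => simp
  | tmul b c =>
    rw [Algebra.TensorProduct.tmul_mul_tmul, mul_one, Lg_tmul, Lg_tmul, LinearMap.comp_apply,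
      mulL_apply, smul_eq_mul, mul_comm]
  | add x y hx hy => rw [add_mul, map_add, map_add, hx, hy]

lemma De_congr {g g' : S →ₗ[R] N'} (hg : IsDiffOpLE R S S N' k g)
    (hg' : IsDiffOpLE R S S N' k g') (h : g = g') (a : S') :
    De (S' := S') hg a = De hg' a := by
  subst h; rfl

end ext

section general

variable {R S S' : Type u} [CommRing R] [CommRing S] [CommRing S'] [Algebra R S] [Algebra R S']
  [Algebra S S'] [IsScalarTower R S S'] [Algebra.FormallySmooth S S']
variable {M N : Type u} [AddCommGroup M] [Module S M] [Module R M] [IsScalarTower R S M]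
  [AddCommGroup N] [Module S N] [Module R N] [IsScalarTower R S N]
variable {k : ℕ}

variable (S') in
/-- `g_m : S → S' ⊗[S] N`, `s ↦ 1 ⊗ D (s • m)` -/
noncomputable def gm (D : M →ₗ[R] N) (m : M) : S →ₗ[R] S' ⊗[S] N :=
  (TensorProduct.mk S S' N 1).restrictScalars R ∘ₗ Dm D m

lemma gm_apply (D : M →ₗ[R] N) (m : M) (c : S) : gm S' D m c = (1 : S') ⊗ₜ[S] D (c • m) := rfl

lemma gm_order {D : M →ₗ[R] N} (hD : IsDiffOpLE R S M N k D) (m : M) :
    IsDiffOpLE R S S (S' ⊗[S] N) k (gm S' D m) := by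
  have h0 : IsDiffOpLE R S N (S' ⊗[S] N) 0 ((TensorProduct.mk S S' N 1).restrictScalars R) :=
    fun s n => by simp
  have := isDiffOpLE_comp (Dm_order hD m) h0
  rw [add_zero] at this
  exact this

lemma gm_add (D : M →ₗ[R] N) (m m' : M) :
    (gm S' D (m + m') : S →ₗ[R] S' ⊗[S] N) = gm S' D m + gm S' D m' := by
  ext c
  simp [gm_apply, smul_add, TensorProduct.tmul_add]

lemma gm_smul (D : M →ₗ[R] N) (s : S) (m : M) :
    (gm S' D (s • m) : S →ₗ[R] S' ⊗[S] N) = gm S' D m ∘ₗ mulL R S s := by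
  ext c
  simp only [gm_apply, LinearMap.comp_apply, mulL_apply, smul_eq_mul]
  rw [mul_comm, mul_smul]

/-- the bi-additive map `(s', m) ↦ De (g_m) s'` -/
noncomputable def fext {D : M →ₗ[R] N} (hD : IsDiffOpLE R S M N k D) :
    S' →+ M →+ S' ⊗[S] N :=
  AddMonoidHom.mk' (fun a => AddMonoidHom.mk' (fun m => De (S' := S') (gm_order hD m) a)
    (fun m m' => by
      rw [De_congr (gm_order hD (m + m'))
        (isDiffOpLE_add (gm_order (S' := S') hD m) (gm_order hD m')) (gm_add D m m'),
        De_add (gm_order hD m) (gm_order hD m')]))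
    (fun a a' => by
      ext m
      exact map_add (De (S' := S') (gm_order hD m)) a a')

lemma fext_apply {D : M →ₗ[R] N} (hD : IsDiffOpLE R S M N k D) (a : S') (m : M) :
    fext hD a m = De (S' := S') (gm_order hD m) a := rfl

lemma fext_balanced {D : M →ₗ[R] N} (hD : IsDiffOpLE R S M N k D) (s : S) (a : S') (m : M) :
    fext hD (s • a) m = fext hD a (s • m) := by
  rw [fext_apply, fext_apply, Algebra.smul_def, mul_comm]
  have h1 : IsDiffOpLE R S S (S' ⊗[S] N) k (gm S' D m ∘ₗ mulL R S s) := by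
    rw [← gm_smul]; exact gm_order hD _
  rw [← De_comp_mul (gm_order hD m) s h1]
  exact De_congr _ _ (gm_smul D s m).symm a

/-- the extended operator, as an additive map -/
noncomputable def DextAdd {D : M →ₗ[R] N} (hD : IsDiffOpLE R S M N k D) :
    S' ⊗[S] M →+ S' ⊗[S] N :=
  TensorProduct.liftAddHom (fext hD) (fext_balanced hD)

lemma DextAdd_tmul {D : M →ₗ[R] N} (hD : IsDiffOpLE R S M N k D) (a : S') (m : M) :
    DextAdd hD (a ⊗ₜ[S] m) = De (S' := S') (gm_order hD m) a := rfl

/-- the extended operator -/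
noncomputable def Dext {D : M →ₗ[R] N} (hD : IsDiffOpLE R S M N k D) :
    S' ⊗[S] M →ₗ[R] S' ⊗[S] N where
  toFun := DextAdd hD
  map_add' := map_add _
  map_smul' r t := by
    induction t using TensorProduct.induction_on with
    | zero => simp
    | tmul a m =>
      rw [TensorProduct.smul_tmul', DextAdd_tmul, DextAdd_tmul, map_smul]; rfl
    | add x y hx hy =>
      rw [smul_add, map_add, map_add, hx, hy, smul_add]

lemma Dext_tmul {D : M →ₗ[R] N} (hD : IsDiffOpLE R S M N k D) (a : S') (m : M) :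
    Dext hD (a ⊗ₜ[S] m) = De (S' := S') (gm_order hD m) a := rfl

lemma Dext_one_tmul {D : M →ₗ[R] N} (hD : IsDiffOpLE R S M N k D) (m : M) :
    Dext (S' := S') hD ((1 : S') ⊗ₜ[S] m) = (1 : S') ⊗ₜ[S] D m := by
  have h := De_algebraMap (S' := S') (gm_order (S' := S') hD m) 1
  rw [map_one] at h
  rw [Dext_tmul, h, gm_apply, one_smul]

lemma Dext_order {D : M →ₗ[R] N} (hD : IsDiffOpLE R S M N k D) :
    IsDiffOpLE R S' (S' ⊗[S] M) (S' ⊗[S] N) k (Dext (S' := S') hD) := by
  rw [isDiffOpLE_iff_alt]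
  intro b t
  induction t using TensorProduct.induction_on with
  | zero => simp
  | tmul a m =>
    have h := (isDiffOpLE_iff_alt k _).1 (De_order (S' := S') (gm_order (S' := S') hD m)) b a
    rw [← h]
    refine Finset.sum_congr rfl fun H _ => ?_
    rw [TensorProduct.smul_tmul', Dext_tmul]
  | add x y hx hy =>
    have : ∀ H : Finset (Fin (k + 1)),
        ((-1 : ℤ) ^ H.card) • ((∏ i ∈ H, b i) • Dext (S' := S') hD ((∏ i ∈ Hᶜ, b i) • (x + y))) =
        ((-1 : ℤ) ^ H.card) • ((∏ i ∈ H, b i) • Dext (S' := S') hD ((∏ i ∈ Hᶜ, b i) • x)) +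
        ((-1 : ℤ) ^ H.card) • ((∏ i ∈ H, b i) • Dext (S' := S') hD ((∏ i ∈ Hᶜ, b i) • y)) := by
      intro H
      rw [smul_add, map_add, smul_add, smul_add]
    rw [Finset.sum_congr rfl fun H _ => this H, Finset.sum_add_distrib, hx, hy, add_zero]

end general

end Groth.Agent.LibDiff29
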