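import Groth.Agent.LibPP29h

/-!
# Principal parts IX: the canonical map from the symmetric power via a free cover of the
differentials
-/

set_option autoImplicit false
set_option linter.unusedSectionVars false
universe u v w

namespace Groth.Agent.LibPP29

open Diff16 Groth.Agent.LibDiff29
open scoped TensorProduct BigOperators Pointwise

section phiF

variable {A B : Type u} [CommRing A] [CommRing B] [Algebra A B]
variable {κ : Type w} [DecidableEq κ] {F : Type u} [AddCommGroup F] [Module B F]
variable (e : Module.Basis κ B F) (π : F →ₗ[B] KaehlerDifferential A B)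
variable (i : KaehlerDifferential A B →ₗ[B] F)
variable (w : κ → B ⊗[A] B)
variable {ι' : Type u} [Fintype ι'] [DecidableEq ι']

local notation "I" => KaehlerDifferential.ideal A B

/-- the linear map on the tensor power of the free cover sending the basis tensor `e^f` to the
class of `∏ w_{f j}` -/
noncomputable def gLinF (hwI : ∀ k, w k ∈ KaehlerDifferential.ideal A B) :
    PiTensorProduct B (fun _ : ι' => F) →ₗ[B] PP16.grI A B (Fintype.card ι') :=
  (Basis.piTensorProduct fun _ : ι' => e).constr B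
    (fun f : ι' → κ => grmk A B (Fintype.card ι') ⟨wmonf w f, wmonf_mem w hwI f⟩)

lemma gLinF_basis (hwI : ∀ k, w k ∈ KaehlerDifferential.ideal A B) (f : ι' → κ) :
    gLinF e w hwI (PiTensorProduct.tprod B fun j => e (f j)) =
      grmk A B (Fintype.card ι') ⟨wmonf w f, wmonf_mem w hwI f⟩ := by
  unfold gLinF
  rw [← Basis.piTensorProduct_apply, Module.Basis.constr_basis]

lemma gLinF_perm (hwI : ∀ k, w k ∈ KaehlerDifferential.ideal A B) (σ : Equiv.Perm ι')
    (v : ι' → F) :
    gLinF e w hwI (PiTensorProduct.tprod B fun j => v (σ j)) =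
      gLinF e w hwI (PiTensorProduct.tprod B v) := by
  set G := (gLinF e w hwI (ι' := ι')).compMultilinearMap (PiTensorProduct.tprod B) with hG
  have h1 : G.domDomCongr σ = G := by
    refine Module.Basis.ext_multilinear (fun _ => e) fun f => ?_
    rw [MultilinearMap.domDomCongr_apply]
    simp only [hG, LinearMap.compMultilinearMap_apply]
    rw [gLinF_basis e w hwI (fun j => f (σ j)), gLinF_basis]
    congr 1
    apply Subtype.ext
    exact wmonf_perm w f σ
  have h2 := congrArg (fun H => H v) h1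
  simp only [MultilinearMap.domDomCongr_apply] at h2
  exact h2

lemma lift_sub_mem_sq' (hwI : ∀ k, w k ∈ KaehlerDifferential.ideal A B)
    (hw : ∀ k, (KaehlerDifferential.ideal A B).toCotangent ⟨w k, hwI k⟩ = π (e k))
    (x : ↥(KaehlerDifferential.ideal A B)) (s : Finset κ) (a : κ → B)
    (h : (KaehlerDifferential.ideal A B).toCotangent x = ∑ k ∈ s, a k • π (e k)) :
    (x : B ⊗[A] B) - ∑ k ∈ s, a k • w k ∈ I ^ 2 := by
  have : LinearMap.CompatibleSMul { x // x ∈ I } Ω[B⁄A] B (B ⊗[A] B) := inferInstance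
  have h2 : (I).toCotangent (∑ k ∈ s, a k • (⟨w k, hwI k⟩ : I)) = (I).toCotangent x := by
    rw [map_sum, h]
    refine Finset.sum_congr rfl fun k _ => ?_
    rw [← hw k]
    exact LinearMap.map_smul_of_tower (I).toCotangent (a k) _
  have h3 := (Ideal.toCotangent_eq _).1 h2.symm
  convert h3 using 1
  simp only [Submodule.coe_sum]
  rfl

/-- the values of `gLinF` on pure tensors, in terms of lifts to `I` -/
lemma gLinF_tprod (hwI : ∀ k, w k ∈ KaehlerDifferential.ideal A B)
    (hw : ∀ k, (KaehlerDifferential.ideal A B).toCotangent ⟨w k, hwI k⟩ = π (e k))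
    (v : ι' → F) (x : ι' → ↥(KaehlerDifferential.ideal A B))
    (hxv : ∀ j, (KaehlerDifferential.ideal A B).toCotangent (x j) = π (v j))
    (hx : ∏ j, (x j : B ⊗[A] B) ∈ ((I) ^ (Fintype.card ι')).restrictScalars B) :
    gLinF e w hwI (PiTensorProduct.tprod B v) =
      grmk A B (Fintype.card ι') ⟨∏ j, (x j : B ⊗[A] B), hx⟩ := by
  set s : ι' → Finset κ := fun j => (e.repr (v j)).support with hs
  set a : ι' → κ → B := fun j k => e.repr (v j) k with ha
  have h1 : ∀ j, v j = ∑ k ∈ s j, a j k • e k := by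
    intro j
    conv_lhs => rw [← e.linearCombination_repr (v j)]
    rw [Finsupp.linearCombination_apply, Finsupp.sum]
  have h2 : ∀ j, (x j : B ⊗[A] B) - ∑ k ∈ s j, a j k • w k ∈ I ^ 2 := fun j =>
    lift_sub_mem_sq' e π w hwI hw (x j) (s j) (a j) (by
      rw [hxv j]
      conv_lhs => rw [h1 j]
      rw [map_sum]
      refine Finset.sum_congr rfl fun k _ => ?_
      rw [map_smul])
  have h3 := prod_sub_prod_mem (I) Finset.univ (fun j => (x j : B ⊗[A] B))
    (fun j => ∑ k ∈ s j, a j k • w k) (fun j _ => (x j).2)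
    (fun j _ => Ideal.sum_mem _ fun k _ => Submodule.smul_of_tower_mem (I) (a j k) (hwI k))
    (fun j _ => h2 j)
  rw [Finset.card_univ] at h3
  have h4 : gLinF e w hwI (PiTensorProduct.tprod B v) =
      grmk A B (Fintype.card ι') (∑ r ∈ Fintype.piFinset s, (∏ j, a j (r j)) •
        ⟨wmonf w r, wmonf_mem w hwI r⟩) := by
    have h5 : (PiTensorProduct.tprod B v) =
        ∑ r ∈ Fintype.piFinset s, (∏ j, a j (r j)) • PiTensorProduct.tprod B fun j => e (r j) := by
      have h6 : v = fun j => ∑ k ∈ s j, a j k • e k := funext h1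
      conv_lhs => rw [h6]
      rw [MultilinearMap.map_sum_finset]
      refine Finset.sum_congr rfl fun r _ => ?_
      rw [MultilinearMap.map_smul_univ]
    rw [h5, map_sum, map_sum]
    refine Finset.sum_congr rfl fun r _ => ?_
    rw [map_smul, map_smul, gLinF_basis]
  rw [h4]
  refine grmk_eq_of_sub_mem _ _ _ ?_
  rw [Submodule.coe_sum]
  have h7 : ∏ j, ∑ k ∈ s j, a j k • w k =
      ∑ r ∈ Fintype.piFinset s, (((∏ j, a j (r j)) •
        (⟨wmonf w r, wmonf_mem w hwI r⟩ : ↥((I ^ (Fintype.card ι')).restrictScalars B)) :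
          ↥((I ^ (Fintype.card ι')).restrictScalars B)) : B ⊗[A] B) := by
    rw [Finset.prod_univ_sum]
    refine Finset.sum_congr rfl fun r _ => ?_
    rw [Submodule.coe_smul, Finset.prod_smul]
    rfl
  rw [← h7]
  have h8 : ∏ j, ∑ k ∈ s j, a j k • w k - ∏ j, (x j : B ⊗[A] B) =
      -(∏ j, (x j : B ⊗[A] B) - ∏ j, ∑ k ∈ s j, a j k • w k) := by ring
  change ∏ j, ∑ k ∈ s j, a j k • w k - ∏ j, (x j : B ⊗[A] B) ∈ _
  rw [h8]
  exact Ideal.neg_mem_iff _ |>.2 h3

/-- the map on the tensor power of the differentials -/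
noncomputable def gLinΩ (hwI : ∀ k, w k ∈ KaehlerDifferential.ideal A B) :
    PiTensorProduct B (fun _ : ι' => KaehlerDifferential A B) →ₗ[B]
      PP16.grI A B (Fintype.card ι') :=
  gLinF e w hwI ∘ₗ PiTensorProduct.map (fun _ : ι' => i)

lemma gLinΩ_tprod (hwI : ∀ k, w k ∈ KaehlerDifferential.ideal A B)
    (ω : ι' → KaehlerDifferential A B) :
    gLinΩ e i w hwI (PiTensorProduct.tprod B ω) =
      gLinF e w hwI (PiTensorProduct.tprod B fun j => i (ω j)) := by
  unfold gLinΩ
  rw [LinearMap.comp_apply, PiTensorProduct.map_tprod]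

/-- the canonical map from the symmetric power -/
noncomputable def phiF (hwI : ∀ k, w k ∈ KaehlerDifferential.ideal A B) :
    SymmetricPower B ι' (KaehlerDifferential A B) →ₗ[B] PP16.grI A B (Fintype.card ι') :=
  symLift ((gLinΩ e i w hwI).compMultilinearMap (PiTensorProduct.tprod B))
    (fun σ ω => by
      simp only [LinearMap.compMultilinearMap_apply]
      rw [gLinΩ_tprod, gLinΩ_tprod]
      exact gLinF_perm e w hwI σ (fun j => i (ω j)))

lemma phiF_mk (hwI : ∀ k, w k ∈ KaehlerDifferential.ideal A B)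
    (y : PiTensorProduct B (fun _ : ι' => KaehlerDifferential A B)) :
    phiF e i w hwI (SymmetricPower.mk B ι' _ y) = gLinΩ e i w hwI y := by
  unfold phiF
  rw [symLift_mk]
  congr 1
  apply PiTensorProduct.ext
  ext ω
  simp

lemma phiF_tprod (hwI : ∀ k, w k ∈ KaehlerDifferential.ideal A B)
    (ω : ι' → KaehlerDifferential A B) :
    phiF e i w hwI (SymmetricPower.tprod B ω) =
      gLinF e w hwI (PiTensorProduct.tprod B fun j => i (ω j)) := by
  change phiF e i w hwI (SymmetricPower.mk B ι' _ (PiTensorProduct.tprod B ω)) = _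
  rw [phiF_mk, gLinΩ_tprod]

/-- the values of `phiF` on products of classes of elements of `I` -/
lemma phiF_tprod_toCotangent (hπi : ∀ ω, π (i ω) = ω)
    (hwI : ∀ k, w k ∈ KaehlerDifferential.ideal A B)
    (hw : ∀ k, (KaehlerDifferential.ideal A B).toCotangent ⟨w k, hwI k⟩ = π (e k))
    (x : ι' → ↥(KaehlerDifferential.ideal A B))
    (hx : ∏ j, (x j : B ⊗[A] B) ∈ ((I) ^ (Fintype.card ι')).restrictScalars B) :
    phiF e i w hwI
        (SymmetricPower.tprod B fun j => (KaehlerDifferential.ideal A B).toCotangent (x j)) =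
      grmk A B (Fintype.card ι') ⟨∏ j, (x j : B ⊗[A] B), hx⟩ := by
  rw [phiF_tprod]
  exact gLinF_tprod e π w hwI hw _ x (fun j => (hπi _).symm) hx

lemma phiF_tprod_D (hπi : ∀ ω, π (i ω) = ω)
    (hwI : ∀ k, w k ∈ KaehlerDifferential.ideal A B)
    (hw : ∀ k, (KaehlerDifferential.ideal A B).toCotangent ⟨w k, hwI k⟩ = π (e k))
    (β : ι' → B) :
    phiF e i w hwI (SymmetricPower.tprod B fun j => KaehlerDifferential.D A B (β j)) =
      PP16.zetaProd A B β := by
  rw [zetaProd_eq]
  exact phiF_tprod_toCotangent e π i w hπi hwI hw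
    (fun j => ⟨dgen (A := A) (β j), dgen_mem (β j)⟩) _

end phiF

end Groth.Agent.LibPP29
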