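import Mathlib
import Groth.Prelude.Def_CAlgX
import Groth.Prelude.Def_PP16
import Groth.Agent.LibQuasiBC29
import Groth.Agent.S3824
import Groth.Agent.LibSymGr29b

/-!
# Locally quasi-regular ideals without denominators (helper29)

`LD J g a` : the family `a : Fin r → J` generates `J` and is quasi-regular after inverting `g`,
expressed in `R`. `isLocallyQuasiRegular_iff_LD`.
-/

set_option autoImplicit false
set_option linter.unusedSectionVars false
universe u v w

namespace Groth.Agent.LibSymGr29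

open MvPolynomial Groth.Agent.LibQuasiBC29
open scoped BigOperators

variable {R : Type u} [CommRing R]

/-- local data for a quasi-regular ideal, without denominators. -/
structure LD (J : Ideal R) (g : R) {r : ℕ} (a : Fin r → ↥J) : Prop where
  span : ∀ y ∈ J, ∃ k : ℕ, g ^ k * y ∈ Ideal.span (Set.range fun i => (a i : R))
  quasi : ∀ (n : ℕ) (P : MvPolynomial (Fin r) R), P.IsHomogeneous n →
    eval (fun i => (a i : R)) P ∈ J ^ (n + 1) → ∃ k : ℕ, ∀ d, g ^ k * P.coeff d ∈ J

lemma exists_pow_mul_mem (g : R) (I : Ideal R) (y : R)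
    (h : algebraMap R (Localization.Away g) y ∈ I.map (algebraMap R (Localization.Away g))) :
    ∃ k : ℕ, g ^ k * y ∈ I := by
  rw [IsLocalization.mem_map_algebraMap_iff (Submonoid.powers g)] at h
  obtain ⟨⟨b, s⟩, hbs⟩ := h
  rw [← map_mul, IsLocalization.eq_iff_exists (Submonoid.powers g)] at hbs
  obtain ⟨c, hc⟩ := hbs
  obtain ⟨k1, hk1⟩ := s.2
  obtain ⟨k2, hk2⟩ := c.2
  refine ⟨k2 + k1, ?_⟩
  have hk1' : g ^ k1 = (s : R) := hk1
  have hk2' : g ^ k2 = (c : R) := hk2
  have : g ^ (k2 + k1) * y = (c : R) * (b : R) := by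
    have hc' : (c : R) * (y * (s : R)) = (c : R) * (b : R) := hc
    rw [← hc', pow_add, hk1', hk2']; ring
  rw [this]
  exact I.mul_mem_left _ b.2

lemma mem_of_pow_mul_mem (g : R) (I : Ideal R) (z : Localization.Away g) (k : ℕ)
    (h : algebraMap R (Localization.Away g) (g ^ k) * z ∈ I.map (algebraMap R (Localization.Away g))) :
    z ∈ I.map (algebraMap R (Localization.Away g)) := by
  have hu : IsUnit (algebraMap R (Localization.Away g) (g ^ k)) :=
    IsLocalization.map_units _ (⟨g ^ k, k, rfl⟩ : Submonoid.powers g)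
  exact (Ideal.unit_mul_mem_iff_mem _ hu).1 h

lemma eval_map_comp {R' : Type*} [CommRing R'] (φ : R →+* R') {r : ℕ} (f : Fin r → R)
    (P : MvPolynomial (Fin r) R) : eval (φ ∘ f) (map φ P) = φ (eval f P) := by
  rw [eval_map]
  have := eval₂_comp_left φ (RingHom.id R) f P
  rw [RingHom.comp_id] at this
  rw [← this]
  rfl

theorem exists_LD_of_isLocallyQuasiRegular (J : Ideal R) (h : PP16.IsLocallyQuasiRegular R J)
    (P : Ideal R) [P.IsPrime] (hJP : J ≤ P) :
    ∃ g : R, g ∉ P ∧ ∃ (r : ℕ) (a : Fin r → ↥J), LD J g a := by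
  obtain ⟨g, hg, r, f, hf, hspan⟩ := h P hJP
  set φ := algebraMap R (Localization.Away g) with hφ
  have hmem : ∀ i, f i ∈ J.map φ := fun i => hspan ▸ Ideal.subset_span ⟨i, rfl⟩
  choose x hx using fun i =>
    (IsLocalization.mem_map_algebraMap_iff (Submonoid.powers g) (Localization.Away g)).1 (hmem i)
  let a : Fin r → ↥J := fun i => (x i).1
  let f' : Fin r → Localization.Away g := fun i => φ (a i)
  have hunit : ∀ i, IsUnit (φ ((x i).2 : R)) := fun i => IsLocalization.map_units _ (x i).2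
  have hspan' : Ideal.span (Set.range f') = Ideal.span (Set.range f) := by
    apply le_antisymm
    · rw [Ideal.span_le]
      rintro _ ⟨i, rfl⟩
      show φ (a i) ∈ _
      rw [← hx i]
      exact Ideal.mul_mem_right _ _ (Ideal.subset_span ⟨i, rfl⟩)
    · rw [Ideal.span_le]
      rintro _ ⟨i, rfl⟩
      have : f i * φ (x i).2 ∈ Ideal.span (Set.range f') := by
        rw [hx i]
        exact Ideal.subset_span ⟨i, rfl⟩
      exact (Ideal.mul_unit_mem_iff_mem _ (hunit i)).1 this
  have hf' : CAlgX.IsQuasiRegular f' := Groth.Agent.S3824.result f f' hf hspan'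
  have hJmap : (Ideal.span (Set.range fun i => (a i : R))).map φ = J.map φ := by
    rw [Ideal.map_span, ← Set.range_comp, ← hspan, ← hspan']
    rfl
  refine ⟨g, hg, r, a, ?_, ?_⟩
  · intro y hy
    apply exists_pow_mul_mem g _ y
    rw [hJmap]
    exact Ideal.mem_map_of_mem _ hy
  · intro n Q hQ hmemQ
    have key : ∀ d, φ (Q.coeff d) ∈ J.map φ := by
      intro d
      have hQ' : (map φ Q).IsHomogeneous n := hQ.map φ
      have heval : eval f' (map φ Q) = φ (eval (fun i => (a i : R)) Q) :=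
        eval_map_comp φ (fun i => (a i : R)) Q
      have h1 := hf' n (map φ Q) hQ' (by
        rw [heval, hspan', hspan, ← Ideal.map_pow]
        exact Ideal.mem_map_of_mem _ hmemQ) d
      rw [coeff_map, hspan', hspan] at h1
      exact h1
    choose k hk using fun d => exists_pow_mul_mem g J _ (key d)
    refine ⟨Q.support.sup k, fun d => ?_⟩
    by_cases hd : d ∈ Q.support
    · have hle := Finset.le_sup (f := k) hd
      obtain ⟨m, hm⟩ := Nat.exists_eq_add_of_le hle
      rw [hm, pow_add, mul_comm (g ^ k d), mul_assoc]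
      exact J.mul_mem_left _ (hk d)
    · rw [MvPolynomial.notMem_support_iff.1 hd, mul_zero]
      exact J.zero_mem

theorem isQuasiRegular_of_LD (J : Ideal R) (g : R) {r : ℕ} (a : Fin r → ↥J) (h : LD J g a) :
    CAlgX.IsQuasiRegular (fun i => algebraMap R (Localization.Away g) (a i)) ∧
      Ideal.span (Set.range fun i => algebraMap R (Localization.Away g) (a i)) =
        J.map (algebraMap R (Localization.Away g)) := by
  classical
  set φ := algebraMap R (Localization.Away g) with hφ
  set f : Fin r → Localization.Away g := fun i => φ (a i) with hf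
  have hunit : ∀ k : ℕ, IsUnit (φ (g ^ k)) := fun k =>
    IsLocalization.map_units _ (⟨g ^ k, k, rfl⟩ : Submonoid.powers g)
  have hspan : Ideal.span (Set.range f) = J.map φ := by
    apply le_antisymm
    · rw [Ideal.span_le]
      rintro _ ⟨i, rfl⟩
      exact Ideal.mem_map_of_mem _ (a i).2
    · rw [Ideal.map_le_iff_le_comap]
      intro y hy
      obtain ⟨k, hk⟩ := h.span y hy
      rw [Ideal.mem_comap]
      have h1 : φ (g ^ k * y) ∈ (Ideal.span (Set.range fun i => (a i : R))).map φ :=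
        Ideal.mem_map_of_mem _ hk
      rw [Ideal.map_span, ← Set.range_comp, map_mul] at h1
      exact (Ideal.unit_mul_mem_iff_mem _ (hunit k)).1 h1
  refine ⟨?_, hspan⟩
  rw [quasi_iff]
  intro n c hc d hd
  rw [hspan] at hc ⊢
  obtain ⟨b, hb⟩ := IsLocalization.exist_integer_multiples_of_finset (Submonoid.powers g)
    ((Dn r n).image c)
  obtain ⟨m, hm⟩ := b.2
  have hm' : g ^ m = (b : R) := hm
  have hint : ∀ d', ∃ c₀ : R, d' ∈ Dn r n → φ c₀ = φ (g ^ m) * c d' := by
    intro d'
    by_cases hd' : d' ∈ Dn r n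
    · obtain ⟨c₀, hc₀⟩ := hb (c d') (Finset.mem_image_of_mem c hd')
      refine ⟨c₀, fun _ => ?_⟩
      rw [hc₀, Algebra.smul_def, hm']
    · exact ⟨0, fun h => absurd h hd'⟩
  choose c₀ hc₀ using hint
  have hP₀ : (polyOf n c₀).IsHomogeneous n := polyOf_isHomogeneous n c₀
  have hfpow : ∀ d' : Fin r →₀ ℕ, φ (fpow (fun i => (a i : R)) d') = fpow f d' := by
    intro d'
    unfold fpow
    rw [map_prod]
    simp only [map_pow, hf]
  have heval : φ (eval (fun i => (a i : R)) (polyOf n c₀)) =
      φ (g ^ m) * ∑ d ∈ Dn r n, c d * fpow f d := by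
    rw [eval_polyOf, map_sum, Finset.mul_sum]
    refine Finset.sum_congr rfl fun d' hd' => ?_
    rw [map_mul, hc₀ d' hd', mul_assoc, hfpow]
  have h2 : φ (eval (fun i => (a i : R)) (polyOf n c₀)) ∈ (J ^ (n + 1)).map φ := by
    rw [heval, Ideal.map_pow]
    exact Ideal.mul_mem_left _ _ hc
  obtain ⟨l, hl⟩ := exists_pow_mul_mem g _ _ h2
  have hP₁ : (C (g ^ l) * polyOf n c₀).IsHomogeneous n := hP₀.C_mul _
  obtain ⟨k, hk⟩ := h.quasi n (C (g ^ l) * polyOf n c₀) hP₁ (by
    rw [map_mul, eval_C]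
    exact hl)
  have h3 := hk d
  rw [coeff_C_mul, coeff_polyOf n c₀ hd] at h3
  have h4 : φ (g ^ k * (g ^ l * c₀ d)) ∈ J.map φ := Ideal.mem_map_of_mem _ h3
  rw [← mul_assoc, ← pow_add, map_mul, hc₀ d hd, ← mul_assoc, ← map_mul, ← pow_add] at h4
  exact mem_of_pow_mul_mem g J _ _ h4

theorem isLocallyQuasiRegular_iff_LD (J : Ideal R) :
    PP16.IsLocallyQuasiRegular R J ↔
      ∀ (P : Ideal R) [P.IsPrime], J ≤ P →
        ∃ g : R, g ∉ P ∧ ∃ (r : ℕ) (a : Fin r → ↥J), LD J g a := by
  constructor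
  · intro h P _ hJP
    exact exists_LD_of_isLocallyQuasiRegular J h P hJP
  · intro h P _ hJP
    obtain ⟨g, hg, r, a, hLD⟩ := h P hJP
    obtain ⟨h1, h2⟩ := isQuasiRegular_of_LD J g a hLD
    exact ⟨g, hg, r, _, h1, h2⟩

end Groth.Agent.LibSymGr29
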