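import Mathlib
import Groth.Agent.LibSymGr29c

/-!
# Locally quasi-regular ideals: `J` f.g., `J/J²` projective, `Sym(J/J²) ≅ gr_J` (helper29)
-/

set_option autoImplicit false
set_option linter.unusedSectionVars false
universe u v w

namespace Groth.Agent.LibSymGr29

open MvPolynomial Groth.Agent.LibQuasiBC29
open scoped BigOperators

section general

variable {S : Type*} [CommRing S] (s : S) {N M : Type*} [AddCommGroup N] [Module S N]
  [AddCommGroup M] [Module S M]

/-- a linear map whose kernel and cokernel are `s`-power torsion becomes bijective after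
inverting `s`. -/
theorem bijective_map_of_torsion (ψ : N →ₗ[S] M)
    (hsurj : ∀ m, ∃ k : ℕ, s ^ k • m ∈ LinearMap.range ψ)
    (hinj : ∀ c, ψ c = 0 → ∃ k : ℕ, s ^ k • c = 0) :
    Function.Bijective (LocalizedModule.map (Submonoid.powers s) ψ) := by
  constructor
  · rw [injective_iff_map_eq_zero]
    intro z hz
    induction z using LocalizedModule.induction_on with
    | h c w =>
      rw [LocalizedModule.map_mk, ← LocalizedModule.zero_mk w, LocalizedModule.mk_eq] at hz
      obtain ⟨u, hu⟩ := hz
      rw [smul_zero, smul_zero] at hu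
      have hu' : ψ (((u : S) * (w : S)) • c) = 0 := by
        rw [map_smul, mul_smul]
        exact hu
      obtain ⟨k, hk⟩ := hinj _ hu'
      rw [← LocalizedModule.zero_mk w, LocalizedModule.mk_eq]
      refine ⟨⟨s ^ k, k, rfl⟩ * u, ?_⟩
      rw [smul_zero, smul_zero]
      change (s ^ k * (u : S)) • (w : S) • c = 0
      rw [smul_smul, mul_assoc, ← smul_smul]
      exact hk
  · intro z
    induction z using LocalizedModule.induction_on with
    | h m w =>
      obtain ⟨k, c, hc⟩ := hsurj m
      refine ⟨LocalizedModule.mk c (⟨s ^ k, k, rfl⟩ * w), ?_⟩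
      rw [LocalizedModule.map_mk, hc]
      exact LocalizedModule.mk_cancel_common_left (⟨s ^ k, k, rfl⟩ : Submonoid.powers s) w m

theorem free_localizedModule_of_torsion [Module.Free S N] (ψ : N →ₗ[S] M)
    (hsurj : ∀ m, ∃ k : ℕ, s ^ k • m ∈ LinearMap.range ψ)
    (hinj : ∀ c, ψ c = 0 → ∃ k : ℕ, s ^ k • c = 0) :
    Module.Free (Localization (Submonoid.powers s)) (LocalizedModule (Submonoid.powers s) M) := by
  haveI : Module.Free (Localization (Submonoid.powers s))
      (LocalizedModule (Submonoid.powers s) N) :=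
    Module.free_of_isLocalizedModule (Submonoid.powers s)
      (LocalizedModule.mkLinearMap (Submonoid.powers s) N)
  exact Module.Free.of_equiv (LinearEquiv.ofBijective _ (bijective_map_of_torsion s ψ hsurj hinj))

end general

section forward

variable {R : Type u} [CommRing R] (J : Ideal R)

theorem fg_of_isLocallyQuasiRegular (h : PP16.IsLocallyQuasiRegular R J) : J.FG := by
  apply Ideal.fg_of_localizationSpan {g | (J.map (algebraMap R (Localization.Away g))).FG}
  · by_contra hne
    obtain ⟨P, hPmax, hle⟩ := Ideal.exists_le_maximal _ hne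
    haveI := hPmax.isPrime
    by_cases hJP : J ≤ P
    · obtain ⟨g, hg, r, f, hf, hspan⟩ := h P hJP
      refine hg (hle (Ideal.subset_span ?_))
      show (J.map (algebraMap R (Localization.Away g))).FG
      rw [← hspan]
      exact Submodule.fg_span (Set.finite_range f)
    · obtain ⟨g, hgJ, hgP⟩ := SetLike.not_le_iff_exists.1 hJP
      apply hgP
      apply hle
      apply Ideal.subset_span
      show (J.map (algebraMap R (Localization.Away g))).FG
      have : J.map (algebraMap R (Localization.Away g)) = ⊤ :=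
        Ideal.eq_top_of_isUnit_mem _ (Ideal.mem_map_of_mem _ hgJ)
          (IsLocalization.Away.algebraMap_isUnit g)
      rw [this]
      exact ⟨{1}, by simp⟩
  · intro g
    exact g.2

variable {J} in
lemma LD.span_cot {g : R} {r : ℕ} {a : Fin r → ↥J} (h : LD J g a) (m : J.Cotangent) :
    ∃ k : ℕ, g ^ k • m ∈ Submodule.span R (Set.range (cls J a)) := by
  obtain ⟨y, rfl⟩ := J.toCotangent_surjective m
  obtain ⟨k, hk⟩ := h.span y y.2
  refine ⟨k, ?_⟩
  obtain ⟨c, hc⟩ := (Ideal.mem_span_range_iff_exists_fun).1 hk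
  have h1 : g ^ k • y = ∑ i, c i • a i := by
    apply Subtype.ext
    rw [Submodule.coe_sum]
    simp only [Submodule.coe_smul, smul_eq_mul]
    exact hc.symm
  rw [← map_smul, h1, map_sum]
  refine Submodule.sum_mem _ fun i _ => ?_
  rw [map_smul]
  exact Submodule.smul_mem _ _ (Submodule.subset_span ⟨i, rfl⟩)

theorem phiJ_injective_of_isLocallyQuasiRegular (h : PP16.IsLocallyQuasiRegular R J)
    (ι : Type u) [Fintype ι] [Nonempty ι] : Function.Injective (phiJ J ι) := by
  classical
  rw [injective_iff_map_eq_zero]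
  intro x hx
  by_contra hne
  let I : Ideal R := LinearMap.ker (LinearMap.toSpanSingleton R _ x)
  have hmemI : ∀ c : R, c ∈ I ↔ c • x = 0 := fun c => by
    simp only [I, LinearMap.mem_ker, LinearMap.toSpanSingleton_apply]
  have hI : I ≠ ⊤ := fun htop => hne (by
    have : (1 : R) ∈ I := htop ▸ Submodule.mem_top
    rwa [hmemI, one_smul] at this)
  obtain ⟨P, hPmax, hle⟩ := Ideal.exists_le_maximal I hI
  haveI := hPmax.isPrime
  by_cases hJP : J ≤ P
  · obtain ⟨g, hg, r, a, hLD⟩ := exists_LD_of_isLocallyQuasiRegular J h P hJP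
    suffices ∃ k : ℕ, g ^ k • x = 0 by
      obtain ⟨k, hk⟩ := this
      exact hg (hPmax.isPrime.mem_of_pow_mem k (hle ((hmemI _).2 hk)))
    obtain ⟨k, Q, hQ, hkQ⟩ := exists_pow_smul_eq_Psi (cls J a) g hLD.span_cot x
    have h1 : phiJ J ι (Psi R ι (cls J a) Q) = 0 := by rw [← hkQ, map_smul, hx, smul_zero]
    rw [phiJ_Psi J a Q hQ, grmk_eq_zero_iff] at h1
    obtain ⟨l, hl⟩ := hLD.quasi _ Q hQ h1
    refine ⟨l + k, ?_⟩
    rw [pow_add, mul_smul, hkQ, ← map_smul, Psi_apply]
    refine Finset.sum_eq_zero fun d _ => ?_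
    rw [coeff_smul, smul_eq_mul]
    exact smul_eq_zero_of_mem J ι (hl d) _
  · obtain ⟨g, hgJ, hgP⟩ := SetLike.not_le_iff_exists.1 hJP
    exact hgP (hle ((hmemI _).2 (smul_eq_zero_of_mem J ι hgJ x)))

theorem symGrBijective_of_isLocallyQuasiRegular (h : PP16.IsLocallyQuasiRegular R J) :
    PP16.SymGrBijective R J :=
  (symGrBijective_iff J).2 fun ι _ _ => phiJ_injective_of_isLocallyQuasiRegular J h ι

lemma mk_smul_cot (r : R) (m : J.Cotangent) : (Ideal.Quotient.mk J r) • m = r • m := by
  rw [← Ideal.Quotient.algebraMap_eq, algebraMap_smul]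

variable {J} in
theorem LD.free_localizedModule {g : R} {r : ℕ} {a : Fin r → ↥J} (hLD : LD J g a) :
    Module.Free (Localization (Submonoid.powers (Ideal.Quotient.mk J g)))
      (LocalizedModule (Submonoid.powers (Ideal.Quotient.mk J g)) J.Cotangent) := by
  classical
  let ψ : (Fin r → R ⧸ J) →ₗ[R ⧸ J] J.Cotangent := Fintype.linearCombination (R ⧸ J) (cls J a)
  apply free_localizedModule_of_torsion (Ideal.Quotient.mk J g) ψ
  · intro m
    obtain ⟨k, hk⟩ := hLD.span_cot m
    obtain ⟨c, hc⟩ := (Submodule.mem_span_range_iff_exists_fun R).1 hk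
    refine ⟨k, fun i => Ideal.Quotient.mk J (c i), ?_⟩
    show Fintype.linearCombination (R ⧸ J) (cls J a) _ = _
    rw [Fintype.linearCombination_apply, ← map_pow, mk_smul_cot, ← hc]
    exact Finset.sum_congr rfl fun i _ => mk_smul_cot J _ _
  · intro c hc
    choose c₀ hc₀ using fun i => Ideal.Quotient.mk_surjective (c i)
    have h1 : J.toCotangent (∑ i, c₀ i • a i) = 0 := by
      rw [map_sum]
      have : ψ c = 0 := hc
      rw [← this]
      show _ = Fintype.linearCombination (R ⧸ J) (cls J a) c
      rw [Fintype.linearCombination_apply]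
      refine Finset.sum_congr rfl fun i _ => ?_
      rw [map_smul, ← hc₀ i, mk_smul_cot]
      rfl
    rw [Ideal.toCotangent_eq_zero] at h1
    set Q : MvPolynomial (Fin r) R := ∑ i, C (c₀ i) * X i with hQdef
    have hQ : Q.IsHomogeneous 1 :=
      MvPolynomial.IsHomogeneous.sum _ _ _ fun i _ => MvPolynomial.isHomogeneous_C_mul_X _ _
    have hev : eval (fun i => (a i : R)) Q = ((∑ i, c₀ i • a i : ↥J) : R) := by
      rw [hQdef, map_sum, Submodule.coe_sum]
      refine Finset.sum_congr rfl fun i _ => ?_
      rw [map_mul, eval_C, eval_X]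
      rfl
    obtain ⟨k, hk⟩ := hLD.quasi 1 Q hQ (by rw [hev]; exact h1)
    refine ⟨k, ?_⟩
    funext i
    have h2 := hk (Finsupp.single i 1)
    have h3 : Q.coeff (Finsupp.single i 1) = c₀ i := by
      rw [hQdef, coeff_sum]
      simp only [coeff_C_mul, coeff_X']
      rw [Finset.sum_eq_single i]
      · simp
      · intro j _ hji
        rw [if_neg, mul_zero]
        intro hh
        exact hji (Finsupp.single_left_injective one_ne_zero hh)
      · intro hi
        exact absurd (Finset.mem_univ i) hi
    rw [h3] at h2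
    show ((Ideal.Quotient.mk J g) ^ k • c) i = 0
    rw [Pi.smul_apply, smul_eq_mul, ← hc₀ i, ← map_pow, ← map_mul]
    exact Ideal.Quotient.eq_zero_iff_mem.2 h2

theorem projective_cotangent_of_isLocallyQuasiRegular (h : PP16.IsLocallyQuasiRegular R J) :
    Module.Projective (R ⧸ J) J.Cotangent := by
  classical
  let t : Set (R ⧸ J) :=
    {s | ∃ (g : R) (r : ℕ) (a : Fin r → ↥J), s = Ideal.Quotient.mk J g ∧ LD J g a}
  have ht : Ideal.span t = ⊤ := by
    by_contra hne
    obtain ⟨Pb, hPmax, hle⟩ := Ideal.exists_le_maximal _ hne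
    haveI := hPmax.isPrime
    let P := Pb.comap (Ideal.Quotient.mk J)
    haveI : P.IsPrime := Ideal.comap_isPrime _ _
    have hJP : J ≤ P := fun y hy => by
      show Ideal.Quotient.mk J y ∈ Pb
      rw [Ideal.Quotient.eq_zero_iff_mem.2 hy]
      exact Pb.zero_mem
    obtain ⟨g, hg, r, a, hLD⟩ := exists_LD_of_isLocallyQuasiRegular J h P hJP
    exact hg (hle (Ideal.subset_span ⟨g, r, a, rfl, hLD⟩))
  have hfree : ∀ s : t, Module.Free (Localization.Away s.1)
      (LocalizedModule.Away s.1 J.Cotangent) := by
    rintro ⟨s, g, r, a, rfl, hLD⟩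
    exact hLD.free_localizedModule
  have hJfg : J.FG := fg_of_isLocallyQuasiRegular J h
  haveI : Module.Finite (R ⧸ J) J.Cotangent := by
    haveI : Module.Finite R J := Module.Finite.iff_fg.2 hJfg
    haveI : Module.Finite R J.Cotangent :=
      Module.Finite.of_surjective J.toCotangent J.toCotangent_surjective
    exact Module.Finite.of_restrictScalars_finite R (R ⧸ J) J.Cotangent
  haveI : Module.FinitePresentation (R ⧸ J) J.Cotangent := by
    refine Module.FinitePresentation.of_localizationSpan t ht fun s => ?_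
    haveI := hfree s
    haveI : Module.Finite (Localization.Away s.1) (LocalizedModule.Away s.1 J.Cotangent) :=
      Module.Finite.of_isLocalizedModule (Submonoid.powers s.1)
        (LocalizedModule.mkLinearMap (Submonoid.powers s.1) J.Cotangent)
    exact Module.finitePresentation_of_projective _ _
  haveI : Module.Flat (R ⧸ J) J.Cotangent := by
    refine Module.flat_of_localized_span _ _ t ht fun s => ?_
    haveI := hfree s
    haveI : Module.Flat (Localization.Away s.1) (LocalizedModule.Away s.1 J.Cotangent) :=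
      inferInstance
    exact Module.Flat.trans (R ⧸ J) (Localization.Away s.1) _
  exact Module.Flat.projective_of_finitePresentation

theorem forward (h : PP16.IsLocallyQuasiRegular R J) :
    J.FG ∧ Module.Projective (R ⧸ J) J.Cotangent ∧ PP16.SymGrBijective R J :=
  ⟨fg_of_isLocallyQuasiRegular J h, projective_cotangent_of_isLocallyQuasiRegular J h,
    symGrBijective_of_isLocallyQuasiRegular J h⟩

end forward

end Groth.Agent.LibSymGr29
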