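import Mathlib
import Groth.Agent.LibSymGr29d

/-!
# Converse: `J` f.g., `J/J²` projective, `Sym(J/J²) ≅ gr_J` ⇒ `J` locally quasi-regular (helper29)
-/

set_option autoImplicit false
set_option linter.unusedSectionVars false
universe u v w

namespace Groth.Agent.LibSymGr29

open MvPolynomial Groth.Agent.LibQuasiBC29
open scoped BigOperators

section localcoords

variable {S : Type u} [CommRing S] {M : Type v} [AddCommGroup M] [Module S M]

/-- local coordinates of a finite projective module near a prime. -/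
theorem exists_local_coords [Module.Finite S M] [Module.Projective S M] (p : Ideal S)
    [p.IsPrime] :
    ∃ s : S, s ∉ p ∧ ∃ (r : ℕ) (v : Fin r → M),
      (∀ m : M, ∃ k : ℕ, s ^ k • m ∈ Submodule.span S (Set.range v)) ∧
      ∃ ℓ : M →ₗ[S] MvPolynomial (Fin r) (Localization (Submonoid.powers s)),
        ∀ i, ℓ (v i) = X i := by
  classical
  haveI : Module.FinitePresentation S M := Module.finitePresentation_of_projective S M
  haveI : Module.Finite (Localization.AtPrime p) (LocalizedModule p.primeCompl M) :=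
    Module.Finite.of_isLocalizedModule p.primeCompl
      (LocalizedModule.mkLinearMap p.primeCompl M)
  haveI : Module.Free (Localization.AtPrime p) (LocalizedModule p.primeCompl M) :=
    Module.free_of_flat_of_isLocalRing
  obtain ⟨s, hs, b', -⟩ := Module.FinitePresentation.exists_basis_localizedModule_powers
    p.primeCompl (LocalizedModule.mkLinearMap p.primeCompl M) (Localization.AtPrime p)
    (Module.finBasis (Localization.AtPrime p) (LocalizedModule p.primeCompl M))
  set r := Module.finrank (Localization.AtPrime p) (LocalizedModule p.primeCompl M) with hr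
  have hrep : ∀ i, ∃ (m : M) (w : Submonoid.powers s), b' i = LocalizedModule.mk m w := by
    intro i
    generalize b' i = z
    induction z using LocalizedModule.induction_on with
    | h m w => exact ⟨m, w, rfl⟩
  choose v w hvw using hrep
  let u : Fin r → (Localization (Submonoid.powers s))ˣ := fun i =>
    (IsLocalization.map_units (Localization (Submonoid.powers s)) (w i)).unit
  let b'' := b'.unitsSMul u
  have hb'' : ∀ i, b'' i = LocalizedModule.mkLinearMap (Submonoid.powers s) M (v i) := by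
    intro i
    rw [Module.Basis.unitsSMul_apply, hvw i, LocalizedModule.mkLinearMap_apply]
    show (algebraMap S (Localization (Submonoid.powers s)) (w i)) •
      (LocalizedModule.mk (v i) (w i) : LocalizedModule (Submonoid.powers s) M) = _
    rw [algebraMap_smul, LocalizedModule.smul'_mk]
    exact LocalizedModule.mk_cancel (w i) (v i)
  refine ⟨s, hs, r, v, ?_, ?_⟩
  · let φ : (Fin r → S) →ₗ[S] M := Fintype.linearCombination S v
    have hrange : LinearMap.range φ = Submodule.span S (Set.range v) :=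
      Fintype.range_linearCombination S v
    have hsurj : Function.Surjective (LocalizedModule.map (Submonoid.powers s) φ) := by
      rw [← LinearMap.range_eq_top, eq_top_iff, ← b''.span_eq, Submodule.span_le]
      rintro _ ⟨j, rfl⟩
      refine ⟨LocalizedModule.mk (Pi.single j 1) 1, ?_⟩
      rw [LocalizedModule.map_mk, hb'' j, LocalizedModule.mkLinearMap_apply]
      congr 1
      show Fintype.linearCombination S v (Pi.single j 1) = v j
      rw [Fintype.linearCombination_apply_single, one_smul]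
    rw [LinearMap.localizedMap_surjective_iff_subsingleton_localized_coker,
      LocalizedModule.subsingleton_iff] at hsurj
    intro m
    obtain ⟨t, ⟨k, hk⟩, ht⟩ := hsurj (Submodule.Quotient.mk m)
    refine ⟨k, ?_⟩
    rw [← hrange, ← Submodule.Quotient.mk_eq_zero, Submodule.Quotient.mk_smul]
    have hk' : s ^ k = t := hk
    rw [hk']
    exact ht
  · let coordS : Fin r → M →ₗ[S] Localization (Submonoid.powers s) := fun i =>
      ((b''.coord i).restrictScalars S) ∘ₗ (LocalizedModule.mkLinearMap (Submonoid.powers s) M)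
    let monoX : Fin r → Localization (Submonoid.powers s) →ₗ[S]
        MvPolynomial (Fin r) (Localization (Submonoid.powers s)) := fun i =>
      (MvPolynomial.monomial (Finsupp.single i 1) :
        Localization (Submonoid.powers s) →ₗ[Localization (Submonoid.powers s)]
          MvPolynomial (Fin r) (Localization (Submonoid.powers s))).restrictScalars S
    refine ⟨∑ i, monoX i ∘ₗ coordS i, fun j => ?_⟩
    rw [LinearMap.sum_apply, Finset.sum_eq_single j]
    · show MvPolynomial.monomial (Finsupp.single j 1)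
        (b''.coord j (LocalizedModule.mkLinearMap (Submonoid.powers s) M (v j))) = X j
      rw [← hb'' j, Module.Basis.coord_apply, Module.Basis.repr_self, Finsupp.single_eq_same]
      rfl
    · intro i _ hij
      show MvPolynomial.monomial (Finsupp.single i 1)
        (b''.coord i (LocalizedModule.mkLinearMap (Submonoid.powers s) M (v j))) = 0
      rw [← hb'' j, Module.Basis.coord_apply, Module.Basis.repr_self,
        Finsupp.single_eq_of_ne hij, map_zero]
    · intro hj
      exact absurd (Finset.mem_univ j) hj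

end localcoords

section backward

variable {R : Type u} [CommRing R] (J : Ideal R)

/-- Nakayama at a prime, spread out to a neighbourhood. -/
theorem exists_mul_mem_of_local (hfg : J.FG) (P : Ideal R) [P.IsPrime] (hJP : J ≤ P)
    (𝔞 : Ideal R) (g₀ : R) (hg₀ : g₀ ∉ P)
    (hloc : ∀ y ∈ J, ∃ k : ℕ, g₀ ^ k * y ∈ 𝔞 ⊔ J ^ 2) :
    ∃ h : R, h ∉ P ∧ ∀ y ∈ J, h * y ∈ 𝔞 := by
  classical
  set φ := algebraMap R (Localization.AtPrime P) with hφ
  have h1 : J.map φ ≤ 𝔞.map φ ⊔ (J.map φ) • (J.map φ) := by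
    rw [Ideal.map_le_iff_le_comap]
    intro y hy
    obtain ⟨k, hk⟩ := hloc y hy
    rw [Ideal.mem_comap]
    have h2 : φ (g₀ ^ k * y) ∈ (𝔞 ⊔ J ^ 2).map φ := Ideal.mem_map_of_mem _ hk
    rw [Ideal.map_sup, Ideal.map_pow, pow_two, map_mul] at h2
    have hu : IsUnit (φ (g₀ ^ k)) :=
      IsLocalization.map_units _ (⟨g₀ ^ k, fun hmem => hg₀ (‹P.IsPrime›.mem_of_pow_mem k hmem)⟩ :
        P.primeCompl)
    exact (Ideal.unit_mul_mem_iff_mem _ hu).1 h2
  have h3 : J.map φ ≤ 𝔞.map φ := by
    refine Submodule.le_of_le_smul_of_le_jacobson_bot (Ideal.FG.map hfg φ) ?_ h1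
    rw [IsLocalRing.jacobson_eq_maximalIdeal ⊥ bot_ne_top,
      ← Localization.AtPrime.map_eq_maximalIdeal]
    exact Ideal.map_mono hJP
  have h4 : ∀ y ∈ J, ∃ h : R, h ∉ P ∧ h * y ∈ 𝔞 := by
    intro y hy
    have h5 : φ y ∈ 𝔞.map φ := h3 (Ideal.mem_map_of_mem _ hy)
    rw [IsLocalization.mem_map_algebraMap_iff P.primeCompl] at h5
    obtain ⟨⟨b, w⟩, hbw⟩ := h5
    rw [← map_mul, IsLocalization.eq_iff_exists P.primeCompl] at hbw
    obtain ⟨c, hc⟩ := hbw
    refine ⟨(c : R) * (w : R), fun hmem => (‹P.IsPrime›.mem_or_mem hmem).elim c.2 w.2, ?_⟩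
    have : (c : R) * (w : R) * y = (c : R) * (b : R) := by
      have hc' : (c : R) * (y * (w : R)) = (c : R) * (b : R) := hc
      rw [← hc']
      ring
    rw [this]
    exact 𝔞.mul_mem_left _ b.2
  obtain ⟨T, hT⟩ := hfg
  have h6 : ∀ T' : Finset R, (∀ y ∈ T', y ∈ J) → ∃ h : R, h ∉ P ∧ ∀ y ∈ T', h * y ∈ 𝔞 := by
    intro T'
    induction T' using Finset.induction_on with
    | empty => exact fun _ => ⟨1, ‹P.IsPrime›.one_notMem, fun y hy => absurd hy (Finset.notMem_empty y)⟩
    | insert y₀ T' hy₀ ih =>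
      intro hmem
      obtain ⟨h₁, hh₁, hh₁'⟩ := ih fun y hy => hmem y (Finset.mem_insert_of_mem hy)
      obtain ⟨h₂, hh₂, hh₂'⟩ := h4 y₀ (hmem y₀ (Finset.mem_insert_self _ _))
      refine ⟨h₁ * h₂, fun hm => (‹P.IsPrime›.mem_or_mem hm).elim hh₁ hh₂, fun y hy => ?_⟩
      rcases Finset.mem_insert.1 hy with rfl | hy
      · rw [mul_assoc]
        exact 𝔞.mul_mem_left _ hh₂'
      · rw [mul_comm h₁ h₂, mul_assoc]
        exact 𝔞.mul_mem_left _ (hh₁' y hy)
  obtain ⟨h, hh, hh'⟩ := h6 T fun y hy => hT ▸ Ideal.subset_span hy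
  refine ⟨h, hh, fun y hy => ?_⟩
  rw [← hT] at hy
  induction hy using Submodule.span_induction with
  | mem y hy => exact hh' y hy
  | zero => rw [mul_zero]; exact 𝔞.zero_mem
  | add y z _ _ hy hz => rw [mul_add]; exact 𝔞.add_mem hy hz
  | smul c y _ hy =>
    rw [smul_eq_mul, mul_left_comm]
    exact 𝔞.mul_mem_left _ hy

theorem exists_LD_of_fg_projective_symGr (hfg : J.FG)
    (hproj : Module.Projective (R ⧸ J) J.Cotangent) (hsym : PP16.SymGrBijective R J)
    (P : Ideal R) [hP : P.IsPrime] (hJP : J ≤ P) :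
    ∃ g : R, g ∉ P ∧ ∃ (r : ℕ) (a : Fin r → ↥J), LD J g a := by
  classical
  haveI : Module.Finite (R ⧸ J) J.Cotangent := by
    haveI : Module.Finite R J := Module.Finite.iff_fg.2 hfg
    haveI : Module.Finite R J.Cotangent :=
      Module.Finite.of_surjective J.toCotangent J.toCotangent_surjective
    exact Module.Finite.of_restrictScalars_finite R (R ⧸ J) J.Cotangent
  let Pb : Ideal (R ⧸ J) := P.map (Ideal.Quotient.mk J)
  haveI : Pb.IsPrime := Ideal.map_isPrime_of_surjective Ideal.Quotient.mk_surjective (by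
    rw [Ideal.mk_ker]
    exact hJP)
  have hPb : ∀ x : R, Ideal.Quotient.mk J x ∈ Pb → x ∈ P := by
    intro x hx
    have h1 : x ∈ (P.map (Ideal.Quotient.mk J)).comap (Ideal.Quotient.mk J) := hx
    rw [Ideal.comap_map_of_surjective _ Ideal.Quotient.mk_surjective, ← RingHom.ker_eq_comap_bot,
      Ideal.mk_ker, sup_eq_left.2 hJP] at h1
    exact h1
  obtain ⟨s, hs, r, v, hspanv, ℓ, hℓ⟩ :=
    exists_local_coords (S := R ⧸ J) (M := J.Cotangent) Pb
  obtain ⟨g₀, rfl⟩ := Ideal.Quotient.mk_surjective s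
  have hg₀ : g₀ ∉ P := fun h => hs (Ideal.mem_map_of_mem _ h)
  choose a ha using fun i => J.toCotangent_surjective (v i)
  have hcls : cls J a = v := funext ha
  let 𝔞 : Ideal R := Ideal.span (Set.range fun i => (a i : R))
  have hloc : ∀ y ∈ J, ∃ k : ℕ, g₀ ^ k * y ∈ 𝔞 ⊔ J ^ 2 := by
    intro y hy
    obtain ⟨k, hk⟩ := hspanv (J.toCotangent ⟨y, hy⟩)
    refine ⟨k, ?_⟩
    obtain ⟨c, hc⟩ := (Submodule.mem_span_range_iff_exists_fun (R ⧸ J)).1 hk
    choose c₀ hc₀ using fun i => Ideal.Quotient.mk_surjective (c i)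
    have h1 : J.toCotangent (g₀ ^ k • (⟨y, hy⟩ : ↥J) - ∑ i, c₀ i • a i) = 0 := by
      rw [map_sub, map_smul, map_sum, sub_eq_zero, ← mk_smul_cot, map_pow, ← hc]
      refine Finset.sum_congr rfl fun i _ => ?_
      rw [map_smul, ← mk_smul_cot, hc₀ i, ha i]
    rw [Ideal.toCotangent_eq_zero] at h1
    have h2 : g₀ ^ k * y = (∑ i, c₀ i * (a i : R)) +
        ((g₀ ^ k • (⟨y, hy⟩ : ↥J) - ∑ i, c₀ i • a i : ↥J) : R) := by
      rw [Submodule.coe_sub, Submodule.coe_sum]
      simp only [Submodule.coe_smul, smul_eq_mul]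
      ring
    rw [h2]
    exact Ideal.add_mem _ (Ideal.mem_sup_left (Ideal.sum_mem _ fun i _ =>
      Ideal.mul_mem_left _ _ (Ideal.subset_span ⟨i, rfl⟩))) (Ideal.mem_sup_right h1)
  obtain ⟨h, hh, hhJ⟩ := exists_mul_mem_of_local J hfg P hJP 𝔞 g₀ hg₀ hloc
  refine ⟨g₀ * h, fun hmem => (hP.mem_or_mem hmem).elim hg₀ hh, r, a, ?_, ?_⟩
  · intro y hy
    refine ⟨1, ?_⟩
    rw [pow_one, mul_assoc]
    exact Ideal.mul_mem_left _ _ (hhJ y hy)
  · intro n Q hQ hev
    rcases Nat.eq_zero_or_pos n with rfl | hn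
    · refine ⟨0, fun d => ?_⟩
      rw [pow_zero, one_mul]
      have hC : Q = C (Q.coeff 0) :=
        (totalDegree_eq_zero_iff_eq_C).1 ((totalDegree_zero_iff_isHomogeneous _).2 hQ)
      rw [hC, eval_C, zero_add, pow_one] at hev
      rw [hC, coeff_C]
      split_ifs
      · exact hev
      · exact J.zero_mem
    · let ι := ULift.{u} (Fin n)
      haveI : Nonempty ι := ⟨⟨⟨0, hn⟩⟩⟩
      have hcard : Fintype.card ι = n := by simp [ι]
      have hinj := (symGrBijective_iff J).1 hsym ι
      have hQ' : Q.IsHomogeneous (Fintype.card ι) := hcard.symm ▸ hQ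
      have h1 : phiJ J ι (Psi R ι (cls J a) Q) = 0 := by
        rw [phiJ_Psi J a Q hQ', grmk_eq_zero_iff]
        show eval (fun i => (a i : R)) Q ∈ J ^ (Fintype.card ι + 1)
        rw [hcard]
        exact hev
      have h2 : Psi R ι (cls J a) Q = 0 := hinj (by rw [h1, map_zero])
      let ℓR : J.Cotangent →ₗ[R] MvPolynomial (Fin r)
          (Localization (Submonoid.powers (Ideal.Quotient.mk J g₀))) := ℓ.restrictScalars R
      have h3 := PlSym_Psi (ι := ι) (cls J a) ℓR (by
        intro i
        rw [hcls]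
        exact hℓ i) Q hQ'
      rw [h2, map_zero] at h3
      have h4 : ∀ d, ∃ k : ℕ, g₀ ^ k * Q.coeff d ∈ J := by
        intro d
        have h5 := congrArg (MvPolynomial.coeff d) h3
        rw [coeff_zero, coeff_map, IsScalarTower.algebraMap_apply R (R ⧸ J)
          (Localization (Submonoid.powers (Ideal.Quotient.mk J g₀)))] at h5
        obtain ⟨⟨_, k, rfl⟩, hk⟩ := (IsLocalization.map_eq_zero_iff
          (Submonoid.powers (Ideal.Quotient.mk J g₀)) _ _).1 h5.symm
        refine ⟨k, ?_⟩
        rw [← Ideal.Quotient.eq_zero_iff_mem, map_mul, map_pow]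
        exact hk
      choose k hk using h4
      refine ⟨Q.support.sup k, fun d => ?_⟩
      by_cases hd : d ∈ Q.support
      · obtain ⟨m, hm⟩ := Nat.exists_eq_add_of_le (Finset.le_sup (f := k) hd)
        rw [hm, mul_pow, pow_add]
        have : g₀ ^ k d * g₀ ^ m * h ^ (k d + m) * Q.coeff d =
            (g₀ ^ m * h ^ (k d + m)) * (g₀ ^ k d * Q.coeff d) := by ring
        rw [this]
        exact J.mul_mem_left _ (hk d)
      · rw [notMem_support_iff.1 hd, mul_zero]
        exact J.zero_mem

theorem backward (hfg : J.FG) (hproj : Module.Projective (R ⧸ J) J.Cotangent)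
    (hsym : PP16.SymGrBijective R J) : PP16.IsLocallyQuasiRegular R J :=
  (isLocallyQuasiRegular_iff_LD J).2 fun P _ hJP =>
    exists_LD_of_fg_projective_symGr J hfg hproj hsym P hJP

theorem main : PP16.IsLocallyQuasiRegular R J ↔
    J.FG ∧ Module.Projective (R ⧸ J) J.Cotangent ∧ PP16.SymGrBijective R J :=
  ⟨forward J, fun h => backward J h.1 h.2.1 h.2.2⟩

end backward

end Groth.Agent.LibSymGr29
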