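import Mathlib
import Groth.Prelude.Def_PP16
import Groth.Agent.LibSymComp29
import Groth.Agent.LibSymGr29e
import Groth.Agent.LibPP29j

/-!
# Differential smoothness and quasi-regularity of the diagonal (helper29)
-/

set_option autoImplicit false
set_option linter.unusedSectionVars false
universe u v w

namespace Groth.Agent.LibDiffQR29

open Groth.Agent.LibPP29 Groth.Agent.LibSymGr29 Groth.Agent.LibSymComp29
open scoped TensorProduct BigOperators

variable {A B : Type u} [CommRing A] [CommRing B] [Algebra A B]

local notation "I" => KaehlerDifferential.ideal A B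
local notation "TT" => B ⊗[A] B

variable (A B) in
/-- multiplication `B ⊗ B → B` as a ring map. -/
noncomputable def piT : TT →+* B := (Algebra.TensorProduct.lmul' A : B ⊗[A] B →ₐ[A] B).toRingHom

lemma piT_algebraMap (b : B) : piT A B (algebraMap B TT b) = b := by
  unfold piT
  rw [Algebra.TensorProduct.algebraMap_apply]
  simp

lemma sub_mem_ideal (t : TT) : t - algebraMap B TT (piT A B t) ∈ I := by
  rw [KaehlerDifferential.ideal, RingHom.mem_ker, map_sub, sub_eq_zero]
  exact (piT_algebraMap (piT A B t)).symm

lemma smul_cot (t : TT) (m : (I).Cotangent) : t • m = piT A B t • m := by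
  obtain ⟨x, rfl⟩ := (I).toCotangent_surjective m
  rw [← algebraMap_smul TT (piT A B t), ← sub_eq_zero, ← sub_smul, ← map_smul,
    Ideal.toCotangent_eq_zero, pow_two]
  exact Ideal.mul_mem_mul (sub_mem_ideal t) x.2

variable (A B) in
/-- the two graded pieces agree. -/
noncomputable def Theta (n : ℕ) : PP16.grI A B n ≃ₗ[B] PP16.grJ TT I n :=
  (Submodule.Quotient.equiv _
    ((Submodule.comap (I ^ n).subtype (I ^ (n + 1))).restrictScalars B)
    ((Submodule.restrictScalarsEquiv B TT TT (I ^ n)).restrictScalars B) (by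
      ext x
      simp only [Submodule.mem_map, Submodule.mem_comap, Submodule.restrictScalars_mem]
      constructor
      · rintro ⟨y, hy, rfl⟩
        exact hy
      · intro hx
        exact ⟨⟨x.1, x.2⟩, hx, rfl⟩)) ≪≫ₗ
  Submodule.Quotient.restrictScalarsEquiv B (Submodule.comap (I ^ n).subtype (I ^ (n + 1)))

lemma Theta_grmk (n : ℕ) (w : ↥((I ^ n).restrictScalars B)) :
    Theta A B n (LibPP29.grmk A B n w) = LibSymGr29.grmk I n ⟨w.1, w.2⟩ := rfl

section phiB

variable (A B) (ι : Type u) [Fintype ι]

/-- the canonical map on the `B`-side, through the comparison with `Sym_T`. -/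
noncomputable def phiB :
    SymmetricPower B ι (I).Cotangent →ₗ[B] PP16.grI A B (Fintype.card ι) :=
  letI := modBT (B := B) (T := TT) (M := (I).Cotangent) ι
  ((Theta A B (Fintype.card ι)).symm.toLinearMap ∘ₗ ((phiJ I ι).restrictScalars B)) ∘ₗ
    (fwd (B := B) (T := TT) (M := (I).Cotangent) ι)

lemma phiB_apply (y : SymmetricPower B ι (I).Cotangent) :
    phiB A B ι y = (Theta A B (Fintype.card ι)).symm
      (phiJ I ι (fwd (B := B) (T := TT) (M := (I).Cotangent) ι y)) := rfl

lemma phiB_tprod_toCotangent (x : ι → ↥I) :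
    phiB A B ι (SymmetricPower.tprod B fun j => (I).toCotangent (x j)) =
      LibPP29.grmk A B (Fintype.card ι) ⟨∏ j, (x j : TT), LibSymGr29.prod_mem I ι x⟩ := by
  rw [phiB_apply]
  have h1 : fwd (B := B) (T := TT) (M := (I).Cotangent) ι
      (SymmetricPower.tprod B fun j => (I).toCotangent (x j)) =
      SymmetricPower.tprod TT fun j => (I).toCotangent (x j) := fwd_tprod ι _
  rw [h1, phiJ_tprod, LinearEquiv.symm_apply_eq, Theta_grmk]
  rfl

lemma phiB_tprod_D (β : ι → B) :
    phiB A B ι (SymmetricPower.tprod B fun j => KaehlerDifferential.D A B (β j)) =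
      PP16.zetaProd A B β := by
  rw [zetaProd_eq]
  exact phiB_tprod_toCotangent A B ι
    (fun j => ⟨LibDiff29.dgen (A := A) (β j), LibDiff29.dgen_mem (β j)⟩)

lemma phiB_injective_iff [Nonempty ι] :
    Function.Injective (phiB A B ι) ↔ Function.Injective (phiJ I ι) := by
  have hfwd := fwd_bijective (B := B) (T := TT) (M := (I).Cotangent) (piT A B) ι
    piT_algebraMap smul_cot
  constructor
  · intro h x x' hxx'
    obtain ⟨y, rfl⟩ := hfwd.2 x
    obtain ⟨y', rfl⟩ := hfwd.2 x'
    congr 1
    apply h
    rw [phiB_apply, phiB_apply, hxx']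
  · intro h y y' hyy'
    rw [phiB_apply, phiB_apply] at hyy'
    exact hfwd.1 (h ((Theta A B (Fintype.card ι)).symm.injective hyy'))

lemma phiB_injective_of_isEmpty [IsEmpty ι] : Function.Injective (phiB A B ι) := by
  rw [injective_iff_map_eq_zero]
  intro y hy
  have hspan := SymmetricPower.span_tprod_eq_top (R := B) (ι := ι) (M := (I).Cotangent)
  have hrange : Set.range (SymmetricPower.tprod B (ι := ι) (M := (I).Cotangent)) =
      {SymmetricPower.tprod B (fun j : ι => (I).toCotangent (isEmptyElim j : ↥I))} := by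
    ext z
    constructor
    · rintro ⟨ω, rfl⟩
      rw [Set.mem_singleton_iff]
      congr 1
      exact Subsingleton.elim _ _
    · rintro rfl
      exact ⟨_, rfl⟩
  have hy' : y ∈ Submodule.span B
      {SymmetricPower.tprod B (fun j : ι => (I).toCotangent (isEmptyElim j : ↥I))} := by
    rw [← hrange, hspan]
    trivial
  obtain ⟨b, rfl⟩ := Submodule.mem_span_singleton.1 hy'
  rw [map_smul, phiB_tprod_toCotangent, ← map_smul, LibPP29.grmk_eq_zero_iff] at hy
  have hcard : Fintype.card ι = 0 := Fintype.card_eq_zero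
  rw [Submodule.coe_smul] at hy
  simp only [Finset.univ_eq_empty, Finset.prod_empty] at hy
  rw [hcard, zero_add, pow_one] at hy
  have h2 : piT A B (b • (1 : TT)) = 0 := hy
  have hb : b = 0 := by
    rw [Algebra.smul_def, mul_one, piT_algebraMap] at h2
    exact h2
  rw [hb, zero_smul]

end phiB

section proj

variable (A B)

lemma piT_surjective : Function.Surjective (piT A B) := fun b => ⟨algebraMap B TT b, piT_algebraMap b⟩

/-- `(B ⊗ B)/I ≃ B`. -/
noncomputable def quotEquiv : (TT ⧸ I) ≃+* B :=
  RingHom.quotientKerEquivOfSurjective (f := piT A B) (piT_surjective A B)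

lemma quotEquiv_mk (t : TT) : quotEquiv A B (Ideal.Quotient.mk I t) = piT A B t := rfl

attribute [local instance] RingHomInvPair.of_ringEquiv RingHomInvPair.of_ringEquiv_symm in
/-- the identity of `I/I²`, semilinear over `(B ⊗ B)/I ≃ B`. -/
noncomputable def cotEquiv :
    (I).Cotangent ≃ₛₗ[(quotEquiv A B : (TT ⧸ I) →+* B)] KaehlerDifferential A B where
  toFun := id
  invFun := id
  left_inv := fun _ => rfl
  right_inv := fun _ => rfl
  map_add' := fun _ _ => rfl
  map_smul' := by
    intro c m
    obtain ⟨t, rfl⟩ := Ideal.Quotient.mk_surjective c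
    show (Ideal.Quotient.mk I t) • m = piT A B t • m
    rw [← smul_cot, ← Ideal.Quotient.algebraMap_eq, algebraMap_smul]

attribute [local instance] RingHomInvPair.of_ringEquiv RingHomInvPair.of_ringEquiv_symm in
theorem projective_iff :
    Module.Projective (TT ⧸ I) (I).Cotangent ↔ Module.Projective B (KaehlerDifferential A B) :=
  ⟨fun _ => Module.Projective.of_equiv (cotEquiv A B),
    fun _ => Module.Projective.of_equiv (cotEquiv A B).symm⟩

end proj

section main

variable (A B)

/-- two linear maps on the symmetric power of the differentials agreeing on products of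
differentials are equal -/
lemma sym_ext_of_D {ι' : Type u} [Fintype ι'] {N : Type u} [AddCommGroup N] [Module B N]
    (φ ψ : SymmetricPower B ι' (KaehlerDifferential A B) →ₗ[B] N)
    (h : ∀ β : ι' → B, φ (SymmetricPower.tprod B fun j => KaehlerDifferential.D A B (β j)) =
      ψ (SymmetricPower.tprod B fun j => KaehlerDifferential.D A B (β j))) : φ = ψ := by
  have h1 : φ.compMultilinearMap (SymmetricPower.tprod B) =
      ψ.compMultilinearMap (SymmetricPower.tprod B) :=
    MultilinearMap.ext_of_span_eq_top (γ := fun _ => B)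
      (g := fun _ (b : B) => KaehlerDifferential.D A B b)
      (fun _ => KaehlerDifferential.span_range_derivation A B) (fun j => h j)
  apply LinearMap.ext_on (SymmetricPower.span_tprod_eq_top B ι' (KaehlerDifferential A B))
  rintro _ ⟨ω, rfl⟩
  exact congrFun (congrArg DFunLike.coe h1) ω

theorem main [Algebra.FiniteType A B] :
    PP16.IsDiffSmooth A B ↔
      PP16.IsLocallyQuasiRegular (B ⊗[A] B) (KaehlerDifferential.ideal A B) := by
  rw [LibSymGr29.main, symGrBijective_iff]
  constructor
  · rintro ⟨hproj, hsym⟩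
    refine ⟨KaehlerDifferential.ideal_fg A B, (projective_iff A B).2 hproj, ?_⟩
    intro ι _ _
    obtain ⟨φ, hφ, hbij⟩ := hsym ι
    have heq : φ = phiB A B ι := sym_ext_of_D A B φ (phiB A B ι) (fun β => by
      rw [hφ]
      exact (phiB_tprod_D A B ι β).symm)
    rw [← phiB_injective_iff, ← heq]
    exact hbij.1
  · rintro ⟨hfg, hproj, hinj⟩
    refine ⟨(projective_iff A B).1 hproj, ?_⟩
    intro ι _
    refine ⟨phiB A B ι, phiB_tprod_D A B ι, ?_,
      surjective_of_values (phiB A B ι) (phiB_tprod_D A B ι)⟩
    rcases isEmpty_or_nonempty ι with h | h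
    · exact phiB_injective_of_isEmpty A B ι
    · exact (phiB_injective_iff A B ι).2 (hinj ι)

end main

end Groth.Agent.LibDiffQR29
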