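import Mathlib
import Groth.Agent.LibCurveDivAlg29

/-!
# A relative divisor on a smooth separated relative curve splits into sections fppf locally
(helper29)
-/

set_option autoImplicit false
universe u

open CategoryTheory CategoryTheory.Limits AlgebraicGeometry Opposite TopologicalSpace

namespace Groth.Agent.LibDivSplit29

open Groth.Agent.LibCurveDivAlg29

/-- the ideal of the base change of a closed immersion -/
theorem ker_eq_comap_of_isPullback {P Z' Y Y' : Scheme.{u}} {fst : P ⟶ Z'} {snd : P ⟶ Y}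
    {f : Z' ⟶ Y'} {g : Y ⟶ Y'} [IsClosedImmersion f] (h : IsPullback fst snd f g) :
    snd.ker = f.ker.comap g := by
  rw [← Scheme.IdealSheafData.ker_fst_of_isClosedImmersion f g]
  calc snd.ker = (h.flip.isoPullback.hom ≫ pullback.fst g f).ker := by
        rw [h.flip.isoPullback_hom_fst]
    _ = (pullback.fst g f).ker := Scheme.Hom.ker_comp_of_isIso _ _

theorem isFinLocFreeOfDeg_of_isPullback {P X Y Z : Scheme.{u}} {fst : P ⟶ X} {snd : P ⟶ Y}
    {f : X ⟶ Z} {g : Y ⟶ Z} (sq : IsPullback fst snd f g) {d : ℕ}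
    (h : Mor2.IsFinLocFreeOfDeg d f) : Mor2.IsFinLocFreeOfDeg d snd := by
  obtain ⟨⟨h1, h2, h3⟩, hd⟩ := h
  haveI := h1
  haveI := h2
  refine ⟨⟨MorphismProperty.of_isPullback (P := @IsFinite) sq h1,
    MorphismProperty.of_isPullback (P := @Flat) sq h2,
    MorphismProperty.of_isPullback (P := @LocallyOfFinitePresentation) sq h3⟩, fun y => ?_⟩
  rw [Scheme.Hom.finrank_of_isPullback _ _ _ _ sq y]
  exact hd _

theorem isFinLocFreeOfDeg_iso_comp {X Y Z : Scheme.{u}} (e : X ⟶ Y) [IsIso e] (g : Y ⟶ Z) {d : ℕ}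
    (h : Mor2.IsFinLocFreeOfDeg d g) : Mor2.IsFinLocFreeOfDeg d (e ≫ g) := by
  obtain ⟨⟨h1, h2, h3⟩, hd⟩ := h
  haveI := h1
  haveI := h2
  haveI := h3
  refine ⟨⟨inferInstance, inferInstance, inferInstance⟩, fun y => ?_⟩
  rw [Scheme.Hom.finrank_comp_left_of_isIso]
  exact hd y

/-- base change of relative divisors -/
theorem div_comap_of_isPullback {X S X' S' : Scheme.{u}} {f : X ⟶ S} {b : S' ⟶ S} {p : X' ⟶ X}
    {f' : X' ⟶ S'} (sq : IsPullback p f' f b) (I : X.IdealSheafData) {d : ℕ}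
    (h : Mor2.IsFinLocFreeOfDeg d (I.subschemeι ≫ f)) :
    Mor2.IsFinLocFreeOfDeg d ((I.comap p).subschemeι ≫ f') := by
  have top : IsPullback (pullback.snd p I.subschemeι) (pullback.fst p I.subschemeι)
      I.subschemeι p := (IsPullback.of_hasPullback p I.subschemeι).flip
  have hpb := top.paste_vert sq
  have h1 := isFinLocFreeOfDeg_of_isPullback hpb h
  rw [← Scheme.IdealSheafData.comapIso_hom_fst, Category.assoc]
  exact isFinLocFreeOfDeg_iso_comp _ _ h1

/-- a section of a separated morphism is a relative divisor of degree one -/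
theorem div_one_of_section {X S : Scheme.{u}} (f : X ⟶ S) [IsSeparated f] (τ : S ⟶ X)
    (hτ : τ ≫ f = 𝟙 S) :
    IsClosedImmersion τ ∧ Mor2.IsFinLocFreeOfDeg 1 (τ.ker.subschemeι ≫ f) := by
  haveI : IsClosedImmersion (τ ≫ f) := by rw [hτ]; infer_instance
  haveI : IsClosedImmersion τ := IsClosedImmersion.of_comp τ f
  haveI : IsIso τ.toImage := inferInstance
  have e : τ.ker.subschemeι ≫ f = inv τ.toImage := by
    rw [← cancel_epi τ.toImage, ← Category.assoc]
    have : τ.toImage ≫ τ.ker.subschemeι = τ := τ.toImage_imageι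
    rw [this, hτ, IsIso.hom_inv_id]
  haveI : IsIso (τ.ker.subschemeι ≫ f) := by rw [e]; infer_instance
  refine ⟨inferInstance, ⟨inferInstance, inferInstance, inferInstance⟩, fun y => ?_⟩
  rw [Scheme.Hom.finrank_eq_one_of_isIso]
  rfl

theorem le_ker_of_fac {X T : Scheme.{u}} (I : X.IdealSheafData) (τ : T ⟶ X)
    (t : T ⟶ I.subscheme) (h : t ≫ I.subschemeι = τ) : I ≤ τ.ker := by
  rw [← h]
  calc I = I.subschemeι.ker := I.ker_subschemeι.symm
    _ ≤ _ := Scheme.Hom.le_ker_comp _ _

/-- A relative divisor of degree `d` on a separated smooth relative curve becomes a sum of `d`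
sections after a finite locally free surjective base change. -/
theorem exists_split : ∀ (d : ℕ) {C S : Scheme.{u}} (f : C ⟶ S) [IsSeparated f]
    [SmoothOfRelativeDimension 1 f] (I : C.IdealSheafData)
    (_ : Mor2.IsFinLocFreeOfDeg d (I.subschemeι ≫ f)),
    ∃ (S' C' : Scheme.{u}) (b : S' ⟶ S) (p : C' ⟶ C) (f' : C' ⟶ S'),
      IsPullback p f' f b ∧ Flat b ∧ Surjective b ∧ LocallyOfFinitePresentation b ∧
      ∃ σ : Fin d → (S' ⟶ C'), (∀ i, σ i ≫ f' = 𝟙 S') ∧ I.comap p = ∏ i, (σ i).ker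
  | 0, C, S, f, _, _, I, hD => by
    refine ⟨S, C, 𝟙 S, 𝟙 C, f, IsPullback.id_horiz f, inferInstance, inferInstance, inferInstance,
      Fin.elim0, fun i => i.elim0, ?_⟩
    rw [Scheme.IdealSheafData.comap_id, eq_top_of_div_zero f hD]
    rfl
  | (d + 1), C, S, f, _, _, I, hD => by
    obtain ⟨⟨hfin, hfl, hfp⟩, hdeg⟩ := id hD
    haveI := hfin
    haveI := hfl
    haveI := hfp
    have hsurj : Surjective (I.subschemeι ≫ f) :=
      (Scheme.Hom.one_le_finrank_iff_surjective (I.subschemeι ≫ f)).mp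
        (fun y => by rw [hdeg y]; exact Nat.le_add_left 1 d)
    have sq₁ : IsPullback (pullback.fst f (I.subschemeι ≫ f)) (pullback.snd f (I.subschemeι ≫ f)) f
        (I.subschemeι ≫ f) := IsPullback.of_hasPullback f (I.subschemeι ≫ f)
    haveI : MorphismProperty.IsStableUnderBaseChange (@SmoothOfRelativeDimension 1) :=
      smoothOfRelativeDimension_isStableUnderBaseChange 1
    haveI : SmoothOfRelativeDimension 1 (pullback.snd f (I.subschemeι ≫ f)) :=
      MorphismProperty.pullback_snd (P := @SmoothOfRelativeDimension 1) f _ inferInstance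
    haveI : IsSeparated (pullback.snd f (I.subschemeι ≫ f)) := inferInstance
    -- the diagonal section
    let τ : I.subscheme ⟶ pullback f (I.subschemeι ≫ f) :=
      pullback.lift I.subschemeι (𝟙 _) (by rw [Category.id_comp])
    have hτ : τ ≫ pullback.snd f (I.subschemeι ≫ f) = 𝟙 _ := pullback.lift_snd _ _ _
    have hτp : τ ≫ pullback.fst f (I.subschemeι ≫ f) = I.subschemeι := pullback.lift_fst _ _ _
    obtain ⟨hτc, hτd⟩ := div_one_of_section (pullback.snd f (I.subschemeι ≫ f)) τ hτ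
    have hI₁ := div_comap_of_isPullback sq₁ I hD
    have hle : I.comap (pullback.fst f (I.subschemeι ≫ f)) ≤ τ.ker := by
      let t : I.subscheme ⟶ (I.comap (pullback.fst f (I.subschemeι ≫ f))).subscheme :=
        pullback.lift τ (𝟙 _) (by rw [hτp, Category.id_comp]) ≫
          (I.comapIso (pullback.fst f (I.subschemeι ≫ f))).inv
      exact le_ker_of_fac _ τ t (by
        rw [Category.assoc, Scheme.IdealSheafData.comapIso_inv_subschemeι, pullback.lift_fst])
    obtain ⟨I₂, hI₂, hmul⟩ := div_sub (pullback.snd f (I.subschemeι ≫ f)) hle hτd hI₁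
    have hI₂' : Mor2.IsFinLocFreeOfDeg d
        (I₂.subschemeι ≫ pullback.snd f (I.subschemeι ≫ f)) := by simpa using hI₂
    obtain ⟨S₂, C₂, b₂, p₂, f₂, sq₂, hb₂f, hb₂s, hb₂p, σ', hσ', hprod⟩ :=
      exists_split d (pullback.snd f (I.subschemeι ≫ f)) I₂ hI₂'
    haveI := hb₂f
    haveI := hb₂s
    haveI := hb₂p
    let τ' : S₂ ⟶ C₂ := sq₂.lift (b₂ ≫ τ) (𝟙 S₂)
      (by rw [Category.assoc, hτ, Category.comp_id, Category.id_comp])
    have hτ'1 : τ' ≫ p₂ = b₂ ≫ τ := sq₂.lift_fst _ _ _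
    have hτ'2 : τ' ≫ f₂ = 𝟙 S₂ := sq₂.lift_snd _ _ _
    have sqτ : IsPullback b₂ τ' τ p₂ := by
      refine (IsPullback.of_right ?_ hτ'1 sq₂.flip).flip
      rw [hτ'2, hτ]
      exact IsPullback.id_horiz b₂
    have hker : τ'.ker = τ.ker.comap p₂ := ker_eq_comap_of_isPullback sqτ
    refine ⟨S₂, C₂, b₂ ≫ (I.subschemeι ≫ f), p₂ ≫ pullback.fst f (I.subschemeι ≫ f), f₂,
      sq₂.paste_horiz sq₁, inferInstance, inferInstance, inferInstance, Fin.cons τ' σ', ?_, ?_⟩
    · intro i
      refine Fin.cases ?_ (fun j => ?_) i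
      · rw [Fin.cons_zero]; exact hτ'2
      · rw [Fin.cons_succ]; exact hσ' j
    · rw [Scheme.IdealSheafData.comap_comp, hmul, Groth.Agent.Lib.helper6.comap_mul, ← hker, hprod,
        Fin.prod_univ_succ]
      simp only [Fin.cons_zero, Fin.cons_succ]

theorem comap_prod {X Y : Scheme.{u}} (p : X ⟶ Y) {ι : Type*} (s : Finset ι)
    (J : ι → Y.IdealSheafData) : (∏ i ∈ s, J i).comap p = ∏ i ∈ s, (J i).comap p := by
  classical
  induction s using Finset.induction_on with
  | empty =>
    rw [Finset.prod_empty, Finset.prod_empty]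
    exact Scheme.IdealSheafData.comap_top p
  | insert a s ha ih =>
    rw [Finset.prod_insert ha, Finset.prod_insert ha, Groth.Agent.Lib.helper6.comap_mul, ih]

theorem ker_comp_iso_hom {T X Y : Scheme.{u}} (τ : T ⟶ X) [IsClosedImmersion τ] (e : X ≅ Y) :
    (τ ≫ e.hom).ker = τ.ker.comap e.inv := by
  have sq : IsPullback (𝟙 T) (τ ≫ e.hom) τ e.inv :=
    IsPullback.of_horiz_isIso ⟨by rw [Category.id_comp, Category.assoc, Iso.hom_inv_id,
      Category.comp_id]⟩
  exact ker_eq_comap_of_isPullback sq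

/-- The form with the canonical fibre product. -/
theorem exists_split_pullback (d : ℕ) {C S : Scheme.{u}} (f : C ⟶ S) [IsSeparated f]
    [SmoothOfRelativeDimension 1 f] (I : C.IdealSheafData)
    (hD : Mor2.IsFinLocFreeOfDeg d (I.subschemeι ≫ f)) :
    ∃ (S' : Scheme.{u}) (b : S' ⟶ S), Flat b ∧ Surjective b ∧ LocallyOfFinitePresentation b ∧
      ∃ σ : Fin d → (S' ⟶ pullback f b), (∀ i, σ i ≫ pullback.snd f b = 𝟙 S') ∧
        (pullback.snd I.subschemeι (pullback.fst f b)).ker = ∏ i, (σ i).ker := by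
  obtain ⟨S', C', b, p, f', sq, hb1, hb2, hb3, σ, hσ, hprod⟩ := exists_split d f I hD
  refine ⟨S', b, hb1, hb2, hb3, fun i => σ i ≫ sq.isoPullback.hom, fun i => ?_, ?_⟩
  · rw [Category.assoc, sq.isoPullback_hom_snd, hσ i]
  · haveI : IsSeparated f' := MorphismProperty.of_isPullback (P := @IsSeparated) sq inferInstance
    have hcl : ∀ i, IsClosedImmersion (σ i) := fun i => (div_one_of_section f' (σ i) (hσ i)).1
    have h1 : (pullback.snd I.subschemeι (pullback.fst f b)).ker =
        I.subschemeι.ker.comap (pullback.fst f b) :=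
      ker_eq_comap_of_isPullback (IsPullback.of_hasPullback I.subschemeι (pullback.fst f b))
    have h2 : pullback.fst f b = sq.isoPullback.inv ≫ p := by rw [sq.isoPullback_inv_fst]
    rw [h1, I.ker_subschemeι, h2, Scheme.IdealSheafData.comap_comp, hprod, comap_prod]
    refine Finset.prod_congr rfl fun i _ => ?_
    haveI := hcl i
    exact (ker_comp_iso_hom (σ i) sq.isoPullback).symm

end Groth.Agent.LibDivSplit29
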