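import Mathlib
import Groth.Prelude.Def_W4c6dblnestedhilbptsFlags
import Groth.Agent.LibCurveDivAlg29

/-!
# Flags of relative divisors from edge data (helper29)
-/

set_option autoImplicit false
universe u

open CategoryTheory CategoryTheory.Limits AlgebraicGeometry Opposite TopologicalSpace

namespace Groth.Agent.LibDnFlag29

open Groth.Agent.LibCurveDivAlg29 HilbD

variable {X S : Scheme.{u}} (f : X ⟶ S) [SmoothOfRelativeDimension 1 f]
variable {μ : YoungDiagram} (E : HilbD.DnEdgeData μ X)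

open Classical in
/-- total version of `vert` -/
noncomputable def vert' (c : ℕ × ℕ) : X.IdealSheafData :=
  if h : c ∈ μ ∧ 1 ≤ c.1 then E.vert c h.1 h.2 else ⊤

open Classical in
/-- total version of `horiz` -/
noncomputable def horiz' (c : ℕ × ℕ) : X.IdealSheafData :=
  if h : c ∈ μ ∧ 1 ≤ c.2 then E.horiz c h.1 h.2 else ⊤

theorem vert'_eq (c : ℕ × ℕ) (hc : c ∈ μ) (hi : 1 ≤ c.1) : vert' E c = E.vert c hc hi := by
  unfold vert'
  rw [dif_pos ⟨hc, hi⟩]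

theorem horiz'_eq (c : ℕ × ℕ) (hc : c ∈ μ) (hj : 1 ≤ c.2) : horiz' E c = E.horiz c hc hj := by
  unfold horiz'
  rw [dif_pos ⟨hc, hj⟩]

/-- the first column -/
noncomputable def col : ℕ → X.IdealSheafData
  | 0 => E.base
  | (i + 1) => col i * vert' E (i + 1, 0)

/-- the flag built from edge data -/
noncomputable def flag (i : ℕ) : ℕ → X.IdealSheafData
  | 0 => col E i
  | (j + 1) => flag i j * horiz' E (i, j + 1)

theorem flag_zero (i : ℕ) : flag E i 0 = col E i := rfl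

theorem flag_succ (i j : ℕ) : flag E i (j + 1) = flag E i j * horiz' E (i, j + 1) := rfl

theorem col_succ (i : ℕ) : col E (i + 1) = col E i * vert' E (i + 1, 0) := rfl

theorem mem_of_le {c c' : ℕ × ℕ} (hc' : c' ∈ μ) (h : c ≤ c') : c ∈ μ := μ.isLowerSet h hc'

/-- `gammaOne = gammaTwo` from the inclusion, by degrees -/
theorem gamma_eq {n : ℕ × ℕ → ℕ} (hn : HilbD.IsRevPlanePartition μ n) (hE : E.IsOfType f n)
    (hcomm : ∀ (c : ℕ × ℕ) (hc : c ∈ μ) (hi : 1 ≤ c.1) (hj : 1 ≤ c.2),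
      E.gammaOne c hc hi hj ≤ E.gammaTwo c hc hi hj)
    (c : ℕ × ℕ) (hc : c ∈ μ) (hi : 1 ≤ c.1) (hj : 1 ≤ c.2) :
    E.gammaOne c hc hi hj = E.gammaTwo c hc hi hj := by
  obtain ⟨-, hv, hh⟩ := hE
  have m1 : n (c.1 - 1, c.2 - 1) ≤ n (c.1 - 1, c.2) :=
    hn (mem_left (mem_up hc)) (mem_up hc) ⟨le_rfl, Nat.sub_le _ _⟩
  have m2 : n (c.1 - 1, c.2) ≤ n c := hn (mem_up hc) hc ⟨Nat.sub_le _ _, le_rfl⟩
  have m3 : n (c.1 - 1, c.2 - 1) ≤ n (c.1, c.2 - 1) :=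
    hn (mem_left (mem_up hc)) (mem_left hc) ⟨Nat.sub_le _ _, le_rfl⟩
  have m4 : n (c.1, c.2 - 1) ≤ n c := hn (mem_left hc) hc ⟨le_rfl, Nat.sub_le _ _⟩
  have d1 := div_mul f (hv c hc hi) (hh (c.1 - 1, c.2) (mem_up hc) hj)
  have d2 := div_mul f (hh c hc hj) (hv (c.1, c.2 - 1) (mem_left hc) hi)
  have e1 : n c - n (c.1 - 1, c.2) + (n (c.1 - 1, c.2) - n ((c.1 - 1, c.2).1, (c.1 - 1, c.2).2 - 1)) =
      n c - n (c.1 - 1, c.2 - 1) := by
    change n c - n (c.1 - 1, c.2) + (n (c.1 - 1, c.2) - n (c.1 - 1, c.2 - 1)) = _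
    omega
  have e2 : n c - n (c.1, c.2 - 1) + (n (c.1, c.2 - 1) - n ((c.1, c.2 - 1).1 - 1, (c.1, c.2 - 1).2)) =
      n c - n (c.1 - 1, c.2 - 1) := by
    change n c - n (c.1, c.2 - 1) + (n (c.1, c.2 - 1) - n (c.1 - 1, c.2 - 1)) = _
    omega
  rw [e1] at d1
  rw [e2] at d2
  exact eq_of_le_of_div f (hcomm c hc hi hj) d1 d2

theorem flag_left (i j : ℕ) (hc : (i, j + 1) ∈ μ) :
    flag E i (j + 1) = flag E i j * E.horiz (i, j + 1) hc (Nat.le_add_left 1 j) := by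
  rw [flag_succ, horiz'_eq E _ hc]

theorem flag_up (hgam : ∀ (c : ℕ × ℕ) (hc : c ∈ μ) (hi : 1 ≤ c.1) (hj : 1 ≤ c.2),
      E.gammaOne c hc hi hj = E.gammaTwo c hc hi hj) (i : ℕ) :
    ∀ (j : ℕ) (hc : (i + 1, j) ∈ μ),
      flag E (i + 1) j = flag E i j * E.vert (i + 1, j) hc (Nat.le_add_left 1 i)
  | 0, hc => by rw [flag_zero, flag_zero, col_succ, vert'_eq E _ hc]
  | (j + 1), hc => by
    have hc0 : (i + 1, j) ∈ μ := mem_of_le hc ⟨le_rfl, Nat.le_succ j⟩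
    have hcu : (i, j + 1) ∈ μ := mem_of_le hc ⟨Nat.le_succ i, le_rfl⟩
    have IH := flag_up hgam i j hc0
    have hg : E.vert (i + 1, j + 1) hc (Nat.le_add_left 1 i) *
        E.horiz (i, j + 1) hcu (Nat.le_add_left 1 j) =
        E.horiz (i + 1, j + 1) hc (Nat.le_add_left 1 j) *
          E.vert (i + 1, j) hc0 (Nat.le_add_left 1 i) :=
      hgam (i + 1, j + 1) hc (Nat.le_add_left 1 i) (Nat.le_add_left 1 j)
    rw [flag_succ, flag_succ, IH, horiz'_eq E _ hc (Nat.le_add_left 1 j),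
      horiz'_eq E _ hcu (Nat.le_add_left 1 j)]
    calc flag E i j * E.vert (i + 1, j) hc0 (Nat.le_add_left 1 i) *
          E.horiz (i + 1, j + 1) hc (Nat.le_add_left 1 j)
        = flag E i j * (E.horiz (i + 1, j + 1) hc (Nat.le_add_left 1 j) *
            E.vert (i + 1, j) hc0 (Nat.le_add_left 1 i)) := by ring
      _ = flag E i j * (E.vert (i + 1, j + 1) hc (Nat.le_add_left 1 i) *
            E.horiz (i, j + 1) hcu (Nat.le_add_left 1 j)) := by rw [hg]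
      _ = _ := by ring

/-- degrees of the first column -/
theorem col_div {n : ℕ × ℕ → ℕ} (hn : HilbD.IsRevPlanePartition μ n) (hE : E.IsOfType f n) :
    ∀ (i : ℕ) (_ : (i, 0) ∈ μ), Mor2.IsFinLocFreeOfDeg (n (i, 0)) ((col E i).subschemeι ≫ f)
  | 0, _ => hE.1
  | (i + 1), hc => by
    have hc0 : (i, 0) ∈ μ := mem_of_le hc ⟨Nat.le_succ i, le_rfl⟩
    have IH := col_div hn hE i hc0
    have hv : Mor2.IsFinLocFreeOfDeg (n (i + 1, 0) - n (i, 0))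
        ((E.vert (i + 1, 0) hc (Nat.le_add_left 1 i)).subschemeι ≫ f) :=
      hE.2.1 (i + 1, 0) hc (Nat.le_add_left 1 i)
    have hm : n (i, 0) ≤ n (i + 1, 0) := hn hc0 hc ⟨Nat.le_succ i, le_rfl⟩
    have h := div_mul f IH hv
    rw [col_succ, vert'_eq E _ hc (Nat.le_add_left 1 i)]
    have e : n (i, 0) + (n (i + 1, 0) - n (i, 0)) = n (i + 1, 0) := by omega
    rw [e] at h
    exact h

theorem flag_div {n : ℕ × ℕ → ℕ} (hn : HilbD.IsRevPlanePartition μ n) (hE : E.IsOfType f n)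
    (i : ℕ) : ∀ (j : ℕ) (_ : (i, j) ∈ μ),
      Mor2.IsFinLocFreeOfDeg (n (i, j)) ((flag E i j).subschemeι ≫ f)
  | 0, hc => col_div f E hn hE i hc
  | (j + 1), hc => by
    have hc0 : (i, j) ∈ μ := mem_of_le hc ⟨le_rfl, Nat.le_succ j⟩
    have IH := flag_div hn hE i j hc0
    have hv : Mor2.IsFinLocFreeOfDeg (n (i, j + 1) - n (i, j))
        ((E.horiz (i, j + 1) hc (Nat.le_add_left 1 j)).subschemeι ≫ f) :=
      hE.2.2 (i, j + 1) hc (Nat.le_add_left 1 j)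
    have hm : n (i, j) ≤ n (i, j + 1) := hn hc0 hc ⟨le_rfl, Nat.le_succ j⟩
    have h := div_mul f IH hv
    rw [flag_left E i j hc]
    have e : n (i, j) + (n (i, j + 1) - n (i, j)) = n (i, j + 1) := by omega
    rw [e] at h
    exact h

theorem flag_le_right (i : ℕ) {j j' : ℕ} (h : j ≤ j') : flag E i j' ≤ flag E i j := by
  induction j', h using Nat.le_induction with
  | base => exact le_rfl
  | succ m _ ih =>
    rw [flag_succ]
    exact (Groth.Agent.LibDivDeg29.mul_le_left' _ _).trans ih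

theorem flag_le_up (hgam : ∀ (c : ℕ × ℕ) (hc : c ∈ μ) (hi : 1 ≤ c.1) (hj : 1 ≤ c.2),
      E.gammaOne c hc hi hj = E.gammaTwo c hc hi hj) (j : ℕ) {i i' : ℕ} (h : i ≤ i')
    (hc : (i', j) ∈ μ) : flag E i' j ≤ flag E i j := by
  induction i', h using Nat.le_induction with
  | base => exact le_rfl
  | succ m _ ih =>
    have hc0 : (m, j) ∈ μ := mem_of_le hc ⟨Nat.le_succ m, le_rfl⟩
    rw [flag_up E hgam m j hc]
    exact (Groth.Agent.LibDivDeg29.mul_le_left' _ _).trans (ih hc0)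

theorem col_unique (Z₂ : ∀ c : ℕ × ℕ, c ∈ μ → X.IdealSheafData) (h00 : ((0, 0) : ℕ × ℕ) ∈ μ)
    (hE2 : E.IsEdgesOf h00 Z₂) : ∀ (i : ℕ) (hc : (i, 0) ∈ μ), Z₂ (i, 0) hc = col E i
  | 0, _ => hE2.1
  | (i + 1), hc => by
    have hc0 : (i, 0) ∈ μ := mem_of_le hc ⟨Nat.le_succ i, le_rfl⟩
    have IH := col_unique Z₂ h00 hE2 i hc0
    have h : Z₂ (i + 1, 0) hc = Z₂ (i, 0) hc0 * E.vert (i + 1, 0) hc (Nat.le_add_left 1 i) :=
      hE2.2.1 (i + 1, 0) hc (Nat.le_add_left 1 i)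
    rw [h, IH, col_succ, vert'_eq E _ hc (Nat.le_add_left 1 i)]

theorem flag_unique (Z₂ : ∀ c : ℕ × ℕ, c ∈ μ → X.IdealSheafData) (h00 : ((0, 0) : ℕ × ℕ) ∈ μ)
    (hE2 : E.IsEdgesOf h00 Z₂) (i : ℕ) : ∀ (j : ℕ) (hc : (i, j) ∈ μ), Z₂ (i, j) hc = flag E i j
  | 0, hc => col_unique E Z₂ h00 hE2 i hc
  | (j + 1), hc => by
    have hc0 : (i, j) ∈ μ := mem_of_le hc ⟨le_rfl, Nat.le_succ j⟩
    have IH := flag_unique Z₂ h00 hE2 i j hc0
    have h : Z₂ (i, j + 1) hc = Z₂ (i, j) hc0 * E.horiz (i, j + 1) hc (Nat.le_add_left 1 j) :=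
      hE2.2.2 (i, j + 1) hc (Nat.le_add_left 1 j)
    rw [h, IH, flag_left E i j hc]

/-- Edge data of type `n` with `gammaOne ≤ gammaTwo` come from exactly one flag. -/
theorem existsUnique_flag (h00 : ((0, 0) : ℕ × ℕ) ∈ μ) (n : ℕ × ℕ → ℕ)
    (hn : HilbD.IsRevPlanePartition μ n) (hE : E.IsOfType f n)
    (hcomm : ∀ (c : ℕ × ℕ) (hc : c ∈ μ) (hi : 1 ≤ c.1) (hj : 1 ≤ c.2),
      E.gammaOne c hc hi hj ≤ E.gammaTwo c hc hi hj) :
    ∃! Z : ∀ c : ℕ × ℕ, c ∈ μ → X.IdealSheafData, HilbD.IsDnFlag f μ n Z ∧ E.IsEdgesOf h00 Z := by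
  have hgam := gamma_eq f E hn hE hcomm
  refine ⟨fun c _ => flag E c.1 c.2, ⟨⟨?_, ?_⟩, ⟨rfl, ?_, ?_⟩⟩, ?_⟩
  · rintro ⟨i, j⟩ hc
    exact flag_div f E hn hE i j hc
  · rintro ⟨i, j⟩ ⟨i', j'⟩ hc hc' ⟨h1, h2⟩
    exact (flag_le_up E hgam j' h1 hc').trans (flag_le_right E i h2)
  · rintro ⟨a, b⟩ hc hi
    obtain ⟨i, rfl⟩ : ∃ i, a = i + 1 := ⟨a - 1, by simp only at hi; omega⟩
    exact flag_up E hgam i b hc
  · rintro ⟨a, b⟩ hc hj
    obtain ⟨j, rfl⟩ : ∃ j, b = j + 1 := ⟨b - 1, by simp only at hj; omega⟩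
    exact flag_left E a j hc
  · rintro Z₂ ⟨-, hE2⟩
    funext c hc
    obtain ⟨i, j⟩ := c
    exact flag_unique E Z₂ h00 hE2 i j hc

end Groth.Agent.LibDnFlag29
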