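import Mathlib
import Groth.Prelude
import Groth.Agent.LibCotTan29b
import Groth.Agent.LibGenSmoothII29b
import Groth.Agent.Lib.Helper17.RegSmoothSch

/-!
# Dominance through the cotangent map at a regular closed point (helper29; S17413)

`k` algebraically closed.

* `formallySmooth_stalkMap_iff_cotangentMapAt_injective'` : pointwise version of
  `LibCotTan29.formallySmooth_stalkMap_iff_cotangentMapAt_injective`, only the local ring of `X` at
  the closed point `x` has to be formally smooth over `k`;
* `stalk_formallySmooth_of_isRegularLocalRing` : a regular local ring at a closed point is formally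
  smooth over `k`;
* `injective_cotangentMapAt_iff` : injectivity of the cotangent map in terms of elements;
* `isDominant_iff` (characteristic zero): the statement of S17413.
-/

set_option autoImplicit false
set_option linter.style.haveILetI false
universe u

open CategoryTheory AlgebraicGeometry TensorProduct IsLocalRing
open Groth.Agent.Lib.helper3.FTField Groth.Agent.LibCotTan29

namespace Groth.Agent.LibDomCot29

section pt

variable (k : Type u) [Field k] {X Y : Scheme.{u}} [X.Over (Spec (CommRingCat.of k))]
  [Y.Over (Spec (CommRingCat.of k))] (f : X ⟶ Y)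
  (hf : f ≫ (Y ↘ Spec (CommRingCat.of k)) = (X ↘ Spec (CommRingCat.of k)))

attribute [local instance] Curv2.stalkAlgebra

include hf in
/-- **Pointwise criterion**: at a closed point `x` of a `k`-scheme locally of finite type whose
local ring is formally smooth over `k`, the stalk map of a `k`-morphism is formally smooth iff the
cotangent map is injective. -/
theorem formallySmooth_stalkMap_iff_cotangentMapAt_injective' [IsAlgClosed k]
    [LocallyOfFiniteType (X ↘ Spec (CommRingCat.of k))]
    [LocallyOfFiniteType (Y ↘ Spec (CommRingCat.of k))] (x : X) (hxc : IsClosed ({x} : Set X))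
    (hsm : Algebra.FormallySmooth k (X.presheaf.stalk x)) :
    (f.stalkMap x).hom.FormallySmooth ↔
      Function.Injective (FixPt.cotangentMapAt f x (f x) rfl) := by
  letI algST : Algebra (Y.presheaf.stalk (f x)) (X.presheaf.stalk x) :=
    (f.stalkMap x).hom.toAlgebra
  haveI : IsScalarTower k (Y.presheaf.stalk (f x)) (X.presheaf.stalk x) :=
    IsScalarTower.of_algebraMap_eq' (stalkMap_comp_stalkMap k f hf x).symm
  haveI : IsLocalHom (algebraMap (Y.presheaf.stalk (f x)) (X.presheaf.stalk x)) :=
    inferInstanceAs (IsLocalHom (f.stalkMap x).hom)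
  haveI := hsm
  haveI := stalk_essFiniteType k X x
  haveI := stalk_essFiniteType k Y (f x)
  haveI : Module.Finite (X.presheaf.stalk x) Ω[(X.presheaf.stalk x)⁄k] := inferInstance
  haveI : Module.Finite (Y.presheaf.stalk (f x)) Ω[(Y.presheaf.stalk (f x))⁄k] := inferInstance
  have hT := stalk_residue_bijective k X x hxc
  have hS := residue_bijective_of_tower k (Y.presheaf.stalk (f x)) (X.presheaf.stalk x) hT
  have hg : ∀ s, (FixPt.stalkMapAt f x (f x) rfl).toIntAlgHom s =
      algebraMap (Y.presheaf.stalk (f x)) (X.presheaf.stalk x) s := by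
    intro s
    change (FixPt.stalkMapAt f x (f x) rfl) s = (f.stalkMap x).hom s
    simp [FixPt.stalkMapAt, TopCat.Presheaf.stalkCongr]
  exact formallySmooth_iff_mapCotangent_injective k (Y.presheaf.stalk (f x)) (X.presheaf.stalk x)
    hS hT (FixPt.stalkMapAt f x (f x) rfl).toIntAlgHom hg
    (FixPt.maximalIdeal_le_comap_stalkMapAt f x (f x) rfl)

/-- a regular local ring at a closed point is formally smooth over `k` -/
theorem stalk_formallySmooth_of_isRegularLocalRing [IsAlgClosed k]
    [LocallyOfFiniteType (X ↘ Spec (CommRingCat.of k))] (x : X) (hxc : IsClosed ({x} : Set X))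
    (hreg : IsRegularLocalRing (X.presheaf.stalk x)) :
    Algebra.FormallySmooth k (X.presheaf.stalk x) := by
  haveI := stalk_essFiniteType k X x
  have hT := stalk_residue_bijective k X x hxc
  haveI : Algebra.FormallySmooth k (ResidueField (X.presheaf.stalk x)) :=
    Algebra.FormallySmooth.of_equiv
      (AlgEquiv.ofBijective (Algebra.ofId k (ResidueField (X.presheaf.stalk x))) hT)
  exact Groth.Agent.Lib.helper17.RegSmooth.formallySmooth_of_isRegularLocalRing k
    (X.presheaf.stalk x)

omit [X.Over (Spec (CommRingCat.of k))] [Y.Over (Spec (CommRingCat.of k))] in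
/-- injectivity of the cotangent map, in terms of elements -/
theorem injective_cotangentMapAt_iff (x : X) :
    Function.Injective (FixPt.cotangentMapAt f x (f x) rfl) ↔
      ∀ a ∈ maximalIdeal (Y.presheaf.stalk (f x)),
        (f.stalkMap x).hom a ∈ maximalIdeal (X.presheaf.stalk x) ^ 2 →
          a ∈ maximalIdeal (Y.presheaf.stalk (f x)) ^ 2 := by
  have hg : ∀ s, (FixPt.stalkMapAt f x (f x) rfl) s = (f.stalkMap x).hom s := by
    intro s
    simp [FixPt.stalkMapAt, TopCat.Presheaf.stalkCongr]
  rw [injective_iff_map_eq_zero]
  constructor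
  · intro h a ha ha2
    have h1 := h ((maximalIdeal (Y.presheaf.stalk (f x))).toCotangent ⟨a, ha⟩) (by
      unfold FixPt.cotangentMapAt
      rw [Ideal.mapCotangent_toCotangent, Ideal.toCotangent_eq_zero]
      change (FixPt.stalkMapAt f x (f x) rfl) a ∈ _
      rw [hg]
      exact ha2)
    rw [Ideal.toCotangent_eq_zero] at h1
    exact h1
  · intro h z hz
    obtain ⟨⟨a, ha⟩, rfl⟩ := Ideal.toCotangent_surjective _ z
    unfold FixPt.cotangentMapAt at hz
    rw [Ideal.mapCotangent_toCotangent, Ideal.toCotangent_eq_zero] at hz
    rw [Ideal.toCotangent_eq_zero]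
    apply h a ha
    rw [← hg]
    exact hz

end pt

end Groth.Agent.LibDomCot29
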