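import Mathlib
import Groth.Prelude
import Groth.Agent.LibDomCot29a

/-!
# Dominance through the cotangent map at a regular closed point, part 2 (helper29; S17413)

`k` algebraically closed, `X`, `Y` locally of finite type over `k`, `Y` integral, `u : X ⟶ Y` a
`k`-morphism.

* `isDominant_of_exists` : if at some regular closed point the cotangent map is injective, `u` is
  dominant (any characteristic);
* `exists_of_isDominant` : the converse in characteristic zero for `X` reduced and quasi-compact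
  (generic smoothness).
-/

set_option autoImplicit false
set_option linter.style.haveILetI false
universe u

open CategoryTheory AlgebraicGeometry TensorProduct IsLocalRing
open Groth.Agent.Lib.helper3.FTField Groth.Agent.LibCotTan29

namespace Groth.Agent.LibDomCot29

section main

theorem isDominant_of_exists (k : Type u) [Field k] [IsAlgClosed k] (X Y : Scheme.{u})
    [X.Over (Spec (CommRingCat.of k))] [Y.Over (Spec (CommRingCat.of k))]
    [LocallyOfFiniteType (X ↘ Spec (CommRingCat.of k))]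
    [LocallyOfFiniteType (Y ↘ Spec (CommRingCat.of k))]
    [AlgebraicGeometry.IsIntegral Y] (u : X ⟶ Y) [u.IsOver (Spec (CommRingCat.of k))]
    (h : ∃ P : X, IsClosed ({P} : Set X) ∧ IsRegularLocalRing (X.presheaf.stalk P) ∧
        ∀ a ∈ IsLocalRing.maximalIdeal (Y.presheaf.stalk (u P)),
          (u.stalkMap P).hom a ∈ IsLocalRing.maximalIdeal (X.presheaf.stalk P) ^ 2 →
            a ∈ IsLocalRing.maximalIdeal (Y.presheaf.stalk (u P)) ^ 2) :
    IsDominant u := by
  obtain ⟨P, hPc, hreg, hcot⟩ := h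
  have hu : u ≫ (Y ↘ Spec (CommRingCat.of k)) = X ↘ Spec (CommRingCat.of k) := comp_over u _
  haveI := locallyOfFinitePresentation_of_over k u hu
  have hsm := stalk_formallySmooth_of_isRegularLocalRing k P hPc hreg
  have h1 : (u.stalkMap P).hom.FormallySmooth :=
    (formallySmooth_stalkMap_iff_cotangentMapAt_injective' k u hu P hPc hsm).mpr
      ((injective_cotangentMapAt_iff u P).mpr hcot)
  have hP : P ∈ u.smoothLocus := Scheme.Hom.mem_smoothLocus.mpr h1
  haveI : Smooth (u.smoothLocus.ι ≫ u) := by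
    rw [← Scheme.Hom.smoothLocus_eq_top_iff, ← Scheme.Hom.preimage_smoothLocus_eq,
      Scheme.Opens.ι_preimage_self]
  have hopen : IsOpen (Set.range (u.smoothLocus.ι ≫ u)) :=
    (u.smoothLocus.ι ≫ u).isOpenMap.isOpen_range
  have hne : (Set.range (u.smoothLocus.ι ≫ u)).Nonempty := ⟨_, ⟨⟨P, hP⟩, rfl⟩⟩
  have hdense : Dense (Set.range (u.smoothLocus.ι ≫ u)) := hopen.dense hne
  refine ⟨hdense.mono ?_⟩
  rintro _ ⟨x, rfl⟩
  exact ⟨u.smoothLocus.ι x, by rw [Scheme.Hom.comp_apply]⟩

theorem exists_of_isDominant (k : Type u) [Field k] [IsAlgClosed k] [CharZero k]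
    (X Y : Scheme.{u})
    [X.Over (Spec (CommRingCat.of k))] [Y.Over (Spec (CommRingCat.of k))]
    [LocallyOfFiniteType (X ↘ Spec (CommRingCat.of k))]
    [QuasiCompact (X ↘ Spec (CommRingCat.of k))]
    [LocallyOfFiniteType (Y ↘ Spec (CommRingCat.of k))]
    [AlgebraicGeometry.IsReduced X] [AlgebraicGeometry.IsIntegral Y] (u : X ⟶ Y)
    [u.IsOver (Spec (CommRingCat.of k))] [IsDominant u] :
    ∃ P : X, IsClosed ({P} : Set X) ∧ IsRegularLocalRing (X.presheaf.stalk P) ∧
        ∀ a ∈ IsLocalRing.maximalIdeal (Y.presheaf.stalk (u P)),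
          (u.stalkMap P).hom a ∈ IsLocalRing.maximalIdeal (X.presheaf.stalk P) ^ 2 →
            a ∈ IsLocalRing.maximalIdeal (Y.presheaf.stalk (u P)) ^ 2 := by
  have hu : u ≫ (Y ↘ Spec (CommRingCat.of k)) = X ↘ Spec (CommRingCat.of k) := comp_over u _
  haveI := locallyOfFinitePresentation_of_over k u hu
  haveI : LocallyOfFinitePresentation (X ↘ Spec (CommRingCat.of k)) := by
    rw [HasRingHomProperty.iff_appLE (P := @LocallyOfFinitePresentation)]
    intro V U e
    haveI : IsNoetherianRing Γ(Spec (CommRingCat.of k), V.1) :=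
      IsLocallyNoetherian.component_noetherian V
    exact RingHom.FinitePresentation.of_finiteType.mp
      (LocallyOfFiniteType.finiteType_appLE (X ↘ Spec (CommRingCat.of k)) V.2 U.2 e)
  haveI : IsLocallyNoetherian X :=
    LocallyOfFiniteType.isLocallyNoetherian (X ↘ Spec (CommRingCat.of k))
  haveI : CompactSpace X :=
    (HasAffineProperty.iff_of_isAffine (P := @QuasiCompact)).mp
      ‹QuasiCompact (X ↘ Spec (CommRingCat.of k))›
  haveI : IsNoetherian X := {}
  set U₁ := (X ↘ Spec (CommRingCat.of k)).smoothLocus with hU₁def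
  have hU₁d : Dense (U₁ : Set X) :=
    Scheme.Hom.dense_smoothLocus_of_perfectField (X ↘ Spec (CommRingCat.of k))
  letI : (U₁ : Scheme.{u}).Over (Spec (CommRingCat.of k)) :=
    ⟨U₁.ι ≫ (X ↘ Spec (CommRingCat.of k))⟩
  haveI : Smooth ((U₁ : Scheme.{u}) ↘ Spec (CommRingCat.of k)) := by
    change Smooth (U₁.ι ≫ (X ↘ Spec (CommRingCat.of k)))
    rw [← Scheme.Hom.smoothLocus_eq_top_iff, ← Scheme.Hom.preimage_smoothLocus_eq,
      Scheme.Opens.ι_preimage_self]
  haveI : LocallyOfFiniteType ((U₁ : Scheme.{u}) ↘ Spec (CommRingCat.of k)) := inferInstance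
  haveI : CompactSpace (U₁ : Scheme.{u}) :=
    isCompact_iff_compactSpace.mp (TopologicalSpace.NoetherianSpace.isCompact (U₁ : Set X))
  haveI : QuasiCompact ((U₁ : Scheme.{u}) ↘ Spec (CommRingCat.of k)) :=
    (HasAffineProperty.iff_of_isAffine (P := @QuasiCompact)).mpr inferInstance
  set f := U₁.ι ≫ u with hfdef
  have hf : f ≫ (Y ↘ Spec (CommRingCat.of k)) =
      ((U₁ : Scheme.{u}) ↘ Spec (CommRingCat.of k)) := by
    change (U₁.ι ≫ u) ≫ (Y ↘ Spec (CommRingCat.of k)) = U₁.ι ≫ (X ↘ Spec (CommRingCat.of k))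
    rw [Category.assoc, hu]
  haveI : LocallyOfFinitePresentation f := locallyOfFinitePresentation_of_over k f hf
  obtain ⟨V, hVne, hV⟩ :=
    Groth.Agent.LibGenSmoothII29.exists_open_preimage_le_smoothLocus k f hf
  have hO : ((U₁ ⊓ u ⁻¹ᵁ V : X.Opens) : Set X).Nonempty := by
    obtain ⟨y, hy⟩ := hVne
    obtain ⟨_, hyV, x, rfl⟩ :=
      (IsDominant.denseRange (f := u)).inter_open_nonempty V V.2 ⟨y, hy⟩
    obtain ⟨x', hx'⟩ := hU₁d.inter_open_nonempty (u ⁻¹ᵁ V) (u ⁻¹ᵁ V).2 ⟨x, hyV⟩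
    exact ⟨x', hx'.2, hx'.1⟩
  haveI : JacobsonSpace X := LocallyOfFiniteType.jacobsonSpace (X ↘ Spec (CommRingCat.of k))
  obtain ⟨P, hPO, hPc⟩ := nonempty_inter_closedPoints hO (U₁ ⊓ u ⁻¹ᵁ V).2.isLocallyClosed
  have hP1 : P ∈ U₁ := hPO.1
  have hPV : u P ∈ V := hPO.2
  have hreg : IsRegularLocalRing (X.presheaf.stalk P) :=
    (Groth.Agent.Lib.helper17.RegSmooth.mem_smoothLocus_iff_isRegularLocalRing_of_perfectField
      (X ↘ Spec (CommRingCat.of k)) P).mp hP1
  have hPsm : P ∈ u.smoothLocus := by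
    have h1 : (⟨P, hP1⟩ : U₁) ∈ f ⁻¹ᵁ V := hPV
    have h2 : (⟨P, hP1⟩ : U₁) ∈ (U₁.ι ≫ u).smoothLocus := hV h1
    rw [← Scheme.Hom.preimage_smoothLocus_eq] at h2
    exact h2
  have hsm := stalk_formallySmooth_of_isRegularLocalRing k P hPc hreg
  exact ⟨P, hPc, hreg, (injective_cotangentMapAt_iff u P).mp
    ((formallySmooth_stalkMap_iff_cotangentMapAt_injective' k u hu P hPc hsm).mp
      (Scheme.Hom.mem_smoothLocus.mp hPsm))⟩

end main

end Groth.Agent.LibDomCot29
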