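import Mathlib
import Groth.Prelude.Def_Flat
import Groth.Agent.Lib.Helper3.RelDim

/-!
# Equidimensional finite type algebras over a field have constant local dimension (helper29)
-/

set_option autoImplicit false
universe u

namespace Groth.Agent.LibEquidimLocalDim29

open AlgebraicGeometry CategoryTheory

lemma topologicalKrullDim_zeroLocus {T : Type u} [CommRing T] (𝔮 : Ideal T) :
    topologicalKrullDim ↥(PrimeSpectrum.zeroLocus (𝔮 : Set T)) = ringKrullDim (T ⧸ 𝔮) := by
  have hemb := (PrimeSpectrum.isClosedEmbedding_comap_of_surjective (T ⧸ 𝔮) (Ideal.Quotient.mk 𝔮)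
    Ideal.Quotient.mk_surjective)
  have hrange : Set.range (PrimeSpectrum.comap (Ideal.Quotient.mk 𝔮)) =
      PrimeSpectrum.zeroLocus (𝔮 : Set T) := by
    rw [_root_.range_comap_of_surjective _ _ Ideal.Quotient.mk_surjective, Ideal.mk_ker]
  let e := hemb.isEmbedding.toHomeomorph
  have h1 := IsHomeomorph.topologicalKrullDim_eq e e.isHomeomorph
  rw [← PrimeSpectrum.topologicalKrullDim_eq_ringKrullDim, h1, hrange]

theorem localDim_eq_of_equidim (k T : Type u) [Field k] [CommRing T] [Algebra k T]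
    [Algebra.FiniteType k T] (d : ℕ)
    (heq : ∀ 𝔮 ∈ minimalPrimes T, ringKrullDim (T ⧸ 𝔮) = d) (Q : PrimeSpectrum T) :
    FlatMor.localDim (PrimeSpectrum T) Q = (d : WithBot ℕ∞) := by
  let X : Scheme.{u} := Spec (CommRingCat.of T)
  let inst1 : X.Over (Spec (CommRingCat.of k)) :=
    ⟨Spec.map (CommRingCat.ofHom (algebraMap k T))⟩
  have inst2 : LocallyOfFiniteType (X ↘ Spec (CommRingCat.of k)) := by
    change LocallyOfFiniteType (Spec.map (CommRingCat.ofHom (algebraMap k T)))
    rw [HasRingHomProperty.Spec_iff (P := @LocallyOfFiniteType)]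
    exact RingHom.finiteType_algebraMap.mpr ‹Algebra.FiniteType k T›
  refine Groth.Agent.Lib.helper3.RelDim.localDim_eq_of_forall_irreducibleComponents k X d ?_ Q
  intro T' hT'
  have hT'' : T' ∈ irreducibleComponents (PrimeSpectrum T) := hT'
  rw [← PrimeSpectrum.zeroLocus_minimalPrimes] at hT''
  obtain ⟨𝔮, h𝔮, rfl⟩ := hT''
  have := topologicalKrullDim_zeroLocus 𝔮
  rw [heq 𝔮 h𝔮] at this
  exact this

end Groth.Agent.LibEquidimLocalDim29
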