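import Mathlib.RingTheory.Etale.Basic
import Mathlib.RingTheory.Smooth.Basic
import Mathlib.RingTheory.Unramified.Basic

/-!
# Lifting ring maps out of a formally étale algebra through a nilpotent ideal (ring-hom form)
-/

set_option autoImplicit false
universe u v w

namespace Groth.Agent.LibEt29

variable {S : Type u} {S' : Type v} {C : Type w} [CommRing S] [CommRing S'] [Algebra S S']
  [CommRing C]

/-- existence of a lift: if `lam : S' → C` and `rho : S → C` agree modulo a nilpotent ideal `N`,
there is `g : S' → C` extending `rho` and congruent to `lam` modulo `N`. -/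
theorem exists_lift [Algebra.FormallySmooth S S'] (N : Ideal C) (hN : IsNilpotent N)
    (lam : S' →+* C) (rho : S →+* C) (h : ∀ s, lam (algebraMap S S' s) - rho s ∈ N) :
    ∃ g : S' →+* C, (∀ s, g (algebraMap S S' s) = rho s) ∧ ∀ s', g s' - lam s' ∈ N := by
  letI : Algebra S C := rho.toAlgebra
  let lamBar : S' →ₐ[S] C ⧸ N :=
    { (Ideal.Quotient.mk N).comp lam with
      commutes' := fun s => by
        simp only [RingHom.toMonoidHom_eq_coe, OneHom.toFun_eq_coe, MonoidHom.toOneHom_coe,
          MonoidHom.coe_coe, RingHom.comp_apply]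
        rw [IsScalarTower.algebraMap_apply S C (C ⧸ N)]
        change _ = Ideal.Quotient.mk N (rho s)
        rw [Ideal.Quotient.eq]
        exact h s }
  let g := Algebra.FormallySmooth.lift N hN lamBar
  refine ⟨g.toRingHom, fun s => g.commutes s, fun s' => ?_⟩
  have h1 := Algebra.FormallySmooth.mk_lift N hN lamBar s'
  rw [← Ideal.Quotient.eq]
  exact h1

/-- uniqueness of lifts -/
theorem lift_unique [Algebra.FormallyUnramified S S'] (N : Ideal C) (hN : IsNilpotent N)
    (g₁ g₂ : S' →+* C) (h1 : ∀ s, g₁ (algebraMap S S' s) = g₂ (algebraMap S S' s))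
    (h2 : ∀ s', g₁ s' - g₂ s' ∈ N) : g₁ = g₂ := by
  letI : Algebra S C := (g₁.comp (algebraMap S S')).toAlgebra
  let G₁ : S' →ₐ[S] C := { g₁ with commutes' := fun s => rfl }
  let G₂ : S' →ₐ[S] C := { g₂ with commutes' := fun s => (h1 s).symm }
  have : G₁ = G₂ := Algebra.FormallyUnramified.ext (I := N) hN (fun x => by
    rw [Ideal.Quotient.eq]
    exact h2 x)
  ext x
  exact AlgHom.congr_fun this x

end Groth.Agent.LibEt29
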