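import Mathlib
import Groth.Agent.LibEtaleSliceRing29

/-!
# Étale slices through a point of a smooth morphism: scheme-level glue (helper29)

* `formallyUnramified_residueField_of_isSeparable`: on affine charts `U → V` of `f : X ⟶ S`
  around `x`, if `κ(x)/κ(f x)` is separable then `κ(Γ(X,U)_q)` is formally unramified over `Γ(S,V)`.
-/

set_option autoImplicit false
universe u
open AlgebraicGeometry CategoryTheory

namespace Groth.Agent.LibEtaleSlice29

theorem formallyUnramified_evaluation {S : Scheme.{u}} {V : S.Opens} (hV : IsAffineOpen V)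
    (s : S) (hs : s ∈ V) : (S.evaluation V s hs).hom.FormallyUnramified := by
  letI a1 : Algebra Γ(S, V) (S.presheaf.stalk s) := S.presheaf.algebra_section_stalk (⟨s, hs⟩ : V)
  haveI l1 : IsLocalization.AtPrime (S.presheaf.stalk s) (hV.primeIdealOf ⟨s, hs⟩).asIdeal :=
    hV.isLocalization_stalk ⟨s, hs⟩
  have h1 : (S.presheaf.germ V s hs).hom.FormallyUnramified := by
    change (algebraMap Γ(S, V) (S.presheaf.stalk s)).FormallyUnramified
    rw [RingHom.formallyUnramified_algebraMap]
    exact Algebra.FormallyUnramified.of_isLocalization (hV.primeIdealOf ⟨s, hs⟩).asIdeal.primeCompl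
  have h2 : (S.residue s).hom.FormallyUnramified :=
    RingHom.FormallyUnramified.of_surjective IsLocalRing.residue_surjective
  exact RingHom.FormallyUnramified.comp h1 h2

theorem formallyUnramified_residueField_of_isSeparable {X S : Scheme.{u}} (f : X ⟶ S) (x : X)
    (hsep : @Algebra.IsSeparable (S.residueField (f x)) (X.residueField x) _ _
      (f.residueFieldMap x).hom.toAlgebra)
    {V : S.Opens} (hV : IsAffineOpen V) {U : X.Opens} (hU : IsAffineOpen U) (e : U ≤ f ⁻¹ᵁ V)
    (hxU : x ∈ U) :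
    letI := (f.appLE V U e).hom.toAlgebra
    Algebra.FormallyUnramified Γ(S, V)
      (IsLocalRing.ResidueField (Localization.AtPrime (hU.primeIdealOf ⟨x, hxU⟩).asIdeal)) := by
  letI algAB : Algebra Γ(S, V) Γ(X, U) := (f.appLE V U e).hom.toAlgebra
  set q : Ideal Γ(X, U) := (hU.primeIdealOf ⟨x, hxU⟩).asIdeal with hq
  letI a1 : Algebra Γ(X, U) (X.presheaf.stalk x) := X.presheaf.algebra_section_stalk (⟨x, hxU⟩ : U)
  haveI l1 : IsLocalization.AtPrime (X.presheaf.stalk x) q := hU.isLocalization_stalk ⟨x, hxU⟩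
  let e₀ : Localization.AtPrime q ≃ₐ[Γ(X, U)] X.presheaf.stalk x :=
    IsLocalization.algEquiv q.primeCompl _ _
  let ε : IsLocalRing.ResidueField (Localization.AtPrime q) ≃+*
      IsLocalRing.ResidueField (X.presheaf.stalk x) :=
    IsLocalRing.ResidueField.mapEquiv e₀.toRingEquiv
  have hfx : f x ∈ V := e hxU
  have h1 : (S.evaluation V (f x) hfx).hom.FormallyUnramified :=
    formallyUnramified_evaluation hV (f x) hfx
  have h2 : (f.residueFieldMap x).hom.FormallyUnramified := by
    letI := (f.residueFieldMap x).hom.toAlgebra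
    exact Algebra.FormallyUnramified.of_isSeparable _ _
  have h3 := RingHom.FormallyUnramified.comp h1 h2
  have h4 := RingHom.FormallyUnramified.respectsIso.1 _ ε.symm h3
  rw [← RingHom.formallyUnramified_algebraMap]
  convert h4 using 1
  ext a
  apply ε.injective
  change ε (algebraMap _ _ a) = ε (ε.symm _)
  rw [RingEquiv.apply_symm_apply]
  have hA : algebraMap Γ(S, V) (IsLocalRing.ResidueField (Localization.AtPrime q)) a =
      IsLocalRing.residue _ (algebraMap Γ(X, U) (Localization.AtPrime q)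
        ((f.appLE V U e).hom a)) := rfl
  rw [hA]
  have hε : ε (IsLocalRing.residue _ (algebraMap Γ(X, U) (Localization.AtPrime q)
        ((f.appLE V U e).hom a))) =
      IsLocalRing.residue _ (e₀ (algebraMap Γ(X, U) (Localization.AtPrime q)
        ((f.appLE V U e).hom a))) := rfl
  rw [hε, AlgEquiv.commutes]
  change (X.evaluation U x hxU).hom ((f.appLE V U e).hom a) = _
  change _ = (f.residueFieldMap x).hom ((S.evaluation V (f x) hfx).hom a)
  rw [Scheme.evaluation_naturality_apply]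
  change (X.residue x).hom ((X.presheaf.germ U x hxU).hom
    ((X.presheaf.map (homOfLE e).op).hom ((f.app V).hom a))) =
    (X.residue x).hom ((X.presheaf.germ (f ⁻¹ᵁ V) x hfx).hom ((f.app V).hom a))
  congr 1
  exact TopCat.Presheaf.germ_res_apply X.presheaf (homOfLE e) x hxU _

theorem locallyQuasiFinite_of_etale {X Y : Scheme.{u}} (f : X ⟶ Y) [Etale f] :
    LocallyQuasiFinite f := by
  have h : Etale f := inferInstance
  rw [HasRingHomProperty.eq_affineLocally @Etale] at h
  rw [HasRingHomProperty.eq_affineLocally @LocallyQuasiFinite]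
  refine affineLocally_le ?_ f h
  intro R S _ _ f hf
  algebraize [f]
  have : Algebra.Etale R S := hf
  show Algebra.QuasiFinite R S
  infer_instance

theorem exists_slice_of_etale_chart {X S : Scheme.{u}} (f : X ⟶ S) (x : X)
    {V : S.Opens} (hV : IsAffineOpen V) {U : X.Opens} (hU : IsAffineOpen U) (e : U ≤ f ⁻¹ᵁ V)
    (hxU : x ∈ U) {C : Type u} [CommRing C] (φ : Γ(X, U) →+* C)
    (hφimm : IsImmersion (Spec.map (CommRingCat.ofHom φ)))
    (hφet : (φ.comp (f.appLE V U e).hom).Etale)
    (Q : PrimeSpectrum C) (hQ : Q.asIdeal.comap φ = (hU.primeIdealOf ⟨x, hxU⟩).asIdeal) :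
    ∃ (Z : Scheme.{u}) (i : Z ⟶ X) (z : Z), IsImmersion i ∧ Etale (i ≫ f) ∧ i z = x ∧
      ∀ z' : ↑Z, f (i z') = f x → z' = z := by
  let i₀ : Spec (CommRingCat.of C) ⟶ X := Spec.map (CommRingCat.ofHom φ) ≫ hU.fromSpec
  haveI : IsImmersion i₀ := inferInstance
  have hi₀f : i₀ ≫ f = Spec.map (f.appLE V U e ≫ CommRingCat.ofHom φ) ≫ hV.fromSpec := by
    rw [Spec.map_comp, Category.assoc, Category.assoc,
      IsAffineOpen.SpecMap_appLE_fromSpec f hV hU e]
  haveI : Etale (Spec.map (f.appLE V U e ≫ CommRingCat.ofHom φ)) := by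
    rw [HasRingHomProperty.Spec_iff (P := @Etale)]
    exact hφet
  haveI hEt : Etale (i₀ ≫ f) := by
    rw [hi₀f]
    infer_instance
  let z₀ : Spec (CommRingCat.of C) := Q
  have hz₀ : i₀ z₀ = x := by
    change hU.fromSpec (Spec.map (CommRingCat.ofHom φ) z₀) = x
    have : Spec.map (CommRingCat.ofHom φ) z₀ = hU.primeIdealOf ⟨x, hxU⟩ := by
      rw [Spec.map_apply]
      exact PrimeSpectrum.ext hQ
    rw [this, hU.fromSpec_primeIdealOf]
  haveI : LocallyQuasiFinite (i₀ ≫ f) := locallyQuasiFinite_of_etale _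
  have hdisc := (i₀ ≫ f).isDiscrete_preimage_singleton (f x)
  have hz₀mem : z₀ ∈ (i₀ ≫ f) ⁻¹' {f x} := by
    change (i₀ ≫ f) z₀ = f x
    rw [Scheme.Hom.comp_apply, hz₀]
  obtain ⟨W, hWo, hW⟩ := (isDiscrete_iff_forall_mem_exists_isOpen.mp hdisc) z₀ hz₀mem
  let W' : (Spec (CommRingCat.of C)).Opens := ⟨W, hWo⟩
  have hz₀W : z₀ ∈ W' := by
    have : z₀ ∈ W ∩ (i₀ ≫ f) ⁻¹' {f x} := by rw [hW]; rfl
    exact this.1
  refine ⟨W'.toScheme, W'.ι ≫ i₀, ⟨z₀, hz₀W⟩, inferInstance, ?_, ?_, ?_⟩
  · rw [Category.assoc]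
    infer_instance
  · rw [Scheme.Hom.comp_apply]
    exact hz₀
  · intro z' hz'
    have hmem : W'.ι z' ∈ W ∩ (i₀ ≫ f) ⁻¹' {f x} := by
      refine ⟨z'.2, ?_⟩
      change (i₀ ≫ f) (W'.ι z') = f x
      rw [Scheme.Hom.comp_apply]
      rw [Scheme.Hom.comp_apply] at hz'
      exact hz'
    rw [hW] at hmem
    exact Subtype.ext hmem

theorem exists_etale_slice {X S : Scheme.{u}} (f : X ⟶ S) [Smooth f] (x : X)
    (hsep : @Algebra.IsSeparable (S.residueField (f x)) (X.residueField x) _ _
      (f.residueFieldMap x).hom.toAlgebra) :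
    ∃ (Z : Scheme.{u}) (i : Z ⟶ X) (z : Z), IsImmersion i ∧ Etale (i ≫ f) ∧ i z = x ∧
      ∀ z' : ↑Z, f (i z') = f x → z' = z := by
  classical
  obtain ⟨_, ⟨V, hV, rfl⟩, hsV, -⟩ :=
    S.isBasis_affineOpens.exists_subset_of_mem_open (Set.mem_univ (f x)) isOpen_univ
  have hsV' : f x ∈ V := hsV
  obtain ⟨U, hU, hxU, e⟩ : ∃ U : X.Opens, IsAffineOpen U ∧ x ∈ U ∧ U ≤ f ⁻¹ᵁ V :=
    TopologicalSpace.Opens.isBasis_iff_nbhd.mp X.isBasis_affineOpens (show x ∈ f ⁻¹ᵁ V from hsV')
  have hsm : (f.appLE V U e).hom.Smooth :=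
    HasRingHomProperty.appLE (P := @Smooth) f inferInstance ⟨V, hV⟩ ⟨U, hU⟩ e
  letI algAB : Algebra Γ(S, V) Γ(X, U) := (f.appLE V U e).hom.toAlgebra
  haveI : Algebra.Smooth Γ(S, V) Γ(X, U) := hsm
  set q : Ideal Γ(X, U) := (hU.primeIdealOf ⟨x, hxU⟩).asIdeal with hq
  haveI : q.IsPrime := (hU.primeIdealOf ⟨x, hxU⟩).isPrime
  haveI hfu : Algebra.FormallyUnramified Γ(S, V)
      (IsLocalRing.ResidueField (Localization.AtPrime q)) :=
    formallyUnramified_residueField_of_isSeparable f x hsep hV hU e hxU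
  obtain ⟨g, ι, _, h, hg, hh, hEt⟩ :=
    Groth.Agent.LibEtaleSliceRing29.exists_etale_slice (A := Γ(S, V)) q
  obtain ⟨Q, hQ, hQq⟩ := Groth.Agent.LibEtaleSliceRing29.exists_prime_comap_eq q g hg h hh
  refine exists_slice_of_etale_chart f x hV hU e hxU
    ((Ideal.Quotient.mk (Ideal.span (Set.range fun j =>
      algebraMap Γ(X, U) (Localization.Away g) (h j)))).comp
      (algebraMap Γ(X, U) (Localization.Away g))) ?_ ?_ ⟨Q, hQ⟩ hQq
  · have : CommRingCat.ofHom ((Ideal.Quotient.mk (Ideal.span (Set.range fun j =>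
        algebraMap Γ(X, U) (Localization.Away g) (h j)))).comp
        (algebraMap Γ(X, U) (Localization.Away g))) =
        CommRingCat.ofHom (algebraMap Γ(X, U) (Localization.Away g)) ≫
        CommRingCat.ofHom (Ideal.Quotient.mk (Ideal.span (Set.range fun j =>
          algebraMap Γ(X, U) (Localization.Away g) (h j)))) := rfl
    rw [this, Spec.map_comp]
    haveI : IsClosedImmersion (Spec.map (CommRingCat.ofHom (Ideal.Quotient.mk (Ideal.span
        (Set.range fun j => algebraMap Γ(X, U) (Localization.Away g) (h j)))))) :=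
      IsClosedImmersion.spec_of_surjective _ Ideal.Quotient.mk_surjective
    infer_instance
  · have : ((Ideal.Quotient.mk (Ideal.span (Set.range fun j =>
        algebraMap Γ(X, U) (Localization.Away g) (h j)))).comp
        (algebraMap Γ(X, U) (Localization.Away g))).comp (f.appLE V U e).hom =
        algebraMap Γ(S, V) (Localization.Away g ⧸ Ideal.span (Set.range fun j =>
          algebraMap Γ(X, U) (Localization.Away g) (h j))) := by
      ext a
      rfl
    rw [this, RingHom.etale_algebraMap]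
    exact hEt

end Groth.Agent.LibEtaleSlice29
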