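import Groth.Prelude.Def_Exal2
import Mathlib.RingTheory.Smooth.Basic

/-!
# Classes of extensions through a formally smooth cover (seat helper29)

Setting: `A → R → B` with `R → B` surjective with kernel `I`, `R` formally smooth over `A`, `M` a `B`-module (also an
`R`- and `A`-module compatibly).  Then `Exalcom A B M` is in bijection with
`Hom_R(I, M) / {D|_I : D ∈ Der_A(R, M)}`, the trivial class going to `0`  (`exists_equiv_exalcom`).
-/

set_option autoImplicit false
set_option linter.unusedSectionVars false

universe u v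

namespace Groth.Agent.LibExal29

attribute [local instance] Exal.opModule Exal.isCentralScalar_opModule

variable {A : Type u} {R B M : Type v} [CommRing A] [CommRing R] [CommRing B]
variable [Algebra A R] [Algebra A B] [Algebra R B] [IsScalarTower A R B]
variable [AddCommGroup M] [Module B M] [Module R M] [IsScalarTower R B M]
variable [Module A M] [IsScalarTower A B M] [IsScalarTower A R M]

section Basic

variable (X : Exal.Ext A B M)

theorem proj_incl (z : M) : X.proj (X.incl z) = 0 :=
  (X.isExtension.exact _).mpr ⟨z, rfl⟩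

theorem incl_mul_incl (a b : M) : X.incl a * X.incl b = 0 := by
  rw [X.isExtension.mul_incl, proj_incl, zero_smul, map_zero]

theorem incl_smul (a : A) (m : M) : X.incl (a • m) = a • X.incl m := by
  rw [Algebra.smul_def, X.isExtension.mul_incl, AlgHom.commutes, algebraMap_smul]

/-- `incl` as an `A`-linear map -/
def inclₗ : M →ₗ[A] X.E where
  toFun := X.incl
  map_add' := map_add _
  map_smul' := incl_smul X

/-- a lift of `R → B` to the middle ring -/
def IsLift (f : R →ₐ[A] X.E) : Prop := ∀ r, X.proj (f r) = algebraMap R B r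

variable {X} {f : R →ₐ[A] X.E} (hf : IsLift X f)

include hf in
theorem lift_mul_incl (r : R) (m : M) : f r * X.incl m = X.incl (r • m) := by
  rw [X.isExtension.mul_incl, hf, algebraMap_smul]

include hf in
theorem proj_lift_eq_zero (x : RingHom.ker (algebraMap R B)) : X.proj (f x) = 0 := by
  rw [hf]; exact x.2

omit [Module R M] [IsScalarTower R B M] [Module A M] [IsScalarTower A B M] [IsScalarTower A R M] in
theorem kerLift_eq {x : X.E} {hx : X.proj x = 0} {m : M} (h : x = X.incl m) : X.kerLift x hx = m :=
  X.isExtension.incl_injective (by rw [Exal.Ext.incl_kerLift, h])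

/-- the map `I → M` of a lift -/
noncomputable def cf : RingHom.ker (algebraMap R B) →ₗ[R] M where
  toFun x := X.kerLift (f x) (proj_lift_eq_zero hf x)
  map_add' x y := kerLift_eq (by
    rw [map_add X.incl, Exal.Ext.incl_kerLift, Exal.Ext.incl_kerLift]
    simp)
  map_smul' r x := kerLift_eq (by
    rw [RingHom.id_apply, ← lift_mul_incl hf, Exal.Ext.incl_kerLift]
    simp)

theorem incl_cf (x : RingHom.ker (algebraMap R B)) : X.incl (cf hf x) = f x :=
  X.incl_kerLift (f x) (proj_lift_eq_zero hf x)

end Basic

section Der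

/-- restriction of a derivation to the kernel ideal -/
def resDer : Derivation A R M →ₗ[R] (RingHom.ker (algebraMap R B) →ₗ[R] M) where
  toFun D :=
    { toFun := fun x => D x
      map_add' := fun x y => by simp
      map_smul' := fun r x => by
        have hx : (algebraMap R B) (x : R) = 0 := x.2
        have : ((x : R) • D r : M) = 0 := by
          rw [← algebraMap_smul B (x : R) (D r), hx, zero_smul]
        simp [this] }
  map_add' D D' := by ext x; simp
  map_smul' r D := by ext x; simp

@[simp] lemma resDer_apply (D : Derivation A R M) (x : RingHom.ker (algebraMap R B)) :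
    resDer (B := B) D x = D x := rfl

variable {X : Exal.Ext A B M} {f f' : R →ₐ[A] X.E} (hf : IsLift X f) (hf' : IsLift X f')

include hf hf' in
theorem proj_sub_eq_zero (r : R) : X.proj (f' r - f r) = 0 := by
  rw [map_sub, hf, hf', sub_self]

/-- the difference of two lifts, as a linear map -/
noncomputable def derLin : R →ₗ[A] M where
  toFun r := X.kerLift (f' r - f r) (proj_sub_eq_zero hf hf' r)
  map_add' r s := kerLift_eq (by
    rw [map_add X.incl, Exal.Ext.incl_kerLift, Exal.Ext.incl_kerLift]
    simp only [map_add]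
    ring)
  map_smul' a r := kerLift_eq (by
    rw [RingHom.id_apply, incl_smul, Exal.Ext.incl_kerLift]
    simp only [map_smul, smul_sub])

theorem incl_derLin (r : R) : X.incl (derLin hf hf' r) = f' r - f r :=
  X.incl_kerLift (f' r - f r) (proj_sub_eq_zero hf hf' r)

/-- the difference of two lifts is a derivation -/
noncomputable def derOfLifts : Derivation A R M :=
  Derivation.mk' (derLin hf hf') (fun r s => by
    apply X.isExtension.incl_injective
    rw [map_add, ← lift_mul_incl hf', ← lift_mul_incl hf, incl_derLin, incl_derLin, incl_derLin, map_mul, map_mul]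
    ring)

theorem incl_derOfLifts (r : R) : X.incl (derOfLifts hf hf' r) = f' r - f r :=
  incl_derLin hf hf' r

theorem cf_eq_add_resDer : cf hf' = cf hf + resDer (B := B) (derOfLifts hf hf') := by
  ext x
  apply X.isExtension.incl_injective
  rw [LinearMap.add_apply, map_add, incl_cf, incl_cf, resDer_apply, incl_derOfLifts]
  ring

end Der

section Transport

variable {X Y : Exal.Ext A B M} {f : R →ₐ[A] X.E} (hf : IsLift X f)

include hf in
theorem isLift_equiv (θ : X.Equiv Y) : IsLift Y (θ.toAlgEquiv.toAlgHom.comp f) := fun r => by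
  change Y.proj (θ.toAlgEquiv (f r)) = _
  rw [θ.proj_apply, hf]

theorem cf_equiv (θ : X.Equiv Y) : cf (isLift_equiv hf θ) = cf hf := by
  ext x
  apply Y.isExtension.incl_injective
  rw [incl_cf, ← θ.apply_incl, incl_cf]
  rfl

/-- adding a derivation to a lift -/
noncomputable def liftAdd (D : Derivation A R M) : R →ₐ[A] X.E where
  toFun r := f r + X.incl (D r)
  map_one' := by rw [map_one, Derivation.map_one_eq_zero, map_zero, add_zero]
  map_mul' r s := by
    rw [map_mul, Derivation.leibniz, map_add, ← lift_mul_incl hf, ← lift_mul_incl hf]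
    have := incl_mul_incl X (D r) (D s)
    linear_combination -this
  map_zero' := by rw [map_zero, map_zero, map_zero, add_zero]
  map_add' r s := by
    rw [map_add, map_add, map_add]
    abel
  commutes' a := by
    rw [AlgHom.commutes, Derivation.map_algebraMap, map_zero, add_zero]

theorem liftAdd_apply (D : Derivation A R M) (r : R) : liftAdd hf D r = f r + X.incl (D r) := rfl

theorem isLift_liftAdd (D : Derivation A R M) : IsLift X (liftAdd hf D) := fun r => by
  rw [liftAdd_apply, map_add, proj_incl, add_zero, hf]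

theorem cf_liftAdd (D : Derivation A R M) :
    cf (isLift_liftAdd hf D) = cf hf + resDer (B := B) D := by
  ext x
  apply X.isExtension.incl_injective
  rw [LinearMap.add_apply, map_add, incl_cf, incl_cf, resDer_apply, liftAdd_apply]

end Transport

section Alpha

variable {X : Exal.Ext A B M} {f : R →ₐ[A] X.E} (hf : IsLift X f)

/-- `R ⊕ M → E`, `(r, m) ↦ f r + i m` -/
noncomputable def alpha : TrivSqZeroExt R M →+* X.E where
  toFun t := f t.fst + X.incl t.snd
  map_one' := by
    rw [TrivSqZeroExt.fst_one, TrivSqZeroExt.snd_one, map_one, map_zero, add_zero]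
  map_mul' t t' := by
    rw [TrivSqZeroExt.fst_mul, TrivSqZeroExt.snd_mul, map_mul, map_add, add_mul, mul_add, mul_add,
      incl_mul_incl, lift_mul_incl hf, mul_comm (X.incl t.snd), lift_mul_incl hf, op_smul_eq_smul]
    abel
  map_zero' := by
    rw [TrivSqZeroExt.fst_zero, TrivSqZeroExt.snd_zero, map_zero, map_zero, add_zero]
  map_add' t t' := by
    rw [TrivSqZeroExt.fst_add, TrivSqZeroExt.snd_add, map_add, map_add]
    abel

theorem alpha_apply (t : TrivSqZeroExt R M) : alpha hf t = f t.fst + X.incl t.snd := rfl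

theorem alpha_eq_zero_iff (t : TrivSqZeroExt R M) :
    alpha hf t = 0 ↔ ∃ h : t.fst ∈ RingHom.ker (algebraMap R B), t.snd = -(cf hf ⟨t.fst, h⟩) := by
  rw [alpha_apply]
  constructor
  · intro h
    have h1 : X.proj (f t.fst + X.incl t.snd) = 0 := by rw [h, map_zero]
    rw [map_add, proj_incl, add_zero, hf] at h1
    refine ⟨h1, ?_⟩
    apply X.isExtension.incl_injective
    rw [map_neg, incl_cf]
    exact eq_neg_of_add_eq_zero_right h
  · rintro ⟨h1, h2⟩
    rw [h2, map_neg, incl_cf]
    exact add_neg_cancel _

include hf in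
theorem alpha_surjective (hsurj : Function.Surjective (algebraMap R B)) :
    Function.Surjective (alpha hf) := by
  intro x
  obtain ⟨r, hr⟩ := hsurj (X.proj x)
  have h0 : X.proj (x - f r) = 0 := by rw [map_sub, hf, hr, sub_self]
  obtain ⟨m, hm⟩ := (X.isExtension.exact _).mp h0
  refine ⟨TrivSqZeroExt.inl r + TrivSqZeroExt.inr m, ?_⟩
  rw [alpha_apply]
  simp only [TrivSqZeroExt.fst_add, TrivSqZeroExt.fst_inl, TrivSqZeroExt.fst_inr, add_zero,
    TrivSqZeroExt.snd_add, TrivSqZeroExt.snd_inl, TrivSqZeroExt.snd_inr, zero_add]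
  rw [hm]
  abel

variable {Y : Exal.Ext A B M} {g : R →ₐ[A] Y.E} (hg : IsLift Y g)

include hf hg in
/-- two extensions with lifts inducing the same map `I → M` are equivalent -/
theorem nonempty_equiv_of_cf_eq (hsurj : Function.Surjective (algebraMap R B)) (h : cf hf = cf hg) :
    Nonempty (X.Equiv Y) := by
  have hker : RingHom.ker (alpha hf) = RingHom.ker (alpha hg) := by
    ext t
    rw [RingHom.mem_ker, RingHom.mem_ker, alpha_eq_zero_iff, alpha_eq_zero_iff, h]
  let ψX := RingHom.quotientKerEquivOfSurjective (alpha_surjective hf hsurj)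
  let ψY := RingHom.quotientKerEquivOfSurjective (alpha_surjective hg hsurj)
  let θ : X.E ≃+* Y.E := ψX.symm.trans ((Ideal.quotEquivOfEq hker).trans ψY)
  have hθ : ∀ t, θ (alpha hf t) = alpha hg t := by
    intro t
    have h1 : ψX.symm (alpha hf t) = Ideal.Quotient.mk _ t := by
      rw [RingEquiv.symm_apply_eq]
      rfl
    change ψY (Ideal.quotEquivOfEq hker (ψX.symm (alpha hf t))) = _
    rw [h1]
    rfl
  have hcomm : ∀ a : A, θ (algebraMap A X.E a) = algebraMap A Y.E a := by
    intro a
    have h1 : algebraMap A X.E a = alpha hf (TrivSqZeroExt.inl (algebraMap A R a)) := by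
      rw [alpha_apply, TrivSqZeroExt.fst_inl, TrivSqZeroExt.snd_inl, map_zero, add_zero, AlgHom.commutes]
    have h2 : algebraMap A Y.E a = alpha hg (TrivSqZeroExt.inl (algebraMap A R a)) := by
      rw [alpha_apply, TrivSqZeroExt.fst_inl, TrivSqZeroExt.snd_inl, map_zero, add_zero, AlgHom.commutes]
    rw [h1, h2, hθ]
  refine ⟨{ toAlgEquiv := AlgEquiv.ofRingEquiv (f := θ) hcomm
            proj_apply := fun x => ?_
            apply_incl := fun z => ?_ }⟩
  · obtain ⟨t, rfl⟩ := alpha_surjective hf hsurj x
    change Y.proj (θ (alpha hf t)) = _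
    rw [hθ, alpha_apply, alpha_apply, map_add, map_add, proj_incl, proj_incl, hf, hg]
  · have h1 : X.incl z = alpha hf (TrivSqZeroExt.inr z) := by
      rw [alpha_apply, TrivSqZeroExt.fst_inr, TrivSqZeroExt.snd_inr, map_zero, zero_add]
    change θ (X.incl z) = _
    rw [h1, hθ, alpha_apply, TrivSqZeroExt.fst_inr, TrivSqZeroExt.snd_inr, map_zero, zero_add]

end Alpha

section Push

variable (A) (B)
variable (φ : RingHom.ker (algebraMap R B) →ₗ[R] M)

/-- the ideal `{(x, -φ x) : x ∈ I}` of `R ⊕ M` -/
def graphIdeal : Ideal (TrivSqZeroExt R M) where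
  carrier := {t | ∃ h : t.fst ∈ RingHom.ker (algebraMap R B), t.snd = -(φ ⟨t.fst, h⟩)}
  zero_mem' := ⟨by simp, by
    have : (⟨(0 : TrivSqZeroExt R M).fst, by simp⟩ : RingHom.ker (algebraMap R B)) = 0 := by
      apply Subtype.ext; simp
    rw [this, map_zero, neg_zero]; rfl⟩
  add_mem' := by
    rintro t t' ⟨h, e⟩ ⟨h', e'⟩
    refine ⟨by rw [TrivSqZeroExt.fst_add]; exact Ideal.add_mem _ h h', ?_⟩
    have : (⟨(t + t').fst, by rw [TrivSqZeroExt.fst_add]; exact Ideal.add_mem _ h h'⟩ :
        RingHom.ker (algebraMap R B)) = ⟨t.fst, h⟩ + ⟨t'.fst, h'⟩ := by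
      apply Subtype.ext; simp
    rw [this, map_add, TrivSqZeroExt.snd_add, e, e', neg_add]
  smul_mem' := by
    rintro s t ⟨h, e⟩
    have hm : (s • t).fst ∈ RingHom.ker (algebraMap R B) := by
      rw [smul_eq_mul, TrivSqZeroExt.fst_mul]; exact Ideal.mul_mem_left _ _ h
    refine ⟨hm, ?_⟩
    have : (⟨(s • t).fst, hm⟩ : RingHom.ker (algebraMap R B)) = s.fst • ⟨t.fst, h⟩ := by
      apply Subtype.ext; simp
    have h0 : (t.fst • s.snd : M) = 0 := by
      have ht : algebraMap R B t.fst = 0 := h
      rw [← algebraMap_smul B t.fst s.snd, ht, zero_smul]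
    rw [this, map_smul, smul_eq_mul, TrivSqZeroExt.snd_mul, e, op_smul_eq_smul, h0, add_zero, smul_neg]

theorem mem_graphIdeal (t : TrivSqZeroExt R M) :
    t ∈ graphIdeal B φ ↔ ∃ h : t.fst ∈ RingHom.ker (algebraMap R B), t.snd = -(φ ⟨t.fst, h⟩) := Iff.rfl

theorem graph_mem (z : RingHom.ker (algebraMap R B)) :
    (TrivSqZeroExt.inl (z : R) - TrivSqZeroExt.inr (φ z) : TrivSqZeroExt R M) ∈ graphIdeal B φ := by
  rw [mem_graphIdeal]
  have h1 : (TrivSqZeroExt.inl (z : R) - TrivSqZeroExt.inr (φ z) : TrivSqZeroExt R M).fst = z := by simp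
  refine ⟨by rw [h1]; exact z.2, ?_⟩
  have : (⟨(TrivSqZeroExt.inl (z : R) - TrivSqZeroExt.inr (φ z) : TrivSqZeroExt R M).fst,
      by rw [h1]; exact z.2⟩ : RingHom.ker (algebraMap R B)) = z := Subtype.ext h1
  rw [this]
  simp

/-- the carrier of the push-out extension -/
def PushCarrier : Type v := TrivSqZeroExt R M ⧸ graphIdeal B φ

instance : CommRing (PushCarrier B φ) := inferInstanceAs (CommRing (TrivSqZeroExt R M ⧸ graphIdeal B φ))

noncomputable instance : Algebra A (PushCarrier B φ) :=
  (((Ideal.Quotient.mk (graphIdeal B φ)).comp ((TrivSqZeroExt.inlHom R M).comp (algebraMap A R))) :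
    A →+* PushCarrier B φ).toAlgebra

/-- the class map -/
def pmk : TrivSqZeroExt R M →+* PushCarrier B φ := Ideal.Quotient.mk (graphIdeal B φ)

theorem pmk_surjective : Function.Surjective (pmk B φ) := Ideal.Quotient.mk_surjective

theorem pmk_eq_iff (t t' : TrivSqZeroExt R M) : pmk B φ t = pmk B φ t' ↔ t - t' ∈ graphIdeal B φ :=
  Ideal.Quotient.eq

theorem algebraMap_push (a : A) :
    algebraMap A (PushCarrier B φ) a = pmk B φ (TrivSqZeroExt.inl (algebraMap A R a)) := rfl

/-- the projection of the push-out -/
noncomputable def pushProj : PushCarrier B φ →ₐ[A] B where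
  toRingHom := Ideal.Quotient.lift (graphIdeal B φ)
    ((algebraMap R B).comp (TrivSqZeroExt.fstHom R R M).toRingHom) (by
      rintro t ⟨h, -⟩
      exact h)
  commutes' a := by
    change algebraMap R B (TrivSqZeroExt.inl (algebraMap A R a) : TrivSqZeroExt R M).fst = _
    rw [TrivSqZeroExt.fst_inl, ← IsScalarTower.algebraMap_apply]

theorem pushProj_pmk (t : TrivSqZeroExt R M) : pushProj A B φ (pmk B φ t) = algebraMap R B t.fst := rfl

/-- the push-out extension of `B` by `M` along `φ : I → M` -/
noncomputable def pushExt (hsurj : Function.Surjective (algebraMap R B)) : Exal.Ext A B M where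
  E := PushCarrier B φ
  proj := pushProj A B φ
  incl := (pmk B φ : TrivSqZeroExt R M →+* _).toAddMonoidHom.comp (TrivSqZeroExt.inrHom R M).toAddMonoidHom
  isExtension :=
    { proj_surjective := fun b => by
        obtain ⟨r, rfl⟩ := hsurj b
        exact ⟨pmk B φ (TrivSqZeroExt.inl r), rfl⟩
      incl_injective := fun m m' h => by
        have h' : pmk B φ (TrivSqZeroExt.inr m) = pmk B φ (TrivSqZeroExt.inr m') := h
        rw [pmk_eq_iff, ← TrivSqZeroExt.inr_sub, mem_graphIdeal] at h'
        obtain ⟨h0, e⟩ := h'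
        have : (⟨(TrivSqZeroExt.inr (m - m') : TrivSqZeroExt R M).fst, h0⟩ :
            RingHom.ker (algebraMap R B)) = 0 := by
          apply Subtype.ext; simp
        rw [this, map_zero, neg_zero, TrivSqZeroExt.snd_inr] at e
        exact sub_eq_zero.mp e
      exact := fun x => by
        obtain ⟨t, rfl⟩ := pmk_surjective B φ x
        rw [pushProj_pmk]
        constructor
        · intro ht
          have ht' : t.fst ∈ RingHom.ker (algebraMap R B) := ht
          refine ⟨t.snd + φ ⟨t.fst, ht'⟩, ?_⟩
          change pmk B φ (TrivSqZeroExt.inr (t.snd + φ ⟨t.fst, ht'⟩)) = pmk B φ t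
          rw [eq_comm, pmk_eq_iff, mem_graphIdeal]
          have h1 : (t - TrivSqZeroExt.inr (t.snd + φ ⟨t.fst, ht'⟩)).fst = t.fst := by simp
          refine ⟨by rw [h1]; exact ht', ?_⟩
          have : (⟨(t - TrivSqZeroExt.inr (t.snd + φ ⟨t.fst, ht'⟩)).fst, by rw [h1]; exact ht'⟩ :
              RingHom.ker (algebraMap R B)) = ⟨t.fst, ht'⟩ := Subtype.ext h1
          rw [this]
          simp
        · rintro ⟨m, hm⟩
          have hm' : pmk B φ (TrivSqZeroExt.inr m) = pmk B φ t := hm
          rw [pmk_eq_iff, mem_graphIdeal] at hm'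
          obtain ⟨h0, -⟩ := hm'
          have : (TrivSqZeroExt.inr m - t).fst = -t.fst := by simp
          rw [this] at h0
          exact neg_mem_iff.mp h0
      mul_incl := fun x z => by
        obtain ⟨t, rfl⟩ := pmk_surjective B φ x
        change pmk B φ t * pmk B φ (TrivSqZeroExt.inr z) =
          pmk B φ (TrivSqZeroExt.inr ((algebraMap R B t.fst) • z))
        rw [← map_mul, algebraMap_smul]
        congr 1
        apply TrivSqZeroExt.ext
        · simp
        · simp }

/-- the canonical lift of the push-out -/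
noncomputable def pushLift (hsurj : Function.Surjective (algebraMap R B)) :
    R →ₐ[A] (pushExt A B φ hsurj).E where
  toRingHom := (pmk B φ).comp (TrivSqZeroExt.inlHom R M)
  commutes' _ := rfl

theorem isLift_pushLift (hsurj : Function.Surjective (algebraMap R B)) :
    IsLift (pushExt A B φ hsurj) (pushLift A B φ hsurj) := fun _ => rfl

theorem cf_pushLift (hsurj : Function.Surjective (algebraMap R B)) :
    cf (isLift_pushLift A B φ hsurj) = φ := by
  ext x
  apply (pushExt A B φ hsurj).isExtension.incl_injective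
  rw [incl_cf]
  change pmk B φ (TrivSqZeroExt.inl (x : R)) = pmk B φ (TrivSqZeroExt.inr (φ x))
  rw [pmk_eq_iff]
  exact graph_mem B φ x

end Push

section Triv

variable (A R B M)

/-- the lift of the trivial extension -/
noncomputable def trivLift : R →ₐ[A] (Exal.Ext.trivial A B M).E where
  toRingHom := ((TrivSqZeroExt.inlHom B M).comp (algebraMap R B) : R →+* Exal.Ext.TrivCarrier A B M)
  commutes' a := by
    change TrivSqZeroExt.inl (algebraMap R B (algebraMap A R a)) = TrivSqZeroExt.inl (algebraMap A B a)
    rw [← IsScalarTower.algebraMap_apply]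

theorem isLift_trivLift : IsLift (Exal.Ext.trivial A B M) (trivLift A R B M) := fun _ => rfl

theorem cf_trivLift : cf (isLift_trivLift A R B M) = 0 := by
  ext x
  apply (Exal.Ext.trivial A B M).isExtension.incl_injective
  rw [incl_cf, LinearMap.zero_apply, map_zero]
  change TrivSqZeroExt.inl (algebraMap R B (x : R)) = 0
  have : algebraMap R B (x : R) = 0 := x.2
  rw [this, TrivSqZeroExt.inl_zero]
  rfl

end Triv

section Main

theorem exists_lift [Algebra.FormallySmooth A R] (X : Exal.Ext A B M) :
    ∃ f : R →ₐ[A] X.E, IsLift X f := by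
  have hnil : IsNilpotent (RingHom.ker (X.proj : X.E →+* B)) := by
    refine ⟨2, ?_⟩
    rw [pow_two, Ideal.zero_eq_bot, eq_bot_iff, Ideal.mul_le]
    intro x hx y hy
    obtain ⟨a, rfl⟩ := (X.isExtension.exact x).mp hx
    obtain ⟨b, rfl⟩ := (X.isExtension.exact y).mp hy
    rw [incl_mul_incl]
    exact Ideal.zero_mem _
  exact ⟨Algebra.FormallySmooth.liftOfSurjective (IsScalarTower.toAlgHom A R B) X.proj
    X.isExtension.proj_surjective hnil,
    fun r => Algebra.FormallySmooth.liftOfSurjective_apply _ _ _ _ r⟩

variable (A R B M)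

/-- the target of the classification: `Hom_R(I, M)` modulo restrictions of derivations -/
abbrev ExalTarget : Type v :=
  (RingHom.ker (algebraMap R B) →ₗ[R] M) ⧸ LinearMap.range (resDer (A := A) (R := R) (B := B) (M := M))

variable {A R B M}

theorem mk_cf_eq {X : Exal.Ext A B M} {f f' : R →ₐ[A] X.E} (hf : IsLift X f) (hf' : IsLift X f') :
    (Submodule.Quotient.mk (cf hf') : ExalTarget A R B M) = Submodule.Quotient.mk (cf hf) := by
  rw [cf_eq_add_resDer hf hf', Submodule.Quotient.mk_add]
  have : (Submodule.Quotient.mk (resDer (B := B) (derOfLifts hf hf')) : ExalTarget A R B M) = 0 := by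
    rw [Submodule.Quotient.mk_eq_zero]
    exact ⟨_, rfl⟩
  rw [this, add_zero]

variable (A R B M) in
/-- Classes of `A`-extensions of `B` by `M` are classified by `Hom_R(I, M)` modulo derivations, for `R` formally
smooth over `A` mapping onto `B`. -/
theorem exists_equiv_exalcom [Algebra.FormallySmooth A R] (hsurj : Function.Surjective (algebraMap R B)) :
    ∃ e : Exal.Exalcom A B M ≃ ExalTarget A R B M, e 0 = 0 := by
  let F : Exal.Ext A B M → ExalTarget A R B M := fun X =>
    Submodule.Quotient.mk (cf (Classical.choose_spec (exists_lift (R := R) X)))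
  have hF : ∀ (X : Exal.Ext A B M) (f : R →ₐ[A] X.E) (hf : IsLift X f), F X = Submodule.Quotient.mk (cf hf) :=
    fun X f hf => mk_cf_eq hf _
  have hwd : ∀ X Y : Exal.Ext A B M, (Exal.Ext.setoid A B M).r X Y → F X = F Y := by
    rintro X Y ⟨θ⟩
    obtain ⟨f, hf⟩ := exists_lift (R := R) X
    rw [hF X f hf, hF Y _ (isLift_equiv hf θ), cf_equiv]
  let e₀ : Exal.Exalcom A B M → ExalTarget A R B M := Quotient.lift F hwd
  have hinj : Function.Injective e₀ := by
    intro x y
    induction x using Quotient.inductionOn with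
    | h X =>
      induction y using Quotient.inductionOn with
      | h Y =>
        intro h
        have h' : F X = F Y := h
        obtain ⟨f, hf⟩ := exists_lift (R := R) X
        obtain ⟨g, hg⟩ := exists_lift (R := R) Y
        rw [hF X f hf, hF Y g hg, ← sub_eq_zero, ← Submodule.Quotient.mk_sub,
          Submodule.Quotient.mk_eq_zero] at h'
        obtain ⟨D, hD⟩ := h'
        have h2 : cf hf = cf (isLift_liftAdd hg D) := by
          rw [cf_liftAdd, hD]
          abel
        exact Quotient.sound (nonempty_equiv_of_cf_eq hf (isLift_liftAdd hg D) hsurj h2)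
  have hsurj' : Function.Surjective e₀ := by
    intro y
    obtain ⟨φ, rfl⟩ := Submodule.Quotient.mk_surjective _ y
    refine ⟨(pushExt A B φ hsurj).cl, ?_⟩
    change F (pushExt A B φ hsurj) = _
    rw [hF _ _ (isLift_pushLift A B φ hsurj), cf_pushLift]
  refine ⟨Equiv.ofBijective e₀ ⟨hinj, hsurj'⟩, ?_⟩
  change F (Exal.Ext.trivial A B M) = 0
  rw [hF _ _ (isLift_trivLift A R B M), cf_trivLift, Submodule.Quotient.mk_zero]

end Main

end Groth.Agent.LibExal29
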