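import Groth.Agent.LibExal29
import Groth.Agent.LibCotT29e

/-!
# `Hom_R(I, M)` modulo derivations is the cokernel `CoT1` of the extension (seat helper29)
-/

set_option autoImplicit false
set_option linter.unusedSectionVars false

universe u v

open TensorProduct

namespace Groth.Agent.LibExal29

open Groth.Agent.LibCotT29

variable {A : Type u} {B : Type v} [CommRing A] [CommRing B] [Algebra A B] (E : Algebra.Extension.{v} A B)
variable (M : Type v) [AddCommGroup M] [Module B M] [Module E.Ring M] [IsScalarTower E.Ring B M]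
variable [Module A M] [IsScalarTower A B M] [IsScalarTower A E.Ring M]

/-- restriction of a map on the cotangent module to the kernel ideal -/
noncomputable def restrictKer (χ : E.Cotangent →ₗ[B] M) : E.ker →ₗ[E.Ring] M where
  toFun x := χ (Algebra.Extension.Cotangent.mk x)
  map_add' x y := by rw [map_add, map_add]
  map_smul' r x := by
    rw [map_smul, RingHom.id_apply, ← algebraMap_smul B r (Algebra.Extension.Cotangent.mk x), map_smul,
      algebraMap_smul]

@[simp] lemma restrictKer_apply (χ : E.Cotangent →ₗ[B] M) (x : E.ker) :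
    restrictKer E M χ x = χ (Algebra.Extension.Cotangent.mk x) := rfl

/-- auxiliary: the map on `I/I²` over the polynomial ring -/
noncomputable def descendAux (φ : E.ker →ₗ[E.Ring] M) : E.ker.Cotangent →ₗ[E.Ring] M :=
  (Submodule.liftQ (E.ker • ⊤ : Submodule E.Ring E.ker) φ (by
    rw [Submodule.smul_le]
    intro a ha x _
    rw [LinearMap.mem_ker, map_smul, ← algebraMap_smul B a (φ x)]
    have : algebraMap E.Ring B a = 0 := ha
    rw [this, zero_smul]) : (E.ker ⧸ (E.ker • ⊤ : Submodule E.Ring E.ker)) →ₗ[E.Ring] M)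

lemma descendAux_toCotangent (φ : E.ker →ₗ[E.Ring] M) (x : E.ker) :
    descendAux E M φ (E.ker.toCotangent x) = φ x := rfl

/-- a map on the kernel ideal descends to the cotangent module -/
noncomputable def descend (φ : E.ker →ₗ[E.Ring] M) : E.Cotangent →ₗ[B] M where
  toFun y := descendAux E M φ y.val
  map_add' x y := by rw [Algebra.Extension.Cotangent.val_add, map_add]
  map_smul' b y := by
    rw [Algebra.Extension.Cotangent.val_smul, map_smul, RingHom.id_apply, ← algebraMap_smul B (E.σ b),
      E.algebraMap_σ]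

@[simp] lemma descend_mk (φ : E.ker →ₗ[E.Ring] M) (x : E.ker) :
    descend E M φ (Algebra.Extension.Cotangent.mk x) = φ x := rfl

/-- `descend` as a map semilinear over `R → B` -/
noncomputable def descendₛₗ :
    (E.ker →ₗ[E.Ring] M) →ₛₗ[(algebraMap E.Ring B : E.Ring →+* B)] (E.Cotangent →ₗ[B] M) where
  toFun := descend E M
  map_add' φ φ' := by
    ext y
    obtain ⟨x, rfl⟩ := Algebra.Extension.Cotangent.mk_surjective y
    simp
  map_smul' r φ := by
    ext y
    obtain ⟨x, rfl⟩ := Algebra.Extension.Cotangent.mk_surjective y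
    simp

lemma descend_restrictKer (χ : E.Cotangent →ₗ[B] M) : descend E M (restrictKer E M χ) = χ := by
  ext y
  obtain ⟨x, rfl⟩ := Algebra.Extension.Cotangent.mk_surjective y
  simp

/-- the map on the cotangent space attached to a derivation -/
noncomputable def psiOfDer (D : Derivation A E.Ring M) : E.CotangentSpace →ₗ[B] M :=
  LinearMap.liftBaseChange B D.liftKaehlerDifferential

lemma psiOfDer_tmul (D : Derivation A E.Ring M) (b : B) (r : E.Ring) :
    psiOfDer E M D (b ⊗ₜ KaehlerDifferential.D A E.Ring r) = b • D r := by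
  simp [psiOfDer]

/-- the derivation attached to a map on the cotangent space -/
noncomputable def derOfPsi (ψ : E.CotangentSpace →ₗ[B] M) : Derivation A E.Ring M :=
  ((ψ.restrictScalars E.Ring).comp (TensorProduct.mk E.Ring B Ω[E.Ring⁄A] 1)).compDer
    (KaehlerDifferential.D A E.Ring)

lemma derOfPsi_apply (ψ : E.CotangentSpace →ₗ[B] M) (r : E.Ring) :
    derOfPsi E M ψ r = ψ (1 ⊗ₜ KaehlerDifferential.D A E.Ring r) := rfl

lemma descend_resDer (D : Derivation A E.Ring M) :
    descend E M (resDer (B := B) D) = psiOfDer E M D ∘ₗ E.cotangentComplex := by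
  ext y
  obtain ⟨x, rfl⟩ := Algebra.Extension.Cotangent.mk_surjective y
  rw [descend_mk, resDer_apply, LinearMap.comp_apply, Algebra.Extension.cotangentComplex_mk, psiOfDer_tmul,
    one_smul]

lemma eq_resDer_of_descend_eq (φ : E.ker →ₗ[E.Ring] M) (ψ : E.CotangentSpace →ₗ[B] M)
    (h : descend E M φ = ψ ∘ₗ E.cotangentComplex) : φ = resDer (B := B) (derOfPsi E M ψ) := by
  ext x
  rw [resDer_apply, derOfPsi_apply, ← descend_mk E M φ x, h, LinearMap.comp_apply,
    Algebra.Extension.cotangentComplex_mk]

/-- the comparison `Hom_R(I, M)/Der → CoT1` -/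
noncomputable def targetToCoT1 :
    ExalTarget A E.Ring B M →ₛₗ[(algebraMap E.Ring B : E.Ring →+* B)] CoT1 E M :=
  Submodule.mapQ _ _ (descendₛₗ E M) (by
    rintro _ ⟨D, rfl⟩
    exact ⟨psiOfDer E M D, (descend_resDer E M D).symm⟩)

lemma targetToCoT1_bijective : Function.Bijective (targetToCoT1 E M) := by
  constructor
  · rw [injective_iff_map_eq_zero]
    intro x hx
    obtain ⟨φ, rfl⟩ := Submodule.Quotient.mk_surjective _ x
    have hx' : (Submodule.Quotient.mk (descend E M φ) : CoT1 E M) = 0 := hx
    rw [Submodule.Quotient.mk_eq_zero] at hx' ⊢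
    obtain ⟨ψ, hψ⟩ := hx'
    exact ⟨derOfPsi E M ψ, (eq_resDer_of_descend_eq E M φ ψ hψ.symm).symm⟩
  · intro y
    obtain ⟨χ, rfl⟩ := Submodule.Quotient.mk_surjective _ y
    refine ⟨Submodule.Quotient.mk (restrictKer E M χ), ?_⟩
    change (Submodule.Quotient.mk (descend E M (restrictKer E M χ)) : CoT1 E M) = _
    rw [descend_restrictKer]

/-- Classes of extensions of `B` by `M` and the cokernel `CoT1` of a formally smooth extension `R → B`. -/
theorem exists_equiv_exalcom_coT1 [Algebra.FormallySmooth A E.Ring] :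
    ∃ e : Exal.Exalcom A B M ≃ CoT1 E M, e 0 = 0 := by
  obtain ⟨e, he⟩ := exists_equiv_exalcom A E.Ring B M E.algebraMap_surjective
  refine ⟨e.trans (Equiv.ofBijective _ (targetToCoT1_bijective E M)), ?_⟩
  rw [Equiv.trans_apply, he]
  exact map_zero (targetToCoT1 E M)

end Groth.Agent.LibExal29
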