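import Mathlib.RingTheory.Extension.Cotangent.Basic
import Mathlib.RingTheory.Smooth.Locus
import Mathlib.RingTheory.Smooth.Kaehler
import Mathlib.RingTheory.Smooth.Basic
import Mathlib.RingTheory.FiniteType
import Mathlib.RingTheory.Nilpotent.Defs
import Mathlib.RingTheory.Ideal.MinimalPrime.Basic
import Mathlib.Algebra.Module.Projective
import Mathlib.RingTheory.Finiteness.Defs
import Mathlib.Algebra.TrivSqZeroExt.Basic

/-!
# Square-zero extensions and their conormal sequences (helper29)
-/

set_option autoImplicit false
universe u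
open TensorProduct

namespace Groth.Agent.LibExt29

/-- an element of a projective module over a reduced ring which is killed, at every minimal
prime, by an element outside that prime, is zero -/
theorem eq_zero_of_forall_minimalPrimes {B M : Type*} [CommRing B] [IsReduced B]
    [AddCommGroup M] [Module B M] [Module.Projective B M] (x : M)
    (h : ∀ p ∈ minimalPrimes B, ∃ u : B, u ∉ p ∧ u • x = 0) : x = 0 := by
  obtain ⟨s, hs⟩ := Module.projective_def'.1 (inferInstance : Module.Projective B M)
  have h1 : s x = 0 := by
    ext m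
    have h2 : s x m ∈ sInf (minimalPrimes B) := by
      rw [Ideal.mem_sInf]
      intro p hp
      obtain ⟨u, hu, hux⟩ := h p hp
      have h3 : u * s x m = 0 := by
        have := congrArg (fun f : M →₀ B => f m) (congrArg s hux)
        simpa using this
      have hprime : p.IsPrime := hp.1.1
      rcases hprime.mem_or_mem (h3 ▸ p.zero_mem : u * s x m ∈ p) with h4 | h4
      · exact absurd h4 hu
      · exact h4
    have h5 : sInf (minimalPrimes B) = (⊥ : Ideal B) := by
      change sInf ((⊥ : Ideal B).minimalPrimes) = ⊥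
      rw [Ideal.sInf_minimalPrimes]
      exact nilradical_eq_zero B
    rw [h5] at h2
    exact h2
  have := congrArg (Finsupp.linearCombination B id) h1
  rw [map_zero] at this
  rw [← this]
  exact (LinearMap.congr_fun hs x).symm

open Algebra in
set_option maxHeartbeats 800000 in
/-- if the conormal map of a square-zero extension kills the class of `x`, then `x` is
killed by an element outside any prime at which the algebra is formally smooth -/
theorem exists_mul_eq_zero {A B : Type u} [CommRing A] [CommRing B] [Algebra A B]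
    (P : Algebra.Extension.{u} A B) (hsq : P.ker ^ 2 = ⊥) (p : Ideal B) [p.IsPrime]
    [Algebra.FormallySmooth A (Localization.AtPrime p)] (x : P.ker)
    (hx : P.cotangentComplex (Algebra.Extension.Cotangent.mk x) = 0) :
    ∃ v : P.Ring, algebraMap P.Ring B v ∉ p ∧ v * x.1 = 0 := by
  classical
  let M := p.primeCompl
  let M' := M.comap (algebraMap P.Ring B)
  let T := Localization.AtPrime p
  let Q : Algebra.Extension.{u} A T := P.localization M
  let alg : Algebra (Localization M') T := Q.algebra₂
  have tower : IsScalarTower A (Localization M') T := Q.isScalarTower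
  let f : P.Hom Q :=
    { toRingHom := algebraMap P.Ring (Localization M')
      toRingHom_algebraMap := fun a =>
        (IsScalarTower.algebraMap_apply A P.Ring (Localization M') _).symm
      algebraMap_toRingHom := fun y => by
        change (IsLocalization.lift (M := M') _) (algebraMap P.Ring (Localization M') y) = _
        rw [IsLocalization.lift_eq]
        rfl }
  have halg : ∀ y : P.Ring, algebraMap (Localization M') T (algebraMap P.Ring (Localization M') y) =
      algebraMap B T (algebraMap P.Ring B y) := f.algebraMap_toRingHom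
  -- description of the kernel of the localised extension
  have hker : ∀ y : Localization M', algebraMap (Localization M') T y = 0 →
      ∃ (e : P.Ring) (s : M'), e ∈ P.ker ∧
        y * algebraMap P.Ring (Localization M') s = algebraMap P.Ring (Localization M') e := by
    intro y hy
    obtain ⟨e₀, s₀, rfl⟩ := IsLocalization.exists_mk'_eq M' y
    have h1 : algebraMap B T (algebraMap P.Ring B e₀) = 0 := by
      rw [← halg, ← IsLocalization.mk'_spec (Localization M') e₀ s₀, map_mul, hy, zero_mul]
    obtain ⟨u, hu⟩ := (IsLocalization.map_eq_zero_iff M T _).1 h1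
    obtain ⟨v, hv⟩ := P.algebraMap_surjective u.1
    have hvM : v ∈ M' := by
      change algebraMap P.Ring B v ∈ M
      rw [hv]; exact u.2
    refine ⟨v * e₀, s₀ * ⟨v, hvM⟩, ?_, ?_⟩
    · change algebraMap P.Ring B (v * e₀) = 0
      rw [map_mul, hv]; exact hu
    · rw [Submonoid.coe_mul, map_mul, ← mul_assoc, IsLocalization.mk'_spec, map_mul]
      ring
  have hQsq : (RingHom.ker (algebraMap (Localization M') T)) ^ 2 = ⊥ := by
    rw [eq_bot_iff, pow_two, Ideal.mul_le]
    intro y₁ hy₁ y₂ hy₂
    obtain ⟨e₁, s₁, he₁, h₁⟩ := hker y₁ hy₁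
    obtain ⟨e₂, s₂, he₂, h₂⟩ := hker y₂ hy₂
    have h3 : e₁ * e₂ = 0 := by
      have : e₁ * e₂ ∈ P.ker ^ 2 := by rw [pow_two]; exact Ideal.mul_mem_mul he₁ he₂
      rw [hsq] at this; exact this
    have h4 : y₁ * y₂ * algebraMap P.Ring (Localization M') ((s₁ * s₂ : M') : P.Ring) = 0 := by
      rw [Submonoid.coe_mul, map_mul]
      calc y₁ * y₂ * (algebraMap P.Ring (Localization M') s₁ * algebraMap P.Ring (Localization M') s₂)
          = (y₁ * algebraMap P.Ring (Localization M') s₁) *
            (y₂ * algebraMap P.Ring (Localization M') s₂) := by ring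
        _ = 0 := by rw [h₁, h₂, ← map_mul, h3, map_zero]
    have h5 := IsLocalization.map_units (Localization M') (s₁ * s₂)
    rw [Ideal.mem_bot]
    exact (h5.mul_left_eq_zero).1 h4
  have hsurj : Function.Surjective (algebraMap (Localization M') T) := Q.algebraMap_surjective
  have hnil : IsNilpotent (RingHom.ker ((IsScalarTower.toAlgHom A (Localization M') T :
      Localization M' →ₐ[A] T) : Localization M' →+* T)) := ⟨2, hQsq⟩
  let g : T →ₐ[A] Localization M' := Algebra.FormallySmooth.liftOfSurjective (AlgHom.id A T)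
    (IsScalarTower.toAlgHom A (Localization M') T) hsurj hnil
  have hg : (IsScalarTower.toAlgHom A (Localization M') T).comp g = AlgHom.id A T :=
    Algebra.FormallySmooth.comp_liftOfSurjective _ _ hsurj hnil
  have hret := retractionOfSectionOfKerSqZero_comp_kerToTensor g hQsq hg
  have hinj : Function.Injective (KaehlerDifferential.kerToTensor A (Localization M') T) := by
    intro a b hab
    have := congrArg (retractionOfSectionOfKerSqZero g hQsq hg) hab
    rwa [← LinearMap.comp_apply, ← LinearMap.comp_apply, hret] at this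
  have h1 := Algebra.Extension.CotangentSpace.map_cotangentComplex f
    (Algebra.Extension.Cotangent.mk x)
  rw [hx, map_zero, Algebra.Extension.Cotangent.map_mk,
    Algebra.Extension.cotangentComplex_mk] at h1
  have hxk : algebraMap P.Ring (Localization M') x.1 ∈
      RingHom.ker (algebraMap (Localization M') T) := by
    rw [RingHom.mem_ker, halg]
    have := x.2
    rw [RingHom.mem_ker] at this
    rw [this, map_zero]
  have h2 : KaehlerDifferential.kerToTensor A (Localization M') T ⟨_, hxk⟩ = 0 := h1.symm
  have h3 := hinj (h2.trans (map_zero _).symm)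
  have h4 : algebraMap P.Ring (Localization M') x.1 = 0 := congrArg Subtype.val h3
  obtain ⟨m, hm⟩ := (IsLocalization.map_eq_zero_iff M' _ _).1 h4
  exact ⟨m.1, m.2, hm⟩

section lift

variable {A B : Type u} [CommRing A] [CommRing B] [Algebra A B]

/-- Leibniz rule in the cotangent space of an extension -/
theorem one_tmul_D_mul (P : Algebra.Extension.{u} A B) (a b : P.Ring) :
    ((1 : B) ⊗ₜ[P.Ring] KaehlerDifferential.D A P.Ring (a * b) : P.CotangentSpace) =
      algebraMap P.Ring B a • ((1 : B) ⊗ₜ[P.Ring] KaehlerDifferential.D A P.Ring b) +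
      algebraMap P.Ring B b • ((1 : B) ⊗ₜ[P.Ring] KaehlerDifferential.D A P.Ring a) := by
  rw [Derivation.leibniz, TensorProduct.tmul_add, TensorProduct.tmul_smul, TensorProduct.tmul_smul,
    algebraMap_smul, algebraMap_smul]

theorem toKaehler_one_tmul_D (P : Algebra.Extension.{u} A B) (a : P.Ring) :
    P.toKaehler ((1 : B) ⊗ₜ[P.Ring] KaehlerDifferential.D A P.Ring a) =
      KaehlerDifferential.D A B (algebraMap P.Ring B a) := by
  rw [Algebra.Extension.toKaehler, KaehlerDifferential.mapBaseChange_tmul, one_smul,
    KaehlerDifferential.map_D]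

/-- the relation defining the comparison map between two extensions -/
def Rel (P P' : Algebra.Extension.{u} A B) (φ : P.CotangentSpace →ₗ[B] P'.CotangentSpace)
    (e : P.Ring) (e' : P'.Ring) : Prop :=
  algebraMap P'.Ring B e' = algebraMap P.Ring B e ∧
    ((1 : B) ⊗ₜ[P'.Ring] KaehlerDifferential.D A P'.Ring e' : P'.CotangentSpace) =
      φ ((1 : B) ⊗ₜ[P.Ring] KaehlerDifferential.D A P.Ring e)

variable (P P' : Algebra.Extension.{u} A B) (φ : P.CotangentSpace →ₗ[B] P'.CotangentSpace)

theorem Rel.exists (hφ : ∀ y, P'.toKaehler (φ y) = P.toKaehler y) (e : P.Ring) :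
    ∃ e' : P'.Ring, Rel P P' φ e e' := by
  let e₀ : P'.Ring := P'.σ (algebraMap P.Ring B e)
  have he₀ : algebraMap P'.Ring B e₀ = algebraMap P.Ring B e := P'.algebraMap_σ _
  have h1 : P'.toKaehler (φ ((1 : B) ⊗ₜ[P.Ring] KaehlerDifferential.D A P.Ring e) -
      (1 : B) ⊗ₜ[P'.Ring] KaehlerDifferential.D A P'.Ring e₀) = 0 := by
    rw [map_sub, hφ, toKaehler_one_tmul_D, toKaehler_one_tmul_D, he₀, sub_self]
  obtain ⟨c, hc⟩ := (P'.exact_cotangentComplex_toKaehler _).1 h1
  obtain ⟨y, rfl⟩ := Algebra.Extension.Cotangent.mk_surjective c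
  rw [Algebra.Extension.cotangentComplex_mk] at hc
  refine ⟨e₀ + y.1, ?_, ?_⟩
  · rw [map_add, he₀, RingHom.mem_ker.1 y.2, add_zero]
  · rw [map_add, TensorProduct.tmul_add, hc]
    abel

theorem Rel.unique (hsq' : P'.ker ^ 2 = ⊥) (hinj' : Function.Injective P'.cotangentComplex)
    {e : P.Ring} {e' e'' : P'.Ring} (h' : Rel P P' φ e e') (h'' : Rel P P' φ e e'') : e' = e'' := by
  have hd : e' - e'' ∈ P'.ker := by
    rw [RingHom.mem_ker, map_sub, h'.1, h''.1, sub_self]
  have h1 : P'.cotangentComplex (Algebra.Extension.Cotangent.mk ⟨e' - e'', hd⟩) = 0 := by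
    rw [Algebra.Extension.cotangentComplex_mk]
    change (1 : B) ⊗ₜ[P'.Ring] KaehlerDifferential.D A P'.Ring (e' - e'') = 0
    rw [map_sub, TensorProduct.tmul_sub, h'.2, h''.2, sub_self]
  have h2 := hinj' (h1.trans (map_zero _).symm)
  rw [Algebra.Extension.Cotangent.mk_eq_zero_iff, hsq'] at h2
  exact sub_eq_zero.1 h2

theorem Rel.one : Rel P P' φ 1 1 := by
  refine ⟨by rw [map_one, map_one], ?_⟩
  rw [Derivation.map_one_eq_zero, Derivation.map_one_eq_zero, TensorProduct.tmul_zero,
    TensorProduct.tmul_zero, map_zero]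

theorem Rel.zero : Rel P P' φ 0 0 := by
  refine ⟨by rw [map_zero, map_zero], ?_⟩
  rw [map_zero, map_zero, TensorProduct.tmul_zero, TensorProduct.tmul_zero, map_zero]

variable {P P' φ} in
theorem Rel.add {a b : P.Ring} {a' b' : P'.Ring} (ha : Rel P P' φ a a') (hb : Rel P P' φ b b') :
    Rel P P' φ (a + b) (a' + b') := by
  refine ⟨by rw [map_add, map_add, ha.1, hb.1], ?_⟩
  rw [map_add, map_add, TensorProduct.tmul_add, TensorProduct.tmul_add, map_add, ha.2, hb.2]

variable {P P' φ} in
theorem Rel.mul {a b : P.Ring} {a' b' : P'.Ring} (ha : Rel P P' φ a a') (hb : Rel P P' φ b b') :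
    Rel P P' φ (a * b) (a' * b') := by
  refine ⟨by rw [map_mul, map_mul, ha.1, hb.1], ?_⟩
  rw [one_tmul_D_mul, one_tmul_D_mul, map_add, map_smul, map_smul, ha.1, hb.1, ha.2, hb.2]

theorem Rel.algMap (a : A) :
    Rel P P' φ (algebraMap A P.Ring a) (algebraMap A P'.Ring a) := by
  refine ⟨by rw [← IsScalarTower.algebraMap_apply, ← IsScalarTower.algebraMap_apply], ?_⟩
  rw [Derivation.map_algebraMap, Derivation.map_algebraMap, TensorProduct.tmul_zero,
    TensorProduct.tmul_zero, map_zero]

/-- a map of cotangent spaces over `Ω` lifts uniquely to a homomorphism of square-zero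
extensions, when the target has injective conormal map -/
theorem exists_hom (hsq' : P'.ker ^ 2 = ⊥) (hinj' : Function.Injective P'.cotangentComplex)
    (hφ : ∀ y, P'.toKaehler (φ y) = P.toKaehler y) :
    ∃ f : P.Hom P', ∀ e, Rel P P' φ e (f.toRingHom e) := by
  choose F hF using Rel.exists P P' φ hφ
  have huniq : ∀ {e : P.Ring} {e' : P'.Ring}, Rel P P' φ e e' → F e = e' := fun h =>
    Rel.unique P P' φ hsq' hinj' (hF _) h
  let f : P.Ring →+* P'.Ring :=
    { toFun := F
      map_one' := huniq (Rel.one P P' φ)
      map_mul' := fun a b => huniq ((hF a).mul (hF b))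
      map_zero' := huniq (Rel.zero P P' φ)
      map_add' := fun a b => huniq ((hF a).add (hF b)) }
  refine ⟨{ toRingHom := f
            toRingHom_algebraMap := fun a => huniq (Rel.algMap P P' φ a)
            algebraMap_toRingHom := fun e => (hF e).1 }, fun e => hF e⟩

end lift

section construct

variable {A B : Type u} [CommRing A] [CommRing B] [Algebra A B]
  {N : Type u} [AddCommGroup N] [Module B N]

/-- the opposite module structure on a module over a commutative ring -/
@[reducible] def opModule (B N : Type u) [CommRing B] [AddCommGroup N] [Module B N] :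
    Module Bᵐᵒᵖ N :=
  Module.compHom N ((RingHom.id B).fromOpposite (fun _ _ => Commute.all _ _))

attribute [local instance] opModule

theorem isCentralScalar_op (B N : Type u) [CommRing B] [AddCommGroup N] [Module B N] :
    IsCentralScalar B N := ⟨fun _ _ => rfl⟩

attribute [local instance] isCentralScalar_op

variable (q : N →ₗ[B] Ω[B⁄A])

/-- the ring of pairs `(b, n)` with `db = q n` -/
def pairRing : Subring (TrivSqZeroExt B N) where
  carrier := {x | KaehlerDifferential.D A B x.fst = q x.snd}
  mul_mem' := by
    intro x y hx hy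
    simp only [Set.mem_ofPred_eq] at hx hy ⊢
    rw [TrivSqZeroExt.fst_mul, TrivSqZeroExt.snd_mul, Derivation.leibniz, map_add, hx, hy,
      op_smul_eq_smul, map_smul, map_smul]
  one_mem' := by
    simp only [Set.mem_ofPred_eq]
    rw [TrivSqZeroExt.fst_one, TrivSqZeroExt.snd_one, Derivation.map_one_eq_zero, map_zero]
  add_mem' := by
    intro x y hx hy
    simp only [Set.mem_ofPred_eq] at hx hy ⊢
    rw [TrivSqZeroExt.fst_add, TrivSqZeroExt.snd_add, map_add, map_add, hx, hy]
  zero_mem' := by
    simp only [Set.mem_ofPred_eq]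
    rw [TrivSqZeroExt.fst_zero, TrivSqZeroExt.snd_zero, map_zero, map_zero]
  neg_mem' := by
    intro x hx
    simp only [Set.mem_ofPred_eq] at hx ⊢
    rw [TrivSqZeroExt.fst_neg, TrivSqZeroExt.snd_neg, map_neg, map_neg, hx]

theorem mem_pairRing (x : TrivSqZeroExt B N) :
    x ∈ pairRing q ↔ KaehlerDifferential.D A B x.fst = q x.snd := Iff.rfl

/-- the structure map `A → pairRing q` -/
def pairAlgebraMap : A →+* pairRing q :=
  ((TrivSqZeroExt.inlHom B N).comp (algebraMap A B)).codRestrict (pairRing q) (fun a => by
    rw [mem_pairRing]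
    change KaehlerDifferential.D A B (algebraMap A B a) = q 0
    rw [Derivation.map_algebraMap, map_zero])

instance : Algebra A (pairRing q) := (pairAlgebraMap q).toAlgebra

/-- the projection `pairRing q → B` -/
def pairFst : pairRing q →ₐ[A] B :=
  { (TrivSqZeroExt.fstHom B B N).toRingHom.comp (pairRing q).subtype with
    commutes' := fun _ => rfl }

theorem pairFst_apply (x : pairRing q) : pairFst q x = x.1.fst := rfl

theorem pairFst_surjective (hq : Function.Surjective q) : Function.Surjective (pairFst q) := by
  intro b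
  obtain ⟨n, hn⟩ := hq (KaehlerDifferential.D A B b)
  exact ⟨⟨TrivSqZeroExt.inl b + TrivSqZeroExt.inr n, by
    rw [mem_pairRing]
    simp only [TrivSqZeroExt.fst_add, TrivSqZeroExt.fst_inl, TrivSqZeroExt.fst_inr, add_zero,
      TrivSqZeroExt.snd_add, TrivSqZeroExt.snd_inl, TrivSqZeroExt.snd_inr, zero_add]
    exact hn.symm⟩, by
    rw [pairFst_apply]
    simp only [TrivSqZeroExt.fst_add, TrivSqZeroExt.fst_inl, TrivSqZeroExt.fst_inr, add_zero]⟩

/-- the extension of `B` attached to `q : N → Ω[B⁄A]` -/
noncomputable def pairExt (hq : Function.Surjective q) : Algebra.Extension.{u} A B :=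
  Algebra.Extension.ofSurjective (pairFst q) (pairFst_surjective q hq)

theorem pairExt_algebraMap (hq : Function.Surjective q) (x : (pairExt q hq).Ring) :
    algebraMap (pairExt q hq).Ring B x = (x : pairRing q).1.fst := rfl

theorem pairExt_ker_sq (hq : Function.Surjective q) : (pairExt q hq).ker ^ 2 = ⊥ := by
  rw [eq_bot_iff, pow_two, Ideal.mul_le]
  intro x hx y hy
  have hx' : (x : pairRing q).1.fst = 0 := hx
  have hy' : (y : pairRing q).1.fst = 0 := hy
  rw [Ideal.mem_bot]
  apply Subtype.ext
  apply TrivSqZeroExt.ext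
  · change (x.1 * y.1).fst = 0
    rw [TrivSqZeroExt.fst_mul, hx', zero_mul]
  · change (x.1 * y.1).snd = 0
    rw [TrivSqZeroExt.snd_mul, hx', hy', zero_smul, MulOpposite.op_zero, zero_smul, add_zero]

section cot

variable {M : Type u} [AddCommGroup M] [Module B M] (i : M →ₗ[B] N)
  (hq : Function.Surjective q) (hex : Function.Exact i q)

/-- the element `(0, i m)` of the kernel -/
def kerElem (m : M) : (pairExt q hq).ker :=
  ⟨⟨TrivSqZeroExt.inr (i m), by
    rw [mem_pairRing]
    change KaehlerDifferential.D A B 0 = q (i m)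
    rw [map_zero, hex.apply_apply_eq_zero]⟩, by
    change (TrivSqZeroExt.inr (i m) : TrivSqZeroExt B N).fst = 0
    exact TrivSqZeroExt.fst_inr B _⟩

theorem kerElem_add (a b : M) : kerElem q i hq hex (a + b) = kerElem q i hq hex a + kerElem q i hq hex b := by
  apply Subtype.ext
  apply Subtype.ext
  change TrivSqZeroExt.inr (i (a + b)) = TrivSqZeroExt.inr (i a) + TrivSqZeroExt.inr (i b)
  rw [map_add, TrivSqZeroExt.inr_add]

theorem smul_kerElem (r : (pairExt q hq).Ring) (m : M) :
    r • kerElem q i hq hex m = kerElem q i hq hex (algebraMap (pairExt q hq).Ring B r • m) := by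
  apply Subtype.ext
  apply Subtype.ext
  change (r : pairRing q).1 * TrivSqZeroExt.inr (i m) = TrivSqZeroExt.inr (i ((r : pairRing q).1.fst • m))
  apply TrivSqZeroExt.ext
  · rw [TrivSqZeroExt.fst_mul, TrivSqZeroExt.fst_inr, mul_zero, TrivSqZeroExt.fst_inr]
  · rw [TrivSqZeroExt.snd_mul, TrivSqZeroExt.fst_inr, TrivSqZeroExt.snd_inr, MulOpposite.op_zero,
      zero_smul, add_zero, TrivSqZeroExt.snd_inr, map_smul]

/-- `M → I/I²` -/
noncomputable def toCot : M →ₗ[B] (pairExt q hq).Cotangent where
  toFun m := Algebra.Extension.Cotangent.mk (kerElem q i hq hex m)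
  map_add' a b := by rw [kerElem_add, map_add]
  map_smul' b m := by
    obtain ⟨r, rfl⟩ := (pairExt q hq).algebraMap_surjective b
    rw [RingHom.id_apply,
      algebraMap_smul B r (Algebra.Extension.Cotangent.mk (kerElem q i hq hex m)), ← map_smul,
      smul_kerElem]

theorem toCot_bijective (hi : Function.Injective i) : Function.Bijective (toCot q i hq hex) := by
  constructor
  · rw [injective_iff_map_eq_zero]
    intro m hm
    change Algebra.Extension.Cotangent.mk (kerElem q i hq hex m) = 0 at hm
    rw [Algebra.Extension.Cotangent.mk_eq_zero_iff, pairExt_ker_sq, Ideal.mem_bot] at hm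
    have h1 : (TrivSqZeroExt.inr (i m) : TrivSqZeroExt B N) = 0 := congrArg Subtype.val hm
    have h2 : i m = 0 := by
      have := congrArg TrivSqZeroExt.snd h1
      rwa [TrivSqZeroExt.snd_inr, TrivSqZeroExt.snd_zero] at this
    exact hi (h2.trans (map_zero i).symm)
  · intro c
    obtain ⟨x, rfl⟩ := Algebra.Extension.Cotangent.mk_surjective c
    have hx1 : ((x : (pairExt q hq).Ring) : pairRing q).1.fst = 0 := x.2
    have hx2 := ((x : (pairExt q hq).Ring) : pairRing q).2
    rw [mem_pairRing, hx1, map_zero] at hx2
    obtain ⟨m, hm⟩ := (hex _).1 hx2.symm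
    refine ⟨m, ?_⟩
    change Algebra.Extension.Cotangent.mk (kerElem q i hq hex m) = _
    congr 1
    apply Subtype.ext
    apply Subtype.ext
    apply TrivSqZeroExt.ext
    · change (TrivSqZeroExt.inr (i m) : TrivSqZeroExt B N).fst = _
      rw [TrivSqZeroExt.fst_inr, hx1]
    · change (TrivSqZeroExt.inr (i m) : TrivSqZeroExt B N).snd = _
      rw [TrivSqZeroExt.snd_inr, hm]

end cot

section cotSpace

variable (hq : Function.Surjective q) [Module A N] [IsScalarTower A B N]

/-- underlying element of the trivial square-zero extension -/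
def val (x : (pairExt q hq).Ring) : TrivSqZeroExt B N := (x : pairRing q).1

omit [Module A N] [IsScalarTower A B N] in
theorem val_mul (x y : (pairExt q hq).Ring) : val q hq (x * y) = val q hq x * val q hq y := rfl

omit [Module A N] [IsScalarTower A B N] in
theorem val_add (x y : (pairExt q hq).Ring) : val q hq (x + y) = val q hq x + val q hq y := rfl

omit [Module A N] [IsScalarTower A B N] in
theorem val_algebraMap (a : A) :
    val q hq (algebraMap A (pairExt q hq).Ring a) = TrivSqZeroExt.inl (algebraMap A B a) := rfl

omit [Module A N] [IsScalarTower A B N] in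
theorem fst_val (x : (pairExt q hq).Ring) :
    (val q hq x).fst = algebraMap (pairExt q hq).Ring B x := rfl

omit [Module A N] [IsScalarTower A B N] in
theorem val_mem (x : (pairExt q hq).Ring) :
    KaehlerDifferential.D A B (val q hq x).fst = q (val q hq x).snd := (x : pairRing q).2

/-- `N` as a module over the pair ring -/
@[reducible] noncomputable def modRing : Module (pairExt q hq).Ring N :=
  Module.compHom N (algebraMap (pairExt q hq).Ring B)

attribute [local instance] modRing

omit [Module A N] [IsScalarTower A B N] in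
theorem smul_ring_def (x : (pairExt q hq).Ring) (n : N) :
    x • n = algebraMap (pairExt q hq).Ring B x • n := rfl

omit [Module A N] [IsScalarTower A B N] in
theorem tower_ring : IsScalarTower (pairExt q hq).Ring B N :=
  ⟨fun x b n => by
    rw [smul_ring_def, Algebra.smul_def, mul_smul]⟩

theorem tower_base : IsScalarTower A (pairExt q hq).Ring N :=
  ⟨fun a x n => by
    rw [smul_ring_def, smul_ring_def, Algebra.smul_def, map_mul, mul_smul,
      ← IsScalarTower.algebraMap_apply, algebraMap_smul]⟩

attribute [local instance] tower_ring tower_base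

/-- the derivation `(b, n) ↦ n` -/
noncomputable def sndDer : Derivation A (pairExt q hq).Ring N :=
  Derivation.mk'
    { toFun := fun x => (val q hq x).snd
      map_add' := fun _ _ => rfl
      map_smul' := fun a x => by
        rw [Algebra.smul_def, val_mul, val_algebraMap, TrivSqZeroExt.snd_mul, TrivSqZeroExt.fst_inl,
          TrivSqZeroExt.snd_inl, smul_zero, add_zero, algebraMap_smul]
        rfl }
    (fun x y => by
      change (val q hq (x * y)).snd = x • (val q hq y).snd + y • (val q hq x).snd
      rw [val_mul, TrivSqZeroExt.snd_mul, op_smul_eq_smul, smul_ring_def, smul_ring_def, fst_val,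
        fst_val])

theorem sndDer_apply (x : (pairExt q hq).Ring) : sndDer q hq x = (val q hq x).snd := rfl

/-- the comparison map `B ⊗ Ω[E⁄A] → N` -/
noncomputable def cotSpaceTo : (pairExt q hq).CotangentSpace →ₗ[B] N :=
  LinearMap.liftBaseChange B (sndDer q hq).liftKaehlerDifferential

theorem cotSpaceTo_tmul_D (b : B) (x : (pairExt q hq).Ring) :
    cotSpaceTo q hq (b ⊗ₜ KaehlerDifferential.D A _ x) = b • (val q hq x).snd := by
  rw [cotSpaceTo, LinearMap.liftBaseChange_tmul, Derivation.liftKaehlerDifferential_comp_D,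
    sndDer_apply]

theorem q_cotSpaceTo (y : (pairExt q hq).CotangentSpace) :
    q (cotSpaceTo q hq y) = (pairExt q hq).toKaehler y := by
  have h : q ∘ₗ cotSpaceTo q hq = (pairExt q hq).toKaehler := by
    ext x
    simp only [TensorProduct.AlgebraTensorModule.curry_apply, LinearMap.restrictScalars_comp,
      TensorProduct.curry_apply, LinearMap.coe_comp, LinearMap.coe_restrictScalars,
      Function.comp_apply, Derivation.coe_comp, Derivation.coeFn_coe]
    rw [cotSpaceTo_tmul_D, one_smul, ← val_mem, fst_val, toKaehler_one_tmul_D]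
  exact LinearMap.congr_fun h y

variable {M : Type u} [AddCommGroup M] [Module B M] (i : M →ₗ[B] N) (hex : Function.Exact i q)

theorem cotSpaceTo_cotangentComplex (m : M) :
    cotSpaceTo q hq ((pairExt q hq).cotangentComplex (toCot q i hq hex m)) = i m := by
  change cotSpaceTo q hq ((pairExt q hq).cotangentComplex
    (Algebra.Extension.Cotangent.mk (kerElem q i hq hex m))) = i m
  rw [Algebra.Extension.cotangentComplex_mk, cotSpaceTo_tmul_D, one_smul]
  rfl

include hex in
theorem cotSpaceTo_bijective (hi : Function.Injective i) :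
    Function.Bijective (cotSpaceTo q hq) := by
  have hcot := toCot_bijective q i hq hex hi
  constructor
  · rw [injective_iff_map_eq_zero]
    intro z hz
    have h1 : (pairExt q hq).toKaehler z = 0 := by rw [← q_cotSpaceTo, hz, map_zero]
    obtain ⟨c, rfl⟩ := ((pairExt q hq).exact_cotangentComplex_toKaehler z).1 h1
    obtain ⟨m, rfl⟩ := hcot.2 c
    rw [cotSpaceTo_cotangentComplex] at hz
    have hm : m = 0 := hi (hz.trans (map_zero i).symm)
    rw [hm, map_zero, map_zero]
  · intro n
    obtain ⟨z, hz⟩ := (pairExt q hq).toKaehler_surjective (q n)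
    have h1 : q (n - cotSpaceTo q hq z) = 0 := by rw [map_sub, q_cotSpaceTo, hz, sub_self]
    obtain ⟨m, hm⟩ := (hex _).1 h1
    refine ⟨z + (pairExt q hq).cotangentComplex (toCot q i hq hex m), ?_⟩
    rw [map_add, cotSpaceTo_cotangentComplex, hm]
    abel

end cotSpace

end construct

end Groth.Agent.LibExt29
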