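import Mathlib
import Groth.Agent.LibFlatFPModel29

/-!
# Explicit `Spec` form of finitely presented models (helper29)

`exists_spec_model`: the construction in helper9's `ModelAlg.hasFPModel_of_alg`, keeping the rings
`B₀` (of finite type over `ℤ`) and `C₀` visible.  `exists_spec_model_flat`: the flat case.
-/

set_option autoImplicit false
set_option linter.style.haveILetI false
universe u

namespace Groth.Agent.LibFPModelExplicit29

open AlgebraicGeometry CategoryTheory Limits TensorProduct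
open Groth.Agent.Lib.helper9 Groth.Agent.Lib.helper9.ModelAlg

theorem exists_spec_model (P : MorphismProperty Scheme.{u}) (Q : ∀ {R S : Type u} [CommRing R]
    [CommRing S], (R →+* S) → Prop) [HasRingHomProperty P Q]
    (halg : ∀ (B C : Type u) [CommRing B] [CommRing C] [Algebra B C], Q (algebraMap B C) →
      ∃ (B₀ : Subalgebra ℤ B) (C₀ : Type u) (_ : CommRing C₀) (_ : Algebra B₀ C₀),
        B₀.FG ∧ Q (algebraMap B₀ C₀) ∧ Algebra.FinitePresentation B₀ C₀ ∧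
          Nonempty (C ≃ₐ[B] B ⊗[B₀] C₀))
    {X Y : Scheme.{u}} (f : X ⟶ Y) [IsAffine X] [IsAffine Y] (hf : P f) :
    ∃ (B₀ C₀ : Type u) (_ : CommRing B₀) (_ : CommRing C₀) (_ : Algebra B₀ C₀)
      (t : Y ⟶ Spec (CommRingCat.of B₀)) (ψ : X ⟶ Spec (CommRingCat.of C₀)),
      Algebra.FiniteType ℤ B₀ ∧ Q (algebraMap B₀ C₀) ∧ Algebra.FinitePresentation B₀ C₀ ∧
        IsPullback ψ f (Spec.map (CommRingCat.ofHom (algebraMap B₀ C₀))) t := by
  have hQ : Q f.appTop.hom := (HasRingHomProperty.iff_of_isAffine (P := P)).mp hf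
  let _ : Algebra Γ(Y, ⊤) Γ(X, ⊤) := f.appTop.hom.toAlgebra
  have hQ' : Q (algebraMap Γ(Y, ⊤) Γ(X, ⊤)) := hQ
  obtain ⟨B₀, C₀, _, _, hfg, hQ₀, hfp, ⟨e⟩⟩ := halg Γ(Y, ⊤) Γ(X, ⊤) hQ'
  let ι : CommRingCat.of B₀ ⟶ Γ(Y, ⊤) := CommRingCat.ofHom (algebraMap B₀ Γ(Y, ⊤))
  let ε : CommRingCat.of B₀ ⟶ CommRingCat.of C₀ := CommRingCat.ofHom (algebraMap B₀ C₀)
  let κ : CommRingCat.of C₀ ⟶ Γ(X, ⊤) := CommRingCat.ofHom
    ((e.symm : (Γ(Y, ⊤) ⊗[B₀] C₀) →+* Γ(X, ⊤)).comp
      (Algebra.TensorProduct.includeRight : C₀ →ₐ[B₀] Γ(Y, ⊤) ⊗[B₀] C₀).toRingHom)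
  have hpo : IsPushout ι ε f.appTop κ := by
    refine (CommRingCat.isPushout_tensorProduct B₀ Γ(Y, ⊤) C₀).of_iso (Iso.refl _) (Iso.refl _)
      (Iso.refl _) (e.symm.toRingEquiv.toCommRingCatIso) ?_ ?_ ?_ ?_
    · simp [ι]
    · simp [ε]
    · ext x
      simp only [Iso.refl_hom, Category.id_comp, CommRingCat.hom_comp, CommRingCat.hom_ofHom,
        RingEquiv.toCommRingCatIso_hom, RingHom.coe_comp, Function.comp_apply]
      show e.symm (x ⊗ₜ[B₀] (1 : C₀)) = f.appTop.hom x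
      have : (x ⊗ₜ[B₀] (1 : C₀) : Γ(Y, ⊤) ⊗[B₀] C₀) = algebraMap Γ(Y, ⊤) _ x := rfl
      rw [this, e.symm.commutes]
      rfl
    · ext x
      rfl
  have hpb : IsPullback (Spec.map f.appTop) (Spec.map κ) (Spec.map ι) (Spec.map ε) :=
    isPullback_SpecMap_of_isPushout _ _ _ _ hpo
  refine ⟨B₀, C₀, inferInstance, inferInstance, inferInstance,
    Y.isoSpec.hom ≫ Spec.map ι, X.isoSpec.hom ≫ Spec.map κ,
    (Subalgebra.fg_iff_finiteType B₀).mp hfg, hQ₀, hfp, ?_⟩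
  refine IsPullback.of_iso hpb.flip X.isoSpec.symm (Iso.refl _) Y.isoSpec.symm (Iso.refl _)
    ?_ ?_ ?_ ?_
  · simp
  · simp only [Iso.symm_hom]
    exact Scheme.isoSpec_inv_naturality f
  · simp only [Iso.refl_hom, Category.comp_id, Category.id_comp]
    rfl
  · simp

open Groth.Agent.LibFlatFPModel29 in
/-- **Noetherian approximation of flat finitely presented morphisms of affine schemes.** -/
theorem exists_spec_model_flat {X Y : Scheme.{u}} (f : X ⟶ Y) [IsAffine X] [IsAffine Y]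
    [LocallyOfFinitePresentation f] [Flat f] :
    ∃ (B₀ C₀ : Type u) (_ : CommRing B₀) (_ : CommRing C₀) (_ : Algebra B₀ C₀)
      (t : Y ⟶ Spec (CommRingCat.of B₀)) (ψ : X ⟶ Spec (CommRingCat.of C₀)),
      Algebra.FiniteType ℤ B₀ ∧ Module.Flat B₀ C₀ ∧ Algebra.FinitePresentation B₀ C₀ ∧
        IsPullback ψ f (Spec.map (CommRingCat.ofHom (algebraMap B₀ C₀))) t := by
  obtain ⟨B₀, C₀, _, _, _, t, ψ, h1, h2, h3, h4⟩ :=
    exists_spec_model FlatFP (fun f => f.Flat ∧ f.FinitePresentation) (by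
      intro B C _ _ _ h
      haveI : Module.Flat B C := RingHom.flat_algebraMap_iff.mp h.1
      haveI : Algebra.FinitePresentation B C := RingHom.finitePresentation_algebraMap.mp h.2
      obtain ⟨B₀, C₀, _, _, h1, h2, h3, h4⟩ := exists_fg_model_flat (B := B) (C := C)
      exact ⟨B₀, C₀, inferInstance, inferInstance, h1,
        ⟨RingHom.flat_algebraMap_iff.mpr h2, RingHom.finitePresentation_algebraMap.mpr h3⟩,
        h3, h4⟩) f ⟨inferInstance, inferInstance⟩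
  exact ⟨B₀, C₀, inferInstance, inferInstance, inferInstance, t, ψ, h1,
    RingHom.flat_algebraMap_iff.mp h2.1, h3, h4⟩

end Groth.Agent.LibFPModelExplicit29
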