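import Mathlib
import Groth.Agent.LibFibReg5_29
import Groth.Agent.LibQuasiBC29
import Groth.Agent.LibQuasiRegNoeth29
import Groth.Agent.LibSeqFlat29
import Groth.Agent.Lib.Helper24.FibreRegular

/-!
# Lifting flatness of a quasi-regular quotient across a nilpotent thickening (helper29)

Stacks 15.31.6 / 0670: `A' → B'` flat of finite presentation, `I ⊆ A'` locally nilpotent,
`f'₁,…,f'ᵣ ∈ B'` whose images in `B = B'/IB'` form a quasi-regular sequence with `B/(f)` flat over
`A = A'/I`.  Then `B'/(f')` is flat over `A'`.
-/

set_option autoImplicit false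
set_option linter.style.haveILetI false
universe u
open TensorProduct IsLocalRing RingTheory.Sequence
open scoped Pointwise

namespace Groth.Agent.LibFibReg29

open Groth.Agent.LibQuasiBC29 Groth.Agent.Lib.helper3.FlatLocus

section

variable (A' B' : Type u) [CommRing A'] [CommRing B'] [Algebra A' B'] (I : Ideal A') {r : ℕ}
  (f' : Fin r → B')

/-- the images of `f'` in the fibre over a prime containing `I` form a quasi-regular sequence. -/
theorem isQuasiRegular_fibre
    (hq : CAlgX.IsQuasiRegular
      (fun i => Ideal.Quotient.mk (Ideal.map (algebraMap A' B') I) (f' i)))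
    (hflat : Module.Flat (A' ⧸ I)
      ((B' ⧸ Ideal.map (algebraMap A' B') I) ⧸
        Ideal.span (Set.range (fun i => Ideal.Quotient.mk (Ideal.map (algebraMap A' B') I) (f' i)))))
    (p : Ideal A') [p.IsPrime] (hIp : I ≤ p) :
    CAlgX.IsQuasiRegular (fun i => ((1 : p.ResidueField) ⊗ₜ[A'] f' i : p.Fiber B')) := by
  letI alg : Algebra (A' ⧸ I) p.ResidueField :=
    (Ideal.Quotient.lift I (algebraMap A' p.ResidueField)
      (fun a ha => (Ideal.algebraMap_residueField_eq_zero).mpr (hIp ha))).toAlgebra
  haveI : IsScalarTower A' (A' ⧸ I) p.ResidueField := .of_algebraMap_eq (fun x => rfl)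
  have h1 := isQuasiRegular_baseChange (A' ⧸ I) (B' ⧸ Ideal.map (algebraMap A' B') I)
    p.ResidueField _ hflat hq
  let θ : p.ResidueField ⊗[A' ⧸ I] (B' ⧸ Ideal.map (algebraMap A' B') I) ≃ₐ[p.ResidueField]
      p.ResidueField ⊗[A'] B' :=
    (Algebra.TensorProduct.congr AlgEquiv.refl
      (Algebra.TensorProduct.quotIdealMapEquivQuotTensor B' I)).trans
      (Algebra.TensorProduct.cancelBaseChange A' (A' ⧸ I) p.ResidueField p.ResidueField B')
  have h2 := Groth.Agent.LibSeqFlat29.isQuasiRegular_map_of_flat θ.toAlgHom.toRingHom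
    (RingHom.Flat.of_bijective θ.bijective) _ h1
  convert h2 using 1
  funext i
  simp [θ, fT]

end

section Main

variable (A' B' : Type u) [CommRing A'] [CommRing B'] [Algebra A' B'] [Module.Flat A' B']
  [Algebra.FinitePresentation A' B'] (I : Ideal A') (hI : ∀ x ∈ I, IsNilpotent x) {r : ℕ}
  (f' : Fin r → B')

include hI in
/-- **Stacks 0670 (flatness part).** -/
theorem flat_quotient_of_nilpotent
    (hq : CAlgX.IsQuasiRegular
      (fun i => Ideal.Quotient.mk (Ideal.map (algebraMap A' B') I) (f' i)))
    (hflat : Module.Flat (A' ⧸ I)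
      ((B' ⧸ Ideal.map (algebraMap A' B') I) ⧸
        Ideal.span (Set.range (fun i => Ideal.Quotient.mk (Ideal.map (algebraMap A' B') I) (f' i))))) :
    Module.Flat A' (B' ⧸ Ideal.span (Set.range f')) := by
  set J := Ideal.span (Set.range f') with hJ
  have hJl : Ideal.ofList (List.ofFn f') = J := by
    rw [hJ]
    have : {x | x ∈ List.ofFn f'} = Set.range f' := by
      ext x
      simp only [Set.mem_ofPred_eq, List.mem_ofFn, Set.mem_range]
    rw [Ideal.ofList, this]
  apply Module.flat_of_isLocalized_maximal B' (B' ⧸ J)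
    (fun P _ => LocalizedModule P.primeCompl (B' ⧸ J))
    (fun P _ => LocalizedModule.mkLinearMap P.primeCompl (B' ⧸ J))
  intro P hP
  by_cases hJP : J ≤ P
  · -- the interesting case
    set p : Ideal A' := P.under A' with hp
    have hIp : I ≤ p := by
      intro a ha
      obtain ⟨n, hn⟩ := hI a ha
      have : a ^ n ∈ p := by rw [hn]; exact Ideal.zero_mem _
      exact (inferInstance : p.IsPrime).mem_of_pow_mem n this
    obtain ⟨q, hqp, hqP⟩ := Groth.Agent.Lib.Helper24.FibreRegular.exists_fiber_prime A' B' p P
    have hfib := isQuasiRegular_fibre A' B' I f' hq hflat p hIp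
    let ι : p.Fiber B' →+* Localization.AtPrime q := algebraMap _ _
    have hflatloc : RingHom.Flat (R := p.Fiber B') (S := Localization.AtPrime q) ι := by
      have hι : ι = algebraMap (p.Fiber B') (Localization.AtPrime q) := rfl
      rw [hι, RingHom.flat_algebraMap_iff]
      exact IsLocalization.flat _ q.primeCompl
    have hq2 := Groth.Agent.LibSeqFlat29.isQuasiRegular_map_of_flat (R := p.Fiber B')
      (R' := Localization.AtPrime q) ι hflatloc _ hfib
    haveI : IsNoetherianRing (p.Fiber B') :=
      Algebra.FiniteType.isNoetherianRing p.ResidueField (p.Fiber B')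
    haveI : IsNoetherianRing (Localization.AtPrime q) :=
      IsLocalization.isNoetherianRing q.primeCompl _ inferInstance
    have hm : ∀ i, ((algebraMap (p.Fiber B') (Localization.AtPrime q)) ∘
        (fun i => ((1 : p.ResidueField) ⊗ₜ[A'] f' i : p.Fiber B'))) i ∈
        maximalIdeal (Localization.AtPrime q) := by
      intro i
      rw [Function.comp_apply, IsLocalization.AtPrime.to_map_mem_maximal_iff _ q]
      have : f' i ∈ q.comap (Algebra.TensorProduct.includeRight : B' →ₐ[A'] p.Fiber B') := by
        rw [hqP]
        exact hJP (Ideal.subset_span ⟨i, rfl⟩)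
      exact this
    have hw := Groth.Agent.LibQuasiRegNoeth29.isWeaklyRegular_of_isQuasiRegular r
      (Localization.AtPrime q) _ hq2 hm
    have hw' : IsWeaklyRegular (Localization.AtPrime q) ((List.ofFn f').map (fibMap p q)) := by
      rw [List.map_ofFn]
      exact hw
    obtain ⟨g, hg, hB⟩ := exists_away_regFlat p q (List.ofFn f') hw'
    have hgP : g ∉ P := by
      rw [← hqP]
      exact hg
    have h3 := (hB (Localization.Away g)).flat_quotient
    rw [← Ideal.map_ofList, hJl] at h3
    have h4 := flat_localizedModule_quotient_of_flat (R := A') (Submonoid.powers g)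
      (Localization.Away g) J h3
    exact flat_of_le (Submonoid.powers g) P.primeCompl
      (LocalizedModule.mkLinearMap (Submonoid.powers g) (B' ⧸ J))
      (LocalizedModule.mkLinearMap P.primeCompl (B' ⧸ J))
      (Submonoid.powers_le.mpr hgP) h4
  · -- the quotient vanishes at `P`
    obtain ⟨j, hjJ, hjP⟩ := SetLike.not_le_iff_exists.mp hJP
    have htop : J.map (algebraMap B' (Localization.AtPrime P)) = ⊤ :=
      Ideal.eq_top_of_isUnit_mem _ (Ideal.mem_map_of_mem _ hjJ)
        (IsLocalization.map_units (Localization.AtPrime P) (⟨j, hjP⟩ : P.primeCompl))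
    haveI : Subsingleton (Localization.AtPrime P ⧸
        J.map (algebraMap B' (Localization.AtPrime P))) := by
      rw [htop]
      exact Ideal.Quotient.subsingleton_iff.mpr rfl
    exact flat_localizedModule_quotient_of_flat (R := A') P.primeCompl
      (Localization.AtPrime P) J inferInstance

end Main

end Groth.Agent.LibFibReg29
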