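import Mathlib
import Groth.Prelude.Def_RegImm
import Groth.Agent.LibFibStalk29
import Groth.Agent.LibFibReg6_29

/-!
# Lifting regular sequences from the local ring of the fibre, scheme level (helper29)

* `exists_flat_chart`: a morphism locally of finite presentation which is flat at `x` is flat on an
  affine chart around `x`.
* `exists_basicOpen_regFlat_of_fibModel_seq`: (EGA IV 11.3.8) sections `ys` over an affine chart
  `U` (flat over the affine `V`) whose images in a model `L` of the local ring of the fibre at `x`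
  form a weakly regular sequence are, over a basic open neighbourhood of `x`, a weakly regular
  sequence with all successive quotients flat over `Γ(S, V)`.
-/

set_option autoImplicit false
set_option linter.style.haveILetI false
universe u
open CategoryTheory CategoryTheory.Limits AlgebraicGeometry IsLocalRing RingTheory.Sequence

namespace Groth.Agent.LibFibRegSeq29

open Groth.Agent.LibFibReg29 Groth.Agent.LibH1Flat29 Groth.Agent.Lib.helper3.FlatLocus
  Groth.Agent.LibFibStalk29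

/-- a morphism locally of finite presentation which is flat at `x` is flat on an affine chart
around `x`. -/
theorem exists_flat_chart {X S : Scheme.{u}} (g : X ⟶ S) [LocallyOfFinitePresentation g] (x : X)
    (hX : (g.stalkMap x).hom.Flat) :
    ∃ (V : S.Opens) (hV : IsAffineOpen V) (U : X.Opens) (hU : IsAffineOpen U)
      (e : U ≤ g ⁻¹ᵁ V), x ∈ U ∧ (g.appLE V U e).hom.Flat := by
  obtain ⟨_, ⟨V, hV, rfl⟩, hsV, -⟩ :=
    S.isBasis_affineOpens.exists_subset_of_mem_open (Set.mem_univ (g x)) isOpen_univ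
  obtain ⟨_, ⟨U₀, hU₀, rfl⟩, hxU₀, hU₀V'⟩ :=
    X.isBasis_affineOpens.exists_subset_of_mem_open (show x ∈ (g ⁻¹ᵁ V : Set X) from hsV)
      (g ⁻¹ᵁ V).isOpen
  have e₀ : U₀ ≤ g ⁻¹ᵁ V := hU₀V'
  have hfl₀ := (flat_stalkMap_iff g V hV U₀ hU₀ e₀ hxU₀).mp hX
  letI alg₀ : Algebra Γ(S, V) Γ(X, U₀) := (g.appLE V U₀ e₀).hom.toAlgebra
  haveI hfp₀ : Algebra.FinitePresentation Γ(S, V) Γ(X, U₀) :=
    HasRingHomProperty.appLE (P := @LocallyOfFinitePresentation) g inferInstance ⟨V, hV⟩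
      ⟨U₀, hU₀⟩ e₀
  obtain ⟨g₁, hg₁, H₁⟩ := exists_away_flat_of_flat_atPrime
    (hU₀.primeIdealOf ⟨x, hxU₀⟩).asIdeal hfl₀
  have hU₁ : IsAffineOpen (X.basicOpen g₁) := hU₀.basicOpen g₁
  have hxU₁ : x ∈ X.basicOpen g₁ := by
    letI := X.presheaf.algebra_section_stalk (⟨x, hxU₀⟩ : U₀)
    haveI := hU₀.isLocalization_stalk ⟨x, hxU₀⟩
    rw [Scheme.mem_basicOpen _ _ _ hxU₀]
    exact (IsLocalization.AtPrime.isUnit_to_map_iff (X.presheaf.stalk x)
      (hU₀.primeIdealOf ⟨x, hxU₀⟩).asIdeal g₁).mpr hg₁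
  have e₁ : X.basicOpen g₁ ≤ g ⁻¹ᵁ V := (X.basicOpen_le g₁).trans e₀
  refine ⟨V, hV, X.basicOpen g₁, hU₁, e₁, hxU₁, ?_⟩
  letI alg' : Algebra Γ(S, V) Γ(X, X.basicOpen g₁) :=
    (g.appLE V (X.basicOpen g₁) e₁).hom.toAlgebra
  haveI : IsScalarTower Γ(S, V) Γ(X, U₀) Γ(X, X.basicOpen g₁) := by
    apply IsScalarTower.of_algebraMap_eq'
    have := Scheme.Hom.appLE_map g e₀ (homOfLE (X.basicOpen_le g₁)).op
    exact (congrArg CommRingCat.Hom.hom this).symm
  haveI : IsLocalization.Away g₁ Γ(X, X.basicOpen g₁) := hU₀.isLocalization_basicOpen g₁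
  have := H₁ Γ(X, X.basicOpen g₁)
  rw [← RingHom.flat_algebraMap_iff] at this
  exact this

/-- **EGA IV 11.3.8 on a chart**, for an arbitrary model `ψ : O_{X,x} ↠ L` of the local ring of the
fibre. -/
theorem exists_basicOpen_regFlat_of_fibModel_seq {X S : Scheme.{u}} (φ : X ⟶ S)
    [LocallyOfFinitePresentation φ] (x : X) {U : X.Opens} (hU : IsAffineOpen U)
    {V : S.Opens} (hV : IsAffineOpen V) (e : U ≤ φ ⁻¹ᵁ V) (hx : x ∈ U)
    (hB : (φ.appLE V U e).hom.Flat)
    (L : Type u) [CommRing L] (ψ : X.presheaf.stalk x →+* L) (hψ : Function.Surjective ψ)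
    (hkerψ : RingHom.ker ψ = (maximalIdeal (S.presheaf.stalk (φ x))).map (φ.stalkMap x).hom)
    (ys : List Γ(X, U))
    (h : IsWeaklyRegular L (ys.map (ψ.comp (X.presheaf.germ U x hx).hom))) :
    ∃ g : Γ(X, U), x ∈ X.basicOpen g ∧
      (letI := (φ.appLE V (X.basicOpen g) ((X.basicOpen_le g).trans e)).hom.toAlgebra
       RegFlat Γ(S, V) Γ(X, X.basicOpen g)
        (ys.map (X.presheaf.map (homOfLE (X.basicOpen_le g)).op).hom)) := by
  letI algAB : Algebra Γ(S, V) Γ(X, U) := (φ.appLE V U e).hom.toAlgebra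
  haveI hflatB : Module.Flat Γ(S, V) Γ(X, U) := by
    rw [← RingHom.flat_algebraMap_iff]
    exact hB
  haveI hfp : Algebra.FinitePresentation Γ(S, V) Γ(X, U) :=
    HasRingHomProperty.appLE (P := @LocallyOfFinitePresentation) φ inferInstance ⟨V, hV⟩ ⟨U, hU⟩ e
  let r : Ideal Γ(X, U) := (hU.primeIdealOf ⟨x, hx⟩).asIdeal
  let p : Ideal Γ(S, V) := (hV.primeIdealOf ⟨φ x, e hx⟩).asIdeal
  haveI : r.LiesOver p := ⟨by
    have := IsAffineOpen.comap_primeIdealOf_appLE (f := φ) (x := x) V hV U hU e hx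
    exact (congrArg PrimeSpectrum.asIdeal this).symm⟩
  letI a1 : Algebra Γ(X, U) (X.presheaf.stalk x) := X.presheaf.algebra_section_stalk (⟨x, hx⟩ : U)
  haveI l1 : IsLocalization.AtPrime (X.presheaf.stalk x) r := hU.isLocalization_stalk ⟨x, hx⟩
  have hker : RingHom.ker ψ = (p.map (algebraMap Γ(S, V) Γ(X, U))).map
      (algebraMap Γ(X, U) (X.presheaf.stalk x)) := by
    rw [hkerψ]
    exact fibIdeal_eq φ x hV e hx
  obtain ⟨g, hg, H⟩ := exists_away_regFlat_of_surjective p r (X.presheaf.stalk x) L ψ hψ hker ys h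
  have hxg : x ∈ X.basicOpen g := by
    rw [Scheme.mem_basicOpen _ _ x hx]
    exact (IsLocalization.AtPrime.isUnit_to_map_iff (X.presheaf.stalk x) r g).mpr hg
  refine ⟨g, hxg, ?_⟩
  letI algAB' : Algebra Γ(S, V) Γ(X, X.basicOpen g) :=
    (φ.appLE V (X.basicOpen g) ((X.basicOpen_le g).trans e)).hom.toAlgebra
  haveI : IsScalarTower Γ(S, V) Γ(X, U) Γ(X, X.basicOpen g) := by
    apply IsScalarTower.of_algebraMap_eq'
    have := Scheme.Hom.appLE_map φ e (homOfLE (X.basicOpen_le g)).op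
    exact (congrArg CommRingCat.Hom.hom this).symm
  haveI : IsLocalization.Away g Γ(X, X.basicOpen g) := hU.isLocalization_basicOpen g
  exact H Γ(X, X.basicOpen g)

end Groth.Agent.LibFibRegSeq29
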