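import Groth.Agent.Lib.Helper9.LimDescendEmpty
import Groth.Agent.Lib.Helper9.ProConsMore
import Groth.Agent.Lib.Helper9.ProConsScheme
import Groth.Agent.Lib.Helper9.StageSquares
import Groth.Agent.Lib.Helper3.FibreDimBC
import Groth.Agent.Lib.Helper3.RelDim
import Groth.Agent.Lib.Helper3.FibreDimCons
import Groth.Agent.S0402

/-!
# Descent to a finite stage of conditions on the local fibre dimension (helper29)

For `S = lim S_i` (cofiltered, affine transition maps), `f₀ : X₀ ⟶ Y₀` over `S_{i₀}` locally of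
finite type with `X₀` quasi-compact and `Z ⊆ X₀` pro-constructible: if the base change of `f₀` to
`S` has all its local fibre dimensions outside ... etc.

* `exists_stage_forall_fibreDimAt_mem` : general form, for a set `A` of values such that
  `{x | fibreDimAt f₀ x ∉ A}` is pro-constructible.
-/

set_option autoImplicit false
set_option linter.style.haveILetI false
universe u

namespace Groth.Agent.LibFibreDimStage29

open AlgebraicGeometry CategoryTheory Limits
open Groth.Agent.Lib.helper9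

variable {I : Type u} [SmallCategory I] [IsCofiltered I] (D : I ⥤ Scheme.{u}) (c : Cone D)
  (hc : IsLimit c) [hD : ∀ (i j : I) (f : i ⟶ j), IsAffineHom (D.map f)]

include hc in
theorem exists_stage_forall_fibreDimAt_mem (i₀ : I) {X₀ Y₀ : Scheme.{u}} (f₀ : X₀ ⟶ Y₀)
    (g₀ : Y₀ ⟶ D.obj i₀) [CompactSpace X₀] [LocallyOfFiniteType f₀] (A : Set (WithBot ℕ∞))
    (hZ : ProCons.IsProConstructible {x : X₀ | FlatMor.fibreDimAt f₀ x ∉ A})
    {X Y : Scheme.{u}} (f : X ⟶ Y) (g : Y ⟶ c.pt) (qY : Y ⟶ Y₀) (qX : X ⟶ X₀)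
    (hY : IsPullback qY g g₀ (c.π.app i₀)) (hX : IsPullback qX f f₀ qY)
    (hd : ∀ x : X, FlatMor.fibreDimAt f x ∈ A) :
    ∃ (i : I) (φ : i ⟶ i₀) (Xi Yi : Scheme.{u}) (fi : Xi ⟶ Yi) (gi : Yi ⟶ D.obj i) (pY : Yi ⟶ Y₀)
      (pX : Xi ⟶ X₀), IsPullback pY gi g₀ (D.map φ) ∧ IsPullback pX fi f₀ pY ∧
        ∀ x : Xi, FlatMor.fibreDimAt fi x ∈ A := by
  have HX : IsPullback qX (f ≫ g) (f₀ ≫ g₀) (c.π.app i₀) := hX.paste_vert hY
  have h : ∀ w : ↥(Limits.pullback (c.π.app i₀) (f₀ ≫ g₀)),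
      (Limits.pullback.snd (c.π.app i₀) (f₀ ≫ g₀)) w ∉
        {x : X₀ | FlatMor.fibreDimAt f₀ x ∉ A} := by
    intro w hw
    apply hw
    have e := Scheme.Hom.comp_apply HX.flip.isoPullback.inv qX w
    rw [HX.flip.isoPullback_inv_snd] at e
    rw [e, ← Groth.Agent.Lib.helper3.FibreDimBC.fibreDimAt_eq_of_isPullback f₀ qY qX f hX]
    exact hd _
  obtain ⟨i, φ, hi⟩ := exists_forall_snd_notMem D c hc i₀ (f₀ ≫ g₀) _ hZ h
  refine ⟨i, φ, _, _, stageMap (D.map φ) f₀ g₀, _, _, _,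
    isPullback_stage_base (D.map φ) g₀, isPullback_stageMap (D.map φ) f₀ g₀, ?_⟩
  intro x
  rw [Groth.Agent.Lib.helper3.FibreDimBC.fibreDimAt_eq_of_isPullback f₀ _ _ _
    (isPullback_stageMap (D.map φ) f₀ g₀)]
  have hx := hi x
  simpa using hx

end Groth.Agent.LibFibreDimStage29
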