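import Mathlib

/-!
# Flat modules over reduced Noetherian rings inject into the product of their generic fibres
(helper29)
-/

set_option autoImplicit false
universe u
open TensorProduct

namespace Groth.Agent.LibFlatReduced29

theorem eq_zero_of_forall_tmul_eq_zero {A M : Type u} [CommRing A] [IsNoetherianRing A]
    [IsReduced A] [AddCommGroup M] [Module A M] [Module.Flat A M]
    (K : minimalPrimes A → Type u) [∀ p, CommRing (K p)] [∀ p, Algebra A (K p)]
    (hK : ∀ p, RingHom.ker (algebraMap A (K p)) ≤ p.1)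
    (m : M) (h : ∀ p, m ⊗ₜ[A] (1 : K p) = 0) : m = 0 := by
  haveI : Finite (minimalPrimes A) := (minimalPrimes.finite_of_isNoetherianRing A).to_subtype
  haveI : Fintype (minimalPrimes A) := Fintype.ofFinite _
  classical
  let g : A →ₗ[A] (∀ p, K p) := LinearMap.pi (fun p => Algebra.linearMap A (K p))
  have hg : Function.Injective g := by
    rw [injective_iff_map_eq_zero]
    intro a ha
    have h1 : ∀ p : minimalPrimes A, a ∈ p.1 := by
      intro p
      apply hK p
      rw [RingHom.mem_ker]
      exact congrFun ha p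
    have h2 : a ∈ sInf (minimalPrimes A) := by
      rw [Ideal.mem_sInf]
      intro p hp
      exact h1 ⟨p, hp⟩
    have h3 : sInf (minimalPrimes A) = (⊥ : Ideal A) := by
      rw [minimalPrimes, Ideal.sInf_minimalPrimes]
      exact nilradical_eq_zero A
    rw [h3] at h2
    exact h2
  have hinj := Module.Flat.lTensor_preserves_injective_linearMap (M := M) g hg
  have h1 : (g.lTensor M) (m ⊗ₜ[A] (1 : A)) = 0 := by
    apply (TensorProduct.piRight A A M K).injective
    rw [map_zero, LinearMap.lTensor_tmul]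
    ext p
    rw [TensorProduct.piRight_apply, TensorProduct.piRightHom_tmul]
    simp only [Pi.zero_apply]
    show m ⊗ₜ[A] (algebraMap A (K p) 1) = 0
    rw [map_one]
    exact h p
  have h2 : m ⊗ₜ[A] (1 : A) = 0 := hinj (by rw [h1, map_zero])
  have h3 := congrArg (TensorProduct.rid A M) h2
  simpa using h3

end Groth.Agent.LibFlatReduced29

namespace Groth.Agent.LibFlatReduced29

theorem tmul_eq_zero_of_isPushout {A B K C : Type u} [CommRing A] [CommRing B] [CommRing K]
    [CommRing C] [Algebra A B] [Algebra A K] [Algebra B C] [Algebra K C] [Algebra A C]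
    [IsScalarTower A B C] [IsScalarTower A K C] [Algebra.IsPushout A B K C]
    (I' : Ideal B) (f : B) (hf : algebraMap B C f ∈ I'.map (algebraMap B C)) :
    (Ideal.Quotient.mk I' f) ⊗ₜ[A] (1 : K) = (0 : (B ⧸ I') ⊗[A] K) := by
  let Φ : C →ₐ[A] (B ⧸ I') ⊗[A] K :=
    Algebra.pushoutDesc C (Algebra.TensorProduct.includeLeft.comp (Ideal.Quotient.mkₐ A I'))
      Algebra.TensorProduct.includeRight (fun _ _ => mul_comm _ _)
  have h1 : ∀ b, Φ (algebraMap B C b) = (Ideal.Quotient.mk I' b) ⊗ₜ[A] (1 : K) := fun b => by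
    simp [Φ]
  have h2 : I'.map (algebraMap B C) ≤ RingHom.ker Φ.toRingHom := by
    rw [Ideal.map_le_iff_le_comap]
    intro b hb
    rw [Ideal.mem_comap, RingHom.mem_ker]
    show Φ (algebraMap B C b) = 0
    rw [h1, Ideal.Quotient.eq_zero_iff_mem.mpr hb, zero_tmul]
  have h3 := h2 hf
  rw [RingHom.mem_ker] at h3
  rw [← h1]
  exact h3

open CategoryTheory in
theorem le_of_forall_fibre_le {A B : Type u} [CommRing A] [CommRing B] [IsNoetherianRing A]
    [IsReduced A] (φ : A →+* B) (I I' : Ideal B)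
    (hflat : ((Ideal.Quotient.mk I').comp φ).Flat)
    (H : ∀ p ∈ minimalPrimes A, ∃ (K C : Type u) (_ : CommRing K) (_ : CommRing C) (α : A →+* K)
      (β : B →+* C) (γ : K →+* C), RingHom.ker α ≤ p ∧
        IsPushout (CommRingCat.ofHom φ) (CommRingCat.ofHom α) (CommRingCat.ofHom β)
          (CommRingCat.ofHom γ) ∧ I.map β ≤ I'.map β) :
    I ≤ I' := by
  letI := φ.toAlgebra
  have hfl : Module.Flat A (B ⧸ I') := by
    have : (Ideal.Quotient.mk I').comp φ = algebraMap A (B ⧸ I') := rfl
    rw [this, RingHom.flat_algebraMap_iff] at hflat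
    exact hflat
  choose K C iK iC α β γ hker hpo hle using H
  intro f hf
  rw [← Ideal.Quotient.eq_zero_iff_mem]
  letI : ∀ p : minimalPrimes A, CommRing (K p.1 p.2) := fun p => iK p.1 p.2
  letI : ∀ p : minimalPrimes A, Algebra A (K p.1 p.2) := fun p => (α p.1 p.2).toAlgebra
  refine eq_zero_of_forall_tmul_eq_zero (fun p : minimalPrimes A => K p.1 p.2)
    (fun p => hker p.1 p.2) _ (fun p => ?_)
  letI : CommRing (C p.1 p.2) := iC p.1 p.2
  letI : Algebra B (C p.1 p.2) := (β p.1 p.2).toAlgebra
  letI : Algebra (K p.1 p.2) (C p.1 p.2) := (γ p.1 p.2).toAlgebra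
  letI : Algebra A (C p.1 p.2) := ((β p.1 p.2).comp φ).toAlgebra
  haveI : IsScalarTower A B (C p.1 p.2) := IsScalarTower.of_algebraMap_eq (fun _ => rfl)
  have hw := (hpo p.1 p.2).w
  haveI : IsScalarTower A (K p.1 p.2) (C p.1 p.2) := IsScalarTower.of_algebraMap_eq (fun a => by
    have := congrArg (fun k => k.hom a) hw
    exact this)
  haveI : Algebra.IsPushout A B (K p.1 p.2) (C p.1 p.2) :=
    CommRingCat.isPushout_iff_isPushout.mp (hpo p.1 p.2)
  apply tmul_eq_zero_of_isPushout (C := C p.1 p.2)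
  exact hle p.1 p.2 (Ideal.mem_map_of_mem _ hf)

end Groth.Agent.LibFlatReduced29
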