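import Mathlib
import Groth.Agent.LibFlatReduced29
import Groth.Agent.Lib.Helper16.RelCartier
import Groth.Agent.Lib.Helper7.IdealComap

/-!
# Containment of closed subschemes flat over a reduced base can be checked on fibres (helper29)
-/

set_option autoImplicit false
universe u
open CategoryTheory CategoryTheory.Limits AlgebraicGeometry

namespace Groth.Agent.LibFibreLe29

theorem ker_appLE_fromSpecResidueField {T : Scheme.{u}} {V : T.Opens} (hV : IsAffineOpen V)
    (p : PrimeSpectrum Γ(T, V))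
    (e : ⊤ ≤ (T.fromSpecResidueField (hV.fromSpec p)) ⁻¹ᵁ V) :
    RingHom.ker ((T.fromSpecResidueField (hV.fromSpec p)).appLE V ⊤ e).hom ≤ p.asIdeal := by
  set t := hV.fromSpec p with ht
  set f := T.fromSpecResidueField t with hf
  let x₀ : Spec (T.residueField t) := IsLocalRing.closedPoint _
  have hx₀ : x₀ ∈ (⊤ : (Spec (T.residueField t)).Opens) := trivial
  have h1 := IsAffineOpen.comap_primeIdealOf_appLE (f := f) V hV ⊤ (isAffineOpen_top _) e hx₀
  have hfx : f x₀ = t := Scheme.fromSpecResidueField_apply t x₀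
  have h2 : hV.primeIdealOf ⟨f x₀, e hx₀⟩ = p := by
    have hinj : Function.Injective hV.fromSpec := hV.fromSpec.isOpenEmbedding.injective
    apply hinj
    rw [hV.fromSpec_primeIdealOf]
    exact hfx
  rw [h2] at h1
  intro a ha
  rw [RingHom.mem_ker] at ha
  rw [← h1]
  show (f.appLE V ⊤ e).hom a ∈ ((isAffineOpen_top _).primeIdealOf ⟨x₀, hx₀⟩).asIdeal
  rw [ha]
  exact Ideal.zero_mem _

theorem ideal_le_of_fibre_le {𝒞 T : Scheme.{u}} [IsLocallyNoetherian T]
    [AlgebraicGeometry.IsReduced T] (π : 𝒞 ⟶ T) (D D' : 𝒞.IdealSheafData)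
    [Flat (D'.subschemeι ≫ π)]
    (hfib : ∀ t : T, D.comap (pullback.fst π (T.fromSpecResidueField t)) ≤
      D'.comap (pullback.fst π (T.fromSpecResidueField t)))
    (U : 𝒞.affineOpens) (V : T.affineOpens) (e : U.1 ≤ π ⁻¹ᵁ V.1) :
    D.ideal U ≤ D'.ideal U := by
  haveI : IsNoetherianRing Γ(T, V.1) := IsLocallyNoetherian.component_noetherian V
  haveI : _root_.IsReduced Γ(T, V.1) := inferInstance
  refine Groth.Agent.LibFlatReduced29.le_of_forall_fibre_le (π.appLE V.1 U.1 e).hom _ _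
    (Groth.Agent.Lib.helper16.RelCartier.flat_quot_of_flat_sub π D' U V e) ?_
  intro p hp
  haveI : p.IsPrime := hp.1.1
  set t := V.2.fromSpec ⟨p, inferInstance⟩ with ht
  set fκ := T.fromSpecResidueField t with hfκ
  have H : IsPullback (pullback.fst π fκ) (pullback.snd π fκ) π fκ := IsPullback.of_hasPullback π fκ
  have htV : t ∈ V.1 := by
    have : t ∈ Set.range V.2.fromSpec := ⟨_, rfl⟩
    rw [V.2.range_fromSpec] at this
    exact this
  have hUST : (⊤ : (Spec (T.residueField t)).Opens) ≤ fκ ⁻¹ᵁ V.1 := by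
    intro x _
    show fκ x ∈ V.1
    rw [hfκ, Scheme.fromSpecResidueField_apply]
    exact htV
  have hiso := isIso_pushoutSection_of_isAffineOpen H hUST e rfl V.2 (isAffineOpen_top _) U.2
  have hpo := (isIso_pushoutSection_iff H hUST e rfl).mp hiso
  have hUY : IsAffineOpen (pullback.fst π fκ ⁻¹ᵁ U.1 ⊓ pullback.snd π fκ ⁻¹ᵁ ⊤) := by
    haveI : IsAffine V.1.toScheme := V.2
    haveI : IsAffine U.1.toScheme := U.2
    haveI : IsAffine (⊤ : (Spec (T.residueField t)).Opens).toScheme := isAffineOpen_top _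
    exact .of_isIso (Scheme.Hom.isPullback_resLE H hUST e rfl).isoPullback.hom
  refine ⟨Γ(Spec (T.residueField t), ⊤), Γ(pullback π fκ, _), inferInstance, inferInstance,
    (fκ.appLE V.1 ⊤ hUST).hom, ((pullback.fst π fκ).appLE U.1 _ inf_le_left).hom,
    ((pullback.snd π fκ).appLE ⊤ _ inf_le_right).hom, ?_, ?_, ?_⟩
  · exact ker_appLE_fromSpecResidueField V.2 ⟨p, inferInstance⟩ hUST
  · exact hpo
  · have h1 := Groth.Agent.Lib.helper7.IdealComap.ideal_comap (pullback.fst π fκ) D U.2 hUY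
      (by simp)
    have h2 := Groth.Agent.Lib.helper7.IdealComap.ideal_comap (pullback.fst π fκ) D' U.2 hUY
      (by simp)
    rw [← h1, ← h2]
    exact hfib t ⟨_, hUY⟩

theorem le_of_fibre_le {𝒞 T : Scheme.{u}} [IsLocallyNoetherian T]
    [AlgebraicGeometry.IsReduced T] (π : 𝒞 ⟶ T) (D D' : 𝒞.IdealSheafData)
    [Flat (D'.subschemeι ≫ π)]
    (hfib : ∀ t : T, D.comap (pullback.fst π (T.fromSpecResidueField t)) ≤
      D'.comap (pullback.fst π (T.fromSpecResidueField t))) : D ≤ D' := by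
  let ι := {U : 𝒞.affineOpens // ∃ V : T.affineOpens, U.1 ≤ π ⁻¹ᵁ V.1}
  refine Scheme.IdealSheafData.le_of_iSup_eq_top (ι := ι) (fun i => i.1) ?_ ?_
  · rw [eq_top_iff]
    intro x _
    obtain ⟨_, ⟨V0, hV0, rfl⟩, hxV0, -⟩ :=
      T.isBasis_affineOpens.exists_subset_of_mem_open (Set.mem_univ (π x)) isOpen_univ
    obtain ⟨_, ⟨U0, hU0, rfl⟩, hxU0, hle⟩ :=
      𝒞.isBasis_affineOpens.exists_subset_of_mem_open (show x ∈ (π ⁻¹ᵁ V0 : Set 𝒞) from hxV0)
        (π ⁻¹ᵁ V0).isOpen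
    exact TopologicalSpace.Opens.mem_iSup.mpr ⟨⟨⟨U0, hU0⟩, ⟨V0, hV0⟩, hle⟩, hxU0⟩
  · rintro ⟨U, V, e⟩
    exact ideal_le_of_fibre_le π D D' hfib U V e

end Groth.Agent.LibFibreLe29
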