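import Mathlib
import Groth.Prelude.Def_RegImm
import Groth.Agent.LibSemilocalGen29
import Groth.Agent.LibAwayPres29
import Groth.Agent.LibRelGCI29
import Groth.Agent.LibSyntTransport29
import Groth.Agent.Lib.Helper17.CIField7

/-!
# helper29: finite syntomic algebras over a local ring have square presentations
-/

set_option autoImplicit false
set_option linter.style.haveILetI false

namespace Groth.Agent.LibFiniteSynt29

open MvPolynomial Groth.Agent.LibSemilocalGen29 Groth.Agent.Lib.helper17.CIField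

universe u

section Field

variable (k : Type u) [Field k] (n : ℕ)

/-- For an lci quotient of `k[x_1..x_n]`, the ideal is locally generated by `n` elements at each
maximal ideal. -/
lemma exists_local_gens (Ibar : Ideal (MvPolynomial (Fin n) k))
    (hlci : Synt.IsLCIOver k (MvPolynomial (Fin n) k ⧸ Ibar))
    (Q : Ideal (MvPolynomial (Fin n) k)) [hQ : Q.IsMaximal] (hIQ : Ibar ≤ Q) :
    ∃ t : Fin n → Localization.AtPrime Q,
      Ideal.span (Set.range t) = Ibar.map (algebraMap _ (Localization.AtPrime Q)) := by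
  classical
  let φ : MvPolynomial (Fin n) k →ₐ[k] (MvPolynomial (Fin n) k ⧸ Ibar) := Ideal.Quotient.mkₐ k Ibar
  have hφ : Function.Surjective φ := Ideal.Quotient.mkₐ_surjective k Ibar
  have hker : RingHom.ker φ.toRingHom = Ibar := Ideal.mk_ker
  haveI : (Q.map (Ideal.Quotient.mk Ibar)).IsPrime :=
    Ideal.map_isPrime_of_surjective Ideal.Quotient.mk_surjective (by rw [Ideal.mk_ker]; exact hIQ)
  have h𝔮 : Q = (Q.map (Ideal.Quotient.mk Ibar)).comap φ.toRingHom := by
    change Q = (Q.map (Ideal.Quotient.mk Ibar)).comap (Ideal.Quotient.mk Ibar)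
    rw [Ideal.comap_map_of_surjective _ Ideal.Quotient.mk_surjective,
      ← RingHom.ker_eq_comap_bot, Ideal.mk_ker]
    exact (sup_eq_left.mpr hIQ).symm
  have hci := isCIOver_atPrime_of_isLCIOver k hlci (Q.map (Ideal.Quotient.mk Ibar))
  obtain ⟨rs, hreg, hrs⟩ :=
    (isCIOver_atPrime_iff k φ hφ (Q.map (Ideal.Quotient.mk Ibar)) Q h𝔮).mp hci
  rw [hker] at hrs
  -- the length bound
  have hlen : rs.length ≤ n := by
    have h1 := ringKrullDim_add_length_eq_ringKrullDim_of_isRegular rs hreg
    have h2 : ringKrullDim (Localization.AtPrime Q) ≤ (n : WithBot ℕ∞) := by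
      rw [IsLocalization.AtPrime.ringKrullDim_eq_height Q]
      refine (Ideal.height_le_ringKrullDim_of_isPrime).trans ?_
      rw [MvPolynomial.ringKrullDim_of_isNoetherianRing, ringKrullDim_eq_zero_of_field]
      simp
    have hnt : Nontrivial (Localization.AtPrime Q ⧸ Ideal.ofList rs) := by
      apply Ideal.Quotient.nontrivial_iff.mpr
      intro htop
      apply hreg.2
      rw [htop]; simp
    have h3 : (0 : WithBot ℕ∞) ≤ ringKrullDim (Localization.AtPrime Q ⧸ Ideal.ofList rs) :=
      ringKrullDim_nonneg_of_nontrivial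
    have h4 : (rs.length : WithBot ℕ∞) ≤ (n : WithBot ℕ∞) := by
      calc (rs.length : WithBot ℕ∞) = 0 + rs.length := by simp
        _ ≤ ringKrullDim (Localization.AtPrime Q ⧸ Ideal.ofList rs) + rs.length := by gcongr
        _ = ringKrullDim (Localization.AtPrime Q) := h1
        _ ≤ n := h2
    exact_mod_cast h4
  refine ⟨fun i => rs.getD i 0, ?_⟩
  rw [← hrs]
  apply le_antisymm
  · rw [Ideal.span_le]
    rintro _ ⟨i, rfl⟩
    change rs.getD (i : ℕ) 0 ∈ Ideal.ofList rs
    by_cases hi : (i : ℕ) < rs.length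
    · rw [List.getD_eq_getElem _ _ hi]
      exact Ideal.subset_span (List.getElem_mem hi)
    · rw [List.getD_eq_default _ _ (not_lt.mp hi)]
      exact Ideal.zero_mem _
  · rw [Ideal.ofList, Ideal.span_le]
    intro x hx
    obtain ⟨j, hj, rfl⟩ := List.getElem_of_mem hx
    apply Ideal.subset_span
    refine ⟨⟨j, lt_of_lt_of_le hj hlen⟩, ?_⟩
    change rs.getD j 0 = rs[j]
    rw [List.getD_eq_getElem _ _ hj]

end Field

section Main

open TensorProduct

variable {A : Type u} [CommRing A]

/-- the presentation coming from `r ≡ 1 mod I`, `r I ≤ (f) ≤ I`. -/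
lemma nonempty_equiv_of_mul_mem {n c : ℕ} (f : Fin c → MvPolynomial (Fin n) A)
    (I : Ideal (MvPolynomial (Fin n) A)) (hfI : Ideal.span (Set.range f) ≤ I)
    (r : MvPolynomial (Fin n) A) (hr1 : r - 1 ∈ I)
    (hr : ∀ b ∈ I, r * b ∈ Ideal.span (Set.range f)) :
    Nonempty ((MvPolynomial (Fin n) A ⧸ I) ≃ₐ[A]
      Synt.RelGCIRing A (n + 1) (c + 1) (LibAwayPres29.eqsPlus f r)) := by
  letI : Algebra (MvPolynomial (Fin n) A ⧸ Ideal.span (Set.range f)) (MvPolynomial (Fin n) A ⧸ I) :=
    (Ideal.Quotient.factor hfI).toAlgebra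
  haveI : IsScalarTower A (MvPolynomial (Fin n) A ⧸ Ideal.span (Set.range f))
      (MvPolynomial (Fin n) A ⧸ I) :=
    ⟨fun a x y => by
      obtain ⟨p, rfl⟩ := Ideal.Quotient.mk_surjective x
      obtain ⟨q, rfl⟩ := Ideal.Quotient.mk_surjective y
      change Ideal.Quotient.factor hfI (a • Ideal.Quotient.mk _ p) * Ideal.Quotient.mk I q =
        a • (Ideal.Quotient.factor hfI (Ideal.Quotient.mk _ p) * Ideal.Quotient.mk I q)
      have h1 : a • Ideal.Quotient.mk (Ideal.span (Set.range f)) p =
          Ideal.Quotient.mk (Ideal.span (Set.range f)) (a • p) := rfl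
      rw [h1, Ideal.Quotient.factor_mk, Ideal.Quotient.factor_mk, ← map_mul, ← map_mul,
        smul_mul_assoc]
      rfl⟩
  haveI := isLocalization_away_factor (Ideal.span (Set.range f)) I hfI r hr1 hr
  let e1 : (MvPolynomial (Fin n) A ⧸ I) ≃ₐ[MvPolynomial (Fin n) A ⧸ Ideal.span (Set.range f)]
      Localization.Away (Ideal.Quotient.mk (Ideal.span (Set.range f)) r) :=
    IsLocalization.algEquiv (Submonoid.powers (Ideal.Quotient.mk (Ideal.span (Set.range f)) r)) _ _
  exact ⟨(e1.restrictScalars A).trans (LibAwayPres29.awayEquiv f r)⟩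

theorem exists_square_presentation [IsLocalRing A] (n c : ℕ)
    (G : Fin c → MvPolynomial (Fin n) A) [Module.Finite A (Synt.RelGCIRing A n c G)]
    (h : Synt.IsSyntomic A (Synt.RelGCIRing A n c G)) :
    ∃ F : Fin (n + 1) → MvPolynomial (Fin (n + 1)) A,
      Nonempty (Synt.RelGCIRing A n c G ≃ₐ[A] Synt.RelGCIRing A (n + 1) (n + 1) F) := by
  classical
  set I : Ideal (MvPolynomial (Fin n) A) := Ideal.span (Set.range G) with hIdef
  have hI : I.FG := Submodule.fg_span (Set.finite_range G)
  set m := IsLocalRing.maximalIdeal A with hm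
  let κ := m.ResidueField
  haveI : Module.Flat A (MvPolynomial (Fin n) A ⧸ I) := h.1
  haveI : Module.Finite A (MvPolynomial (Fin n) A ⧸ I) := ‹_›
  let ι : MvPolynomial (Fin n) A →+* MvPolynomial (Fin n) κ := MvPolynomial.map (algebraMap A κ)
  have hκsurj : Function.Surjective (algebraMap A κ) := m.algebraMap_residueField_surjective
  have hιsurj : Function.Surjective ι := MvPolynomial.map_surjective _ hκsurj
  set Ibar : Ideal (MvPolynomial (Fin n) κ) :=
    Ideal.span (Set.range (LibRelGCI29.Fbar κ G)) with hIbardef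
  have hIbar : Ibar = I.map ι := by
    rw [hIbardef, hIdef, Ideal.map_span, ← Set.range_comp]; rfl
  have hIbarFG : Ibar.FG := Submodule.fg_span (Set.finite_range _)
  have hlci : Synt.IsLCIOver κ (MvPolynomial (Fin n) κ ⧸ Ibar) :=
    LibSyntTransport29.isLCIOver_of_algEquiv (LibRelGCI29.tensorEquiv κ G)
      (h.2.2 ⟨m, inferInstance⟩)
  haveI : Module.Finite κ (MvPolynomial (Fin n) κ ⧸ Ibar) :=
    Module.Finite.equiv (LibRelGCI29.tensorEquiv κ G).toLinearEquiv
  haveI : IsArtinianRing (MvPolynomial (Fin n) κ ⧸ Ibar) := IsArtinianRing.of_finite κ _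
  have hloc : ∀ Q : Ideal (MvPolynomial (Fin n) κ), Q.IsMaximal → Ibar ≤ Q →
      ∃ a : Fin n → MvPolynomial (Fin n) κ, (∀ i, a i ∈ Ibar) ∧
        Ibar ≤ Ideal.span (Set.range a) ⊔ Q * Ibar := by
    intro Q hQ hIQ
    obtain ⟨t, ht⟩ := exists_local_gens κ n Ibar hlci Q hIQ
    exact exists_gens_mod_maximal Ibar Q n t ht
  obtain ⟨fbar, hfbar, hle⟩ := exists_gens_mod_sq Ibar hIbarFG n hloc
  have hlift : ∀ i, ∃ x ∈ I, ι x = fbar i := fun i => by
    have := hfbar i
    rw [hIbar] at this
    exact (Ideal.mem_map_iff_of_surjective ι hιsurj).mp this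
  choose f hfI hf using hlift
  have hJI : Ideal.span (Set.range f) ≤ I := by
    rw [Ideal.span_le]; rintro _ ⟨i, rfl⟩; exact hfI i
  have hkerι : RingHom.ker ι = m.map (algebraMap A (MvPolynomial (Fin n) A)) := by
    rw [MvPolynomial.ker_map, Ideal.ker_algebraMap_residueField, MvPolynomial.algebraMap_eq]
  have key : I ≤ Ideal.span (Set.range f) ⊔ I * I ⊔
      m.map (algebraMap A (MvPolynomial (Fin n) A)) := by
    intro b hb
    have h1 : ι b ∈ Ibar := by rw [hIbar]; exact Ideal.mem_map_of_mem _ hb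
    have h2 : Ideal.span (Set.range fbar) ⊔ Ibar * Ibar =
        (Ideal.span (Set.range f) ⊔ I * I).map ι := by
      rw [Ideal.map_sup, Ideal.map_mul, ← hIbar, Ideal.map_span, ← Set.range_comp]
      have : fbar = ι ∘ f := funext fun i => (hf i).symm
      rw [this]
    have h3 := hle h1
    rw [h2] at h3
    obtain ⟨b', hb', hbb'⟩ := (Ideal.mem_map_iff_of_surjective ι hιsurj).mp h3
    have h4 : b - b' ∈ RingHom.ker ι := by
      rw [RingHom.mem_ker, map_sub, hbb', sub_self]
    rw [hkerι] at h4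
    have : b = b' + (b - b') := by ring
    rw [this]
    exact Submodule.add_mem_sup hb' h4
  have hsq := le_sup_sq_of_flat (A := A) I (Ideal.span (Set.range f)) hI hJI key
  obtain ⟨r, hr1, hr⟩ := exists_mul_mem I (Ideal.span (Set.range f)) hI hsq
  exact ⟨LibAwayPres29.eqsPlus f r, nonempty_equiv_of_mul_mem f I hJI r hr1 hr⟩

end Main

end Groth.Agent.LibFiniteSynt29
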