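import Groth.Agent.LibFlatQuots29
import Mathlib.RingTheory.Regular.Flat
import Mathlib.RingTheory.Flat.Equalizer
import Mathlib.RingTheory.Flat.Stability
import Mathlib.RingTheory.IsTensorProduct

/-!
# Base change of regular sequences with flat quotients along a pushout (helper29)

`R₀ → R` arbitrary, `B = R ⊗[R₀] B₀` (as `Algebra.IsPushout R₀ R B₀ B`).  If `ys` is weakly regular on
a `B₀`-module `N₀` and all `N₀/(y₁..yᵢ)N₀` are flat over `R₀`, then `ys` is weakly regular on
`B ⊗[B₀] N₀` and all quotients are flat over `R`.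
-/

set_option autoImplicit false

namespace Groth.Agent.LibFlatRegBC29

open TensorProduct RingTheory.Sequence Module Groth.Agent.LibFlatQuots29
open scoped Pointwise

universe u₀ u₁ u₂ u₃ v₀ v₁

variable {R₀ : Type u₀} {R : Type u₁} {B₀ : Type u₂} {B : Type u₃}
  [CommRing R₀] [CommRing R] [CommRing B₀] [CommRing B]
  [Algebra R₀ R] [Algebra R₀ B₀] [Algebra R B] [Algebra B₀ B] [Algebra R₀ B]
  [IsScalarTower R₀ R B] [IsScalarTower R₀ B₀ B] [Algebra.IsPushout R₀ R B₀ B]

section
variable {N₀ : Type v₀} {N : Type v₁} [AddCommGroup N₀] [Module B₀ N₀] [Module R₀ N₀]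
  [IsScalarTower R₀ B₀ N₀] [AddCommGroup N] [Module B N] [Module B₀ N] [IsScalarTower B₀ B N]
  [Module R N] [IsScalarTower R B N]

/-- the comparison `R ⊗[R₀] N₀ ≃ₗ[R] N` for a base change `N₀ → N` along `B₀ → B`. -/
noncomputable def compEquiv {f : N₀ →ₗ[B₀] N} (hf : IsBaseChange B f) : R ⊗[R₀] N₀ ≃ₗ[R] N :=
  (Algebra.IsPushout.cancelBaseChange R₀ R B₀ B N₀).symm ≪≫ₗ hf.equiv.restrictScalars R

lemma compEquiv_tmul {f : N₀ →ₗ[B₀] N} (hf : IsBaseChange B f) (r : R) (m : N₀) :
    compEquiv (R₀ := R₀) (R := R) hf (r ⊗ₜ m) = algebraMap R B r • f m := by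
  simp [compEquiv, IsBaseChange.equiv_tmul]

theorem flat_of_isBaseChange {f : N₀ →ₗ[B₀] N} (hf : IsBaseChange B f) [Module.Flat R₀ N₀] :
    Module.Flat R N :=
  Module.Flat.of_linearEquiv (compEquiv (R₀ := R₀) (R := R) hf).symm

include R in
theorem isSMulRegular_of_isBaseChange {f : N₀ →ₗ[B₀] N} (hf : IsBaseChange B f) (y : B₀)
    (hy : IsSMulRegular N₀ y) [Module.Flat R₀ (QuotSMulTop y N₀)] :
    IsSMulRegular N (algebraMap B₀ B y) := by
  let g : N₀ →ₗ[R₀] N₀ := (LinearMap.lsmul B₀ N₀ y).restrictScalars R₀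
  let π : N₀ →ₗ[R₀] QuotSMulTop y N₀ :=
    (Submodule.mkQ (y • (⊤ : Submodule B₀ N₀))).restrictScalars R₀
  have hπ : Function.Surjective π := Submodule.mkQ_surjective _
  have hg : Function.Injective g := hy
  have hex : Function.Exact g π := by
    intro x
    constructor
    · intro hx
      have hx' : x ∈ y • (⊤ : Submodule B₀ N₀) := (Submodule.Quotient.mk_eq_zero _).mp hx
      obtain ⟨z, -, rfl⟩ := (Submodule.mem_smul_pointwise_iff_exists _ _ _).mp hx'
      exact ⟨z, rfl⟩
    · rintro ⟨z, rfl⟩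
      exact (Submodule.Quotient.mk_eq_zero _).mpr
        (Submodule.smul_mem_pointwise_smul z y ⊤ trivial)
  have hinj : Function.Injective (g.lTensor R) :=
    LinearMap.lTensor_injective_of_exact_of_flat π hπ g hg hex R
  have hcomm : ∀ z : R ⊗[R₀] N₀, compEquiv (R₀ := R₀) (R := R) hf (g.lTensor R z) =
      algebraMap B₀ B y • compEquiv (R₀ := R₀) (R := R) hf z := by
    intro z
    induction z using TensorProduct.induction_on with
    | zero => simp
    | tmul r m =>
      simp only [LinearMap.lTensor_tmul, compEquiv_tmul, g, LinearMap.coe_restrictScalars,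
        LinearMap.lsmul_apply, map_smul]
      rw [← algebraMap_smul B y (f m), smul_comm]
    | add a b ha hb => simp only [map_add, ha, hb, smul_add]
  intro a b hab
  obtain ⟨a, rfl⟩ := (compEquiv (R₀ := R₀) (R := R) hf).surjective a
  obtain ⟨b, rfl⟩ := (compEquiv (R₀ := R₀) (R := R) hf).surjective b
  congr 1
  apply hinj
  apply (compEquiv (R₀ := R₀) (R := R) hf).injective
  rw [hcomm, hcomm]
  exact hab

end

/-- the main induction -/
theorem isWeaklyRegular_and_flatQuots_of_isBaseChange :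
    ∀ (ys : List B₀) {N₀ : Type v₀} {N : Type v₁} [AddCommGroup N₀] [Module B₀ N₀] [Module R₀ N₀]
      [IsScalarTower R₀ B₀ N₀] [AddCommGroup N] [Module B N] [Module B₀ N] [IsScalarTower B₀ B N]
      [Module R N] [IsScalarTower R B N] {f : N₀ →ₗ[B₀] N} (_ : IsBaseChange B f),
      IsWeaklyRegular N₀ ys → FlatQuots R₀ ys N₀ →
      IsWeaklyRegular N (ys.map (algebraMap B₀ B)) ∧
        FlatQuots R (ys.map (algebraMap B₀ B)) N := by
  intro ys
  induction ys with
  | nil =>
    intro N₀ N _ _ _ _ _ _ _ _ _ _ f hf _ hfl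
    have := flatQuots_nil_iff.mp hfl
    exact ⟨by simp, by
      rw [List.map_nil, flatQuots_nil_iff]
      exact flat_of_isBaseChange (R₀ := R₀) hf⟩
  | cons y ys ih =>
    intro N₀ N _ _ _ _ _ _ _ _ _ _ f hf hreg hfl
    rw [isWeaklyRegular_cons_iff] at hreg
    rw [flatQuots_cons_iff] at hfl
    obtain ⟨hy, hys⟩ := hreg
    obtain ⟨hfl0, hfl1⟩ := hfl
    have hflq : Module.Flat R₀ (QuotSMulTop y N₀) := flatQuots_zero hfl1
    have e := (QuotSMulTop.algebraMapTensorEquivTensorQuotSMulTop y N₀ B).symm ≪≫ₗ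
      QuotSMulTop.congr ((algebraMap B₀ B) y) hf.equiv
    have hg : IsBaseChange B <|
        e.toLinearMap.restrictScalars B₀ ∘ₗ TensorProduct.mk B₀ B (QuotSMulTop y N₀) 1 :=
      IsBaseChange.of_equiv e (fun _ ↦ by simp)
    obtain ⟨h1, h2⟩ := ih hg hys hfl1
    rw [List.map_cons, isWeaklyRegular_cons_iff, flatQuots_cons_iff]
    exact ⟨⟨isSMulRegular_of_isBaseChange (R₀ := R₀) (R := R) hf y hy, h1⟩,
      flat_of_isBaseChange (R₀ := R₀) hf, h2⟩

end Groth.Agent.LibFlatRegBC29
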