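import Mathlib
import Groth.Prelude.Def_RegImm
import Groth.Agent.LibRelGCI29

/-!
# `κ[y₁..yₘ]/(yᵢ^p - tᵢ)` is finite and nonzero; `P[y]/(yᵢ^p - Tᵢ)` is a relative global complete
intersection (helper29)
-/

set_option autoImplicit false
universe u

namespace Groth.Agent.LibFrobPoly29

open MvPolynomial Groth.Agent.LibRelGCI29

section field

variable (κ : Type u) [Field κ] (m p : ℕ) (t : Fin m → κ)

/-- the equations `yᵢ^p - tᵢ`. -/
noncomputable def eqs : Fin m → MvPolynomial (Fin m) κ := fun i => X i ^ p - C (t i)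

theorem finite_quot (hp : 0 < p) :
    Module.Finite κ (MvPolynomial (Fin m) κ ⧸ Ideal.span (Set.range (eqs κ m p t))) := by
  set B := MvPolynomial (Fin m) κ ⧸ Ideal.span (Set.range (eqs κ m p t)) with hB
  let π : MvPolynomial (Fin m) κ →ₐ[κ] B := Ideal.Quotient.mkₐ κ _
  have hπ : Function.Surjective π := Ideal.Quotient.mkₐ_surjective κ _
  have hadj : Algebra.adjoin κ (Set.range fun i : Fin m => π (X i)) = ⊤ := by
    have h1 : Set.range (fun i : Fin m => π (X i)) = π '' Set.range (X : Fin m → _) := by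
      rw [← Set.range_comp]
      rfl
    rw [h1, ← AlgHom.map_adjoin, MvPolynomial.adjoin_range_X, Algebra.map_top,
      (AlgHom.range_eq_top π).mpr hπ]
  have hint : ∀ x ∈ Set.range (fun i : Fin m => π (X i)), IsIntegral κ x := by
    rintro _ ⟨i, rfl⟩
    refine ⟨Polynomial.X ^ p - Polynomial.C (t i), Polynomial.monic_X_pow_sub_C _ hp.ne', ?_⟩
    rw [Polynomial.eval₂_sub, Polynomial.eval₂_pow, Polynomial.eval₂_X, Polynomial.eval₂_C]
    have h0 : π (X i ^ p - C (t i)) = 0 :=
      Ideal.Quotient.eq_zero_iff_mem.mpr (Ideal.subset_span ⟨i, rfl⟩)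
    rw [map_sub, map_pow] at h0
    rw [← h0]
    congr 1
  have hfg := fg_adjoin_of_finite (Set.finite_range _) hint
  rw [hadj, Algebra.top_toSubmodule] at hfg
  exact Module.finite_def.mpr hfg

theorem nontrivial_quot (hp : 0 < p) :
    Nontrivial (MvPolynomial (Fin m) κ ⧸ Ideal.span (Set.range (eqs κ m p t))) := by
  rw [Ideal.Quotient.nontrivial_iff]
  intro htop
  have hz : ∀ i, ∃ z : AlgebraicClosure κ, z ^ p = algebraMap κ (AlgebraicClosure κ) (t i) :=
    fun i => IsAlgClosed.exists_pow_nat_eq _ hp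
  choose z hz using hz
  let ψ : MvPolynomial (Fin m) κ →ₐ[κ] AlgebraicClosure κ := aeval z
  have hle : Ideal.span (Set.range (eqs κ m p t)) ≤ RingHom.ker ψ.toRingHom := by
    rw [Ideal.span_le]
    rintro _ ⟨i, rfl⟩
    change ψ (eqs κ m p t i) = 0
    simp only [eqs, map_sub, map_pow, ψ, aeval_X, aeval_C, hz, sub_self]
  rw [htop, top_le_iff] at hle
  exact (RingHom.ker_ne_top ψ.toRingHom) hle

theorem dim_quot (hp : 0 < p) :
    ringKrullDim (MvPolynomial (Fin m) κ ⧸ Ideal.span (Set.range (eqs κ m p t))) = 0 := by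
  have := finite_quot κ m p t hp
  have := nontrivial_quot κ m p t hp
  have : IsArtinianRing (MvPolynomial (Fin m) κ ⧸ Ideal.span (Set.range (eqs κ m p t))) :=
    IsArtinianRing.of_finite κ _
  exact ringKrullDimZero_iff_ringKrullDim_eq_zero.mp inferInstance

end field

section rel

variable (A : Type u) [CommRing A] (m p : ℕ)

/-- the equations `yᵢ^p - Tᵢ` over `P = A[T]`. -/
noncomputable def relEqs : Fin m → MvPolynomial (Fin m) (MvPolynomial (Fin m) A) :=
  fun i => X i ^ p - C (X i)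

lemma fbar_relEqs (κ : Type u) [Field κ] [Algebra (MvPolynomial (Fin m) A) κ] :
    Fbar κ (relEqs A m p) = eqs κ m p (fun i => algebraMap (MvPolynomial (Fin m) A) κ (X i)) := by
  funext i
  simp [Fbar, relEqs, eqs]

theorem isRelGCI_relEqs (hp : 0 < p) :
    Synt.IsRelGCI (MvPolynomial (Fin m) A) m m (relEqs A m p) := by
  intro 𝔭 _
  refine ⟨le_rfl, ?_⟩
  rw [ringKrullDim_eq_of_ringEquiv (tensorEquiv 𝔭.asIdeal.ResidueField (relEqs A m p)).toRingEquiv,
    fbar_relEqs, dim_quot _ _ _ _ hp, Nat.sub_self]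
  rfl

theorem nontrivial_fiber_relEqs (hp : 0 < p) (𝔭 : PrimeSpectrum (MvPolynomial (Fin m) A)) :
    Nontrivial (𝔭.asIdeal.Fiber (Synt.RelGCIRing (MvPolynomial (Fin m) A) m m (relEqs A m p))) := by
  have h := nontrivial_quot 𝔭.asIdeal.ResidueField m p
    (fun i => algebraMap (MvPolynomial (Fin m) A) 𝔭.asIdeal.ResidueField (X i)) hp
  rw [← fbar_relEqs] at h
  exact (tensorEquiv 𝔭.asIdeal.ResidueField (relEqs A m p)).toEquiv.nontrivial

end rel

end Groth.Agent.LibFrobPoly29
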