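import Mathlib
import Groth.Prelude.Def_RegImm
import Groth.Agent.LibFrobPoly29
import Groth.Agent.LibSyntTransport29
import Groth.Agent.S9147

/-!
# Adjoining `p`-th roots of the variables is syntomic and faithfully flat (helper29)
-/

set_option autoImplicit false
universe u

namespace Groth.Agent.LibFrobPoly29

open MvPolynomial Groth.Agent.LibRelGCI29

variable (A : Type u) [CommRing A] (m p : ℕ)

/-- `P[y]/(yᵢ^p - Tᵢ)` is syntomic and faithfully flat over `P = A[T]`. -/
theorem syntomic_faithfullyFlat_relEqs (hp : 0 < p) :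
    Synt.IsSyntomic (MvPolynomial (Fin m) A)
        (Synt.RelGCIRing (MvPolynomial (Fin m) A) m m (relEqs A m p)) ∧
      Module.FaithfullyFlat (MvPolynomial (Fin m) A)
        (Synt.RelGCIRing (MvPolynomial (Fin m) A) m m (relEqs A m p)) := by
  have h1 := Groth.Agent.S9147.result _ m m (relEqs A m p) (isRelGCI_relEqs A m p hp)
  refine ⟨h1, ?_⟩
  have := h1.1
  apply Module.FaithfullyFlat.of_comap_surjective
  intro 𝔭
  exact (PrimeSpectrum.nontrivial_iff_mem_rangeComap 𝔭).mp (nontrivial_fiber_relEqs A m p hp 𝔭)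

section equiv

variable {A m p}
variable {B : Type u} [CommRing B] [Algebra (MvPolynomial (Fin m) A) B] (b : Fin m → B)
  (hb : ∀ i, algebraMap (MvPolynomial (Fin m) A) B (X i) = b i ^ p)
  (θ : MvPolynomial (Fin m) A ≃+* B)
  (hθC : ∀ a, θ (C a) = algebraMap (MvPolynomial (Fin m) A) B (C a))
  (hθX : ∀ i, θ (X i) = b i)

/-- the map `P[y]/(yᵢ^p - Tᵢ) → B`, `yᵢ ↦ bᵢ`. -/
noncomputable def fwd (hb : ∀ i, algebraMap (MvPolynomial (Fin m) A) B (X i) = b i ^ p) :
    Synt.RelGCIRing (MvPolynomial (Fin m) A) m m (relEqs A m p) →ₐ[MvPolynomial (Fin m) A] B :=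
  Ideal.Quotient.liftₐ _ (aeval b) (by
    intro x hx
    have hle : Ideal.span (Set.range (relEqs A m p)) ≤
        RingHom.ker (aeval b : MvPolynomial (Fin m) (MvPolynomial (Fin m) A) →ₐ[_] B).toRingHom := by
      rw [Ideal.span_le]
      rintro _ ⟨i, rfl⟩
      change aeval b (relEqs A m p i) = 0
      simp only [relEqs, map_sub, map_pow, aeval_X, aeval_C, hb, sub_self]
    exact hle hx)

lemma fwd_mk (x : MvPolynomial (Fin m) (MvPolynomial (Fin m) A)) :
    fwd b hb (Ideal.Quotient.mk _ x) = aeval b x := rfl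

/-- the map `P → P[y]/(yᵢ^p - Tᵢ)`, `Tᵢ ↦ yᵢ` (over `A`). -/
noncomputable def iota : MvPolynomial (Fin m) A →+*
    Synt.RelGCIRing (MvPolynomial (Fin m) A) m m (relEqs A m p) :=
  eval₂Hom ((algebraMap (MvPolynomial (Fin m) A) _).comp C)
    (fun i => Ideal.Quotient.mk _ (X i))

include hθC hθX in
lemma fwd_iota (x : MvPolynomial (Fin m) A) : fwd b hb (iota x) = θ x := by
  have : ((fwd b hb).toRingHom.comp (iota (A := A) (m := m) (p := p))) = θ.toRingHom := by
    apply MvPolynomial.ringHom_ext
    · intro a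
      simp only [RingHom.coe_comp, Function.comp_apply, iota, eval₂Hom_C, AlgHom.toRingHom_eq_coe,
        RingHom.coe_coe, AlgHom.commutes, RingEquiv.toRingHom_eq_coe, hθC]
    · intro i
      simp only [RingHom.coe_comp, Function.comp_apply, iota, eval₂Hom_X', AlgHom.toRingHom_eq_coe,
        RingHom.coe_coe, RingEquiv.toRingHom_eq_coe, hθX]
      rw [fwd_mk, aeval_X]
  exact congrArg (fun f => f x) this

include hθC hθX in
lemma iota_fwd (y : Synt.RelGCIRing (MvPolynomial (Fin m) A) m m (relEqs A m p)) :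
    iota (θ.symm (fwd b hb y)) = y := by
  have : ((iota (A := A) (m := m) (p := p)).comp (θ.symm.toRingHom.comp (fwd b hb).toRingHom)).comp
      (Ideal.Quotient.mk (Ideal.span (Set.range (relEqs A m p)))) =
      Ideal.Quotient.mk (Ideal.span (Set.range (relEqs A m p))) := by
    apply MvPolynomial.ringHom_ext
    · intro f
      -- both sides are ring homs in `f : P`
      have h2 : (((iota (A := A) (m := m) (p := p)).comp
          (θ.symm.toRingHom.comp (fwd b hb).toRingHom)).comp
          (Ideal.Quotient.mk (Ideal.span (Set.range (relEqs A m p))))).comp C =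
          (Ideal.Quotient.mk (Ideal.span (Set.range (relEqs A m p)))).comp C := by
        apply MvPolynomial.ringHom_ext
        · intro a
          simp only [RingHom.coe_comp, Function.comp_apply, AlgHom.toRingHom_eq_coe,
            RingHom.coe_coe, RingEquiv.toRingHom_eq_coe]
          rw [fwd_mk, aeval_C, ← hθC, RingEquiv.symm_apply_apply]
          simp only [iota, eval₂Hom_C, RingHom.coe_comp, Function.comp_apply]
          rfl
        · intro i
          simp only [RingHom.coe_comp, Function.comp_apply, AlgHom.toRingHom_eq_coe,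
            RingHom.coe_coe, RingEquiv.toRingHom_eq_coe]
          rw [fwd_mk, aeval_C, hb, ← hθX, ← map_pow, RingEquiv.symm_apply_apply, map_pow]
          simp only [iota, eval₂Hom_X']
          rw [← map_pow, eq_comm, ← sub_eq_zero, ← map_sub, Ideal.Quotient.eq_zero_iff_mem]
          rw [← Ideal.neg_mem_iff, neg_sub]
          exact Ideal.subset_span ⟨i, rfl⟩
      exact congrArg (fun g => g f) h2
    · intro i
      simp only [RingHom.coe_comp, Function.comp_apply, AlgHom.toRingHom_eq_coe,
        RingHom.coe_coe, RingEquiv.toRingHom_eq_coe]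
      rw [fwd_mk, aeval_X, ← hθX, RingEquiv.symm_apply_apply]
      simp [iota]
  obtain ⟨x, rfl⟩ := Ideal.Quotient.mk_surjective y
  exact congrArg (fun g => g x) this

include hθC hθX in
theorem fwd_bijective : Function.Bijective (fwd b hb) := by
  constructor
  · intro y₁ y₂ h
    rw [← iota_fwd b hb θ hθC hθX y₁, ← iota_fwd b hb θ hθC hθX y₂, h]
  · intro z
    refine ⟨iota (θ.symm z), ?_⟩
    rw [fwd_iota b hb θ hθC hθX, RingEquiv.apply_symm_apply]

include hb hθC hθX in
/-- **Main theorem**: a `P`-algebra `B` obtained by adjoining `p`-th roots `bᵢ` of the variables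
(such that `B = A[b]` is again a polynomial ring) is syntomic and faithfully flat over `P`. -/
theorem syntomic_faithfullyFlat (hp : 0 < p) :
    Synt.IsSyntomic (MvPolynomial (Fin m) A) B ∧ Module.FaithfullyFlat (MvPolynomial (Fin m) A) B := by
  let e : Synt.RelGCIRing (MvPolynomial (Fin m) A) m m (relEqs A m p) ≃ₐ[MvPolynomial (Fin m) A] B :=
    AlgEquiv.ofBijective (fwd b hb) (fwd_bijective b hb θ hθC hθX)
  obtain ⟨h1, h2⟩ := syntomic_faithfullyFlat_relEqs A m p hp
  exact ⟨Groth.Agent.LibSyntTransport29.isSyntomic_of_algEquiv e h1,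
    Module.FaithfullyFlat.of_linearEquiv _ _ e.symm.toLinearEquiv⟩

end equiv

end Groth.Agent.LibFrobPoly29
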