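import Groth.Agent.S7623

/-!
# Smoothness over a perfect field from projective differentials and generic reducedness (helper29)
-/

set_option autoImplicit false

namespace Groth.Agent.LibGenRed29

open TensorProduct

universe u

theorem regular_at_maximal (k A : Type u) [Field k] [PerfectField k] [CommRing A] [Algebra k A]
    [Algebra.FiniteType k A] [Module.Projective A Ω[A⁄k]]
    (hgen : ∀ (q : Ideal A) [q.IsPrime], q ∈ minimalPrimes A → IsField (Localization.AtPrime q))
    (m : Ideal A) [m.IsMaximal] : IsRegularLocalRing (Localization.AtPrime m) := by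
  have hN : IsNoetherianRing A := Algebra.FiniteType.isNoetherianRing k A
  have := Groth.Agent.S7623.formallyEtale_residueField k A m
  obtain ⟨r, hr⟩ : ∃ r, Module.finrank m.ResidueField (m.ResidueField ⊗[A] Ω[A⁄k]) = r := ⟨_, rfl⟩
  have h1 : Module.finrank (IsLocalRing.ResidueField (Localization.AtPrime m))
      (IsLocalRing.CotangentSpace (Localization.AtPrime m)) = r := by
    rw [Groth.Agent.LibCotSep29.finrank_cot_eq k (Localization.AtPrime m),
      Groth.Agent.S10909.finrank_fibre_eq, hr]
  -- a minimal prime below `m`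
  obtain ⟨q, hqmin, hqm⟩ := Ideal.exists_minimalPrimes_le (bot_le : (⊥ : Ideal A) ≤ m)
  have hqp : q.IsPrime := hqmin.1.1
  have h2 : Module.finrank q.ResidueField (q.ResidueField ⊗[A] Ω[A⁄k]) = r := by
    rw [← hr]
    exact (Ideal.finrank_fiber_eq_rankAtStalk (M := Ω[A⁄k]) q).trans
      ((Module.rankAtStalk_eq_of_le_of_finite_of_flat' Ω[A⁄k] hqm).trans
        (Ideal.finrank_fiber_eq_rankAtStalk (M := Ω[A⁄k]) m).symm)
  have hfield : IsField (Localization.AtPrime q) := hgen q hqmin
  have : Algebra.FormallyEtale A q.ResidueField := by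
    have : Algebra.FormallyEtale A (Localization.AtPrime q) := .of_isLocalization q.primeCompl
    have : Algebra.FormallyEtale (Localization.AtPrime q) q.ResidueField := by
      have hbij : Function.Bijective (algebraMap (Localization.AtPrime q) q.ResidueField) := by
        refine ⟨?_, IsLocalRing.residue_surjective⟩
        let := hfield.toField
        exact (algebraMap (Localization.AtPrime q) q.ResidueField).injective
      exact Algebra.FormallyEtale.of_equiv (AlgEquiv.ofBijective (Algebra.ofId _ _) hbij)
    exact Algebra.FormallyEtale.comp A (Localization.AtPrime q) q.ResidueField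
  have h3 : Module.finrank q.ResidueField Ω[q.ResidueField⁄k] = r := by
    rw [← h2]
    exact (KaehlerDifferential.tensorKaehlerEquivOfFormallyEtale k A q.ResidueField).symm.finrank_eq
  have : Algebra.EssFiniteType k q.ResidueField := by
    have : Algebra.EssFiniteType A (Localization.AtPrime q) :=
      Algebra.EssFiniteType.of_isLocalization _ q.primeCompl
    have : Algebra.EssFiniteType k (Localization.AtPrime q) :=
      Algebra.EssFiniteType.comp k A (Localization.AtPrime q)
    have : Algebra.FiniteType (Localization.AtPrime q) q.ResidueField :=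
      Algebra.FiniteType.of_surjective (Algebra.ofId (Localization.AtPrime q) q.ResidueField)
        IsLocalRing.residue_surjective
    exact Algebra.EssFiniteType.comp k (Localization.AtPrime q) q.ResidueField
  have h4 : (r : Cardinal.{u}) = Algebra.trdeg k q.ResidueField := by
    rw [← h3]; exact Groth.Agent.S7623.finrank_kaehler_eq_trdeg k _
  have : IsDomain (A ⧸ q) := Ideal.Quotient.isDomain q
  obtain ⟨n', htr, hdim, hloc⟩ := Groth.Agent.S2680.result k (A ⧸ q)
  have h5 : Algebra.trdeg k (FractionRing (A ⧸ q)) = Algebra.trdeg k q.ResidueField :=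
    AlgEquiv.trdeg_eq ((FractionRing.algEquiv (A ⧸ q) q.ResidueField).restrictScalars k)
  have h6 : n' = r := by
    rw [h5, ← h4] at htr
    exact_mod_cast htr.symm
  -- heights
  have hcm : (m.map (Ideal.Quotient.mk q)).comap (Ideal.Quotient.mk q) = m := by
    rw [Ideal.comap_map_of_surjective _ Ideal.Quotient.mk_surjective, ← RingHom.ker_eq_comap_bot,
      Ideal.mk_ker, sup_eq_left]
    exact hqm
  have hmax : (m.map (Ideal.Quotient.mk q)).IsMaximal := by
    rcases Ideal.map_eq_top_or_isMaximal_of_surjective (Ideal.Quotient.mk q)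
      Ideal.Quotient.mk_surjective (inferInstance : m.IsMaximal) with h | h
    · exfalso
      rw [h, Ideal.comap_top] at hcm
      exact (inferInstance : m.IsMaximal).ne_top hcm.symm
    · exact h
  have h7 := hloc (m.map (Ideal.Quotient.mk q))
  rw [IsLocalization.AtPrime.ringKrullDim_eq_height (m.map (Ideal.Quotient.mk q))] at h7
  have h8 : (m.map (Ideal.Quotient.mk q)).height ≤ m.height := by
    have := Order.height_le_height_apply_of_strictMono _
      (RingHom.strictMono_comap_of_surjective (f := Ideal.Quotient.mk q)
        Ideal.Quotient.mk_surjective) ⟨m.map (Ideal.Quotient.mk q), hmax.isPrime⟩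
    rw [← PrimeSpectrum.height_eq_orderHeight, ← PrimeSpectrum.height_eq_orderHeight] at this
    simpa only [PrimeSpectrum.comap_asIdeal, hcm] using this
  refine IsRegularLocalRing.of_spanFinrank_maximalIdeal_le _ ?_
  rw [IsLocalRing.spanFinrank_maximalIdeal_eq_finrank_cotangentSpace, h1,
    IsLocalization.AtPrime.ringKrullDim_eq_height m, ← h6]
  have h9 : ((n' : ℕ∞) : WithBot ℕ∞) = ((m.map (Ideal.Quotient.mk q)).height : WithBot ℕ∞) := by
    exact_mod_cast h7.symm
  calc ((n' : ℕ) : WithBot ℕ∞) = ((n' : ℕ∞) : WithBot ℕ∞) := rfl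
    _ = ((m.map (Ideal.Quotient.mk q)).height : WithBot ℕ∞) := h9
    _ ≤ (m.height : WithBot ℕ∞) := by exact_mod_cast h8



theorem smooth_of_generic (k A : Type u) [Field k] [PerfectField k] [CommRing A] [Algebra k A]
    [Algebra.FiniteType k A] [Module.Projective A Ω[A⁄k]]
    (hgen : ∀ (q : Ideal A) [q.IsPrime], q ∈ minimalPrimes A → IsField (Localization.AtPrime q)) :
    Algebra.Smooth k A := by
  have hfp : Algebra.FinitePresentation k A :=
    Algebra.FinitePresentation.of_finiteType.mp inferInstance
  have h1 : Algebra.smoothLocus k A = Set.univ := by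
    by_contra hne
    obtain ⟨p, hp⟩ := (Set.ne_univ_iff_exists_notMem _).mp hne
    obtain ⟨m, hm, hle⟩ := Ideal.exists_le_maximal p.asIdeal p.isPrime.ne_top
    have hgr : Algebra.IsGeometricallyReduced k m.ResidueField :=
      Groth.Agent.Lib.helper3.GeomRed.isGeometricallyReduced_of_perfectField k _
    have hmem : (⟨m, hm.isPrime⟩ : PrimeSpectrum A) ∈ Algebra.smoothLocus k A :=
      (Groth.Agent.S9442.result k A m).mpr (regular_at_maximal k A hgen m)
    have hspec : p ⤳ ⟨m, hm.isPrime⟩ := (PrimeSpectrum.le_iff_specializes _ _).mp hle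
    exact hp (hspec.mem_open Algebra.isOpen_smoothLocus hmem)
  have hfs : Algebra.FormallySmooth k A := Algebra.smoothLocus_eq_univ_iff.mp h1
  exact ⟨hfs, hfp⟩

end Groth.Agent.LibGenRed29
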