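import Mathlib
import Groth.Prelude
import Groth.Agent.S7623

/-!
# Generic smoothness on the source: the relative dimension is the transcendence degree
(helper29; algebra part of S14417)

`rank_kaehler_eq_trdeg`: `A → B` standard smooth, `B` a domain with fraction field `L`, `K` a field
of characteristic zero which is a formally unramified `A`-algebra (e.g. a localization of `A`) with
`A → K → L` compatible with `A → B → L`, and `L/K` essentially of finite type.  Then
`rank_B Ω[B⁄A] = trdeg_K L`.
-/

set_option autoImplicit false
set_option linter.style.haveILetI false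
universe u

open TensorProduct

namespace Groth.Agent.LibGenSmoothSrc29

/-- `Ω[L⁄A] ≃ Ω[L⁄K]` when `K` is formally unramified over `A` -/
theorem kaehler_map_injective_of_formallyUnramified (A K L : Type u) [CommRing A] [CommRing K]
    [CommRing L] [Algebra A K] [Algebra K L] [Algebra A L] [IsScalarTower A K L]
    [Algebra.FormallyUnramified A K] :
    Function.Injective (KaehlerDifferential.map A K L L) := by
  have hex := KaehlerDifferential.exact_mapBaseChange_map A K L
  rw [← LinearMap.ker_eq_bot, hex.linearMap_ker_eq, LinearMap.range_eq_bot]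
  haveI : Subsingleton Ω[K⁄A] := inferInstance
  haveI : Subsingleton (L ⊗[K] Ω[K⁄A]) := inferInstance
  exact Subsingleton.elim _ _

theorem rank_kaehler_eq_trdeg (A B K L : Type u) [CommRing A] [CommRing B] [Field K] [Field L]
    [Algebra A B] [Algebra A K] [Algebra B L] [Algebra K L] [Algebra A L]
    [IsScalarTower A B L] [IsScalarTower A K L] [IsDomain B] [IsFractionRing B L]
    [Algebra.FormallyUnramified A K] [CharZero K] [Algebra.EssFiniteType K L]
    [Algebra.IsStandardSmooth A B] :
    Module.rank B Ω[B⁄A] = Algebra.trdeg K L := by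
  haveI : Algebra.FormallyEtale B L := Algebra.FormallyEtale.of_isLocalization (nonZeroDivisors B)
  haveI : Module.Free B Ω[B⁄A] := inferInstance
  haveI : Module.Finite B Ω[B⁄A] := inferInstance
  have e1 := KaehlerDifferential.tensorKaehlerEquivOfFormallyEtale A B L
  have h1 : Module.finrank L (L ⊗[B] Ω[B⁄A]) = Module.finrank B Ω[B⁄A] :=
    Module.finrank_baseChange
  have h2 : Module.finrank L (L ⊗[B] Ω[B⁄A]) = Module.finrank L Ω[L⁄A] := e1.finrank_eq
  have hinj := kaehler_map_injective_of_formallyUnramified A K L
  have hsurj := KaehlerDifferential.map_surjective A K L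
  let e2 : Ω[L⁄A] ≃ₗ[L] Ω[L⁄K] := LinearEquiv.ofBijective _ ⟨hinj, hsurj⟩
  have h3 : Module.finrank L Ω[L⁄A] = Module.finrank L Ω[L⁄K] := e2.finrank_eq
  have h4 := Groth.Agent.S7623.finrank_kaehler_eq_trdeg K L
  rw [← h4, ← h3, ← h2, h1, Module.finrank_eq_rank]

end Groth.Agent.LibGenSmoothSrc29
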