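import Mathlib
import Groth.Prelude
import Groth.Agent.LibGenSmoothSrc29a

/-!
# Generic smoothness on the source with the relative dimension (helper29; S14417)

`exists_open_smoothOfRelativeDimension`: `π : X ⟶ Y` locally of finite type between integral
schemes, `Y` Noetherian, generic point to generic point, `K(Y)` of characteristic zero,
`n = trdeg K(X)/K(Y)`: there is a nonempty (affine) open `U ⊆ X` with `U ⟶ Y` smooth of relative
dimension `n`.
-/

set_option autoImplicit false
set_option linter.style.haveILetI false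
universe u

open CategoryTheory AlgebraicGeometry TensorProduct

namespace Groth.Agent.LibGenSmoothSrc29

set_option backward.isDefEq.respectTransparency false in
/-- **Generic smoothness on the source** with the relative dimension. -/
theorem exists_open_smoothOfRelativeDimension
    (X Y : Scheme.{u}) [IsIntegral X] [IsIntegral Y] [IsNoetherian Y]
    (π : X ⟶ Y) [LocallyOfFiniteType π]
    (hdom : π.base (genericPoint X) = genericPoint Y) [CharZero Y.functionField]
    (n : ℕ) (hn : @Algebra.trdeg (Y.presheaf.stalk (π.base (genericPoint X))) X.functionField _ _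
      (π.stalkMap (genericPoint X)).hom.toAlgebra = n) :
    ∃ U : X.Opens, (U : Set X).Nonempty ∧ SmoothOfRelativeDimension n (U.ι ≫ π) := by
  haveI : LocallyOfFinitePresentation π := by
    rw [HasRingHomProperty.iff_appLE (P := @LocallyOfFinitePresentation)]
    intro V U e
    haveI : IsNoetherianRing Γ(Y, V.1) := IsLocallyNoetherian.component_noetherian V
    exact RingHom.FinitePresentation.of_finiteType.mp
      (LocallyOfFiniteType.finiteType_appLE π V.2 U.2 e)
  -- the field structure on the stalk of `Y`
  have hess := LocallyOfFiniteType.stalkMap π (genericPoint X)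
  let eK := (Y.presheaf.stalkCongr (.of_eq hdom)).commRingCatIsoToRingEquiv
  have hS : IsField (Y.presheaf.stalk (π (genericPoint X))) :=
    eK.toMulEquiv.isField (Field.toIsField Y.functionField)
  letI fK : Field (Y.presheaf.stalk (π (genericPoint X))) := hS.toField
  haveI : CharZero (Y.presheaf.stalk (π (genericPoint X))) :=
    charZero_of_injective_ringHom (f := eK.symm.toRingHom) eK.symm.injective
  letI algKL : Algebra (Y.presheaf.stalk (π (genericPoint X))) X.functionField :=
    (π.stalkMap (genericPoint X)).hom.toAlgebra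
  have hfs : (π.stalkMap (genericPoint X)).hom.FormallySmooth := by
    haveI : Algebra.EssFiniteType (Y.presheaf.stalk (π (genericPoint X))) X.functionField := hess
    have : Algebra.FormallySmooth (Y.presheaf.stalk (π (genericPoint X))) X.functionField :=
      Algebra.FormallySmooth.of_perfectField
    exact this
  obtain ⟨U, hU, V₀, hV₀, hVU, hxV, H⟩ :=
    exists_smooth_of_formallySmooth_stalk π (genericPoint X) hfs
  letI algAB₀ : Algebra Γ(Y, U) Γ(X, V₀) := (π.appLE U V₀ hVU).hom.toAlgebra
  haveI : Algebra.Smooth Γ(Y, U) Γ(X, V₀) := RingHom.smooth_algebraMap.mp H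
  obtain ⟨s, hs, hstd⟩ := Algebra.Smooth.exists_span_eq_top_isStandardSmooth
    (R := Γ(Y, U)) (S := Γ(X, V₀))
  apply hV₀.iSup_basicOpen_eq_self_iff.mpr at hs
  have hx1 : genericPoint X ∈ (⨆ i : s, X.basicOpen (i : Γ(X, V₀))) := hs.symm ▸ hxV
  obtain ⟨⟨r, hr⟩, hxr⟩ : ∃ r : s, genericPoint X ∈ X.basicOpen (r : Γ(X, V₀)) := by
    simpa using hx1
  have hstd' := hstd r hr
  have e' : X.basicOpen r ≤ π ⁻¹ᵁ U := (X.basicOpen_le r).trans hVU
  have hV : IsAffineOpen (X.basicOpen r) := hV₀.basicOpen r
  letI algAC : Algebra Γ(Y, U) Γ(X, X.basicOpen r) :=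
    (π.appLE U (X.basicOpen r) e').hom.toAlgebra
  haveI : IsScalarTower Γ(Y, U) Γ(X, V₀) Γ(X, X.basicOpen r) := by
    refine IsScalarTower.of_algebraMap_eq' ?_
    change (π.appLE U (X.basicOpen r) e').hom = _
    rw [← π.appLE_map hVU (homOfLE (X.basicOpen_le r)).op]
    rfl
  haveI : IsLocalization.Away r Γ(X, X.basicOpen r) := hV₀.isLocalization_basicOpen r
  let E : Localization.Away r ≃ₐ[Γ(X, V₀)] Γ(X, X.basicOpen r) :=
    IsLocalization.algEquiv (Submonoid.powers r) _ _
  haveI : Algebra.IsStandardSmooth Γ(Y, U) Γ(X, X.basicOpen r) :=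
    Algebra.IsStandardSmooth.of_algEquiv (E.restrictScalars Γ(Y, U))
  -- the rank of the differentials
  haveI : Nonempty (X.basicOpen r) := ⟨⟨genericPoint X, hxr⟩⟩
  haveI : IsFractionRing Γ(X, X.basicOpen r) X.functionField :=
    functionField_isFractionRing_of_isAffineOpen X (X.basicOpen r) hV
  have hyU : π (genericPoint X) ∈ U := e' hxr
  letI algAK : Algebra Γ(Y, U) (Y.presheaf.stalk (π (genericPoint X))) :=
    TopCat.Presheaf.algebra_section_stalk Y.presheaf (⟨π (genericPoint X), hyU⟩ : U)
  haveI : IsLocalization.AtPrime (Y.presheaf.stalk (π (genericPoint X)))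
      (hU.primeIdealOf ⟨π (genericPoint X), hyU⟩).asIdeal :=
    hU.isLocalization_stalk ⟨π (genericPoint X), hyU⟩
  haveI : Algebra.FormallyUnramified Γ(Y, U) (Y.presheaf.stalk (π (genericPoint X))) :=
    Algebra.FormallyUnramified.of_isLocalization
      (hU.primeIdealOf ⟨π (genericPoint X), hyU⟩).asIdeal.primeCompl
  letI algAL : Algebra Γ(Y, U) X.functionField :=
    ((algebraMap Γ(X, X.basicOpen r) X.functionField).comp
      (algebraMap Γ(Y, U) Γ(X, X.basicOpen r))).toAlgebra
  haveI : IsScalarTower Γ(Y, U) Γ(X, X.basicOpen r) X.functionField :=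
    IsScalarTower.of_algebraMap_eq' rfl
  haveI : IsScalarTower Γ(Y, U) (Y.presheaf.stalk (π (genericPoint X))) X.functionField := by
    refine IsScalarTower.of_algebraMap_eq' ?_
    ext a
    simp only [RingHom.algebraMap_toAlgebra, Scheme.Hom.germ_stalkMap_apply, Scheme.Hom.appLE,
      homOfLE_leOfHom, CommRingCat.hom_comp, RingHom.coe_comp, Function.comp_apply,
      X.presheaf.germ_res_apply]
  haveI : Algebra.EssFiniteType (Y.presheaf.stalk (π (genericPoint X))) X.functionField := hess
  have hrk := rank_kaehler_eq_trdeg Γ(Y, U) Γ(X, X.basicOpen r)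
    (Y.presheaf.stalk (π (genericPoint X))) X.functionField
  have hn' : Algebra.trdeg (Y.presheaf.stalk (π (genericPoint X))) X.functionField = n := hn
  rw [hn'] at hrk
  haveI : Nontrivial Γ(X, X.basicOpen r) := inferInstance
  have hrel : (π.appLE U (X.basicOpen r) e').hom.IsStandardSmoothOfRelativeDimension n :=
    (Algebra.IsStandardSmoothOfRelativeDimension.iff_of_isStandardSmooth n).mpr hrk
  refine ⟨X.basicOpen r, ⟨genericPoint X, hxr⟩, ?_⟩
  have hfac : (X.basicOpen r).ι ≫ π = π.resLE U (X.basicOpen r) e' ≫ U.ι :=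
    (Scheme.Hom.resLE_comp_ι π e').symm
  rw [hfac]
  haveI : SmoothOfRelativeDimension n (π.resLE U (X.basicOpen r) e') := by
    haveI : IsAffine ((X.basicOpen r : X.Opens) : Scheme.{u}) := hV
    haveI : IsAffine (U : Scheme.{u}) := hU
    rw [HasRingHomProperty.iff_of_isAffine (P := @SmoothOfRelativeDimension n)]
    exact ((RingHom.locally_respectsIso
      RingHom.isStandardSmoothOfRelativeDimension_respectsIso).arrow_mk_iso_iff
        (arrowResLEAppIso π U (X.basicOpen r) e')).mpr
      (RingHom.locally_of RingHom.isStandardSmoothOfRelativeDimension_respectsIso _ hrel)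
  exact inferInstanceAs (SmoothOfRelativeDimension (n + 0) _)

end Groth.Agent.LibGenSmoothSrc29
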