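import Mathlib
import Groth.Prelude.Def_LCI2
import Groth.Prelude.Def_CAlgX
import Groth.Agent.Lib.Helper7.KoszulLow

/-!
# `H_1`-regular ⇔ `H^{-1}` of the (mapping cone) Koszul complex vanishes (helper29)

helper7's `KoszulLow.isH1Regular_of_homology_zero` gives `⇐`; here the converse
`isZero_homology_of_isH1Regular`, and the equivalence `isH1Regular_iff_isZero_homology`.
-/

set_option autoImplicit false
universe u

open CategoryTheory CochainComplex

namespace Groth.Agent.LibH1Bridge29

open Groth.Agent.Lib.helper7.KoszulLow

variable {A : Type u} [CommRing A]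

section Cons

variable {f : A} {l : List A} (D : LowData A l)

theorem coneE1_d (k1 : (Koszul.koszul A l).X (-1)) (k2 : (Koszul.koszul A l).X (-2)) :
    coneE1 (f := f) D (((mappingCone (mulMap A f l)).d (-2) (-1)).hom
      (inlₗ (mulMap A f l) (-1) (-2) (by norm_num) k1 + inrₗ (mulMap A f l) (-2) k2)) =
    (Fin.cons (-∑ i, D.e1 k1 i * l.get i)
      (f • D.e1 k1 + D.e1 (((Koszul.koszul A l).d (-2) (-1)).hom k2)) :
        Fin (l.length + 1) → A) := by
  have hfst : fstₗ (mulMap A f l) (-2) (-1) (by norm_num)
      (inlₗ (mulMap A f l) (-1) (-2) (by norm_num) k1 + inrₗ (mulMap A f l) (-2) k2) = k1 := by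
    rw [map_add, fst_inl, fst_inr, add_zero]
  have hsnd : sndₗ (mulMap A f l) (-2)
      (inlₗ (mulMap A f l) (-1) (-2) (by norm_num) k1 + inrₗ (mulMap A f l) (-2) k2) = k2 := by
    rw [map_add, snd_inl, snd_inr, zero_add]
  rw [coneE1_apply, fst_d (mulMap A f l) (-2) (-1) 0 (by norm_num) (by norm_num),
    snd_d (mulMap A f l) (-2) (-1) (by norm_num), hfst, hsnd, map_neg, D.hd1, map_add,
    mulMap_f_apply, map_smul]

end Cons

/-- the trivial relations are in the image of `d^{-2}`. -/
theorem triv_le_range : ∀ l : List A, Triv A l.get ≤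
    LinearMap.range ((lowData A l).e1.toLinearMap ∘ₗ ((Koszul.koszul A l).d (-2) (-1)).hom)
  | [] => by
    intro t _
    haveI : IsEmpty (Fin ([] : List A).length) := (inferInstance : IsEmpty (Fin 0))
    have : t = 0 := Subsingleton.elim _ _
    rw [this]
    exact Submodule.zero_mem _
  | f :: l => by
    classical
    have ih := triv_le_range l
    set D := lowData A l with hD
    change Triv A (f :: l).get ≤ LinearMap.range ((coneE1 (f := f) D).toLinearMap ∘ₗ
      ((mappingCone (mulMap A f l)).d (-2) (-1)).hom)
    set Rg := LinearMap.range ((coneE1 (f := f) D).toLinearMap ∘ₗ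
      ((mappingCone (mulMap A f l)).d (-2) (-1)).hom) with hRg
    -- elements of the range
    have hmem : ∀ (a : Fin l.length → A) (t : Fin l.length → A), t ∈ Triv A l.get →
        (Fin.cons (-∑ i, a i * l.get i) (f • a + t) : Fin (l.length + 1) → A) ∈ Rg := by
      intro a t ht
      obtain ⟨k2, hk2⟩ := ih ht
      refine ⟨inlₗ (mulMap A f l) (-1) (-2) (by norm_num) (D.e1.symm a) +
        inrₗ (mulMap A f l) (-2) k2, ?_⟩
      change coneE1 (f := f) D (((mappingCone (mulMap A f l)).d (-2) (-1)).hom _) = _
      rw [coneE1_d, LinearEquiv.apply_symm_apply]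
      congr 2
    rw [get_cons_eq]
    unfold Triv
    rw [Submodule.span_le]
    rintro _ ⟨i, j, rfl⟩
    -- the mixed generator
    have hmix : ∀ q : Fin l.length,
        (Pi.single 0 (l.get q) - Pi.single q.succ f : Fin (l.length + 1) → A) ∈ Rg := by
      intro q
      have h1 := hmem (-(Pi.single q (1 : A))) 0 (Submodule.zero_mem _)
      have h2 : (Pi.single 0 (l.get q) - Pi.single q.succ f : Fin (l.length + 1) → A) =
          Fin.cons (-∑ i, (-(Pi.single q (1 : A)) : Fin l.length → A) i * l.get i)
            (f • (-(Pi.single q (1 : A)) : Fin l.length → A) + 0) := by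
        rw [single_zero_cons, single_succ_cons]
        funext k
        refine Fin.cases ?_ (fun k => ?_) k
        · simp [Pi.single_apply]
        · simp [Pi.single_apply]
      rw [h2]
      exact h1
    refine Fin.cases ?_ (fun p => ?_) i <;> refine Fin.cases ?_ (fun q => ?_) j
    · simp only [Fin.cons_zero, sub_self]
      exact Submodule.zero_mem _
    · simp only [Fin.cons_zero, Fin.cons_succ]
      exact hmix q
    · simp only [Fin.cons_zero, Fin.cons_succ]
      have := Submodule.neg_mem _ (hmix p)
      rwa [neg_sub] at this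
    · simp only [Fin.cons_succ]
      have ht : (Pi.single p (l.get q) - Pi.single q (l.get p) : Fin l.length → A) ∈
          Triv A l.get := Submodule.subset_span ⟨p, q, rfl⟩
      have h1 := hmem 0 _ ht
      have h2 : (Pi.single p.succ (l.get q) - Pi.single q.succ (l.get p) :
          Fin (l.length + 1) → A) =
          Fin.cons (-∑ i, (0 : Fin l.length → A) i * l.get i)
            (f • (0 : Fin l.length → A) +
              (Pi.single p (l.get q) - Pi.single q (l.get p))) := by
        rw [single_succ_cons, single_succ_cons]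
        funext k
        refine Fin.cases ?_ (fun k => ?_) k
        · simp
        · simp
      rw [h2]
      exact h1

/-- **`H_1`-regular ⇒ `H^{-1}` of the Koszul complex vanishes.** -/
theorem isZero_homology_of_isH1Regular (l : List A) (h : CAlgX.IsH1Regular l.get) :
    Limits.IsZero ((Koszul.koszul A l).homology (-1)) := by
  let D := lowData A l
  have hex : ((Koszul.koszul A l).sc' (-2) (-1) 0).Exact := by
    rw [ShortComplex.moduleCat_exact_iff]
    intro x hx
    have hx' : ((Koszul.koszul A l).d (-1) 0).hom x = 0 := hx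
    have ha : ∑ i, D.e1 x i * l.get i = 0 := by
      rw [← D.hd1, hx', map_zero]
    obtain ⟨y, hy⟩ := triv_le_range l (h (D.e1 x) ha)
    exact ⟨y, D.e1.injective hy⟩
  rw [← (Koszul.koszul A l).exactAt_iff' (-2) (-1) 0 (by simp) (by simp)] at hex
  exact ((Koszul.koszul A l).exactAt_iff_isZero_homology (-1)).mp hex

theorem isH1Regular_iff_isZero_homology (l : List A) :
    CAlgX.IsH1Regular l.get ↔ Limits.IsZero ((Koszul.koszul A l).homology (-1)) :=
  ⟨isZero_homology_of_isH1Regular l, isH1Regular_of_homology_zero A l⟩

end Groth.Agent.LibH1Bridge29
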