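import Mathlib
import Groth.Agent.Lib.Helper24.FlatDepth5
import Groth.Agent.Lib.Helper24.AssDepth

/-!
# Vanishing of submodules of projective modules; associated primes of flat algebras with
Cohen–Macaulay fibres (helper29)

* `eq_bot_of_forall_associatedPrimes`: a submodule `M` of a projective module over a Noetherian
  ring `P` such that every element of `M` is killed by an element outside each associated prime of
  `P` is zero.
* `eq_of_mem_associatedPrimes_of_cm_fibres`: `A → P` flat, Noetherian, fibre rings Cohen–Macaulay.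
  An associated prime `𝔓` of `P` is minimal among the primes of its fibre.
-/

set_option autoImplicit false
set_option linter.style.haveILetI false
universe u

open IsLocalRing

namespace Groth.Agent.LibH1LciGenSm29

theorem eq_bot_of_forall_associatedPrimes {P : Type u} [CommRing P] [IsNoetherianRing P]
    {C : Type u} [AddCommGroup C] [Module P C] [Module.Projective P C] (M : Submodule P C)
    (h : ∀ 𝔓 ∈ associatedPrimes P P, ∀ m ∈ M, ∃ s : P, s ∉ 𝔓 ∧ s • m = 0) : M = ⊥ := by
  rw [Submodule.eq_bot_iff]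
  intro m hm
  by_contra hne
  obtain ⟨σ, hσ⟩ := (Module.projective_def' (R := P) (P := C)).mp inferInstance
  have hσm : σ m ≠ 0 := by
    intro h0
    apply hne
    have := LinearMap.congr_fun hσ m
    rw [LinearMap.comp_apply, h0, map_zero, LinearMap.id_apply] at this
    exact this.symm
  obtain ⟨c, hc⟩ : ∃ c, σ m c ≠ 0 := by
    by_contra hall
    push Not at hall
    exact hσm (Finsupp.ext hall)
  obtain ⟨𝔓, hass, hle⟩ := exists_le_isAssociatedPrime_of_isNoetherianRing P (σ m c) hc
  obtain ⟨s, hs, hsm⟩ := h 𝔓 hass m hm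
  apply hs
  apply hle
  rw [Submodule.mem_colon_singleton, Submodule.mem_bot]
  have : s • σ m c = σ (s • m) c := by
    rw [map_smul, Finsupp.smul_apply]
  rw [this, hsm, map_zero, Finsupp.zero_apply]

open Groth.Agent.Lib.Helper24.FlatDepth LocCoh in
/-- `A → P` flat map of Noetherian rings with Cohen–Macaulay fibre rings. An associated prime of
`P` is minimal among the primes of `P` with the same contraction to `A`. -/
theorem eq_of_mem_associatedPrimes_of_cm_fibres (A P : Type u) [CommRing A] [CommRing P]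
    [Algebra A P] [IsNoetherianRing A] [IsNoetherianRing P] [Module.Flat A P]
    (hCM : ∀ (p : Ideal A) [p.IsPrime], LocCoh.IsCohenMacaulayRing (p.Fiber P))
    (𝔓 : Ideal P) [𝔓.IsPrime] (hass : 𝔓 ∈ associatedPrimes P P)
    (𝔔 : Ideal P) [𝔔.IsPrime] (hle : 𝔔 ≤ 𝔓)
    (hc : 𝔔.comap (algebraMap A P) = 𝔓.comap (algebraMap A P)) : 𝔔 = 𝔓 := by
  set p : Ideal A := 𝔓.comap (algebraMap A P) with hp
  haveI : p.IsPrime := Ideal.comap_isPrime _ _
  haveI : 𝔓.LiesOver p := ⟨rfl⟩
  -- depth of the fibre local ring is zero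
  have hd0 := (Groth.Agent.Lib.Helper24.AssDepth.mem_associatedPrimes_iff_depth_eq_zero P 𝔓).mp hass
  obtain ⟨h1, -⟩ := depth_dim_atPrime A P p 𝔓
  rw [hd0] at h1
  have hdF : depth (FibLoc A P p 𝔓) (FibLoc A P p 𝔓) = 0 := by
    have := h1.symm
    exact (add_eq_zero.mp this).2
  -- the fibre local ring is CM, hence of dimension zero
  obtain ⟨q, hq, ⟨e⟩⟩ := exists_fibre_prime_equiv A P p 𝔓
  haveI := hCM p
  haveI hcm : IsCohenMacaulayLocalRing (Localization.AtPrime q) :=
    IsCohenMacaulayRing.isCohenMacaulayLocalRing_localization q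
  haveI : IsNoetherianRing (FibLoc A P p 𝔓) := inferInstance
  have hdimq : ringKrullDim (Localization.AtPrime q) = 0 := by
    have h2 := hcm.supportDim_eq_depth
    rw [Module.supportDim_self_eq_ringKrullDim, ← depth_eq_of_ringEquiv e, hdF] at h2
    exact h2
  have hdimF : ringKrullDim (FibLoc A P p 𝔓) = 0 := by
    rw [← ringKrullDim_eq_of_ringEquiv e]
    exact hdimq
  haveI : Ring.KrullDimLE 0 (FibLoc A P p 𝔓) := Ring.krullDimLE_iff.mpr hdimF.le
  -- the prime `𝔔 P_𝔓`
  set K : Ideal (Localization.AtPrime 𝔓) :=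
    (p.map (algebraMap A P)).map (algebraMap P (Localization.AtPrime 𝔓)) with hK
  have hdisj : Disjoint (𝔓.primeCompl : Set P) (𝔔 : Set P) := by
    rw [Set.disjoint_left]
    intro x hx hxQ
    exact hx (hle hxQ)
  set 𝔔₁ : Ideal (Localization.AtPrime 𝔓) := 𝔔.map (algebraMap P (Localization.AtPrime 𝔓)) with hQ1
  haveI h𝔔₁ : 𝔔₁.IsPrime :=
    IsLocalization.isPrime_of_isPrime_disjoint 𝔓.primeCompl _ 𝔔 inferInstance hdisj
  have hKle : K ≤ 𝔔₁ := by
    apply Ideal.map_mono
    rw [Ideal.map_le_iff_le_comap, hc]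
  have hker : RingHom.ker (Ideal.Quotient.mk K) ≤ 𝔔₁ := by
    rw [Ideal.mk_ker]; exact hKle
  haveI h𝔔₂ : (𝔔₁.map (Ideal.Quotient.mk K)).IsPrime :=
    Ideal.map_isPrime_of_surjective Ideal.Quotient.mk_surjective hker
  have hmax2 : (𝔔₁.map (Ideal.Quotient.mk K)).IsMaximal :=
    Ring.krullDimLE_zero_iff.mp inferInstance _ h𝔔₂
  have hcomap : (𝔔₁.map (Ideal.Quotient.mk K)).comap (Ideal.Quotient.mk K) = 𝔔₁ := by
    rw [Ideal.comap_map_of_surjective _ Ideal.Quotient.mk_surjective, ← RingHom.ker_eq_comap_bot]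
    exact sup_eq_left.mpr hker
  have hmax1 : 𝔔₁.IsMaximal := by
    rw [← hcomap]
    exact Ideal.comap_isMaximal_of_surjective _ Ideal.Quotient.mk_surjective
  have heq : 𝔔₁ = maximalIdeal (Localization.AtPrime 𝔓) := IsLocalRing.eq_maximalIdeal hmax1
  have h3 : 𝔔₁.comap (algebraMap P (Localization.AtPrime 𝔓)) = 𝔔 :=
    IsLocalization.under_map_of_isPrime_disjoint 𝔓.primeCompl _ inferInstance hdisj
  rw [← h3, heq]
  exact Localization.AtPrime.under_maximalIdeal (I := 𝔓)

end Groth.Agent.LibH1LciGenSm29
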