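import Mathlib
import Groth.Agent.LibH1LciGenSm29a
import Groth.Agent.Lib.Helper13.CotLoc4
import Groth.Agent.Lib.Helper17.LciCM
import Groth.Agent.LibSyntOfLCI29

/-!
# `H_1(NL_{P/A}) = 0` for flat local complete intersections with generically smooth fibres
(helper29)
-/

set_option autoImplicit false
set_option linter.style.haveILetI false
universe u

open MvPolynomial

namespace Groth.Agent.LibH1LciGenSm29

theorem subsingleton_h1Cotangent
    (A : Type u) [CommRing A] [IsNoetherianRing A]
    (P : Type u) [CommRing P] [Algebra A P] [Module.Flat A P] (hlci : LCI.IsLCI A P)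
    (hgs : ∀ 𝔓 : PrimeSpectrum P,
      (∀ 𝔔 : PrimeSpectrum P, 𝔔 ≤ 𝔓 →
          𝔔.asIdeal.comap (algebraMap A P) = 𝔓.asIdeal.comap (algebraMap A P) → 𝔔 = 𝔓) →
        𝔓 ∈ Algebra.smoothLocus A P) :
    Subsingleton (Algebra.H1Cotangent A P) := by
  have hsynt := Groth.Agent.LibSyntOfLCI29.isSyntomic_of_flat_of_isLCI A P inferInstance hlci
  obtain ⟨hft, n, α, hα, hK⟩ := hlci
  haveI : IsNoetherianRing P := Algebra.FiniteType.isNoetherianRing A P
  have hCM : ∀ (p : Ideal A) [p.IsPrime], LocCoh.IsCohenMacaulayRing (p.Fiber P) := by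
    intro p _
    exact Groth.Agent.Lib.helper17.LciCM.isCohenMacaulayRing_of_isLCIOver _ _ (hsynt.2.2 ⟨p, inferInstance⟩)
  -- the presentation
  have hαe : (aeval fun i => α (X i)) = α := (MvPolynomial.aeval_unique α).symm
  let G : Algebra.Generators A P (Fin n) :=
    Algebra.Generators.ofSurjective (fun i => α (X i)) (by rw [hαe]; exact hα)
  let E := G.toExtension
  have hker : E.ker = RingHom.ker α.toRingHom := by
    ext x
    change algebraMap G.Ring P x = 0 ↔ α x = 0
    rw [Algebra.Generators.algebraMap_apply]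
    change aeval (fun i => α (X i)) x = 0 ↔ _
    rw [hαe]
  obtain ⟨-, hproj⟩ := Groth.Agent.Lib.helper13.CotLoc.finite_projective_cotangent_extension E
    (hker ▸ hK)
  haveI := hproj
  have hbot : LinearMap.ker E.cotangentComplex = ⊥ := by
    apply eq_bot_of_forall_associatedPrimes
    intro 𝔓 hass m hm
    haveI h𝔓 : 𝔓.IsPrime := hass.isPrime
    have hsm : (⟨𝔓, h𝔓⟩ : PrimeSpectrum P) ∈ Algebra.smoothLocus A P := by
      apply hgs
      intro 𝔔 hle hc
      apply PrimeSpectrum.ext
      exact eq_of_mem_associatedPrimes_of_cm_fibres A P hCM 𝔓 hass 𝔔.asIdeal hle hc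
    haveI hfs : Algebra.FormallySmooth A (Localization.AtPrime 𝔓) := hsm
    haveI : Subsingleton (Algebra.H1Cotangent A (Localization.AtPrime 𝔓)) :=
      ((Algebra.formallySmooth_iff _ _).mp hfs).2
    let x : Algebra.H1Cotangent A P := G.equivH1Cotangent ⟨m, hm⟩
    have h0 : Algebra.H1Cotangent.map A A P (Localization.AtPrime 𝔓) x =
        Algebra.H1Cotangent.map A A P (Localization.AtPrime 𝔓) 0 := Subsingleton.elim _ _
    obtain ⟨c, hc⟩ := (IsLocalizedModule.eq_iff_exists 𝔓.primeCompl
      (Algebra.H1Cotangent.map A A P (Localization.AtPrime 𝔓))).mp h0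
    refine ⟨c.1, c.2, ?_⟩
    rw [smul_zero] at hc
    have h1 : (c.1 : P) • x = 0 := hc
    rw [← map_smul, LinearEquiv.map_eq_zero_iff] at h1
    exact congrArg Subtype.val h1
  have : Subsingleton E.H1Cotangent := by
    change Subsingleton (LinearMap.ker E.cotangentComplex)
    rw [hbot]
    infer_instance
  exact G.equivH1Cotangent.symm.toEquiv.subsingleton

end Groth.Agent.LibH1LciGenSm29
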