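import Mathlib
import Groth.Prelude.Def_LCI2
import Groth.Agent.LibKoszulIndep29
import Groth.Agent.LibKoszulDescent29
import Groth.Agent.LibKoszulFlat29
import Groth.Agent.LibKoszulFFDescent29

/-!
# Degree-wise permanence of vanishing of Koszul cohomology (helper29)

Degree-wise versions of the lemmas of `LibKoszulFlat29`, `LibKoszulDescent29`,
`LibKoszulFFDescent29`, `LibKoszulIndep29`: vanishing of `H^i(K(l))` for ONE degree `i`
* passes to flat base changes (`isZero_homology_map_of_flat`),
* descends along faithfully flat maps (`isZero_homology_of_faithfullyFlat`),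
* is Zariski local (`isZero_homology_of_forall_away`),
* holds if a member is a unit (`isZero_homology_of_isUnit_mem`),
and vanishing of `H^{-1}` does not depend on the generators
(`isZero_homology_neg_one_of_ofList_eq`).
-/

set_option autoImplicit false
universe u

namespace Groth.Agent.LibKoszulDeg29

open CategoryTheory CategoryTheory.Limits CochainComplex TensorProduct
open Groth.Agent.LibKoszulFlat29 Groth.Agent.LibKoszulDescent29 Groth.Agent.LibKoszulFFDescent29
  Groth.Agent.LibKoszulIndep29

section Flat

variable {A A' : Type u} [CommRing A] [CommRing A'] (φ : A →+* A')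

theorem isZero_homology_map_of_flat (hφ : φ.Flat) (l : List A) (i : ℤ)
    (h : IsZero ((Koszul.koszul A l).homology i)) :
    IsZero ((Koszul.koszul A' (l.map φ)).homology i) := by
  obtain ⟨e⟩ := nonempty_homology_iso φ hφ l i
  refine IsZero.of_iso ?_ e.symm
  exact (ModuleCat.extendScalars.{u, u, u} φ).map_isZero h

theorem one_tmul_eq_zero_of_isZero_homology_map (hφ : φ.Flat) (l : List A) (i : ℤ)
    (h : IsZero ((Koszul.koszul A' (l.map φ)).homology i))
    (m : (Koszul.koszul A l).homology i) :
    letI := φ.toAlgebra
    (1 : A') ⊗ₜ[A] m = 0 := by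
  obtain ⟨e⟩ := nonempty_homology_iso φ hφ l i
  have hz : IsZero ((ModuleCat.extendScalars.{u, u, u} φ).obj ((Koszul.koszul A l).homology i)) :=
    h.of_iso e
  have := ModuleCat.subsingleton_of_isZero hz
  letI := φ.toAlgebra
  exact Subsingleton.elim
    (α := ((ModuleCat.extendScalars.{u, u, u} φ).obj ((Koszul.koszul A l).homology i))) _ _

theorem isZero_homology_of_faithfullyFlat (hφ : φ.FaithfullyFlat) (t : List A) (i : ℤ)
    (h : IsZero ((Koszul.koszul A' (t.map φ)).homology i)) :
    IsZero ((Koszul.koszul A t).homology i) := by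
  have hzero : ∀ m : (Koszul.koszul A t).homology i, m = 0 := by
    intro m
    have h1 := one_tmul_eq_zero_of_isZero_homology_map φ hφ.flat t i h m
    letI := φ.toAlgebra
    haveI : Module.FaithfullyFlat A A' := hφ
    apply Module.FaithfullyFlat.tensorProduct_mk_injective (A := A) (B := A')
    simpa using h1
  haveI : Subsingleton ((Koszul.koszul A t).homology i) :=
    ⟨fun x y => (hzero x).trans (hzero y).symm⟩
  exact ModuleCat.isZero_of_subsingleton _

end Flat

section Local

variable {B : Type u} [CommRing B]

theorem isZero_homology_of_forall_away (t : List B) (i : ℤ)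
    (h : ∀ 𝔮 : PrimeSpectrum B, ∃ g : B, g ∉ 𝔮.asIdeal ∧
      IsZero ((Koszul.koszul (Localization.Away g)
        (t.map (algebraMap B (Localization.Away g)))).homology i)) :
    IsZero ((Koszul.koszul B t).homology i) := by
  have hzero : ∀ m : (Koszul.koszul B t).homology i, m = 0 := by
    intro m
    by_contra hm
    set N : Ideal B := LinearMap.ker (LinearMap.toSpanSingleton B _ m) with hN
    have hNtop : N ≠ ⊤ := by
      intro htop
      have : (1 : B) ∈ N := htop ▸ Submodule.mem_top
      rw [hN, LinearMap.mem_ker, LinearMap.toSpanSingleton_apply, one_smul] at this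
      exact hm this
    obtain ⟨𝔪, h𝔪, hle⟩ := Ideal.exists_le_maximal N hNtop
    obtain ⟨g, hg, hreg⟩ := h ⟨𝔪, h𝔪.isPrime⟩
    have hflat : (algebraMap B (Localization.Away g)).Flat :=
      RingHom.flat_algebraMap_iff.2 inferInstance
    have h1 := one_tmul_eq_zero_of_isZero_homology_map (algebraMap B (Localization.Away g))
      hflat t i hreg m
    obtain ⟨n, hn⟩ := exists_pow_smul_eq_zero_of_one_tmul_eq_zero
      (algebraMap B (Localization.Away g)) g (isLocalization_away_toAlgebra g) m h1
    have h3 : g ^ n ∈ N := by
      rw [hN, LinearMap.mem_ker, LinearMap.toSpanSingleton_apply]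
      exact hn
    exact hg (h𝔪.isPrime.mem_of_pow_mem _ (hle h3))
  haveI : Subsingleton ((Koszul.koszul B t).homology i) :=
    ⟨fun x y => (hzero x).trans (hzero y).symm⟩
  exact ModuleCat.isZero_of_subsingleton _

theorem isZero_homology_of_isUnit_mem (l : List B) (x : B) (hx : x ∈ l) (hu : IsUnit x) (i : ℤ) :
    IsZero ((Koszul.koszul B l).homology i) := by
  have hzero : ∀ m : (Koszul.koszul B l).homology i, m = 0 := by
    intro m
    have h1 := smul_homology_eq_zero l x (Ideal.subset_span hx) i m
    obtain ⟨u, rfl⟩ := hu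
    have h2 : (↑u⁻¹ : B) • ((u : B) • m) = m := by
      rw [smul_smul]
      simp
    rw [← h2, h1, smul_zero]
  haveI : Subsingleton ((Koszul.koszul B l).homology i) :=
    ⟨fun x y => (hzero x).trans (hzero y).symm⟩
  exact ModuleCat.isZero_of_subsingleton _

/-- **vanishing of `H^{-1}` of the Koszul complex does not depend on the generators.** -/
theorem isZero_homology_neg_one_of_ofList_eq (l l' : List B)
    (hl : IsZero ((Koszul.koszul B l).homology (-1)))
    (hJ : Ideal.ofList l' = Ideal.ofList l) (hlen : l'.length = l.length) :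
    IsZero ((Koszul.koszul B l').homology (-1)) := by
  have hl' : ∀ n : ℤ, -1 ≤ n → n ≠ 0 → Subsingleton (H l n) := by
    intro n hn hn0
    rcases lt_trichotomy n 0 with h | h | h
    · have : n = -1 := by omega
      subst this
      exact ModuleCat.subsingleton_of_isZero hl
    · exact absurd h hn0
    · exact subsingleton_H_of_pos l n h
  have hb : IsFr (Ideal.ofList l) (rk l'.length (-1)) (H (l' ++ l) (-1)) :=
    isFr_append l (fun n => -1 ≤ n) (fun n hn => by omega)
      (isFr_base l _ (fun n hn hn0 => hl' n hn hn0)) l'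
      (fun x hx => hJ ▸ Ideal.subset_span hx) (-1) le_rfl
  have hc : IsFr (Ideal.ofList l) (rk l'.length (-1)) (H (l ++ l') (-1)) := by
    obtain ⟨e⟩ := hb
    obtain ⟨i⟩ := Groth.Agent.Lib.helper26.Kos.nonempty_iso_of_perm (ModuleCat.of B B)
      (List.perm_append_comm (l₁ := l) (l₂ := l'))
    rw [← koszul_eq, ← koszul_eq] at i
    exact ⟨(((HomologicalComplex.homologyFunctor _ _ (-1)).mapIso i).toLinearEquiv).trans e⟩
  have hvan : ∀ n : ℤ, -1 < n → n ≠ 0 → Subsingleton (H l' n) := by
    intro n hn hn0
    exact subsingleton_H_of_pos l' n (by omega)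
  obtain ⟨e⟩ := equiv_prod_append l' (fun n => -1 < n) (fun n hn => by omega)
    (isFr_base l' _ hvan) (-1) (by omega) (by omega) l
    (fun x hx => hJ ▸ Ideal.subset_span hx)
  obtain ⟨e'⟩ := hc
  rw [← hJ, hlen] at e'
  have : Subsingleton (H l' (-1)) := subsingleton_of_prod_equiv (e.symm.trans e')
  exact ModuleCat.isZero_of_subsingleton _

end Local

end Groth.Agent.LibKoszulDeg29
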