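import Mathlib
import Groth.Prelude.Def_LCI2
import Groth.Prelude.Def_CAlgX
import Groth.Agent.LibH1Bridge29
import Groth.Agent.LibKoszulDeg29
import Groth.Agent.LibSeqClass29
import Groth.Agent.Lib.Helper17.LciH1a

/-!
# `H_1`-regular sequences: the `SeqClass` instance (helper29)

`h1Class : SeqClass` with `P R l := CAlgX.IsH1Regular l.get`, through the bridge
`IsH1Regular l.get ↔ H^{-1}(K(l)) = 0`.
-/

set_option autoImplicit false
universe u

namespace Groth.Agent.LibH1Seq29

open CategoryTheory CategoryTheory.Limits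
open Groth.Agent.LibSeqClass29 Groth.Agent.LibH1Bridge29 Groth.Agent.LibKoszulDeg29

/-- the class of `H_1`-regular sequences. -/
def h1Class : SeqClass.{u} where
  P R _ l := CAlgX.IsH1Regular l.get
  map_flat φ hφ l h := by
    rw [isH1Regular_iff_isZero_homology] at h ⊢
    exact isZero_homology_map_of_flat φ hφ l (-1) h
  of_faithfullyFlat φ hφ l h := by
    rw [isH1Regular_iff_isZero_homology] at h ⊢
    exact isZero_homology_of_faithfullyFlat φ hφ l (-1) h
  of_forall_away l h := by
    rw [isH1Regular_iff_isZero_homology]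
    apply isZero_homology_of_forall_away
    intro 𝔮
    obtain ⟨g, hg, hreg⟩ := h 𝔮
    exact ⟨g, hg, (isH1Regular_iff_isZero_homology _).1 hreg⟩
  of_isUnit_mem l x hx hu := by
    rw [isH1Regular_iff_isZero_homology]
    exact isZero_homology_of_isUnit_mem l x hx hu (-1)
  of_ofList_eq l l' hl hJ hlen := by
    rw [isH1Regular_iff_isZero_homology] at hl ⊢
    exact isZero_homology_neg_one_of_ofList_eq l l' hl hJ hlen
  coord_mem l hl ρ hρ k := by
    have h1 := Groth.Agent.Lib.helper17.LciH1.coord_mem_of_mem_B l.get ρ (hl ρ hρ) k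
    rwa [Ideal.ofList, ← Set.range_list_get]

end Groth.Agent.LibH1Seq29
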