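import Mathlib
import Groth.Prelude.Def_ArtFun4

/-!
# Transport of hulls and of deformation functors (seat helper29)

* `hasHull_of_bijective`: a hull transports along a natural transformation that is bijective on every object.
* `defTransport`: an isomorphism `X ≅ X'` over `Spec k` induces an objectwise bijective natural transformation
  `Def_X ⟶ Def_X'`.
-/

set_option autoImplicit false
universe u v
open CategoryTheory CategoryTheory.Limits AlgebraicGeometry

namespace Groth.Agent.LibHull29

open ArtFun ArtFun.Art

section HullTransport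

variable {Λ k : Type u} [CommRing Λ] [Field k] [Algebra Λ k] {F G : Art Λ k ⥤ Type v}

/-- a hull transports along a natural transformation that is bijective on every object -/
theorem hasHull_of_bijective (η : F ⟶ G) (hη : ∀ A, Function.Bijective (fun x : F.obj A => η.app A x))
    (h : HasHull F) : HasHull G := by
  obtain ⟨H⟩ := h
  refine ⟨{ ring := H.ring, family := H.family.push η, miniversal := ⟨?_, ?_⟩ }⟩
  · intro B A μ hμ φ y hy
    obtain ⟨y', rfl⟩ := (hη B).2 y
    have h1 : F.map μ y' = H.family.app A φ := by
      apply (hη A).1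
      change η.app A (F.map μ y') = η.app A (H.family.app A φ)
      rw [NatTrans.naturality_apply η μ y']
      exact hy
    obtain ⟨ψ, h2, h3⟩ := H.miniversal.1 μ hμ φ y' h1
    refine ⟨ψ, h2, ?_⟩
    change η.app B (H.family.app B ψ) = _
    rw [h3]
  · exact (hη _).comp H.miniversal.2

end HullTransport

section DefTransport

variable {Λ k : Type u} [CommRing Λ] [Field k] [Algebra Λ k]
variable {X X' : Scheme.{u}} (x : X ⟶ specPt k) (x' : X' ⟶ specPt k) (θ : X ≅ X') (hθ : θ.hom ≫ x' = x)

include hθ in
/-- transport of a deformation along an isomorphism of the closed fibre -/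
noncomputable def transport {A : Art Λ k} (ξ : DefSch X x A) : DefSch X' x' A where
  total := ξ.total
  f := ξ.f
  flat := ξ.flat
  i := θ.inv ≫ ξ.i
  isPullback := by
    refine IsPullback.of_iso ξ.isPullback θ (Iso.refl _) (Iso.refl _) (Iso.refl _) ?_ ?_ ?_ ?_
    · rw [Iso.refl_hom, Category.comp_id, Iso.hom_inv_id_assoc]
    · rw [Iso.refl_hom, Category.comp_id, hθ]
    · rw [Iso.refl_hom, Iso.refl_hom, Category.comp_id, Category.id_comp]
    · rw [Iso.refl_hom, Iso.refl_hom, Category.comp_id, Category.id_comp]

/-- the natural transformation `Def_X ⟶ Def_X'` induced by an isomorphism `X ≅ X'` over `Spec k` -/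
noncomputable def defTransport :
    defFunctor (Λ := Λ) X x ⟶ defFunctor (Λ := Λ) X' x' where
  app A := ↾Quotient.map' (fun ξ : DefSch X x A => transport x x' θ hθ ξ)
    (fun ξ ξ' ⟨e⟩ => ⟨⟨e.iso, e.hom_f, by
      change (θ.inv ≫ ξ.i) ≫ e.iso.hom = θ.inv ≫ ξ'.i
      rw [Category.assoc, e.i_hom]⟩⟩)
  naturality A B g := ConcreteCategory.hom_ext _ _ fun q => by
    induction q using Quotient.inductionOn with
    | h ξ =>
      have key : θ.inv ≫ (ξ.baseChange g).i = ((transport x x' θ hθ ξ).baseChange g).i := by
        apply pullback.hom_ext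
        · rw [Category.assoc, DefSch.baseChange_i_fst]
          exact (DefSch.baseChange_i_fst (transport x x' θ hθ ξ) g).symm
        · have h1 := DefSch.baseChange_i_f (transport x x' θ hθ ξ) g
          have h2 := DefSch.baseChange_i_f ξ g
          change ((transport x x' θ hθ ξ).baseChange g).i ≫ pullback.snd ξ.f (specMap g) = _ at h1
          change (ξ.baseChange g).i ≫ pullback.snd ξ.f (specMap g) = _ at h2
          rw [Category.assoc, h2]
          refine Eq.trans ?_ h1.symm
          rw [← hθ, Category.assoc, Iso.inv_hom_id_assoc]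
      exact Quotient.sound ⟨⟨Iso.refl _, Category.id_comp _, (Category.comp_id _).trans key⟩⟩

theorem defTransport_bijective (A : Art Λ k) :
    Function.Bijective (fun q : (defFunctor (Λ := Λ) X x).obj A => (defTransport x x' θ hθ).app A q) := by
  constructor
  · intro q q'
    induction q using Quotient.inductionOn with
    | h ξ =>
      induction q' using Quotient.inductionOn with
      | h ξ' =>
        intro h
        have h1 : Nonempty ((transport x x' θ hθ ξ).Iso (transport x x' θ hθ ξ')) := Quotient.exact h
        obtain ⟨e⟩ := h1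
        refine Quotient.sound ⟨⟨e.iso, e.hom_f, ?_⟩⟩
        have h2 : (θ.inv ≫ ξ.i) ≫ e.iso.hom = θ.inv ≫ ξ'.i := e.i_hom
        rw [Category.assoc] at h2
        exact (cancel_epi θ.inv).mp h2
  · intro q
    induction q using Quotient.inductionOn with
    | h ζ =>
      have hθ' : θ.symm.hom ≫ x = x' := by
        rw [Iso.symm_hom, ← hθ, Iso.inv_hom_id_assoc]
      refine ⟨Quotient.mk _ (transport x' x θ.symm hθ' ζ), ?_⟩
      have key : θ.inv ≫ θ.symm.inv ≫ ζ.i = ζ.i := by
        rw [Iso.symm_inv, Iso.inv_hom_id_assoc]
      exact Quotient.sound ⟨⟨Iso.refl _, Category.id_comp _, (Category.comp_id _).trans key⟩⟩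

end DefTransport

end Groth.Agent.LibHull29
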