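import Groth.Agent.LibDefRingL29a

/-!
# Deformations of an affine scheme over an Artinian base: the ring-level dictionary (seat helper29)

`RDef B₀ A`: a ring `E` with a flat map `A → E` and a surjection `E → B₀` exhibiting `B₀ = E ⊗_A k`.
Every deformation of `Spec B₀` over `A` is isomorphic to `Spec` of such a datum; isomorphisms of deformations are
isomorphisms of data; base change is pushout of rings.
-/

set_option autoImplicit false
universe u
open CategoryTheory CategoryTheory.Limits AlgebraicGeometry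

namespace Groth.Agent.LibHull29

open ArtFun ArtFun.Art Groth.Agent.LibAffDef29 Groth.Agent.LibDefDual29 Groth.Agent.LibDefRingL29

variable {Λ k : Type u} [CommRing Λ] [Field k] [Algebra Λ k] (B₀ : Type u) [CommRing B₀] [Algebra k B₀]

/-- deformations of `Spec B₀` over `A` -/
abbrev Def (A : Art Λ k) : Type (u + 1) :=
  DefSch (Spec (CommRingCat.of B₀)) (Spec.map (CommRingCat.ofHom (algebraMap k B₀))) A

/-- the deformation functor of `Spec B₀` -/
noncomputable abbrev DefF : Art Λ k ⥤ Type (u + 1) :=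
  defFunctor (Λ := Λ) (Spec (CommRingCat.of B₀)) (Spec.map (CommRingCat.ofHom (algebraMap k B₀)))

/-- ring-level deformation of `B₀` over `A` -/
structure RDef (A : Art Λ k) : Type (u + 1) where
  E : Type u
  [commRing : CommRing E]
  φ : A →+* E
  π : E →+* B₀
  flat : φ.Flat
  surj : Function.Surjective π
  ker_le : RingHom.ker π ≤ Ideal.map φ (RingHom.ker A.res.toRingHom)
  comm : ∀ a : A, π (φ a) = algebraMap k B₀ (A.res a)

namespace RDef

variable {B₀} {A A' : Art Λ k}

instance (R : RDef B₀ A) : CommRing R.E := R.commRing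

lemma isPushout (R : RDef B₀ A) :
    IsPushout (CommRingCat.ofHom R.φ) (CommRingCat.ofHom A.res.toRingHom) (CommRingCat.ofHom R.π)
      (CommRingCat.ofHom (algebraMap k B₀)) := by
  apply isPushout_of_surjective
  · ext a
    exact R.comm a
  · exact A.res_surjective
  · exact R.surj
  · exact R.ker_le

/-- the deformation attached to a ring-level datum -/
noncomputable def toDefSch (R : RDef B₀ A) : Def B₀ A where
  total := Spec (CommRingCat.of R.E)
  f := Spec.map (CommRingCat.ofHom R.φ)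
  flat := Flat.SpecMap_iff.mpr R.flat
  i := Spec.map (CommRingCat.ofHom R.π)
  isPullback := isPullback_SpecMap_of_isPushout _ _ _ _ R.isPushout

/-- the ring-level datum of a deformation -/
noncomputable def ofDefSch (ξ : Def B₀ A) : RDef B₀ A where
  E := Γ(ξ.total, ⊤)
  φ := (toΓ ξ.f).hom
  π := (fromΓ ξ.i).hom
  flat := (package ξ).2.1
  surj := (package ξ).2.2.1
  ker_le := (package ξ).2.2.2.1
  comm := fun a => congrArg (fun g => g.hom a) (package ξ).2.2.2.2

/-- the class of a ring-level datum in the deformation functor -/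
noncomputable def cl (R : RDef B₀ A) : (DefF (Λ := Λ) B₀).obj A := R.toDefSch.cl

/-- isomorphisms of ring-level data -/
def Iso (R R' : RDef B₀ A) : Prop :=
  ∃ ψ : R.E ≃+* R'.E, (∀ a, ψ (R.φ a) = R'.φ a) ∧ (∀ x, R'.π (ψ x) = R.π x)

lemma Iso.refl (R : RDef B₀ A) : R.Iso R := ⟨RingEquiv.refl _, fun _ => rfl, fun _ => rfl⟩

lemma Iso.symm {R R' : RDef B₀ A} (h : R.Iso R') : R'.Iso R := by
  obtain ⟨ψ, h1, h2⟩ := h
  refine ⟨ψ.symm, fun a => ?_, fun x => ?_⟩
  · rw [← h1 a, RingEquiv.symm_apply_apply]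
  · rw [← h2 (ψ.symm x), RingEquiv.apply_symm_apply]

lemma Iso.trans {R R' R'' : RDef B₀ A} (h : R.Iso R') (h' : R'.Iso R'') : R.Iso R'' := by
  obtain ⟨ψ, h1, h2⟩ := h
  obtain ⟨ψ', h1', h2'⟩ := h'
  refine ⟨ψ.trans ψ', fun a => ?_, fun x => ?_⟩
  · rw [RingEquiv.trans_apply, h1, h1']
  · rw [RingEquiv.trans_apply, h2', h2]

/-- `Spec Γ(𝒳) ≅ 𝒳` as deformations -/
theorem toDefSch_ofDefSch (ξ : Def B₀ A) : Nonempty ((ofDefSch ξ).toDefSch.Iso ξ) := by
  haveI := isAffine_total ξ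
  refine ⟨⟨ξ.total.isoSpec.symm, ?_, ?_⟩⟩
  · rw [Iso.symm_hom, Iso.inv_comp_eq]
    exact eq_isoSpec_hom_comp ξ.f
  · rw [Iso.symm_hom, Iso.comp_inv_eq]
    exact (comp_isoSpec_hom ξ.i).symm

lemma cl_ofDefSch (ξ : Def B₀ A) : (ofDefSch ξ).cl = ξ.cl := Quotient.sound (toDefSch_ofDefSch ξ)

lemma cl_surjective (q : (DefF (Λ := Λ) B₀).obj A) : ∃ R : RDef B₀ A, R.cl = q := by
  induction q using Quotient.inductionOn with
  | h ξ => exact ⟨ofDefSch ξ, cl_ofDefSch ξ⟩

/-- an isomorphism of ring-level data gives an isomorphism of deformations -/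
theorem toDefSch_iso_of_iso {R R' : RDef B₀ A} (h : R.Iso R') : Nonempty (R.toDefSch.Iso R'.toDefSch) := by
  obtain ⟨ψ, h1, h2⟩ := h
  have hrs : (ψ : R.E →+* R'.E).comp (ψ.symm : R'.E →+* R.E) = RingHom.id _ := by
    ext x
    exact ψ.apply_symm_apply x
  have hsr : (ψ.symm : R'.E →+* R.E).comp (ψ : R.E →+* R'.E) = RingHom.id _ := by
    ext x
    exact ψ.symm_apply_apply x
  let θ : Spec (CommRingCat.of R.E) ≅ Spec (CommRingCat.of R'.E) :=
    { hom := Spec.map (CommRingCat.ofHom (ψ.symm : R'.E →+* R.E))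
      inv := Spec.map (CommRingCat.ofHom (ψ : R.E →+* R'.E))
      hom_inv_id := by
        rw [← Spec.map_comp, ← CommRingCat.ofHom_comp, hsr, CommRingCat.ofHom_id, Spec.map_id]
      inv_hom_id := by
        rw [← Spec.map_comp, ← CommRingCat.ofHom_comp, hrs, CommRingCat.ofHom_id, Spec.map_id] }
  have hf : θ.hom ≫ Spec.map (CommRingCat.ofHom R'.φ) = Spec.map (CommRingCat.ofHom R.φ) := by
    change Spec.map _ ≫ Spec.map _ = Spec.map _
    rw [← Spec.map_comp, ← CommRingCat.ofHom_comp]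
    congr 2
    ext a
    change ψ.symm (R'.φ a) = R.φ a
    rw [← h1 a, RingEquiv.symm_apply_apply]
  have hi : Spec.map (CommRingCat.ofHom R.π) ≫ θ.hom = Spec.map (CommRingCat.ofHom R'.π) := by
    change Spec.map _ ≫ Spec.map _ = Spec.map _
    rw [← Spec.map_comp, ← CommRingCat.ofHom_comp]
    congr 2
    ext x
    change R.π (ψ.symm x) = R'.π x
    rw [← h2 (ψ.symm x), RingEquiv.apply_symm_apply]
  exact ⟨⟨θ, hf, hi⟩⟩

/-- an isomorphism of deformations gives an isomorphism of their ring-level data -/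
theorem ofDefSch_iso_of_iso {ξ ξ' : Def B₀ A} (e : ξ.Iso ξ') : (ofDefSch ξ).Iso (ofDefSch ξ') := by
  have h1 : e.iso.hom.appTop ≫ e.iso.inv.appTop = 𝟙 _ := by
    rw [← Scheme.Hom.comp_appTop, e.iso.inv_hom_id, Scheme.Hom.id_appTop]
  have h2 : e.iso.inv.appTop ≫ e.iso.hom.appTop = 𝟙 _ := by
    rw [← Scheme.Hom.comp_appTop, e.iso.hom_inv_id, Scheme.Hom.id_appTop]
  let ψ₀ : Γ(ξ.total, ⊤) ≃+* Γ(ξ'.total, ⊤) :=
    RingEquiv.ofRingHom e.iso.inv.appTop.hom e.iso.hom.appTop.hom
      (by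
        ext x
        exact congrArg (fun φ => φ.hom x) h1)
      (by
        ext x
        exact congrArg (fun φ => φ.hom x) h2)
  have hg : toΓ ξ.f ≫ e.iso.inv.appTop = toΓ ξ'.f := by
    rw [← toΓ_comp, ← e.hom_f, Iso.inv_hom_id_assoc]
  have hi : e.iso.inv.appTop ≫ fromΓ ξ'.i = fromΓ ξ.i := by
    rw [← fromΓ_comp, ← e.i_hom, Category.assoc, Iso.hom_inv_id, Category.comp_id]
  refine ⟨ψ₀, fun a => ?_, fun x => ?_⟩
  · exact congrArg (fun φ => φ.hom a) hg
  · exact congrArg (fun φ => φ.hom x) hi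

/-- a datum is isomorphic to the datum of its deformation -/
theorem iso_ofDefSch_toDefSch (R : RDef B₀ A) : R.Iso (ofDefSch R.toDefSch) := by
  refine ⟨(Scheme.ΓSpecIso (CommRingCat.of R.E)).commRingCatIsoToRingEquiv.symm, fun a => ?_, fun x => ?_⟩
  · have h1 : toΓ (Spec.map (CommRingCat.ofHom R.φ)) ≫ (Scheme.ΓSpecIso (CommRingCat.of R.E)).hom =
        CommRingCat.ofHom R.φ := toΓ_SpecMap_comp_ΓSpecIso' _
    have h2 := congrArg (fun g => g.hom a) h1
    change (Scheme.ΓSpecIso (CommRingCat.of R.E)).commRingCatIsoToRingEquiv.symm (R.φ a) =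
      (toΓ (Spec.map (CommRingCat.ofHom R.φ))).hom a
    rw [RingEquiv.symm_apply_eq]
    exact h2.symm
  · have h1 : fromΓ (Spec.map (CommRingCat.ofHom R.π)) =
        (Scheme.ΓSpecIso (CommRingCat.of R.E)).hom ≫ CommRingCat.ofHom R.π := fromΓ_SpecMap _
    have h2 := congrArg (fun g => g.hom ((Scheme.ΓSpecIso (CommRingCat.of R.E)).commRingCatIsoToRingEquiv.symm x)) h1
    refine h2.trans ?_
    change R.π ((Scheme.ΓSpecIso (CommRingCat.of R.E)).commRingCatIsoToRingEquiv
      ((Scheme.ΓSpecIso (CommRingCat.of R.E)).commRingCatIsoToRingEquiv.symm x)) = R.π x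
    rw [RingEquiv.apply_symm_apply]

theorem cl_eq_iff (R R' : RDef B₀ A) : R.cl = R'.cl ↔ R.Iso R' := by
  constructor
  · intro h
    obtain ⟨e⟩ : Nonempty (R.toDefSch.Iso R'.toDefSch) := Quotient.exact h
    exact (iso_ofDefSch_toDefSch R).trans ((ofDefSch_iso_of_iso e).trans (iso_ofDefSch_toDefSch R').symm)
  · intro h
    exact Quotient.sound (toDefSch_iso_of_iso h)

/-- `R'` with `h : R.E → R'.E` is the base change of `R` along `g` -/
structure IsBC (g : A ⟶ A') (R : RDef B₀ A) (R' : RDef B₀ A') (h : R.E →+* R'.E) : Prop where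
  hφ : ∀ a : A, h (R.φ a) = R'.φ (g a)
  hπ : ∀ x, R'.π (h x) = R.π x
  po : IsPushout (CommRingCat.ofHom R.φ) (CommRingCat.ofHom g.toAlgHom.toRingHom) (CommRingCat.ofHom h)
    (CommRingCat.ofHom R'.φ)

/-- base change of deformations is pushout of rings -/
theorem baseChange_iso_of_isBC {g : A ⟶ A'} {R : RDef B₀ A} {R' : RDef B₀ A'} {h : R.E →+* R'.E}
    (hbc : IsBC g R R' h) : Nonempty ((R.toDefSch.baseChange g).Iso R'.toDefSch) := by
  have hbig : IsPullback (Spec.map (CommRingCat.ofHom h)) (Spec.map (CommRingCat.ofHom R'.φ))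
      (Spec.map (CommRingCat.ofHom R.φ)) (Art.specMap g) :=
    isPullback_SpecMap_of_isPushout _ _ _ _ hbc.po
  let θ : pullback (Spec.map (CommRingCat.ofHom R.φ)) (Art.specMap g) ≅ Spec (CommRingCat.of R'.E) :=
    (IsPullback.of_hasPullback (Spec.map (CommRingCat.ofHom R.φ)) (Art.specMap g)).isoIsPullback _ _ hbig
  have hθfst : θ.hom ≫ Spec.map (CommRingCat.ofHom h) =
      pullback.fst (Spec.map (CommRingCat.ofHom R.φ)) (Art.specMap g) :=
    IsPullback.isoIsPullback_hom_fst _ _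
      (IsPullback.of_hasPullback (Spec.map (CommRingCat.ofHom R.φ)) (Art.specMap g)) hbig
  have hθsnd : θ.hom ≫ Spec.map (CommRingCat.ofHom R'.φ) =
      pullback.snd (Spec.map (CommRingCat.ofHom R.φ)) (Art.specMap g) :=
    IsPullback.isoIsPullback_hom_snd _ _
      (IsPullback.of_hasPullback (Spec.map (CommRingCat.ofHom R.φ)) (Art.specMap g)) hbig
  let ι : Spec (CommRingCat.of B₀) ⟶ pullback (Spec.map (CommRingCat.ofHom R.φ)) (Art.specMap g) :=
    (R.toDefSch.baseChange g).i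
  have hι1 : ι ≫ pullback.fst (Spec.map (CommRingCat.ofHom R.φ)) (Art.specMap g) =
      Spec.map (CommRingCat.ofHom R.π) := DefSch.baseChange_i_fst R.toDefSch g
  have hι2 : ι ≫ pullback.snd (Spec.map (CommRingCat.ofHom R.φ)) (Art.specMap g) =
      Spec.map (CommRingCat.ofHom (algebraMap k B₀)) ≫ Art.specRes A' := DefSch.baseChange_i_f R.toDefSch g
  have hi : ι ≫ θ.hom = Spec.map (CommRingCat.ofHom R'.π) := by
    apply hbig.hom_ext
    · rw [Category.assoc, hθfst, hι1, ← Spec.map_comp, ← CommRingCat.ofHom_comp]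
      congr 2
      ext x
      exact (hbc.hπ x).symm
    · rw [Category.assoc, hθsnd, hι2]
      exact (DefSch.i_f R'.toDefSch).symm
  exact ⟨⟨θ, hθsnd, hi⟩⟩

theorem map_cl_of_isBC {g : A ⟶ A'} {R : RDef B₀ A} {R' : RDef B₀ A'} {h : R.E →+* R'.E}
    (hbc : IsBC g R R' h) : (DefF (Λ := Λ) B₀).map g R.cl = R'.cl :=
  Quotient.sound (baseChange_iso_of_isBC hbc)

/-- the datum of a base change is a base change of data -/
theorem isBC_ofDefSch (ξ : Def B₀ A) (g : A ⟶ A') :
    IsBC g (ofDefSch ξ) (ofDefSch (ξ.baseChange g)) (pullback.fst ξ.f (Art.specMap g)).appTop.hom := by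
  haveI := isAffine_total ξ
  haveI : IsAffine (pullback ξ.f (Art.specMap g)) := isAffine_total (ξ.baseChange g)
  have hsq : IsPullback (pullback.fst ξ.f (Art.specMap g)) (pullback.snd ξ.f (Art.specMap g)) ξ.f
      (Spec.map (CommRingCat.ofHom g.toAlgHom.toRingHom)) := IsPullback.of_hasPullback _ _
  have hpo : IsPushout (toΓ ξ.f) (CommRingCat.ofHom g.toAlgHom.toRingHom)
      (pullback.fst ξ.f (Art.specMap g)).appTop (toΓ (pullback.snd ξ.f (Art.specMap g))) :=
    isPushout_rings g.toAlgHom.toRingHom (pullback.snd ξ.f (Art.specMap g)) ξ.f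
      (pullback.fst ξ.f (Art.specMap g)) hsq
  refine ⟨fun a => ?_, fun x => ?_, hpo⟩
  · exact congrArg (fun φ => φ.hom a) hpo.w
  · have h3 : (pullback.fst ξ.f (Art.specMap g)).appTop ≫ fromΓ (ξ.baseChange g).i = fromΓ ξ.i := by
      rw [← fromΓ_comp]
      exact congrArg fromΓ (DefSch.baseChange_i_fst ξ g)
    exact congrArg (fun φ => φ.hom x) h3

end RDef

end Groth.Agent.LibHull29
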