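import Groth.Agent.LibHull29b
import Groth.Agent.Lib.Helper12.MilnorAlg3

/-!
# `H0` and `S1` for the deformation functor of an affine scheme (seat helper29)

Ring-level Milnor patching (helper12 `milnor_ringHom`) transported through the dictionary of `LibHull29b`.
-/

set_option autoImplicit false
universe u
open CategoryTheory CategoryTheory.Limits AlgebraicGeometry

namespace Groth.Agent.LibHull29

open ArtFun ArtFun.Art Groth.Agent.LibAffDef29 Groth.Agent.LibDefDual29 Groth.Agent.LibDefRingL29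
open Groth.Agent.Lib.Helper12.SpecPushout Groth.Agent.Lib.Helper12.Ferrand1

section Pushout

/-- in a pushout of commutative rings along a surjection, the opposite map is surjective -/
theorem surjective_inl_of_isPushout {R S T P : CommRingCat.{u}} {f : R ⟶ S} {q : R ⟶ T} {inl : S ⟶ P}
    {inr : T ⟶ P} (h : IsPushout f q inl inr) (hq : Function.Surjective q.hom) :
    Function.Surjective inl.hom := by
  have h1 := CommRingCat.closure_range_union_range_eq_top_of_isPushout h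
  have h2 : Set.range inr ⊆ Set.range inl := by
    rintro _ ⟨t, rfl⟩
    obtain ⟨r, rfl⟩ := hq t
    refine ⟨f.hom r, ?_⟩
    exact congrArg (fun φ => φ.hom r) h.w
  rw [Set.union_eq_self_of_subset_right h2] at h1
  have h3 : Subring.closure (Set.range inl) = inl.hom.range := by
    have : (Set.range inl : Set P) = (inl.hom.range : Set P) := by
      ext x
      exact Iff.rfl
    rw [this, Subring.closure_eq]
  rw [h3] at h1
  intro x
  have hx : x ∈ inl.hom.range := by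
    rw [h1]
    exact Subring.mem_top x
  exact hx

end Pushout

variable {Λ k : Type u} [CommRing Λ] [Field k] [Algebra Λ k] {B₀ : Type u} [CommRing B₀] [Algebra k B₀]

namespace RDef

variable {A A' : Art Λ k}

/-- base change squares are invariant under isomorphisms of the data -/
theorem IsBC.of_iso {g : A ⟶ A'} {R R₁ : RDef B₀ A} {R' R₁' : RDef B₀ A'} {h : R₁.E →+* R₁'.E}
    (hbc : IsBC g R₁ R₁' h) (ψ : R.E ≃+* R₁.E) (hψφ : ∀ a, ψ (R.φ a) = R₁.φ a) (hψπ : ∀ x, R₁.π (ψ x) = R.π x)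
    (ψ' : R₁'.E ≃+* R'.E) (hψ'φ : ∀ a, ψ' (R₁'.φ a) = R'.φ a) (hψ'π : ∀ x, R'.π (ψ' x) = R₁'.π x) :
    IsBC g R R' (((ψ' : R₁'.E →+* R'.E).comp h).comp (ψ : R.E →+* R₁.E)) := by
  refine ⟨fun a => ?_, fun x => ?_, ?_⟩
  · change ψ' (h (ψ (R.φ a))) = _
    rw [hψφ, hbc.hφ, hψ'φ]
  · change R'.π (ψ' (h (ψ x))) = _
    rw [hψ'π, hbc.hπ, hψπ]
  · refine hbc.po.of_iso (CategoryTheory.Iso.refl _) ψ.symm.toCommRingCatIso (CategoryTheory.Iso.refl _)
      ψ'.toCommRingCatIso ?_ ?_ ?_ ?_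
    · rw [CategoryTheory.Iso.refl_hom, Category.id_comp]
      ext a
      change ψ.symm (R₁.φ a) = R.φ a
      rw [← hψφ a, RingEquiv.symm_apply_apply]
    · exact (Category.comp_id _).trans (Category.id_comp _).symm
    · ext x
      change ψ' (h x) = ψ' (h (ψ (ψ.symm x)))
      rw [RingEquiv.apply_symm_apply]
    · rw [CategoryTheory.Iso.refl_hom, Category.id_comp]
      ext a
      exact hψ'φ a

/-- every datum has a base change along every morphism -/
theorem exists_isBC (g : A ⟶ A') (R : RDef B₀ A) : ∃ (R' : RDef B₀ A') (h : R.E →+* R'.E), IsBC g R R' h := by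
  obtain ⟨ψ, h1, h2⟩ := iso_ofDefSch_toDefSch R
  have hbc := isBC_ofDefSch R.toDefSch g
  refine ⟨ofDefSch (R.toDefSch.baseChange g), _,
    hbc.of_iso ψ h1 h2 (RingEquiv.refl _) (fun _ => rfl) (fun _ => rfl)⟩

/-- a base change along a surjection is surjective -/
theorem IsBC.surjective {g : A ⟶ A'} {R : RDef B₀ A} {R' : RDef B₀ A'} {h : R.E →+* R'.E}
    (hbc : IsBC g R R' h) (hg : Function.Surjective g) : Function.Surjective h :=
  surjective_inl_of_isPushout hbc.po hg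

/-- a flat ring over `C` whose base change along `p` is a deformation datum is a deformation datum -/
noncomputable def ofPushout {C : Art Λ k} (p : C ⟶ A) (R₁ : RDef B₀ A) (E : Type u) [CommRing E] (μ : C →+* E)
    (hμ : μ.Flat) (proj : E →+* R₁.E)
    (hpo : IsPushout (CommRingCat.ofHom μ) (CommRingCat.ofHom p.toAlgHom.toRingHom) (CommRingCat.ofHom proj)
      (CommRingCat.ofHom R₁.φ)) : RDef B₀ C :=
  have hbig : IsPushout (CommRingCat.ofHom μ) (CommRingCat.ofHom C.res.toRingHom)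
      (CommRingCat.ofHom (R₁.π.comp proj)) (CommRingCat.ofHom (algebraMap k B₀)) := by
    have h1 := hpo.paste_vert R₁.isPushout
    have h2 : CommRingCat.ofHom p.toAlgHom.toRingHom ≫ CommRingCat.ofHom A.res.toRingHom =
        CommRingCat.ofHom C.res.toRingHom := by
      ext c
      exact Art.res_app p c
    rw [h2] at h1
    exact h1
  { E := E
    φ := μ
    π := R₁.π.comp proj
    flat := hμ
    surj := surjective_inl_of_isPushout hbig C.res_surjective
    ker_le := ker_le_map_of_isPushout _ _ _ _ hbig C.res_surjective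
    comm := fun c => congrArg (fun φ => φ.hom c) hbig.w }

theorem isBC_ofPushout {C : Art Λ k} (p : C ⟶ A) (R₁ : RDef B₀ A) (E : Type u) [CommRing E] (μ : C →+* E)
    (hμ : μ.Flat) (proj : E →+* R₁.E)
    (hpo : IsPushout (CommRingCat.ofHom μ) (CommRingCat.ofHom p.toAlgHom.toRingHom) (CommRingCat.ofHom proj)
      (CommRingCat.ofHom R₁.φ)) : IsBC p (ofPushout p R₁ E μ hμ proj hpo) R₁ proj :=
  ⟨fun c => congrArg (fun φ => φ.hom c) hpo.w, fun _ => rfl, hpo⟩

end RDef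

section H0

open RDef

/-- the trivial datum over the residue field -/
noncomputable def RDef.self : RDef B₀ (base Λ k) where
  E := B₀
  φ := algebraMap k B₀
  π := RingHom.id B₀
  flat := (RingHom.flat_algebraMap_iff (R := k) (S := B₀)).mpr inferInstance
  surj := Function.surjective_id
  ker_le := by
    intro x hx
    have hx0 : x = 0 := hx
    rw [hx0]
    exact Ideal.zero_mem _
  comm := fun _ => rfl

lemma RDef.π_injective_base (R : RDef B₀ (base Λ k)) : Function.Injective R.π := by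
  rw [injective_iff_map_eq_zero]
  intro x hx
  have h1 : x ∈ Ideal.map R.φ (RingHom.ker (base Λ k).res.toRingHom) := R.ker_le hx
  have h2 : RingHom.ker (base Λ k).res.toRingHom = ⊥ := by
    rw [eq_bot_iff]
    intro a ha
    exact ha
  rw [h2, Ideal.map_bot] at h1
  exact h1

theorem h0_DefF : H0 (DefF (Λ := Λ) (k := k) B₀) := by
  refine ⟨⟨(RDef.self (Λ := Λ) (k := k) (B₀ := B₀)).cl⟩, ⟨fun q q' => ?_⟩⟩
  obtain ⟨R, rfl⟩ := cl_surjective (Λ := Λ) (k := k) q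
  obtain ⟨R', rfl⟩ := cl_surjective (Λ := Λ) (k := k) q'
  rw [cl_eq_iff]
  let e : R.E ≃+* B₀ := RingEquiv.ofBijective R.π ⟨R.π_injective_base, R.surj⟩
  let e' : R'.E ≃+* B₀ := RingEquiv.ofBijective R'.π ⟨R'.π_injective_base, R'.surj⟩
  refine ⟨e.trans e'.symm, fun a => ?_, fun x => ?_⟩
  · rw [RingEquiv.trans_apply, RingEquiv.symm_apply_eq]
    change R.π (R.φ a) = R'.π (R'.φ a)
    rw [R.comm, R'.comm]
  · change R'.π (e'.symm (e x)) = R.π x
    exact e'.apply_symm_apply (e x)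

end H0

section S1

open RDef

variable {B A A' A'' : Art Λ k}

/-- Milnor patching of deformation data -/
theorem exists_glue (p' : B ⟶ A') (p'' : B ⟶ A'') (f' : A' ⟶ A) (f'' : A'' ⟶ A)
    (h : IsFibreProd p' p'' f' f'') (hf'' : Function.Surjective f'')
    (R₁ : RDef B₀ A') (R₂ : RDef B₀ A'') (R₀ : RDef B₀ A) (u₁ : R₁.E →+* R₀.E) (u₂ : R₂.E →+* R₀.E)
    (bc₁ : IsBC f' R₁ R₀ u₁) (bc₂ : IsBC f'' R₂ R₀ u₂) :
    ∃ (R : RDef B₀ B) (h₁ : R.E →+* R₁.E) (h₂ : R.E →+* R₂.E), IsBC p' R R₁ h₁ ∧ IsBC p'' R R₂ h₂ := by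
  set p : A'' →+* A := f''.toAlgHom.toRingHom with hp
  set q : A' →+* A := f'.toAlgHom.toRingHom with hq
  have hu₂ : Function.Surjective u₂ := bc₂.surjective hf''
  have hp₁ : u₂.comp R₂.φ = R₀.φ.comp p := by
    ext a
    exact bc₂.hφ a
  have hq₁ : u₁.comp R₁.φ = R₀.φ.comp q := by
    ext a
    exact bc₁.hφ a
  let γ₀ : B →+* Pr p q :=
    RingHom.codRestrict (RingHom.prod p'.toAlgHom.toRingHom p''.toAlgHom.toRingHom) (Pr p q)
      (fun b => h.w_apply b)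
  have hγ₀ : Function.Bijective γ₀ := by
    constructor
    · intro b₁ b₂ hb
      have h1 : p' b₁ = p' b₂ := congrArg (fun x : Pr p q => x.1.1) hb
      have h2 : p'' b₁ = p'' b₂ := congrArg (fun x : Pr p q => x.1.2) hb
      exact h.inj b₁ b₂ h1 h2
    · rintro ⟨⟨a', a''⟩, hx⟩
      obtain ⟨b, hb1, hb2⟩ := h.surj a' a'' hx
      exact ⟨b, Subtype.ext (Prod.ext hb1 hb2)⟩
  obtain ⟨-, hflat, -, -, -, -, hpoL, hpoR⟩ :=
    Groth.Agent.Lib.Helper12.MilnorAlg.milnor_ringHom p q u₂ u₁ R₂.φ R₁.φ R₀.φ hp₁ hq₁ hf'' hu₂ γ₀ hγ₀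
      bc₁.po bc₂.po
  set μ : B →+* Pr u₂ u₁ := (mapPr p q u₂ u₁ R₂.φ R₁.φ R₀.φ hp₁ hq₁).comp γ₀ with hμ
  have hμflat : μ.Flat := hflat.mpr ⟨R₁.flat, R₂.flat⟩
  have e1 : (φ₁ p q).comp γ₀ = p'.toAlgHom.toRingHom := by
    ext b
    rfl
  have e2 : (φ₂ p q).comp γ₀ = p''.toAlgHom.toRingHom := by
    ext b
    rfl
  rw [e1] at hpoL
  rw [e2] at hpoR
  let R : RDef B₀ B := ofPushout p' R₁ (Pr u₂ u₁) μ hμflat (φ₁ u₂ u₁) hpoL.flip
  refine ⟨R, φ₁ u₂ u₁, φ₂ u₂ u₁, isBC_ofPushout p' R₁ (Pr u₂ u₁) μ hμflat (φ₁ u₂ u₁) hpoL.flip, ?_, ?_, hpoR.flip⟩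
  · intro b
    rfl
  · intro x
    change R₂.π (φ₂ u₂ u₁ x) = R₁.π (φ₁ u₂ u₁ x)
    rw [← bc₂.hπ, ← bc₁.hπ]
    exact congrArg R₀.π (q_φ₁ u₂ u₁ x).symm

theorem s1_DefF : S1 (DefF (Λ := Λ) (k := k) B₀) := by
  intro B A A' A'' p' p'' f' f'' h hf''
  rintro ⟨⟨q₁, q₂⟩, hq⟩
  obtain ⟨R₁, hR₁⟩ := cl_surjective (Λ := Λ) (k := k) q₁
  obtain ⟨R₂, hR₂⟩ := cl_surjective (Λ := Λ) (k := k) q₂
  subst hR₁ hR₂
  obtain ⟨R₁', h₁, bc₁⟩ := exists_isBC f' R₁
  obtain ⟨R₂', h₂, bc₂⟩ := exists_isBC f'' R₂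
  have hq' : (DefF (Λ := Λ) B₀).map f' R₁.cl = (DefF (Λ := Λ) B₀).map f'' R₂.cl := hq
  rw [map_cl_of_isBC bc₁, map_cl_of_isBC bc₂, cl_eq_iff] at hq'
  obtain ⟨ψ, hψ1, hψ2⟩ := hq'
  have bc₁' := bc₁.of_iso (RingEquiv.refl _) (fun _ => rfl) (fun _ => rfl) ψ hψ1 hψ2
  obtain ⟨R, g₁, g₂, hg₁, hg₂⟩ := exists_glue p' p'' f' f'' h hf'' R₁ R₂ R₂' _ h₂ bc₁' bc₂
  refine ⟨R.cl, ?_⟩
  apply Subtype.ext
  apply Prod.ext
  · exact map_cl_of_isBC hg₁
  · exact map_cl_of_isBC hg₂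

end S1

end Groth.Agent.LibHull29
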