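import Groth.Agent.LibHull29c
import Groth.Agent.LibRigid29a

/-!
# `Heps` for the deformation functor of an affine scheme (seat helper29)

For `B = A' ×_k k[ε]` a flat `B`-algebra `E` is the fibre product of its base changes to `A'` and `k[ε]`
over `B₀`; hence the comparison map of the deformation functor is injective (surjectivity is `S1`).
-/

set_option autoImplicit false
universe u
open CategoryTheory CategoryTheory.Limits AlgebraicGeometry

namespace Groth.Agent.LibHull29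

open ArtFun ArtFun.Art Groth.Agent.LibAffDef29 Groth.Agent.LibDefDual29 Groth.Agent.LibDefRingL29

variable {Λ k : Type u} [CommRing Λ] [Field k] [Algebra Λ k] {B₀ : Type u} [CommRing B₀] [Algebra k B₀]

namespace RDef

variable {A : Art Λ k}

lemma map_le_ker (R : RDef B₀ A) : Ideal.map R.φ (RingHom.ker A.res.toRingHom) ≤ RingHom.ker R.π := by
  rw [Ideal.map_le_iff_le_comap]
  intro a ha
  rw [Ideal.mem_comap, RingHom.mem_ker, R.comm]
  have ha' : A.res a = 0 := ha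
  rw [ha', map_zero]

lemma ker_π_eq (R : RDef B₀ A) : RingHom.ker R.π = Ideal.map R.φ (RingHom.ker A.res.toRingHom) :=
  le_antisymm R.ker_le R.map_le_ker

/-- the element `ε` of the dual numbers as an element of the object `dual Λ k` -/
def eps : (dual Λ k : Art Λ k) := (DualNumber.eps : DualNumber k)

lemma eps_mul_eps : (eps : (dual Λ k : Art Λ k)) * eps = 0 :=
  (DualNumber.eps_mul_eps : (DualNumber.eps : DualNumber k) * DualNumber.eps = 0)

lemma ker_res_dual : RingHom.ker (dual Λ k).res.toRingHom = Ideal.span {(eps : (dual Λ k : Art Λ k))} := by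
  have h1 : RingHom.ker (dual Λ k).res.toRingHom = RingHom.ker (TrivSqZeroExt.fstHom k k k) := by
    ext x
    exact Iff.rfl
  rw [h1]
  exact ker_fstHom k

lemma ker_π_dual (R : RDef B₀ (dual Λ k)) : RingHom.ker R.π = Ideal.span {R.φ eps} := by
  rw [R.ker_π_eq, ker_res_dual, Ideal.map_span, Set.image_singleton]

lemma dual_ann (R : RDef B₀ (dual Λ k)) (w : R.E) (hw : R.φ eps * w = 0) : R.π w = 0 := by
  letI : Algebra (DualNumber k) R.E := RingHom.toAlgebra (R.φ : DualNumber k →+* R.E)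
  haveI : Module.Flat (DualNumber k) R.E := R.flat
  have h3 : (DualNumber.eps : DualNumber k) • w ∈
      (⊥ : Ideal (DualNumber k)) • (⊤ : Submodule (DualNumber k) R.E) := by
    rw [Algebra.smul_def]
    change R.φ eps * w ∈ _
    rw [hw]
    exact Submodule.zero_mem _
  have h4 := Groth.Agent.LibRigid29.mem_smul_top_of_flat (⊥ : Ideal (DualNumber k))
    (RingHom.ker (TrivSqZeroExt.fstHom k k k) : Ideal (DualNumber k)) DualNumber.eps
    (fun a ha => mem_ker_fstHom_of_eps_mul k a ha) w h3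
  rw [Ideal.smul_top_eq_map] at h4
  have h5 : w ∈ Ideal.map R.φ (RingHom.ker (dual Λ k).res.toRingHom) := h4
  exact R.map_le_ker h5

end RDef

section Heps

open RDef

lemma mul_eps_eq_of_res_eq (a b : (dual Λ k : Art Λ k)) (hab : (dual Λ k).res a = (dual Λ k).res b) :
    a * eps = b * eps := by
  have h2 : a - b ∈ RingHom.ker (dual Λ k).res.toRingHom := by
    rw [RingHom.mem_ker]
    change (dual Λ k).res (a - b) = 0
    rw [map_sub, hab, sub_self]
  rw [ker_res_dual, Ideal.mem_span_singleton'] at h2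
  obtain ⟨c, hc⟩ := h2
  have h3 : (a - b) * eps = 0 := by
    rw [← hc, mul_assoc, eps_mul_eps, mul_zero]
  rw [sub_mul, sub_eq_zero] at h3
  exact h3

variable {B A' : Art Λ k}

/-- a flat algebra over `A' ×_k k[ε]` is the fibre product of its base changes -/
theorem bijective_prod_of_isBC (p' : B ⟶ A') (p'' : B ⟶ dual Λ k)
    (h : IsFibreProd p' p'' (toBase A') (toBase (dual Λ k)))
    (R : RDef B₀ B) (R₁ : RDef B₀ A') (R₂ : RDef B₀ (dual Λ k)) (h₁ : R.E →+* R₁.E) (h₂ : R.E →+* R₂.E)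
    (bc₁ : IsBC p' R R₁ h₁) (bc₂ : IsBC p'' R R₂ h₂) :
    (∀ x, h₁ x = 0 → h₂ x = 0 → x = 0) ∧
      ∀ x₁ x₂, R₁.π x₁ = R₂.π x₂ → ∃ x, h₁ x = x₁ ∧ h₂ x = x₂ := by
  -- `p'` is surjective
  have hp' : Function.Surjective p' := by
    intro a'
    obtain ⟨b, hb, -⟩ := h.surj a' (TrivSqZeroExt.inl (A'.res a')) rfl
    exact ⟨b, hb⟩
  have hh₁ : Function.Surjective h₁ := bc₁.surjective hp'
  -- the element `t`
  obtain ⟨t, ht1, ht2⟩ := h.surj 0 eps (by
    change A'.res 0 = (dual Λ k).res eps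
    rw [map_zero]
    rfl)
  have hp'mul : ∀ x y : B, p' (x * y) = p' x * p' y := fun x y => map_mul p'.toAlgHom x y
  have hp''mul : ∀ x y : B, p'' (x * y) = p'' x * p'' y := fun x y => map_mul p''.toAlgHom x y
  have hp'0 : p' (0 : B) = 0 := map_zero p'.toAlgHom
  have hp''0 : p'' (0 : B) = 0 := map_zero p''.toAlgHom
  -- elements of the maximal ideal kill `t`
  have hmt : ∀ m : B, B.res m = 0 → m * t = 0 := by
    intro m hm
    apply h.inj
    · rw [hp'mul, ht1, mul_zero, hp'0]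
    · rw [hp''mul, ht2, hp''0]
      have h1 : (dual Λ k).res (p'' m) = (dual Λ k).res 0 := by rw [Art.res_app, hm, map_zero]
      rw [mul_eps_eq_of_res_eq _ _ h1, zero_mul]
  -- the kernel of `p'` is generated by `t`
  have hker : RingHom.ker p'.toAlgHom.toRingHom ≤ Ideal.span {t} := by
    intro b hb
    have hb0 : p' b = 0 := hb
    have h1 : (dual Λ k).res (p'' b) = 0 := by
      rw [Art.res_app, ← Art.res_app p' b, hb0, map_zero]
    have h2 : p'' b ∈ RingHom.ker (dual Λ k).res.toRingHom := h1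
    rw [ker_res_dual, Ideal.mem_span_singleton'] at h2
    obtain ⟨c, hc⟩ := h2
    obtain ⟨c', hc'⟩ := B.res_surjective ((dual Λ k).res c)
    rw [Ideal.mem_span_singleton']
    refine ⟨c', ?_⟩
    apply h.inj
    · rw [hp'mul, ht1, mul_zero, hb0]
    · rw [hp''mul, ht2, ← hc]
      apply mul_eps_eq_of_res_eq
      rw [Art.res_app, hc']
  have hkerE : ∀ x, h₁ x = 0 → ∃ y, x = R.φ t * y := by
    intro x hx
    have h1 : x ∈ RingHom.ker (CommRingCat.ofHom h₁).hom := hx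
    have h2 := ker_le_map_of_isPushout _ _ _ _ bc₁.po hp' h1
    have h3 : Ideal.map R.φ (RingHom.ker p'.toAlgHom.toRingHom) ≤ Ideal.span {R.φ t} := by
      refine (Ideal.map_mono hker).trans ?_
      rw [Ideal.map_span, Set.image_singleton]
    have h4 := h3 h2
    rw [Ideal.mem_span_singleton'] at h4
    obtain ⟨y, hy⟩ := h4
    exact ⟨y, by rw [← hy, mul_comm]⟩
  have hh₁t : h₁ (R.φ t) = 0 := by
    rw [bc₁.hφ, ht1, map_zero]
  have hh₂t : h₂ (R.φ t) = R₂.φ eps := by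
    rw [bc₂.hφ, ht2]
  have hπt : ∀ y, R.π y = 0 → R.φ t * y = 0 := by
    intro y hy
    have h1 : y ∈ Ideal.map R.φ (RingHom.ker B.res.toRingHom) := R.ker_le hy
    have h2 : Ideal.map R.φ (RingHom.ker B.res.toRingHom) ≤
        (Submodule.span R.E {R.φ t}).annihilator := by
      rw [Ideal.map_le_iff_le_comap]
      intro m hm
      rw [Ideal.mem_comap, Submodule.mem_annihilator_span_singleton, smul_eq_mul, ← map_mul]
      have hm' : B.res m = 0 := hm
      rw [hmt m hm', map_zero]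
    have h3 := h2 h1
    rw [Submodule.mem_annihilator_span_singleton, smul_eq_mul] at h3
    rw [mul_comm]
    exact h3
  refine ⟨fun x hx1 hx2 => ?_, fun x₁ x₂ hx => ?_⟩
  · obtain ⟨y, rfl⟩ := hkerE x hx1
    apply hπt
    rw [← bc₂.hπ]
    apply R₂.dual_ann
    rw [← hh₂t, ← map_mul]
    exact hx2
  · obtain ⟨y, rfl⟩ := hh₁ x₁
    have h1 : x₂ - h₂ y ∈ RingHom.ker R₂.π := by
      rw [RingHom.mem_ker, map_sub, bc₂.hπ, ← hx, bc₁.hπ, sub_self]
    rw [R₂.ker_π_dual, Ideal.mem_span_singleton'] at h1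
    obtain ⟨z₂, hz₂⟩ := h1
    obtain ⟨z, hz⟩ := R.surj (R₂.π z₂)
    have h2 : h₂ z - z₂ ∈ RingHom.ker R₂.π := by
      rw [RingHom.mem_ker, map_sub, bc₂.hπ, hz, sub_self]
    rw [R₂.ker_π_dual, Ideal.mem_span_singleton'] at h2
    obtain ⟨w, hw⟩ := h2
    have h3 : R₂.φ eps * h₂ z = R₂.φ eps * z₂ := by
      have : R₂.φ eps * (h₂ z - z₂) = 0 := by
        rw [← hw, mul_comm w, ← mul_assoc, ← map_mul, eps_mul_eps, map_zero, zero_mul]
      rw [mul_sub, sub_eq_zero] at this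
      exact this
    refine ⟨y + R.φ t * z, ?_, ?_⟩
    · rw [map_add, map_mul, hh₁t, zero_mul, add_zero]
    · rw [map_add, map_mul, hh₂t, h3, mul_comm, hz₂]
      ring

open Groth.Agent.Lib.Helper12.SpecPushout in
/-- two flat algebras over `A' ×_k k[ε]` with the same base changes are isomorphic -/
theorem iso_of_isBC (p' : B ⟶ A') (p'' : B ⟶ dual Λ k)
    (h : IsFibreProd p' p'' (toBase A') (toBase (dual Λ k)))
    (R R' : RDef B₀ B) (R₁ : RDef B₀ A') (R₂ : RDef B₀ (dual Λ k))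
    (h₁ : R.E →+* R₁.E) (h₂ : R.E →+* R₂.E) (h₁' : R'.E →+* R₁.E) (h₂' : R'.E →+* R₂.E)
    (bc₁ : IsBC p' R R₁ h₁) (bc₂ : IsBC p'' R R₂ h₂) (bc₁' : IsBC p' R' R₁ h₁') (bc₂' : IsBC p'' R' R₂ h₂') :
    R.Iso R' := by
  obtain ⟨hinj, hsurj⟩ := bijective_prod_of_isBC p' p'' h R R₁ R₂ h₁ h₂ bc₁ bc₂
  obtain ⟨hinj', hsurj'⟩ := bijective_prod_of_isBC p' p'' h R' R₁ R₂ h₁' h₂' bc₁' bc₂'
  let ν : R.E →+* Pr R₂.π R₁.π := RingHom.codRestrict (h₁.prod h₂) (Pr R₂.π R₁.π)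
    (fun x => by
      change R₁.π (h₁ x) = R₂.π (h₂ x)
      rw [bc₁.hπ, bc₂.hπ])
  let ν' : R'.E →+* Pr R₂.π R₁.π := RingHom.codRestrict (h₁'.prod h₂') (Pr R₂.π R₁.π)
    (fun x => by
      change R₁.π (h₁' x) = R₂.π (h₂' x)
      rw [bc₁'.hπ, bc₂'.hπ])
  have hν : Function.Bijective ν := by
    constructor
    · rw [injective_iff_map_eq_zero]
      intro x hx
      exact hinj x (congrArg (fun y : Pr R₂.π R₁.π => y.1.1) hx) (congrArg (fun y : Pr R₂.π R₁.π => y.1.2) hx)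
    · rintro ⟨⟨x₁, x₂⟩, hx⟩
      obtain ⟨x, e1, e2⟩ := hsurj x₁ x₂ hx
      exact ⟨x, Subtype.ext (Prod.ext e1 e2)⟩
  have hν' : Function.Bijective ν' := by
    constructor
    · rw [injective_iff_map_eq_zero]
      intro x hx
      exact hinj' x (congrArg (fun y : Pr R₂.π R₁.π => y.1.1) hx) (congrArg (fun y : Pr R₂.π R₁.π => y.1.2) hx)
    · rintro ⟨⟨x₁, x₂⟩, hx⟩
      obtain ⟨x, e1, e2⟩ := hsurj' x₁ x₂ hx
      exact ⟨x, Subtype.ext (Prod.ext e1 e2)⟩
  let e : R.E ≃+* Pr R₂.π R₁.π := RingEquiv.ofBijective ν hν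
  let e' : R'.E ≃+* Pr R₂.π R₁.π := RingEquiv.ofBijective ν' hν'
  refine ⟨e.trans e'.symm, fun b => ?_, fun x => ?_⟩
  · rw [RingEquiv.trans_apply, RingEquiv.symm_apply_eq]
    apply Subtype.ext
    apply Prod.ext
    · change h₁ (R.φ b) = h₁' (R'.φ b)
      rw [bc₁.hφ, bc₁'.hφ]
    · change h₂ (R.φ b) = h₂' (R'.φ b)
      rw [bc₂.hφ, bc₂'.hφ]
  · have h1 : e' (e'.symm (e x)) = e x := e'.apply_symm_apply (e x)
    have h2 : h₁' (e'.symm (e x)) = h₁ x := congrArg (fun y : Pr R₂.π R₁.π => y.1.1) h1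
    change R'.π (e'.symm (e x)) = R.π x
    rw [← bc₁'.hπ, h2, bc₁.hπ]

theorem heps_DefF : Heps (DefF (Λ := Λ) (k := k) B₀) := by
  intro B A' p' p'' h
  have hsurj : Function.Surjective (toBase (dual Λ k)) := (dual Λ k).res_surjective
  refine ⟨?_, s1_DefF p' p'' (toBase A') (toBase (dual Λ k)) h hsurj⟩
  intro z z' hzz'
  obtain ⟨R, rfl⟩ := cl_surjective (Λ := Λ) (k := k) z
  obtain ⟨R', rfl⟩ := cl_surjective (Λ := Λ) (k := k) z'
  have e1 : (DefF (Λ := Λ) (k := k) B₀).map p' R.cl = (DefF (Λ := Λ) (k := k) B₀).map p' R'.cl :=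
    congrArg (fun w => w.1.1) hzz'
  have e2 : (DefF (Λ := Λ) (k := k) B₀).map p'' R.cl = (DefF (Λ := Λ) (k := k) B₀).map p'' R'.cl :=
    congrArg (fun w => w.1.2) hzz'
  obtain ⟨R₁, h₁, bc₁⟩ := exists_isBC p' R
  obtain ⟨R₂, h₂, bc₂⟩ := exists_isBC p'' R
  obtain ⟨R₁', h₁', bc₁'⟩ := exists_isBC p' R'
  obtain ⟨R₂', h₂', bc₂'⟩ := exists_isBC p'' R'
  rw [map_cl_of_isBC bc₁, map_cl_of_isBC bc₁', cl_eq_iff] at e1
  rw [map_cl_of_isBC bc₂, map_cl_of_isBC bc₂', cl_eq_iff] at e2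
  obtain ⟨ψ₁, a1, a2⟩ := e1.symm
  obtain ⟨ψ₂, b1, b2⟩ := e2.symm
  have bc₁'' := bc₁'.of_iso (RingEquiv.refl _) (fun _ => rfl) (fun _ => rfl) ψ₁ a1 a2
  have bc₂'' := bc₂'.of_iso (RingEquiv.refl _) (fun _ => rfl) (fun _ => rfl) ψ₂ b1 b2
  rw [cl_eq_iff]
  exact iso_of_isBC p' p'' h R R' R₁ R₂ h₁ h₂ _ _ bc₁ bc₂ bc₁'' bc₂''

end Heps

end Groth.Agent.LibHull29
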