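import Groth.Agent.LibHull29d
import Groth.Agent.LibExal29

/-!
# Extensions of `B₀` by `B₀ ⊗ W` as flat algebras over `k[W]` (seat helper29)

For an extension `X` of the `k`-algebra `B₀` by a `B₀`-module `M` and a `k`-linear map `j : W → M` inducing a
bijection `W ⊗_k B₀ → M`, the middle ring `X.E` is a free (hence flat) algebra over `k[W] = k ⊕ W` through
`(a, w) ↦ a + incl (j w)`.
-/

set_option autoImplicit false
universe u
open TensorProduct

namespace Groth.Agent.LibHull29

open Groth.Agent.LibExal29

section ExtFlat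

variable {k : Type u} [Field k] {B₀ : Type u} [CommRing B₀] [Algebra k B₀]
variable {W : Type u} [AddCommGroup W] [Module k W] [Module kᵐᵒᵖ W] [IsCentralScalar k W]
variable {M : Type u} [AddCommGroup M] [Module B₀ M] [Module k M] [IsScalarTower k B₀ M]
variable (X : Exal.Ext k B₀ M) (j : W →ₗ[k] M)

/-- `incl` as a `k`-linear map -/
def inclK : M →ₗ[k] X.E where
  toFun := X.incl
  map_add' := map_add _
  map_smul' := fun a m => by
    change X.incl (a • m) = a • X.incl m
    rw [Algebra.smul_def, X.isExtension.mul_incl, AlgHom.commutes, algebraMap_smul]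

omit [Module k M] [IsScalarTower k B₀ M] in
lemma incl_mul_incl' (a b : M) : X.incl a * X.incl b = 0 := by
  have h : X.proj (X.incl a) = 0 := (X.isExtension.exact _).mpr ⟨a, rfl⟩
  rw [X.isExtension.mul_incl, h, zero_smul, map_zero]

/-- the structure map `k[W] → E` of an extension -/
noncomputable def rho : TrivSqZeroExt k W →ₐ[k] X.E :=
  TrivSqZeroExt.lift (Algebra.ofId k X.E) ((inclK X).comp j)
    (fun x y => incl_mul_incl' X _ _)
    (fun r x => by
      change X.incl (j (r • x)) = algebraMap k X.E r * X.incl (j x)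
      rw [map_smul, ← Algebra.smul_def]
      exact (inclK X).map_smul r (j x))
    (fun r x => by
      change X.incl (j (MulOpposite.op r • x)) = X.incl (j x) * algebraMap k X.E r
      rw [op_smul_eq_smul, map_smul, mul_comm, ← Algebra.smul_def]
      exact (inclK X).map_smul r (j x))

lemma rho_apply (t : TrivSqZeroExt k W) : rho X j t = algebraMap k X.E t.fst + X.incl (j t.snd) := rfl

lemma rho_inr (w : W) : rho X j (TrivSqZeroExt.inr w) = X.incl (j w) := by
  rw [rho_apply, TrivSqZeroExt.fst_inr, TrivSqZeroExt.snd_inr, map_zero, zero_add]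

lemma proj_rho (t : TrivSqZeroExt k W) : X.proj (rho X j t) = algebraMap k B₀ t.fst := by
  have h : X.proj (X.incl (j t.snd)) = 0 := (X.isExtension.exact _).mpr ⟨_, rfl⟩
  rw [rho_apply, map_add, h, add_zero, AlgHom.commutes]

/-- the comparison map `W ⊗ B₀ → M`, `w ⊗ b ↦ b • j w` -/
noncomputable def jB : W ⊗[k] B₀ →ₗ[k] M :=
  TensorProduct.lift
    { toFun := fun w =>
        { toFun := fun b => b • j w
          map_add' := fun b b' => add_smul _ _ _
          map_smul' := fun c b => by
            change (c • b) • j w = c • (b • j w)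
            rw [smul_assoc] }
      map_add' := fun w w' => by
        ext b
        change b • j (w + w') = b • j w + b • j w'
        rw [map_add, smul_add]
      map_smul' := fun c w => by
        ext b
        change b • j (c • w) = c • (b • j w)
        rw [map_smul, smul_comm] }

lemma jB_tmul (w : W) (b : B₀) : jB (B₀ := B₀) j (w ⊗ₜ[k] b) = b • j w := rfl

/-- `E` is flat over `k[W]` -/
theorem rho_flat (hj : Function.Bijective (jB (B₀ := B₀) j)) : (rho X j).toRingHom.Flat := by
  letI : Algebra (TrivSqZeroExt k W) X.E := (rho X j).toRingHom.toAlgebra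
  haveI : IsScalarTower k (TrivSqZeroExt k W) X.E := ⟨fun c d x => by
    change rho X j (c • d) * x = c • (rho X j d * x)
    rw [map_smul, smul_mul_assoc]⟩
  change Module.Flat (TrivSqZeroExt k W) X.E
  obtain ⟨σ, hσ⟩ := X.proj.toLinearMap.exists_rightInverse_of_surjective
    (LinearMap.range_eq_top.mpr X.isExtension.proj_surjective)
  have hσ' : ∀ b, X.proj (σ b) = b := fun b => LinearMap.congr_fun hσ b
  let Ψ : TrivSqZeroExt k W ⊗[k] B₀ →ₗ[TrivSqZeroExt k W] X.E := σ.liftBaseChange (TrivSqZeroExt k W)
  let ir : W ⊗[k] B₀ →ₗ[k] TrivSqZeroExt k W ⊗[k] B₀ := (TrivSqZeroExt.inrHom k W).rTensor B₀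
  have hsmul : ∀ (d : TrivSqZeroExt k W) (x : X.E), d • x = rho X j d * x := fun d x => rfl
  have hdec : ∀ z : TrivSqZeroExt k W ⊗[k] B₀, ∃ (b : B₀) (m : W ⊗[k] B₀),
      z = (1 : TrivSqZeroExt k W) ⊗ₜ[k] b + ir m := by
    intro z
    induction z using TensorProduct.induction_on with
    | zero => exact ⟨0, 0, by rw [TensorProduct.tmul_zero, map_zero, add_zero]⟩
    | tmul d b =>
      refine ⟨d.fst • b, d.snd ⊗ₜ[k] b, ?_⟩
      have hd : d = d.fst • (1 : TrivSqZeroExt k W) + TrivSqZeroExt.inr d.snd := by
        rw [← Algebra.algebraMap_eq_smul_one, TrivSqZeroExt.algebraMap_eq_inl,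
          TrivSqZeroExt.inl_fst_add_inr_snd_eq]
      conv_lhs => rw [hd]
      rw [TensorProduct.add_tmul, TensorProduct.smul_tmul]
      rfl
    | add x y hx hy =>
      obtain ⟨b₁, m₁, rfl⟩ := hx
      obtain ⟨b₂, m₂, rfl⟩ := hy
      refine ⟨b₁ + b₂, m₁ + m₂, ?_⟩
      rw [TensorProduct.tmul_add, map_add]
      abel
  have hΨ1 : ∀ b : B₀, Ψ ((1 : TrivSqZeroExt k W) ⊗ₜ[k] b) = σ b := by
    intro b
    rw [LinearMap.liftBaseChange_tmul, one_smul]
  have hΨ2 : ∀ m : W ⊗[k] B₀, Ψ (ir m) = X.incl (jB (B₀ := B₀) j m) := by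
    intro m
    induction m using TensorProduct.induction_on with
    | zero => rw [map_zero, map_zero, map_zero, map_zero]
    | tmul w b =>
      change Ψ ((TrivSqZeroExt.inr w : TrivSqZeroExt k W) ⊗ₜ[k] b) = _
      rw [LinearMap.liftBaseChange_tmul, hsmul, rho_inr, jB_tmul, mul_comm, X.isExtension.mul_incl, hσ']
    | add x y hx hy => rw [map_add, map_add, hx, hy, map_add, map_add]
  have hbij : Function.Bijective Ψ := by
    constructor
    · rw [injective_iff_map_eq_zero]
      intro z hz
      obtain ⟨b, m, rfl⟩ := hdec z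
      rw [map_add, hΨ1, hΨ2] at hz
      have h1 : b = 0 := by
        have := congrArg X.proj hz
        have h0 : X.proj (X.incl (jB (B₀ := B₀) j m)) = 0 := (X.isExtension.exact _).mpr ⟨_, rfl⟩
        rw [map_add, h0, add_zero, hσ', map_zero] at this
        exact this
      rw [h1, map_zero, zero_add] at hz
      have h2 : m = 0 := by
        apply hj.1
        rw [map_zero]
        apply X.isExtension.incl_injective
        rw [hz, map_zero]
      rw [h1, h2, TensorProduct.tmul_zero, map_zero, add_zero]
    · intro x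
      have h1 : X.proj (x - σ (X.proj x)) = 0 := by
        rw [map_sub, hσ', sub_self]
      obtain ⟨m₀, hm₀⟩ := (X.isExtension.exact _).mp h1
      obtain ⟨m, rfl⟩ := hj.2 m₀
      refine ⟨(1 : TrivSqZeroExt k W) ⊗ₜ[k] X.proj x + ir m, ?_⟩
      rw [map_add, hΨ1, hΨ2, hm₀]
      ring
  exact Module.Flat.of_linearEquiv (LinearEquiv.ofBijective Ψ hbij).symm

/-- the kernel of the projection is generated by the image of `W` -/
theorem ker_proj_le (hj : Function.Surjective (jB (B₀ := B₀) j)) :
    RingHom.ker X.proj.toRingHom ≤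
      Ideal.map (rho X j).toRingHom (RingHom.ker (TrivSqZeroExt.fstHom k k W).toRingHom) := by
  have key : ∀ m : W ⊗[k] B₀, X.incl (jB (B₀ := B₀) j m) ∈
      Ideal.map (rho X j).toRingHom (RingHom.ker (TrivSqZeroExt.fstHom k k W).toRingHom) := by
    intro m
    induction m using TensorProduct.induction_on with
    | zero =>
      rw [map_zero, map_zero]
      exact Ideal.zero_mem _
    | tmul w b =>
      obtain ⟨y, rfl⟩ := X.isExtension.proj_surjective b
      rw [jB_tmul, ← X.isExtension.mul_incl, ← rho_inr]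
      apply Ideal.mul_mem_left
      apply Ideal.mem_map_of_mem
      rw [RingHom.mem_ker]
      exact TrivSqZeroExt.fst_inr k w
    | add m m' hm hm' =>
      rw [map_add, map_add]
      exact Ideal.add_mem _ hm hm'
  intro x hx
  obtain ⟨m₀, rfl⟩ := (X.isExtension.exact _).mp hx
  obtain ⟨m, rfl⟩ := hj m₀
  exact key m

end ExtFlat

end Groth.Agent.LibHull29
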