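import Groth.Agent.LibHull29e

/-!
# Deformation data over `k[ε]` and `k[ε₁, ε₂]` from extensions; morphisms of extensions as base changes
(seat helper29)
-/

set_option autoImplicit false
universe u
open TensorProduct CategoryTheory

namespace Groth.Agent.LibHull29

open ArtFun ArtFun.Art Groth.Agent.LibExal29 Groth.Agent.LibDefDual29

variable {Λ k : Type u} [CommRing Λ] [Field k] [Algebra Λ k] {B₀ : Type u} [CommRing B₀] [Algebra k B₀]

section J

variable (k B₀)

/-- `k → B₀` -/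
def j1 : k →ₗ[k] B₀ := Algebra.linearMap k B₀

/-- `k × k → B₀ × B₀` -/
def j2 : (k × k) →ₗ[k] (B₀ × B₀) := (Algebra.linearMap k B₀).prodMap (Algebra.linearMap k B₀)

lemma jB_j1_bijective : Function.Bijective (jB (B₀ := B₀) (j1 k B₀)) := by
  have h : jB (B₀ := B₀) (j1 k B₀) = (TensorProduct.lid k B₀).toLinearMap := by
    apply TensorProduct.ext'
    intro c b
    rw [jB_tmul]
    change b • algebraMap k B₀ c = c • b
    rw [smul_eq_mul, mul_comm, ← Algebra.smul_def]
  rw [h]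
  exact (TensorProduct.lid k B₀).bijective

lemma jB_j2_bijective : Function.Bijective (jB (B₀ := B₀) (j2 k B₀)) := by
  let g : (B₀ × B₀) →ₗ[k] (k × k) ⊗[k] B₀ :=
    (TensorProduct.mk k (k × k) B₀ (1, 0)).coprod (TensorProduct.mk k (k × k) B₀ (0, 1))
  have hjB : ∀ (c : k × k) (b : B₀), jB (B₀ := B₀) (j2 k B₀) (c ⊗ₜ[k] b) = (c.1 • b, c.2 • b) := by
    intro c b
    rw [jB_tmul]
    change b • (algebraMap k B₀ c.1, algebraMap k B₀ c.2) = _
    rw [Prod.smul_mk, smul_eq_mul, smul_eq_mul, mul_comm, ← Algebra.smul_def, mul_comm, ← Algebra.smul_def]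
  have hg : ∀ b₁ b₂ : B₀, g (b₁, b₂) = ((1 : k), (0 : k)) ⊗ₜ[k] b₁ + ((0 : k), (1 : k)) ⊗ₜ[k] b₂ := fun _ _ => rfl
  rw [Function.bijective_iff_has_inverse]
  refine ⟨g, ?_, ?_⟩
  · intro z
    induction z using TensorProduct.induction_on with
    | zero => rw [map_zero, map_zero]
    | tmul c b =>
      rw [hjB, hg, ← TensorProduct.smul_tmul, ← TensorProduct.smul_tmul, ← TensorProduct.add_tmul]
      congr 1
      ext <;> simp
    | add x y hx hy => rw [map_add, map_add, hx, hy]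
  · rintro ⟨b₁, b₂⟩
    rw [hg, map_add, hjB, hjB]
    simp

end J

section OfExt

lemma ker_res_dual' : RingHom.ker (dual Λ k).res.toRingHom = RingHom.ker (TrivSqZeroExt.fstHom k k k).toRingHom := by
  ext x
  exact Iff.rfl

lemma ker_res_dual2' :
    RingHom.ker (dual2 Λ k).res.toRingHom = RingHom.ker (TrivSqZeroExt.fstHom k k (k × k)).toRingHom := by
  ext x
  exact Iff.rfl

/-- the deformation datum over `k[ε]` of an extension of `B₀` by `B₀` -/
noncomputable def RDef.ofExt1 (X : Exal.Ext k B₀ B₀) : RDef B₀ (dual Λ k) where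
  E := X.E
  φ := (rho X (j1 k B₀)).toRingHom
  π := X.proj.toRingHom
  flat := rho_flat X (j1 k B₀) (jB_j1_bijective k B₀)
  surj := X.isExtension.proj_surjective
  ker_le := by
    rw [ker_res_dual']
    exact ker_proj_le X (j1 k B₀) (jB_j1_bijective k B₀).2
  comm := fun a => proj_rho X (j1 k B₀) a

/-- the deformation datum over `k[ε₁, ε₂]` of an extension of `B₀` by `B₀ × B₀` -/
noncomputable def RDef.ofExt2 (X : Exal.Ext k B₀ (B₀ × B₀)) : RDef B₀ (dual2 Λ k) where
  E := X.E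
  φ := (rho X (j2 k B₀)).toRingHom
  π := X.proj.toRingHom
  flat := rho_flat X (j2 k B₀) (jB_j2_bijective k B₀)
  surj := X.isExtension.proj_surjective
  ker_le := by
    rw [ker_res_dual2']
    exact ker_proj_le X (j2 k B₀) (jB_j2_bijective k B₀).2
  comm := fun a => proj_rho X (j2 k B₀) a

end OfExt

section Criterion

variable {A A' : Art Λ k}

/-- base change along a surjection: the kernel criterion -/
theorem RDef.isBC_of_surjective (g : A ⟶ A') (hg : Function.Surjective g) (R : RDef B₀ A) (R' : RDef B₀ A')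
    (h : R.E →+* R'.E) (hφ : ∀ a : A, h (R.φ a) = R'.φ (g a)) (hπ : ∀ x, R'.π (h x) = R.π x)
    (hh : Function.Surjective h)
    (hker : RingHom.ker h ≤ Ideal.map R.φ (RingHom.ker g.toAlgHom.toRingHom)) : RDef.IsBC g R R' h :=
  ⟨hφ, hπ, isPushout_of_surjective _ _ _ _ (by
    ext a
    exact hφ a) hg hh hker⟩

end Criterion

section ExtHom

variable {W W' : Type u} [AddCommGroup W] [Module k W] [Module kᵐᵒᵖ W] [IsCentralScalar k W]
  [AddCommGroup W'] [Module k W'] [Module kᵐᵒᵖ W'] [IsCentralScalar k W']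
variable {M M' : Type u} [AddCommGroup M] [Module B₀ M] [Module k M] [IsScalarTower k B₀ M]
  [AddCommGroup M'] [Module B₀ M'] [Module k M'] [IsScalarTower k B₀ M']
variable (X : Exal.Ext k B₀ M) (X' : Exal.Ext k B₀ M') (j : W →ₗ[k] M) (j' : W' →ₗ[k] M')
  (w : W →ₗ[k] W') (ω : M →ₗ[B₀] M') (hjw : ∀ x, ω (j x) = j' (w x))
  (h : X.E →ₐ[k] X'.E) (hproj : ∀ x, X'.proj (h x) = X.proj x) (hincl : ∀ m, h (X.incl m) = X'.incl (ω m))

include hjw hincl in
lemma extHom_rho (t : TrivSqZeroExt k W) :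
    h (rho X j t) = rho X' j' (TrivSqZeroExt.inl t.fst + TrivSqZeroExt.inr (w t.snd)) := by
  rw [rho_apply, rho_apply, map_add, AlgHom.commutes, hincl, hjw]
  simp

include hproj hincl in
lemma extHom_surjective (hω : Function.Surjective ω) : Function.Surjective h := by
  intro x'
  obtain ⟨x, hx⟩ := X.isExtension.proj_surjective (X'.proj x')
  have h1 : X'.proj (x' - h x) = 0 := by
    rw [map_sub, hproj, hx, sub_self]
  obtain ⟨m', hm'⟩ := (X'.isExtension.exact _).mp h1
  obtain ⟨m, rfl⟩ := hω m'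
  refine ⟨x + X.incl m, ?_⟩
  rw [map_add, hincl, hm']
  ring

include hproj hincl in
lemma extHom_ker (x : X.E) (hx : h x = 0) : ∃ m, ω m = 0 ∧ x = X.incl m := by
  have h1 : X.proj x = 0 := by
    rw [← hproj, hx, map_zero]
  obtain ⟨m, rfl⟩ := (X.isExtension.exact _).mp h1
  refine ⟨m, ?_, rfl⟩
  apply X'.isExtension.incl_injective
  rw [← hincl, hx, map_zero]

include hproj hincl in
lemma extHom_ker_le (hkerω : ∀ m, ω m = 0 → ∃ (b : B₀) (x₀ : W), w x₀ = 0 ∧ m = b • j x₀)
    (K : Ideal (TrivSqZeroExt k W)) (hK : ∀ x₀, w x₀ = 0 → (TrivSqZeroExt.inr x₀ : TrivSqZeroExt k W) ∈ K) :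
    RingHom.ker (h : X.E →+* X'.E) ≤ Ideal.map (rho X j).toRingHom K := by
  intro x hx
  obtain ⟨m, hm, rfl⟩ := extHom_ker X X' ω h hproj hincl x hx
  obtain ⟨b, x₀, hx₀, rfl⟩ := hkerω m hm
  obtain ⟨y, rfl⟩ := X.isExtension.proj_surjective b
  rw [← X.isExtension.mul_incl, ← rho_inr]
  apply Ideal.mul_mem_left
  exact Ideal.mem_map_of_mem _ (hK x₀ hx₀)

end ExtHom

end Groth.Agent.LibHull29
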