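import Groth.Agent.LibExal29

/-!
# Functoriality of the push-out extension in the module (seat helper29)

For `φ : I → M`, `φ' : I → M'` and a `B`-linear `ω : M → M'` with `ω ∘ φ = φ'` there is a morphism of extensions
`pushExt φ → pushExt φ'` over `ω`.
-/

set_option autoImplicit false
set_option linter.unusedSectionVars false
universe u v

namespace Groth.Agent.LibExal29

attribute [local instance] Exal.opModule Exal.isCentralScalar_opModule

variable {A : Type u} {R B M M' : Type v} [CommRing A] [CommRing R] [CommRing B]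
variable [Algebra A R] [Algebra A B] [Algebra R B] [IsScalarTower A R B]
variable [AddCommGroup M] [Module B M] [Module R M] [IsScalarTower R B M]
variable [Module A M] [IsScalarTower A B M] [IsScalarTower A R M]
variable [AddCommGroup M'] [Module B M'] [Module R M'] [IsScalarTower R B M']
variable [Module A M'] [IsScalarTower A B M'] [IsScalarTower A R M']

section PushMap

variable (φ : RingHom.ker (algebraMap R B) →ₗ[R] M) (φ' : RingHom.ker (algebraMap R B) →ₗ[R] M')
  (ω : M →ₗ[B] M') (hω : ∀ z, ω (φ z) = φ' z)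

/-- the map `R ⊕ M → R ⊕ M'` induced by `ω` -/
noncomputable def tmap : TrivSqZeroExt R M →+* TrivSqZeroExt R M' :=
  (TrivSqZeroExt.map (ω.restrictScalars R)).toRingHom

lemma fst_tmap (t : TrivSqZeroExt R M) : (tmap ω t).fst = t.fst := TrivSqZeroExt.fst_map _ _

lemma snd_tmap (t : TrivSqZeroExt R M) : (tmap ω t).snd = ω t.snd := TrivSqZeroExt.snd_map _ _

include hω in
lemma tmap_mem_graph (t : TrivSqZeroExt R M) (ht : t ∈ graphIdeal B φ) : tmap ω t ∈ graphIdeal B φ' := by
  rw [mem_graphIdeal] at ht ⊢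
  obtain ⟨h, e⟩ := ht
  have h' : (tmap ω t).fst ∈ RingHom.ker (algebraMap R B) := by
    rw [fst_tmap]
    exact h
  refine ⟨h', ?_⟩
  have h1 : (⟨(tmap ω t).fst, h'⟩ : RingHom.ker (algebraMap R B)) = ⟨t.fst, h⟩ := Subtype.ext (fst_tmap ω t)
  rw [snd_tmap, e, map_neg, hω, h1]

variable (A B)

/-- the morphism of push-out extensions over `ω` -/
noncomputable def pushMap (hsurj : Function.Surjective (algebraMap R B)) :
    (pushExt A B φ hsurj).E →ₐ[A] (pushExt A B φ' hsurj).E where
  toRingHom := Ideal.Quotient.lift (graphIdeal B φ) ((pmk B φ').comp (tmap ω)) (fun t ht => by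
    change pmk B φ' (tmap ω t) = 0
    exact Ideal.Quotient.eq_zero_iff_mem.mpr (tmap_mem_graph φ φ' ω hω t ht))
  commutes' a := by
    change pmk B φ' (tmap ω (TrivSqZeroExt.inl (algebraMap A R a))) = pmk B φ' (TrivSqZeroExt.inl (algebraMap A R a))
    congr 1
    exact TrivSqZeroExt.map_inl _ _

lemma pushMap_pmk (hsurj : Function.Surjective (algebraMap R B)) (t : TrivSqZeroExt R M) :
    pushMap A B φ φ' ω hω hsurj (pmk B φ t) = pmk B φ' (tmap ω t) := rfl

lemma proj_pushMap (hsurj : Function.Surjective (algebraMap R B)) (x : (pushExt A B φ hsurj).E) :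
    (pushExt A B φ' hsurj).proj (pushMap A B φ φ' ω hω hsurj x) = (pushExt A B φ hsurj).proj x := by
  obtain ⟨t, rfl⟩ := pmk_surjective B φ x
  rw [pushMap_pmk]
  change algebraMap R B (tmap ω t).fst = algebraMap R B t.fst
  rw [fst_tmap]

lemma pushMap_incl (hsurj : Function.Surjective (algebraMap R B)) (m : M) :
    pushMap A B φ φ' ω hω hsurj ((pushExt A B φ hsurj).incl m) = (pushExt A B φ' hsurj).incl (ω m) := by
  change pushMap A B φ φ' ω hω hsurj (pmk B φ (TrivSqZeroExt.inr m)) = pmk B φ' (TrivSqZeroExt.inr (ω m))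
  rw [pushMap_pmk]
  congr 1
  exact TrivSqZeroExt.map_inr _ _

end PushMap

end Groth.Agent.LibExal29
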