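import Groth.Agent.LibHull29f
import Groth.Agent.LibHull29g

/-!
# First order deformations attached to `φ : I → B₀` and their base changes (seat helper29)

`Rφ φ` is the deformation over `k[ε]` with ring `(P ⊕ B₀)/graph φ`; `Rφ2 φ₁ φ₂` the one over `k[ε₁, ε₂]`.
Base change along `pr₁`, `pr₂`, `plus` and `scale c` acts on the parameters by the corresponding linear maps.
-/

set_option autoImplicit false
universe u
open TensorProduct CategoryTheory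

namespace Groth.Agent.LibHull29

open ArtFun ArtFun.Art Groth.Agent.LibExal29 Groth.Agent.LibDefDual29

variable {Λ k : Type u} [CommRing Λ] [Field k] [Algebra Λ k] {B₀ : Type u} [CommRing B₀] [Algebra k B₀]
variable {P : Type u} [CommRing P] [Algebra k P] [Algebra P B₀] [IsScalarTower k P B₀]
  (hsurj : Function.Surjective (algebraMap P B₀))

/-- the deformation over `k[ε]` attached to `φ : I → B₀` -/
noncomputable def Rφ (φ : RingHom.ker (algebraMap P B₀) →ₗ[P] B₀) : RDef B₀ (dual Λ k) :=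
  RDef.ofExt1 (pushExt k B₀ φ hsurj)

/-- the deformation over `k[ε₁, ε₂]` attached to `φ₁, φ₂ : I → B₀` -/
noncomputable def Rφ2 (φ₁ φ₂ : RingHom.ker (algebraMap P B₀) →ₗ[P] B₀) : RDef B₀ (dual2 Λ k) :=
  RDef.ofExt2 (pushExt k B₀ (φ₁.prod φ₂) hsurj)

lemma tsz_aux (w : (k × k) →ₗ[k] k) (d : TrivSqZeroExt k k) (x : k × k) (hx : w x = d.snd) :
    (TrivSqZeroExt.inl (TrivSqZeroExt.inl d.fst + TrivSqZeroExt.inr x : TrivSqZeroExt k (k × k)).fst +
      TrivSqZeroExt.inr (w (TrivSqZeroExt.inl d.fst + TrivSqZeroExt.inr x : TrivSqZeroExt k (k × k)).snd) :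
        TrivSqZeroExt k k) = d := by
  apply TrivSqZeroExt.ext
  · rw [TrivSqZeroExt.fst_add, TrivSqZeroExt.fst_inl, TrivSqZeroExt.fst_inr, add_zero,
      TrivSqZeroExt.fst_add, TrivSqZeroExt.fst_inl, TrivSqZeroExt.fst_inr, add_zero]
  · rw [TrivSqZeroExt.snd_add, TrivSqZeroExt.snd_inl, TrivSqZeroExt.snd_inr, zero_add,
      TrivSqZeroExt.snd_add, TrivSqZeroExt.snd_inl, TrivSqZeroExt.snd_inr, zero_add, hx]

lemma tsz_aux2 (w : (k × k) →ₗ[k] k) (x₀ : k × k) (hx₀ : w x₀ = 0) :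
    (TrivSqZeroExt.inl (TrivSqZeroExt.inr x₀ : TrivSqZeroExt k (k × k)).fst +
      TrivSqZeroExt.inr (w (TrivSqZeroExt.inr x₀ : TrivSqZeroExt k (k × k)).snd) : TrivSqZeroExt k k) = 0 := by
  rw [TrivSqZeroExt.fst_inr, TrivSqZeroExt.snd_inr, hx₀, TrivSqZeroExt.inl_zero, TrivSqZeroExt.inr_zero,
      add_zero]

section Dual2

variable (w : (k × k) →ₗ[k] k) (ω : (B₀ × B₀) →ₗ[B₀] B₀)
  (hjw : ∀ x, ω (j2 k B₀ x) = j1 k B₀ (w x)) (hw : Function.Surjective w) (hω : Function.Surjective ω)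
  (hkerω : ∀ m, ω m = 0 → ∃ (b : B₀) (x₀ : k × k), w x₀ = 0 ∧ m = b • j2 k B₀ x₀)
  (g : dual2 Λ k ⟶ dual Λ k)
  (hg : ∀ t : TrivSqZeroExt k (k × k), g t = TrivSqZeroExt.inl t.fst + TrivSqZeroExt.inr (w t.snd))
  (φ₁ φ₂ φ : RingHom.ker (algebraMap P B₀) →ₗ[P] B₀) (hφ : ∀ z, ω ((φ₁.prod φ₂) z) = φ z)

include hjw hw hω hkerω hg in
theorem isBC_dual2_dual :
    RDef.IsBC g (Rφ2 (Λ := Λ) hsurj φ₁ φ₂) (Rφ (Λ := Λ) hsurj φ)
      (pushMap k B₀ (φ₁.prod φ₂) φ ω hφ hsurj).toRingHom := by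
  have hproj := proj_pushMap k B₀ (φ₁.prod φ₂) φ ω hφ hsurj
  have hincl := pushMap_incl k B₀ (φ₁.prod φ₂) φ ω hφ hsurj
  apply RDef.isBC_of_surjective
  · intro d
    let d' : TrivSqZeroExt k k := d
    obtain ⟨x, hx⟩ := hw d'.snd
    refine ⟨(TrivSqZeroExt.inl d'.fst + TrivSqZeroExt.inr x : TrivSqZeroExt k (k × k)), ?_⟩
    exact (hg _).trans (tsz_aux w d' x hx)
  · intro a
    change pushMap k B₀ (φ₁.prod φ₂) φ ω hφ hsurj (rho (pushExt k B₀ (φ₁.prod φ₂) hsurj) (j2 k B₀) a) =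
      rho (pushExt k B₀ φ hsurj) (j1 k B₀) (g a)
    rw [hg]
    exact extHom_rho _ _ (j2 k B₀) (j1 k B₀) w ω hjw _ hincl a
  · exact hproj
  · exact extHom_surjective _ _ ω _ hproj hincl hω
  · refine extHom_ker_le _ _ (j2 k B₀) w ω _ hproj hincl hkerω _ ?_
    intro x₀ hx₀
    change g (TrivSqZeroExt.inr x₀ : TrivSqZeroExt k (k × k)) = 0
    exact (hg _).trans (tsz_aux2 w x₀ hx₀)

end Dual2

end Groth.Agent.LibHull29
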