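import Mathlib.Algebra.Module.FinitePresentation
import Mathlib.RingTheory.LocalProperties.Projective
import Mathlib.Algebra.Module.LocalizedModule.Exact
import Mathlib.RingTheory.Localization.Module

/-!
# LibLoc29e: a uniform-power criterion

For an exact sequence `N --d--> L --π--> C → 0` of `B`-modules with `N` finite, `L` finite
projective, and `t : B`:
`ker d` is `t`-power torsion and `C_t` is projective over `B_t` iff there are `n` and
`ψ : L → N` with `ψ ∘ d = t ^ n`.
-/

namespace Groth.Agent.LibLoc29e

variable {B : Type*} [CommRing B] (t : B)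
variable {N L C : Type*} [AddCommGroup N] [AddCommGroup L] [AddCommGroup C]
  [Module B N] [Module B L] [Module B C]
variable (d : N →ₗ[B] L) (π : L →ₗ[B] C)

theorem torsion_of_psi (n : ℕ) (ψ : L →ₗ[B] N) (hψ : ∀ x, ψ (d x) = t ^ n • x)
    (x : N) (hx : d x = 0) : ∃ k : ℕ, t ^ k • x = 0 :=
  ⟨n, by rw [← hψ, hx, map_zero]⟩

theorem proj_of_psi (hex : Function.Exact d π) (hπ : Function.Surjective π)
    [Module.Projective B L]
    (n : ℕ) (ψ : L →ₗ[B] N) (hψ : ∀ x, ψ (d x) = t ^ n • x) :
    Module.Projective (Localization (Submonoid.powers t))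
      (LocalizedModule (Submonoid.powers t) C) := by
  set S := Submonoid.powers t with hS
  let e : L →ₗ[B] L := t ^ n • LinearMap.id - d ∘ₗ ψ
  have he : LinearMap.ker π ≤ LinearMap.ker e := by
    intro y hy
    obtain ⟨x, rfl⟩ := (hex y).1 hy
    simp only [LinearMap.mem_ker, e, LinearMap.sub_apply, LinearMap.smul_apply,
      LinearMap.id_apply, LinearMap.comp_apply, hψ, map_smul, sub_self]
  let σ₀ : C →ₗ[B] L :=
    (LinearMap.ker π).liftQ e he ∘ₗ (π.quotKerEquivOfSurjective hπ).symm.toLinearMap
  have hσ : ∀ y, σ₀ (π y) = e y := by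
    intro y
    have : (π.quotKerEquivOfSurjective hπ).symm (π y) = Submodule.Quotient.mk y := by
      rw [LinearEquiv.symm_apply_eq]
      rfl
    simp only [σ₀, LinearMap.comp_apply, LinearEquiv.coe_coe, this, Submodule.liftQ_apply]
  have hπσ : ∀ c, π (σ₀ c) = t ^ n • c := by
    intro c
    obtain ⟨y, rfl⟩ := hπ c
    rw [hσ]
    simp only [e, LinearMap.sub_apply, LinearMap.smul_apply, LinearMap.id_apply,
      LinearMap.comp_apply, map_sub, map_smul]
    rw [hex.apply_apply_eq_zero, sub_zero]
  let πS := LocalizedModule.map S π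
  let σS := LocalizedModule.map S σ₀
  have hu : IsUnit (algebraMap B (Localization S) (t ^ n)) :=
    IsLocalization.map_units (Localization S) (⟨t ^ n, n, rfl⟩ : S)
  have hcomp : ∀ x, πS (σS x) = algebraMap B (Localization S) (t ^ n) • x := by
    intro x
    induction x using LocalizedModule.induction_on with
    | h c s =>
      simp only [πS, σS, LocalizedModule.map_mk, hπσ, algebraMap_smul,
        LocalizedModule.smul'_mk]
  refine Module.Projective.of_split (((hu.unit⁻¹ : (Localization S)ˣ) : Localization S) • σS)
    πS ?_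
  ext x
  simp only [LinearMap.comp_apply, LinearMap.smul_apply, map_smul, hcomp, LinearMap.id_apply]
  have h5 : ((hu.unit⁻¹ : (Localization S)ˣ) : Localization S) *
      algebraMap B (Localization S) (t ^ n) = 1 := by
    have := hu.unit.inv_mul
    rwa [hu.unit_spec] at this
  rw [smul_smul, h5, one_smul]

theorem psi_of_proj (hex : Function.Exact d π) (hπ : Function.Surjective π)
    [Module.Finite B N] [Module.FinitePresentation B L]
    (htors : ∀ x, d x = 0 → ∃ k : ℕ, t ^ k • x = 0)
    (hproj : Module.Projective (Localization (Submonoid.powers t))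
      (LocalizedModule (Submonoid.powers t) C)) :
    ∃ (n : ℕ) (ψ : L →ₗ[B] N), ∀ x, ψ (d x) = t ^ n • x := by
  set S := Submonoid.powers t with hS
  let dS := LocalizedModule.map S d
  let πS := LocalizedModule.map S π
  have hexS : Function.Exact dS πS := LocalizedModule.map_exact S d π hex
  have hπS : Function.Surjective πS := LocalizedModule.map_surjective S π hπ
  have hdS : Function.Injective dS := by
    rw [← LinearMap.ker_eq_bot, LinearMap.ker_eq_bot']
    intro x hx
    induction x using LocalizedModule.induction_on with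
    | h a s =>
      simp only [dS, LocalizedModule.map_mk] at hx
      rw [← LocalizedModule.zero_mk s, LocalizedModule.mk_eq] at hx ⊢
      obtain ⟨u, hu⟩ := hx
      rw [smul_zero, smul_zero] at hu
      have h1 : d ((u : B) • (s : B) • a) = 0 := by
        rw [map_smul, map_smul]; exact hu
      obtain ⟨k, hk⟩ := htors _ h1
      refine ⟨(⟨t ^ k, k, rfl⟩ : S) * u, ?_⟩
      rw [smul_zero, smul_zero, mul_smul]
      exact hk
  obtain ⟨s, hs⟩ := Module.projective_lifting_property πS LinearMap.id hπS
  let e' : LocalizedModule S L →ₗ[Localization S] LocalizedModule S L :=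
    LinearMap.id - s ∘ₗ πS
  have he' : ∀ y, e' y ∈ LinearMap.range dS := by
    intro y
    rw [LinearMap.mem_range]
    refine (hexS _).1 ?_
    have := LinearMap.congr_fun hs (πS y)
    simp only [LinearMap.comp_apply, LinearMap.id_apply] at this
    simp only [e', LinearMap.sub_apply, LinearMap.id_apply, LinearMap.comp_apply, map_sub, this,
      sub_self]
  let ρ : LocalizedModule S L →ₗ[Localization S] LocalizedModule S N :=
    (LinearEquiv.ofInjective dS hdS).symm.toLinearMap ∘ₗ e'.codRestrict (LinearMap.range dS) he'
  have hρ : ∀ y, dS (ρ y) = e' y := by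
    intro y
    have := (LinearEquiv.ofInjective dS hdS).apply_symm_apply
      (e'.codRestrict (LinearMap.range dS) he' y)
    exact congrArg Subtype.val this
  have hρd : ∀ x, ρ (dS x) = x := by
    intro x
    apply hdS
    rw [hρ]
    simp only [e', LinearMap.sub_apply, LinearMap.id_apply, LinearMap.comp_apply,
      hexS.apply_apply_eq_zero, map_zero, sub_zero]
  let g : L →ₗ[B] LocalizedModule S N :=
    (ρ.restrictScalars B) ∘ₗ LocalizedModule.mkLinearMap S L
  obtain ⟨ψ, u, hψ⟩ := Module.FinitePresentation.exists_lift_of_isLocalizedModule S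
    (LocalizedModule.mkLinearMap S N) g
  have H₁ : LocalizedModule.mkLinearMap S N ∘ₗ (ψ ∘ₗ d) =
      LocalizedModule.mkLinearMap S N ∘ₗ ((u : B) • LinearMap.id) := by
    ext x
    have h2 := LinearMap.congr_fun hψ (d x)
    simp only [LinearMap.comp_apply] at h2
    simp only [LinearMap.comp_apply, h2, LinearMap.smul_apply, LinearMap.id_apply]
    have h3 : g (d x) = LocalizedModule.mkLinearMap S N x := by
      simp only [g, LinearMap.comp_apply, LinearMap.restrictScalars_apply,
        LocalizedModule.mkLinearMap_apply]
      have : LocalizedModule.mk (d x) (1 : S) = dS (LocalizedModule.mk x 1) := by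
        simp only [dS, LocalizedModule.map_mk]
      rw [this, hρd]
    rw [h3, map_smul]
    rfl
  obtain ⟨v, hv⟩ := Module.Finite.exists_smul_of_comp_eq_of_isLocalizedModule S
    (LocalizedModule.mkLinearMap S N) _ _ H₁
  obtain ⟨n, hn⟩ := (v * u).2
  refine ⟨n, (v : B) • ψ, fun x => ?_⟩
  have h4 := LinearMap.congr_fun hv x
  simp only [LinearMap.smul_apply, LinearMap.comp_apply, LinearMap.id_apply,
    Submonoid.smul_def] at h4
  have hn' : t ^ n = (v : B) * (u : B) := hn
  rw [LinearMap.smul_apply, h4, hn', mul_smul]

end Groth.Agent.LibLoc29e
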