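import Groth.Agent.LibCotT29e
import Groth.Agent.LibLoc29e
import Mathlib.RingTheory.Smooth.Locus
import Mathlib.RingTheory.QuasiFinite.Basic

/-!
# `T¹` of an algebra with finite non-smooth locus over a field is finite-dimensional (seat helper29)
-/

set_option autoImplicit false
universe u

namespace Groth.Agent.LibHull29

open Groth.Agent.LibCotT29 Groth.Agent.LibLoc29e

section Pow

variable {A B : Type u} [CommRing A] [CommRing B] [Algebra A B]

/-- if `D(t')` lies in the smooth locus, a power of `t'` kills `CoT1` (with any coefficients) -/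
theorem exists_pow_smul_coT1 [Algebra.FinitePresentation A B] (t' : B)
    (h : (PrimeSpectrum.basicOpen t' : Set (PrimeSpectrum B)) ⊆ Algebra.smoothLocus A B) :
    ∃ n : ℕ, ∀ (M : Type u) [AddCommGroup M] [Module B M]
      (x : CoT1 (Algebra.Presentation.ofFinitePresentation A B).toExtension M), t' ^ n • x = 0 := by
  set S : Submonoid B := Submonoid.powers t' with hS
  let P := Algebra.Presentation.ofFinitePresentation A B
  let E : Algebra.Extension.{u} A B := P.toExtension
  have hNfin : Module.Finite B E.Cotangent := Algebra.Extension.Cotangent.finite P.fg_ker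
  have hLfree : Module.Free B E.CotangentSpace := Module.Free.of_basis P.cotangentSpaceBasis
  have hLfin : Module.Finite B E.CotangentSpace := Module.Finite.of_basis P.cotangentSpaceBasis
  have hLfp : Module.FinitePresentation B E.CotangentSpace :=
    Module.finitePresentation_of_projective B _
  have hA : Algebra.FormallySmooth A (Localization.Away t') :=
    Algebra.basicOpen_subset_smoothLocus_iff.mp h
  have stepB : Algebra.FormallySmooth A (Localization.Away t') ↔
      (∀ x : E.Cotangent, E.cotangentComplex x = 0 → ∃ k : ℕ, t' ^ k • x = 0) ∧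
      Module.Projective (Localization S) (LocalizedModule S Ω[B⁄A]) := by
    rw [Algebra.formallySmooth_iff, and_comm]
    refine and_congr ?_ ?_
    · have e1 := IsLocalizedModule.iso S (Algebra.H1Cotangent.map A A B (Localization.Away t'))
      rw [← e1.subsingleton_congr, LocalizedModule.subsingleton_iff]
      constructor
      · intro h x hx
        obtain ⟨r, ⟨k, rfl⟩, hr⟩ := h (P.equivH1Cotangent ⟨x, hx⟩)
        refine ⟨k, ?_⟩
        rw [← map_smul, LinearEquiv.map_eq_zero_iff] at hr
        exact congrArg Subtype.val hr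
      · intro h m
        obtain ⟨⟨x, hx⟩, rfl⟩ := P.equivH1Cotangent.surjective m
        obtain ⟨k, hk⟩ := h x hx
        refine ⟨t' ^ k, ⟨k, rfl⟩, ?_⟩
        rw [← map_smul, LinearEquiv.map_eq_zero_iff]
        exact Subtype.ext hk
    · have e2 := IsLocalizedModule.iso S
        (KaehlerDifferential.map A A B (Localization.Away t'))
      have e3 := e2.extendScalarsOfIsLocalization S (Localization.Away t')
      exact ⟨fun _ ↦ .of_equiv e3.symm, fun _ ↦ .of_equiv e3⟩
  obtain ⟨h1, h2⟩ := stepB.mp hA
  obtain ⟨n, ψ, hψ⟩ := psi_of_proj t' E.cotangentComplex E.toKaehler E.exact_cotangentComplex_toKaehler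
    E.toKaehler_surjective h1 h2
  refine ⟨n, fun M _ _ x => ?_⟩
  obtain ⟨χ, rfl⟩ := Submodule.Quotient.mk_surjective _ x
  rw [← Submodule.Quotient.mk_smul, Submodule.Quotient.mk_eq_zero]
  refine ⟨χ ∘ₗ ψ, ?_⟩
  ext y
  change χ (ψ (E.cotangentComplex y)) = t' ^ n • χ y
  rw [hψ, map_smul]

end Pow

section Fin

variable {k B : Type u} [Field k] [CommRing B] [Algebra k B]

/-- a finite type algebra over a field with finite spectrum is finite -/
theorem finite_of_finite_zeroLocus [Algebra.FiniteType k B] (I : Ideal B)
    (hI : (PrimeSpectrum.zeroLocus (I : Set B)).Finite) : Module.Finite k (B ⧸ I) := by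
  have hfin : Finite (PrimeSpectrum (B ⧸ I)) := by
    have hinj := PrimeSpectrum.comap_injective_of_surjective (Ideal.Quotient.mk I) Ideal.Quotient.mk_surjective
    have hr : Set.range (PrimeSpectrum.comap (Ideal.Quotient.mk I)) = PrimeSpectrum.zeroLocus (I : Set B) := by
      rw [range_comap_of_surjective _ _ Ideal.Quotient.mk_surjective, Ideal.mk_ker]
    have : Finite (Set.range (PrimeSpectrum.comap (Ideal.Quotient.mk I))) := by
      rw [hr]
      exact hI.to_subtype
    exact Finite.of_injective_finite_range hinj
  have : Algebra.QuasiFinite k (B ⧸ I) :=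
    Algebra.QuasiFinite.iff_finite_comap_preimage_singleton.mpr (fun x => Set.toFinite _)
  exact Module.Finite.of_quasiFinite

/-- `T¹(B/k, B)` is finite-dimensional when the non-smooth locus is finite -/
theorem finite_coT1 [Algebra.FinitePresentation k B] (hfin : (Algebra.smoothLocus k B)ᶜ.Finite) :
    Module.Finite k (CoT1 (Algebra.Presentation.ofFinitePresentation k B).toExtension B) := by
  have hN : IsNoetherianRing B := Algebra.FiniteType.isNoetherianRing k B
  let P := Algebra.Presentation.ofFinitePresentation k B
  let E : Algebra.Extension.{u} k B := P.toExtension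
  have hNfin : Module.Finite B E.Cotangent := Algebra.Extension.Cotangent.finite P.fg_ker
  have hT1fin : Module.Finite B (CoT1 E B) := inferInstance
  set Z := (Algebra.smoothLocus k B)ᶜ with hZ
  have hZc : IsClosed Z := Algebra.isOpen_smoothLocus.isClosed_compl
  let J := PrimeSpectrum.vanishingIdeal Z
  have hZJ : PrimeSpectrum.zeroLocus (J : Set B) = Z := by
    rw [PrimeSpectrum.zeroLocus_vanishingIdeal_eq_closure, hZc.closure_eq]
  have hJ : J ≤ (Module.annihilator B (CoT1 E B)).radical := by
    intro t ht
    have hsub : (PrimeSpectrum.basicOpen t : Set (PrimeSpectrum B)) ⊆ Algebra.smoothLocus k B := by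
      intro p hp
      by_contra hps
      exact hp ((PrimeSpectrum.mem_vanishingIdeal _ _).mp ht p hps)
    obtain ⟨n, hn⟩ := exists_pow_smul_coT1 t hsub
    exact ⟨n, Module.mem_annihilator.mpr (hn B)⟩
  obtain ⟨N, hN'⟩ := Ideal.exists_pow_le_of_le_radical_of_fg hJ (IsNoetherian.noetherian J)
  have hC : Module.Finite k (B ⧸ J ^ (N + 1)) := by
    apply finite_of_finite_zeroLocus
    rw [PrimeSpectrum.zeroLocus_pow _ (Nat.succ_ne_zero N), hZJ]
    exact hfin
  have htors : Module.IsTorsionBySet B (CoT1 E B) ((J ^ (N + 1) : Ideal B) : Set B) := by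
    intro x a
    exact Module.mem_annihilator.mp (hN' (Ideal.pow_le_pow_right (Nat.le_succ N) a.2)) x
  letI := htors.module
  haveI : IsScalarTower k (B ⧸ J ^ (N + 1)) (CoT1 E B) := htors.isScalarTower
  haveI : IsScalarTower B (B ⧸ J ^ (N + 1)) (CoT1 E B) := htors.isScalarTower
  haveI : Module.Finite (B ⧸ J ^ (N + 1)) (CoT1 E B) := Module.Finite.of_restrictScalars_finite B _ _
  exact Module.Finite.trans (B ⧸ J ^ (N + 1)) _

end Fin

end Groth.Agent.LibHull29
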