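import Groth.Agent.LibHull29h
import Groth.Agent.LibDefDual29e

/-!
# The tangent space of the deformation functor of an affine scheme: parametrisation by `Hom_P(I, B₀)`
(seat helper29)
-/

set_option autoImplicit false
universe u
open TensorProduct CategoryTheory

namespace Groth.Agent.LibHull29

open ArtFun ArtFun.Art Groth.Agent.LibExal29 Groth.Agent.LibDefDual29

variable {Λ k : Type u} [CommRing Λ] [Field k] [Algebra Λ k] {B₀ : Type u} [CommRing B₀] [Algebra k B₀]

section Equiv

/-- equivalent extensions give isomorphic deformation data -/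
lemma RDef.ofExt1_iso_of_equiv {X X' : Exal.Ext k B₀ B₀} (e : X.Equiv X') :
    (RDef.ofExt1 (Λ := Λ) X).Iso (RDef.ofExt1 X') := by
  refine ⟨e.toAlgEquiv.toRingEquiv, fun a => ?_, fun x => e.proj_apply x⟩
  change e.toAlgEquiv (rho X (j1 k B₀) a) = rho X' (j1 k B₀) a
  rw [rho_apply, rho_apply, map_add, AlgEquiv.commutes, e.apply_incl]

/-- the `k`-algebra structure on the ring of a first order deformation -/
noncomputable def RDef.algK (R : RDef B₀ (dual Λ k)) : Algebra k R.E :=
  (R.φ.comp (algebraMap k (DualNumber k))).toAlgebra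

/-- the first-order datum of a deformation over `k[ε]` -/
noncomputable def RDef.toDatum (R : RDef B₀ (dual Λ k)) : Datum k B₀ :=
  letI : Algebra k R.E := R.algK
  { E := R.E
    ε := R.φ RDef.eps
    p :=
      { R.π with
        commutes' := fun c => by
          change R.π (R.φ (algebraMap k (DualNumber k) c)) = algebraMap k B₀ c
          rw [R.comm]
          rfl }
    surj := R.surj
    ker_eq := R.ker_π_dual
    sq := by rw [← map_mul, RDef.eps_mul_eps, map_zero]
    ann := R.dual_ann }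

lemma dual_decomp (a : DualNumber k) :
    a = algebraMap k (DualNumber k) a.fst + DualNumber.eps * algebraMap k (DualNumber k) a.snd := by
  have h : (DualNumber.eps : DualNumber k) * algebraMap k (DualNumber k) a.snd = TrivSqZeroExt.inr a.snd := by
    rw [TrivSqZeroExt.algebraMap_eq_inl, DualNumber.eps, TrivSqZeroExt.inr_mul_inl, op_smul_eq_smul, smul_eq_mul,
      mul_one]
  rw [h, TrivSqZeroExt.algebraMap_eq_inl, TrivSqZeroExt.inl_fst_add_inr_snd_eq]

lemma RDef.toDatum_iso (R : RDef B₀ (dual Λ k)) : (RDef.ofExt1 (Λ := Λ) R.toDatum.toExt).Iso R := by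
  refine ⟨RingEquiv.refl R.E, fun a => ?_, fun x => rfl⟩
  letI : Algebra k R.E := R.algK
  let a' : DualNumber k := a
  let φ' : DualNumber k →+* R.E := R.φ
  change rho R.toDatum.toExt (j1 k B₀) a' = φ' a'
  rw [rho_apply]
  have h1 : (algebraMap k R.toDatum.toExt.E a'.fst : R.E) = φ' (algebraMap k (DualNumber k) a'.fst) := rfl
  have h2 : (R.toDatum.toExt.incl (j1 k B₀ a'.snd) : R.E) =
      φ' (DualNumber.eps * algebraMap k (DualNumber k) a'.snd) := by
    have h3 : j1 k B₀ a'.snd = R.toDatum.p (algebraMap k R.toDatum.E a'.snd) := (AlgHom.commutes _ _).symm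
    rw [h3]
    change R.toDatum.incl (R.toDatum.p _) = _
    rw [Datum.incl_p, map_mul]
    rfl
  have h4 : φ' a' = φ' (algebraMap k (DualNumber k) a'.fst) +
      φ' (DualNumber.eps * algebraMap k (DualNumber k) a'.snd) := by
    rw [← map_add, ← dual_decomp a']
  exact (congrArg₂ (· + ·) h1 h2).trans h4.symm

end Equiv

section Param

variable {P : Type u} [CommRing P] [Algebra k P] [Algebra P B₀] [IsScalarTower k P B₀]
  (hsurj : Function.Surjective (algebraMap P B₀))

theorem exists_Rφ_iso [Algebra.FormallySmooth k P] (R : RDef B₀ (dual Λ k)) :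
    ∃ φ : RingHom.ker (algebraMap P B₀) →ₗ[P] B₀, (Rφ (Λ := Λ) (k := k) hsurj φ).Iso R := by
  obtain ⟨f, hf⟩ := exists_lift (A := k) (R := P) R.toDatum.toExt
  obtain ⟨e⟩ := nonempty_equiv_of_cf_eq hf (isLift_pushLift k B₀ (cf hf) hsurj) hsurj
    (cf_pushLift k B₀ (cf hf) hsurj).symm
  exact ⟨cf hf, ((RDef.ofExt1_iso_of_equiv e).symm).trans R.toDatum_iso⟩

theorem Rφ_iso_add_resDer (φ : RingHom.ker (algebraMap P B₀) →ₗ[P] B₀) (D : Derivation k P B₀) :
    (Rφ (Λ := Λ) (k := k) hsurj (φ + resDer (A := k) (B := B₀) D)).Iso (Rφ (Λ := Λ) (k := k) hsurj φ) := by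
  have h := cf_liftAdd (isLift_pushLift k B₀ φ hsurj) D
  rw [cf_pushLift] at h
  obtain ⟨e⟩ := nonempty_equiv_of_cf_eq (isLift_pushLift k B₀ (φ + resDer (A := k) (B := B₀) D) hsurj)
    (isLift_liftAdd (isLift_pushLift k B₀ φ hsurj) D) hsurj
    ((cf_pushLift k B₀ (φ + resDer (A := k) (B := B₀) D) hsurj).trans h.symm)
  exact RDef.ofExt1_iso_of_equiv e

end Param

end Groth.Agent.LibHull29
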