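import Groth.Agent.LibHull29j

/-!
# The linear parametrisation `Hom_P(I, B₀) → t_F` of the tangent space of `DefF B₀` (seat helper29)
-/

set_option autoImplicit false
universe u
open TensorProduct CategoryTheory

namespace Groth.Agent.LibHull29

open ArtFun ArtFun.Art Groth.Agent.LibExal29 Groth.Agent.LibDefDual29

variable {Λ k : Type u} [CommRing Λ] [Field k] [Algebra Λ k] {B₀ : Type u} [CommRing B₀] [Algebra k B₀]
variable {P : Type u} [CommRing P] [Algebra k P] [Algebra P B₀] [IsScalarTower k P B₀]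
  (hsurj : Function.Surjective (algebraMap P B₀))

lemma tsz_aux1 (w : k →ₗ[k] k) (d : TrivSqZeroExt k k) (x : k) (hx : w x = d.snd) :
    (TrivSqZeroExt.inl (TrivSqZeroExt.inl d.fst + TrivSqZeroExt.inr x : TrivSqZeroExt k k).fst +
      TrivSqZeroExt.inr (w (TrivSqZeroExt.inl d.fst + TrivSqZeroExt.inr x : TrivSqZeroExt k k).snd) :
        TrivSqZeroExt k k) = d := by
  apply TrivSqZeroExt.ext
  · rw [TrivSqZeroExt.fst_add, TrivSqZeroExt.fst_inl, TrivSqZeroExt.fst_inr, add_zero,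
      TrivSqZeroExt.fst_add, TrivSqZeroExt.fst_inl, TrivSqZeroExt.fst_inr, add_zero]
  · rw [TrivSqZeroExt.snd_add, TrivSqZeroExt.snd_inl, TrivSqZeroExt.snd_inr, zero_add,
      TrivSqZeroExt.snd_add, TrivSqZeroExt.snd_inl, TrivSqZeroExt.snd_inr, zero_add, hx]

lemma tsz_aux1' (w : k →ₗ[k] k) (x₀ : k) (hx₀ : w x₀ = 0) :
    (TrivSqZeroExt.inl (TrivSqZeroExt.inr x₀ : TrivSqZeroExt k k).fst +
      TrivSqZeroExt.inr (w (TrivSqZeroExt.inr x₀ : TrivSqZeroExt k k).snd) : TrivSqZeroExt k k) = 0 := by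
  rw [TrivSqZeroExt.fst_inr, TrivSqZeroExt.snd_inr, hx₀, TrivSqZeroExt.inl_zero, TrivSqZeroExt.inr_zero,
      add_zero]

section Dual1

variable (w : k →ₗ[k] k) (ω : B₀ →ₗ[B₀] B₀)
  (hjw : ∀ x, ω (j1 k B₀ x) = j1 k B₀ (w x)) (hw : Function.Surjective w) (hω : Function.Surjective ω)
  (hkerω : ∀ m, ω m = 0 → ∃ (b : B₀) (x₀ : k), w x₀ = 0 ∧ m = b • j1 k B₀ x₀)
  (g : dual Λ k ⟶ dual Λ k)
  (hg : ∀ t : TrivSqZeroExt k k, g t = TrivSqZeroExt.inl t.fst + TrivSqZeroExt.inr (w t.snd))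
  (φ φ' : RingHom.ker (algebraMap P B₀) →ₗ[P] B₀) (hφ : ∀ z, ω (φ z) = φ' z)

include hjw hw hω hkerω hg in
theorem isBC_dual_dual :
    RDef.IsBC g (Rφ (Λ := Λ) hsurj φ) (Rφ (Λ := Λ) hsurj φ')
      (pushMap k B₀ φ φ' ω hφ hsurj).toRingHom := by
  have hproj := proj_pushMap k B₀ φ φ' ω hφ hsurj
  have hincl := pushMap_incl k B₀ φ φ' ω hφ hsurj
  apply RDef.isBC_of_surjective
  · intro d
    let d' : TrivSqZeroExt k k := d
    obtain ⟨x, hx⟩ := hw d'.snd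
    refine ⟨(TrivSqZeroExt.inl d'.fst + TrivSqZeroExt.inr x : TrivSqZeroExt k k), ?_⟩
    exact (hg _).trans (tsz_aux1 w d' x hx)
  · intro a
    change pushMap k B₀ φ φ' ω hφ hsurj (rho (pushExt k B₀ φ hsurj) (j1 k B₀) a) =
      rho (pushExt k B₀ φ' hsurj) (j1 k B₀) (g a)
    rw [hg]
    exact extHom_rho _ _ (j1 k B₀) (j1 k B₀) w ω hjw _ hincl a
  · exact hproj
  · exact extHom_surjective _ _ ω _ hproj hincl hω
  · refine extHom_ker_le _ _ (j1 k B₀) w ω _ hproj hincl hkerω _ ?_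
    intro x₀ hx₀
    change g (TrivSqZeroExt.inr x₀ : TrivSqZeroExt k k) = 0
    exact (hg _).trans (tsz_aux1' w x₀ hx₀)

end Dual1

section Instances

lemma tszeMap_eq2 (f : (k × k) →ₗ[k] k) (t : TrivSqZeroExt k (k × k)) :
    ((tszeMap f : TrivSqZeroExt k (k × k) →ₐ[Λ] TrivSqZeroExt k k) t : TrivSqZeroExt k k) =
      TrivSqZeroExt.inl t.fst + TrivSqZeroExt.inr (f t.snd) := by
  apply TrivSqZeroExt.ext
  · rw [TrivSqZeroExt.fst_add, TrivSqZeroExt.fst_inl, TrivSqZeroExt.fst_inr, add_zero]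
    rfl
  · rw [TrivSqZeroExt.snd_add, TrivSqZeroExt.snd_inl, TrivSqZeroExt.snd_inr, zero_add]
    rfl

lemma tszeMap_eq1 (f : k →ₗ[k] k) (t : TrivSqZeroExt k k) :
    ((tszeMap f : TrivSqZeroExt k k →ₐ[Λ] TrivSqZeroExt k k) t : TrivSqZeroExt k k) =
      TrivSqZeroExt.inl t.fst + TrivSqZeroExt.inr (f t.snd) := by
  apply TrivSqZeroExt.ext
  · rw [TrivSqZeroExt.fst_add, TrivSqZeroExt.fst_inl, TrivSqZeroExt.fst_inr, add_zero]
    rfl
  · rw [TrivSqZeroExt.snd_add, TrivSqZeroExt.snd_inl, TrivSqZeroExt.snd_inr, zero_add]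
    rfl

variable (φ₁ φ₂ φ : RingHom.ker (algebraMap P B₀) →ₗ[P] B₀)

theorem map_pr₁_cl :
    (DefF (Λ := Λ) (k := k) B₀).map pr₁ (Rφ2 (Λ := Λ) hsurj φ₁ φ₂).cl = (Rφ (Λ := Λ) hsurj φ₁).cl := by
  refine RDef.map_cl_of_isBC (isBC_dual2_dual hsurj (LinearMap.fst k k k) (LinearMap.fst B₀ B₀ B₀)
    (fun x => rfl) (fun c => ⟨(c, 0), rfl⟩) (fun b => ⟨(b, 0), rfl⟩) ?_ pr₁
    (fun t => tszeMap_eq2 _ t) φ₁ φ₂ φ₁ (fun z => rfl))
  rintro ⟨m₁, m₂⟩ hm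
  refine ⟨m₂, (0, 1), rfl, ?_⟩
  have hm' : m₁ = 0 := hm
  rw [hm']
  change ((0 : B₀), m₂) = (m₂ * algebraMap k B₀ 0, m₂ * algebraMap k B₀ 1)
  rw [map_zero, map_one, mul_zero, mul_one]

theorem map_pr₂_cl :
    (DefF (Λ := Λ) (k := k) B₀).map pr₂ (Rφ2 (Λ := Λ) hsurj φ₁ φ₂).cl = (Rφ (Λ := Λ) hsurj φ₂).cl := by
  refine RDef.map_cl_of_isBC (isBC_dual2_dual hsurj (LinearMap.snd k k k) (LinearMap.snd B₀ B₀ B₀)
    (fun x => rfl) (fun c => ⟨(0, c), rfl⟩) (fun b => ⟨(0, b), rfl⟩) ?_ pr₂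
    (fun t => tszeMap_eq2 _ t) φ₁ φ₂ φ₂ (fun z => rfl))
  rintro ⟨m₁, m₂⟩ hm
  refine ⟨m₁, (1, 0), rfl, ?_⟩
  have hm' : m₂ = 0 := hm
  rw [hm']
  change (m₁, (0 : B₀)) = (m₁ * algebraMap k B₀ 1, m₁ * algebraMap k B₀ 0)
  rw [map_zero, map_one, mul_zero, mul_one]

theorem map_plus_cl :
    (DefF (Λ := Λ) (k := k) B₀).map plus (Rφ2 (Λ := Λ) hsurj φ₁ φ₂).cl =
      (Rφ (Λ := Λ) hsurj (φ₁ + φ₂)).cl := by
  refine RDef.map_cl_of_isBC (isBC_dual2_dual hsurj (LinearMap.fst k k k + LinearMap.snd k k k)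
    (LinearMap.fst B₀ B₀ B₀ + LinearMap.snd B₀ B₀ B₀)
    (fun x => ?_) (fun c => ⟨(c, 0), ?_⟩) (fun b => ⟨(b, 0), ?_⟩) ?_ plus
    (fun t => tszeMap_eq2 _ t) φ₁ φ₂ (φ₁ + φ₂) (fun z => rfl))
  · change algebraMap k B₀ x.1 + algebraMap k B₀ x.2 = algebraMap k B₀ (x.1 + x.2)
    rw [map_add]
  · change c + 0 = c
    rw [add_zero]
  · change b + 0 = b
    rw [add_zero]
  · rintro ⟨m₁, m₂⟩ hm
    refine ⟨m₁, (1, -1), ?_, ?_⟩
    · change (1 : k) + -1 = 0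
      rw [add_neg_cancel]
    · have hm' : m₁ + m₂ = 0 := hm
      have hm2 : m₂ = -m₁ := by
        rw [← sub_eq_zero, sub_neg_eq_add, add_comm]
        exact hm'
      rw [hm2]
      change (m₁, -m₁) = (m₁ * algebraMap k B₀ 1, m₁ * algebraMap k B₀ (-1))
      rw [map_neg, map_one, mul_one, mul_neg, mul_one]

theorem map_scale_cl (c : k) (hc : c ≠ 0) :
    (DefF (Λ := Λ) (k := k) B₀).map (scale c) (Rφ (Λ := Λ) hsurj φ).cl =
      (Rφ (Λ := Λ) hsurj (c • φ)).cl := by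
  refine RDef.map_cl_of_isBC (isBC_dual_dual hsurj (c • LinearMap.id) (algebraMap k B₀ c • LinearMap.id)
    (fun x => ?_) (fun y => ⟨c⁻¹ * y, ?_⟩) (fun b => ⟨algebraMap k B₀ c⁻¹ * b, ?_⟩) ?_ (scale c)
    (fun t => tszeMap_eq1 _ t) φ (c • φ) (fun z => ?_))
  · change algebraMap k B₀ c * algebraMap k B₀ x = algebraMap k B₀ (c * x)
    rw [map_mul]
  · change c * (c⁻¹ * y) = y
    rw [← mul_assoc, mul_inv_cancel₀ hc, one_mul]
  · change algebraMap k B₀ c * (algebraMap k B₀ c⁻¹ * b) = b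
    rw [← mul_assoc, ← map_mul, mul_inv_cancel₀ hc, map_one, one_mul]
  · intro m hm
    refine ⟨0, 0, map_zero _, ?_⟩
    have hm' : algebraMap k B₀ c * m = 0 := hm
    rw [zero_smul]
    have : m = algebraMap k B₀ c⁻¹ * (algebraMap k B₀ c * m) := by
      rw [← mul_assoc, ← map_mul, inv_mul_cancel₀ hc, map_one, one_mul]
    rw [this, hm', mul_zero]
  · change algebraMap k B₀ c * φ z = c • φ z
    rw [Algebra.smul_def]

end Instances

end Groth.Agent.LibHull29
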