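import Mathlib
import Groth.Statements.S12726
-- import your own Groth.Agent.* helpers here

set_option autoImplicit false
universe u v
open CategoryTheory
open ArtFun

namespace Groth.Agent.S12726

open ArtFun.Art

variable {Λ : Type u} {k : Type u} [CommRing Λ] [Field k] [Algebra Λ k]

/-- `k[ε₁, ε₂, ε₃]`. -/
noncomputable def D3 : Art Λ k :=
  { carrier := TrivSqZeroExt k (k × k × k)
    isLocalRing := isLocalRing_tsze k (k × k × k)
    isArtinianRing := isArtinianRing_tsze k (k × k × k)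
    res := TrivSqZeroExt.fstHom Λ k (k × k × k)
    res_surjective := fun a => ⟨TrivSqZeroExt.inl a, rfl⟩ }

noncomputable def m12 (f : k →ₗ[k] k × k) : dual Λ k ⟶ dual2 Λ k :=
  ⟨tszeMap f, AlgHom.ext fun _ => rfl⟩
noncomputable def m22 (f : k × k →ₗ[k] k × k) : dual2 Λ k ⟶ dual2 Λ k :=
  ⟨tszeMap f, AlgHom.ext fun _ => rfl⟩
noncomputable def m21 (f : k × k →ₗ[k] k) : dual2 Λ k ⟶ dual Λ k :=
  ⟨tszeMap f, AlgHom.ext fun _ => rfl⟩
noncomputable def m11 (f : k →ₗ[k] k) : dual Λ k ⟶ dual Λ k :=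
  ⟨tszeMap f, AlgHom.ext fun _ => rfl⟩
noncomputable def m32 (f : k × k × k →ₗ[k] k × k) : (D3 : Art Λ k) ⟶ dual2 Λ k :=
  ⟨tszeMap f, AlgHom.ext fun _ => rfl⟩
noncomputable def m31 (f : k × k × k →ₗ[k] k) : (D3 : Art Λ k) ⟶ dual Λ k :=
  ⟨tszeMap f, AlgHom.ext fun _ => rfl⟩

theorem m12_m21 (f : k →ₗ[k] k × k) (g : k × k →ₗ[k] k) :
    (m12 f : dual Λ k ⟶ dual2 Λ k) ≫ m21 g = m11 (g.comp f) :=
  hom_ext (AlgHom.ext fun _ => rfl)
theorem m22_m21 (f : k × k →ₗ[k] k × k) (g : k × k →ₗ[k] k) :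
    (m22 f : dual2 Λ k ⟶ dual2 Λ k) ≫ m21 g = m21 (g.comp f) :=
  hom_ext (AlgHom.ext fun _ => rfl)
theorem m32_m21 (f : k × k × k →ₗ[k] k × k) (g : k × k →ₗ[k] k) :
    (m32 f : (D3 : Art Λ k) ⟶ dual2 Λ k) ≫ m21 g = m31 (g.comp f) :=
  hom_ext (AlgHom.ext fun _ => rfl)
theorem m21_m11 (f : k × k →ₗ[k] k) (g : k →ₗ[k] k) :
    (m21 f : dual2 Λ k ⟶ dual Λ k) ≫ m11 g = m21 (g.comp f) :=
  hom_ext (AlgHom.ext fun _ => rfl)
theorem m11_m11 (f : k →ₗ[k] k) (g : k →ₗ[k] k) :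
    (m11 f : dual Λ k ⟶ dual Λ k) ≫ m11 g = m11 (g.comp f) :=
  hom_ext (AlgHom.ext fun _ => rfl)

theorem pr₁_eq : (pr₁ : dual2 Λ k ⟶ dual Λ k) = m21 (LinearMap.fst k k k) := rfl
theorem pr₂_eq : (pr₂ : dual2 Λ k ⟶ dual Λ k) = m21 (LinearMap.snd k k k) := rfl
theorem plus_eq : (plus : dual2 Λ k ⟶ dual Λ k) =
    m21 (LinearMap.fst k k k + LinearMap.snd k k k) := rfl
theorem scale_eq (c : k) : (scale c : dual Λ k ⟶ dual Λ k) = m11 (c • LinearMap.id) := rfl

theorem m11_id : (m11 LinearMap.id : dual Λ k ⟶ dual Λ k) = 𝟙 _ :=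
  hom_ext (AlgHom.ext fun _ => rfl)

theorem m11_zero : (m11 0 : dual Λ k ⟶ dual Λ k) = toBase (dual Λ k) ≫ baseToDual :=
  hom_ext (AlgHom.ext fun x => TrivSqZeroExt.ext rfl (by
    change (0 : k) = _
    change _ = ((algebraMap k (DualNumber k)) x.fst).snd
    rw [TrivSqZeroExt.algebraMap_eq_inl, TrivSqZeroExt.snd_inl]))

/-- projections of `D3`. -/
noncomputable def p12L : k × k × k →ₗ[k] k × k :=
  (LinearMap.fst k k (k × k)).prod ((LinearMap.fst k k k).comp (LinearMap.snd k k (k × k)))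
noncomputable def p3L : k × k × k →ₗ[k] k :=
  (LinearMap.snd k k k).comp (LinearMap.snd k k (k × k))

theorem isFibreProd_D3 :
    IsFibreProd (m32 p12L : (D3 : Art Λ k) ⟶ dual2 Λ k) (m31 p3L) (toBase (dual2 Λ k))
      (toBase (dual Λ k)) where
  w := by rw [eq_toBase (m32 p12L ≫ toBase _), eq_toBase (m31 p3L ≫ toBase _)]
  inj b₁ b₂ h₁ h₂ := by
    have e₁ : b₁.fst = b₂.fst := by have e := congrArg TrivSqZeroExt.fst h₁; exact e
    have e₂₁ : b₁.snd.1 = b₂.snd.1 := by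
      have e := congrArg (fun t => (TrivSqZeroExt.snd t).1) h₁; exact e
    have e₂₂ : b₁.snd.2.1 = b₂.snd.2.1 := by
      have e := congrArg (fun t => (TrivSqZeroExt.snd t).2) h₁; exact e
    have e₃ : b₁.snd.2.2 = b₂.snd.2.2 := by have e := congrArg TrivSqZeroExt.snd h₂; exact e
    refine TrivSqZeroExt.ext e₁ ?_
    exact Prod.ext e₂₁ (Prod.ext e₂₂ e₃)
  surj a' a'' h := by
    have h' : a'.fst = a''.fst := h
    exact ⟨(a'.fst, (a'.snd.1, a'.snd.2, a''.snd)), TrivSqZeroExt.ext rfl rfl,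
      TrivSqZeroExt.ext h' rfl⟩

section Core

variable {F : Art Λ k ⥤ Type v} (h0 : H0 F) (h2 : Heps F)

theorem map_comp_app {X Y Z : Art Λ k} (f : X ⟶ Y) (g : Y ⟶ Z) (a : F.obj X) :
    F.map (f ≫ g) a = F.map g (F.map f a) := Functor.map_comp_apply F f g a

/-- the element of `F(k[ε₁,ε₂])` with given projections. -/
noncomputable def pair (x y : F.obj (dual Λ k)) : F.obj (dual2 Λ k) :=
  (Equiv.ofBijective _ (h2 pr₁ pr₂ isFibreProd_dual2)).symm ⟨(x, y), h0.2.elim _ _⟩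

theorem cmp_pair (x y : F.obj (dual Λ k)) :
    cmp F isFibreProd_dual2 (pair h0 h2 x y) = ⟨(x, y), h0.2.elim _ _⟩ :=
  Equiv.apply_symm_apply (Equiv.ofBijective _ (h2 pr₁ pr₂ isFibreProd_dual2)) _

theorem pr₁_pair (x y : F.obj (dual Λ k)) : F.map pr₁ (pair h0 h2 x y) = x :=
  congrArg (fun t => t.1.1) (cmp_pair h0 h2 x y)

theorem pr₂_pair (x y : F.obj (dual Λ k)) : F.map pr₂ (pair h0 h2 x y) = y :=
  congrArg (fun t => t.1.2) (cmp_pair h0 h2 x y)

theorem eq_pair (z : F.obj (dual2 Λ k)) : z = pair h0 h2 (F.map pr₁ z) (F.map pr₂ z) := by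
  apply (h2 pr₁ pr₂ isFibreProd_dual2).1
  rw [cmp_pair]
  rfl

/-- addition on the tangent space. -/
noncomputable def add (x y : F.obj (dual Λ k)) : F.obj (dual Λ k) := F.map plus (pair h0 h2 x y)

theorem add_of (z : F.obj (dual2 Λ k)) :
    add h0 h2 (F.map pr₁ z) (F.map pr₂ z) = F.map plus z := by
  unfold add; rw [← eq_pair h0 h2 z]

theorem add_via {C : Art Λ k} (g : C ⟶ dual2 Λ k) (w : F.obj C) :
    F.map (g ≫ plus) w = add h0 h2 (F.map (g ≫ pr₁) w) (F.map (g ≫ pr₂) w) := by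
  rw [map_comp_app, map_comp_app,
    map_comp_app]
  exact (add_of h0 h2 (F.map g w)).symm

/-- the zero of the tangent space. -/
noncomputable def zero : F.obj (dual Λ k) := F.map baseToDual h0.1.some

include h0 in
theorem map_zeroMap (x : F.obj (dual Λ k)) :
    F.map (toBase (dual Λ k) ≫ baseToDual) x = zero h0 := by
  rw [map_comp_app]
  exact congrArg (F.map baseToDual) (h0.2.elim _ _)

theorem add_comm' (x y : F.obj (dual Λ k)) : add h0 h2 x y = add h0 h2 y x := by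
  have h := add_via h0 h2 (m22 ((LinearMap.snd k k k).prod (LinearMap.fst k k k)))
    (pair h0 h2 x y)
  have e₁ : (m22 ((LinearMap.snd k k k).prod (LinearMap.fst k k k)) : dual2 Λ k ⟶ _) ≫ plus
      = plus := by
    rw [plus_eq, m22_m21]
    congr 1
    ext <;> simp
  have e₂ : (m22 ((LinearMap.snd k k k).prod (LinearMap.fst k k k)) : dual2 Λ k ⟶ _) ≫ pr₁
      = pr₂ := by
    rw [pr₁_eq, m22_m21]; rfl
  have e₃ : (m22 ((LinearMap.snd k k k).prod (LinearMap.fst k k k)) : dual2 Λ k ⟶ _) ≫ pr₂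
      = pr₁ := by
    rw [pr₂_eq, m22_m21]; rfl
  rw [e₁, e₂, e₃, pr₁_pair, pr₂_pair] at h
  exact h

theorem add_zero' (x : F.obj (dual Λ k)) : add h0 h2 x (zero h0) = x := by
  have h := add_via h0 h2 (m12 (LinearMap.inl k k k)) x
  have e₁ : (m12 (LinearMap.inl k k k) : dual Λ k ⟶ _) ≫ plus = 𝟙 _ := by
    rw [plus_eq, m12_m21, ← m11_id]
    congr 1
    ext; simp
  have e₂ : (m12 (LinearMap.inl k k k) : dual Λ k ⟶ _) ≫ pr₁ = 𝟙 _ := by
    rw [pr₁_eq, m12_m21, ← m11_id]; rfl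
  have e₃ : (m12 (LinearMap.inl k k k) : dual Λ k ⟶ _) ≫ pr₂ =
      toBase (dual Λ k) ≫ baseToDual := by
    rw [pr₂_eq, m12_m21, ← m11_zero]
    congr 1
  rw [e₁, e₂, e₃, map_zeroMap h0, Functor.map_id_apply] at h
  exact h.symm

theorem zero_add' (x : F.obj (dual Λ k)) : add h0 h2 (zero h0) x = x := by
  rw [add_comm', add_zero']

/-- negation. -/
noncomputable def neg (x : F.obj (dual Λ k)) : F.obj (dual Λ k) := F.map (scale (-1)) x

theorem neg_add' (x : F.obj (dual Λ k)) : add h0 h2 (neg x) x = zero h0 := by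
  have h := add_via h0 h2 (m12 ((-LinearMap.id).prod LinearMap.id)) x
  have e₁ : (m12 ((-LinearMap.id).prod LinearMap.id) : dual Λ k ⟶ _) ≫ plus =
      toBase (dual Λ k) ≫ baseToDual := by
    rw [plus_eq, m12_m21, ← m11_zero]
    congr 1
    ext; simp
  have e₂ : (m12 ((-LinearMap.id).prod LinearMap.id) : dual Λ k ⟶ _) ≫ pr₁ = scale (-1) := by
    rw [pr₁_eq, m12_m21, scale_eq]
    congr 1
    ext; simp
  have e₃ : (m12 ((-LinearMap.id).prod LinearMap.id) : dual Λ k ⟶ _) ≫ pr₂ = 𝟙 _ := by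
    rw [pr₂_eq, m12_m21, ← m11_id]; rfl
  rw [e₁, e₂, e₃, map_zeroMap h0, Functor.map_id_apply] at h
  exact h.symm

noncomputable def aL : k × k × k →ₗ[k] k × k :=
  (LinearMap.fst k k (k × k) + (LinearMap.fst k k k).comp (LinearMap.snd k k (k × k))).prod
    ((LinearMap.snd k k k).comp (LinearMap.snd k k (k × k)))
noncomputable def a'L : k × k × k →ₗ[k] k × k :=
  (LinearMap.fst k k (k × k)).prod
    ((LinearMap.fst k k k).comp (LinearMap.snd k k (k × k)) +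
      (LinearMap.snd k k k).comp (LinearMap.snd k k (k × k)))

theorem add_assoc' (x y z : F.obj (dual Λ k)) :
    add h0 h2 (add h0 h2 x y) z = add h0 h2 x (add h0 h2 y z) := by
  obtain ⟨w, hw⟩ := (h2 (m32 p12L) (m31 p3L) isFibreProd_D3).2
    ⟨(pair h0 h2 x y, z), h0.2.elim _ _⟩
  have hw₁ : F.map (m32 p12L) w = pair h0 h2 x y := congrArg (fun t => t.1.1) hw
  have hw₂ : F.map (m31 p3L) w = z := congrArg (fun t => t.1.2) hw
  -- first bracketing
  have h₁ := add_via h0 h2 (m32 aL) w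
  have e₁ : (m32 aL : (D3 : Art Λ k) ⟶ _) ≫ pr₁ = m32 p12L ≫ plus := by
    rw [pr₁_eq, plus_eq, m32_m21, m32_m21]; rfl
  have e₂ : (m32 aL : (D3 : Art Λ k) ⟶ _) ≫ pr₂ = m31 p3L := by
    rw [pr₂_eq, m32_m21]; rfl
  rw [e₁, e₂, map_comp_app (m32 p12L) plus, hw₁, hw₂] at h₁
  -- second bracketing
  have h₂ := add_via h0 h2 (m32 a'L) w
  have e₃ : (m32 a'L : (D3 : Art Λ k) ⟶ _) ≫ pr₁ = m32 p12L ≫ pr₁ := by
    rw [pr₁_eq, m32_m21, m32_m21]; rfl
  have e₄ : (m32 a'L : (D3 : Art Λ k) ⟶ _) ≫ pr₂ =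
      m32 (LinearMap.snd k k (k × k)) ≫ plus := by
    rw [pr₂_eq, plus_eq, m32_m21, m32_m21]; rfl
  have e₅ : (m32 a'L : (D3 : Art Λ k) ⟶ _) ≫ plus = m32 aL ≫ plus := by
    rw [plus_eq, m32_m21, m32_m21]
    congr 1
    ext <;> simp [aL, a'L]
  have e₆ : (m32 (LinearMap.snd k k (k × k)) : (D3 : Art Λ k) ⟶ _) ≫ pr₁ = m32 p12L ≫ pr₂ := by
    rw [pr₁_eq, pr₂_eq, m32_m21, m32_m21]; rfl
  have e₇ : (m32 (LinearMap.snd k k (k × k)) : (D3 : Art Λ k) ⟶ _) ≫ pr₂ = m31 p3L := by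
    rw [pr₂_eq, m32_m21]; rfl
  have h₃ := add_via h0 h2 (m32 (LinearMap.snd k k (k × k))) w
  rw [e₆, e₇, map_comp_app (m32 p12L) pr₂, hw₁, hw₂, pr₂_pair] at h₃
  rw [e₃, e₄, e₅, map_comp_app (m32 p12L) pr₁, hw₁, pr₁_pair, h₃] at h₂
  exact h₁.symm.trans h₂

theorem smul_add' (c : k) (x y : F.obj (dual Λ k)) :
    F.map (scale c) (add h0 h2 x y) = add h0 h2 (F.map (scale c) x) (F.map (scale c) y) := by
  have h := add_via h0 h2
    (m22 ((c • LinearMap.fst k k k).prod (c • LinearMap.snd k k k))) (pair h0 h2 x y)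
  have e₁ : (m22 ((c • LinearMap.fst k k k).prod (c • LinearMap.snd k k k)) :
      dual2 Λ k ⟶ _) ≫ plus = plus ≫ scale c := by
    rw [plus_eq, scale_eq, m22_m21, m21_m11]
    congr 1
    ext <;> simp
  have e₂ : (m22 ((c • LinearMap.fst k k k).prod (c • LinearMap.snd k k k)) :
      dual2 Λ k ⟶ _) ≫ pr₁ = pr₁ ≫ scale c := by
    rw [pr₁_eq, scale_eq, m22_m21, m21_m11]
    congr 1
  have e₃ : (m22 ((c • LinearMap.fst k k k).prod (c • LinearMap.snd k k k)) :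
      dual2 Λ k ⟶ _) ≫ pr₂ = pr₂ ≫ scale c := by
    rw [pr₂_eq, scale_eq, m22_m21, m21_m11]
    congr 1
  rw [e₁, e₂, e₃, map_comp_app, map_comp_app, map_comp_app, pr₁_pair, pr₂_pair] at h
  exact h

theorem add_smul' (c d : k) (x : F.obj (dual Λ k)) :
    F.map (scale (c + d)) x = add h0 h2 (F.map (scale c) x) (F.map (scale d) x) := by
  have h := add_via h0 h2
    (m12 ((c • (LinearMap.id : k →ₗ[k] k)).prod (d • (LinearMap.id : k →ₗ[k] k)))) x
  have e₁ : (m12 ((c • (LinearMap.id : k →ₗ[k] k)).prod (d • (LinearMap.id : k →ₗ[k] k))) :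
      dual Λ k ⟶ _) ≫ plus = scale (c + d) := by
    rw [plus_eq, scale_eq, m12_m21]
    congr 1
    ext; simp
  have e₂ : (m12 ((c • (LinearMap.id : k →ₗ[k] k)).prod (d • (LinearMap.id : k →ₗ[k] k))) :
      dual Λ k ⟶ _) ≫ pr₁ = scale c := by
    rw [pr₁_eq, scale_eq, m12_m21]
    congr 1
  have e₃ : (m12 ((c • (LinearMap.id : k →ₗ[k] k)).prod (d • (LinearMap.id : k →ₗ[k] k))) :
      dual Λ k ⟶ _) ≫ pr₂ = scale d := by
    rw [pr₂_eq, scale_eq, m12_m21]
    congr 1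
  rw [e₁, e₂, e₃] at h
  exact h

theorem mul_smul' (c d : k) (x : F.obj (dual Λ k)) :
    F.map (scale (c * d)) x = F.map (scale c) (F.map (scale d) x) := by
  have e : (scale (c * d) : dual Λ k ⟶ _) = scale d ≫ scale c := by
    rw [scale_eq, scale_eq, scale_eq, m11_m11]
    congr 1
    ext; simp
  rw [e, map_comp_app]

theorem one_smul' (x : F.obj (dual Λ k)) : F.map (scale 1) x = x := by
  have e : (scale 1 : dual Λ k ⟶ _) = 𝟙 _ := by
    rw [scale_eq, ← m11_id]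
    congr 1
    ext; simp
  rw [e, Functor.map_id_apply]

/-- the additive group structure. -/
@[reducible] noncomputable def addCommGroup : AddCommGroup (F.obj (dual Λ k)) :=
  letI : Add (F.obj (dual Λ k)) := ⟨add h0 h2⟩
  letI : Zero (F.obj (dual Λ k)) := ⟨zero h0⟩
  letI : Neg (F.obj (dual Λ k)) := ⟨neg⟩
  letI G : AddGroup (F.obj (dual Λ k)) :=
    AddGroup.ofLeftAxioms (add_assoc' h0 h2) (zero_add' h0 h2) (neg_add' h0 h2)
  { G with add_comm := add_comm' h0 h2 }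

/-- the tangent structure. -/
@[reducible] noncomputable def tangentStr : TangentStr F :=
  letI := addCommGroup h0 h2
  letI : SMul k (F.obj (dual Λ k)) := ⟨fun c x => F.map (scale c) x⟩
  { addCommGroup := addCommGroup h0 h2
    module := Module.ofMinimalAxioms (smul_add' h0 h2) (add_smul' h0 h2) mul_smul' one_smul'
    smul_eq := fun _ _ => rfl
    add_eq := fun z => add_of h0 h2 z }

end Core

/-- For functors, if F is a functor on Artinian local Λ-algebras with residue field k with F(k) a point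
and satisfying (S2), then its tangent space F(k[ε]) admits the natural k-vector space structure:
scalar multiplication by c is F(ε ↦ cε) and the sum of the two projections of an element of F(k[ε₁,
ε₂]) is its image under εᵢ ↦ ε. -/
theorem result {Λ : Type u} {k : Type u} [CommRing Λ] [Field k] [Algebra Λ k]
    [IsNoetherianRing Λ] [Module.Finite Λ k]
    (F : ArtFun.Art Λ k ⥤ Type v) (h0 : ArtFun.H0 F) (h2 : ArtFun.Heps F) :
    Nonempty (ArtFun.TangentStr F) := by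
  exact ⟨tangentStr h0 h2⟩

end Groth.Agent.S12726
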