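import Groth.Agent.LibHull29k
import Groth.Agent.LibHull29i
import Groth.Agent.LibExal29b
import Groth.Agent.S12732
import Groth.Agent.S12726

/-!
# The deformation functor of an affine scheme with finite non-smooth locus has a hull (ring form)
(seat helper29)
-/

set_option autoImplicit false
universe u
open TensorProduct CategoryTheory

namespace Groth.Agent.LibHull29

open ArtFun ArtFun.Art Groth.Agent.LibExal29 Groth.Agent.LibDefDual29 Groth.Agent.LibCotT29

variable {Λ k : Type u} [CommRing Λ] [Field k] [Algebra Λ k] {B₀ : Type u} [CommRing B₀] [Algebra k B₀]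

section Theta

variable {P : Type u} [CommRing P] [Algebra k P] [Algebra P B₀] [IsScalarTower k P B₀]
  (hsurj : Function.Surjective (algebraMap P B₀))
variable [T : TangentStr (DefF (Λ := Λ) (k := k) B₀)]

/-- the parametrisation of the tangent space -/
noncomputable def Θ₀ (φ : RingHom.ker (algebraMap P B₀) →ₗ[P] B₀) :
    TangentSpace (DefF (Λ := Λ) (k := k) B₀) :=
  (Rφ (Λ := Λ) hsurj φ).cl

lemma Θ₀_add (φ₁ φ₂ : RingHom.ker (algebraMap P B₀) →ₗ[P] B₀) :
    Θ₀ (Λ := Λ) (k := k) hsurj (φ₁ + φ₂) = Θ₀ (Λ := Λ) (k := k) hsurj φ₁ + Θ₀ (Λ := Λ) (k := k) hsurj φ₂ := by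
  have h := T.add_eq (Rφ2 (Λ := Λ) hsurj φ₁ φ₂).cl
  rw [map_pr₁_cl, map_pr₂_cl, map_plus_cl] at h
  exact h.symm

lemma Θ₀_zero : Θ₀ (Λ := Λ) (k := k) hsurj (0 : RingHom.ker (algebraMap P B₀) →ₗ[P] B₀) = 0 := by
  have h := Θ₀_add (Λ := Λ) (k := k) hsurj (0 : RingHom.ker (algebraMap P B₀) →ₗ[P] B₀) 0
  rw [add_zero] at h
  exact left_eq_add.mp h

lemma Θ₀_smul (c : k) (φ : RingHom.ker (algebraMap P B₀) →ₗ[P] B₀) :
    Θ₀ (Λ := Λ) (k := k) hsurj (c • φ) = c • Θ₀ (Λ := Λ) (k := k) hsurj φ := by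
  by_cases hc : c = 0
  · rw [hc, zero_smul, zero_smul, Θ₀_zero]
  · have h := T.smul_eq c (Rφ (Λ := Λ) hsurj φ).cl
    rw [map_scale_cl hsurj φ c hc] at h
    exact h.symm

/-- the parametrisation as a linear map -/
noncomputable def Θ : (RingHom.ker (algebraMap P B₀) →ₗ[P] B₀) →ₗ[k] TangentSpace (DefF (Λ := Λ) (k := k) B₀) where
  toFun := Θ₀ (Λ := Λ) (k := k) hsurj
  map_add' := Θ₀_add hsurj
  map_smul' := Θ₀_smul hsurj

lemma Θ_surjective [Algebra.FormallySmooth k P] : Function.Surjective (Θ (Λ := Λ) (k := k) hsurj) := by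
  intro q
  obtain ⟨R, rfl⟩ := RDef.cl_surjective (Λ := Λ) (k := k) q
  obtain ⟨φ, hφ⟩ := exists_Rφ_iso hsurj R
  exact ⟨φ, (RDef.cl_eq_iff _ _).mpr hφ⟩

lemma Θ_resDer (D : Derivation k P B₀) : Θ (Λ := Λ) (k := k) hsurj (resDer (A := k) (B := B₀) D) = 0 := by
  have h : Θ₀ (Λ := Λ) (k := k) hsurj (0 + resDer (A := k) (B := B₀) D) = Θ₀ (Λ := Λ) (k := k) hsurj 0 :=
    (RDef.cl_eq_iff _ _).mpr (Rφ_iso_add_resDer hsurj 0 D)
  rw [zero_add, Θ₀_zero] at h
  exact h

end Theta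

section Finite

variable [Algebra.FinitePresentation k B₀] [T : TangentStr (DefF (Λ := Λ) (k := k) B₀)]

theorem hfin_DefF (hfin : (Algebra.smoothLocus k B₀)ᶜ.Finite) : Hfin (DefF (Λ := Λ) (k := k) B₀) := by
  let Pres := Algebra.Presentation.ofFinitePresentation k B₀
  let E : Algebra.Extension.{u} k B₀ := Pres.toExtension
  have hsurj : Function.Surjective (algebraMap E.Ring B₀) := E.algebraMap_surjective
  haveI : Algebra.FormallySmooth k E.Ring := inferInstanceAs (Algebra.FormallySmooth k (MvPolynomial _ k))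
  have hT1 : Module.Finite k (CoT1 E B₀) := finite_coT1 hfin
  -- the map from `Hom(I/I², B₀)`
  let Ψ : (E.Cotangent →ₗ[B₀] B₀) →ₗ[k] TangentSpace (DefF (Λ := Λ) (k := k) B₀) :=
    { toFun := fun χ => Θ (Λ := Λ) (k := k) hsurj (restrictKer E B₀ χ)
      map_add' := fun χ χ' => by
        rw [← map_add]
        congr 1
      map_smul' := fun c χ => by
        rw [RingHom.id_apply, ← map_smul]
        congr 1 }
  have hΨsurj : Function.Surjective Ψ := by
    intro q
    obtain ⟨φ, rfl⟩ := Θ_surjective (Λ := Λ) (k := k) hsurj q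
    refine ⟨descend E B₀ φ, ?_⟩
    change Θ (Λ := Λ) (k := k) hsurj (restrictKer E B₀ (descend E B₀ φ)) = _
    congr 1
  let p : Submodule B₀ (E.Cotangent →ₗ[B₀] B₀) := LinearMap.range (LinearMap.lcomp B₀ B₀ E.cotangentComplex)
  have hΨker : p.restrictScalars k ≤ LinearMap.ker Ψ := by
    rintro χ ⟨ψ, rfl⟩
    rw [LinearMap.mem_ker]
    change Θ (Λ := Λ) (k := k) hsurj (restrictKer E B₀ (ψ ∘ₗ E.cotangentComplex)) = 0
    rw [eq_resDer_of_descend_eq E B₀ (restrictKer E B₀ (ψ ∘ₗ E.cotangentComplex)) ψ (descend_restrictKer E B₀ _)]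
    exact Θ_resDer hsurj _
  let Ψ' := (p.restrictScalars k).liftQ Ψ hΨker
  have hΨ'surj : Function.Surjective Ψ' := by
    intro q
    obtain ⟨χ, rfl⟩ := hΨsurj q
    exact ⟨Submodule.Quotient.mk χ, rfl⟩
  haveI : Module.Finite k ((E.Cotangent →ₗ[B₀] B₀) ⧸ p.restrictScalars k) :=
    Module.Finite.equiv (Submodule.Quotient.restrictScalarsEquiv k p).symm
  exact Module.Finite.of_surjective Ψ' hΨ'surj

end Finite

section Main

theorem hasHull_DefF [IsNoetherianRing Λ] (hk : Function.Surjective (algebraMap Λ k))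
    [Algebra.FinitePresentation k B₀] (hfin : (Algebra.smoothLocus k B₀)ᶜ.Finite) :
    HasHull (DefF (Λ := Λ) (k := k) B₀) := by
  haveI : Module.Finite Λ k := Module.Finite.of_surjective (Algebra.linearMap Λ k) hk
  have hder : Subsingleton (Derivation Λ k k) := by
    refine ⟨fun D D' => ?_⟩
    ext x
    obtain ⟨l, rfl⟩ := hk x
    rw [Derivation.map_algebraMap, Derivation.map_algebraMap]
  obtain ⟨T⟩ := Groth.Agent.S12726.result (DefF (Λ := Λ) (k := k) B₀) h0_DefF heps_DefF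
  exact Groth.Agent.S12732.result hder (DefF (Λ := Λ) (k := k) B₀) h0_DefF s1_DefF heps_DefF (hfin_DefF hfin)

end Main

end Groth.Agent.LibHull29
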