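import Groth.Agent.LibHull29l
import Groth.Agent.LibHull29a
import Mathlib.AlgebraicGeometry.Morphisms.Smooth

/-!
# Smooth points of `Spec S → Spec R` and the algebraic smooth locus (seat helper29)
-/

set_option autoImplicit false
universe u
open CategoryTheory AlgebraicGeometry

namespace Groth.Agent.LibHull29

lemma formallySmooth_stalkMap_Spec_iff {R S : Type u} [CommRing R] [CommRing S] [Algebra R S]
    (p : PrimeSpectrum S) :
    ((Spec.map (CommRingCat.ofHom (algebraMap R S))).stalkMap p).hom.FormallySmooth ↔
      p ∈ Algebra.smoothLocus R S := by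
  let := Localization.AtPrime.algebraOfLiesOver (p.asIdeal.under R) p.asIdeal
  trans Algebra.FormallySmooth (Localization.AtPrime (p.asIdeal.under R)) (Localization.AtPrime p.asIdeal)
  · rw [← RingHom.formallySmooth_algebraMap]
    exact RingHom.FormallySmooth.respectsIso.arrow_mk_iso_iff
      (Scheme.arrowStalkMapSpecIso (CommRingCat.ofHom (algebraMap R S)) p)
  · exact Algebra.FormallySmooth.iff_restrictScalars.symm

end Groth.Agent.LibHull29
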