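import Groth.Agent.S12731

/-!
# The tangent space of a functor with a miniversal family is the space of point derivations of the hull
(seat helper29; the maps `thetaHom`, `thetaHom2`, `derivOf` are seat helper17's, from `S12731`)
-/

set_option autoImplicit false
universe u v
open CategoryTheory

namespace Groth.Agent.LibHullDim29

open ArtFun ArtFun.Art Groth.Agent.S12731

variable {k : Type u} [Field k] {F : Art k k ⥤ Type v} [T : TangentStr F]
variable {R : Type u} [CommRing R] [Algebra k R] (res : R →ₐ[k] k) [Algebra R k] [IsScalarTower k R k]
  (halg : ∀ r : R, algebraMap R k r = res r)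

/-- the tangent vector of a derivation, as a point of `h_R(k[ε])` -/
noncomputable def theta (D : Derivation k R k) : HomSet R res (dual k k) :=
  ⟨thetaHom res halg D, AlgHom.ext fun _ => rfl⟩

/-- a pair of derivations as a point of `h_R(k[ε₁, ε₂])` -/
noncomputable def theta2 (D D' : Derivation k R k) : HomSet R res (dual2 k k) :=
  ⟨thetaHom2 res halg D D', AlgHom.ext fun _ => rfl⟩

lemma theta_surjective : Function.Surjective (theta res halg) := by
  intro φ
  have hφ : ∀ r, (show TrivSqZeroExt k k from φ.1 r).fst = res r := fun r =>
    congrArg (fun f : R →ₐ[k] k => f r) φ.2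
  refine ⟨derivOf res halg φ.1 hφ, ?_⟩
  apply Subtype.ext
  apply AlgHom.ext
  intro r
  exact TrivSqZeroExt.ext (hφ r).symm rfl

lemma theta_injective : Function.Injective (theta res halg) := by
  intro D D' h
  ext r
  have h1 := congrArg (fun φ : HomSet R res (dual k k) => (show TrivSqZeroExt k k from φ.1 r).snd) h
  exact h1

/-- the linear map from point derivations of `R` to the tangent space of `F` given by a family -/
noncomputable def tangentLin (ξ : Family R res F) : Derivation k R k →ₗ[k] TangentSpace F where
  toFun := fun D => ξ.app _ (theta res halg D)
  map_add' := fun D D' => by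
    have e1 : HomSet.map pr₁ (theta2 res halg D D') = theta res halg D :=
      Subtype.ext (AlgHom.ext fun r => rfl)
    have e2 : HomSet.map pr₂ (theta2 res halg D D') = theta res halg D' :=
      Subtype.ext (AlgHom.ext fun r => rfl)
    have e3 : HomSet.map plus (theta2 res halg D D') = theta res halg (D + D') :=
      Subtype.ext (AlgHom.ext fun r => rfl)
    have := T.add_eq (ξ.app _ (theta2 res halg D D'))
    rw [← ξ.natural, ← ξ.natural, ← ξ.natural, e1, e2, e3] at this
    exact this.symm
  map_smul' := fun c D => by
    have e1 : HomSet.map (scale c) (theta res halg D) = theta res halg (c • D) :=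
      Subtype.ext (AlgHom.ext fun r => rfl)
    have := T.smul_eq c (ξ.app _ (theta res halg D))
    rw [← ξ.natural, e1] at this
    exact this.symm

lemma tangentLin_bijective (ξ : Family R res F) (hbij : Function.Bijective (ξ.app (dual k k))) :
    Function.Bijective (tangentLin res halg ξ) :=
  hbij.comp ⟨theta_injective res halg, theta_surjective res halg⟩

include halg in
theorem finrank_derivation_eq (ξ : Family R res F) (hbij : Function.Bijective (ξ.app (dual k k))) :
    Module.finrank k (Derivation k R k) = Module.finrank k (TangentSpace F) :=
  LinearEquiv.finrank_eq (LinearEquiv.ofBijective (tangentLin res halg ξ) (tangentLin_bijective res halg ξ hbij))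

end Groth.Agent.LibHullDim29
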