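import Groth.Agent.LibCR29f
import Mathlib.RingTheory.Derivation.Basic
import Mathlib.Algebra.Order.Antidiag.Finsupp

/-!
# Point derivations of a quotient of a power series ring by an ideal inside `𝔪²` (seat helper29)

For `π : k[[x₁, …, xₙ]] → R` surjective with kernel inside `𝔪²` and an augmentation `res : R → k`, the space of
`k`-derivations `R → k` has dimension `n`.
-/

set_option autoImplicit false
universe u

namespace Groth.Agent.LibHullDim29

open IsLocalRing Groth.Agent.LibCR29

variable {k : Type u} [Field k] {R : Type u} [CommRing R] [Algebra k R] (res : R →ₐ[k] k)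
  [Algebra R k] [IsScalarTower k R k] (halg : ∀ r : R, algebraMap R k r = res r)
  {n : ℕ} (π : MvPowerSeries (Fin n) k →ₐ[k] R)

include halg in
lemma smul_eq_res_mul (r : R) (c : k) : r • c = res r * c := by
  rw [Algebra.smul_def, halg]

/-- `res ∘ π` is the constant coefficient -/
lemma res_π (s : MvPowerSeries (Fin n) k) : res (π s) = MvPowerSeries.constantCoeff s := by
  have h1 : s = MvPowerSeries.C (MvPowerSeries.constantCoeff s) +
      (s - MvPowerSeries.C (MvPowerSeries.constantCoeff s)) := by ring
  have hker : RingHom.ker (res.comp π) = maximalIdeal (MvPowerSeries (Fin n) k) := by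
    have hsurj : Function.Surjective (res.comp π) := fun c =>
      ⟨algebraMap k _ c, by rw [AlgHom.commutes]; rfl⟩
    have : (RingHom.ker (res.comp π)).IsMaximal := RingHom.ker_isMaximal_of_surjective _ hsurj
    exact IsLocalRing.eq_maximalIdeal this
  have h2 : s - MvPowerSeries.C (MvPowerSeries.constantCoeff s) ∈ RingHom.ker (res.comp π) := by
    rw [hker, mem_maximalIdeal_ps_iff, map_sub, MvPowerSeries.constantCoeff_C, sub_self]
    exact Ideal.zero_mem _
  have h3 : res (π (s - MvPowerSeries.C (MvPowerSeries.constantCoeff s))) = 0 := h2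
  have h4 : res (π (MvPowerSeries.C (MvPowerSeries.constantCoeff s))) = MvPowerSeries.constantCoeff s := by
    have : (MvPowerSeries.C (MvPowerSeries.constantCoeff s) : MvPowerSeries (Fin n) k) =
        algebraMap k _ (MvPowerSeries.constantCoeff s) := rfl
    rw [this, AlgHom.commutes, AlgHom.commutes]
    rfl
  conv_lhs => rw [h1, map_add, map_add, h3, add_zero, h4]

/-- evaluation of a point derivation on the images of the variables -/
noncomputable def evX : Derivation k R k →ₗ[k] (Fin n → k) where
  toFun D := fun i => D (π (MvPowerSeries.X i))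
  map_add' D D' := rfl
  map_smul' c D := rfl

include halg in
lemma evX_injective (hπ : Function.Surjective π) : Function.Injective (evX (k := k) π) := by
  rw [injective_iff_map_eq_zero]
  intro D hD
  ext r
  obtain ⟨s, rfl⟩ := hπ r
  obtain ⟨q, hq⟩ := (Ideal.mem_span_range_iff_exists_fun).1 (sub_C_mem_span_X s)
  have h1 : s = MvPowerSeries.C (MvPowerSeries.constantCoeff s) + ∑ i, q i * MvPowerSeries.X i := by
    rw [hq]
    ring
  have h2 : (MvPowerSeries.C (MvPowerSeries.constantCoeff s) : MvPowerSeries (Fin n) k) =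
      algebraMap k _ (MvPowerSeries.constantCoeff s) := rfl
  rw [h1, map_add, map_add, h2, AlgHom.commutes, Derivation.map_algebraMap, zero_add, map_sum, map_sum]
  rw [Derivation.zero_apply]
  apply Finset.sum_eq_zero
  intro i _
  have h3 : D (π (MvPowerSeries.X i)) = 0 := congrFun hD i
  rw [map_mul, Derivation.leibniz, h3, smul_zero, zero_add, smul_eq_res_mul res halg, res_π,
    MvPowerSeries.constantCoeff_X, zero_mul]

/-- the coefficient of `xᵢ` -/
noncomputable def coeffX (i : Fin n) : MvPowerSeries (Fin n) k →ₗ[k] k :=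
  MvPowerSeries.coeff (Finsupp.single i 1)

lemma coeffX_mul (i : Fin n) (a b : MvPowerSeries (Fin n) k) :
    coeffX i (a * b) = MvPowerSeries.constantCoeff a * coeffX i b + MvPowerSeries.constantCoeff b * coeffX i a := by
  classical
  change MvPowerSeries.coeff (Finsupp.single i 1) (a * b) =
      MvPowerSeries.constantCoeff a * MvPowerSeries.coeff (Finsupp.single i 1) b +
      MvPowerSeries.constantCoeff b * MvPowerSeries.coeff (Finsupp.single i 1) a
  rw [MvPowerSeries.coeff_mul, Finsupp.antidiagonal_single, Finset.sum_map]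
  have h : Finset.HasAntidiagonal.antidiagonal (1 : ℕ) = {(0, 1), (1, 0)} := by decide
  rw [h, Finset.sum_pair (by decide)]
  simp [MvPowerSeries.coeff_zero_eq_constantCoeff_apply, mul_comm]

lemma coeffX_X (i j : Fin n) : coeffX (k := k) i (MvPowerSeries.X j) = if i = j then 1 else 0 := by
  classical
  change MvPowerSeries.coeff (Finsupp.single i 1) (MvPowerSeries.X j) = _
  rw [MvPowerSeries.coeff_X]
  by_cases h : i = j
  · subst h
    simp
  · rw [if_neg h, if_neg]
    intro h'
    apply h
    exact Finsupp.single_left_injective one_ne_zero h'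

lemma coeffX_mem_sq (i : Fin n) (s : MvPowerSeries (Fin n) k)
    (hs : s ∈ maximalIdeal (MvPowerSeries (Fin n) k) ^ 2) : coeffX i s = 0 := by
  rw [pow_two] at hs
  refine Submodule.mul_induction_on hs ?_ ?_
  · intro a ha b hb
    rw [mem_maximalIdeal_ps_iff, IsLocalRing.maximalIdeal_eq_bot, Ideal.mem_bot] at ha hb
    rw [coeffX_mul, ha, hb, zero_mul, zero_mul, add_zero]
  · intro x y hx hy
    rw [map_add, hx, hy, add_zero]

/-- the linear form `Σ cᵢ coeff_{xᵢ}` on power series -/
noncomputable def lc (c : Fin n → k) : MvPowerSeries (Fin n) k →ₗ[k] k := ∑ i, c i • coeffX i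

lemma lc_apply (c : Fin n → k) (s : MvPowerSeries (Fin n) k) : lc c s = ∑ i, c i * coeffX i s := by
  rw [lc, LinearMap.sum_apply]
  rfl

lemma lc_mul (c : Fin n → k) (a b : MvPowerSeries (Fin n) k) :
    lc c (a * b) = MvPowerSeries.constantCoeff a * lc c b + MvPowerSeries.constantCoeff b * lc c a := by
  rw [lc_apply, lc_apply, lc_apply, Finset.mul_sum, Finset.mul_sum, ← Finset.sum_add_distrib]
  refine Finset.sum_congr rfl fun i _ => ?_
  rw [coeffX_mul]
  ring

lemma lc_X (c : Fin n → k) (j : Fin n) : lc c (MvPowerSeries.X j) = c j := by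
  classical
  rw [lc_apply]
  simp only [coeffX_X]
  rw [Finset.sum_eq_single j]
  · rw [if_pos rfl, mul_one]
  · intro i _ hij
    rw [if_neg hij, mul_zero]
  · intro h
    exact absurd (Finset.mem_univ j) h

lemma lc_eq_zero_of_mem_sq (c : Fin n → k) (s : MvPowerSeries (Fin n) k)
    (hs : s ∈ maximalIdeal (MvPowerSeries (Fin n) k) ^ 2) : lc c s = 0 := by
  rw [lc_apply]
  apply Finset.sum_eq_zero
  intro i _
  rw [coeffX_mem_sq i s hs, mul_zero]

section Descend

variable (hπ : Function.Surjective π) (hker : RingHom.ker π ≤ maximalIdeal (MvPowerSeries (Fin n) k) ^ 2)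

/-- the linear form on `R` induced by `lc c` -/
noncomputable def lcR (c : Fin n → k) : R →ₗ[k] k :=
  (Submodule.liftQ (LinearMap.ker π.toLinearMap) (lc c) (fun s hs =>
    lc_eq_zero_of_mem_sq c s (hker hs))) ∘ₗ
    ((π.toLinearMap.quotKerEquivOfSurjective hπ).symm : R →ₗ[k] _)

lemma lcR_π (c : Fin n → k) (s : MvPowerSeries (Fin n) k) : lcR π hπ hker c (π s) = lc c s := by
  have h1 := LinearMap.quotKerEquivOfSurjective_symm_apply π.toLinearMap hπ s
  have hle : LinearMap.ker π.toLinearMap ≤ LinearMap.ker (lc c) := fun s hs =>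
    lc_eq_zero_of_mem_sq c s (hker hs)
  change (Submodule.liftQ (LinearMap.ker π.toLinearMap) (lc c) hle)
    ((π.toLinearMap.quotKerEquivOfSurjective hπ).symm (π.toLinearMap s)) = _
  rw [h1, Submodule.liftQ_apply]

/-- the point derivation of `R` with prescribed values on the variables -/
noncomputable def derOfVec (c : Fin n → k) : Derivation k R k :=
  Derivation.mk' (lcR π hπ hker c) (fun r r' => by
    obtain ⟨a, rfl⟩ := hπ r
    obtain ⟨b, rfl⟩ := hπ r'
    rw [← map_mul, lcR_π, lcR_π, lcR_π, lc_mul, smul_eq_res_mul res halg, smul_eq_res_mul res halg,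
      res_π, res_π])

lemma derOfVec_π (c : Fin n → k) (s : MvPowerSeries (Fin n) k) :
    derOfVec res halg π hπ hker c (π s) = lc c s := lcR_π π hπ hker c s

include halg hπ hker in
lemma evX_surjective : Function.Surjective (evX (k := k) (R := R) π) := by
  intro c
  refine ⟨derOfVec res halg π hπ hker c, ?_⟩
  funext i
  change derOfVec res halg π hπ hker c (π (MvPowerSeries.X i)) = c i
  rw [derOfVec_π, lc_X]

include halg hπ hker in
/-- the space of point derivations of `R = k[[x₁..xₙ]]/I`, `I ≤ 𝔪²`, has dimension `n` -/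
theorem finrank_derivation_eq_of_presentation : Module.finrank k (Derivation k R k) = n := by
  have e : Derivation k R k ≃ₗ[k] (Fin n → k) :=
    LinearEquiv.ofBijective (evX π) ⟨evX_injective res halg π hπ, evX_surjective res halg π hπ hker⟩
  rw [e.finrank_eq, Module.finrank_fin_fun]

end Descend

end Groth.Agent.LibHullDim29
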