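import Groth.Agent.LibHull29l

/-!
# `T¹(B₀/k, B₀)` is the tangent space of the deformation functor of `Spec B₀` (seat helper29)
-/

set_option autoImplicit false
universe u
open TensorProduct CategoryTheory

namespace Groth.Agent.LibHull29

open ArtFun ArtFun.Art Groth.Agent.LibExal29 Groth.Agent.LibDefDual29 Groth.Agent.LibCotT29

variable {Λ k : Type u} [CommRing Λ] [Field k] [Algebra Λ k] {B₀ : Type u} [CommRing B₀] [Algebra k B₀]

section Equiv

/-- isomorphic deformation data come from equivalent extensions -/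
lemma RDef.equiv_of_ofExt1_iso {X X' : Exal.Ext k B₀ B₀}
    (h : (RDef.ofExt1 (Λ := Λ) X).Iso (RDef.ofExt1 X')) : Nonempty (X.Equiv X') := by
  obtain ⟨ψ, h1, h2⟩ := h
  let ψ' : X.E ≃+* X'.E := ψ
  have h1' : ∀ a : TrivSqZeroExt k k, ψ' (rho X (j1 k B₀) a) = rho X' (j1 k B₀) a := h1
  have h2' : ∀ x : X.E, X'.proj (ψ' x) = X.proj x := h2
  have hcomm : ∀ c : k, ψ' (algebraMap k X.E c) = algebraMap k X'.E c := by
    intro c
    have := h1' (TrivSqZeroExt.inl c)
    rw [rho_apply, rho_apply, TrivSqZeroExt.fst_inl, TrivSqZeroExt.snd_inl, map_zero, map_zero, map_zero,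
      add_zero, add_zero] at this
    exact this
  have hone : ψ' (X.incl 1) = X'.incl 1 := by
    have := h1' (TrivSqZeroExt.inr 1)
    rw [rho_inr, rho_inr] at this
    have hj : j1 k B₀ 1 = 1 := map_one (algebraMap k B₀)
    rw [hj] at this
    exact this
  refine ⟨{ toAlgEquiv := AlgEquiv.ofRingEquiv (f := ψ') hcomm, proj_apply := h2', apply_incl := ?_ }⟩
  intro z
  obtain ⟨x, rfl⟩ := X.isExtension.proj_surjective z
  change ψ' (X.incl (X.proj x)) = X'.incl (X.proj x)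
  have e1 : X.incl (X.proj x) = x * X.incl 1 := by
    rw [X.isExtension.mul_incl, smul_eq_mul, mul_one]
  have e2 : X'.incl (X.proj x) = ψ' x * X'.incl 1 := by
    rw [X'.isExtension.mul_incl, h2', smul_eq_mul, mul_one]
  rw [e1, e2, map_mul, hone]

end Equiv

section Param

variable {P : Type u} [CommRing P] [Algebra k P] [Algebra P B₀] [IsScalarTower k P B₀]
  (hsurj : Function.Surjective (algebraMap P B₀))

/-- isomorphic `Rφ` differ by the restriction of a derivation -/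
theorem exists_resDer_of_Rφ_iso (φ φ' : RingHom.ker (algebraMap P B₀) →ₗ[P] B₀)
    (h : (Rφ (Λ := Λ) (k := k) hsurj φ).Iso (Rφ (Λ := Λ) (k := k) hsurj φ')) :
    ∃ D : Derivation k P B₀, φ = φ' + resDer (A := k) (B := B₀) D := by
  obtain ⟨θ⟩ := RDef.equiv_of_ofExt1_iso h
  have h1 := cf_equiv (isLift_pushLift k B₀ φ hsurj) θ
  rw [cf_pushLift] at h1
  have h2 := cf_eq_add_resDer (isLift_pushLift k B₀ φ' hsurj) (isLift_equiv (isLift_pushLift k B₀ φ hsurj) θ)
  rw [cf_pushLift, h1] at h2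
  exact ⟨_, h2⟩

variable [T : TangentStr (DefF (Λ := Λ) (k := k) B₀)]

theorem Θ_eq_zero_iff (φ : RingHom.ker (algebraMap P B₀) →ₗ[P] B₀) :
    Θ (Λ := Λ) (k := k) hsurj φ = 0 ↔ ∃ D : Derivation k P B₀, φ = resDer (A := k) (B := B₀) D := by
  constructor
  · intro h
    have h0 : Θ₀ (Λ := Λ) (k := k) hsurj φ = Θ₀ (Λ := Λ) (k := k) hsurj 0 := by
      rw [Θ₀_zero]
      exact h
    obtain ⟨D, hD⟩ := exists_resDer_of_Rφ_iso hsurj φ 0 ((RDef.cl_eq_iff _ _).mp h0)
    rw [zero_add] at hD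
    exact ⟨D, hD⟩
  · rintro ⟨D, rfl⟩
    exact Θ_resDer hsurj D

end Param

section Finrank

variable (E : Algebra.Extension.{u} k B₀) [Algebra.FormallySmooth k E.Ring]
  [T : TangentStr (DefF (Λ := Λ) (k := k) B₀)]

/-- the coboundaries in `Hom(I/I², B₀)` -/
noncomputable abbrev cobd : Submodule B₀ (E.Cotangent →ₗ[B₀] B₀) := LinearMap.range (LinearMap.lcomp B₀ B₀ E.cotangentComplex)

/-- `Hom(I/I², B₀) → t_F` -/
noncomputable def PsiL : (E.Cotangent →ₗ[B₀] B₀) →ₗ[k] TangentSpace (DefF (Λ := Λ) (k := k) B₀) where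
  toFun := fun χ => Θ (Λ := Λ) (k := k) E.algebraMap_surjective (restrictKer E B₀ χ)
  map_add' := fun χ χ' => by
    rw [← map_add]
    congr 1
  map_smul' := fun c χ => by
    rw [RingHom.id_apply, ← map_smul]
    congr 1

lemma PsiL_surjective : Function.Surjective (PsiL (Λ := Λ) E) := by
  intro q
  obtain ⟨φ, rfl⟩ := Θ_surjective (Λ := Λ) (k := k) E.algebraMap_surjective q
  refine ⟨descend E B₀ φ, ?_⟩
  change Θ (Λ := Λ) (k := k) E.algebraMap_surjective (restrictKer E B₀ (descend E B₀ φ)) = _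
  congr 1

lemma ker_PsiL : LinearMap.ker (PsiL (Λ := Λ) E) = (cobd E).restrictScalars k := by
  ext χ
  rw [LinearMap.mem_ker, Submodule.restrictScalars_mem]
  change Θ (Λ := Λ) (k := k) E.algebraMap_surjective (restrictKer E B₀ χ) = 0 ↔ _
  rw [Θ_eq_zero_iff]
  constructor
  · rintro ⟨D, hD⟩
    refine ⟨psiOfDer E B₀ D, ?_⟩
    change psiOfDer E B₀ D ∘ₗ E.cotangentComplex = χ
    rw [← descend_resDer, ← hD, descend_restrictKer]
  · rintro ⟨ψ, rfl⟩
    exact ⟨derOfPsi E B₀ ψ, eq_resDer_of_descend_eq E B₀ _ ψ (descend_restrictKer E B₀ _)⟩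

theorem finrank_coT1_eq :
    Module.finrank k (CoT1 E B₀) = Module.finrank k (TangentSpace (DefF (Λ := Λ) (k := k) B₀)) := by
  have e1 : ((E.Cotangent →ₗ[B₀] B₀) ⧸ (cobd E).restrictScalars k) ≃ₗ[k] CoT1 E B₀ :=
    Submodule.Quotient.restrictScalarsEquiv k (cobd E)
  have e2 : ((E.Cotangent →ₗ[B₀] B₀) ⧸ LinearMap.ker (PsiL (Λ := Λ) E)) ≃ₗ[k]
      TangentSpace (DefF (Λ := Λ) (k := k) B₀) :=
    LinearMap.quotKerEquivOfSurjective _ (PsiL_surjective E)
  have e3 : ((E.Cotangent →ₗ[B₀] B₀) ⧸ LinearMap.ker (PsiL (Λ := Λ) E)) ≃ₗ[k]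
      ((E.Cotangent →ₗ[B₀] B₀) ⧸ (cobd E).restrictScalars k) :=
    Submodule.quotEquivOfEq _ _ (ker_PsiL E)
  rw [← e1.finrank_eq, ← e3.finrank_eq, e2.finrank_eq]

end Finrank

section T1

variable {ι σ : Type u} (P : Algebra.Presentation k B₀ ι σ) [T : TangentStr (DefF (Λ := Λ) (k := k) B₀)]

theorem finrank_T1_eq :
    Module.finrank k (CotT.T1 P B₀) = Module.finrank k (TangentSpace (DefF (Λ := Λ) (k := k) B₀)) := by
  haveI : Algebra.FormallySmooth k P.toExtension.Ring :=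
    inferInstanceAs (Algebra.FormallySmooth k (MvPolynomial ι k))
  rw [← finrank_coT1_eq (Λ := Λ) P.toExtension]
  exact ((T1equivCoT1 P B₀).restrictScalars k).finrank_eq

end T1

end Groth.Agent.LibHull29
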