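import Mathlib.RingTheory.Filtration
import Mathlib.RingTheory.Nakayama
import Mathlib.RingTheory.Artinian.Ring
import Mathlib.RingTheory.HopkinsLevitzki
import Mathlib.RingTheory.Ideal.Quotient.Noetherian
import Mathlib.Tactic.LinearCombination
import Mathlib.RingTheory.LocalRing.ResidueField.Ideal
import Mathlib.LinearAlgebra.Dual.Lemmas
import Mathlib.LinearAlgebra.TensorProduct.Basic
import Mathlib.Algebra.Module.SpanRank

/-!
# The core of the "obstruction space bounds the number of relations" argument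

For a Noetherian local `k`-algebra `P` with residue field `k` and an ideal `I ≤ 𝔪`, we form the test
extension `C' = P/(𝔪 I + 𝔪ⁿ) → P/(I + 𝔪ⁿ)` with kernel `J = (I + 𝔪ⁿ)/(𝔪 I + 𝔪ⁿ)`, for `n` so
large that `I ∩ 𝔪ⁿ ≤ 𝔪 I` (Artin–Rees).
-/

set_option autoImplicit false
universe u

namespace Groth.Agent.LibObs29

open IsLocalRing TensorProduct

/-- The derivation lemma: if `ψ` kills `I` and agrees with `q` modulo the image of `I`, where the image of `𝔪 I`
vanishes, then `q` kills `I ∩ 𝔪²`. -/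
theorem inf_sq_le_ker_of_lift {P B : Type*} [CommRing P] [CommRing B] (m I : Ideal P) (hI : I ≤ m)
    (q ψ : P →+* B) (hq : m * I ≤ RingHom.ker q) (hψ : I ≤ RingHom.ker ψ)
    (hδ : ∀ x, ψ x - q x ∈ I.map q) : I ⊓ m ^ 2 ≤ RingHom.ker q := by
  have hbot : m.map q * I.map q = ⊥ := by
    rw [← Ideal.map_mul, Ideal.map_eq_bot_iff_le_ker]
    exact hq
  have key : ∀ z ∈ m.map q, ∀ j ∈ I.map q, z * j = 0 := by
    intro z hz j hj
    have : z * j ∈ m.map q * I.map q := Ideal.mul_mem_mul hz hj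
    rw [hbot] at this
    exact (Ideal.mem_bot.1 this)
  have hprod : ∀ x ∈ m, ∀ y ∈ m, ψ (x * y) = q (x * y) := by
    intro x hx y hy
    have hqx : q x ∈ m.map q := Ideal.mem_map_of_mem q hx
    have hqy : q y ∈ m.map q := Ideal.mem_map_of_mem q hy
    have hIm : I.map q ≤ m.map q := Ideal.map_mono hI
    have e1 : q y * (ψ x - q x) = 0 := key _ hqy _ (hδ x)
    have e2 : q x * (ψ y - q y) = 0 := key _ hqx _ (hδ y)
    have e3 : (ψ x - q x) * (ψ y - q y) = 0 := key _ (hIm (hδ x)) _ (hδ y)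
    rw [map_mul, map_mul]
    have : ψ x * ψ y - q x * q y = q y * (ψ x - q x) + q x * (ψ y - q y) + (ψ x - q x) * (ψ y - q y) := by
      ring
    rw [e1, e2, e3] at this
    simpa [sub_eq_zero] using this
  have hsq : ∀ f ∈ m ^ 2, ψ f = q f := by
    intro f hf
    rw [pow_two] at hf
    refine Submodule.mul_induction_on hf (fun x hx y hy => hprod x hx y hy) ?_
    intro x y hx hy
    rw [map_add, map_add, hx, hy]
  intro f hf
  rw [RingHom.mem_ker, ← hsq f hf.2]
  exact hψ hf.1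

/-- The linear-algebra lemma: if every functional killing `ω` (after contraction) kills `J₂`, then `dim J₂ ≤ dim V`. -/
theorem finrank_le_of_forall_dual {k : Type*} [Field k] {J V : Type*} [AddCommGroup J] [Module k J]
    [AddCommGroup V] [Module k V] [Module.Finite k J] [Module.Finite k V] (ω : V ⊗[k] J)
    (J₂ : Submodule k J)
    (h : ∀ φ : J →ₗ[k] k, LinearMap.lTensor V φ ω = 0 → J₂ ≤ LinearMap.ker φ) :
    Module.finrank k J₂ ≤ Module.finrank k V := by
  let Φ : Module.Dual k J →ₗ[k] V :=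
    (TensorProduct.rid k V).toLinearMap ∘ₗ (LinearMap.lTensorHom V).flip ω
  have hΦ : ∀ φ, Φ φ = TensorProduct.rid k V (LinearMap.lTensor V φ ω) := fun φ => rfl
  have hker : LinearMap.ker Φ ≤ J₂.dualAnnihilator := by
    intro φ hφ
    rw [LinearMap.mem_ker, hΦ] at hφ
    have h0 : LinearMap.lTensor V φ ω = 0 := by
      simpa using hφ
    rw [Submodule.mem_dualAnnihilator]
    intro w hw
    exact LinearMap.mem_ker.1 (h φ h0 hw)
  have h1 := LinearMap.finrank_range_add_finrank_ker Φ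
  have h2 : Module.finrank k (LinearMap.range Φ) ≤ Module.finrank k V := Submodule.finrank_le _
  have h3 : Module.finrank k (LinearMap.ker Φ) ≤ Module.finrank k J₂.dualAnnihilator :=
    Submodule.finrank_mono hker
  have h4 := Subspace.finrank_add_finrank_dualAnnihilator_eq J₂
  have h5 : Module.finrank k (Module.Dual k J) = Module.finrank k J := Subspace.dual_finrank_eq
  omega

/-- Factoring a linear map through a functional with smaller kernel. -/
theorem exists_factor_of_ker_le {k : Type*} [Field k] {J N : Type*} [AddCommGroup J] [Module k J]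
    [AddCommGroup N] [Module k N] (φ : J →ₗ[k] k) (q : J →ₗ[k] N)
    (h : LinearMap.ker φ ≤ LinearMap.ker q) : ∃ ι : k →ₗ[k] N, q = ι ∘ₗ φ := by
  by_cases hφ : φ = 0
  · refine ⟨0, ?_⟩
    ext j
    have : j ∈ LinearMap.ker φ := by simp [hφ]
    simpa using LinearMap.mem_ker.1 (h this)
  · obtain ⟨j₀, hj₀⟩ : ∃ j₀, φ j₀ ≠ 0 := by
      by_contra hcon
      push Not at hcon
      exact hφ (LinearMap.ext hcon)
    refine ⟨LinearMap.toSpanSingleton k N ((φ j₀)⁻¹ • q j₀), ?_⟩
    ext j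
    have hmem : j - (φ j * (φ j₀)⁻¹) • j₀ ∈ LinearMap.ker φ := by
      rw [LinearMap.mem_ker, map_sub, map_smul, smul_eq_mul, mul_assoc, inv_mul_cancel₀ hj₀, mul_one,
        sub_self]
    have := LinearMap.mem_ker.1 (h hmem)
    rw [map_sub, map_smul, sub_eq_zero] at this
    rw [LinearMap.comp_apply, LinearMap.toSpanSingleton_apply, this, smul_smul]

section test

variable {k P : Type u} [Field k] [CommRing P] [IsLocalRing P] [Algebra k P]

/-- Artin–Rees: for `n` large, `I ∩ 𝔪^(n+1) ≤ 𝔪 I`. -/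
theorem exists_inf_pow_le [IsNoetherianRing P] (I : Ideal P) :
    ∃ n : ℕ, I ⊓ maximalIdeal P ^ (n + 1) ≤ maximalIdeal P * I := by
  obtain ⟨k₀, hk₀⟩ := Ideal.exists_pow_inf_eq_pow_smul (maximalIdeal P) (I : Submodule P P)
  refine ⟨k₀, ?_⟩
  have h := hk₀ (k₀ + 1) (by omega)
  have e1 : k₀ + 1 - k₀ = 1 := by omega
  rw [e1, pow_one] at h
  have e2 : ∀ (A : Ideal P), A • (⊤ : Submodule P P) = A := fun A => Ideal.mul_top A
  rw [e2] at h
  rw [inf_comm, h]
  exact Ideal.mul_mono_right inf_le_right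

/-- the ideal `𝔪 I + 𝔪^(n+1)` -/
def aa (I : Ideal P) (n : ℕ) : Ideal P := maximalIdeal P * I ⊔ maximalIdeal P ^ (n + 1)

lemma aa_le (I : Ideal P) (n : ℕ) : aa I n ≤ maximalIdeal P :=
  sup_le Ideal.mul_le_left (Ideal.pow_le_self (by omega))

instance (I : Ideal P) (n : ℕ) : Nontrivial (P ⧸ aa I n) :=
  Ideal.Quotient.nontrivial_iff.2 (fun h =>
    (IsLocalRing.maximalIdeal.isMaximal P).ne_top (top_le_iff.1 (h ▸ aa_le I n)))

instance (I : Ideal P) (n : ℕ) : IsLocalRing (P ⧸ aa I n) :=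
  IsLocalRing.of_surjective' (Ideal.Quotient.mk (aa I n)) Ideal.Quotient.mk_surjective

lemma maximalIdeal_quot (I : Ideal P) (n : ℕ) :
    maximalIdeal (P ⧸ aa I n) = (maximalIdeal P).map (Ideal.Quotient.mk (aa I n)) :=
  (IsLocalRing.map_maximalIdeal_of_surjective (Ideal.Quotient.mk (aa I n))
    Ideal.Quotient.mk_surjective).symm

instance [IsNoetherianRing P] (I : Ideal P) (n : ℕ) : IsArtinianRing (P ⧸ aa I n) := by
  rw [isArtinianRing_iff_isNilpotent_maximalIdeal]
  refine ⟨n + 1, ?_⟩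
  rw [Ideal.zero_eq_bot, ← le_bot_iff, maximalIdeal_quot, ← Ideal.map_pow]
  calc (maximalIdeal P ^ (n + 1)).map (Ideal.Quotient.mk (aa I n))
      ≤ (aa I n).map (Ideal.Quotient.mk (aa I n)) := Ideal.map_mono le_sup_right
    _ = ⊥ := Ideal.map_quotient_self _

/-- the kernel of the test extension -/
def JJ (I : Ideal P) (n : ℕ) : Ideal (P ⧸ aa I n) := I.map (Ideal.Quotient.mk (aa I n))

lemma maximalIdeal_mul_JJ (I : Ideal P) (n : ℕ) : maximalIdeal (P ⧸ aa I n) * JJ I n = ⊥ := by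
  rw [JJ, maximalIdeal_quot, ← Ideal.map_mul, Ideal.map_eq_bot_iff_le_ker, Ideal.mk_ker]
  exact le_sup_left

lemma JJ_le (I : Ideal P) (n : ℕ) (hI : I ≤ maximalIdeal P) :
    JJ I n ≤ maximalIdeal (P ⧸ aa I n) := by
  rw [JJ, maximalIdeal_quot]
  exact Ideal.map_mono hI

lemma hres_quot (hres : ∀ x : P, ∃ c : k, x - algebraMap k P c ∈ maximalIdeal P) (I : Ideal P)
    (n : ℕ) (x : P ⧸ aa I n) :
    ∃ c : k, x - algebraMap k (P ⧸ aa I n) c ∈ maximalIdeal (P ⧸ aa I n) := by
  obtain ⟨a, rfl⟩ := Ideal.Quotient.mk_surjective x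
  obtain ⟨c, hc⟩ := hres a
  refine ⟨c, ?_⟩
  rw [maximalIdeal_quot]
  have : Ideal.Quotient.mk (aa I n) a - algebraMap k (P ⧸ aa I n) c =
      Ideal.Quotient.mk (aa I n) (a - algebraMap k P c) := by
    rw [map_sub]; rfl
  rw [this]
  exact Ideal.mem_map_of_mem _ hc

end test

section scalar

variable {k : Type u} [Field k] {C : Type u} [CommRing C] [Algebra k C]

/-- elements act on an ideal killed by the maximal ideal through scalars -/
lemma exists_scalar [IsLocalRing C]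
    (hres : ∀ x : C, ∃ c : k, x - algebraMap k C c ∈ maximalIdeal C) (J : Ideal C)
    (hJ : maximalIdeal C * J = ⊥) (x : C) : ∃ c : k, ∀ j ∈ J, x * j = c • j := by
  obtain ⟨c, hc⟩ := hres x
  refine ⟨c, fun j hj => ?_⟩
  have h0 : (x - algebraMap k C c) * j = 0 := by
    have : (x - algebraMap k C c) * j ∈ maximalIdeal C * J := Ideal.mul_mem_mul hc hj
    rw [hJ] at this
    exact Ideal.mem_bot.1 this
  rw [Algebra.smul_def]
  linear_combination h0

/-- the kernel of a functional on `J`, as an ideal -/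
def kerIdeal (J : Ideal C) (hsc : ∀ x : C, ∃ c : k, ∀ j ∈ J, x * j = c • j) (φ : ↥J →ₗ[k] k) :
    Ideal C where
  carrier := {x | ∃ h : x ∈ J, φ ⟨x, h⟩ = 0}
  add_mem' := by
    rintro a b ⟨ha, ha'⟩ ⟨hb, hb'⟩
    refine ⟨J.add_mem ha hb, ?_⟩
    have : (⟨a + b, J.add_mem ha hb⟩ : ↥J) = ⟨a, ha⟩ + ⟨b, hb⟩ := rfl
    rw [this, map_add, ha', hb', add_zero]
  zero_mem' := by
    refine ⟨J.zero_mem, ?_⟩
    have : (⟨0, J.zero_mem⟩ : ↥J) = 0 := rfl
    rw [this, map_zero]
  smul_mem' := by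
    rintro c x ⟨hx, hx'⟩
    obtain ⟨a, ha⟩ := hsc c
    refine ⟨J.mul_mem_left c hx, ?_⟩
    have : (⟨c • x, J.mul_mem_left c hx⟩ : ↥J) = a • (⟨x, hx⟩ : ↥J) :=
      Subtype.ext (by simpa using ha x hx)
    rw [this, map_smul, hx', smul_zero]

lemma mem_kerIdeal (J : Ideal C) (hsc : ∀ x : C, ∃ c : k, ∀ j ∈ J, x * j = c • j)
    (φ : ↥J →ₗ[k] k) (x : C) : x ∈ kerIdeal J hsc φ ↔ ∃ h : x ∈ J, φ ⟨x, h⟩ = 0 := Iff.rfl

lemma kerIdeal_le (J : Ideal C) (hsc : ∀ x : C, ∃ c : k, ∀ j ∈ J, x * j = c • j)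
    (φ : ↥J →ₗ[k] k) : kerIdeal J hsc φ ≤ J := fun _ hx => hx.1

/-- such an ideal is a finite-dimensional vector space when it is a finite module -/
lemma finite_of_scalar [IsNoetherianRing C] (J : Ideal C)
    (hsc : ∀ x : C, ∃ c : k, ∀ j ∈ J, x * j = c • j) : Module.Finite k ↥J := by
  obtain ⟨s, hs⟩ := (inferInstance : Module.Finite C ↥J).fg_top
  refine ⟨⟨s, ?_⟩⟩
  rw [eq_top_iff]
  intro x _
  have hx : x ∈ Submodule.span C (s : Set ↥J) := by rw [hs]; trivial
  induction hx using Submodule.span_induction with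
  | mem y hy => exact Submodule.subset_span hy
  | zero => exact Submodule.zero_mem _
  | add y z _ _ hy hz => exact Submodule.add_mem _ (hy trivial) (hz trivial)
  | smul c y _ hy =>
    obtain ⟨a, ha⟩ := hsc c
    have : c • y = a • y := Subtype.ext (by simpa using ha y y.2)
    rw [this]
    exact Submodule.smul_mem _ _ (hy trivial)

end scalar

section core

variable {k P : Type u} [Field k] [CommRing P] [IsLocalRing P] [IsNoetherianRing P] [Algebra k P]

theorem spanFinrank_le_finrank (I : Ideal P) (n : ℕ)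
    (hn : I ⊓ maximalIdeal P ^ (n + 1) ≤ maximalIdeal P * I)
    [Module.Finite k ↥(JJ I n)] :
    I.spanFinrank ≤ Module.finrank k ↥(JJ I n) := by
  classical
  let b := Module.finBasis k ↥(JJ I n)
  have hlift : ∀ i, ∃ f : P, f ∈ I ∧ Ideal.Quotient.mk (aa I n) f = (b i : P ⧸ aa I n) := by
    intro i
    have : (b i : P ⧸ aa I n) ∈ I.map (Ideal.Quotient.mk (aa I n)) := (b i).2
    rw [Ideal.mem_map_iff_of_surjective _ Ideal.Quotient.mk_surjective] at this
    exact this
  choose f hfI hf using hlift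
  let N : Ideal P := Ideal.span (Set.range f)
  have hNI : N ≤ I := Ideal.span_le.2 (by rintro _ ⟨i, rfl⟩; exact hfI i)
  have hmod : aa I n ⊓ I ≤ maximalIdeal P * I := by
    show (maximalIdeal P * I ⊔ maximalIdeal P ^ (n + 1)) ⊓ I ≤ _
    rw [sup_inf_assoc_of_le _ Ideal.mul_le_right]
    exact sup_le le_rfl (by rw [inf_comm]; exact hn)
  have hIN : I ≤ N := by
    apply Submodule.le_of_le_smul_of_le_jacobson_bot (I := maximalIdeal P)
      (IsNoetherian.noetherian I) (IsLocalRing.maximalIdeal_le_jacobson _)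
    intro g hg
    have hgJ : Ideal.Quotient.mk (aa I n) g ∈ JJ I n := Ideal.mem_map_of_mem _ hg
    have hrepr := b.sum_repr ⟨_, hgJ⟩
    let g' : P := ∑ i, algebraMap k P (b.repr ⟨_, hgJ⟩ i) * f i
    have hg'N : g' ∈ N :=
      Ideal.sum_mem _ (fun i _ => Ideal.mul_mem_left _ _ (Ideal.subset_span ⟨i, rfl⟩))
    have hmk : Ideal.Quotient.mk (aa I n) g' = Ideal.Quotient.mk (aa I n) g := by
      have h1 : ((∑ i, b.repr ⟨_, hgJ⟩ i • b i : ↥(JJ I n)) : P ⧸ aa I n) =
          Ideal.Quotient.mk (aa I n) g := congrArg Subtype.val hrepr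
      rw [AddSubmonoidClass.coe_finsetSum] at h1
      rw [← h1, map_sum]
      refine Finset.sum_congr rfl (fun i _ => ?_)
      rw [map_mul, hf i, Submodule.coe_smul_of_tower, Algebra.smul_def]
      rfl
    have hdiff : g - g' ∈ aa I n ⊓ I :=
      ⟨(Ideal.Quotient.eq).1 hmk.symm, I.sub_mem hg (hNI hg'N)⟩
    have : g = g' + (g - g') := by ring
    rw [this]
    exact Submodule.add_mem_sup hg'N (by rw [Ideal.smul_eq_mul]; exact hmod hdiff)
  have hEq : I = N := le_antisymm hIN hNI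
  have hEq' : I.spanFinrank = N.spanFinrank := congrArg _ hEq
  rw [hEq']
  calc N.spanFinrank ≤ (Set.range f).ncard :=
        Submodule.spanFinrank_span_le_ncard_of_finite (Set.finite_range f)
    _ ≤ Module.finrank k ↥(JJ I n) := by
      have : Set.range f = ((Finset.univ.image f : Finset P) : Set P) := by simp
      rw [this, Set.ncard_coe_finset]
      exact Finset.card_image_le.trans (by simp)

/-- the image of `I ∩ 𝔪²` in the kernel of the test extension -/
def J₂ (I : Ideal P) (n : ℕ) (J : Ideal (P ⧸ aa I n)) : Submodule k ↥J :=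
  Submodule.comap (J.subtype.restrictScalars k)
    (((I ⊓ maximalIdeal P ^ 2).map (Ideal.Quotient.mk (aa I n))).restrictScalars k)

theorem core (I : Ideal P) (hI : I ≤ maximalIdeal P) (n : ℕ)
    (J : Ideal (P ⧸ aa I n)) (hJ : J = JJ I n)
    (hsc : ∀ x : P ⧸ aa I n, ∃ c : k, ∀ j ∈ J, x * j = c • j)
    {V : Type u} [AddCommGroup V] [Module k V] [Module.Finite k V] (ω : V ⊗[k] ↥J)
    (H : ∀ φ : ↥J →ₗ[k] k, LinearMap.lTensor V φ ω = 0 →
      ∃ ψ : P →+* (P ⧸ aa I n) ⧸ kerIdeal J hsc φ, I ≤ RingHom.ker ψ ∧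
        ∀ x, ψ x - Ideal.Quotient.mk _ (Ideal.Quotient.mk (aa I n) x) ∈
          J.map (Ideal.Quotient.mk (kerIdeal J hsc φ))) :
    Module.finrank k ↥(J₂ (k := k) I n J) ≤ Module.finrank k V := by
  subst hJ
  have hfin : Module.Finite k ↥(JJ I n) := finite_of_scalar (JJ I n) hsc
  apply finrank_le_of_forall_dual ω
  intro φ hφ
  obtain ⟨ψ, hψI, hψ⟩ := H φ hφ
  let q : P →+* (P ⧸ aa I n) ⧸ kerIdeal (JJ I n) hsc φ :=
    (Ideal.Quotient.mk (kerIdeal (JJ I n) hsc φ)).comp (Ideal.Quotient.mk (aa I n))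
  have hq : maximalIdeal P * I ≤ RingHom.ker q := by
    intro x hx
    have h0 : Ideal.Quotient.mk (aa I n) x = 0 :=
      Ideal.Quotient.eq_zero_iff_mem.2 (le_sup_left (a := maximalIdeal P * I) hx)
    rw [RingHom.mem_ker, RingHom.comp_apply, h0, map_zero]
  have hmap : I.map q = (JJ I n).map (Ideal.Quotient.mk (kerIdeal (JJ I n) hsc φ)) := by
    unfold JJ
    rw [Ideal.map_map]
    rfl
  have hkey := inf_sq_le_ker_of_lift (maximalIdeal P) I hI q ψ hq hψI
    (fun x => by rw [hmap]; exact hψ x)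
  intro j hj
  rw [LinearMap.mem_ker]
  have hj' : (j : P ⧸ aa I n) ∈ (I ⊓ maximalIdeal P ^ 2).map (Ideal.Quotient.mk (aa I n)) := hj
  rw [Ideal.mem_map_iff_of_surjective _ Ideal.Quotient.mk_surjective] at hj'
  obtain ⟨f, hf, hfj⟩ := hj'
  have h1 : q f = 0 := hkey hf
  have h2 : (j : P ⧸ aa I n) ∈ kerIdeal (JJ I n) hsc φ := by
    rw [← hfj]
    exact Ideal.Quotient.eq_zero_iff_mem.1 h1
  obtain ⟨h3, h4⟩ := (mem_kerIdeal (JJ I n) hsc φ _).1 h2
  exact h4

/-- the case `I ≤ 𝔪²`: the number of generators of `I` is bounded by the dimension of the obstruction space. -/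
theorem core_sq (I : Ideal P) (hI2 : I ≤ maximalIdeal P ^ 2) (n : ℕ)
    (hn : I ⊓ maximalIdeal P ^ (n + 1) ≤ maximalIdeal P * I)
    (J : Ideal (P ⧸ aa I n)) (hJ : J = JJ I n)
    (hsc : ∀ x : P ⧸ aa I n, ∃ c : k, ∀ j ∈ J, x * j = c • j)
    {V : Type u} [AddCommGroup V] [Module k V] [Module.Finite k V] (ω : V ⊗[k] ↥J)
    (H : ∀ φ : ↥J →ₗ[k] k, LinearMap.lTensor V φ ω = 0 →
      ∃ ψ : P →+* (P ⧸ aa I n) ⧸ kerIdeal J hsc φ, I ≤ RingHom.ker ψ ∧
        ∀ x, ψ x - Ideal.Quotient.mk _ (Ideal.Quotient.mk (aa I n) x) ∈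
          J.map (Ideal.Quotient.mk (kerIdeal J hsc φ))) :
    I.spanFinrank ≤ Module.finrank k V := by
  have hI : I ≤ maximalIdeal P := hI2.trans (Ideal.pow_le_self (by omega))
  have h1 := core I hI n J hJ hsc ω H
  subst hJ
  have hfin : Module.Finite k ↥(JJ I n) := finite_of_scalar (JJ I n) hsc
  have h2 := spanFinrank_le_finrank (k := k) I n hn
  have h3 : J₂ (k := k) I n (JJ I n) = ⊤ := by
    rw [eq_top_iff]
    intro j _
    show (j : P ⧸ aa I n) ∈ (I ⊓ maximalIdeal P ^ 2).map (Ideal.Quotient.mk (aa I n))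
    rw [inf_eq_left.2 hI2]
    exact j.2
  rw [h3, finrank_top] at h1
  exact h2.trans h1

/-- variant of `core_sq` with the kernel ideal abstracted. -/
theorem core_sq' (I : Ideal P) (hI2 : I ≤ maximalIdeal P ^ 2) (n : ℕ)
    (hn : I ⊓ maximalIdeal P ^ (n + 1) ≤ maximalIdeal P * I)
    (J : Ideal (P ⧸ aa I n)) (hJ : J = JJ I n)
    (hsc : ∀ x : P ⧸ aa I n, ∃ c : k, ∀ j ∈ J, x * j = c • j)
    {V : Type u} [AddCommGroup V] [Module k V] [Module.Finite k V] (ω : V ⊗[k] ↥J)
    (H : ∀ φ : ↥J →ₗ[k] k, LinearMap.lTensor V φ ω = 0 →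
      ∀ K : Ideal (P ⧸ aa I n), K = kerIdeal J hsc φ →
      ∃ ψ : P →+* (P ⧸ aa I n) ⧸ K, I ≤ RingHom.ker ψ ∧
        ∀ x, ψ x - Ideal.Quotient.mk _ (Ideal.Quotient.mk (aa I n) x) ∈
          J.map (Ideal.Quotient.mk K)) :
    I.spanFinrank ≤ Module.finrank k V :=
  core_sq I hI2 n hn J hJ hsc ω (fun φ hφ => H φ hφ _ rfl)

end core

section coreGen

variable {k P : Type u} [Field k] [CommRing P] [IsLocalRing P] [IsNoetherianRing P] [Algebra k P]
  {C0 : Type u} [CommRing C0] [Algebra k C0] (q0 : P →ₐ[k] C0)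

theorem spanFinrank_le_finrank_gen (hq0 : Function.Surjective q0) (I : Ideal P) (n : ℕ)
    (hker : RingHom.ker q0 = aa I n)
    (hn : I ⊓ maximalIdeal P ^ (n + 1) ≤ maximalIdeal P * I)
    (J : Ideal C0) (hJ : J = I.map q0) [Module.Finite k ↥J] :
    I.spanFinrank ≤ Module.finrank k ↥J := by
  classical
  subst hJ
  let b := Module.finBasis k ↥(I.map q0)
  have hlift : ∀ i, ∃ f : P, f ∈ I ∧ q0 f = (b i : C0) := by
    intro i
    have : (b i : C0) ∈ I.map q0 := (b i).2
    rw [Ideal.mem_map_iff_of_surjective _ hq0] at this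
    exact this
  choose f hfI hf using hlift
  let N : Ideal P := Ideal.span (Set.range f)
  have hNI : N ≤ I := Ideal.span_le.2 (by rintro _ ⟨i, rfl⟩; exact hfI i)
  have hmod : aa I n ⊓ I ≤ maximalIdeal P * I := by
    show (maximalIdeal P * I ⊔ maximalIdeal P ^ (n + 1)) ⊓ I ≤ _
    rw [sup_inf_assoc_of_le _ Ideal.mul_le_right]
    exact sup_le le_rfl (by rw [inf_comm]; exact hn)
  have hIN : I ≤ N := by
    apply Submodule.le_of_le_smul_of_le_jacobson_bot (I := maximalIdeal P)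
      (IsNoetherian.noetherian I) (IsLocalRing.maximalIdeal_le_jacobson _)
    intro g hg
    have hgJ : q0 g ∈ I.map q0 := Ideal.mem_map_of_mem _ hg
    have hrepr := b.sum_repr ⟨_, hgJ⟩
    let g' : P := ∑ i, algebraMap k P (b.repr ⟨_, hgJ⟩ i) * f i
    have hg'N : g' ∈ N :=
      Ideal.sum_mem _ (fun i _ => Ideal.mul_mem_left _ _ (Ideal.subset_span ⟨i, rfl⟩))
    have hmk : q0 g' = q0 g := by
      have h1 : ((∑ i, b.repr ⟨_, hgJ⟩ i • b i : ↥(I.map q0)) : C0) = q0 g :=
        congrArg Subtype.val hrepr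
      rw [AddSubmonoidClass.coe_finsetSum] at h1
      rw [← h1, map_sum]
      refine Finset.sum_congr rfl (fun i _ => ?_)
      rw [map_mul, hf i, Submodule.coe_smul_of_tower, Algebra.smul_def, AlgHom.commutes]
    have hdiff : g - g' ∈ aa I n ⊓ I := by
      refine ⟨?_, I.sub_mem hg (hNI hg'N)⟩
      rw [← hker]
      show g - g' ∈ RingHom.ker q0
      rw [RingHom.mem_ker, map_sub, hmk, sub_self]
    have : g = g' + (g - g') := by ring
    rw [this]
    exact Submodule.add_mem_sup hg'N (by rw [Ideal.smul_eq_mul]; exact hmod hdiff)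
  have hEq : I = N := le_antisymm hIN hNI
  have hEq' : I.spanFinrank = N.spanFinrank := congrArg _ hEq
  rw [hEq']
  calc N.spanFinrank ≤ (Set.range f).ncard :=
        Submodule.spanFinrank_span_le_ncard_of_finite (Set.finite_range f)
    _ ≤ Module.finrank k ↥(I.map q0) := by
      have : Set.range f = ((Finset.univ.image f : Finset P) : Set P) := by simp
      rw [this, Set.ncard_coe_finset]
      exact Finset.card_image_le.trans (by simp)

/-- the general form of `core_sq'`, for any model `q0 : P → C0` of the quotient `P/(𝔪 I + 𝔪^(n+1))`. -/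
theorem core_sq_gen (hq0 : Function.Surjective q0) (I : Ideal P)
    (hI2 : I ≤ maximalIdeal P ^ 2) (n : ℕ) (hker : RingHom.ker q0 = aa I n)
    (hn : I ⊓ maximalIdeal P ^ (n + 1) ≤ maximalIdeal P * I)
    (J : Ideal C0) (hJ : J = I.map q0)
    (hsc : ∀ x : C0, ∃ c : k, ∀ j ∈ J, x * j = c • j)
    {V : Type u} [AddCommGroup V] [Module k V] [Module.Finite k V] (ω : V ⊗[k] ↥J)
    (H : ∀ φ : ↥J →ₗ[k] k, LinearMap.lTensor V φ ω = 0 →
      ∀ K : Ideal C0, K = kerIdeal J hsc φ →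
      ∃ ψ : P →+* C0 ⧸ K, I ≤ RingHom.ker ψ ∧
        ∀ x, ψ x - Ideal.Quotient.mk K (q0 x) ∈ J.map (Ideal.Quotient.mk K)) :
    I.spanFinrank ≤ Module.finrank k V := by
  have hI : I ≤ maximalIdeal P := hI2.trans (Ideal.pow_le_self (by omega))
  have hnoeth : IsNoetherianRing C0 := isNoetherianRing_of_surjective P C0 q0.toRingHom hq0
  have hfin : Module.Finite k ↥J := finite_of_scalar J hsc
  have h2 := spanFinrank_le_finrank_gen q0 hq0 I n hker hn J hJ
  refine h2.trans ?_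
  have h1 : Module.finrank k ↥(⊤ : Submodule k ↥J) ≤ Module.finrank k V := by
    apply finrank_le_of_forall_dual ω
    intro φ hφ
    obtain ⟨ψ, hψI, hψ⟩ := H φ hφ _ rfl
    let q : P →+* C0 ⧸ kerIdeal J hsc φ :=
      (Ideal.Quotient.mk (kerIdeal J hsc φ)).comp (q0 : P →+* C0)
    have hq : maximalIdeal P * I ≤ RingHom.ker q := by
      intro x hx
      have h0 : q0 x = 0 := by
        have : x ∈ RingHom.ker q0 := by
          rw [hker]; exact le_sup_left (a := maximalIdeal P * I) hx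
        exact this
      rw [RingHom.mem_ker, RingHom.comp_apply]
      show Ideal.Quotient.mk _ (q0 x) = 0
      rw [h0, map_zero]
    have hmap : I.map q = J.map (Ideal.Quotient.mk (kerIdeal J hsc φ)) := by
      have h0 : J.map (Ideal.Quotient.mk (kerIdeal J hsc φ)) =
          (I.map (q0 : P →+* C0)).map (Ideal.Quotient.mk (kerIdeal J hsc φ)) :=
        congrArg (Ideal.map (Ideal.Quotient.mk (kerIdeal J hsc φ))) hJ
      rw [h0, Ideal.map_map]
    have hkey := inf_sq_le_ker_of_lift (maximalIdeal P) I hI q ψ hq hψI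
      (fun x => by rw [hmap]; exact hψ x)
    intro j _
    rw [LinearMap.mem_ker]
    have hj' : (j : C0) ∈ I.map q0 := hJ ▸ j.2
    rw [Ideal.mem_map_iff_of_surjective _ hq0] at hj'
    obtain ⟨f, hf, hfj⟩ := hj'
    have h1 : q f = 0 := hkey ⟨hf, hI2 hf⟩
    have h2 : (j : C0) ∈ kerIdeal J hsc φ := by
      rw [← hfj]
      exact Ideal.Quotient.eq_zero_iff_mem.1 h1
    obtain ⟨h3, h4⟩ := (mem_kerIdeal J hsc φ _).1 h2
    exact h4
  rw [finrank_top] at h1
  exact h1

end coreGen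

end Groth.Agent.LibObs29
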