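import Groth.Agent.LibT2Obs29f
import Groth.Agent.LibObs29

/-!
# The `T²`-class of the obstruction map and its behaviour under quotients of the extension (seat helper29)
-/

set_option autoImplicit false
universe u v w t m

namespace Groth.Agent.LibT2Obs29

open TensorProduct

section T2class

variable {A : Type u} {B : Type v} {ι : Type w} {σ : Type t} [CommRing A] [CommRing B] [Algebra A B]
  (P : Algebra.Presentation A B ι σ) {N : Type m} [AddCommGroup N] [Module B N]
  (h : CotT.relKer P → N) (h_add : ∀ q q', h (q + q') = h q + h q')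
  (h_smul : ∀ (x : P.toExtension.Ring) q, h (x • q) = algebraMap P.toExtension.Ring B x • h q)
  (h_triv : ∀ q ∈ CotT.trivRelKer P, h q = 0)

/-- the map `L₂ → N` induced by a semilinear map on the relation module killing the trivial relations -/
noncomputable def l2Hom : CotT.L2 P →ₗ[B] N :=
  letI : Module P.toExtension.Ring N := Module.compHom N (algebraMap P.toExtension.Ring B)
  haveI : IsScalarTower P.toExtension.Ring B N := IsScalarTower.of_algebraMap_smul (fun r m => rfl)
  let h' : CotT.relKer P →ₗ[P.toExtension.Ring] N :=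
    { toFun := h
      map_add' := h_add
      map_smul' := fun x q => h_smul x q }
  Submodule.liftQ _ (LinearMap.liftBaseChange B h') (by
    rw [LinearMap.range_le_ker_iff]
    refine TensorProduct.AlgebraTensorModule.ext fun b q => ?_
    simp only [LinearMap.coe_comp, Function.comp_apply, LinearMap.baseChange_tmul, Submodule.coe_subtype,
      LinearMap.zero_apply]
    change LinearMap.liftBaseChange B h' (b ⊗ₜ (q : CotT.relKer P)) = 0
    rw [LinearMap.liftBaseChange_tmul]
    change b • h (q : CotT.relKer P) = 0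
    rw [h_triv _ q.2, smul_zero])

lemma l2Hom_mk (q : CotT.relKer P) :
    l2Hom P h h_add h_smul h_triv (Submodule.Quotient.mk ((1 : B) ⊗ₜ q)) = h q := by
  letI : Module P.toExtension.Ring N := Module.compHom N (algebraMap P.toExtension.Ring B)
  haveI : IsScalarTower P.toExtension.Ring B N := IsScalarTower.of_algebraMap_smul (fun r m => rfl)
  change Submodule.liftQ _ _ _ (Submodule.Quotient.mk ((1 : B) ⊗ₜ q)) = _
  rw [Submodule.liftQ_apply, LinearMap.liftBaseChange_tmul, one_smul]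
  rfl

/-- if `g ∘ (the map on L₂)` is a coboundary, then `g ∘ h` comes from the free module -/
theorem exists_of_toT2_comp_eq_zero {N' : Type m} [AddCommGroup N'] [Module B N'] (g : N →ₗ[B] N')
    (h0 : CotT.toT2 P N' (g ∘ₗ l2Hom P h h_add h_smul h_triv) = 0) :
    ∃ m : σ → N', ∀ q : CotT.relKer P,
      g (h q) = (q : CotT.relMod P).sum fun s c => algebraMap P.toExtension.Ring B c • m s := by
  classical
  change (Submodule.Quotient.mk (g ∘ₗ l2Hom P h h_add h_smul h_triv) : CotT.T2 P N') = 0 at h0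
  rw [Submodule.Quotient.mk_eq_zero] at h0
  obtain ⟨ψ, hψ⟩ := h0
  rw [CotT.d2Star_apply] at hψ
  refine ⟨fun s => ψ ((1 : B) ⊗ₜ Finsupp.single s (1 : P.toExtension.Ring)), fun q => ?_⟩
  have h1 : g (h q) = (g ∘ₗ l2Hom P h h_add h_smul h_triv) (Submodule.Quotient.mk ((1 : B) ⊗ₜ q)) := by
    rw [LinearMap.comp_apply, l2Hom_mk]
  rw [h1, ← hψ, LinearMap.comp_apply, CotT.d2_mk_tmul]
  conv_lhs => rw [← Finsupp.sum_single (q : CotT.relMod P)]
  rw [Finsupp.sum, TensorProduct.tmul_sum, map_sum, Finsupp.sum]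
  refine Finset.sum_congr rfl fun s _ => ?_
  have h2 : Finsupp.single s ((q : CotT.relMod P) s) =
      ((q : CotT.relMod P) s) • Finsupp.single s (1 : P.toExtension.Ring) := by
    rw [Finsupp.smul_single, smul_eq_mul, mul_one]
  have h3 : (1 : B) ⊗ₜ[P.toExtension.Ring] (((q : CotT.relMod P) s) • Finsupp.single s (1 : P.toExtension.Ring)) =
      algebraMap P.toExtension.Ring B ((q : CotT.relMod P) s) •
        ((1 : B) ⊗ₜ[P.toExtension.Ring] Finsupp.single s (1 : P.toExtension.Ring)) := by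
    rw [TensorProduct.tmul_smul, TensorProduct.smul_tmul', TensorProduct.smul_tmul', Algebra.smul_def, mul_one,
      smul_eq_mul, mul_one]
  rw [h2, h3, map_smul]

end T2class

open MvPolynomial Groth.Agent.LibLift29 Groth.Agent.LibExal29

section Contr

variable {k B₀ V : Type u} [Field k] [CommRing B₀] [Algebra k B₀] [AddCommGroup V] [Module k V]

/-- contraction with a functional -/
noncomputable def contr (φ : V →ₗ[k] k) : B₀ ⊗[k] V →ₗ[B₀] B₀ :=
  (TensorProduct.AlgebraTensorModule.rid k B₀ B₀).toLinearMap ∘ₗ TensorProduct.AlgebraTensorModule.lTensor B₀ B₀ φ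

lemma contr_tmul (φ : V →ₗ[k] k) (b : B₀) (v : V) : contr φ (b ⊗ₜ[k] v) = φ v • b := by
  change (TensorProduct.AlgebraTensorModule.rid k B₀ B₀) (b ⊗ₜ[k] φ v) = _
  rw [TensorProduct.AlgebraTensorModule.rid_tmul]

lemma contr_add (φ φ' : V →ₗ[k] k) (z : B₀ ⊗[k] V) : contr (φ + φ') z = contr φ z + contr φ' z := by
  induction z using TensorProduct.induction_on with
  | zero => rw [map_zero, map_zero, map_zero, add_zero]
  | add x y hx hy => rw [map_add, map_add, map_add, hx, hy]; abel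
  | tmul b v => rw [contr_tmul, contr_tmul, contr_tmul, LinearMap.add_apply, add_smul]

lemma contr_smul (c : k) (φ : V →ₗ[k] k) (z : B₀ ⊗[k] V) : contr (c • φ) z = c • contr φ z := by
  induction z using TensorProduct.induction_on with
  | zero => rw [map_zero, map_zero, smul_zero]
  | add x y hx hy => rw [map_add, map_add, hx, hy, smul_add]
  | tmul b v => rw [contr_tmul, contr_tmul, LinearMap.smul_apply, smul_eq_mul, mul_smul]

/-- a map factoring through a functional factors through the contraction -/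
lemma lTensor_eq_of_factor {V' : Type u} [AddCommGroup V'] [Module k V'] (φ : V →ₗ[k] k) (ι₀ : k →ₗ[k] V')
    (z : B₀ ⊗[k] V) :
    LinearMap.lTensor B₀ (ι₀ ∘ₗ φ) z = contr φ z ⊗ₜ[k] ι₀ 1 := by
  induction z using TensorProduct.induction_on with
  | zero => rw [map_zero, map_zero, TensorProduct.zero_tmul]
  | add x y hx hy => rw [map_add, map_add, hx, hy, TensorProduct.add_tmul]
  | tmul b v =>
    rw [LinearMap.lTensor_tmul, contr_tmul, LinearMap.comp_apply, TensorProduct.smul_tmul, ← map_smul, smul_eq_mul,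
      mul_one]

end Contr

section Phi2

variable {k C' C₁ B B₀ : Type u} [Field k] [CommRing C'] [CommRing C₁] [CommRing B] [CommRing B₀]
  [Algebra k C'] [Algebra C' k] [Algebra C' B] [Algebra k B₀] [Algebra B B₀] [Algebra C' B₀]
  [IsScalarTower C' B B₀] [IsScalarTower C' k B₀] [IsScalarTower k C' B₀]
  [Algebra C' C₁] [Algebra C₁ B] [IsScalarTower C' C₁ B]
  [Algebra C₁ k] [IsScalarTower C' C₁ k] [Algebra C₁ B₀] [IsScalarTower C₁ B B₀] [IsScalarTower C₁ k B₀]
  {ι σ : Type u}
  {P : Algebra.Presentation k B₀ ι σ} {J : Ideal C'} {b₁ : ι → B} {F₁ : σ → MvPolynomial ι C₁}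
  {F' : σ → MvPolynomial ι C'} (S : Setup P J b₁ F₁ F')

/-- the obstruction map on `L₂` -/
noncomputable def Setup.obHom : CotT.L2 P →ₗ[B₀] B₀ ⊗[k] J := l2Hom P S.ob S.ob_add S.ob_smul S.ob_triv

/-- the obstruction map `J^* → T²(B₀/k, B₀)` -/
noncomputable def Setup.Phi2 : (J →ₗ[k] k) →ₗ[k] CotT.T2 P B₀ where
  toFun φ := CotT.toT2 P B₀ (contr φ ∘ₗ S.obHom)
  map_add' φ φ' := by
    rw [← map_add]
    congr 1
    refine LinearMap.ext fun x => ?_
    exact contr_add φ φ' (S.obHom x)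
  map_smul' c φ := by
    rw [RingHom.id_apply, ← algebraMap_smul B₀ c (CotT.toT2 P B₀ (contr φ ∘ₗ S.obHom)), ← map_smul]
    congr 1
    refine LinearMap.ext fun x => ?_
    change contr (c • φ) (S.obHom x) = algebraMap k B₀ c • contr φ (S.obHom x)
    rw [contr_smul, algebraMap_smul]

/-- vanishing of `Phi2 φ`: the contracted obstruction map comes from the free module -/
theorem Setup.exists_of_Phi2_eq_zero (φ : J →ₗ[k] k) (h0 : S.Phi2 φ = 0) :
    ∃ m : σ → B₀, ∀ q : CotT.relKer P,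
      contr φ (S.ob q) = (q : CotT.relMod P).sum fun s c => algebraMap P.toExtension.Ring B₀ c • m s :=
  exists_of_toT2_comp_eq_zero P S.ob S.ob_add S.ob_smul S.ob_triv (contr φ) h0

/-- if the obstruction map comes from the free module, a `J`-compatible extension exists -/
theorem Setup.exists_jcompat_ext_of_cobd (m : σ → B₀ ⊗[k] J)
    (hm : ∀ q : CotT.relKer P, S.ob q = (q : CotT.relMod P).sum fun s c => algebraMap P.toExtension.Ring B₀ c • m s) :
    ∃ X : Exal.Ext C' B (B₀ ⊗[k] J), JCompat (tauJ (k := k) (B₀ := B₀) J S.hJ) X := by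
  refine exists_jcompat_of_phi (aeval b₁ : MvPolynomial ι C' →ₐ[C'] B) S.aeval_surjective _ (S.phi m)
    (fun x y hx hy hxy => S.phi_add m hm x y hx hy hxy)
    (fun a x hx hax => S.phi_smul m hm a x hx hax) ?_
  intro j hj
  exact S.phi_C m hm ⟨j.1, (S.hJ _).mpr (RingHom.mem_ker.mp j.2)⟩ hj

end Phi2

section Quot

variable {k C' C'' C₁ B B₀ : Type u} [Field k] [CommRing C'] [CommRing C''] [CommRing C₁] [CommRing B] [CommRing B₀]
  [Algebra k C'] [Algebra C' k] [Algebra C' B] [Algebra k B₀] [Algebra B B₀] [Algebra C' B₀]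
  [IsScalarTower C' B B₀] [IsScalarTower C' k B₀] [IsScalarTower k C' B₀]
  [Algebra C' C₁] [Algebra C₁ B] [IsScalarTower C' C₁ B]
  [Algebra C₁ k] [IsScalarTower C' C₁ k] [Algebra C₁ B₀] [IsScalarTower C₁ B B₀] [IsScalarTower C₁ k B₀]
  [Algebra k C''] [Algebra C'' k] [Algebra C'' B] [Algebra C'' B₀]
  [IsScalarTower C'' B B₀] [IsScalarTower C'' k B₀] [IsScalarTower k C'' B₀]
  [Algebra C'' C₁] [IsScalarTower C'' C₁ B] [IsScalarTower C'' C₁ k]
  [Algebra C' C''] [IsScalarTower C' C'' k] [IsScalarTower C' C'' B]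
  {ι σ : Type u}
  {P : Algebra.Presentation k B₀ ι σ} {J : Ideal C'} {J'' : Ideal C''} {b₁ : ι → B} {F₁ : σ → MvPolynomial ι C₁}
  {F' : σ → MvPolynomial ι C'} {F'' : σ → MvPolynomial ι C''}
  (S : Setup P J b₁ F₁ F') (S'' : Setup P J'' b₁ F₁ F'')
  (hF : ∀ s, Qm C' C'' ι (F' s) = F'' s)
  (κJ : J →ₗ[k] J'') (hκ : ∀ j : J, ((κJ j : J'') : C'') = algebraMap C' C'' (j : C'))

include hκ in
/-- transporting an element of `C'[X] ⊗ J` to `C''[X] ⊗ J''` -/
lemma exists_transport (w : MvPolynomial ι C' ⊗[C'] J) :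
    ∃ w'' : MvPolynomial ι C'' ⊗[C''] J'', mult J'' w'' = Qm C' C'' ι (mult J w) ∧
      S''.mu w'' = LinearMap.lTensor B₀ κJ (S.mu w) := by
  induction w using TensorProduct.induction_on with
  | zero => exact ⟨0, by rw [map_zero, map_zero, map_zero], by rw [map_zero, map_zero, map_zero]⟩
  | add x y hx hy =>
    obtain ⟨x'', hx1, hx2⟩ := hx
    obtain ⟨y'', hy1, hy2⟩ := hy
    exact ⟨x'' + y'', by rw [map_add, map_add, map_add, hx1, hy1], by rw [map_add, map_add, map_add, hx2, hy2]⟩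
  | tmul e j =>
    refine ⟨Qm C' C'' ι e ⊗ₜ[C''] κJ j, ?_, ?_⟩
    · rw [mult_tmul, mult_tmul, map_mul, MvPolynomial.algebraMap_eq, MvPolynomial.algebraMap_eq, Qm_C, hκ]
    · rw [Setup.mu, Setup.mu, mu_tmul, mu_tmul, LinearMap.lTensor_tmul, gam_apply, gam_apply]
      congr 2
      exact aeval_Qm b₁ e

include hF hκ in
/-- the obstruction map is compatible with quotients of the extension -/
theorem Setup.ob_quot (q : CotT.relKer P) : S''.ob q = LinearMap.lTensor B₀ κJ (S.ob q) := by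
  obtain ⟨r, w, hr, hw⟩ := S.lift q.1 (LinearMap.mem_ker.mp q.2)
  obtain ⟨w'', hw1, hw2⟩ := exists_transport S S'' κJ hκ w
  rw [S.ob_eq q r w hr hw, ← hw2]
  refine S''.ob_eq q (Qσ C' C'' ι σ r) w'' ?_ ?_
  · rw [ρσP_Qσ, hr]
  · rw [hw1, hw, Qm_ΨA F' F'' hF]

include hF hκ in
/-- if `Phi2 φ = 0` and `κJ` kills the kernel of `φ`, a `J''`-compatible extension exists over `C''` -/
theorem Setup.exists_jcompat_ext_quot (φ : J →ₗ[k] k) (hφκ : LinearMap.ker φ ≤ LinearMap.ker κJ)
    (h0 : S.Phi2 φ = 0) :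
    ∃ X : Exal.Ext C'' B (B₀ ⊗[k] J''), JCompat (tauJ (k := k) (B₀ := B₀) J'' S''.hJ) X := by
  obtain ⟨ι₀, hι₀⟩ := Groth.Agent.LibObs29.exists_factor_of_ker_le φ κJ hφκ
  obtain ⟨m, hm⟩ := S.exists_of_Phi2_eq_zero φ h0
  refine S''.exists_jcompat_ext_of_cobd (fun s => m s ⊗ₜ[k] ι₀ 1) fun q => ?_
  rw [Setup.ob_quot S S'' hF κJ hκ q, hι₀, lTensor_eq_of_factor, hm q, Finsupp.sum, TensorProduct.sum_tmul,
    Finsupp.sum]
  refine Finset.sum_congr rfl fun s _ => ?_
  rw [TensorProduct.smul_tmul']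

end Quot

end Groth.Agent.LibT2Obs29
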