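import Groth.Agent.LibObs29

/-!
# The "obstruction space bounds the number of relations" argument, for a linear obstruction map (seat helper29)

Variant of `LibObs29.core_sq_gen` where the obstruction is given as a linear map `Φ : J^* → V` rather than as an
element of `V ⊗ J`.
-/

set_option autoImplicit false
universe u

namespace Groth.Agent.LibHullDim29

open IsLocalRing TensorProduct Groth.Agent.LibObs29

/-- The linear-algebra lemma: if every functional killed by `Φ` kills `J₂`, then `dim J₂ ≤ dim V`. -/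
theorem finrank_le_of_forall_dual_map {k : Type*} [Field k] {J V : Type*} [AddCommGroup J] [Module k J]
    [AddCommGroup V] [Module k V] [Module.Finite k J] [Module.Finite k V] (Φ : Module.Dual k J →ₗ[k] V)
    (J₂ : Submodule k J)
    (h : ∀ φ : J →ₗ[k] k, Φ φ = 0 → J₂ ≤ LinearMap.ker φ) :
    Module.finrank k J₂ ≤ Module.finrank k V := by
  have hker : LinearMap.ker Φ ≤ J₂.dualAnnihilator := by
    intro φ hφ
    rw [LinearMap.mem_ker] at hφ
    rw [Submodule.mem_dualAnnihilator]
    intro w hw
    exact LinearMap.mem_ker.1 (h φ hφ hw)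
  have h1 := LinearMap.finrank_range_add_finrank_ker Φ
  have h2 : Module.finrank k (LinearMap.range Φ) ≤ Module.finrank k V := Submodule.finrank_le _
  have h3 : Module.finrank k (LinearMap.ker Φ) ≤ Module.finrank k J₂.dualAnnihilator :=
    Submodule.finrank_mono hker
  have h4 := Subspace.finrank_add_finrank_dualAnnihilator_eq J₂
  have h5 : Module.finrank k (Module.Dual k J) = Module.finrank k J := Subspace.dual_finrank_eq
  omega

section coreGen

variable {k P : Type u} [Field k] [CommRing P] [IsLocalRing P] [IsNoetherianRing P] [Algebra k P]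
  {C0 : Type u} [CommRing C0] [Algebra k C0] (q0 : P →ₐ[k] C0)

/-- `core_sq_gen` for a linear obstruction map -/
theorem core_sq_gen_map (hq0 : Function.Surjective q0) (I : Ideal P)
    (hI2 : I ≤ maximalIdeal P ^ 2) (n : ℕ) (hker : RingHom.ker q0 = aa I n)
    (hn : I ⊓ maximalIdeal P ^ (n + 1) ≤ maximalIdeal P * I)
    (J : Ideal C0) (hJ : J = I.map q0)
    (hsc : ∀ x : C0, ∃ c : k, ∀ j ∈ J, x * j = c • j)
    {V : Type u} [AddCommGroup V] [Module k V] [Module.Finite k V] (Φ : (↥J →ₗ[k] k) →ₗ[k] V)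
    (H : ∀ φ : ↥J →ₗ[k] k, Φ φ = 0 →
      ∀ K : Ideal C0, K = kerIdeal J hsc φ →
      ∃ ψ : P →+* C0 ⧸ K, I ≤ RingHom.ker ψ ∧
        ∀ x, ψ x - Ideal.Quotient.mk K (q0 x) ∈ J.map (Ideal.Quotient.mk K)) :
    I.spanFinrank ≤ Module.finrank k V := by
  have hI : I ≤ maximalIdeal P := hI2.trans (Ideal.pow_le_self (by omega))
  have hnoeth : IsNoetherianRing C0 := isNoetherianRing_of_surjective P C0 q0.toRingHom hq0
  have hfin : Module.Finite k ↥J := finite_of_scalar J hsc
  have h2 := spanFinrank_le_finrank_gen q0 hq0 I n hker hn J hJ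
  refine h2.trans ?_
  have h1 : Module.finrank k ↥(⊤ : Submodule k ↥J) ≤ Module.finrank k V := by
    apply finrank_le_of_forall_dual_map Φ
    intro φ hφ
    obtain ⟨ψ, hψI, hψ⟩ := H φ hφ _ rfl
    let q : P →+* C0 ⧸ kerIdeal J hsc φ :=
      (Ideal.Quotient.mk (kerIdeal J hsc φ)).comp (q0 : P →+* C0)
    have hq : maximalIdeal P * I ≤ RingHom.ker q := by
      intro x hx
      have h0 : q0 x = 0 := by
        have : x ∈ RingHom.ker q0 := by
          rw [hker]; exact le_sup_left (a := maximalIdeal P * I) hx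
        exact this
      rw [RingHom.mem_ker, RingHom.comp_apply]
      show Ideal.Quotient.mk _ (q0 x) = 0
      rw [h0, map_zero]
    have hmap : I.map q = J.map (Ideal.Quotient.mk (kerIdeal J hsc φ)) := by
      have h0 : J.map (Ideal.Quotient.mk (kerIdeal J hsc φ)) =
          (I.map (q0 : P →+* C0)).map (Ideal.Quotient.mk (kerIdeal J hsc φ)) :=
        congrArg (Ideal.map (Ideal.Quotient.mk (kerIdeal J hsc φ))) hJ
      rw [h0, Ideal.map_map]
    have hkey := inf_sq_le_ker_of_lift (maximalIdeal P) I hI q ψ hq hψI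
      (fun x => by rw [hmap]; exact hψ x)
    intro j _
    rw [LinearMap.mem_ker]
    have hj' : (j : C0) ∈ I.map q0 := hJ ▸ j.2
    rw [Ideal.mem_map_iff_of_surjective _ hq0] at hj'
    obtain ⟨f, hf, hfj⟩ := hj'
    have h1 : q f = 0 := hkey ⟨hf, hI2 hf⟩
    have h2 : (j : C0) ∈ kerIdeal J hsc φ := by
      rw [← hfj]
      exact Ideal.Quotient.eq_zero_iff_mem.1 h1
    obtain ⟨h3, h4⟩ := (mem_kerIdeal J hsc φ _).1 h2
    exact h4
  rw [finrank_top] at h1
  exact h1

end coreGen

end Groth.Agent.LibHullDim29
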