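import Groth.Statements.S12292
import Groth.Agent.LibExal29b
-- import your own Groth.Agent.* helpers here

set_option autoImplicit false
universe u w m
open scoped TensorProduct
open DefT

namespace Groth.Agent.S12292

open Groth.Agent.LibCotT29 Groth.Agent.LibExal29


/-- Let A → B be a ring homomorphism and M a B-module. The equivalence classes of extensions of B by M
as A-algebras (surjections of A-algebras B' → B whose kernel is an ideal of square zero identified
with M, two extensions being equivalent when there is an isomorphism compatible with the identities
of B and M) are in bijection with T^1(B/A, M), computed from the choice-free presentation, the class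
of the trivial extension B ⊕ M corresponding to zero. (The published statement calls the
correspondence natural; this row asserts the existence of a bijection taking the trivial class to
zero.) -/
theorem result
    (A B : Type u) [CommRing A] [CommRing B] [Algebra A B] (M : Type u) [AddCommGroup M] [Module B M] :
    ∃ e : Exal.Exalcom A B M ≃ CotT.T1 (CotT.canon A B) M, e 0 = 0 := by
  let E₀ : Algebra.Extension.{u} A B := (CotT.canon A B).toExtension
  let _ : Module E₀.Ring M := Module.compHom M (algebraMap E₀.Ring B)
  have _ : IsScalarTower E₀.Ring B M := IsScalarTower.of_compHom E₀.Ring B M
  let _ : Module A M := Module.compHom M (algebraMap A B)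
  have _ : IsScalarTower A B M := IsScalarTower.of_compHom A B M
  have _ : IsScalarTower A E₀.Ring M := ⟨fun a r x => by
    change algebraMap E₀.Ring B (a • r) • x = algebraMap A B a • (algebraMap E₀.Ring B r • x)
    rw [Algebra.smul_def, map_mul, ← IsScalarTower.algebraMap_apply, mul_smul]⟩
  have _ : Algebra.FormallySmooth A E₀.Ring :=
    inferInstanceAs (Algebra.FormallySmooth A (MvPolynomial B A))
  obtain ⟨e, he⟩ := exists_equiv_exalcom_coT1 E₀ M
  refine ⟨e.trans (T1equivCoT1 (CotT.canon A B) M).symm.toEquiv, ?_⟩
  rw [Equiv.trans_apply, he]
  exact map_zero (T1equivCoT1 (CotT.canon A B) M).symm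

end Groth.Agent.S12292
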