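import Groth.Agent.LibLift29d
import Groth.Agent.S12292

/-!
# Lifting flat algebras along a small surjection: the classification (seat helper29)

`C' → C₁` surjective with kernel `J` killed by `𝔪'`, `B` flat over `C₁` with `B/𝔪'B = B₀`.  If the set of flat lifts of
`B` to `C'` is nonempty, its isomorphism classes are in bijection with `T¹(B₀/k, B₀ ⊗_k J)`.
-/

set_option autoImplicit false
universe u w

namespace Groth.Agent.LibLift29

open TensorProduct Groth.Agent.LibExal29 DefT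

/-- a flat lift of `B` to `C'` -/
structure LiftDatum (C' B : Type u) [CommRing C'] [CommRing B] [Algebra C' B] (J : Ideal C') where
  /-- the ring -/
  E : Type u
  [commRing : CommRing E]
  [algebra : Algebra C' E]
  flat : Module.Flat C' E
  /-- the projection -/
  β : E →ₐ[C'] B
  surj : Function.Surjective β
  ker_le : RingHom.ker β ≤ Ideal.map (algebraMap C' E) J

namespace LiftDatum

variable {C' B : Type u} [CommRing C'] [CommRing B] [Algebra C' B] {J : Ideal C'}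

instance (L : LiftDatum C' B J) : CommRing L.E := L.commRing
instance (L : LiftDatum C' B J) : Algebra C' L.E := L.algebra
instance (L : LiftDatum C' B J) : Module.Flat C' L.E := L.flat

/-- isomorphism of lifts -/
def Iso (L L' : LiftDatum C' B J) : Prop := ∃ φ : L.E ≃ₐ[C'] L'.E, ∀ x, L'.β (φ x) = L.β x

lemma Iso.symm {L L' : LiftDatum C' B J} (h : L.Iso L') : L'.Iso L := by
  obtain ⟨φ, hφ⟩ := h
  refine ⟨φ.symm, fun x => ?_⟩
  rw [← hφ, AlgEquiv.apply_symm_apply]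

end LiftDatum

section Main

variable {k C' C₁ B B₀ : Type u} [Field k] [CommRing C'] [CommRing C₁] [CommRing B] [CommRing B₀]
  [Algebra k C'] [Algebra C' k] [Algebra C' B] [Algebra k B₀] [Algebra B B₀] [Algebra C' B₀]
  [IsScalarTower C' B B₀] [IsScalarTower C' k B₀] [IsScalarTower k C' B₀]
  [Algebra C' C₁] [Algebra C₁ B] [IsScalarTower C' C₁ B]

variable (k C₁ B B₀) in
/-- the standing hypotheses -/
structure Hyp (J : Ideal C') : Prop where
  hJ : ∀ c : C', c ∈ J ↔ algebraMap C' C₁ c = 0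
  hres : Function.Surjective (algebraMap C' k)
  hp : Function.Surjective (algebraMap C' C₁)
  hπ : Function.Surjective (algebraMap B B₀)
  hkerπ : RingHom.ker (algebraMap B B₀) ≤ Ideal.map (algebraMap C' B) (RingHom.ker (algebraMap C' k))
  hJk : ∀ j ∈ J, algebraMap C' k j = 0
  hJm : ∀ a : C', algebraMap C' k a = 0 → ∀ j ∈ J, a * j = 0
  hsec : ∀ r : k, algebraMap C' k (algebraMap k C' r) = r

variable {J : Ideal C'} (H : Hyp k C₁ B B₀ J)

include H in
lemma Hyp.hJB : ∀ j ∈ J, algebraMap C' B j = 0 := by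
  intro j hj
  rw [IsScalarTower.algebraMap_apply C' C₁ B, (H.hJ j).mp hj, map_zero]

include H in
lemma Hyp.hγ (L : LiftDatum C' B J) : Function.Surjective (gam (B₀ := B₀) L.β) := H.hπ.comp L.surj

include H in
lemma Hyp.hle (L : LiftDatum C' B J) : RingHom.ker (gam (B₀ := B₀) L.β) ≤
    Ideal.map (algebraMap C' L.E) (RingHom.ker (algebraMap C' k)) :=
  ker_gam_le J L.β L.surj L.ker_le H.hkerπ H.hJk

/-- the extension of a lift -/
noncomputable def LiftDatum.toExt (L : LiftDatum C' B J) : Exal.Ext C' B (B₀ ⊗[k] J) :=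
  extOfLift J L.β (H.hγ L) (H.hle L) H.hJm H.hsec L.surj L.ker_le H.hJB

lemma LiftDatum.jcompat_toExt (L : LiftDatum C' B J) :
    JCompat (tauJ (k := k) (B₀ := B₀) J H.hJ) (L.toExt H) :=
  jcompat_extOfLift J L.β (H.hγ L) (H.hle L) H.hJm H.hsec L.surj L.ker_le H.hJB H.hJ

lemma LiftDatum.iso_of_equiv {L L' : LiftDatum C' B J} (e : (L.toExt H).Equiv (L'.toExt H)) : L.Iso L' :=
  ⟨e.toAlgEquiv, e.proj_apply⟩

lemma LiftDatum.equiv_of_iso {L L' : LiftDatum C' B J} (h : L.Iso L') :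
    Nonempty ((L.toExt H).Equiv (L'.toExt H)) := by
  obtain ⟨φ, hφ⟩ := h
  have h1 := L.jcompat_toExt H
  have h2 := L'.jcompat_toExt H
  have h3 := mem_closure_tauJ (k := k) (B₀ := B₀) (C₁ := C₁) (B := B) J H.hJ H.hπ
  have h4 := @equiv_of_algEquiv C' C₁ B (B₀ ⊗[k] J) _ _ _ _ _ _ _ (tauJ (k := k) (B₀ := B₀) J H.hJ) h3
  exact h4 (L.toExt H) (L'.toExt H) h1 h2 φ hφ

/-- the lift given by a `J`-compatible extension -/
noncomputable def liftOfExt [Module.Flat C₁ B] (X : Exal.Ext C' B (B₀ ⊗[k] J))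
    (hX : JCompat (tauJ (k := k) (B₀ := B₀) J H.hJ) X) : LiftDatum C' B J where
  E := X.E
  flat := flat_of_jcompat J X H.hJ hX H.hp H.hπ H.hkerπ H.hJk H.hJm
  β := X.proj
  surj := X.isExtension.proj_surjective
  ker_le := ker_proj_le J X H.hJ hX H.hπ

lemma equiv_of_iso_liftOfExt [Module.Flat C₁ B] (X : Exal.Ext C' B (B₀ ⊗[k] J))
    (hX : JCompat (tauJ (k := k) (B₀ := B₀) J H.hJ) X) (L : LiftDatum C' B J)
    (h : L.Iso (liftOfExt H X hX)) : Nonempty ((L.toExt H).Equiv X) := by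
  obtain ⟨φ, hφ⟩ := h
  have h1 := L.jcompat_toExt H
  have h3 := mem_closure_tauJ (k := k) (B₀ := B₀) (C₁ := C₁) (B := B) J H.hJ H.hπ
  have h4 := @equiv_of_algEquiv C' C₁ B (B₀ ⊗[k] J) _ _ _ _ _ _ _ (tauJ (k := k) (B₀ := B₀) J H.hJ) h3
  exact h4 (L.toExt H) X h1 hX φ hφ

attribute [local instance] algR'B algR₀B₀ modR'M

include H in
/-- the classifying map on lifts -/
theorem exists_classifying_map_lifts [Module.Flat C₁ B] (L₀ : LiftDatum C' B J) :
    ∃ Φ : LiftDatum C' B J → ExalTarget k (R₀ k B) B₀ (B₀ ⊗[k] J),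
      (∀ L L', Φ L = Φ L' ↔ L.Iso L') ∧ Function.Surjective Φ := by
  have hJk' : ∀ j : C', algebraMap C' C₁ j = 0 → algebraMap C' k j = 0 :=
    fun j hj => H.hJk j ((H.hJ j).mpr hj)
  obtain ⟨Ψ, hΨ, hΨsurj⟩ := exists_classifying_map (k := k) (B₀ := B₀) (M := B₀ ⊗[k] J) H.hres H.hkerπ H.hp hJk'
    (tauJ (k := k) (B₀ := B₀) J H.hJ) (L₀.toExt H) (L₀.jcompat_toExt H)
  refine ⟨fun L => Ψ ⟨L.toExt H, L.jcompat_toExt H⟩, ?_, ?_⟩
  · intro L L'
    rw [hΨ]
    exact ⟨fun ⟨e⟩ => LiftDatum.iso_of_equiv H e, fun h => LiftDatum.equiv_of_iso H h⟩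
  · intro q
    obtain ⟨X, rfl⟩ := hΨsurj q
    refine ⟨liftOfExt H X.1 X.2, ?_⟩
    rw [hΨ]
    exact equiv_of_iso_liftOfExt H X.1 X.2 (liftOfExt H X.1 X.2) ⟨AlgEquiv.refl, fun _ => rfl⟩

include H in
/-- the classification of flat lifts -/
theorem nonempty_quot_equiv_T1 [Module.Flat C₁ B]
    {S : Type w} (r : S → S → Prop) (D : S → LiftDatum C' B J)
    (hrel : ∀ a b, r a b ↔ (D b).Iso (D a))
    (hess : ∀ L : LiftDatum C' B J, ∃ s, (D s).Iso L)
    (hne : Nonempty S) :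
    Nonempty (Quot r ≃ CotT.T1 (CotT.canon k B₀) (B₀ ⊗[k] J)) := by
  obtain ⟨s₀⟩ := hne
  obtain ⟨Φ, hΦ, hΦsurj⟩ := exists_classifying_map_lifts H (D s₀)
  have hF : ∀ a b, Φ (D a) = Φ (D b) ↔ r a b := by
    intro a b
    rw [hrel, hΦ]
    exact ⟨fun h => h.symm, fun h => h.symm⟩
  have e1 : Quot r ≃ ExalTarget k (R₀ k B) B₀ (B₀ ⊗[k] J) := by
    refine Equiv.ofBijective (Quot.lift (fun s => Φ (D s)) (fun a b h => (hF a b).mpr h)) ⟨?_, ?_⟩
    · intro x y
      induction x using Quot.ind with | mk a => ?_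
      induction y using Quot.ind with | mk b => ?_
      intro h
      exact Quot.sound ((hF a b).mp h)
    · intro q
      obtain ⟨L, rfl⟩ := hΦsurj q
      obtain ⟨s, hs⟩ := hess L
      exact ⟨Quot.mk r s, (hΦ _ _).mpr hs⟩
  obtain ⟨e2, -⟩ := exists_equiv_exalcom k (R₀ k B) B₀ (B₀ ⊗[k] J) (ev₀_surjective (k := k) H.hπ)
  obtain ⟨e3, -⟩ := Groth.Agent.S12292.result k B₀ (B₀ ⊗[k] J)
  exact ⟨e1.trans (e2.symm.trans e3)⟩

end Main

end Groth.Agent.LibLift29
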