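import Groth.Agent.LibLift29e
import Groth.Agent.LibLift29f

/-!
# Extensions of a deformation of an affine scheme along a semismall extension form a `T¹`-pseudotorsor (seat helper29)
-/

set_option autoImplicit false
universe u
open CategoryTheory CategoryTheory.Limits AlgebraicGeometry
open scoped TensorProduct
open DefT

namespace Groth.Agent.LibLift29

open Groth.Agent.LibAffDef29 Groth.Agent.LibDefDual29 Groth.Agent.LibDefRing29 ArtFun

set_option maxHeartbeats 1600000 in
theorem extensions_equiv_T1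
    (k : Type u) [Field k] (B₀ : Type u) [CommRing B₀] [Algebra k B₀] [Algebra.FiniteType k B₀]
    {C' C : ArtFun.Art k k} (p : C' ⟶ C) (hp : ArtFun.Art.IsSemismallExt p)
    (𝒳 : ArtFun.DefSch (Spec (CommRingCat.of B₀)) (Spec.map (CommRingCat.ofHom (algebraMap k B₀))) C)
    (hne : ∃ 𝒳' : ArtFun.DefSch (Spec (CommRingCat.of B₀)) (Spec.map (CommRingCat.ofHom (algebraMap k B₀))) C', Nonempty ((𝒳'.baseChange p).Iso 𝒳)) :
    Nonempty (Quot (fun a b : (Σ 𝒳' : ArtFun.DefSch (Spec (CommRingCat.of B₀)) (Spec.map (CommRingCat.ofHom (algebraMap k B₀))) C', (𝒳'.baseChange p).Iso 𝒳) =>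
        ∃ ψ : a.1.Iso b.1, ((ψ.baseChange p).trans b.2).iso = a.2.iso) ≃
      CotT.T1 (CotT.canon k B₀) (B₀ ⊗[k] ↥(RingHom.ker p.toAlgHom))) := by
  classical
  obtain ⟨hpsurj, hpm⟩ := hp
  obtain ⟨-, hflat𝒳, hπsurj, hπker, hπcompat⟩ := package 𝒳
  have hres : ∀ c : C', C.res (p.toAlgHom c) = C'.res c := fun c => congrArg (fun g => g c) p.res_comp
  letI iC'k : Algebra C' k := C'.res.toRingHom.toAlgebra
  letI iC'C : Algebra C' C := p.toAlgHom.toRingHom.toAlgebra
  letI iCB : Algebra C Γ(𝒳.total, ⊤) := (toΓ 𝒳.f).hom.toAlgebra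
  letI iC'B : Algebra C' Γ(𝒳.total, ⊤) := ((toΓ 𝒳.f).hom.comp p.toAlgHom.toRingHom).toAlgebra
  letI iBB₀ : Algebra Γ(𝒳.total, ⊤) B₀ := (fromΓ 𝒳.i).hom.toAlgebra
  letI iC'B₀ : Algebra C' B₀ := ((algebraMap k B₀).comp C'.res.toRingHom).toAlgebra
  haveI t1 : IsScalarTower C' C Γ(𝒳.total, ⊤) := IsScalarTower.of_algebraMap_eq (fun _ => rfl)
  haveI t2 : IsScalarTower C' k B₀ := IsScalarTower.of_algebraMap_eq (fun _ => rfl)
  have hcompat : ∀ c : C', (fromΓ 𝒳.i).hom ((toΓ 𝒳.f).hom (p.toAlgHom c)) = algebraMap k B₀ (C'.res c) := by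
    intro c
    have h2 := congrArg (fun g => g.hom (p.toAlgHom c)) hπcompat
    rw [← hres]
    exact h2
  haveI t3 : IsScalarTower C' Γ(𝒳.total, ⊤) B₀ := IsScalarTower.of_algebraMap_eq (fun c => (hcompat c).symm)
  haveI t4 : IsScalarTower k C' B₀ := IsScalarTower.of_algebraMap_eq (fun r => by
    change algebraMap k B₀ r = algebraMap k B₀ (C'.res (algebraMap k C' r))
    rw [AlgHom.commutes]
    rfl)
  haveI : Module.Flat C Γ(𝒳.total, ⊤) := hflat𝒳
  have H : Hyp k C.carrier Γ(𝒳.total, ⊤) B₀ (RingHom.ker p.toAlgHom) :=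
    { hJ := fun c => RingHom.mem_ker
      hres := C'.res_surjective
      hp := hpsurj
      hπ := hπsurj
      hkerπ := by
        refine le_trans hπker ?_
        rw [Ideal.map_le_iff_le_comap]
        intro c hc
        obtain ⟨c', rfl⟩ := hpsurj c
        rw [Ideal.mem_comap]
        have h1 : c' ∈ RingHom.ker (algebraMap C' k) := by
          rw [RingHom.mem_ker] at hc ⊢
          exact (hres c').symm.trans hc
        exact Ideal.mem_map_of_mem (algebraMap C' Γ(𝒳.total, ⊤)) h1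
      hJk := by
        intro j hj
        rw [RingHom.mem_ker] at hj
        change C'.res j = 0
        rw [← hres, hj, map_zero]
      hJm := by
        intro a ha j hj
        have ha' : a ∈ IsLocalRing.maximalIdeal C' := (Art.mem_maximalIdeal_iff C' a).mpr ha
        have h1 : a * j ∈ IsLocalRing.maximalIdeal C' * RingHom.ker p.toAlgHom := Ideal.mul_mem_mul ha' hj
        rw [hpm] at h1
        exact h1
      hsec := fun r => C'.res.commutes r }
  -- the ring data of an extension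
  letI instL : ∀ s : Lifts p 𝒳, Algebra C' Γ(s.1.total, ⊤) := fun s => (toΓ s.1.f).hom.toAlgebra
  let D : Lifts p 𝒳 → LiftDatum C' Γ(𝒳.total, ⊤) (RingHom.ker p.toAlgHom) := fun s =>
    { E := Γ(s.1.total, ⊤)
      flat := (package s.1).2.1
      β := { toRingHom := (βs s).hom, commutes' := fun c => congrArg (fun g => g.hom c) (toΓ_βs s) }
      surj := βs_surjective hpsurj s
      ker_le := ker_βs_le hpsurj s }
  refine nonempty_quot_equiv_T1 H _ D ?_ ?_ ?_
  · intro a b
    constructor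
    · rintro ⟨ψ, h⟩
      obtain ⟨hbij, h1, h2⟩ := ringIso_of_rel a b ψ h
      let φ₀ : (D b).E →ₐ[C'] (D a).E :=
        { toRingHom := ψ.iso.hom.appTop.hom, commutes' := fun c => congrArg (fun g => g.hom c) h1 }
      refine ⟨AlgEquiv.ofBijective φ₀ hbij, fun x => ?_⟩
      exact congrArg (fun g => g.hom x) h2
    · rintro ⟨φ, hφ⟩
      refine rel_of_ringIso hpsurj a b (CommRingCat.ofHom (φ : (D b).E →+* (D a).E)) φ.bijective ?_ ?_
      · ext c
        exact φ.commutes c
      · ext x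
        exact hφ x
  · intro L
    have hfl : (algebraMap C' L.E).Flat := RingHom.flat_algebraMap_iff.mpr L.flat
    obtain ⟨s, e, he1, he2⟩ := exists_lift_of_ring 𝒳 hpsurj L.E (algebraMap C' L.E) hfl
      L.β.toRingHom L.surj L.ker_le (RingHom.ext fun c => L.β.commutes c)
    refine ⟨s, AlgEquiv.ofRingEquiv (f := e) he1, fun x => ?_⟩
    exact he2 x
  · obtain ⟨𝒳', ⟨ι⟩⟩ := hne
    exact ⟨⟨𝒳', ι⟩⟩


end Groth.Agent.LibLift29
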