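import Groth.Agent.LibT2Obs29f
import Groth.Agent.LibLift29g

/-!
# `T² = 0` implies that deformations of an affine scheme lift along small extensions (seat helper29)
-/

set_option autoImplicit false
universe u
open CategoryTheory CategoryTheory.Limits AlgebraicGeometry
open scoped TensorProduct

namespace Groth.Agent.LibT2Obs29

open Groth.Agent.LibAffDef29 Groth.Agent.LibDefDual29 Groth.Agent.LibDefRing29 ArtFun Groth.Agent.LibLift29
  Groth.Agent.LibExal29

set_option maxHeartbeats 1600000 in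
theorem surjective_defFunctor_map_of_T2
    {k : Type u} [Field k] (B₀ : Type u) [CommRing B₀] [Algebra k B₀] {ι σ : Type u}
    (P : Algebra.Presentation k B₀ ι σ)
    (hT2 : Subsingleton (CotT.T2 P B₀))
    {C' C : ArtFun.Art k k} (p : C' ⟶ C) (hp : ArtFun.Art.IsSmallExt p) :
    Function.Surjective ((ArtFun.defFunctor (Λ := k) (Spec (CommRingCat.of B₀))
      (Spec.map (CommRingCat.ofHom (algebraMap k B₀)))).map p) := by
  classical
  obtain ⟨hpsurj, hJne, hJprin, hpm⟩ := hp
  intro ξ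
  induction ξ using Quotient.inductionOn with
  | h 𝒳 =>
  obtain ⟨-, hflat𝒳, hπsurj, hπker, hπcompat⟩ := package 𝒳
  have hres : ∀ c : C', C.res (p.toAlgHom c) = C'.res c := fun c => congrArg (fun g => g c) p.res_comp
  letI iC'k : Algebra C' k := C'.res.toRingHom.toAlgebra
  letI iCk : Algebra C k := C.res.toRingHom.toAlgebra
  letI iC'C : Algebra C' C := p.toAlgHom.toRingHom.toAlgebra
  letI iCB : Algebra C Γ(𝒳.total, ⊤) := (toΓ 𝒳.f).hom.toAlgebra
  letI iC'B : Algebra C' Γ(𝒳.total, ⊤) := ((toΓ 𝒳.f).hom.comp p.toAlgHom.toRingHom).toAlgebra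
  letI iBB₀ : Algebra Γ(𝒳.total, ⊤) B₀ := (fromΓ 𝒳.i).hom.toAlgebra
  letI iC'B₀ : Algebra C' B₀ := ((algebraMap k B₀).comp C'.res.toRingHom).toAlgebra
  letI iCB₀ : Algebra C B₀ := ((algebraMap k B₀).comp C.res.toRingHom).toAlgebra
  haveI t1 : IsScalarTower C' C Γ(𝒳.total, ⊤) := IsScalarTower.of_algebraMap_eq (fun _ => rfl)
  haveI t2 : IsScalarTower C' k B₀ := IsScalarTower.of_algebraMap_eq (fun _ => rfl)
  haveI t2' : IsScalarTower C k B₀ := IsScalarTower.of_algebraMap_eq (fun _ => rfl)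
  haveI t5 : IsScalarTower C' C k := IsScalarTower.of_algebraMap_eq (fun c => (hres c).symm)
  have hcompat₁ : ∀ c : C, (fromΓ 𝒳.i).hom ((toΓ 𝒳.f).hom c) = algebraMap k B₀ (C.res c) :=
    fun c => congrArg (fun g => g.hom c) hπcompat
  haveI t6 : IsScalarTower C Γ(𝒳.total, ⊤) B₀ := IsScalarTower.of_algebraMap_eq (fun c => (hcompat₁ c).symm)
  have hcompat : ∀ c : C', (fromΓ 𝒳.i).hom ((toΓ 𝒳.f).hom (p.toAlgHom c)) = algebraMap k B₀ (C'.res c) := by
    intro c
    rw [← hres]
    exact hcompat₁ _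
  haveI t3 : IsScalarTower C' Γ(𝒳.total, ⊤) B₀ := IsScalarTower.of_algebraMap_eq (fun c => (hcompat c).symm)
  haveI t4 : IsScalarTower k C' B₀ := IsScalarTower.of_algebraMap_eq (fun r => by
    change algebraMap k B₀ r = algebraMap k B₀ (C'.res (algebraMap k C' r))
    rw [AlgHom.commutes]
    rfl)
  haveI : Module.Flat C Γ(𝒳.total, ⊤) := hflat𝒳
  have H : Hyp k C.carrier Γ(𝒳.total, ⊤) B₀ (RingHom.ker p.toAlgHom) :=
    { hJ := fun c => RingHom.mem_ker
      hres := C'.res_surjective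
      hp := hpsurj
      hπ := hπsurj
      hkerπ := by
        refine le_trans hπker ?_
        rw [Ideal.map_le_iff_le_comap]
        intro c hc
        obtain ⟨c', rfl⟩ := hpsurj c
        rw [Ideal.mem_comap]
        have h1 : c' ∈ RingHom.ker (algebraMap C' k) := by
          rw [RingHom.mem_ker] at hc ⊢
          exact (hres c').symm.trans hc
        exact Ideal.mem_map_of_mem (algebraMap C' Γ(𝒳.total, ⊤)) h1
      hJk := by
        intro j hj
        rw [RingHom.mem_ker] at hj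
        change C'.res j = 0
        rw [← hres, hj, map_zero]
      hJm := by
        intro a ha j hj
        have ha' : a ∈ IsLocalRing.maximalIdeal C' := (Art.mem_maximalIdeal_iff C' a).mpr ha
        have h1 : a * j ∈ IsLocalRing.maximalIdeal C' * RingHom.ker p.toAlgHom := Ideal.mul_mem_mul ha' hj
        rw [hpm] at h1
        exact h1
      hsec := fun r => C'.res.commutes r }
  -- lifting the presentation
  obtain ⟨n, hn⟩ := exists_ker_res_pow C
  have hn' : (RingHom.ker (algebraMap C k)) ^ n = ⊥ := hn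
  have hres₁ : Function.Surjective (algebraMap C k) := C.res_surjective
  have hkerπ₁ : RingHom.ker (algebraMap Γ(𝒳.total, ⊤) B₀) ≤
      Ideal.map (algebraMap C Γ(𝒳.total, ⊤)) (RingHom.ker (algebraMap C k)) := hπker
  choose b₁ hb₁ using fun i => hπsurj (P.val i)
  have hb : ∀ i, algebraMap Γ(𝒳.total, ⊤) B₀ (b₁ i) = P.val i := hb₁
  choose F₁ hF₁ using fun s => exists_lift_ker P b₁ hb hres₁ hkerπ₁ n hn' (P.relation s)
    (P.aeval_val_relation s)
  choose F' hF' using fun s => Qm_surjective (ι := ι) (C₁ := C) (show Function.Surjective (algebraMap C' C) from hpsurj) (F₁ s)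
  have S : Setup P (RingHom.ker p.toAlgHom) b₁ F₁ F' :=
    { hJ := H.hJ
      hJm := H.hJm
      hsec := H.hsec
      hb := hb
      hp := H.hp
      hres₁ := hres₁
      hkerπ₁ := hkerπ₁
      hnil := ⟨n, hn'⟩
      hF₁ρ := fun s => (hF₁ s).1
      hF₁ev := fun s => (hF₁ s).2
      hF' := hF'
      flat := hflat𝒳 }
  -- `T²` with coefficients in `B₀ ⊗ J`
  have hT2' : Subsingleton (CotT.T2 P (B₀ ⊗[k] ↥(RingHom.ker p.toAlgHom))) := by
    haveI := hJprin
    let g : C' := Submodule.IsPrincipal.generator (RingHom.ker p.toAlgHom)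
    have hg : g ∈ RingHom.ker p.toAlgHom := Submodule.IsPrincipal.generator_mem _
    have ht0 : (⟨g, hg⟩ : ↥(RingHom.ker p.toAlgHom)) ≠ 0 := by
      intro h
      apply hJne
      rw [Submodule.IsPrincipal.eq_bot_iff_generator_eq_zero]
      exact congrArg Subtype.val h
    have ht : ∀ x : ↥(RingHom.ker p.toAlgHom), ∃ c : k, x = c • (⟨g, hg⟩ : ↥(RingHom.ker p.toAlgHom)) := by
      intro x
      obtain ⟨a, ha⟩ := (Submodule.IsPrincipal.mem_iff_eq_smul_generator (RingHom.ker p.toAlgHom)).mp x.2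
      refine ⟨algebraMap C' k a, ?_⟩
      rw [← smul_J (RingHom.ker p.toAlgHom) H.hsec H.hJm a ⟨g, hg⟩]
      exact Subtype.ext ha
    obtain ⟨u, v, huv⟩ := exists_retract (k := k) (B₀ := B₀) (⟨g, hg⟩ : ↥(RingHom.ker p.toAlgHom)) ht0 ht
    exact subsingleton_T2_of_retract P u v huv hT2
  obtain ⟨X, hX⟩ := exists_jcompat_ext S hT2'
  let L := liftOfExt H X hX
  have hfl : (algebraMap C' L.E).Flat := RingHom.flat_algebraMap_iff.mpr L.flat
  obtain ⟨s, e, he1, he2⟩ := exists_lift_of_ring 𝒳 hpsurj L.E (algebraMap C' L.E) hfl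
    L.β.toRingHom L.surj L.ker_le (RingHom.ext fun c => L.β.commutes c)
  exact ⟨Quotient.mk _ s.1, Quotient.sound ⟨s.2⟩⟩

end Groth.Agent.LibT2Obs29
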