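import Groth.Agent.LibHullDim29d
import Groth.Agent.LibT2Obs29g
import Groth.Prelude.Def_ArtFun3

/-!
# The `T²`-valued obstruction map for deformations of an affine scheme along a semismall extension (seat helper29)

For a semismall extension `p : C' → C` with kernel `J` and a deformation `ξ` over `C` there is a linear map
`Φ₂ : J^* → T²(B₀/k, B₀)` such that `Φ₂ φ = 0` implies that `ξ` lifts to `C'/K` for every ideal `K ≤ J` containing
`ker φ`.
-/

set_option autoImplicit false
universe u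
open CategoryTheory CategoryTheory.Limits AlgebraicGeometry
open scoped TensorProduct

namespace Groth.Agent.LibT2Obs29

open Groth.Agent.LibAffDef29 Groth.Agent.LibDefDual29 Groth.Agent.LibDefRing29 ArtFun Groth.Agent.LibLift29
  Groth.Agent.LibExal29

set_option maxHeartbeats 3200000 in
theorem exists_Phi2_lift_quot
    {k : Type u} [Field k] (B₀ : Type u) [CommRing B₀] [Algebra k B₀] {ι σ : Type u}
    (P : Algebra.Presentation k B₀ ι σ)
    {C' C : ArtFun.Art k k} (p : C' ⟶ C) (hp : ArtFun.Art.IsSemismallExt p)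
    (ξ : (ArtFun.defFunctor (Λ := k) (Spec (CommRingCat.of B₀))
      (Spec.map (CommRingCat.ofHom (algebraMap k B₀)))).obj C) :
    ∃ Φ₂ : (↥(RingHom.ker p.toAlgHom) →ₗ[k] k) →ₗ[k] CotT.T2 P B₀,
      ∀ φ, Φ₂ φ = 0 → ∀ (K : Ideal C') (hK : K ≤ IsLocalRing.maximalIdeal C') (hKJ : K ≤ RingHom.ker p.toAlgHom),
        (∀ j : ↥(RingHom.ker p.toAlgHom), φ j = 0 → (j : C') ∈ K) →
        ∃ y, (ArtFun.defFunctor (Λ := k) (Spec (CommRingCat.of B₀))
          (Spec.map (CommRingCat.ofHom (algebraMap k B₀)))).map (Art.quotFactor hK p hKJ) y = ξ := by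
  classical
  obtain ⟨hpsurj, hpm⟩ := hp
  induction ξ using Quotient.inductionOn with
  | h 𝒳 =>
  obtain ⟨-, hflat𝒳, hπsurj, hπker, hπcompat⟩ := package 𝒳
  have hres : ∀ c : C', C.res (p.toAlgHom c) = C'.res c := fun c => congrArg (fun g => g c) p.res_comp
  letI iC'k : Algebra C' k := C'.res.toRingHom.toAlgebra
  letI iCk : Algebra C k := C.res.toRingHom.toAlgebra
  letI iC'C : Algebra C' C := p.toAlgHom.toRingHom.toAlgebra
  letI iCB : Algebra C Γ(𝒳.total, ⊤) := (toΓ 𝒳.f).hom.toAlgebra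
  letI iC'B : Algebra C' Γ(𝒳.total, ⊤) := ((toΓ 𝒳.f).hom.comp p.toAlgHom.toRingHom).toAlgebra
  letI iBB₀ : Algebra Γ(𝒳.total, ⊤) B₀ := (fromΓ 𝒳.i).hom.toAlgebra
  letI iC'B₀ : Algebra C' B₀ := ((algebraMap k B₀).comp C'.res.toRingHom).toAlgebra
  letI iCB₀ : Algebra C B₀ := ((algebraMap k B₀).comp C.res.toRingHom).toAlgebra
  haveI t1 : IsScalarTower C' C Γ(𝒳.total, ⊤) := IsScalarTower.of_algebraMap_eq (fun _ => rfl)
  haveI t2 : IsScalarTower C' k B₀ := IsScalarTower.of_algebraMap_eq (fun _ => rfl)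
  haveI t2' : IsScalarTower C k B₀ := IsScalarTower.of_algebraMap_eq (fun _ => rfl)
  haveI t5 : IsScalarTower C' C k := IsScalarTower.of_algebraMap_eq (fun c => (hres c).symm)
  have hcompat₁ : ∀ c : C, (fromΓ 𝒳.i).hom ((toΓ 𝒳.f).hom c) = algebraMap k B₀ (C.res c) :=
    fun c => congrArg (fun g => g.hom c) hπcompat
  haveI t6 : IsScalarTower C Γ(𝒳.total, ⊤) B₀ := IsScalarTower.of_algebraMap_eq (fun c => (hcompat₁ c).symm)
  have hcompat : ∀ c : C', (fromΓ 𝒳.i).hom ((toΓ 𝒳.f).hom (p.toAlgHom c)) = algebraMap k B₀ (C'.res c) := by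
    intro c
    rw [← hres]
    exact hcompat₁ _
  haveI t3 : IsScalarTower C' Γ(𝒳.total, ⊤) B₀ := IsScalarTower.of_algebraMap_eq (fun c => (hcompat c).symm)
  haveI t4 : IsScalarTower k C' B₀ := IsScalarTower.of_algebraMap_eq (fun r => by
    change algebraMap k B₀ r = algebraMap k B₀ (C'.res (algebraMap k C' r))
    rw [AlgHom.commutes]
    rfl)
  haveI : Module.Flat C Γ(𝒳.total, ⊤) := hflat𝒳
  have H : Hyp k C.carrier Γ(𝒳.total, ⊤) B₀ (RingHom.ker p.toAlgHom) :=
    { hJ := fun c => RingHom.mem_ker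
      hres := C'.res_surjective
      hp := hpsurj
      hπ := hπsurj
      hkerπ := by
        refine le_trans hπker ?_
        rw [Ideal.map_le_iff_le_comap]
        intro c hc
        obtain ⟨c', rfl⟩ := hpsurj c
        rw [Ideal.mem_comap]
        have h1 : c' ∈ RingHom.ker (algebraMap C' k) := by
          rw [RingHom.mem_ker] at hc ⊢
          exact (hres c').symm.trans hc
        exact Ideal.mem_map_of_mem (algebraMap C' Γ(𝒳.total, ⊤)) h1
      hJk := by
        intro j hj
        rw [RingHom.mem_ker] at hj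
        change C'.res j = 0
        rw [← hres, hj, map_zero]
      hJm := by
        intro a ha j hj
        have ha' : a ∈ IsLocalRing.maximalIdeal C' := (Art.mem_maximalIdeal_iff C' a).mpr ha
        have h1 : a * j ∈ IsLocalRing.maximalIdeal C' * RingHom.ker p.toAlgHom := Ideal.mul_mem_mul ha' hj
        rw [hpm] at h1
        exact h1
      hsec := fun r => C'.res.commutes r }
  -- lifting the presentation
  obtain ⟨n, hn⟩ := exists_ker_res_pow C
  have hn' : (RingHom.ker (algebraMap C k)) ^ n = ⊥ := hn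
  have hres₁ : Function.Surjective (algebraMap C k) := C.res_surjective
  have hkerπ₁ : RingHom.ker (algebraMap Γ(𝒳.total, ⊤) B₀) ≤
      Ideal.map (algebraMap C Γ(𝒳.total, ⊤)) (RingHom.ker (algebraMap C k)) := hπker
  choose b₁ hb₁ using fun i => hπsurj (P.val i)
  have hb : ∀ i, algebraMap Γ(𝒳.total, ⊤) B₀ (b₁ i) = P.val i := hb₁
  choose F₁ hF₁ using fun s => exists_lift_ker P b₁ hb hres₁ hkerπ₁ n hn' (P.relation s)
    (P.aeval_val_relation s)
  choose F' hF' using fun s => Qm_surjective (ι := ι) (C₁ := C) (show Function.Surjective (algebraMap C' C) from hpsurj) (F₁ s)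
  have S : Setup P (RingHom.ker p.toAlgHom) b₁ F₁ F' :=
    { hJ := H.hJ
      hJm := H.hJm
      hsec := H.hsec
      hb := hb
      hp := H.hp
      hres₁ := hres₁
      hkerπ₁ := hkerπ₁
      hnil := ⟨n, hn'⟩
      hF₁ρ := fun s => (hF₁ s).1
      hF₁ev := fun s => (hF₁ s).2
      hF' := hF'
      flat := hflat𝒳 }
  refine ⟨S.Phi2, ?_⟩
  intro φ h0 K hK hKJ hφK
  -- the quotient object
  let C'' : Art k k := Art.quot C' K hK
  let p'' : C'' ⟶ C := Art.quotFactor hK p hKJ
  let π' : C' ⟶ C'' := Art.quotMk C' K hK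
  have hπ'surj : Function.Surjective π'.toAlgHom := Art.quotMk_surjective C' K hK
  have hp''π' : ∀ c : C', p''.toAlgHom (π'.toAlgHom c) = p.toAlgHom c := fun c => rfl
  have hp''surj : Function.Surjective p''.toAlgHom := by
    intro c
    obtain ⟨a, rfl⟩ := hpsurj c
    exact ⟨π'.toAlgHom a, rfl⟩
  have hres'' : ∀ c : C'', C.res (p''.toAlgHom c) = C''.res c :=
    fun c => congrArg (fun g => g c) p''.res_comp
  have hresπ' : ∀ c : C', C''.res (π'.toAlgHom c) = C'.res c :=
    fun c => congrArg (fun g => g c) π'.res_comp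
  letI iC''k : Algebra C'' k := C''.res.toRingHom.toAlgebra
  letI iC''C : Algebra C'' C := p''.toAlgHom.toRingHom.toAlgebra
  letI iC''B : Algebra C'' Γ(𝒳.total, ⊤) := ((toΓ 𝒳.f).hom.comp p''.toAlgHom.toRingHom).toAlgebra
  letI iC''B₀ : Algebra C'' B₀ := ((algebraMap k B₀).comp C''.res.toRingHom).toAlgebra
  letI iC'C'' : Algebra C' C'' := π'.toAlgHom.toRingHom.toAlgebra
  haveI u1 : IsScalarTower C'' C Γ(𝒳.total, ⊤) := IsScalarTower.of_algebraMap_eq (fun _ => rfl)
  haveI u2 : IsScalarTower C'' k B₀ := IsScalarTower.of_algebraMap_eq (fun _ => rfl)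
  haveI u5 : IsScalarTower C'' C k := IsScalarTower.of_algebraMap_eq (fun c => (hres'' c).symm)
  have hcompat'' : ∀ c : C'', (fromΓ 𝒳.i).hom ((toΓ 𝒳.f).hom (p''.toAlgHom c)) = algebraMap k B₀ (C''.res c) := by
    intro c
    rw [← hres'']
    exact hcompat₁ _
  haveI u3 : IsScalarTower C'' Γ(𝒳.total, ⊤) B₀ := IsScalarTower.of_algebraMap_eq (fun c => (hcompat'' c).symm)
  haveI u4 : IsScalarTower k C'' B₀ := IsScalarTower.of_algebraMap_eq (fun r => by
    change algebraMap k B₀ r = algebraMap k B₀ (C''.res (algebraMap k C'' r))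
    rw [AlgHom.commutes]
    rfl)
  haveI v1 : IsScalarTower C' C'' k := IsScalarTower.of_algebraMap_eq (fun c => (hresπ' c).symm)
  haveI v2 : IsScalarTower C' C'' Γ(𝒳.total, ⊤) := IsScalarTower.of_algebraMap_eq (fun _ => rfl)
  haveI v3 : IsScalarTower C' C'' C := IsScalarTower.of_algebraMap_eq (fun _ => rfl)
  have hJm'' : ∀ a : C'', algebraMap C'' k a = 0 → ∀ j ∈ RingHom.ker p''.toAlgHom, a * j = 0 := by
    intro a ha j hj
    obtain ⟨a', rfl⟩ := hπ'surj a
    obtain ⟨j', rfl⟩ := hπ'surj j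
    have ha' : algebraMap C' k a' = 0 := (hresπ' a').symm.trans ha
    have hj' : j' ∈ RingHom.ker p.toAlgHom := by
      rw [RingHom.mem_ker] at hj ⊢
      exact hj
    rw [← map_mul, H.hJm a' ha' j' hj', map_zero]
  have H'' : Hyp k C.carrier Γ(𝒳.total, ⊤) B₀ (RingHom.ker p''.toAlgHom) :=
    { hJ := fun c => RingHom.mem_ker
      hres := C''.res_surjective
      hp := hp''surj
      hπ := hπsurj
      hkerπ := by
        refine le_trans hπker ?_
        rw [Ideal.map_le_iff_le_comap]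
        intro c hc
        obtain ⟨c', rfl⟩ := hp''surj c
        rw [Ideal.mem_comap]
        have h1 : c' ∈ RingHom.ker (algebraMap C'' k) := by
          rw [RingHom.mem_ker] at hc ⊢
          exact (hres'' c').symm.trans hc
        exact Ideal.mem_map_of_mem (algebraMap C'' Γ(𝒳.total, ⊤)) h1
      hJk := by
        intro j hj
        rw [RingHom.mem_ker] at hj
        change C''.res j = 0
        rw [← hres'', hj, map_zero]
      hJm := hJm''
      hsec := fun r => C''.res.commutes r }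
  have S'' : Setup P (RingHom.ker p''.toAlgHom) b₁ F₁ (fun s => Qm C' C'' ι (F' s)) :=
    { hJ := H''.hJ
      hJm := H''.hJm
      hsec := H''.hsec
      hb := hb
      hp := H''.hp
      hres₁ := hres₁
      hkerπ₁ := hkerπ₁
      hnil := ⟨n, hn'⟩
      hF₁ρ := fun s => (hF₁ s).1
      hF₁ev := fun s => (hF₁ s).2
      hF' := fun s => by
        rw [← hF' s]
        change MvPolynomial.map (algebraMap C'' C) (MvPolynomial.map (algebraMap C' C'') (F' s)) =
          MvPolynomial.map (algebraMap C' C) (F' s)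
        rw [MvPolynomial.map_map, ← IsScalarTower.algebraMap_eq]
      flat := hflat𝒳 }
  have hφκ : LinearMap.ker φ ≤ LinearMap.ker (Art.kerToQuot hK p hKJ) := by
    intro j hj
    rw [LinearMap.mem_ker] at hj ⊢
    apply Subtype.ext
    change Ideal.Quotient.mk K (j : C') = 0
    rw [Ideal.Quotient.eq_zero_iff_mem]
    exact hφK j hj
  obtain ⟨X, hX⟩ := S.exists_jcompat_ext_quot S'' (fun s => rfl) (Art.kerToQuot hK p hKJ) (fun j => rfl) φ hφκ h0
  let L := liftOfExt H'' X hX
  have hfl : (algebraMap C'' L.E).Flat := RingHom.flat_algebraMap_iff.mpr L.flat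
  obtain ⟨s, e, he1, he2⟩ := exists_lift_of_ring 𝒳 hp''surj L.E (algebraMap C'' L.E) hfl
    L.β.toRingHom L.surj L.ker_le (RingHom.ext fun c => L.β.commutes c)
  exact ⟨Quotient.mk _ s.1, Quotient.sound ⟨s.2⟩⟩

end Groth.Agent.LibT2Obs29
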