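import Groth.Agent.LibHullDim29e
import Groth.Agent.LibObs29c

/-!
# A versal family and a linear obstruction map bound the number of relations of the base ring (seat helper29)

If `ξ` is a versal family for `F` over `R`, and for every semismall extension `p : C' → C` with kernel `J` and every
`x ∈ F(C)` there is a linear map `Φ₂ : J^* → V` such that `Φ₂ φ = 0` implies that `x` lifts to `C'/K` for `K ⊇ ker φ`,
then for a surjection `π : P → R` from a Noetherian local ring with `ker π ≤ 𝔪²`, `ker π` is generated by at most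
`dim V` elements.
-/

set_option autoImplicit false
universe u v

namespace Groth.Agent.LibHullDim29

open IsLocalRing TensorProduct ArtFun CategoryTheory Groth.Agent.LibObs29

section

variable {k : Type u} [Field k] {F : Art k k ⥤ Type v} {R : Type u} [CommRing R] [Algebra k R] (res : R →ₐ[k] k)
  {P : Type u} [CommRing P] [IsLocalRing P] [Algebra k P]
  (π : P →ₐ[k] R)

set_option maxHeartbeats 1600000 in
theorem spanFinrank_ker_le_of_versal [IsNoetherianRing P] (hπ : Function.Surjective π)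
    (hI2 : RingHom.ker π ≤ maximalIdeal P ^ 2)
    (ξ : Family R res F) (hξ : IsVersal ξ)
    {W : Type u} [AddCommGroup W] [Module k W] [Module.Finite k W]
    (hobs : ∀ {C' C : Art k k} (p : C' ⟶ C), Art.IsSemismallExt p → ∀ x : F.obj C,
      ∃ Φ₂ : (↥(RingHom.ker p.toAlgHom) →ₗ[k] k) →ₗ[k] W,
        ∀ φ, Φ₂ φ = 0 → ∀ (K : Ideal C') (hK : K ≤ IsLocalRing.maximalIdeal C')
          (hKJ : K ≤ RingHom.ker p.toAlgHom),
          (∀ j : ↥(RingHom.ker p.toAlgHom), φ j = 0 → (j : C') ∈ K) →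
          ∃ y, F.map (Art.quotFactor hK p hKJ) y = x) :
    (RingHom.ker π).spanFinrank ≤ Module.finrank k W := by
  obtain ⟨I, hIdef⟩ : ∃ I : Ideal P, I = RingHom.ker π := ⟨_, rfl⟩
  rw [← hIdef] at hI2 ⊢
  have hker := ker_res_comp res π
  obtain ⟨n, hn⟩ := exists_inf_pow_le I
  have hIm : I ≤ maximalIdeal P := hI2.trans (Ideal.pow_le_self (by omega))
  -- the test object, packaged opaquely
  obtain ⟨C', q0, hq0, hq0ker, hq0res⟩ : ∃ (C' : Art k k) (q0 : P →ₐ[k] C'.carrier),
      Function.Surjective q0 ∧ RingHom.ker q0 = aa I n ∧ C'.res.comp q0 = res.comp π := by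
    let resC' : P ⧸ aa I n →ₐ[k] k := Ideal.Quotient.liftₐ (aa I n) (res.comp π) (fun x hx => by
      have : x ∈ maximalIdeal P := aa_le I n hx
      rw [← hker] at this
      exact this)
    have hresC'surj : Function.Surjective resC' := fun c =>
      ⟨algebraMap k _ c, by rw [AlgHom.commutes]; rfl⟩
    exact ⟨Art.of (P ⧸ aa I n) resC' hresC'surj, Ideal.Quotient.mkₐ k (aa I n),
      Ideal.Quotient.mk_surjective, Ideal.Quotient.mkₐ_ker k _, rfl⟩
  obtain ⟨J, hJ⟩ : ∃ J : Ideal C'.carrier, J = I.map q0 := ⟨_, rfl⟩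
  have hmaxC' : maximalIdeal C'.carrier = (maximalIdeal P).map q0 :=
    (IsLocalRing.map_maximalIdeal_of_surjective (q0 : P →+* C'.carrier) hq0).symm
  have hJm : J ≤ maximalIdeal C'.carrier := by
    rw [hJ, hmaxC']; exact Ideal.map_mono hIm
  have hmJ : maximalIdeal C'.carrier * J = ⊥ := by
    rw [hJ, hmaxC', ← Ideal.map_mul, Ideal.map_eq_bot_iff_le_ker]
    show maximalIdeal P * I ≤ RingHom.ker q0
    rw [hq0ker]
    exact le_sup_left
  have hresC : ∀ x : C'.carrier, ∃ c : k, x - algebraMap k C'.carrier c ∈ maximalIdeal C'.carrier := by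
    intro x
    refine ⟨C'.res x, ?_⟩
    rw [Art.mem_maximalIdeal_iff, map_sub, AlgHom.commutes]
    simp
  let C : Art k k := Art.quot C' J hJm
  let p : C' ⟶ C := Art.quotMk C' J hJm
  have hkerp : RingHom.ker p.toAlgHom = J := Ideal.Quotient.mkₐ_ker k J
  have hp : Art.IsSemismallExt p :=
    ⟨Art.quotMk_surjective _ _ _, by rw [hkerp]; exact hmJ⟩
  let g : P →ₐ[k] C.carrier := p.toAlgHom.comp q0
  have hg : RingHom.ker π.toRingHom ≤ RingHom.ker g.toRingHom := by
    intro x hx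
    have hxI : x ∈ I := by rw [hIdef]; exact hx
    show p.toAlgHom (q0 x) = 0
    have : q0 x ∈ RingHom.ker p.toAlgHom := by
      rw [hkerp, hJ]; exact Ideal.mem_map_of_mem _ hxI
    exact this
  let ū : R →ₐ[k] C.carrier := AlgHom.liftOfSurjective π hπ g hg
  have hū : ∀ x : P, ū (π x) = p.toAlgHom (q0 x) := fun x =>
    AlgHom.liftOfSurjective_apply π hπ g hg x
  let u : HomSet R res C := ⟨ū, by
    apply AlgHom.ext
    intro r
    obtain ⟨x, rfl⟩ := hπ r
    rw [AlgHom.comp_apply, hū]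
    have h1 : C.res (p.toAlgHom (q0 x)) = C'.res (q0 x) := Art.res_app p _
    rw [h1]
    exact DFunLike.congr_fun hq0res x⟩
  have hsc : ∀ x : C'.carrier, ∃ c : k, ∀ j ∈ RingHom.ker p.toAlgHom, x * j = c • j :=
    exists_scalar hresC (RingHom.ker p.toAlgHom) hp.2
  obtain ⟨Φ₂, hΦ₂⟩ := hobs p hp (ξ.app C u)
  refine core_sq_gen_map q0 hq0 I hI2 n hq0ker hn (RingHom.ker p.toAlgHom) (hkerp.trans hJ) hsc Φ₂ ?_
  intro φ hφ K hKdef
  have hKJ : K ≤ RingHom.ker p.toAlgHom := by rw [hKdef]; exact kerIdeal_le _ _ _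
  have hK : K ≤ maximalIdeal C'.carrier := hKJ.trans (by rw [hkerp]; exact hJm)
  have hkerq : RingHom.ker (Art.quotFactor hK p hKJ).toAlgHom =
      (RingHom.ker p.toAlgHom).map (Ideal.Quotient.mk K) :=
    Ideal.ker_quotient_lift (p.toAlgHom : C'.carrier →+* C.carrier) hKJ
  have hqsurj : Function.Surjective (Art.quotFactor hK p hKJ) := by
    intro c
    obtain ⟨a, rfl⟩ := hp.1 c
    exact ⟨Ideal.Quotient.mk K a, rfl⟩
  obtain ⟨y, hy⟩ := hΦ₂ φ hφ K hK hKJ (by
    intro j hj
    rw [hKdef]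
    exact ⟨j.2, hj⟩)
  obtain ⟨u', hu', -⟩ := hξ (Art.quotFactor hK p hKJ) hqsurj u y hy
  have hu'' : ∀ r : R, (Art.quotFactor hK p hKJ).toAlgHom (u'.1 r) = ū r := by
    intro r
    have := congrArg (fun w : HomSet R res C => w.1 r) hu'
    exact this
  let ψ : P →+* (Art.quot C' K hK).carrier :=
    (u'.1 : R →+* (Art.quot C' K hK).carrier).comp (π : P →+* R)
  have hψ : ∀ x, ψ x = u'.1 (π x) := fun x => rfl
  refine ⟨ψ, ?_, ?_⟩
  · intro x hx
    have hx' : π x = 0 := by rw [hIdef] at hx; exact hx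
    have h0 : ψ x = 0 := by rw [hψ, hx', map_zero]
    exact h0
  · intro x
    have h1 : ψ x - (Art.quotMk C' K hK).toAlgHom (q0 x) ∈
        RingHom.ker (Art.quotFactor hK p hKJ).toAlgHom := by
      rw [RingHom.mem_ker, map_sub, hψ, hu'' (π x), hū x, sub_eq_zero]
      rfl
    rw [hkerq] at h1
    exact h1

end

end Groth.Agent.LibHullDim29
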