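import Groth.Agent.LibHullDim29a
import Groth.Agent.LibHullDim29b
import Groth.Agent.LibHullDim29g
import Groth.Agent.LibObs29d
import Groth.Agent.S12721
import Groth.Agent.S12722
import Groth.Agent.S12723
import Mathlib.RingTheory.KrullDimension.NonZeroDivisors
import Mathlib.RingTheory.MvPowerSeries.NoZeroDivisors

/-!
# Dimension of the base of a hull: `dim R ≤ dim t_F ≤ dim R + dim W`, and `dim R = dim t_F` iff `F` is smooth
(seat helper29)
-/

set_option autoImplicit false
universe u v
open CategoryTheory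

namespace Groth.Agent.LibHullDim29

open IsLocalRing ArtFun Groth.Agent.LibObs29 Groth.Agent.LibCR29

section ring

variable (k : Type u) [Field k]

lemma ringKrullDim_mvPowerSeries (n : ℕ) : ringKrullDim (MvPowerSeries (Fin n) k) = (n : WithBot ℕ∞) := by
  refine le_antisymm ?_ (le_ringKrullDim_mvPowerSeries k n)
  refine le_trans (ringKrullDim_le_spanFinrank_maximalIdeal _) ?_
  have h1 : maximalIdeal (MvPowerSeries (Fin n) k) =
      Ideal.span (Set.range (MvPowerSeries.X : Fin n → MvPowerSeries (Fin n) k)) := by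
    rw [maximalIdeal_ps, IsLocalRing.maximalIdeal_eq_bot, Ideal.map_bot, bot_sup_eq]
  rw [h1]
  have h2 : (Ideal.span (Set.range (MvPowerSeries.X : Fin n → MvPowerSeries (Fin n) k))).spanFinrank ≤
      (Set.range (MvPowerSeries.X : Fin n → MvPowerSeries (Fin n) k)).ncard :=
    Submodule.spanFinrank_span_le_ncard_of_finite (Set.finite_range _)
  have h3 : (Set.range (MvPowerSeries.X : Fin n → MvPowerSeries (Fin n) k)).ncard ≤ n := by
    classical
    have : Set.range (MvPowerSeries.X : Fin n → MvPowerSeries (Fin n) k) =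
        ((Finset.univ.image (MvPowerSeries.X : Fin n → MvPowerSeries (Fin n) k) :
          Finset (MvPowerSeries (Fin n) k)) : Set (MvPowerSeries (Fin n) k)) := by simp
    rw [this, Set.ncard_coe_finset]
    exact Finset.card_image_le.trans (by simp)
  exact_mod_cast h2.trans h3

end ring

/-- a surjection from a domain onto a ring of the same finite dimension is injective -/
lemma ker_eq_bot_of_ringKrullDim_eq {S R : Type*} [CommRing S] [IsDomain S] [CommRing R] (f : S →+* R)
    (hf : Function.Surjective f) (n : ℕ) (hS : ringKrullDim S = (n : WithBot ℕ∞))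
    (hR : ringKrullDim R = (n : WithBot ℕ∞)) : RingHom.ker f = ⊥ := by
  by_contra hne
  obtain ⟨x, hx, hx0⟩ := Submodule.exists_mem_ne_zero_of_ne_bot hne
  have hxnzd : x ∈ nonZeroDivisors S := mem_nonZeroDivisors_of_ne_zero hx0
  have h1 := ringKrullDim_quotient_succ_le_of_nonZeroDivisor hxnzd
  let g : S ⧸ Ideal.span {x} →+* R := Ideal.Quotient.lift _ f (by
    intro a ha
    obtain ⟨c, rfl⟩ := Ideal.mem_span_singleton'.mp ha
    rw [map_mul, RingHom.mem_ker.mp hx, mul_zero])
  have hg : Function.Surjective g := by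
    intro r
    obtain ⟨s, rfl⟩ := hf r
    exact ⟨Ideal.Quotient.mk _ s, rfl⟩
  have h2 := ringKrullDim_le_of_surjective g hg
  rw [hS] at h1
  rw [hR] at h2
  have h3 : (n : WithBot ℕ∞) + 1 ≤ n := (add_le_add_left h2 1).trans h1
  have h4 : n + 1 ≤ n := by exact_mod_cast h3
  omega

section main

variable {k : Type u} [Field k] {F : Art k k ⥤ Type v} [T : TangentStr F] (H : Hull F)

/-- the number of variables of a minimal presentation of the base of a hull is the dimension of the tangent space -/
lemma eq_finrank_tangentSpace {n : ℕ} (π : MvPowerSeries (Fin n) k →ₐ[k] H.ring.carrier)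
    (hπ : Function.Surjective π) (hker : RingHom.ker π ≤ maximalIdeal (MvPowerSeries (Fin n) k) ^ 2) :
    n = Module.finrank k (TangentSpace F) := by
  letI : Algebra H.ring.carrier k := H.ring.res.toRingHom.toAlgebra
  haveI : IsScalarTower k H.ring.carrier k :=
    IsScalarTower.of_algebraMap_eq (fun c => (H.ring.res.commutes c).symm)
  have halg : ∀ r, algebraMap H.ring.carrier k r = H.ring.res r := fun r => rfl
  rw [← finrank_derivation_eq H.ring.res halg H.family H.miniversal.2]
  exact (finrank_derivation_eq_of_presentation H.ring.res halg π hπ hker).symm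

set_option maxHeartbeats 1600000 in
theorem hull_dim_bounds (h0 : H0 F) :
    ringKrullDim H.ring.carrier ≤ ((Module.finrank k (TangentSpace F) : ℕ∞) : WithBot ℕ∞) ∧
    (∀ (W : Type u) [AddCommGroup W] [Module k W] [Module.Finite k W],
      (∀ {C' C : Art k k} (p : C' ⟶ C), Art.IsSemismallExt p → ∀ x : F.obj C,
        ∃ Φ₂ : (↥(RingHom.ker p.toAlgHom) →ₗ[k] k) →ₗ[k] W,
          ∀ φ, Φ₂ φ = 0 → ∀ (K : Ideal C') (hK : K ≤ IsLocalRing.maximalIdeal C')
            (hKJ : K ≤ RingHom.ker p.toAlgHom),
            (∀ j : ↥(RingHom.ker p.toAlgHom), φ j = 0 → (j : C') ∈ K) →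
            ∃ y, F.map (Art.quotFactor hK p hKJ) y = x) →
      ((Module.finrank k (TangentSpace F) : ℕ∞) : WithBot ℕ∞) ≤
        ringKrullDim H.ring.carrier + ((Module.finrank k W : ℕ∞) : WithBot ℕ∞)) ∧
    (ringKrullDim H.ring.carrier = ((Module.finrank k (TangentSpace F) : ℕ∞) : WithBot ℕ∞) ↔
      IsSmoothFunctor F) := by
  obtain ⟨n, φ₀, hsurj, hker⟩ := exists_ps_presentation H.ring
  have hn := eq_finrank_tangentSpace H φ₀ hsurj hker
  rw [← hn]
  have hdimS := ringKrullDim_mvPowerSeries k n
  haveI := isRegularLocalRing_mvPowerSeries k n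
  have hcast : ((n : ℕ∞) : WithBot ℕ∞) = (n : WithBot ℕ∞) := rfl
  rw [hcast]
  refine ⟨?_, ?_, ?_⟩
  · rw [← hdimS]
    exact ringKrullDim_le_of_surjective (φ₀ : MvPowerSeries (Fin n) k →+* H.ring.carrier) hsurj
  · intro W _ _ _ hobs
    have hμ : (RingHom.ker φ₀).spanFinrank ≤ Module.finrank k W :=
      spanFinrank_ker_le_of_versal H.ring.res φ₀ hsurj hker H.family H.miniversal.1 hobs
    have hIm : RingHom.ker φ₀ ≤ maximalIdeal (MvPowerSeries (Fin n) k) :=
      hker.trans (Ideal.pow_le_self (by omega))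
    have hKr : ringKrullDim (MvPowerSeries (Fin n) k) ≤
        ringKrullDim H.ring.carrier + ((RingHom.ker φ₀).spanFinrank : WithBot ℕ∞) := by
      have h1 := ringKrullDim_le_ringKrullDim_quotient_add_spanFinrank (RingHom.ker φ₀) (by
        rw [IsLocalRing.ringJacobson_eq_maximalIdeal]; exact hIm)
      have h2 : ringKrullDim (MvPowerSeries (Fin n) k ⧸ RingHom.ker φ₀) = ringKrullDim H.ring.carrier :=
        ringKrullDim_eq_of_ringEquiv (RingHom.quotientKerEquivOfSurjective
          (f := (φ₀ : MvPowerSeries (Fin n) k →+* H.ring.carrier)) hsurj)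
      rw [h2] at h1
      exact_mod_cast h1
    rw [← hdimS]
    refine hKr.trans ?_
    have hμ' : ((RingHom.ker φ₀).spanFinrank : WithBot ℕ∞) ≤ ((Module.finrank k W : ℕ∞) : WithBot ℕ∞) := by
      exact_mod_cast hμ
    gcongr
  · constructor
    · intro hdim
      haveI : IsDomain (MvPowerSeries (Fin n) k) := NoZeroDivisors.to_isDomain _
      have hbot : RingHom.ker (φ₀ : MvPowerSeries (Fin n) k →+* H.ring.carrier) = ⊥ :=
        ker_eq_bot_of_ringKrullDim_eq _ hsurj n hdimS hdim
      have hbij : Function.Bijective φ₀ :=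
        ⟨(RingHom.injective_iff_ker_eq_bot (φ₀ : MvPowerSeries (Fin n) k →+* H.ring.carrier)).2 hbot, hsurj⟩
      have hsm : IsSmoothFunctor (hR H.ring.carrier H.ring.res) :=
        (Groth.Agent.S12722.result (fun c => ⟨c, rfl⟩) H.ring).2 ⟨n, ⟨(AlgEquiv.ofBijective φ₀ hbij).symm⟩⟩
      exact (Groth.Agent.S12723.result h0 H.ring H.family H.miniversal.1).2
        ((Groth.Agent.S12721.result H.ring).1 hsm)
    · intro hF
      have hsm : IsSmoothFunctor (hR H.ring.carrier H.ring.res) :=
        (Groth.Agent.S12721.result H.ring).2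
          ((Groth.Agent.S12723.result h0 H.ring H.family H.miniversal.1).1 hF)
      obtain ⟨m, ⟨e⟩⟩ := (Groth.Agent.S12722.result (fun c => ⟨c, rfl⟩) H.ring).1 hsm
      have hm : m = Module.finrank k (TangentSpace F) :=
        eq_finrank_tangentSpace H (e.symm : MvPowerSeries (Fin m) k →ₐ[k] H.ring.carrier) e.symm.surjective (by
          have : RingHom.ker (e.symm : MvPowerSeries (Fin m) k →ₐ[k] H.ring.carrier) = ⊥ :=
            (RingHom.injective_iff_ker_eq_bot _).1 e.symm.injective
          rw [this]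
          exact bot_le)
      have hmn : m = n := hm.trans hn.symm
      subst hmn
      rw [ringKrullDim_eq_of_ringEquiv e.toRingEquiv, hdimS]

end main

end Groth.Agent.LibHullDim29
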