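import Groth.Agent.LibFSLocus29
import Mathlib.RingTheory.Kaehler.Polynomial
import Mathlib.RingTheory.HopkinsLevitzki
import Mathlib.RingTheory.Filtration
import Mathlib.LinearAlgebra.Dual.Lemmas

/-!
# Smoothness at a prime via lifting along small extensions of Artinian local rings (helper29)
-/

set_option autoImplicit false
set_option linter.style.haveILetI false

namespace Groth.Agent.LibSmallExt29

open TensorProduct IsLocalRing

universe u

section Elementwise

variable {C : Type*} [CommRing C] {M N : Type*} [AddCommGroup M] [Module C M]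
  [AddCommGroup N] [Module C N] (p : Ideal C) [p.IsPrime]

lemma exists_mul_eq_algebraMap (x : p.ResidueField) :
    ∃ a s : C, s ∉ p ∧
      algebraMap C p.ResidueField s * x = algebraMap C p.ResidueField a := by
  obtain ⟨y, rfl⟩ := IsLocalRing.residue_surjective x
  obtain ⟨a, s, rfl⟩ := IsLocalization.exists_mk'_eq p.primeCompl y
  refine ⟨a, s.1, s.2, ?_⟩
  rw [IsScalarTower.algebraMap_apply C (Localization.AtPrime p) p.ResidueField,
    IsScalarTower.algebraMap_apply C (Localization.AtPrime p) p.ResidueField a,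
    IsLocalRing.ResidueField.algebraMap_eq, ← map_mul, mul_comm, IsLocalization.mk'_spec]

lemma exists_smul_eq_one_tmul (z : p.ResidueField ⊗[C] M) :
    ∃ s : C, s ∉ p ∧ ∃ m : M, s • z = (1 : p.ResidueField) ⊗ₜ[C] m := by
  induction z using TensorProduct.induction_on with
  | zero => exact ⟨1, fun h => (inferInstance : p.IsPrime).ne_top ((Ideal.eq_top_iff_one p).mpr h),
      0, by simp⟩
  | tmul x m =>
    obtain ⟨a, s, hs, h⟩ := exists_mul_eq_algebraMap p x
    refine ⟨s, hs, a • m, ?_⟩
    rw [TensorProduct.smul_tmul', Algebra.smul_def, h, Algebra.algebraMap_eq_smul_one,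
      TensorProduct.smul_tmul]
  | add z₁ z₂ h₁ h₂ =>
    obtain ⟨s₁, hs₁, m₁, e₁⟩ := h₁
    obtain ⟨s₂, hs₂, m₂, e₂⟩ := h₂
    refine ⟨s₁ * s₂, fun h => ((inferInstance : p.IsPrime).mem_or_mem h).elim hs₁ hs₂,
      s₂ • m₁ + s₁ • m₂, ?_⟩
    rw [smul_add, mul_comm s₁ s₂, mul_smul, e₁, mul_comm s₂ s₁, mul_smul, e₂, TensorProduct.tmul_add,
      TensorProduct.tmul_smul, TensorProduct.tmul_smul]

lemma injective_baseChange_of_forall (ψ : M →ₗ[C] N)
    (h : ∀ m : M, (1 : p.ResidueField) ⊗ₜ[C] ψ m = 0 → (1 : p.ResidueField) ⊗ₜ[C] m = 0) :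
    Function.Injective (ψ.baseChange p.ResidueField) := by
  rw [injective_iff_map_eq_zero]
  intro z hz
  obtain ⟨s, hs, m, hm⟩ := exists_smul_eq_one_tmul p z
  have h1 : (1 : p.ResidueField) ⊗ₜ[C] ψ m = 0 := by
    have := congrArg (ψ.baseChange p.ResidueField) hm
    rw [LinearMap.map_smul_of_tower, hz, smul_zero, LinearMap.baseChange_tmul] at this
    exact this.symm
  have h2 := h m h1
  rw [← hm, ← algebraMap_smul p.ResidueField s z, smul_eq_zero] at h2
  rcases h2 with h2 | h2
  · exact absurd ((Ideal.algebraMap_residueField_eq_zero).mp h2) hs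
  · exact h2

end Elementwise

section Taylor

variable {R : Type*} [CommRing R] {n : ℕ} {B : Type*} [CommRing B] [Algebra R B]

/-- first order Taylor expansion for two algebra maps out of a polynomial ring that agree modulo a
square-zero ideal -/
lemma sub_eq_sum_pderiv (K : Ideal B) (hK : ∀ x ∈ K, ∀ y ∈ K, x * y = 0)
    (can ψ : MvPolynomial (Fin n) R →ₐ[R] B) (hcong : ∀ p, can p - ψ p ∈ K)
    (p : MvPolynomial (Fin n) R) :
    can p - ψ p = ∑ i, can (MvPolynomial.pderiv i p) * (can (MvPolynomial.X i) - ψ (MvPolynomial.X i)) := by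
  induction p using MvPolynomial.induction_on with
  | C a => simp
  | add p₁ p₂ h₁ h₂ =>
    simp only [map_add, add_mul, Finset.sum_add_distrib]
    rw [← h₁, ← h₂]; ring
  | mul_X p k h =>
    have h0 : (can p - ψ p) * (can (MvPolynomial.X k) - ψ (MvPolynomial.X k)) = 0 :=
      hK _ (hcong p) _ (hcong _)
    have h1 : ∀ i, can (MvPolynomial.pderiv i (p * MvPolynomial.X k)) *
        (can (MvPolynomial.X i) - ψ (MvPolynomial.X i)) =
        can (MvPolynomial.X k) * (can (MvPolynomial.pderiv i p) *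
          (can (MvPolynomial.X i) - ψ (MvPolynomial.X i))) +
        (if i = k then can p * (can (MvPolynomial.X k) - ψ (MvPolynomial.X k)) else 0) := by
      intro i
      rw [Derivation.leibniz]
      by_cases hik : i = k
      · subst hik
        rw [MvPolynomial.pderiv_X_self, if_pos rfl]
        simp only [smul_eq_mul, map_add, map_mul, map_one]
        ring
      · rw [MvPolynomial.pderiv_X_of_ne (Ne.symm hik), if_neg hik]
        simp only [smul_eq_mul, map_add, map_mul, map_zero]
        ring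
    simp_rw [h1]
    rw [Finset.sum_add_distrib, ← Finset.mul_sum, ← h, Finset.sum_ite_eq' Finset.univ k]
    simp only [Finset.mem_univ, if_true, map_mul]
    linear_combination (-1 : B) * h0

end Taylor

section LocalQuot

variable {L : Type*} [CommRing L] [IsLocalRing L] (𝔞 : Ideal L)

lemma isLocalRing_quotient (h𝔞 : 𝔞 ≠ ⊤) : IsLocalRing (L ⧸ 𝔞) :=
  haveI : Nontrivial (L ⧸ 𝔞) := Ideal.Quotient.nontrivial_iff.mpr h𝔞
  IsLocalRing.of_surjective' (Ideal.Quotient.mk 𝔞) Ideal.Quotient.mk_surjective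

lemma mk_mem_maximalIdeal_iff (h𝔞 : 𝔞 ≠ ⊤) [IsLocalRing (L ⧸ 𝔞)] (x : L) :
    Ideal.Quotient.mk 𝔞 x ∈ maximalIdeal (L ⧸ 𝔞) ↔ x ∈ maximalIdeal L := by
  rw [mem_maximalIdeal, mem_maximalIdeal, mem_nonunits_iff, mem_nonunits_iff, not_iff_not]
  constructor
  · intro hu
    by_contra hx
    obtain ⟨y, hy⟩ := hu.exists_right_inv
    obtain ⟨y, rfl⟩ := Ideal.Quotient.mk_surjective y
    rw [← map_mul, ← map_one (Ideal.Quotient.mk 𝔞), Ideal.Quotient.eq] at hy
    have h1 : x * y - 1 ∈ maximalIdeal L := IsLocalRing.le_maximalIdeal h𝔞 hy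
    have h2 : x * y ∈ maximalIdeal L := Ideal.mul_mem_right _ _ hx
    have h3 : (1 : L) ∈ maximalIdeal L := by
      have h4 : (1 : L) = x * y - (x * y - 1) := by ring
      rw [h4]
      exact Ideal.sub_mem _ h2 h1
    exact (Ideal.ne_top_iff_one _).mp (IsLocalRing.maximalIdeal.isMaximal L).ne_top h3
  · intro hu
    exact hu.map _

end LocalQuot

section Construction

variable {P : Type*} [CommRing P] [IsNoetherianRing P] (q' : Ideal P) [q'.IsPrime]
  (J : Ideal P) {κ : Type*} [Field κ] [Algebra P κ]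
  (hκ : ∀ a : P, algebraMap P κ a = 0 ↔ a ∈ q')
  (μ : J →ₗ[P] κ) (f : J) (hμf : μ f ≠ 0)

include hκ hμf in
/-- the small Artinian quotient of `L = P_{q'}` attached to a functional `μ` on `J` and an element
`f ∈ J` with `μ f ≠ 0` -/
lemma exists_small_quotient :
    ∃ 𝔟 : Ideal (Localization.AtPrime q'),
      algebraMap P (Localization.AtPrime q') f ∉ 𝔟 ∧
      (∀ a ∈ maximalIdeal (Localization.AtPrime q'),
        a * algebraMap P (Localization.AtPrime q') f ∈ 𝔟) ∧
      IsArtinianRing (Localization.AtPrime q' ⧸ 𝔟) ∧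
      𝔟 ⊔ J.map (algebraMap P (Localization.AtPrime q')) =
        𝔟 ⊔ Ideal.span {algebraMap P (Localization.AtPrime q') (f : P)} := by
  classical
  -- the ideal `𝔴₀ = ker μ ⊆ J`
  let 𝔴₀ : Ideal P := (LinearMap.ker μ).map (Submodule.subtype J)
  have hF1 : q' * J ≤ 𝔴₀ := by
    rw [Ideal.mul_le]
    intro a ha j hj
    refine ⟨a • (⟨j, hj⟩ : J), ?_, rfl⟩
    rw [SetLike.mem_coe, LinearMap.mem_ker, map_smul, Algebra.smul_def, (hκ a).mpr ha, zero_mul]
  set 𝔴 : Ideal (Localization.AtPrime q') := 𝔴₀.map (algebraMap P (Localization.AtPrime q'))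
    with h𝔴
  have hF2 : algebraMap P (Localization.AtPrime q') f ∉ 𝔴 := by
    intro hmem
    rw [h𝔴, IsLocalization.algebraMap_mem_map_algebraMap_iff q'.primeCompl] at hmem
    obtain ⟨s, hs, y, hy, hys⟩ := hmem
    rw [SetLike.mem_coe, LinearMap.mem_ker] at hy
    have hyf : y = s • f := Subtype.ext hys
    rw [hyf, map_smul, Algebra.smul_def, mul_eq_zero] at hy
    rcases hy with hy | hy
    · exact hs ((hκ s).mp hy)
    · exact hμf hy
  have hn : maximalIdeal (Localization.AtPrime q') *
      J.map (algebraMap P (Localization.AtPrime q')) ≤ 𝔴 := by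
    rw [← IsLocalization.AtPrime.map_eq_maximalIdeal q' (Localization.AtPrime q'),
      ← Ideal.map_mul]
    exact Ideal.map_mono hF1
  -- a maximal ideal among those containing `𝔴` and avoiding `f`
  obtain ⟨𝔟, ⟨h𝔴𝔟, hf𝔟⟩, hmax⟩ := set_has_maximal_iff_noetherian.mpr
    (inferInstance : IsNoetherian (Localization.AtPrime q') (Localization.AtPrime q'))
    {𝔟 : Ideal (Localization.AtPrime q') | 𝔴 ≤ 𝔟 ∧
      algebraMap P (Localization.AtPrime q') f ∉ 𝔟} ⟨𝔴, le_rfl, hF2⟩
  have hmax' : ∀ 𝔠 : Ideal (Localization.AtPrime q'), 𝔟 < 𝔠 →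
      algebraMap P (Localization.AtPrime q') f ∈ 𝔠 := by
    intro 𝔠 h𝔠
    by_contra hfc
    exact hmax 𝔠 ⟨h𝔴𝔟.trans h𝔠.le, hfc⟩ h𝔠
  have h𝔟top : 𝔟 ≠ ⊤ := fun h => hf𝔟 (h ▸ Submodule.mem_top)
  have hv2 : ∀ a ∈ maximalIdeal (Localization.AtPrime q'),
      a * algebraMap P (Localization.AtPrime q') f ∈ 𝔟 := fun a ha =>
    h𝔴𝔟 (hn (Ideal.mul_mem_mul ha (Ideal.mem_map_of_mem _ f.2)))
  have hv3 : J.map (algebraMap P (Localization.AtPrime q')) ≤
      𝔟 ⊔ Ideal.span {algebraMap P (Localization.AtPrime q') (f : P)} := by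
    rw [Ideal.map_le_iff_le_comap]
    intro j hj
    rw [Ideal.mem_comap]
    by_cases hj𝔟 : algebraMap P (Localization.AtPrime q') j ∈ 𝔟
    · exact Ideal.mem_sup_left hj𝔟
    · have hlt : 𝔟 < 𝔟 ⊔ Ideal.span {algebraMap P (Localization.AtPrime q') j} := by
        refine lt_of_le_of_ne le_sup_left fun h => hj𝔟 ?_
        rw [h]
        exact Ideal.mem_sup_right (Ideal.subset_span rfl)
      have := hmax' _ hlt
      obtain ⟨b, hb, c', hc', hbc⟩ := Submodule.mem_sup.mp this
      obtain ⟨c, rfl⟩ := Ideal.mem_span_singleton'.mp hc'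
      have hcu : IsUnit c := by
        by_contra hcn
        have hc𝔫 : c ∈ maximalIdeal (Localization.AtPrime q') := hcn
        have : c * algebraMap P (Localization.AtPrime q') j ∈ 𝔟 :=
          h𝔴𝔟 (hn (Ideal.mul_mem_mul hc𝔫 (Ideal.mem_map_of_mem _ hj)))
        exact hf𝔟 (hbc ▸ 𝔟.add_mem hb this)
      obtain ⟨u, rfl⟩ := hcu
      have hje : algebraMap P (Localization.AtPrime q') j =
          (↑u⁻¹ : Localization.AtPrime q') * (-b) +
            (↑u⁻¹ : Localization.AtPrime q') * algebraMap P (Localization.AtPrime q') (f : P) := by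
        rw [← hbc]
        have : (↑u⁻¹ : Localization.AtPrime q') * (u : Localization.AtPrime q') = 1 :=
          Units.inv_mul u
        linear_combination (-(algebraMap P (Localization.AtPrime q') j)) * this
      rw [hje]
      exact Submodule.add_mem_sup (Ideal.mul_mem_left 𝔟 _ (𝔟.neg_mem hb))
        (Ideal.mul_mem_left _ _ (Ideal.subset_span rfl))
  refine ⟨𝔟, hf𝔟, hv2, ?_, ?_⟩
  · -- Artinian
    haveI := isLocalRing_quotient 𝔟 h𝔟top
    rw [isArtinianRing_iff_isNilpotent_maximalIdeal]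
    have hkrull := Ideal.iInf_pow_eq_bot_of_isLocalRing
      (maximalIdeal (Localization.AtPrime q' ⧸ 𝔟)) (IsLocalRing.maximalIdeal.isMaximal _).ne_top
    have ht : Ideal.Quotient.mk 𝔟 (algebraMap P (Localization.AtPrime q') f) ∉
        (⨅ i, maximalIdeal (Localization.AtPrime q' ⧸ 𝔟) ^ i) := by
      rw [hkrull, Ideal.mem_bot, Ideal.Quotient.eq_zero_iff_mem]
      exact hf𝔟
    rw [Ideal.mem_iInf, not_forall] at ht
    obtain ⟨N, hN⟩ := ht
    refine ⟨N, ?_⟩
    rw [Ideal.zero_eq_bot, eq_bot_iff]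
    intro y hy
    rw [Ideal.mem_bot]
    by_contra hy0
    obtain ⟨y', rfl⟩ := Ideal.Quotient.mk_surjective y
    have hlt : 𝔟 < (maximalIdeal (Localization.AtPrime q' ⧸ 𝔟) ^ N).comap
        (Ideal.Quotient.mk 𝔟) := by
      refine lt_of_le_of_ne ?_ fun h => hy0 ?_
      · intro z hz
        rw [Ideal.mem_comap, Ideal.Quotient.eq_zero_iff_mem.mpr hz]
        exact Ideal.zero_mem _
      · rw [Ideal.Quotient.eq_zero_iff_mem, h]
        exact hy
    exact hN (hmax' _ hlt)
  · refine le_antisymm (sup_le le_sup_left hv3) (sup_le le_sup_left ?_)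
    rw [Ideal.span_le, Set.singleton_subset_iff]
    exact Ideal.mem_sup_right (Ideal.mem_map_of_mem _ f.2)

end Construction

section Main

variable {R : Type u} [CommRing R] {n : ℕ} {S : Type u} [CommRing S] [Algebra R S]
  [Algebra (MvPolynomial (Fin n) R) S] [IsScalarTower R (MvPolynomial (Fin n) R) S]
  (hsurj : Function.Surjective (algebraMap (MvPolynomial (Fin n) R) S))
  (q : Ideal S) [q.IsPrime]

include hsurj in
/-- if the class of `f` dies in the fibre of the cotangent space, all partial derivatives of `f`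
lie in `q` -/
lemma pderiv_mem_of_tmul_eq_zero (f : MvPolynomial (Fin n) R)
    (hf : f ∈ (Groth.Agent.LibFSLocus29.ext (A := R) hsurj).ker)
    (h0 : (1 : q.ResidueField) ⊗ₜ[S] (Groth.Agent.LibFSLocus29.ext (A := R) hsurj).cotangentComplex
      (Algebra.Extension.Cotangent.mk ⟨f, hf⟩) = 0) (i : Fin n) :
    algebraMap (MvPolynomial (Fin n) R) S (MvPolynomial.pderiv i f) ∈ q := by
  let B : Module.Basis (Fin n) q.ResidueField
      (q.ResidueField ⊗[S] (Groth.Agent.LibFSLocus29.ext (A := R) hsurj).CotangentSpace) :=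
    ((KaehlerDifferential.mvPolynomialBasis R (Fin n)).baseChange S).baseChange q.ResidueField
  have h1 := congrArg (fun v => B.repr v i) h0
  simp only [map_zero, Finsupp.coe_zero, Pi.zero_apply] at h1
  rw [Algebra.Extension.cotangentComplex_mk] at h1
  simp only [B] at h1
  rw [Module.Basis.baseChange_repr_tmul, Module.Basis.baseChange_repr_tmul,
    KaehlerDifferential.mvPolynomialBasis_repr_apply] at h1
  rw [← Ideal.algebraMap_residueField_eq_zero]
  simpa [Algebra.smul_def] using h1

variable [IsNoetherianRing R]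

include hsurj in
/-- the core: formal smoothness of `S_q` from the lifting property against the small extensions
`L/𝔟 → L/(𝔟 + J L)` of quotients of `L = P_{q'}` -/
theorem formallySmooth_of_lifting
    (H : ∀ (𝔟 : Ideal (Localization.AtPrime (q.comap (algebraMap (MvPolynomial (Fin n) R) S))))
      (t : Localization.AtPrime (q.comap (algebraMap (MvPolynomial (Fin n) R) S))),
      t ∉ 𝔟 →
      (∀ a ∈ maximalIdeal (Localization.AtPrime (q.comap (algebraMap (MvPolynomial (Fin n) R) S))),
        a * t ∈ 𝔟) →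
      IsArtinianRing (Localization.AtPrime (q.comap (algebraMap (MvPolynomial (Fin n) R) S)) ⧸ 𝔟) →
      𝔟 ⊔ (RingHom.ker (algebraMap (MvPolynomial (Fin n) R) S)).map (algebraMap _ _) =
        𝔟 ⊔ Ideal.span {t} →
      ∃ ψ : MvPolynomial (Fin n) R →ₐ[R]
          (Localization.AtPrime (q.comap (algebraMap (MvPolynomial (Fin n) R) S)) ⧸ 𝔟),
        (∀ j ∈ RingHom.ker (algebraMap (MvPolynomial (Fin n) R) S), ψ j = 0) ∧
        ∀ p, ψ p - Ideal.Quotient.mk 𝔟 (algebraMap _ _ p) ∈
          Ideal.span {Ideal.Quotient.mk 𝔟 t}) :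
    Algebra.FormallySmooth R (Localization.AtPrime q) := by
  classical
  have hNP : IsNoetherianRing (MvPolynomial (Fin n) R) := inferInstance
  set J : Ideal (MvPolynomial (Fin n) R) := RingHom.ker (algebraMap (MvPolynomial (Fin n) R) S)
    with hJ
  have hfinJ : Module.Finite (MvPolynomial (Fin n) R) J.Cotangent :=
    Module.Finite.of_surjective J.toCotangent (Ideal.toCotangent_surjective J)
  rw [← Groth.Agent.LibFSLocus29.injective_iff_formallySmooth hsurj q]
  apply injective_baseChange_of_forall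
  intro m hm
  obtain ⟨⟨f, hf⟩, rfl⟩ := Algebra.Extension.Cotangent.mk_surjective m
  by_contra hx
  -- partial derivatives of `f` lie in `q`
  have hpd := pderiv_mem_of_tmul_eq_zero hsurj q f hf hm
  -- a functional detecting the class of `f`
  obtain ⟨lam, hlam⟩ : ∃ lam : Module.Dual q.ResidueField
      (q.ResidueField ⊗[S] (Groth.Agent.LibFSLocus29.ext (A := R) hsurj).Cotangent),
      lam ((1 : q.ResidueField) ⊗ₜ[S] Algebra.Extension.Cotangent.mk ⟨f, hf⟩) ≠ 0 := by
    by_contra hall
    push Not at hall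
    exact hx ((Module.forall_dual_apply_eq_zero_iff q.ResidueField _).mp hall)
  haveI : IsScalarTower (MvPolynomial (Fin n) R) S q.ResidueField := inferInstance
  have hκ : ∀ a : MvPolynomial (Fin n) R, algebraMap (MvPolynomial (Fin n) R) q.ResidueField a = 0 ↔
      a ∈ q.comap (algebraMap (MvPolynomial (Fin n) R) S) := by
    intro a
    rw [IsScalarTower.algebraMap_apply (MvPolynomial (Fin n) R) S q.ResidueField,
      Ideal.algebraMap_residueField_eq_zero, Ideal.mem_comap]
  let μ : J →ₗ[MvPolynomial (Fin n) R] q.ResidueField :=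
    { toFun := fun j => lam ((1 : q.ResidueField) ⊗ₜ[S]
        (Algebra.Extension.Cotangent.mk (P := Groth.Agent.LibFSLocus29.ext (A := R) hsurj) j))
      map_add' := fun j₁ j₂ => by rw [map_add, TensorProduct.tmul_add, map_add]
      map_smul' := fun a j => by
        rw [map_smul, RingHom.id_apply, ← algebraMap_smul S a, TensorProduct.tmul_smul,
          ← algebraMap_smul q.ResidueField (algebraMap (MvPolynomial (Fin n) R) S a), map_smul,
          smul_eq_mul, Algebra.smul_def, IsScalarTower.algebraMap_apply (MvPolynomial (Fin n) R) S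
            q.ResidueField] }
  have hJq : J ≤ q.comap (algebraMap (MvPolynomial (Fin n) R) S) := by
    intro j hj
    rw [Ideal.mem_comap, (RingHom.mem_ker).mp hj]
    exact Ideal.zero_mem _
  obtain ⟨𝔟, hf𝔟, hv2, hart, heq⟩ := exists_small_quotient
    (q.comap (algebraMap (MvPolynomial (Fin n) R) S)) J hκ μ ⟨f, hf⟩ hlam
  obtain ⟨ψ, hψJ, hψ⟩ := H 𝔟 _ hf𝔟 hv2 hart heq
  let can : MvPolynomial (Fin n) R →ₐ[R]
      (Localization.AtPrime (q.comap (algebraMap (MvPolynomial (Fin n) R) S)) ⧸ 𝔟) :=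
    (Ideal.Quotient.mkₐ R 𝔟).comp (IsScalarTower.toAlgHom R (MvPolynomial (Fin n) R)
      (Localization.AtPrime (q.comap (algebraMap (MvPolynomial (Fin n) R) S))))
  have hcan : ∀ p, can p = Ideal.Quotient.mk 𝔟 (algebraMap _ _ p) := fun p => rfl
  have hmemmax : ∀ a ∈ q.comap (algebraMap (MvPolynomial (Fin n) R) S),
      algebraMap (MvPolynomial (Fin n) R)
        (Localization.AtPrime (q.comap (algebraMap (MvPolynomial (Fin n) R) S))) a ∈
      maximalIdeal (Localization.AtPrime (q.comap (algebraMap (MvPolynomial (Fin n) R) S))) := by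
    intro a ha
    rw [← IsLocalization.AtPrime.map_eq_maximalIdeal
      (q.comap (algebraMap (MvPolynomial (Fin n) R) S))
      (Localization.AtPrime (q.comap (algebraMap (MvPolynomial (Fin n) R) S)))]
    exact Ideal.mem_map_of_mem _ ha
  have hmulf : ∀ a ∈ q.comap (algebraMap (MvPolynomial (Fin n) R) S),
      can a * can f = 0 := by
    intro a ha
    rw [hcan, hcan, ← map_mul, Ideal.Quotient.eq_zero_iff_mem]
    exact hv2 _ (hmemmax a ha)
  have hK : ∀ x ∈ Ideal.span {can f}, ∀ y ∈ Ideal.span {can f}, x * y = 0 := by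
    intro x hx y hy
    obtain ⟨a, rfl⟩ := Ideal.mem_span_singleton'.mp hx
    obtain ⟨b, rfl⟩ := Ideal.mem_span_singleton'.mp hy
    have := hmulf f (hJq hf)
    calc a * can f * (b * can f) = a * b * (can f * can f) := by ring
      _ = 0 := by rw [this, mul_zero]
  have hcong : ∀ p, can p - ψ p ∈ Ideal.span {can f} := fun p => by
    rw [← neg_sub]
    exact (Ideal.span {can f}).neg_mem (hψ p)
  have htaylor := sub_eq_sum_pderiv (Ideal.span {can f}) hK can ψ hcong f
  rw [hψJ f hf, sub_zero] at htaylor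
  have hzero : ∀ i, can (MvPolynomial.pderiv i f) *
      (can (MvPolynomial.X i) - ψ (MvPolynomial.X i)) = 0 := by
    intro i
    obtain ⟨c, hc⟩ := Ideal.mem_span_singleton'.mp (hcong (MvPolynomial.X i))
    rw [← hc]
    have := hmulf (MvPolynomial.pderiv i f) (hpd i)
    calc can (MvPolynomial.pderiv i f) * (c * can f) =
        c * (can (MvPolynomial.pderiv i f) * can f) := by ring
      _ = 0 := by rw [this, mul_zero]
  rw [Finset.sum_eq_zero (fun i _ => hzero i)] at htaylor
  exact hf𝔟 (Ideal.Quotient.eq_zero_iff_mem.mp htaylor)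

end Main

end Groth.Agent.LibSmallExt29
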