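import Groth.Agent.LibFSLocus29
import Groth.Agent.LibSmallExt29
import Groth.Agent.Lib.Helper8.ResTensor

/-!
# Hypersurfaces in formally smooth algebras: derivation criterion (helper29)

`B` formally smooth over `k`, `C = B/(g)`, `p` a prime of `C` at which `g` is locally nonzero.
Then `C_p` is formally smooth over `k` iff there is a `k`-derivation `D` of `B` with `D g ∉ p`.
-/

set_option autoImplicit false
set_option linter.style.haveILetI false

namespace Groth.Agent.LibHyperSurf29

open TensorProduct Algebra Groth.Agent.LibFSLocus29 Groth.Agent.LibSmallExt29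

universe u

variable {k B C : Type u} [CommRing k] [CommRing B] [CommRing C] [Algebra k B] [Algebra k C]
  [Algebra B C] [IsScalarTower k B C] (hsurj : Function.Surjective (algebraMap B C)) (g : B)
  (hker : RingHom.ker (algebraMap B C) = Ideal.span {g})

/-- the functional on the cotangent space attached to a derivation -/
noncomputable def derFun (D : Derivation k B B) :
    (ext (A := k) hsurj).CotangentSpace →ₗ[C] C :=
  LinearMap.liftBaseChange C ((Algebra.linearMap B C).comp D.liftKaehlerDifferential)

lemma derFun_tmul (D : Derivation k B B) (c : C) (x : B) :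
    derFun hsurj D (c ⊗ₜ[B] KaehlerDifferential.D k B x) = c * algebraMap B C (D x) := by
  unfold derFun
  rw [LinearMap.liftBaseChange_tmul, LinearMap.comp_apply, Derivation.liftKaehlerDifferential_comp_D,
    Algebra.linearMap_apply, smul_eq_mul]

include hker in
lemma exists_eq_mul (x : (ext (A := k) hsurj).ker) : ∃ b : B, (x : B) = b * g := by
  have hx : (x : B) ∈ RingHom.ker (algebraMap B C) := x.2
  rw [hker] at hx
  obtain ⟨b, hb⟩ := Ideal.mem_span_singleton'.mp hx
  exact ⟨b, hb.symm⟩

lemma g_mem (hker : RingHom.ker (algebraMap B C) = Ideal.span {g}) :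
    g ∈ (ext (A := k) hsurj).ker := by
  change g ∈ RingHom.ker (algebraMap B C)
  rw [hker]
  exact Ideal.mem_span_singleton_self g

lemma mul_g_mem (hker : RingHom.ker (algebraMap B C) = Ideal.span {g}) (b : B) :
    b * g ∈ (ext (A := k) hsurj).ker :=
  Ideal.mul_mem_left _ b (g_mem hsurj g hker)

lemma mk_mul_g (hker : RingHom.ker (algebraMap B C) = Ideal.span {g}) (b : B) :
    Extension.Cotangent.mk (P := ext (A := k) hsurj) ⟨b * g, mul_g_mem hsurj g hker b⟩ =
      algebraMap B C b • Extension.Cotangent.mk (P := ext (A := k) hsurj)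
        ⟨g, g_mem hsurj g hker⟩ := by
  have h1 : (⟨b * g, mul_g_mem hsurj g hker b⟩ : (ext (A := k) hsurj).ker) =
      b • ⟨g, g_mem hsurj g hker⟩ := by
    ext
    rfl
  rw [h1, map_smul]
  exact (algebraMap_smul C b _).symm

include hker in
theorem injective_of_derivation (p : Ideal C) [p.IsPrime] (D : Derivation k B B)
    (hD : algebraMap B C (D g) ∉ p) :
    Function.Injective ((ext (A := k) hsurj).cotangentComplex.baseChange p.ResidueField) := by
  apply injective_baseChange_of_forall
  intro m hm
  obtain ⟨x, rfl⟩ := Extension.Cotangent.mk_surjective m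
  obtain ⟨b, hb⟩ := exists_eq_mul hsurj g hker x
  rw [Extension.cotangentComplex_mk] at hm
  have h1 := congrArg (LinearMap.liftBaseChange p.ResidueField
    ((Algebra.linearMap C p.ResidueField).comp (derFun hsurj D))) hm
  rw [map_zero, LinearMap.liftBaseChange_tmul, one_smul, LinearMap.comp_apply, derFun_tmul,
    one_mul, Algebra.linearMap_apply, hb, D.leibniz, map_add, smul_eq_mul, smul_eq_mul, map_mul,
    map_mul] at h1
  have hg0 : algebraMap B C g = 0 := g_mem (k := k) hsurj g hker
  rw [hg0, zero_mul, add_zero, map_mul, mul_eq_zero, Ideal.algebraMap_residueField_eq_zero,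
    Ideal.algebraMap_residueField_eq_zero] at h1
  have hbp : algebraMap B C b ∈ p := h1.resolve_right hD
  have hx : x = ⟨b * g, mul_g_mem hsurj g hker b⟩ := Subtype.ext hb
  rw [hx, mk_mul_g hsurj g hker, ← TensorProduct.smul_tmul, Algebra.smul_def, mul_one,
    (Ideal.algebraMap_residueField_eq_zero).mpr hbp, TensorProduct.zero_tmul]

include hker in
theorem exists_derivation_of_injective [Algebra.FormallySmooth k B] (p : Ideal C) [p.IsPrime]
    (hg : ∀ u : B, u * g = 0 → algebraMap B C u ∈ p)
    (hinj : Function.Injective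
      ((ext (A := k) hsurj).cotangentComplex.baseChange p.ResidueField)) :
    ∃ D : Derivation k B B, algebraMap B C (D g) ∉ p := by
  by_contra hall
  push Not at hall
  -- Step 1: `1 ⊗ (1 ⊗ dg) = 0`
  obtain ⟨s, hs⟩ := Module.projective_def'.mp (inferInstance : Module.Projective B Ω[B⁄k])
  have hsum : KaehlerDifferential.D k B g =
      ((s (KaehlerDifferential.D k B g)).sum fun ω c => c • ω) := by
    have := LinearMap.congr_fun hs (KaehlerDifferential.D k B g)
    rw [LinearMap.comp_apply, Finsupp.linearCombination_apply] at this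
    exact this.symm
  have hcoef : ∀ ω : Ω[B⁄k], algebraMap B C ((s (KaehlerDifferential.D k B g)) ω) ∈ p := by
    intro ω
    have := hall (((Finsupp.lapply ω).comp s).compDer (KaehlerDifferential.D k B))
    exact this
  have h1 : (1 : p.ResidueField) ⊗ₜ[C] ((1 : C) ⊗ₜ[B] KaehlerDifferential.D k B g :
      (ext (A := k) hsurj).CotangentSpace) = 0 := by
    rw [hsum, Finsupp.sum, TensorProduct.tmul_sum, TensorProduct.tmul_sum]
    refine Finset.sum_eq_zero fun ω _ => ?_
    rw [TensorProduct.tmul_smul, ← algebraMap_smul C, TensorProduct.tmul_smul,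
      TensorProduct.smul_tmul', Algebra.smul_def, mul_one,
      (Ideal.algebraMap_residueField_eq_zero).mpr (hcoef ω), TensorProduct.zero_tmul]
  -- Step 2
  have h2 : (1 : p.ResidueField) ⊗ₜ[C] Extension.Cotangent.mk (P := ext (A := k) hsurj)
      ⟨g, g_mem hsurj g hker⟩ = 0 := by
    apply hinj
    rw [LinearMap.baseChange_tmul, Extension.cotangentComplex_mk, map_zero]
    exact h1
  -- Step 3
  obtain ⟨t, htp, ht⟩ := Groth.Agent.Lib.helper8.ResTensor.exists_smul_mem_of_one_tmul_eq_zero p
    (ext (A := k) hsurj).Cotangent _ h2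
  have hP : ∀ y ∈ p • (⊤ : Submodule C (ext (A := k) hsurj).Cotangent),
      ∃ w : B, algebraMap B C w ∈ p ∧
        y = Extension.Cotangent.mk (P := ext (A := k) hsurj)
          ⟨w * g, mul_g_mem hsurj g hker w⟩ := by
    intro y hy
    refine Submodule.smul_induction_on hy ?_ ?_
    · intro c hc y _
      obtain ⟨x, rfl⟩ := Extension.Cotangent.mk_surjective y
      obtain ⟨b, hb⟩ := exists_eq_mul hsurj g hker x
      obtain ⟨w', rfl⟩ := hsurj c
      refine ⟨w' * b, by rw [map_mul]; exact Ideal.mul_mem_right _ _ hc, ?_⟩
      have hx : x = ⟨b * g, mul_g_mem hsurj g hker b⟩ := Subtype.ext hb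
      rw [hx, mk_mul_g hsurj g hker, mk_mul_g hsurj g hker, map_mul, mul_smul]
    · rintro y₁ y₂ ⟨w₁, hw₁, rfl⟩ ⟨w₂, hw₂, rfl⟩
      refine ⟨w₁ + w₂, by rw [map_add]; exact Ideal.add_mem _ hw₁ hw₂, ?_⟩
      rw [mk_mul_g hsurj g hker, mk_mul_g hsurj g hker, mk_mul_g hsurj g hker, map_add, add_smul]
  obtain ⟨w, hw, hwe⟩ := hP _ ht
  obtain ⟨u, rfl⟩ := hsurj t
  rw [← mk_mul_g hsurj g hker, Extension.Cotangent.mk_eq_mk_iff_sub_mem] at hwe
  have hsq : (ext (A := k) hsurj).ker ^ 2 = Ideal.span {g * g} := by
    change RingHom.ker (algebraMap B C) ^ 2 = _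
    rw [hker]
    have h2 := pow_two (Ideal.span {g} : Ideal B)
    rw [h2, Ideal.span_singleton_mul_span_singleton]
  rw [hsq] at hwe
  obtain ⟨v, hv⟩ := Ideal.mem_span_singleton'.mp hwe
  have hzero : (u - w - v * g) * g = 0 := by
    have : u * g - w * g = v * (g * g) := hv.symm
    linear_combination this
  have h3 := hg _ hzero
  rw [map_sub, map_sub, map_mul] at h3
  have hg0 : algebraMap B C g = 0 := g_mem (k := k) hsurj g hker
  rw [hg0, mul_zero, sub_zero] at h3
  have : algebraMap B C u ∈ p := by
    have h4 := Ideal.add_mem _ h3 hw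
    rwa [sub_add_cancel] at h4
  exact htp this

include hsurj hker in
theorem formallySmooth_atPrime_iff_exists_derivation [Algebra.FormallySmooth k B]
    (p : Ideal C) [p.IsPrime] (hg : ∀ u : B, u * g = 0 → algebraMap B C u ∈ p) :
    Algebra.FormallySmooth k (Localization.AtPrime p) ↔
      ∃ D : Derivation k B B, algebraMap B C (D g) ∉ p := by
  haveI : Module.Finite B (RingHom.ker (algebraMap B C)).Cotangent := by
    haveI : Module.Finite B (RingHom.ker (algebraMap B C)) := by
      rw [hker]
      exact Module.Finite.of_fg ⟨{g}, by simp⟩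
    exact Module.Finite.of_surjective _ (Ideal.toCotangent_surjective _)
  rw [← injective_iff_formallySmooth hsurj p]
  exact ⟨exists_derivation_of_injective hsurj g hker p hg,
    fun ⟨D, hD⟩ => injective_of_derivation hsurj g hker p D hD⟩

include hker in
lemma finite_cotangent_of_principal :
    Module.Finite B (RingHom.ker (algebraMap B C)).Cotangent := by
  haveI : Module.Finite B (RingHom.ker (algebraMap B C)) := by
    rw [hker]
    exact Module.Finite.of_fg ⟨{g}, by simp⟩
  exact Module.Finite.of_surjective _ (Ideal.toCotangent_surjective _)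

include hsurj hker in
theorem formallySmooth_atPrime_of_derivation [Algebra.FormallySmooth k B]
    (p : Ideal C) [p.IsPrime] (D : Derivation k B B) (hD : algebraMap B C (D g) ∉ p) :
    Algebra.FormallySmooth k (Localization.AtPrime p) := by
  haveI := finite_cotangent_of_principal g hker
  rw [← injective_iff_formallySmooth hsurj p]
  exact injective_of_derivation hsurj g hker p D hD

include hsurj hker in
theorem exists_derivation_of_formallySmooth [Algebra.FormallySmooth k B]
    (p : Ideal C) [p.IsPrime] (hg : ∀ u : B, u * g = 0 → algebraMap B C u ∈ p)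
    (h : Algebra.FormallySmooth k (Localization.AtPrime p)) :
    ∃ D : Derivation k B B, algebraMap B C (D g) ∉ p := by
  haveI := finite_cotangent_of_principal g hker
  rw [← injective_iff_formallySmooth hsurj p] at h
  exact exists_derivation_of_injective hsurj g hker p hg h

include hsurj hker in
theorem formallySmooth_of_forall_maximal_derivation [Algebra.FormallySmooth k B]
    (h : ∀ m : Ideal C, m.IsMaximal → ∃ D : Derivation k B B, algebraMap B C (D g) ∉ m) :
    Algebra.FormallySmooth k C := by
  haveI := finite_cotangent_of_principal g hker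
  rw [formallySmooth_iff_forall_maximal (A := k) hsurj]
  intro m hm
  obtain ⟨D, hD⟩ := h m hm
  exact formallySmooth_atPrime_of_derivation hsurj g hker m D hD

end Groth.Agent.LibHyperSurf29
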