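import Mathlib
import Groth.Prelude.Def_EGA41
import Groth.Agent.Lib.Helper17.PBasis

/-!
# Helpers for the imperfection module of a `p`-basis tower (S4520)

* transfer of `p`-independence / `p`-generation between two base rings whose `p`-power
  subalgebras have the same underlying set;
* a `p`-basis over a base ring mapping into the `p`-th powers gives a basis of `Ω[B⁄ℤ]`;
* the kernel of a linear map killing half of a basis and injective on the other half.
-/

set_option autoImplicit false
universe u

open EGA41

namespace Groth.Agent.LibImperf29a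

section transfer

variable (p : ℕ) {K₁ K₂ B : Type u} [CommRing K₁] [CommRing K₂] [CommRing B]
  [Algebra K₁ B] [Algebra K₂ B]

theorem isPIndependent_of_mem_iff {ι : Type u} (x : ι → B)
    (h : ∀ b : B, b ∈ pPowerSubalgebra p K₁ B ↔ b ∈ pPowerSubalgebra p K₂ B)
    (hx : IsPIndependent p K₁ x) : IsPIndependent p K₂ x := by
  unfold IsPIndependent at hx ⊢
  have := hx.map_of_surjective_injective
    (fun s : pPowerSubalgebra p K₁ B => (⟨s.1, (h _).1 s.2⟩ : pPowerSubalgebra p K₂ B))
    (AddMonoidHom.id B) (fun s => ⟨⟨s.1, (h _).2 s.2⟩, rfl⟩) (fun m hm => hm)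
    (fun r m => rfl)
  exact this

theorem isPGenerating_of_mem_iff {ι : Type u} (x : ι → B)
    (h : ∀ b : B, b ∈ pPowerSubalgebra p K₁ B ↔ b ∈ pPowerSubalgebra p K₂ B)
    (hx : IsPGenerating p K₁ x) : IsPGenerating p K₂ x := by
  unfold IsPGenerating at hx ⊢
  rw [eq_top_iff]
  intro b hb0
  clear hb0
  have hb : b ∈ Submodule.span (pPowerSubalgebra p K₁ B)
      (Set.range fun e : {e : ι →₀ ℕ // ∀ i, e i < p} => pMonomial x e.1) := by
    rw [hx]; trivial
  induction hb using Submodule.span_induction with
  | mem m hm => exact Submodule.subset_span hm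
  | zero => exact Submodule.zero_mem _
  | add a c _ _ ha hc => exact Submodule.add_mem _ ha hc
  | smul a m _ hm =>
    exact Submodule.smul_mem _ (⟨a.1, (h _).1 a.2⟩ : pPowerSubalgebra p K₂ B) hm

theorem isPBasis_of_mem_iff {ι : Type u} (x : ι → B)
    (h : ∀ b : B, b ∈ pPowerSubalgebra p K₁ B ↔ b ∈ pPowerSubalgebra p K₂ B)
    (hx : IsPBasis p K₁ x) : IsPBasis p K₂ x :=
  ⟨isPIndependent_of_mem_iff p x h hx.1, isPGenerating_of_mem_iff p x h hx.2⟩

omit [CommRing K₂] [Algebra K₂ B] in
/-- If all `p`-th powers lie in the image of the base ring, `K[B^p]` is that image. -/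
theorem mem_pPowerSubalgebra_iff (h : ∀ b : B, b ^ p ∈ Set.range (algebraMap K₁ B)) (b : B) :
    b ∈ pPowerSubalgebra p K₁ B ↔ b ∈ Set.range (algebraMap K₁ B) := by
  constructor
  · intro hb
    have hle : pPowerSubalgebra p K₁ B ≤ ⊥ := by
      unfold pPowerSubalgebra
      refine Algebra.adjoin_le ?_
      rintro _ ⟨c, rfl⟩
      exact Algebra.mem_bot.2 (h c)
    exact Algebra.mem_bot.1 (hle hb)
  · rintro ⟨a, rfl⟩
    exact Subalgebra.algebraMap_mem _ a

/-- Transfer of `p`-bases between base rings with the same image containing all `p`-th powers. -/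
theorem isPBasis_of_range_eq {ι : Type u} (x : ι → B)
    (h₁ : ∀ b : B, b ^ p ∈ Set.range (algebraMap K₁ B))
    (h : Set.range (algebraMap K₁ B) = Set.range (algebraMap K₂ B))
    (hx : IsPBasis p K₁ x) : IsPBasis p K₂ x := by
  refine isPBasis_of_mem_iff p x (fun b => ?_) hx
  rw [mem_pPowerSubalgebra_iff p h₁, mem_pPowerSubalgebra_iff p (h ▸ h₁), h]

end transfer

section kaehler

open Groth.Agent.Lib.helper17.PBasis

variable {p : ℕ} {K B : Type u} [CommRing K] [CommRing B] [Algebra K B]
variable {ι : Type u} {x : ι → B}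

/-- A `ℤ`-derivation of a characteristic `p` ring kills `K[B^p]` when `K` maps into `p`-th
powers. -/
theorem derivation_int_eq_zero_of_mem [CharP B p]
    (hK : ∀ a : K, ∃ b : B, algebraMap K B a = b ^ p)
    {L : Type*} [AddCommGroup L] [Module B L]
    (D : Derivation ℤ B L) (r : pPowerSubalgebra p K B) : D (r : B) = 0 := by
  obtain ⟨r, hr⟩ := r
  show D r = 0
  have hpow : ∀ c : B, D (c ^ p) = 0 := fun c => by
    rw [Derivation.leibniz_pow, ← Nat.cast_smul_eq_nsmul B, CharP.cast_eq_zero, zero_smul]
  induction hr using Algebra.adjoin_induction with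
  | mem b hb =>
    obtain ⟨c, rfl⟩ := hb
    exact hpow c
  | algebraMap a =>
    obtain ⟨c, hc⟩ := hK a
    rw [hc]; exact hpow c
  | add a b _ _ ha hb => rw [map_add, ha, hb, add_zero]
  | mul a b _ _ ha hb => rw [Derivation.leibniz, ha, hb, smul_zero, smul_zero, add_zero]

/-- `ℤ`-derivations out of a ring with a `p`-basis over a base mapping into the `p`-th powers
are freely determined by the values on the `p`-basis. -/
theorem existsUnique_derivation_int [hp : Fact p.Prime] [CharP B p] (hx : IsPBasis p K x)
    (hK : ∀ a : K, ∃ b : B, algebraMap K B a = b ^ p)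
    (L : Type u) [AddCommGroup L] [Module B L] (y : ι → L) :
    ∃! D : Derivation ℤ B L, ∀ i, D (x i) = y i := by
  obtain ⟨D₀, ⟨hD₀r, hD₀x⟩, hD₀u⟩ := existsUnique_derivation hx L (fun _ => 0)
    (fun _ _ => by simp) (fun _ _ => by simp) (fun _ => rfl) y
  refine ⟨D₀, hD₀x, fun D' hD' => ?_⟩
  exact hD₀u D' ⟨fun r => derivation_int_eq_zero_of_mem hK D' r, hD'⟩

/-- The differentials of a `p`-basis over a base mapping into the `p`-th powers form a basis of
the absolute differentials `Ω[B⁄ℤ]`. -/
theorem exists_basis_kaehler_int [hp : Fact p.Prime] [CharP B p] (hx : IsPBasis p K x)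
    (hK : ∀ a : K, ∃ b : B, algebraMap K B a = b ^ p) :
    ∃ b : Module.Basis ι B (Ω[B⁄ℤ]), ∀ i, b i = KaehlerDifferential.D ℤ B (x i) := by
  classical
  obtain ⟨D₁, hD₁, -⟩ := existsUnique_derivation_int hx hK (ι →₀ B) (fun i => Finsupp.single i 1)
  obtain ⟨D₂, -, huniq⟩ := existsUnique_derivation_int hx hK (Ω[B⁄ℤ])
    (fun i => KaehlerDifferential.D ℤ B (x i))
  let f : Ω[B⁄ℤ] →ₗ[B] (ι →₀ B) := D₁.liftKaehlerDifferential
  let g : (ι →₀ B) →ₗ[B] Ω[B⁄ℤ] :=
    Finsupp.linearCombination B (fun i => KaehlerDifferential.D ℤ B (x i))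
  have hg : ∀ i, g (Finsupp.single i 1) = KaehlerDifferential.D ℤ B (x i) := by
    intro i; simp [g]
  have hfg : f.comp g = LinearMap.id := by
    refine Finsupp.lhom_ext' fun i => LinearMap.ext_ring ?_
    simp only [LinearMap.coe_comp, Function.comp_apply, Finsupp.lsingle_apply, LinearMap.id_comp]
    rw [hg]
    simp [f, hD₁]
  have hgf : g.comp f = LinearMap.id := by
    apply Derivation.liftKaehlerDifferential_unique
    have h1 := huniq ((g.comp f).compDer (KaehlerDifferential.D ℤ B)) (fun i => by
      show g (f (KaehlerDifferential.D ℤ B (x i))) = _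
      simp [f, hD₁, hg])
    have h2 := huniq ((LinearMap.id : Ω[B⁄ℤ] →ₗ[B] Ω[B⁄ℤ]).compDer (KaehlerDifferential.D ℤ B))
      (fun i => rfl)
    rw [h1, h2]
  refine ⟨Module.Basis.ofRepr (LinearEquiv.ofLinearMap f g hfg hgf), fun i => ?_⟩
  simp [hg]

end kaehler

section kernel

variable {S V W : Type*} [CommRing S] [AddCommGroup V] [Module S V] [AddCommGroup W] [Module S W]
  {Λ M : Type*}

/-- If a linear map kills the left half of a basis and is linearly independent on the right
half, its kernel is free on the left half. -/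
theorem exists_basis_ker (b : Module.Basis (Λ ⊕ M) S V) (f : V →ₗ[S] W)
    (h0 : ∀ l, f (b (Sum.inl l)) = 0)
    (hli : LinearIndependent S (fun m => f (b (Sum.inr m)))) :
    ∃ c : Module.Basis Λ S (LinearMap.ker f), ∀ l, (c l : V) = b (Sum.inl l) := by
  classical
  have hliL : LinearIndependent S (fun l => b (Sum.inl l)) :=
    b.linearIndependent.comp _ Sum.inl_injective
  have hker : LinearMap.ker f = Submodule.span S (Set.range fun l => b (Sum.inl l)) := by
    apply le_antisymm
    · intro v hv
      set l := b.repr v with hl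
      set l₁ : Λ →₀ S := l.comapDomain Sum.inl Sum.inl_injective.injOn with hl₁
      set l₂ : M →₀ S := l.comapDomain Sum.inr Sum.inr_injective.injOn with hl₂
      have hsplit : l = l₁.mapDomain Sum.inl + l₂.mapDomain Sum.inr := by
        ext i
        rcases i with i | i
        · rw [Finsupp.add_apply, Finsupp.mapDomain_apply Sum.inl_injective,
            Finsupp.mapDomain_notin_range _ _ (by simp), add_zero, hl₁,
            Finsupp.comapDomain_apply]
        · rw [Finsupp.add_apply, Finsupp.mapDomain_apply Sum.inr_injective,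
            Finsupp.mapDomain_notin_range _ _ (by simp), zero_add, hl₂,
            Finsupp.comapDomain_apply]
      have hv' : v = Finsupp.linearCombination S (fun l => b (Sum.inl l)) l₁ +
          Finsupp.linearCombination S (fun m => b (Sum.inr m)) l₂ := by
        conv_lhs => rw [← b.linearCombination_repr v, ← hl, hsplit, map_add,
          Finsupp.linearCombination_mapDomain, Finsupp.linearCombination_mapDomain]
        rfl
      have hfv : f v = Finsupp.linearCombination S (fun m => f (b (Sum.inr m))) l₂ := by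
        rw [hv', map_add, Finsupp.apply_linearCombination, Finsupp.apply_linearCombination]
        have : (⇑f ∘ fun l => b (Sum.inl l)) = fun _ => 0 := funext h0
        rw [this]
        simp [Finsupp.linearCombination_apply]
      have hl₂0 : l₂ = 0 := by
        have := (linearIndependent_iff.1 hli) l₂ (by rw [← hfv]; exact hv)
        exact this
      rw [hv', hl₂0, map_zero, add_zero]
      exact Finsupp.mem_span_range_iff_exists_finsupp.2 ⟨l₁, rfl⟩
    · rw [Submodule.span_le]
      rintro _ ⟨l, rfl⟩
      exact h0 l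
  let c₀ : Module.Basis Λ S (Submodule.span S (Set.range fun l => b (Sum.inl l))) :=
    Module.Basis.span hliL
  refine ⟨c₀.map (LinearEquiv.ofEq _ _ hker.symm), fun l => ?_⟩
  simp [c₀, Module.Basis.span_apply]

end kernel

end Groth.Agent.LibImperf29a
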