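import Groth.Statements.S4518
import Mathlib.Algebra.Algebra.Tower
import Mathlib.LinearAlgebra.LinearIndependent.Lemmas
import Mathlib.LinearAlgebra.Span.Basic
import Mathlib.Algebra.Algebra.Subalgebra.Lattice
import Mathlib.Algebra.BigOperators.Finsupp.Basic
-- import your own Groth.Agent.* helpers here

set_option autoImplicit false
universe u
open EGA41

namespace Groth.Agent.S4518

section gen
variable {R S M : Type*} [CommRing R] [CommRing S] [Algebra R S] [AddCommGroup M] [Module R M]
  [Module S M] [IsScalarTower R S M] {ι : Type*} (v : ι → M)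

lemma li_char (hs : Function.Surjective (algebraMap R S)) :
    LinearIndependent S v ↔ ∀ (s : Finset ι) (g : ι → R), (∀ i ∉ s, g i = 0) →
      ∑ i ∈ s, g i • v i = 0 → ∀ i, algebraMap R S (g i) = 0 := by
  classical
  rw [linearIndependent_iff'']
  constructor
  · intro H s g hg hsum i
    refine H s (fun i => algebraMap R S (g i)) (fun i hi => by simp [hg i hi]) ?_ i
    simpa [algebraMap_smul] using hsum
  · intro H s g' hg' hsum i
    have := H s (fun i => if i ∈ s then Function.surjInv hs (g' i) else 0)
      (fun i hi => by simp [hi]) ?_ i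
    · by_cases hi : i ∈ s
      · simpa [hi, Function.surjInv_eq hs] using this
      · exact hg' i hi
    · rw [← hsum]
      refine Finset.sum_congr rfl (fun i hi => ?_)
      rw [if_pos hi, ← algebraMap_smul S, Function.surjInv_eq hs]

end gen

section pp
variable (p : ℕ) {A B : Type u} [CommRing A] [CommRing B] [Algebra A B]

lemma surj_pp (h : ∀ b : B, b ^ p ∈ Set.range (algebraMap A B)) :
    Function.Surjective (algebraMap A (pPowerSubalgebra p A B)) := by
  rintro ⟨z, hz⟩
  have hz' : z ∈ (⊥ : Subalgebra A B) := by
    refine Algebra.adjoin_le ?_ hz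
    rintro _ ⟨b, rfl⟩
    exact Algebra.mem_bot.2 (h b)
  obtain ⟨a, rfl⟩ := Algebra.mem_bot.1 hz'
  exact ⟨a, Subtype.ext rfl⟩

lemma gen_iff (h : ∀ b : B, b ^ p ∈ Set.range (algebraMap A B)) {ι : Type u} (x : ι → B) :
    IsPGenerating p A x ↔ Submodule.span A
      (Set.range fun e : {e : ι →₀ ℕ // ∀ i, e i < p} => pMonomial x e.1) = ⊤ := by
  unfold IsPGenerating
  rw [← Submodule.restrictScalars_span A (pPowerSubalgebra p A B) (surj_pp p h),
    Submodule.restrictScalars_eq_top_iff]

lemma indep_iff (h : ∀ b : B, b ^ p ∈ Set.range (algebraMap A B)) {ι : Type u} (x : ι → B) :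
    IsPIndependent p A x ↔ ∀ (s : Finset {e : ι →₀ ℕ // ∀ i, e i < p})
      (g : {e : ι →₀ ℕ // ∀ i, e i < p} → A), (∀ i ∉ s, g i = 0) →
      ∑ i ∈ s, g i • pMonomial x i.1 = 0 → ∀ i, algebraMap A B (g i) = 0 := by
  unfold IsPIndependent
  rw [li_char _ (surj_pp p h)]
  refine forall_congr' fun s => forall_congr' fun g => forall_congr' fun _ =>
    forall_congr' fun _ => forall_congr' fun i => ?_
  constructor
  · intro h0
    have := congrArg Subtype.val h0
    simpa using this
  · intro h0
    exact Subtype.ext h0

end pp

section idx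
variable (p : ℕ) {B : Type u} [CommRing B] {ι κ : Type u}

/-- exponent vectors with entries `< p` -/
abbrev Ex (p : ℕ) (ι : Type u) := {e : ι →₀ ℕ // ∀ i, e i < p}

/-- splitting exponent vectors on a sum type -/
noncomputable def φ : Ex p (ι ⊕ κ) ≃ Ex p ι × Ex p κ where
  toFun g := (⟨(Finsupp.sumFinsuppEquivProdFinsupp g.1).1, fun i => by
      rw [Finsupp.fst_sumFinsuppEquivProdFinsupp]; exact g.2 _⟩,
    ⟨(Finsupp.sumFinsuppEquivProdFinsupp g.1).2, fun i => by
      rw [Finsupp.snd_sumFinsuppEquivProdFinsupp]; exact g.2 _⟩)
  invFun q := ⟨Finsupp.sumFinsuppEquivProdFinsupp.symm (q.1.1, q.2.1), fun i => by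
    rcases i with a | b
    · rw [Finsupp.sumFinsuppEquivProdFinsupp_symm_inl]; exact q.1.2 a
    · rw [Finsupp.sumFinsuppEquivProdFinsupp_symm_inr]; exact q.2.2 b⟩
  left_inv g := Subtype.ext (by simp)
  right_inv q := by
    ext : 2
    · simp
    · simp

lemma pMonomial_sumElim (z : ι ⊕ κ → B) (e : ι →₀ ℕ) (f : κ →₀ ℕ) :
    pMonomial z (Finsupp.sumElim e f) =
      pMonomial (fun i => z (Sum.inl i)) e * pMonomial (fun j => z (Sum.inr j)) f := by
  classical
  unfold pMonomial
  rw [Finsupp.prod_of_support_subset (s := e.support.disjSum f.support) _ ?_ _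
    (fun i _ => pow_zero _), Finset.prod_disjSum]
  · rfl
  · intro i hi
    rw [Finsupp.mem_support_iff] at hi
    rcases i with a | b
    · exact Finset.inl_mem_disjSum.2 (Finsupp.mem_support_iff.2 hi)
    · exact Finset.inr_mem_disjSum.2 (Finsupp.mem_support_iff.2 hi)

lemma pMonomial_symm (z : ι ⊕ κ → B) (q : Ex p ι × Ex p κ) :
    pMonomial z ((φ p).symm q).1 =
      pMonomial (fun i => z (Sum.inl i)) q.1.1 * pMonomial (fun j => z (Sum.inr j)) q.2.1 :=
  pMonomial_sumElim z q.1.1 q.2.1

end idx


/-- Let p be a prime and A → C → B rings of characteristic p with C → B injective and every p-th power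
of B in the image of A (so, identifying, B^p ⊆ A ⊆ C ⊆ B up to replacing A by its image); let x be a
family of elements of C and y a family of elements of B. (i) If x is a system of p-generators of C
over A and y one of B over C, then the family obtained by putting x (viewed in B) and y together is
a system of p-generators of B over A. (ii) If x is a p-basis of C over A, then y is p-independent
over C if and only if the combined family is p-independent over A. (The published statement only
asks B^p ⊆ C and reduces to B^p ⊆ A by enlarging A to A[B^p]; but p-independence of x in C over A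
refers to A[C^p], which can be smaller than A[B^p] — for A = 𝔽_p, C = 𝔽_p(t^p) ⊂ B = 𝔽_p(t), x =
(t^p), y = (t), x is a p-basis of C over A and y is p-independent over C while (t^p, t) is not
p-independent over A — so this row assumes B^p ⊆ A, the case the published proof treats.) -/
theorem result (p : ℕ) [Fact p.Prime] {A C B : Type u} [CommRing A] [CommRing C]
    [CommRing B] [Algebra A C] [Algebra C B] [Algebra A B] [IsScalarTower A C B] [CharP B p]
    (hinj : Function.Injective (algebraMap C B)) (hpow : ∀ b : B, b ^ p ∈ Set.range (algebraMap A B))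
    {ι κ : Type u} (x : ι → C) (y : κ → B) :
    (EGA41.IsPGenerating p A x → EGA41.IsPGenerating p C y →
      EGA41.IsPGenerating p A (Sum.elim (fun i => algebraMap C B (x i)) y)) ∧
    (EGA41.IsPBasis p A x →
      (EGA41.IsPIndependent p C y ↔ EGA41.IsPIndependent p A (Sum.elim (fun i => algebraMap C B (x i)) y))) := by
  classical
  have hAC : ∀ c : C, c ^ p ∈ Set.range (algebraMap A C) := by
    intro c
    obtain ⟨a, ha⟩ := hpow (algebraMap C B c)
    refine ⟨a, hinj ?_⟩
    rw [← IsScalarTower.algebraMap_apply, ha, map_pow]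
  have hCB : ∀ b : B, b ^ p ∈ Set.range (algebraMap C B) := by
    intro b
    obtain ⟨a, ha⟩ := hpow b
    exact ⟨algebraMap A C a, by rw [← IsScalarTower.algebraMap_apply, ha]⟩
  set z : ι ⊕ κ → B := Sum.elim (fun i => algebraMap C B (x i)) y with hz
  have hmono : ∀ q : Ex p ι × Ex p κ,
      pMonomial z ((φ p).symm q).1 = pMonomial x q.1.1 • pMonomial y q.2.1 := by
    intro q
    rw [pMonomial_symm, Algebra.smul_def]
    congr 1
    unfold pMonomial
    rw [map_finsuppProd]
    simp [hz, map_pow]
  constructor
  · intro hx hy
    rw [gen_iff p hAC] at hx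
    rw [gen_iff p hCB] at hy
    rw [gen_iff p hpow]
    have h1 := Submodule.span_smul_of_span_eq_top hx
      (Set.range fun f : Ex p κ => pMonomial y f.1)
    rw [hy, Submodule.restrictScalars_top] at h1
    rw [← h1]
    congr 1
    ext b
    constructor
    · rintro ⟨g, rfl⟩
      refine ⟨pMonomial x (φ p g).1.1, ⟨_, rfl⟩, pMonomial y (φ p g).2.1, ⟨_, rfl⟩, ?_⟩
      simp only
      rw [← hmono, Equiv.symm_apply_apply]
    · rintro ⟨_, ⟨e, rfl⟩, _, ⟨f, rfl⟩, rfl⟩
      exact ⟨(φ p).symm (e, f), hmono (e, f)⟩
  · rintro ⟨hxi, hxg⟩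
    rw [indep_iff p hAC] at hxi
    rw [gen_iff p hAC] at hxg
    rw [indep_iff p hCB, indep_iff p hpow]
    constructor
    · intro hy s g hg hsum γ
      set s1 : Finset (Ex p ι) := s.image (fun γ => (φ p γ).1) with hs1
      set s2 : Finset (Ex p κ) := s.image (fun γ => (φ p γ).2) with hs2
      have hnot : ∀ e f, (e ∉ s1 ∨ f ∉ s2) → g ((φ p).symm (e, f)) = 0 := by
        intro e f hef
        apply hg
        intro hmem
        rcases hef with he | hf
        · apply he
          rw [hs1, Finset.mem_image]
          exact ⟨_, hmem, by simp⟩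
        · apply hf
          rw [hs2, Finset.mem_image]
          exact ⟨_, hmem, by simp⟩
      have hstep : ∑ q ∈ s1 ×ˢ s2, g ((φ p).symm q) • pMonomial z ((φ p).symm q).1 = 0 := by
        rw [← hsum]
        symm
        have hmap := Finset.sum_map (s1 ×ˢ s2) (φ p).symm.toEmbedding
          (fun γ => g γ • pMonomial z γ.1)
        simp only [Equiv.coe_toEmbedding] at hmap
        rw [← hmap]
        apply Finset.sum_subset
        · intro γ hγ
          rw [Finset.mem_map_equiv, Equiv.symm_symm, Finset.mem_product]
          exact ⟨Finset.mem_image_of_mem _ hγ, Finset.mem_image_of_mem _ hγ⟩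
        · intro γ _ hγ
          rw [hg γ hγ, zero_smul]
      set h : Ex p κ → C := fun f => ∑ e ∈ s1, g ((φ p).symm (e, f)) • pMonomial x e.1 with hh
      have hh0 : ∀ f ∉ s2, h f = 0 := by
        intro f hf
        rw [hh]
        apply Finset.sum_eq_zero
        intro e _
        rw [hnot e f (Or.inr hf), zero_smul]
      have hhsum : ∑ f ∈ s2, h f • pMonomial y f.1 = 0 := by
        rw [← hstep, Finset.sum_product_right]
        refine Finset.sum_congr rfl (fun f _ => ?_)
        rw [hh, Finset.sum_smul]
        refine Finset.sum_congr rfl (fun e _ => ?_)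
        rw [hmono, smul_assoc]
      have hh1 : ∀ f, h f = 0 := by
        intro f
        apply hinj
        rw [map_zero]
        exact hy s2 h hh0 hhsum f
      have hfin : ∀ e f, algebraMap A C (g ((φ p).symm (e, f))) = 0 := by
        intro e f
        refine hxi s1 (fun e => g ((φ p).symm (e, f))) (fun e he => hnot e f (Or.inl he)) ?_ e
        exact hh1 f
      have := hfin (φ p γ).1 (φ p γ).2
      rw [Prod.mk.eta, Equiv.symm_apply_apply] at this
      rw [IsScalarTower.algebraMap_apply A C B, this, map_zero]
    · intro hzi s2 h hh0 hsum f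
      have hex : ∀ f : Ex p κ, ∃ c : Ex p ι →₀ A,
          (c.sum fun e a => a • pMonomial x e.1) = h f := by
        intro f
        have : h f ∈ Submodule.span A (Set.range fun e : Ex p ι => pMonomial x e.1) := by
          rw [hxg]; trivial
        exact Finsupp.mem_span_range_iff_exists_finsupp.1 this
      choose c hc using hex
      set s1 : Finset (Ex p ι) := s2.biUnion (fun f => (c f).support) with hs1
      have hc' : ∀ f ∈ s2, h f = ∑ e ∈ s1, c f e • pMonomial x e.1 := by
        intro f hf
        rw [← hc f, Finsupp.sum]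
        apply Finset.sum_subset
        · intro e he
          rw [hs1, Finset.mem_biUnion]
          exact ⟨f, hf, he⟩
        · intro e _ he
          rw [Finsupp.notMem_support_iff.1 he, zero_smul]
      set G : Ex p ι × Ex p κ → A := fun q => if q.2 ∈ s2 then c q.2 q.1 else 0 with hG
      have hg0 : ∀ γ ∉ (s1 ×ˢ s2).map (φ p).symm.toEmbedding, G (φ p γ) = 0 := by
        intro γ hγ
        rw [Finset.mem_map_equiv, Equiv.symm_symm, Finset.mem_product, not_and_or] at hγ
        rw [hG]
        by_cases h2 : (φ p γ).2 ∈ s2
        · simp only [if_pos h2]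
          rcases hγ with h1 | h2'
          · apply Finsupp.notMem_support_iff.1
            intro hmem
            apply h1
            rw [hs1, Finset.mem_biUnion]
            exact ⟨_, h2, hmem⟩
          · exact absurd h2 h2'
        · simp only [if_neg h2]
      have hsum' : ∑ γ ∈ (s1 ×ˢ s2).map (φ p).symm.toEmbedding,
          G (φ p γ) • pMonomial z γ.1 = 0 := by
        rw [Finset.sum_map, ← hsum, Finset.sum_product_right]
        refine Finset.sum_congr rfl (fun f hf => ?_)
        rw [hc' f hf, Finset.sum_smul]
        refine Finset.sum_congr rfl (fun e _ => ?_)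
        simp only [Equiv.coe_toEmbedding, Equiv.apply_symm_apply]
        rw [hmono, hG]
        simp only [if_pos hf]
        rw [smul_assoc]
      have hall := hzi _ (fun γ => G (φ p γ)) hg0 hsum'
      by_cases hf : f ∈ s2
      · rw [hc' f hf, map_sum]
        apply Finset.sum_eq_zero
        intro e _
        have := hall ((φ p).symm (e, f))
        rw [Equiv.apply_symm_apply, hG] at this
        simp only [if_pos hf] at this
        rw [Algebra.smul_def, map_mul, ← IsScalarTower.algebraMap_apply, this, zero_mul]
      · rw [hh0 f hf, map_zero]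

end Groth.Agent.S4518
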