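import Mathlib
import Groth.Prelude.Def_EGA41
import Groth.Agent.LibImperf29a
import Groth.Agent.S4518

/-!
# Bases of absolute differentials in a `p`-basis tower `B^p ⊆ A ⊆ B` (for S4520)

`B` reduced of characteristic `p`, `A ⊆ B` containing `B^p`, `R → A → B` with image `B^p`,
`x` a `p`-basis of `B` over `A`, `y` a `p`-basis of `A` over `R`, `x'_λ ∈ A` mapping to `x_λ^p`.
* `basisB`: `d(y_μ), d(x_λ)` is a basis of `Ω[B⁄ℤ]`;
* `basisA`: `d(x'_λ), d(y_μ)` is a basis of `Ω[A⁄ℤ]`.
-/

set_option autoImplicit false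
universe u

open EGA41

namespace Groth.Agent.LibImperf29b

open Groth.Agent.LibImperf29a

/-- A copy of a ring, used as a base ring with a Frobenius-twisted algebra structure. -/
def Tw (A : Type u) : Type u := A

instance (A : Type u) [CommRing A] : CommRing (Tw A) := inferInstanceAs (CommRing A)

instance (A B : Type u) [CommRing A] [CommRing B] [Algebra A B] : Algebra (Tw A) B :=
  inferInstanceAs (Algebra A B)

theorem basisB (p : ℕ) [Fact p.Prime] {R A B : Type u} [CommRing R] [CommRing A]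
    [CommRing B] [Algebra R A] [Algebra A B] [Algebra R B] [IsScalarTower R A B] [CharP B p]
    (hinj : Function.Injective (algebraMap A B))
    (hR : Set.range (algebraMap R B) = Set.range fun b : B => b ^ p)
    {Λ M : Type u} (x : Λ → B) (hx : IsPBasis p A x) (y : M → A) (hy : IsPBasis p R y) :
    ∃ c : Module.Basis (M ⊕ Λ) B (Ω[B⁄ℤ]),
      (∀ m, c (Sum.inl m) = KaehlerDifferential.D ℤ B (algebraMap A B (y m))) ∧
      ∀ l, c (Sum.inr l) = KaehlerDifferential.D ℤ B (x l) := by
  have hpowR : ∀ b : B, b ^ p ∈ Set.range (algebraMap R B) := fun b => hR ▸ ⟨b, rfl⟩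
  obtain ⟨h1, h2⟩ := Groth.Agent.S4518.result p (A := R) (C := A) (B := B) hinj hpowR y x
  have hz : IsPBasis p R (Sum.elim (fun i => algebraMap A B (y i)) x) :=
    ⟨(h2 hy).1 hx.1, h1 hy.2 hx.2⟩
  obtain ⟨c, hc⟩ := exists_basis_kaehler_int hz (fun a => by
    have : algebraMap R B a ∈ Set.range fun b : B => b ^ p := hR ▸ ⟨a, rfl⟩
    obtain ⟨b, hb⟩ := this
    exact ⟨b, hb.symm⟩)
  exact ⟨c, fun m => hc (Sum.inl m), fun l => hc (Sum.inr l)⟩

theorem basisA (p : ℕ) [Fact p.Prime] {R A B : Type u} [CommRing R] [CommRing A]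
    [CommRing B] [IsReduced B] [Algebra R A] [Algebra A B] [Algebra R B] [IsScalarTower R A B]
    [CharP B p]
    (hinj : Function.Injective (algebraMap A B))
    (hpow : ∀ b : B, b ^ p ∈ Set.range (algebraMap A B))
    (hR : Set.range (algebraMap R B) = Set.range fun b : B => b ^ p)
    {Λ M : Type u} (x : Λ → B) (hx : IsPBasis p A x) (x' : Λ → A)
    (hx' : ∀ i, algebraMap A B (x' i) = x i ^ p)
    (y : M → A) (hy : IsPBasis p R y) :
    ∃ c : Module.Basis (Λ ⊕ M) A (Ω[A⁄ℤ]),
      (∀ l, c (Sum.inl l) = KaehlerDifferential.D ℤ A (x' l)) ∧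
      ∀ m, c (Sum.inr m) = KaehlerDifferential.D ℤ A (y m) := by
  classical
  have hp : p.Prime := Fact.out
  haveI : CharP A p := ⟨fun n => by
    rw [← CharP.cast_eq_zero_iff B p n, ← map_natCast (algebraMap A B) n,
      map_eq_zero_iff _ hinj]⟩
  have hpow' : ∀ b : B, ∃ a : A, algebraMap A B a = b ^ p := hpow
  choose φf hφf using hpow'
  let φ : B →+* A :=
    { toFun := φf
      map_one' := hinj (by rw [hφf, one_pow, map_one])
      map_mul' := fun a b => hinj (by rw [hφf, map_mul, hφf, hφf, mul_pow])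
      map_zero' := hinj (by rw [hφf, map_zero, zero_pow hp.ne_zero])
      map_add' := fun a b => hinj (by rw [hφf, map_add, hφf, hφf, add_pow_char]) }
  have hφ : ∀ b, algebraMap A B (φ b) = b ^ p := hφf
  have hφinj : Function.Injective φ := fun a b h => by
    apply frobenius_inj B p
    rw [frobenius_def, frobenius_def, ← hφ a, ← hφ b, h]
  have hRB : ∀ r : R, ∃ b : B, algebraMap R B r = b ^ p := fun r => by
    have : algebraMap R B r ∈ Set.range fun b : B => b ^ p := hR ▸ ⟨r, rfl⟩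
    obtain ⟨b, hb⟩ := this
    exact ⟨b, hb.symm⟩
  have hBR : ∀ b : B, ∃ r : R, algebraMap R B r = b ^ p := fun b => by
    have : b ^ p ∈ Set.range (algebraMap R B) := hR ▸ ⟨b, rfl⟩
    exact this
  letI algBA : Algebra B A := φ.toAlgebra
  letI algTA : Algebra (Tw A) A := (φ.comp (algebraMap (Tw A) B)).toAlgebra
  haveI : IsScalarTower (Tw A) B A := IsScalarTower.of_algebraMap_eq fun _ => rfl
  have hxT : IsPBasis p (Tw A) x := isPBasis_of_range_eq p x hpow rfl hx
  have h₁ : ∀ a : A, a ^ p ∈ Set.range (algebraMap R A) := fun a => by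
    obtain ⟨r, hr⟩ := hBR (algebraMap A B a)
    refine ⟨r, hinj ?_⟩
    rw [← IsScalarTower.algebraMap_apply, hr, map_pow]
  have hrange : Set.range (algebraMap R A) = Set.range (algebraMap B A) := by
    ext a
    constructor
    · rintro ⟨r, rfl⟩
      obtain ⟨b, hb⟩ := hRB r
      refine ⟨b, hinj ?_⟩
      show algebraMap A B (φ b) = _
      rw [hφ, ← IsScalarTower.algebraMap_apply, hb]
    · rintro ⟨b, rfl⟩
      obtain ⟨r, hr⟩ := hBR b
      refine ⟨r, hinj ?_⟩
      show _ = algebraMap A B (φ b)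
      rw [hφ, ← IsScalarTower.algebraMap_apply, hr]
  have hyB : IsPBasis p B y := isPBasis_of_range_eq p y h₁ hrange hy
  have hinjφ : Function.Injective (algebraMap B A) := hφinj
  have hTA : ∀ a : Tw A, algebraMap (Tw A) A a = (a : A) ^ p := fun a => by
    apply hinj
    show algebraMap A B (φ (algebraMap A B a)) = _
    rw [hφ]
    exact (map_pow (algebraMap A B) (a : A) p).symm
  have hpowA : ∀ a : A, a ^ p ∈ Set.range (algebraMap (Tw A) A) := fun a => ⟨a, hTA a⟩
  obtain ⟨h1, h2⟩ := Groth.Agent.S4518.result p (A := Tw A) (C := B) (B := A) hinjφ hpowA x y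
  have hz : IsPBasis p (Tw A) (Sum.elim (fun i => algebraMap B A (x i)) y) :=
    ⟨(h2 hxT).1 hyB.1, h1 hxT.2 hyB.2⟩
  obtain ⟨c, hc⟩ := exists_basis_kaehler_int hz (fun a => ⟨a, hTA a⟩)
  refine ⟨c, fun l => ?_, fun m => hc (Sum.inr m)⟩
  rw [hc (Sum.inl l)]
  show KaehlerDifferential.D ℤ A (φ (x l)) = _
  congr 1
  exact hinj (by rw [hφ, hx'])

end Groth.Agent.LibImperf29b
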