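import Mathlib.RingTheory.Smooth.Basic
import Mathlib.RingTheory.Smooth.Kaehler
import Mathlib.RingTheory.Etale.Kaehler
import Mathlib.RingTheory.LocalRing.Module
import Mathlib.RingTheory.Extension.Cotangent.Basic
import Mathlib.LinearAlgebra.Matrix.NonsingularInverse
import Mathlib.LinearAlgebra.Matrix.ToLin

/-!
# Jacobian criterion: split injectivity of `I/I² → A ⊗ Ω` via functionals (helper29)

* `exists_retraction_of_det_isUnit` : `I = ker (P → A) = (g₁,…,g_m)`, functionals
  `λ_j : Ω[P/k₀] → P` with `det (λ_j (d g_i))` a unit in `A` ⇒ the cotangent complex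
  `I/I² → A ⊗ Ω[P/k₀]` has a retraction.
-/

set_option autoImplicit false

namespace Groth.Agent.LibJac29

open KaehlerDifferential TensorProduct Matrix

universe u v w

section L1

variable {k₀ : Type u} {A : Type v} [CommRing k₀] [CommRing A] [Algebra k₀ A]

theorem exists_retraction_of_det_isUnit (Pe : Algebra.Extension.{w} k₀ A) {m : ℕ}
    (g : Fin m → Pe.Ring) (hg : Ideal.span (Set.range g) = Pe.ker)
    (lam : Fin m → (Ω[Pe.Ring⁄k₀] →ₗ[Pe.Ring] Pe.Ring))
    (hdet : IsUnit (algebraMap Pe.Ring A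
      (Matrix.det (Matrix.of fun i j => lam j (D k₀ Pe.Ring (g i)))))) :
    ∃ l : Pe.CotangentSpace →ₗ[A] Pe.Cotangent, l ∘ₗ Pe.cotangentComplex = LinearMap.id := by
  classical
  have hgk : ∀ i, g i ∈ Pe.ker := fun i => hg.le (Ideal.subset_span ⟨i, rfl⟩)
  set n : Fin m → Pe.Cotangent := fun i => Algebra.Extension.Cotangent.mk ⟨g i, hgk i⟩ with hn
  have hspan : Submodule.span A (Set.range n) = ⊤ :=
    Algebra.Extension.Cotangent.span_eq_top_of_span_eq_ker g hg
  set Mbar : Matrix (Fin m) (Fin m) A :=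
    Matrix.of fun i j => algebraMap Pe.Ring A (lam j (D k₀ Pe.Ring (g i))) with hMbar
  have hMdet : IsUnit Mbar.det := by
    have : Mbar = (algebraMap Pe.Ring A).mapMatrix
        (Matrix.of fun i j => lam j (D k₀ Pe.Ring (g i))) := by
      ext i j; simp [hMbar]
    rw [this, ← RingHom.map_det]
    exact hdet
  let Λ : Pe.CotangentSpace →ₗ[A] (Fin m → A) :=
    LinearMap.pi fun j => LinearMap.liftBaseChange A ((Algebra.linearMap Pe.Ring A) ∘ₗ lam j)
  have hΛ : ∀ i, Λ (Pe.cotangentComplex (n i)) = Mbarᵀ.mulVec (Pi.single i 1) := by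
    intro i
    ext j
    simp [Λ, hn, hMbar, Matrix.mulVec_single_one]
  let X : Matrix (Fin m) (Fin m) A := (Mbarᵀ)⁻¹
  have hX : X * Mbarᵀ = 1 := Matrix.nonsing_inv_mul _ (by rwa [Matrix.det_transpose])
  refine ⟨(Fintype.linearCombination A n) ∘ₗ X.mulVecLin ∘ₗ Λ, ?_⟩
  apply LinearMap.ext_on_range hspan
  intro i
  simp only [LinearMap.coe_comp, Function.comp_apply, LinearMap.id_coe, id_eq, hΛ,
    Matrix.mulVecLin_apply, Matrix.mulVec_mulVec, hX, Matrix.one_mulVec,
    Fintype.linearCombination_apply_single, one_smul]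

end L1

section L3

/-- Clearing denominators: finitely many values of `κ`-valued functionals on a projective
`R`-module can be realised, up to a common factor `t ∈ Mo`, by `R`-valued functionals. -/
theorem exists_functionals_clear_denominators {R : Type u} [CommRing R] (Mo : Submonoid R)
    (P : Type v) [CommRing P] [Algebra R P] [IsLocalization Mo P]
    (κ : Type w) [CommRing κ] [Algebra P κ] [Algebra R κ] [IsScalarTower R P κ]
    (hκ : Function.Surjective (algebraMap P κ))
    {M : Type*} [AddCommGroup M] [Module R M] [Module.Projective R M]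
    {m m' : ℕ} (φ : Fin m → (M →ₗ[R] κ)) (x : Fin m' → M) :
    ∃ (t : R) (_ : t ∈ Mo) (ψ : Fin m → (M →ₗ[R] R)),
      ∀ i j, algebraMap R κ (ψ j (x i)) = algebraMap R κ t * φ j (x i) := by
  classical
  obtain ⟨s, hs⟩ := Module.projective_def'.mp (inferInstance : Module.Projective R M)
  let F : Finset M := Finset.univ.biUnion fun i => (s (x i)).support
  choose c hc using fun (j : Fin m) (p : M) => hκ (φ j p)
  obtain ⟨b, hb⟩ := IsLocalization.exist_integer_multiples Mo (Finset.univ ×ˢ F)
    (fun jp : Fin m × M => c jp.1 jp.2)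
  choose! a ha using hb
  refine ⟨b, b.2, fun j =>
    (Finsupp.linearCombination R (fun p => if p ∈ F then a (j, p) else 0)) ∘ₗ s, ?_⟩
  intro i j
  have hx : x i = Finsupp.linearCombination R id (s (x i)) := (LinearMap.congr_fun hs (x i)).symm
  simp only [LinearMap.comp_apply, Finsupp.linearCombination_apply, Finsupp.sum]
  conv_rhs => rw [hx, Finsupp.linearCombination_apply, Finsupp.sum, map_sum, Finset.mul_sum]
  rw [map_sum]
  apply Finset.sum_congr rfl
  intro p hp
  have hpF : p ∈ F := Finset.mem_biUnion.mpr ⟨i, Finset.mem_univ _, hp⟩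
  rw [if_pos hpF]
  have h1 : algebraMap R κ (a (j, p)) = algebraMap R κ b * φ j p := by
    rw [IsScalarTower.algebraMap_apply R P κ, ha (j, p) (by simp [hpF]), Algebra.smul_def, map_mul,
      hc, ← IsScalarTower.algebraMap_apply]
  simp only [smul_eq_mul, map_mul, h1, id_eq, map_smul, Algebra.smul_def]
  ring

end L3

section L2

open IsLocalRing

variable {k₀ : Type u} {A : Type v} [CommRing k₀] [CommRing A] [Algebra k₀ A]

/-- dual functionals for a finite linearly independent family in a vector space -/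
lemma exists_dual_of_linearIndependent {K : Type*} {V : Type*} [Field K] [AddCommGroup V]
    [Module K V] {m : ℕ} (w : Fin m → V) (hw : LinearIndependent K w) :
    ∃ Λ : Fin m → (V →ₗ[K] K), ∀ i j, Λ j (w i) = if i = j then 1 else 0 := by
  classical
  obtain ⟨G, hG⟩ := LinearMap.exists_extend (hw.repr : _ →ₗ[K] (Fin m →₀ K))
  refine ⟨fun j => (Finsupp.lapply j) ∘ₗ G, fun i j => ?_⟩
  have h1 : G (w i) = Finsupp.single i 1 := by
    have := LinearMap.congr_fun hG ⟨w i, Submodule.subset_span ⟨i, rfl⟩⟩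
    simp only [LinearMap.coe_comp, Submodule.coe_subtype, Function.comp_apply] at this
    rw [this]
    exact hw.repr_eq_single i _ rfl
  simp [h1, Finsupp.single_apply]

theorem exists_functionals_of_retraction (Pe : Algebra.Extension.{w} k₀ A)
    [IsLocalRing Pe.Ring] [IsNoetherianRing Pe.Ring]
    (hker : Pe.ker ≤ maximalIdeal Pe.Ring)
    (S : Set Pe.Ring) (hS : Ideal.span S = Pe.ker)
    (l : Pe.CotangentSpace →ₗ[A] Pe.Cotangent) (hl : l ∘ₗ Pe.cotangentComplex = LinearMap.id) :
    ∃ (m : ℕ) (g : Fin m → Pe.Ring)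
      (lam : Fin m → (Ω[Pe.Ring⁄k₀] →ₗ[Pe.Ring] ResidueField Pe.Ring)),
      (∀ i, g i ∈ S) ∧ Ideal.span (Set.range g) = Pe.ker ∧
        ∀ i j, lam j (D k₀ Pe.Ring (g i)) = if i = j then 1 else 0 := by
  classical
  have hSK : S ⊆ Pe.ker := hS ▸ Ideal.subset_span
  have hKfin : Module.Finite Pe.Ring Pe.ker := Module.Finite.of_fg (IsNoetherian.noetherian _)
  have hNfin : Module.Finite Pe.Ring Pe.Cotangent :=
    Module.Finite.of_surjective _ Algebra.Extension.Cotangent.mk_surjective
  -- the spanning family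
  let nS : S → Pe.Cotangent := fun i => Algebra.Extension.Cotangent.mk ⟨i.1, hSK i.2⟩
  have h1 : Submodule.span A (Set.range nS) = ⊤ :=
    Algebra.Extension.Cotangent.span_eq_top_of_span_eq_ker (P := Pe) (fun i : S => (i : Pe.Ring))
      (by simpa using hS)
  have hT' : Submodule.span Pe.Ring (Set.range nS) = ⊤ := by
    rw [← Submodule.restrictScalars_span Pe.Ring A Pe.algebraMap_surjective, h1]
    rfl
  have hT : ⊤ ≤ Submodule.span (ResidueField Pe.Ring)
      (TensorProduct.mk Pe.Ring (ResidueField Pe.Ring) Pe.Cotangent 1 '' Set.range nS) := by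
    rw [← Submodule.baseChange_span, hT', Submodule.baseChange_top]
  let b0 := Module.Basis.ofSpan hT
  have hfin := Module.Finite.finite_basis b0
  obtain ⟨m, ⟨e⟩⟩ := Finite.exists_equiv_fin _ (h := hfin)
  let b := b0.reindex e
  have hb : ∀ i, ∃ s : S, (1 : ResidueField Pe.Ring) ⊗ₜ[Pe.Ring] nS s = b i := by
    intro i
    have h2 : b i ∈ Set.range b0 := ⟨e.symm i, by simp [b]⟩
    obtain ⟨_, ⟨s, rfl⟩, hs⟩ := Module.Basis.ofSpan_subset hT h2
    exact ⟨s, hs⟩
  choose gS hgS using hb
  -- Nakayama, first step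
  have hN1 : Submodule.span Pe.Ring (Set.range fun i => nS (gS i)) = ⊤ :=
    span_eq_top_of_tmul_eq_basis (fun i => nS (gS i)) b hgS
  -- Nakayama, second step
  have hN2 : Ideal.span (Set.range fun i => ((gS i : S) : Pe.Ring)) = Pe.ker := by
    apply le_antisymm
    · rw [Ideal.span_le]
      rintro _ ⟨i, rfl⟩
      exact hSK (gS i).2
    · refine Submodule.le_of_le_smul_of_le_jacobson_bot (I := Pe.ker)
        (IsNoetherian.noetherian _) (hker.trans (maximalIdeal_le_jacobson ⊥)) ?_
      intro x hx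
      have h3 : Algebra.Extension.Cotangent.mk ⟨x, hx⟩ ∈
          Submodule.span Pe.Ring (Set.range fun i => nS (gS i)) := by rw [hN1]; trivial
      obtain ⟨c, hc⟩ := (Submodule.mem_span_range_iff_exists_fun _).mp h3
      have hy : ∑ i, c i • ((gS i : S) : Pe.Ring) ∈ Pe.ker :=
        sum_mem fun i _ => Ideal.mul_mem_left _ _ (hSK (gS i).2)
      have h4 : Algebra.Extension.Cotangent.mk ⟨∑ i, c i • ((gS i : S) : Pe.Ring), hy⟩ =
          Algebra.Extension.Cotangent.mk ⟨x, hx⟩ := by
        rw [← hc]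
        have : (⟨∑ i, c i • ((gS i : S) : Pe.Ring), hy⟩ : Pe.ker) =
            ∑ i, c i • (⟨(gS i : S), hSK (gS i).2⟩ : Pe.ker) := by
          ext; simp
        rw [this, map_sum]
        exact Finset.sum_congr rfl fun i _ => map_smul _ _ _
      rw [Algebra.Extension.Cotangent.mk_eq_mk_iff_sub_mem] at h4
      have h5 : x = ∑ i, c i • ((gS i : S) : Pe.Ring) -
          (∑ i, c i • ((gS i : S) : Pe.Ring) - x) := by ring
      rw [h5]
      refine Submodule.sub_mem _ (Submodule.mem_sup_left ?_) (Submodule.mem_sup_right ?_)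
      · exact sum_mem fun i _ => Ideal.mul_mem_left _ _ (Ideal.subset_span ⟨i, rfl⟩)
      · rw [smul_eq_mul, ← pow_two]; exact h4
  -- injectivity of the cotangent complex after base change to the residue field
  let Ψ := (Pe.cotangentComplex.restrictScalars Pe.Ring).baseChange (ResidueField Pe.Ring)
  let Φ := (l.restrictScalars Pe.Ring).baseChange (ResidueField Pe.Ring)
  have hΦΨ : Φ ∘ₗ Ψ = LinearMap.id := by
    have h6 : l.restrictScalars Pe.Ring ∘ₗ Pe.cotangentComplex.restrictScalars Pe.Ring =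
        LinearMap.id := LinearMap.ext fun x => LinearMap.congr_fun hl x
    rw [← LinearMap.baseChange_comp, h6, LinearMap.baseChange_id]
  have hΨinj : Function.Injective Ψ :=
    Function.LeftInverse.injective (g := Φ) fun z => LinearMap.congr_fun hΦΨ z
  have hw : LinearIndependent (ResidueField Pe.Ring) (fun i => Ψ (b i)) :=
    b.linearIndependent.map' Ψ (LinearMap.ker_eq_bot.mpr hΨinj)
  obtain ⟨Λ, hΛ⟩ := exists_dual_of_linearIndependent _ hw
  have hwi : ∀ i, Ψ (b i) = (1 : ResidueField Pe.Ring) ⊗ₜ[Pe.Ring]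
      ((1 : A) ⊗ₜ[Pe.Ring] D k₀ Pe.Ring ((gS i : S) : Pe.Ring)) := by
    intro i
    rw [← hgS i]
    simp [Ψ, nS]
  refine ⟨m, fun i => ((gS i : S) : Pe.Ring), fun j => (Λ j).restrictScalars Pe.Ring ∘ₗ
    (TensorProduct.mk Pe.Ring (ResidueField Pe.Ring) Pe.CotangentSpace 1) ∘ₗ
    (TensorProduct.mk Pe.Ring A Ω[Pe.Ring⁄k₀] 1), fun i => (gS i).2, hN2, fun i j => ?_⟩
  simp only [LinearMap.coe_comp, LinearMap.coe_restrictScalars, Function.comp_apply,
    TensorProduct.mk_apply]
  rw [← hwi i, hΛ i j]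

end L2

end Groth.Agent.LibJac29
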