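import Groth.Agent.LibJac29
import Groth.Agent.LibQuotLoc29
import Mathlib.RingTheory.Smooth.Local
import Mathlib.RingTheory.Smooth.Locus

/-!
# Zariski–Jacobian criterion at a prime, finitely generated ideal version (helper29)

`main'` : `R` formally smooth over `k₀`, `J = span T` a finitely generated ideal, `q ⊇ J` prime.
Then `(R/J)_q` is formally smooth over `k₀` iff there are `f₁,…,f_m ∈ T` generating `J R_q` and
`k₀`-derivations `D_j` of `R` with `det (D_j f_i) ∉ q`.  (Non-Noetherian generalisation of the
`main` theorem of `Groth.Agent.S4580`.)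
-/

set_option autoImplicit false

namespace Groth.Agent.LibJacLoc29

open KaehlerDifferential TensorProduct IsLocalRing Groth.Agent.LibJac29 Groth.Agent.LibQuotLoc29

universe u v w

section L2

variable {k₀ : Type u} {A : Type v} [CommRing k₀] [CommRing A] [Algebra k₀ A]

theorem exists_functionals_of_retraction' (Pe : Algebra.Extension.{w} k₀ A)
    [IsLocalRing Pe.Ring] (hfg : Pe.ker.FG)
    (hker : Pe.ker ≤ maximalIdeal Pe.Ring)
    (S : Set Pe.Ring) (hS : Ideal.span S = Pe.ker)
    (l : Pe.CotangentSpace →ₗ[A] Pe.Cotangent) (hl : l ∘ₗ Pe.cotangentComplex = LinearMap.id) :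
    ∃ (m : ℕ) (g : Fin m → Pe.Ring)
      (lam : Fin m → (Ω[Pe.Ring⁄k₀] →ₗ[Pe.Ring] ResidueField Pe.Ring)),
      (∀ i, g i ∈ S) ∧ Ideal.span (Set.range g) = Pe.ker ∧
        ∀ i j, lam j (D k₀ Pe.Ring (g i)) = if i = j then 1 else 0 := by
  classical
  have hSK : S ⊆ Pe.ker := hS ▸ Ideal.subset_span
  have hKfin : Module.Finite Pe.Ring Pe.ker := Module.Finite.iff_fg.mpr hfg
  have hNfin : Module.Finite Pe.Ring Pe.Cotangent :=
    Module.Finite.of_surjective _ Algebra.Extension.Cotangent.mk_surjective
  -- the spanning family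
  let nS : S → Pe.Cotangent := fun i => Algebra.Extension.Cotangent.mk ⟨i.1, hSK i.2⟩
  have h1 : Submodule.span A (Set.range nS) = ⊤ :=
    Algebra.Extension.Cotangent.span_eq_top_of_span_eq_ker (P := Pe) (fun i : S => (i : Pe.Ring))
      (by simpa using hS)
  have hT' : Submodule.span Pe.Ring (Set.range nS) = ⊤ := by
    rw [← Submodule.restrictScalars_span Pe.Ring A Pe.algebraMap_surjective, h1]
    rfl
  have hT : ⊤ ≤ Submodule.span (ResidueField Pe.Ring)
      (TensorProduct.mk Pe.Ring (ResidueField Pe.Ring) Pe.Cotangent 1 '' Set.range nS) := by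
    rw [← Submodule.baseChange_span, hT', Submodule.baseChange_top]
  let b0 := Module.Basis.ofSpan hT
  have hfin := Module.Finite.finite_basis b0
  obtain ⟨m, ⟨e⟩⟩ := Finite.exists_equiv_fin _ (h := hfin)
  let b := b0.reindex e
  have hb : ∀ i, ∃ s : S, (1 : ResidueField Pe.Ring) ⊗ₜ[Pe.Ring] nS s = b i := by
    intro i
    have h2 : b i ∈ Set.range b0 := ⟨e.symm i, by simp [b]⟩
    obtain ⟨_, ⟨s, rfl⟩, hs⟩ := Module.Basis.ofSpan_subset hT h2
    exact ⟨s, hs⟩
  choose gS hgS using hb
  -- Nakayama, first step
  have hN1 : Submodule.span Pe.Ring (Set.range fun i => nS (gS i)) = ⊤ :=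
    span_eq_top_of_tmul_eq_basis (fun i => nS (gS i)) b hgS
  -- Nakayama, second step
  have hN2 : Ideal.span (Set.range fun i => ((gS i : S) : Pe.Ring)) = Pe.ker := by
    apply le_antisymm
    · rw [Ideal.span_le]
      rintro _ ⟨i, rfl⟩
      exact hSK (gS i).2
    · refine Submodule.le_of_le_smul_of_le_jacobson_bot (I := Pe.ker)
        hfg (hker.trans (maximalIdeal_le_jacobson ⊥)) ?_
      intro x hx
      have h3 : Algebra.Extension.Cotangent.mk ⟨x, hx⟩ ∈
          Submodule.span Pe.Ring (Set.range fun i => nS (gS i)) := by rw [hN1]; trivial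
      obtain ⟨c, hc⟩ := (Submodule.mem_span_range_iff_exists_fun _).mp h3
      have hy : ∑ i, c i • ((gS i : S) : Pe.Ring) ∈ Pe.ker :=
        sum_mem fun i _ => Ideal.mul_mem_left _ _ (hSK (gS i).2)
      have h4 : Algebra.Extension.Cotangent.mk ⟨∑ i, c i • ((gS i : S) : Pe.Ring), hy⟩ =
          Algebra.Extension.Cotangent.mk ⟨x, hx⟩ := by
        rw [← hc]
        have : (⟨∑ i, c i • ((gS i : S) : Pe.Ring), hy⟩ : Pe.ker) =
            ∑ i, c i • (⟨(gS i : S), hSK (gS i).2⟩ : Pe.ker) := by
          ext; simp
        rw [this, map_sum]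
        exact Finset.sum_congr rfl fun i _ => map_smul _ _ _
      rw [Algebra.Extension.Cotangent.mk_eq_mk_iff_sub_mem] at h4
      have h5 : x = ∑ i, c i • ((gS i : S) : Pe.Ring) -
          (∑ i, c i • ((gS i : S) : Pe.Ring) - x) := by ring
      rw [h5]
      refine Submodule.sub_mem _ (Submodule.mem_sup_left ?_) (Submodule.mem_sup_right ?_)
      · exact sum_mem fun i _ => Ideal.mul_mem_left _ _ (Ideal.subset_span ⟨i, rfl⟩)
      · rw [smul_eq_mul, ← pow_two]; exact h4
  -- injectivity of the cotangent complex after base change to the residue field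
  let Ψ := (Pe.cotangentComplex.restrictScalars Pe.Ring).baseChange (ResidueField Pe.Ring)
  let Φ := (l.restrictScalars Pe.Ring).baseChange (ResidueField Pe.Ring)
  have hΦΨ : Φ ∘ₗ Ψ = LinearMap.id := by
    have h6 : l.restrictScalars Pe.Ring ∘ₗ Pe.cotangentComplex.restrictScalars Pe.Ring =
        LinearMap.id := LinearMap.ext fun x => LinearMap.congr_fun hl x
    rw [← LinearMap.baseChange_comp, h6, LinearMap.baseChange_id]
  have hΨinj : Function.Injective Ψ :=
    Function.LeftInverse.injective (g := Φ) fun z => LinearMap.congr_fun hΦΨ z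
  have hw : LinearIndependent (ResidueField Pe.Ring) (fun i => Ψ (b i)) :=
    b.linearIndependent.map' Ψ (LinearMap.ker_eq_bot.mpr hΨinj)
  obtain ⟨Λ, hΛ⟩ := exists_dual_of_linearIndependent _ hw
  have hwi : ∀ i, Ψ (b i) = (1 : ResidueField Pe.Ring) ⊗ₜ[Pe.Ring]
      ((1 : A) ⊗ₜ[Pe.Ring] D k₀ Pe.Ring ((gS i : S) : Pe.Ring)) := by
    intro i
    rw [← hgS i]
    simp [Ψ, nS]
  refine ⟨m, fun i => ((gS i : S) : Pe.Ring), fun j => (Λ j).restrictScalars Pe.Ring ∘ₗ
    (TensorProduct.mk Pe.Ring (ResidueField Pe.Ring) Pe.CotangentSpace 1) ∘ₗ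
    (TensorProduct.mk Pe.Ring A Ω[Pe.Ring⁄k₀] 1), fun i => (gS i).2, hN2, fun i j => ?_⟩
  simp only [LinearMap.coe_comp, LinearMap.coe_restrictScalars, Function.comp_apply,
    TensorProduct.mk_apply]
  rw [← hwi i, hΛ i j]

end L2

section
variable {k₀ : Type u} [CommRing k₀] (R : Type u) [CommRing R] [Algebra k₀ R]

lemma tower1 (J q : Ideal R) [q.IsPrime] : IsScalarTower k₀ (R ⧸ J)
    (Localization.AtPrime q ⧸ J.map (algebraMap R (Localization.AtPrime q))) := by
  apply IsScalarTower.of_algebraMap_eq
  intro c
  rfl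

variable [Algebra.FormallySmooth k₀ R]
  (J q : Ideal R) [q.IsPrime] (hJq : J ≤ q) [(q.map (Ideal.Quotient.mk J)).IsPrime]

include hJq in
theorem main' (T : Set R) (hT : Ideal.span T = J) (hfg : J.FG) :
    Algebra.FormallySmooth k₀ (Localization.AtPrime (q.map (Ideal.Quotient.mk J))) ↔
      ∃ (m : ℕ) (f : Fin m → R) (D : Fin m → Derivation k₀ R R),
        (∀ i, f i ∈ T) ∧
        J.map (algebraMap R (Localization.AtPrime q)) =
          Ideal.span (Set.range fun i => algebraMap R (Localization.AtPrime q) (f i)) ∧
        Matrix.det (Matrix.of fun i j => D j (f i)) ∉ q := by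
  classical
  have hTJ : T ⊆ J := hT ▸ Ideal.subset_span
  have hloc := isLocalization_atPrime_quotient R J q hJq
  let e₀ : Localization.AtPrime (q.map (Ideal.Quotient.mk J)) ≃ₐ[R ⧸ J]
      (Localization.AtPrime q ⧸ J.map (algebraMap R (Localization.AtPrime q))) :=
    IsLocalization.algEquiv (q.map (Ideal.Quotient.mk J)).primeCompl _ _
  have htower := tower1 (k₀ := k₀) R J q
  let e : Localization.AtPrime (q.map (Ideal.Quotient.mk J)) ≃ₐ[k₀]
      (Localization.AtPrime q ⧸ J.map (algebraMap R (Localization.AtPrime q))) :=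
    e₀.restrictScalars k₀
  rw [Algebra.FormallySmooth.iff_of_equiv e]
  let Pe : Algebra.Extension.{u} k₀
      (Localization.AtPrime q ⧸ J.map (algebraMap R (Localization.AtPrime q))) :=
    { Ring := Localization.AtPrime q
      σ := Function.surjInv Ideal.Quotient.mk_surjective
      algebraMap_σ := Function.surjInv_eq _ }
  have hPe : Algebra.FormallySmooth k₀ Pe.Ring :=
    inferInstanceAs (Algebra.FormallySmooth k₀ (Localization.AtPrime q))
  rw [Pe.formallySmooth_iff_split_injection]
  have hkerI : Pe.ker = J.map (algebraMap R (Localization.AtPrime q)) := Ideal.mk_ker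
  have hJtop : J.map (algebraMap R (Localization.AtPrime q)) ≤
      maximalIdeal (Localization.AtPrime q) := by
    rw [← Localization.AtPrime.map_eq_maximalIdeal]
    exact Ideal.map_mono hJq
  constructor
  · rintro ⟨l, hl⟩
    have : IsLocalRing Pe.Ring := inferInstanceAs (IsLocalRing (Localization.AtPrime q))
    have hfgK : Pe.ker.FG := by
      rw [hkerI]
      exact hfg.map _
    have hST : Ideal.span ((algebraMap R (Localization.AtPrime q)) '' T) =
        J.map (algebraMap R (Localization.AtPrime q)) := by
      rw [← Ideal.map_span, hT]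
    obtain ⟨m, g, lam, hgS, hspan, hδ⟩ := exists_functionals_of_retraction' Pe hfgK
      (hkerI.le.trans hJtop) ((algebraMap R (Localization.AtPrime q)) '' T)
      (hST.trans hkerI.symm) l hl
    choose f hfJ hfg' using hgS
    obtain ⟨t, ht, ψ, hψ⟩ := exists_functionals_clear_denominators q.primeCompl
      (Localization.AtPrime q) (ResidueField (Localization.AtPrime q)) residue_surjective
      (M := Ω[R⁄k₀])
      (fun j => (lam j).restrictScalars R ∘ₗ (KaehlerDifferential.map k₀ k₀ R (Localization.AtPrime q)))
      (fun i => D k₀ R (f i))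
    refine ⟨m, f, fun j => (ψ j).compDer (D k₀ R), hfJ, ?_, ?_⟩
    · rw [← hkerI, ← hspan]
      congr 2
      funext i
      exact (hfg' i).symm
    · intro hdet
      have hρ : algebraMap R (ResidueField (Localization.AtPrime q))
          (Matrix.det (Matrix.of fun i j => ((ψ j).compDer (D k₀ R)) (f i))) = 0 := by
        rw [IsScalarTower.algebraMap_apply R (Localization.AtPrime q), ResidueField.algebraMap_eq,
          residue_eq_zero_iff, IsLocalization.AtPrime.to_map_mem_maximal_iff _ q]
        exact hdet
      rw [RingHom.map_det] at hρ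
      have hmat : (algebraMap R (ResidueField (Localization.AtPrime q))).mapMatrix
          (Matrix.of fun i j => ((ψ j).compDer (D k₀ R)) (f i)) =
          (algebraMap R (ResidueField (Localization.AtPrime q)) t) •
            (1 : Matrix (Fin m) (Fin m) (ResidueField (Localization.AtPrime q))) := by
        ext i j
        have h1 := hψ i j
        simp only [LinearMap.coe_comp, LinearMap.coe_restrictScalars, Function.comp_apply,
          KaehlerDifferential.map_D, hfg'] at h1
        simp only [RingHom.mapMatrix_apply, Matrix.map_apply, Matrix.of_apply,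
          Derivation.coe_comp, LinearMap.coe_comp, LinearMap.coe_restrictScalars,
          Function.comp_apply, Derivation.coeFn_coe, Matrix.smul_apply, Matrix.one_apply,
          smul_eq_mul]
        exact h1.trans (congrArg _ (hδ i j))
      rw [hmat, Matrix.det_smul, Matrix.det_one, mul_one, Fintype.card_fin] at hρ
      have ht0 : algebraMap R (ResidueField (Localization.AtPrime q)) t ≠ 0 := by
        rw [IsScalarTower.algebraMap_apply R (Localization.AtPrime q), ResidueField.algebraMap_eq,
          Ne, residue_eq_zero_iff, IsLocalization.AtPrime.to_map_mem_maximal_iff _ q]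
        exact ht
      exact pow_ne_zero _ ht0 hρ
  · rintro ⟨m, f, D, hfT, hspan, hdet⟩
    have hunits : ∀ x : q.primeCompl, IsUnit
        ((algebraMap R (Module.End R (Localization.AtPrime q))) x) :=
      IsLocalizedModule.map_units (Algebra.linearMap R (Localization.AtPrime q))
    let lam₀ : Fin m → (Ω[Localization.AtPrime q⁄k₀] →ₗ[R] Localization.AtPrime q) := fun j =>
      IsLocalizedModule.lift q.primeCompl
        (KaehlerDifferential.map k₀ k₀ R (Localization.AtPrime q))
        ((Algebra.linearMap R (Localization.AtPrime q)) ∘ₗ (D j).liftKaehlerDifferential) hunits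
    let lam : Fin m → (Ω[Localization.AtPrime q⁄k₀] →ₗ[Localization.AtPrime q]
        Localization.AtPrime q) := fun j =>
      (lam₀ j).extendScalarsOfIsLocalization q.primeCompl (Localization.AtPrime q)
    have hlam : ∀ i j, lam j (KaehlerDifferential.D k₀ (Localization.AtPrime q)
        (algebraMap R (Localization.AtPrime q) (f i))) =
        algebraMap R (Localization.AtPrime q) (D j (f i)) := by
      intro i j
      rw [← KaehlerDifferential.map_D k₀ k₀ R (Localization.AtPrime q)]
      simp only [lam, lam₀, LinearMap.extendScalarsOfIsLocalization_apply',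
        IsLocalizedModule.lift_apply]
      simp
    refine exists_retraction_of_det_isUnit Pe (fun i => algebraMap R (Localization.AtPrime q) (f i))
      (hspan.symm.trans hkerI.symm) lam ?_
    have hmat : (Matrix.of fun i j => lam j (KaehlerDifferential.D k₀ Pe.Ring
        (algebraMap R (Localization.AtPrime q) (f i)))) =
        (algebraMap R (Localization.AtPrime q)).mapMatrix (Matrix.of fun i j => D j (f i)) := by
      ext i j
      simp only [RingHom.mapMatrix_apply, Matrix.map_apply, Matrix.of_apply]
      exact hlam i j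
    rw [hmat, ← RingHom.map_det]
    apply IsUnit.map
    exact IsLocalization.map_units (Localization.AtPrime q) (⟨_, hdet⟩ : q.primeCompl)

end

end Groth.Agent.LibJacLoc29
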