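import Mathlib
import Groth.Prelude
import Groth.Agent.LibGenSmooth29a

/-!
# Orbit maps of homogeneous spaces in characteristic zero are smooth (helper29)

* `actPt a σ`: the automorphism of `X` given by a rational point `σ` of `G`;
* `leftMul G`: `G` acting on itself by left multiplication;
* `actPt_leftMul_comp_orbitMap`: orbit maps are equivariant for translations;
* `smooth_orbitMap`: Hartshorne III.10.?: orbit maps of homogeneous spaces are smooth in char. 0.
-/

set_option autoImplicit false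
set_option linter.style.haveILetI false
universe u

open CategoryTheory MonoidalCategory CartesianMonoidalCategory MonObj GrpObj AlgebraicGeometry

namespace Groth.Agent.LibOrbitSmooth29

section Points

variable {S : Scheme.{u}} {G X : Over S} [GrpObj G] (a : AlgGrp.Action G X)

/-- the endomorphism `x ↦ σ • x` of `X` given by a section `σ` of `G` -/
noncomputable def actPt (σ : 𝟙_ (Over S) ⟶ G) : X ⟶ X := lift (toUnit X ≫ σ) (𝟙 X) ≫ a.act

theorem comp_actPt {T : Over S} (p : T ⟶ X) (σ : 𝟙_ (Over S) ⟶ G) :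
    p ≫ actPt a σ = lift (toUnit T ≫ σ) p ≫ a.act := by
  rw [actPt, comp_lift_assoc, Category.comp_id, ← Category.assoc,
    toUnit_unique (p ≫ toUnit X) (toUnit T)]

theorem actPt_comp (σ τ : 𝟙_ (Over S) ⟶ G) : actPt a σ ≫ actPt a τ = actPt a (τ * σ) := by
  rw [comp_actPt, actPt, ← AlgGrp.Action.lift_mul_act, ← MonObj.comp_mul, actPt]

theorem actPt_one : actPt a (1 : 𝟙_ (Over S) ⟶ G) = 𝟙 X := by
  rw [actPt, MonObj.comp_one, AlgGrp.Action.lift_one_act]

instance isIso_actPt (σ : 𝟙_ (Over S) ⟶ G) : IsIso (actPt a σ) :=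
  ⟨⟨actPt a σ⁻¹, by rw [actPt_comp, inv_mul_cancel, actPt_one],
    by rw [actPt_comp, mul_inv_cancel, actPt_one]⟩⟩

/-- the action of a group object on itself by left multiplication -/
noncomputable def leftMul (G : Over S) [GrpObj G] : AlgGrp.Action G G where
  act := μ[G]
  one_act := MonObj.one_mul G
  mul_act := MonObj.mul_assoc G

theorem comp_actPt_leftMul {T : Over S} (p : T ⟶ G) (σ : 𝟙_ (Over S) ⟶ G) :
    p ≫ actPt (leftMul G) σ = (toUnit T ≫ σ) * p := by
  rw [comp_actPt, Hom.mul_def]; rfl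

theorem pt_comp_actPt_leftMul (τ σ : 𝟙_ (Over S) ⟶ G) :
    τ ≫ actPt (leftMul G) σ = σ * τ := by
  rw [comp_actPt_leftMul, toUnit_unique (toUnit (𝟙_ (Over S))) (𝟙 _), Category.id_comp]

/-- orbit maps are equivariant for translations -/
theorem actPt_leftMul_comp_orbitMap (o : 𝟙_ (Over S) ⟶ X) (σ : 𝟙_ (Over S) ⟶ G) :
    actPt (leftMul G) σ ≫ a.orbitMap o = a.orbitMap o ≫ actPt a σ := by
  rw [AlgGrp.Action.comp_orbitMap, comp_actPt, ← Category.id_comp (actPt (leftMul G) σ),
    comp_actPt_leftMul, AlgGrp.Action.lift_mul_act, AlgGrp.Action.orbitMap]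

theorem pt_comp_orbitMap (o : 𝟙_ (Over S) ⟶ X) (σ : 𝟙_ (Over S) ⟶ G) :
    σ ≫ a.orbitMap o = lift σ o ≫ a.act := by
  rw [AlgGrp.Action.comp_orbitMap, toUnit_unique (toUnit (𝟙_ (Over S))) (𝟙 _), Category.id_comp]

end Points

section SmoothLocus

variable {X Y Z : Scheme.{u}}

/-- the smooth locus is not changed by composing with an isomorphism of the target -/
theorem smoothLocus_comp_iso (f : X ⟶ Y) (e : Y ⟶ Z) [IsIso e] [LocallyOfFinitePresentation f] :
    (f ≫ e).smoothLocus = f.smoothLocus := by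
  ext x
  change ((f ≫ e).stalkMap x).hom.FormallySmooth ↔ (f.stalkMap x).hom.FormallySmooth
  rw [Scheme.Hom.stalkMap_comp]
  exact RingHom.FormallySmooth.respectsIso.cancel_left_isIso (e.stalkMap (f x)) (f.stalkMap x)

end SmoothLocus

section Main

variable (k : Type u) [Field k] [IsAlgClosed k] [CharZero k]
  (G X : Over (Spec (CommRingCat.of k))) [GrpObj G] (a : AlgGrp.Action G X)
  [IsIntegral G.left] [LocallyOfFiniteType G.hom] [IsIntegral X.left] [LocallyOfFiniteType X.hom]

omit [CharZero k] in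
/-- the rational point attached to a closed point -/
theorem exists_pt_of_isClosed (W : Over (Spec (CommRingCat.of k))) [LocallyOfFiniteType W.hom]
    (w : W.left) (hw : IsClosed ({w} : Set W.left)) :
    ∃ p : 𝟙_ (Over (Spec (CommRingCat.of k))) ⟶ W, p.left (IsLocalRing.closedPoint k) = w := by
  refine ⟨Over.homMk (pointOfClosedPoint W.hom w hw) (pointOfClosedPoint_comp W.hom w hw), ?_⟩
  exact pointOfClosedPoint_apply W.hom w hw _

theorem smooth_orbitMap
    (htrans : ∀ x x' : 𝟙_ (Over (Spec (CommRingCat.of k))) ⟶ X,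
      ∃ σ : 𝟙_ (Over (Spec (CommRingCat.of k))) ⟶ G, CartesianMonoidalCategory.lift σ x ≫ a.act = x')
    (x : 𝟙_ (Over (Spec (CommRingCat.of k))) ⟶ X) :
    Smooth (a.orbitMap x).left := by
  set f := (a.orbitMap x).left with hfdef
  letI : G.left.Over (Spec (CommRingCat.of k)) := ⟨G.hom⟩
  letI : X.left.Over (Spec (CommRingCat.of k)) := ⟨X.hom⟩
  haveI : LocallyOfFiniteType (G.left ↘ Spec (CommRingCat.of k)) := ‹LocallyOfFiniteType G.hom›
  haveI : LocallyOfFiniteType (X.left ↘ Spec (CommRingCat.of k)) := ‹LocallyOfFiniteType X.hom›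
  have hf : f ≫ (X.left ↘ Spec (CommRingCat.of k)) = (G.left ↘ Spec (CommRingCat.of k)) :=
    Over.w (a.orbitMap x)
  haveI := Groth.Agent.LibCotTan29.locallyOfFinitePresentation_of_over k f hf
  haveI : JacobsonSpace X.left := LocallyOfFiniteType.jacobsonSpace X.hom
  haveI : JacobsonSpace G.left := LocallyOfFiniteType.jacobsonSpace G.hom
  -- the orbit map is dominant
  have hdom : DenseRange f := by
    have h1 : closedPoints X.left ⊆ Set.range f := by
      intro y hy
      obtain ⟨x', hx'⟩ := exists_pt_of_isClosed k X y hy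
      obtain ⟨σ, hσ⟩ := htrans x x'
      refine ⟨σ.left (IsLocalRing.closedPoint k), ?_⟩
      rw [← hx', ← hσ, ← pt_comp_orbitMap, Over.comp_left, Scheme.Hom.comp_apply]
    have h2 : closure (closedPoints X.left) = Set.univ := by
      simpa using JacobsonSpace.closure_inter_closedPoints (X := X.left) isClosed_univ
    rw [DenseRange, dense_iff_closure_eq, Set.eq_univ_iff_forall]
    intro y
    exact closure_mono h1 (h2 ▸ Set.mem_univ y)
  have hgen : genericPoint G.left ∈ f.smoothLocus := Scheme.Hom.mem_smoothLocus.mpr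
    (Groth.Agent.LibGenSmooth29.formallySmooth_stalkMap_genericPoint k f hf hdom)
  rw [← Scheme.Hom.smoothLocus_eq_top_iff, ← TopologicalSpace.Opens.coe_eq_univ,
    ← not_ne_iff, ← Set.nonempty_compl]
  intro H
  obtain ⟨g₁, hg₁, hg₁c⟩ :=
    nonempty_inter_closedPoints H f.smoothLocus.2.isClosed_compl.isLocallyClosed
  obtain ⟨h₁, hh₁ : h₁ ∈ f.smoothLocus, hh₁c⟩ := nonempty_inter_closedPoints
    (⟨_, hgen⟩ : (f.smoothLocus : Set G.left).Nonempty) f.smoothLocus.2.isLocallyClosed
  obtain ⟨τ, hτ⟩ := exists_pt_of_isClosed k G g₁ hg₁c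
  obtain ⟨ρ, hρ⟩ := exists_pt_of_isClosed k G h₁ hh₁c
  let σ := ρ * τ⁻¹
  have h3 : τ ≫ actPt (leftMul G) σ = ρ := by
    rw [pt_comp_actPt_leftMul, inv_mul_cancel_right]
  have h4 : (actPt (leftMul G) σ).left g₁ = h₁ := by
    rw [← hτ, ← hρ, ← h3, Over.comp_left, Scheme.Hom.comp_apply]
  haveI : IsIso (actPt (leftMul G) σ).left :=
    inferInstanceAs (IsIso ((Over.forget _).map (actPt (leftMul G) σ)))
  haveI : IsIso (actPt a σ).left := inferInstanceAs (IsIso ((Over.forget _).map (actPt a σ)))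
  apply hg₁
  have h5 : (actPt (leftMul G) σ).left ≫ f = f ≫ (actPt a σ).left := by
    rw [hfdef, ← Over.comp_left, ← Over.comp_left, actPt_leftMul_comp_orbitMap]
  have h6 := Scheme.Hom.preimage_smoothLocus_eq (actPt (leftMul G) σ).left f
  rw [← h4] at hh₁
  have h7 : g₁ ∈ (actPt (leftMul G) σ).left ⁻¹ᵁ f.smoothLocus := hh₁
  rw [h6] at h7
  have h8 : ((actPt (leftMul G) σ).left ≫ f).smoothLocus = (f ≫ (actPt a σ).left).smoothLocus := by
    congr 1
  rw [h8, smoothLocus_comp_iso] at h7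
  exact h7

end Main

end Groth.Agent.LibOrbitSmooth29
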