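import Mathlib
import Groth.Prelude
import Groth.Agent.LibOrbitSmooth29a

/-!
# Kleiman transversality, part 1: the action map `G × Y → X` (helper29)

For an action `a` of `G` on `X` (over `S`) and `fY : Y ⟶ X`:
* `actOn a fY : G ⊗ Y ⟶ X`, `(σ, y) ↦ σ · f(y)`;
* `trans_comp_actOn` : equivariance for left translations on `G`;
* `fibIncl σ : Y ⟶ G ⊗ Y`, `y ↦ (σ, y)`, `fibIncl_comp_actOn`, `isPullback_fibIncl`.
-/

set_option autoImplicit false
set_option linter.style.haveILetI false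
universe u

open CategoryTheory MonoidalCategory CartesianMonoidalCategory MonObj GrpObj AlgebraicGeometry
open Groth.Agent.LibOrbitSmooth29

namespace Groth.Agent.LibKleiman29

section Cat

variable {S : Scheme.{u}} {G X : Over S} [GrpObj G] (a : AlgGrp.Action G X) {Y : Over S}
  (fY : Y ⟶ X)

/-- `(σ, y) ↦ σ · f(y)` -/
noncomputable def actOn : G ⊗ Y ⟶ X := (G ◁ fY) ≫ a.act

theorem lift_comp_actOn {T : Over S} (g : T ⟶ G) (y : T ⟶ Y) :
    lift g y ≫ actOn a fY = lift g (y ≫ fY) ≫ a.act := by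
  rw [actOn, lift_whiskerLeft_assoc]

/-- equivariance of `actOn` for left translations -/
theorem trans_comp_actOn (σ : 𝟙_ (Over S) ⟶ G) :
    (actPt (leftMul G) σ ▷ Y) ≫ actOn a fY = actOn a fY ≫ actPt a σ := by
  have h1 : (actPt (leftMul G) σ ▷ Y) ≫ actOn a fY =
      lift (fst G Y ≫ actPt (leftMul G) σ) (snd G Y) ≫ actOn a fY := by
    rw [← lift_whiskerRight_assoc, lift_fst_snd, Category.id_comp]
  have h2 : actOn a fY = lift (fst G Y) (snd G Y ≫ fY) ≫ a.act := by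
    rw [← lift_comp_actOn, lift_fst_snd, Category.id_comp]
  rw [h1, lift_comp_actOn, comp_actPt_leftMul, AlgGrp.Action.lift_mul_act, comp_actPt, ← h2]

/-- the inclusion `y ↦ (σ, y)` of the fibre over `σ` -/
noncomputable def fibIncl (σ : 𝟙_ (Over S) ⟶ G) : Y ⟶ G ⊗ Y := lift (toUnit Y ≫ σ) (𝟙 Y)

theorem fibIncl_comp_actOn (σ : 𝟙_ (Over S) ⟶ G) :
    fibIncl σ ≫ actOn a fY = lift (toUnit Y ≫ σ) fY ≫ a.act := by
  rw [fibIncl, lift_comp_actOn, Category.id_comp]

omit [GrpObj G] in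
theorem fibIncl_fst (σ : 𝟙_ (Over S) ⟶ G) : fibIncl (Y := Y) σ ≫ fst G Y = toUnit Y ≫ σ := by
  rw [fibIncl, lift_fst]

omit [GrpObj G] in
theorem fibIncl_snd (σ : 𝟙_ (Over S) ⟶ G) : fibIncl (Y := Y) σ ≫ snd G Y = 𝟙 Y := by
  rw [fibIncl, lift_snd]

omit [GrpObj G] in
theorem isPullback_fibIncl (σ : 𝟙_ (Over S) ⟶ G) :
    IsPullback (fibIncl (Y := Y) σ) (toUnit Y) (fst G Y) σ := by
  refine ⟨⟨fibIncl_fst σ⟩, ⟨Limits.PullbackCone.IsLimit.mk _ (fun s => s.fst ≫ snd G Y) ?_ ?_ ?_⟩⟩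
  · intro s
    have h1 : s.fst ≫ fst G Y = s.snd ≫ σ := s.condition
    have h2 : s.snd = toUnit _ := toUnit_unique _ _
    have h3 : (s.fst ≫ snd G Y) ≫ toUnit Y ≫ σ = s.fst ≫ fst G Y := by
      rw [h1, h2, ← Category.assoc]
      congr 1
      exact toUnit_unique _ _
    rw [fibIncl, comp_lift, Category.comp_id, h3, ← comp_lift, lift_fst_snd, Category.comp_id]
  · intro s
    exact toUnit_unique _ _
  · intro s m hm _
    rw [← hm, Category.assoc, fibIncl_snd, Category.comp_id]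

end Cat

end Groth.Agent.LibKleiman29
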