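import Mathlib
import Groth.Prelude
import Groth.Agent.LibKleiman29a
import Groth.Agent.LibGenSmoothII29b

/-!
# Kleiman transversality, part 2: homogeneous spaces in characteristic zero are smooth (helper29)

* `smooth_of_homogeneous` : an integral `k`-scheme locally of finite type on which a group acts
  transitively on `k`-points is smooth (`k` algebraically closed of characteristic zero);
* `smooth_group` : a group variety in characteristic zero is smooth.
-/

set_option autoImplicit false
set_option linter.style.haveILetI false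
universe u

open CategoryTheory MonoidalCategory CartesianMonoidalCategory MonObj GrpObj AlgebraicGeometry
open Groth.Agent.LibOrbitSmooth29

namespace Groth.Agent.LibKleiman29

section Homog

variable (k : Type u) [Field k] [IsAlgClosed k] [CharZero k]
  (G X : Over (Spec (CommRingCat.of k))) [GrpObj G] (a : AlgGrp.Action G X)

/-- a homogeneous space in characteristic zero is smooth -/
theorem smooth_of_homogeneous [IsIntegral X.left] [LocallyOfFiniteType X.hom]
    (htrans : ∀ x x' : 𝟙_ (Over (Spec (CommRingCat.of k))) ⟶ X,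
      ∃ σ : 𝟙_ (Over (Spec (CommRingCat.of k))) ⟶ G, CartesianMonoidalCategory.lift σ x ≫ a.act = x') :
    Smooth X.hom := by
  letI : X.left.Over (Spec (CommRingCat.of k)) := ⟨X.hom⟩
  haveI : LocallyOfFiniteType (X.left ↘ Spec (CommRingCat.of k)) := ‹LocallyOfFiniteType X.hom›
  letI : (Spec (CommRingCat.of k)).Over (Spec (CommRingCat.of k)) := ⟨𝟙 _⟩
  have hf : X.hom ≫ ((Spec (CommRingCat.of k)) ↘ Spec (CommRingCat.of k)) =
      (X.left ↘ Spec (CommRingCat.of k)) := Category.comp_id _
  haveI : LocallyOfFiniteType ((Spec (CommRingCat.of k)) ↘ Spec (CommRingCat.of k)) :=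
    inferInstanceAs (LocallyOfFiniteType (𝟙 (Spec (CommRingCat.of k))))
  haveI := Groth.Agent.LibCotTan29.locallyOfFinitePresentation_of_over k X.hom hf
  haveI : JacobsonSpace X.left := LocallyOfFiniteType.jacobsonSpace X.hom
  have hdom : DenseRange X.hom := by
    apply Function.Surjective.denseRange
    intro y
    obtain ⟨x⟩ := (inferInstance : Nonempty X.left)
    exact ⟨x, Subsingleton.elim _ _⟩
  have hgen : genericPoint X.left ∈ X.hom.smoothLocus := Scheme.Hom.mem_smoothLocus.mpr
    (Groth.Agent.LibGenSmooth29.formallySmooth_stalkMap_genericPoint k X.hom hf hdom)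
  rw [← Scheme.Hom.smoothLocus_eq_top_iff, ← TopologicalSpace.Opens.coe_eq_univ,
    ← not_ne_iff, ← Set.nonempty_compl]
  intro H
  obtain ⟨g₁, hg₁, hg₁c⟩ :=
    nonempty_inter_closedPoints H X.hom.smoothLocus.2.isClosed_compl.isLocallyClosed
  obtain ⟨h₁, hh₁ : h₁ ∈ X.hom.smoothLocus, hh₁c⟩ := nonempty_inter_closedPoints
    (⟨_, hgen⟩ : (X.hom.smoothLocus : Set X.left).Nonempty) X.hom.smoothLocus.2.isLocallyClosed
  obtain ⟨τ, hτ⟩ := exists_pt_of_isClosed k X g₁ hg₁c
  obtain ⟨ρ, hρ⟩ := exists_pt_of_isClosed k X h₁ hh₁c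
  obtain ⟨σ, hσ⟩ := htrans τ ρ
  have h3 : τ ≫ actPt a σ = ρ := by
    rw [comp_actPt, toUnit_unique (toUnit (𝟙_ (Over (Spec (CommRingCat.of k))))) (𝟙 _),
      Category.id_comp, hσ]
  have h4 : (actPt a σ).left g₁ = h₁ := by
    rw [← hτ, ← hρ, ← h3, Over.comp_left, Scheme.Hom.comp_apply]
  haveI : IsIso (actPt a σ).left := inferInstanceAs (IsIso ((Over.forget _).map (actPt a σ)))
  apply hg₁
  have h5 : (actPt a σ).left ≫ X.hom = X.hom := Over.w (actPt a σ)
  have h6 := Scheme.Hom.preimage_smoothLocus_eq (actPt a σ).left X.hom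
  rw [← h4] at hh₁
  have h7 : g₁ ∈ (actPt a σ).left ⁻¹ᵁ X.hom.smoothLocus := hh₁
  rw [h6] at h7
  have h8 : ((actPt a σ).left ≫ X.hom).smoothLocus = X.hom.smoothLocus := by
    congr 1
  rw [h8] at h7
  exact h7

/-- a group variety in characteristic zero is smooth -/
theorem smooth_group [IsIntegral G.left] [LocallyOfFiniteType G.hom] : Smooth G.hom := by
  refine smooth_of_homogeneous k G G (leftMul G) fun x x' => ⟨x' * x⁻¹, ?_⟩
  show CartesianMonoidalCategory.lift (x' * x⁻¹) x ≫ μ[G] = x'
  rw [← Hom.mul_def, inv_mul_cancel_right]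

end Homog

end Groth.Agent.LibKleiman29
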