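import Mathlib
import Groth.Prelude
import Groth.Agent.S7623
import Groth.Agent.S6295
import Groth.Agent.Lib.Helper24.SmoothRegular
import Groth.Agent.Lib.Helper15.Regular

/-!
# Transcendence degree at minimal primes of a smooth algebra over a perfect field (helper29)

`trdeg_quotient_minimalPrime`: for `R` smooth over a perfect field `k` and `q` a minimal prime,
`trdeg_k (R/q)` is the rank of `Ω_{R/k}` at `q`.
-/

set_option autoImplicit false
set_option linter.style.haveILetI false
universe u

open TensorProduct

namespace Groth.Agent.LibSmoothDim29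

theorem isReduced_of_smooth (k R : Type u) [Field k] [CommRing R] [Algebra k R]
    [Algebra.Smooth k R] : IsReduced R := by
  haveI : Algebra.FiniteType k R := inferInstance
  haveI hN : IsNoetherianRing R := Algebra.FiniteType.isNoetherianRing k R
  haveI hreg : IsRegularRing R :=
    Groth.Agent.Lib.Helper24.SmoothRegular.isRegularRing_of_smooth k R
  refine isReduced_ofLocalizationMaximal R fun m hm => ?_
  have : IsRegularLocalRing (Localization.AtPrime m) := inferInstance
  have := Groth.Agent.Lib.helper15.isDomain_of_isRegularLocalRing (Localization.AtPrime m)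
  infer_instance

theorem trdeg_quotient_minimalPrime (k R : Type u) [Field k] [PerfectField k] [CommRing R]
    [Algebra k R] [Algebra.Smooth k R] (q : PrimeSpectrum R) (hq : q.asIdeal ∈ minimalPrimes R) :
    Algebra.trdeg k (R ⧸ q.asIdeal) = (Module.rankAtStalk Ω[R⁄k] q : Cardinal.{u}) := by
  haveI : Algebra.FiniteType k R := inferInstance
  haveI hN : IsNoetherianRing R := Algebra.FiniteType.isNoetherianRing k R
  haveI := isReduced_of_smooth k R
  have hfield : IsField (Localization.AtPrime q.asIdeal) := (Groth.Agent.S6295.result R).1 q hq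
  have : Algebra.FormallyEtale R q.asIdeal.ResidueField := by
    have : Algebra.FormallyEtale R (Localization.AtPrime q.asIdeal) :=
      .of_isLocalization q.asIdeal.primeCompl
    have : Algebra.FormallyEtale (Localization.AtPrime q.asIdeal) q.asIdeal.ResidueField := by
      have hbij : Function.Bijective
          (algebraMap (Localization.AtPrime q.asIdeal) q.asIdeal.ResidueField) := by
        refine ⟨?_, IsLocalRing.residue_surjective⟩
        letI := hfield.toField
        exact (algebraMap (Localization.AtPrime q.asIdeal) q.asIdeal.ResidueField).injective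
      exact Algebra.FormallyEtale.of_equiv (AlgEquiv.ofBijective (Algebra.ofId _ _) hbij)
    exact Algebra.FormallyEtale.comp R (Localization.AtPrime q.asIdeal) q.asIdeal.ResidueField
  have h3 : Module.finrank q.asIdeal.ResidueField Ω[q.asIdeal.ResidueField⁄k] =
      Module.rankAtStalk Ω[R⁄k] q := by
    rw [← Ideal.finrank_fiber_eq_rankAtStalk (M := Ω[R⁄k]) q.asIdeal]
    exact (KaehlerDifferential.tensorKaehlerEquivOfFormallyEtale k R
      q.asIdeal.ResidueField).symm.finrank_eq
  have : Algebra.EssFiniteType k q.asIdeal.ResidueField := by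
    have : Algebra.EssFiniteType R (Localization.AtPrime q.asIdeal) :=
      Algebra.EssFiniteType.of_isLocalization _ q.asIdeal.primeCompl
    have : Algebra.EssFiniteType k (Localization.AtPrime q.asIdeal) :=
      Algebra.EssFiniteType.comp k R (Localization.AtPrime q.asIdeal)
    have : Algebra.FiniteType (Localization.AtPrime q.asIdeal) q.asIdeal.ResidueField :=
      Algebra.FiniteType.of_surjective
        (Algebra.ofId (Localization.AtPrime q.asIdeal) q.asIdeal.ResidueField)
        IsLocalRing.residue_surjective
    exact Algebra.EssFiniteType.comp k (Localization.AtPrime q.asIdeal) q.asIdeal.ResidueField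
  have h4 := Groth.Agent.S7623.finrank_kaehler_eq_trdeg k q.asIdeal.ResidueField
  rw [h3] at h4
  rw [h4]
  haveI : IsDomain (R ⧸ q.asIdeal) := Ideal.Quotient.isDomain q.asIdeal
  haveI : Algebra.IsAlgebraic (R ⧸ q.asIdeal) q.asIdeal.ResidueField :=
    IsLocalization.isAlgebraic q.asIdeal.ResidueField (nonZeroDivisors (R ⧸ q.asIdeal))
  have h5 := _root_.trdeg_add_eq k (R ⧸ q.asIdeal) (A := q.asIdeal.ResidueField)
  have h6 : Algebra.trdeg (R ⧸ q.asIdeal) q.asIdeal.ResidueField = 0 := _root_.trdeg_eq_zero
  rw [h6, add_zero] at h5
  exact h5

end Groth.Agent.LibSmoothDim29
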