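import Mathlib
import Groth.Prelude
import Groth.Agent.LibSmoothDim29a
import Groth.Agent.LibSmoothTower29b
import Groth.Agent.LibOmegaReg29a
import Groth.Agent.Lib.Helper3.RelDim
import Groth.Agent.Lib.Helper3.OpenAtEquidim2
import Groth.Agent.Lib.Helper3.ProperIsolDim

/-!
# Dimension of smooth schemes of pure relative dimension over a perfect field (helper29)

* `rankAtStalk_kaehler_sections` : for `T → Spec k` smooth of relative dimension `d`, the Kähler
  differentials of the coordinate rings have rank `d` everywhere;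
* `dim_irreducibleComponent` : every irreducible component of `T` has dimension `d`;
* `dim_eq` : a nonempty such `T` has dimension `d`.
-/

set_option autoImplicit false
set_option linter.style.haveILetI false
universe u

open CategoryTheory AlgebraicGeometry TensorProduct
open Groth.Agent.Lib.helper3.FTField
open Groth.Agent.Lib.helper16.FLF Groth.Agent.Lib.helper7

namespace Groth.Agent.LibSmoothDim29

variable (k : Type u) [Field k] (T : Scheme.{u}) [T.Over (Spec (CommRingCat.of k))]

theorem rankAtStalk_kaehler_sections (d : ℕ)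
    [SmoothOfRelativeDimension d (T ↘ Spec (CommRingCat.of k))]
    [QuasiSeparated (T ↘ Spec (CommRingCat.of k))] {U : T.Opens} (hU : IsAffineOpen U)
    (p : PrimeSpectrum Γ(T, U)) :
    letI := (sec k T U).toAlgebra
    Module.rankAtStalk Ω[Γ(T, U)⁄k] p = d := by
  letI := (sec k T U).toAlgebra
  have hΩ := Groth.Agent.LibSmoothTower29.isFinLocFreeOfRank_of_smoothOfRelativeDimension
    (T ↘ Spec (CommRingCat.of k)) d
  obtain ⟨ψ⟩ := Groth.Agent.LibOmegaReg29.exists_sectionsEquiv_sec k T
    (OmegaSh.dOmega (T ↘ Spec (CommRingCat.of k)))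
    (OmegaUniv.isUniversal_dOmega (T ↘ Spec (CommRingCat.of k))) hU
  rw [← Module.rankAtStalk_eq_of_equiv ψ]
  exact rankAtStalk_sections (Omega.sheaf (T ↘ Spec (CommRingCat.of k))) hΩ hU p

open Groth.Agent.Lib.helper3.DimIneq Groth.Agent.Lib.helper3.OpenAtDim in
/-- **Dimension of the irreducible components of a smooth scheme of pure relative dimension `d`
over a perfect field.** -/
theorem dim_irreducibleComponent [PerfectField k] (d : ℕ)
    [SmoothOfRelativeDimension d (T ↘ Spec (CommRingCat.of k))]
    [QuasiSeparated (T ↘ Spec (CommRingCat.of k))]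
    (Z : Set T) (hZ : Z ∈ irreducibleComponents T) :
    topologicalKrullDim ↥Z = (d : WithBot ℕ∞) := by
  haveI : Smooth (T ↘ Spec (CommRingCat.of k)) :=
    SmoothOfRelativeDimension.smooth d (T ↘ Spec (CommRingCat.of k))
  haveI : LocallyOfFiniteType (T ↘ Spec (CommRingCat.of k)) := inferInstance
  obtain ⟨ζ, hζ⟩ := QuasiSober.sober hZ.1 (isClosed_of_mem_irreducibleComponents Z hZ)
  have hZ' : Z = closure {ζ} := hζ.def.symm
  subst hZ'
  obtain ⟨W, hW, hζW, -⟩ := exists_isAffineOpen_mem_and_subset (x := ζ) (U := ⊤) trivial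
  have hmin := mem_minimalPrimes_of_closure_mem_irreducibleComponents hW ζ hζW hZ
  refine dim_closure_eq_trdeg k T ζ d ?_
  rw [trdeg_residueField_eq k T hW ζ hζW]
  letI := (sec k T W).toAlgebra
  haveI : Algebra.Smooth k Γ(T, W) :=
    RingHom.smooth_algebraMap.mp (Groth.Agent.LibSmoothTower29.sec_smooth k T hW)
  have h1 := trdeg_quotient_minimalPrime k Γ(T, W) (hW.primeIdealOf ⟨ζ, hζW⟩) hmin
  rw [rankAtStalk_kaehler_sections k T d hW] at h1
  rw [← h1, ← td_algebraMap]

/-- a nonempty smooth scheme of pure relative dimension `d` over a perfect field has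
dimension `d` -/
theorem dim_eq [PerfectField k] (d : ℕ)
    [SmoothOfRelativeDimension d (T ↘ Spec (CommRingCat.of k))]
    [QuasiSeparated (T ↘ Spec (CommRingCat.of k))] [Nonempty T] :
    topologicalKrullDim T = (d : WithBot ℕ∞) := by
  apply le_antisymm
  · exact Groth.Agent.Lib.helper3.ProperIsolDim.dim_le_of_irreducibleComponents d
      (fun Z hZ => (dim_irreducibleComponent k T d Z hZ).le)
  · obtain ⟨x⟩ := ‹Nonempty T›
    have hZ := irreducibleComponent_mem_irreducibleComponents x
    rw [← dim_irreducibleComponent k T d _ hZ]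
    exact topologicalKrullDim_subspace_le T _

end Groth.Agent.LibSmoothDim29
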