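import Mathlib
import Groth.Prelude
import Groth.Agent.LibSmoothDim29b
import Groth.Agent.LibCotTan29b

/-!
# Smooth morphisms between smooth varieties: relative dimension and fibres (helper29)

* `smooth_of_cotangentMapAt_injective` : injective cotangent maps at closed points ⇒ smooth;
* `exists_relDim_of_smooth` : a smooth `k`-morphism between smooth irreducible `k`-schemes of
  dimensions `dX`, `dY` has `dX = dY + n` and is smooth of relative dimension `n`;
* `dim_fibre_irreducibleComponent` : fibres over closed points of a morphism smooth of relative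
  dimension `n` are equidimensional of dimension `n`;
* `denseRange_and_fibres` (the statement of S19460).
-/

set_option autoImplicit false
set_option linter.style.haveILetI false
universe u

open CategoryTheory AlgebraicGeometry TensorProduct IsLocalRing
open Groth.Agent.Lib.helper3.FTField
open Groth.Agent.LibCotTan29

namespace Groth.Agent.LibSmoothDim29

section rel

variable (k : Type u) [Field k] [IsAlgClosed k] {X Y : Scheme.{u}}
  [X.Over (Spec (CommRingCat.of k))] [Y.Over (Spec (CommRingCat.of k))] (f : X ⟶ Y)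
  (hf : f ≫ (Y ↘ Spec (CommRingCat.of k)) = (X ↘ Spec (CommRingCat.of k)))
  [LocallyOfFiniteType (X ↘ Spec (CommRingCat.of k))] [Smooth (X ↘ Spec (CommRingCat.of k))]
  [LocallyOfFiniteType (Y ↘ Spec (CommRingCat.of k))]

include hf in
/-- injective cotangent maps at all closed points ⇒ smooth -/
theorem smooth_of_cotangentMapAt_injective [CompactSpace X]
    (h : ∀ x : X, IsClosed ({x} : Set X) →
      Function.Injective (FixPt.cotangentMapAt f x (f x) rfl)) : Smooth f := by
  haveI := locallyOfFinitePresentation_of_over k f hf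
  have htop : f.smoothLocus = ⊤ := by
    by_contra hne
    have hne' : ((f.smoothLocus : Set X)ᶜ).Nonempty := by
      rw [Set.nonempty_compl]
      intro hu
      exact hne (TopologicalSpace.Opens.ext hu)
    obtain ⟨x, hxS, hxc⟩ := IsClosed.exists_closed_singleton
      (f.smoothLocus.isOpen.isClosed_compl) hne'
    exact hxS (Scheme.Hom.mem_smoothLocus.mpr
      ((formallySmooth_stalkMap_iff_cotangentMapAt_injective k f hf x hxc).mpr (h x hxc)))
  exact Scheme.Hom.smoothLocus_eq_top_iff.mp htop

include hf in
/-- a smooth `k`-morphism between smooth irreducible `k`-schemes of dimensions `dX`, `dY` has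
`dY ≤ dX` and is smooth of relative dimension `dX - dY`. -/
theorem exists_relDim_of_smooth [IrreducibleSpace X] [IrreducibleSpace Y]
    [Smooth (Y ↘ Spec (CommRingCat.of k))] [Smooth f] (dX dY : ℕ)
    (hX : topologicalKrullDim X = (dX : WithBot ℕ∞))
    (hY : topologicalKrullDim Y = (dY : WithBot ℕ∞)) :
    ∃ n : ℕ, dX = dY + n ∧ SmoothOfRelativeDimension n f := by
  obtain ⟨x⟩ := (inferInstance : Nonempty X)
  obtain ⟨V, hV, U, hU, hx, e, hstd⟩ := Smooth.exists_isStandardSmooth f x
  letI algA : Algebra k Γ(Y, V) := (sec k Y V).toAlgebra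
  letI algB : Algebra k Γ(X, U) := (sec k X U).toAlgebra
  letI algAB : Algebra Γ(Y, V) Γ(X, U) := (f.appLE V U e).hom.toAlgebra
  haveI : IsScalarTower k Γ(Y, V) Γ(X, U) :=
    IsScalarTower.of_algebraMap_eq'
      (Groth.Agent.LibSmoothTower29.appLE_comp_sec k f hf e).symm
  obtain ⟨hfinA, hprojA, hrkA⟩ :=
    Groth.Agent.LibSmoothTower29.kaehler_sections_rank k Y dY hY hV (f x) (e hx)
  obtain ⟨hfinB, hprojB, hrkB⟩ :=
    Groth.Agent.LibSmoothTower29.kaehler_sections_rank k X dX hX hU x hx
  haveI : Algebra.Smooth k Γ(X, U) :=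
    RingHom.smooth_algebraMap.mp (Groth.Agent.LibSmoothTower29.sec_smooth k X hU)
  haveI : Algebra.IsStandardSmooth Γ(Y, V) Γ(X, U) := hstd
  haveI : Nontrivial Γ(X, U) := (hU.primeIdealOf ⟨x, hx⟩).nontrivial
  haveI : Module.Finite Γ(X, U) Ω[Γ(X, U)⁄Γ(Y, V)] := inferInstance
  obtain ⟨l, hl⟩ := (Groth.Agent.LibJZ29.formallySmooth_tower_iff k Γ(Y, V) Γ(X, U)).mp
    inferInstance
  have hinj : Function.Injective (KaehlerDifferential.mapBaseChange k Γ(Y, V) Γ(X, U)) :=
    Function.LeftInverse.injective (g := l) (fun z => LinearMap.congr_fun hl z)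
  have hex := KaehlerDifferential.exact_mapBaseChange_map k Γ(Y, V) Γ(X, U)
  have hsurj := KaehlerDifferential.map_surjective k Γ(Y, V) Γ(X, U)
  obtain ⟨s, hs⟩ := Module.projective_lifting_property
    (KaehlerDifferential.map k Γ(Y, V) Γ(X, U) Γ(X, U)) LinearMap.id hsurj
  obtain ⟨E, -, -⟩ := hex.splitSurjectiveEquiv hinj ⟨s, hs⟩
  have h1 := congrFun (Module.rankAtStalk_eq_of_equiv E) (hU.primeIdealOf ⟨x, hx⟩)
  rw [Module.rankAtStalk_prod, Pi.add_apply, Module.rankAtStalk_baseChange, hrkA, hrkB,
    Module.rankAtStalk_eq_finrank_of_free] at h1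
  simp only [Pi.natCast_def, Nat.cast_id] at h1
  refine ⟨Module.finrank Γ(X, U) Ω[Γ(X, U)⁄Γ(Y, V)], h1, ?_⟩
  refine smoothOfRelativeDimension_of_smooth k f hf _ dY hY ?_
  rw [hX, h1]

end rel

section fib

attribute [local instance] Curv2.stalkAlgebra in
/-- the irreducible components of the fibre of a morphism smooth of relative dimension `n` over a
closed point have dimension `n` -/
theorem dim_fibre_irreducibleComponent (k : Type u) [Field k] [IsAlgClosed k] {X Y : Scheme.{u}}
    [Y.Over (Spec (CommRingCat.of k))] [LocallyOfFiniteType (Y ↘ Spec (CommRingCat.of k))]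
    (f : X ⟶ Y) (y : Y) (hy : IsClosed ({y} : Set Y)) (n : ℕ)
    [SmoothOfRelativeDimension n f] (Z : Set ↥(f.fiber y))
    (hZ : Z ∈ irreducibleComponents ↥(f.fiber y)) :
    topologicalKrullDim ↥Z = (n : WithBot ℕ∞) := by
  letI := Groth.Agent.Lib.helper3.FibreField.fiberOver f y
  haveI : SmoothOfRelativeDimension n
      ((f.fiber y) ↘ Spec (CommRingCat.of (Y.residueField y))) :=
    haveI := smoothOfRelativeDimension_isStableUnderBaseChange (n := n)
    MorphismProperty.pullback_snd (P := @SmoothOfRelativeDimension n) _ _ inferInstance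
  haveI : PerfectField (Y.residueField y) := by
    have hb := stalk_residue_bijective k Y y hy
    exact PerfectField.of_ringEquiv (RingEquiv.ofBijective _ hb)
  haveI : Smooth ((f.fiber y) ↘ Spec (CommRingCat.of (Y.residueField y))) :=
    SmoothOfRelativeDimension.smooth n _
  haveI : IsLocallyNoetherian (f.fiber y) :=
    LocallyOfFiniteType.isLocallyNoetherian
      ((f.fiber y) ↘ Spec (CommRingCat.of (Y.residueField y)))
  haveI : QuasiSeparated ((f.fiber y) ↘ Spec (CommRingCat.of (Y.residueField y))) :=
    inferInstance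
  exact dim_irreducibleComponent (Y.residueField y) (f.fiber y) n Z hZ

end fib

section main

variable (k : Type u) [Field k] [IsAlgClosed k] {X Y : Scheme.{u}}
  [X.Over (Spec (CommRingCat.of k))] [Y.Over (Spec (CommRingCat.of k))] (f : X ⟶ Y)
  (hf : f ≫ (Y ↘ Spec (CommRingCat.of k)) = (X ↘ Spec (CommRingCat.of k)))
  [LocallyOfFiniteType (X ↘ Spec (CommRingCat.of k))] [Smooth (X ↘ Spec (CommRingCat.of k))]
  [LocallyOfFiniteType (Y ↘ Spec (CommRingCat.of k))] [Smooth (Y ↘ Spec (CommRingCat.of k))]
  [IrreducibleSpace X] [IrreducibleSpace Y] [CompactSpace X]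

include hf in
/-- Hartshorne III.10.4/10.5-type statement: injective cotangent maps at closed points ⇒ dominant,
`dim Y ≤ dim X`, fibres over closed points smooth and equidimensional of dimension
`dim X - dim Y`. -/
theorem denseRange_and_fibres (dX dY : ℕ)
    (hX : topologicalKrullDim X = (dX : WithBot ℕ∞))
    (hY : topologicalKrullDim Y = (dY : WithBot ℕ∞))
    (hT : ∀ x : X, IsClosed ({x} : Set X) →
      Function.Injective (FixPt.cotangentMapAt f x (f x) rfl)) :
    DenseRange f.base ∧ dY ≤ dX ∧
      ∀ y : Y, IsClosed ({y} : Set Y) → y ∈ Set.range f.base →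
        Smooth (f.fiberToSpecResidueField y) ∧
          ∀ Z ∈ irreducibleComponents ↥(f.fiber y),
            topologicalKrullDim ↥Z = ((dX - dY : ℕ) : WithBot ℕ∞) := by
  haveI := smooth_of_cotangentMapAt_injective k f hf hT
  obtain ⟨n, hn, hrel⟩ := exists_relDim_of_smooth k f hf dX dY hX hY
  haveI := hrel
  refine ⟨?_, by omega, fun y hy _ => ⟨?_, fun Z hZ => ?_⟩⟩
  · haveI := locallyOfFinitePresentation_of_over k f hf
    have hopen : IsOpen (Set.range f.base) := f.isOpenMap.isOpen_range
    exact hopen.dense (Set.range_nonempty _)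
  · exact MorphismProperty.pullback_snd _ _ inferInstance
  · have h1 : dX - dY = n := by omega
    rw [h1]
    exact dim_fibre_irreducibleComponent k f y hy n Z hZ

end main

end Groth.Agent.LibSmoothDim29
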