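import Mathlib
import Groth.Prelude
import Groth.Agent.LibSmoothDim29c
import Groth.Agent.LibOrbitSmooth29a

/-!
# Kleiman transversality, part 3: relative dimensions of smooth morphisms of smooth `k`-schemes
(helper29)

No irreducibility assumptions; `k` is an arbitrary field.

* `smoothLocus_comp_isOpenImmersion` : `(f ≫ j).smoothLocus = f.smoothLocus` for an open
  immersion `j`;
* `relDim_add` : for a smooth `k`-morphism `h : P ⟶ B` with `P`, `B` smooth of relative dimensions
  `a`, `b` over `k`: on a standard smooth chart `a = b + rank Ω`;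
* `smoothOfRelativeDimension_of_add` : if `a = b + m` then `h` is smooth of relative dimension `m`;
* `exists_add_of_smooth` : if `P` is nonempty then `a = b + m` for some `m`.
-/

set_option autoImplicit false
set_option linter.style.haveILetI false
universe u

open CategoryTheory AlgebraicGeometry TensorProduct IsLocalRing
open Groth.Agent.Lib.helper3.FTField

namespace Groth.Agent.LibKleiman29

section SmoothLocus

variable {X Y Z : Scheme.{u}}

/-- the smooth locus is not changed by composing with an open immersion into a bigger target -/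
theorem smoothLocus_comp_isOpenImmersion (f : X ⟶ Y) (j : Y ⟶ Z) [IsOpenImmersion j]
    [LocallyOfFinitePresentation f] :
    (f ≫ j).smoothLocus = f.smoothLocus := by
  ext x
  change ((f ≫ j).stalkMap x).hom.FormallySmooth ↔ (f.stalkMap x).hom.FormallySmooth
  rw [Scheme.Hom.stalkMap_comp]
  exact RingHom.FormallySmooth.respectsIso.cancel_left_isIso (j.stalkMap (f x)) (f.stalkMap x)

end SmoothLocus

section RelDim

variable (k : Type u) [Field k] {P B : Scheme.{u}}
  [P.Over (Spec (CommRingCat.of k))] [B.Over (Spec (CommRingCat.of k))] (h : P ⟶ B)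
  (hh : h ≫ (B ↘ Spec (CommRingCat.of k)) = (P ↘ Spec (CommRingCat.of k)))
  (a b : ℕ) [SmoothOfRelativeDimension a (P ↘ Spec (CommRingCat.of k))]
  [SmoothOfRelativeDimension b (B ↘ Spec (CommRingCat.of k))]
  [QuasiSeparated (P ↘ Spec (CommRingCat.of k))] [QuasiSeparated (B ↘ Spec (CommRingCat.of k))]

include hh in
/-- additivity of the ranks of differentials on a standard smooth chart -/
theorem relDim_add {V : B.Opens} (hV : IsAffineOpen V) {U : P.Opens} (hU : IsAffineOpen U)
    (e : U ≤ h ⁻¹ᵁ V) (x : P) (hx : x ∈ U) (hstd : (h.appLE V U e).hom.IsStandardSmooth) :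
    letI := (h.appLE V U e).hom.toAlgebra
    a = b + Module.finrank Γ(P, U) Ω[Γ(P, U)⁄Γ(B, V)] := by
  haveI : Smooth (P ↘ Spec (CommRingCat.of k)) :=
    SmoothOfRelativeDimension.smooth a (P ↘ Spec (CommRingCat.of k))
  haveI : Smooth (B ↘ Spec (CommRingCat.of k)) :=
    SmoothOfRelativeDimension.smooth b (B ↘ Spec (CommRingCat.of k))
  letI algA : Algebra k Γ(B, V) := (sec k B V).toAlgebra
  letI algB : Algebra k Γ(P, U) := (sec k P U).toAlgebra
  letI algAB : Algebra Γ(B, V) Γ(P, U) := (h.appLE V U e).hom.toAlgebra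
  haveI : IsScalarTower k Γ(B, V) Γ(P, U) :=
    IsScalarTower.of_algebraMap_eq'
      (Groth.Agent.LibSmoothTower29.appLE_comp_sec k h hh e).symm
  have hrkA := Groth.Agent.LibSmoothDim29.rankAtStalk_kaehler_sections k B b hV
  have hrkB := Groth.Agent.LibSmoothDim29.rankAtStalk_kaehler_sections k P a hU
  haveI : Algebra.Smooth k Γ(P, U) :=
    RingHom.smooth_algebraMap.mp (Groth.Agent.LibSmoothTower29.sec_smooth k P hU)
  haveI : Algebra.Smooth k Γ(B, V) :=
    RingHom.smooth_algebraMap.mp (Groth.Agent.LibSmoothTower29.sec_smooth k B hV)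
  haveI : Algebra.IsStandardSmooth Γ(B, V) Γ(P, U) := hstd
  haveI : Nontrivial Γ(P, U) := (hU.primeIdealOf ⟨x, hx⟩).nontrivial
  haveI : Module.Finite Γ(P, U) Ω[Γ(P, U)⁄Γ(B, V)] := inferInstance
  haveI hfinA : Module.Finite Γ(B, V) Ω[Γ(B, V)⁄k] := inferInstance
  haveI hprojA : Module.Projective Γ(B, V) Ω[Γ(B, V)⁄k] := inferInstance
  haveI hfinB : Module.Finite Γ(P, U) Ω[Γ(P, U)⁄k] := inferInstance
  haveI hprojB : Module.Projective Γ(P, U) Ω[Γ(P, U)⁄k] := inferInstance
  obtain ⟨l, hl⟩ := (Groth.Agent.LibJZ29.formallySmooth_tower_iff k Γ(B, V) Γ(P, U)).mp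
    inferInstance
  have hinj : Function.Injective (KaehlerDifferential.mapBaseChange k Γ(B, V) Γ(P, U)) :=
    Function.LeftInverse.injective (g := l) (fun z => LinearMap.congr_fun hl z)
  have hex := KaehlerDifferential.exact_mapBaseChange_map k Γ(B, V) Γ(P, U)
  have hsurj := KaehlerDifferential.map_surjective k Γ(B, V) Γ(P, U)
  obtain ⟨s, hs⟩ := Module.projective_lifting_property
    (KaehlerDifferential.map k Γ(B, V) Γ(P, U) Γ(P, U)) LinearMap.id hsurj
  obtain ⟨E, -, -⟩ := hex.splitSurjectiveEquiv hinj ⟨s, hs⟩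
  have h1 := congrFun (Module.rankAtStalk_eq_of_equiv E) (hU.primeIdealOf ⟨x, hx⟩)
  rw [Module.rankAtStalk_prod, Pi.add_apply, Module.rankAtStalk_baseChange, hrkA, hrkB,
    Module.rankAtStalk_eq_finrank_of_free] at h1
  simpa only [Pi.natCast_def, Nat.cast_id] using h1

include hh in
/-- a smooth `k`-morphism between smooth `k`-schemes of pure relative dimensions `b + m`, `b` is
smooth of relative dimension `m` -/
theorem smoothOfRelativeDimension_of_add [Smooth h] (m : ℕ) (hab : a = b + m) :
    SmoothOfRelativeDimension m h := by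
  refine ⟨fun x => ?_⟩
  obtain ⟨V, hV, U, hU, hx, e, hstd⟩ := Smooth.exists_isStandardSmooth h x
  refine ⟨V, hV, U, hU, hx, e, ?_⟩
  have h1 := relDim_add k h hh a b hV hU e x hx hstd
  letI algAB : Algebra Γ(B, V) Γ(P, U) := (h.appLE V U e).hom.toAlgebra
  haveI : Algebra.IsStandardSmooth Γ(B, V) Γ(P, U) := hstd
  haveI : Nontrivial Γ(P, U) := (hU.primeIdealOf ⟨x, hx⟩).nontrivial
  have h2 : Module.finrank Γ(P, U) Ω[Γ(P, U)⁄Γ(B, V)] = m := by omega
  have hrank : Module.rank Γ(P, U) Ω[Γ(P, U)⁄Γ(B, V)] = m := by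
    rw [← Module.finrank_eq_rank]
    exact_mod_cast h2
  exact (Algebra.IsStandardSmoothOfRelativeDimension.iff_of_isStandardSmooth m).mpr hrank

include hh in
/-- if moreover the source is nonempty then `b ≤ a` -/
theorem exists_add_of_smooth [Smooth h] [Nonempty P] : ∃ m : ℕ, a = b + m := by
  obtain ⟨x⟩ := ‹Nonempty P›
  obtain ⟨V, hV, U, hU, hx, e, hstd⟩ := Smooth.exists_isStandardSmooth h x
  exact ⟨_, relDim_add k h hh a b hV hU e x hx hstd⟩

end RelDim

end Groth.Agent.LibKleiman29
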