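import Mathlib
import Groth.Prelude
import Groth.Agent.LibKleiman29c
import Groth.Agent.LibGenSmoothII29b
import Groth.Agent.Lib.Helper3.FTFieldClosureDim

/-!
# Kleiman transversality, part 4: generic smoothness of the fibres (helper29)

* `exists_dim_nat` : an integral scheme locally of finite type over a field has finite dimension;
* `smoothOfRelativeDimension_of_isIntegral` : an integral smooth scheme of dimension `d` over an
  algebraically closed field is smooth of relative dimension `d`;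
* `exists_open_fibres_smooth` : for a `k`-morphism `q : W ⟶ Gs` (`k` algebraically closed of
  characteristic zero, `W` smooth of pure relative dimension `w`, quasi-compact, `Gs` integral
  smooth of relative dimension `dG`) there is a nonempty open `V ⊆ Gs` such that the fibre of `q`
  over any `k`-point of `V` is smooth, and empty or of dimension `w - dG`.
-/

set_option autoImplicit false
set_option linter.style.haveILetI false
universe u

open CategoryTheory AlgebraicGeometry TensorProduct IsLocalRing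
open Groth.Agent.Lib.helper3.FTField

namespace Groth.Agent.LibKleiman29

section Integral

/-- an integral scheme locally of finite type over a field has finite dimension -/
theorem exists_dim_nat (k : Type u) [Field k] (T : Scheme.{u}) [T.Over (Spec (CommRingCat.of k))]
    [LocallyOfFiniteType (T ↘ Spec (CommRingCat.of k))] [IsIntegral T] :
    ∃ d : ℕ, topologicalKrullDim T = (d : WithBot ℕ∞) := by
  obtain ⟨d, hd⟩ := exists_nat_trdeg_residueField k T (genericPoint T)
  refine ⟨d, ?_⟩
  have h1 := dim_closure_eq_trdeg k T (genericPoint T) d hd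
  have h2 : closure ({genericPoint T} : Set T) = Set.univ := (genericPoint_spec T).def
  rw [h2] at h1
  rw [← h1]
  exact ((Homeomorph.Set.univ T).isHomeomorph.topologicalKrullDim_eq _).symm

theorem smoothOfRelativeDimension_of_isIntegral (k : Type u) [Field k] (T : Scheme.{u})
    [T.Over (Spec (CommRingCat.of k))]
    [LocallyOfFiniteType (T ↘ Spec (CommRingCat.of k))] [IsIntegral T] [IsAlgClosed k]
    [Smooth (T ↘ Spec (CommRingCat.of k))] (d : ℕ)
    (hd : topologicalKrullDim T = (d : WithBot ℕ∞)) :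
    SmoothOfRelativeDimension d (T ↘ Spec (CommRingCat.of k)) := by
  letI : (Spec (CommRingCat.of k)).Over (Spec (CommRingCat.of k)) := ⟨𝟙 _⟩
  have hf : (T ↘ Spec (CommRingCat.of k)) ≫
      ((Spec (CommRingCat.of k)) ↘ Spec (CommRingCat.of k)) =
      (T ↘ Spec (CommRingCat.of k)) := Category.comp_id _
  haveI : LocallyOfFiniteType ((Spec (CommRingCat.of k)) ↘ Spec (CommRingCat.of k)) :=
    inferInstanceAs (LocallyOfFiniteType (𝟙 (Spec (CommRingCat.of k))))
  haveI : Smooth ((Spec (CommRingCat.of k)) ↘ Spec (CommRingCat.of k)) :=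
    inferInstanceAs (Smooth (𝟙 (Spec (CommRingCat.of k))))
  have h0 : topologicalKrullDim (Spec (CommRingCat.of k)) = ((0 : ℕ) : WithBot ℕ∞) := by
    change topologicalKrullDim (PrimeSpectrum k) = _
    rw [PrimeSpectrum.topologicalKrullDim_eq_ringKrullDim, ringKrullDim_eq_zero_of_field]
    rfl
  exact Groth.Agent.LibCotTan29.smoothOfRelativeDimension_of_smooth k
    (T ↘ Spec (CommRingCat.of k)) hf d 0 h0 (by rw [hd, zero_add])

end Integral

end Groth.Agent.LibKleiman29

namespace Groth.Agent.LibKleiman29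

section K1

open Groth.Agent.LibGenSmoothII29

variable (k : Type u) [Field k] [IsAlgClosed k] [CharZero k]
  {W Gs : Scheme.{u}} [W.Over (Spec (CommRingCat.of k))] [Gs.Over (Spec (CommRingCat.of k))]
  (q : W ⟶ Gs) (hq : q ≫ (Gs ↘ Spec (CommRingCat.of k)) = (W ↘ Spec (CommRingCat.of k)))
  (w dG : ℕ)
  [SmoothOfRelativeDimension w (W ↘ Spec (CommRingCat.of k))]
  [QuasiCompact (W ↘ Spec (CommRingCat.of k))]
  [SmoothOfRelativeDimension dG (Gs ↘ Spec (CommRingCat.of k))] [IsIntegral Gs]

include hq in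
/-- **generic smoothness of the fibres**: the fibres of `q : W ⟶ Gs` over the `k`-points of a
nonempty open of `Gs` are smooth of pure dimension `w - dG` (or empty). -/
theorem exists_open_fibres_smooth :
    ∃ V : Gs.Opens, (V : Set Gs).Nonempty ∧
      ∀ (T : Scheme.{u}) (t : T ⟶ Spec (CommRingCat.of k)) (u : T ⟶ W)
        (σ : Spec (CommRingCat.of k) ⟶ Gs), Set.range σ.base ⊆ (V : Set Gs) →
        IsPullback u t q σ →
        Smooth t ∧ (IsEmpty T ∨
          (dG ≤ w ∧ topologicalKrullDim T = ((w - dG : ℕ) : WithBot ℕ∞))) := by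
  haveI : Smooth (W ↘ Spec (CommRingCat.of k)) :=
    SmoothOfRelativeDimension.smooth w (W ↘ Spec (CommRingCat.of k))
  haveI : Smooth (Gs ↘ Spec (CommRingCat.of k)) :=
    SmoothOfRelativeDimension.smooth dG (Gs ↘ Spec (CommRingCat.of k))
  haveI : LocallyOfFiniteType (W ↘ Spec (CommRingCat.of k)) := inferInstance
  haveI : LocallyOfFiniteType (Gs ↘ Spec (CommRingCat.of k)) := inferInstance
  haveI : LocallyOfFinitePresentation q :=
    Groth.Agent.LibCotTan29.locallyOfFinitePresentation_of_over k q hq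
  obtain ⟨V, hVne, hV⟩ := exists_open_preimage_le_smoothLocus k q hq
  refine ⟨V, hVne, fun T t u σ hσV hpb => ?_⟩
  have hres : IsPullback (q ⁻¹ᵁ V).ι (q ∣_ V) q V.ι := (isPullback_morphismRestrict q V).flip
  let σ' : Spec (CommRingCat.of k) ⟶ (V : Scheme.{u}) :=
    IsOpenImmersion.lift V.ι σ (by rwa [Scheme.Opens.range_ι])
  have hσ' : σ' ≫ V.ι = σ := IsOpenImmersion.lift_fac _ _ _
  let u' : T ⟶ ((q ⁻¹ᵁ V : W.Opens) : Scheme.{u}) :=
    hres.lift u (t ≫ σ') (by rw [Category.assoc, hσ']; exact hpb.w)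
  have hu'1 : u' ≫ (q ⁻¹ᵁ V).ι = u := hres.lift_fst _ _ _
  have hu'2 : u' ≫ (q ∣_ V) = t ≫ σ' := hres.lift_snd _ _ _
  have hpb' : IsPullback u' t (q ∣_ V) σ' := by
    refine IsPullback.of_right ?_ hu'2 hres
    rw [hu'1, hσ']
    exact hpb
  -- the restricted morphism is smooth
  haveI : LocallyOfFinitePresentation (q ∣_ V) :=
    IsZariskiLocalAtTarget.restrict (P := @LocallyOfFinitePresentation) ‹_› V
  have hsm : Smooth (q ∣_ V) := by
    rw [← Scheme.Hom.smoothLocus_eq_top_iff, ← smoothLocus_comp_isOpenImmersion (q ∣_ V) V.ι]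
    have h8 : ((q ∣_ V) ≫ V.ι).smoothLocus = ((q ⁻¹ᵁ V).ι ≫ q).smoothLocus := by
      congr 1
      exact hres.w.symm
    rw [h8, ← Scheme.Hom.preimage_smoothLocus_eq, eq_top_iff]
    intro x _
    exact hV x.2
  -- relative dimensions
  letI : ((q ⁻¹ᵁ V : W.Opens) : Scheme.{u}).Over (Spec (CommRingCat.of k)) :=
    ⟨(q ⁻¹ᵁ V).ι ≫ (W ↘ Spec (CommRingCat.of k))⟩
  letI : (V : Scheme.{u}).Over (Spec (CommRingCat.of k)) :=
    ⟨V.ι ≫ (Gs ↘ Spec (CommRingCat.of k))⟩
  haveI i1 : SmoothOfRelativeDimension w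
      (((q ⁻¹ᵁ V : W.Opens) : Scheme.{u}) ↘ Spec (CommRingCat.of k)) :=
    IsZariskiLocalAtSource.comp (P := @SmoothOfRelativeDimension w)
      (inferInstanceAs (SmoothOfRelativeDimension w (W ↘ Spec (CommRingCat.of k)))) (q ⁻¹ᵁ V).ι
  haveI i2 : SmoothOfRelativeDimension dG ((V : Scheme.{u}) ↘ Spec (CommRingCat.of k)) :=
    IsZariskiLocalAtSource.comp (P := @SmoothOfRelativeDimension dG)
      (inferInstanceAs (SmoothOfRelativeDimension dG (Gs ↘ Spec (CommRingCat.of k)))) V.ι
  have hq' : (q ∣_ V) ≫ ((V : Scheme.{u}) ↘ Spec (CommRingCat.of k)) =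
      (((q ⁻¹ᵁ V : W.Opens) : Scheme.{u}) ↘ Spec (CommRingCat.of k)) := by
    change (q ∣_ V) ≫ V.ι ≫ (Gs ↘ Spec (CommRingCat.of k)) =
      (q ⁻¹ᵁ V).ι ≫ (W ↘ Spec (CommRingCat.of k))
    rw [← hq, ← Category.assoc, ← Category.assoc, hres.w]
  haveI : Smooth (((q ⁻¹ᵁ V : W.Opens) : Scheme.{u}) ↘ Spec (CommRingCat.of k)) :=
    SmoothOfRelativeDimension.smooth w _
  haveI : Smooth ((V : Scheme.{u}) ↘ Spec (CommRingCat.of k)) :=
    SmoothOfRelativeDimension.smooth dG _
  haveI : IsLocallyNoetherian ((q ⁻¹ᵁ V : W.Opens) : Scheme.{u}) :=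
    LocallyOfFiniteType.isLocallyNoetherian
      (((q ⁻¹ᵁ V : W.Opens) : Scheme.{u}) ↘ Spec (CommRingCat.of k))
  haveI : IsLocallyNoetherian (V : Scheme.{u}) :=
    LocallyOfFiniteType.isLocallyNoetherian ((V : Scheme.{u}) ↘ Spec (CommRingCat.of k))
  haveI : QuasiSeparated (((q ⁻¹ᵁ V : W.Opens) : Scheme.{u}) ↘ Spec (CommRingCat.of k)) :=
    inferInstance
  haveI : QuasiSeparated ((V : Scheme.{u}) ↘ Spec (CommRingCat.of k)) := inferInstance
  refine ⟨?_, ?_⟩
  · exact MorphismProperty.of_isPullback (P := @Smooth) hpb' hsm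
  · by_cases hT : IsEmpty T
    · exact Or.inl hT
    · right
      rw [not_isEmpty_iff] at hT
      obtain ⟨x⟩ := hT
      haveI : Nonempty ((q ⁻¹ᵁ V : W.Opens) : Scheme.{u}) := ⟨u' x⟩
      obtain ⟨e, he⟩ := exists_add_of_smooth k (q ∣_ V) hq' w dG
      have hrel : SmoothOfRelativeDimension e (q ∣_ V) :=
        smoothOfRelativeDimension_of_add k (q ∣_ V) hq' w dG e he
      letI : T.Over (Spec (CommRingCat.of k)) := ⟨t⟩
      haveI : SmoothOfRelativeDimension e (T ↘ Spec (CommRingCat.of k)) :=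
        haveI := smoothOfRelativeDimension_isStableUnderBaseChange (n := e)
        MorphismProperty.of_isPullback (P := @SmoothOfRelativeDimension e) hpb' hrel
      haveI : Smooth (T ↘ Spec (CommRingCat.of k)) := SmoothOfRelativeDimension.smooth e _
      haveI : IsLocallyNoetherian T :=
        LocallyOfFiniteType.isLocallyNoetherian (T ↘ Spec (CommRingCat.of k))
      haveI : QuasiSeparated (T ↘ Spec (CommRingCat.of k)) := inferInstance
      haveI : Nonempty T := ⟨x⟩
      refine ⟨by omega, ?_⟩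
      rw [Groth.Agent.LibSmoothDim29.dim_eq k T e]
      congr 2
      omega

end K1

end Groth.Agent.LibKleiman29
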