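import Mathlib
import Groth.Prelude
import Groth.Agent.LibKleiman29b
import Groth.Agent.LibKleiman29d

/-!
# Kleiman transversality, part 5: the theorem (helper29)

`k` algebraically closed of characteristic zero, `G` a group variety acting on `X` transitively
on `k`-points.

* `smooth_actOn` : for `Y` smooth over `k`, the map `G × Y ⟶ X`, `(σ, y) ↦ σ · f(y)` is smooth
  (generic smoothness + homogeneity);
* `kleiman` : **Kleiman's transversality theorem** (Hartshorne III.10.8) in the form of S10928: for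
  `k`-points `σ` in a nonempty open of `G` the fibre product `Y^σ ×_X Z` is smooth and is empty or
  of dimension `dim Y + dim Z - dim X`.
-/

set_option autoImplicit false
set_option linter.style.haveILetI false
universe u

open CategoryTheory CategoryTheory.Limits MonoidalCategory CartesianMonoidalCategory MonObj GrpObj
  AlgebraicGeometry
open Groth.Agent.LibOrbitSmooth29

namespace Groth.Agent.LibKleiman29

section K2

variable (k : Type u) [Field k] [IsAlgClosed k] [CharZero k]
  (G X : Over (Spec (CommRingCat.of k))) [GrpObj G] (a : AlgGrp.Action G X)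
  [IsIntegral G.left] [LocallyOfFiniteType G.hom] [QuasiCompact G.hom]
  [IsIntegral X.left] [LocallyOfFiniteType X.hom]
  (Y : Over (Spec (CommRingCat.of k))) (fY : Y ⟶ X) [Smooth Y.hom] [QuasiCompact Y.hom]

/-- `(σ, y) ↦ σ · f(y)` is smooth when `G` acts transitively on the `k`-points of `X` -/
theorem smooth_actOn
    (htrans : ∀ x x' : 𝟙_ (Over (Spec (CommRingCat.of k))) ⟶ X,
      ∃ σ : 𝟙_ (Over (Spec (CommRingCat.of k))) ⟶ G,
        CartesianMonoidalCategory.lift σ x ≫ a.act = x') :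
    Smooth (actOn a fY).left := by
  haveI hGsm : Smooth G.hom := smooth_group k G
  set h := (actOn a fY).left with hhdef
  letI : (G ⊗ Y).left.Over (Spec (CommRingCat.of k)) := ⟨(G ⊗ Y).hom⟩
  letI : X.left.Over (Spec (CommRingCat.of k)) := ⟨X.hom⟩
  haveI : LocallyOfFiniteType (X.left ↘ Spec (CommRingCat.of k)) := ‹LocallyOfFiniteType X.hom›
  haveI hPsm : Smooth (G ⊗ Y).hom := by
    rw [Over.tensorObj_hom]
    infer_instance
  haveI hPqc : QuasiCompact (G ⊗ Y).hom := by
    rw [Over.tensorObj_hom]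
    infer_instance
  haveI hPlft : LocallyOfFiniteType (G ⊗ Y).hom := inferInstance
  haveI : Smooth ((G ⊗ Y).left ↘ Spec (CommRingCat.of k)) := hPsm
  haveI : QuasiCompact ((G ⊗ Y).left ↘ Spec (CommRingCat.of k)) := hPqc
  haveI : LocallyOfFiniteType ((G ⊗ Y).left ↘ Spec (CommRingCat.of k)) := hPlft
  have hh : h ≫ (X.left ↘ Spec (CommRingCat.of k)) =
      ((G ⊗ Y).left ↘ Spec (CommRingCat.of k)) := Over.w (actOn a fY)
  haveI := Groth.Agent.LibCotTan29.locallyOfFinitePresentation_of_over k h hh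
  haveI : JacobsonSpace X.left := LocallyOfFiniteType.jacobsonSpace X.hom
  haveI : JacobsonSpace (G ⊗ Y).left := LocallyOfFiniteType.jacobsonSpace (G ⊗ Y).hom
  obtain ⟨V, hVne, hV⟩ :=
    Groth.Agent.LibGenSmoothII29.exists_open_preimage_le_smoothLocus k h hh
  rw [← Scheme.Hom.smoothLocus_eq_top_iff, ← TopologicalSpace.Opens.coe_eq_univ,
    ← not_ne_iff, ← Set.nonempty_compl]
  intro H
  obtain ⟨p₁, hp₁, hp₁c⟩ :=
    nonempty_inter_closedPoints H h.smoothLocus.2.isClosed_compl.isLocallyClosed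
  obtain ⟨x₀, hx₀, hx₀c⟩ := nonempty_inter_closedPoints hVne V.2.isLocallyClosed
  obtain ⟨pt, hpt⟩ := exists_pt_of_isClosed k (G ⊗ Y) p₁ hp₁c
  obtain ⟨ρ, hρ⟩ := exists_pt_of_isClosed k X x₀ hx₀c
  obtain ⟨σ, hσ⟩ := htrans (pt ≫ actOn a fY) ρ
  have h3 : (pt ≫ actOn a fY) ≫ actPt a σ = ρ := by
    rw [comp_actPt, toUnit_unique (toUnit (𝟙_ (Over (Spec (CommRingCat.of k))))) (𝟙 _),
      Category.id_comp, hσ]
  set e := (actPt (leftMul G) σ ▷ Y) with hedef
  have h5' : e ≫ actOn a fY = actOn a fY ≫ actPt a σ := trans_comp_actOn a fY σ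
  have h5 : e.left ≫ h = h ≫ (actPt a σ).left := by
    rw [hhdef, ← Over.comp_left, ← Over.comp_left, h5']
  have h4 : h (e.left p₁) = x₀ := by
    rw [← Scheme.Hom.comp_apply, h5, ← hρ, ← h3, ← hpt]
    simp only [Over.comp_left, Scheme.Hom.comp_apply, hhdef]
  haveI : IsIso e.left := inferInstanceAs (IsIso ((Over.forget _).map e))
  haveI : IsIso (actPt a σ).left := inferInstanceAs (IsIso ((Over.forget _).map (actPt a σ)))
  apply hp₁
  have h6 := Scheme.Hom.preimage_smoothLocus_eq e.left h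
  have h7 : p₁ ∈ e.left ⁻¹ᵁ h.smoothLocus := by
    apply hV
    show h (e.left p₁) ∈ V
    rw [h4]
    exact hx₀
  rw [h6] at h7
  have h8 : (e.left ≫ h).smoothLocus = (h ≫ (actPt a σ).left).smoothLocus := by
    congr 1
  rw [h8, smoothLocus_comp_iso] at h7
  exact h7

end K2



section K4

/-- **Kleiman's transversality theorem** (Hartshorne III.10.8). -/
theorem kleiman (k : Type u) [Field k] [IsAlgClosed k] [CharZero k]
    (G X : Over (Spec (CommRingCat.of k))) [GrpObj G] (a : AlgGrp.Action G X)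
    [IsIntegral G.left] [IsSeparated G.hom] [LocallyOfFiniteType G.hom] [QuasiCompact G.hom]
    [IsIntegral X.left] [IsSeparated X.hom] [LocallyOfFiniteType X.hom] [QuasiCompact X.hom]
    (htrans : ∀ x x' : 𝟙_ (Over (Spec (CommRingCat.of k))) ⟶ X,
      ∃ σ : 𝟙_ (Over (Spec (CommRingCat.of k))) ⟶ G, CartesianMonoidalCategory.lift σ x ≫ a.act = x')
    {Y Z : Scheme.{u}} (f : Y ⟶ X.left) (g : Z ⟶ X.left)
    [IsIntegral Y] [IsSeparated (f ≫ X.hom)] [QuasiCompact (f ≫ X.hom)] [Smooth (f ≫ X.hom)]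
    [IsIntegral Z] [IsSeparated (g ≫ X.hom)] [QuasiCompact (g ≫ X.hom)] [Smooth (g ≫ X.hom)]
    (n r s : ℕ) (hn : topologicalKrullDim ↥X.left = n) (hr : topologicalKrullDim ↥Y = r)
    (hs : topologicalKrullDim ↥Z = s) :
    ∃ V : G.left.Opens, (V : Set ↥G.left).Nonempty ∧
      ∀ σ : 𝟙_ (Over (Spec (CommRingCat.of k))) ⟶ G, Set.range σ.left.base ⊆ (V : Set ↥G.left) →
        ∀ fσ : Y ⟶ X.left,
          fσ = (CartesianMonoidalCategory.lift (CartesianMonoidalCategory.toUnit (Over.mk (f ≫ X.hom)) ≫ σ)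
            (Over.homMk f) ≫ a.act).left →
          Smooth (pullback.fst fσ g ≫ f ≫ X.hom) ∧
            (IsEmpty ↥(pullback fσ g) ∨ (n ≤ r + s ∧ topologicalKrullDim ↥(pullback fσ g) = ((r + s - n : ℕ) : WithBot ℕ∞))) := by
  -- the objects over `k`
  set Y' : Over (Spec (CommRingCat.of k)) := Over.mk (f ≫ X.hom) with hY'def
  set fY : Y' ⟶ X := Over.homMk f with hfYdef
  haveI : Smooth Y'.hom := ‹Smooth (f ≫ X.hom)›
  haveI : QuasiCompact Y'.hom := ‹QuasiCompact (f ≫ X.hom)›
  haveI hGsm : Smooth G.hom := smooth_group k G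
  haveI hXsm : Smooth X.hom := smooth_of_homogeneous k G X a htrans
  -- the action map
  set h := (actOn a fY).left with hhdef
  haveI hhsm : Smooth h := smooth_actOn k G X a Y' fY htrans
  have hh : h ≫ X.hom = (G ⊗ Y').hom := Over.w (actOn a fY)
  haveI hPqc : QuasiCompact (G ⊗ Y').hom := by
    rw [Over.tensorObj_hom]
    infer_instance
  haveI : QuasiCompact h := by
    haveI : QuasiCompact (h ≫ X.hom) := by rw [hh]; exact hPqc
    exact QuasiCompact.of_comp h X.hom
  -- the relative dimensions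
  letI iG : G.left.Over (Spec (CommRingCat.of k)) := ⟨G.hom⟩
  letI iX : X.left.Over (Spec (CommRingCat.of k)) := ⟨X.hom⟩
  letI iY : Y.Over (Spec (CommRingCat.of k)) := ⟨f ≫ X.hom⟩
  letI iZ : Z.Over (Spec (CommRingCat.of k)) := ⟨g ≫ X.hom⟩
  letI iP : (G ⊗ Y').left.Over (Spec (CommRingCat.of k)) := ⟨(G ⊗ Y').hom⟩
  haveI : LocallyOfFiniteType (G.left ↘ Spec (CommRingCat.of k)) := ‹LocallyOfFiniteType G.hom›
  haveI : Smooth (G.left ↘ Spec (CommRingCat.of k)) := hGsm
  haveI : LocallyOfFiniteType (X.left ↘ Spec (CommRingCat.of k)) := ‹LocallyOfFiniteType X.hom›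
  haveI : Smooth (X.left ↘ Spec (CommRingCat.of k)) := hXsm
  haveI : Smooth (Y ↘ Spec (CommRingCat.of k)) := ‹Smooth (f ≫ X.hom)›
  haveI : LocallyOfFiniteType (Y ↘ Spec (CommRingCat.of k)) := inferInstance
  haveI : Smooth (Z ↘ Spec (CommRingCat.of k)) := ‹Smooth (g ≫ X.hom)›
  haveI : LocallyOfFiniteType (Z ↘ Spec (CommRingCat.of k)) := inferInstance
  obtain ⟨dG, hdG⟩ := exists_dim_nat k G.left
  haveI rG : SmoothOfRelativeDimension dG G.hom :=
    smoothOfRelativeDimension_of_isIntegral k G.left dG hdG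
  haveI rX : SmoothOfRelativeDimension n X.hom :=
    smoothOfRelativeDimension_of_isIntegral k X.left n hn
  haveI rY : SmoothOfRelativeDimension r Y'.hom :=
    smoothOfRelativeDimension_of_isIntegral k Y r hr
  haveI rZ : SmoothOfRelativeDimension s (g ≫ X.hom) :=
    smoothOfRelativeDimension_of_isIntegral k Z s hs
  haveI rP : SmoothOfRelativeDimension (r + dG) (G ⊗ Y').hom := by
    rw [Over.tensorObj_hom]
    haveI : SmoothOfRelativeDimension r (pullback.fst G.hom Y'.hom) :=
      haveI := smoothOfRelativeDimension_isStableUnderBaseChange (n := r)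
      MorphismProperty.pullback_fst (P := @SmoothOfRelativeDimension r) _ _ rY
    infer_instance
  -- `h` has relative dimension `m`
  haveI : Nonempty (G ⊗ Y').left := by
    obtain ⟨y⟩ := (inferInstance : Nonempty Y)
    exact ⟨(fibIncl (Y := Y') η[G]).left y⟩
  haveI rP' : SmoothOfRelativeDimension (r + dG)
      ((G ⊗ Y').left ↘ Spec (CommRingCat.of k)) := rP
  haveI rX' : SmoothOfRelativeDimension n (X.left ↘ Spec (CommRingCat.of k)) := rX
  haveI : Smooth ((G ⊗ Y').left ↘ Spec (CommRingCat.of k)) :=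
    SmoothOfRelativeDimension.smooth (r + dG) _
  haveI : IsLocallyNoetherian (G ⊗ Y').left :=
    LocallyOfFiniteType.isLocallyNoetherian ((G ⊗ Y').left ↘ Spec (CommRingCat.of k))
  haveI : QuasiSeparated ((G ⊗ Y').left ↘ Spec (CommRingCat.of k)) := inferInstance
  haveI : IsLocallyNoetherian X.left :=
    LocallyOfFiniteType.isLocallyNoetherian (X.left ↘ Spec (CommRingCat.of k))
  haveI : QuasiSeparated (X.left ↘ Spec (CommRingCat.of k)) := inferInstance
  have hh' : h ≫ (X.left ↘ Spec (CommRingCat.of k)) =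
      ((G ⊗ Y').left ↘ Spec (CommRingCat.of k)) := hh
  obtain ⟨m, hm⟩ := exists_add_of_smooth k h hh' (r + dG) n
  haveI rh : SmoothOfRelativeDimension m h :=
    smoothOfRelativeDimension_of_add k h hh' (r + dG) n m hm
  -- the incidence scheme `W` and its projection to `G`
  set q : pullback h g ⟶ G.left := pullback.fst h g ≫ (fst G Y').left with hqdef
  letI iW : (pullback h g).Over (Spec (CommRingCat.of k)) := ⟨pullback.snd h g ≫ g ≫ X.hom⟩
  have hq : q ≫ (G.left ↘ Spec (CommRingCat.of k)) =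
      ((pullback h g) ↘ Spec (CommRingCat.of k)) := by
    change (pullback.fst h g ≫ (fst G Y').left) ≫ G.hom = pullback.snd h g ≫ g ≫ X.hom
    rw [Category.assoc, Over.w (fst G Y'), ← hh, ← Category.assoc, pullback.condition,
      Category.assoc]
  haveI rW : SmoothOfRelativeDimension (m + s) ((pullback h g) ↘ Spec (CommRingCat.of k)) := by
    haveI : SmoothOfRelativeDimension m (pullback.snd h g) :=
      haveI := smoothOfRelativeDimension_isStableUnderBaseChange (n := m)
      MorphismProperty.pullback_snd (P := @SmoothOfRelativeDimension m) _ _ rh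
    exact inferInstanceAs (SmoothOfRelativeDimension (m + s) (pullback.snd h g ≫ (g ≫ X.hom)))
  haveI : QuasiCompact ((pullback h g) ↘ Spec (CommRingCat.of k)) :=
    inferInstanceAs (QuasiCompact (pullback.snd h g ≫ (g ≫ X.hom)))
  haveI rG' : SmoothOfRelativeDimension dG (G.left ↘ Spec (CommRingCat.of k)) := rG
  obtain ⟨V, hVne, hV⟩ := exists_open_fibres_smooth k q hq (m + s) dG
  refine ⟨V, hVne, fun σ hσ fσ hfσ => ?_⟩
  have hfσ' : fσ = (fibIncl σ).left ≫ h := by
    rw [hfσ, hhdef, ← Over.comp_left, fibIncl_comp_actOn]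
  subst hfσ'
  -- the pullback squares
  have hcond : (pullback.fst ((fibIncl σ).left ≫ h) g ≫ (fibIncl σ).left) ≫ h =
      pullback.snd ((fibIncl σ).left ≫ h) g ≫ g := by
    rw [Category.assoc, pullback.condition]
  set u : pullback ((fibIncl σ).left ≫ h) g ⟶ pullback h g :=
    pullback.lift (pullback.fst ((fibIncl σ).left ≫ h) g ≫ (fibIncl σ).left)
      (pullback.snd ((fibIncl σ).left ≫ h) g) hcond with hudef
  have hu1 : u ≫ pullback.fst h g =
      pullback.fst ((fibIncl σ).left ≫ h) g ≫ (fibIncl σ).left := pullback.lift_fst _ _ _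
  have hu2 : u ≫ pullback.snd h g = pullback.snd ((fibIncl σ).left ≫ h) g :=
    pullback.lift_snd _ _ _
  have hsq1 : IsPullback u (pullback.fst ((fibIncl σ).left ≫ h) g) (pullback.fst h g)
      (fibIncl σ).left := by
    refine IsPullback.of_right ?_ hu1 (IsPullback.of_hasPullback h g).flip
    rw [hu2]
    exact (IsPullback.of_hasPullback ((fibIncl σ).left ≫ h) g).flip
  have hsq2 : IsPullback (fibIncl (Y := Y') σ).left (toUnit Y').left (fst G Y').left σ.left :=
    (isPullback_fibIncl (Y := Y') σ).map (Over.forget _)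
  have hsq := hsq1.paste_vert hsq2
  obtain ⟨hS, hD⟩ := hV _ _ u σ.left hσ hsq
  refine ⟨hS, ?_⟩
  rcases hD with hD | ⟨hD1, hD2⟩
  · exact Or.inl hD
  · right
    refine ⟨by omega, ?_⟩
    have hnum : m + s - dG = r + s - n := by omega
    rw [hD2, hnum]

end K4

end Groth.Agent.LibKleiman29
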