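import Groth.Agent.LibKoszulLoc29

/-!
# Koszul complexes (mapping-cone model): exactness is local (helper29)

* `LocLike S g` : an `A`-linear map behaving like a localization at `S` (elementwise).
* `locLike_koszulMap` : `koszulMap φ fs` is degreewise `LocLike` when `φ` is.
* `isZero_homology_of_local` : a complex of `A`-modules is exact in degree `n` if for each maximal
  ideal `m` either some `a ∉ m` is null-homotopic on it, or it maps by a `LocLike` map to a complex
  exact in degree `n`.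
-/

set_option autoImplicit false
universe u

namespace Groth.Agent.LibKoszulLoc29

open CategoryTheory CategoryTheory.Limits CochainComplex HomComplex Groth.Agent.S2423

variable {A : Type u} [CommRing A]

/-- elementwise localization-like behaviour -/
def LocLike (S : Submonoid A) {X Y : Type u} [AddCommGroup X] [AddCommGroup Y] [Module A X]
    [Module A Y] (g : X →ₗ[A] Y) : Prop :=
  (∀ y : Y, ∃ s ∈ S, ∃ x : X, s • y = g x) ∧ (∀ x : X, g x = 0 → ∃ t ∈ S, t • x = 0)

lemma locLike_of_isLocalizedModule (S : Submonoid A) {X Y : Type u} [AddCommGroup X]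
    [AddCommGroup Y] [Module A X] [Module A Y] (g : X →ₗ[A] Y) [IsLocalizedModule S g] :
    LocLike S g := by
  constructor
  · intro y
    obtain ⟨⟨x, s⟩, h⟩ := IsLocalizedModule.surj S g y
    exact ⟨s, s.2, x, h⟩
  · intro x hx
    obtain ⟨c, hc⟩ := IsLocalizedModule.exists_of_eq (S := S) (f := g) (x₁ := x) (x₂ := 0)
      (by rw [hx, map_zero])
    refine ⟨c, c.2, ?_⟩
    rw [smul_zero] at hc
    exact hc

lemma locLike_of_subsingleton (S : Submonoid A) {X Y : Type u} [AddCommGroup X]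
    [AddCommGroup Y] [Module A X] [Module A Y] [Subsingleton X] [Subsingleton Y]
    (g : X →ₗ[A] Y) : LocLike S g :=
  ⟨fun _ => ⟨1, S.one_mem, 0, Subsingleton.elim _ _⟩, fun _ _ => ⟨1, S.one_mem, Subsingleton.elim _ _⟩⟩

theorem locLike_single (S : Submonoid A) {M N : ModuleCat.{u} A} (φ : M ⟶ N)
    (hφ : LocLike S φ.hom) (n : ℤ) :
    LocLike S (((HomologicalComplex.single (ModuleCat.{u} A) (ComplexShape.up ℤ) 0).map φ).f n).hom := by
  by_cases hn : n = 0
  · subst hn
    let e₁ := HomologicalComplex.singleObjXSelf (ComplexShape.up ℤ) 0 M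
    let e₂ := HomologicalComplex.singleObjXSelf (ComplexShape.up ℤ) 0 N
    have hmap : ∀ x, ((HomologicalComplex.single (ModuleCat.{u} A) (ComplexShape.up ℤ) 0).map
        φ).f 0 x = e₂.inv (φ (e₁.hom x)) := by
      intro x
      rw [HomologicalComplex.single_map_f_self]
      rfl
    have he₁ : ∀ x, e₁.inv (e₁.hom x) = x := fun x => by simp
    have he₁' : ∀ x, e₁.hom (e₁.inv x) = x := fun x => by simp
    have he₂ : ∀ x, e₂.hom (e₂.inv x) = x := fun x => by simp
    have he₂' : ∀ x, e₂.inv (e₂.hom x) = x := fun x => by simp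
    constructor
    · intro y
      obtain ⟨s, hs, x, hx⟩ := hφ.1 (e₂.hom y)
      refine ⟨s, hs, e₁.inv x, ?_⟩
      change s • y = ((HomologicalComplex.single (ModuleCat.{u} A) (ComplexShape.up ℤ) 0).map
        φ).f 0 (e₁.inv x)
      rw [hmap, he₁']
      have : φ x = s • e₂.hom y := hx.symm
      rw [this, map_smul, he₂']
    · intro x hx
      have hx' : ((HomologicalComplex.single (ModuleCat.{u} A) (ComplexShape.up ℤ) 0).map
        φ).f 0 x = 0 := hx
      rw [hmap] at hx'
      have h0 : φ (e₁.hom x) = 0 := by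
        rw [← he₂ (φ (e₁.hom x)), hx', map_zero]
      obtain ⟨t, ht, h⟩ := hφ.2 _ h0
      refine ⟨t, ht, ?_⟩
      rw [← he₁ x, ← map_smul, h, map_zero]
  · have hz₁ : Subsingleton (((HomologicalComplex.single (ModuleCat.{u} A) (ComplexShape.up ℤ) 0).obj
        M).X n) :=
      ModuleCat.subsingleton_of_isZero
        (HomologicalComplex.isZero_single_obj_X (ComplexShape.up ℤ) 0 _ n hn)
    have hz₂ : Subsingleton (((HomologicalComplex.single (ModuleCat.{u} A) (ComplexShape.up ℤ) 0).obj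
        N).X n) :=
      ModuleCat.subsingleton_of_isZero
        (HomologicalComplex.isZero_single_obj_X (ComplexShape.up ℤ) 0 _ n hn)
    exact locLike_of_subsingleton S _

theorem locLike_cone (S : Submonoid A) {K₁ L₁ K₂ L₂ : CochainComplex (ModuleCat.{u} A) ℤ}
    (φ₁ : K₁ ⟶ L₁) (φ₂ : K₂ ⟶ L₂) (a : K₁ ⟶ K₂) (b : L₁ ⟶ L₂) (comm : φ₁ ≫ b = a ≫ φ₂)
    (ha : ∀ n, LocLike S (a.f n).hom) (hb : ∀ n, LocLike S (b.f n).hom) (n : ℤ) :
    LocLike S ((mappingCone.map φ₁ φ₂ a b comm).f n).hom := by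
  constructor
  · intro y
    obtain ⟨s₁, hs₁, x₁, hx₁⟩ := (ha (n + 1)).1 ((mappingCone.fst φ₂).1.v n (n + 1) rfl y)
    obtain ⟨s₂, hs₂, x₂, hx₂⟩ := (hb n).1 ((mappingCone.snd φ₂).v n n (add_zero n) y)
    refine ⟨s₁ * s₂, S.mul_mem hs₁ hs₂,
      (mappingCone.inl φ₁).v (n + 1) n (by omega) (s₂ • x₁) + (mappingCone.inr φ₁).f n (s₁ • x₂), ?_⟩
    change (s₁ * s₂) • y = (mappingCone.map φ₁ φ₂ a b comm).f n _
    have hx₁' : a.f (n + 1) (s₂ • x₁) =
        (s₁ * s₂) • (mappingCone.fst φ₂).1.v n (n + 1) rfl y := by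
      rw [map_smul, mul_comm, mul_smul]
      congr 1
      exact hx₁.symm
    have hx₂' : b.f n (s₁ • x₂) = (s₁ * s₂) • (mappingCone.snd φ₂).v n n (add_zero n) y := by
      rw [map_smul, mul_smul]
      congr 1
      exact hx₂.symm
    rw [map_add, inl_v_map_f_apply, inr_f_map_f_apply, hx₁', hx₂', map_smul, map_smul, ← smul_add,
      ← decomp_apply φ₂ n y]
  · intro x hx
    have hx' : (mappingCone.map φ₁ φ₂ a b comm).f n x = 0 := hx
    have h1 : a.f (n + 1) ((mappingCone.fst φ₁).1.v n (n + 1) rfl x) = 0 := by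
      rw [← map_f_fst_apply φ₁ φ₂ a b comm, hx', map_zero]
    have h2 : b.f n ((mappingCone.snd φ₁).v n n (add_zero n) x) = 0 := by
      rw [← map_f_snd_apply φ₁ φ₂ a b comm, hx', map_zero]
    obtain ⟨t₁, ht₁, h1'⟩ := (ha (n + 1)).2 _ h1
    obtain ⟨t₂, ht₂, h2'⟩ := (hb n).2 _ h2
    refine ⟨t₂ * t₁, S.mul_mem ht₂ ht₁, ?_⟩
    apply eq_zero_of_fst_snd φ₁ n
    · rw [map_smul, mul_smul, h1', smul_zero]
    · rw [map_smul, mul_comm, mul_smul, h2', smul_zero]

theorem locLike_koszulMap (S : Submonoid A) {M N : ModuleCat.{u} A} (φ : M ⟶ N)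
    (hφ : LocLike S φ.hom) : ∀ (fs : List A) (n : ℤ), LocLike S ((koszulMap φ fs).f n).hom
  | [], n => locLike_single S φ hφ n
  | f :: fs, n => by
    change LocLike S ((mappingCone.map _ _ (koszulMap φ fs) (koszulMap φ fs) _).f n).hom
    exact locLike_cone S _ _ _ _ _ (locLike_koszulMap S φ hφ fs) (locLike_koszulMap S φ hφ fs) n

end Groth.Agent.LibKoszulLoc29

namespace Groth.Agent.LibKoszulLoc29

open CategoryTheory CategoryTheory.Limits CochainComplex HomComplex Groth.Agent.S2423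

variable {A : Type u} [CommRing A]

lemma exactAt_iff_elem (K : CochainComplex (ModuleCat.{u} A) ℤ) (n : ℤ) :
    IsZero (K.homology n) ↔
      ∀ x : K.X n, K.d n (n + 1) x = 0 → ∃ y : K.X (n - 1), K.d (n - 1) n y = x := by
  rw [← HomologicalComplex.exactAt_iff_isZero_homology,
    HomologicalComplex.exactAt_iff' K (n - 1) n (n + 1) (by simp) (by simp),
    ShortComplex.moduleCat_exact_iff]
  rfl

/-- exactness of a complex of modules is local at the maximal ideals (elementwise version, with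
an escape clause for the maximal ideals outside the support). -/
theorem isZero_homology_of_local (K : CochainComplex (ModuleCat.{u} A) ℤ) (n : ℤ)
    (h : ∀ (m : Ideal A) [m.IsMaximal],
      (∃ a : A, a ∉ m ∧ Nonempty (Homotopy (a • 𝟙 K) 0)) ∨
      (∃ (K' : CochainComplex (ModuleCat.{u} A) ℤ) (g : K ⟶ K'),
        (∀ i, LocLike m.primeCompl (g.f i).hom) ∧ IsZero (K'.homology n))) :
    IsZero (K.homology n) := by
  rw [exactAt_iff_elem]
  intro x hx
  let I : Ideal A :=
    { carrier := {a | ∃ y : K.X (n - 1), K.d (n - 1) n y = a • x}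
      add_mem' := by
        rintro a b ⟨y, hy⟩ ⟨z, hz⟩
        exact ⟨y + z, by rw [map_add, hy, hz, add_smul]⟩
      zero_mem' := ⟨0, by rw [map_zero, zero_smul]⟩
      smul_mem' := by
        rintro c a ⟨y, hy⟩
        exact ⟨c • y, by rw [map_smul, hy, smul_eq_mul, mul_smul]⟩ }
  have hmem : ∀ a, a ∈ I ↔ ∃ y : K.X (n - 1), K.d (n - 1) n y = a • x := fun a => Iff.rfl
  by_contra hcon
  have hI : I ≠ ⊤ := by
    intro hI
    have h1 : (1 : A) ∈ I := by rw [hI]; exact Submodule.mem_top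
    obtain ⟨y, hy⟩ := (hmem 1).1 h1
    exact hcon ⟨y, by rw [hy, one_smul]⟩
  obtain ⟨m, hm, hIm⟩ := Ideal.exists_le_maximal I hI
  rcases h m with ⟨a, ham, ⟨hh⟩⟩ | ⟨K', g, hg, hK'⟩
  · apply ham
    apply hIm
    rw [hmem]
    refine ⟨hh.hom n (n - 1) x, ?_⟩
    have h1 := hh.comm n
    rw [dNext_eq hh.hom (show (ComplexShape.up ℤ).Rel n (n + 1) from rfl),
      prevD_eq hh.hom (show (ComplexShape.up ℤ).Rel (n - 1) n from by simp)] at h1
    have h2 := congrArg (fun f => (ConcreteCategory.hom f) x) h1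
    simp only [HomologicalComplex.zero_f, add_zero] at h2
    have h3 : (a • 𝟙 K : K ⟶ K).f n x = a • x := smul_id_f_apply a n x
    have h4 : (ConcreteCategory.hom (K.d n (n + 1) ≫ hh.hom (n + 1) n + hh.hom n (n - 1) ≫ K.d (n - 1) n)) x =
        hh.hom (n + 1) n (K.d n (n + 1) x) + K.d (n - 1) n (hh.hom n (n - 1) x) := by
      simp
    rw [← h3]
    rw [hx, map_zero, zero_add] at h4
    exact h4.symm.trans h2.symm
  · have hcomm : ∀ (i j : ℤ) (z : K.X i), g.f j (K.d i j z) = K'.d i j (g.f i z) := by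
      intro i j z
      rw [← ModuleCat.comp_apply, ← ModuleCat.comp_apply, g.comm]
    rw [exactAt_iff_elem] at hK'
    obtain ⟨y', hy'⟩ := hK' (g.f n x) (by rw [← hcomm, hx, map_zero])
    obtain ⟨s, hs, y, hy⟩ := (hg (n - 1)).1 y'
    have hy2 : s • y' = g.f (n - 1) y := hy
    have h0 : g.f n (s • x - K.d (n - 1) n y) = 0 := by
      rw [map_sub, map_smul, hcomm, ← hy2, map_smul, hy', sub_self]
    obtain ⟨t, ht, htz⟩ := (hg n).2 _ h0
    have hts : t * s ∈ I := by
      rw [hmem]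
      refine ⟨t • y, ?_⟩
      rw [smul_sub, sub_eq_zero] at htz
      rw [map_smul, ← htz, mul_smul]
    exact (Submonoid.mul_mem _ ht hs) (hIm hts)

end Groth.Agent.LibKoszulLoc29
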