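import Groth.Agent.LibT2LCI29b
import Groth.Agent.LibCotT29h
import Groth.Agent.LibCotT29d
import Groth.Agent.Lib.Helper7.KoszulLow
import Groth.Prelude.Def_LCI2

/-!
# `T²(B/A, -) = 0` for a local complete intersection (seat helper29)

For a finite presentation `P` of `B` over `A` with Noetherian polynomial ring whose kernel is a Koszul-regular
ideal, `T²(P, N) = 0` for every `B`-module `N`; hence `T²` of every presentation of a local complete intersection
algebra over a Noetherian ring vanishes.
-/

set_option autoImplicit false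
universe u v w t m

open TensorProduct CotT

namespace Groth.Agent.LibT2LCI29

open Groth.Agent.LibCotT29

section Bridge

variable {A : Type u} {B : Type v} {ι : Type w} {σ : Type t} [CommRing A] [CommRing B] [Algebra A B]
  (P : Algebra.Presentation A B ι σ)

/-- `T² = 0` as soon as every linear form on the relation module killing the trivial relations extends -/
theorem subsingleton_T2_of_forall_extends (N : Type m) [AddCommGroup N] [Module B N]
    [Module P.toExtension.Ring N] [IsScalarTower P.toExtension.Ring B N]
    (h : ∀ φ : relKer P →ₗ[P.toExtension.Ring] N,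
      (∀ q : relKer P, (q : relMod P) ∈ trivRel P → φ q = 0) →
      ∃ ψ : relMod P →ₗ[P.toExtension.Ring] N, ∀ q : relKer P, ψ q = φ q) :
    Subsingleton (T2 P N) := by
  apply Submodule.Quotient.subsingleton_iff.mpr
  rw [eq_top_iff]
  intro φt _
  let φ : relKer P →ₗ[P.toExtension.Ring] N := (φt.restrictScalars P.toExtension.Ring) ∘ₗ nu P
  have hφ : ∀ q : relKer P, (q : relMod P) ∈ trivRel P → φ q = 0 := by
    intro q hq
    change φt (nu P q) = 0
    rw [nu_eq_zero_of_mem P q hq, map_zero]
  obtain ⟨ψ, hψ⟩ := h φ hφ
  refine ⟨LinearMap.liftBaseChange B ψ, ?_⟩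
  rw [d2Star_apply]
  refine LinearMap.ext fun z => ?_
  obtain ⟨q, rfl⟩ := exists_nu_eq P z
  rw [LinearMap.comp_apply, nu_apply, d2_mk_tmul, LinearMap.liftBaseChange_tmul, one_smul, hψ]
  rfl

end Bridge

section Koszul

variable {A : Type u} {B : Type v} {ι : Type w} {σ : Type t} [CommRing A] [CommRing B] [Algebra A B]
  (P : Algebra.Presentation A B ι σ)

/-- **`T² = 0` for a presentation with Koszul-regular kernel.** -/
theorem subsingleton_T2_of_isKoszulRegularIdeal [Finite σ] [IsNoetherianRing P.toExtension.Ring]
    (hK : LCI.IsKoszulRegularIdeal P.ker) (N : Type m) [AddCommGroup N] [Module B N] :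
    Subsingleton (T2 P N) := by
  letI : Module P.toExtension.Ring N := Module.compHom N (algebraMap P.toExtension.Ring B)
  haveI : IsScalarTower P.toExtension.Ring B N := IsScalarTower.of_algebraMap_smul (fun r m => rfl)
  apply subsingleton_T2_of_forall_extends
  intro φ hφ
  have hIN : ∀ (s : σ) (x : N), rel P s • x = 0 := by
    intro s x
    rw [← algebraMap_smul B (rel P s) x, algebraMap_rel, zero_smul]
  have hloc : ∀ 𝔭 : Ideal P.toExtension.Ring, 𝔭.IsPrime → Ideal.span (Set.range (rel P)) ≤ 𝔭 →
      ∃ g : P.toExtension.Ring, g ∉ 𝔭 ∧ ∃ r : ℕ, Nonempty (LocData (rel P) g r) := by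
    intro 𝔭 h𝔭 hle
    have hle' : P.ker ≤ (⟨𝔭, h𝔭⟩ : PrimeSpectrum P.toExtension.Ring).asIdeal := by
      rw [← P.span_range_relation_eq_ker]
      exact hle
    obtain ⟨g, hg, l, hl, hIl⟩ := hK ⟨𝔭, h𝔭⟩ hle'
    refine ⟨g, hg, l.length, ?_⟩
    have hreg := Groth.Agent.Lib.helper7.KoszulLow.isH1Regular_of_isKoszulRegularSeq _ l hl
    refine nonempty_locData g (rel P) l.get hreg ?_
    rw [Set.range_list_get]
    have h2 : Ideal.span (Set.range (rel P)) = P.ker := P.span_range_relation_eq_ker
    exact (congrArg (Ideal.map (algebraMap P.Ring (Localization.Away g))) h2).trans hIl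
  exact exists_extends (rel P) hloc hIN φ hφ

end Koszul

section LCI

variable (k : Type u) [CommRing k] [IsNoetherianRing k] (A₀ : Type u) [CommRing A₀] [Algebra k A₀]

/-- **`T²` of a local complete intersection vanishes**, for every presentation -/
theorem subsingleton_T2_of_isLCI (hA : LCI.IsLCI k A₀) {ι : Type w} {σ : Type t}
    (P : Algebra.Presentation k A₀ ι σ) (N : Type m) [AddCommGroup N] [Module A₀ N] :
    Subsingleton (T2 P N) := by
  obtain ⟨-, n, f, hf, hK⟩ := hA
  have hfg : (RingHom.ker f.toRingHom).FG := IsNoetherian.noetherian _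
  obtain ⟨m, v, hv⟩ := Submodule.fg_iff_exists_fin_generating_family.mp hfg
  have hfX : MvPolynomial.aeval (R := k) (fun x => f (MvPolynomial.X x)) = f := by
    ext x
    simp
  let P₁ : Algebra.Presentation k A₀ (Fin n) (Fin m) :=
    { __ := Algebra.Generators.ofSurjective (fun x => f (MvPolynomial.X x)) (by rw [hfX]; exact hf)
      relation := v
      span_range_relation_eq_ker := by
        refine hv.trans ?_
        rw [Algebra.Generators.ker_eq_ker_aeval_val]
        change RingHom.ker f.toRingHom = RingHom.ker (MvPolynomial.aeval (R := k) (fun x => f (MvPolynomial.X x)))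
        rw [hfX]
        rfl }
  have hker : P₁.ker = RingHom.ker f.toRingHom := by
    rw [Algebra.Generators.ker_eq_ker_aeval_val]
    change RingHom.ker (MvPolynomial.aeval (R := k) (fun x => f (MvPolynomial.X x))) = _
    rw [hfX]
    rfl
  haveI : IsNoetherianRing P₁.toExtension.Ring := by
    change IsNoetherianRing (MvPolynomial (Fin n) k)
    infer_instance
  have h1 : Subsingleton (T2 P₁ N) := by
    apply subsingleton_T2_of_isKoszulRegularIdeal
    rw [hker]
    exact hK
  obtain ⟨e⟩ := nonempty_T2_equiv P P₁ N
  exact e.toEquiv.subsingleton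

end LCI

end Groth.Agent.LibT2LCI29
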