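import Groth.Agent.LibT2ObsL29f
import Groth.Agent.LibDefRingL29a

/-!
# `T² = 0` implies that deformations of an affine scheme lift along semismall extensions, mixed characteristic
version (seat helper29)
-/

set_option autoImplicit false
universe u
open CategoryTheory CategoryTheory.Limits AlgebraicGeometry
open scoped TensorProduct

namespace Groth.Agent.LibT2ObsL29

section KModule

variable {R S M : Type u} [CommRing R] [CommRing S] [Algebra R S] [AddCommGroup M] [Module R M]

/-- a module killed by the kernel of a surjection `R → S` is an `S`-module: the scalar multiplication -/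
noncomputable def kSMul (hres : Function.Surjective (algebraMap R S)) : SMul S M :=
  ⟨fun s m => Function.surjInv hres s • m⟩

lemma kSMul_algebraMap (hres : Function.Surjective (algebraMap R S))
    (hM : ∀ a : R, algebraMap R S a = 0 → ∀ m : M, a • m = 0) (c : R) (m : M) :
    (kSMul (M := M) hres).smul (algebraMap R S c) m = c • m := by
  change Function.surjInv hres (algebraMap R S c) • m = c • m
  rw [← sub_eq_zero, ← sub_smul]
  apply hM
  rw [map_sub, Function.surjInv_eq hres, sub_self]

/-- a module killed by the kernel of a surjection `R → S` is an `S`-module -/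
noncomputable def kModule (hres : Function.Surjective (algebraMap R S))
    (hM : ∀ a : R, algebraMap R S a = 0 → ∀ m : M, a • m = 0) : Module S M :=
  letI := kSMul (M := M) hres
  Function.Surjective.moduleLeft (algebraMap R S) hres (kSMul_algebraMap hres hM)

lemma kModule_algebraMap_smul (hres : Function.Surjective (algebraMap R S))
    (hM : ∀ a : R, algebraMap R S a = 0 → ∀ m : M, a • m = 0) (c : R) (m : M) :
    letI := kModule hres hM
    algebraMap R S c • m = c • m :=
  kSMul_algebraMap hres hM c m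

lemma kModule_tower (hres : Function.Surjective (algebraMap R S))
    (hM : ∀ a : R, algebraMap R S a = 0 → ∀ m : M, a • m = 0) :
    letI := kModule hres hM
    IsScalarTower R S M := by
  letI := kModule hres hM
  refine ⟨fun c s m => ?_⟩
  obtain ⟨c', rfl⟩ := hres s
  rw [Algebra.smul_def, ← map_mul, kModule_algebraMap_smul hres hM, kModule_algebraMap_smul hres hM, mul_smul]

end KModule

open Groth.Agent.LibAffDef29 Groth.Agent.LibDefDual29 Groth.Agent.LibDefRingL29 ArtFun
  Groth.Agent.LibExal29 Groth.Agent.LibT2Obs29 Groth.Agent.LibLiftL29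
open Groth.Agent.LibLift29 (gam gam_apply mult mult_tmul LiftDatum JCompat)

set_option maxHeartbeats 1600000 in
theorem surjective_defFunctor_map_of_T2
    {Λ k : Type u} [CommRing Λ] [Field k] [Algebra Λ k] (B₀ : Type u) [CommRing B₀] [Algebra k B₀] {ι σ : Type u}
    (P : Algebra.Presentation k B₀ ι σ)
    (hT2 : ∀ (V : Type u) [AddCommGroup V] [Module k V], Subsingleton (CotT.T2 P (B₀ ⊗[k] V)))
    {C' C : ArtFun.Art Λ k} (p : C' ⟶ C) (hp : ArtFun.Art.IsSemismallExt p) :
    Function.Surjective ((ArtFun.defFunctor (Λ := Λ) (Spec (CommRingCat.of B₀))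
      (Spec.map (CommRingCat.ofHom (algebraMap k B₀)))).map p) := by
  classical
  obtain ⟨hpsurj, hpm⟩ := hp
  have hpsurj' : Function.Surjective p.toAlgHom := hpsurj
  intro ξ
  induction ξ using Quotient.inductionOn with
  | h 𝒳 =>
  obtain ⟨-, hflat𝒳, hπsurj, hπker, hπcompat⟩ := package 𝒳
  have hres : ∀ c : C', C.res (p.toAlgHom c) = C'.res c := fun c => congrArg (fun g => g c) p.res_comp
  letI iC'k : Algebra C' k := C'.res.toRingHom.toAlgebra
  letI iCk : Algebra C k := C.res.toRingHom.toAlgebra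
  letI iC'C : Algebra C' C := p.toAlgHom.toRingHom.toAlgebra
  letI iCB : Algebra C Γ(𝒳.total, ⊤) := (toΓ 𝒳.f).hom.toAlgebra
  letI iC'B : Algebra C' Γ(𝒳.total, ⊤) := ((toΓ 𝒳.f).hom.comp p.toAlgHom.toRingHom).toAlgebra
  letI iBB₀ : Algebra Γ(𝒳.total, ⊤) B₀ := (fromΓ 𝒳.i).hom.toAlgebra
  letI iC'B₀ : Algebra C' B₀ := ((algebraMap k B₀).comp C'.res.toRingHom).toAlgebra
  letI iCB₀ : Algebra C B₀ := ((algebraMap k B₀).comp C.res.toRingHom).toAlgebra
  haveI t1 : IsScalarTower C' C Γ(𝒳.total, ⊤) := IsScalarTower.of_algebraMap_eq (fun _ => rfl)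
  haveI t2 : IsScalarTower C' k B₀ := IsScalarTower.of_algebraMap_eq (fun _ => rfl)
  haveI t2' : IsScalarTower C k B₀ := IsScalarTower.of_algebraMap_eq (fun _ => rfl)
  haveI t5 : IsScalarTower C' C k := IsScalarTower.of_algebraMap_eq (fun c => (hres c).symm)
  have hcompat₁ : ∀ c : C, (fromΓ 𝒳.i).hom ((toΓ 𝒳.f).hom c) = algebraMap k B₀ (C.res c) :=
    fun c => congrArg (fun g => g.hom c) hπcompat
  haveI t6 : IsScalarTower C Γ(𝒳.total, ⊤) B₀ := IsScalarTower.of_algebraMap_eq (fun c => (hcompat₁ c).symm)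
  have hcompat : ∀ c : C', (fromΓ 𝒳.i).hom ((toΓ 𝒳.f).hom (p.toAlgHom c)) = algebraMap k B₀ (C'.res c) := by
    intro c
    rw [← hres]
    exact hcompat₁ _
  haveI t3 : IsScalarTower C' Γ(𝒳.total, ⊤) B₀ := IsScalarTower.of_algebraMap_eq (fun c => (hcompat c).symm)
  haveI : Module.Flat C Γ(𝒳.total, ⊤) := hflat𝒳
  have H : Hyp k C.carrier Γ(𝒳.total, ⊤) B₀ (RingHom.ker p.toAlgHom) :=
    { hJ := fun c => RingHom.mem_ker
      hres := C'.res_surjective
      hp := hpsurj
      hπ := hπsurj
      hkerπ := by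
        refine le_trans hπker ?_
        rw [Ideal.map_le_iff_le_comap]
        intro c hc
        obtain ⟨c', rfl⟩ := hpsurj c
        rw [Ideal.mem_comap]
        have h1 : c' ∈ RingHom.ker (algebraMap C' k) := by
          rw [RingHom.mem_ker] at hc ⊢
          exact (hres c').symm.trans hc
        exact Ideal.mem_map_of_mem (algebraMap C' Γ(𝒳.total, ⊤)) h1
      hJk := by
        intro j hj
        rw [RingHom.mem_ker] at hj
        change C'.res j = 0
        rw [← hres, hj, map_zero]
      hJm := by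
        intro a ha j hj
        have ha' : a ∈ IsLocalRing.maximalIdeal C' := (Art.mem_maximalIdeal_iff C' a).mpr ha
        have h1 : a * j ∈ IsLocalRing.maximalIdeal C' * RingHom.ker p.toAlgHom := Ideal.mul_mem_mul ha' hj
        rw [hpm] at h1
        exact h1 }
  -- the `k`-module structure on `J`
  have hM : ∀ a : C', algebraMap C' k a = 0 → ∀ j : ↥(RingHom.ker p.toAlgHom), a • j = 0 := by
    intro a ha j
    apply Subtype.ext
    rw [Submodule.coe_smul, smul_eq_mul]
    exact H.hJm a ha j j.2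
  letI iJ : Module k ↥(RingHom.ker p.toAlgHom) := kModule H.hres hM
  haveI tJ : IsScalarTower C' k ↥(RingHom.ker p.toAlgHom) := kModule_tower H.hres hM
  -- lifting the presentation
  obtain ⟨n, hn⟩ := exists_ker_res_pow C
  have hn' : (RingHom.ker (algebraMap C k)) ^ n = ⊥ := hn
  have hres₁ : Function.Surjective (algebraMap C k) := C.res_surjective
  have hkerπ₁ : RingHom.ker (algebraMap Γ(𝒳.total, ⊤) B₀) ≤
      Ideal.map (algebraMap C Γ(𝒳.total, ⊤)) (RingHom.ker (algebraMap C k)) := hπker
  choose b₁ hb₁ using fun i => hπsurj (P.val i)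
  have hb : ∀ i, algebraMap Γ(𝒳.total, ⊤) B₀ (b₁ i) = P.val i := hb₁
  choose F₁ hF₁ using fun s => exists_lift_ker P b₁ hb hres₁ hkerπ₁ n hn' (P.relation s)
    (P.aeval_val_relation s)
  choose F' hF' using fun s => Qm_surjective (ι := ι) (C₁ := C) (show Function.Surjective (algebraMap C' C) from hpsurj) (F₁ s)
  have S : Setup P (RingHom.ker p.toAlgHom) b₁ F₁ F' :=
    { hJ := H.hJ
      hJm := H.hJm
      hb := hb
      hp := H.hp
      hres₁ := hres₁
      hkerπ₁ := hkerπ₁
      hnil := ⟨n, hn'⟩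
      hF₁ρ := fun s => (hF₁ s).1
      hF₁ev := fun s => (hF₁ s).2
      hF' := hF'
      flat := hflat𝒳 }
  have hT2' : Subsingleton (CotT.T2 P (B₀ ⊗[k] ↥(RingHom.ker p.toAlgHom))) :=
    hT2 ↥(RingHom.ker p.toAlgHom)
  obtain ⟨X, hX⟩ := exists_jcompat_ext S hT2'
  let L := liftOfExt H X hX
  have hfl : (algebraMap C' L.E).Flat := RingHom.flat_algebraMap_iff.mpr L.flat
  obtain ⟨s, e, he1, he2⟩ := exists_lift_of_ring 𝒳 hpsurj' L.E (algebraMap C' L.E) hfl
    L.β.toRingHom L.surj L.ker_le (RingHom.ext fun c => L.β.commutes c)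
  exact ⟨Quotient.mk _ s.1, Quotient.sound ⟨s.2⟩⟩

end Groth.Agent.LibT2ObsL29
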