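import Groth.Prelude.Def_ArtFun4
import Groth.Prelude.Def_LCI2
import Groth.Agent.LibT2ObsL29g
import Groth.Agent.LibT2LCI29c
import Groth.Agent.LibArtSmall29a

/-!
# The deformation functor of an affine local complete intersection is smooth (seat helper29)

`T²` of a local complete intersection vanishes with all coefficients (`LibT2LCI29`), so deformations lift along
semismall extensions (`LibT2ObsL29`), and a functor which is surjective along small extensions is smooth
(`LibArtSmall29`).
-/

set_option autoImplicit false
universe u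
open CategoryTheory AlgebraicGeometry
open scoped TensorProduct

namespace Groth.Agent.LibLCISmooth29

/-- deformations of an affine local complete intersection lift along semismall extensions -/
theorem surjective_defFunctor_map_of_isLCI (Λ k : Type u) [CommRing Λ] [Field k] [Algebra Λ k]
    (A₀ : Type u) [CommRing A₀] [Algebra k A₀] (hA : LCI.IsLCI k A₀)
    {C' C : ArtFun.Art Λ k} (p : C' ⟶ C) (hp : ArtFun.Art.IsSemismallExt p) :
    Function.Surjective ((ArtFun.defFunctor (Λ := Λ) (Spec (CommRingCat.of A₀))
      (Spec.map (CommRingCat.ofHom (algebraMap k A₀)))).map p) :=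
  Groth.Agent.LibT2ObsL29.surjective_defFunctor_map_of_T2 A₀ (CotT.canon k A₀)
    (fun V _ _ => Groth.Agent.LibT2LCI29.subsingleton_T2_of_isLCI k A₀ hA (CotT.canon k A₀) (A₀ ⊗[k] V)) p hp

theorem isSmoothFunctor_defFunctor_of_isLCI (Λ k : Type u) [CommRing Λ] [Field k] [Algebra Λ k]
    (A₀ : Type u) [CommRing A₀] [Algebra k A₀] (hA : LCI.IsLCI k A₀) :
    ArtFun.IsSmoothFunctor (ArtFun.defFunctor (Λ := Λ) (Spec (CommRingCat.of A₀))
      (Spec.map (CommRingCat.ofHom (algebraMap k A₀)))) :=
  Groth.Agent.LibArtSmall29.isSmoothFunctor_of_smallExt _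
    (fun _ _ p hp => surjective_defFunctor_map_of_isLCI Λ k A₀ hA p hp.isSemismallExt)

end Groth.Agent.LibLCISmooth29
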