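import Mathlib
import Groth.Prelude.Def_RegImm
import Groth.Prelude.Def_Flat
import Groth.Agent.LibRelGCIAway29
import Groth.Agent.LibASysPoly29
import Groth.Agent.Lib.Helper3.FibreDimBC
import Groth.Agent.Lib.Helper3.FibreDimRetro

/-!
# Relative global complete intersections: base change and descent along filtered colimits (helper29)

* `bcMap`, `fibreDimAt_bc`: the base change map `R[x]/(F) → R'[x]/(F')` and invariance of the
  local fibre dimension.
* `isRelGCI_of_fibreDimAt_le`: `c ≤ n` and all local fibre dimensions `≤ n - c` imply `IsRelGCI`.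
* `isRelGCI_baseChange`: relative global complete intersections are stable under base change.
* `ASys.span_descent`: descent of membership in a finitely generated ideal of polynomials.
* `ASys.exists_isRelGCI`: a presentation over a finite stage which is a relative global complete
  intersection over the colimit is one over some later stage.
-/

set_option autoImplicit false
set_option linter.style.haveILetI false
universe u

namespace Groth.Agent.LibRelGCIDescent29

open AlgebraicGeometry CategoryTheory FlatMor MvPolynomial TensorProduct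
  Groth.Agent.LibRelGCI29 Groth.Agent.Lib.helper5.FibreDimLocal

section BaseChange

variable (R : Type u) [CommRing R] (R' : Type u) [CommRing R'] [Algebra R R'] (n c : ℕ)
  (F : Fin c → MvPolynomial (Fin n) R)

/-- the base change map `R[x]/(F) → R'[x]/(F')`. -/
noncomputable def bcMap : Synt.RelGCIRing R n c F →+* Synt.RelGCIRing R' n c (Fbar R' F) :=
  ((tensorEquiv R' F : R' ⊗[R] Synt.RelGCIRing R n c F →+* Synt.RelGCIRing R' n c (Fbar R' F))).comp
    (Algebra.TensorProduct.includeRight : Synt.RelGCIRing R n c F →ₐ[R]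
      R' ⊗[R] Synt.RelGCIRing R n c F).toRingHom

lemma bcMap_mk (P : MvPolynomial (Fin n) R) :
    bcMap R R' n c F (Ideal.Quotient.mk _ P) =
      Ideal.Quotient.mk _ (MvPolynomial.map (algebraMap R R') P) := by
  simp only [bcMap, RingHom.comp_apply, AlgHom.toRingHom_eq_coe, RingHom.coe_coe,
    Algebra.TensorProduct.includeRight_apply]
  have := tensorEquiv_tmul R' F (1 : R') P
  rw [one_smul] at this
  exact this

/-- invariance of the local fibre dimension under base change of the presentation. -/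
theorem fibreDimAt_bc (q' : PrimeSpectrum (Synt.RelGCIRing R' n c (Fbar R' F))) :
    fibreDimAt (Spec.map (CommRingCat.ofHom
        (algebraMap R' (Synt.RelGCIRing R' n c (Fbar R' F))))) q' =
      fibreDimAt (Spec.map (CommRingCat.ofHom (algebraMap R (Synt.RelGCIRing R n c F))))
        (PrimeSpectrum.comap (bcMap R R' n c F) q' : PrimeSpectrum (Synt.RelGCIRing R n c F)) := by
  set S := Synt.RelGCIRing R n c F
  set S' := Synt.RelGCIRing R' n c (Fbar R' F)
  let e : R' ⊗[R] S ≃ₐ[R'] S' := tensorEquiv R' F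
  have sq : IsPullback
      (Spec.map (CommRingCat.ofHom
        (Algebra.TensorProduct.includeRight : S →ₐ[R] R' ⊗[R] S).toRingHom))
      (Spec.map (CommRingCat.ofHom (algebraMap R' (R' ⊗[R] S))))
      (Spec.map (CommRingCat.ofHom (algebraMap R S)))
      (Spec.map (CommRingCat.ofHom (algebraMap R R'))) :=
    (isPullback_SpecMap_of_isPushout _ _ _ _ (CommRingCat.isPushout_tensorProduct R R' S)).flip
  haveI : LocallyOfFiniteType (Spec.map (CommRingCat.ofHom (algebraMap R S))) :=
    Groth.Agent.LibRelGCIAway29.locallyOfFiniteType_spec R n c F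
  -- step 1: transport along the isomorphism `e`
  have hw : Spec.map (CommRingCat.ofHom (R := R' ⊗[R] S) (S := S') (e : R' ⊗[R] S →ₐ[R'] S').toRingHom) ≫
      Spec.map (CommRingCat.ofHom (algebraMap R' (R' ⊗[R] S))) =
      Spec.map (CommRingCat.ofHom (algebraMap R' S')) ≫ 𝟙 _ := by
    rw [Category.comp_id, ← Spec.map_comp, ← CommRingCat.ofHom_comp]
    congr 2
    ext x
    exact e.commutes x
  haveI : IsIso (Spec.map (CommRingCat.ofHom (R := R' ⊗[R] S) (S := S') (e : R' ⊗[R] S →ₐ[R'] S').toRingHom)) := by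
    have : IsIso (CommRingCat.ofHom (R := R' ⊗[R] S) (S := S') (e : R' ⊗[R] S →ₐ[R'] S').toRingHom) :=
      (ConcreteCategory.isIso_iff_bijective _).mpr e.bijective
    infer_instance
  have h1 := fibreDimAt_eq_of_comm
    (Spec.map (CommRingCat.ofHom (R := R' ⊗[R] S) (S := S') (e : R' ⊗[R] S →ₐ[R'] S').toRingHom)) (𝟙 _)
    (Spec.map (CommRingCat.ofHom (algebraMap R' S')))
    (Spec.map (CommRingCat.ofHom (algebraMap R' (R' ⊗[R] S)))) hw
    (Spec.map (CommRingCat.ofHom (R := R' ⊗[R] S) (S := S') (e : R' ⊗[R] S →ₐ[R'] S').toRingHom)).isOpenEmbedding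
    (fun _ _ h => h) q'
  rw [h1]
  -- step 2: base change
  have h2 := Groth.Agent.Lib.helper3.FibreDimBC.fibreDimAt_eq_of_isPullback
    (Spec.map (CommRingCat.ofHom (algebraMap R S)))
    (Spec.map (CommRingCat.ofHom (algebraMap R R'))) _ _ sq
    ((Spec.map (CommRingCat.ofHom (R := R' ⊗[R] S) (S := S') (e : R' ⊗[R] S →ₐ[R'] S').toRingHom)) q')
  rw [h2]
  rfl

end BaseChange

section Criterion

variable (R : Type u) [CommRing R] (n c : ℕ) (F : Fin c → MvPolynomial (Fin n) R)

/-- if all local fibre dimensions are `≤ d`, all fibre rings have dimension `≤ d`. -/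
theorem ringKrullDim_fiber_le (S : Type u) [CommRing S] [Algebra R S] (d : ℕ)
    (hd : ∀ q : PrimeSpectrum S,
      fibreDimAt (Spec.map (CommRingCat.ofHom (algebraMap R S))) q ≤ (d : WithBot ℕ∞))
    (p' : PrimeSpectrum R) :
    ringKrullDim (p'.asIdeal.Fiber S) ≤ (d : WithBot ℕ∞) := by
  rw [← PrimeSpectrum.topologicalKrullDim_eq_ringKrullDim, Groth.Agent.S5792.result]
  apply iSup_le
  intro Q
  rw [← Groth.Agent.LibFibreDimBridge29.fibreDimAt_comap_includeRight R S p' Q]
  exact hd _

/-- `c ≤ n` and all local fibre dimensions `≤ n - c` imply relative global complete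
intersection. -/
theorem isRelGCI_of_fibreDimAt_le (hcn : c ≤ n)
    (hd : ∀ q : PrimeSpectrum (Synt.RelGCIRing R n c F),
      fibreDimAt (Spec.map (CommRingCat.ofHom (algebraMap R (Synt.RelGCIRing R n c F)))) q ≤
        ((n - c : ℕ) : WithBot ℕ∞)) :
    Synt.IsRelGCI R n c F := by
  intro p' hnt
  refine ⟨hcn, le_antisymm (ringKrullDim_fiber_le R _ (n - c) hd p') ?_⟩
  let e := tensorEquiv p'.asIdeal.ResidueField F
  have : Nontrivial (MvPolynomial (Fin n) p'.asIdeal.ResidueField ⧸
      Ideal.span (Set.range (Fbar p'.asIdeal.ResidueField F))) :=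
    e.symm.toEquiv.nontrivial
  rw [ringKrullDim_eq_of_ringEquiv e.toRingEquiv]
  exact Groth.Agent.LibEquidimCI29.le_dim_quotient p'.asIdeal.ResidueField n c _

/-- for a relative global complete intersection all local fibre dimensions are `≤ n - c`. -/
theorem fibreDimAt_le_of_isRelGCI (h : Synt.IsRelGCI R n c F)
    (q : PrimeSpectrum (Synt.RelGCIRing R n c F)) :
    c ≤ n ∧ fibreDimAt (Spec.map (CommRingCat.ofHom
      (algebraMap R (Synt.RelGCIRing R n c F)))) q ≤ ((n - c : ℕ) : WithBot ℕ∞) := by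
  set p : Ideal R := q.asIdeal.comap (algebraMap R (Synt.RelGCIRing R n c F)) with hp
  haveI : p.IsPrime := Ideal.comap_isPrime _ _
  have hq' : q ∈ PrimeSpectrum.comap (algebraMap R (Synt.RelGCIRing R n c F)) ⁻¹'
      {(⟨p, inferInstance⟩ : PrimeSpectrum R)} := PrimeSpectrum.ext rfl
  have hne : Nonempty (PrimeSpectrum (p.Fiber (Synt.RelGCIRing R n c F))) :=
    ⟨PrimeSpectrum.preimageHomeomorphFiber R (Synt.RelGCIRing R n c F) ⟨p, inferInstance⟩
      ⟨q, hq'⟩⟩
  have hnt : Nontrivial (p.Fiber (Synt.RelGCIRing R n c F)) :=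
    PrimeSpectrum.nonempty_iff_nontrivial.mp hne
  obtain ⟨hcn, hdim⟩ := h ⟨p, inferInstance⟩ hnt
  exact ⟨hcn, Groth.Agent.LibRelGCIAway29.mem_of_fiber_dim R n c F p (le_of_eq hdim) q rfl⟩

end Criterion

section BC

variable (R : Type u) [CommRing R] (R' : Type u) [CommRing R'] [Algebra R R'] (n c : ℕ)
  (F : Fin c → MvPolynomial (Fin n) R)

/-- relative global complete intersections are stable under base change. -/
theorem isRelGCI_baseChange (h : Synt.IsRelGCI R n c F) : Synt.IsRelGCI R' n c (Fbar R' F) := by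
  by_cases hne : Nonempty (PrimeSpectrum (Synt.RelGCIRing R' n c (Fbar R' F)))
  · obtain ⟨q₀⟩ := hne
    have hcn : c ≤ n :=
      (fibreDimAt_le_of_isRelGCI R n c F h (PrimeSpectrum.comap (bcMap R R' n c F) q₀)).1
    refine isRelGCI_of_fibreDimAt_le R' n c _ hcn fun q' => ?_
    rw [fibreDimAt_bc]
    exact (fibreDimAt_le_of_isRelGCI R n c F h _).2
  · intro p' hnt
    exfalso
    apply hne
    obtain ⟨Q⟩ := PrimeSpectrum.nonempty_iff_nontrivial.mpr hnt
    exact ⟨PrimeSpectrum.comap Algebra.TensorProduct.includeRight.toRingHom Q⟩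

end BC


section Hom

variable {R R' : Type u} [CommRing R] [CommRing R'] (φ : R →+* R') (n c : ℕ)
  (F : Fin c → MvPolynomial (Fin n) R)

/-- the induced map on presentations, for a ring homomorphism. -/
noncomputable def homMap :
    Synt.RelGCIRing R n c F →+* Synt.RelGCIRing R' n c (fun l => MvPolynomial.map φ (F l)) :=
  letI := φ.toAlgebra
  bcMap R R' n c F

lemma homMap_mk (P : MvPolynomial (Fin n) R) :
    homMap φ n c F (Ideal.Quotient.mk _ P) = Ideal.Quotient.mk _ (MvPolynomial.map φ P) := by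
  letI := φ.toAlgebra
  exact bcMap_mk R R' n c F P

theorem fibreDimAt_homMap
    (q' : PrimeSpectrum (Synt.RelGCIRing R' n c (fun l => MvPolynomial.map φ (F l)))) :
    fibreDimAt (Spec.map (CommRingCat.ofHom
        (algebraMap R' (Synt.RelGCIRing R' n c (fun l => MvPolynomial.map φ (F l)))))) q' =
      fibreDimAt (Spec.map (CommRingCat.ofHom (algebraMap R (Synt.RelGCIRing R n c F))))
        (PrimeSpectrum.comap (homMap φ n c F) q' : PrimeSpectrum (Synt.RelGCIRing R n c F)) := by
  letI := φ.toAlgebra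
  exact fibreDimAt_bc R R' n c F q'

theorem isRelGCI_map (h : Synt.IsRelGCI R n c F) :
    Synt.IsRelGCI R' n c (fun l => MvPolynomial.map φ (F l)) := by
  letI := φ.toAlgebra
  exact isRelGCI_baseChange R R' n c F h

end Hom

end Groth.Agent.LibRelGCIDescent29

namespace Groth.Agent.LibASys29

namespace ASys

open MvPolynomial AlgebraicGeometry CategoryTheory FlatMor Groth.Agent.LibRelGCIDescent29

variable {R : Type*} [CommRing R] {A : Type u} [CommRing A] [Algebra R A] {ι : Type*}
  {G : ι → Type u} [∀ i, CommRing (G i)] [∀ i, Algebra R (G i)] {g : ∀ i, G i →ₐ[R] A}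
  (hS : ASys R G g)

include hS

/-- descent of membership in a finitely generated ideal of polynomials over a finite stage. -/
theorem span_descent {σ ν : Type*} [Finite ν] (i₀ : ι) (P : ν → MvPolynomial σ (G i₀))
    (T₀ : MvPolynomial σ (G i₀))
    (h : map (g i₀ : G i₀ →+* A) T₀ ∈
      Ideal.span (Set.range fun x => map (g i₀ : G i₀ →+* A) (P x))) :
    ∃ (k : ι) (φ : G i₀ →ₐ[R] G k), (g k).comp φ = g i₀ ∧
      map (φ : G i₀ →+* G k) T₀ ∈ Ideal.span (Set.range fun x => map (φ : G i₀ →+* G k) (P x)) := by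
  classical
  haveI := Fintype.ofFinite ν
  obtain ⟨a, ha⟩ := (Ideal.mem_span_range_iff_exists_fun).mp h
  obtain ⟨i', a', ha'⟩ := hS.poly_lift_fun a
  obtain ⟨k₀, φ, φ', hφ, hφ'⟩ := hS.dir i₀ i'
  let e : Unit → MvPolynomial σ (G k₀) := fun _ =>
    map (φ : G i₀ →+* G k₀) T₀ -
      ∑ x, map (φ' : G i' →+* G k₀) (a' x) * map (φ : G i₀ →+* G k₀) (P x)
  have he : ∀ u, map (g k₀ : G k₀ →+* A) (e u) = 0 := by
    intro u
    simp only [e, map_sub, map_sum, map_mul]
    rw [map_comp_apply φ hφ, sub_eq_zero, ← ha]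
    refine Finset.sum_congr rfl fun x _ => ?_
    rw [map_comp_apply φ' hφ', map_comp_apply φ hφ, ha']
  obtain ⟨k, ψ, hψ, hk⟩ := hS.poly_kill_fun k₀ e he
  refine ⟨k, ψ.comp φ, ?_, ?_⟩
  · rw [← AlgHom.comp_assoc, hψ, hφ]
  · have h1 := hk ()
    simp only [e, map_sub, map_sum, map_mul, sub_eq_zero] at h1
    have h2 : ∀ p : MvPolynomial σ (G i₀),
        map ((ψ.comp φ : G i₀ →ₐ[R] G k) : G i₀ →+* G k) p =
        map (ψ : G k₀ →+* G k) (map (φ : G i₀ →+* G k₀) p) := by
      intro p
      rw [map_map]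
      rfl
    rw [h2, h1]
    refine Submodule.sum_mem _ fun x _ => ?_
    refine Ideal.mul_mem_left _ _ (Ideal.subset_span ⟨x, ?_⟩)
    exact h2 (P x)

/-- **Descent of relative global complete intersections.** -/
theorem exists_isRelGCI (n c : ℕ) (i₀ : ι) (F₀ : Fin c → MvPolynomial (Fin n) (G i₀))
    (h : Synt.IsRelGCI A n c (fun l => map (g i₀ : G i₀ →+* A) (F₀ l))) :
    ∃ (k : ι) (φ : G i₀ →ₐ[R] G k), (g k).comp φ = g i₀ ∧
      Synt.IsRelGCI (G k) n c (fun l => map (φ : G i₀ →+* G k) (F₀ l)) := by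
  classical
  by_cases htriv : (1 : MvPolynomial (Fin n) A) ∈
      Ideal.span (Set.range fun l => map (g i₀ : G i₀ →+* A) (F₀ l))
  · -- the trivial case
    obtain ⟨k, φ, hφ, hk⟩ := hS.span_descent i₀ F₀ 1 (by rwa [map_one])
    refine ⟨k, φ, hφ, ?_⟩
    intro p' hnt
    exfalso
    obtain ⟨Q⟩ := PrimeSpectrum.nonempty_iff_nontrivial.mpr hnt
    set q : PrimeSpectrum (Synt.RelGCIRing (G k) n c (fun l => map (φ : G i₀ →+* G k) (F₀ l))) :=
      PrimeSpectrum.comap Algebra.TensorProduct.includeRight.toRingHom Q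
    apply q.2.ne_top
    rw [Ideal.eq_top_iff_one, ← map_one (Ideal.Quotient.mk _),
      Ideal.Quotient.eq_zero_iff_mem.mpr (by rwa [map_one] at hk)]
    exact Ideal.zero_mem _
  · -- the main case
    set S₀ := Synt.RelGCIRing (G i₀) n c F₀ with hS₀
    set W : Set (PrimeSpectrum S₀) := {q |
      fibreDimAt (Spec.map (CommRingCat.ofHom (algebraMap (G i₀) S₀))) q ≤
        ((n - c : ℕ) : WithBot ℕ∞)} with hW
    have hWo : IsOpen W := Groth.Agent.LibRelGCIAway29.isOpen_fibreDim_le (G i₀) n c F₀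
    have hWc : IsCompact W := by
      haveI : LocallyOfFinitePresentation
          (Spec.map (CommRingCat.ofHom (algebraMap (G i₀) S₀))) := by
        rw [HasRingHomProperty.Spec_iff (P := @LocallyOfFinitePresentation)]
        change (algebraMap (G i₀) S₀).FinitePresentation
        rw [RingHom.finitePresentation_algebraMap]
        exact Algebra.FinitePresentation.quotient
          (Submodule.fg_span (Set.finite_range F₀))
      have := Groth.Agent.Lib.helper3.FibreDimRetro.isRetrocompact_fibreDimAt_le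
        (Spec.map (CommRingCat.ofHom (algebraMap (G i₀) S₀))) (n - c) isCompact_univ isOpen_univ
      rw [Set.inter_univ] at this
      exact this
    obtain ⟨t, ht⟩ := PrimeSpectrum.isCompact_isOpen_iff.mp ⟨hWc, hWo⟩
    choose rep hrep using fun s : S₀ => Ideal.Quotient.mk_surjective s
    -- existence of a prime over `A` gives `c ≤ n`
    have hprime : ∃ M : Ideal (MvPolynomial (Fin n) A), M.IsPrime ∧
        Ideal.span (Set.range fun l => map (g i₀ : G i₀ →+* A) (F₀ l)) ≤ M := by
      obtain ⟨M, hM, hle⟩ := Ideal.exists_le_maximal _ ((Ideal.ne_top_iff_one _).mpr htriv)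
      exact ⟨M, hM.isPrime, hle⟩
    -- a prime of `A[x]` containing the equations gives a point of `W`
    have key : ∀ M : Ideal (MvPolynomial (Fin n) A), M.IsPrime →
        Ideal.span (Set.range fun l => map (g i₀ : G i₀ →+* A) (F₀ l)) ≤ M →
        c ≤ n ∧ ∃ s ∈ t, map (g i₀ : G i₀ →+* A) (rep s) ∉ M := by
      intro M hM hle
      have hker : RingHom.ker (Ideal.Quotient.mk
          (Ideal.span (Set.range fun l => map (g i₀ : G i₀ →+* A) (F₀ l)))) ≤ M := by
        rw [Ideal.mk_ker]; exact hle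
      set qA : PrimeSpectrum (Synt.RelGCIRing A n c
          (fun l => map (g i₀ : G i₀ →+* A) (F₀ l))) :=
        ⟨M.map (Ideal.Quotient.mk _),
          Ideal.map_isPrime_of_surjective Ideal.Quotient.mk_surjective hker⟩ with hqA
      have hcomap : ∀ P : MvPolynomial (Fin n) A,
          Ideal.Quotient.mk (Ideal.span (Set.range fun l => map (g i₀ : G i₀ →+* A) (F₀ l))) P ∈
            qA.asIdeal ↔ P ∈ M := by
        intro P
        rw [← Ideal.mem_comap]
        change P ∈ (M.map (Ideal.Quotient.mk _)).comap (Ideal.Quotient.mk _) ↔ _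
        rw [Ideal.comap_map_of_surjective _ Ideal.Quotient.mk_surjective, ← RingHom.ker_eq_comap_bot,
          sup_eq_left.mpr hker]
      obtain ⟨hcn, hdim⟩ := fibreDimAt_le_of_isRelGCI A n c _ h qA
      refine ⟨hcn, ?_⟩
      rw [fibreDimAt_homMap (g i₀ : G i₀ →+* A) n c F₀ qA] at hdim
      have hmem : (PrimeSpectrum.comap (homMap (g i₀ : G i₀ →+* A) n c F₀) qA :
          PrimeSpectrum S₀) ∈ W := hdim
      rw [← ht, Set.mem_compl_iff, PrimeSpectrum.mem_zeroLocus, Set.not_subset] at hmem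
      obtain ⟨s, hst, hs⟩ := hmem
      refine ⟨s, hst, fun hmemM => hs ?_⟩
      change homMap (g i₀ : G i₀ →+* A) n c F₀ s ∈ qA.asIdeal
      rw [← hrep s, homMap_mk, hcomap]
      exact hmemM
    obtain ⟨M₀, hM₀, hM₀le⟩ := hprime
    have hcn : c ≤ n := (key M₀ hM₀ hM₀le).1
    -- the unit ideal over `A`
    let P : (↥t ⊕ Fin c) → MvPolynomial (Fin n) (G i₀) := Sum.elim (fun s => rep s.1) F₀
    have hone : map (g i₀ : G i₀ →+* A) 1 ∈
        Ideal.span (Set.range fun x => map (g i₀ : G i₀ →+* A) (P x)) := by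
      rw [map_one]
      by_contra hne
      obtain ⟨M, hM, hle⟩ := Ideal.exists_le_maximal _ ((Ideal.ne_top_iff_one _).mpr hne)
      have hle' : Ideal.span (Set.range fun l => map (g i₀ : G i₀ →+* A) (F₀ l)) ≤ M := by
        refine le_trans (Ideal.span_mono ?_) hle
        rintro _ ⟨l, rfl⟩
        exact ⟨Sum.inr l, rfl⟩
      obtain ⟨-, s, hst, hs⟩ := key M hM.isPrime hle'
      exact hs (hle (Ideal.subset_span ⟨Sum.inl ⟨s, hst⟩, rfl⟩))
    obtain ⟨k, φ, hφ, hk⟩ := hS.span_descent i₀ P 1 hone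
    refine ⟨k, φ, hφ, ?_⟩
    refine isRelGCI_of_fibreDimAt_le (G k) n c _ hcn fun q => ?_
    rw [fibreDimAt_homMap (φ : G i₀ →+* G k) n c F₀ q]
    change (PrimeSpectrum.comap (homMap (φ : G i₀ →+* G k) n c F₀) q : PrimeSpectrum S₀) ∈ W
    rw [← ht, Set.mem_compl_iff, PrimeSpectrum.mem_zeroLocus]
    intro hsub
    apply q.2.ne_top
    rw [Ideal.eq_top_iff_one, ← map_one (Ideal.Quotient.mk _), ← map_one (map (φ : G i₀ →+* G k)),
      ← Ideal.mem_comap]
    refine (Ideal.span_le.mpr ?_ : Ideal.span _ ≤ _) hk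
    rintro _ ⟨x | l, rfl⟩
    · have h1 : (x.1 : S₀) ∈ (PrimeSpectrum.comap (homMap (φ : G i₀ →+* G k) n c F₀) q).asIdeal :=
        hsub x.2
      change homMap (φ : G i₀ →+* G k) n c F₀ x.1 ∈ q.asIdeal at h1
      rw [← hrep x.1, homMap_mk] at h1
      exact h1
    · change Ideal.Quotient.mk _ (map (φ : G i₀ →+* G k) (F₀ l)) ∈ q.asIdeal
      have h0 : Ideal.Quotient.mk (Ideal.span (Set.range fun l => map (φ : G i₀ →+* G k) (F₀ l)))
          (map (φ : G i₀ →+* G k) (F₀ l)) = 0 :=
        Ideal.Quotient.eq_zero_iff_mem.mpr (Ideal.subset_span ⟨l, rfl⟩)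
      rw [h0]
      exact Ideal.zero_mem _

/-- variant: the equations are given over the colimit. -/
theorem exists_isRelGCI' (n c : ℕ) (F : Fin c → MvPolynomial (Fin n) A)
    (h : Synt.IsRelGCI A n c F) :
    ∃ (k : ι) (F₀ : Fin c → MvPolynomial (Fin n) (G k)),
      (∀ l, map (g k : G k →+* A) (F₀ l) = F l) ∧ Synt.IsRelGCI (G k) n c F₀ := by
  obtain ⟨i, F', hF'⟩ := hS.poly_lift_fun F
  have h' : Synt.IsRelGCI A n c (fun l => map (g i : G i →+* A) (F' l)) := by
    have : (fun l => map (g i : G i →+* A) (F' l)) = F := funext hF'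
    rw [this]
    exact h
  obtain ⟨k, φ, hφ, hk⟩ := hS.exists_isRelGCI n c i F' h'
  refine ⟨k, fun l => map (φ : G i →+* G k) (F' l), fun l => ?_, hk⟩
  rw [map_comp_apply φ hφ, hF']

end ASys

end Groth.Agent.LibASys29
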