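import Groth.Agent.LibKoszulSmoothDescent29
import Groth.Agent.LibKoszulFFDescent29
import Groth.Agent.LibRelGCIDescent29
import Groth.Agent.S9254

/-!
# Local complete intersections are syntomic local on the source: ring-level core (helper29)

`P` a ring, `I ⊆ P` an ideal, `Q = P[y₁..y_m]`, `F₁..F_c ∈ Q`, `T = Q/(F)`, `J = I Q + (F)`.

* `flat_lift_away`, `isKoszulRegularSeq_map_of_away`: a Koszul-regular sequence in `Q[1/g]` stays
  Koszul-regular in every flat `Q`-algebra in which `g` is invertible.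
* `mem_of_sum_mul_mem_mul`: independence of the `F_i` modulo `𝔮 J` when `F mod I` is a relative
  global complete intersection over `P/I`.
* `isKoszulRegularIdeal_map_quotient`: if `J` is Koszul-regular and `F` is Koszul-regular near
  `V(J)`, then `I T` is a Koszul-regular ideal of `T` (2-out-of-3 for Koszul-regular ideals).
* `exists_away_isKoszulRegularIdeal_of_flat`: descent of Koszul-regular ideals along a flat map of
  finite presentation, near a point of the image.
-/

set_option autoImplicit false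
set_option linter.style.haveILetI false
universe u

namespace Groth.Agent.LibLciSrcCore29

open MvPolynomial Groth.Agent.LibKoszulDescent29 Groth.Agent.LibKoszulIndep29
  Groth.Agent.LibKoszulExchange29 Groth.Agent.LibKoszulFlat29 Groth.Agent.LibKoszulFFDescent29

section Away

variable {Q : Type u} [CommRing Q]

theorem flat_lift_away {R' : Type u} [CommRing R'] (g : Q) (ρ : Q →+* R') (hρ : ρ.Flat)
    (hu : IsUnit (ρ g)) :
    (IsLocalization.Away.lift (S := Localization.Away g) g hu : Localization.Away g →+* R').Flat := by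
  algebraize [ρ, (IsLocalization.Away.lift (S := Localization.Away g) g hu :
    Localization.Away g →+* R')]
  haveI : IsScalarTower Q (Localization.Away g) R' :=
    .of_algebraMap_eq fun x => (IsLocalization.Away.lift_eq g hu x).symm
  rw [RingHom.Flat, Module.flat_iff_of_isLocalization (S := Localization.Away g)
    (p := Submonoid.powers g)]
  exact hρ

/-- a sequence of `Q` that is Koszul-regular in `Q[1/g]` is Koszul-regular in every flat
`Q`-algebra in which `g` is invertible. -/
theorem isKoszulRegularSeq_map_of_away (g : Q) (hs : List Q)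
    (h : LCI.IsKoszulRegularSeq (Localization.Away g)
      (hs.map (algebraMap Q (Localization.Away g))))
    (R' : Type u) [CommRing R'] (ρ : Q →+* R') (hρ : ρ.Flat) (hu : IsUnit (ρ g)) :
    LCI.IsKoszulRegularSeq R' (hs.map ρ) := by
  have h1 := isKoszulRegularSeq_map_of_flat
    (IsLocalization.Away.lift (S := Localization.Away g) g hu) (flat_lift_away g ρ hρ hu) _ h
  rw [List.map_map] at h1
  have h2 : (⇑(IsLocalization.Away.lift (S := Localization.Away g) g hu) ∘
      ⇑(algebraMap Q (Localization.Away g))) = ρ := by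
    funext x
    exact IsLocalization.Away.lift_eq g hu x
  rwa [h2] at h1

end Away

section Indep

variable {P : Type u} [CommRing P] (I : Ideal P) (m c : ℕ) (F : Fin c → MvPolynomial (Fin m) P)

/-- independence of the equations `F_i` modulo `𝔮 J`, `J = I Q + (F)`, when `F mod I` is a relative
global complete intersection over `P / I`. -/
theorem mem_of_sum_mul_mem_mul
    (hI : Synt.IsRelGCI (P ⧸ I) m c (fun i => MvPolynomial.map (Ideal.Quotient.mk I) (F i)))
    (𝔮 : Ideal (MvPolynomial (Fin m) P)) [𝔮.IsPrime]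
    (h𝔮 : I.map (C : P →+* MvPolynomial (Fin m) P) ⊔ Ideal.span (Set.range F) ≤ 𝔮)
    (lam : Fin c → MvPolynomial (Fin m) P)
    (h : ∑ i, lam i * F i ∈ 𝔮 * (I.map (C : P →+* MvPolynomial (Fin m) P) ⊔
      Ideal.span (Set.range F))) : ∀ i, lam i ∈ 𝔮 := by
  classical
  set J : Ideal (MvPolynomial (Fin m) P) :=
    I.map (C : P →+* MvPolynomial (Fin m) P) ⊔ Ideal.span (Set.range F) with hJ
  set ρ₀ : MvPolynomial (Fin m) P →+* MvPolynomial (Fin m) (P ⧸ I) :=
    MvPolynomial.map (Ideal.Quotient.mk I) with hρ₀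
  have hker : RingHom.ker ρ₀ = I.map (C : P →+* MvPolynomial (Fin m) P) := by
    rw [hρ₀, MvPolynomial.ker_map, Ideal.mk_ker]
  have hρ₀surj : Function.Surjective ρ₀ :=
    MvPolynomial.map_surjective _ Ideal.Quotient.mk_surjective
  -- Step 1
  have step1 : ∀ z ∈ 𝔮 * J, ∃ ν : Fin c → MvPolynomial (Fin m) P, (∀ i, ν i ∈ 𝔮) ∧
      z - ∑ i, ν i * F i ∈ I.map (C : P →+* MvPolynomial (Fin m) P) := by
    intro z hz
    refine Submodule.mul_induction_on hz ?_ ?_
    · intro a ha b hb
      obtain ⟨b₁, hb₁, b₂, hb₂, rfl⟩ := Submodule.mem_sup.1 hb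
      obtain ⟨κ, hκ⟩ := Ideal.mem_span_range_iff_exists_fun.1 hb₂
      refine ⟨fun i => a * κ i, fun i => 𝔮.mul_mem_right _ ha, ?_⟩
      have : a * (b₁ + b₂) - ∑ i, a * κ i * F i = a * b₁ := by
        rw [← hκ, mul_add, Finset.mul_sum]
        simp only [mul_assoc]
        ring
      rw [this]
      exact Ideal.mul_mem_left _ _ hb₁
    · intro x y hx hy
      obtain ⟨ν, hν, h1⟩ := hx
      obtain ⟨ν', hν', h2⟩ := hy
      refine ⟨fun i => ν i + ν' i, fun i => 𝔮.add_mem (hν i) (hν' i), ?_⟩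
      have : x + y - ∑ i, (ν i + ν' i) * F i =
          (x - ∑ i, ν i * F i) + (y - ∑ i, ν' i * F i) := by
        simp only [add_mul, Finset.sum_add_distrib]
        ring
      rw [this]
      exact Ideal.add_mem _ h1 h2
  obtain ⟨ν, hν, h1⟩ := step1 _ h
  -- Step 2
  set Fb : Fin c → MvPolynomial (Fin m) (P ⧸ I) := fun i => ρ₀ (F i) with hFb
  have hsum : ∑ i, ρ₀ (lam i - ν i) * Fb i = 0 := by
    have h2 : ∑ i, lam i * F i - ∑ i, ν i * F i ∈ RingHom.ker ρ₀ := by
      rw [hker]
      exact h1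
    rw [RingHom.mem_ker, map_sub, map_sum, map_sum] at h2
    simp only [map_mul] at h2
    rw [← h2]
    simp only [map_sub, sub_mul, Finset.sum_sub_distrib, hFb]
  -- Step 3
  have hH1 : CAlgX.IsH1Regular Fb :=
    Groth.Agent.Lib.helper7.KoszulLow.isH1Regular_of_isKoszulRegularSeq_ofFn _ Fb
      (Groth.Agent.S9254.result (P ⧸ I) m c Fb hI)
  intro i
  have h3 : ρ₀ (lam i - ν i) ∈ Ideal.span (Set.range Fb) :=
    Groth.Agent.Lib.helper17.LciH1.coord_mem_of_mem_B Fb _ (hH1 _ hsum) i
  -- Step 4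
  have hspan : Ideal.span (Set.range Fb) = (Ideal.span (Set.range F)).map ρ₀ := by
    rw [Ideal.map_span, ← Set.range_comp]
    rfl
  rw [hspan, Ideal.mem_map_iff_of_surjective ρ₀ hρ₀surj] at h3
  obtain ⟨k, hk, hk'⟩ := h3
  have h4 : lam i - ν i - k ∈ I.map (C : P →+* MvPolynomial (Fin m) P) := by
    rw [← hker, RingHom.mem_ker, map_sub, hk', sub_self]
  have h5 : lam i - ν i ∈ J := by
    have : lam i - ν i = (lam i - ν i - k) + k := by ring
    rw [this]
    exact Ideal.add_mem _ (Ideal.mem_sup_left h4) (Ideal.mem_sup_right hk)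
  have : lam i = (lam i - ν i) + ν i := by ring
  rw [this]
  exact 𝔮.add_mem (h𝔮 h5) (hν i)

end Indep

section TwoOfThree

variable {P : Type u} [CommRing P] (I : Ideal P) (m c : ℕ) (F : Fin c → MvPolynomial (Fin m) P)

/-- **2-out-of-3 for Koszul-regular ideals.**  `Q = P[y]`, `T = Q/(F)`, `J = I Q + (F)`.  If `J`
is Koszul-regular, `F` is Koszul-regular on a neighbourhood `D(h)` of `V(J)` and the `F_i` are
independent modulo `𝔮 J` at all primes `𝔮 ⊇ J`, then `I T` is a Koszul-regular ideal of `T`. -/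
theorem isKoszulRegularIdeal_map_quotient (h : MvPolynomial (Fin m) P)
    (hh1 : h - 1 ∈ I.map (C : P →+* MvPolynomial (Fin m) P) ⊔ Ideal.span (Set.range F))
    (hFreg : LCI.IsKoszulRegularSeq (Localization.Away h)
      ((List.ofFn F).map (algebraMap (MvPolynomial (Fin m) P) (Localization.Away h))))
    (hind : ∀ (𝔮 : Ideal (MvPolynomial (Fin m) P)) [𝔮.IsPrime],
      I.map (C : P →+* MvPolynomial (Fin m) P) ⊔ Ideal.span (Set.range F) ≤ 𝔮 →
      ∀ lam : Fin c → MvPolynomial (Fin m) P,
        ∑ i, lam i * F i ∈ 𝔮 * (I.map (C : P →+* MvPolynomial (Fin m) P) ⊔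
          Ideal.span (Set.range F)) → ∀ i, lam i ∈ 𝔮)
    (hJ : LCI.IsKoszulRegularIdeal
      (I.map (C : P →+* MvPolynomial (Fin m) P) ⊔ Ideal.span (Set.range F))) :
    LCI.IsKoszulRegularIdeal (I.map (algebraMap P (Synt.RelGCIRing P m c F))) := by
  classical
  intro 𝔯 h𝔯
  set K : Ideal (MvPolynomial (Fin m) P) := Ideal.span (Set.range F) with hK
  set J : Ideal (MvPolynomial (Fin m) P) :=
    I.map (C : P →+* MvPolynomial (Fin m) P) ⊔ K with hJdef
  set π : MvPolynomial (Fin m) P →+* Synt.RelGCIRing P m c F := Ideal.Quotient.mk K with hπ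
  have hπsurj : Function.Surjective π := Ideal.Quotient.mk_surjective
  have hkerπ : RingHom.ker π = K := Ideal.mk_ker
  set 𝔮' : Ideal (MvPolynomial (Fin m) P) := 𝔯.asIdeal.comap π with h𝔮'
  haveI : 𝔮'.IsPrime := Ideal.comap_isPrime π 𝔯.asIdeal
  have hπC : ∀ x : P, π (C x) = algebraMap P (Synt.RelGCIRing P m c F) x := fun x => rfl
  have hJ𝔮' : J ≤ 𝔮' := by
    rw [hJdef, sup_le_iff]
    constructor
    · rw [Ideal.map_le_iff_le_comap]
      intro x hx
      rw [Ideal.mem_comap, h𝔮', Ideal.mem_comap, hπC]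
      exact h𝔯 (Ideal.mem_map_of_mem _ hx)
    · intro x hx
      rw [h𝔮', Ideal.mem_comap, hπ, Ideal.Quotient.eq_zero_iff_mem.2 hx]
      exact Ideal.zero_mem _
  have hFJ : ∀ i, F i ∈ J := fun i => Ideal.mem_sup_right (Ideal.subset_span ⟨i, rfl⟩)
  have hh𝔮' : h ∉ 𝔮' := by
    intro hmem
    have h1 : (1 : MvPolynomial (Fin m) P) ∈ 𝔮' := by
      have : (1 : MvPolynomial (Fin m) P) = h - (h - 1) := by ring
      rw [this]
      exact 𝔮'.sub_mem hmem (hJ𝔮' hh1)
    exact (inferInstance : 𝔮'.IsPrime).ne_top ((Ideal.eq_top_iff_one _).2 h1)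
  obtain ⟨g, hg, l, hl, hspan⟩ := hJ ⟨𝔮', inferInstance⟩ hJ𝔮'
  change g ∉ 𝔮' at hg
  -- lifts of the generators
  have hlift : ∀ y : Localization.Away g, ∃ j : MvPolynomial (Fin m) P, j ∈ J ∧
      (y ∈ J.map (algebraMap _ (Localization.Away g)) →
        ∃ u : (Localization.Away g)ˣ, algebraMap _ (Localization.Away g) j = u * y) := by
    intro y
    by_cases hy : y ∈ J.map (algebraMap _ (Localization.Away g))
    · obtain ⟨⟨x, s⟩, hxs⟩ :=
        (IsLocalization.mem_map_algebraMap_iff (Submonoid.powers g) (Localization.Away g)).1 hy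
      obtain ⟨u, hu⟩ := IsLocalization.map_units (Localization.Away g) s
      refine ⟨x.1, x.2, fun _ => ⟨u, ?_⟩⟩
      rw [hu, mul_comm]
      exact hxs.symm
    · exact ⟨0, J.zero_mem, fun h' => absurd h' hy⟩
  choose Lf hLfJ hLf using hlift
  set hs : List (MvPolynomial (Fin m) P) := l.map Lf with hhs
  have hsJ : ∀ x ∈ hs, x ∈ J := by
    intro x hx
    obtain ⟨y, -, rfl⟩ := List.mem_map.1 hx
    exact hLfJ y
  have hlJ : ∀ y ∈ l, y ∈ J.map (algebraMap _ (Localization.Away g)) := by
    intro y hy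
    rw [hspan]
    exact Ideal.subset_span hy
  have hofList : Ideal.ofList (hs.map (algebraMap _ (Localization.Away g))) = Ideal.ofList l := by
    apply le_antisymm
    · rw [Ideal.ofList, Ideal.span_le]
      intro x hx
      obtain ⟨j, hj, rfl⟩ := List.mem_map.1 hx
      obtain ⟨y, hy, rfl⟩ := List.mem_map.1 hj
      obtain ⟨u, hu⟩ := hLf y (hlJ y hy)
      rw [hu]
      exact Ideal.mul_mem_left _ _ (Ideal.subset_span hy)
    · rw [Ideal.ofList, Ideal.span_le]
      intro y hy
      obtain ⟨u, hu⟩ := hLf y (hlJ y hy)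
      have h1 : y = ↑u⁻¹ * algebraMap _ (Localization.Away g) (Lf y) := by
        rw [hu, ← mul_assoc, Units.inv_mul, one_mul]
      rw [SetLike.mem_coe, h1]
      refine Ideal.mul_mem_left _ _ (Ideal.subset_span ?_)
      exact List.mem_map.2 ⟨Lf y, List.mem_map.2 ⟨y, hy, rfl⟩, rfl⟩
  have hsreg : LCI.IsKoszulRegularSeq (Localization.Away g)
      (hs.map (algebraMap _ (Localization.Away g))) :=
    isKoszulRegularSeq_of_ofList_eq l _ hl hofList (by simp [hhs])
  have hgen : ∀ x ∈ J, ∃ N : ℕ, g ^ N * x ∈ Ideal.ofList hs := by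
    intro x hx
    apply exists_mul_mem_of_mem_map_away g (Ideal.ofList hs) x
    rw [Ideal.map_ofList, hofList, Ideal.ofList, ← hspan]
    exact Ideal.mem_map_of_mem _ hx
  have hp : g * h ∉ 𝔮' := fun hmem =>
    ((inferInstance : 𝔮'.IsPrime).mem_or_mem hmem).elim hg hh𝔮'
  have hgen' : ∀ x ∈ J, ∃ N : ℕ, (g * h) ^ N * x ∈ Ideal.ofList hs := by
    intro x hx
    obtain ⟨N, hN⟩ := hgen x hx
    refine ⟨N, ?_⟩
    have : (g * h) ^ N * x = h ^ N * (g ^ N * x) := by rw [mul_pow]; ring
    rw [this]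
    exact Ideal.mul_mem_left _ _ hN
  -- exchange
  obtain ⟨μ, G, hμ, hpμ, hlen, hGJ, hspanμ⟩ :=
    exists_exchange_list J 𝔮' F hFJ hs hsJ (g * h) hp hgen' (hind 𝔮' hJ𝔮')
  set L : List (MvPolynomial (Fin m) P) := G ++ List.ofFn F with hL
  have hLJ : Ideal.ofList L ≤ J := by
    rw [Ideal.ofList, Ideal.span_le]
    intro x hx
    rcases List.mem_append.1 hx with h' | h'
    · exact hGJ x h'
    · obtain ⟨i, rfl⟩ := (List.mem_ofFn' _ _).1 h'
      exact hFJ i
  have hhsJ : Ideal.ofList hs ≤ J := by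
    rw [Ideal.ofList, Ideal.span_le]
    exact fun x hx => hsJ x hx
  -- the localization `R' = Q_μ`
  let R' := Localization.Away μ
  let ρ : MvPolynomial (Fin m) P →+* R' := algebraMap _ R'
  have hρ : ρ.Flat :=
    RingHom.flat_algebraMap_iff.2 (IsLocalization.flat R' (Submonoid.powers μ))
  have hρμ : IsUnit (ρ μ) := IsLocalization.Away.algebraMap_isUnit μ
  have hρp : IsUnit (ρ (g * h)) := by
    obtain ⟨r, hr⟩ := hpμ
    have h1 : ρ μ = ρ (g * h) * ρ r := (congrArg ρ hr).trans (map_mul ρ _ r)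
    rw [h1] at hρμ
    exact isUnit_of_mul_isUnit_left hρμ
  have hρg : IsUnit (ρ g) := by
    rw [map_mul] at hρp
    exact isUnit_of_mul_isUnit_left hρp
  have hρh : IsUnit (ρ h) := by
    rw [map_mul] at hρp
    exact isUnit_of_mul_isUnit_right hρp
  have hsregμ : LCI.IsKoszulRegularSeq R' (hs.map ρ) :=
    isKoszulRegularSeq_map_of_away g hs hsreg R' ρ hρ hρg
  set fs : List R' := (List.ofFn F).map ρ with hfs
  have hfsreg : LCI.IsKoszulRegularSeq R' fs :=
    isKoszulRegularSeq_map_of_away h (List.ofFn F) hFreg R' ρ hρ hρh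
  have hmapJ_hs : J.map ρ = (Ideal.ofList hs).map ρ :=
    map_eq_map_of_pow_mul_mem ρ (g * h) hρp J (Ideal.ofList hs) hhsJ hgen'
  have hmapJ_L : J.map ρ = (Ideal.ofList L).map ρ :=
    map_eq_map_of_pow_mul_mem ρ μ hρμ J (Ideal.ofList L) hLJ hspanμ
  have hregL : LCI.IsKoszulRegularSeq R' (L.map ρ) := by
    refine isKoszulRegularSeq_of_ofList_eq (hs.map ρ) (L.map ρ) hsregμ ?_ ?_
    · rw [← Ideal.map_ofList, ← Ideal.map_ofList, ← hmapJ_L, ← hmapJ_hs]
    · rw [List.length_map, List.length_map, hL, List.length_append, List.length_ofFn]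
      exact hlen
  -- the quotient map `π' : Q_μ → T_{π μ}`
  let Tμ := Localization.Away (π μ)
  let π' : R' →+* Tμ := IsLocalization.Away.map R' Tμ π μ
  have hπ'ρ : ∀ f, π' (ρ f) = algebraMap _ Tμ (π f) := fun f => IsLocalization.map_eq _ f
  have hπ'surj : Function.Surjective π' := by
    haveI : IsLocalization (Submonoid.map π (Submonoid.powers μ)) Tμ := by
      rw [Submonoid.map_powers]
      infer_instance
    exact IsLocalization.map_surjective_of_surjective _ _ _ hπsurj
  have hK_ofList : K = Ideal.ofList (List.ofFn F) := by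
    rw [hK, Ideal.ofList]
    congr 1
    ext x
    simp [List.mem_ofFn']
  have hkerπ' : RingHom.ker π' = Ideal.ofList fs := by
    have h1 := IsLocalization.ker_map (S := R') Tμ π (M := Submonoid.powers μ)
      (T := Submonoid.powers (π μ)) (Submonoid.map_powers π μ)
    rw [hfs, ← Ideal.map_ofList, ← hK_ofList, ← hkerπ]
    exact h1
  have hLmap : L.map ρ = G.map ρ ++ fs := by
    rw [hL, List.map_append]
  rw [hLmap] at hregL
  have hfinal : LCI.IsKoszulRegularSeq Tμ ((G.map ρ).map π') :=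
    isKoszulRegularSeq_map_of_append hπ'surj fs (G.map ρ) hkerπ' hfsreg hregL
  have hfsπ' : ∀ x ∈ fs, π' x = 0 := by
    intro x hx
    have : x ∈ RingHom.ker π' := by
      rw [hkerπ']
      exact Ideal.subset_span hx
    exact this
  refine ⟨π μ, hμ, (G.map ρ).map π', hfinal, ?_⟩
  change _ = Ideal.ofList ((G.map ρ).map π')
  have h1 : (I.map (algebraMap P (Synt.RelGCIRing P m c F))).map (algebraMap _ Tμ) =
      (J.map ρ).map π' := by
    rw [Ideal.map_map, Ideal.map_map]
    have hcomp : π'.comp ρ = (algebraMap _ Tμ).comp π := RingHom.ext hπ'ρ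
    rw [hcomp, hJdef, Ideal.map_sup, Ideal.map_map]
    have h2 : K.map ((algebraMap _ Tμ).comp π) = ⊥ := by
      rw [← Ideal.map_map, (Ideal.map_eq_bot_iff_le_ker π).2 hkerπ.ge, Ideal.map_bot]
    rw [h2, sup_bot_eq]
    rfl
  rw [h1, hmapJ_L, Ideal.map_ofList, Ideal.map_ofList, hLmap, List.map_append, Ideal.ofList_append,
    Groth.Agent.LibKoszulSmoothDescent29.ofList_eq_bot_of_forall_eq_zero (fs.map π'), sup_bot_eq]
  intro x hx
  obtain ⟨y, hy, rfl⟩ := List.mem_map.1 hx
  exact hfsπ' y hy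

end TwoOfThree

section Descent

variable {A B : Type u} [CommRing A] [CommRing B]

/-- a flat map is faithfully flat over a basic open contained in the image of `Spec`. -/
theorem faithfullyFlat_awayMap_of_subset_range (φ : A →+* B) (hφ : φ.Flat) (a : A)
    (hsurj : ∀ 𝔭 : PrimeSpectrum A, a ∉ 𝔭.asIdeal → ∃ 𝔮 : PrimeSpectrum B,
      PrimeSpectrum.comap φ 𝔮 = 𝔭) :
    (IsLocalization.Away.map (Localization.Away a) (Localization.Away (φ a)) φ a).FaithfullyFlat := by
  rw [RingHom.FaithfullyFlat.iff_flat_and_comap_surjective]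
  refine ⟨RingHom.Flat.propertyIsLocal.localizationAwayPreserves φ a _ _ hφ, ?_⟩
  intro 𝔭''
  have ha'' : a ∉ (PrimeSpectrum.comap (algebraMap A (Localization.Away a)) 𝔭'').asIdeal := by
    intro h1
    exact 𝔭''.isPrime.ne_top (Ideal.eq_top_of_isUnit_mem _ h1
      (IsLocalization.Away.algebraMap_isUnit a))
  obtain ⟨𝔮, h𝔮⟩ := hsurj (PrimeSpectrum.comap (algebraMap A (Localization.Away a)) 𝔭'') ha''
  have ha𝔮 : φ a ∉ 𝔮.asIdeal := by
    intro hmem
    have h1 : a ∈ (PrimeSpectrum.comap φ 𝔮).asIdeal := hmem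
    rw [h𝔮] at h1
    exact ha'' h1
  have hdisj : Disjoint (Submonoid.powers (φ a) : Set B) 𝔮.asIdeal :=
    (Ideal.disjoint_powers_iff_notMem_of_isPrime _).2 ha𝔮
  have hprime := IsLocalization.isPrime_of_isPrime_disjoint (Submonoid.powers (φ a))
    (Localization.Away (φ a)) _ 𝔮.isPrime hdisj
  have hcomap : (𝔮.asIdeal.map (algebraMap B (Localization.Away (φ a)))).comap
      (algebraMap B (Localization.Away (φ a))) = 𝔮.asIdeal :=
    IsLocalization.under_map_of_isPrime_disjoint (Submonoid.powers (φ a))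
      (Localization.Away (φ a)) 𝔮.isPrime hdisj
  refine ⟨⟨𝔮.asIdeal.map (algebraMap B (Localization.Away (φ a))), hprime⟩, ?_⟩
  apply PrimeSpectrum.ext
  change Ideal.comap (IsLocalization.Away.map (Localization.Away a) (Localization.Away (φ a)) φ a)
    (𝔮.asIdeal.map (algebraMap B (Localization.Away (φ a)))) = 𝔭''.asIdeal
  rw [← IsLocalization.map_under (Submonoid.powers a) (Localization.Away a)
    (Ideal.comap (IsLocalization.Away.map (Localization.Away a) (Localization.Away (φ a)) φ a) _),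
    ← IsLocalization.map_under (Submonoid.powers a) (Localization.Away a) 𝔭''.asIdeal]
  congr 1
  simp only [Ideal.under_def]
  rw [Ideal.comap_comap, awayMap_comp, ← Ideal.comap_comap, hcomap]
  exact congrArg PrimeSpectrum.asIdeal h𝔮

/-- **Descent of Koszul-regular ideals along a flat map of finite presentation**, near a point of
the image. -/
theorem exists_away_isKoszulRegularIdeal_of_flat {P T : Type u} [CommRing P] [CommRing T]
    [Algebra P T] [Module.Flat P T] [Algebra.FinitePresentation P T]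
    (I : Ideal P) (hIT : LCI.IsKoszulRegularIdeal (I.map (algebraMap P T)))
    (𝔯 : PrimeSpectrum T) :
    ∃ a : P, a ∉ 𝔯.asIdeal.comap (algebraMap P T) ∧
      LCI.IsKoszulRegularIdeal (I.map (algebraMap P (Localization.Away a))) := by
  have hopen : IsOpen (Set.range (PrimeSpectrum.comap (algebraMap P T))) :=
    (PrimeSpectrum.isOpenMap_comap_of_hasGoingDown_of_finitePresentation
      (R := P) (S := T)).isOpen_range
  obtain ⟨_, ⟨_, ⟨a, rfl⟩, rfl⟩, ha, hsub⟩ :=
    PrimeSpectrum.isBasis_basic_opens.exists_subset_of_mem_open (Set.mem_range_self 𝔯) hopen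
  refine ⟨a, ha, ?_⟩
  have hφ : (algebraMap P T).Flat := RingHom.flat_algebraMap_iff.2 inferInstance
  have hff := faithfullyFlat_awayMap_of_subset_range (algebraMap P T) hφ a
    (fun 𝔭 h𝔭 => hsub (show 𝔭 ∈ (PrimeSpectrum.basicOpen a : Set _) from h𝔭))
  apply isKoszulRegularIdeal_of_faithfullyFlat_ringHom _ hff
  rw [Ideal.map_map, awayMap_comp, ← Ideal.map_map]
  exact isKoszulRegularIdeal_map_of_flat _ (RingHom.flat_algebraMap_iff.2 inferInstance) _ hIT

end Descent

end Groth.Agent.LibLciSrcCore29
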