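import Groth.Agent.LibLciSrcCore29
import Groth.Agent.LibRelGCIAway29b
import Groth.Agent.LibSyntKoszul29
import Groth.Agent.S9147

/-!
# Local complete intersections are syntomic local on the source: ring level (helper29)

* `exists_away_isKoszulRegularIdeal_of_relGCI_quotient`: `P` a ring, `I ⊆ P`, `F ∈ P[y]^c` such
  that `F mod I` is a relative global complete intersection over `P/I` and `J = I P[y] + (F)` is a
  Koszul-regular ideal.  Then `I` is Koszul-regular on a basic open neighbourhood of every point of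
  `Spec P` under a point of `V(J)`.
-/

set_option autoImplicit false
set_option linter.style.haveILetI false
universe u

namespace Groth.Agent.LibLciSrcRing29

open MvPolynomial Groth.Agent.LibLciSrcCore29 Groth.Agent.LibRelGCIAway29
  Groth.Agent.LibAwayPres29 Groth.Agent.LibKoszulFFDescent29

section Quot

variable {P : Type u} [CommRing P] (I : Ideal P) (m c : ℕ) (F : Fin c → MvPolynomial (Fin m) P)

theorem exists_away_isKoszulRegularIdeal_of_relGCI_quotient
    (hI : Synt.IsRelGCI (P ⧸ I) m c (fun i => MvPolynomial.map (Ideal.Quotient.mk I) (F i)))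
    (hJ : LCI.IsKoszulRegularIdeal
      (I.map (C : P →+* MvPolynomial (Fin m) P) ⊔ Ideal.span (Set.range F)))
    (𝔯 : PrimeSpectrum (Synt.RelGCIRing P m c F))
    (h𝔯 : I.map (algebraMap P (Synt.RelGCIRing P m c F)) ≤ 𝔯.asIdeal) :
    ∃ a : P, a ∉ 𝔯.asIdeal.comap (algebraMap P (Synt.RelGCIRing P m c F)) ∧
      LCI.IsKoszulRegularIdeal (I.map (algebraMap P (Localization.Away a))) := by
  classical
  have hcn : c ≤ m := (le_and_fibreDimAt_le_of_map_le P m c F I hI 𝔯 h𝔯).1
  obtain ⟨g, hg1, hgW⟩ := exists_basicOpen_subset_of_ideal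
    (I.map (algebraMap P (Synt.RelGCIRing P m c F))) _ (isOpen_fibreDim_le P m c F)
    (fun q hq => (le_and_fibreDimAt_le_of_map_le P m c F I hI q hq).2)
  obtain ⟨h, rfl⟩ := Ideal.Quotient.mk_surjective g
  have hFreg := Groth.Agent.LibSyntKoszul29.isKoszulRegularSeq_away P m c F hcn h hgW
  have hgci := isRelGCI_eqsPlus P m c F hcn h hgW
  set K : Ideal (MvPolynomial (Fin m) P) := Ideal.span (Set.range F) with hK
  -- `h ≡ 1` modulo `J`
  have hh1 : h - 1 ∈ I.map (C : P →+* MvPolynomial (Fin m) P) ⊔ K := by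
    have h1 : Ideal.Quotient.mk K (h - 1) ∈ I.map (algebraMap P (Synt.RelGCIRing P m c F)) := by
      rw [map_sub, map_one, ← Ideal.Quotient.eq_zero_iff_mem, map_sub, map_one, hg1, sub_self]
    have h2 : I.map (algebraMap P (Synt.RelGCIRing P m c F)) =
        (I.map (C : P →+* MvPolynomial (Fin m) P)).map (Ideal.Quotient.mk K) := by
      rw [Ideal.map_map]
      rfl
    rw [h2, Ideal.mem_map_iff_of_surjective _ Ideal.Quotient.mk_surjective] at h1
    obtain ⟨x, hx, hx'⟩ := h1
    have h3 : h - 1 - x ∈ K := by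
      rw [← Ideal.Quotient.eq_zero_iff_mem, map_sub, hx', sub_self]
    have : h - 1 = x + (h - 1 - x) := by ring
    rw [this]
    exact Ideal.add_mem _ (Ideal.mem_sup_left hx) (Ideal.mem_sup_right h3)
  have hIT := isKoszulRegularIdeal_map_quotient I m c F h hh1 hFreg
    (fun 𝔮 _ h𝔮 lam hl => mem_of_sum_mul_mem_mul I m c F hI 𝔮 h𝔮 lam hl) hJ
  -- the localization `T_h`
  set gh : Synt.RelGCIRing P m c F := Ideal.Quotient.mk K h with hgh
  have hsynt := Groth.Agent.S9147.result P (m + 1) (c + 1) (eqsPlus F h) hgci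
  haveI : Module.Flat P (Localization.Away gh) :=
    haveI := hsynt.1
    Module.Flat.of_linearEquiv (awayEquiv F h).toLinearEquiv
  haveI : Algebra.FinitePresentation P (Localization.Away gh) :=
    haveI := hsynt.2.1
    Algebra.FinitePresentation.equiv (awayEquiv F h).symm
  have hITh : LCI.IsKoszulRegularIdeal (I.map (algebraMap P (Localization.Away gh))) := by
    rw [IsScalarTower.algebraMap_eq P (Synt.RelGCIRing P m c F) (Localization.Away gh),
      ← Ideal.map_map]
    exact isKoszulRegularIdeal_map_of_flat _ (RingHom.flat_algebraMap_iff.2 inferInstance) _ hIT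
  -- the prime of `T_h`
  have hgh𝔯 : gh ∉ 𝔯.asIdeal := by
    intro hmem
    have h1 : gh - 1 ∈ 𝔯.asIdeal := by
      apply h𝔯
      rw [← Ideal.Quotient.eq_zero_iff_mem, map_sub, map_one, hg1, sub_self]
    have h2 : (1 : Synt.RelGCIRing P m c F) ∈ 𝔯.asIdeal := by
      have : (1 : Synt.RelGCIRing P m c F) = gh - (gh - 1) := by ring
      rw [this]
      exact 𝔯.asIdeal.sub_mem hmem h1
    exact 𝔯.isPrime.ne_top ((Ideal.eq_top_iff_one _).2 h2)
  have hdisj : Disjoint (Submonoid.powers gh : Set (Synt.RelGCIRing P m c F)) 𝔯.asIdeal :=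
    (Ideal.disjoint_powers_iff_notMem_of_isPrime gh).2 hgh𝔯
  have hprime := IsLocalization.isPrime_of_isPrime_disjoint (Submonoid.powers gh)
    (Localization.Away gh) _ 𝔯.isPrime hdisj
  have hcomap : (𝔯.asIdeal.map (algebraMap _ (Localization.Away gh))).comap
      (algebraMap _ (Localization.Away gh)) = 𝔯.asIdeal :=
    IsLocalization.under_map_of_isPrime_disjoint (Submonoid.powers gh)
      (Localization.Away gh) 𝔯.isPrime hdisj
  obtain ⟨a, ha, hKa⟩ := exists_away_isKoszulRegularIdeal_of_flat I hITh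
    ⟨𝔯.asIdeal.map (algebraMap _ (Localization.Away gh)), hprime⟩
  refine ⟨a, ?_, hKa⟩
  intro hmem
  apply ha
  change a ∈ Ideal.comap (algebraMap P (Localization.Away gh)) _
  rw [IsScalarTower.algebraMap_eq P (Synt.RelGCIRing P m c F) (Localization.Away gh),
    ← Ideal.comap_comap, hcomap]
  exact hmem

end Quot

end Groth.Agent.LibLciSrcRing29
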