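import Groth.Agent.LibLciSrcRing29
import Groth.Agent.LibLCIBridge29

/-!
# Local complete intersections are syntomic local on the source: ring level, II (helper29)

* `isKoszulAt_specMap_of_smooth_presentation`: a surjection from a smooth algebra with
  Koszul-regular kernel makes `Spec B ⟶ Spec A` Koszul at every point.
* `exists_away_isLCI_of_relGCI`: `R → A → B` with `A` of finite type over `R`, `B = A[y]/(F)` a
  relative global complete intersection over `A` and `R → B` a local complete intersection map.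
  Then for every prime `𝔮` of `B` there is `a ∈ A`, `a ∉ 𝔮`, with `R → A[1/a]` a local complete
  intersection map.
-/

set_option autoImplicit false
set_option linter.style.haveILetI false
universe u

namespace Groth.Agent.LibLciSrcRingB29

open AlgebraicGeometry CategoryTheory MvPolynomial Groth.Agent.LibLCIBridge29
  Groth.Agent.LibRegImmSmoothDesc29 Groth.Agent.LibKoszulAtComp29

section Smooth

variable (A S B : Type u) [CommRing A] [CommRing S] [CommRing B] [Algebra A S] [Algebra A B]

theorem isKoszulAt_specMap_of_smooth_presentation [Algebra.Smooth A S] (φ : S →ₐ[A] B)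
    (hφ : Function.Surjective φ) (hK : LCI.IsKoszulRegularIdeal (RingHom.ker φ.toRingHom))
    (x : Spec (CommRingCat.of B)) :
    Synt.IsKoszulAt (Spec.map (CommRingCat.ofHom (algebraMap A B))) x := by
  have hreg := isRegularImmersion_SpecMap_of_isKoszulRegularIdeal
    (CommRingCat.ofHom φ.toRingHom) hφ hK
  haveI : IsClosedImmersion (Spec.map (CommRingCat.ofHom φ.toRingHom)) :=
    IsClosedImmersion.spec_of_surjective _ hφ
  haveI : Smooth (Spec.map (CommRingCat.ofHom (algebraMap A S))) := by
    rw [HasRingHomProperty.Spec_iff (P := @Smooth)]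
    exact RingHom.smooth_algebraMap.2 inferInstance
  haveI : IsIso (⊤ : (Spec (CommRingCat.of B)).Opens).ι :=
    inferInstanceAs (IsIso (Spec (CommRingCat.of B)).topIso.hom)
  have hfac : Spec.map (CommRingCat.ofHom φ.toRingHom) ≫
      Spec.map (CommRingCat.ofHom (algebraMap A S)) =
      Spec.map (CommRingCat.ofHom (algebraMap A B)) := by
    rw [← Spec.map_comp]
    congr 1
    ext a
    exact φ.commutes a
  refine ⟨⊤, _, (⊤ : (Spec (CommRingCat.of B)).Opens).ι ≫
    Spec.map (CommRingCat.ofHom φ.toRingHom),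
    Spec.map (CommRingCat.ofHom (algebraMap A S)), trivial, ?_,
    isRegularImmersion_iso_comp .koszul _ _ hreg, inferInstance, ?_⟩
  · rw [← hfac]
    infer_instance
  · rw [Category.assoc, hfac]

end Smooth

section Main

open Groth.Agent.LibRelGCIDescent29 Groth.Agent.LibLciSrcRing29

variable (R A B : Type u) [CommRing R] [CommRing A] [CommRing B]
  [Algebra R A] [Algebra A B] [Algebra R B] [IsScalarTower R A B]

theorem exists_away_isLCI_of_relGCI (m c : ℕ) (F : Fin c → MvPolynomial (Fin m) A)
    (hF : Synt.IsRelGCI A m c F) (ε : B ≃ₐ[A] Synt.RelGCIRing A m c F)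
    (hft : Algebra.FiniteType R A) (hL : LCI.IsLCI R B) (𝔮 : Ideal B) [h𝔮 : 𝔮.IsPrime] :
    ∃ a : A, algebraMap A B a ∉ 𝔮 ∧ LCI.IsLCI R (Localization.Away a) := by
  classical
  obtain ⟨n, α, hα⟩ := Algebra.FiniteType.iff_quotient_mvPolynomial''.1 hft
  set I : Ideal (MvPolynomial (Fin n) R) := RingHom.ker α.toRingHom with hI
  -- lifts of the equations
  have hmapsurj : Function.Surjective
      (MvPolynomial.map (σ := Fin m) (α : MvPolynomial (Fin n) R →+* A)) :=
    MvPolynomial.map_surjective _ hα
  choose Ft hFt using fun l => hmapsurj (F l)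
  -- `F mod I` is a relative global complete intersection
  let e : (MvPolynomial (Fin n) R ⧸ I) ≃+* A :=
    RingHom.quotientKerEquivOfSurjective (f := α.toRingHom) hα
  have heα : ∀ x, e.symm (α x) = Ideal.Quotient.mk I x := by
    intro x
    rw [RingEquiv.symm_apply_eq]
    rfl
  have hIq : Synt.IsRelGCI (MvPolynomial (Fin n) R ⧸ I) m c
      (fun i => MvPolynomial.map (Ideal.Quotient.mk I) (Ft i)) := by
    have h1 := isRelGCI_map (e.symm : A →+* MvPolynomial (Fin n) R ⧸ I) m c F hF
    have h2 : (fun l => MvPolynomial.map (e.symm : A →+* MvPolynomial (Fin n) R ⧸ I) (F l)) =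
        (fun i => MvPolynomial.map (Ideal.Quotient.mk I) (Ft i)) := by
      funext l
      rw [← hFt l, MvPolynomial.map_map]
      have h3 : (e.symm : A →+* MvPolynomial (Fin n) R ⧸ I).comp
          (α : MvPolynomial (Fin n) R →+* A) = Ideal.Quotient.mk I := RingHom.ext heα
      rw [h3]
    rwa [h2] at h1
  -- the presentation `Ψ : P[y] → B`
  let Ψ : MvPolynomial (Fin m) (MvPolynomial (Fin n) R) →ₐ[R] B :=
    ((ε.symm.restrictScalars R : Synt.RelGCIRing A m c F ≃ₐ[R] B) :
      Synt.RelGCIRing A m c F →ₐ[R] B).comp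
      ((Ideal.Quotient.mkₐ R (Ideal.span (Set.range F))).comp (MvPolynomial.mapAlgHom α))
  have hΨapp : ∀ x, Ψ x = ε.symm (Ideal.Quotient.mk (Ideal.span (Set.range F))
      (MvPolynomial.map (α : MvPolynomial (Fin n) R →+* A) x)) := fun x => rfl
  have hΨsurj : Function.Surjective Ψ := by
    intro b
    obtain ⟨t, ht⟩ := Ideal.Quotient.mk_surjective (ε b)
    obtain ⟨x, rfl⟩ := hmapsurj t
    refine ⟨x, ?_⟩
    rw [hΨapp, ht, AlgEquiv.symm_apply_apply]
  have hspanF : Ideal.span (Set.range F) = (Ideal.span (Set.range Ft)).map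
      (MvPolynomial.map (σ := Fin m) (α : MvPolynomial (Fin n) R →+* A)) := by
    rw [Ideal.map_span, ← Set.range_comp]
    congr 2
    funext l
    exact (hFt l).symm
  have hkerΨ : RingHom.ker Ψ.toRingHom =
      I.map (C : MvPolynomial (Fin n) R →+* MvPolynomial (Fin m) (MvPolynomial (Fin n) R)) ⊔
        Ideal.span (Set.range Ft) := by
    ext x
    rw [RingHom.mem_ker]
    change Ψ x = 0 ↔ _
    rw [hΨapp, map_eq_zero_iff _ ε.symm.injective, Ideal.Quotient.eq_zero_iff_mem, hspanF,
      ← Ideal.mem_comap, Ideal.comap_map_of_surjective _ hmapsurj, ← RingHom.ker_eq_comap_bot,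
      MvPolynomial.ker_map, sup_comm]
    rfl
  -- Koszul-regularity of the kernel
  let E : MvPolynomial (Fin (m + n)) R ≃ₐ[R] MvPolynomial (Fin m) (MvPolynomial (Fin n) R) :=
    (MvPolynomial.renameEquiv R finSumFinEquiv.symm).trans
      (MvPolynomial.sumAlgEquiv R (Fin m) (Fin n))
  let β : MvPolynomial (Fin (m + n)) R →ₐ[R] B := Ψ.comp (E : _ →ₐ[R] _)
  have hβsurj : Function.Surjective β := hΨsurj.comp E.surjective
  have hKβ := isKoszulRegularIdeal_ker_of_isKoszulAt_specMap R B
    ((isLCI_iff_forall_isKoszulAt_specMap R B).1 hL) (m + n) β hβsurj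
  have hJ : LCI.IsKoszulRegularIdeal
      (I.map (C : MvPolynomial (Fin n) R →+* MvPolynomial (Fin m) (MvPolynomial (Fin n) R)) ⊔
        Ideal.span (Set.range Ft)) := by
    rw [← hkerΨ]
    have h1 := isKoszulRegularIdeal_map_ringEquiv E.toRingEquiv _ hKβ
    have h2 : (RingHom.ker β.toRingHom).map
        ((E.toRingEquiv : MvPolynomial (Fin (m + n)) R ≃+* _) :
          MvPolynomial (Fin (m + n)) R →+* _) = RingHom.ker Ψ.toRingHom := by
      have h3 : RingHom.ker β.toRingHom = (RingHom.ker Ψ.toRingHom).comap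
          ((E.toRingEquiv : MvPolynomial (Fin (m + n)) R ≃+* _) :
            MvPolynomial (Fin (m + n)) R →+* _) := by
        ext x
        rfl
      rw [h3]
      exact Ideal.map_comap_of_surjective _ E.toRingEquiv.surjective _
    rwa [h2] at h1
  -- the prime of `T`
  have hle : Ideal.span (Set.range Ft) ≤ RingHom.ker Ψ.toRingHom := by
    rw [hkerΨ]
    exact le_sup_right
  let τ : Synt.RelGCIRing (MvPolynomial (Fin n) R) m c Ft →+* B :=
    Ideal.Quotient.lift (Ideal.span (Set.range Ft)) Ψ.toRingHom (fun x hx => hle hx)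
  have hτ : ∀ x : MvPolynomial (Fin n) R,
      τ (algebraMap _ (Synt.RelGCIRing (MvPolynomial (Fin n) R) m c Ft) x) =
        algebraMap A B (α x) := by
    intro x
    change Ψ (C x) = _
    rw [hΨapp, MvPolynomial.map_C]
    exact ε.symm.commutes (α x)
  haveI : (𝔮.comap τ).IsPrime := Ideal.comap_isPrime τ 𝔮
  have h𝔯 : I.map (algebraMap _ (Synt.RelGCIRing (MvPolynomial (Fin n) R) m c Ft)) ≤
      𝔮.comap τ := by
    rw [Ideal.map_le_iff_le_comap]
    intro x hx
    rw [Ideal.mem_comap, Ideal.mem_comap, hτ]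
    have : α x = 0 := hx
    rw [this, map_zero]
    exact Ideal.zero_mem _
  obtain ⟨a₀, ha₀, hKa⟩ := exists_away_isKoszulRegularIdeal_of_relGCI_quotient I m c Ft hIq hJ
    ⟨𝔮.comap τ, inferInstance⟩ h𝔯
  refine ⟨α a₀, ?_, ?_⟩
  · intro hmem
    apply ha₀
    change τ (algebraMap _ _ a₀) ∈ 𝔮
    rw [hτ]
    exact hmem
  · rw [isLCI_iff_forall_isKoszulAt_specMap]
    intro y
    haveI : Algebra.Smooth (MvPolynomial (Fin n) R) (Localization.Away a₀) :=
      Algebra.Smooth.of_isLocalization_Away a₀
    haveI : Algebra.FinitePresentation R (MvPolynomial (Fin n) R) :=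
      Algebra.FinitePresentation.mvPolynomial_of_finitePresentation (Fin n)
    haveI : Algebra.Smooth R (MvPolynomial (Fin n) R) := {}
    haveI : Algebra.Smooth R (Localization.Away a₀) :=
      Algebra.Smooth.comp R (MvPolynomial (Fin n) R) (Localization.Away a₀)
    refine isKoszulAt_specMap_of_smooth_presentation R (Localization.Away a₀)
      (Localization.Away (α a₀)) (Localization.awayMapₐ α a₀)
      (IsLocalization.Away.mapₐ_surjective_of_surjective a₀ hα) ?_ y
    have h1 := IsLocalization.ker_map (S := Localization.Away a₀) (Localization.Away (α a₀))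
      (α : MvPolynomial (Fin n) R →+* A) (M := Submonoid.powers a₀)
      (T := Submonoid.powers (α a₀)) (Submonoid.map_powers _ a₀)
    have h2 : RingHom.ker (Localization.awayMapₐ α a₀).toRingHom =
        I.map (algebraMap _ (Localization.Away a₀)) := h1
    rw [h2]
    exact hKa

end Main

end Groth.Agent.LibLciSrcRingB29
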