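import Groth.Agent.LibExal29
import Mathlib

/-!
# Lifting flat algebras along a small surjection: coordinates (seat helper29)

Setting: `C'` a ring with an augmentation to a field `k`, `B` a `C'`-algebra mapping onto a `k`-algebra `B₀`, `M` a
`B₀`-module.  `R' = C'[X_b : b ∈ B] → B` and `R₀ = k[X_b : b ∈ B] → B₀` are the tautological polynomial covers,
`ρ : R' → R₀` the coefficientwise reduction.
-/

set_option autoImplicit false
universe u

namespace Groth.Agent.LibLift29

open MvPolynomial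

section Setup

variable (k C' B B₀ M : Type u) [Field k] [CommRing C'] [CommRing B] [CommRing B₀]
  [Algebra C' k] [Algebra C' B] [Algebra k B₀] [Algebra B B₀] [Algebra C' B₀]
  [IsScalarTower C' B B₀] [IsScalarTower C' k B₀]
  [AddCommGroup M] [Module B₀ M] [Module B M] [IsScalarTower B B₀ M]
  [Module C' M] [IsScalarTower C' B M] [Module k M] [IsScalarTower k B₀ M]

/-- `C'[X_b : b ∈ B]` -/
abbrev R' : Type u := MvPolynomial B C'

/-- `k[X_b : b ∈ B]` -/
abbrev R₀ : Type u := MvPolynomial B k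

/-- evaluation `C'[X_b] → B` -/
noncomputable def ev' : R' C' B →ₐ[C'] B := MvPolynomial.aeval (fun b : B => b)

/-- evaluation `k[X_b] → B₀` -/
noncomputable def ev₀ : R₀ k B →ₐ[k] B₀ := MvPolynomial.aeval (fun b : B => algebraMap B B₀ b)

/-- the algebra structure `R' → B` -/
@[reducible] noncomputable def algR'B : Algebra (R' C' B) B := (ev' C' B).toRingHom.toAlgebra

/-- the algebra structure `R₀ → B₀` -/
@[reducible] noncomputable def algR₀B₀ : Algebra (R₀ k B) B₀ := (ev₀ k B B₀).toRingHom.toAlgebra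

attribute [local instance] algR'B algR₀B₀

lemma algebraMap_R'_apply (r : R' C' B) : algebraMap (R' C' B) B r = ev' C' B r := rfl

lemma algebraMap_R₀_apply (r : R₀ k B) : algebraMap (R₀ k B) B₀ r = ev₀ k B B₀ r := rfl

instance isScalarTower_R' : IsScalarTower C' (R' C' B) B :=
  IsScalarTower.of_algebraMap_eq (fun c => ((ev' C' B).commutes c).symm)

instance isScalarTower_R₀ : IsScalarTower k (R₀ k B) B₀ :=
  IsScalarTower.of_algebraMap_eq (fun c => ((ev₀ k B B₀).commutes c).symm)

/-- `M` as an `R'`-module -/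
@[reducible] noncomputable def modR'M : Module (R' C' B) M := Module.compHom M (algebraMap (R' C' B) B)

attribute [local instance] modR'M

instance isScalarTower_R'BM : IsScalarTower (R' C' B) B M := IsScalarTower.of_compHom _ _ _

lemma smul_R'_def (r : R' C' B) (m : M) : r • m = ev' C' B r • m := rfl

instance isScalarTower_C'R'M : IsScalarTower C' (R' C' B) M := ⟨fun c r m => by
  rw [smul_R'_def, smul_R'_def, map_smul, smul_assoc]⟩

end Setup

section Rho

variable {k C' B B₀ : Type u} [Field k] [CommRing C'] [CommRing B] [CommRing B₀]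
  [Algebra C' k] [Algebra C' B] [Algebra k B₀] [Algebra B B₀] [Algebra C' B₀]
  [IsScalarTower C' B B₀] [IsScalarTower C' k B₀]

attribute [local instance] algR'B algR₀B₀

variable (k C' B) in
/-- coefficientwise reduction `C'[X_b] → k[X_b]` -/
noncomputable def ρ : R' C' B →+* R₀ k B := MvPolynomial.map (algebraMap C' k)

lemma ρ_C (c : C') : ρ k C' B (C c) = C (algebraMap C' k c) := MvPolynomial.map_C _ _

lemma ρ_X (b : B) : ρ k C' B (X b) = X b := MvPolynomial.map_X _ _

lemma ev'_C (c : C') : ev' C' B (C c) = algebraMap C' B c := by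
  rw [ev', MvPolynomial.aeval_C]

lemma ev'_X (b : B) : ev' C' B (X b) = b := by
  rw [ev', MvPolynomial.aeval_X]

lemma ev₀_ρ (r : R' C' B) : ev₀ k B B₀ (ρ k C' B r) = algebraMap B B₀ (ev' C' B r) := by
  have h : ((ev₀ k B B₀).toRingHom.comp (ρ k C' B)) = (algebraMap B B₀).comp (ev' C' B).toRingHom := by
    apply MvPolynomial.ringHom_ext
    · intro c
      change ev₀ k B B₀ (ρ k C' B (C c)) = algebraMap B B₀ (ev' C' B (C c))
      rw [ρ_C, ev'_C, ev₀, MvPolynomial.aeval_C, ← IsScalarTower.algebraMap_apply C' k B₀,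
        ← IsScalarTower.algebraMap_apply C' B B₀]
    · intro b
      change ev₀ k B B₀ (ρ k C' B (X b)) = algebraMap B B₀ (ev' C' B (X b))
      rw [ρ_X, ev'_X, ev₀, MvPolynomial.aeval_X]
  exact RingHom.congr_fun h r

lemma ev'_surjective : Function.Surjective (ev' C' B) := fun b => ⟨X b, ev'_X b⟩

lemma algebraMap_R'_surjective : Function.Surjective (algebraMap (R' C' B) B) := ev'_surjective

lemma ev₀_surjective (hπ : Function.Surjective (algebraMap B B₀)) : Function.Surjective (ev₀ k B B₀) := by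
  intro b₀
  obtain ⟨b, rfl⟩ := hπ b₀
  exact ⟨X b, by rw [ev₀, MvPolynomial.aeval_X]⟩

lemma ρ_surjective (hres : Function.Surjective (algebraMap C' k)) : Function.Surjective (ρ k C' B) :=
  MvPolynomial.map_surjective _ hres

lemma coeff_mem_of_ρ_eq_zero (x : R' C' B) (hx : ρ k C' B x = 0) (m : B →₀ ℕ) :
    algebraMap C' k (x.coeff m) = 0 := by
  have h := congrArg (MvPolynomial.coeff m) hx
  rw [ρ, MvPolynomial.coeff_map, MvPolynomial.coeff_zero] at h
  exact h

/-- the map `I' → I₀` induced by `ρ` -/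
noncomputable def ρI (x : RingHom.ker (algebraMap (R' C' B) B)) : RingHom.ker (algebraMap (R₀ k B) B₀) :=
  ⟨ρ k C' B x, by
    rw [RingHom.mem_ker, algebraMap_R₀_apply, ev₀_ρ]
    have : ev' C' B (x : R' C' B) = 0 := x.2
    rw [this, map_zero]⟩

lemma coe_ρI (x : RingHom.ker (algebraMap (R' C' B) B)) : ((ρI x : RingHom.ker (algebraMap (R₀ k B) B₀)) : R₀ k B) =
    ρ k C' B x := rfl

/-- `I' → I₀` is surjective -/
theorem ρI_surjective (hres : Function.Surjective (algebraMap C' k))
    (hker : RingHom.ker (algebraMap B B₀) ≤ Ideal.map (algebraMap C' B) (RingHom.ker (algebraMap C' k))) :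
    Function.Surjective (ρI (k := k) (C' := C') (B := B) (B₀ := B₀)) := by
  intro x₀
  obtain ⟨r, hr⟩ := ρ_surjective (B := B) hres (x₀ : R₀ k B)
  have h1 : ev' C' B r ∈ RingHom.ker (algebraMap B B₀) := by
    rw [RingHom.mem_ker, ← ev₀_ρ (k := k) r, hr]
    exact x₀.2
  have h2 : Ideal.map (algebraMap C' B) (RingHom.ker (algebraMap C' k)) ≤
      Ideal.map (ev' C' B) (RingHom.ker (ρ k C' B)) := by
    rw [Ideal.map_le_iff_le_comap]
    intro c hc
    rw [Ideal.mem_comap, ← ev'_C]
    apply Ideal.mem_map_of_mem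
    rw [RingHom.mem_ker, ρ_C, (RingHom.mem_ker).mp hc, map_zero]
  obtain ⟨s, hs, hse⟩ := (Ideal.mem_map_iff_of_surjective (ev' C' B) ev'_surjective).mp (h2 (hker h1))
  refine ⟨⟨r - s, ?_⟩, ?_⟩
  · rw [RingHom.mem_ker, algebraMap_R'_apply, map_sub, hse, sub_self]
  · apply Subtype.ext
    rw [coe_ρI]
    change ρ k C' B (r - s) = _
    rw [map_sub, (RingHom.mem_ker).mp hs, sub_zero, hr]

end Rho

section Flat

variable {k C' C₁ B B₀ M : Type u} [Field k] [CommRing C'] [CommRing C₁] [CommRing B] [CommRing B₀]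
  [Algebra C' k] [Algebra C' B] [Algebra k B₀] [Algebra B B₀] [Algebra C' B₀]
  [IsScalarTower C' B B₀] [IsScalarTower C' k B₀]
  [Algebra C' C₁] [Algebra C₁ B] [IsScalarTower C' C₁ B]
  [AddCommGroup M] [Module B₀ M] [Module B M] [IsScalarTower B B₀ M]
  [Module C' M] [IsScalarTower C' B M] [Module k M] [IsScalarTower k B₀ M]

attribute [local instance] algR'B algR₀B₀ modR'M

variable (k B B₀) in
include k B B₀ in
/-- elements of the augmentation ideal of `C'` act as zero on `M` -/
lemma smul_eq_zero_of_res (c : C') (hc : algebraMap C' k c = 0) (z : M) : c • z = 0 := by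
  rw [← algebraMap_smul B c z, ← algebraMap_smul B₀ (algebraMap C' B c) z,
    ← IsScalarTower.algebraMap_apply C' B B₀, IsScalarTower.algebraMap_apply C' k B₀, hc, map_zero, zero_smul]

lemma C_smul (c : C') (z : M) : (C c : R' C' B) • z = c • z := by
  rw [smul_R'_def, ev'_C, algebraMap_smul]

lemma X_smul (b : B) (z : M) : (X b : R' C' B) • z = b • z := by
  rw [smul_R'_def, ev'_X]

lemma C_mem_ker (j : C') (hj : algebraMap C' C₁ j = 0) :
    (C j : R' C' B) ∈ RingHom.ker (algebraMap (R' C' B) B) := by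
  rw [RingHom.mem_ker, algebraMap_R'_apply, ev'_C, IsScalarTower.algebraMap_apply C' C₁ B, hj, map_zero]

variable [Module.Flat C₁ B]

theorem exists_decomp_of_ρ_eq_zero (hp : Function.Surjective (algebraMap C' C₁)) (x : R' C' B)
    (hx : ev' C' B x = 0) (hρ : ρ k C' B x = 0) :
    ∃ (n : ℕ) (c : ↥x.support → C') (t : ↥x.support → R' C' B) (d : Fin n → C') (y : Fin n → B),
      (∀ i, algebraMap C' k (c i) = 0) ∧ (∀ i, ev' C' B (t i) = 0) ∧ (∀ j, algebraMap C' C₁ (d j) = 0) ∧
      x = ∑ i, C (c i) * t i + ∑ j, C (d j) * X (y j) := by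
  classical
  set c : ↥x.support → C' := fun i => x.coeff i with hc
  set b : ↥x.support → B := fun i => ev' C' B (monomial (i : B →₀ ℕ) 1) with hb
  have hxsum : x = ∑ i : ↥x.support, C (c i) * monomial (i : B →₀ ℕ) 1 := by
    conv_lhs => rw [MvPolynomial.as_sum x]
    rw [← Finset.sum_coe_sort]
    refine Finset.sum_congr rfl fun i _ => ?_
    rw [MvPolynomial.C_mul_monomial, mul_one]
  have hrel : ∑ i, algebraMap C' C₁ (c i) • b i = 0 := by
    have h1 : ∀ i, algebraMap C' C₁ (c i) • b i = ev' C' B (C (c i) * monomial (i : B →₀ ℕ) 1) := by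
      intro i
      rw [map_mul, ev'_C, algebraMap_smul, Algebra.smul_def]
    rw [Finset.sum_congr rfl fun i _ => h1 i, ← map_sum, ← hxsum, hx]
  obtain ⟨n, a, y, hxy, hsum⟩ := Module.Flat.isTrivialRelation_of_sum_smul_eq_zero (R := C₁) (M := B)
    (f := fun i => algebraMap C' C₁ (c i)) (x := b) hrel
  choose a' ha' using fun i j => hp (a i j)
  refine ⟨n, c, fun i => monomial (i : B →₀ ℕ) 1 - ∑ j, C (a' i j) * X (y j),
    fun j => ∑ i, c i * a' i j, y, fun i => coeff_mem_of_ρ_eq_zero x hρ _, ?_, ?_, ?_⟩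
  · intro i
    rw [map_sub, map_sum]
    have h1 : ∀ j, ev' C' B (C (a' i j) * X (y j)) = a i j • y j := by
      intro j
      rw [map_mul, ev'_C, ev'_X, ← Algebra.smul_def, ← ha' i j, algebraMap_smul]
    rw [Finset.sum_congr rfl fun j _ => h1 j, ← hxy i, sub_self]
  · intro j
    rw [map_sum, ← hsum j]
    refine Finset.sum_congr rfl fun i _ => ?_
    rw [map_mul, ha']
  · have h2 : ∑ i, C (c i) * (monomial (i : B →₀ ℕ) 1 - ∑ j, C (a' i j) * X (y j)) =
        ∑ i, C (c i) * monomial (i : B →₀ ℕ) 1 - ∑ i, ∑ j, C (c i) * (C (a' i j) * X (y j)) := by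
      rw [← Finset.sum_sub_distrib]
      refine Finset.sum_congr rfl fun i _ => ?_
      rw [mul_sub, Finset.mul_sum]
    have h3 : ∑ j, C (∑ i, c i * a' i j) * X (y j) = ∑ i, ∑ j, C (c i) * (C (a' i j) * X (y j)) := by
      rw [Finset.sum_comm]
      refine Finset.sum_congr rfl fun j _ => ?_
      rw [map_sum, Finset.sum_mul]
      refine Finset.sum_congr rfl fun i _ => ?_
      rw [map_mul, mul_assoc]
    rw [h2, h3, sub_add_cancel]
    exact hxsum

variable (B₀) in
include B₀ in
/-- a linear map `I' → M` killing the constants of `J` kills the kernel of `I' → I₀` -/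
theorem hom_eq_zero_of_ρ_eq_zero (hp : Function.Surjective (algebraMap C' C₁))
    (h : RingHom.ker (algebraMap (R' C' B) B) →ₗ[R' C' B] M)
    (hJ : ∀ (j : C') (hj : algebraMap C' C₁ j = 0), h ⟨C j, C_mem_ker j hj⟩ = 0)
    (x : RingHom.ker (algebraMap (R' C' B) B)) (hx : ρ k C' B x = 0) : h x = 0 := by
  obtain ⟨n, c, t, d, y, hc, ht, hd, hsum⟩ := exists_decomp_of_ρ_eq_zero (k := k) hp (x : R' C' B) x.2 hx
  have hx' : x = ∑ i, (C (c i) : R' C' B) • (⟨t i, ht i⟩ : RingHom.ker (algebraMap (R' C' B) B)) +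
      ∑ j, (X (y j) : R' C' B) • (⟨C (d j), C_mem_ker (d j) (hd j)⟩ : RingHom.ker (algebraMap (R' C' B) B)) := by
    apply Subtype.ext
    rw [Submodule.coe_add, Submodule.coe_sum, Submodule.coe_sum]
    conv_lhs => rw [hsum]
    congr 1
    refine Finset.sum_congr rfl fun j _ => ?_
    change _ = X (y j) * C (d j)
    rw [mul_comm]
  rw [hx', map_add, map_sum, map_sum]
  have h1 : ∀ i, h ((C (c i) : R' C' B) • (⟨t i, ht i⟩ : RingHom.ker (algebraMap (R' C' B) B))) = 0 := by
    intro i
    rw [map_smul, C_smul, smul_eq_zero_of_res k B B₀ (c i) (hc i)]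
  have h2 : ∀ j, h ((X (y j) : R' C' B) •
      (⟨C (d j), C_mem_ker (d j) (hd j)⟩ : RingHom.ker (algebraMap (R' C' B) B))) = 0 := by
    intro j
    rw [map_smul, hJ (d j) (hd j), smul_zero]
  rw [Finset.sum_eq_zero fun i _ => h1 i, Finset.sum_eq_zero fun j _ => h2 j, add_zero]

end Flat

end Groth.Agent.LibLift29
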