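import Groth.Agent.LibLift29a

/-!
# Lifting flat algebras along a small surjection: descent of maps `I' → M` to `I₀ → M` (seat helper29)
-/

set_option autoImplicit false
universe u

namespace Groth.Agent.LibLift29

open MvPolynomial Groth.Agent.LibExal29

section Descent

variable {k C' C₁ B B₀ M : Type u} [Field k] [CommRing C'] [CommRing C₁] [CommRing B] [CommRing B₀]
  [Algebra C' k] [Algebra C' B] [Algebra k B₀] [Algebra B B₀] [Algebra C' B₀]
  [IsScalarTower C' B B₀] [IsScalarTower C' k B₀]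
  [Algebra C' C₁] [Algebra C₁ B] [IsScalarTower C' C₁ B]
  [AddCommGroup M] [Module B₀ M] [Module B M] [IsScalarTower B B₀ M]
  [Module C' M] [IsScalarTower C' B M] [Module k M] [IsScalarTower k B₀ M]

attribute [local instance] algR'B algR₀B₀ modR'M

variable [Module (R₀ k B) M] [IsScalarTower (R₀ k B) B₀ M] [IsScalarTower k (R₀ k B) M]

variable (B₀) in
include B₀ in
lemma ρ_smul (r : R' C' B) (z : M) : ρ k C' B r • z = r • z := by
  rw [← algebraMap_smul B₀ (ρ k C' B r) z, algebraMap_R₀_apply, ev₀_ρ, algebraMap_smul, smul_R'_def]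

/-- pulling back a linear map `I₀ → M` to `I' → M` -/
noncomputable def pullHom (h₀ : RingHom.ker (algebraMap (R₀ k B) B₀) →ₗ[R₀ k B] M) :
    RingHom.ker (algebraMap (R' C' B) B) →ₗ[R' C' B] M where
  toFun x := h₀ (ρI x)
  map_add' x y := by
    have : ρI (k := k) (B₀ := B₀) (x + y) = ρI x + ρI y := Subtype.ext (map_add (ρ k C' B) _ _)
    rw [this, map_add]
  map_smul' r x := by
    have : ρI (k := k) (B₀ := B₀) (r • x) = ρ k C' B r • ρI x := Subtype.ext (map_mul (ρ k C' B) _ _)
    rw [this, map_smul, ρ_smul B₀, RingHom.id_apply]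

lemma pullHom_apply (h₀ : RingHom.ker (algebraMap (R₀ k B) B₀) →ₗ[R₀ k B] M)
    (x : RingHom.ker (algebraMap (R' C' B) B)) : pullHom (C' := C') h₀ x = h₀ (ρI x) := rfl

lemma pullHom_C (h₀ : RingHom.ker (algebraMap (R₀ k B) B₀) →ₗ[R₀ k B] M) (j : C') (hj : algebraMap C' C₁ j = 0)
    (hjk : algebraMap C' k j = 0) :
    pullHom (C' := C') h₀ ⟨C j, C_mem_ker j hj⟩ = 0 := by
  rw [pullHom_apply]
  have : ρI (k := k) (B₀ := B₀) ⟨C j, C_mem_ker (B := B) j hj⟩ = 0 := by
    apply Subtype.ext
    rw [coe_ρI]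
    change ρ k C' B (C j) = 0
    rw [ρ_C, hjk, map_zero]
  rw [this, map_zero]

lemma pullHom_injective (hres : Function.Surjective (algebraMap C' k))
    (hker : RingHom.ker (algebraMap B B₀) ≤ Ideal.map (algebraMap C' B) (RingHom.ker (algebraMap C' k)))
    (h₀ h₁ : RingHom.ker (algebraMap (R₀ k B) B₀) →ₗ[R₀ k B] M)
    (h : pullHom (C' := C') h₀ = pullHom (C' := C') h₁) : h₀ = h₁ := by
  ext x₀
  obtain ⟨x, rfl⟩ := ρI_surjective (k := k) (C' := C') (B := B) (B₀ := B₀) hres hker x₀
  exact LinearMap.congr_fun h x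

variable [Module.Flat C₁ B]

/-- descending a linear map `I' → M` which kills the constants of `J` to `I₀ → M` -/
theorem exists_descend (hres : Function.Surjective (algebraMap C' k))
    (hker : RingHom.ker (algebraMap B B₀) ≤ Ideal.map (algebraMap C' B) (RingHom.ker (algebraMap C' k)))
    (hp : Function.Surjective (algebraMap C' C₁))
    (h : RingHom.ker (algebraMap (R' C' B) B) →ₗ[R' C' B] M)
    (hJ : ∀ (j : C') (hj : algebraMap C' C₁ j = 0), h ⟨C j, C_mem_ker j hj⟩ = 0) :
    ∃ h₀ : RingHom.ker (algebraMap (R₀ k B) B₀) →ₗ[R₀ k B] M, pullHom (C' := C') h₀ = h := by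
  have hsurj := ρI_surjective (k := k) (C' := C') (B := B) (B₀ := B₀) hres hker
  have hwd : ∀ x y : RingHom.ker (algebraMap (R' C' B) B), ρI (k := k) (B₀ := B₀) x = ρI y → h x = h y := by
    intro x y hxy
    have h1 : ρ k C' B ((x - y : RingHom.ker (algebraMap (R' C' B) B)) : R' C' B) = 0 := by
      have := congrArg (Subtype.val) hxy
      rw [coe_ρI, coe_ρI] at this
      rw [Submodule.coe_sub, map_sub, this, sub_self]
    have h2 := hom_eq_zero_of_ρ_eq_zero (k := k) B₀ hp h hJ (x - y) h1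
    rw [map_sub, sub_eq_zero] at h2
    exact h2
  let s : RingHom.ker (algebraMap (R₀ k B) B₀) → RingHom.ker (algebraMap (R' C' B) B) := Function.surjInv hsurj
  have hs : ∀ x₀, ρI (k := k) (B₀ := B₀) (s x₀) = x₀ := Function.surjInv_eq hsurj
  refine ⟨{ toFun := fun x₀ => h (s x₀), map_add' := ?_, map_smul' := ?_ }, ?_⟩
  · intro x₀ y₀
    rw [← map_add]
    apply hwd
    rw [hs]
    have : ρI (k := k) (B₀ := B₀) (s x₀ + s y₀) = ρI (s x₀) + ρI (s y₀) :=
      Subtype.ext (map_add (ρ k C' B) _ _)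
    rw [this, hs, hs]
  · intro r₀ x₀
    obtain ⟨r, rfl⟩ := ρ_surjective (B := B) hres r₀
    have h1 : ρ k C' B r • h (s x₀) = h (r • s x₀) := by
      rw [ρ_smul B₀, map_smul]
    rw [RingHom.id_apply, h1]
    apply hwd
    rw [hs]
    have : ρI (k := k) (B₀ := B₀) (r • s x₀) = ρ k C' B r • ρI (s x₀) :=
      Subtype.ext (map_mul (ρ k C' B) _ _)
    rw [this, hs]
  · ext x
    rw [pullHom_apply]
    change h (s (ρI x)) = h x
    apply hwd
    rw [hs]

end Descent

section Der

variable {k C' B B₀ M : Type u} [Field k] [CommRing C'] [CommRing B] [CommRing B₀]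
  [Algebra C' k] [Algebra C' B] [Algebra k B₀] [Algebra B B₀] [Algebra C' B₀]
  [IsScalarTower C' B B₀] [IsScalarTower C' k B₀]
  [AddCommGroup M] [Module B₀ M] [Module B M] [IsScalarTower B B₀ M]
  [Module C' M] [IsScalarTower C' B M] [Module k M] [IsScalarTower k B₀ M]

attribute [local instance] algR'B algR₀B₀ modR'M

variable [Module (R₀ k B) M] [IsScalarTower (R₀ k B) B₀ M] [IsScalarTower k (R₀ k B) M]

variable (C' B₀) in
/-- pulling back a derivation along `ρ` -/
noncomputable def pullDer (D₀ : Derivation k (R₀ k B) M) : Derivation C' (R' C' B) M :=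
  Derivation.mk'
    { toFun := fun r => D₀ (ρ k C' B r)
      map_add' := fun r s => by rw [map_add, map_add]
      map_smul' := fun c r => by
        have h1 : ρ k C' B (c • r) = algebraMap C' k c • ρ k C' B r := by
          rw [Algebra.smul_def, map_mul, MvPolynomial.algebraMap_eq, ρ_C, Algebra.smul_def,
            MvPolynomial.algebraMap_eq]
        have h2 : ∀ z : M, algebraMap C' k c • z = c • z := by
          intro z
          rw [← algebraMap_smul B₀ (algebraMap C' k c) z, ← IsScalarTower.algebraMap_apply C' k B₀,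
            IsScalarTower.algebraMap_apply C' B B₀, algebraMap_smul, algebraMap_smul]
        rw [RingHom.id_apply, h1, Derivation.map_smul, h2] }
    (fun r s => by
      change D₀ (ρ k C' B (r * s)) = r • D₀ (ρ k C' B s) + s • D₀ (ρ k C' B r)
      rw [map_mul, D₀.leibniz, ρ_smul B₀, ρ_smul B₀])

lemma pullDer_apply (D₀ : Derivation k (R₀ k B) M) (r : R' C' B) : pullDer C' B₀ D₀ r = D₀ (ρ k C' B r) := rfl

/-- every derivation of `R'` is pulled back from `R₀` -/
theorem exists_pullDer_eq (D' : Derivation C' (R' C' B) M) :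
    ∃ D₀ : Derivation k (R₀ k B) M, pullDer C' B₀ D₀ = D' := by
  refine ⟨MvPolynomial.mkDerivation k (fun b => D' (X b)), ?_⟩
  apply MvPolynomial.derivation_ext
  intro b
  rw [pullDer_apply, ρ_X, MvPolynomial.mkDerivation_X]

lemma resDer_pullDer (D₀ : Derivation k (R₀ k B) M) :
    resDer (A := C') (R := R' C' B) (B := B) (M := M) (pullDer C' B₀ D₀) =
      pullHom (C' := C') (resDer (A := k) (R := R₀ k B) (B := B₀) (M := M) D₀) := by
  ext x
  rfl

end Der

end Groth.Agent.LibLift29
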