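import Groth.Agent.LibLift29b

/-!
# Lifting flat algebras along a small surjection: classification of `J`-compatible extensions (seat helper29)

`C' → C₁` surjective with kernel `J`, `B` a flat `C₁`-algebra, `B → B₀` surjective with kernel `𝔪' B`, `M` a
`B₀`-module, `τ : J → M`.  An extension `X` of `B` by `M` over `C'` is `J`-compatible when `j x = incl (proj x • τ j)`.
If one `J`-compatible extension exists, the equivalence classes of `J`-compatible extensions are in bijection with
`Hom_{R₀}(I₀, M)/Der_k(R₀, M)`.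
-/

set_option autoImplicit false
universe u

namespace Groth.Agent.LibLift29

open MvPolynomial Groth.Agent.LibExal29

section Main

variable {k C' C₁ B B₀ M : Type u} [Field k] [CommRing C'] [CommRing C₁] [CommRing B] [CommRing B₀]
  [Algebra C' k] [Algebra C' B] [Algebra k B₀] [Algebra B B₀] [Algebra C' B₀]
  [IsScalarTower C' B B₀] [IsScalarTower C' k B₀]
  [Algebra C' C₁] [Algebra C₁ B] [IsScalarTower C' C₁ B]
  [AddCommGroup M] [Module B₀ M] [Module B M] [IsScalarTower B B₀ M]
  [Module C' M] [IsScalarTower C' B M] [Module k M] [IsScalarTower k B₀ M]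

attribute [local instance] algR'B algR₀B₀ modR'M

/-- `J`-compatible extensions -/
def JCompat (τ : RingHom.ker (algebraMap C' C₁) → M) (X : Exal.Ext C' B M) : Prop :=
  ∀ (j : RingHom.ker (algebraMap C' C₁)) (x : X.E),
    algebraMap C' X.E (j : C') * x = X.incl (X.proj x • τ j)

lemma algebraMap_ker_eq_zero (j : RingHom.ker (algebraMap C' C₁)) : algebraMap C' B (j : C') = 0 := by
  rw [IsScalarTower.algebraMap_apply C' C₁ B, (RingHom.mem_ker).mp j.2, map_zero]

theorem jcompat_iff (τ : RingHom.ker (algebraMap C' C₁) → M) {X : Exal.Ext C' B M} {f : R' C' B →ₐ[C'] X.E}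
    (hf : IsLift X f) :
    JCompat τ X ↔ ∀ j : RingHom.ker (algebraMap C' C₁),
      cf hf ⟨C (j : C'), C_mem_ker (j : C') ((RingHom.mem_ker).mp j.2)⟩ = τ j := by
  have hfC : ∀ c : C', f (C c) = algebraMap C' X.E c := fun c => by
    rw [← MvPolynomial.algebraMap_eq, AlgHom.commutes]
  constructor
  · intro h j
    apply X.isExtension.incl_injective
    rw [incl_cf]
    change f (C (j : C')) = _
    rw [hfC]
    have h1 := h j 1
    rw [mul_one, map_one, one_smul] at h1
    exact h1
  · intro h j x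
    obtain ⟨t, rfl⟩ := alpha_surjective hf (algebraMap_R'_surjective (C' := C') (B := B)) x
    rw [alpha_apply, mul_add, map_add, proj_incl, add_zero, hf]
    have h1 : algebraMap C' X.E (j : C') * X.incl t.snd = 0 := by
      rw [X.isExtension.mul_incl, AlgHom.commutes, algebraMap_ker_eq_zero, zero_smul, map_zero]
    have h2 : algebraMap C' X.E (j : C') * f t.fst =
        X.incl (t.fst • cf hf ⟨C (j : C'), C_mem_ker (j : C') ((RingHom.mem_ker).mp j.2)⟩) := by
      rw [← map_smul, incl_cf]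
      change _ = f (t.fst * C (j : C'))
      rw [map_mul, hfC, mul_comm]
    rw [h1, h2, add_zero, h j, algebraMap_smul]

variable [Module (R₀ k B) M] [IsScalarTower (R₀ k B) B₀ M] [IsScalarTower k (R₀ k B) M]
variable [Module.Flat C₁ B]

/-- classification of `J`-compatible extensions relative to a base point -/
theorem exists_classifying_map (hres : Function.Surjective (algebraMap C' k))
    (hker : RingHom.ker (algebraMap B B₀) ≤ Ideal.map (algebraMap C' B) (RingHom.ker (algebraMap C' k)))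
    (hp : Function.Surjective (algebraMap C' C₁))
    (hJk : ∀ j : C', algebraMap C' C₁ j = 0 → algebraMap C' k j = 0)
    (τ : RingHom.ker (algebraMap C' C₁) → M)
    (X₀ : Exal.Ext C' B M) (hX₀ : JCompat τ X₀) :
    ∃ Ψ : {X : Exal.Ext C' B M // JCompat τ X} → ExalTarget k (R₀ k B) B₀ M,
      (∀ X Y, Ψ X = Ψ Y ↔ Nonempty (X.1.Equiv Y.1)) ∧ Function.Surjective Ψ := by
  have hsurj' : Function.Surjective (algebraMap (R' C' B) B) := algebraMap_R'_surjective
  obtain ⟨f₀, hf₀⟩ := exists_lift (R := R' C' B) X₀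
  have hcf₀ := (jcompat_iff τ hf₀).mp hX₀
  -- the descended difference
  have hex : ∀ (X : {X : Exal.Ext C' B M // JCompat τ X}) (f : R' C' B →ₐ[C'] X.1.E) (hf : IsLift X.1 f),
      ∃ h₀ : RingHom.ker (algebraMap (R₀ k B) B₀) →ₗ[R₀ k B] M, pullHom (C' := C') h₀ = cf hf - cf hf₀ := by
    intro X f hf
    apply exists_descend hres hker hp
    intro j hj
    have h1 := (jcompat_iff τ hf).mp X.2 ⟨j, hj⟩
    have h2 := hcf₀ ⟨j, hj⟩
    rw [LinearMap.sub_apply]
    change cf hf ⟨C j, _⟩ - cf hf₀ ⟨C j, _⟩ = 0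
    rw [sub_eq_zero]
    exact h1.trans h2.symm
  -- the class does not depend on the lift
  have hind : ∀ (X : {X : Exal.Ext C' B M // JCompat τ X}) (f f' : R' C' B →ₐ[C'] X.1.E) (hf : IsLift X.1 f)
      (hf' : IsLift X.1 f') (h₀ h₀' : RingHom.ker (algebraMap (R₀ k B) B₀) →ₗ[R₀ k B] M),
      pullHom (C' := C') h₀ = cf hf - cf hf₀ → pullHom (C' := C') h₀' = cf hf' - cf hf₀ →
      (Submodule.Quotient.mk h₀' : ExalTarget k (R₀ k B) B₀ M) = Submodule.Quotient.mk h₀ := by
    intro X f f' hf hf' h₀ h₀' e e'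
    obtain ⟨D₀, hD₀⟩ := exists_pullDer_eq (k := k) (B₀ := B₀) (derOfLifts hf hf')
    have h1 : pullHom (C' := C') h₀' = pullHom (C' := C') (h₀ + resDer (B := B₀) D₀) := by
      rw [e', cf_eq_add_resDer hf hf', ← hD₀, resDer_pullDer]
      ext x
      rw [LinearMap.sub_apply, LinearMap.add_apply, pullHom_apply, pullHom_apply, LinearMap.add_apply,
        ← pullHom_apply (C' := C') h₀, e, LinearMap.sub_apply]
      abel
    have h2 := pullHom_injective (C' := C') hres hker _ _ h1
    rw [h2, Submodule.Quotient.mk_add]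
    have : (Submodule.Quotient.mk (resDer (B := B₀) D₀) : ExalTarget k (R₀ k B) B₀ M) = 0 := by
      rw [Submodule.Quotient.mk_eq_zero]
      exact ⟨_, rfl⟩
    rw [this, add_zero]
  -- the map
  let fX : ∀ X : {X : Exal.Ext C' B M // JCompat τ X}, R' C' B →ₐ[C'] X.1.E := fun X =>
    Classical.choose (exists_lift (R := R' C' B) X.1)
  have hfX : ∀ X, IsLift X.1 (fX X) := fun X => Classical.choose_spec (exists_lift (R := R' C' B) X.1)
  let Ψ : {X : Exal.Ext C' B M // JCompat τ X} → ExalTarget k (R₀ k B) B₀ M := fun X =>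
    Submodule.Quotient.mk (Classical.choose (hex X (fX X) (hfX X)))
  have hΨ : ∀ (X : {X : Exal.Ext C' B M // JCompat τ X}) (f : R' C' B →ₐ[C'] X.1.E) (hf : IsLift X.1 f)
      (h₀ : RingHom.ker (algebraMap (R₀ k B) B₀) →ₗ[R₀ k B] M),
      pullHom (C' := C') h₀ = cf hf - cf hf₀ → Ψ X = Submodule.Quotient.mk h₀ := by
    intro X f hf h₀ e
    exact hind X f (fX X) hf (hfX X) h₀ _ e (Classical.choose_spec (hex X (fX X) (hfX X)))
  refine ⟨Ψ, ?_, ?_⟩
  · intro X Y
    constructor
    · intro h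
      obtain ⟨f, hf⟩ := exists_lift (R := R' C' B) X.1
      obtain ⟨g, hg⟩ := exists_lift (R := R' C' B) Y.1
      obtain ⟨h₀, e⟩ := hex X f hf
      obtain ⟨h₁, e₁⟩ := hex Y g hg
      rw [hΨ X f hf h₀ e, hΨ Y g hg h₁ e₁, ← sub_eq_zero, ← Submodule.Quotient.mk_sub,
        Submodule.Quotient.mk_eq_zero] at h
      obtain ⟨D₀, hD₀⟩ := h
      have h2 : cf hf = cf (isLift_liftAdd hg (pullDer C' B₀ D₀)) := by
        rw [cf_liftAdd, resDer_pullDer, hD₀]
        ext x
        have e2 := LinearMap.congr_fun e x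
        have e3 := LinearMap.congr_fun e₁ x
        rw [LinearMap.sub_apply] at e2 e3
        rw [LinearMap.add_apply, pullHom_apply, LinearMap.sub_apply, ← pullHom_apply (C' := C') h₀,
          ← pullHom_apply (C' := C') h₁, e2, e3]
        abel
      exact nonempty_equiv_of_cf_eq hf (isLift_liftAdd hg (pullDer C' B₀ D₀)) hsurj' h2
    · rintro ⟨θ⟩
      obtain ⟨f, hf⟩ := exists_lift (R := R' C' B) X.1
      obtain ⟨h₀, e⟩ := hex X f hf
      have e' : pullHom (C' := C') h₀ = cf (isLift_equiv hf θ) - cf hf₀ := by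
        rw [cf_equiv]
        exact e
      rw [hΨ X f hf h₀ e, hΨ Y _ (isLift_equiv hf θ) h₀ e']
  · intro q
    obtain ⟨h₀, rfl⟩ := Submodule.Quotient.mk_surjective _ q
    have hJC : JCompat τ (pushExt C' B (cf hf₀ + pullHom (C' := C') h₀) hsurj') := by
      rw [jcompat_iff τ (isLift_pushLift C' B (cf hf₀ + pullHom (C' := C') h₀) hsurj'), cf_pushLift]
      intro j
      rw [LinearMap.add_apply, pullHom_C h₀ (j : C') ((RingHom.mem_ker).mp j.2)
        (hJk _ ((RingHom.mem_ker).mp j.2)), add_zero]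
      exact hcf₀ j
    refine ⟨⟨pushExt C' B (cf hf₀ + pullHom (C' := C') h₀) hsurj', hJC⟩, ?_⟩
    apply hΨ _ _ (isLift_pushLift C' B (cf hf₀ + pullHom (C' := C') h₀) hsurj')
    rw [cf_pushLift, add_sub_cancel_left]

end Main

end Groth.Agent.LibLift29
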