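import Groth.Agent.LibDefRing29a

/-!
# Extensions of a deformation along a surjection of Artin rings: scheme ↔ ring dictionary (seat helper29)

For `p : C' ⟶ C` surjective and a deformation `𝒳` of `Spec B₀` over `C`, an extension `s = (𝒳', ι)` of `𝒳` over `C'`
has the ring data `E_s = Γ(𝒳'.total)` with the surjection `β_s : E_s → Γ(𝒳.total)`.
-/

set_option autoImplicit false
universe u
open CategoryTheory CategoryTheory.Limits AlgebraicGeometry

namespace Groth.Agent.LibLift29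

open Groth.Agent.LibAffDef29 Groth.Agent.LibDefDual29 Groth.Agent.LibDefRing29 ArtFun

lemma toΓ_comp_SpecMap {R S : Type u} [CommRing R] [CommRing S] {Y : Scheme.{u}}
    (g : Y ⟶ Spec (CommRingCat.of S)) (φ : CommRingCat.of R ⟶ CommRingCat.of S) :
    toΓ (g ≫ Spec.map φ) = φ ≫ toΓ g := by
  rw [toΓ, toΓ, Scheme.Hom.comp_appTop, ← Category.assoc, ← Category.assoc, Scheme.ΓSpecIso_inv_naturality]

lemma bijective_appTop_inv {X Y : Scheme.{u}} (θ : X ≅ Y) : Function.Bijective θ.inv.appTop.hom := by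
  have h1 : θ.hom.appTop ≫ θ.inv.appTop = 𝟙 _ := by
    rw [← Scheme.Hom.comp_appTop, θ.inv_hom_id, Scheme.Hom.id_appTop]
  have h2 : θ.inv.appTop ≫ θ.hom.appTop = 𝟙 _ := by
    rw [← Scheme.Hom.comp_appTop, θ.hom_inv_id, Scheme.Hom.id_appTop]
  rw [Function.bijective_iff_has_inverse]
  refine ⟨θ.hom.appTop.hom, fun x => ?_, fun x => ?_⟩
  · exact congrArg (fun φ => φ.hom x) h2
  · exact congrArg (fun φ => φ.hom x) h1

lemma appTop_isoSpec_conj {X Y : Scheme.{u}} [IsAffine X] [IsAffine Y] (Φ : Γ(Y, ⊤) ⟶ Γ(X, ⊤)) :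
    (X.isoSpec.hom ≫ Spec.map Φ ≫ Y.isoSpec.inv).appTop = Φ := by
  have hX : X.isoSpec.hom.appTop = (Scheme.ΓSpecIso Γ(X, ⊤)).hom := X.toSpecΓ_appTop
  have hY : Y.isoSpec.hom.appTop = (Scheme.ΓSpecIso Γ(Y, ⊤)).hom := Y.toSpecΓ_appTop
  have e : Y.isoSpec.inv.appTop ≫ Y.isoSpec.hom.appTop = 𝟙 _ := by
    rw [← Scheme.Hom.comp_appTop, Iso.hom_inv_id, Scheme.Hom.id_appTop]
  rw [hY, Iso.comp_hom_eq_id] at e
  rw [Scheme.Hom.comp_appTop, Scheme.Hom.comp_appTop, hX, e, Category.assoc, Scheme.ΓSpecIso_naturality,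
    Iso.inv_hom_id_assoc]

variable {k : Type u} [Field k] {B₀ : Type u} [CommRing B₀] [Algebra k B₀]
variable {C' C : Art k k} (p : C' ⟶ C)
  (𝒳 : DefSch (Spec (CommRingCat.of B₀)) (Spec.map (CommRingCat.ofHom (algebraMap k B₀))) C)

/-- extensions of `𝒳` over `C'` -/
abbrev Lifts : Type (u + 1) :=
  Σ 𝒳' : DefSch (Spec (CommRingCat.of B₀)) (Spec.map (CommRingCat.ofHom (algebraMap k B₀))) C',
    (𝒳'.baseChange p).Iso 𝒳

variable {p 𝒳}

/-- the surjection `Γ(𝒳') → Γ(𝒳)` of an extension -/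
noncomputable def βs (s : Lifts p 𝒳) : Γ(s.1.total, ⊤) ⟶ Γ(𝒳.total, ⊤) :=
  (pullback.fst s.1.f (Art.specMap p)).appTop ≫ s.2.iso.inv.appTop

lemma toΓ_βs (s : Lifts p 𝒳) :
    toΓ s.1.f ≫ βs s = CommRingCat.ofHom p.toAlgHom.toRingHom ≫ toΓ 𝒳.f := by
  have h1 : s.2.iso.inv ≫ pullback.snd s.1.f (Art.specMap p) = 𝒳.f := s.2.symm.hom_f
  rw [βs, ← Scheme.Hom.comp_appTop, ← toΓ_comp, Category.assoc, pullback.condition, ← Category.assoc, h1]
  exact toΓ_comp_SpecMap _ _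

lemma βs_fromΓ (hp : Function.Surjective p) (s : Lifts p 𝒳) : βs s ≫ fromΓ 𝒳.i = fromΓ s.1.i := by
  obtain ⟨-, -, h3⟩ := baseChange_package s.1 p hp
  have h1 : (s.1.baseChange p).i ≫ s.2.iso.hom = 𝒳.i := s.2.i_hom
  rw [βs, Category.assoc, ← fromΓ_comp, ← h1, Category.assoc, Iso.hom_inv_id, Category.comp_id]
  exact h3

lemma βs_surjective (hp : Function.Surjective p) (s : Lifts p 𝒳) : Function.Surjective (βs s).hom := by
  obtain ⟨h1, -, -⟩ := baseChange_package s.1 p hp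
  have h2 : Function.Bijective s.2.iso.inv.appTop.hom := bijective_appTop_inv s.2.iso
  rw [βs, CommRingCat.hom_comp]
  exact h2.2.comp h1

lemma ker_βs_le (hp : Function.Surjective p) (s : Lifts p 𝒳) :
    RingHom.ker (βs s).hom ≤ Ideal.map (toΓ s.1.f).hom (RingHom.ker p.toAlgHom.toRingHom) := by
  obtain ⟨-, h2, -⟩ := baseChange_package s.1 p hp
  have h3 : Function.Bijective s.2.iso.inv.appTop.hom := bijective_appTop_inv s.2.iso
  refine le_trans ?_ h2
  intro x hx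
  rw [RingHom.mem_ker] at hx ⊢
  apply h3.1
  rw [map_zero]
  exact hx

/-- an equivalence of extensions gives a compatible ring isomorphism -/
theorem ringIso_of_rel (a b : Lifts p 𝒳) (ψ : a.1.Iso b.1)
    (h : ((ψ.baseChange p).trans b.2).iso = a.2.iso) :
    Function.Bijective ψ.iso.hom.appTop.hom ∧ toΓ b.1.f ≫ ψ.iso.hom.appTop = toΓ a.1.f ∧
      ψ.iso.hom.appTop ≫ βs a = βs b := by
  refine ⟨?_, ?_, ?_⟩
  · exact bijective_appTop_inv ψ.iso.symm
  · rw [← toΓ_comp, ψ.hom_f]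
  · have h1 : DefSch.pullMap ψ.iso.hom ψ.hom_f p ≫ b.2.iso.hom = a.2.iso.hom := congrArg Iso.hom h
    have h2 : a.2.iso.inv ≫ DefSch.pullMap ψ.iso.hom ψ.hom_f p = b.2.iso.inv := by
      rw [Iso.inv_comp_eq, ← h1, Category.assoc, Iso.hom_inv_id, Category.comp_id]
    have h3 : b.2.iso.inv ≫ pullback.fst b.1.f (Art.specMap p) =
        a.2.iso.inv ≫ pullback.fst a.1.f (Art.specMap p) ≫ ψ.iso.hom := by
      rw [← h2, Category.assoc, DefSch.pullMap_fst]
    have h4 := congrArg Scheme.Hom.appTop h3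
    rw [Scheme.Hom.comp_appTop, Scheme.Hom.comp_appTop, Scheme.Hom.comp_appTop, Category.assoc] at h4
    exact h4.symm

/-- a compatible ring isomorphism gives an equivalence of extensions -/
theorem rel_of_ringIso (hp : Function.Surjective p) (a b : Lifts p 𝒳)
    (Φ : Γ(b.1.total, ⊤) ⟶ Γ(a.1.total, ⊤)) (hΦ : Function.Bijective Φ.hom)
    (h1 : toΓ b.1.f ≫ Φ = toΓ a.1.f) (h2 : Φ ≫ βs a = βs b) :
    ∃ ψ : a.1.Iso b.1, ((ψ.baseChange p).trans b.2).iso = a.2.iso := by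
  haveI := isAffine_total a.1
  haveI := isAffine_total b.1
  haveI : IsIso Φ := (ConcreteCategory.isIso_iff_bijective Φ).mpr hΦ
  have h2' : Φ ≫ fromΓ a.1.i = fromΓ b.1.i := by
    rw [← βs_fromΓ hp a, ← βs_fromΓ hp b, ← Category.assoc, h2]
  let θ : a.1.total ≅ b.1.total :=
    a.1.total.isoSpec ≪≫ Scheme.Spec.mapIso (asIso Φ).op ≪≫ b.1.total.isoSpec.symm
  have hθ : θ.hom = a.1.total.isoSpec.hom ≫ Spec.map Φ ≫ b.1.total.isoSpec.inv := rfl
  have hθΦ : θ.hom.appTop = Φ := by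
    rw [hθ]
    exact appTop_isoSpec_conj Φ
  have hf : θ.hom ≫ b.1.f = a.1.f := by
    rw [hθ, eq_isoSpec_hom_comp b.1.f, Category.assoc, Category.assoc, Iso.inv_hom_id_assoc,
      ← Spec.map_comp, h1]
    exact (eq_isoSpec_hom_comp a.1.f).symm
  have hi : a.1.i ≫ θ.hom = b.1.i := by
    rw [hθ, ← Category.assoc, comp_isoSpec_hom, ← Category.assoc, ← Spec.map_comp, h2', Iso.comp_inv_eq,
      comp_isoSpec_hom]
  let ψ : a.1.Iso b.1 := ⟨θ, hf, hi⟩
  refine ⟨ψ, ?_⟩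
  apply Iso.ext
  change DefSch.pullMap θ.hom hf p ≫ b.2.iso.hom = a.2.iso.hom
  rw [← Iso.eq_comp_inv]
  apply pullback.hom_ext
  · rw [DefSch.pullMap_fst, Category.assoc]
    apply ext_of_isAffine
    rw [Scheme.Hom.comp_appTop, Scheme.Hom.comp_appTop, Scheme.Hom.comp_appTop, hθΦ]
    have e1 : a.2.iso.inv.appTop ≫ a.2.iso.hom.appTop = 𝟙 _ := by
      rw [← Scheme.Hom.comp_appTop, Iso.hom_inv_id, Scheme.Hom.id_appTop]
    have e2 : (pullback.fst b.1.f (Art.specMap p)).appTop ≫ b.2.iso.inv.appTop = βs b := rfl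
    rw [e2, ← h2, βs, Category.assoc, Category.assoc, e1, Category.comp_id]
  · rw [DefSch.pullMap_snd, Category.assoc]
    have e3 : b.2.iso.inv ≫ pullback.snd b.1.f (Art.specMap p) = 𝒳.f := b.2.symm.hom_f
    have e4 : a.2.iso.hom ≫ 𝒳.f = pullback.snd a.1.f (Art.specMap p) := a.2.hom_f
    rw [e3, e4]

variable (𝒳) in
/-- a flat ring-level lift of `Γ(𝒳)` comes from an extension of `𝒳` -/
theorem exists_lift_of_ring (hp : Function.Surjective p) (E : Type u) [CommRing E] (φ : C' →+* E)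
    (hflat : φ.Flat) (β : E →+* Γ(𝒳.total, ⊤)) (hβ : Function.Surjective β)
    (hker : RingHom.ker β ≤ Ideal.map φ (RingHom.ker p.toAlgHom.toRingHom))
    (hcompat : β.comp φ = (toΓ 𝒳.f).hom.comp p.toAlgHom.toRingHom) :
    ∃ (s : Lifts p 𝒳) (e : Γ(s.1.total, ⊤) ≃+* E),
      (∀ c, e ((toΓ s.1.f).hom c) = φ c) ∧ (∀ x, β (e x) = (βs s).hom x) := by
  haveI := isAffine_total 𝒳
  obtain ⟨-, -, hπsurj, hπker, hπcompat⟩ := package 𝒳
  set π : Γ(𝒳.total, ⊤) →+* B₀ := (fromΓ 𝒳.i).hom with hπ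
  have hres : ∀ c : C', C.res (p.toAlgHom c) = C'.res c := fun c => congrArg (fun g => g c) p.res_comp
  -- the closed fibre square
  have hw : ∀ c : C', π (β (φ c)) = algebraMap k B₀ (C'.res c) := by
    intro c
    have h1 : β (φ c) = (toΓ 𝒳.f).hom (p.toAlgHom c) := congrArg (fun g => g c) hcompat
    have h2 := congrArg (fun g => g.hom (p.toAlgHom c)) hπcompat
    rw [h1, ← hres]
    exact h2
  have hkerπβ : RingHom.ker (π.comp β) ≤ Ideal.map φ (RingHom.ker C'.res.toRingHom) := by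
    intro x hx
    have hx' : β x ∈ RingHom.ker π := hx
    have h1 := hπker hx'
    have h2 : Ideal.map (toΓ 𝒳.f).hom (RingHom.ker C.res.toRingHom) ≤
        Ideal.map β (Ideal.map φ (RingHom.ker C'.res.toRingHom)) := by
      rw [Ideal.map_map, Ideal.map_le_iff_le_comap]
      intro c hc
      obtain ⟨c', rfl⟩ := hp c
      rw [Ideal.mem_comap]
      have h3 : (toΓ 𝒳.f).hom (p.toAlgHom c') = (β.comp φ) c' := (congrArg (fun g => g c') hcompat).symm
      change (toΓ 𝒳.f).hom (p.toAlgHom c') ∈ _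
      rw [h3]
      apply Ideal.mem_map_of_mem
      rw [RingHom.mem_ker] at hc ⊢
      exact (hres c').symm.trans hc
    obtain ⟨y, hy, hyx⟩ := (Ideal.mem_map_iff_of_surjective β hβ).mp (h2 h1)
    have h4 : x - y ∈ RingHom.ker β := by
      rw [RingHom.mem_ker, map_sub, sub_eq_zero]
      exact hyx.symm
    have h5 : Ideal.map φ (RingHom.ker p.toAlgHom.toRingHom) ≤ Ideal.map φ (RingHom.ker C'.res.toRingHom) := by
      apply Ideal.map_mono
      intro c hc
      rw [RingHom.mem_ker] at hc ⊢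
      change C'.res c = 0
      rw [← hres]
      change C.res (p.toAlgHom.toRingHom c) = 0
      rw [hc, map_zero]
    have h6 := Ideal.add_mem _ (h5 (hker h4)) hy
    rwa [sub_add_cancel] at h6
  have hpo : IsPushout (CommRingCat.ofHom φ) (CommRingCat.ofHom C'.res.toRingHom)
      (CommRingCat.ofHom (π.comp β)) (CommRingCat.ofHom (algebraMap k B₀)) := by
    apply isPushout_of_surjective
    · ext c
      exact hw c
    · exact C'.res_surjective
    · exact hπsurj.comp hβ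
    · exact hkerπβ
  have hsq := isPullback_SpecMap_of_isPushout _ _ _ _ hpo
  let 𝒳' : DefSch (Spec (CommRingCat.of B₀)) (Spec.map (CommRingCat.ofHom (algebraMap k B₀))) C' :=
    { total := Spec (CommRingCat.of E)
      f := Spec.map (CommRingCat.ofHom φ)
      flat := Flat.SpecMap_iff.mpr hflat
      i := Spec.map (CommRingCat.ofHom (π.comp β))
      isPullback := hsq }
  -- the base change square
  have hpo2 : IsPushout (CommRingCat.ofHom φ) (CommRingCat.ofHom p.toAlgHom.toRingHom)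
      (CommRingCat.ofHom β) (toΓ 𝒳.f) := by
    apply isPushout_of_surjective
    · ext c
      exact congrArg (fun g => g c) hcompat
    · exact hp
    · exact hβ
    · exact hker
  have hsq2 := isPullback_SpecMap_of_isPushout _ _ _ _ hpo2
  let g : 𝒳.total ⟶ Spec (CommRingCat.of E) := 𝒳.total.isoSpec.hom ≫ Spec.map (CommRingCat.ofHom β)
  have hbig : IsPullback g 𝒳.f (Spec.map (CommRingCat.ofHom φ)) (Art.specMap p) := by
    refine IsPullback.of_iso hsq2 𝒳.total.isoSpec.symm (Iso.refl _) (Iso.refl _) (Iso.refl _) ?_ ?_ ?_ ?_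
    · rw [Iso.refl_hom, Category.comp_id, Iso.symm_hom]
      exact (Iso.inv_hom_id_assoc _ _).symm
    · rw [Iso.refl_hom, Category.comp_id, Iso.symm_hom, Iso.eq_inv_comp]
      exact (eq_isoSpec_hom_comp 𝒳.f).symm
    · rw [Iso.refl_hom, Iso.refl_hom, Category.comp_id, Category.id_comp]
    · rw [Iso.refl_hom, Iso.refl_hom, Category.comp_id, Category.id_comp]
  let θ : pullback 𝒳'.f (Art.specMap p) ≅ 𝒳.total :=
    (IsPullback.of_hasPullback 𝒳'.f (Art.specMap p)).isoIsPullback _ _ hbig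
  have hθfst : θ.hom ≫ g = pullback.fst 𝒳'.f (Art.specMap p) :=
    IsPullback.isoIsPullback_hom_fst _ _ (IsPullback.of_hasPullback 𝒳'.f (Art.specMap p)) hbig
  have hθsnd : θ.hom ≫ 𝒳.f = pullback.snd 𝒳'.f (Art.specMap p) :=
    IsPullback.isoIsPullback_hom_snd _ _ (IsPullback.of_hasPullback 𝒳'.f (Art.specMap p)) hbig
  have hig : 𝒳.i ≫ g = 𝒳'.i := by
    change 𝒳.i ≫ 𝒳.total.isoSpec.hom ≫ Spec.map (CommRingCat.ofHom β) = Spec.map (CommRingCat.ofHom (π.comp β))
    rw [← Category.assoc, comp_isoSpec_hom, ← Spec.map_comp]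
    rfl
  let ι : (𝒳'.baseChange p).Iso 𝒳 :=
    { iso := θ
      hom_f := hθsnd
      i_hom := by
        apply hbig.hom_ext
        · rw [Category.assoc, hθfst, DefSch.baseChange_i_fst, hig]
        · rw [Category.assoc, hθsnd]
          exact (DefSch.baseChange_i_f 𝒳' p).trans (DefSch.i_f 𝒳).symm }
  refine ⟨⟨𝒳', ι⟩, (Scheme.ΓSpecIso (CommRingCat.of E)).commRingCatIsoToRingEquiv, ?_, ?_⟩
  · intro c
    have h1 : toΓ (Spec.map (CommRingCat.ofHom φ)) ≫ (Scheme.ΓSpecIso (CommRingCat.of E)).hom =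
        CommRingCat.ofHom φ := toΓ_SpecMap_comp_ΓSpecIso' _
    exact congrArg (fun g => g.hom c) h1
  · intro x
    have h1 : βs (⟨𝒳', ι⟩ : Lifts p 𝒳) = (Scheme.ΓSpecIso (CommRingCat.of E)).hom ≫ CommRingCat.ofHom β := by
      have h2 : θ.inv ≫ pullback.fst 𝒳'.f (Art.specMap p) = g := by
        rw [← hθfst, Iso.inv_hom_id_assoc]
      change (pullback.fst 𝒳'.f (Art.specMap p)).appTop ≫ θ.inv.appTop = _
      rw [← Scheme.Hom.comp_appTop, h2]
      change (𝒳.total.isoSpec.hom ≫ Spec.map (CommRingCat.ofHom β)).appTop = _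
      rw [Scheme.Hom.comp_appTop]
      have h3 : 𝒳.total.isoSpec.hom.appTop = (Scheme.ΓSpecIso Γ(𝒳.total, ⊤)).hom := 𝒳.total.toSpecΓ_appTop
      rw [h3]
      exact Scheme.ΓSpecIso_naturality (CommRingCat.ofHom β)
    exact (congrArg (fun g => g.hom x) h1).symm

end Groth.Agent.LibLift29
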