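import Groth.Agent.LibLift29d

/-!
# Lifting flat algebras along a small surjection, mixed characteristic version (seat helper29)

Copy of the needed half of `LibLift29d` in which `C'` is no longer a `k`-algebra: the kernel `J` of `C' → C₁`, killed
by `𝔪' = ker (C' → k)`, carries an abstract `k`-module structure compatible with `C' → k`.  The middle ring of a
`J`-compatible extension of `B` by `B₀ ⊗_k J` is flat over `C'`.
-/

set_option autoImplicit false
universe u

namespace Groth.Agent.LibLiftL29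

open TensorProduct Groth.Agent.LibExal29 Groth.Agent.LibLift29

section PreLift

variable {k C' C₁ B B₀ : Type u} [Field k] [CommRing C'] [CommRing C₁] [CommRing B] [CommRing B₀]
  [Algebra C' k] [Algebra C' B] [Algebra k B₀] [Algebra B B₀] [Algebra C' B₀]
  [IsScalarTower C' B B₀] [IsScalarTower C' k B₀]
  (J : Ideal C') [Module k J] [IsScalarTower C' k J]
  {E : Type u} [CommRing E] [Algebra C' E] (β : E →ₐ[C'] B)

omit [Module k J] [IsScalarTower C' k J] in
lemma ker_gam_le (hβ : Function.Surjective β)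
    (hker : RingHom.ker β ≤ Ideal.map (algebraMap C' E) J)
    (hkerπ : RingHom.ker (algebraMap B B₀) ≤ Ideal.map (algebraMap C' B) (RingHom.ker (algebraMap C' k)))
    (hJk : ∀ j ∈ J, algebraMap C' k j = 0) :
    RingHom.ker (gam (B₀ := B₀) β) ≤ Ideal.map (algebraMap C' E) (RingHom.ker (algebraMap C' k)) := by
  intro e he
  rw [RingHom.mem_ker, gam_apply, ← RingHom.mem_ker] at he
  have h1 := hkerπ he
  have h2 : Ideal.map (algebraMap C' B) (RingHom.ker (algebraMap C' k)) =
      Ideal.map β.toRingHom (Ideal.map (algebraMap C' E) (RingHom.ker (algebraMap C' k))) := by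
    rw [Ideal.map_map]
    congr 1
    ext c
    exact (β.commutes c).symm
  rw [h2] at h1
  obtain ⟨e', he', hee'⟩ := (Ideal.mem_map_iff_of_surjective β.toRingHom hβ).mp h1
  have h3 : e - e' ∈ RingHom.ker β := by
    rw [RingHom.mem_ker, map_sub, sub_eq_zero]
    exact hee'.symm
  have h4 : Ideal.map (algebraMap C' E) J ≤ Ideal.map (algebraMap C' E) (RingHom.ker (algebraMap C' k)) :=
    Ideal.map_mono (fun j hj => (RingHom.mem_ker).mpr (hJk j hj))
  have h5 := Ideal.add_mem _ (h4 (hker h3)) he'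
  rwa [sub_add_cancel] at h5

omit [Module k J] [IsScalarTower C' k J] in
/-- `e ⊗ j = 0` for `e ∈ 𝔪' E` -/
lemma tmul_eq_zero_of_mem (hJm : ∀ a : C', algebraMap C' k a = 0 → ∀ j ∈ J, a * j = 0)
    (e : E) (he : e ∈ Ideal.map (algebraMap C' E) (RingHom.ker (algebraMap C' k))) (j : J) :
    e ⊗ₜ[C'] j = 0 := by
  rw [Ideal.map] at he
  refine Submodule.span_induction (p := fun e _ => e ⊗ₜ[C'] j = 0) ?_ ?_ ?_ ?_ he
  · rintro x ⟨a, ha, rfl⟩
    rw [Algebra.algebraMap_eq_smul_one, smul_tmul]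
    have : a • j = 0 := by
      apply Subtype.ext
      rw [Submodule.coe_smul, smul_eq_mul]
      exact hJm a ((RingHom.mem_ker).mp ha) j j.2
    rw [this, tmul_zero]
  · exact zero_tmul _ _
  · intro x y _ _ hx hy
    rw [add_tmul, hx, hy, add_zero]
  · intro a x _ hx
    rw [← smul_tmul', hx, smul_zero]

variable (hγ : Function.Surjective (gam (B₀ := B₀) β))
  (hle : RingHom.ker (gam (B₀ := B₀) β) ≤ Ideal.map (algebraMap C' E) (RingHom.ker (algebraMap C' k)))
  (hJm : ∀ a : C', algebraMap C' k a = 0 → ∀ j ∈ J, a * j = 0)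
  (hres : Function.Surjective (algebraMap C' k))

omit [Module k J] [IsScalarTower C' k J] in
include hle hJm in
lemma ker_le_ker_mk :
    LinearMap.ker (gam (B₀ := B₀) β).toLinearMap ≤ LinearMap.ker (TensorProduct.mk C' E J) := by
  intro e he
  have he' : e ∈ RingHom.ker (gam (B₀ := B₀) β) := he
  rw [LinearMap.mem_ker]
  apply LinearMap.ext
  intro j
  exact tmul_eq_zero_of_mem (k := k) J hJm e (hle he') j

/-- the descended map `B₀ → Hom(J, E ⊗ J)` -/
noncomputable def f₀ : B₀ →ₗ[C'] (J →ₗ[C'] E ⊗[C'] J) :=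
  let g : (E ⧸ LinearMap.ker (gam (B₀ := B₀) β).toLinearMap) →ₗ[C'] (J →ₗ[C'] E ⊗[C'] J) :=
    Submodule.liftQ (R₂ := C') (M₂ := J →ₗ[C'] E ⊗[C'] J) (LinearMap.ker (gam (B₀ := B₀) β).toLinearMap)
      (TensorProduct.mk C' E J) (ker_le_ker_mk J β hle hJm)
  g ∘ₗ (((gam (B₀ := B₀) β).toLinearMap.quotKerEquivOfSurjective hγ).symm :
    B₀ →ₗ[C'] (E ⧸ LinearMap.ker (gam (B₀ := B₀) β).toLinearMap))

omit [Module k J] [IsScalarTower C' k J] in
lemma f₀_gam (e : E) (j : J) : f₀ J β hγ hle hJm (gam β e) j = e ⊗ₜ[C'] j := by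
  have h1 := LinearMap.quotKerEquivOfSurjective_symm_apply (gam (B₀ := B₀) β).toLinearMap hγ e
  change (Submodule.liftQ (R₂ := C') (M₂ := J →ₗ[C'] E ⊗[C'] J) (LinearMap.ker (gam (B₀ := B₀) β).toLinearMap)
      (TensorProduct.mk C' E J) (ker_le_ker_mk J β hle hJm))
    (((gam (B₀ := B₀) β).toLinearMap.quotKerEquivOfSurjective hγ).symm
    ((gam (B₀ := B₀) β).toLinearMap e)) j = _
  rw [h1, Submodule.liftQ_apply]
  rfl

/-- `B₀ ⊗_k J → E ⊗_{C'} J` -/
noncomputable def nu : B₀ ⊗[k] J →+ E ⊗[C'] J :=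
  TensorProduct.liftAddHom (LinearMap.toAddMonoidHom'.comp (f₀ J β hγ hle hJm).toAddMonoidHom) (by
    intro r b₀ j
    change f₀ J β hγ hle hJm (r • b₀) j = f₀ J β hγ hle hJm b₀ (r • j)
    obtain ⟨c, rfl⟩ := hres r
    rw [algebraMap_smul, algebraMap_smul, map_smul, map_smul, LinearMap.smul_apply])

lemma nu_tmul (e : E) (j : J) : nu J β hγ hle hJm hres (gam β e ⊗ₜ[k] j) = e ⊗ₜ[C'] j :=
  f₀_gam J β hγ hle hJm e j

lemma nu_surjective : Function.Surjective (nu J β hγ hle hJm hres) := by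
  intro z
  induction z using TensorProduct.induction_on with
  | zero => exact ⟨0, map_zero _⟩
  | add x y hx hy =>
    obtain ⟨x', rfl⟩ := hx
    obtain ⟨y', rfl⟩ := hy
    exact ⟨x' + y', map_add _ _ _⟩
  | tmul e j => exact ⟨gam β e ⊗ₜ[k] j, nu_tmul J β hγ hle hJm hres e j⟩

/-- `E ⊗_{C'} J → B₀ ⊗_k J` -/
noncomputable def mu : E ⊗[C'] J →ₗ[C'] B₀ ⊗[k] J :=
  TensorProduct.lift (LinearMap.mk₂ C' (fun (e : E) (j : J) => gam (B₀ := B₀) β e ⊗ₜ[k] j)
    (fun e e' j => by rw [map_add, add_tmul])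
    (fun c e j => by rw [map_smul, smul_tmul'])
    (fun e j j' => by rw [tmul_add])
    (fun c e j => by
      rw [← algebraMap_smul k c j, tmul_smul, smul_tmul', smul_tmul', algebraMap_smul]))

lemma mu_tmul (e : E) (j : J) : mu (k := k) (B₀ := B₀) J β (e ⊗ₜ[C'] j) = gam (B₀ := B₀) β e ⊗ₜ[k] j := rfl

end PreLift

section OfJCompat

variable {k C' C₁ B B₀ : Type u} [Field k] [CommRing C'] [CommRing C₁] [CommRing B] [CommRing B₀]
  [Algebra C' k] [Algebra C' B] [Algebra k B₀] [Algebra B B₀] [Algebra C' B₀]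
  [IsScalarTower C' B B₀] [IsScalarTower C' k B₀]
  [Algebra C' C₁] [Algebra C₁ B] [IsScalarTower C' C₁ B]
  (J : Ideal C') [Module k J] [IsScalarTower C' k J]

/-- the tautological map `J → B₀ ⊗_k J` -/
noncomputable def tauJ (hJ : ∀ c : C', c ∈ J ↔ algebraMap C' C₁ c = 0) :
    RingHom.ker (algebraMap C' C₁) → B₀ ⊗[k] J :=
  fun j => (1 : B₀) ⊗ₜ[k] ⟨(j : C'), (hJ _).mpr ((RingHom.mem_ker).mp j.2)⟩

variable (X : Exal.Ext C' B (B₀ ⊗[k] J))
  (hJ : ∀ c : C', c ∈ J ↔ algebraMap C' C₁ c = 0)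
  (hX : JCompat (tauJ (k := k) (B₀ := B₀) J hJ) X)

include hX in
lemma incl_gam_tmul (x : X.E) (j : J) :
    X.incl (gam (B₀ := B₀) X.proj x ⊗ₜ[k] j) = algebraMap C' X.E (j : C') * x := by
  have h := hX ⟨j.1, (RingHom.mem_ker).mpr ((hJ _).mp j.2)⟩ x
  rw [h]
  congr 1
  rw [tauJ, smul_tmul', gam_apply, Algebra.smul_def, mul_one]

include hX in
lemma incl_mem_map (hπ : Function.Surjective (algebraMap B B₀)) (z : B₀ ⊗[k] J) :
    X.incl z ∈ Ideal.map (algebraMap C' X.E) J := by
  induction z using TensorProduct.induction_on with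
  | zero => rw [map_zero]; exact zero_mem _
  | add z z' hz hz' => rw [map_add]; exact add_mem hz hz'
  | tmul b₀ j =>
    obtain ⟨b, rfl⟩ := hπ b₀
    obtain ⟨x', rfl⟩ := X.isExtension.proj_surjective b
    rw [← gam_apply, incl_gam_tmul J X hJ hX]
    exact Ideal.mul_mem_right _ _ (Ideal.mem_map_of_mem _ j.2)

include hX in
lemma ker_proj_le (hπ : Function.Surjective (algebraMap B B₀)) :
    RingHom.ker X.proj ≤ Ideal.map (algebraMap C' X.E) J := by
  intro x hx
  obtain ⟨z, rfl⟩ := (X.isExtension.exact x).mp ((RingHom.mem_ker).mp hx)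
  exact incl_mem_map J X hJ hX hπ z

include hX in
/-- the middle ring of a `J`-compatible extension is flat -/
theorem flat_of_jcompat [Module.Flat C₁ B] (hp : Function.Surjective (algebraMap C' C₁))
    (hres : Function.Surjective (algebraMap C' k))
    (hπ : Function.Surjective (algebraMap B B₀))
    (hkerπ : RingHom.ker (algebraMap B B₀) ≤ Ideal.map (algebraMap C' B) (RingHom.ker (algebraMap C' k)))
    (hJk : ∀ j ∈ J, algebraMap C' k j = 0)
    (hJm : ∀ a : C', algebraMap C' k a = 0 → ∀ j ∈ J, a * j = 0) : Module.Flat C' X.E := by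
  have hJeq : J = RingHom.ker (algebraMap C' C₁) := by
    ext c
    rw [hJ, RingHom.mem_ker]
  have hγ : Function.Surjective (gam (B₀ := B₀) X.proj) := hπ.comp X.isExtension.proj_surjective
  have hker := ker_proj_le J X hJ hX hπ
  have hle := ker_gam_le J X.proj X.isExtension.proj_surjective hker hkerπ hJk
  have hmn : ∀ z, mult J (nu J X.proj hγ hle hJm hres z) = X.incl z := by
    intro z
    induction z using TensorProduct.induction_on with
    | zero => rw [map_zero, map_zero, map_zero]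
    | add z z' hz hz' => rw [map_add, map_add, hz, hz', map_add]
    | tmul b₀ j =>
      obtain ⟨e, rfl⟩ := hγ b₀
      rw [nu_tmul, mult_tmul, incl_gam_tmul J X hJ hX]
  have hinjJ : Function.Injective (J.subtype.lTensor X.E) := by
    rw [injective_iff_map_eq_zero]
    intro z hz
    obtain ⟨m, rfl⟩ := nu_surjective J X.proj hγ hle hJm hres z
    have h1 : X.incl m = 0 := by
      rw [← hmn]
      change (TensorProduct.rid C' X.E) (J.subtype.lTensor X.E _) = 0
      rw [hz, map_zero]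
    have h2 : m = 0 := X.isExtension.incl_injective (h1.trans (map_zero _).symm)
    rw [h2, map_zero]
  have hJB : ∀ j ∈ J, algebraMap C' B j = 0 := by
    intro j hj
    rw [IsScalarTower.algebraMap_apply C' C₁ B, (hJ j).mp hj, map_zero]
  have hnil : IsNilpotent J := by
    refine ⟨2, ?_⟩
    rw [pow_two, Ideal.zero_eq_bot, eq_bot_iff, Ideal.mul_le]
    intro r hr s hs
    rw [Ideal.mem_bot]
    exact hJm r (hJk r hr) s hs
  letI : Algebra X.E B := X.proj.toRingHom.toAlgebra
  haveI : IsScalarTower C' X.E B := IsScalarTower.of_algebraMap_eq (fun c => (X.proj.commutes c).symm)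
  subst hJeq
  refine Groth.Agent.Lib.helper8.LocalFlat.flat_of_surjective_of_isNilpotent (A := C₁) (B := B) hp
    X.isExtension.proj_surjective ?_ hnil ?_
  · apply le_antisymm
    · exact hker
    · rw [Ideal.map_le_iff_le_comap]
      intro j hj
      rw [Ideal.mem_comap, RingHom.mem_ker]
      change X.proj (algebraMap C' X.E j) = 0
      rw [AlgHom.commutes]
      exact hJB j hj
  · rw [LinearMap.baseChange_eq_ltensor]
    exact hinjJ

end OfJCompat

end Groth.Agent.LibLiftL29
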