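import Groth.Agent.LibLiftL29d
import Groth.Agent.LibLift29f

/-!
# Flat lifts from `J`-compatible extensions, mixed characteristic version (seat helper29)
-/

set_option autoImplicit false
universe u

namespace Groth.Agent.LibLiftL29

open TensorProduct Groth.Agent.LibExal29 Groth.Agent.LibLift29

section Main

variable {k C' C₁ B B₀ : Type u} [Field k] [CommRing C'] [CommRing C₁] [CommRing B] [CommRing B₀]
  [Algebra C' k] [Algebra C' B] [Algebra k B₀] [Algebra B B₀] [Algebra C' B₀]
  [IsScalarTower C' B B₀] [IsScalarTower C' k B₀]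
  [Algebra C' C₁] [Algebra C₁ B] [IsScalarTower C' C₁ B]

variable (k C₁ B B₀) in
/-- the standing hypotheses -/
structure Hyp (J : Ideal C') : Prop where
  hJ : ∀ c : C', c ∈ J ↔ algebraMap C' C₁ c = 0
  hres : Function.Surjective (algebraMap C' k)
  hp : Function.Surjective (algebraMap C' C₁)
  hπ : Function.Surjective (algebraMap B B₀)
  hkerπ : RingHom.ker (algebraMap B B₀) ≤ Ideal.map (algebraMap C' B) (RingHom.ker (algebraMap C' k))
  hJk : ∀ j ∈ J, algebraMap C' k j = 0
  hJm : ∀ a : C', algebraMap C' k a = 0 → ∀ j ∈ J, a * j = 0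

variable {J : Ideal C'} [Module k J] [IsScalarTower C' k J] (H : Hyp k C₁ B B₀ J)

/-- the lift given by a `J`-compatible extension -/
noncomputable def liftOfExt [Module.Flat C₁ B] (X : Exal.Ext C' B (B₀ ⊗[k] J))
    (hX : JCompat (tauJ (k := k) (B₀ := B₀) J H.hJ) X) : LiftDatum C' B J where
  E := X.E
  flat := flat_of_jcompat J X H.hJ hX H.hp H.hres H.hπ H.hkerπ H.hJk H.hJm
  β := X.proj
  surj := X.isExtension.proj_surjective
  ker_le := ker_proj_le J X H.hJ hX H.hπ

end Main

end Groth.Agent.LibLiftL29
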