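import Mathlib.RingTheory.LocalRing.ResidueField.Basic
import Mathlib.RingTheory.Ideal.Quotient.Operations
import Mathlib.RingTheory.Nilpotent.Lemmas
import Mathlib.RingTheory.Nilpotent.Basic
import Mathlib.Algebra.Algebra.Subalgebra.Basic
import Mathlib.RingTheory.LocalRing.RingHom.Basic

/-!
# The "local subring" trick for lifting problems out of a local ring

Given `π : E → E₀` surjective with nilpotent kernel and `ψ : S → E₀` from a local ring `S` killing a
power of the maximal ideal, the subalgebra `pre π ψ = π⁻¹(range ψ)` is a local ring with nilpotent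
maximal ideal, and `pre π ψ → range ψ` is surjective.  A lift of `S → range ψ` to `pre π ψ` gives a
lift of `ψ` to `E`.
-/

set_option autoImplicit false
universe u

namespace Groth.Agent.LibLoc29

open IsLocalRing

section general

variable {S T : Type*} [CommRing S] [CommRing T]

lemma isLocalHom_of_pow_eq_zero [IsLocalRing S] [Nontrivial T] (ψ : S →+* T) (k : ℕ)
    (hk : ∀ x ∈ maximalIdeal S ^ k, ψ x = 0) : IsLocalHom ψ := by
  refine ⟨fun s hs => ?_⟩
  by_contra hns
  have hmem : s ∈ maximalIdeal S := (IsLocalRing.mem_maximalIdeal s).2 hns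
  have h0 : ψ s ^ k = 0 := by
    rw [← map_pow]
    exact hk _ (Ideal.pow_mem_pow hmem k)
  have : IsUnit ((ψ s) ^ k) := hs.pow k
  rw [h0] at this
  exact not_isUnit_zero this

lemma residueField_map_bijective_of_surjective [IsLocalRing S] [IsLocalRing T] (f : S →+* T)
    [IsLocalHom f] (hf : Function.Surjective f) :
    Function.Bijective (IsLocalRing.ResidueField.map f) := by
  refine ⟨RingHom.injective _, fun x => ?_⟩
  obtain ⟨t, rfl⟩ := IsLocalRing.residue_surjective x
  obtain ⟨s, rfl⟩ := hf t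
  exact ⟨IsLocalRing.residue S s, rfl⟩

end general

section pre

variable {R S E E₀ : Type u} [CommRing R] [CommRing S] [Algebra R S]
  [CommRing E] [Algebra R E] [CommRing E₀] [Algebra R E₀]
  (π : E →ₐ[R] E₀) (ψ : S →ₐ[R] E₀)

/-- the subalgebra of `E` of elements whose image in `E₀` lies in the range of `ψ`. -/
def pre : Subalgebra R E := ψ.range.comap π

lemma mem_pre {e : E} : e ∈ pre π ψ ↔ ∃ s, ψ s = π e := by
  simp [pre, Subalgebra.mem_comap, AlgHom.mem_range]

/-- the map `pre → range ψ`. -/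
def preMap : pre π ψ →ₐ[R] ψ.range :=
  (π.comp (pre π ψ).val).codRestrict ψ.range (fun x => x.2)

lemma preMap_coe (x : pre π ψ) : ((preMap π ψ x : ψ.range) : E₀) = π x.1 := rfl

lemma preMap_surjective (hπ : Function.Surjective π) : Function.Surjective (preMap π ψ) := by
  rintro ⟨y, s, rfl⟩
  obtain ⟨e, he⟩ := hπ (ψ s)
  exact ⟨⟨e, (mem_pre π ψ).2 ⟨s, he.symm⟩⟩, Subtype.ext he⟩

lemma mem_ker_preMap (x : pre π ψ) : x ∈ RingHom.ker (preMap π ψ) ↔ π x.1 = 0 := by
  rw [RingHom.mem_ker]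
  constructor
  · intro h
    have := congrArg (fun y : ψ.range => (y : E₀)) h
    exact this
  · intro h
    exact Subtype.ext h

lemma ker_preMap_pow (m : ℕ) (hm : RingHom.ker π ^ m = ⊥) : RingHom.ker (preMap π ψ) ^ m = ⊥ := by
  have h1 : RingHom.ker (preMap π ψ) ≤ (RingHom.ker π).comap (pre π ψ).val.toRingHom := by
    intro x hx
    rw [Ideal.mem_comap, RingHom.mem_ker]
    exact (mem_ker_preMap π ψ x).1 hx
  have h2 : RingHom.ker (preMap π ψ) ^ m ≤ ((RingHom.ker π) ^ m).comap (pre π ψ).val.toRingHom :=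
    (Ideal.pow_right_mono h1 m).trans (Ideal.le_comap_pow _ _)
  rw [hm] at h2
  rw [eq_bot_iff]
  intro x hx
  have := h2 hx
  rw [Ideal.mem_comap, Ideal.mem_bot] at this
  rw [Ideal.mem_bot]
  exact Subtype.ext this

lemma isNilpotent_of_mem_ker (m : ℕ) (hm : RingHom.ker π ^ m = ⊥) (x : pre π ψ)
    (hx : π x.1 = 0) : IsNilpotent x := by
  refine ⟨m, ?_⟩
  have : x ^ m ∈ RingHom.ker (preMap π ψ) ^ m :=
    Ideal.pow_mem_pow ((mem_ker_preMap π ψ x).2 hx) m
  rw [ker_preMap_pow π ψ m hm] at this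
  exact this

lemma isUnit_of_isUnit (hπ : Function.Surjective π) (m : ℕ) (hm : RingHom.ker π ^ m = ⊥)
    (x : pre π ψ) (s : S) (hs : ψ s = π x.1) (hu : IsUnit s) : IsUnit x := by
  obtain ⟨s', hs'⟩ := hu.exists_right_inv
  obtain ⟨e', he'⟩ := hπ (ψ s')
  let x' : pre π ψ := ⟨e', (mem_pre π ψ).2 ⟨s', he'.symm⟩⟩
  have h0 : π (x * x' - 1 : pre π ψ).1 = 0 := by
    have : (x * x' - 1 : pre π ψ).1 = x.1 * e' - 1 := rfl
    rw [this, map_sub, map_mul, map_one, ← hs, he', ← map_mul, hs', map_one, sub_self]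
  have hn : IsNilpotent (x * x' - 1) := isNilpotent_of_mem_ker π ψ m hm _ h0
  have hu' : IsUnit (x * x') := by
    have := IsNilpotent.isUnit_add_one hn
    simpa using this
  exact isUnit_of_mul_isUnit_left hu'

theorem isLocalRing_pre [IsLocalRing S] [Nontrivial E] (hπ : Function.Surjective π) (m : ℕ)
    (hm : RingHom.ker π ^ m = ⊥) : IsLocalRing (pre π ψ) := by
  refine IsLocalRing.of_isUnit_or_isUnit_one_sub_self fun x => ?_
  obtain ⟨s, hs⟩ := (mem_pre π ψ).1 x.2
  rcases IsLocalRing.isUnit_or_isUnit_one_sub_self s with h | h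
  · exact Or.inl (isUnit_of_isUnit π ψ hπ m hm x s hs h)
  · refine Or.inr (isUnit_of_isUnit π ψ hπ m hm (1 - x) (1 - s) ?_ h)
    have : ((1 - x : pre π ψ) : E) = 1 - x.1 := rfl
    rw [this, map_sub, map_sub, map_one, map_one, hs]

lemma mem_maximalIdeal_of_pre [IsLocalRing S] [Nontrivial E] (hπ : Function.Surjective π) (m : ℕ)
    (hm : RingHom.ker π ^ m = ⊥) (x : pre π ψ) (s : S) (hs : ψ s = π x.1)
    (hx : ¬ IsUnit x) : s ∈ maximalIdeal S := by
  rw [IsLocalRing.mem_maximalIdeal]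
  intro hu
  exact hx (isUnit_of_isUnit π ψ hπ m hm x s hs hu)

theorem maximalIdeal_pre_pow [IsLocalRing S] [Nontrivial E] (hπ : Function.Surjective π) (m : ℕ)
    (hm : RingHom.ker π ^ m = ⊥) (k : ℕ) (hk : ∀ x ∈ maximalIdeal S ^ k, ψ x = 0) :
    letI := isLocalRing_pre π ψ hπ m hm
    maximalIdeal (pre π ψ) ^ (k * m) = ⊥ := by
  let _ := isLocalRing_pre π ψ hπ m hm
  set q : pre π ψ →+* E₀ := (π.comp (pre π ψ).val).toRingHom with hq
  have h1 : maximalIdeal (pre π ψ) ≤ ((maximalIdeal S).map ψ.toRingHom).comap q := by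
    intro x hx
    obtain ⟨s, hs⟩ := (mem_pre π ψ).1 x.2
    have hsm := mem_maximalIdeal_of_pre π ψ hπ m hm x s hs ((IsLocalRing.mem_maximalIdeal x).1 hx)
    rw [Ideal.mem_comap]
    have : q x = ψ.toRingHom s := hs.symm
    rw [this]
    exact Ideal.mem_map_of_mem _ hsm
  have h2 : maximalIdeal (pre π ψ) ^ k ≤ RingHom.ker (preMap π ψ) := by
    refine (Ideal.pow_right_mono h1 k).trans ((Ideal.le_comap_pow _ _).trans ?_)
    rw [← Ideal.map_pow]
    have : (maximalIdeal S ^ k).map ψ.toRingHom = ⊥ := by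
      rw [Ideal.map_eq_bot_iff_le_ker]
      intro x hx
      exact hk x hx
    rw [this]
    intro x hx
    rw [Ideal.mem_comap, Ideal.mem_bot] at hx
    exact (mem_ker_preMap π ψ x).2 hx
  rw [pow_mul, eq_bot_iff, ← ker_preMap_pow π ψ m hm]
  exact Ideal.pow_right_mono h2 m

theorem isLocalHom_algebraMap_pre [IsLocalRing R] [IsLocalRing S] [IsLocalHom (algebraMap R S)]
    [Nontrivial E₀] (k : ℕ) (hk : ∀ x ∈ maximalIdeal S ^ k, ψ x = 0) :
    IsLocalHom (algebraMap R (pre π ψ)) := by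
  have : IsLocalHom ψ.toRingHom := isLocalHom_of_pow_eq_zero ψ.toRingHom k hk
  refine ⟨fun r hr => ?_⟩
  have h1 : IsUnit (π ((algebraMap R (pre π ψ) r : pre π ψ) : E)) :=
    hr.map ((π.comp (pre π ψ).val).toRingHom)
  have h2 : π ((algebraMap R (pre π ψ) r : pre π ψ) : E) = ψ.toRingHom (algebraMap R S r) := by
    have : ((algebraMap R (pre π ψ) r : pre π ψ) : E) = algebraMap R E r := rfl
    rw [this, AlgHom.commutes]
    exact (ψ.commutes r).symm
  rw [h2] at h1
  have h3 : IsUnit (algebraMap R S r) := isUnit_of_map_unit ψ.toRingHom _ h1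
  exact isUnit_of_map_unit (algebraMap R S) _ h3

/-- a lift of `S → range ψ` to `pre π ψ` gives a lift of `ψ` to `E`. -/
theorem lift_of_lift_pre (χ : S →ₐ[R] pre π ψ) (h : (preMap π ψ).comp χ = ψ.rangeRestrict) :
    π.comp ((pre π ψ).val.comp χ) = ψ := by
  ext s
  have := congrArg (fun f : S →ₐ[R] ψ.range => ((f s : ψ.range) : E₀)) h
  exact this

end pre

section transport

variable {R S A A₀ : Type u} [CommRing R] [CommRing S] [Algebra R S]
  [CommRing A] [Algebra R A] [CommRing A₀] [Algebra R A₀]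
  (q : A →ₐ[R] A₀) (hq : Function.Surjective q) (u : S →ₐ[R] A₀)

/-- the map to the quotient by the kernel corresponding to `u`. -/
noncomputable def liftHom : S →ₐ[R] A ⧸ RingHom.ker q :=
  ((Ideal.quotientKerAlgEquivOfSurjective hq).symm : A₀ →ₐ[R] A ⧸ RingHom.ker q).comp u

lemma quotEquiv_liftHom (s : S) :
    Ideal.quotientKerAlgEquivOfSurjective hq (liftHom q hq u s) = u s := by
  simp [liftHom]

include hq in
theorem isLocalRing_quot_ker [IsLocalRing A₀] : IsLocalRing (A ⧸ RingHom.ker q) :=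
  (Ideal.quotientKerAlgEquivOfSurjective hq).symm.toRingEquiv.isLocalRing

theorem comp_eq_of_liftHom (χ : S →ₐ[R] A)
    (h : (Ideal.Quotient.mkₐ R (RingHom.ker q)).comp χ = liftHom q hq u) : q.comp χ = u := by
  ext s
  have h1 := congrArg (fun f : S →ₐ[R] A ⧸ RingHom.ker q => f s) h
  have h2 := congrArg (Ideal.quotientKerAlgEquivOfSurjective hq) h1
  simp only [AlgHom.comp_apply, Ideal.Quotient.mkₐ_eq_mk] at h2
  rw [quotEquiv_liftHom] at h2
  rw [← h2]
  rfl

theorem isLocalHom_liftHom [hu : IsLocalHom u.toRingHom] :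
    IsLocalHom (liftHom q hq u).toRingHom := by
  refine ⟨fun s hs => ?_⟩
  have h1 : IsUnit (Ideal.quotientKerAlgEquivOfSurjective hq (liftHom q hq u s)) :=
    hs.map (Ideal.quotientKerAlgEquivOfSurjective hq)
  rw [quotEquiv_liftHom] at h1
  exact hu.map_nonunit s h1

theorem bijective_residue_liftHom [IsLocalRing S] [IsLocalRing A₀] [IsLocalRing (A ⧸ RingHom.ker q)]
    [IsLocalHom u.toRingHom] [IsLocalHom (liftHom q hq u).toRingHom]
    (hb : Function.Bijective (IsLocalRing.ResidueField.map u.toRingHom)) :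
    Function.Bijective (IsLocalRing.ResidueField.map (liftHom q hq u).toRingHom) := by
  refine ⟨RingHom.injective _, fun x => ?_⟩
  obtain ⟨a, rfl⟩ := IsLocalRing.residue_surjective x
  obtain ⟨y, hy⟩ := hb.2 (IsLocalRing.residue A₀ (Ideal.quotientKerAlgEquivOfSurjective hq a))
  obtain ⟨s, rfl⟩ := IsLocalRing.residue_surjective y
  refine ⟨IsLocalRing.residue S s, ?_⟩
  rw [IsLocalRing.ResidueField.map_residue] at hy ⊢
  rw [← sub_eq_zero, ← map_sub, IsLocalRing.residue_eq_zero_iff] at hy ⊢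
  rw [IsLocalRing.mem_maximalIdeal] at hy ⊢
  intro hunit
  apply hy
  have h1 := hunit.map (Ideal.quotientKerAlgEquivOfSurjective hq)
  rw [map_sub] at h1
  have h2 : Ideal.quotientKerAlgEquivOfSurjective hq ((liftHom q hq u).toRingHom s) = u s :=
    quotEquiv_liftHom q hq u s
  rw [h2] at h1
  exact h1

end transport

end Groth.Agent.LibLoc29
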