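import Groth.Agent.LibLoc29b
import Mathlib.RingTheory.Artinian.Ring
import Mathlib.RingTheory.Noetherian.Basic
import Mathlib.RingTheory.HopkinsLevitzki

/-!
# Lifting from Artinian local test rings to local test rings with nilpotent maximal ideal
-/

set_option autoImplicit false
universe u

namespace Groth.Agent.LibLoc29

open IsLocalRing

section preMore

variable {R S E E₀ : Type u} [CommRing R] [CommRing S] [Algebra R S]
  [CommRing E] [Algebra R E] [CommRing E₀] [Algebra R E₀]
  (π : E →ₐ[R] E₀) (ψ : S →ₐ[R] E₀)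

/-- the maximal ideal of `pre π ψ` lies in the maximal ideal of `E` (when `E` is local and `ψ` is a
local homomorphism). -/
lemma val_mem_maximalIdeal_of_pre [IsLocalRing S] [IsLocalRing E] [IsLocalHom ψ.toRingHom]
    (hπ : Function.Surjective π) (m : ℕ) (hm : RingHom.ker π ^ m = ⊥)
    [IsLocalRing (pre π ψ)] (x : pre π ψ) (hx : x ∈ maximalIdeal (pre π ψ)) :
    x.1 ∈ maximalIdeal E := by
  rw [IsLocalRing.mem_maximalIdeal] at hx ⊢
  intro hu
  apply hx
  obtain ⟨s, hs⟩ := (mem_pre π ψ).1 x.2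
  have h1 : IsUnit (ψ.toRingHom s) := by
    change IsUnit (ψ s)
    rw [hs]
    exact hu.map π
  exact isUnit_of_isUnit π ψ hπ m hm x s hs (isUnit_of_map_unit ψ.toRingHom s h1)

end preMore

section stepB

variable {A B : Type u} [CommRing A] [CommRing B] [Algebra A B] [IsLocalRing A] [IsLocalRing B]
  [IsLocalHom (algebraMap A B)] [IsNoetherianRing B]

theorem stepB (H : ArtinLift A B) {D D₀ : Type u} [CommRing D] [Algebra A D] [IsLocalRing D]
    [IsLocalHom (algebraMap A D)] [CommRing D₀] [Algebra A D₀]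
    (M : ℕ) (hM : maximalIdeal D ^ M = ⊥)
    (q : D →ₐ[A] D₀) (hq : Function.Surjective q)
    (hN : ∀ a ∈ maximalIdeal D, ∀ n ∈ RingHom.ker q, a * n = 0)
    (g₀ : B →ₐ[A] D₀) [IsLocalHom g₀.toRingHom] : ∃ g : B →ₐ[A] D, q.comp g = g₀ := by
  have hD₀ : Nontrivial D₀ := nontrivial_of_isLocalHom g₀.toRingHom
  have hle : RingHom.ker q ≤ maximalIdeal D :=
    IsLocalRing.le_maximalIdeal (RingHom.ker_ne_top _)
  have hm : RingHom.ker q ^ M = ⊥ := by
    rw [eq_bot_iff, ← hM]
    exact Ideal.pow_right_mono hle M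
  have : IsLocalRing D₀ := IsLocalRing.of_surjective' q.toRingHom hq
  have hM₀ : maximalIdeal D₀ ^ M = ⊥ := maximalIdeal_pow_of_surjective q.toRingHom hq M hM
  have hk : ∀ x ∈ maximalIdeal B ^ M, g₀ x = 0 := map_eq_zero_of_mem_pow g₀.toRingHom M hM₀
  -- the subring
  have instD' : IsLocalRing (pre q g₀) := isLocalRing_pre q g₀ hq M hm
  have instA : IsLocalHom (algebraMap A (pre q g₀)) := isLocalHom_algebraMap_pre q g₀ M hk
  have hsurj := preMap_surjective q g₀ hq
  have : Nontrivial g₀.range := inferInstance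
  have instR : IsLocalRing g₀.range :=
    IsLocalRing.of_surjective' g₀.rangeRestrict.toRingHom g₀.rangeRestrict_surjective
  have instN : IsNoetherianRing g₀.range :=
    isNoetherianRing_of_surjective B g₀.range g₀.rangeRestrict.toRingHom
      g₀.rangeRestrict_surjective
  have hk' : ∀ x ∈ maximalIdeal B ^ M, g₀.rangeRestrict.toRingHom x = 0 := fun x hx =>
    Subtype.ext (hk x hx)
  have instL : IsLocalHom g₀.rangeRestrict.toRingHom :=
    isLocalHom_of_pow_eq_zero g₀.rangeRestrict.toRingHom M hk'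
  have hmaxR : maximalIdeal g₀.range ^ M = ⊥ := by
    have h1 : maximalIdeal g₀.range ≤ (maximalIdeal B).map g₀.rangeRestrict.toRingHom := by
      intro x hx
      obtain ⟨b, rfl⟩ := g₀.rangeRestrict_surjective x
      apply Ideal.mem_map_of_mem
      rw [IsLocalRing.mem_maximalIdeal] at hx ⊢
      intro hu
      exact hx (hu.map _)
    rw [eq_bot_iff]
    refine (Ideal.pow_right_mono h1 M).trans ?_
    rw [← Ideal.map_pow, Ideal.map_le_iff_le_comap]
    intro x hx
    rw [Ideal.mem_comap, Ideal.mem_bot]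
    exact hk' x hx
  have instArt : IsArtinianRing g₀.range :=
    (isArtinianRing_iff_isNilpotent_maximalIdeal _).2 ⟨M, hmaxR⟩
  have hN' : ∀ a ∈ maximalIdeal (pre q g₀), ∀ n ∈ RingHom.ker (preMap q g₀), a * n = 0 := by
    intro a ha n hn
    apply Subtype.ext
    have h1 := val_mem_maximalIdeal_of_pre q g₀ hq M hm a ha
    have h2 : n.1 ∈ RingHom.ker q := (RingHom.mem_ker).2 ((mem_ker_preMap q g₀ n).1 hn)
    exact hN a.1 h1 n.1 h2
  have hle' : RingHom.ker (preMap q g₀) ≤ maximalIdeal (pre q g₀) :=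
    IsLocalRing.le_maximalIdeal (RingHom.ker_ne_top _)
  obtain ⟨g', hg'⟩ := stepA H (preMap q g₀) hsurj hN' hle' g₀.rangeRestrict
    g₀.rangeRestrict_surjective
  exact ⟨(pre q g₀).val.comp g', lift_of_lift_pre q g₀ g' hg'⟩

end stepB

section stepC

variable {A B : Type u} [CommRing A] [CommRing B] [Algebra A B] [IsLocalRing A] [IsLocalRing B]
  [IsLocalHom (algebraMap A B)] [IsNoetherianRing B]

theorem stepC (H : ArtinLift A B) (n : ℕ) :
    ∀ (D : Type u) [CommRing D] [Algebra A D] [IsLocalRing D] [IsLocalHom (algebraMap A D)]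
      (D₀ : Type u) [CommRing D₀] [Algebra A D₀] (M : ℕ), maximalIdeal D ^ M = ⊥ →
      ∀ (q : D →ₐ[A] D₀), Function.Surjective q → maximalIdeal D ^ n * RingHom.ker q = ⊥ →
      ∀ (g₀ : B →ₐ[A] D₀) [IsLocalHom g₀.toRingHom], ∃ g : B →ₐ[A] D, q.comp g = g₀ := by
  induction n with
  | zero =>
    intro D _ _ _ _ D₀ _ _ M _ q hq hn g₀ _
    rw [pow_zero, Ideal.one_eq_top, Ideal.top_mul] at hn
    have hinj : Function.Injective q := (RingHom.injective_iff_ker_eq_bot q.toRingHom).2 hn
    let e : D ≃ₐ[A] D₀ := AlgEquiv.ofBijective q ⟨hinj, hq⟩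
    refine ⟨(e.symm : D₀ →ₐ[A] D).comp g₀, ?_⟩
    ext b
    change q (e.symm (g₀ b)) = g₀ b
    exact e.apply_symm_apply (g₀ b)
  | succ n ih =>
    intro D _ _ _ _ D₀ _ _ M hM q hq hn g₀ _
    have hD₀ : Nontrivial D₀ := nontrivial_of_isLocalHom g₀.toRingHom
    have hle : RingHom.ker q ≤ maximalIdeal D :=
      IsLocalRing.le_maximalIdeal (RingHom.ker_ne_top _)
    set N₁ : Ideal D := maximalIdeal D * RingHom.ker q with hN₁
    have hN₁le : N₁ ≤ RingHom.ker q := by
      rw [hN₁, Ideal.mul_le]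
      intro r _ s hs
      exact Ideal.mul_mem_left _ r hs
    have hNtop : N₁ ≠ ⊤ := by
      intro h
      have h1 : (1 : D) ∈ maximalIdeal D := hle (hN₁le (h ▸ Submodule.mem_top))
      exact (IsLocalRing.mem_maximalIdeal _).1 h1 isUnit_one
    have : Nontrivial (D ⧸ N₁) := Ideal.Quotient.nontrivial_iff.2 hNtop
    have : IsLocalRing (D ⧸ N₁) :=
      IsLocalRing.of_surjective' (Ideal.Quotient.mk N₁) Ideal.Quotient.mk_surjective
    have : IsLocalHom (algebraMap A (D ⧸ N₁)) := by
      rw [IsScalarTower.algebraMap_eq A D (D ⧸ N₁)]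
      have : IsLocalHom (algebraMap D (D ⧸ N₁)) :=
        IsLocalHom.of_surjective _ Ideal.Quotient.mk_surjective
      exact RingHom.isLocalHom_comp _ _
    have hM₁ : maximalIdeal (D ⧸ N₁) ^ M = ⊥ :=
      maximalIdeal_pow_of_surjective (Ideal.Quotient.mk N₁) Ideal.Quotient.mk_surjective M hM
    have hNq : ∀ a ∈ maximalIdeal (D ⧸ N₁), ∀ x ∈ RingHom.ker (qFactor q N₁ hN₁le),
        a * x = 0 := by
      intro a ha x hx
      obtain ⟨a', rfl⟩ := Ideal.Quotient.mk_surjective a
      rw [ker_qFactor, Ideal.mem_map_iff_of_surjective _ Ideal.Quotient.mk_surjective] at hx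
      obtain ⟨x', hx', rfl⟩ := hx
      have ha' : a' ∈ maximalIdeal D := by
        rw [IsLocalRing.mem_maximalIdeal] at ha ⊢
        intro hu
        exact ha (hu.map _)
      rw [← map_mul, Ideal.Quotient.eq_zero_iff_mem]
      exact Ideal.mul_mem_mul ha' hx'
    obtain ⟨g₁, hg₁⟩ := stepB H M hM₁ (qFactor q N₁ hN₁le) (qFactor_surjective q hq N₁ hN₁le)
      hNq g₀
    have : IsLocalHom g₁.toRingHom := by
      have h1 : IsLocalHom ((qFactor q N₁ hN₁le).toRingHom.comp g₁.toRingHom) := by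
        have : (qFactor q N₁ hN₁le).toRingHom.comp g₁.toRingHom = g₀.toRingHom := by
          rw [← hg₁]; rfl
        rw [this]
        infer_instance
      exact isLocalHom_of_comp g₁.toRingHom (qFactor q N₁ hN₁le).toRingHom
    have hn' : maximalIdeal D ^ n * RingHom.ker (Ideal.Quotient.mkₐ A N₁) = ⊥ := by
      have hk : RingHom.ker (Ideal.Quotient.mkₐ A N₁) = N₁ := Ideal.Quotient.mkₐ_ker A N₁
      rw [hk, hN₁, ← mul_assoc, ← pow_succ]
      exact hn
    obtain ⟨g, hg⟩ := ih D (D ⧸ N₁) M hM (Ideal.Quotient.mkₐ A N₁)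
      (Ideal.Quotient.mkₐ_surjective A N₁) hn' g₁
    refine ⟨g, ?_⟩
    rw [← hg₁, ← hg]
    ext b
    rfl

/-- main consequence: lifting against arbitrary nilpotent thickenings for maps killing a power of
the maximal ideal. -/
theorem exists_lift_of_artinLift (H : ArtinLift A B) {C C₀ : Type u} [CommRing C] [Algebra A C]
    [CommRing C₀] [Algebra A C₀] (π : C →ₐ[A] C₀) (hπ : Function.Surjective π) (m : ℕ)
    (hm : RingHom.ker π ^ m = ⊥) (u : B →ₐ[A] C₀) (k : ℕ)
    (hk : ∀ x ∈ maximalIdeal B ^ k, u x = 0) : ∃ v : B →ₐ[A] C, π.comp v = u := by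
  rcases subsingleton_or_nontrivial C with hC | hC
  · exact exists_algHom_of_subsingleton π hπ u
  · have hC₀ : Nontrivial C₀ := by
      by_contra h
      rw [not_nontrivial_iff_subsingleton] at h
      have h1 : RingHom.ker π = ⊤ := by
        rw [Ideal.eq_top_iff_one, RingHom.mem_ker]; exact Subsingleton.elim _ _
      rw [h1, Ideal.top_pow] at hm
      exact top_ne_bot hm
    have inst1 : IsLocalRing (pre π u) := isLocalRing_pre π u hπ m hm
    have inst2 : IsLocalHom (algebraMap A (pre π u)) := isLocalHom_algebraMap_pre π u k hk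
    have : Nontrivial u.range := inferInstance
    have hk' : ∀ x ∈ maximalIdeal B ^ k, u.rangeRestrict.toRingHom x = 0 := fun x hx =>
      Subtype.ext (hk x hx)
    have inst5 : IsLocalHom u.rangeRestrict.toRingHom :=
      isLocalHom_of_pow_eq_zero u.rangeRestrict.toRingHom k hk'
    have hmax := maximalIdeal_pre_pow π u hπ m hm k hk
    have hn : maximalIdeal (pre π u) ^ (k * m) * RingHom.ker (preMap π u) = ⊥ := by
      rw [hmax, Ideal.bot_mul]
    obtain ⟨g, hg⟩ := stepC H (k * m) (pre π u) u.range (k * m) hmax (preMap π u)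
      (preMap_surjective π u hπ) hn u.rangeRestrict
    exact ⟨(pre π u).val.comp g, lift_of_lift_pre π u g hg⟩

end stepC

end Groth.Agent.LibLoc29
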