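import Mathlib.RingTheory.Etale.Kaehler
import Mathlib.RingTheory.Smooth.Basic

/-!
# Formal smoothness of a localization through the cotangent complex of any extension (helper29)

For an extension `P` of `S` over `R` with `P.Ring` formally smooth, and `T` a localization of `S`:
`T` is formally smooth over `R` iff the base change `T ⊗ I/I² → T ⊗ (S ⊗ Ω[P/R])` of the cotangent
complex of `P` has a retraction.  (Adapted from Mathlib's `tensorH1CotangentOfIsLocalization`.)
-/

set_option autoImplicit false
set_option linter.style.haveILetI false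

namespace Groth.Agent.LibLocExt29

open TensorProduct Algebra

universe u

variable {R S : Type u} (T : Type u) [CommRing R] [CommRing S] [CommRing T]
variable [Algebra R S] [Algebra R T] [Algebra S T] [IsScalarTower R S T]

set_option backward.isDefEq.respectTransparency false in
theorem formallySmooth_localization_iff (P : Extension.{u} R S) [FormallySmooth R P.Ring]
    (M : Submonoid S) [IsLocalization M T] :
    Algebra.FormallySmooth R T ↔
      ∃ l : T ⊗[S] P.CotangentSpace →ₗ[T] T ⊗[S] P.Cotangent,
        l ∘ₗ P.cotangentComplex.baseChange T = LinearMap.id := by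
  letI M' := M.comap (algebraMap P.Ring S)
  letI fQ : Localization M' →ₐ[R] T := IsLocalization.liftAlgHom (M := M')
    (f := (IsScalarTower.toAlgHom R S T).comp (IsScalarTower.toAlgHom R P.Ring S)) (fun ⟨y, hy⟩ ↦
    by simpa using IsLocalization.map_units T ⟨algebraMap P.Ring S y, hy⟩)
  letI Q : Extension R T := .ofSurjective fQ (by
    intro x
    obtain ⟨x, ⟨s, hs⟩, rfl⟩ := IsLocalization.exists_mk'_eq M x
    obtain ⟨x, rfl⟩ := P.algebraMap_surjective x
    obtain ⟨s, rfl⟩ := P.algebraMap_surjective s
    refine ⟨IsLocalization.mk' _ x ⟨s, show s ∈ M' from hs⟩, ?_⟩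
    simp only [fQ, IsLocalization.coe_liftAlgHom, AlgHom.toRingHom_eq_coe]
    rw [IsLocalization.lift_mk'_spec]
    simp)
  letI f : P.Hom Q :=
  { toRingHom := algebraMap P.Ring (Localization M')
    toRingHom_algebraMap x := (IsScalarTower.algebraMap_apply R P.Ring (Localization M') _).symm
    algebraMap_toRingHom x := @IsLocalization.lift_eq .. }
  haveI : FormallySmooth P.Ring (Localization M') := .of_isLocalization M'
  haveI : FormallySmooth R Q.Ring := .comp R P.Ring (Localization M')
  haveI : Module.Flat S T := IsLocalization.flat T M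
  letI : Algebra P.Ring Q.Ring := (inferInstance : Algebra P.Ring (Localization M'))
  letI := ((algebraMap S T).comp (algebraMap P.Ring S)).toAlgebra
  letI := fQ.toRingHom.toAlgebra
  haveI : IsScalarTower P.Ring S T := .of_algebraMap_eq' rfl
  haveI : IsScalarTower P.Ring (Localization M') T :=
    .of_algebraMap_eq fun r ↦ (f.algebraMap_toRingHom r).symm
  haveI : IsLocalizedModule M' (IsScalarTower.toAlgHom P.Ring S T).toLinearMap := by
    rw [isLocalizedModule_iff_isLocalization]
    convert! ‹IsLocalization M T› using 1
    exact Submonoid.map_comap_eq_of_surjective P.algebraMap_surjective _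
  have H₁ : f.toRingHom.FormallyEtale := RingHom.formallyEtale_algebraMap.mpr
      (FormallyEtale.of_isLocalization (M := M') (Rₘ := Localization M'))
  have H₂ : Function.Bijective ((f.mapKer rfl).liftBaseChange Q.Ring) := by
    let F : P.ker →ₗ[P.Ring] RingHom.ker fQ := f.mapKer rfl
    refine (isLocalizedModule_iff_isBaseChange M' (Localization M') F).mp ?_
    have : (LinearMap.ker <| Algebra.linearMap P.Ring S).localized' (Localization M') M'
        (Algebra.linearMap P.Ring (Localization M')) = RingHom.ker fQ := by
      rw [LinearMap.localized'_ker_eq_ker_localizedMap (Localization M') M'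
        (Algebra.linearMap P.Ring (Localization M'))
        (f' := (IsScalarTower.toAlgHom P.Ring S T).toLinearMap)]
      ext x
      obtain ⟨x, ⟨s, hs⟩, rfl⟩ := IsLocalization.exists_mk'_eq M' x
      simp only [LinearMap.mem_ker, LinearMap.extendScalarsOfIsLocalization_apply', RingHom.mem_ker,
        IsLocalization.coe_liftAlgHom, AlgHom.toRingHom_eq_coe, IsLocalization.lift_mk'_spec,
        RingHom.coe_coe, AlgHom.coe_comp, IsScalarTower.coe_toAlgHom', Function.comp_apply,
        mul_zero, fQ]
      have : IsLocalization.mk' (Localization M') x ⟨s, hs⟩ =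
          IsLocalizedModule.mk' (Algebra.linearMap P.Ring (Localization M')) x ⟨s, hs⟩ := by
        rw [IsLocalization.mk'_eq_iff_eq_mul, mul_comm, ← Algebra.smul_def, ← Submonoid.smul_def,
          IsLocalizedModule.mk'_cancel']
        rfl
      simp [this, ← IsScalarTower.algebraMap_apply]
    have : F = ((LinearEquiv.ofEq _ _ this).restrictScalars P.Ring).toLinearMap ∘ₗ
      P.ker.toLocalized' (Localization M') M' (Algebra.linearMap P.Ring (Localization M')) := by
      ext; rfl
    rw [this]
    exact IsLocalizedModule.of_linearEquiv _ _ _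
  let eN := Extension.tensorCotangent f rfl H₂
  let eL := Extension.tensorCotangentSpaceOfFormallyEtale f H₁
  have comm : eL.toLinearMap ∘ₗ P.cotangentComplex.baseChange T =
      Q.cotangentComplex ∘ₗ eN.toLinearMap := by
    change (Extension.CotangentSpace.map f).liftBaseChange T ∘ₗ P.cotangentComplex.baseChange T =
      Q.cotangentComplex ∘ₗ (Extension.Cotangent.map f).liftBaseChange T
    ext x; obtain ⟨x, rfl⟩ := Extension.Cotangent.mk_surjective x
    simp only [AlgebraTensorModule.curry_apply, TensorProduct.curry_apply, LinearMap.coe_comp,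
      Function.comp_apply, LinearMap.coe_restrictScalars, LinearMap.baseChange_tmul,
      LinearMap.liftBaseChange_tmul, Extension.cotangentComplex_mk, Extension.CotangentSpace.map_tmul,
      Extension.Cotangent.map_mk, map_one, one_smul, Extension.Hom.toAlgHom_apply]
  rw [Q.formallySmooth_iff_split_injection]
  constructor
  · rintro ⟨l', hl'⟩
    refine ⟨eN.symm.toLinearMap ∘ₗ l' ∘ₗ eL.toLinearMap, ?_⟩
    refine LinearMap.ext fun x => ?_
    have h1 := LinearMap.congr_fun comm x
    have h2 := LinearMap.congr_fun hl' (eN x)
    simp only [LinearMap.comp_apply, LinearEquiv.coe_coe, LinearMap.id_apply] at h1 h2 ⊢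
    rw [h1, h2, LinearEquiv.symm_apply_apply]
  · rintro ⟨l, hl⟩
    refine ⟨eN.toLinearMap ∘ₗ l ∘ₗ eL.symm.toLinearMap, ?_⟩
    refine LinearMap.ext fun y => ?_
    obtain ⟨x, rfl⟩ := eN.surjective y
    have h1 := LinearMap.congr_fun comm x
    have h2 := LinearMap.congr_fun hl x
    simp only [LinearMap.comp_apply, LinearEquiv.coe_coe, LinearMap.id_apply] at h1 h2 ⊢
    rw [← h1, LinearEquiv.symm_apply_apply, h2]

end Groth.Agent.LibLocExt29
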