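import Groth.Statements.S6916
import Mathlib.LinearAlgebra.TensorProduct.RightExactness
-- import your own Groth.Agent.* helpers here

set_option autoImplicit false
universe u
open TensorProduct
open EtAlg

namespace Groth.Agent.S6916

theorem one_tmul_surj {B' B : Type u} [CommRing B'] [CommRing B] [Algebra B' B]
    (hB : Function.Surjective (algebraMap B' B)) (L' : Type u) [AddCommGroup L'] [Module B' L']
    (x : B ⊗[B'] L') : ∃ l : L', (1 : B) ⊗ₜ[B'] l = x := by
  induction x with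
  | zero => exact ⟨0, by simp⟩
  | tmul b l =>
    obtain ⟨b', rfl⟩ := hB b
    refine ⟨b' • l, ?_⟩
    rw [TensorProduct.tmul_smul, TensorProduct.smul_tmul', Algebra.smul_def, mul_one]
  | add x y hx hy =>
    obtain ⟨l1, rfl⟩ := hx
    obtain ⟨l2, rfl⟩ := hy
    exact ⟨l1 + l2, by rw [TensorProduct.tmul_add]⟩

/-- Let `B' = B ×_A A'` be a fibre square of rings with `A' → A` surjective and `L'` any `B'`-module.
Then the canonical map from `L'` to the glueing of `(L' ⊗_{B'} B, L' ⊗_{B'} A')` is surjective: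
every pair `(x, y) ∈ (B ⊗_{B'} L') × (A' ⊗_{B'} L')` with equal images in `A ⊗_{B'} L'` is of the
form `(1 ⊗ l, 1 ⊗ l)`. (It is in general not injective.) -/
theorem result (B' B A' A : Type u) [CommRing B'] [CommRing B] [CommRing A'] [CommRing A]
    [Algebra B' B] [Algebra B' A'] [Algebra B A] [Algebra A' A] [Algebra B' A] [IsScalarTower B' B A] [IsScalarTower B' A' A]
    (hsq : EtMil.IsFibreSquare B' B A' A)
    (L' : Type u) [AddCommGroup L'] [Module B' L'] (x : B ⊗[B'] L') (y : A' ⊗[B'] L')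
    (hxy : (IsScalarTower.toAlgHom B' B A).toLinearMap.rTensor L' x = (IsScalarTower.toAlgHom B' A' A).toLinearMap.rTensor L' y) :
    ∃ l : L', (1 : B) ⊗ₜ[B'] l = x ∧ (1 : A') ⊗ₜ[B'] l = y := by
  obtain ⟨hsurj, hfib⟩ := hsq
  have hB : Function.Surjective (algebraMap B' B) := by
    intro b
    obtain ⟨a', ha'⟩ := hsurj (algebraMap B A b)
    obtain ⟨b', ⟨hb', _⟩, _⟩ := hfib b a' ha'.symm
    exact ⟨b', hb'⟩
  obtain ⟨l₀, rfl⟩ := one_tmul_surj hB L' x
  set gA : A' →ₗ[B'] A := (IsScalarTower.toAlgHom B' A' A).toLinearMap with hgA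
  have hgAs : Function.Surjective gA := hsurj
  have hex : Function.Exact ((LinearMap.ker gA).subtype.rTensor L') (gA.rTensor L') :=
    rTensor_exact L' (LinearMap.exact_subtype_ker_map gA) hgAs
  have h0 : gA.rTensor L' (y - (1 : A') ⊗ₜ[B'] l₀) = 0 := by
    rw [map_sub, ← hxy]
    simp [hgA]
  obtain ⟨z, hz⟩ := (hex _).mp h0
  have key : ∀ z : (LinearMap.ker gA) ⊗[B'] L', ∃ l : L',
      ((LinearMap.ker gA).subtype.rTensor L') z = (1 : A') ⊗ₜ[B'] l ∧ (1 : B) ⊗ₜ[B'] l = 0 := by
    intro z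
    induction z with
    | zero => exact ⟨0, by simp⟩
    | tmul k m =>
      have hk : algebraMap A' A (k : A') = 0 := k.2
      obtain ⟨b', ⟨hb1, hb2⟩, _⟩ := hfib 0 (k : A') (by rw [map_zero, hk])
      refine ⟨b' • m, ?_, ?_⟩
      · rw [LinearMap.rTensor_tmul, Submodule.subtype_apply, TensorProduct.tmul_smul,
          TensorProduct.smul_tmul', Algebra.smul_def, mul_one, hb2]
      · rw [TensorProduct.tmul_smul, TensorProduct.smul_tmul', Algebra.smul_def, mul_one, hb1,
          TensorProduct.zero_tmul]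
    | add z w hz hw =>
      obtain ⟨l1, h1, h1'⟩ := hz
      obtain ⟨l2, h2, h2'⟩ := hw
      exact ⟨l1 + l2, by rw [map_add, h1, h2, TensorProduct.tmul_add],
        by rw [TensorProduct.tmul_add, h1', h2', add_zero]⟩
  obtain ⟨l₁, hl₁, hl₁'⟩ := key z
  refine ⟨l₀ + l₁, ?_, ?_⟩
  · rw [TensorProduct.tmul_add, hl₁', add_zero]
  · rw [TensorProduct.tmul_add, ← hl₁, hz]
    abel

end Groth.Agent.S6916
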