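import Groth.Statements.S2020
import Mathlib
import Groth.Agent.Lib.Helper8.MilnorGlue
import Groth.Agent.S6916

set_option autoImplicit false
universe u
open TensorProduct
open EtAlg

namespace Groth.Agent.S2020


open Groth.Agent.Lib.helper8.Mil Groth.Agent.Lib.helper12 in
theorem eq_zero_of_flat (B' B A' A : Type u) [CommRing B'] [CommRing B] [CommRing A'] [CommRing A]
    [Algebra B' B] [Algebra B' A'] [Algebra B A] [Algebra A' A] [Algebra B' A]
    [IsScalarTower B' B A] [IsScalarTower B' A' A]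
    (hsq : EtMil.IsFibreSquare B' B A' A)
    (L' : Type u) [AddCommGroup L'] [Module B' L'] [Module.Flat B' L'] (l : L')
    (h1 : ((1 : B) ⊗ₜ[B'] l : B ⊗[B'] L') = 0) (h2 : ((1 : A') ⊗ₜ[B'] l : A' ⊗[B'] L') = 0) :
    l = 0 := by
  let ι : B' →ₗ[B'] (B × A') :=
    (Algebra.linearMap B' B).prod (Algebra.linearMap B' A')
  have hι : Function.Injective ι := by
    intro x y hxy
    have hx1 : algebraMap B' B x = algebraMap B' B y := congrArg Prod.fst hxy
    have hx2 : algebraMap B' A' x = algebraMap B' A' y := congrArg Prod.snd hxy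
    exact milnor_ext hsq hx1 hx2
  have h3 : Function.Injective (ι.rTensor L') :=
    Module.Flat.rTensor_preserves_injective_linearMap ι hι
  have h4 : ι.rTensor L' ((1 : B') ⊗ₜ[B'] l) =
      (LinearMap.inl B' B A').rTensor L' ((1 : B) ⊗ₜ[B'] l) +
      (LinearMap.inr B' B A').rTensor L' ((1 : A') ⊗ₜ[B'] l) := by
    rw [LinearMap.rTensor_tmul, LinearMap.rTensor_tmul, LinearMap.rTensor_tmul,
      ← TensorProduct.add_tmul]
    congr 1
    simp [ι]
  rw [h1, h2, map_zero, map_zero, add_zero] at h4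
  have h5 : ((1 : B') ⊗ₜ[B'] l : B' ⊗[B'] L') = 0 := h3 (by rw [h4, map_zero])
  have h6 := congrArg (TensorProduct.lid B' L') h5
  simpa using h6

/-- Let B' → B, B' → A', B → A and A' → A be ring homomorphisms forming a commutative square that is a
fibre product, B' = B ×_A A', with A' → A surjective. (1) Given a flat B-module N, a flat A'-module
M' and an A-linear isomorphism φ : A ⊗_B N ≅ A ⊗_{A'} M', the glued module N ×_φ M' (pairs (n, m')
with φ(1 ⊗ n) = 1 ⊗ m') is a flat B'-module. (2) For every flat B'-module L', the map L' → (B ⊗_{B'}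
L') × (A' ⊗_{B'} L') is injective, and any pair (x, y) whose two images in A ⊗_{B'} L' agree comes
from an element of L'. -/
theorem result (B' B A' A : Type u) [CommRing B'] [CommRing B] [CommRing A'] [CommRing A]
    [Algebra B' B] [Algebra B' A'] [Algebra B A] [Algebra A' A] [Algebra B' A] [IsScalarTower B' B A] [IsScalarTower B' A' A]
    (hsq : EtMil.IsFibreSquare B' B A' A) :
    (∀ (N M' : Type u) [AddCommGroup N] [Module B N] [Module B' N] [IsScalarTower B' B N]
    [AddCommGroup M'] [Module A' M'] [Module B' M'] [IsScalarTower B' A' M'] (φ : A ⊗[B] N ≃ₗ[A] A ⊗[A'] M'), Module.Flat B N → Module.Flat A' M' → Module.Flat B' ↥(EtMil.glue B' φ)) ∧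
    (∀ (L' : Type u) [AddCommGroup L'] [Module B' L'], Module.Flat B' L' →
      Function.Injective (fun l : L' => (((1 : B) ⊗ₜ[B'] l : B ⊗[B'] L'), ((1 : A') ⊗ₜ[B'] l : A' ⊗[B'] L'))) ∧
      ∀ (x : B ⊗[B'] L') (y : A' ⊗[B'] L'),
        (IsScalarTower.toAlgHom B' B A).toLinearMap.rTensor L' x = (IsScalarTower.toAlgHom B' A' A).toLinearMap.rTensor L' y →
          ∃ l : L', (1 : B) ⊗ₜ[B'] l = x ∧ (1 : A') ⊗ₜ[B'] l = y) := by
  refine ⟨?_, ?_⟩
  · intro N M' _ _ _ _ _ _ _ _ φ hN hM'
    haveI : Module.Flat B (B ⊗[B'] (EtMil.glue B' φ)) :=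
      Module.Flat.of_linearEquiv (Groth.Agent.Lib.helper8.Mil.glueFstEquiv φ hsq)
    haveI : Module.Flat A' (A' ⊗[B'] (EtMil.glue B' φ)) :=
      Module.Flat.of_linearEquiv (Groth.Agent.Lib.helper8.Mil.glueSndEquiv φ hsq)
    exact Groth.Agent.Lib.helper8.Mil.flat_of_flat_baseChangePair hsq _
  · intro L' _ _ hL'
    refine ⟨?_, fun x y hxy => Groth.Agent.S6916.result B' B A' A hsq L' x y hxy⟩
    intro a b hab
    have h1 : ((1 : B) ⊗ₜ[B'] a : B ⊗[B'] L') = (1 : B) ⊗ₜ[B'] b := congrArg Prod.fst hab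
    have h2 : ((1 : A') ⊗ₜ[B'] a : A' ⊗[B'] L') = (1 : A') ⊗ₜ[B'] b := congrArg Prod.snd hab
    have := eq_zero_of_flat B' B A' A hsq L' (a - b)
      (by rw [TensorProduct.tmul_sub, h1, sub_self]) (by rw [TensorProduct.tmul_sub, h2, sub_self])
    exact sub_eq_zero.mp this

end Groth.Agent.S2020
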