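import Groth.Statements.S12720
import Groth.Agent.LibCR29c
-- import your own Groth.Agent.* helpers here

set_option autoImplicit false
universe u v
open CategoryTheory
open ArtFun

namespace Groth.Agent.S12720
open Groth.Agent.LibCR29


/-- For functors, let F be a functor on Artinian local Λ-algebras with residue field k with F(k) a
point, and ξ a versal family of F over a complete local Noetherian R with residue field k. Then
every formal element η of F over a complete local Noetherian S with residue field k is induced from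
ξ: there is a morphism g : R → S (over Λ, compatible with the augmentations) such that the family
obtained from ξ by composing with g has formal element η. -/
theorem result {Λ : Type u} {k : Type u} [CommRing Λ] [Field k] [Algebra Λ k]
    [IsNoetherianRing Λ] [Module.Finite Λ k]
    {F : ArtFun.Art Λ k ⥤ Type v} (h0 : ArtFun.H0 F)
    (R : ArtFun.CRing Λ k) (ξ : ArtFun.Family R.carrier R.res F) (hξ : ArtFun.IsVersal ξ)
    (S : ArtFun.CRing Λ k) (η : ArtFun.FormalElt F S) :
    ∃ (g : R.carrier →ₐ[Λ] S.carrier) (hg : S.res.comp g = R.res), (ξ.along g hg).toFormalElt = η := by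
  have h00 : ∃ g : HomSet R.carrier R.res (S.trunc 0), ξ.app _ g = η.elt 0 := by
    have hsurj : Function.Surjective (Art.toBase (S.trunc 0)) := (S.trunc 0).res_surjective
    let φ₀ : HomSet R.carrier R.res (Art.base Λ k) := ⟨R.res, AlgHom.id_comp _⟩
    have hsub : Subsingleton (F.obj (Art.base Λ k)) := h0.2
    obtain ⟨ψ, _, hψ⟩ := hξ (Art.toBase _) hsurj φ₀ (η.elt 0) (Subsingleton.elim _ _)
    exact ⟨ψ, hψ⟩
  have hstep : ∀ n (g : {g : HomSet R.carrier R.res (S.trunc n) // ξ.app _ g = η.elt n}),
      ∃ g' : {g' : HomSet R.carrier R.res (S.trunc (n + 1)) // ξ.app _ g' = η.elt (n + 1)},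
        HomSet.map (S.truncMap n) g'.1 = g.1 := by
    intro n g
    have hsurj : Function.Surjective (S.truncMap n) := fun x => by
      obtain ⟨a, rfl⟩ := Ideal.Quotient.mk_surjective x
      exact ⟨Ideal.Quotient.mk _ a, rfl⟩
    obtain ⟨ψ, h1, h2⟩ := hξ (S.truncMap n) hsurj g.1 (η.elt (n + 1)) (by rw [η.compat, g.2])
    exact ⟨⟨ψ, h2⟩, h1⟩
  choose next hnext using hstep
  let seq : ∀ n, {g : HomSet R.carrier R.res (S.trunc n) // ξ.app _ g = η.elt n} := fun n =>
    Nat.rec ⟨h00.choose, h00.choose_spec⟩ (fun n x => next n x) n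
  have hseq : ∀ n, HomSet.map (S.truncMap n) (seq (n + 1)).1 = (seq n).1 := fun n =>
    hnext n (seq n)
  obtain ⟨G, hG⟩ := exists_algHom_of_compat S (fun n => (seq n).1.1)
    (fun n => congrArg Subtype.val (hseq n))
  have hGres : S.res.comp G = R.res := by
    rw [res_comp_of_truncHom, hG 0]; exact (seq 0).1.2
  refine ⟨G, hGres, ?_⟩
  apply FormalElt.ext'
  intro n
  change ξ.app _ ⟨(S.truncHom n).1.comp G, _⟩ = η.elt n
  rw [← (seq n).2]
  congr 1
  exact Subtype.ext (hG n)

end Groth.Agent.S12720
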