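import Groth.Statements.S12758
import Groth.Agent.S12720
import Mathlib

set_option autoImplicit false
universe u v
open CategoryTheory
open ArtFun

namespace Groth.Agent.S12758

theorem injective_of_surjective_endo {R : Type*} [CommRing R] [IsNoetherianRing R] (f : R →+* R)
    (hf : Function.Surjective f) : Function.Injective f := by
  let K : ℕ →o Ideal R := ⟨fun n => RingHom.ker (f ^ n), fun m n h x hx => by
    rw [RingHom.mem_ker] at hx ⊢
    obtain ⟨d, rfl⟩ := Nat.exists_eq_add_of_le h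
    rw [add_comm, pow_add, RingHom.mul_def, RingHom.comp_apply, hx, map_zero]⟩
  obtain ⟨n, hn⟩ := monotone_stabilizes_iff_noetherian.mpr (inferInstance : IsNoetherian R R) K
  rw [injective_iff_map_eq_zero]
  intro x hx
  have hfn : Function.Surjective (f ^ n) := by
    rw [RingHom.coe_pow]; exact hf.iterate n
  obtain ⟨y, rfl⟩ := hfn x
  have h1 : y ∈ K (n + 1) := by
    show (f ^ (n + 1)) y = 0
    rw [pow_succ', RingHom.mul_def, RingHom.comp_apply]
    exact hx
  rw [← hn (n + 1) (Nat.le_succ n)] at h1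
  exact h1

open ArtFun in
theorem along_toFormalElt_eq_push {Λ : Type u} {k : Type u} [CommRing Λ] [Field k] [Algebra Λ k]
    {F : ArtFun.Art Λ k ⥤ Type v} {R S : ArtFun.CRing Λ k} (ξ : ArtFun.Family R.carrier R.res F)
    (g : R.carrier →ₐ[Λ] S.carrier) (hg : S.res.comp g = R.res) :
    (ξ.along g hg).toFormalElt = ξ.toFormalElt.push g hg := by
  apply ArtFun.FormalElt.ext'
  intro n
  show ξ.app _ ⟨(S.truncHom n).1.comp g, _⟩ =
    F.map (ArtFun.CRing.truncMapOfHom g hg n) (ξ.app _ (R.truncHom n))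
  rw [← ξ.natural]
  congr 1

/-- For functors, two minimal versal families of a functor F on Artinian local Λ-algebras with residue
field k with F(k) a point — over complete local Noetherian coefficient rings R₁, R₂ with residue
field k — are isomorphic: there is an isomorphism R₁ ≅ R₂ over Λ, compatible with the augmentations,
along which the formal element of the first family pushes forward to that of the second. -/
theorem result {Λ : Type u} {k : Type u} [CommRing Λ] [Field k] [Algebra Λ k]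
    [IsNoetherianRing Λ] [Module.Finite Λ k]
    {F : ArtFun.Art Λ k ⥤ Type v} (h0 : ArtFun.H0 F) {R₁ R₂ : ArtFun.CRing Λ k}
    (ξ₁ : ArtFun.Family R₁.carrier R₁.res F) (ξ₂ : ArtFun.Family R₂.carrier R₂.res F)
    (h₁ : ξ₁.IsMinimalVersal) (h₂ : ξ₂.IsMinimalVersal) :
    ∃ (e : R₁.carrier ≃ₐ[Λ] R₂.carrier) (he : R₂.res.comp (e : R₁.carrier →ₐ[Λ] R₂.carrier) = R₁.res),
      (ξ₁.along (e : R₁.carrier →ₐ[Λ] R₂.carrier) he).toFormalElt = ξ₂.toFormalElt := by
  obtain ⟨g, hg, hgη⟩ := Groth.Agent.S12720.result h0 R₁ ξ₁ h₁.1 R₂ ξ₂.toFormalElt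
  obtain ⟨g', hg', hg'η⟩ := Groth.Agent.S12720.result h0 R₂ ξ₂ h₂.1 R₁ ξ₁.toFormalElt
  have hgs : Function.Surjective g :=
    h₂.2 R₁ ξ₁.toFormalElt g hg (by rw [← along_toFormalElt_eq_push, hgη])
  have hg's : Function.Surjective g' :=
    h₁.2 R₂ ξ₂.toFormalElt g' hg' (by rw [← along_toFormalElt_eq_push, hg'η])
  have hinj : Function.Injective ((g'.comp g : R₁.carrier →ₐ[Λ] R₁.carrier) : R₁.carrier →+* R₁.carrier) :=
    injective_of_surjective_endo _ (hg's.comp hgs)
  have hginj : Function.Injective g := by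
    intro x y hxy
    apply hinj
    show g' (g x) = g' (g y)
    rw [hxy]
  have key : ∀ (g₁ : R₁.carrier →ₐ[Λ] R₂.carrier) (h₁' : R₂.res.comp g₁ = R₁.res), g₁ = g →
      (ξ₁.along g₁ h₁').toFormalElt = ξ₂.toFormalElt := by
    intro g₁ h₁' he
    subst he
    exact hgη
  have hcoe : ((AlgEquiv.ofBijective g ⟨hginj, hgs⟩ : R₁.carrier ≃ₐ[Λ] R₂.carrier) :
      R₁.carrier →ₐ[Λ] R₂.carrier) = g := AlgHom.ext fun _ => rfl
  exact ⟨AlgEquiv.ofBijective g ⟨hginj, hgs⟩, by rw [hcoe]; exact hg, key _ _ hcoe⟩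

end Groth.Agent.S12758
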