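import Groth.Agent.S12739
import Groth.Agent.S12720
import Groth.Agent.S12710
import Groth.Agent.S12758
import Groth.Prelude.Def_W4sfdMinVersal

/-!
# Idempotent endomorphisms of complete local rings attached to an endomorphism (Fitting), and
retracts; tools for minimal versal families (helper29).
-/

set_option autoImplicit false
set_option linter.style.haveILetI false
set_option linter.deprecated false
universe u v
open CategoryTheory
open ArtFun

namespace Groth.Agent.LibMV29
open Groth.Agent.LibCR29 IsLocalRing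

section fitting
variable {L A : Type*} [CommRing L] [CommRing A] [Algebra L A]

/-- the Fitting data of an algebra endomorphism -/
def IsFitting (φ e : A →ₐ[L] A) (n : ℕ) : Prop :=
  ∀ N, n ≤ N →
    (∀ x, e ((φ ^ N) x) = (φ ^ N) x) ∧
    (∀ x, (φ ^ N) (e x) = (φ ^ N) x) ∧
    (∀ x, ∃ w, e x = (φ ^ N) w) ∧
    (∀ w w', (φ ^ N) ((φ ^ N) w) = (φ ^ N) ((φ ^ N) w') → (φ ^ N) w = (φ ^ N) w')

theorem pow_toLinearMap (φ : A →ₐ[L] A) (N : ℕ) (x : A) :
    (φ.toLinearMap ^ N) x = (φ ^ N) x := by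
  rw [Module.End.pow_apply, AlgHom.coe_pow]
  rfl

theorem exists_fitting [IsNoetherian L A] [IsArtinian L A] (φ : A →ₐ[L] A) : ∃ (e : A →ₐ[L] A) (n : ℕ), IsFitting φ e n := by
  classical
  obtain ⟨k, hk⟩ := Filter.eventually_atTop.mp <|
    (LinearMap.eventually_isCompl_ker_pow_range_pow φ.toLinearMap).and <|
    (LinearMap.eventually_iInf_range_pow_eq φ.toLinearMap).and
      (LinearMap.eventually_iSup_ker_pow_eq φ.toLinearMap)
  obtain ⟨hc, hr, hkr⟩ := hk k le_rfl
  -- for `N ≥ k` the kernel and range are those of `k`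
  have hker : ∀ N, k ≤ N → ∀ x, (φ ^ N) x = 0 ↔ (φ ^ k) x = 0 := by
    intro N hN x
    have h1 : LinearMap.ker (φ.toLinearMap ^ N) = LinearMap.ker (φ.toLinearMap ^ k) := by
      rw [← (hk N hN).2.2, ← hkr]
    rw [← pow_toLinearMap, ← pow_toLinearMap, ← LinearMap.mem_ker, ← LinearMap.mem_ker, h1]
  have hrange : ∀ N, k ≤ N → ∀ y, (∃ w, (φ ^ N) w = y) ↔ (∃ w, (φ ^ k) w = y) := by
    intro N hN y
    have h1 : LinearMap.range (φ.toLinearMap ^ N) = LinearMap.range (φ.toLinearMap ^ k) := by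
      rw [← (hk N hN).2.1, ← hr]
    have h2 : ∀ M y, (∃ w, (φ ^ M) w = y) ↔ y ∈ LinearMap.range (φ.toLinearMap ^ M) := by
      intro M y
      rw [LinearMap.mem_range]
      constructor
      · rintro ⟨w, hw⟩; exact ⟨w, by rw [pow_toLinearMap, hw]⟩
      · rintro ⟨w, hw⟩; exact ⟨w, by rw [← pow_toLinearMap, hw]⟩
    rw [h2, h2, h1]
  let K := LinearMap.ker (φ.toLinearMap ^ k)
  let I := LinearMap.range (φ.toLinearMap ^ k)
  have hIK : IsCompl I K := hc.symm
  let el : A →ₗ[L] A := I.subtype ∘ₗ Submodule.projectionOnto I K hIK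
  have hmemI : ∀ y, y ∈ I ↔ ∃ w, (φ ^ k) w = y := by
    intro y
    constructor
    · rintro ⟨w, hw⟩; exact ⟨w, by rw [← pow_toLinearMap, hw]⟩
    · rintro ⟨w, hw⟩; exact ⟨w, by rw [pow_toLinearMap, hw]⟩
  have hmemK : ∀ y, y ∈ K ↔ (φ ^ k) y = 0 := by
    intro y
    rw [← pow_toLinearMap]; exact LinearMap.mem_ker
  have helI : ∀ y ∈ I, el y = y := by
    intro y hy
    change ((Submodule.projectionOnto I K hIK y : I) : A) = y
    rw [Submodule.projectionOnto_apply_of_mem_left hIK hy]
  have helK : ∀ y ∈ K, el y = 0 := by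
    intro y hy
    change ((Submodule.projectionOnto I K hIK y : I) : A) = 0
    rw [(Submodule.projectionOnto_apply_eq_zero_iff hIK).2 hy, Submodule.coe_zero]
  have helmem : ∀ x, el x ∈ I := fun x => Submodule.coe_mem _
  have hdec : ∀ x, ∃ s ∈ I, ∃ ν ∈ K, x = s + ν := by
    intro x
    have hx : x ∈ I ⊔ K := by rw [hIK.sup_eq_top]; trivial
    obtain ⟨s, hs, ν, hν, rfl⟩ := Submodule.mem_sup.1 hx
    exact ⟨s, hs, ν, hν, rfl⟩
  have hel_dec : ∀ s ∈ I, ∀ ν ∈ K, el (s + ν) = s := by
    intro s hs ν hν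
    rw [map_add, helI s hs, helK ν hν, add_zero]
  have hone : el 1 = 1 := helI 1 ((hmemI 1).2 ⟨1, map_one _⟩)
  have hmul : ∀ x y, el (x * y) = el x * el y := by
    intro x y
    obtain ⟨s, hs, ν, hν, rfl⟩ := hdec x
    obtain ⟨s', hs', ν', hν', rfl⟩ := hdec y
    rw [hel_dec s hs ν hν, hel_dec s' hs' ν' hν']
    have h1 : (s + ν) * (s' + ν') = s * s' + (s * ν' + ν * s' + ν * ν') := by ring
    rw [h1]
    apply hel_dec
    · obtain ⟨w, rfl⟩ := (hmemI s).1 hs
      obtain ⟨w', rfl⟩ := (hmemI s').1 hs'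
      exact (hmemI _).2 ⟨w * w', map_mul _ _ _⟩
    · rw [hmemK] at hν hν' ⊢
      rw [map_add, map_add, map_mul, map_mul, map_mul, hν, hν']
      ring
  let e : A →ₐ[L] A := AlgHom.ofLinearMap el hone hmul
  have he : ∀ x, e x = el x := fun x => rfl
  refine ⟨e, k, ?_⟩
  intro N hN
  refine ⟨?_, ?_, ?_, ?_⟩
  · intro x
    rw [he]
    exact helI _ ((hmemI _).2 ((hrange N hN _).1 ⟨x, rfl⟩))
  · intro x
    obtain ⟨s, hs, ν, hν, rfl⟩ := hdec x
    rw [he, hel_dec s hs ν hν, map_add]
    have : (φ ^ N) ν = 0 := (hker N hN ν).2 ((hmemK ν).1 hν)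
    rw [this, add_zero]
  · intro x
    rw [he]
    obtain ⟨w, hw⟩ := (hrange N hN _).2 ((hmemI _).1 (helmem x))
    exact ⟨w, hw.symm⟩
  · intro w w' h
    have h1 : (φ ^ N) w - (φ ^ N) w' ∈ I ⊓ K := by
      refine ⟨?_, ?_⟩
      · rw [SetLike.mem_coe, hmemI]
        exact (hrange N hN _).1 ⟨w - w', map_sub _ _ _⟩
      · rw [SetLike.mem_coe, hmemK, ← hker N hN, map_sub, h, sub_self]
    rw [hIK.inf_eq_bot, Submodule.mem_bot, sub_eq_zero] at h1
    exact h1

theorem IsFitting.idem {φ e : A →ₐ[L] A} {n : ℕ} (h : IsFitting φ e n) (x : A) : e (e x) = e x := by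
  obtain ⟨h1, -, h3, -⟩ := h n le_rfl
  obtain ⟨w, hw⟩ := h3 x
  rw [hw, h1]

theorem pow_comm_of_comm {A' : Type*} [CommRing A'] [Algebra L A'] (φ : A →ₐ[L] A)
    (φ' : A' →ₐ[L] A') (q : A →ₐ[L] A') (hq : q.comp φ = φ'.comp q) (N : ℕ) (x : A) :
    q ((φ ^ N) x) = (φ' ^ N) (q x) := by
  induction N generalizing x with
  | zero => rfl
  | succ N ih =>
    rw [pow_succ, pow_succ, AlgHom.mul_apply, AlgHom.mul_apply, ih]
    have := congrArg (fun f : A →ₐ[L] A' => f x) hq
    simp only [AlgHom.comp_apply] at this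
    rw [this]

/-- compatibility of the Fitting idempotents with a map intertwining the endomorphisms -/
theorem fitting_compat {A' : Type*} [CommRing A'] [Algebra L A'] (φ : A →ₐ[L] A)
    (φ' : A' →ₐ[L] A') (q : A →ₐ[L] A') (hq : q.comp φ = φ'.comp q)
    {e : A →ₐ[L] A} {n : ℕ} (he : IsFitting φ e n)
    {e' : A' →ₐ[L] A'} {n' : ℕ} (he' : IsFitting φ' e' n') (x : A) :
    q (e x) = e' (q x) := by
  obtain ⟨-, h2, h3, -⟩ := he (max n n') (le_max_left _ _)
  obtain ⟨-, h2', h3', h4'⟩ := he' (max n n') (le_max_right _ _)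
  obtain ⟨w, hw⟩ := h3 x
  obtain ⟨w', hw'⟩ := h3' (q x)
  have hc := pow_comm_of_comm φ φ' q hq (max n n')
  have e1 : q (e x) = (φ' ^ max n n') (q w) := by rw [hw, hc]
  have e2 : (φ' ^ max n n') (q (e x)) = (φ' ^ max n n') (q x) := by
    rw [← hc, h2, hc]
  have e3 : (φ' ^ max n n') (e' (q x)) = (φ' ^ max n n') (q x) := h2' _
  rw [e1, hw']
  apply h4'
  rw [← e1, ← hw', e2, e3]

end fitting


section cring
variable {Λ k : Type u} [CommRing Λ] [Field k] [Algebra Λ k]

theorem eq_of_forall_mk_eq (R : CRing Λ k) (x y : R.carrier)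
    (h : ∀ j, Ideal.Quotient.mk (CRing.mpow R j) x = Ideal.Quotient.mk (CRing.mpow R j) y) :
    x = y := by
  have hH : IsHausdorff (maximalIdeal R.carrier) R.carrier := R.isAdicComplete.toIsHausdorff
  rw [← sub_eq_zero]
  apply hH.haus'
  intro m
  rw [SModEq.zero, smul_eq_mul, Ideal.mul_top]
  have h2 : x - y ∈ CRing.mpow R m := by
    rw [← Ideal.Quotient.eq]
    exact h m
  exact Ideal.pow_le_pow_right (Nat.le_succ m) h2

theorem truncHom_apply (R : CRing Λ k) (j : ℕ) (x : R.carrier) :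
    (R.truncHom j).1 x = Ideal.Quotient.mk (CRing.mpow R j) x := rfl

/-- the endomorphism of the truncation induced by an endomorphism -/
noncomputable def truncEnd (R : CRing Λ k) (φ : R.carrier →ₐ[Λ] R.carrier)
    (hφ : R.res.comp φ = R.res) (j : ℕ) : R.trunc j ⟶ R.trunc j :=
  CRing.truncMapOfHom φ hφ j

theorem truncEnd_mk (R : CRing Λ k) (φ : R.carrier →ₐ[Λ] R.carrier)
    (hφ : R.res.comp φ = R.res) (j : ℕ) (x : R.carrier) :
    (truncEnd R φ hφ j).toAlgHom (Ideal.Quotient.mk (CRing.mpow R j) x) =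
      Ideal.Quotient.mk (CRing.mpow R j) (φ x) := rfl

theorem res_pow {A : Art Λ k} (f : A ⟶ A) (N : ℕ) (y : A) :
    A.res ((f.toAlgHom ^ N) y) = A.res y := by
  induction N generalizing y with
  | zero => rfl
  | succ N ih =>
    rw [pow_succ, AlgHom.mul_apply, ih]
    exact Art.res_app f y

/-- iterates of an endomorphism in the category -/
noncomputable def iter {A : Art Λ k} (f : A ⟶ A) : ℕ → (A ⟶ A)
  | 0 => 𝟙 A
  | (m + 1) => f ≫ iter f m

theorem iter_toAlgHom {A : Art Λ k} (f : A ⟶ A) (m : ℕ) :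
    (iter f m).toAlgHom = f.toAlgHom ^ m := by
  induction m with
  | zero => rfl
  | succ m ih =>
    change (iter f m).toAlgHom.comp f.toAlgHom = _
    rw [ih, pow_succ]
    rfl

theorem map_iter {F : Art Λ k ⥤ Type v} {A : Art Λ k} (f : A ⟶ A) (z : F.obj A)
    (hz : F.map f z = z) (m : ℕ) : F.map (iter f m) z = z := by
  induction m with
  | zero =>
    change F.map (𝟙 A) z = z
    rw [FunctorToTypes.map_id_apply]
  | succ m ih =>
    change F.map (f ≫ iter f m) z = z
    rw [FunctorToTypes.map_comp_apply, hz, ih]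

variable [IsNoetherianRing Λ] [Module.Finite Λ k]

theorem isNoetherian_obj (A : Art Λ k) : IsNoetherian Λ A := by
  letI : Algebra A k := A.res.toRingHom.toAlgebra
  haveI : IsScalarTower Λ A k := IsScalarTower.of_algebraMap_eq (fun x => (A.res.commutes x).symm)
  have hres : Function.Surjective (algebraMap A k) := A.res_surjective
  have h := Groth.Agent.S12708.result (Λ := Λ) (k := k) A hres A
  haveI := Groth.Agent.S12710.isArtinian_base (Λ := Λ) (k := k)
  have h1 : Module.length Λ k ≠ ⊤ := Module.length_ne_top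
  have h2 : Module.length A A ≠ ⊤ := Module.length_ne_top
  have h3 : Module.length Λ A ≠ ⊤ := by
    rw [← h]
    exact WithTop.mul_ne_top h1 h2
  exact (isFiniteLength_iff_isNoetherian_isArtinian.mp (Module.length_ne_top_iff.mp h3)).1

/-- the idempotent attached to an endomorphism of a complete local ring -/
theorem exists_idem (R : CRing Λ k) (φ : R.carrier →ₐ[Λ] R.carrier)
    (hφ : R.res.comp φ = R.res) :
    ∃ (e : R.carrier →ₐ[Λ] R.carrier) (_ : R.res.comp e = R.res),
      (∀ x, e (e x) = e x) ∧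
      ∀ j, ∃ (ej : (R.trunc j).carrier →ₐ[Λ] (R.trunc j).carrier) (n : ℕ),
        IsFitting (truncEnd R φ hφ j).toAlgHom ej n ∧
        ∀ x, Ideal.Quotient.mk (CRing.mpow R j) (e x) =
          ej (Ideal.Quotient.mk (CRing.mpow R j) x) := by
  have hfit : ∀ j, ∃ (ej : (R.trunc j).carrier →ₐ[Λ] (R.trunc j).carrier) (n : ℕ),
      IsFitting (truncEnd R φ hφ j).toAlgHom ej n := by
    intro j
    haveI := isNoetherian_obj (R.trunc j)
    haveI := Groth.Agent.S12710.isArtinian_obj (R.trunc j)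
    exact exists_fitting _
  choose ej nj hj using hfit
  let g : ∀ j, R.carrier →ₐ[Λ] (R.trunc j).carrier := fun j => (ej j).comp (R.truncHom j).1
  have hq : ∀ j, (R.truncMap j).toAlgHom.comp (truncEnd R φ hφ (j + 1)).toAlgHom =
      (truncEnd R φ hφ j).toAlgHom.comp (R.truncMap j).toAlgHom := by
    intro j
    apply AlgHom.ext
    intro y
    obtain ⟨x, rfl⟩ := Ideal.Quotient.mk_surjective y
    rfl
  have hcompat : ∀ j, (R.truncMap j).toAlgHom.comp (g (j + 1)) = g j := by
    intro j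
    apply AlgHom.ext
    intro x
    change (R.truncMap j).toAlgHom (ej (j + 1) (Ideal.Quotient.mk _ x)) =
      ej j (Ideal.Quotient.mk _ x)
    rw [fitting_compat _ _ _ (hq j) (hj (j + 1)) (hj j)]
    rfl
  obtain ⟨G, hG⟩ := exists_algHom_of_compat R g hcompat
  have hGmk : ∀ j x, Ideal.Quotient.mk (CRing.mpow R j) (G x) =
      ej j (Ideal.Quotient.mk (CRing.mpow R j) x) := by
    intro j x
    exact congrArg (fun f : R.carrier →ₐ[Λ] (R.trunc j).carrier => f x) (hG j)
  have hres_ej : ∀ j y, (R.trunc j).res (ej j y) = (R.trunc j).res y := by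
    intro j y
    obtain ⟨-, h2, -, -⟩ := hj j (nj j) le_rfl
    rw [← res_pow (truncEnd R φ hφ j) (nj j) (ej j y), h2, res_pow]
  have hGres : R.res.comp G = R.res := by
    rw [res_comp_of_truncHom R G, hG 0]
    apply AlgHom.ext
    intro x
    change (R.trunc 0).res (ej 0 (Ideal.Quotient.mk _ x)) = R.res x
    rw [hres_ej]
    rfl
  refine ⟨G, hGres, ?_, fun j => ⟨ej j, nj j, hj j, hGmk j⟩⟩
  intro x
  apply eq_of_forall_mk_eq
  intro j
  rw [hGmk, hGmk, (hj j).idem]

/-- the idempotent preserves every family preserved by the endomorphism, and it is injective only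
if the endomorphism is surjective. -/
theorem exists_idem' (R : CRing Λ k) (φ : R.carrier →ₐ[Λ] R.carrier)
    (hφ : R.res.comp φ = R.res) :
    ∃ (e : R.carrier →ₐ[Λ] R.carrier) (he : R.res.comp e = R.res),
      (∀ x, e (e x) = e x) ∧
      (∀ {F : Art Λ k ⥤ Type v} (ξ : Family R.carrier R.res F),
        (ξ.along φ hφ).toFormalElt = ξ.toFormalElt →
          (ξ.along e he).toFormalElt = ξ.toFormalElt) ∧
      (Function.Injective e → Function.Surjective φ) := by
  obtain ⟨e, he, hidem, hlev⟩ := exists_idem R φ hφ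
  refine ⟨e, he, hidem, ?_, ?_⟩
  · intro F ξ hξ
    apply FormalElt.ext'
    intro j
    obtain ⟨ej, n, hfit, hmk⟩ := hlev j
    -- the level `j` element is fixed by the induced endomorphism
    have h1 : F.map (truncEnd R φ hφ j) (ξ.toFormalElt.elt j) = ξ.toFormalElt.elt j := by
      have h2 := congrArg (fun u : FormalElt F R => u.elt j) hξ
      rw [Groth.Agent.S12758.along_toFormalElt_eq_push] at h2
      exact h2
    have hres_ej : (R.trunc j).res.comp ej = (R.trunc j).res := by
      apply AlgHom.ext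
      intro y
      obtain ⟨-, h2, -, -⟩ := hfit n le_rfl
      change (R.trunc j).res (ej y) = (R.trunc j).res y
      rw [← res_pow (truncEnd R φ hφ j) n (ej y), h2, res_pow]
    let ê : R.trunc j ⟶ R.trunc j := Art.homMk ej hres_ej
    have h3 : iter (truncEnd R φ hφ j) n ≫ ê = iter (truncEnd R φ hφ j) n := by
      apply Art.hom_ext
      apply AlgHom.ext
      intro y
      change ej ((iter (truncEnd R φ hφ j) n).toAlgHom y) = (iter (truncEnd R φ hφ j) n).toAlgHom y
      rw [iter_toAlgHom]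
      exact (hfit n le_rfl).1 y
    have h4 : F.map ê (ξ.toFormalElt.elt j) = ξ.toFormalElt.elt j := by
      have h5 := map_iter (truncEnd R φ hφ j) (ξ.toFormalElt.elt j) h1 n
      conv_lhs => rw [← h5]
      rw [← FunctorToTypes.map_comp_apply, h3, h5]
    have h6 : (⟨(R.truncHom j).1.comp e, by rw [← AlgHom.comp_assoc, (R.truncHom j).2, he]⟩ :
        HomSet R.carrier R.res (R.trunc j)) = HomSet.map ê (R.truncHom j) := by
      apply Subtype.ext
      apply AlgHom.ext
      intro x
      exact hmk x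
    change ξ.app _ ⟨(R.truncHom j).1.comp e, _⟩ = ξ.toFormalElt.elt j
    rw [h6, ξ.natural]
    exact h4
  · intro hinj
    have hid : ∀ x, e x = x := fun x => hinj (hidem x)
    obtain ⟨ej, n, hfit, hmk⟩ := hlev 1
    have hej : ∀ y, ej y = y := by
      intro y
      obtain ⟨x, rfl⟩ := Ideal.Quotient.mk_surjective y
      rw [← hmk, hid]
    have hsurj1 : ∀ y : (R.trunc 1).carrier, ∃ w, (truncEnd R φ hφ 1).toAlgHom w = y := by
      intro y
      obtain ⟨-, -, h3, -⟩ := hfit (n + 1) (Nat.le_succ n)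
      obtain ⟨w, hw⟩ := h3 y
      rw [hej, pow_succ', AlgHom.mul_apply] at hw
      exact ⟨_, hw.symm⟩
    have htfae := Groth.Agent.S12714.result R R φ hφ
    refine (htfae.out 0 1).2 ?_
    apply le_antisymm
    · refine sup_le (Groth.Agent.S12714.map_le_maximalIdeal R R φ hφ)
        (Ideal.pow_le_self (by norm_num))
    · intro y hy
      obtain ⟨w, hw⟩ := hsurj1 (Ideal.Quotient.mk _ y)
      obtain ⟨x, rfl⟩ := Ideal.Quotient.mk_surjective w
      rw [truncEnd_mk] at hw
      have hw' : φ x - y ∈ maximalIdeal R.carrier ^ 2 := by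
        have hw2 : (Ideal.Quotient.mk (CRing.mpow R 1) (φ x) : R.carrier ⧸ CRing.mpow R 1) =
            Ideal.Quotient.mk (CRing.mpow R 1) y := hw
        rw [Ideal.Quotient.eq] at hw2
        exact hw2
      have hxm : x ∈ maximalIdeal R.carrier := by
        rw [ArtFun.CRing.mem_maximalIdeal_iff, ← Groth.Agent.S12714.res_app R R φ hφ,
          ← ArtFun.CRing.mem_maximalIdeal_iff]
        have h7 : φ x = (φ x - y) + y := by ring
        rw [h7]
        exact Ideal.add_mem _ (Ideal.pow_le_self (by norm_num) hw') hy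
      have h8 : y = φ x - (φ x - y) := by ring
      rw [h8]
      exact Ideal.sub_mem _ (Ideal.mem_sup_left (Ideal.mem_map_of_mem φ hxm))
        (Ideal.mem_sup_right hw')

end cring

section retract
variable {Λ k : Type u} [CommRing Λ] [Field k] [Algebra Λ k]

/-- the retract cut out by an idempotent endomorphism -/
theorem exists_retract (R : CRing Λ k) (e : R.carrier →ₐ[Λ] R.carrier)
    (he : R.res.comp e = R.res) (hidem : ∀ x, e (e x) = e x) :
    ∃ (R' : CRing Λ k) (a : R.carrier →ₐ[Λ] R'.carrier) (b : R'.carrier →ₐ[Λ] R.carrier),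
      R'.res.comp a = R.res ∧ R.res.comp b = R'.res ∧ b.comp a = e ∧
        a.comp b = AlgHom.id Λ R'.carrier ∧ Function.Surjective a ∧
        RingHom.ker a = RingHom.ker e := by
  have hK : RingHom.ker e ≤ maximalIdeal R.carrier := by
    intro x hx
    rw [RingHom.mem_ker] at hx
    rw [ArtFun.CRing.mem_maximalIdeal_iff]
    have := congrArg (fun f : R.carrier →ₐ[Λ] k => f x) he
    simp only [AlgHom.comp_apply] at this
    rw [← this, hx, map_zero]
  obtain ⟨Q, a, ha, hker, hres⟩ := exists_quot R (RingHom.ker e) hK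
  have H : RingHom.ker a.toRingHom ≤ RingHom.ker e.toRingHom := by
    intro x hx
    have hx' : x ∈ RingHom.ker a := hx
    rw [hker] at hx'
    exact hx'
  obtain ⟨b, hbdef⟩ : ∃ b : Q.carrier →ₐ[Λ] R.carrier, b = AlgHom.liftOfSurjective a ha e H :=
    ⟨_, rfl⟩
  have hba : b.comp a = e := by rw [hbdef]; exact AlgHom.liftOfSurjective_comp a ha e H
  have hba' : ∀ x, b (a x) = e x := fun x => congrArg (fun f : R.carrier →ₐ[Λ] R.carrier => f x) hba
  have hae : ∀ x, a (e x) = a x := by
    intro x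
    rw [← sub_eq_zero, ← map_sub]
    have h1 : e x - x ∈ RingHom.ker a := by
      rw [hker, RingHom.mem_ker, map_sub, hidem, sub_self]
    exact h1
  refine ⟨Q, a, b, hres, ?_, hba, ?_, ha, hker⟩
  · apply AlgHom.ext
    intro y
    obtain ⟨x, rfl⟩ := ha y
    change R.res (b (a x)) = Q.res (a x)
    rw [hba']
    have h1 := congrArg (fun f : R.carrier →ₐ[Λ] k => f x) he
    have h2 := congrArg (fun f : R.carrier →ₐ[Λ] k => f x) hres
    simp only [AlgHom.comp_apply] at h1 h2
    rw [h1, h2]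
  · apply AlgHom.ext
    intro y
    obtain ⟨x, rfl⟩ := ha y
    change a (b (a x)) = a x
    rw [hba', hae]

end retract

section formal
variable {Λ k : Type u} [CommRing Λ] [Field k] [Algebra Λ k] {F : Art Λ k ⥤ Type v}

theorem app_eq_of_toFormalElt_eq {R : CRing Λ k} (ξ₁ ξ₂ : Family R.carrier R.res F)
    (h : ξ₁.toFormalElt = ξ₂.toFormalElt) (A : Art Λ k) (ψ : HomSet R.carrier R.res A) :
    ξ₁.app A ψ = ξ₂.app A ψ := by
  obtain ⟨n, ū, hū⟩ := exists_factor_trunc R A ψ
  rw [← hū, ξ₁.natural, ξ₂.natural]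
  have := congrArg (fun u : FormalElt F R => u.elt n) h
  exact congrArg (F.map ū) this

theorem along_congr {R S : CRing Λ k} (ξ₁ ξ₂ : Family R.carrier R.res F)
    (h : ξ₁.toFormalElt = ξ₂.toFormalElt)
    (g : R.carrier →ₐ[Λ] S.carrier) (hg : S.res.comp g = R.res) :
    (ξ₁.along g hg).toFormalElt = (ξ₂.along g hg).toFormalElt := by
  apply FormalElt.ext'
  intro n
  exact app_eq_of_toFormalElt_eq ξ₁ ξ₂ h _ _

theorem along_along_app {R S T : CRing Λ k} (ξ : Family R.carrier R.res F)
    (g : R.carrier →ₐ[Λ] S.carrier) (hg : S.res.comp g = R.res)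
    (h : S.carrier →ₐ[Λ] T.carrier) (hh : T.res.comp h = S.res)
    (f : R.carrier →ₐ[Λ] T.carrier) (hf : T.res.comp f = R.res) (hfg : h.comp g = f)
    (A : Art Λ k) (ψ : HomSet T.carrier T.res A) :
    ((ξ.along g hg).along h hh).app A ψ = (ξ.along f hf).app A ψ := by
  change ξ.app A ⟨(ψ.1.comp h).comp g, _⟩ = ξ.app A ⟨ψ.1.comp f, _⟩
  congr 1
  apply Subtype.ext
  change (ψ.1.comp h).comp g = ψ.1.comp f
  rw [AlgHom.comp_assoc, hfg]

theorem along_along_toFormalElt {R S T : CRing Λ k} (ξ : Family R.carrier R.res F)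
    (g : R.carrier →ₐ[Λ] S.carrier) (hg : S.res.comp g = R.res)
    (h : S.carrier →ₐ[Λ] T.carrier) (hh : T.res.comp h = S.res)
    (f : R.carrier →ₐ[Λ] T.carrier) (hf : T.res.comp f = R.res) (hfg : h.comp g = f) :
    ((ξ.along g hg).along h hh).toFormalElt = (ξ.along f hf).toFormalElt := by
  apply FormalElt.ext'
  intro n
  exact along_along_app ξ g hg h hh f hf hfg _ _

/-- a retract of a versal family through which the family factors is versal -/
theorem isVersal_along_retract {R R' : CRing Λ k} (ξ : Family R.carrier R.res F)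
    (hξ : IsVersal ξ)
    (a : R.carrier →ₐ[Λ] R'.carrier) (ha : R'.res.comp a = R.res)
    (b : R'.carrier →ₐ[Λ] R.carrier) (hb : R.res.comp b = R'.res)
    (hab : a.comp b = AlgHom.id Λ R'.carrier)
    (e : R.carrier →ₐ[Λ] R.carrier) (he : R.res.comp e = R.res) (hba : b.comp a = e)
    (hpres : (ξ.along e he).toFormalElt = ξ.toFormalElt) : IsVersal (ξ.along a ha) := by
  intro B A μ hμ φ y hy
  let φa : HomSet R.carrier R.res A := ⟨φ.1.comp a, by rw [← AlgHom.comp_assoc, φ.2, ha]⟩
  obtain ⟨ψ, hψ1, hψ2⟩ := hξ μ hμ φa y hy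
  have hψ1' : μ.toAlgHom.comp ψ.1 = φ.1.comp a := congrArg Subtype.val hψ1
  refine ⟨⟨ψ.1.comp b, by rw [← AlgHom.comp_assoc, ψ.2, hb]⟩, ?_, ?_⟩
  · apply Subtype.ext
    change μ.toAlgHom.comp (ψ.1.comp b) = φ.1
    rw [← AlgHom.comp_assoc, hψ1', AlgHom.comp_assoc, hab, AlgHom.comp_id]
  · change ξ.app B ⟨(ψ.1.comp b).comp a, _⟩ = y
    have h1 : (⟨(ψ.1.comp b).comp a, by
        rw [← AlgHom.comp_assoc, ← AlgHom.comp_assoc, ψ.2, hb, ha]⟩ :
        HomSet R.carrier R.res B) = ⟨ψ.1.comp e, by rw [← AlgHom.comp_assoc, ψ.2, he]⟩ := by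
      apply Subtype.ext
      change (ψ.1.comp b).comp a = ψ.1.comp e
      rw [AlgHom.comp_assoc, hba]
    rw [h1]
    have h2 := app_eq_of_toFormalElt_eq _ _ hpres B ψ
    change ξ.app B ⟨ψ.1.comp e, _⟩ = ξ.app B ψ at h2
    rw [h2, hψ2]

end formal

section minimal
variable {Λ k : Type u} [CommRing Λ] [Field k] [Algebra Λ k] [IsNoetherianRing Λ]
  [Module.Finite Λ k] {F : Art Λ k ⥤ Type v}

/-- a versal family retracts onto a minimal versal family -/
theorem exists_minimal_retract (h0 : H0 F) (R : CRing Λ k) (ξ : Family R.carrier R.res F)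
    (hξ : IsVersal ξ) :
    ∃ (R' : CRing Λ k) (a : R.carrier →ₐ[Λ] R'.carrier) (ha : R'.res.comp a = R.res)
      (b : R'.carrier →ₐ[Λ] R.carrier) (hb : R.res.comp b = R'.res),
      a.comp b = AlgHom.id Λ R'.carrier ∧
      ((ξ.along a ha).along b hb).toFormalElt = ξ.toFormalElt ∧
      (ξ.along a ha).IsMinimalVersal := by
  classical
  let 𝓢 : Set (Ideal R.carrier) := {K | ∃ (e : R.carrier →ₐ[Λ] R.carrier)
    (he : R.res.comp e = R.res), (∀ x, e (e x) = e x) ∧
      (ξ.along e he).toFormalElt = ξ.toFormalElt ∧ RingHom.ker e = K}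
  have hne : 𝓢.Nonempty := by
    refine ⟨⊥, AlgHom.id Λ R.carrier, AlgHom.comp_id _, fun x => rfl, ?_, ?_⟩
    · apply FormalElt.ext'
      intro n
      change ξ.app _ ⟨(R.truncHom n).1.comp (AlgHom.id Λ R.carrier), _⟩ = ξ.app _ (R.truncHom n)
      congr 1
    · rw [eq_bot_iff]
      intro x hx
      exact hx
  obtain ⟨K, ⟨e, he, hidem, hpres, hker⟩, hmax⟩ :=
    set_has_maximal_iff_noetherian.mpr (inferInstance : IsNoetherian R.carrier R.carrier) 𝓢 hne
  obtain ⟨R', a, b, ha, hb, hba, hab, hasurj, hkera⟩ := exists_retract R e he hidem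
  have hab' : ∀ y, a (b y) = y := fun y =>
    congrArg (fun f : R'.carrier →ₐ[Λ] R'.carrier => f y) hab
  have h2 : ((ξ.along a ha).along b hb).toFormalElt = ξ.toFormalElt := by
    rw [along_along_toFormalElt ξ a ha b hb e he hba, hpres]
  have hver : IsVersal (ξ.along a ha) :=
    isVersal_along_retract ξ hξ a ha b hb hab e he hba hpres
  refine ⟨R', a, ha, b, hb, hab, h2, hver, ?_⟩
  intro R'' u f hf hu
  obtain ⟨h, hh, hhu⟩ := Groth.Agent.S12720.result h0 R' (ξ.along a ha) hver R'' u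
  have hψ : R'.res.comp (f.comp h) = R'.res := by
    rw [← AlgHom.comp_assoc, hf, hh]
  have hpresψ : ((ξ.along a ha).along (f.comp h) hψ).toFormalElt = (ξ.along a ha).toFormalElt := by
    rw [← along_along_toFormalElt (ξ.along a ha) h hh f hf (f.comp h) hψ rfl,
      Groth.Agent.S12758.along_toFormalElt_eq_push, hhu, hu]
  obtain ⟨e', he', hidem', hpres', hinj'⟩ := exists_idem' R' (f.comp h) hψ
  have hpres'' := hpres' (ξ.along a ha) hpresψ
  have he₂ : R.res.comp ((b.comp e').comp a) = R.res := by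
    rw [← AlgHom.comp_assoc, ← AlgHom.comp_assoc, hb, he', ha]
  have hidem₂ : ∀ x, ((b.comp e').comp a) (((b.comp e').comp a) x) = ((b.comp e').comp a) x := by
    intro x
    change b (e' (a (b (e' (a x))))) = b (e' (a x))
    rw [hab', hidem']
  have hpres₂ : (ξ.along ((b.comp e').comp a) he₂).toFormalElt = ξ.toFormalElt := by
    rw [← h2, ← along_congr _ _ hpres'' b hb]
    apply FormalElt.ext'
    intro n
    change ξ.app _ ⟨(R.truncHom n).1.comp ((b.comp e').comp a), _⟩ =
      ξ.app _ ⟨(((R.truncHom n).1.comp b).comp e').comp a, _⟩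
    congr 1
  have hmem : RingHom.ker ((b.comp e').comp a) ∈ 𝓢 :=
    ⟨(b.comp e').comp a, he₂, hidem₂, hpres₂, rfl⟩
  have hKle : K ≤ RingHom.ker ((b.comp e').comp a) := by
    intro x hx
    rw [← hker, ← hkera, RingHom.mem_ker] at hx
    rw [RingHom.mem_ker]
    change b (e' (a x)) = 0
    rw [hx, map_zero, map_zero]
  have hle : RingHom.ker ((b.comp e').comp a) ≤ K := by
    by_contra hcon
    exact hmax _ hmem (lt_of_le_not_ge hKle hcon)
  have hinje : Function.Injective e' := by
    rw [injective_iff_map_eq_zero]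
    intro y hy
    obtain ⟨x, rfl⟩ := hasurj y
    have hx : x ∈ RingHom.ker ((b.comp e').comp a) := by
      rw [RingHom.mem_ker]
      change b (e' (a x)) = 0
      rw [hy, map_zero]
    have hx' := hle hx
    rw [← hker, ← hkera, RingHom.mem_ker] at hx'
    exact hx'
  have hsurj : Function.Surjective (f.comp h) := hinj' hinje
  exact Function.Surjective.of_comp hsurj

end minimal

section struct
variable {Λ k : Type u} [CommRing Λ] [Field k] [Algebra Λ k] [IsNoetherianRing Λ]
  [Module.Finite Λ k] {F : Art Λ k ⥤ Type v}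

open Groth.Agent.LibPS29 in
/-- minimal generators of an ideal modulo the maximal ideal, with the independence property -/
theorem exists_min_gens {R : Type u} [CommRing R] [IsLocalRing R] [IsNoetherianRing R]
    (I : Ideal R) :
    ∃ (n : ℕ) (x : Fin n → R), (∀ i, x i ∈ I) ∧
      Ideal.span (Set.range x) ⊔ maximalIdeal R * I = I ∧
      ∀ c : Fin n → R, ∑ i, c i * x i = 0 → ∀ i, c i ∈ maximalIdeal R := by
  classical
  have hex : ∃ n, ∃ t : Finset R, t.card = n ∧ (∀ y ∈ t, y ∈ I) ∧
      Ideal.span (t : Set R) ⊔ maximalIdeal R * I = I := by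
    obtain ⟨t, ht⟩ := (isNoetherianRing_iff_ideal_fg R).1 inferInstance I
    refine ⟨t.card, t, rfl, fun y hy => ?_, ?_⟩
    · rw [← ht]; exact Ideal.subset_span hy
    · rw [ht]
      exact sup_eq_left.2 Ideal.mul_le_right
  obtain ⟨t, htcard, htI, htc⟩ := Nat.find_spec hex
  have hmin : ∀ t' : Finset R, t'.card < t.card → (∀ y ∈ t', y ∈ I) →
      Ideal.span (t' : Set R) ⊔ maximalIdeal R * I ≠ I := by
    intro t' hlt ht'I ht'c
    rw [htcard] at hlt
    exact Nat.find_min hex hlt ⟨t', rfl, ht'I, ht'c⟩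
  let x : Fin t.card → R := fun i => ((t.equivFin.symm i : t) : R)
  have hxinj : Function.Injective x := fun i j hij =>
    t.equivFin.symm.injective (Subtype.ext hij)
  have hxt : ∀ i, x i ∈ t := fun i => (t.equivFin.symm i).2
  have hrange : Set.range x = (t : Set R) := by
    ext y
    constructor
    · rintro ⟨i, rfl⟩; exact hxt i
    · intro hy
      exact ⟨t.equivFin ⟨y, hy⟩, by simp [x]⟩
  refine ⟨t.card, x, fun i => htI _ (hxt i), by rw [hrange]; exact htc, ?_⟩
  intro c hc
  by_contra hall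
  push Not at hall
  obtain ⟨i₀, hi₀⟩ := hall
  have hu : IsUnit (c i₀) := by
    by_contra h
    exact hi₀ ((IsLocalRing.mem_maximalIdeal _).2 h)
  have hrel : c i₀ * x i₀ = - ∑ i ∈ Finset.univ.erase i₀, c i * x i := by
    rw [← Finset.add_sum_erase _ _ (Finset.mem_univ i₀)] at hc
    linear_combination hc
  let t' := t.erase (x i₀)
  have hlt : t'.card < t.card := Finset.card_erase_lt_of_mem (hxt i₀)
  have ht'I : ∀ y ∈ t', y ∈ I := fun y hy => htI y (Finset.mem_of_mem_erase hy)
  have hx₀ : x i₀ ∈ Ideal.span (t' : Set R) := by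
    obtain ⟨v, hv⟩ := hu.exists_left_inv
    have e1 : x i₀ = v * (c i₀ * x i₀) := by rw [← mul_assoc, hv, one_mul]
    rw [e1, hrel]
    refine Ideal.mul_mem_left _ _ ((Ideal.neg_mem_iff _).2 ?_)
    refine Ideal.sum_mem _ fun i hi => Ideal.mul_mem_left _ _ (Ideal.subset_span ?_)
    rw [Finset.mem_coe, Finset.mem_erase]
    exact ⟨fun h => (Finset.mem_erase.1 hi).1 (hxinj h), hxt i⟩
  apply hmin t' hlt ht'I
  apply le_antisymm
  · refine sup_le (Ideal.span_le.2 fun y hy => ht'I y hy) Ideal.mul_le_right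
  · refine le_trans (le_of_eq htc.symm) (sup_le (Ideal.span_le.2 fun y hy => ?_) le_sup_right)
    by_cases hy0 : y = x i₀
    · rw [hy0]; exact Ideal.mem_sup_left hx₀
    · exact Ideal.mem_sup_left (Ideal.subset_span (Finset.mem_erase.2 ⟨hy0, hy⟩))

omit [IsNoetherianRing Λ] [Module.Finite Λ k] in
theorem truncMap_surjective (S : CRing Λ k) (j : ℕ) : Function.Surjective (S.truncMap j) := by
  intro y
  obtain ⟨x, rfl⟩ := Ideal.Quotient.mk_surjective y
  exact ⟨Ideal.Quotient.mk _ x, rfl⟩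

open Groth.Agent.LibPS29 Groth.Agent.S12739 Groth.Agent.Lib.helper17 in
/-- a versal family which factors through a retract is a power series ring over the retract -/
theorem exists_powerSeries_of_retract (R R' : CRing Λ k) (ξ : Family R.carrier R.res F)
    (hξ : IsVersal ξ) (ξ' : Family R'.carrier R'.res F)
    (a : R.carrier →ₐ[Λ] R'.carrier) (ha : R'.res.comp a = R.res)
    (b : R'.carrier →ₐ[Λ] R.carrier) (hb : R.res.comp b = R'.res)
    (hab : a.comp b = AlgHom.id Λ R'.carrier)
    (hξ' : (ξ'.along b hb).toFormalElt = ξ.toFormalElt) :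
    ∃ (n : ℕ) (e : R.carrier ≃ₐ[Λ] MvPowerSeries (Fin n) R'.carrier),
      ∀ s : R'.carrier, e (b s) = algebraMap R'.carrier (MvPowerSeries (Fin n) R'.carrier) s := by
  classical
  have hab' : ∀ y, a (b y) = y := fun y =>
    congrArg (fun f : R'.carrier →ₐ[Λ] R'.carrier => f y) hab
  have hares : ∀ x, R'.res (a x) = R.res x := fun x =>
    congrArg (fun f : R.carrier →ₐ[Λ] k => f x) ha
  have hbres : ∀ s, R.res (b s) = R'.res s := fun s =>
    congrArg (fun f : R'.carrier →ₐ[Λ] k => f s) hb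
  obtain ⟨I, hIdef⟩ : ∃ I : Ideal R.carrier, I = RingHom.ker a := ⟨_, rfl⟩
  have hImem : ∀ x, x ∈ I ↔ a x = 0 := fun x => by rw [hIdef]; exact RingHom.mem_ker
  have hIm : I ≤ maximalIdeal R.carrier := by
    intro x hx
    rw [ArtFun.CRing.mem_maximalIdeal_iff, ← hares, (hImem x).1 hx, map_zero]
  obtain ⟨n, x, hxI, hspan, hli⟩ := exists_min_gens I
  have hxm : ∀ i, x i ∈ maximalIdeal R.carrier := fun i => hIm (hxI i)
  -- the map from the power series ring
  let _ : Algebra R'.carrier k := R'.res.toRingHom.toAlgebra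
  let _ : Algebra R'.carrier R.carrier := b.toRingHom.toAlgebra
  have : IsScalarTower Λ R'.carrier R.carrier :=
    IsScalarTower.of_algebraMap_eq (fun l => (b.commutes l).symm)
  let RR : CRing R'.carrier k :=
    { carrier := R.carrier
      res := { R.res.toRingHom with commutes' := fun s => hbres s }
      res_surjective := R.res_surjective
      isAdicComplete := R.isAdicComplete }
  obtain ⟨θ₀, hθ₀⟩ : ∃ θ₀ : MvPowerSeries (Fin n) R'.carrier →ₐ[R'.carrier] R.carrier,
      ∀ i, θ₀ (MvPowerSeries.X i) = x i := exists_ps_algHom RR n x hxm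
  let P := psCRing R' n
  let θ : P.carrier →ₐ[Λ] R.carrier := θ₀.restrictScalars Λ
  have hθC : ∀ s : R'.carrier, θ₀ (MvPowerSeries.C s) = b s := by
    intro s
    have h1 : (MvPowerSeries.C s : MvPowerSeries (Fin n) R'.carrier) =
        algebraMap R'.carrier (MvPowerSeries (Fin n) R'.carrier) s := by
      rw [MvPowerSeries.algebraMap_apply]; rfl
    rw [h1, θ₀.commutes]; rfl
  have hθspan : ∀ g ∈ Ideal.span (Set.range
      (MvPowerSeries.X : Fin n → MvPowerSeries (Fin n) R'.carrier)), θ₀ g ∈ I := by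
    intro g hg
    have h3 := Ideal.mem_map_of_mem θ₀.toRingHom hg
    rw [Ideal.map_span] at h3
    refine (Ideal.span_le.2 ?_) h3
    rintro _ ⟨_, ⟨i, rfl⟩, rfl⟩
    change θ₀ (MvPowerSeries.X i) ∈ I
    rw [hθ₀]; exact hxI i
  have hfpt : ∀ s : MvPowerSeries (Fin n) R'.carrier,
      R.res (θ₀ s) = R'.res (MvPowerSeries.constantCoeff s) := by
    intro s
    have h1 : s = MvPowerSeries.C (MvPowerSeries.constantCoeff s) +
        (s - MvPowerSeries.C (MvPowerSeries.constantCoeff s)) := by ring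
    have h2 := hIm (hθspan _ (LibCR29.sub_C_mem_span_X s))
    rw [ArtFun.CRing.mem_maximalIdeal_iff] at h2
    conv_lhs => rw [h1, map_add, map_add, h2, add_zero, hθC, hbres]
  have hθres : R.res.comp θ = P.res := AlgHom.ext hfpt
  have hθm : ∀ s : MvPowerSeries (Fin n) R'.carrier,
      θ₀ s ∈ maximalIdeal R.carrier ↔ s ∈ maximalIdeal (MvPowerSeries (Fin n) R'.carrier) := by
    intro s
    rw [ArtFun.CRing.mem_maximalIdeal_iff, hfpt, ← ArtFun.CRing.mem_maximalIdeal_iff,
      mem_maximalIdeal_ps_iff]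
  -- surjectivity of θ
  have hθsurj : Function.Surjective θ := by
    have htfae := Groth.Agent.S12714.result P R θ hθres
    refine (htfae.out 0 1).2 ?_
    apply le_antisymm
    · exact sup_le (Groth.Agent.S12714.map_le_maximalIdeal P R θ hθres)
        (Ideal.pow_le_self (by norm_num))
    · intro y hy
      have hay : a y ∈ maximalIdeal R'.carrier := by
        rw [ArtFun.CRing.mem_maximalIdeal_iff, hares, ← ArtFun.CRing.mem_maximalIdeal_iff]
        exact hy
      have h1 : y = b (a y) + (y - b (a y)) := by ring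
      have h2 : y - b (a y) ∈ I := by
        rw [hImem, map_sub, hab', sub_self]
      rw [h1]
      refine Ideal.add_mem _ (Ideal.mem_sup_left ?_) ?_
      · rw [← hθC]
        have hC : (MvPowerSeries.C (a y) : MvPowerSeries (Fin n) R'.carrier) ∈
            maximalIdeal (MvPowerSeries (Fin n) R'.carrier) := by
          rw [mem_maximalIdeal_ps_iff, MvPowerSeries.constantCoeff_C]
          exact hay
        exact Ideal.mem_map_of_mem θ hC
      · rw [← hspan] at h2
        obtain ⟨u, hu, w, hw, huw⟩ := Submodule.mem_sup.1 h2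
        rw [← huw]
        refine Ideal.add_mem _ (Ideal.mem_sup_left ?_) (Ideal.mem_sup_right ?_)
        · refine (Ideal.span_le.2 ?_) hu
          rintro _ ⟨i, rfl⟩
          rw [← hθ₀ i]
          exact Ideal.mem_map_of_mem θ (X_mem_maximalIdeal_ps i)
        · rw [pow_two]
          exact Ideal.mul_mono_right hIm hw
  -- the kernel of θ lies in the square of the maximal ideal
  have hker : RingHom.ker θ ≤ RingHom.ker (P.truncHom 1).1 := by
    intro (g : MvPowerSeries (Fin n) R'.carrier) hg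
    have hg' : θ₀ g = 0 := hg
    obtain ⟨q, hq⟩ := (Ideal.mem_span_range_iff_exists_fun).1 (LibCR29.sub_C_mem_span_X g)
    have hgeq : g = MvPowerSeries.C (MvPowerSeries.constantCoeff g) +
        ∑ i, q i * MvPowerSeries.X i := by rw [hq]; ring
    have h0 : b (MvPowerSeries.constantCoeff g) + ∑ i, θ₀ (q i) * x i = 0 := by
      rw [← hg']
      conv_rhs => rw [hgeq]
      rw [map_add, map_sum, hθC]
      congr 1
      apply Finset.sum_congr rfl
      intro i _
      rw [map_mul, hθ₀]
    have hc0 : MvPowerSeries.constantCoeff g = 0 := by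
      have h1 := congrArg a h0
      rw [map_add, map_sum, hab', map_zero] at h1
      have h2 : ∑ i, a (θ₀ (q i) * x i) = 0 := by
        apply Finset.sum_eq_zero
        intro i _
        rw [map_mul, (hImem (x i)).1 (hxI i), mul_zero]
      rw [h2, add_zero] at h1
      exact h1
    rw [hc0, map_zero, zero_add] at h0
    have hqm := hli (fun i => θ₀ (q i)) h0
    have hmem : g ∈ maximalIdeal (MvPowerSeries (Fin n) R'.carrier) ^ 2 := by
      rw [hgeq, hc0, map_zero, zero_add, pow_two]
      refine Ideal.sum_mem _ fun i _ => Ideal.mul_mem_mul ((hθm _).1 (hqm i)) (X_mem_maximalIdeal_ps i)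
    change (P.truncHom 1).1 g = 0
    exact Ideal.Quotient.eq_zero_iff_mem.2 hmem
  obtain ⟨g₁, hg₁⟩ := Schl.exists_fac_ring θ hθsurj hθres (P.truncHom 1) hker
  -- the formal element on the power series ring
  let c : R'.carrier →ₐ[Λ] P.carrier := Cₐ R' n
  have hc : P.res.comp c = R'.res := res_Cₐ R' n
  let η : FormalElt F P := (ξ'.along c hc).toFormalElt
  have hbθ : θ.comp c = b := by
    apply AlgHom.ext
    intro s
    exact hθC s
  have hstart : ξ.app _ g₁ = η.elt 1 := by
    have h1 := app_eq_of_toFormalElt_eq _ _ hξ' _ g₁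
    rw [← h1]
    change ξ'.app _ ⟨g₁.1.comp b, _⟩ = ξ'.app _ ⟨(P.truncHom 1).1.comp c, _⟩
    congr 1
    apply Subtype.ext
    change g₁.1.comp b = (P.truncHom 1).1.comp c
    rw [← hbθ, ← AlgHom.comp_assoc, hg₁]
  -- lifting through the truncations
  have step : ∀ i (g : {g : HomSet R.carrier R.res (P.trunc (i + 1)) //
      ξ.app _ g = η.elt (i + 1)}),
      ∃ g' : {g : HomSet R.carrier R.res (P.trunc (i + 1 + 1)) // ξ.app _ g = η.elt (i + 1 + 1)},
        HomSet.map (P.truncMap (i + 1)) g'.1 = g.1 := by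
    intro i g
    obtain ⟨ψ, hψ1, hψ2⟩ := hξ (P.truncMap (i + 1)) (truncMap_surjective P (i + 1)) g.1
      (η.elt (i + 1 + 1)) (by rw [η.compat, g.2])
    exact ⟨⟨ψ, hψ2⟩, hψ1⟩
  choose nxt hnxt using step
  let seq : ∀ i, {g : HomSet R.carrier R.res (P.trunc (i + 1)) // ξ.app _ g = η.elt (i + 1)} :=
    fun i => Nat.rec ⟨g₁, hstart⟩ (fun i g => nxt i g) i
  let Gs : ∀ j, HomSet R.carrier R.res (P.trunc j) := fun j =>
    Nat.casesOn (motive := fun j => HomSet R.carrier R.res (P.trunc j)) j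
      (HomSet.map (P.truncMap 0) (seq 0).1) (fun i => (seq i).1)
  have hcompat : ∀ j, (P.truncMap j).toAlgHom.comp (Gs (j + 1)).1 = (Gs j).1 := by
    intro j
    cases j with
    | zero => rfl
    | succ i => exact congrArg Subtype.val (hnxt i (seq i))
  obtain ⟨G, hG⟩ := exists_algHom_of_compat P (fun j => (Gs j).1) hcompat
  have hGres : P.res.comp G = R.res := by
    rw [res_comp_of_truncHom P G, hG 0]
    exact (Gs 0).2
  -- surjectivity of G
  have hGsurj : Function.Surjective G := by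
    have htfae := Groth.Agent.S12714.result R P G hGres
    refine (htfae.out 0 1).2 ?_
    apply le_antisymm
    · exact sup_le (Groth.Agent.S12714.map_le_maximalIdeal R P G hGres)
        (Ideal.pow_le_self (by norm_num))
    · intro (y : MvPowerSeries (Fin n) R'.carrier) hy
      have hθy : θ₀ y ∈ maximalIdeal R.carrier := (hθm y).2 hy
      obtain ⟨Gy, hGy⟩ : ∃ Gy : MvPowerSeries (Fin n) R'.carrier, Gy = G (θ₀ y) := ⟨_, rfl⟩
      have h1 : (P.truncHom 1).1 Gy = (P.truncHom 1).1 y := by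
        rw [hGy]
        have e1 := congrArg (fun f : R.carrier →ₐ[Λ] (P.trunc 1).carrier => f (θ₀ y)) (hG 1)
        have e2 := congrArg (fun f : P.carrier →ₐ[Λ] (P.trunc 1).carrier => f y) hg₁
        exact e1.trans e2
      have h2 : Gy - y ∈ maximalIdeal (MvPowerSeries (Fin n) R'.carrier) ^ 2 := by
        have h3 : (Ideal.Quotient.mk (CRing.mpow P 1) Gy : P.carrier ⧸ CRing.mpow P 1) =
            Ideal.Quotient.mk (CRing.mpow P 1) y := h1
        rw [Ideal.Quotient.eq] at h3
        exact h3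
      have h4 : y = Gy - (Gy - y) := by ring
      rw [h4]
      refine Ideal.sub_mem _ (Ideal.mem_sup_left ?_) (Ideal.mem_sup_right h2)
      rw [hGy]
      exact Ideal.mem_map_of_mem G hθy
  -- conclusion
  have hcompsurj : Function.Surjective ((G.comp θ : P.carrier →ₐ[Λ] P.carrier) :
      P.carrier →+* P.carrier) := hGsurj.comp hθsurj
  have hcompinj := injective_of_surjective_ringEnd _ hcompsurj
  have hθinj : Function.Injective θ := by
    intro u v huv
    apply hcompinj
    change G (θ u) = G (θ v)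
    rw [huv]
  refine ⟨n, (AlgEquiv.ofBijective θ ⟨hθinj, hθsurj⟩).symm, ?_⟩
  intro s
  have h1 : b s = (AlgEquiv.ofBijective θ ⟨hθinj, hθsurj⟩) (MvPowerSeries.C s) := (hθC s).symm
  rw [h1, MvPowerSeries.algebraMap_apply]
  exact (AlgEquiv.ofBijective θ ⟨hθinj, hθsurj⟩).symm_apply_apply _

end struct

end Groth.Agent.LibMV29
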