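import Mathlib.Algebra.Exact.Basic
import Mathlib.Tactic.Abel
import Mathlib.Algebra.Group.Subgroup.Basic

/-!
# The nine-term cohomology sequence of a short exact sequence of three-term complexes (seat helper29)

Abstract diagram chase, for additive groups.  A `Cx` is a three-term cochain complex `K0 → K1 → K2` together
with a chosen presentation of its cohomology groups `T0 = ker d0`, `T1 = ker d1 / im d0`, `T2 = K2 / im d1`.
Given `X2 → X1 → X0` with columns exact (short exact in degrees 0 and 1, left exact in degree 2) we produce the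
nine-term exact sequence (`nine_term`).
-/

set_option autoImplicit false

namespace Groth.Agent.LibNine29

/-- an additive total functional relation is the graph of an additive map -/
theorem exists_addMonoidHom_of_rel {G H : Type*} [AddCommGroup G] [AddCommGroup H] (R : G → H → Prop)
    (htot : ∀ g, ∃ h, R g h) (huniq : ∀ g h h', R g h → R g h' → h = h')
    (hadd : ∀ g g' h h', R g h → R g' h' → R (g + g') (h + h')) :
    ∃ f : G →+ H, ∀ g, R g (f g) := by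
  choose f hf using htot
  refine ⟨AddMonoidHom.mk' f (fun a b => ?_), hf⟩
  exact huniq _ _ _ (hf (a + b)) (hadd _ _ _ _ (hf a) (hf b))

/-- a three-term cochain complex with a presentation of its cohomology -/
structure Cx (K0 K1 K2 Z1 T0 T1 T2 : Type*) [AddCommGroup K0] [AddCommGroup K1] [AddCommGroup K2]
    [AddCommGroup Z1] [AddCommGroup T0] [AddCommGroup T1] [AddCommGroup T2] where
  d0 : K0 →+ K1
  d1 : K1 →+ K2
  dd : ∀ x, d1 (d0 x) = 0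
  i0 : T0 →+ K0
  i0_inj : Function.Injective i0
  d0_i0 : ∀ t, d0 (i0 t) = 0
  ex_i0 : ∀ x, d0 x = 0 → ∃ t, i0 t = x
  j1 : Z1 →+ K1
  j1_inj : Function.Injective j1
  d1_j1 : ∀ z, d1 (j1 z) = 0
  ex_j1 : ∀ x, d1 x = 0 → ∃ z, j1 z = x
  p1 : Z1 →+ T1
  p1_surj : Function.Surjective p1
  p1_eq_zero : ∀ z, p1 z = 0 ↔ ∃ x, d0 x = j1 z
  p2 : K2 →+ T2
  p2_surj : Function.Surjective p2
  p2_eq_zero : ∀ x, p2 x = 0 ↔ ∃ y, d1 y = x

section

variable {K0 K1 K2 Z1 T0 T1 T2 : Type*} [AddCommGroup K0] [AddCommGroup K1] [AddCommGroup K2]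
    [AddCommGroup Z1] [AddCommGroup T0] [AddCommGroup T1] [AddCommGroup T2]
variable {L0 L1 L2 Y1 U0 U1 U2 : Type*} [AddCommGroup L0] [AddCommGroup L1] [AddCommGroup L2]
    [AddCommGroup Y1] [AddCommGroup U0] [AddCommGroup U1] [AddCommGroup U2]

/-- a morphism of three-term complexes with the induced maps on cohomology -/
structure CxHom (X : Cx K0 K1 K2 Z1 T0 T1 T2) (Y : Cx L0 L1 L2 Y1 U0 U1 U2) where
  f0 : K0 →+ L0
  f1 : K1 →+ L1
  f2 : K2 →+ L2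
  fz : Z1 →+ Y1
  t0 : T0 →+ U0
  t1 : T1 →+ U1
  t2 : T2 →+ U2
  comm0 : ∀ x, f1 (X.d0 x) = Y.d0 (f0 x)
  comm1 : ∀ x, f2 (X.d1 x) = Y.d1 (f1 x)
  hz : ∀ z, Y.j1 (fz z) = f1 (X.j1 z)
  h0 : ∀ t, Y.i0 (t0 t) = f0 (X.i0 t)
  h1 : ∀ z, t1 (X.p1 z) = Y.p1 (fz z)
  h2 : ∀ x, t2 (X.p2 x) = Y.p2 (f2 x)

end

section Nine

variable {K0 K1 K2 Z1 T0 T1 T2 : Type*} [AddCommGroup K0] [AddCommGroup K1] [AddCommGroup K2]
    [AddCommGroup Z1] [AddCommGroup T0] [AddCommGroup T1] [AddCommGroup T2]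
variable {L0 L1 L2 Y1 U0 U1 U2 : Type*} [AddCommGroup L0] [AddCommGroup L1] [AddCommGroup L2]
    [AddCommGroup Y1] [AddCommGroup U0] [AddCommGroup U1] [AddCommGroup U2]
variable {M0 M1 M2 W1 V0 V1 V2 : Type*} [AddCommGroup M0] [AddCommGroup M1] [AddCommGroup M2]
    [AddCommGroup W1] [AddCommGroup V0] [AddCommGroup V1] [AddCommGroup V2]
variable {X2 : Cx K0 K1 K2 Z1 T0 T1 T2} {X1 : Cx L0 L1 L2 Y1 U0 U1 U2} {X0 : Cx M0 M1 M2 W1 V0 V1 V2}
variable (α : CxHom X2 X1) (β : CxHom X1 X0)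
variable (hα0 : Function.Injective α.f0) (hα1 : Function.Injective α.f1) (hα2 : Function.Injective α.f2)
variable (hβα0 : ∀ x, β.f0 (α.f0 x) = 0) (hβα1 : ∀ x, β.f1 (α.f1 x) = 0) (hβα2 : ∀ x, β.f2 (α.f2 x) = 0)
variable (hex0 : ∀ x, β.f0 x = 0 → ∃ y, α.f0 y = x) (hex1 : ∀ x, β.f1 x = 0 → ∃ y, α.f1 y = x)
  (hex2 : ∀ x, β.f2 x = 0 → ∃ y, α.f2 y = x)
variable (hβ0 : Function.Surjective β.f0) (hβ1 : Function.Surjective β.f1)

include hα0 in
theorem t0_injective : Function.Injective α.t0 := by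
  intro t t' h
  apply X2.i0_inj
  apply hα0
  rw [← α.h0, ← α.h0, h]

include hα1 hβα0 hex0 in
theorem t0_exact : Function.Exact α.t0 β.t0 := by
  intro t'
  constructor
  · intro h
    have h1 : β.f0 (X1.i0 t') = 0 := by rw [← β.h0, h, map_zero]
    obtain ⟨y, hy⟩ := hex0 _ h1
    have h2 : X2.d0 y = 0 := by
      apply hα1
      rw [α.comm0, hy, X1.d0_i0, map_zero]
    obtain ⟨t'', ht''⟩ := X2.ex_i0 y h2
    refine ⟨t'', ?_⟩
    apply X1.i0_inj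
    rw [α.h0, ht'', hy]
  · rintro ⟨t'', rfl⟩
    apply X0.i0_inj
    rw [β.h0, α.h0, hβα0, map_zero]

include hα2 hβα1 hex1 hβ0 in
theorem t1_exact : Function.Exact α.t1 β.t1 := by
  intro t'
  obtain ⟨z', rfl⟩ := X1.p1_surj t'
  constructor
  · intro h
    rw [β.h1, X0.p1_eq_zero] at h
    obtain ⟨x, hx⟩ := h
    obtain ⟨x', rfl⟩ := hβ0 x
    have h1 : β.f1 (X1.j1 z' - X1.d0 x') = 0 := by
      rw [map_sub, β.comm0, ← β.hz, hx, sub_self]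
    obtain ⟨y, hy⟩ := hex1 _ h1
    have h2 : X2.d1 y = 0 := by
      apply hα2
      rw [α.comm1, hy, map_sub, X1.d1_j1, X1.dd, sub_zero, map_zero]
    obtain ⟨z'', hz''⟩ := X2.ex_j1 y h2
    refine ⟨X2.p1 z'', ?_⟩
    rw [α.h1]
    have h3 : X1.p1 (z' - α.fz z'') = 0 := by
      rw [X1.p1_eq_zero]
      refine ⟨x', ?_⟩
      rw [map_sub, α.hz, hz'', hy]
      abel
    rw [map_sub, sub_eq_zero] at h3
    exact h3.symm
  · rintro ⟨t'', ht''⟩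
    obtain ⟨z'', rfl⟩ := X2.p1_surj t''
    rw [← ht'', α.h1, β.h1]
    have : β.fz (α.fz z'') = 0 := by
      apply X0.j1_inj
      rw [β.hz, α.hz, hβα1, map_zero]
    rw [this, map_zero]

include hβα2 hex2 hβ1 in
theorem t2_exact : Function.Exact α.t2 β.t2 := by
  intro t'
  obtain ⟨x', rfl⟩ := X1.p2_surj t'
  constructor
  · intro h
    rw [β.h2, X0.p2_eq_zero] at h
    obtain ⟨y, hy⟩ := h
    obtain ⟨y', rfl⟩ := hβ1 y
    have h1 : β.f2 (x' - X1.d1 y') = 0 := by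
      rw [map_sub, β.comm1, hy, sub_self]
    obtain ⟨w, hw⟩ := hex2 _ h1
    refine ⟨X2.p2 w, ?_⟩
    rw [α.h2, hw, map_sub]
    have : X1.p2 (X1.d1 y') = 0 := (X1.p2_eq_zero _).mpr ⟨y', rfl⟩
    rw [this, sub_zero]
  · rintro ⟨t'', ht''⟩
    obtain ⟨w, rfl⟩ := X2.p2_surj t''
    rw [← ht'', α.h2, β.h2, hβα2, map_zero]

/-- the relation defining the first connecting map -/
def Rel0 (t : V0) (s : T1) : Prop :=
  ∃ (x' : L0) (z'' : Z1), β.f0 x' = X0.i0 t ∧ α.f1 (X2.j1 z'') = X1.d0 x' ∧ s = X2.p1 z''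

include hα1 hα2 hex0 hex1 hβ0 in
theorem exists_delta0 : ∃ δ : V0 →+ T1, ∀ t, Rel0 α β t (δ t) := by
  apply exists_addMonoidHom_of_rel
  · intro t
    obtain ⟨x', hx'⟩ := hβ0 (X0.i0 t)
    have h1 : β.f1 (X1.d0 x') = 0 := by rw [β.comm0, hx', X0.d0_i0]
    obtain ⟨y, hy⟩ := hex1 _ h1
    have h2 : X2.d1 y = 0 := by
      apply hα2
      rw [α.comm1, hy, X1.dd, map_zero]
    obtain ⟨z'', hz''⟩ := X2.ex_j1 y h2
    exact ⟨X2.p1 z'', x', z'', hx', by rw [hz'', hy], rfl⟩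
  · rintro t s s' ⟨x₁, z₁, h1, h2, rfl⟩ ⟨x₂, z₂, h1', h2', rfl⟩
    have h3 : β.f0 (x₁ - x₂) = 0 := by rw [map_sub, h1, h1', sub_self]
    obtain ⟨w, hw⟩ := hex0 _ h3
    have h4 : X2.j1 (z₁ - z₂) = X2.d0 w := by
      apply hα1
      rw [map_sub, map_sub, h2, h2', α.comm0, hw, map_sub]
    have h5 : X2.p1 (z₁ - z₂) = 0 := (X2.p1_eq_zero _).mpr ⟨w, h4.symm⟩
    rw [map_sub, sub_eq_zero] at h5
    exact h5
  · rintro t t' s s' ⟨x₁, z₁, h1, h2, rfl⟩ ⟨x₂, z₂, h1', h2', rfl⟩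
    exact ⟨x₁ + x₂, z₁ + z₂, by rw [map_add, map_add, h1, h1'],
      by rw [map_add, map_add, map_add, h2, h2'], by rw [map_add]⟩

/-- the relation defining the second connecting map -/
def Rel1 (t : V1) (s : T2) : Prop :=
  ∃ (z : W1) (y' : L1) (w : K2), X0.p1 z = t ∧ β.f1 y' = X0.j1 z ∧ α.f2 w = X1.d1 y' ∧ s = X2.p2 w

include hα2 hex1 hex2 hβ0 hβ1 in
theorem exists_delta1 : ∃ δ : V1 →+ T2, ∀ t, Rel1 α β t (δ t) := by
  apply exists_addMonoidHom_of_rel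
  · intro t
    obtain ⟨z, rfl⟩ := X0.p1_surj t
    obtain ⟨y', hy'⟩ := hβ1 (X0.j1 z)
    have h1 : β.f2 (X1.d1 y') = 0 := by rw [β.comm1, hy', X0.d1_j1]
    obtain ⟨w, hw⟩ := hex2 _ h1
    exact ⟨X2.p2 w, z, y', w, rfl, hy', hw, rfl⟩
  · rintro t s s' ⟨z₁, y₁, w₁, h1, h2, h3, rfl⟩ ⟨z₂, y₂, w₂, h1', h2', h3', rfl⟩
    have h4 : X0.p1 (z₁ - z₂) = 0 := by rw [map_sub, h1, h1', sub_self]
    rw [X0.p1_eq_zero] at h4
    obtain ⟨x, hx⟩ := h4
    obtain ⟨x', rfl⟩ := hβ0 x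
    have h5 : β.f1 (y₁ - y₂ - X1.d0 x') = 0 := by
      rw [map_sub, map_sub, h2, h2', β.comm0, hx, map_sub, sub_self]
    obtain ⟨v, hv⟩ := hex1 _ h5
    have h6 : w₁ - w₂ = X2.d1 v := by
      apply hα2
      rw [map_sub, h3, h3', α.comm1, hv, map_sub, map_sub, X1.dd, sub_zero]
    have h7 : X2.p2 (w₁ - w₂) = 0 := (X2.p2_eq_zero _).mpr ⟨v, h6.symm⟩
    rw [map_sub, sub_eq_zero] at h7
    exact h7
  · rintro t t' s s' ⟨z₁, y₁, w₁, h1, h2, h3, rfl⟩ ⟨z₂, y₂, w₂, h1', h2', h3', rfl⟩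
    exact ⟨z₁ + z₂, y₁ + y₂, w₁ + w₂, by rw [map_add, h1, h1'], by rw [map_add, map_add, h2, h2'],
      by rw [map_add, map_add, h3, h3'], by rw [map_add]⟩

include hα0 hα1 hα2 hβα0 hβα1 hβα2 hex0 hex1 hex2 hβ0 hβ1 in
/-- the nine-term exact sequence -/
theorem nine_term :
    Function.Injective α.t0 ∧ Function.Exact α.t0 β.t0 ∧ Function.Exact α.t1 β.t1 ∧
    Function.Exact α.t2 β.t2 ∧
    ∃ (δ₀ : V0 →+ T1) (δ₁ : V1 →+ T2),
      Function.Exact β.t0 δ₀ ∧ Function.Exact δ₀ α.t1 ∧ Function.Exact β.t1 δ₁ ∧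
        Function.Exact δ₁ α.t2 := by
  refine ⟨t0_injective α hα0, t0_exact α β hα1 hβα0 hex0, t1_exact α β hα2 hβα1 hex1 hβ0,
    t2_exact α β hβα2 hex2 hβ1, ?_⟩
  obtain ⟨δ₀, hδ₀⟩ := exists_delta0 α β hα1 hα2 hex0 hex1 hβ0
  obtain ⟨δ₁, hδ₁⟩ := exists_delta1 α β hα2 hex1 hex2 hβ0 hβ1
  have uniq0 : ∀ t s, Rel0 α β t s → s = δ₀ t := by
    rintro t s ⟨x₁, z₁, h1, h2, rfl⟩
    obtain ⟨x₂, z₂, h1', h2', h3'⟩ := hδ₀ t
    rw [h3']
    have h3 : β.f0 (x₁ - x₂) = 0 := by rw [map_sub, h1, h1', sub_self]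
    obtain ⟨w, hw⟩ := hex0 _ h3
    have h4 : X2.j1 (z₁ - z₂) = X2.d0 w := by
      apply hα1
      rw [map_sub, map_sub, h2, h2', α.comm0, hw, map_sub]
    have h5 : X2.p1 (z₁ - z₂) = 0 := (X2.p1_eq_zero _).mpr ⟨w, h4.symm⟩
    rw [map_sub, sub_eq_zero] at h5
    exact h5
  have uniq1 : ∀ t s, Rel1 α β t s → s = δ₁ t := by
    rintro t s ⟨z₁, y₁, w₁, h1, h2, h3, rfl⟩
    obtain ⟨z₂, y₂, w₂, h1', h2', h3', h4'⟩ := hδ₁ t
    rw [h4']
    have h4 : X0.p1 (z₁ - z₂) = 0 := by rw [map_sub, h1, h1', sub_self]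
    rw [X0.p1_eq_zero] at h4
    obtain ⟨x, hx⟩ := h4
    obtain ⟨x', rfl⟩ := hβ0 x
    have h5 : β.f1 (y₁ - y₂ - X1.d0 x') = 0 := by
      rw [map_sub, map_sub, h2, h2', β.comm0, hx, map_sub, sub_self]
    obtain ⟨v, hv⟩ := hex1 _ h5
    have h6 : w₁ - w₂ = X2.d1 v := by
      apply hα2
      rw [map_sub, h3, h3', α.comm1, hv, map_sub, map_sub, X1.dd, sub_zero]
    have h7 : X2.p2 (w₁ - w₂) = 0 := (X2.p2_eq_zero _).mpr ⟨v, h6.symm⟩
    rw [map_sub, sub_eq_zero] at h7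
    exact h7
  refine ⟨δ₀, δ₁, ?_, ?_, ?_, ?_⟩
  · -- exactness at V0
    intro t
    constructor
    · intro h
      obtain ⟨x', z'', h1, h2, h3⟩ := hδ₀ t
      rw [h] at h3
      obtain ⟨w, hw⟩ := (X2.p1_eq_zero _).mp h3.symm
      have h4 : X1.d0 (x' - α.f0 w) = 0 := by
        rw [map_sub, ← α.comm0, hw, h2, sub_self]
      obtain ⟨t', ht'⟩ := X1.ex_i0 _ h4
      refine ⟨t', ?_⟩
      apply X0.i0_inj
      rw [β.h0, ht', map_sub, hβα0, sub_zero, h1]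
    · rintro ⟨t', rfl⟩
      symm
      apply uniq0
      exact ⟨X1.i0 t', 0, (β.h0 t').symm, by rw [map_zero, map_zero, X1.d0_i0], by rw [map_zero]⟩
  · -- exactness at T1
    intro s
    constructor
    · intro h
      obtain ⟨z'', rfl⟩ := X2.p1_surj s
      rw [α.h1, X1.p1_eq_zero] at h
      obtain ⟨x', hx'⟩ := h
      have h1 : X0.d0 (β.f0 x') = 0 := by rw [← β.comm0, hx', α.hz, hβα1]
      obtain ⟨t, ht⟩ := X0.ex_i0 _ h1
      refine ⟨t, ?_⟩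
      symm
      apply uniq0
      exact ⟨x', z'', ht.symm, by rw [← α.hz, hx'], rfl⟩
    · rintro ⟨t, rfl⟩
      obtain ⟨x', z'', h1, h2, h3⟩ := hδ₀ t
      rw [h3, α.h1, X1.p1_eq_zero]
      exact ⟨x', by rw [α.hz, h2]⟩
  · -- exactness at V1
    intro t
    constructor
    · intro h
      obtain ⟨z, y', w, h1, h2, h3, h4⟩ := hδ₁ t
      rw [h] at h4
      obtain ⟨v, hv⟩ := (X2.p2_eq_zero _).mp h4.symm
      have h5 : X1.d1 (y' - α.f1 v) = 0 := by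
        rw [map_sub, ← α.comm1, hv, h3, sub_self]
      obtain ⟨z', hz'⟩ := X1.ex_j1 _ h5
      refine ⟨X1.p1 z', ?_⟩
      rw [β.h1, ← h1]
      congr 1
      apply X0.j1_inj
      rw [β.hz, hz', map_sub, hβα1, sub_zero, h2]
    · rintro ⟨t', rfl⟩
      obtain ⟨z', rfl⟩ := X1.p1_surj t'
      symm
      apply uniq1
      exact ⟨β.fz z', X1.j1 z', 0, (β.h1 z').symm, (β.hz z').symm, by rw [map_zero, X1.d1_j1],
        by rw [map_zero]⟩
  · -- exactness at T2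
    intro s
    constructor
    · intro h
      obtain ⟨w, rfl⟩ := X2.p2_surj s
      rw [α.h2, X1.p2_eq_zero] at h
      obtain ⟨y', hy'⟩ := h
      have h1 : X0.d1 (β.f1 y') = 0 := by rw [← β.comm1, hy', hβα2]
      obtain ⟨z, hz⟩ := X0.ex_j1 _ h1
      refine ⟨X0.p1 z, ?_⟩
      symm
      apply uniq1
      exact ⟨z, y', w, rfl, hz.symm, hy'.symm, rfl⟩
    · rintro ⟨t, rfl⟩
      obtain ⟨z, y', w, h1, h2, h3, h4⟩ := hδ₁ t
      rw [h4, α.h2, X1.p2_eq_zero]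
      exact ⟨y', h3.symm⟩

end Nine

end Groth.Agent.LibNine29
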