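import Groth.Agent.LibCotT29d
import Groth.Agent.LibCotT29e

/-!
# Functoriality and homotopy invariance of the maps `Tⁱpull` of morphisms of presentations (seat helper29)

* `PresHom.toGHom`, comparison of the prelude's `T2pull` with the one of `LibCotT29`;
* `T0pull_tri`, `T1pull_tri`, `T2pull_tri`: for morphisms of presentations `h : P → P'`, `h' : P' → P''` and
  ANY `k : P → P''` over the composite square, `k.Tⁱpull = h.Tⁱpull ∘ h'.Tⁱpull`;
* `id_T0pull`, `id_T1pull`, `id_T2pull`: the identity morphism induces the identity.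
-/

set_option autoImplicit false

universe u v w t u' v' w' t' u'' v'' w'' t'' m

open TensorProduct CotT

noncomputable section

namespace Groth.Agent.LibNine29

open Groth.Agent.LibCotT29

section ToGHom

variable {A : Type u} {B : Type v} {ι : Type w} {σ : Type t}
variable {A' : Type u'} {B' : Type v'} {ι' : Type w'} {σ' : Type t'}
variable [CommRing A] [CommRing B] [Algebra A B] [CommRing A'] [CommRing B'] [Algebra A' B']
variable [Algebra A A'] [Algebra B B'] [Algebra A B'] [IsScalarTower A A' B'] [IsScalarTower A B B']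
variable {P : Algebra.Presentation A B ι σ} {P' : Algebra.Presentation A' B' ι' σ'}

/-- a morphism of presentations as a generalised morphism -/
def toGHom (h : PresHom P P') : GHom P P' where
  τ := h.ringHom
  hτ := h.algebraMap_ringHom
  relVal := h.relVal
  jmap_relVal := h.jmap_relVal

variable (h : PresHom P P')

lemma toGHom_relModMap (f : relMod P) : (toGHom h).relModMap f = h.relModMap f := rfl

lemma toGHom_L1map (x : L1 P) : (toGHom h).L1map x = h.L1map x := rfl

lemma toGHom_L2map (x : L2 P) : (toGHom h).L2map x = h.L2map x := rfl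

variable (M' : Type m) [AddCommGroup M'] [Module B' M'] [Module B M'] [IsScalarTower B B' M']

lemma toGHom_T2pull : (toGHom h).T2pull M' = h.T2pull M' := rfl

lemma T2pull_mk (ψ : L2 P' →ₗ[B'] M') :
    h.T2pull M' (Submodule.Quotient.mk ψ) = Submodule.Quotient.mk (h.pull2 M' ψ) := rfl

lemma T1pull_mk (c : cocycles1 P' M') :
    h.T1pull M' (Submodule.Quotient.mk c) = Submodule.Quotient.mk (h.cocycles1Pull M' c) := rfl

lemma T0pull_coe (ψ : T0 P' M') : ((h.T0pull M' ψ : T0 P M') : L0 P →ₗ[B] M') = h.pull0 M' ψ := rfl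

end ToGHom

section Basic

variable {A : Type u} {B : Type v} {ι : Type w} {σ : Type t}
variable [CommRing A] [CommRing B] [Algebra A B]
variable (P : Algebra.Presentation A B ι σ) (M : Type m) [AddCommGroup M] [Module B M]

/-- elements of `T⁰` kill the image of the conormal map -/
lemma T0_comp_cotangentComplex (ψ : T0 P M) :
    (ψ : L0 P →ₗ[B] M) ∘ₗ P.toExtension.cotangentComplex = 0 := by
  apply comp_toCot_injective P
  rw [LinearMap.zero_comp, LinearMap.comp_assoc]
  exact ψ.2

lemma T0_apply_cotangentComplex (ψ : T0 P M) (y : P.toExtension.Cotangent) :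
    (ψ : L0 P →ₗ[B] M) (P.toExtension.cotangentComplex y) = 0 :=
  LinearMap.congr_fun (T0_comp_cotangentComplex P M ψ) y

end Basic

section Tri

variable {A : Type u} {B : Type v} {ι : Type w} {σ : Type t}
variable {A' : Type u'} {B' : Type v'} {ι' : Type w'} {σ' : Type t'}
variable {A'' : Type u''} {B'' : Type v''} {ι'' : Type w''} {σ'' : Type t''}
variable [CommRing A] [CommRing B] [Algebra A B] [CommRing A'] [CommRing B'] [Algebra A' B']
variable [CommRing A''] [CommRing B''] [Algebra A'' B'']
variable [Algebra A A'] [Algebra B B'] [Algebra A B'] [IsScalarTower A A' B'] [IsScalarTower A B B']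
variable [Algebra A' A''] [Algebra B' B''] [Algebra A' B''] [IsScalarTower A' A'' B'']
  [IsScalarTower A' B' B'']
variable [Algebra A A''] [Algebra B B''] [Algebra A B''] [IsScalarTower A A'' B''] [IsScalarTower A B B'']
variable [IsScalarTower A A' A''] [IsScalarTower B B' B'']
variable {P : Algebra.Presentation A B ι σ} {P' : Algebra.Presentation A' B' ι' σ'}
variable {P'' : Algebra.Presentation A'' B'' ι'' σ''}
variable (h : PresHom P P') (h' : PresHom P' P'') (k : PresHom P P'')
variable (M : Type m) [AddCommGroup M] [Module B'' M] [Module B' M] [Module B M]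
  [IsScalarTower B' B'' M] [IsScalarTower B B' M] [IsScalarTower B B'' M]

/-- the composite as a morphism of extensions -/
abbrev compExt : P.toExtension.Hom P''.toExtension :=
  h'.hom.toExtensionHom.comp h.hom.toExtensionHom

lemma L0map_comp (x : L0 P) :
    h'.L0map (h.L0map x) = Algebra.Extension.CotangentSpace.map (compExt h h') x := by
  rw [PresHom.L0map_apply, PresHom.L0map_apply, Algebra.Extension.CotangentSpace.map_comp_apply]

lemma cotMap_comp (x : P.toExtension.Cotangent) :
    h'.cotMap (h.cotMap x) = Algebra.Extension.Cotangent.map (compExt h h') x := by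
  rw [PresHom.cotMap_apply, PresHom.cotMap_apply, Algebra.Extension.Cotangent.map_comp]
  rfl

theorem T0pull_tri (ψ : T0 P'' M) : k.T0pull M ψ = h.T0pull M (h'.T0pull M ψ) := by
  apply Subtype.ext
  refine LinearMap.ext fun x => ?_
  change (ψ : L0 P'' →ₗ[B''] M) (k.L0map x) = (ψ : L0 P'' →ₗ[B''] M) (h'.L0map (h.L0map x))
  rw [L0map_comp, PresHom.L0map_apply, ← sub_eq_zero, ← map_sub, ← LinearMap.sub_apply,
    Algebra.Extension.CotangentSpace.map_sub_map]
  exact T0_apply_cotangentComplex P'' M ψ _

/-- the homotopy, composed with a map out of `I''/I''²`, as a `B`-linear map -/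
def subComp (χ : P''.toExtension.Cotangent →ₗ[B''] M) : L0 P →ₗ[B] M where
  toFun x := χ ((k.hom.toExtensionHom.sub (compExt h h')) x)
  map_add' x y := by rw [map_add, map_add]
  map_smul' b x := by
    rw [map_smul, RingHom.id_apply, ← algebraMap_smul B'' b
      ((k.hom.toExtensionHom.sub (compExt h h')) x), map_smul, algebraMap_smul]

theorem T1pull_tri (x : T1 P'' M) : k.T1pull M x = h.T1pull M (h'.T1pull M x) := by
  obtain ⟨c, rfl⟩ := Submodule.Quotient.mk_surjective _ x
  rw [T1pull_mk, T1pull_mk, T1pull_mk, ← sub_eq_zero, ← Submodule.Quotient.mk_sub,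
    Submodule.Quotient.mk_eq_zero]
  have hc : (c : L1 P'' →ₗ[B''] M) ∘ₗ d2 P'' = 0 := c.2
  obtain ⟨χ, hχ⟩ := exists_factor_toCot P'' (c : L1 P'' →ₗ[B''] M) hc
  refine ⟨subComp h h' k M χ, ?_⟩
  refine LinearMap.ext fun z => ?_
  change subComp h h' k M χ (d1 P z) =
    (c : L1 P'' →ₗ[B''] M) (k.L1map z) - (c : L1 P'' →ₗ[B''] M) (h'.L1map (h.L1map z))
  rw [← hχ, LinearMap.comp_apply, LinearMap.comp_apply, PresHom.toCot_L1map, PresHom.toCot_L1map,
    PresHom.toCot_L1map, cotMap_comp, PresHom.cotMap_apply, ← map_sub, ← LinearMap.sub_apply,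
    Algebra.Extension.Cotangent.map_sub_map]
  rfl

theorem T2pull_tri (x : T2 P'' M) : k.T2pull M x = h.T2pull M (h'.T2pull M x) := by
  rw [← toGHom_T2pull, ← toGHom_T2pull, ← toGHom_T2pull, ← GHom.comp_T2pull]
  refine LinearMap.congr_fun (GHom.T2pull_eq_of_C _ _ ?_ M) x
  intro a
  change k.hom.toExtensionHom.toRingHom (algebraMap A P.toExtension.Ring a) =
    h'.hom.toExtensionHom.toRingHom (h.hom.toExtensionHom.toRingHom (algebraMap A P.toExtension.Ring a))
  rw [Algebra.Extension.Hom.toRingHom_algebraMap, Algebra.Extension.Hom.toRingHom_algebraMap,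
    Algebra.Extension.Hom.toRingHom_algebraMap, ← IsScalarTower.algebraMap_apply A A' A'']

end Tri

section Id

variable {A : Type u} {B : Type v} {ι : Type w} {σ : Type t}
variable [CommRing A] [CommRing B] [Algebra A B]
variable (P : Algebra.Presentation A B ι σ) (M : Type m) [AddCommGroup M] [Module B M]

lemma id_ringHom (r : P.toExtension.Ring) : (PresHom.id P).ringHom r = r := by
  change (Algebra.Generators.Hom.id P.toGenerators).toExtensionHom.toRingHom r = r
  rw [Algebra.Generators.Hom.toExtensionHom_id]
  rfl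

lemma id_relModMap (f : relMod P) : (PresHom.id P).relModMap f = f := by
  induction f using Finsupp.induction_linear with
  | zero => simp
  | add f g hf hg => rw [map_add, hf, hg]
  | single s r =>
    rw [PresHom.relModMap_single, id_ringHom]
    change r • Finsupp.single s (1 : P.toExtension.Ring) = _
    rw [Finsupp.smul_single, smul_eq_mul, mul_one]

lemma id_L1map (z : L1 P) : (PresHom.id P).L1map z = z := by
  induction z using TensorProduct.induction_on with
  | zero => simp
  | add x y hx hy => rw [map_add, hx, hy]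
  | tmul b f =>
    rw [PresHom.L1map_tmul, id_relModMap]
    rfl

lemma id_L0map (x : L0 P) : (PresHom.id P).L0map x = x := by
  rw [PresHom.L0map_apply]
  change Algebra.Extension.CotangentSpace.map
    (Algebra.Generators.Hom.id P.toGenerators).toExtensionHom x = x
  rw [Algebra.Generators.Hom.toExtensionHom_id, Algebra.Extension.CotangentSpace.map_id]
  rfl

theorem id_T0pull (ψ : T0 P M) : (PresHom.id P).T0pull M ψ = ψ := by
  apply Subtype.ext
  refine LinearMap.ext fun x => ?_
  change (ψ : L0 P →ₗ[B] M) ((PresHom.id P).L0map x) = _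
  rw [id_L0map]

theorem id_T1pull (x : T1 P M) : (PresHom.id P).T1pull M x = x := by
  obtain ⟨c, rfl⟩ := Submodule.Quotient.mk_surjective _ x
  rw [T1pull_mk]
  congr 1
  apply Subtype.ext
  refine LinearMap.ext fun z => ?_
  change (c : L1 P →ₗ[B] M) ((PresHom.id P).L1map z) = _
  rw [id_L1map]

theorem id_T2pull (x : T2 P M) : (PresHom.id P).T2pull M x = x := by
  rw [← toGHom_T2pull, GHom.T2pull_eq_of_C (toGHom (PresHom.id P)) (GHom.id P) ?_ M, GHom.id_T2pull]
  intro a
  exact id_ringHom P _

end Id

end Groth.Agent.LibNine29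

end
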