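import Groth.Prelude.Def_CotT2
import Mathlib.RingTheory.Polynomial.Basic
import Mathlib.Algebra.MvPolynomial.Equiv

/-!
# The middle presentation for the nine-term sequence of `A → B → C` (seat helper29)

For ring maps `A → B → C` we build a presentation `mid A B C` of `C` over `A` with variables `C ⊕ B` (so that
`R' = A[Y_c, X_b] = R[Y_c]` for `R = A[X_b]` the ring of the choice-free presentation of `B` over `A`, and
`R' → R'' = B[Y_c]` is surjective with kernel `I R'`), relations `I ⊕ I''` (`I = ker (R → B)`,
`I'' = ker (R'' → C)`), and morphisms of presentations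
`h1 : canon A B → mid A B C` (over `A = A`, `B → C`) and `h2 : mid A B C → canon B C` (over `A → B`, `C = C`).
-/

set_option autoImplicit false

universe u

open TensorProduct CotT MvPolynomial

noncomputable section

namespace Groth.Agent.LibNine29

variable (A B C : Type u) [CommRing A] [CommRing B] [CommRing C] [Algebra A B] [Algebra B C] [Algebra A C]
  [IsScalarTower A B C]

set_option linter.unusedSectionVars false

/-- generators of `C` over `A`: all elements of `C` and of `B` -/
def midGen : Algebra.Generators A C (C ⊕ B) where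
  val := Sum.elim id (algebraMap B C)
  σ' c := X (Sum.inl c)
  aeval_val_σ' c := by simp

/-- `X_b ↦ X_b` -/
def h1Hom : Algebra.Generators.Hom (canon A B).toGenerators (midGen A B C) where
  val b := X (Sum.inr b)
  aeval_val b := by
    change aeval (midGen A B C).val (X (Sum.inr b)) = algebraMap B C b
    rw [aeval_X]
    rfl

/-- `Y_c ↦ Y_c`, `X_b ↦ b` -/
def h2Hom : Algebra.Generators.Hom (midGen A B C) (canon B C).toGenerators where
  val := Sum.elim (fun c => X c) (fun b => MvPolynomial.C b)
  aeval_val i := by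
    cases i with
    | inl c =>
      change aeval (canon B C).val (X c) = (midGen A B C).val (Sum.inl c)
      rw [aeval_X]
      rfl
    | inr b =>
      change aeval (canon B C).val (MvPolynomial.C b) = (midGen A B C).val (Sum.inr b)
      rw [aeval_C]
      rfl

/-- the ring `R = A[X_b]` -/
abbrev R0 : Type u := MvPolynomial B A
/-- the ring `R' = A[Y_c, X_b]` -/
abbrev R1 : Type u := MvPolynomial (C ⊕ B) A
/-- the ring `R'' = B[Y_c]` -/
abbrev R2 : Type u := MvPolynomial C B

/-- `R → R'` -/
def τ1 : R0 A B →+* R1 A B C :=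
  (aeval (R := A) (fun b : B => (X (Sum.inr b) : MvPolynomial (C ⊕ B) A))).toRingHom

/-- `R' → R''` -/
def τ2 : R1 A B C →+* R2 B C :=
  (aeval (R := A) (Sum.elim (fun c : C => (X c : MvPolynomial C B))
    (fun b : B => (MvPolynomial.C b : MvPolynomial C B)))).toRingHom

/-- the structure map `R → B` -/
def ev0 : R0 A B →+* B := (aeval (R := A) (id : B → B)).toRingHom

lemma τ1_C (a : A) : τ1 A B C (MvPolynomial.C a) = MvPolynomial.C a := by
  change aeval _ (MvPolynomial.C a) = _
  rw [aeval_C]
  rfl

lemma τ1_X (b : B) : τ1 A B C (X b) = X (Sum.inr b) := by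
  change aeval _ (X b) = _
  rw [aeval_X]

lemma τ2_C (a : A) : τ2 A B C (MvPolynomial.C a) = MvPolynomial.C (algebraMap A B a) := by
  change aeval _ (MvPolynomial.C a) = _
  rw [aeval_C]
  rfl

lemma τ2_X_inl (c : C) : τ2 A B C (X (Sum.inl c)) = X c := by
  change aeval _ (X (Sum.inl c)) = _
  rw [aeval_X]
  rfl

lemma τ2_X_inr (b : B) : τ2 A B C (X (Sum.inr b)) = MvPolynomial.C b := by
  change aeval _ (X (Sum.inr b)) = _
  rw [aeval_X]
  rfl

lemma ev0_C (a : A) : ev0 A B (MvPolynomial.C a) = algebraMap A B a := by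
  change aeval _ (MvPolynomial.C a) = _
  rw [aeval_C]

lemma ev0_X (b : B) : ev0 A B (X b) = b := by
  change aeval _ (X b) = _
  rw [aeval_X]
  rfl

/-- `R' ≃ R[Y_c]` -/
def eR : R1 A B C ≃ₐ[A] MvPolynomial C (R0 A B) := sumAlgEquiv A C B

lemma eR_τ1 (r : R0 A B) : eR A B C (τ1 A B C r) = MvPolynomial.C r := by
  induction r using MvPolynomial.induction_on with
  | C a =>
    rw [τ1_C]
    exact sumAlgEquiv_C_inl A C B a
  | add p q hp hq => rw [map_add, map_add, hp, hq, map_add]
  | mul_X p b hp =>
    rw [map_mul, map_mul, hp, τ1_X, map_mul]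
    congr 1
    exact sumAlgEquiv_X_inr A C B b

lemma τ2_eq (x : R1 A B C) :
    τ2 A B C x = MvPolynomial.map (ev0 A B) (eR A B C x) := by
  induction x using MvPolynomial.induction_on with
  | C a =>
    rw [τ2_C]
    change _ = MvPolynomial.map (ev0 A B) (sumAlgEquiv A C B (MvPolynomial.C a))
    rw [sumAlgEquiv_C_inl, map_C, ev0_C]
  | add p q hp hq => rw [map_add, map_add, map_add, hp, hq]
  | mul_X p i hp =>
    rw [map_mul, map_mul, map_mul, hp]
    congr 1
    cases i with
    | inl c =>
      rw [τ2_X_inl]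
      change _ = MvPolynomial.map (ev0 A B) (sumAlgEquiv A C B (X (Sum.inl c)))
      rw [sumAlgEquiv_X_inl, map_X]
    | inr b =>
      rw [τ2_X_inr]
      change _ = MvPolynomial.map (ev0 A B) (sumAlgEquiv A C B (X (Sum.inr b)))
      rw [sumAlgEquiv_X_inr, map_C, ev0_X]

lemma ev0_surjective : Function.Surjective (ev0 A B) := fun b => ⟨X b, ev0_X A B b⟩

lemma τ2_surjective : Function.Surjective (τ2 A B C) := by
  intro y
  obtain ⟨p, hp⟩ := MvPolynomial.map_surjective (ev0 A B) (ev0_surjective A B) y
  refine ⟨(eR A B C).symm p, ?_⟩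
  rw [τ2_eq, AlgEquiv.apply_symm_apply, hp]

lemma τ2_τ1 (r : R0 A B) : τ2 A B C (τ1 A B C r) = MvPolynomial.C (ev0 A B r) := by
  rw [τ2_eq, eR_τ1, map_C]

lemma ker_τ2 : RingHom.ker (τ2 A B C) = Ideal.map (τ1 A B C) (RingHom.ker (ev0 A B)) := by
  have h1 : RingHom.ker (τ2 A B C) =
      Ideal.comap (eR A B C).toRingEquiv.toRingHom
        (RingHom.ker (MvPolynomial.map (σ := C) (ev0 A B))) := by
    ext x
    rw [RingHom.mem_ker, Ideal.mem_comap, RingHom.mem_ker, τ2_eq]
    rfl
  rw [h1, MvPolynomial.ker_map]
  have h2 : Ideal.map (τ1 A B C) (RingHom.ker (ev0 A B)) =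
      Ideal.comap (eR A B C).toRingEquiv.toRingHom
        (Ideal.map (MvPolynomial.C : R0 A B →+* MvPolynomial C (R0 A B))
          (RingHom.ker (ev0 A B))) := by
    have h3 : (MvPolynomial.C : R0 A B →+* MvPolynomial C (R0 A B)) =
        (eR A B C).toRingEquiv.toRingHom.comp (τ1 A B C) := by
      exact RingHom.ext fun r => (eR_τ1 A B C r).symm
    rw [h3, ← Ideal.map_map]
    change _ = Ideal.comap (eR A B C).toRingEquiv (Ideal.map (eR A B C).toRingEquiv _)
    rw [Ideal.comap_map_of_bijective _ (eR A B C).toRingEquiv.bijective]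
  rw [h2]

lemma h1Hom_toRingHom (r : (canon A B).toExtension.Ring) :
    (h1Hom A B C).toExtensionHom.toRingHom r = τ1 A B C r := rfl

lemma h2Hom_toRingHom (x : (midGen A B C).toExtension.Ring) :
    (h2Hom A B C).toExtensionHom.toRingHom x = τ2 A B C x := rfl

lemma algebraMap_canon (r : (canon A B).toExtension.Ring) :
    algebraMap (canon A B).toExtension.Ring B r = ev0 A B r :=
  (canon A B).algebraMap_apply r

lemma mem_ker_canon (r : (canon A B).toExtension.Ring) :
    r ∈ (canon A B).toExtension.ker ↔ ev0 A B r = 0 := by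
  rw [← algebraMap_canon]
  rfl

/-- compatibility of `τ1` with the structure maps -/
lemma algebraMap_τ1 (r : R0 A B) :
    algebraMap (midGen A B C).toExtension.Ring C (τ1 A B C r) = algebraMap B C (ev0 A B r) := by
  rw [← algebraMap_canon]
  exact (h1Hom A B C).toExtensionHom.algebraMap_toRingHom r

/-- compatibility of `τ2` with the structure maps -/
lemma algebraMap_τ2 (x : R1 A B C) :
    algebraMap (canon B C).toExtension.Ring C (τ2 A B C x) =
      algebraMap (midGen A B C).toExtension.Ring C x :=
  (h2Hom A B C).toExtensionHom.algebraMap_toRingHom x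

/-- a set-theoretic section of `τ2` -/
def lift2 (y : R2 B C) : R1 A B C := Function.surjInv (τ2_surjective A B C) y

lemma τ2_lift2 (y : R2 B C) : τ2 A B C (lift2 A B C y) = y :=
  Function.surjInv_eq (τ2_surjective A B C) y

/-- the relations of the middle presentation -/
def midRel : CanonRels A B ⊕ CanonRels B C → R1 A B C :=
  Sum.elim (fun s => τ1 A B C s.1) (fun s => lift2 A B C s.1)

lemma midRel_mem (s : CanonRels A B ⊕ CanonRels B C) :
    midRel A B C s ∈ (midGen A B C).ker := by
  change algebraMap (midGen A B C).toExtension.Ring C (midRel A B C s) = 0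
  cases s with
  | inl s =>
    change algebraMap (midGen A B C).toExtension.Ring C (τ1 A B C s.1) = 0
    rw [algebraMap_τ1, (mem_ker_canon A B s.1).mp s.2, map_zero]
  | inr s =>
    change algebraMap (midGen A B C).toExtension.Ring C (lift2 A B C s.1) = 0
    rw [← algebraMap_τ2, τ2_lift2]
    exact s.2

/-- the middle presentation of `C` over `A` -/
def mid : Algebra.Presentation A C (C ⊕ B) (CanonRels A B ⊕ CanonRels B C) where
  __ := midGen A B C
  relation := midRel A B C
  span_range_relation_eq_ker := by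
    refine le_antisymm (Ideal.span_le.mpr ?_) fun x hx => ?_
    · rintro _ ⟨s, rfl⟩
      exact midRel_mem A B C s
    · have hx0 : algebraMap (midGen A B C).toExtension.Ring C x = 0 := hx
      have h2 : τ2 A B C x ∈ (canon B C).toExtension.ker := by
        change algebraMap (canon B C).toExtension.Ring C (τ2 A B C x) = 0
        rw [algebraMap_τ2, hx0]
      have h3 : x - lift2 A B C (τ2 A B C x) ∈ RingHom.ker (τ2 A B C) := by
        rw [RingHom.mem_ker, map_sub, τ2_lift2, sub_self]
      rw [ker_τ2, Ideal.map] at h3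
      have h4 : Ideal.span (τ1 A B C '' (RingHom.ker (ev0 A B) : Set (R0 A B))) ≤
          Ideal.span (Set.range (midRel A B C)) := by
        refine Ideal.span_mono ?_
        rintro _ ⟨r, hr, rfl⟩
        exact ⟨Sum.inl ⟨r, (mem_ker_canon A B r).mpr hr⟩, rfl⟩
      have h5 : lift2 A B C (τ2 A B C x) ∈ Ideal.span (Set.range (midRel A B C)) :=
        Ideal.subset_span ⟨Sum.inr ⟨τ2 A B C x, h2⟩, rfl⟩
      have := Ideal.add_mem _ (h4 h3) h5
      rwa [sub_add_cancel] at this

lemma mid_rel_inl (s : CanonRels A B) : rel (mid A B C) (Sum.inl s) = τ1 A B C s.1 := rfl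

lemma mid_rel_inr (s : CanonRels B C) : rel (mid A B C) (Sum.inr s) = lift2 A B C s.1 := rfl

/-- the morphism `canon A B → mid A B C` -/
def h1 : PresHom (canon A B) (mid A B C) where
  hom := h1Hom A B C
  relVal s := Finsupp.single (Sum.inl s) 1
  jmap_relVal s := by
    rw [jmap_single, one_mul]
    rfl

/-- the morphism `mid A B C → canon B C` -/
def h2 : PresHom (mid A B C) (canon B C) where
  hom := h2Hom A B C
  relVal := Sum.elim (fun _ => 0) (fun s => Finsupp.single s 1)
  jmap_relVal s := by
    cases s with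
    | inl s =>
      change jmap (canon B C) 0 = τ2 A B C (τ1 A B C s.1)
      rw [map_zero, τ2_τ1, (mem_ker_canon A B s.1).mp s.2, map_zero]
      rfl
    | inr s =>
      change jmap (canon B C) (Finsupp.single s 1) = τ2 A B C (lift2 A B C s.1)
      rw [jmap_single, one_mul, τ2_lift2]
      rfl

lemma h1_ringHom (r : (canon A B).toExtension.Ring) : (h1 A B C).ringHom r = τ1 A B C r := rfl

lemma h2_ringHom (x : (mid A B C).toExtension.Ring) : (h2 A B C).ringHom x = τ2 A B C x := rfl

end Groth.Agent.LibNine29

end
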