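import Groth.Agent.LibNine29c

/-!
# The columns in degrees 0 and 1 of the nine-term sequence (seat helper29)

`split_inj`, `split_exact`, `split_surj`: abstract statement on free modules.  Then the maps `L0map`, `L1map`
of `h1 : canon A B → mid A B C` and `h2 : mid A B C → canon B C` are computed on bases and the abstract
statement is applied to `pull0`, `pull1`.
-/

set_option autoImplicit false

universe u m

open TensorProduct CotT MvPolynomial

noncomputable section

namespace Groth.Agent.LibNine29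

section Split

variable {B C : Type*} [CommRing B] [CommRing C] [Algebra B C]
variable {X Y Z M : Type*} [AddCommGroup X] [Module B X] [AddCommGroup Y] [Module C Y]
  [AddCommGroup Z] [Module C Z] [AddCommGroup M] [Module C M] [Module B M] [IsScalarTower B C M]
variable {ι κ : Type*} (bX : Module.Basis ι B X) (bY : Module.Basis (ι ⊕ κ) C Y)
  (bZ : Module.Basis κ C Z)
variable (f : X →ₛₗ[(algebraMap B C : B →+* C)] Y) (g : Y →ₛₗ[(algebraMap C C : C →+* C)] Z)
variable (hf : ∀ i, f (bX i) = bY (Sum.inl i)) (hg1 : ∀ i, g (bY (Sum.inl i)) = 0)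
  (hg2 : ∀ k, g (bY (Sum.inr k)) = bZ k)
variable (α : (Z →ₗ[C] M) → (Y →ₗ[C] M)) (hα : ∀ ψ y, α ψ y = ψ (g y))
variable (β : (Y →ₗ[C] M) → (X →ₗ[B] M)) (hβ : ∀ ψ x, β ψ x = ψ (f x))

include bY bZ hg2 hα in
theorem split_inj : Function.Injective α := by
  intro ψ₁ ψ₂ h
  refine bZ.ext fun k => ?_
  rw [← hg2, ← hα, ← hα, h]

include bX bY bZ hf hg1 hg2 hα hβ in
theorem split_exact (ψ' : Y →ₗ[C] M) : β ψ' = 0 ↔ ∃ ψ'', α ψ'' = ψ' := by
  constructor
  · intro h
    refine ⟨bZ.constr C (fun k => ψ' (bY (Sum.inr k))), ?_⟩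
    refine bY.ext fun j => ?_
    rw [hα]
    cases j with
    | inl i =>
      rw [hg1, map_zero, ← hf, ← hβ, h, LinearMap.zero_apply]
    | inr k =>
      rw [hg2, Module.Basis.constr_basis]
  · rintro ⟨ψ'', rfl⟩
    refine bX.ext fun i => ?_
    rw [hβ, hf, hα, hg1, map_zero, LinearMap.zero_apply]

include bX bY hf hβ in
theorem split_surj : Function.Surjective β := by
  intro ψ
  refine ⟨bY.constr C (Sum.elim (fun i => ψ (bX i)) (fun _ => 0)), ?_⟩
  refine bX.ext fun i => ?_
  rw [hβ, hf, Module.Basis.constr_basis]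
  rfl

end Split

variable (A B C : Type u) [CommRing A] [CommRing B] [CommRing C] [Algebra A B] [Algebra B C] [Algebra A C]
  [IsScalarTower A B C]

section Zero

/-- the value of `L0map` on a basis vector -/
lemma L0map_basis {A B A' B' : Type u} {ι ι' σ σ' : Type u} [CommRing A] [CommRing B] [Algebra A B]
    [CommRing A'] [CommRing B'] [Algebra A' B'] [Algebra A A'] [Algebra B B'] [Algebra A B']
    [IsScalarTower A A' B'] [IsScalarTower A B B']
    {P : Algebra.Presentation A B ι σ} {P' : Algebra.Presentation A' B' ι' σ'} (h : PresHom P P') (i : ι) :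
    h.L0map (P.cotangentSpaceBasis i) =
      (1 : B') ⊗ₜ[P'.toExtension.Ring] KaehlerDifferential.D A' P'.toExtension.Ring (h.hom.val i) := by
  rw [PresHom.L0map_apply, Algebra.Generators.cotangentSpaceBasis_apply]
  erw [Algebra.Extension.CotangentSpace.map_tmul]
  rw [map_one]
  congr 2
  exact Algebra.Generators.Hom.toAlgHom_X _ i

lemma L0map_h1 (b : B) :
    (h1 A B C).L0map ((canon A B).cotangentSpaceBasis b) = (mid A B C).cotangentSpaceBasis (Sum.inr b) := by
  rw [L0map_basis, Algebra.Generators.cotangentSpaceBasis_apply]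
  rfl

lemma L0map_h2_inl (c : C) :
    (h2 A B C).L0map ((mid A B C).cotangentSpaceBasis (Sum.inl c)) = (canon B C).cotangentSpaceBasis c := by
  rw [L0map_basis, Algebra.Generators.cotangentSpaceBasis_apply]
  rfl

lemma L0map_h2_inr (b : B) :
    (h2 A B C).L0map ((mid A B C).cotangentSpaceBasis (Sum.inr b)) = 0 := by
  rw [L0map_basis]
  have : KaehlerDifferential.D B (canon B C).toExtension.Ring ((h2 A B C).hom.val (Sum.inr b)) = 0 := by
    change KaehlerDifferential.D B (canon B C).toExtension.Ring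
      (algebraMap B (canon B C).toExtension.Ring b) = 0
    exact Derivation.map_algebraMap _ b
  rw [this, TensorProduct.tmul_zero]

end Zero

section One

lemma L1map_basis {A B A' B' : Type u} {ι ι' σ σ' : Type u} [CommRing A] [CommRing B] [Algebra A B]
    [CommRing A'] [CommRing B'] [Algebra A' B'] [Algebra A A'] [Algebra B B'] [Algebra A B']
    [IsScalarTower A A' B'] [IsScalarTower A B B']
    {P : Algebra.Presentation A B ι σ} {P' : Algebra.Presentation A' B' ι' σ'} (h : PresHom P P') (s : σ) :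
    h.L1map (L1basis P s) = (1 : B') ⊗ₜ[P'.toExtension.Ring] h.relVal s := by
  rw [L1basis_apply, PresHom.L1map_tmul, map_one, PresHom.relModMap_single, map_one, one_smul]

lemma L1map_h1 (s : CanonRels A B) :
    (h1 A B C).L1map (L1basis (canon A B) s) = L1basis (mid A B C) (Sum.inl s) := by
  rw [L1map_basis, L1basis_apply]
  rfl

lemma L1map_h2_inl (s : CanonRels A B) :
    (h2 A B C).L1map (L1basis (mid A B C) (Sum.inl s)) = 0 := by
  rw [L1map_basis]
  exact TensorProduct.tmul_zero _ _

lemma L1map_h2_inr (s : CanonRels B C) :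
    (h2 A B C).L1map (L1basis (mid A B C) (Sum.inr s)) = L1basis (canon B C) s := by
  rw [L1map_basis, L1basis_apply]
  rfl

end One

variable (M : Type m) [AddCommGroup M] [Module C M] [Module B M] [IsScalarTower B C M]

/-- the basis of `L0 (mid A B C)` with the `B`-variables first -/
def midBasis0 : Module.Basis (B ⊕ C) C (L0 (mid A B C)) :=
  (mid A B C).cotangentSpaceBasis.reindex (Equiv.sumComm C B)

lemma midBasis0_inl (b : B) : midBasis0 A B C (Sum.inl b) = (mid A B C).cotangentSpaceBasis (Sum.inr b) := by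
  rw [midBasis0, Module.Basis.reindex_apply]
  rfl

lemma midBasis0_inr (c : C) : midBasis0 A B C (Sum.inr c) = (mid A B C).cotangentSpaceBasis (Sum.inl c) := by
  rw [midBasis0, Module.Basis.reindex_apply]
  rfl

theorem pull0_h2_injective : Function.Injective ((h2 A B C).pull0 M) :=
  split_inj (midBasis0 A B C) (canon B C).cotangentSpaceBasis (h2 A B C).L0map
    (fun c => by rw [midBasis0_inr, L0map_h2_inl]) ((h2 A B C).pull0 M) (fun _ _ => rfl)

theorem pull0_exact (ψ' : L0 (mid A B C) →ₗ[C] M) :
    (h1 A B C).pull0 M ψ' = 0 ↔ ∃ ψ'', (h2 A B C).pull0 M ψ'' = ψ' :=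
  split_exact (canon A B).cotangentSpaceBasis (midBasis0 A B C) (canon B C).cotangentSpaceBasis
    (h1 A B C).L0map (h2 A B C).L0map
    (fun b => by rw [midBasis0_inl, L0map_h1])
    (fun b => by rw [midBasis0_inl, L0map_h2_inr])
    (fun c => by rw [midBasis0_inr, L0map_h2_inl])
    ((h2 A B C).pull0 M) (fun _ _ => rfl) ((h1 A B C).pull0 M) (fun _ _ => rfl) ψ'

theorem pull0_h1_surjective : Function.Surjective ((h1 A B C).pull0 M) :=
  split_surj (canon A B).cotangentSpaceBasis (midBasis0 A B C) (h1 A B C).L0map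
    (fun b => by rw [midBasis0_inl, L0map_h1]) ((h1 A B C).pull0 M) (fun _ _ => rfl)

theorem pull1_h2_injective : Function.Injective ((h2 A B C).pull1 M) :=
  split_inj (L1basis (mid A B C)) (L1basis (canon B C)) (h2 A B C).L1map
    (fun s => L1map_h2_inr A B C s) ((h2 A B C).pull1 M) (fun _ _ => rfl)

theorem pull1_exact (ψ' : L1 (mid A B C) →ₗ[C] M) :
    (h1 A B C).pull1 M ψ' = 0 ↔ ∃ ψ'', (h2 A B C).pull1 M ψ'' = ψ' :=
  split_exact (L1basis (canon A B)) (L1basis (mid A B C)) (L1basis (canon B C))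
    (h1 A B C).L1map (h2 A B C).L1map
    (fun s => L1map_h1 A B C s) (fun s => L1map_h2_inl A B C s) (fun s => L1map_h2_inr A B C s)
    ((h2 A B C).pull1 M) (fun _ _ => rfl) ((h1 A B C).pull1 M) (fun _ _ => rfl) ψ'

theorem pull1_h1_surjective : Function.Surjective ((h1 A B C).pull1 M) :=
  split_surj (L1basis (canon A B)) (L1basis (mid A B C)) (h1 A B C).L1map
    (fun s => L1map_h1 A B C s) ((h1 A B C).pull1 M) (fun _ _ => rfl)

end Groth.Agent.LibNine29

end
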