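import Groth.Agent.LibCotT29h
import Mathlib.LinearAlgebra.TensorProduct.Quotient

/-!
# `L₂ = Q/F₀` (seat helper29)

* `mem_smul_top_of_one_tmul_eq_zero`: for `R → B` surjective with kernel `I`, `1 ⊗ y = 0` in `B ⊗_R N` implies
  `y ∈ I N`;
* `mem_trivRel_of_nu_eq_zero`: the class of a relation `q ∈ Q` in `L₂` vanishes only if `q ∈ F₀`;
* `L2map_nu`; `exists_factor_of_surjective`.
-/

set_option autoImplicit false

universe u v w t u' v' w' t' m

open TensorProduct CotT

noncomputable section

namespace Groth.Agent.LibNine29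

open Groth.Agent.LibCotT29

theorem mem_smul_top_of_one_tmul_eq_zero {R B N : Type*} [CommRing R] [CommRing B] [Algebra R B]
    (hs : Function.Surjective (algebraMap R B)) [AddCommGroup N] [Module R N] (y : N)
    (h : (1 : B) ⊗ₜ[R] y = 0) : y ∈ RingHom.ker (algebraMap R B) • (⊤ : Submodule R N) := by
  let e : (R ⧸ RingHom.ker (algebraMap R B)) ≃ₐ[R] B :=
    Ideal.quotientKerAlgEquivOfSurjective (f := Algebra.ofId R B) hs
  have h1 := congrArg (LinearMap.rTensor N e.symm.toLinearMap) h
  rw [LinearMap.rTensor_tmul, map_zero] at h1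
  have h2 : e.symm.toLinearMap (1 : B) = 1 := map_one e.symm
  rw [h2] at h1
  have h3 := congrArg (TensorProduct.quotTensorEquivQuotSMul N (RingHom.ker (algebraMap R B))) h1
  rw [TensorProduct.quotTensorEquivQuotSMul_mk_one_tmul, map_zero, Submodule.Quotient.mk_eq_zero] at h3
  exact h3

section

variable {A : Type u} {B : Type v} {ι : Type w} {σ : Type t}
variable [CommRing A] [CommRing B] [Algebra A B]
variable (P : Algebra.Presentation A B ι σ)

/-- `I Q ⊆ F₀` -/
theorem smul_top_le_trivRel (q : relKer P)
    (hq : q ∈ P.toExtension.ker • (⊤ : Submodule P.toExtension.Ring (relKer P))) :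
    (q : relMod P) ∈ trivRel P := by
  induction hq using Submodule.smul_induction_on' with
  | smul x hx a _ =>
    have hx' : x ∈ LinearMap.range (jmap P) := by rw [range_jmap]; exact hx
    obtain ⟨f, rfl⟩ := hx'
    have ha : jmap P (a : relMod P) = 0 := a.2
    have : ((jmap P f • a : relKer P) : relMod P) = jmap P f • (a : relMod P) - jmap P (a : relMod P) • f := by
      rw [ha, zero_smul, sub_zero]
      rfl
    rw [this]
    exact Submodule.subset_span ⟨f, a, rfl⟩
  | add x _ y _ hx hy =>
    rw [Submodule.coe_add]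
    exact Submodule.add_mem _ hx hy

/-- the class of `q ∈ Q` in `L₂` vanishes only if `q` is a trivial relation -/
theorem mem_trivRel_of_nu_eq_zero (q : relKer P) (h : nu P q = 0) : (q : relMod P) ∈ trivRel P := by
  rw [nu_apply, Submodule.Quotient.mk_eq_zero] at h
  obtain ⟨w, hw⟩ := h
  obtain ⟨t, rfl⟩ := TensorProduct.mk_surjective P.toExtension.Ring (trivRelKer P) B
    P.toExtension.algebraMap_surjective w
  rw [TensorProduct.mk_apply, LinearMap.baseChange_tmul] at hw
  have h1 : (1 : B) ⊗ₜ[P.toExtension.Ring] (q - (t : relKer P)) = 0 := by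
    have := (TensorProduct.tmul_sub (R := P.toExtension.Ring) (1 : B) q (t : relKer P))
    rw [this, ← hw]
    exact sub_self _
  have h2 := mem_smul_top_of_one_tmul_eq_zero (N := relKer P) P.toExtension.algebraMap_surjective _ h1
  have h3 := smul_top_le_trivRel P _ h2
  have h4 : ((t : relKer P) : relMod P) ∈ trivRel P := t.2
  have := Submodule.add_mem _ h3 h4
  rwa [Submodule.coe_sub, sub_add_cancel] at this

theorem nu_eq_zero_iff (q : relKer P) : nu P q = 0 ↔ (q : relMod P) ∈ trivRel P :=
  ⟨mem_trivRel_of_nu_eq_zero P q, nu_eq_zero_of_mem P q⟩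

/-- `ν` only depends on the class modulo trivial relations -/
theorem nu_eq_of_sub_mem (q q' : relKer P) (h : (q : relMod P) - (q' : relMod P) ∈ trivRel P) :
    nu P q = nu P q' := by
  rw [← sub_eq_zero, ← map_sub]
  exact nu_eq_zero_of_mem P _ h

/-- the action of `R` on `L₂` factors through `B` -/
theorem smul_nu (r : P.toExtension.Ring) (q : relKer P) :
    nu P (r • q) = algebraMap P.toExtension.Ring B r • nu P q := by
  rw [nu_apply, nu_apply, TensorProduct.tmul_smul, TensorProduct.smul_tmul', ← Submodule.Quotient.mk_smul,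
    Algebra.smul_def, mul_one, TensorProduct.smul_tmul', smul_eq_mul, mul_one]

end

section

variable {A : Type u} {B : Type v} {ι : Type w} {σ : Type t}
variable {A' : Type u'} {B' : Type v'} {ι' : Type w'} {σ' : Type t'}
variable [CommRing A] [CommRing B] [Algebra A B] [CommRing A'] [CommRing B'] [Algebra A' B']
variable [Algebra A A'] [Algebra B B'] [Algebra A B'] [IsScalarTower A A' B'] [IsScalarTower A B B']
variable {P : Algebra.Presentation A B ι σ} {P' : Algebra.Presentation A' B' ι' σ'}

theorem L2map_nu (h : PresHom P P') (q : relKer P) : h.L2map (nu P q) = nu P' (h.relKerMap q) := by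
  rw [nu_apply, nu_apply, PresHom.L2map_mk_tmul, map_one]

end

theorem exists_factor_of_surjective {C X Y M : Type*} [CommRing C] [AddCommGroup X] [Module C X]
    [AddCommGroup Y] [Module C Y] [AddCommGroup M] [Module C M] (l : X →ₗ[C] Y)
    (hs : Function.Surjective l) (φ : X →ₗ[C] M) (hk : LinearMap.ker l ≤ LinearMap.ker φ) :
    ∃ ψ : Y →ₗ[C] M, ψ ∘ₗ l = φ := by
  let e := LinearMap.quotKerEquivOfSurjective l hs
  refine ⟨(Submodule.liftQ _ φ hk) ∘ₗ e.symm.toLinearMap, ?_⟩
  ext z
  have : e.symm (l z) = Submodule.Quotient.mk z := by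
    rw [LinearEquiv.symm_apply_eq]
    rfl
  simp only [LinearMap.coe_comp, LinearEquiv.coe_coe, Function.comp_apply]
  rw [this, Submodule.liftQ_apply]

end Groth.Agent.LibNine29

end
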