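import Groth.Agent.LibNine29c
import Groth.Agent.LibNine29e

/-!
# The column in degree 2 of the nine-term sequence (seat helper29)

For the presentations `canon A B`, `mid A B C`, `canon B C` and the morphisms `h1`, `h2` of `LibNine29c`:
`L2map h2` is surjective (`L2map_h2_surjective`) and its kernel is the `C`-span of the image of `L2map h1`
(`ker_L2map_h2`).  The second statement uses that `R' = R[Y_c]` is a free `R`-module.
-/

set_option autoImplicit false
set_option linter.unusedSectionVars false

universe u m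

open TensorProduct CotT MvPolynomial

noncomputable section

namespace Groth.Agent.LibNine29

open Groth.Agent.LibCotT29

variable (A B C : Type u) [CommRing A] [CommRing B] [CommRing C] [Algebra A B] [Algebra B C] [Algebra A C]
  [IsScalarTower A B C]

/-- the ring of the middle presentation -/
abbrev Rm : Type u := (mid A B C).toExtension.Ring
/-- the ring of `canon A B` -/
abbrev Ra : Type u := (canon A B).toExtension.Ring
/-- the ring of `canon B C` -/
abbrev Rc : Type u := (canon B C).toExtension.Ring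

/-- `R → R'` -/
def t1 : Ra A B →+* Rm A B C := (h1 A B C).ringHom
/-- `R' → R''` -/
def t2 : Rm A B C →+* Rc B C := (h2 A B C).ringHom

lemma t1_eq (r : Ra A B) : t1 A B C r = τ1 A B C r := rfl
lemma t2_eq (x : Rm A B C) : t2 A B C x = τ2 A B C x := rfl

lemma t2_surjective : Function.Surjective (t2 A B C) := τ2_surjective A B C

lemma t2_t1 (r : Ra A B) (hr : r ∈ (canon A B).toExtension.ker) : t2 A B C (t1 A B C r) = 0 := by
  change τ2 A B C (τ1 A B C r) = 0
  rw [τ2_τ1, (mem_ker_canon A B r).mp hr, map_zero]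

/-- relations of the middle presentation supported on the first summand -/
def inlF : (CanonRels A B →₀ Rm A B C) →ₗ[Rm A B C] relMod (mid A B C) :=
  Finsupp.lmapDomain (Rm A B C) (Rm A B C) Sum.inl

/-- relations of the middle presentation supported on the second summand -/
def inrF : (CanonRels B C →₀ Rm A B C) →ₗ[Rm A B C] relMod (mid A B C) :=
  Finsupp.lmapDomain (Rm A B C) (Rm A B C) Sum.inr

lemma inlF_single (s : CanonRels A B) (r : Rm A B C) :
    inlF A B C (Finsupp.single s r) = Finsupp.single (Sum.inl s) r := by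
  rw [inlF, Finsupp.lmapDomain_apply, Finsupp.mapDomain_single]

lemma inrF_single (s : CanonRels B C) (r : Rm A B C) :
    inrF A B C (Finsupp.single s r) = Finsupp.single (Sum.inr s) r := by
  rw [inrF, Finsupp.lmapDomain_apply, Finsupp.mapDomain_single]

/-- every relation of the middle presentation decomposes -/
lemma exists_decomp (f : relMod (mid A B C)) : ∃ a b, f = inlF A B C a + inrF A B C b := by
  induction f using Finsupp.induction_linear with
  | zero => exact ⟨0, 0, by rw [map_zero, map_zero, add_zero]⟩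
  | add f g hf hg =>
    obtain ⟨a, b, rfl⟩ := hf
    obtain ⟨a', b', rfl⟩ := hg
    exact ⟨a + a', b + b', by rw [map_add, map_add]; abel⟩
  | single x r =>
    cases x with
    | inl s => exact ⟨Finsupp.single s r, 0, by rw [inlF_single, map_zero, add_zero]⟩
    | inr s => exact ⟨0, Finsupp.single s r, by rw [inrF_single, map_zero, zero_add]⟩

lemma g1_single (s : CanonRels A B) (r : Ra A B) :
    (h1 A B C).relModMap (Finsupp.single s r) = Finsupp.single (Sum.inl s) (t1 A B C r) := by
  rw [PresHom.relModMap_single]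
  change t1 A B C r • Finsupp.single (Sum.inl s) (1 : Rm A B C) = _
  rw [Finsupp.smul_single, smul_eq_mul, mul_one]

lemma g2_inlF (a : CanonRels A B →₀ Rm A B C) : (h2 A B C).relModMap (inlF A B C a) = 0 := by
  induction a using Finsupp.induction_linear with
  | zero => rw [map_zero, map_zero]
  | add f g hf hg => rw [map_add, map_add, hf, hg, add_zero]
  | single s r =>
    rw [inlF_single, PresHom.relModMap_single]
    exact smul_zero _

lemma g2_inrF_single (s : CanonRels B C) (r : Rm A B C) :
    (h2 A B C).relModMap (inrF A B C (Finsupp.single s r)) = Finsupp.single s (t2 A B C r) := by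
  rw [inrF_single, PresHom.relModMap_single]
  change t2 A B C r • Finsupp.single s (1 : Rc B C) = _
  rw [Finsupp.smul_single, smul_eq_mul, mul_one]

lemma g2_inrF_apply (b : CanonRels B C →₀ Rm A B C) (s : CanonRels B C) :
    (h2 A B C).relModMap (inrF A B C b) s = t2 A B C (b s) := by
  classical
  induction b using Finsupp.induction_linear with
  | zero => rw [map_zero, map_zero, Finsupp.zero_apply, Finsupp.zero_apply, map_zero]
  | add f g hf hg => rw [map_add, map_add, Finsupp.add_apply, hf, hg, Finsupp.add_apply, map_add]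
  | single s₀ r =>
    rw [g2_inrF_single, Finsupp.single_apply, Finsupp.single_apply]
    split_ifs
    · rfl
    · rw [map_zero]

lemma jmap_inlF_single (s : CanonRels A B) (r : Rm A B C) :
    jmap (mid A B C) (inlF A B C (Finsupp.single s r)) = r * t1 A B C s.1 := by
  rw [inlF_single, jmap_single]
  rfl

/-- (S1) -/
lemma exists_inrF_g2 (f : relMod (canon B C)) : ∃ b, (h2 A B C).relModMap (inrF A B C b) = f := by
  induction f using Finsupp.induction_linear with
  | zero => exact ⟨0, by rw [map_zero, map_zero]⟩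
  | add f g hf hg =>
    obtain ⟨b, rfl⟩ := hf
    obtain ⟨b', rfl⟩ := hg
    exact ⟨b + b', by rw [map_add, map_add]⟩
  | single s r =>
    obtain ⟨r', hr'⟩ := t2_surjective A B C r
    exact ⟨Finsupp.single s r', by rw [g2_inrF_single, hr']⟩

/-- (S2) -/
lemma exists_jmap_inlF (x : Rm A B C) (hx : t2 A B C x = 0) : ∃ a, jmap (mid A B C) (inlF A B C a) = x := by
  have hx' : x ∈ RingHom.ker (τ2 A B C) := hx
  rw [ker_τ2, Ideal.map] at hx'
  clear hx
  induction hx' using Submodule.span_induction with
  | mem y hy =>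
    obtain ⟨r, hr, rfl⟩ := hy
    refine ⟨Finsupp.single ⟨r, (mem_ker_canon A B r).mpr hr⟩ 1, ?_⟩
    rw [jmap_inlF_single, one_mul]
    rfl
  | zero => exact ⟨0, by rw [map_zero, map_zero]; rfl⟩
  | add y z _ _ hy hz =>
    obtain ⟨a, ha⟩ := hy
    obtain ⟨a', ha'⟩ := hz
    exact ⟨a + a', by rw [map_add, map_add, ha, ha']; rfl⟩
  | smul r y _ hy =>
    obtain ⟨a, ha⟩ := hy
    have key : ∀ r' : Rm A B C, ∃ a', jmap (mid A B C) (inlF A B C a') = r' * y := fun r' =>
      ⟨r' • a, by rw [map_smul, map_smul, ha]; rfl⟩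
    exact key r

/-- (S3) every relation of `canon B C` lifts to a relation of the middle presentation -/
theorem exists_relKerMap_h2 (q : relKer (canon B C)) : ∃ q' : relKer (mid A B C), (h2 A B C).relKerMap q' = q := by
  obtain ⟨b, hb⟩ := exists_inrF_g2 A B C (q : relMod (canon B C))
  have h0 : t2 A B C (jmap (mid A B C) (inrF A B C b)) = 0 := by
    change (h2 A B C).ringHom _ = 0
    rw [← PresHom.jmap_relModMap, hb]
    exact q.2
  obtain ⟨a, ha⟩ := exists_jmap_inlF A B C _ h0
  have hq' : inrF A B C b - inlF A B C a ∈ relKer (mid A B C) := by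
    rw [relKer, LinearMap.mem_ker, map_sub, ha, sub_self]
  refine ⟨⟨_, hq'⟩, ?_⟩
  apply Subtype.ext
  rw [PresHom.relKerMap_coe]
  change (h2 A B C).relModMap (inrF A B C b - inlF A B C a) = _
  rw [map_sub, g2_inlF, sub_zero, hb]

theorem L2map_h2_surjective : Function.Surjective (h2 A B C).L2map := by
  intro z
  obtain ⟨q, rfl⟩ := exists_nu_eq (canon B C) z
  obtain ⟨q', rfl⟩ := exists_relKerMap_h2 A B C q
  exact ⟨nu (mid A B C) q', L2map_nu _ _⟩

/-- (S4) trivial relations lift to trivial relations -/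
lemma exists_inrF_trivRel (t : relMod (canon B C)) (ht : t ∈ trivRel (canon B C)) :
    ∃ b, inrF A B C b ∈ trivRel (mid A B C) ∧ (h2 A B C).relModMap (inrF A B C b) = t := by
  induction ht using Submodule.span_induction with
  | mem x hx =>
    obtain ⟨a, a', rfl⟩ := hx
    obtain ⟨b, rfl⟩ := exists_inrF_g2 A B C a
    obtain ⟨b', rfl⟩ := exists_inrF_g2 A B C a'
    refine ⟨jmap (mid A B C) (inrF A B C b) • b' - jmap (mid A B C) (inrF A B C b') • b, ?_, ?_⟩
    · rw [map_sub, map_smul, map_smul]
      exact Submodule.subset_span ⟨_, _, rfl⟩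
    · rw [map_sub, map_smul, map_smul, map_sub, LinearMap.map_smulₛₗ, LinearMap.map_smulₛₗ,
        PresHom.jmap_relModMap, PresHom.jmap_relModMap]
  | zero => exact ⟨0, by rw [map_zero]; exact Submodule.zero_mem _, by rw [map_zero, map_zero]⟩
  | add x y _ _ hx hy =>
    obtain ⟨b, hb1, hb2⟩ := hx
    obtain ⟨b', hb1', hb2'⟩ := hy
    exact ⟨b + b', by rw [map_add]; exact Submodule.add_mem _ hb1 hb1', by rw [map_add, map_add, hb2, hb2']⟩
  | smul r x _ hx =>
    obtain ⟨b, hb1, hb2⟩ := hx
    obtain ⟨r', hr'⟩ := t2_surjective A B C r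
    refine ⟨r' • b, by rw [map_smul]; exact Submodule.smul_mem _ _ hb1, ?_⟩
    rw [map_smul, LinearMap.map_smulₛₗ, hb2]
    change t2 A B C r' • x = _
    rw [hr']

/-- (S5) -/
lemma exists_inlF_sub_mem (b : CanonRels B C →₀ Rm A B C) (hb : ∀ s, t2 A B C (b s) = 0) :
    ∃ a, inrF A B C b - inlF A B C a ∈ trivRel (mid A B C) := by
  induction b using Finsupp.induction with
  | zero => exact ⟨0, by rw [map_zero, map_zero, sub_zero]; exact Submodule.zero_mem _⟩
  | single_add s r f hs _ ih =>
    have hs' : f s = 0 := Finsupp.notMem_support_iff.mp hs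
    have h1 : t2 A B C r = 0 := by
      have := hb s
      rwa [Finsupp.add_apply, Finsupp.single_eq_same, hs', add_zero] at this
    have h2 : ∀ s', t2 A B C (f s') = 0 := by
      intro s'
      by_cases hss : s' = s
      · rw [hss, hs', map_zero]
      · have := hb s'
        rwa [Finsupp.add_apply, Finsupp.single_eq_of_ne hss, zero_add] at this
    obtain ⟨a, ha⟩ := ih h2
    obtain ⟨a₀, ha₀⟩ := exists_jmap_inlF A B C r h1
    refine ⟨jmap (mid A B C) (Finsupp.single (Sum.inr s) (1 : Rm A B C)) • a₀ + a, ?_⟩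
    have h3 : inrF A B C (Finsupp.single s r + f) -
        inlF A B C (jmap (mid A B C) (Finsupp.single (Sum.inr s) (1 : Rm A B C)) • a₀ + a) =
        (jmap (mid A B C) (inlF A B C a₀) • Finsupp.single (Sum.inr s) (1 : Rm A B C) -
          jmap (mid A B C) (Finsupp.single (Sum.inr s) (1 : Rm A B C)) • inlF A B C a₀) +
        (inrF A B C f - inlF A B C a) := by
      rw [map_add, map_add, map_smul, inrF_single, ha₀, Finsupp.smul_single, smul_eq_mul, mul_one]
      abel
    rw [h3]
    exact Submodule.add_mem _ (Submodule.subset_span ⟨_, _, rfl⟩) ha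

section Plain

/-- (P1) -/
lemma coeff_eR_mul_τ1 (m : C →₀ ℕ) (p : R1 A B C) (r : R0 A B) :
    MvPolynomial.coeff m (eR A B C (p * τ1 A B C r)) = MvPolynomial.coeff m (eR A B C p) * r := by
  rw [map_mul, eR_τ1, mul_comm, MvPolynomial.coeff_C_mul, mul_comm]

/-- (P2) -/
lemma sum_monomial_τ1_coeff (p : R1 A B C) (T : Finset (C →₀ ℕ)) (hT : (eR A B C p).support ⊆ T) :
    ∑ m ∈ T, (eR A B C).symm (MvPolynomial.monomial m 1) * τ1 A B C (MvPolynomial.coeff m (eR A B C p)) =
      p := by
  apply (eR A B C).injective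
  rw [map_sum]
  have h1 : ∀ m ∈ T, eR A B C ((eR A B C).symm (MvPolynomial.monomial m 1) *
      τ1 A B C (MvPolynomial.coeff m (eR A B C p))) =
      MvPolynomial.monomial m (MvPolynomial.coeff m (eR A B C p)) := by
    intro m _
    rw [map_mul, AlgEquiv.apply_symm_apply, eR_τ1, mul_comm, MvPolynomial.C_mul_monomial, mul_one]
  rw [Finset.sum_congr rfl h1, ← Finset.sum_subset hT, MvPolynomial.support_sum_monomial_coeff]
  intro m _ hm
  rw [MvPolynomial.notMem_support_iff.mp hm, map_zero]

end Plain

/-- the monomial `Y^m` in `R'` -/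
def Ym (m : C →₀ ℕ) : Rm A B C := (eR A B C).symm (MvPolynomial.monomial m 1)

/-- the coefficient of `Y^m` of an element of `R' = R[Y]` -/
def kap (m : C →₀ ℕ) : Rm A B C →+ Ra A B :=
  (MvPolynomial.coeffAddMonoidHom m).comp
    (AddMonoidHomClass.toAddMonoidHom (eR A B C) : R1 A B C →+ MvPolynomial C (R0 A B))

lemma kap_apply (m : C →₀ ℕ) (p : Rm A B C) : kap A B C m p = MvPolynomial.coeff m (eR A B C p) := rfl

lemma kap_mul_t1 (m : C →₀ ℕ) (p : Rm A B C) (r : Ra A B) :
    kap A B C m (p * t1 A B C r) = kap A B C m p * r :=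
  coeff_eR_mul_τ1 A B C m p r

lemma sum_Ym_mul (p : Rm A B C) (T : Finset (C →₀ ℕ)) (hT : (eR A B C p).support ⊆ T) :
    ∑ m ∈ T, Ym A B C m * t1 A B C (kap A B C m p) = p :=
  sum_monomial_τ1_coeff A B C p T hT

/-- coefficientwise `Y^m`-coefficient -/
def cf (m : C →₀ ℕ) : (CanonRels A B →₀ Rm A B C) →+ (CanonRels A B →₀ Ra A B) :=
  Finsupp.mapRange.addMonoidHom (kap A B C m)

lemma cf_single (m : C →₀ ℕ) (s : CanonRels A B) (r : Rm A B C) :
    cf A B C m (Finsupp.single s r) = Finsupp.single s (kap A B C m r) :=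
  Finsupp.mapRange_single (hf := (kap A B C m).map_zero)

/-- (i) -/
lemma jmap_cf (m : C →₀ ℕ) (a : CanonRels A B →₀ Rm A B C) :
    jmap (canon A B) (cf A B C m a) = kap A B C m (jmap (mid A B C) (inlF A B C a)) := by
  induction a using Finsupp.induction_linear with
  | zero => rw [map_zero, map_zero, map_zero, map_zero, map_zero]
  | add f g hf hg => rw [map_add, map_add, hf, hg, map_add, map_add, map_add]
  | single s r =>
    rw [cf_single, jmap_single, jmap_inlF_single, kap_mul_t1]
    rfl

/-- (ii) -/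
lemma exists_finset_inlF_eq (a : CanonRels A B →₀ Rm A B C) :
    ∃ T₀ : Finset (C →₀ ℕ), ∀ T, T₀ ⊆ T →
      inlF A B C a = ∑ m ∈ T, Ym A B C m • (h1 A B C).relModMap (cf A B C m a) := by
  induction a using Finsupp.induction_linear with
  | zero =>
    refine ⟨∅, fun T _ => ?_⟩
    rw [map_zero]
    symm
    apply Finset.sum_eq_zero
    intro m _
    rw [map_zero, map_zero, smul_zero]
  | add f g hf hg =>
    classical
    obtain ⟨T₁, h1⟩ := hf
    obtain ⟨T₂, h2⟩ := hg
    refine ⟨T₁ ∪ T₂, fun T hT => ?_⟩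
    rw [map_add, h1 T (Finset.subset_union_left.trans hT),
      h2 T (Finset.subset_union_right.trans hT), ← Finset.sum_add_distrib]
    refine Finset.sum_congr rfl fun m _ => ?_
    rw [map_add, map_add, smul_add]
  | single s r =>
    refine ⟨(eR A B C r).support, fun T hT => ?_⟩
    have h1 : ∀ m ∈ T, Ym A B C m • (h1 A B C).relModMap (cf A B C m (Finsupp.single s r)) =
        Finsupp.single (Sum.inl s) (Ym A B C m * t1 A B C (kap A B C m r)) := by
      intro m _
      rw [cf_single, g1_single, Finsupp.smul_single, smul_eq_mul]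
    rw [Finset.sum_congr rfl h1, ← Finsupp.single_finsetSum, sum_Ym_mul A B C r T hT, inlF_single]

/-- (S6) relations supported on the first summand come from relations of `canon A B` -/
theorem nu_inlF_mem_span (a : CanonRels A B →₀ Rm A B C) (ha : jmap (mid A B C) (inlF A B C a) = 0) :
    nu (mid A B C) ⟨inlF A B C a, ha⟩ ∈ Submodule.span C (Set.range (h1 A B C).L2map) := by
  obtain ⟨T, hT⟩ := exists_finset_inlF_eq A B C a
  have hq : ∀ m, cf A B C m a ∈ relKer (canon A B) := fun m => by
    rw [relKer, LinearMap.mem_ker, jmap_cf, ha, map_zero]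
  have h1 : (⟨inlF A B C a, ha⟩ : relKer (mid A B C)) =
      ∑ m ∈ T, Ym A B C m • (h1 A B C).relKerMap ⟨cf A B C m a, hq m⟩ := by
    apply Subtype.ext
    rw [Submodule.coe_sum]
    exact hT T (Finset.Subset.refl _)
  rw [h1, map_sum]
  refine Submodule.sum_mem _ fun m _ => ?_
  rw [smul_nu, ← L2map_nu]
  exact Submodule.smul_mem _ _ (Submodule.subset_span ⟨_, rfl⟩)

lemma g2_g1 (f : relMod (canon A B)) : (h2 A B C).relModMap ((h1 A B C).relModMap f) = 0 := by
  induction f using Finsupp.induction_linear with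
  | zero => rw [map_zero, map_zero]
  | add f g hf hg => rw [map_add, map_add, hf, hg, add_zero]
  | single s r => rw [g1_single, ← inlF_single, g2_inlF]

/-- the kernel of `L2map h2` is spanned by the image of `L2map h1` -/
theorem ker_L2map_h2 (z : L2 (mid A B C)) (hz : (h2 A B C).L2map z = 0) :
    z ∈ Submodule.span C (Set.range (h1 A B C).L2map) := by
  obtain ⟨q, rfl⟩ := exists_nu_eq (mid A B C) z
  rw [L2map_nu] at hz
  have h1 := mem_trivRel_of_nu_eq_zero (canon B C) _ hz
  rw [PresHom.relKerMap_coe] at h1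
  obtain ⟨a, b, hab⟩ := exists_decomp A B C (q : relMod (mid A B C))
  rw [hab, map_add, g2_inlF, zero_add] at h1
  obtain ⟨b₀, hb₀1, hb₀2⟩ := exists_inrF_trivRel A B C _ h1
  have h3 : ∀ s, t2 A B C ((b - b₀) s) = 0 := by
    intro s
    rw [← g2_inrF_apply, map_sub, map_sub, hb₀2, sub_self, Finsupp.zero_apply]
  obtain ⟨a₁, ha₁⟩ := exists_inlF_sub_mem A B C (b - b₀) h3
  have h4 : (q : relMod (mid A B C)) - inlF A B C (a + a₁) ∈ trivRel (mid A B C) := by
    have : (q : relMod (mid A B C)) - inlF A B C (a + a₁) =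
        inrF A B C b₀ + (inrF A B C (b - b₀) - inlF A B C a₁) := by
      rw [hab, map_add, map_sub]
      abel
    rw [this]
    exact Submodule.add_mem _ hb₀1 ha₁
  have h5 : jmap (mid A B C) (inlF A B C (a + a₁)) = 0 := by
    have h6 : jmap (mid A B C) ((q : relMod (mid A B C)) - inlF A B C (a + a₁)) = 0 :=
      trivRel_le_relKer (mid A B C) h4
    have h7 : jmap (mid A B C) (q : relMod (mid A B C)) = 0 := q.2
    rw [map_sub, h7, zero_sub, neg_eq_zero] at h6
    exact h6
  rw [nu_eq_of_sub_mem (mid A B C) q ⟨inlF A B C (a + a₁), h5⟩ h4]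
  exact nu_inlF_mem_span A B C _ h5

section Pull2

variable (M : Type m) [AddCommGroup M] [Module C M] [Module B M] [IsScalarTower B C M]

theorem pull2_h2_injective : Function.Injective ((h2 A B C).pull2 M) := by
  intro φ φ' h
  refine LinearMap.ext fun z => ?_
  obtain ⟨z', rfl⟩ := L2map_h2_surjective A B C z
  exact LinearMap.congr_fun h z'

theorem pull2_comp (φ'' : L2 (canon B C) →ₗ[C] M) :
    (h1 A B C).pull2 M ((h2 A B C).pull2 M φ'') = 0 := by
  refine LinearMap.ext fun z => ?_
  change φ'' ((h2 A B C).L2map ((h1 A B C).L2map z)) = 0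
  obtain ⟨q, rfl⟩ := exists_nu_eq (canon A B) z
  rw [L2map_nu, L2map_nu]
  have : (h2 A B C).relKerMap ((h1 A B C).relKerMap q) = 0 := by
    apply Subtype.ext
    rw [PresHom.relKerMap_coe, PresHom.relKerMap_coe]
    exact g2_g1 A B C _
  rw [this, map_zero, map_zero]

theorem pull2_exact (φ' : L2 (mid A B C) →ₗ[C] M) :
    (h1 A B C).pull2 M φ' = 0 ↔ ∃ φ'', (h2 A B C).pull2 M φ'' = φ' := by
  constructor
  · intro h
    let l : L2 (mid A B C) →ₗ[C] L2 (canon B C) :=
      PresHom.linOfSemilinear (L2 (canon B C)) (h2 A B C).L2map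
    have key : ∀ x ∈ Submodule.span C (Set.range (h1 A B C).L2map), φ' x = 0 := by
      intro x hmem
      induction hmem using Submodule.span_induction with
      | mem x hx =>
        obtain ⟨y, rfl⟩ := hx
        exact LinearMap.congr_fun h y
      | zero => exact map_zero _
      | add x y _ _ hx hy => rw [map_add, hx, hy, add_zero]
      | smul c x _ hx => rw [map_smul, hx, smul_zero]
    have hk : LinearMap.ker l ≤ LinearMap.ker φ' := by
      intro z hz
      have hz' : (h2 A B C).L2map z = 0 := hz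
      rw [LinearMap.mem_ker]
      exact key z (ker_L2map_h2 A B C z hz')
    obtain ⟨ψ, hψ⟩ := exists_factor_of_surjective l (L2map_h2_surjective A B C) φ' hk
    exact ⟨ψ, LinearMap.ext fun z => LinearMap.congr_fun hψ z⟩
  · rintro ⟨φ'', rfl⟩
    exact pull2_comp A B C M φ''

end Pull2

end Groth.Agent.LibNine29

end
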