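import Groth.Agent.LibNine29a
import Groth.Agent.LibNine29b
import Groth.Agent.LibNine29d
import Groth.Agent.LibNine29f

/-!
# The nine-term sequence of the cotangent functors for `A → B → C` (seat helper29)

* `cxOf`, `cxHomOf`: the cochain complex `Hom(L•(P), M)` as a `Cx`, and the morphism induced by a morphism of
  presentations;
* `nine_term_mid`: the nine-term sequence for `canon A B → mid A B C → canon B C`;
* `exists_presHom`, `T0pull_bijective` etc.: comparison maps between two presentations of the same algebra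
  are bijective;
* `nine_term_canon`: the nine-term sequence for the choice-free presentations.
-/

set_option autoImplicit false

universe u v w t u' v' w' t' m

open TensorProduct CotT

noncomputable section

namespace Groth.Agent.LibNine29

section CxOf

variable {A : Type u} {B : Type v} {ι : Type w} {σ : Type t}
variable [CommRing A] [CommRing B] [Algebra A B]
variable (P : Algebra.Presentation A B ι σ) (M : Type m) [AddCommGroup M] [Module B M]

/-- the cochain complex `Hom(L•(P), M)` with its cohomology `T⁰, T¹, T²` -/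
def cxOf : Cx (L0 P →ₗ[B] M) (L1 P →ₗ[B] M) (L2 P →ₗ[B] M) (cocycles1 P M) (T0 P M) (T1 P M) (T2 P M) where
  d0 := (d1Star P M).toAddMonoidHom
  d1 := (d2Star P M).toAddMonoidHom
  dd x := LinearMap.congr_fun (d2Star_comp_d1Star P M) x
  i0 := (LinearMap.ker (d1Star P M)).subtype.toAddMonoidHom
  i0_inj := Subtype.val_injective
  d0_i0 t := t.2
  ex_i0 x hx := ⟨⟨x, hx⟩, rfl⟩
  j1 := (cocycles1 P M).subtype.toAddMonoidHom
  j1_inj := Subtype.val_injective
  d1_j1 z := z.2
  ex_j1 x hx := ⟨⟨x, hx⟩, rfl⟩
  p1 := (coboundaries1 P M).mkQ.toAddMonoidHom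
  p1_surj := Submodule.mkQ_surjective _
  p1_eq_zero z := by
    change Submodule.Quotient.mk z = 0 ↔ _
    rw [Submodule.Quotient.mk_eq_zero]
    rfl
  p2 := (LinearMap.range (d2Star P M)).mkQ.toAddMonoidHom
  p2_surj := Submodule.mkQ_surjective _
  p2_eq_zero x := by
    change Submodule.Quotient.mk x = 0 ↔ _
    rw [Submodule.Quotient.mk_eq_zero]
    rfl

end CxOf

section CxHomOf

variable {A : Type u} {B : Type v} {ι : Type w} {σ : Type t}
variable {A' : Type u'} {B' : Type v'} {ι' : Type w'} {σ' : Type t'}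
variable [CommRing A] [CommRing B] [Algebra A B] [CommRing A'] [CommRing B'] [Algebra A' B']
variable [Algebra A A'] [Algebra B B'] [Algebra A B'] [IsScalarTower A A' B'] [IsScalarTower A B B']
variable {P : Algebra.Presentation A B ι σ} {P' : Algebra.Presentation A' B' ι' σ'}
variable (h : PresHom P P')
variable (M' : Type m) [AddCommGroup M'] [Module B' M'] [Module B M'] [IsScalarTower B B' M']

/-- the morphism of complexes induced by a morphism of presentations -/
def cxHomOf : CxHom (cxOf P' M') (cxOf P M') where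
  f0 := (h.pull0 M').toAddMonoidHom
  f1 := (h.pull1 M').toAddMonoidHom
  f2 := (h.pull2 M').toAddMonoidHom
  fz := (h.cocycles1Pull M').toAddMonoidHom
  t0 := (h.T0pull M').toAddMonoidHom
  t1 := (h.T1pull M').toAddMonoidHom
  t2 := (h.T2pull M').toAddMonoidHom
  comm0 x := h.pull1_d1Star M' x
  comm1 x := h.pull2_d2Star M' x
  hz _ := rfl
  h0 _ := rfl
  h1 _ := rfl
  h2 _ := rfl

end CxHomOf

section Mid

variable (A B C : Type u) [CommRing A] [CommRing B] [CommRing C] [Algebra A B] [Algebra B C] [Algebra A C]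
  [IsScalarTower A B C]
variable (M : Type m) [AddCommGroup M] [Module C M] [Module B M] [IsScalarTower B C M]

/-- the nine-term sequence for the presentations `canon A B`, `mid A B C`, `canon B C` -/
theorem nine_term_mid :
    Function.Injective ((h2 A B C).T0pull M) ∧
    Function.Exact ((h2 A B C).T0pull M) ((h1 A B C).T0pull M) ∧
    Function.Exact ((h2 A B C).T1pull M) ((h1 A B C).T1pull M) ∧
    Function.Exact ((h2 A B C).T2pull M) ((h1 A B C).T2pull M) ∧
    ∃ (δ₀ : T0 (canon A B) M →+ T1 (canon B C) M) (δ₁ : T1 (canon A B) M →+ T2 (canon B C) M),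
      Function.Exact ((h1 A B C).T0pull M) δ₀ ∧ Function.Exact δ₀ ((h2 A B C).T1pull M) ∧
      Function.Exact ((h1 A B C).T1pull M) δ₁ ∧ Function.Exact δ₁ ((h2 A B C).T2pull M) :=
  nine_term (cxHomOf (h2 A B C) M) (cxHomOf (h1 A B C) M)
    (pull0_h2_injective A B C M) (pull1_h2_injective A B C M) (pull2_h2_injective A B C M)
    (fun x => (pull0_exact A B C M _).mpr ⟨x, rfl⟩)
    (fun x => (pull1_exact A B C M _).mpr ⟨x, rfl⟩)
    (fun x => (pull2_exact A B C M _).mpr ⟨x, rfl⟩)
    (fun x hx => (pull0_exact A B C M x).mp hx)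
    (fun x hx => (pull1_exact A B C M x).mp hx)
    (fun x hx => (pull2_exact A B C M x).mp hx)
    (pull0_h1_surjective A B C M) (pull1_h1_surjective A B C M)

end Mid

section Compare

variable {A : Type u} {B : Type v} {ι : Type w} {σ : Type t}
variable {A' : Type u'} {B' : Type v'} {ι' : Type w'} {σ' : Type t'}
variable [CommRing A] [CommRing B] [Algebra A B] [CommRing A'] [CommRing B'] [Algebra A' B']
variable [Algebra A A'] [Algebra B B'] [Algebra A B'] [IsScalarTower A A' B'] [IsScalarTower A B B']
variable (P : Algebra.Presentation A B ι σ) (P' : Algebra.Presentation A' B' ι' σ')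

/-- morphisms of presentations exist -/
theorem exists_presHom : Nonempty (PresHom P P') := by
  let hom : Algebra.Generators.Hom P.toGenerators P'.toGenerators := Algebra.Generators.defaultHom _ _
  have h : ∀ s, ∃ f : relMod P', jmap P' f = hom.toExtensionHom.toRingHom (rel P s) := by
    intro s
    have : hom.toExtensionHom.toRingHom (rel P s) ∈ LinearMap.range (jmap P') := by
      rw [range_jmap]
      change algebraMap P'.toExtension.Ring B' _ = 0
      rw [Algebra.Extension.Hom.algebraMap_toRingHom, algebraMap_rel, map_zero]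
    exact this
  choose f hf using h
  exact ⟨⟨hom, f, hf⟩⟩

end Compare

section Same

variable {A : Type u} {B : Type v} {ι : Type w} {σ : Type t} {ι' : Type w'} {σ' : Type t'}
variable [CommRing A] [CommRing B] [Algebra A B]
variable {P : Algebra.Presentation A B ι σ} {P' : Algebra.Presentation A B ι' σ'}
variable (g : PresHom P P') (M : Type m) [AddCommGroup M] [Module B M]

theorem T0pull_bijective : Function.Bijective (g.T0pull M) := by
  obtain ⟨g'⟩ := exists_presHom P' P
  constructor
  · intro x y hxy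
    have h1 := T0pull_tri g' g (PresHom.id P') M x
    have h2 := T0pull_tri g' g (PresHom.id P') M y
    rw [id_T0pull] at h1 h2
    rw [h1, h2, hxy]
  · intro y
    refine ⟨g'.T0pull M y, ?_⟩
    have h1 := T0pull_tri g g' (PresHom.id P) M y
    rw [id_T0pull] at h1
    exact h1.symm

theorem T1pull_bijective : Function.Bijective (g.T1pull M) := by
  obtain ⟨g'⟩ := exists_presHom P' P
  constructor
  · intro x y hxy
    have h1 := T1pull_tri g' g (PresHom.id P') M x
    have h2 := T1pull_tri g' g (PresHom.id P') M y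
    rw [id_T1pull] at h1 h2
    rw [h1, h2, hxy]
  · intro y
    refine ⟨g'.T1pull M y, ?_⟩
    have h1 := T1pull_tri g g' (PresHom.id P) M y
    rw [id_T1pull] at h1
    exact h1.symm

theorem T2pull_bijective : Function.Bijective (g.T2pull M) := by
  obtain ⟨g'⟩ := exists_presHom P' P
  constructor
  · intro x y hxy
    have h1 := T2pull_tri g' g (PresHom.id P') M x
    have h2 := T2pull_tri g' g (PresHom.id P') M y
    rw [id_T2pull] at h1 h2
    rw [h1, h2, hxy]
  · intro y
    refine ⟨g'.T2pull M y, ?_⟩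
    have h1 := T2pull_tri g g' (PresHom.id P) M y
    rw [id_T2pull] at h1
    exact h1.symm

end Same

section Transport

variable {X Y Y' Z : Type*} [Zero Y] [Zero Y'] [Zero Z]

theorem exact_transport (a : X → Y') (b : Y' → Z) (θ : Y' → Y) (hθ : Function.Bijective θ)
    (ac : X → Y) (bc : Y → Z) (h1 : ∀ x, ac x = θ (a x)) (h2 : ∀ y', bc (θ y') = b y')
    (hex : Function.Exact a b) : Function.Exact ac bc := by
  intro y
  obtain ⟨y', rfl⟩ := hθ.2 y
  rw [h2, hex y']
  constructor
  · rintro ⟨x, rfl⟩
    exact ⟨x, h1 x⟩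
  · rintro ⟨x, hx⟩
    rw [h1] at hx
    exact ⟨x, hθ.1 hx⟩

theorem exact_transport_left {W : Type*} [Zero W] (b : Y' → Z) (δ : Z → W) (θ : Y' → Y)
    (hθ : Function.Surjective θ) (bc : Y → Z) (h2 : ∀ y', bc (θ y') = b y')
    (hex : Function.Exact b δ) : Function.Exact bc δ := by
  intro z
  rw [hex z]
  constructor
  · rintro ⟨y', rfl⟩
    exact ⟨θ y', h2 y'⟩
  · rintro ⟨y, rfl⟩
    obtain ⟨y', rfl⟩ := hθ y
    exact ⟨y', (h2 y').symm⟩

theorem exact_transport_right {W : Type*} (δ : W → X) [Zero X] (a : X → Y') (θ : Y' → Y)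
    (hθ : Function.Injective θ) (hθ0 : θ 0 = 0) (ac : X → Y) (h1 : ∀ x, ac x = θ (a x))
    (hex : Function.Exact δ a) : Function.Exact δ ac := by
  intro x
  rw [h1, ← hex x]
  constructor
  · intro h
    rw [← hθ0] at h
    exact hθ h
  · intro h
    rw [h, hθ0]

end Transport

section Canon

variable (A B C : Type u) [CommRing A] [CommRing B] [CommRing C] [Algebra A B] [Algebra B C] [Algebra A C]
  [IsScalarTower A B C]
variable (M : Type m) [AddCommGroup M] [Module C M] [Module B M] [IsScalarTower B C M]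

/-- the nine-term sequence for the choice-free presentations -/
theorem nine_term_canon :
    Function.Injective ((CotT.canonHom A C B C).T0pull M) ∧
    Function.Exact ((CotT.canonHom A C B C).T0pull M) ((CotT.canonHom A B A C).T0pull M) ∧
    Function.Exact ((CotT.canonHom A C B C).T1pull M) ((CotT.canonHom A B A C).T1pull M) ∧
    Function.Exact ((CotT.canonHom A C B C).T2pull M) ((CotT.canonHom A B A C).T2pull M) ∧
    ∃ (δ₀ : CotT.T0 (CotT.canon A B) M →+ CotT.T1 (CotT.canon B C) M)
      (δ₁ : CotT.T1 (CotT.canon A B) M →+ CotT.T2 (CotT.canon B C) M),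
      Function.Exact ((CotT.canonHom A B A C).T0pull M) δ₀ ∧ Function.Exact δ₀ ((CotT.canonHom A C B C).T1pull M) ∧
      Function.Exact ((CotT.canonHom A B A C).T1pull M) δ₁ ∧ Function.Exact δ₁ ((CotT.canonHom A C B C).T2pull M) := by
  obtain ⟨g⟩ := exists_presHom (canon A C) (mid A B C)
  obtain ⟨hinj, hex0, hex1, hex2, δ₀, δ₁, hd1, hd2, hd3, hd4⟩ := nine_term_mid A B C M
  -- the triangles
  have ta0 : ∀ x, (CotT.canonHom A C B C).T0pull M x = g.T0pull M ((h2 A B C).T0pull M x) :=
    fun x => T0pull_tri g (h2 A B C) (CotT.canonHom A C B C) M x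
  have ta1 : ∀ x, (CotT.canonHom A C B C).T1pull M x = g.T1pull M ((h2 A B C).T1pull M x) :=
    fun x => T1pull_tri g (h2 A B C) (CotT.canonHom A C B C) M x
  have ta2 : ∀ x, (CotT.canonHom A C B C).T2pull M x = g.T2pull M ((h2 A B C).T2pull M x) :=
    fun x => T2pull_tri g (h2 A B C) (CotT.canonHom A C B C) M x
  have tb0 : ∀ y, (CotT.canonHom A B A C).T0pull M (g.T0pull M y) = (h1 A B C).T0pull M y :=
    fun y => (T0pull_tri (CotT.canonHom A B A C) g (h1 A B C) M y).symm
  have tb1 : ∀ y, (CotT.canonHom A B A C).T1pull M (g.T1pull M y) = (h1 A B C).T1pull M y :=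
    fun y => (T1pull_tri (CotT.canonHom A B A C) g (h1 A B C) M y).symm
  have tb2 : ∀ y, (CotT.canonHom A B A C).T2pull M (g.T2pull M y) = (h1 A B C).T2pull M y :=
    fun y => (T2pull_tri (CotT.canonHom A B A C) g (h1 A B C) M y).symm
  have b0 := T0pull_bijective g M
  have b1 := T1pull_bijective g M
  have b2 := T2pull_bijective g M
  refine ⟨?_, ?_, ?_, ?_, δ₀, δ₁, ?_, ?_, ?_, ?_⟩
  · intro x y hxy
    rw [ta0, ta0] at hxy
    exact hinj (b0.1 hxy)
  · exact exact_transport _ _ _ b0 _ _ ta0 tb0 hex0
  · exact exact_transport _ _ _ b1 _ _ ta1 tb1 hex1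
  · exact exact_transport _ _ _ b2 _ _ ta2 tb2 hex2
  · exact exact_transport_left _ _ _ b0.2 _ tb0 hd1
  · exact exact_transport_right _ _ _ b1.1 (map_zero _) _ ta1 hd2
  · exact exact_transport_left _ _ _ b1.2 _ tb1 hd3
  · exact exact_transport_right _ _ _ b2.1 (map_zero _) _ ta2 hd4

end Canon

end Groth.Agent.LibNine29

end
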