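import Mathlib

/-!
# Algebra of the node `k[x,y]/(xy)` and of its smoothing family `xy = t` (seat helper29)
-/

set_option autoImplicit false
universe u

namespace Groth.Agent.LibNode29

open MvPolynomial

variable (k : Type u) [Field k]

/-- `k[x,y]` -/
abbrev P2 : Type u := MvPolynomial (Fin 2) k

/-- the node ring `k[x,y]/(xy)` -/
abbrev NodeRing : Type u :=
  MvPolynomial (Fin 2) k ⧸ Ideal.span {(MvPolynomial.X 0 * MvPolynomial.X 1 : MvPolynomial (Fin 2) k)}

/-- the quotient map `k[x,y] → k[x,y]/(xy)` -/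
noncomputable abbrev q : P2 k →ₐ[k] NodeRing k :=
  Ideal.Quotient.mkₐ k (Ideal.span {(MvPolynomial.X 0 * MvPolynomial.X 1 : MvPolynomial (Fin 2) k)})

/-- `k[T] → k[x,y]`, `T ↦ xy` -/
noncomputable def τ : Polynomial k →ₐ[k] P2 k := Polynomial.aeval (X 0 * X 1 : P2 k)

@[simp] lemma τ_X : τ k Polynomial.X = X 0 * X 1 := by
  rw [τ, Polynomial.aeval_X]

/-- `k[x,y] → k[T]`, `x ↦ T, y ↦ 1` -/
noncomputable def σ : P2 k →ₐ[k] Polynomial k := MvPolynomial.aeval ![Polynomial.X, 1]

lemma σ_τ (a : Polynomial k) : σ k (τ k a) = a := by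
  have h : (σ k).comp (τ k) = AlgHom.id k (Polynomial k) := by
    apply Polynomial.algHom_ext
    rw [AlgHom.comp_apply, τ_X, map_mul, σ, aeval_X, aeval_X]
    simp
  exact DFunLike.congr_fun h a

lemma τ_injective : Function.Injective (τ k) := fun a b h => by
  rw [← σ_τ k a, ← σ_τ k b, h]

/-- `k[x,y]` is flat over `k[T]` via `T ↦ xy` -/
theorem τ_flat : (τ k).toRingHom.Flat := by
  letI : Algebra (Polynomial k) (P2 k) := (τ k).toRingHom.toAlgebra
  change Module.Flat (Polynomial k) (P2 k)
  rw [Module.Flat.flat_iff_torsion_eq_bot_of_isBezout, Submodule.eq_bot_iff]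
  intro m hm
  obtain ⟨a, ha⟩ := (Submodule.mem_torsion_iff m).mp hm
  have h1 : τ k (a : Polynomial k) * m = 0 := ha
  rcases mul_eq_zero.mp h1 with h2 | h2
  · exfalso
    have h3 : (a : Polynomial k) = 0 := τ_injective k (h2.trans (map_zero _).symm)
    exact nonZeroDivisors.coe_ne_zero a h3
  · exact h2

/-- every polynomial is a constant plus a combination of `x` and `y` -/
lemma exists_decomp (f : P2 k) : ∃ (c : k) (α β : P2 k), f = C c + X 0 * α + X 1 * β := by
  induction f using MvPolynomial.induction_on with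
  | C a => exact ⟨a, 0, 0, by simp⟩
  | add f g hf hg =>
    obtain ⟨c, α, β, rfl⟩ := hf
    obtain ⟨c', α', β', rfl⟩ := hg
    exact ⟨c + c', α + α', β + β', by rw [C_add]; ring⟩
  | mul_X f i hf =>
    fin_cases i
    · exact ⟨0, f, 0, by simp [mul_comm]⟩
    · exact ⟨0, 0, f, by simp [mul_comm]⟩

variable {k}

/-- adjusting approximate lifts of the coordinates: if `x'' y'' ≡ t` modulo `t²` then there are exact lifts -/
theorem exists_adjust {R E : Type u} [CommRing R] [Algebra k R] [CommRing E] (res : R →ₐ[k] k)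
    (φ : R →+* E) (pE : E →+* NodeRing k) (hpE : Function.Surjective pE)
    (hcomm : ∀ a, pE (φ a) = algebraMap k (NodeRing k) (res a))
    (hker : RingHom.ker pE ≤ Ideal.map φ (RingHom.ker res.toRingHom))
    (t : R) (ht : res t = 0) (hann : ∀ m, res m = 0 → m * t ^ 2 = 0)
    (x'' y'' : E) (hx : pE x'' = q k (X 0)) (hy : pE y'' = q k (X 1))
    (hxy : x'' * y'' - φ t ∈ Ideal.map φ (Ideal.span {t ^ 2})) :
    ∃ x₁ y₁ : E, pE x₁ = q k (X 0) ∧ pE y₁ = q k (X 1) ∧ x₁ * y₁ = φ t := by
  rw [Ideal.map_span, Set.image_singleton, Ideal.mem_span_singleton'] at hxy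
  obtain ⟨e, he⟩ := hxy
  obtain ⟨f, hf⟩ := Ideal.Quotient.mk_surjective (pE e)
  obtain ⟨c, α₀, β₀, hdec⟩ := exists_decomp k f
  obtain ⟨α, hα⟩ := hpE (q k α₀)
  obtain ⟨β, hβ⟩ := hpE (q k β₀)
  set a : R := algebraMap k R c with ha
  set s : E := φ (t ^ 2) with hs
  have hresa : res a = c := by rw [ha, AlgHom.commutes]; rfl
  -- the error term
  have hu : e - (φ a + x'' * α + y'' * β) ∈ RingHom.ker pE := by
    rw [RingHom.mem_ker, map_sub, map_add, map_add, map_mul, map_mul, hx, hy, hα, hβ, hcomm, hresa]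
    have h1 : pE e = q k f := hf.symm
    rw [h1, hdec, map_add, map_add, map_mul, map_mul]
    have h2 : q k (C c) = algebraMap k (NodeRing k) c := by
      rw [← MvPolynomial.algebraMap_eq, AlgHom.commutes]
    rw [h2]
    ring
  have hsann : Ideal.map φ (RingHom.ker res.toRingHom) ≤ (Ideal.span {s}).annihilator := by
    rw [Ideal.map_le_iff_le_comap]
    intro m hm
    rw [Ideal.mem_comap, Submodule.mem_annihilator_span_singleton, smul_eq_mul, hs, ← map_mul,
      hann m hm, map_zero]
  have hsu : s * (e - (φ a + x'' * α + y'' * β)) = 0 := by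
    have h1 := hsann (hker hu)
    rw [Submodule.mem_annihilator_span_singleton, smul_eq_mul] at h1
    rw [mul_comm]
    exact h1
  have ht2 : res (t ^ 2) = 0 := by rw [map_pow, ht]; ring
  have hss : s * s = 0 := by
    rw [hs, ← map_mul, hann (t ^ 2) ht2, map_zero]
  have ht3 : t * t ^ 2 = 0 := hann t ht
  -- the corrected lifts
  set w : R := 1 - a * t + a ^ 2 * t ^ 2 with hw
  have hresw : res w = 1 := by
    rw [hw, map_add, map_sub, map_one, map_mul, map_mul, map_pow, map_pow, ht]
    ring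
  have htw : t * (1 + a * t) * w = t := by
    rw [hw]
    linear_combination (a ^ 3 * t) * ht3
  have hps : pE s = 0 := by
    rw [hs, hcomm, ht2, map_zero]
  refine ⟨(x'' - s * β) * φ w, y'' - s * α, ?_, ?_, ?_⟩
  · rw [map_mul, map_sub, map_mul, hps, zero_mul, sub_zero, hx, hcomm, hresw, map_one, mul_one]
  · rw [map_sub, map_mul, hps, zero_mul, sub_zero, hy]
  · have h1 : (x'' - s * β) * (y'' - s * α) = φ (t * (1 + a * t)) := by
      have h2 : φ (t * (1 + a * t)) = φ t + s * φ a := by
        rw [hs, ← map_mul, ← map_add]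
        congr 1
        ring
      rw [h2]
      linear_combination (-1 : E) * he + hsu + (α * β) * hss
    calc (x'' - s * β) * φ w * (y'' - s * α)
        = ((x'' - s * β) * (y'' - s * α)) * φ w := by ring
      _ = φ (t * (1 + a * t) * w) := by rw [h1, ← map_mul]
      _ = φ t := by rw [htw]

/-- a product of two elements of the augmentation ideal of the dual numbers vanishes -/
lemma dual_mul_eq_zero (a b : TrivSqZeroExt k k) (ha : a.fst = 0) (hb : b.fst = 0) : a * b = 0 := by
  apply TrivSqZeroExt.ext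
  · rw [TrivSqZeroExt.fst_mul, ha, zero_mul, TrivSqZeroExt.fst_zero]
  · rw [TrivSqZeroExt.snd_mul, ha, hb]
    simp

end Groth.Agent.LibNode29
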