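import Groth.Agent.LibDefRing29a
import Groth.Agent.LibNode29a

/-!
# The smoothing family `xy = c` of the node as a deformation over an Artinian base (seat helper29)
-/

set_option autoImplicit false
universe u
open CategoryTheory CategoryTheory.Limits AlgebraicGeometry

namespace Groth.Agent.LibNode29

open Groth.Agent.LibAffDef29 Groth.Agent.LibDefDual29 Groth.Agent.LibDefRing29 ArtFun MvPolynomial

variable {k : Type u} [Field k]

/-- evaluation at `T = 0` -/
noncomputable def ev0 (k : Type u) [Field k] : Polynomial k →ₐ[k] k := Polynomial.aeval (0 : k)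

/-- the classifying map `k[T] → C`, `T ↦ c` -/
noncomputable def γ (C : Art k k) (c : C) : Polynomial k →ₐ[k] C := Polynomial.aeval c

lemma γ_X (C : Art k k) (c : C) : γ C c Polynomial.X = c := by rw [γ, Polynomial.aeval_X]

lemma res_comp_γ (C : Art k k) (c : C) (hc : C.res c = 0) : C.res.comp (γ C c) = ev0 k := by
  apply Polynomial.algHom_ext
  rw [AlgHom.comp_apply, γ_X, hc, ev0, Polynomial.aeval_X]

variable (k) in
/-- the node is the fibre of `xy = T` over `T = 0` -/
theorem isPullback_node :
    IsPullback (Spec.map (CommRingCat.ofHom (q k).toRingHom))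
      (Spec.map (CommRingCat.ofHom (algebraMap k (NodeRing k))))
      (Spec.map (CommRingCat.ofHom (τ k).toRingHom)) (Spec.map (CommRingCat.ofHom (ev0 k).toRingHom)) := by
  apply isPullback_SpecMap_of_isPushout
  apply isPushout_of_surjective
  · apply CommRingCat.hom_ext
    apply Polynomial.ringHom_ext
    · intro a
      change q k (τ k (Polynomial.C a)) = algebraMap k (NodeRing k) (ev0 k (Polynomial.C a))
      rw [← Polynomial.algebraMap_eq, AlgHom.commutes, AlgHom.commutes, AlgHom.commutes]
      rfl
    · change q k (τ k Polynomial.X) = algebraMap k (NodeRing k) (ev0 k Polynomial.X)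
      rw [τ_X, ev0, Polynomial.aeval_X, map_zero]
      exact Ideal.Quotient.eq_zero_iff_mem.mpr (Ideal.subset_span rfl)
  · intro c
    exact ⟨Polynomial.C c, by
      change ev0 k (Polynomial.C c) = c
      rw [← Polynomial.algebraMap_eq, AlgHom.commutes]
      rfl⟩
  · exact Ideal.Quotient.mk_surjective
  · change RingHom.ker (q k).toRingHom ≤ Ideal.map (τ k).toRingHom (RingHom.ker (ev0 k).toRingHom)
    have h1 : RingHom.ker (q k).toRingHom =
        Ideal.span {(MvPolynomial.X 0 * MvPolynomial.X 1 : MvPolynomial (Fin 2) k)} := Ideal.mk_ker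
    rw [h1, Ideal.span_le, Set.singleton_subset_iff]
    have h2 : (Polynomial.X : Polynomial k) ∈ RingHom.ker (ev0 k).toRingHom := by
      change ev0 k Polynomial.X = 0
      rw [ev0, Polynomial.aeval_X]
    have h3 := Ideal.mem_map_of_mem (τ k).toRingHom h2
    have h4 : (τ k).toRingHom Polynomial.X = X 0 * X 1 := τ_X k
    rw [h4] at h3
    exact h3

/-- the smoothing family `xy = c` over `C` -/
noncomputable def nodeFam (C : Art k k) (c : C) (hc : C.res c = 0) :
    DefSch (Spec (CommRingCat.of (NodeRing k))) (Spec.map (CommRingCat.ofHom (algebraMap k (NodeRing k)))) C where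
  total := pullback (Spec.map (CommRingCat.ofHom (τ k).toRingHom)) (Spec.map (CommRingCat.ofHom (γ C c).toRingHom))
  f := pullback.snd _ _
  flat := by
    haveI : Flat (Spec.map (CommRingCat.ofHom (τ k).toRingHom)) := Flat.SpecMap_iff.mpr (τ_flat k)
    infer_instance
  i := pullback.lift (Spec.map (CommRingCat.ofHom (q k).toRingHom))
    (Spec.map (CommRingCat.ofHom (algebraMap k (NodeRing k))) ≫ Art.specRes C) (by
      rw [Category.assoc]
      have h1 : Art.specRes C ≫ Spec.map (CommRingCat.ofHom (γ C c).toRingHom) =
          Spec.map (CommRingCat.ofHom (ev0 k).toRingHom) := by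
        rw [← Spec.map_comp, ← CommRingCat.ofHom_comp]
        congr 2
        exact congrArg AlgHom.toRingHom (res_comp_γ C c hc)
      rw [h1]
      exact (isPullback_node k).w)
  isPullback := by
    refine IsPullback.of_right ?_ (pullback.lift_snd _ _ _) (IsPullback.of_hasPullback _ _)
    rw [pullback.lift_fst]
    have h1 : Art.specRes C ≫ Spec.map (CommRingCat.ofHom (γ C c).toRingHom) =
        Spec.map (CommRingCat.ofHom (ev0 k).toRingHom) := by
      rw [← Spec.map_comp, ← CommRingCat.ofHom_comp]
      congr 2
      exact congrArg AlgHom.toRingHom (res_comp_γ C c hc)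
    rw [h1]
    exact isPullback_node k

end Groth.Agent.LibNode29
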