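import Groth.Agent.LibNode29b

/-!
# Recognising the smoothing family `xy = c` of the node (seat helper29)
-/

set_option autoImplicit false
universe u
open CategoryTheory CategoryTheory.Limits AlgebraicGeometry

namespace Groth.Agent.LibNode29

open Groth.Agent.LibAffDef29 Groth.Agent.LibDefDual29 Groth.Agent.LibDefRing29 ArtFun MvPolynomial

variable {k : Type u} [Field k]

section Fam

variable (C : Art k k) (c : C) (hc : C.res c = 0)

/-- the projection of the family to the plane -/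
noncomputable abbrev famFst :
    (nodeFam C c hc).total ⟶ Spec (CommRingCat.of (P2 k)) :=
  pullback.fst (Spec.map (CommRingCat.ofHom (τ k).toRingHom)) (Spec.map (CommRingCat.ofHom (γ C c).toRingHom))

instance : IsAffine (nodeFam C c hc).total := isAffine_total (nodeFam C c hc)

theorem isPushout_nodeFam :
    IsPushout (CommRingCat.ofHom (τ k).toRingHom) (CommRingCat.ofHom (γ C c).toRingHom)
      (toΓ (famFst C c hc)) (toΓ (nodeFam C c hc).f) :=
  isPushout_toΓ _ _ _ _ (IsPullback.of_hasPullback _ _)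

/-- the coordinate `x` on the family -/
noncomputable def xE : Γ((nodeFam C c hc).total, ⊤) := (toΓ (famFst C c hc)).hom (X 0)

/-- the coordinate `y` on the family -/
noncomputable def yE : Γ((nodeFam C c hc).total, ⊤) := (toΓ (famFst C c hc)).hom (X 1)

lemma xE_mul_yE : xE C c hc * yE C c hc = (toΓ (nodeFam C c hc).f).hom c := by
  have h := congrArg (fun φ => φ.hom (Polynomial.X : Polynomial k)) (isPushout_nodeFam C c hc).w
  have h1 : (toΓ (famFst C c hc)).hom ((τ k) Polynomial.X) = (toΓ (nodeFam C c hc).f).hom (γ C c Polynomial.X) := h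
  rw [τ_X, γ_X, map_mul] at h1
  exact h1

lemma toΓ_famFst_comp_fromΓ :
    toΓ (famFst C c hc) ≫ fromΓ (nodeFam C c hc).i = CommRingCat.ofHom (q k).toRingHom :=
  toΓ_comp_fromΓ_of_eq _ _ _ (pullback.lift_fst _ _ _)

lemma fromΓ_xE : (fromΓ (nodeFam C c hc).i).hom (xE C c hc) = q k (X 0) :=
  congrArg (fun φ => φ.hom (X 0 : P2 k)) (toΓ_famFst_comp_fromΓ C c hc)

lemma fromΓ_yE : (fromΓ (nodeFam C c hc).i).hom (yE C c hc) = q k (X 1) :=
  congrArg (fun φ => φ.hom (X 1 : P2 k)) (toΓ_famFst_comp_fromΓ C c hc)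

variable {C c hc}

/-- maps out of the ring of the family -/
theorem exists_desc {W : CommRingCat.{u}} (v : CommRingCat.of C ⟶ W) (x₁ y₁ : W) (hxy : x₁ * y₁ = v.hom c) :
    ∃ Φ : Γ((nodeFam C c hc).total, ⊤) ⟶ W, toΓ (nodeFam C c hc).f ≫ Φ = v ∧
      Φ.hom (xE C c hc) = x₁ ∧ Φ.hom (yE C c hc) = y₁ ∧
      ∀ a : k, Φ.hom ((toΓ (famFst C c hc)).hom (MvPolynomial.C a)) = v.hom (algebraMap k C a) := by
  let u : CommRingCat.of (P2 k) ⟶ W :=
    CommRingCat.ofHom (MvPolynomial.eval₂Hom (v.hom.comp (algebraMap k C)) ![x₁, y₁])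
  have w : CommRingCat.ofHom (τ k).toRingHom ≫ u = CommRingCat.ofHom (γ C c).toRingHom ≫ v := by
    apply CommRingCat.hom_ext
    apply Polynomial.ringHom_ext
    · intro a
      change MvPolynomial.eval₂Hom (v.hom.comp (algebraMap k C)) ![x₁, y₁] (τ k (Polynomial.C a)) =
        v.hom (γ C c (Polynomial.C a))
      rw [← Polynomial.algebraMap_eq, AlgHom.commutes, AlgHom.commutes, MvPolynomial.algebraMap_eq,
        MvPolynomial.coe_eval₂Hom, MvPolynomial.eval₂_C]
      rfl
    · change MvPolynomial.eval₂Hom (v.hom.comp (algebraMap k C)) ![x₁, y₁] (τ k Polynomial.X) =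
        v.hom (γ C c Polynomial.X)
      rw [τ_X, γ_X, map_mul, MvPolynomial.coe_eval₂Hom, MvPolynomial.eval₂_X, MvPolynomial.eval₂_X, ← hxy]
      rfl
  refine ⟨(isPushout_nodeFam C c hc).desc u v w, (isPushout_nodeFam C c hc).inr_desc u v w, ?_, ?_, ?_⟩
  · have h := congrArg (fun φ => φ.hom (X 0 : P2 k)) ((isPushout_nodeFam C c hc).inl_desc u v w)
    refine Eq.trans h ?_
    change MvPolynomial.eval₂Hom (v.hom.comp (algebraMap k C)) ![x₁, y₁] (X 0) = x₁
    rw [MvPolynomial.coe_eval₂Hom, MvPolynomial.eval₂_X]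
    rfl
  · have h := congrArg (fun φ => φ.hom (X 1 : P2 k)) ((isPushout_nodeFam C c hc).inl_desc u v w)
    refine Eq.trans h ?_
    change MvPolynomial.eval₂Hom (v.hom.comp (algebraMap k C)) ![x₁, y₁] (X 1) = y₁
    rw [MvPolynomial.coe_eval₂Hom, MvPolynomial.eval₂_X]
    rfl
  · intro a
    have h := congrArg (fun φ => φ.hom (MvPolynomial.C a : P2 k)) ((isPushout_nodeFam C c hc).inl_desc u v w)
    refine Eq.trans h ?_
    change MvPolynomial.eval₂Hom (v.hom.comp (algebraMap k C)) ![x₁, y₁] (MvPolynomial.C a) = _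
    rw [MvPolynomial.coe_eval₂Hom, MvPolynomial.eval₂_C]
    rfl

lemma famFst_C (a : k) :
    (toΓ (famFst C c hc)).hom (MvPolynomial.C a) = (toΓ (nodeFam C c hc).f).hom (algebraMap k C a) := by
  have h := congrArg (fun φ => φ.hom (Polynomial.C a : Polynomial k)) (isPushout_nodeFam C c hc).w
  have h1 : (toΓ (famFst C c hc)).hom ((τ k) (Polynomial.C a)) =
      (toΓ (nodeFam C c hc).f).hom (γ C c (Polynomial.C a)) := h
  rw [← Polynomial.algebraMap_eq, AlgHom.commutes, AlgHom.commutes, MvPolynomial.algebraMap_eq] at h1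
  exact h1

/-- two maps out of the ring of the family agree if they agree on `C`, `x` and `y` -/
theorem hom_ext_fam {W : CommRingCat.{u}} (Φ Ψ : Γ((nodeFam C c hc).total, ⊤) ⟶ W)
    (h1 : toΓ (nodeFam C c hc).f ≫ Φ = toΓ (nodeFam C c hc).f ≫ Ψ)
    (hx : Φ.hom (xE C c hc) = Ψ.hom (xE C c hc)) (hy : Φ.hom (yE C c hc) = Ψ.hom (yE C c hc)) : Φ = Ψ := by
  apply (isPushout_nodeFam C c hc).hom_ext _ h1
  apply CommRingCat.hom_ext
  apply MvPolynomial.ringHom_ext
  · intro a
    change Φ.hom ((toΓ (famFst C c hc)).hom (MvPolynomial.C a)) =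
      Ψ.hom ((toΓ (famFst C c hc)).hom (MvPolynomial.C a))
    rw [famFst_C]
    exact congrArg (fun φ => φ.hom (algebraMap k C a)) h1
  · intro i
    fin_cases i
    · exact hx
    · exact hy

end Fam

end Groth.Agent.LibNode29
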