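import Groth.Agent.LibNode29c

/-!
# Deformations of the node: recognition of `xy = c`, rigidity of lifts of `xy = t` (seat helper29)
-/

set_option autoImplicit false
universe u
open CategoryTheory CategoryTheory.Limits AlgebraicGeometry

namespace Groth.Agent.LibNode29

open Groth.Agent.LibAffDef29 Groth.Agent.LibDefDual29 Groth.Agent.LibDefRing29 ArtFun MvPolynomial

variable {k : Type u} [Field k]

section Recog

variable {C : Art k k} {c : C} {hc : C.res c = 0}
  (η : DefSch (Spec (CommRingCat.of (NodeRing k))) (Spec.map (CommRingCat.ofHom (algebraMap k (NodeRing k)))) C)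

/-- a deformation of the node with lifts `x₁, y₁` of the coordinates satisfying `x₁ y₁ = c` is the family `xy = c` -/
theorem iso_nodeFam_of_lifts (x₁ y₁ : Γ(η.total, ⊤)) (hx : (fromΓ η.i).hom x₁ = q k (X 0))
    (hy : (fromΓ η.i).hom y₁ = q k (X 1)) (hxy : x₁ * y₁ = (toΓ η.f).hom c) :
    Nonempty (η.Iso (nodeFam C c hc)) := by
  obtain ⟨Φ, hΦ1, hΦx, hΦy, -⟩ := exists_desc (hc := hc) (toΓ η.f) x₁ y₁ hxy
  obtain ⟨-, hflat, -, hkerη, hcommη⟩ := package η
  obtain ⟨-, -, hsurjξ, hkerξ, hcommξ⟩ := package (nodeFam C c hc)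
  have hΦ2 : Φ ≫ fromΓ η.i = fromΓ (nodeFam C c hc).i := by
    apply hom_ext_fam
    · rw [← Category.assoc, hΦ1, hcommη, hcommξ]
    · change (fromΓ η.i).hom (Φ.hom (xE C c hc)) = _
      rw [hΦx, hx, fromΓ_xE]
    · change (fromΓ η.i).hom (Φ.hom (yE C c hc)) = _
      rw [hΦy, hy, fromΓ_yE]
  refine iso_of_ringHom η (nodeFam C c hc) Φ ?_ hΦ1 hΦ2
  -- bijectivity
  obtain ⟨n, hn⟩ := exists_ker_res_pow C
  letI : Algebra C Γ((nodeFam C c hc).total, ⊤) := (toΓ (nodeFam C c hc).f).hom.toAlgebra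
  letI : Algebra C Γ(η.total, ⊤) := (toΓ η.f).hom.toAlgebra
  haveI : Module.Flat C Γ(η.total, ⊤) := hflat
  let Φa : Γ((nodeFam C c hc).total, ⊤) →ₐ[C] Γ(η.total, ⊤) :=
    { Φ.hom with
      commutes' := fun a => congrArg (fun φ => φ.hom a) hΦ1 }
  exact bijective_of_compat (RingHom.ker C.res.toRingHom) n hn (fromΓ (nodeFam C c hc).i).hom (fromΓ η.i).hom
    hsurjξ hkerξ hkerη Φa (fun v => congrArg (fun φ => φ.hom v) hΦ2)

end Recog

section NonIso

variable (k) in
/-- the augmentation of the node ring at the singular point -/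
noncomputable def aug : NodeRing k →ₐ[k] k :=
  Ideal.Quotient.liftₐ _ (MvPolynomial.aeval (fun _ : Fin 2 => (0 : k))) (by
    intro a ha
    have h1 : Ideal.span {(MvPolynomial.X 0 * MvPolynomial.X 1 : MvPolynomial (Fin 2) k)} ≤
        RingHom.ker (MvPolynomial.aeval (fun _ : Fin 2 => (0 : k))) := by
      rw [Ideal.span_le, Set.singleton_subset_iff]
      change MvPolynomial.aeval (fun _ : Fin 2 => (0 : k)) (X 0 * X 1) = 0
      rw [map_mul, MvPolynomial.aeval_X, zero_mul]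
    exact h1 ha)

lemma aug_q_X (i : Fin 2) : aug k (q k (X i)) = 0 := by
  change MvPolynomial.aeval (fun _ : Fin 2 => (0 : k)) (X i) = 0
  rw [MvPolynomial.aeval_X]

variable {C : Art k k} {c : C} {hc : C.res c = 0}

/-- if the family `xy = c` is trivial as a deformation then `c` is a product of two elements of the maximal ideal -/
theorem exists_mul_of_iso (h0 : C.res (0 : C) = 0) (θ : (nodeFam C c hc).Iso (nodeFam C 0 h0)) :
    ∃ a b : C, C.res a = 0 ∧ C.res b = 0 ∧ c = a * b := by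
  -- the section of the trivial family through the origin
  obtain ⟨ρ, hρ1, hρx, hρy, -⟩ := exists_desc (hc := h0) (𝟙 (CommRingCat.of C)) (0 : C) (0 : C) (by
    rw [mul_zero]; exact (map_zero _).symm)
  obtain ⟨-, -, -, -, hcomm0⟩ := package (nodeFam C 0 h0)
  obtain ⟨-, -, -, -, hcommc⟩ := package (nodeFam C c hc)
  have hρres : ρ ≫ CommRingCat.ofHom C.res.toRingHom =
      fromΓ (nodeFam C 0 h0).i ≫ CommRingCat.ofHom (aug k).toRingHom := by
    apply hom_ext_fam
    · rw [← Category.assoc, hρ1, ← Category.assoc, hcomm0, Category.id_comp, Category.assoc]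
      apply CommRingCat.hom_ext
      ext a
      change C.res a = aug k (algebraMap k (NodeRing k) (C.res a))
      rw [AlgHom.commutes]
      rfl
    · change C.res (ρ.hom (xE C 0 h0)) = aug k ((fromΓ (nodeFam C 0 h0).i).hom (xE C 0 h0))
      rw [hρx, fromΓ_xE, aug_q_X, map_zero]
    · change C.res (ρ.hom (yE C 0 h0)) = aug k ((fromΓ (nodeFam C 0 h0).i).hom (yE C 0 h0))
      rw [hρy, fromΓ_yE, aug_q_X, map_zero]
  -- transport along the isomorphism
  let Ψ : Γ((nodeFam C c hc).total, ⊤) ⟶ Γ((nodeFam C 0 h0).total, ⊤) := θ.iso.inv.appTop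
  have hΨ1 : toΓ (nodeFam C c hc).f ≫ Ψ = toΓ (nodeFam C 0 h0).f := by
    rw [← toΓ_comp]
    exact congrArg toΓ θ.symm.hom_f
  have hΨ2 : Ψ ≫ fromΓ (nodeFam C 0 h0).i = fromΓ (nodeFam C c hc).i := by
    rw [← fromΓ_comp]
    exact congrArg fromΓ θ.symm.i_hom
  have hres : ∀ z, C.res (ρ.hom (Ψ.hom z)) = aug k ((fromΓ (nodeFam C c hc).i).hom z) := by
    intro z
    have h1 := congrArg (fun φ => φ.hom (Ψ.hom z)) hρres
    have h2 := congrArg (fun φ => φ.hom z) hΨ2
    refine Eq.trans h1 ?_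
    change aug k ((fromΓ (nodeFam C 0 h0).i).hom (Ψ.hom z)) = _
    exact congrArg (aug k) h2
  refine ⟨ρ.hom (Ψ.hom (xE C c hc)), ρ.hom (Ψ.hom (yE C c hc)), ?_, ?_, ?_⟩
  · rw [hres, fromΓ_xE, aug_q_X]
  · rw [hres, fromΓ_yE, aug_q_X]
  · rw [← map_mul, ← map_mul, xE_mul_yE]
    have h1 := congrArg (fun φ => φ.hom c) hΨ1
    have h2 := congrArg (fun φ => φ.hom c) hρ1
    change Ψ.hom ((toΓ (nodeFam C c hc).f).hom c) = (toΓ (nodeFam C 0 h0).f).hom c at h1
    change ρ.hom ((toΓ (nodeFam C 0 h0).f).hom c) = c at h2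
    rw [h1, h2]

end NonIso

section Lift

variable {A' A : Art k k} (t : A') (ht : A'.res t = 0) (hann : ∀ m, A'.res m = 0 → m * t ^ 2 = 0)
  (p : A' ⟶ A) (hp : Function.Surjective p)
  (hkerp : RingHom.ker p.toAlgHom.toRingHom = Ideal.span {t ^ 2})
  (η : DefSch (Spec (CommRingCat.of (NodeRing k))) (Spec.map (CommRingCat.ofHom (algebraMap k (NodeRing k)))) A')

include hann hp hkerp in
/-- every lift of the family `xy = t` modulo `t²` is isomorphic to the family `xy = t` -/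
theorem iso_of_baseChange_iso (θ : (η.baseChange p).Iso ((nodeFam A' t ht).baseChange p)) :
    Nonempty (η.Iso (nodeFam A' t ht)) := by
  obtain ⟨G, π, χ, pG, hπs, hπk, hχ, hπp, hχp⟩ :=
    exists_ringHom_of_baseChange_iso (nodeFam A' t ht) η p hp θ
  obtain ⟨-, -, hsurjη, hkerη, hcommη⟩ := package η
  obtain ⟨x'', hx''⟩ := hπs (χ.hom (xE A' t ht))
  obtain ⟨y'', hy''⟩ := hπs (χ.hom (yE A' t ht))
  have hx : (fromΓ η.i).hom x'' = q k (X 0) := by
    rw [← hπp]
    change pG.hom (π.hom x'') = _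
    rw [hx'']
    have h1 := congrArg (fun φ => φ.hom (xE A' t ht)) hχp
    exact h1.trans (fromΓ_xE A' t ht)
  have hy : (fromΓ η.i).hom y'' = q k (X 1) := by
    rw [← hπp]
    change pG.hom (π.hom y'') = _
    rw [hy'']
    have h1 := congrArg (fun φ => φ.hom (yE A' t ht)) hχp
    exact h1.trans (fromΓ_yE A' t ht)
  have hxy : x'' * y'' - (toΓ η.f).hom t ∈ Ideal.map (toΓ η.f).hom (Ideal.span {t ^ 2}) := by
    rw [← hkerp]
    apply hπk
    rw [RingHom.mem_ker, map_sub, map_mul, hx'', hy'', ← map_mul, xE_mul_yE]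
    have h1 := congrArg (fun φ => φ.hom t) hχ
    change χ.hom ((toΓ (nodeFam A' t ht).f).hom t) = π.hom ((toΓ η.f).hom t) at h1
    rw [h1, sub_self]
  obtain ⟨x₁, y₁, h1, h2, h3⟩ := exists_adjust A'.res (toΓ η.f).hom (fromΓ η.i).hom hsurjη
    (fun a => congrArg (fun φ => φ.hom a) hcommη) hkerη t ht hann x'' y'' hx hy hxy
  exact iso_nodeFam_of_lifts η x₁ y₁ h1 h2 h3

end Lift

end Groth.Agent.LibNode29
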