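import Groth.Agent.LibNode29d
import Groth.Agent.LibObs29
import Groth.Prelude.Def_ArtFun3

/-!
# The test objects `k[[t]]/(t³) → k[[t]]/(t²)` and distinct lifts in `h_R` (seat helper29)
-/

set_option autoImplicit false
universe u
open CategoryTheory

namespace Groth.Agent.LibNode29

open ArtFun IsLocalRing Groth.Agent.LibObs29

variable (k : Type u) [Field k]

/-- the constant coefficient as an algebra map -/
noncomputable def resPS : PowerSeries k →ₐ[k] k :=
  { (PowerSeries.constantCoeff : PowerSeries k →+* k) with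
    commutes' := fun c => PowerSeries.constantCoeff_C c }

lemma ker_resPS : RingHom.ker (resPS k) = maximalIdeal (PowerSeries k) := by
  have hsurj : Function.Surjective (resPS k) := fun c =>
    ⟨algebraMap k (PowerSeries k) c, by rw [AlgHom.commutes]; rfl⟩
  have : (RingHom.ker (resPS k)).IsMaximal := RingHom.ker_isMaximal_of_surjective _ hsurj
  exact IsLocalRing.eq_maximalIdeal this

/-- `k[[t]]/(t³)` -/
abbrev T3 : Type u := PowerSeries k ⧸ aa (⊥ : Ideal (PowerSeries k)) 2

/-- the augmentation of `k[[t]]/(t³)` -/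
noncomputable def resT3 : T3 k →ₐ[k] k :=
  Ideal.Quotient.liftₐ (aa (⊥ : Ideal (PowerSeries k)) 2) (resPS k) (fun x hx => by
    have : x ∈ maximalIdeal (PowerSeries k) := aa_le ⊥ 2 hx
    rw [← ker_resPS] at this
    exact this)

lemma resT3_surjective : Function.Surjective (resT3 k) := fun c =>
  ⟨algebraMap k _ c, by rw [AlgHom.commutes]; rfl⟩

/-- the element `t` of `k[[t]]/(t³)` -/
noncomputable def tT : T3 k := Ideal.Quotient.mk (aa (⊥ : Ideal (PowerSeries k)) 2) PowerSeries.X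

lemma res_tT : resT3 k (tT k) = 0 := by
  change resPS k PowerSeries.X = 0
  exact PowerSeries.constantCoeff_X

lemma aa_bot : aa (⊥ : Ideal (PowerSeries k)) 2 = Ideal.span {(PowerSeries.X : PowerSeries k) ^ 3} := by
  rw [aa, Ideal.mul_bot, bot_sup_eq, PowerSeries.maximalIdeal_eq_span_X, Ideal.span_singleton_pow]

lemma tT_ann (m : T3 k) (hm : resT3 k m = 0) : m * tT k ^ 2 = 0 := by
  obtain ⟨f, rfl⟩ := Ideal.Quotient.mk_surjective m
  have h1 : f ∈ maximalIdeal (PowerSeries k) := by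
    rw [← ker_resPS]
    exact hm
  rw [PowerSeries.maximalIdeal_eq_span_X, Ideal.mem_span_singleton'] at h1
  obtain ⟨g, rfl⟩ := h1
  rw [tT, ← map_pow, ← map_mul, Ideal.Quotient.eq_zero_iff_mem, aa_bot, Ideal.mem_span_singleton']
  exact ⟨g, by ring⟩

lemma tT_sq_ne_zero : tT k ^ 2 ≠ 0 := by
  intro h
  rw [tT, ← map_pow, Ideal.Quotient.eq_zero_iff_mem, aa_bot, Ideal.mem_span_singleton,
    PowerSeries.X_pow_dvd_iff] at h
  have h1 := h 2 (by norm_num)
  rw [PowerSeries.coeff_X_pow_self] at h1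
  exact one_ne_zero h1

/-- `k[[t]]/(t³)` as an object -/
noncomputable def A3 : Art k k := Art.of (T3 k) (resT3 k) (resT3_surjective k)

/-- the element `t` -/
noncomputable def t3 : A3 k := tT k

lemma res_t3 : (A3 k).res (t3 k) = 0 := res_tT k

lemma t3_ann (m : A3 k) (hm : (A3 k).res m = 0) : m * t3 k ^ 2 = 0 := tT_ann k m hm

lemma t3_sq_ne_zero : t3 k ^ 2 ≠ 0 := tT_sq_ne_zero k

lemma res_t3_sq : (A3 k).res (t3 k ^ 2) = 0 := by
  rw [map_pow, res_t3]
  ring

lemma t3_sq_le : Ideal.span {t3 k ^ 2} ≤ maximalIdeal (A3 k) := by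
  rw [Ideal.span_le, Set.singleton_subset_iff]
  change t3 k ^ 2 ∈ maximalIdeal (A3 k)
  rw [Art.mem_maximalIdeal_iff]
  exact res_t3_sq k

/-- `k[[t]]/(t²)` as a quotient of `k[[t]]/(t³)` -/
noncomputable def A2 : Art k k := Art.quot (A3 k) (Ideal.span {t3 k ^ 2}) (t3_sq_le k)

/-- the projection `k[[t]]/(t³) → k[[t]]/(t²)` -/
noncomputable def p32 : A3 k ⟶ A2 k := Art.quotMk (A3 k) (Ideal.span {t3 k ^ 2}) (t3_sq_le k)

lemma p32_surjective : Function.Surjective (p32 k) := Art.quotMk_surjective _ _ _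

lemma ker_p32 : RingHom.ker (p32 k).toAlgHom.toRingHom = Ideal.span {t3 k ^ 2} :=
  Ideal.mk_ker

lemma p32_t3_sq : p32 k (t3 k ^ 2) = 0 := by
  have h : t3 k ^ 2 ∈ RingHom.ker (p32 k).toAlgHom.toRingHom := by
    rw [ker_p32]
    exact Ideal.subset_span rfl
  exact h

variable {k}

/-- two distinct tangent vectors of `h_R` give two distinct lifts of any point of `h_R(A')` along a
surjection whose kernel contains a nonzero element killed by the maximal ideal -/
theorem exists_ne_lift {R : Type u} [CommRing R] [Algebra k R] (resR : R →ₐ[k] k)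
    (φ₁ φ₂ : HomSet R resR (Art.dual k k)) (hne : φ₁ ≠ φ₂)
    {A' A : Art k k} (p : A' ⟶ A) (s : A') (hs0 : s ≠ 0) (hsp : p s = 0) (hsres : A'.res s = 0)
    (hsann : ∀ m, A'.res m = 0 → m * s = 0) (ψ' : HomSet R resR A') :
    ∃ ψ'' : HomSet R resR A', ψ'' ≠ ψ' ∧ HomSet.map p ψ'' = HomSet.map p ψ' := by
  -- the difference derivation
  have hfst : ∀ (φ : HomSet R resR (Art.dual k k)) (r : R), (φ.1 r).fst = resR r := by
    intro φ r
    exact DFunLike.congr_fun φ.2 r
  let δ : R →ₗ[k] k :=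
    (TrivSqZeroExt.sndHom k k).comp φ₁.1.toLinearMap - (TrivSqZeroExt.sndHom k k).comp φ₂.1.toLinearMap
  have hδ : ∀ r, δ r = (φ₁.1 r).snd - (φ₂.1 r).snd := fun r => rfl
  have hδ1 : δ 1 = 0 := by
    rw [hδ, map_one, map_one, sub_self]
  have hmul : ∀ a b : TrivSqZeroExt k k, (a * b).snd = a.fst * b.snd + b.fst * a.snd := by
    intro a b
    rw [TrivSqZeroExt.snd_mul]
    simp [mul_comm]
  have hsndmul : ∀ (φ : HomSet R resR (Art.dual k k)) (r r' : R),
      (φ.1 (r * r')).snd = resR r * (φ.1 r').snd + resR r' * (φ.1 r).snd := by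
    intro φ r r'
    have h1 := hmul (φ.1 r) (φ.1 r')
    rw [hfst, hfst] at h1
    rw [map_mul]
    exact h1
  have hδmul : ∀ r r', δ (r * r') = resR r * δ r' + resR r' * δ r := by
    intro r r'
    rw [hδ, hδ, hδ, hsndmul, hsndmul]
    ring
  obtain ⟨r₀, hr₀⟩ : ∃ r, δ r ≠ 0 := by
    by_contra hcon
    push Not at hcon
    apply hne
    apply Subtype.ext
    apply AlgHom.ext
    intro r
    apply TrivSqZeroExt.ext
    · rw [hfst, hfst]
    · have := hcon r
      rw [hδ, sub_eq_zero] at this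
      exact this
  have hmuls : ∀ a : A', a * s = A'.res a • s := by
    intro a
    have h1 : A'.res (a - algebraMap k A' (A'.res a)) = 0 := by
      rw [map_sub, AlgHom.commutes]
      exact sub_self _
    have h2 := hsann _ h1
    rw [sub_mul, sub_eq_zero] at h2
    rw [h2, Algebra.smul_def]
  have hss : s * s = 0 := hsann s hsres
  have hψres : ∀ r, A'.res (ψ'.1 r) = resR r := fun r => DFunLike.congr_fun ψ'.2 r
  let L : R →ₗ[k] A' := ψ'.1.toLinearMap + (LinearMap.toSpanSingleton k A' s).comp δ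
  have hL : ∀ r, L r = ψ'.1 r + δ r • s := fun r => rfl
  let ψa : R →ₐ[k] A' := AlgHom.ofLinearMap L (by rw [hL, hδ1, zero_smul, add_zero, map_one]) (by
    intro r r'
    rw [hL, hL, hL, hδmul, map_mul]
    have e1 : (ψ'.1 r + δ r • s) * (ψ'.1 r' + δ r' • s) =
        ψ'.1 r * ψ'.1 r' + δ r' • (ψ'.1 r * s) + δ r • (ψ'.1 r' * s) + (δ r * δ r') • (s * s) := by
      simp only [Algebra.smul_def, map_mul]
      ring
    rw [e1, hmuls, hmuls, hss, smul_zero, add_zero, hψres, hψres, smul_smul, smul_smul, add_assoc, ← add_smul]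
    congr 2
    ring)
  have hψa : ∀ r, ψa r = ψ'.1 r + δ r • s := fun r => rfl
  refine ⟨⟨ψa, ?_⟩, ?_, ?_⟩
  · apply AlgHom.ext
    intro r
    change A'.res (ψa r) = resR r
    rw [hψa, map_add, map_smul, hsres, smul_zero, add_zero, hψres]
  · intro h
    have h1 : ψa r₀ = ψ'.1 r₀ := DFunLike.congr_fun (congrArg Subtype.val h) r₀
    rw [hψa, add_eq_left, smul_eq_zero] at h1
    rcases h1 with h1 | h1
    · exact hr₀ h1
    · exact hs0 h1
  · apply Subtype.ext
    apply AlgHom.ext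
    intro r
    change p.toAlgHom (ψa r) = p.toAlgHom (ψ'.1 r)
    rw [hψa, map_add, map_smul]
    have : p.toAlgHom s = 0 := hsp
    rw [this, smul_zero, add_zero]

end Groth.Agent.LibNode29
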