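import Mathlib.RingTheory.RegularLocalRing.Defs
import Mathlib.RingTheory.Ideal.Cotangent
import Mathlib.LinearAlgebra.Dimension.Finite
import Mathlib.RingTheory.RegularLocalRing.Polynomial
import Mathlib.RingTheory.EssentialFiniteness
import Mathlib.RingTheory.Localization.AtPrime.Basic

/-!
# Cutting a regular local ring down to the embedding dimension of a quotient

For a regular local ring `P₀` and a proper ideal `I₀` there is an ideal `𝔟 ≤ I₀`, generated by part of a regular system
of parameters, with `P₀/𝔟` regular and `I₀ ≤ 𝔟 + 𝔪²`.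
-/

set_option autoImplicit false
universe u

namespace Groth.Agent.LibObs29

open IsLocalRing

lemma cancel_aux (D : WithBot ℕ∞) (a c : ℕ)
    (h : ((a + c : ℕ) : WithBot ℕ∞) ≤ D + (c : WithBot ℕ∞)) : (a : WithBot ℕ∞) ≤ D := by
  induction D using WithBot.recBotCoe with
  | bot => simp at h
  | coe e =>
    induction e using ENat.recTopCoe with
    | top => exact WithBot.coe_le_coe.2 le_top
    | coe d =>
      have h' : ((a + c : ℕ) : WithBot ℕ∞) ≤ ((d + c : ℕ) : WithBot ℕ∞) := by
        push_cast at h ⊢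
        exact h
      have h'' : a + c ≤ d + c := by exact_mod_cast h'
      have : a ≤ d := by omega
      exact_mod_cast this

theorem exists_regular_quotient (P₀ : Type u) [CommRing P₀] [IsRegularLocalRing P₀] (I₀ : Ideal P₀)
    (hI₀ : I₀ ≤ maximalIdeal P₀) :
    ∃ 𝔟 : Ideal P₀, 𝔟 ≤ I₀ ∧ I₀ ≤ 𝔟 ⊔ maximalIdeal P₀ ^ 2 ∧ IsRegularLocalRing (P₀ ⧸ 𝔟) := by
  classical
  let m := maximalIdeal P₀
  let κ := ResidueField P₀
  let tc : ↥m →ₗ[P₀] CotangentSpace P₀ := m.toCotangent
  let SW : Set (CotangentSpace P₀) := tc '' {x : ↥m | (x : P₀) ∈ I₀}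
  obtain ⟨b₁, hb₁S, hb₁span, hb₁li⟩ := exists_linearIndependent κ SW
  obtain ⟨B, -, hb₁B, hBspan, hBli⟩ :=
    exists_linearIndepOn_id_extension (K := κ) (s := b₁) (t := Set.univ)
      (by exact hb₁li) (Set.subset_univ b₁)
  have hBli' : LinearIndependent κ (fun x : B => (x : CotangentSpace P₀)) := hBli
  have hBfin : B.Finite := hBli'.setFinite
  have hb₁fin : b₁.Finite := hBfin.subset hb₁B
  -- lifts
  have hl : ∀ v : CotangentSpace P₀, ∃ x : ↥m, tc x = v ∧ (v ∈ b₁ → (x : P₀) ∈ I₀) := by
    intro v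
    by_cases hv : v ∈ b₁
    · obtain ⟨x, hx, rfl⟩ := hb₁S hv
      exact ⟨x, rfl, fun _ => hx⟩
    · obtain ⟨x, rfl⟩ := m.toCotangent_surjective v
      exact ⟨x, rfl, fun h => absurd h hv⟩
  choose lift hlift hliftI using hl
  let g : CotangentSpace P₀ → P₀ := fun v => ((lift v : ↥m) : P₀)
  have hBdfin : (B \ b₁).Finite := hBfin.subset Set.sdiff_subset
  let F₁ : Finset P₀ := hb₁fin.toFinset.image g
  let F₂ : Finset P₀ := hBdfin.toFinset.image g
  have hF₁ : (F₁ : Set P₀) = g '' b₁ := by simp [F₁]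
  have hF₂ : (F₂ : Set P₀) = g '' (B \ b₁) := by simp [F₂]
  have hF₁₂ : (F₁ : Set P₀) ∪ F₂ = g '' B := by
    rw [hF₁, hF₂, ← Set.image_union, Set.union_sdiff_cancel hb₁B]
  -- the maximal ideal is generated by the lifts
  have hspanB : Submodule.span κ B = ⊤ := top_le_iff.1 (fun x _ => hBspan (Set.mem_univ x))
  have htcB : tc '' (lift '' B) = B := by
    rw [Set.image_image]
    simp only [hlift, Set.image_id']
  have hsB : Submodule.span P₀ (lift '' B) = ⊤ := by
    rw [← CotangentSpace.span_image_eq_top_iff]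
    show Submodule.span κ (tc '' (lift '' B)) = ⊤
    rw [htcB, hspanB]
  have hm : m = Ideal.span ((F₁ : Set P₀) ∪ F₂) := by
    have h1 : Submodule.map m.subtype (Submodule.span P₀ (lift '' B)) = m := by
      rw [hsB, Submodule.map_top, Submodule.range_subtype]
    rw [Submodule.map_span, Set.image_image] at h1
    rw [hF₁₂]
    exact h1.symm
  let 𝔟 : Ideal P₀ := Ideal.span (F₁ : Set P₀)
  have h𝔟I : 𝔟 ≤ I₀ := by
    rw [Ideal.span_le, hF₁]
    rintro _ ⟨v, hv, rfl⟩
    exact hliftI v hv
  have h𝔟m : 𝔟 ≤ m := h𝔟I.trans hI₀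
  have : Nontrivial (P₀ ⧸ 𝔟) := Ideal.Quotient.nontrivial_iff.2 (fun h =>
    (IsLocalRing.maximalIdeal.isMaximal P₀).ne_top (top_le_iff.1 (h ▸ h𝔟m)))
  have hloc : IsLocalRing (P₀ ⧸ 𝔟) :=
    IsLocalRing.of_surjective' (Ideal.Quotient.mk 𝔟) Ideal.Quotient.mk_surjective
  refine ⟨𝔟, h𝔟I, ?_, ?_⟩
  · -- I₀ ≤ 𝔟 + 𝔪²
    intro x hx
    have hxm : x ∈ m := hI₀ hx
    have h1 : tc ⟨x, hxm⟩ ∈ Submodule.span κ b₁ := by
      rw [hb₁span]
      exact Submodule.subset_span ⟨⟨x, hxm⟩, hx, rfl⟩
    have htcb₁ : tc '' (lift '' b₁) = b₁ := by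
      rw [Set.image_image]
      simp only [hlift, Set.image_id']
    have h2 : (Submodule.span κ b₁).restrictScalars P₀ =
        Submodule.map tc (Submodule.span P₀ (lift '' b₁)) := by
      rw [Submodule.map_span, htcb₁]
      exact Submodule.restrictScalars_span P₀ κ IsLocalRing.residue_surjective b₁
    have h3 : tc ⟨x, hxm⟩ ∈ Submodule.map tc (Submodule.span P₀ (lift '' b₁)) := by
      rw [← h2]; exact h1
    obtain ⟨y, hy, hyx⟩ := h3
    have h4 : (y : P₀) - x ∈ m ^ 2 := (Ideal.toCotangent_eq m).1 hyx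
    have h5 : (y : P₀) ∈ 𝔟 := by
      have : (y : P₀) ∈ Submodule.map m.subtype (Submodule.span P₀ (lift '' b₁)) :=
        ⟨y, hy, rfl⟩
      rw [Submodule.map_span, Set.image_image] at this
      show (y : P₀) ∈ Ideal.span (F₁ : Set P₀)
      rw [hF₁]
      exact this
    have : x = (y : P₀) + -((y : P₀) - x) := by ring
    rw [this]
    exact Submodule.add_mem_sup h5 ((m ^ 2).neg_mem h4)
  · -- regularity
    have hmax : maximalIdeal (P₀ ⧸ 𝔟) = m.map (Ideal.Quotient.mk 𝔟) :=
      (IsLocalRing.map_maximalIdeal_of_surjective (Ideal.Quotient.mk 𝔟)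
        Ideal.Quotient.mk_surjective).symm
    have hmax' : maximalIdeal (P₀ ⧸ 𝔟) = Ideal.span (Ideal.Quotient.mk 𝔟 '' (F₂ : Set P₀)) := by
      rw [hmax, hm, Ideal.span_union, Ideal.map_sup, Ideal.map_span (Ideal.Quotient.mk 𝔟) (F₂ : Set P₀)]
      have : (Ideal.span (F₁ : Set P₀)).map (Ideal.Quotient.mk 𝔟) = ⊥ := Ideal.map_quotient_self 𝔟
      rw [this, bot_sup_eq]
    have hμ : (maximalIdeal (P₀ ⧸ 𝔟)).spanFinrank ≤ F₂.card := by
      rw [hmax']
      refine (Submodule.spanFinrank_span_le_ncard_of_finite (F₂.finite_toSet.image _)).trans ?_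
      refine (Set.ncard_image_le F₂.finite_toSet).trans ?_
      rw [Set.ncard_coe_finset]
    have hKr : ringKrullDim P₀ ≤ ringKrullDim (P₀ ⧸ 𝔟) + (F₁.card : WithBot ℕ∞) := by
      have := ringKrullDim_le_ringKrullDim_quotient_add_card F₁ (by
        rw [IsLocalRing.ringJacobson_eq_maximalIdeal]
        exact fun x hx => h𝔟m (Ideal.subset_span hx))
      exact_mod_cast this
    have hcard : F₂.card + F₁.card ≤ (maximalIdeal P₀).spanFinrank := by
      rw [IsLocalRing.spanFinrank_maximalIdeal_eq_finrank_cotangentSpace]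
      have h1 : F₁.card ≤ hb₁fin.toFinset.card := Finset.card_image_le
      have h2 : F₂.card ≤ hBdfin.toFinset.card := Finset.card_image_le
      have h3 : hBdfin.toFinset.card + hb₁fin.toFinset.card = hBfin.toFinset.card := by
        rw [← Finset.card_union_of_disjoint]
        · congr 1
          ext v
          simp only [Finset.mem_union, Set.Finite.mem_toFinset, Set.mem_sdiff]
          constructor
          · rintro (h | h)
            · exact h.1
            · exact hb₁B h
          · intro h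
            by_cases hv : v ∈ b₁
            · exact Or.inr hv
            · exact Or.inl ⟨h, hv⟩
        · rw [Finset.disjoint_left]
          intro v hv hv'
          simp only [Set.Finite.mem_toFinset, Set.mem_sdiff] at hv hv'
          exact hv.2 hv'
      have h4 : hBfin.toFinset.card ≤ Module.finrank (ResidueField P₀) (CotangentSpace P₀) := by
        apply LinearIndependent.finset_card_le_finrank
        have : (fun x : ↥hBfin.toFinset => (x : CotangentSpace P₀)) =
            (fun x : B => (x : CotangentSpace P₀)) ∘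
              (fun x : ↥hBfin.toFinset => ⟨x.1, hBfin.mem_toFinset.1 x.2⟩) := rfl
        rw [this]
        exact hBli'.comp _ (fun x y h => Subtype.ext (by simpa using congrArg Subtype.val h))
      omega
    have hreg : ((maximalIdeal P₀).spanFinrank : WithBot ℕ∞) = ringKrullDim P₀ :=
      IsRegularLocalRing.spanFinrank_maximalIdeal
    apply IsRegularLocalRing.of_spanFinrank_maximalIdeal_le
    apply cancel_aux _ _ F₁.card
    calc (((maximalIdeal (P₀ ⧸ 𝔟)).spanFinrank + F₁.card : ℕ) : WithBot ℕ∞)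
        ≤ ((maximalIdeal P₀).spanFinrank : WithBot ℕ∞) := by
          exact_mod_cast (Nat.add_le_add_right hμ _).trans hcard
      _ = ringKrullDim P₀ := hreg
      _ ≤ _ := hKr

/-- A local ring essentially of finite type over a field is a quotient of a regular local algebra. -/
theorem exists_presentation (k : Type u) [Field k] (R : Type u) [CommRing R] [IsLocalRing R]
    [Algebra k R] [Algebra.EssFiniteType k R] :
    ∃ (P₀ : Type u) (_ : CommRing P₀) (_ : IsRegularLocalRing P₀) (_ : Algebra k P₀)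
      (π₀ : P₀ →ₐ[k] R), Function.Surjective π₀ := by
  classical
  obtain ⟨σ, hσ⟩ := (Algebra.essFiniteType_iff k R).1 inferInstance
  let A := MvPolynomial σ k
  let a : A →ₐ[k] R := MvPolynomial.aeval (fun i : σ => (i : R))
  have hrange : ∀ t ∈ Algebra.adjoin k (σ : Set R), ∃ g : A, a g = t := by
    intro t ht
    have : Algebra.adjoin k (σ : Set R) = a.range := by
      rw [Algebra.adjoin_eq_range]
      rfl
    rw [this] at ht
    exact ht
  let 𝔭 : Ideal A := (maximalIdeal R).comap a
  have h𝔭 : 𝔭.IsPrime := Ideal.comap_isPrime a (maximalIdeal R)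
  have hunit : ∀ y : 𝔭.primeCompl, IsUnit (a y) := by
    intro y
    have : (y : A) ∉ 𝔭 := y.2
    by_contra h
    exact this ((IsLocalRing.mem_maximalIdeal _).2 h)
  let π₀ : Localization.AtPrime 𝔭 →ₐ[k] R := IsLocalization.liftAlgHom (M := 𝔭.primeCompl) hunit
  refine ⟨Localization.AtPrime 𝔭, inferInstance, inferInstance, inferInstance, π₀, ?_⟩
  intro s
  obtain ⟨t, ht, htu, hst⟩ := hσ s
  obtain ⟨g, hg⟩ := hrange t ht
  obtain ⟨h, hh⟩ := hrange (s * t) hst
  have hg𝔭 : g ∈ 𝔭.primeCompl := by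
    intro hmem
    have : a g ∈ maximalIdeal R := hmem
    rw [hg] at this
    exact (IsLocalRing.mem_maximalIdeal _).1 this htu
  refine ⟨IsLocalization.mk' (Localization.AtPrime 𝔭) h ⟨g, hg𝔭⟩, ?_⟩
  show IsLocalization.lift hunit (IsLocalization.mk' (Localization.AtPrime 𝔭) h ⟨g, hg𝔭⟩) = s
  rw [IsLocalization.lift_mk'_spec]
  show a h = a g * s
  rw [hh, hg, mul_comm]

end Groth.Agent.LibObs29
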