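import Mathlib

/-!
# Injectivity of `A ⊗_B Ω[B⁄C] → Ω[A⁄C]` (helper29; algebra part of S13458)

`mapBaseChange_injective`: `C → B → A` with `Ω[B⁄C]` flat over `B`, and `L` a field with an
injective map `A → L` such that `B → L` is formally étale (e.g. `A`, `B` domains, `Frac A` separable
algebraic over `Frac B`).  Then `A ⊗_B Ω[B⁄C] → Ω[A⁄C]` is injective.
-/

set_option autoImplicit false
set_option linter.style.haveILetI false
universe u

open TensorProduct KaehlerDifferential

namespace Groth.Agent.LibOmegaMono29

theorem mapBaseChange_injective (C B A L : Type u) [CommRing C] [CommRing B] [CommRing A]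
    [CommRing L] [Algebra C B] [Algebra B A] [Algebra C A] [IsScalarTower C B A]
    [Algebra A L] [Algebra B L] [Algebra C L] [IsScalarTower B A L] [IsScalarTower C B L]
    [IsScalarTower C A L]
    (hinj : Function.Injective (algebraMap A L)) [Module.Flat B Ω[B⁄C]]
    [Algebra.FormallyEtale B L] :
    Function.Injective (KaehlerDifferential.mapBaseChange C B A) := by
  let ι : A →ₗ[B] L := (IsScalarTower.toAlgHom B A L).toLinearMap
  have hι : Function.Injective ι := hinj
  have h1 : Function.Injective (ι.rTensor Ω[B⁄C]) :=
    Module.Flat.rTensor_preserves_injective_linearMap ι hι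
  let e := KaehlerDifferential.tensorKaehlerEquivOfFormallyEtale C B L
  have key : ∀ x : A ⊗[B] Ω[B⁄C],
      KaehlerDifferential.map C C A L (KaehlerDifferential.mapBaseChange C B A x) =
        e (ι.rTensor Ω[B⁄C] x) := by
    intro x
    induction x using TensorProduct.induction_on with
    | zero => simp
    | add x y hx hy => rw [map_add, map_add, hx, hy, map_add, map_add]
    | tmul a m =>
      rw [KaehlerDifferential.mapBaseChange_tmul, LinearMap.rTensor_tmul,
        KaehlerDifferential.tensorKaehlerEquivOfFormallyEtale_apply,
        KaehlerDifferential.mapBaseChange_tmul, map_smul]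
      have h2 : ∀ m : Ω[B⁄C], KaehlerDifferential.map C C A L (KaehlerDifferential.map C C B A m) =
          KaehlerDifferential.map C C B L m := by
        intro m
        have hm : m ∈ Submodule.span B (Set.range (D C B)) := by
          rw [KaehlerDifferential.span_range_derivation]; trivial
        induction hm using Submodule.span_induction with
        | mem y hy =>
          obtain ⟨b, rfl⟩ := hy
          rw [KaehlerDifferential.map_D, KaehlerDifferential.map_D, KaehlerDifferential.map_D,
            ← IsScalarTower.algebraMap_apply]
        | zero => simp
        | add y z _ _ hy hz => rw [map_add, map_add, map_add, hy, hz]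
        | smul b y _ hy =>
          rw [map_smul (KaehlerDifferential.map C C B A), ← algebraMap_smul A b, map_smul, hy,
            map_smul (KaehlerDifferential.map C C B L), ← algebraMap_smul L (algebraMap B A b),
            ← algebraMap_smul L b, ← IsScalarTower.algebraMap_apply]
      rw [h2]
      exact (algebraMap_smul L a _).symm
  intro x y hxy
  apply h1
  apply e.injective
  rw [← key, ← key, hxy]

end Groth.Agent.LibOmegaMono29
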