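import Mathlib
import Groth.Prelude
import Groth.Agent.LibOmegaMono29a
import Groth.Agent.LibGenSmooth29a
import Groth.Agent.Lib.Helper7.OmegaSeq
import Groth.Agent.Lib.Helper7.KerSections

/-!
# `φ^*Ω_Y → Ω_X` is a monomorphism for dominant separable morphisms (helper29; S13458)

* `chart_injective` : on an affine chart `(U, V, W)` of `X → Y → Z` the map `f^*Ω_{Y/Z} → Ω_{X/Z}`
  is injective on sections over `U` as soon as `A ⊗_B Ω[B⁄C] → Ω[A⁄C]` is (uses helper7's
  `OmegaSeqAlg.comp_left`);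
* `chart_mapBaseChange_injective`, `mono_pullback_differentials` : `X`, `Y` integral, `Y` smooth
  over a field `k`, `φ : X ⟶ Y` dominant with `κ(ξ_X)/κ(φ ξ_X)` separable algebraic ⇒
  `φ^*Ω_{Y/k} → Ω_{X/k}` is a monomorphism.
-/

set_option autoImplicit false
set_option linter.style.haveILetI false
set_option linter.unusedSectionVars false
universe u

open CategoryTheory CategoryTheory.Limits AlgebraicGeometry TopologicalSpace Opposite
open Scheme.Modules

namespace Groth.Agent.LibOmegaMono29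

open Groth.Agent.Lib.helper8.PullbackUnit Groth.Agent.Lib.helper7.OmegaChart
open Groth.Agent.Lib.helper7

section Chart

variable {X Y Z : Scheme.{u}} (f : X ⟶ Y) (g : Y ⟶ Z)
  {ΩY : Y.Modules} (dY : OmegaSh.Der g ΩY) (hY : OmegaSh.IsUniversal dY)
  {ΩX : X.Modules} (dX : OmegaSh.Der (f ≫ g) ΩX) (hX : OmegaSh.IsUniversal dX)
  (c₁ : (Scheme.Modules.pullback f).obj ΩY ⟶ ΩX) (hc₁ : OmegaSh.IsDiffCompat f dY dX c₁)

include hY hX hc₁ in
/-- on a chart, `f^*Ω_{Y/Z} → Ω_{X/Z}` is injective iff `A ⊗_B Ω[B⁄C] → Ω[A⁄C]` is -/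
theorem chart_injective {U : X.Opens} (hU : IsAffineOpen U) {V : Y.Opens} (hV : IsAffineOpen V)
    {W : Z.Opens} (hW : IsAffineOpen W) (eUV : U ≤ f ⁻¹ᵁ V) (eVW : V ≤ g ⁻¹ᵁ W)
    (hinj : letI algCB := (g.appLE W V eVW).hom.toAlgebra
      letI algBA := (f.appLE V U eUV).hom.toAlgebra
      letI algCA := ((f ≫ g).appLE W U (fun x hx => eVW (eUV hx))).hom.toAlgebra
      ∀ [IsScalarTower Γ(Z, W) Γ(Y, V) Γ(X, U)],
        Function.Injective (KaehlerDifferential.mapBaseChange Γ(Z, W) Γ(Y, V) Γ(X, U))) :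
    Function.Injective (c₁.app U).hom := by
  have eUW : U ≤ (f ≫ g) ⁻¹ᵁ W := fun x hx => eVW (eUV hx)
  letI algCB := (g.appLE W V eVW).hom.toAlgebra
  letI algBA := (f.appLE V U eUV).hom.toAlgebra
  letI algCA := ((f ≫ g).appLE W U eUW).hom.toAlgebra
  haveI : IsScalarTower Γ(Z, W) Γ(Y, V) Γ(X, U) := IsScalarTower.of_algebraMap_eq' (by
    change ((f ≫ g).appLE W U eUW).hom = (f.appLE V U eUV).hom.comp (g.appLE W V eVW).hom
    rw [← CommRingCat.hom_comp, Scheme.Hom.appLE_comp_appLE])
  obtain ⟨ψY, hψY⟩ := OmegaStruct.exists_sectionsEquiv g dY hY hV hW eVW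
  obtain ⟨ψX, hψX⟩ := OmegaStruct.exists_sectionsEquiv (f ≫ g) dX hX hU hW eUW
  haveI : ΩY.IsQuasicoherent := OmegaQCoh.isQuasicoherent_of_isUniversal g dY hY
  have hk : IsBC (algebraMap Γ(Y, V) Γ(X, U)) (ρ f eUV ΩY) := isBC_ρ f hV hU eUV ΩY
  have hc₁' : ∀ b : Γ(Y, V), linApp c₁ U (ρ f eUV ΩY (dY.app V b)) =
      dX.app U (algebraMap Γ(Y, V) Γ(X, U) b) := fun b => diffCompat_app f dY dX c₁ hc₁ eUV b
  obtain ⟨e, he⟩ := OmegaSeqAlg.exists_equiv_of_isBC hk
  have hL := OmegaSeqAlg.comp_left Γ(Z, W) Γ(Y, V) Γ(X, U) (dY.app V) ψY hψY (dX.app U) ψX hψX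
    (ρ f eUV ΩY) hk (linApp c₁ U) hc₁' e he
  intro p q hpq
  have h1 : ψX (linApp c₁ U p) = ψX (linApp c₁ U q) := by
    rw [linApp_apply, linApp_apply, hpq]
  rw [hL, hL] at h1
  have h2 := hinj h1
  exact e.injective ((TensorProduct.AlgebraTensorModule.congr (LinearEquiv.refl Γ(X, U) Γ(X, U))
    ψY).injective h2)

end Chart

section Main

open Groth.Agent.LibGenSmooth29

set_option backward.isDefEq.respectTransparency false in
/-- injectivity on a nonempty chart -/
theorem chart_mapBaseChange_injective (k : Type u) [Field k] {X Y : Scheme.{u}}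
    (pY : Y ⟶ Spec (CommRingCat.of k)) (φ : X ⟶ Y)
    [IsIntegral X] [IsIntegral Y] [Smooth pY] (hdom : DenseRange φ.base)
    (hsep : letI := (φ.residueFieldMap (genericPoint X)).hom.toAlgebra
      Algebra.IsSeparable (Y.residueField (φ.base (genericPoint X)))
        (X.residueField (genericPoint X)))
    {U : X.Opens} (hU : IsAffineOpen U) (hUne : (U : Set X).Nonempty)
    {V : Y.Opens} (hV : IsAffineOpen V) (eUV : U ≤ φ ⁻¹ᵁ V) :
    letI algCB := (pY.appLE ⊤ V le_top).hom.toAlgebra
    letI algBA := (φ.appLE V U eUV).hom.toAlgebra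
    letI algCA := ((φ ≫ pY).appLE ⊤ U (fun x hx => (le_top : V ≤ pY ⁻¹ᵁ ⊤) (eUV hx))).hom.toAlgebra
    ∀ [IsScalarTower Γ(Spec (CommRingCat.of k), ⊤) Γ(Y, V) Γ(X, U)],
      Function.Injective (KaehlerDifferential.mapBaseChange Γ(Spec (CommRingCat.of k), ⊤)
        Γ(Y, V) Γ(X, U)) := by
  letI algCB : Algebra Γ(Spec (CommRingCat.of k), ⊤) Γ(Y, V) :=
    (pY.appLE ⊤ V le_top).hom.toAlgebra
  letI algBA : Algebra Γ(Y, V) Γ(X, U) := (φ.appLE V U eUV).hom.toAlgebra
  letI algCA : Algebra Γ(Spec (CommRingCat.of k), ⊤) Γ(X, U) :=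
    ((φ ≫ pY).appLE ⊤ U (fun x hx => (le_top : V ≤ pY ⁻¹ᵁ ⊤) (eUV hx))).hom.toAlgebra
  intro inst
  have hξU : genericPoint X ∈ U :=
    ((genericPoint_spec X).mem_open_set_iff U.isOpen).mpr (by simpa using hUne)
  have hηV : φ (genericPoint X) ∈ V := eUV hξU
  letI algAL : Algebra Γ(X, U) (X.residueField (genericPoint X)) :=
    (X.evaluation U (genericPoint X) hξU).hom.toAlgebra
  letI algBL : Algebra Γ(Y, V) (X.residueField (genericPoint X)) :=
    ((algebraMap Γ(X, U) (X.residueField (genericPoint X))).comp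
      (algebraMap Γ(Y, V) Γ(X, U))).toAlgebra
  letI algCL : Algebra Γ(Spec (CommRingCat.of k), ⊤) (X.residueField (genericPoint X)) :=
    ((algebraMap Γ(X, U) (X.residueField (genericPoint X))).comp
      (algebraMap Γ(Spec (CommRingCat.of k), ⊤) Γ(X, U))).toAlgebra
  haveI : IsScalarTower Γ(Y, V) Γ(X, U) (X.residueField (genericPoint X)) :=
    IsScalarTower.of_algebraMap_eq' rfl
  haveI : IsScalarTower Γ(Spec (CommRingCat.of k), ⊤) Γ(X, U)
      (X.residueField (genericPoint X)) := IsScalarTower.of_algebraMap_eq' rfl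
  haveI : IsScalarTower Γ(Spec (CommRingCat.of k), ⊤) Γ(Y, V)
      (X.residueField (genericPoint X)) := by
    refine IsScalarTower.of_algebraMap_eq' ?_
    change (algebraMap Γ(X, U) (X.residueField (genericPoint X))).comp
      (algebraMap Γ(Spec (CommRingCat.of k), ⊤) Γ(X, U)) =
      ((algebraMap Γ(X, U) (X.residueField (genericPoint X))).comp
        (algebraMap Γ(Y, V) Γ(X, U))).comp (algebraMap Γ(Spec (CommRingCat.of k), ⊤) Γ(Y, V))
    rw [RingHom.comp_assoc,
      ← IsScalarTower.algebraMap_eq Γ(Spec (CommRingCat.of k), ⊤) Γ(Y, V) Γ(X, U)]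
  -- `A → L` is injective
  have hinjAL : Function.Injective (algebraMap Γ(X, U) (X.residueField (genericPoint X))) := by
    change Function.Injective (X.evaluation U (genericPoint X) hξU).hom
    have h1 := germ_injective_of_isIntegral X (genericPoint X) hξU
    have h2 : Function.Injective (X.residue (genericPoint X)).hom :=
      RingHom.injective (R := X.functionField) (X.residue (genericPoint X)).hom
    exact h2.comp h1
  -- `Ω[B⁄C]` is flat
  haveI : Module.Flat Γ(Y, V) Ω[Γ(Y, V)⁄Γ(Spec (CommRingCat.of k), ⊤)] := by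
    have hsm : (pY.appLE ⊤ V le_top).hom.Smooth :=
      HasRingHomProperty.appLE (P := @Smooth) pY inferInstance
        ⟨⊤, isAffineOpen_top _⟩ ⟨V, hV⟩ _
    haveI : Algebra.Smooth Γ(Spec (CommRingCat.of k), ⊤) Γ(Y, V) :=
      RingHom.smooth_algebraMap.mp hsm
    infer_instance
  -- `B → L` is formally étale
  have hη : φ (genericPoint X) = genericPoint Y := map_genericPoint_of_denseRange φ hdom
  let eK := (Y.presheaf.stalkCongr (.of_eq hη)).commRingCatIsoToRingEquiv
  have hS : IsField (Y.presheaf.stalk (φ (genericPoint X))) :=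
    eK.toMulEquiv.isField (Field.toIsField Y.functionField)
  letI fK' : Field (Y.presheaf.stalk (φ (genericPoint X))) := hS.toField
  letI algBK' : Algebra Γ(Y, V) (Y.presheaf.stalk (φ (genericPoint X))) :=
    TopCat.Presheaf.algebra_section_stalk Y.presheaf (⟨φ (genericPoint X), hηV⟩ : V)
  haveI : IsLocalization.AtPrime (Y.presheaf.stalk (φ (genericPoint X)))
      (hV.primeIdealOf ⟨φ (genericPoint X), hηV⟩).asIdeal :=
    hV.isLocalization_stalk ⟨φ (genericPoint X), hηV⟩
  haveI : Algebra.FormallyEtale Γ(Y, V) (Y.presheaf.stalk (φ (genericPoint X))) :=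
    Algebra.FormallyEtale.of_isLocalization
      (hV.primeIdealOf ⟨φ (genericPoint X), hηV⟩).asIdeal.primeCompl
  letI algKL : Algebra (Y.residueField (φ (genericPoint X))) (X.residueField (genericPoint X)) :=
    (φ.residueFieldMap (genericPoint X)).hom.toAlgebra
  haveI : Algebra.IsSeparable (Y.residueField (φ (genericPoint X)))
      (X.residueField (genericPoint X)) := hsep
  haveI : Algebra.FormallyEtale (Y.residueField (φ (genericPoint X)))
      (X.residueField (genericPoint X)) := Algebra.FormallyEtale.of_isSeparable _ _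
  letI algK'K : Algebra (Y.presheaf.stalk (φ (genericPoint X)))
      (Y.residueField (φ (genericPoint X))) := (Y.residue (φ (genericPoint X))).hom.toAlgebra
  have hbij : Function.Bijective (algebraMap (Y.presheaf.stalk (φ (genericPoint X)))
      (Y.residueField (φ (genericPoint X)))) :=
    ⟨RingHom.injective _, Y.residue_surjective (φ (genericPoint X))⟩
  haveI : Algebra.FormallyEtale (Y.presheaf.stalk (φ (genericPoint X)))
      (Y.residueField (φ (genericPoint X))) :=
    Algebra.FormallyEtale.of_equiv (AlgEquiv.ofBijective (Algebra.ofId _ _) hbij)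
  letI algK'L : Algebra (Y.presheaf.stalk (φ (genericPoint X)))
      (X.residueField (genericPoint X)) :=
    ((algebraMap (Y.residueField (φ (genericPoint X))) (X.residueField (genericPoint X))).comp
      (algebraMap (Y.presheaf.stalk (φ (genericPoint X)))
        (Y.residueField (φ (genericPoint X))))).toAlgebra
  haveI : IsScalarTower (Y.presheaf.stalk (φ (genericPoint X)))
      (Y.residueField (φ (genericPoint X))) (X.residueField (genericPoint X)) :=
    IsScalarTower.of_algebraMap_eq' rfl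
  haveI : Algebra.FormallyEtale (Y.presheaf.stalk (φ (genericPoint X)))
      (X.residueField (genericPoint X)) :=
    Algebra.FormallyEtale.comp _ (Y.residueField (φ (genericPoint X))) _
  haveI : IsScalarTower Γ(Y, V) (Y.presheaf.stalk (φ (genericPoint X)))
      (X.residueField (genericPoint X)) := by
    refine IsScalarTower.of_algebraMap_eq' ?_
    ext b
    change (X.evaluation U (genericPoint X) hξU).hom ((φ.appLE V U eUV).hom b) =
      (φ.residueFieldMap (genericPoint X)).hom
        ((Y.evaluation V (φ (genericPoint X)) hηV).hom b)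
    have h1 := Scheme.evaluation_naturality_apply φ (genericPoint X) hηV b
    refine Eq.trans ?_ h1.symm
    simp only [Scheme.evaluation, Scheme.Hom.appLE, CommRingCat.hom_comp, RingHom.coe_comp,
      Function.comp_apply, X.presheaf.germ_res_apply]
  haveI : Algebra.FormallyEtale Γ(Y, V) (X.residueField (genericPoint X)) :=
    Algebra.FormallyEtale.comp _ (Y.presheaf.stalk (φ (genericPoint X))) _
  exact mapBaseChange_injective Γ(Spec (CommRingCat.of k), ⊤) Γ(Y, V) Γ(X, U)
    (X.residueField (genericPoint X)) hinjAL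

/-- **`φ^*Ω_Y → Ω_X` is a monomorphism** for a dominant separable (algebraic) morphism of integral
schemes, `Y` smooth over `k`. -/
theorem mono_pullback_differentials (k : Type u) [Field k] {X Y : Scheme.{u}}
    (pY : Y ⟶ Spec (CommRingCat.of k)) (φ : X ⟶ Y)
    [IsIntegral X] [IsIntegral Y] [Smooth pY] (hdom : DenseRange φ.base)
    (hsep : letI := (φ.residueFieldMap (genericPoint X)).hom.toAlgebra
      Algebra.IsSeparable (Y.residueField (φ.base (genericPoint X)))
        (X.residueField (genericPoint X)))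
    (ΩY : Y.Modules) (dY : OmegaSh.Der pY ΩY) (hY : OmegaSh.IsUniversal dY)
    (ΩX : X.Modules) (dX : OmegaSh.Der (φ ≫ pY) ΩX) (hX : OmegaSh.IsUniversal dX)
    (c : (Scheme.Modules.pullback φ).obj ΩY ⟶ ΩX) (hc : OmegaSh.IsDiffCompat φ dY dX c) :
    Mono c := by
  haveI : ΩY.IsQuasicoherent := OmegaQCoh.isQuasicoherent_of_isUniversal pY dY hY
  haveI : ΩX.IsQuasicoherent := OmegaQCoh.isQuasicoherent_of_isUniversal (φ ≫ pY) dX hX
  haveI : ((Scheme.Modules.pullback φ).obj ΩY).IsQuasicoherent :=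
    Groth.Agent.Lib.helper16.QCohPullback.isQuasicoherent_pullback φ ΩY
  let ι := {t : X.affineOpens × Y.affineOpens // t.1.1 ≤ φ ⁻¹ᵁ t.2.1 ∧ (t.1.1 : Set X).Nonempty}
  refine KerSections.mono_of_injective_cover c (fun t : ι => t.1.1.1) (fun t => t.1.1.2)
    (fun x => ?_) (fun t => ?_)
  · obtain ⟨V, hV, hxV, -⟩ := Opens.isBasis_iff_nbhd.mp Y.isBasis_affineOpens
      (show φ x ∈ (⊤ : Y.Opens) from trivial)
    obtain ⟨U, hU, hxU, hUV⟩ := Opens.isBasis_iff_nbhd.mp X.isBasis_affineOpens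
      (show x ∈ φ ⁻¹ᵁ V from hxV)
    exact ⟨⟨(⟨U, hU⟩, ⟨V, hV⟩), hUV, ⟨x, hxU⟩⟩, hxU⟩
  · obtain ⟨⟨⟨U, hU⟩, ⟨V, hV⟩⟩, eUV, hne⟩ := t
    exact chart_injective φ pY dY hY dX hX c hc hU hV (isAffineOpen_top _) eUV le_top
      (by
        intro inst
        exact chart_mapBaseChange_injective k pY φ hdom hsep hU hne hV eUV)

end Main

end Groth.Agent.LibOmegaMono29
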