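import Groth.Statements.S3818
import Groth.Agent.LibDiff29g
-- import your own Groth.Agent.* helpers here

set_option autoImplicit false
universe u
open scoped TensorProduct
open scoped BigOperators
open PP16

namespace Groth.Agent.S3818

open Groth.Agent.LibDiff29 Diff16

section

variable {B : Type u} [CommRing B] {ι : Type} [Fintype ι] [DecidableEq ι]

lemma coeff_prod_shift' (z : ι → B) (q : ι → ℕ) (p : ι →₀ ℕ) :
    MvPolynomial.coeff p (∏ i, (MvPolynomial.C (z i) + MvPolynomial.X i) ^ (q i)) =
      ((∏ i, Nat.choose (q i) (p i) : ℕ) : B) * ∏ i, z i ^ (q i - p i) := by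
  classical
  have h1 : ∀ i, (MvPolynomial.C (z i) + MvPolynomial.X i : MvPolynomial ι B) ^ (q i) =
      ∑ j ∈ Finset.range (q i + 1), MvPolynomial.monomial (Finsupp.single i j)
        (((Nat.choose (q i) j : ℕ) : B) * (z i) ^ (q i - j)) := by
    intro i
    rw [add_comm, add_pow]
    refine Finset.sum_congr rfl fun j _ => ?_
    rw [MvPolynomial.X_pow_eq_monomial, ← MvPolynomial.C_pow, mul_comm (MvPolynomial.monomial _ _),
      MvPolynomial.C_mul_monomial, mul_one, mul_comm, ← map_natCast (MvPolynomial.C (σ := ι) (R := B)),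
      MvPolynomial.C_mul_monomial]
  simp_rw [h1]
  rw [Finset.prod_univ_sum, MvPolynomial.coeff_sum]
  have h2 : ∀ k : ι → ℕ,
      (∏ i, MvPolynomial.monomial (Finsupp.single i (k i))
        (((Nat.choose (q i) (k i) : ℕ) : B) * (z i) ^ (q i - k i))) =
      MvPolynomial.monomial (Finsupp.equivFunOnFinite.symm k)
        (∏ i, (((Nat.choose (q i) (k i) : ℕ) : B) * (z i) ^ (q i - k i))) := by
    intro k
    rw [← MvPolynomial.monomial_sum_prod]
    have := Finsupp.univ_sum_single (Finsupp.equivFunOnFinite.symm k)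
    simp only [Finsupp.equivFunOnFinite_symm_apply_apply] at this
    rw [this]
  simp_rw [h2, MvPolynomial.coeff_monomial]
  by_cases hp : ∀ i, p i ≤ q i
  · rw [Finset.sum_eq_single (⇑p)]
    · rw [if_pos (by ext i; simp), Finset.prod_mul_distrib, Nat.cast_prod]
    · intro k _ hk
      rw [if_neg]
      intro h
      apply hk
      rw [← h]; rfl
    · intro h
      exfalso; apply h
      simp only [Fintype.mem_piFinset, Finset.mem_range]
      intro i; have := hp i; omega
  · push Not at hp
    obtain ⟨i, hi⟩ := hp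
    rw [Finset.sum_eq_zero]
    · have : (∏ i, Nat.choose (q i) (p i)) = 0 :=
        Finset.prod_eq_zero (Finset.mem_univ i) (Nat.choose_eq_zero_of_lt hi)
      rw [this]; simp
    · intro k hk
      rw [if_neg]
      intro h
      simp only [Fintype.mem_piFinset, Finset.mem_range] at hk
      have := hk i
      rw [← h] at hi
      simp at hi
      omega

end

section main

variable {A B : Type u} [CommRing A] [CommRing B] [Algebra A B]
variable {ι : Type} [Fintype ι] [DecidableEq ι] (z : ι → B)
variable (hz : Submodule.span B (Set.range fun i => KaehlerDifferential.D A B (z i)) = ⊤)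
variable (Dp : (ι → ℕ) → (B →ₗ[A] B)) (hD : ∀ p, ∃ k : ℕ, Diff16.IsDiffOpLE A B B B k (Dp p))
variable (hDz : ∀ p q : ι → ℕ, Dp p (∏ i, z i ^ q i) =
        ((∏ i, Nat.choose (q i) (p i) : ℕ) : B) * ∏ i, z i ^ (q i - p i))

/-- the polynomial `∏ (zᵢ + Xᵢ)^{qᵢ}` -/
noncomputable def F (q : ι → ℕ) : MvPolynomial ι B :=
  ∏ i, (MvPolynomial.C (z i) + MvPolynomial.X i) ^ (q i)

include hDz in
lemma Dp_mono (p q : ι → ℕ) :
    Dp p (∏ i, z i ^ q i) = MvPolynomial.coeff (Finsupp.equivFunOnFinite.symm p) (F z q) := by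
  rw [hDz, F, coeff_prod_shift']
  rfl

lemma F_add_single (q : ι → ℕ) (i : ι) :
    F z (q + Pi.single i 1) = (MvPolynomial.C (z i) + MvPolynomial.X i) * F z q := by
  unfold F
  exact prod_pow_add_single _ q i

include hDz in
lemma comm_mono (p q : ι → ℕ) (i : ι) :
    commutator A B B B (Dp p) (z i) (∏ j, z j ^ q j) =
      if p i = 0 then 0 else Dp (p - Pi.single i 1) (∏ j, z j ^ q j) := by
  classical
  rw [commutator_apply, smul_eq_mul, smul_eq_mul, ← prod_pow_add_single, Dp_mono z Dp hDz,
    Dp_mono z Dp hDz, F_add_single, add_mul, MvPolynomial.coeff_add, MvPolynomial.coeff_C_mul,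
    add_sub_cancel_left, MvPolynomial.coeff_X_mul']
  by_cases hpi : p i = 0
  · rw [if_pos hpi, if_neg]
    simp [hpi]
  · rw [if_neg hpi, if_pos (by simp [hpi]), Dp_mono z Dp hDz]
    congr 1
    ext j
    simp [Pi.single_apply, Finsupp.single_apply]
    by_cases hj : j = i
    · subst hj; simp
    · simp [hj, Ne.symm hj]

include hz hD hDz in
lemma comm_eq (p : ι → ℕ) (i : ι) :
    commutator A B B B (Dp p) (z i) = if p i = 0 then 0 else Dp (p - Pi.single i 1) := by
  obtain ⟨k, hk⟩ := hD p
  obtain ⟨k', hk'⟩ := hD (p - Pi.single i 1)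
  rw [← sub_eq_zero]
  have hk1 : IsDiffOpLE A B B B (k + k') (commutator A B B B (Dp p) (z i)) :=
    isDiffOpLE_of_le (by omega) ((isDiffOpLE_succ_iff k _).1 (isDiffOpLE_succ hk) (z i))
  have hk2 : IsDiffOpLE A B B B (k + k')
      (if p i = 0 then (0 : B →ₗ[A] B) else Dp (p - Pi.single i 1)) := by
    split_ifs
    · exact isDiffOpLE_zero' _
    · exact isDiffOpLE_of_le (by omega) hk'
  refine eq_zero_of_monomials_fintype z hz (k + k') _ (isDiffOpLE_sub hk1 hk2) ?_
  intro q
  rw [LinearMap.sub_apply, comm_mono z Dp hDz, sub_eq_zero]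
  split_ifs <;> simp

include hz hD hDz in
lemma Dp_zero : Dp 0 = LinearMap.id := by
  obtain ⟨k, hk⟩ := hD 0
  rw [← sub_eq_zero]
  have hid : IsDiffOpLE A B B B k (LinearMap.id : B →ₗ[A] B) :=
    isDiffOpLE_of_le (Nat.zero_le k) (fun b m => by simp)
  refine eq_zero_of_monomials_fintype z hz k _ (isDiffOpLE_sub hk hid) ?_
  intro q
  rw [LinearMap.sub_apply, hDz, sub_eq_zero]
  simp

include hz hD hDz in
lemma Dp_order (s : ℕ) : ∀ p : ι → ℕ, ∑ i, p i = s → IsDiffOpLE A B B B s (Dp p) := by
  induction s with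
  | zero =>
    intro p hp
    have hp0 : p = 0 := by
      funext i
      have := (Finset.sum_eq_zero_iff.1 hp) i (Finset.mem_univ i)
      simpa using this
    subst hp0
    rw [Dp_zero z hz Dp hD hDz]
    intro b m; simp
  | succ s ih =>
    intro p hp
    obtain ⟨k, hk⟩ := hD p
    refine isDiffOpLE_succ_of_coords z hz k s (Dp p) hk ?_
    intro i
    rw [comm_eq z hz Dp hD hDz]
    split_ifs with hpi
    · exact isDiffOpLE_zero' _
    · refine ih _ ?_
      have := sum_sub_single p i hpi
      omega

include hz hD hDz in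
lemma lam_Dp (s : ℕ) : ∀ p q : ι → ℕ, ∑ i, q i = s →
    lam z (Dp p) q = if p = q then 1 else 0 := by
  induction s with
  | zero =>
    intro p q hq
    have hq0 : q = 0 := by
      funext i
      have := (Finset.sum_eq_zero_iff.1 hq) i (Finset.mem_univ i)
      simpa using this
    subst hq0
    rw [lam_zero]
    have h1 := hDz p 0
    simp only [Pi.zero_apply, pow_zero, Finset.prod_const_one, zero_tsub, mul_one] at h1
    rw [h1]
    by_cases hp : p = 0
    · subst hp; simp
    · rw [if_neg hp]
      have : ∃ i, p i ≠ 0 := by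
        by_contra hcon
        push Not at hcon
        exact hp (funext hcon)
      obtain ⟨i, hi⟩ := this
      rw [Finset.prod_eq_zero (Finset.mem_univ i) (Nat.choose_eq_zero_of_lt (by omega))]
      simp
  | succ s ih =>
    intro p q hq
    obtain ⟨i, hi⟩ := exists_pos_of_sum_eq_succ q s hq
    have hq' : ∑ j, (q - Pi.single i 1 : ι → ℕ) j = s := by
      have := sum_sub_single q i hi
      omega
    rw [← sub_single_add_single q i hi, lam_add_single, comm_eq z hz Dp hD hDz]
    by_cases hpi : p i = 0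
    · rw [if_pos hpi, if_neg]
      · simp [lam, linearize_zero_left]
      · intro h
        have := congrFun h i
        simp only [Pi.add_apply, Pi.sub_apply, Pi.single_eq_same] at this
        omega
    · rw [if_neg hpi, ih _ _ hq']
      by_cases hpq : p - Pi.single i 1 = q - Pi.single i 1
      · rw [if_pos hpq, if_pos]
        rw [← hpq, sub_single_add_single p i hpi]
      · rw [if_neg hpq, if_neg]
        intro h
        apply hpq
        rw [h]
        funext j
        simp

lemma smul_eq_mulL_comp (c : B) (D : B →ₗ[A] B) : c • D = mulL A B c ∘ₗ D := by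
  ext t; simp [mulL_apply]

include hz hD hDz in
lemma lam_finsupp_sum (m : ℕ) (a : {p : ι → ℕ // ∑ i, p i ≤ m} →₀ B) (q : ι → ℕ) :
    lam z (a.sum fun p c => c • Dp p.1) q = if h : ∑ i, q i ≤ m then a ⟨q, h⟩ else 0 := by
  classical
  unfold lam
  rw [Finsupp.sum, linearize_sum_left]
  have h1 : ∀ p ∈ a.support, linearize A B B B (a p • Dp p.1) (∏ i, dgen (A := A) (z i) ^ q i) =
      if p.1 = q then a p else 0 := by
    intro p _
    rw [smul_eq_mulL_comp, linearize_mulL_comp]
    have := lam_Dp z hz Dp hD hDz _ p.1 q rfl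
    unfold lam at this
    rw [this]
    split_ifs <;> simp
  rw [Finset.sum_congr rfl h1]
  by_cases h : ∑ i, q i ≤ m
  · rw [dif_pos h]
    have h2 : ∀ p ∈ a.support, (if p.1 = q then a p else 0) =
        if p = ⟨q, h⟩ then a p else 0 := by
      intro p _
      have : p.1 = q ↔ p = ⟨q, h⟩ := by
        constructor
        · intro hh; exact Subtype.ext hh
        · intro hh; rw [hh]
      simp only [this]
    rw [Finset.sum_congr rfl h2, Finset.sum_ite_eq']
    split_ifs with hmem
    · rfl
    · exact (Finsupp.notMem_support_iff.1 hmem).symm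
  · rw [dif_neg h]
    refine Finset.sum_eq_zero fun p _ => ?_
    rw [if_neg]
    intro hpq
    apply h
    rw [← hpq]; exact p.2

end main

lemma finite_bounded (ι : Type) [Fintype ι] (m : ℕ) :
    Finite {p : ι → ℕ // ∑ i, p i ≤ m} := by
  classical
  let f : {p : ι → ℕ // ∑ i, p i ≤ m} → (ι → Fin (m + 1)) := fun p i =>
    ⟨p.1 i, by
      have h1 : p.1 i ≤ ∑ j, p.1 j :=
        Finset.single_le_sum (f := p.1) (fun _ _ => Nat.zero_le _) (Finset.mem_univ i)
      have := p.2
      omega⟩
  refine Finite.of_injective f ?_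
  intro p p' h
  apply Subtype.ext
  funext i
  have := congrFun h i
  simpa [f] using this

/-- Last assertion (affine form, finite family): let B be an A-algebra, z_1, …, z_r elements of B whose
differentials generate the module of differentials, and (D_p) a family of differential operators B →
B (each of some finite order) with D_p(z^q) = (∏ binom(q_i, p_i)) z^(q-p). Then D_p has order at
most |p|, and every differential operator B → B of order at most m relative to A can be written in
exactly one way as a B-linear combination ∑_{|p| ≤ m} a_p D_p. -/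
theorem result (A B : Type u) [CommRing A] [CommRing B] [Algebra A B]
    (ι : Type) [Fintype ι] [DecidableEq ι] (z : ι → B)
    (hz : Submodule.span B (Set.range fun i => KaehlerDifferential.D A B (z i)) = ⊤)
    (Dp : (ι → ℕ) → (B →ₗ[A] B)) (hD : ∀ p, ∃ k : ℕ, Diff16.IsDiffOpLE A B B B k (Dp p))
    (hDz : ∀ p q : ι → ℕ, Dp p (∏ i, z i ^ q i) =
        ((∏ i, Nat.choose (q i) (p i) : ℕ) : B) * ∏ i, z i ^ (q i - p i)) :
    (∀ p, Diff16.IsDiffOpLE A B B B (∑ i, p i) (Dp p)) ∧
      ∀ (m : ℕ) (D : B →ₗ[A] B), Diff16.IsDiffOpLE A B B B m D →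
        ∃! a : {p : ι → ℕ // ∑ i, p i ≤ m} →₀ B, D = a.sum fun p c => c • Dp p.1 := by
  classical
  have hord : ∀ p, Diff16.IsDiffOpLE A B B B (∑ i, p i) (Dp p) := fun p =>
    Dp_order z hz Dp hD hDz _ p rfl
  refine ⟨hord, ?_⟩
  intro m D hDm
  haveI := finite_bounded ι m
  let a : {p : ι → ℕ // ∑ i, p i ≤ m} →₀ B :=
    Finsupp.equivFunOnFinite.symm fun p => lam z D p.1
  have ha : ∀ p, a p = lam z D p.1 := fun p => rfl
  have hsum_order : ∀ a' : {p : ι → ℕ // ∑ i, p i ≤ m} →₀ B,
      IsDiffOpLE A B B B m (a'.sum fun p c => c • Dp p.1) := by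
    intro a'
    rw [Finsupp.sum]
    refine isDiffOpLE_sum _ _ _ fun p _ => ?_
    rw [smul_eq_mulL_comp]
    exact isDiffOpLE_mulL_comp (isDiffOpLE_of_le p.2 (hord p.1)) _
  refine ⟨a, ?_, ?_⟩
  · -- existence
    change D = a.sum fun p c => c • Dp p.1
    rw [← sub_eq_zero]
    refine eq_zero_of_lam z hz m _ (isDiffOpLE_sub hDm (hsum_order a)) ?_
    intro q
    unfold lam
    rw [linearize_sub_left]
    have h1 := lam_finsupp_sum z hz Dp hD hDz m a q
    unfold lam at h1
    rw [h1]
    by_cases h : ∑ i, q i ≤ m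
    · rw [dif_pos h, ha]
      unfold lam
      rw [sub_self]
    · rw [dif_neg h, sub_zero]
      exact lam_eq_zero_of_isDiffOpLE z m D hDm q (by omega)
  · -- uniqueness
    intro a' ha'
    change D = a'.sum fun p c => c • Dp p.1 at ha'
    ext p
    rw [ha, ha', lam_finsupp_sum z hz Dp hD hDz m a' p.1, dif_pos p.2]

end Groth.Agent.S3818
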