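import Groth.Agent.LibPP29a
import Groth.Agent.S3818
import Groth.Prelude.Def_PP16

/-!
# Principal parts with coordinates: monomials in `ζᵢ = 1 ⊗ zᵢ - zᵢ ⊗ 1`
-/

set_option autoImplicit false
set_option linter.unusedSectionVars false
universe u v w

namespace Groth.Agent.LibPP29

open Diff16 Groth.Agent.LibDiff29
open scoped TensorProduct BigOperators

section ideal

variable {C : Type*} [CommRing C] (J : Ideal C)

lemma prod_sub_prod_mem {κ : Type*} [DecidableEq κ] (s : Finset κ) (x y : κ → C)
    (hx : ∀ j ∈ s, x j ∈ J) (hy : ∀ j ∈ s, y j ∈ J) (hxy : ∀ j ∈ s, x j - y j ∈ J ^ 2) :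
    ∏ j ∈ s, x j - ∏ j ∈ s, y j ∈ J ^ (s.card + 1) := by
  induction s using Finset.induction_on with
  | empty => simp
  | insert a s ha ih =>
    rw [Finset.prod_insert ha, Finset.prod_insert ha, Finset.card_insert_of_notMem ha]
    have h1 : x a * ∏ j ∈ s, x j - y a * ∏ j ∈ s, y j =
        (x a - y a) * ∏ j ∈ s, x j + y a * (∏ j ∈ s, x j - ∏ j ∈ s, y j) := by ring
    rw [h1]
    have hs : ∏ j ∈ s, x j ∈ J ^ s.card := by
      have := Ideal.prod_mem_prod (s := s) (I := fun _ => J) (x := x)
        (fun j hj => hx j (Finset.mem_insert_of_mem hj))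
      simpa using this
    refine Ideal.add_mem _ ?_ ?_
    · have := Ideal.mul_mem_mul (hxy a (Finset.mem_insert_self a s)) hs
      rwa [← pow_add, show 2 + s.card = s.card + 1 + 1 by ring] at this
    · have h2 := ih (fun j hj => hx j (Finset.mem_insert_of_mem hj))
        (fun j hj => hy j (Finset.mem_insert_of_mem hj))
        (fun j hj => hxy j (Finset.mem_insert_of_mem hj))
      have := Ideal.mul_mem_mul (hy a (Finset.mem_insert_self a s)) h2
      rwa [← pow_succ'] at this

end ideal

section coords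

variable {A B : Type u} [CommRing A] [CommRing B] [Algebra A B]
variable {ι : Type v} [Fintype ι] [DecidableEq ι] (z : ι → B)

local notation "I" => KaehlerDifferential.ideal A B

lemma linearize_smul_left {N : Type u} [AddCommGroup N] [Module A N] [Module B N]
    [IsScalarTower A B N] (D : B →ₗ[A] N) (c : B) (x : B ⊗[A] B) :
    linearize A B B N D (c • x) = c • linearize A B B N D x := by
  induction x using TensorProduct.induction_on with
  | zero => simp
  | tmul b m => simp [TensorProduct.smul_tmul', mul_smul]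
  | add x y hx hy => rw [smul_add, map_add, map_add, hx, hy, smul_add]

variable (A) in
/-- the monomial `ζ^p` -/
noncomputable def zmon (p : ι → ℕ) : B ⊗[A] B := ∏ i, dgen (A := A) (z i) ^ p i

variable (A) in
/-- the product `∏ⱼ ζ_{f j}` -/
noncomputable def zmonf {ι' : Type w} [Fintype ι'] (f : ι' → ι) : B ⊗[A] B :=
  ∏ j, dgen (A := A) (z (f j))

lemma zmonf_eq_zmon {ι' : Type u} [Fintype ι'] [DecidableEq ι'] (f : ι' → ι) :
    zmonf A z f = zmon A z (cnt f) := by
  unfold zmonf zmon cnt
  rw [Finset.prod_comp (fun i => dgen (A := A) (z i)) f]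
  rw [Finset.prod_subset (Finset.subset_univ (Finset.univ.image f))]
  intro i _ hi
  have : (Finset.univ.filter fun j => f j = i) = ∅ := by
    rw [Finset.filter_eq_empty_iff]
    intro j _ hj
    exact hi (Finset.mem_image.2 ⟨j, Finset.mem_univ j, hj⟩)
  rw [this]; simp

lemma zmon_mem (p : ι → ℕ) : zmon A z p ∈ I ^ (∑ i, p i) := prod_dgen_pow_mem z p

lemma lam_eq (D : B →ₗ[A] B) (p : ι → ℕ) : lam z D p = linearize A B B B D (zmon A z p) := rfl

lemma dgen_mul_zmon (p : ι → ℕ) (i : ι) :
    dgen (A := A) (z i) * zmon A z p = zmon A z (p + Pi.single i 1) := by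
  unfold zmon
  rw [prod_pow_add_single]

lemma ideal_le_span_sup_sq
    (hz : Submodule.span B (Set.range fun i => KaehlerDifferential.D A B (z i)) = ⊤) :
    (I).restrictScalars B ≤
      Submodule.span B (Set.range fun i => dgen (A := A) (z i)) ⊔ (I ^ 2).restrictScalars B := by
  rw [← KaehlerDifferential.submodule_span_range_eq_ideal, Submodule.span_le]
  rintro _ ⟨c, rfl⟩
  obtain ⟨a, ha⟩ := dgen_sub_mem_sq' z hz c
  have : (1 : B) ⊗ₜ[A] c - c ⊗ₜ[A] (1 : B) =
      (∑ i, a i • dgen (A := A) (z i)) + (dgen (A := A) c - ∑ i, a i • dgen (A := A) (z i)) := by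
    simp [dgen]
  change (1 : B) ⊗ₜ[A] c - c ⊗ₜ[A] (1 : B) ∈ _
  rw [this]
  refine Submodule.add_mem_sup ?_ ha
  exact Submodule.sum_mem _ fun i _ => Submodule.smul_mem _ _ (Submodule.subset_span ⟨i, rfl⟩)

/-- `I^n` is spanned modulo `I^(n+1)` by the monomials of degree `n`. -/
lemma pow_le_span_zmon_sup
    (hz : Submodule.span B (Set.range fun i => KaehlerDifferential.D A B (z i)) = ⊤) (n : ℕ) :
    (I ^ n).restrictScalars B ≤
      Submodule.span B {x | ∃ p : ι → ℕ, ∑ i, p i = n ∧ x = zmon A z p} ⊔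
        (I ^ (n + 1)).restrictScalars B := by
  induction n with
  | zero =>
    intro x hx
    clear hx
    induction x using TensorProduct.induction_on with
    | zero => exact zero_mem _
    | tmul b c =>
      have : b ⊗ₜ[A] c = (b * c) • ((1 : B) ⊗ₜ[A] (1 : B)) + b • dgen (A := A) c := by
        simp [dgen, smul_sub, TensorProduct.smul_tmul', mul_comm b c]
      rw [this]
      refine Submodule.add_mem_sup (Submodule.smul_mem _ _ (Submodule.subset_span ?_)) ?_
      · refine ⟨0, by simp, ?_⟩
        simp [zmon, Algebra.TensorProduct.one_def]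
      · rw [zero_add, pow_one]
        exact Submodule.smul_mem ((I).restrictScalars B) b (dgen_mem c)
    | add x y hx hy => exact add_mem hx hy
  | succ n ih =>
    intro x hx
    rw [Submodule.restrictScalars_mem, pow_succ'] at hx
    refine Submodule.mul_induction_on hx ?_ ?_
    · intro y hy x' hx'
      obtain ⟨y₁, hy₁, y₂, hy₂, rfl⟩ := Submodule.mem_sup.1 (ideal_le_span_sup_sq z hz hy)
      obtain ⟨u, hu, v, hv, rfl⟩ := Submodule.mem_sup.1 (ih hx')
      rw [Submodule.restrictScalars_mem] at hy₂ hv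
      have hy₁I : y₁ ∈ I := by
        have h1 : y₁ + y₂ ∈ I := hy
        have h2 : y₂ ∈ I := Ideal.pow_le_self (by norm_num) hy₂
        simpa using Ideal.sub_mem _ h1 h2
      have hx'I : u + v ∈ I ^ n := hx'
      have : (y₁ + y₂) * (u + v) = y₁ * u + (y₁ * v + y₂ * (u + v)) := by ring
      rw [this]
      refine Submodule.add_mem_sup ?_ ?_
      · -- y₁ * u is in the span of the monomials of degree n + 1
        have h1 : y₁ * u ∈ Submodule.span B (Set.range fun i => dgen (A := A) (z i)) *
            Submodule.span B {x | ∃ p : ι → ℕ, ∑ i, p i = n ∧ x = zmon A z p} :=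
          Submodule.mul_mem_mul hy₁ hu
        rw [Submodule.span_mul_span] at h1
        refine Submodule.span_mono ?_ h1
        rintro _ ⟨_, ⟨i, rfl⟩, _, ⟨p, hp, rfl⟩, rfl⟩
        refine ⟨p + Pi.single i 1, ?_, dgen_mul_zmon (A := A) z p i⟩
        simp only [Pi.add_apply, Finset.sum_add_distrib, hp]
        congr 1
        simp [Pi.single_apply]
      · rw [Submodule.restrictScalars_mem]
        refine Ideal.add_mem _ ?_ ?_
        · have := Ideal.mul_mem_mul hy₁I hv
          rwa [← pow_succ'] at this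
        · have := Ideal.mul_mem_mul hy₂ hx'I
          rwa [← pow_add, show 2 + n = n + 1 + 1 by ring] at this
    · intro x y hx hy
      exact add_mem hx hy

end coords

section indep

variable {A B : Type u} [CommRing A] [CommRing B] [Algebra A B]
variable {ι : Type} [Fintype ι] [DecidableEq ι] (z : ι → B)

local notation "I" => KaehlerDifferential.ideal A B

/-- independence of the monomials `ζ^p` modulo powers of `I`, given divided power operators -/
theorem coeff_eq_zero_of_sum_mem_pow
    (hz : Submodule.span B (Set.range fun i => KaehlerDifferential.D A B (z i)) = ⊤)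
    (Dp : (ι → ℕ) → (B →ₗ[A] B)) (hD : ∀ p, ∃ k : ℕ, Diff16.IsDiffOpLE A B B B k (Dp p))
    (hDz : ∀ p q : ι → ℕ, Dp p (∏ i, z i ^ q i) =
        ((∏ i, Nat.choose (q i) (p i) : ℕ) : B) * ∏ i, z i ^ (q i - p i))
    (T : Finset (ι → ℕ)) (c : (ι → ℕ) → B) (n : ℕ) (hT : ∀ p ∈ T, ∑ i, p i ≤ n)
    (h : ∑ p ∈ T, c p • zmon A z p ∈ I ^ (n + 1)) : ∀ q ∈ T, c q = 0 := by
  intro q hq
  have hord : IsDiffOpLE A B B B n (Dp q) :=
    isDiffOpLE_of_le (hT q hq) (S3818.Dp_order z hz Dp hD hDz _ q rfl)
  have h1 := linearize_eq_zero_of_isDiffOpLE n (Dp q) hord _ h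
  rw [map_sum] at h1
  have h2 : ∀ p ∈ T, linearize A B B B (Dp q) (c p • zmon A z p) = if p = q then c p else 0 := by
    intro p _
    rw [linearize_smul_left, ← lam_eq, S3818.lam_Dp z hz Dp hD hDz _ q p rfl]
    by_cases hpq : p = q
    · rw [if_pos hpq, if_pos hpq.symm, smul_eq_mul, mul_one]
    · rw [if_neg hpq, if_neg (Ne.symm hpq), smul_zero]
  rw [Finset.sum_congr rfl h2, Finset.sum_ite_eq' T q, if_pos hq] at h1
  exact h1

end indep

end Groth.Agent.LibPP29
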