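import Groth.Agent.LibPP29b

/-!
# Principal parts with coordinates II: graded pieces, spanning, independence from `IsDiffSmooth`
-/

set_option autoImplicit false
set_option linter.unusedSectionVars false
universe u v w

namespace Groth.Agent.LibPP29

open Diff16 Groth.Agent.LibDiff29
open scoped TensorProduct BigOperators

section cnt

variable {ι' : Type u} [Fintype ι'] [DecidableEq ι'] {κ : Type w} [Fintype κ] [DecidableEq κ]

lemma exists_cnt_eq (p : κ → ℕ) (hp : ∑ i, p i = Fintype.card ι') :
    ∃ f : ι' → κ, cnt f = p := by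
  have hcard : Fintype.card ι' = Fintype.card (Σ i : κ, Fin (p i)) := by
    rw [Fintype.card_sigma, ← hp]
    simp
  let e : ι' ≃ Σ i : κ, Fin (p i) := Fintype.equivOfCardEq hcard
  refine ⟨fun j => (e j).1, ?_⟩
  funext i
  unfold cnt
  rw [← Fintype.card_subtype]
  have e2 : {j : ι' // (e j).1 = i} ≃ {s : (Σ i : κ, Fin (p i)) // s.1 = i} :=
    e.subtypeEquiv (fun j => Iff.rfl)
  rw [Fintype.card_congr e2, Fintype.card_congr (Equiv.sigmaSubtype i)]
  simp

end cnt

section gr

variable {A B : Type u} [CommRing A] [CommRing B] [Algebra A B]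

local notation "I" => KaehlerDifferential.ideal A B

variable (A B) in
/-- the quotient map `I^n → I^n/I^(n+1)` -/
noncomputable def grmk (n : ℕ) :
    ↥((I ^ n).restrictScalars B) →ₗ[B] PP16.grI A B n :=
  Submodule.mkQ _

lemma grmk_eq_zero_iff (n : ℕ) (w : ↥((I ^ n).restrictScalars B)) :
    grmk A B n w = 0 ↔ (w : B ⊗[A] B) ∈ I ^ (n + 1) := by
  unfold grmk
  rw [Submodule.mkQ_apply, Submodule.Quotient.mk_eq_zero]
  rfl

lemma grmk_surjective (n : ℕ) : Function.Surjective (grmk A B n) :=
  Submodule.mkQ_surjective _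

lemma zetaProd_eq {ι' : Type u} [Fintype ι'] (β : ι' → B) :
    PP16.zetaProd A B β = grmk A B (Fintype.card ι')
      ⟨∏ j, dgen (A := A) (β j), by
        have := PP16.prod_mem_pow (KaehlerDifferential.ideal A B) Finset.univ
          (fun j => dgen (A := A) (β j)) (fun j _ => dgen_mem (β j))
        simpa using this⟩ := rfl

end gr

section span

variable {A B : Type u} [CommRing A] [CommRing B] [Algebra A B]
variable {ι : Type v} [Fintype ι] [DecidableEq ι] (z : ι → B)

local notation "I" => KaehlerDifferential.ideal A B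

/-- `B ⊗ B` is spanned modulo `I^(n+1)` by the monomials of degree `≤ n`. -/
lemma top_le_span_zmon_sup
    (hz : Submodule.span B (Set.range fun i => KaehlerDifferential.D A B (z i)) = ⊤) (n : ℕ) :
    (⊤ : Submodule B (B ⊗[A] B)) ≤
      Submodule.span B {x | ∃ p : ι → ℕ, ∑ i, p i ≤ n ∧ x = zmon A z p} ⊔
        (I ^ (n + 1)).restrictScalars B := by
  induction n with
  | zero =>
    have h0 := pow_le_span_zmon_sup (A := A) z hz 0
    intro x _
    have hx : x ∈ (I ^ 0).restrictScalars B := by
      rw [pow_zero, Ideal.one_eq_top]; trivial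
    have h1 : Submodule.span B {x | ∃ p : ι → ℕ, ∑ i, p i = 0 ∧ x = zmon A z p} ⊔
        (I ^ (0 + 1)).restrictScalars B ≤
        Submodule.span B {x | ∃ p : ι → ℕ, ∑ i, p i ≤ 0 ∧ x = zmon A z p} ⊔
        (I ^ (0 + 1)).restrictScalars B := by
      refine sup_le_sup_right (Submodule.span_mono ?_) _
      rintro _ ⟨p, hp, rfl⟩
      exact ⟨p, hp.le, rfl⟩
    exact h1 (h0 hx)
  | succ n ih =>
    refine ih.trans ?_
    refine sup_le ?_ ?_
    · refine le_sup_of_le_left (Submodule.span_mono ?_)
      rintro _ ⟨p, hp, rfl⟩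
      exact ⟨p, by omega, rfl⟩
    · refine (pow_le_span_zmon_sup (A := A) z hz (n + 1)).trans ?_
      refine sup_le_sup_right (Submodule.span_mono ?_) _
      rintro _ ⟨p, hp, rfl⟩
      exact ⟨p, hp.le, rfl⟩

end span

section indep2

variable {A B : Type u} [CommRing A] [CommRing B] [Algebra A B]
variable {ι : Type} [Fintype ι] [DecidableEq ι] (z : ι → B)

local notation "I" => KaehlerDifferential.ideal A B

lemma zmonf_mem {ι' : Type u} [Fintype ι'] (f : ι' → ι) :
    zmonf A z f ∈ ((I) ^ (Fintype.card ι')).restrictScalars B := by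
  have := PP16.prod_mem_pow (KaehlerDifferential.ideal A B) Finset.univ
    (fun j => dgen (A := A) (z (f j))) (fun j _ => dgen_mem (z (f j)))
  rw [Finset.card_univ] at this
  exact this

lemma zetaProd_comp {ι' : Type u} [Fintype ι'] (f : ι' → ι) :
    PP16.zetaProd A B (fun j => z (f j)) =
      grmk A B (Fintype.card ι') ⟨zmonf A z f, zmonf_mem z f⟩ := rfl

/-- independence of the monomials of degree `n` modulo `I^(n+1)` when the canonical map from the
symmetric power is injective -/
theorem coeff_eq_zero_of_injective {ι' : Type u} [Fintype ι'] [DecidableEq ι']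
    (b : Module.Basis ι B (KaehlerDifferential A B))
    (hb : ∀ i, b i = KaehlerDifferential.D A B (z i))
    (φ : SymmetricPower B ι' (KaehlerDifferential A B) →ₗ[B] PP16.grI A B (Fintype.card ι'))
    (hφ : ∀ β : ι' → B, φ (SymmetricPower.tprod B (fun i => KaehlerDifferential.D A B (β i))) =
      PP16.zetaProd A B β)
    (hinj : Function.Injective φ)
    (T : Finset (ι → ℕ)) (hT : ∀ p ∈ T, ∑ i, p i = Fintype.card ι') (c : (ι → ℕ) → B)
    (h : ∑ p ∈ T, c p • zmon A z p ∈ I ^ (Fintype.card ι' + 1)) : ∀ q ∈ T, c q = 0 := by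
  classical
  choose f hf using fun p : T => exists_cnt_eq (ι' := ι') p.1 (hT p.1 p.2)
  set x : SymmetricPower B ι' (KaehlerDifferential A B) :=
    ∑ p ∈ T.attach, c p.1 • symMon b (f p) with hx
  have h1 : ∀ p : T, φ (symMon b (f p)) =
      grmk A B (Fintype.card ι') ⟨zmonf A z (f p), zmonf_mem z (f p)⟩ := by
    intro p
    rw [← zetaProd_comp, ← hφ]
    unfold symMon
    simp_rw [hb]
  have h2 : φ x = grmk A B (Fintype.card ι')
      (∑ p ∈ T.attach, c p.1 • ⟨zmonf A z (f p), zmonf_mem z (f p)⟩) := by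
    rw [hx, map_sum, map_sum]
    refine Finset.sum_congr rfl fun p _ => ?_
    rw [map_smul, map_smul, h1]
  have h3 : φ x = 0 := by
    rw [h2, grmk_eq_zero_iff, Submodule.coe_sum]
    have h4 : ∑ p ∈ T.attach, ((c p.1 • (⟨zmonf A z (f p), zmonf_mem z (f p)⟩ :
        ↥((I ^ (Fintype.card ι')).restrictScalars B)) : ↥((I ^ (Fintype.card ι')).restrictScalars B)) :
          B ⊗[A] B) = ∑ p ∈ T.attach, c p.1 • zmon A z p.1 := by
      refine Finset.sum_congr rfl fun p _ => ?_
      rw [Submodule.coe_smul]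
      change c p.1 • zmonf A z (f p) = _
      rw [zmonf_eq_zmon, hf]
    rw [h4, Finset.sum_attach T (fun p => c p • zmon A z p)]
    exact h
  have h5 : x = 0 := hinj (by rw [h3, map_zero])
  intro q hq
  have h6 : symCoord b q x = c q := by
    rw [hx, map_sum]
    have h7 : ∀ p ∈ T.attach, symCoord b q (c p.1 • symMon b (f p)) =
        if p = ⟨q, hq⟩ then c p.1 else 0 := by
      intro p _
      rw [map_smul, symCoord_symMon, hf]
      by_cases hpq : p = ⟨q, hq⟩
      · rw [if_pos hpq, if_pos (by rw [hpq]), smul_eq_mul, mul_one]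
      · rw [if_neg hpq, if_neg (fun h => hpq (Subtype.ext h)), smul_zero]
    rw [Finset.sum_congr rfl h7, Finset.sum_ite_eq' T.attach ⟨q, hq⟩, if_pos (Finset.mem_attach _ _)]
  rw [← h6, h5, map_zero]

end indep2

end Groth.Agent.LibPP29
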