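import Groth.Agent.LibPP29c

/-!
# Principal parts with coordinates III: the monomial basis of `P^m` for differentially smooth algebras
-/

set_option autoImplicit false
set_option linter.unusedSectionVars false
universe u v w

namespace Groth.Agent.LibPP29

open Diff16 Groth.Agent.LibDiff29
open scoped TensorProduct BigOperators

section basis

variable {A B : Type u} [CommRing A] [CommRing B] [Algebra A B]
variable {ι : Type} [Fintype ι] [DecidableEq ι] (z : ι → B)

local notation "I" => KaehlerDifferential.ideal A B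

/-- independence of the monomials of degree `≤ m` modulo `I^(m+1)` for differentially smooth
algebras -/
theorem coeff_eq_zero_of_isDiffSmooth (hB : PP16.IsDiffSmooth A B)
    (b : Module.Basis ι B (KaehlerDifferential A B))
    (hb : ∀ i, b i = KaehlerDifferential.D A B (z i)) (m : ℕ)
    (T : Finset (ι → ℕ)) (hT : ∀ p ∈ T, ∑ i, p i ≤ m) (c : (ι → ℕ) → B)
    (h : ∑ p ∈ T, c p • zmon A z p ∈ I ^ (m + 1)) : ∀ q ∈ T, c q = 0 := by
  classical
  have key : ∀ n : ℕ, ∀ q ∈ T, ∑ i, q i = n → c q = 0 := by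
    intro n
    induction n using Nat.strong_induction_on with
    | _ n ih =>
      intro q hq hqn
      have hnm : n ≤ m := hqn ▸ hT q hq
      obtain ⟨φ, hφ, hbij⟩ := hB.2 (ULift.{u} (Fin n))
      have hcard : Fintype.card (ULift.{u} (Fin n)) = n := by simp
      have hsplit : ∑ p ∈ T, c p • zmon A z p =
          ∑ p ∈ T.filter (fun p => ∑ i, p i = n), c p • zmon A z p +
            ∑ p ∈ T.filter (fun p => ¬ ∑ i, p i = n), c p • zmon A z p :=
        (Finset.sum_filter_add_sum_filter_not T _ _).symm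
      have h2 : ∑ p ∈ T.filter (fun p => ¬ ∑ i, p i = n), c p • zmon A z p ∈ I ^ (n + 1) := by
        refine Ideal.sum_mem _ fun p hp => ?_
        rw [Finset.mem_filter] at hp
        rcases lt_or_gt_of_ne hp.2 with hlt | hgt
        · rw [ih _ hlt p hp.1 rfl, zero_smul]
          exact zero_mem _
        · have h3 : zmon A z p ∈ I ^ (n + 1) := Ideal.pow_le_pow_right hgt (zmon_mem z p)
          exact Submodule.smul_of_tower_mem (I ^ (n + 1)) (c p) h3
      have h1 : ∑ p ∈ T.filter (fun p => ∑ i, p i = n), c p • zmon A z p ∈ I ^ (n + 1) := by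
        have h4 : ∑ p ∈ T, c p • zmon A z p ∈ I ^ (n + 1) :=
          Ideal.pow_le_pow_right (by omega) h
        rw [hsplit] at h4
        exact (Ideal.add_mem_iff_left _ h2).1 h4
      have h1' : ∑ p ∈ T.filter (fun p => ∑ i, p i = n), c p • zmon A z p ∈
          I ^ (Fintype.card (ULift.{u} (Fin n)) + 1) := by
        rw [hcard]; exact h1
      refine coeff_eq_zero_of_injective z b hb φ hφ hbij.1 _ ?_ c h1' q ?_
      · intro p hp
        rw [Finset.mem_filter] at hp
        rw [hcard]; exact hp.2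
      · rw [Finset.mem_filter]; exact ⟨hq, hqn⟩
  intro q hq
  exact key _ q hq rfl

variable (A) in
/-- the class of the monomial `ζ^p` in `P^m` -/
noncomputable def zbar (m : ℕ) (p : ι → ℕ) : PP16.P m A B :=
  Ideal.Quotient.mk _ (zmon A z p)

lemma zbar_eq (m : ℕ) (p : ι → ℕ) :
    zbar A z m p = ∏ i, (PP16.dn m A B (z i) - algebraMap B (PP16.P m A B) (z i)) ^ (p i) := by
  unfold zbar zmon
  rw [map_prod]
  refine Finset.prod_congr rfl fun i _ => ?_
  rw [map_pow]
  rfl

lemma mk_smul (m : ℕ) (c : B) (x : B ⊗[A] B) :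
    (Ideal.Quotient.mk (I ^ (m + 1)) (c • x) : PP16.P m A B) =
      c • (Ideal.Quotient.mk (I ^ (m + 1)) x : PP16.P m A B) := rfl

lemma zbar_eq_zero (m : ℕ) (p : ι → ℕ) (hp : m < ∑ i, p i) : zbar A z m p = 0 := by
  unfold zbar
  rw [Ideal.Quotient.eq_zero_iff_mem]
  exact Ideal.pow_le_pow_right hp (zmon_mem z p)

/-- the monomials of degree `≤ m` span `P^m` -/
lemma span_zbar_eq_top
    (hz : Submodule.span B (Set.range fun i => KaehlerDifferential.D A B (z i)) = ⊤) (m : ℕ) :
    (⊤ : Submodule B (PP16.P m A B)) ≤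
      Submodule.span B (Set.range fun p : {p : ι → ℕ // ∑ i, p i ≤ m} => zbar A z m p.1) := by
  intro y _
  obtain ⟨x, rfl⟩ := Ideal.Quotient.mk_surjective y
  have hx := top_le_span_zmon_sup (A := A) z hz m (Submodule.mem_top (x := x))
  obtain ⟨u, hu, w, hw, rfl⟩ := Submodule.mem_sup.1 hx
  rw [Submodule.restrictScalars_mem] at hw
  rw [map_add, (Ideal.Quotient.eq_zero_iff_mem).2 hw, add_zero]
  have key : ∀ u' ∈ Submodule.span B {x | ∃ p : ι → ℕ, ∑ i, p i ≤ m ∧ x = zmon A z p},
      (Ideal.Quotient.mk (I ^ (m + 1)) u' : PP16.P m A B) ∈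
        Submodule.span B (Set.range fun p : {p : ι → ℕ // ∑ i, p i ≤ m} => zbar A z m p.1) := by
    intro u' hu'
    induction hu' using Submodule.span_induction with
    | mem t ht =>
      obtain ⟨p, hp, rfl⟩ := ht
      exact Submodule.subset_span ⟨⟨p, hp⟩, rfl⟩
    | zero => rw [map_zero]; exact zero_mem _
    | add s t _ _ hs ht => rw [map_add]; exact add_mem hs ht
    | smul c t _ ht => rw [mk_smul]; exact Submodule.smul_mem _ _ ht
  exact key u hu

theorem exists_basis_P (hB : PP16.IsDiffSmooth A B)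
    (b : Module.Basis ι B (KaehlerDifferential A B))
    (hb : ∀ i, b i = KaehlerDifferential.D A B (z i)) (m : ℕ) :
    ∃ bm : Module.Basis {p : ι → ℕ // ∑ i, p i ≤ m} B (PP16.P m A B),
      ∀ p, bm p = zbar A z m p.1 := by
  classical
  have : Finite {p : ι → ℕ // ∑ i, p i ≤ m} := S3818.finite_bounded ι m
  letI : Fintype {p : ι → ℕ // ∑ i, p i ≤ m} := Fintype.ofFinite _
  have hz : Submodule.span B (Set.range fun i => KaehlerDifferential.D A B (z i)) = ⊤ := by
    rw [← b.span_eq]
    congr 1
    ext x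
    simp [hb]
  have hli : LinearIndependent B (fun p : {p : ι → ℕ // ∑ i, p i ≤ m} => zbar A z m p.1) := by
    rw [Fintype.linearIndependent_iff]
    intro g hg
    set T : Finset (ι → ℕ) := (Finset.univ : Finset {p : ι → ℕ // ∑ i, p i ≤ m}).map
      ⟨Subtype.val, Subtype.val_injective⟩ with hT
    set c : (ι → ℕ) → B := fun p => if h : ∑ i, p i ≤ m then g ⟨p, h⟩ else 0 with hc
    have h1 : ∑ p ∈ T, c p • zmon A z p = ∑ p : {p : ι → ℕ // ∑ i, p i ≤ m}, g p • zmon A z p.1 := by
      rw [hT, Finset.sum_map]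
      refine Finset.sum_congr rfl fun p _ => ?_
      simp only [Function.Embedding.coeFn_mk, hc]
      rw [dif_pos p.2]
    have h2 : ∑ p ∈ T, c p • zmon A z p ∈ I ^ (m + 1) := by
      rw [h1, ← Ideal.Quotient.eq_zero_iff_mem, map_sum, ← hg]
      refine Finset.sum_congr rfl fun p _ => ?_
      rw [mk_smul]; rfl
    intro p
    have h3 := coeff_eq_zero_of_isDiffSmooth z hB b hb m T (by
      intro p hp
      rw [hT, Finset.mem_map] at hp
      obtain ⟨p', -, rfl⟩ := hp
      exact p'.2) c h2 p.1 (by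
      rw [hT, Finset.mem_map]
      exact ⟨p, Finset.mem_univ _, rfl⟩)
    simp only [hc] at h3
    rw [dif_pos p.2] at h3
    exact h3
  exact ⟨Module.Basis.mk hli (span_zbar_eq_top z hz m), fun p => by rw [Module.Basis.mk_apply]⟩

end basis

end Groth.Agent.LibPP29
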