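import Groth.Agent.LibPP29d

/-!
# Principal parts with coordinates IV: divided power operators from the monomial basis
-/

set_option autoImplicit false
set_option linter.unusedSectionVars false
universe u v w

namespace Groth.Agent.LibPP29

open Diff16 Groth.Agent.LibDiff29
open scoped TensorProduct BigOperators

section opOf

variable {A B : Type u} [CommRing A] [CommRing B] [Algebra A B]

local notation "I" => KaehlerDifferential.ideal A B

variable (A) in
/-- the differential operator `ℓ ∘ d^m` attached to a linear form on `P^m` -/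
noncomputable def opOf (m : ℕ) (ℓ : PP16.P m A B →ₗ[B] B) : B →ₗ[A] B :=
  (ℓ.restrictScalars A) ∘ₗ (PP16.dn m A B).toLinearMap

lemma opOf_apply (m : ℕ) (ℓ : PP16.P m A B →ₗ[B] B) (c : B) :
    opOf A m ℓ c = ℓ (PP16.dn m A B c) := rfl

lemma linearize_opOf (m : ℕ) (ℓ : PP16.P m A B →ₗ[B] B) (x : B ⊗[A] B) :
    linearize A B B B (opOf A m ℓ) x = ℓ (Ideal.Quotient.mk (I ^ (m + 1)) x : PP16.P m A B) := by
  induction x using TensorProduct.induction_on with
  | zero => simp
  | tmul b c =>
    rw [linearize_tmul, opOf_apply, ← map_smul]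
    congr 1
    change b • (Ideal.Quotient.mk (I ^ (m + 1)) ((1 : B) ⊗ₜ[A] c) : PP16.P m A B) = _
    rw [← mk_smul, TensorProduct.smul_tmul', smul_eq_mul, mul_one]
  | add x y hx hy => rw [map_add, map_add, map_add, hx, hy]

lemma opOf_order (m : ℕ) (ℓ : PP16.P m A B →ₗ[B] B) : IsDiffOpLE A B B B m (opOf A m ℓ) := by
  refine isDiffOpLE_of_linearize_eq_zero m _ ?_
  intro x hx
  rw [linearize_opOf, (Ideal.Quotient.eq_zero_iff_mem).2 hx, map_zero]

end opOf

section values

variable {A B : Type u} [CommRing A] [CommRing B] [Algebra A B]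
variable {ι : Type} [Fintype ι] [DecidableEq ι] (z : ι → B)

local notation "I" => KaehlerDifferential.ideal A B

variable (A) in
/-- evaluation of polynomials at the `ζ̄ᵢ` -/
noncomputable def evz (m : ℕ) : MvPolynomial ι B →ₐ[B] PP16.P m A B :=
  MvPolynomial.aeval fun i => (Ideal.Quotient.mk (I ^ (m + 1)) (dgen (A := A) (z i)) : PP16.P m A B)

lemma evz_F (m : ℕ) (q : ι → ℕ) : evz A z m (S3818.F z q) = PP16.dn m A B (∏ i, z i ^ q i) := by
  unfold S3818.F evz
  rw [map_prod, map_prod]
  refine Finset.prod_congr rfl fun i _ => ?_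
  rw [map_pow, map_pow, map_add, MvPolynomial.aeval_C, MvPolynomial.aeval_X]
  congr 1
  change (Ideal.Quotient.mk (I ^ (m + 1)) (z i ⊗ₜ[A] (1 : B)) : PP16.P m A B) +
    Ideal.Quotient.mk (I ^ (m + 1)) (dgen (A := A) (z i)) =
      Ideal.Quotient.mk (I ^ (m + 1)) ((1 : B) ⊗ₜ[A] z i)
  rw [← map_add]
  congr 1
  simp [dgen]

lemma evz_monomial (m : ℕ) (r : ι →₀ ℕ) (a : B) :
    evz A z m (MvPolynomial.monomial r a) = a • zbar A z m r := by
  unfold evz
  rw [MvPolynomial.aeval_monomial, Finsupp.prod_fintype _ _ (fun i => pow_zero _), Algebra.smul_def]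
  congr 1
  unfold zbar zmon
  rw [map_prod]
  refine Finset.prod_congr rfl fun i _ => ?_
  rw [map_pow]

lemma coord_zbar (m : ℕ) (bm : Module.Basis {p : ι → ℕ // ∑ i, p i ≤ m} B (PP16.P m A B))
    (hbm : ∀ p, bm p = zbar A z m p.1) (p : ι → ℕ) (hp : ∑ i, p i ≤ m) (r : ι → ℕ) :
    bm.coord ⟨p, hp⟩ (zbar A z m r) = if r = p then 1 else 0 := by
  by_cases hr : ∑ i, r i ≤ m
  · have : zbar A z m r = bm ⟨r, hr⟩ := (hbm ⟨r, hr⟩).symm
    rw [this, Module.Basis.coord_apply, Module.Basis.repr_self, Finsupp.single_apply]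
    by_cases hrp : r = p
    · subst hrp; simp
    · rw [if_neg hrp, if_neg]
      intro h
      exact hrp (congrArg Subtype.val h)
  · rw [zbar_eq_zero z m r (by omega), map_zero, if_neg]
    rintro rfl
    exact hr hp

theorem opOf_coord_monomial (m : ℕ)
    (bm : Module.Basis {p : ι → ℕ // ∑ i, p i ≤ m} B (PP16.P m A B))
    (hbm : ∀ p, bm p = zbar A z m p.1) (p : ι → ℕ) (hp : ∑ i, p i ≤ m) (q : ι → ℕ) :
    opOf A m (bm.coord ⟨p, hp⟩) (∏ i, z i ^ q i) =
      ((∏ i, Nat.choose (q i) (p i) : ℕ) : B) * ∏ i, z i ^ (q i - p i) := by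
  rw [opOf_apply, ← evz_F]
  have h0 := S3818.coeff_prod_shift' z q (Finsupp.equivFunOnFinite.symm p)
  simp only [Finsupp.equivFunOnFinite_symm_apply_apply] at h0
  rw [← h0]
  change _ = MvPolynomial.coeff (Finsupp.equivFunOnFinite.symm p) (S3818.F z q)
  generalize S3818.F z q = G
  conv_lhs => rw [MvPolynomial.as_sum G]
  rw [map_sum, map_sum]
  have h1 : ∀ r ∈ G.support, bm.coord ⟨p, hp⟩ (evz A z m (MvPolynomial.monomial r (G.coeff r))) =
      if r = Finsupp.equivFunOnFinite.symm p then G.coeff r else 0 := by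
    intro r _
    rw [evz_monomial, map_smul, coord_zbar z m bm hbm p hp]
    by_cases hrp : r = Finsupp.equivFunOnFinite.symm p
    · rw [if_pos hrp, if_pos (by rw [hrp]; rfl), smul_eq_mul, mul_one]
    · rw [if_neg hrp, if_neg, smul_zero]
      intro h
      apply hrp
      ext i
      exact congrFun h i
  rw [Finset.sum_congr rfl h1, Finset.sum_ite_eq']
  split_ifs with hmem
  · rfl
  · exact (MvPolynomial.notMem_support_iff.1 hmem).symm

end values

end Groth.Agent.LibPP29
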