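import Groth.Agent.LibPP29e
import Groth.Agent.LibDiff29i

/-!
# Principal parts with coordinates V: differential smoothness from divided power operators
-/

set_option autoImplicit false
set_option linter.unusedSectionVars false
universe u v w

namespace Groth.Agent.LibPP29

open Diff16 Groth.Agent.LibDiff29
open scoped TensorProduct BigOperators

section basisOmega

variable {A B : Type u} [CommRing A] [CommRing B] [Algebra A B]
variable {ι : Type} [Fintype ι] [DecidableEq ι] (z : ι → B)

local notation "I" => KaehlerDifferential.ideal A B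

lemma zmon_single (i : ι) : zmon A z (Pi.single i 1) = dgen (A := A) (z i) := by
  unfold zmon
  rw [Finset.prod_eq_single i]
  · simp
  · intro j _ hj
    rw [Pi.single_apply, if_neg hj, pow_zero]
  · intro h; exact absurd (Finset.mem_univ i) h

/-- the differentials `dzᵢ` are linearly independent if divided power operators exist -/
theorem linearIndependent_D
    (hz : Submodule.span B (Set.range fun i => KaehlerDifferential.D A B (z i)) = ⊤)
    (Dp : (ι → ℕ) → (B →ₗ[A] B)) (hD : ∀ p, ∃ k : ℕ, Diff16.IsDiffOpLE A B B B k (Dp p))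
    (hDz : ∀ p q : ι → ℕ, Dp p (∏ i, z i ^ q i) =
        ((∏ i, Nat.choose (q i) (p i) : ℕ) : B) * ∏ i, z i ^ (q i - p i)) :
    LinearIndependent B (fun i => KaehlerDifferential.D A B (z i)) := by
  rw [Fintype.linearIndependent_iff]
  intro a ha
  have h1 := dgen_sub_sum_mem_sq (A := A) Finset.univ a z (0 : B) (by rw [map_zero, ha])
  have h2 : ∑ i, a i • dgen (A := A) (z i) ∈ I ^ 2 := by
    have h3 : dgen (A := A) (0 : B) = 0 := by simp [dgen]
    rw [h3, zero_sub] at h1
    simpa using Ideal.neg_mem_iff _ |>.1 h1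
  set T : Finset (ι → ℕ) := Finset.univ.image (fun i : ι => (Pi.single i 1 : ι → ℕ)) with hT
  set c : (ι → ℕ) → B := fun p => ∑ j, (p j : B) * a j with hc
  have hinj : Function.Injective (fun i : ι => (Pi.single i 1 : ι → ℕ)) := by
    intro i j hij
    by_contra hne
    have := congrFun hij i
    simp only [Pi.single_eq_same] at this
    rw [Pi.single_apply, if_neg hne] at this
    exact one_ne_zero this
  have hci : ∀ i, c (Pi.single i 1) = a i := by
    intro i
    simp only [hc]
    rw [Finset.sum_eq_single i]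
    · simp
    · intro j _ hj
      rw [Pi.single_apply, if_neg hj]; simp
    · intro h; exact absurd (Finset.mem_univ i) h
  have h4 : ∑ p ∈ T, c p • zmon A z p = ∑ i, a i • dgen (A := A) (z i) := by
    rw [hT, Finset.sum_image (fun i _ j _ h => hinj h)]
    refine Finset.sum_congr rfl fun i _ => ?_
    rw [hci, zmon_single]
  have h5 := coeff_eq_zero_of_sum_mem_pow z hz Dp hD hDz T c 1 (by
    intro p hp
    rw [hT, Finset.mem_image] at hp
    obtain ⟨i, -, rfl⟩ := hp
    rw [Finset.sum_eq_single i]
    · simp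
    · intro j _ hj
      rw [Pi.single_apply, if_neg hj]
    · intro h; exact absurd (Finset.mem_univ i) h) (by rw [h4]; exact h2)
  intro i
  rw [← hci]
  exact h5 _ (by rw [hT]; exact Finset.mem_image_of_mem _ (Finset.mem_univ i))

end basisOmega

section phi

variable {A B : Type u} [CommRing A] [CommRing B] [Algebra A B]
variable {ι : Type} [Fintype ι] [DecidableEq ι] (z : ι → B)
variable {ι' : Type u} [Fintype ι'] [DecidableEq ι']
variable (b : Module.Basis ι B (KaehlerDifferential A B))

local notation "I" => KaehlerDifferential.ideal A B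

/-- the linear map on the tensor power sending the basis tensor `b^f` to the class of
`∏ ζ_{f j}` -/
noncomputable def gLin : PiTensorProduct B (fun _ : ι' => KaehlerDifferential A B) →ₗ[B]
    PP16.grI A B (Fintype.card ι') :=
  (Basis.piTensorProduct fun _ : ι' => b).constr B
    (fun f : ι' → ι => PP16.zetaProd A B (fun j => z (f j)))

lemma gLin_apply (y : PiTensorProduct B (fun _ : ι' => KaehlerDifferential A B)) :
    gLin z b y = grmk A B (Fintype.card ι')
      (∑ f : ι' → ι, (Basis.piTensorProduct fun _ : ι' => b).repr y f •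
        ⟨zmonf A z f, zmonf_mem z f⟩) := by
  unfold gLin
  rw [Module.Basis.constr_apply_fintype, map_sum]
  refine Finset.sum_congr rfl fun f _ => ?_
  rw [map_smul, zetaProd_comp, Module.Basis.equivFun_apply]

lemma zetaProd_perm (f : ι' → ι) (σ : Equiv.Perm ι') :
    PP16.zetaProd A B (fun j => z (f (σ j))) = PP16.zetaProd A B (fun j => z (f j)) := by
  rw [zetaProd_comp z (fun j => f (σ j)), zetaProd_comp z f]
  congr 1
  apply Subtype.ext
  change zmonf A z (fun j => f (σ j)) = zmonf A z f
  unfold zmonf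
  exact Equiv.prod_comp σ (fun j => dgen (A := A) (z (f j)))

lemma gLin_tprod (ω : ι' → KaehlerDifferential A B) :
    gLin z b (PiTensorProduct.tprod B ω) =
      ∑ f : ι' → ι, (∏ j, b.repr (ω j) (f j)) • PP16.zetaProd A B (fun j => z (f j)) := by
  unfold gLin
  rw [Module.Basis.constr_apply_fintype]
  refine Finset.sum_congr rfl fun f _ => ?_
  rw [Module.Basis.equivFun_apply, Basis.piTensorProduct_repr_tprod_apply]

lemma gLin_perm (σ : Equiv.Perm ι') (ω : ι' → KaehlerDifferential A B) :
    gLin z b (PiTensorProduct.tprod B fun j => ω (σ j)) = gLin z b (PiTensorProduct.tprod B ω) := by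
  rw [gLin_tprod, gLin_tprod]
  refine Finset.sum_bij' (fun f _ => f ∘ σ.symm) (fun f _ => f ∘ σ) ?_ ?_ ?_ ?_ ?_
  · intro f _; exact Finset.mem_univ _
  · intro f _; exact Finset.mem_univ _
  · intro f _; funext j; simp
  · intro f _; funext j; simp
  · intro f _
    have h1 : ∏ j, b.repr (ω (σ j)) (f j) = ∏ j, b.repr (ω j) ((f ∘ σ.symm) j) := by
      rw [← Equiv.prod_comp σ (fun j => b.repr (ω j) ((f ∘ σ.symm) j))]
      simp
    have h2 : PP16.zetaProd A B (fun j => z ((f ∘ σ.symm) j)) =
        PP16.zetaProd A B (fun j => z (f j)) := zetaProd_perm z f σ.symm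
    rw [h1, h2]

/-- the canonical map from the symmetric power to the graded piece -/
noncomputable def phi : SymmetricPower B ι' (KaehlerDifferential A B) →ₗ[B]
    PP16.grI A B (Fintype.card ι') :=
  symLift ((gLin z b).compMultilinearMap (PiTensorProduct.tprod B))
    (fun σ ω => gLin_perm z b σ ω)

lemma phi_mk (y : PiTensorProduct B (fun _ : ι' => KaehlerDifferential A B)) :
    phi z b (SymmetricPower.mk B ι' _ y) = gLin z b y := by
  unfold phi
  rw [symLift_mk]
  congr 1
  apply PiTensorProduct.ext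
  ext ω
  simp

lemma phi_tprod (ω : ι' → KaehlerDifferential A B) :
    phi z b (SymmetricPower.tprod B ω) = gLin z b (PiTensorProduct.tprod B ω) :=
  phi_mk z b _

lemma grmk_eq_of_sub_mem (n : ℕ) (w₁ w₂ : ↥((I ^ n).restrictScalars B))
    (h : (w₁ : B ⊗[A] B) - (w₂ : B ⊗[A] B) ∈ I ^ (n + 1)) : grmk A B n w₁ = grmk A B n w₂ := by
  rw [← sub_eq_zero, ← map_sub, grmk_eq_zero_iff]
  exact h

/-- the values of `phi` on products of differentials -/
lemma phi_tprod_D (hb : ∀ i, b i = KaehlerDifferential.D A B (z i)) (β : ι' → B) :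
    phi z b (SymmetricPower.tprod B fun j => KaehlerDifferential.D A B (β j)) =
      PP16.zetaProd A B β := by
  rw [phi_tprod, gLin_apply, zetaProd_eq]
  refine (grmk_eq_of_sub_mem _ _ _ ?_).symm
  rw [Submodule.coe_sum]
  set a : ι' → ι → B := fun j i => b.repr (KaehlerDifferential.D A B (β j)) i with ha
  have h1 : ∀ j, dgen (A := A) (β j) - ∑ i, a j i • dgen (A := A) (z i) ∈ I ^ 2 := by
    intro j
    refine dgen_sub_sum_mem_sq (A := A) Finset.univ (a j) z (β j) ?_
    conv_lhs => rw [← b.sum_repr (KaehlerDifferential.D A B (β j))]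
    refine Finset.sum_congr rfl fun i _ => ?_
    rw [hb]
  have h2 := prod_sub_prod_mem (I) Finset.univ (fun j => dgen (A := A) (β j))
    (fun j => ∑ i, a j i • dgen (A := A) (z i)) (fun j _ => dgen_mem (β j))
    (fun j _ => Ideal.sum_mem _ fun i _ =>
      Submodule.smul_of_tower_mem (I) (a j i) (dgen_mem (z i)))
    (fun j _ => h1 j)
  rw [Finset.card_univ] at h2
  have h3 : ∏ j, ∑ i, a j i • dgen (A := A) (z i) =
      ∑ f : ι' → ι, (((Basis.piTensorProduct fun _ : ι' => b).repr
        (PiTensorProduct.tprod B fun j => KaehlerDifferential.D A B (β j)) f •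
          (⟨zmonf A z f, zmonf_mem z f⟩ : ↥((I ^ (Fintype.card ι')).restrictScalars B)) :
            ↥((I ^ (Fintype.card ι')).restrictScalars B)) : B ⊗[A] B) := by
    rw [Finset.prod_univ_sum, Fintype.piFinset_univ]
    refine Finset.sum_congr rfl fun f _ => ?_
    rw [Submodule.coe_smul, Basis.piTensorProduct_repr_tprod_apply, Finset.prod_smul]
    rfl
  rw [← h3]
  exact h2

lemma phi_surjective
    (hz : Submodule.span B (Set.range fun i => KaehlerDifferential.D A B (z i)) = ⊤)
    (hb : ∀ i, b i = KaehlerDifferential.D A B (z i)) :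
    Function.Surjective (phi (A := A) z b (ι' := ι')) := by
  intro y
  obtain ⟨w, rfl⟩ := grmk_surjective _ y
  have hw := pow_le_span_zmon_sup (A := A) z hz (Fintype.card ι') w.2
  obtain ⟨u, hu, v, hv, huv⟩ := Submodule.mem_sup.1 hw
  have hK : Submodule.span B {x | ∃ p : ι → ℕ, ∑ i, p i = Fintype.card ι' ∧ x = zmon A z p} ≤
      (I ^ (Fintype.card ι')).restrictScalars B := by
    rw [Submodule.span_le]
    rintro _ ⟨p, hp, rfl⟩
    have := zmon_mem (A := A) z p
    rw [hp] at this
    exact this
  have key : ∀ (u : B ⊗[A] B)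
      (hu : u ∈ Submodule.span B {x | ∃ p : ι → ℕ, ∑ i, p i = Fintype.card ι' ∧ x = zmon A z p}),
      grmk A B (Fintype.card ι') ⟨u, hK hu⟩ ∈ LinearMap.range (phi (A := A) z b (ι' := ι')) := by
    intro u hu
    induction hu using Submodule.span_induction with
    | mem t ht =>
      obtain ⟨p, hp, rfl⟩ := ht
      obtain ⟨f, hf⟩ := exists_cnt_eq (ι' := ι') p hp
      refine ⟨symMon b f, ?_⟩
      have h1 : symMon b f = SymmetricPower.tprod B fun j => KaehlerDifferential.D A B (z (f j)) := by
        unfold symMon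
        simp_rw [hb]
      rw [h1, phi_tprod_D z b hb (fun j => z (f j)), zetaProd_comp]
      congr 1
      apply Subtype.ext
      change zmonf A z f = zmon A z p
      rw [zmonf_eq_zmon, hf]
    | zero =>
      have : (⟨0, hK (zero_mem _)⟩ : ↥((I ^ (Fintype.card ι')).restrictScalars B)) = 0 := rfl
      rw [this, map_zero]
      exact zero_mem _
    | add s t hs' ht' hs ht =>
      have : (⟨s + t, hK (add_mem hs' ht')⟩ : ↥((I ^ (Fintype.card ι')).restrictScalars B)) =
          ⟨s, hK hs'⟩ + ⟨t, hK ht'⟩ := rfl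
      rw [this, map_add]
      exact add_mem hs ht
    | smul c t ht' ht =>
      have : (⟨c • t, hK (Submodule.smul_mem _ c ht')⟩ :
          ↥((I ^ (Fintype.card ι')).restrictScalars B)) = c • ⟨t, hK ht'⟩ := rfl
      rw [this, map_smul]
      exact Submodule.smul_mem _ _ ht
  obtain ⟨x, hx⟩ := key u hu
  refine ⟨x, ?_⟩
  rw [hx]
  refine grmk_eq_of_sub_mem _ _ _ ?_
  change u - (w : B ⊗[A] B) ∈ _
  rw [← huv]
  have : u - (u + v) = -v := by ring
  rw [this]
  exact Ideal.neg_mem_iff _ |>.2 hv

lemma phi_injective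
    (hz : Submodule.span B (Set.range fun i => KaehlerDifferential.D A B (z i)) = ⊤)
    (Dp : (ι → ℕ) → (B →ₗ[A] B)) (hD : ∀ p, ∃ k : ℕ, Diff16.IsDiffOpLE A B B B k (Dp p))
    (hDz : ∀ p q : ι → ℕ, Dp p (∏ i, z i ^ q i) =
        ((∏ i, Nat.choose (q i) (p i) : ℕ) : B) * ∏ i, z i ^ (q i - p i)) :
    Function.Injective (phi (A := A) z b (ι' := ι')) := by
  rw [injective_iff_map_eq_zero]
  intro x hx
  obtain ⟨y, rfl⟩ : ∃ y, SymmetricPower.mk B ι' _ y = x := AddCon.mk'_surjective x
  rw [phi_mk, gLin_apply, grmk_eq_zero_iff, Submodule.coe_sum] at hx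
  apply sym_eq_zero_of_symCoord b
  intro q
  rw [symCoord_mk, LT_eq_sum_repr]
  set bT := Basis.piTensorProduct fun _ : ι' => b with hbT
  set T : Finset (ι → ℕ) := Finset.univ.image (cnt : (ι' → ι) → (ι → ℕ)) with hT
  set c : (ι → ℕ) → B := fun q =>
    ∑ f ∈ Finset.univ.filter (fun f : ι' → ι => cnt f = q), bT.repr y f with hc
  have h1 : ∑ q ∈ T, c q • zmon A z q ∈ I ^ (Fintype.card ι' + 1) := by
    convert hx using 1
    rw [← Finset.sum_fiberwise_of_maps_to (s := Finset.univ) (t := T) (g := cnt)
      (fun f _ => Finset.mem_image_of_mem _ (Finset.mem_univ f))]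
    refine Finset.sum_congr rfl fun q _ => ?_
    simp only [hc]
    rw [Finset.sum_smul]
    refine Finset.sum_congr rfl fun f hf => ?_
    rw [Submodule.coe_smul]
    change _ = _ • zmonf A z f
    rw [zmonf_eq_zmon, (Finset.mem_filter.1 hf).2]
  by_cases hq : q ∈ T
  · exact coeff_eq_zero_of_sum_mem_pow z hz Dp hD hDz T c (Fintype.card ι') (by
      intro p hp
      obtain ⟨f, -, rfl⟩ := Finset.mem_image.1 hp
      rw [sum_cnt]) h1 q hq
  · refine Finset.sum_eq_zero fun f hf => ?_
    exfalso
    apply hq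
    rw [Finset.mem_filter] at hf
    rw [← hf.2]
    exact Finset.mem_image_of_mem _ (Finset.mem_univ f)

end phi

end Groth.Agent.LibPP29
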