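import Groth.Agent.LibPP29f

/-!
# Principal parts VI: characteristic zero, free differentials of any rank
-/

set_option autoImplicit false
set_option linter.unusedSectionVars false
universe u v w

namespace Groth.Agent.LibPP29

open Diff16 Groth.Agent.LibDiff29
open scoped TensorProduct BigOperators

section Delta

variable {A B : Type u} [CommRing A] [CommRing B] [Algebra A B] (δ : Derivation A B B)

local notation "I" => KaehlerDifferential.ideal A B

/-- the derivation `1 ⊗ δ` of `B ⊗ B` -/
noncomputable def Delta : B ⊗[A] B →ₗ[B] B ⊗[A] B :=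
  TensorProduct.AlgebraTensorModule.map (LinearMap.id : B →ₗ[B] B) (δ.toLinearMap)

lemma Delta_tmul (b c : B) : Delta δ (b ⊗ₜ[A] c) = b ⊗ₜ[A] δ c := rfl

lemma Delta_mul (x y : B ⊗[A] B) : Delta δ (x * y) = x * Delta δ y + y * Delta δ x := by
  induction x using TensorProduct.induction_on with
  | zero => simp
  | add x₁ x₂ h₁ h₂ => rw [add_mul, map_add, h₁, h₂, map_add]; ring
  | tmul b c =>
    induction y using TensorProduct.induction_on with
    | zero => simp
    | add y₁ y₂ h₁ h₂ => rw [mul_add, map_add, h₁, h₂, map_add]; ring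
    | tmul b' c' =>
      rw [Algebra.TensorProduct.tmul_mul_tmul, Delta_tmul, Delta_tmul, Delta_tmul,
        Algebra.TensorProduct.tmul_mul_tmul, Algebra.TensorProduct.tmul_mul_tmul, δ.leibniz,
        TensorProduct.tmul_add, smul_eq_mul, smul_eq_mul, mul_comm b' b]

lemma lmul'_Delta (x : B ⊗[A] B) :
    Algebra.TensorProduct.lmul' A (Delta δ x) = δ.tensorProductTo x := by
  induction x using TensorProduct.induction_on with
  | zero => simp
  | add x₁ x₂ h₁ h₂ => rw [map_add, map_add, map_add, h₁, h₂]
  | tmul b c =>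
    rw [Delta_tmul, Algebra.TensorProduct.lmul'_apply_tmul, Derivation.tensorProductTo_tmul,
      smul_eq_mul]

lemma Delta_sub_mem (x : B ⊗[A] B) :
    Delta δ x - (δ.tensorProductTo x) ⊗ₜ[A] (1 : B) ∈ I := by
  change Algebra.TensorProduct.lmul' A _ = 0
  rw [map_sub, lmul'_Delta, Algebra.TensorProduct.lmul'_apply_tmul, mul_one, sub_self]

lemma Delta_mem_pow (n : ℕ) (x : B ⊗[A] B) (hx : x ∈ I ^ (n + 1)) : Delta δ x ∈ I ^ n := by
  induction n generalizing x with
  | zero => rw [pow_zero, Ideal.one_eq_top]; trivial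
  | succ n ih =>
    rw [pow_succ'] at hx
    refine Submodule.mul_induction_on hx ?_ ?_
    · intro y hy z hz
      rw [Delta_mul]
      refine Ideal.add_mem _ ?_ ?_
      · have := Ideal.mul_mem_mul hy (ih z hz)
        rwa [← pow_succ'] at this
      · exact Ideal.mul_mem_right _ _ hz
    · intro y z hy hz
      rw [map_add]; exact Ideal.add_mem _ hy hz

end Delta

section indep0

variable {A B : Type u} [CommRing A] [CommRing B] [Algebra A B]
variable {κ : Type w} [DecidableEq κ] (b : Module.Basis κ B (KaehlerDifferential A B))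
variable (w : κ → B ⊗[A] B)

local notation "I" => KaehlerDifferential.ideal A B

/-- the derivation dual to the basis vector `b k` -/
noncomputable def der (k : κ) : Derivation A B B :=
  (b.coord k).compDer (KaehlerDifferential.D A B)

lemma tensorProductTo_der (k : κ) (x : ↥(KaehlerDifferential.ideal A B)) :
    (der b k).tensorProductTo (x : B ⊗[A] B) =
      b.coord k ((KaehlerDifferential.ideal A B).toCotangent x) := by
  rw [← Derivation.liftKaehlerDifferential_apply]
  congr 1
  apply Derivation.liftKaehlerDifferential_unique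
  rw [Derivation.liftKaehlerDifferential_comp]
  rfl

lemma tensorProductTo_der_lift (hwI : ∀ k, w k ∈ KaehlerDifferential.ideal A B)
    (hw : ∀ k, (KaehlerDifferential.ideal A B).toCotangent ⟨w k, hwI k⟩ = b k) (k j : κ) :
    (der b k).tensorProductTo (w j) = if j = k then 1 else 0 := by
  have := tensorProductTo_der b k ⟨w j, hwI j⟩
  rw [this, hw, Module.Basis.coord_apply, Module.Basis.repr_self, Finsupp.single_apply]

/-- the monomial in the lifts attached to a multiset of indices -/
noncomputable def wm (s : Multiset κ) : B ⊗[A] B := (s.map w).prod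

lemma wm_zero : wm w (0 : Multiset κ) = 1 := by simp [wm]

lemma wm_cons (j : κ) (s : Multiset κ) : wm w (j ::ₘ s) = w j * wm w s := by simp [wm]

lemma wm_mem (hwI : ∀ k, w k ∈ KaehlerDifferential.ideal A B) (s : Multiset κ) :
    wm w s ∈ I ^ (Multiset.card s) := by
  induction s using Multiset.induction_on with
  | empty => simp [wm]
  | cons j s ih =>
    rw [wm_cons, Multiset.card_cons, pow_succ']
    exact Ideal.mul_mem_mul (hwI j) ih

lemma Delta_wm (hwI : ∀ k, w k ∈ KaehlerDifferential.ideal A B)
    (hw : ∀ k, (KaehlerDifferential.ideal A B).toCotangent ⟨w k, hwI k⟩ = b k) (k : κ)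
    (s : Multiset κ) :
    Delta (der b k) (wm w s) - ((s.count k : ℕ) : B) • wm w (s.erase k) ∈
      I ^ (Multiset.card s) := by
  induction s using Multiset.induction_on with
  | empty => simp [wm]
  | cons j s ih =>
    rw [wm_cons, Delta_mul, Multiset.card_cons]
    have h1 := Delta_sub_mem (der b k) (w j)
    rw [tensorProductTo_der_lift b w hwI hw] at h1
    have h2 : w j * (Delta (der b k) (wm w s) - ((s.count k : ℕ) : B) • wm w (s.erase k)) ∈
        I ^ (Multiset.card s + 1) := by
      have := Ideal.mul_mem_mul (hwI j) ih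
      rwa [← pow_succ'] at this
    have h3 : wm w s * (Delta (der b k) (w j) - (if j = k then (1 : B) else 0) ⊗ₜ[A] (1 : B)) ∈
        I ^ (Multiset.card s + 1) := by
      have := Ideal.mul_mem_mul (wm_mem w hwI s) h1
      rwa [← pow_succ] at this
    have h4 : w j * Delta (der b k) (wm w s) + wm w s * Delta (der b k) (w j) -
        (((j ::ₘ s).count k : ℕ) : B) • wm w ((j ::ₘ s).erase k) =
        w j * (Delta (der b k) (wm w s) - ((s.count k : ℕ) : B) • wm w (s.erase k)) +
        wm w s * (Delta (der b k) (w j) - (if j = k then (1 : B) else 0) ⊗ₜ[A] (1 : B)) := by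
      by_cases hjk : j = k
      · subst hjk
        rw [Multiset.count_cons_self, Multiset.erase_cons_head, if_pos rfl]
        by_cases hmem : j ∈ s
        · have h5 : w j * wm w (s.erase j) = wm w s := by
            rw [← wm_cons, Multiset.cons_erase hmem]
          rw [Nat.cast_add, Nat.cast_one, add_smul, one_smul, mul_sub, mul_sub, mul_smul_comm, h5,
            ← Algebra.TensorProduct.one_def, mul_one]
          ring
        · rw [Multiset.count_eq_zero_of_notMem hmem, Nat.cast_zero, zero_smul, zero_add,
            Nat.cast_one, one_smul, sub_zero, ← Algebra.TensorProduct.one_def]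
          ring
      · rw [Multiset.count_cons_of_ne (Ne.symm hjk), Multiset.erase_cons_tail s hjk, if_neg hjk,
          wm_cons, TensorProduct.zero_tmul, sub_zero, mul_sub, mul_smul_comm]
        ring
    rw [h4]
    exact Ideal.add_mem _ h2 h3

lemma isUnit_natCast_of_ratAlgebra [Algebra ℚ B] (m : ℕ) (hm : m ≠ 0) : IsUnit ((m : ℕ) : B) := by
  have h1 : IsUnit ((m : ℕ) : ℚ) := IsUnit.mk0 _ (Nat.cast_ne_zero.2 hm)
  have h2 := h1.map (algebraMap ℚ B)
  rwa [map_natCast] at h2

/-- in characteristic zero the monomials of degree `n` in lifts of a basis of the differentials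
are linearly independent modulo `I^(n+1)` -/
theorem coeff_eq_zero_of_charZero [Algebra ℚ B]
    (hwI : ∀ k, w k ∈ KaehlerDifferential.ideal A B)
    (hw : ∀ k, (KaehlerDifferential.ideal A B).toCotangent ⟨w k, hwI k⟩ = b k) :
    ∀ (n : ℕ) (T : Finset (Multiset κ)), (∀ s ∈ T, Multiset.card s = n) →
      ∀ C : Multiset κ → B, ∑ s ∈ T, C s • wm w s ∈ I ^ (n + 1) → ∀ s ∈ T, C s = 0 := by
  intro n
  induction n with
  | zero =>
    intro T hT C h s hs
    have hs0 : s = 0 := Multiset.card_eq_zero.1 (hT s hs)
    have hT0 : T = {0} := by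
      rw [Finset.eq_singleton_iff_unique_mem]
      exact ⟨hs0 ▸ hs, fun t ht => Multiset.card_eq_zero.1 (hT t ht)⟩
    rw [hT0, Finset.sum_singleton, wm_zero, zero_add, pow_one] at h
    have h' : Algebra.TensorProduct.lmul' A (C 0 • (1 : B ⊗[A] B)) = 0 := h
    rw [hs0]
    simpa [Algebra.TensorProduct.one_def, TensorProduct.smul_tmul'] using h'
  | succ n ih =>
    intro T hT C h s₀ hs₀
    have hcard : Multiset.card s₀ = n + 1 := hT s₀ hs₀
    obtain ⟨k, hk⟩ : ∃ k, k ∈ s₀ := Multiset.card_pos_iff_exists_mem.1 (by omega)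
    have h1 := Delta_mem_pow (der b k) (n + 1) _ h
    rw [map_sum] at h1
    have h2 : ∑ s ∈ T, (C s * ((s.count k : ℕ) : B)) • wm w (s.erase k) ∈ I ^ (n + 1) := by
      have h3 : ∑ s ∈ T, C s • (Delta (der b k) (wm w s) -
          ((s.count k : ℕ) : B) • wm w (s.erase k)) ∈ I ^ (n + 1) := by
        refine Ideal.sum_mem _ fun s hs => ?_
        have := Delta_wm b w hwI hw k s
        rw [hT s hs] at this
        exact Submodule.smul_of_tower_mem _ (C s) this
      have h4 : ∑ s ∈ T, (C s * ((s.count k : ℕ) : B)) • wm w (s.erase k) =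
          ∑ s ∈ T, Delta (der b k) (C s • wm w s) -
            ∑ s ∈ T, C s • (Delta (der b k) (wm w s) -
              ((s.count k : ℕ) : B) • wm w (s.erase k)) := by
        rw [← Finset.sum_sub_distrib]
        refine Finset.sum_congr rfl fun s _ => ?_
        rw [map_smul, smul_sub, mul_smul]
        abel
      rw [h4]
      exact Ideal.sub_mem _ h1 h3
    set Tk := T.filter (fun s => k ∈ s) with hTk
    have h5 : ∑ s ∈ T, (C s * ((s.count k : ℕ) : B)) • wm w (s.erase k) =
        ∑ s ∈ Tk, (C s * ((s.count k : ℕ) : B)) • wm w (s.erase k) := by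
      rw [hTk, Finset.sum_filter]
      refine Finset.sum_congr rfl fun s _ => ?_
      split_ifs with hmem
      · rfl
      · rw [Multiset.count_eq_zero_of_notMem hmem]; simp
    set T' := Tk.image (fun s => s.erase k) with hT'
    set C' : Multiset κ → B := fun t => C (k ::ₘ t) * (((k ::ₘ t).count k : ℕ) : B) with hC'
    have hinj : Set.InjOn (fun s : Multiset κ => s.erase k) Tk := by
      intro s hs t ht hst
      have hs' : k ∈ s := (Finset.mem_filter.1 hs).2
      have ht' : k ∈ t := (Finset.mem_filter.1 ht).2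
      simp only at hst
      rw [← Multiset.cons_erase hs', ← Multiset.cons_erase ht', hst]
    have h6 : ∑ t ∈ T', C' t • wm w t =
        ∑ s ∈ Tk, (C s * ((s.count k : ℕ) : B)) • wm w (s.erase k) := by
      rw [hT', Finset.sum_image hinj]
      refine Finset.sum_congr rfl fun s hs => ?_
      simp only [hC']
      rw [Multiset.cons_erase (Finset.mem_filter.1 hs).2]
    have h7 := ih T' (by
      intro t ht
      obtain ⟨s, hs, rfl⟩ := Finset.mem_image.1 ht
      rw [Multiset.card_erase_of_mem (Finset.mem_filter.1 hs).2, hT s (Finset.mem_filter.1 hs).1]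
      rfl) C' (by rw [h6, ← h5]; exact h2) (s₀.erase k)
      (Finset.mem_image_of_mem _ (Finset.mem_filter.2 ⟨hs₀, hk⟩))
    simp only [hC'] at h7
    rw [Multiset.cons_erase hk] at h7
    have hunit : IsUnit (((s₀.count k : ℕ) : B)) :=
      isUnit_natCast_of_ratAlgebra _ (Multiset.count_ne_zero.2 hk)
    exact (hunit.mul_left_eq_zero).1 h7

end indep0

end Groth.Agent.LibPP29
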