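import Groth.Agent.LibPP29g

/-!
# Principal parts VII: the canonical map from the symmetric power for free differentials
-/

set_option autoImplicit false
set_option linter.unusedSectionVars false
universe u v w

namespace Groth.Agent.LibPP29

open Diff16 Groth.Agent.LibDiff29
open scoped TensorProduct BigOperators Pointwise

section cnt'

variable {ι' : Type u} [Fintype ι'] [DecidableEq ι'] {κ : Type w} [DecidableEq κ]

lemma exists_perm_of_cnt_eq' (f f' : ι' → κ) (h : cnt f = cnt f') :
    ∃ σ : Equiv.Perm ι', f' = f ∘ σ := by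
  have hcard : ∀ c : κ, Fintype.card {j // f' j = c} = Fintype.card {j // f j = c} := by
    intro c
    have := congrFun h c
    unfold cnt at this
    rw [Fintype.card_subtype, Fintype.card_subtype]
    exact this.symm
  let ε : ∀ c : κ, {j // f' j = c} ≃ {j // f j = c} := fun c => Fintype.equivOfCardEq (hcard c)
  refine ⟨Equiv.ofFiberEquiv ε, ?_⟩
  funext j
  exact (Equiv.ofFiberEquiv_map ε j).symm

lemma cnt_eq_count (f : ι' → κ) (i : κ) :
    cnt f i = Multiset.count i (Finset.univ.val.map f) := by
  unfold cnt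
  rw [Multiset.count_map, Finset.card_def, Finset.filter_val]
  congr 1
  refine Multiset.filter_congr fun j _ => ?_
  exact eq_comm

lemma cnt_eq_of_map_eq (f f' : ι' → κ)
    (h : Finset.univ.val.map f = Finset.univ.val.map f') : cnt f = cnt f' := by
  funext i
  rw [cnt_eq_count, cnt_eq_count, h]

variable {R : Type u} [CommRing R] {M : Type v} [AddCommGroup M] [Module R M]
  (e : Module.Basis κ R M)

lemma symMon_eq_of_cnt_eq' (f f' : ι' → κ) (h : cnt f = cnt f') : symMon e f' = symMon e f := by
  obtain ⟨σ, rfl⟩ := exists_perm_of_cnt_eq' f f' h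
  unfold symMon
  exact SymmetricPower.tprod_equiv σ fun j => e (f j)

end cnt'

section phiW

variable {A B : Type u} [CommRing A] [CommRing B] [Algebra A B]
variable {κ : Type w} [DecidableEq κ] (b : Module.Basis κ B (KaehlerDifferential A B))
variable (w : κ → B ⊗[A] B)
variable {ι' : Type u} [Fintype ι'] [DecidableEq ι']

local notation "I" => KaehlerDifferential.ideal A B

/-- the product of the lifts along `f` -/
noncomputable def wmonf (f : ι' → κ) : B ⊗[A] B := ∏ j, w (f j)

lemma wmonf_eq_wm (f : ι' → κ) : wmonf w f = wm w (Finset.univ.val.map f) := by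
  unfold wmonf wm
  rw [Multiset.map_map]
  rfl

lemma wmonf_mem (hwI : ∀ k, w k ∈ KaehlerDifferential.ideal A B) (f : ι' → κ) :
    wmonf w f ∈ ((I) ^ (Fintype.card ι')).restrictScalars B := by
  have := PP16.prod_mem_pow (KaehlerDifferential.ideal A B) Finset.univ
    (fun j => w (f j)) (fun j _ => hwI (f j))
  rw [Finset.card_univ] at this
  exact this

lemma wmonf_perm (f : ι' → κ) (σ : Equiv.Perm ι') : wmonf w (fun j => f (σ j)) = wmonf w f := by
  unfold wmonf
  exact Equiv.prod_comp σ (fun j => w (f j))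

/-- the linear map on the tensor power sending the basis tensor `b^f` to the class of
`∏ w_{f j}` -/
noncomputable def gLinW (hwI : ∀ k, w k ∈ KaehlerDifferential.ideal A B) :
    PiTensorProduct B (fun _ : ι' => KaehlerDifferential A B) →ₗ[B]
      PP16.grI A B (Fintype.card ι') :=
  (Basis.piTensorProduct fun _ : ι' => b).constr B
    (fun f : ι' → κ => grmk A B (Fintype.card ι') ⟨wmonf w f, wmonf_mem w hwI f⟩)

lemma gLinW_basis (hwI : ∀ k, w k ∈ KaehlerDifferential.ideal A B) (f : ι' → κ) :
    gLinW b w hwI (PiTensorProduct.tprod B fun j => b (f j)) =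
      grmk A B (Fintype.card ι') ⟨wmonf w f, wmonf_mem w hwI f⟩ := by
  unfold gLinW
  rw [← Basis.piTensorProduct_apply, Module.Basis.constr_basis]

lemma gLinW_perm (hwI : ∀ k, w k ∈ KaehlerDifferential.ideal A B) (σ : Equiv.Perm ι')
    (ω : ι' → KaehlerDifferential A B) :
    gLinW b w hwI (PiTensorProduct.tprod B fun j => ω (σ j)) =
      gLinW b w hwI (PiTensorProduct.tprod B ω) := by
  set G := (gLinW b w hwI (ι' := ι')).compMultilinearMap (PiTensorProduct.tprod B) with hG
  have h1 : G.domDomCongr σ = G := by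
    refine Module.Basis.ext_multilinear (fun _ => b) fun f => ?_
    rw [MultilinearMap.domDomCongr_apply]
    simp only [hG, LinearMap.compMultilinearMap_apply]
    rw [gLinW_basis b w hwI (fun j => f (σ j)), gLinW_basis]
    congr 1
    apply Subtype.ext
    exact wmonf_perm w f σ
  have h2 := congrArg (fun H => H ω) h1
  simp only [MultilinearMap.domDomCongr_apply] at h2
  exact h2

/-- the canonical map from the symmetric power to the graded piece -/
noncomputable def phiW (hwI : ∀ k, w k ∈ KaehlerDifferential.ideal A B) :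
    SymmetricPower B ι' (KaehlerDifferential A B) →ₗ[B] PP16.grI A B (Fintype.card ι') :=
  symLift ((gLinW b w hwI).compMultilinearMap (PiTensorProduct.tprod B))
    (fun σ ω => gLinW_perm b w hwI σ ω)

lemma phiW_mk (hwI : ∀ k, w k ∈ KaehlerDifferential.ideal A B)
    (y : PiTensorProduct B (fun _ : ι' => KaehlerDifferential A B)) :
    phiW b w hwI (SymmetricPower.mk B ι' _ y) = gLinW b w hwI y := by
  unfold phiW
  rw [symLift_mk]
  congr 1
  apply PiTensorProduct.ext
  ext ω
  simp

lemma phiW_tprod (hwI : ∀ k, w k ∈ KaehlerDifferential.ideal A B)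
    (ω : ι' → KaehlerDifferential A B) :
    phiW b w hwI (SymmetricPower.tprod B ω) = gLinW b w hwI (PiTensorProduct.tprod B ω) :=
  phiW_mk b w hwI _

lemma lift_sub_mem_sq (hwI : ∀ k, w k ∈ KaehlerDifferential.ideal A B)
    (hw : ∀ k, (KaehlerDifferential.ideal A B).toCotangent ⟨w k, hwI k⟩ = b k)
    (x : ↥(KaehlerDifferential.ideal A B)) (s : Finset κ) (a : κ → B)
    (h : (KaehlerDifferential.ideal A B).toCotangent x = ∑ k ∈ s, a k • b k) :
    (x : B ⊗[A] B) - ∑ k ∈ s, a k • w k ∈ I ^ 2 := by
  have : LinearMap.CompatibleSMul { x // x ∈ I } Ω[B⁄A] B (B ⊗[A] B) := inferInstance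
  have h2 : (I).toCotangent (∑ k ∈ s, a k • (⟨w k, hwI k⟩ : I)) = (I).toCotangent x := by
    rw [map_sum, h]
    refine Finset.sum_congr rfl fun k _ => ?_
    rw [← hw k]
    exact LinearMap.map_smul_of_tower (I).toCotangent (a k) _
  have h3 := (Ideal.toCotangent_eq _).1 h2.symm
  convert h3 using 1
  simp only [Submodule.coe_sum]
  rfl

/-- the values of `gLinW` on products of classes of elements of `I` -/
lemma gLinW_tprod_toCotangent (hwI : ∀ k, w k ∈ KaehlerDifferential.ideal A B)
    (hw : ∀ k, (KaehlerDifferential.ideal A B).toCotangent ⟨w k, hwI k⟩ = b k)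
    (x : ι' → ↥(KaehlerDifferential.ideal A B))
    (hx : ∏ j, (x j : B ⊗[A] B) ∈ ((I) ^ (Fintype.card ι')).restrictScalars B) :
    gLinW b w hwI (PiTensorProduct.tprod B fun j => (KaehlerDifferential.ideal A B).toCotangent (x j)) =
      grmk A B (Fintype.card ι') ⟨∏ j, (x j : B ⊗[A] B), hx⟩ := by
  set ω : ι' → KaehlerDifferential A B := fun j => (KaehlerDifferential.ideal A B).toCotangent (x j)
    with hω
  set s : ι' → Finset κ := fun j => (b.repr (ω j)).support with hs
  set a : ι' → κ → B := fun j k => b.repr (ω j) k with ha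
  have h1 : ∀ j, ω j = ∑ k ∈ s j, a j k • b k := by
    intro j
    conv_lhs => rw [← b.linearCombination_repr (ω j)]
    rw [Finsupp.linearCombination_apply, Finsupp.sum]
  have h2 : ∀ j, (x j : B ⊗[A] B) - ∑ k ∈ s j, a j k • w k ∈ I ^ 2 := fun j =>
    lift_sub_mem_sq b w hwI hw (x j) (s j) (a j) (h1 j)
  have h3 := prod_sub_prod_mem (I) Finset.univ (fun j => (x j : B ⊗[A] B))
    (fun j => ∑ k ∈ s j, a j k • w k) (fun j _ => (x j).2)
    (fun j _ => Ideal.sum_mem _ fun k _ => Submodule.smul_of_tower_mem (I) (a j k) (hwI k))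
    (fun j _ => h2 j)
  rw [Finset.card_univ] at h3
  -- expand the left side
  have h4 : gLinW b w hwI (PiTensorProduct.tprod B ω) =
      grmk A B (Fintype.card ι') (∑ r ∈ Fintype.piFinset s, (∏ j, a j (r j)) •
        ⟨wmonf w r, wmonf_mem w hwI r⟩) := by
    have h5 : (PiTensorProduct.tprod B ω) =
        ∑ r ∈ Fintype.piFinset s, (∏ j, a j (r j)) • PiTensorProduct.tprod B fun j => b (r j) := by
      have h6 : ω = fun j => ∑ k ∈ s j, a j k • b k := funext h1
      rw [h6, MultilinearMap.map_sum_finset]
      refine Finset.sum_congr rfl fun r _ => ?_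
      rw [MultilinearMap.map_smul_univ]
    rw [h5, map_sum, map_sum]
    refine Finset.sum_congr rfl fun r _ => ?_
    rw [map_smul, map_smul, gLinW_basis]
  rw [h4]
  refine grmk_eq_of_sub_mem _ _ _ ?_
  rw [Submodule.coe_sum]
  have h7 : ∏ j, ∑ k ∈ s j, a j k • w k =
      ∑ r ∈ Fintype.piFinset s, (((∏ j, a j (r j)) •
        (⟨wmonf w r, wmonf_mem w hwI r⟩ : ↥((I ^ (Fintype.card ι')).restrictScalars B)) :
          ↥((I ^ (Fintype.card ι')).restrictScalars B)) : B ⊗[A] B) := by
    rw [Finset.prod_univ_sum]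
    refine Finset.sum_congr rfl fun r _ => ?_
    rw [Submodule.coe_smul, Finset.prod_smul]
    rfl
  rw [← h7]
  have h8 : ∏ j, ∑ k ∈ s j, a j k • w k - ∏ j, (x j : B ⊗[A] B) =
      -(∏ j, (x j : B ⊗[A] B) - ∏ j, ∑ k ∈ s j, a j k • w k) := by ring
  change ∏ j, ∑ k ∈ s j, a j k • w k - ∏ j, (x j : B ⊗[A] B) ∈ _
  rw [h8]
  exact Ideal.neg_mem_iff _ |>.2 h3

/-- the values of `phiW` on products of differentials -/
lemma phiW_tprod_D (hwI : ∀ k, w k ∈ KaehlerDifferential.ideal A B)
    (hw : ∀ k, (KaehlerDifferential.ideal A B).toCotangent ⟨w k, hwI k⟩ = b k) (β : ι' → B) :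
    phiW b w hwI (SymmetricPower.tprod B fun j => KaehlerDifferential.D A B (β j)) =
      PP16.zetaProd A B β := by
  rw [phiW_tprod, zetaProd_eq]
  exact gLinW_tprod_toCotangent b w hwI hw (fun j => ⟨dgen (A := A) (β j), dgen_mem (β j)⟩) _

end phiW

section surj

variable {A B : Type u} [CommRing A] [CommRing B] [Algebra A B]
variable {ι' : Type u} [Fintype ι']

local notation "I" => KaehlerDifferential.ideal A B

/-- any linear map from the symmetric power with the canonical values is surjective -/
theorem surjective_of_values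
    (φ : SymmetricPower B ι' (KaehlerDifferential A B) →ₗ[B] PP16.grI A B (Fintype.card ι'))
    (hφ : ∀ β : ι' → B, φ (SymmetricPower.tprod B fun j => KaehlerDifferential.D A B (β j)) =
      PP16.zetaProd A B β) : Function.Surjective φ := by
  classical
  intro y
  obtain ⟨w', rfl⟩ := grmk_surjective _ y
  by_cases hn : Fintype.card ι' = 0
  · have : IsEmpty ι' := Fintype.card_eq_zero_iff.1 hn
    have h1 : (1 : B ⊗[A] B) ∈ ((I) ^ (Fintype.card ι')).restrictScalars B := by
      rw [hn, pow_zero, Ideal.one_eq_top]; trivial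
    set c : B := Algebra.TensorProduct.lmul' A (w' : B ⊗[A] B) with hc
    have h2 : grmk A B (Fintype.card ι') w' = grmk A B (Fintype.card ι') (c • ⟨1, h1⟩) := by
      refine grmk_eq_of_sub_mem _ _ _ ?_
      have hI : (I) ^ (Fintype.card ι' + 1) = I := by rw [hn, zero_add, pow_one]
      rw [hI, Submodule.coe_smul]
      change Algebra.TensorProduct.lmul' A _ = 0
      rw [map_sub, ← hc]
      simp [Algebra.TensorProduct.one_def, TensorProduct.smul_tmul']
    have h3 : PP16.zetaProd A B (fun j : ι' => isEmptyElim j) =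
        grmk A B (Fintype.card ι') ⟨1, h1⟩ := by
      rw [zetaProd_eq]
      congr 1
      apply Subtype.ext
      simp
    refine ⟨c • SymmetricPower.tprod B fun j => KaehlerDifferential.D A B (isEmptyElim j), ?_⟩
    rw [map_smul, hφ, h3, h2, map_smul]
  · have h1 : Submodule.span B ((Set.range fun c : B => (1 : B) ⊗ₜ[A] c - c ⊗ₜ[A] (1 : B)) ^
        (Fintype.card ι')) = ((I) ^ (Fintype.card ι')).restrictScalars B := by
      rw [← Submodule.span_pow, KaehlerDifferential.submodule_span_range_eq_ideal,
        Submodule.restrictScalars_pow hn]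
    have key : ∀ (u : B ⊗[A] B)
        (hu : u ∈ Submodule.span B ((Set.range fun c : B => (1 : B) ⊗ₜ[A] c - c ⊗ₜ[A] (1 : B)) ^
          (Fintype.card ι'))),
        grmk A B (Fintype.card ι') ⟨u, h1.le hu⟩ ∈ LinearMap.range φ := by
      intro u hu
      induction hu using Submodule.span_induction with
      | mem t ht =>
        rw [Set.mem_pow] at ht
        obtain ⟨f, rfl⟩ := ht
        choose c hc using fun i => (f i).2
        let e := Fintype.equivFin ι'
        refine ⟨SymmetricPower.tprod B fun j => KaehlerDifferential.D A B (c (e j)), ?_⟩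
        rw [hφ, zetaProd_eq]
        congr 1
        apply Subtype.ext
        change ∏ j, dgen (A := A) (c (e j)) = (List.ofFn fun i => (f i : B ⊗[A] B)).prod
        rw [List.prod_ofFn, Equiv.prod_comp e (fun i => dgen (A := A) (c i))]
        refine Finset.prod_congr rfl fun i _ => ?_
        exact hc i
      | zero =>
        have : (⟨0, h1.le (zero_mem _)⟩ : ↥((I ^ (Fintype.card ι')).restrictScalars B)) = 0 := rfl
        rw [this, map_zero]
        exact zero_mem _
      | add s t hs' ht' hs ht =>
        have : (⟨s + t, h1.le (add_mem hs' ht')⟩ : ↥((I ^ (Fintype.card ι')).restrictScalars B)) =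
            ⟨s, h1.le hs'⟩ + ⟨t, h1.le ht'⟩ := rfl
        rw [this, map_add]
        exact add_mem hs ht
      | smul c t ht' ht =>
        have : (⟨c • t, h1.le (Submodule.smul_mem _ c ht')⟩ :
            ↥((I ^ (Fintype.card ι')).restrictScalars B)) = c • ⟨t, h1.le ht'⟩ := rfl
        rw [this, map_smul]
        exact Submodule.smul_mem _ _ ht
    obtain ⟨x, hx⟩ := key w'.1 (h1.ge w'.2)
    exact ⟨x, hx⟩

end surj

section injW

variable {A B : Type u} [CommRing A] [CommRing B] [Algebra A B] [Algebra ℚ B]
variable {κ : Type w} [DecidableEq κ] (b : Module.Basis κ B (KaehlerDifferential A B))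
variable (w : κ → B ⊗[A] B)
variable {ι' : Type u} [Fintype ι'] [DecidableEq ι']

local notation "I" => KaehlerDifferential.ideal A B

theorem phiW_injective (hwI : ∀ k, w k ∈ KaehlerDifferential.ideal A B)
    (hw : ∀ k, (KaehlerDifferential.ideal A B).toCotangent ⟨w k, hwI k⟩ = b k) :
    Function.Injective (phiW b w hwI (ι' := ι')) := by
  rw [injective_iff_map_eq_zero]
  intro x hx
  obtain ⟨y, rfl⟩ : ∃ y, SymmetricPower.mk B ι' _ y = x := AddCon.mk'_surjective x
  rw [phiW_mk] at hx
  set bT := Basis.piTensorProduct fun _ : ι' => b with hbT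
  set c := bT.repr y with hc
  have hy : y = ∑ f ∈ c.support, c f • bT f := by
    conv_lhs => rw [← bT.linearCombination_repr y]
    rw [Finsupp.linearCombination_apply, Finsupp.sum]
  have h1 : gLinW b w hwI y = grmk A B (Fintype.card ι')
      (∑ f ∈ c.support, c f • ⟨wmonf w f, wmonf_mem w hwI f⟩) := by
    conv_lhs => rw [hy]
    rw [map_sum, map_sum]
    refine Finset.sum_congr rfl fun f _ => ?_
    rw [map_smul, map_smul, hbT, Basis.piTensorProduct_apply, gLinW_basis]
  rw [h1, grmk_eq_zero_iff, Submodule.coe_sum] at hx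
  set cm : (ι' → κ) → Multiset κ := fun f => Finset.univ.val.map f with hcm
  set T : Finset (Multiset κ) := c.support.image cm with hT
  set C : Multiset κ → B := fun s => ∑ f ∈ c.support.filter (fun f => cm f = s), c f with hC
  have h2 : ∑ s ∈ T, C s • wm w s ∈ I ^ (Fintype.card ι' + 1) := by
    convert hx using 1
    rw [← Finset.sum_fiberwise_of_maps_to (s := c.support) (t := T) (g := cm)
      (fun f hf => Finset.mem_image_of_mem _ hf)]
    refine Finset.sum_congr rfl fun s _ => ?_
    simp only [hC]
    rw [Finset.sum_smul]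
    refine Finset.sum_congr rfl fun f hf => ?_
    rw [Submodule.coe_smul]
    change _ = _ • wmonf w f
    rw [wmonf_eq_wm, ← (Finset.mem_filter.1 hf).2]
  have h3 := coeff_eq_zero_of_charZero b w hwI hw (Fintype.card ι') T (by
    intro s hs
    obtain ⟨f, -, rfl⟩ := Finset.mem_image.1 hs
    simp [hcm]) C h2
  rw [hy, map_sum]
  rw [← Finset.sum_fiberwise_of_maps_to (s := c.support) (t := T) (g := cm)
    (fun f hf => Finset.mem_image_of_mem _ hf)]
  refine Finset.sum_eq_zero fun s hs => ?_
  obtain ⟨f₀, hf₀, hf₀s⟩ := Finset.mem_image.1 hs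
  have h4 : ∀ f ∈ c.support.filter (fun f => cm f = s),
      SymmetricPower.mk B ι' _ (c f • bT f) = c f • symMon b f₀ := by
    intro f hf
    rw [map_smul, hbT, Basis.piTensorProduct_apply]
    change c f • symMon b f = _
    rw [symMon_eq_of_cnt_eq' b f₀ f (cnt_eq_of_map_eq f₀ f (by
      have := (Finset.mem_filter.1 hf).2
      simp only [hcm] at this hf₀s
      rw [hf₀s, this]))]
  rw [Finset.sum_congr rfl h4, ← Finset.sum_smul]
  have h5 := h3 s hs
  simp only [hC] at h5
  rw [h5, zero_smul]

end injW

end Groth.Agent.LibPP29
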