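import Groth.Agent.LibPP29e
import Mathlib.RingTheory.MvPolynomial.Ideal

/-!
# Principal parts VIII: `P^m` as a truncated polynomial algebra when a monomial basis exists
-/

set_option autoImplicit false
set_option linter.unusedSectionVars false
universe u v w

namespace Groth.Agent.LibPP29

open Diff16 Groth.Agent.LibDiff29
open scoped TensorProduct BigOperators

section trunc

variable {A B : Type u} [CommRing A] [CommRing B] [Algebra A B]
variable {ι : Type} [Fintype ι] [DecidableEq ι] (z : ι → B)

local notation "I" => KaehlerDifferential.ideal A B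

lemma evz_eq (m : ℕ) :
    evz A z m = MvPolynomial.aeval (R := B) (S₁ := PP16.P m A B)
      (fun i => PP16.dn m A B (z i) - algebraMap B (PP16.P m A B) (z i)) := rfl

lemma coord_evz (m : ℕ) (bm : Module.Basis {p : ι → ℕ // ∑ i, p i ≤ m} B (PP16.P m A B))
    (hbm : ∀ p, bm p = zbar A z m p.1) (p : ι → ℕ) (hp : ∑ i, p i ≤ m)
    (G : MvPolynomial ι B) :
    bm.coord ⟨p, hp⟩ (evz A z m G) = G.coeff (Finsupp.equivFunOnFinite.symm p) := by
  conv_lhs => rw [MvPolynomial.as_sum G]
  rw [map_sum, map_sum]
  have h1 : ∀ r ∈ G.support, bm.coord ⟨p, hp⟩ (evz A z m (MvPolynomial.monomial r (G.coeff r))) =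
      if r = Finsupp.equivFunOnFinite.symm p then G.coeff r else 0 := by
    intro r _
    rw [evz_monomial, map_smul, coord_zbar z m bm hbm p hp]
    by_cases hrp : r = Finsupp.equivFunOnFinite.symm p
    · rw [if_pos hrp, if_pos (by rw [hrp]; rfl), smul_eq_mul, mul_one]
    · rw [if_neg hrp, if_neg, smul_zero]
      intro h
      apply hrp
      ext i
      exact congrFun h i
  rw [Finset.sum_congr rfl h1, Finset.sum_ite_eq']
  split_ifs with hmem
  · rfl
  · exact (MvPolynomial.notMem_support_iff.1 hmem).symm

theorem evz_surjective_and_ker (m : ℕ)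
    (bm : Module.Basis {p : ι → ℕ // ∑ i, p i ≤ m} B (PP16.P m A B))
    (hbm : ∀ p, bm p = zbar A z m p.1) :
    Function.Surjective (evz A z m) ∧
      RingHom.ker (evz A z m).toRingHom =
        (Ideal.span (Set.range (MvPolynomial.X : ι → MvPolynomial ι B))) ^ (m + 1) := by
  classical
  have : Finite {p : ι → ℕ // ∑ i, p i ≤ m} := S3818.finite_bounded ι m
  letI : Fintype {p : ι → ℕ // ∑ i, p i ≤ m} := Fintype.ofFinite _
  constructor
  · intro y
    refine ⟨∑ p, MvPolynomial.monomial (Finsupp.equivFunOnFinite.symm p.1) (bm.repr y p), ?_⟩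
    rw [map_sum]
    conv_rhs => rw [← bm.sum_repr y]
    refine Finset.sum_congr rfl fun p _ => ?_
    rw [evz_monomial, hbm]
    rfl
  · ext G
    rw [RingHom.mem_ker]
    change evz A z m G = 0 ↔ G ∈ MvPolynomial.idealOfVars ι B ^ (m + 1)
    rw [MvPolynomial.mem_pow_idealOfVars_iff']
    constructor
    · intro h q hq
      rw [Finsupp.degree_eq_sum] at hq
      have h1 := coord_evz z m bm hbm (fun i => q i) (by
        have : ∑ i, q i < m + 1 := hq
        omega) G
      rw [h, map_zero] at h1
      have h2 : (Finsupp.equivFunOnFinite.symm fun i => q i) = q := by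
        ext i; rfl
      rw [h2] at h1
      exact h1.symm
    · intro h
      rw [MvPolynomial.as_sum G, map_sum]
      refine Finset.sum_eq_zero fun q hq => ?_
      rw [evz_monomial]
      by_cases hqm : ∑ i, q i ≤ m
      · exfalso
        rw [MvPolynomial.mem_support_iff] at hq
        apply hq
        apply h
        rw [Finsupp.degree_eq_sum]
        change ∑ i, q i < m + 1
        omega
      · rw [zbar_eq_zero z m _ (by omega), smul_zero]

end trunc

end Groth.Agent.LibPP29
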