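import Groth.Agent.LibPP29j
import Mathlib.RingTheory.MvPolynomial.Ideal
import Mathlib.RingTheory.Smooth.Basic

/-!
# Principal parts X: the Taylor map of a formally smooth algebra attached to a free cover of the
differentials
-/

set_option autoImplicit false
set_option linter.unusedSectionVars false
universe u v w

namespace Groth.Agent.LibPP29

open Diff16 Groth.Agent.LibDiff29
open scoped TensorProduct BigOperators Pointwise

section taylor

variable {A B : Type u} [CommRing A] [CommRing B] [Algebra A B]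
variable {κ : Type w} [DecidableEq κ] {F : Type u} [AddCommGroup F] [Module B F]
  [Module A F] [IsScalarTower A B F]
variable (e : Module.Basis κ B F)
variable (i : KaehlerDifferential A B →ₗ[B] F)

local notation "I" => KaehlerDifferential.ideal A B
local notation "vars" => MvPolynomial.idealOfVars κ B

/-- the linear map sending the basis vector `e k` to the variable `X k` -/
noncomputable def Lam : F →ₗ[B] MvPolynomial κ B := e.constr B (MvPolynomial.X : κ → MvPolynomial κ B)

lemma Lam_basis (k : κ) : Lam e (e k) = MvPolynomial.X k := by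
  unfold Lam
  rw [Module.Basis.constr_basis]

lemma Lam_mem (v : F) : Lam e v ∈ MvPolynomial.idealOfVars κ B := by
  unfold Lam
  rw [Module.Basis.constr_apply, Finsupp.sum]
  refine Ideal.sum_mem _ fun k _ => ?_
  rw [MvPolynomial.smul_eq_C_mul]
  exact Ideal.mul_mem_left _ _ (Ideal.subset_span ⟨k, rfl⟩)

/-- the first order Taylor map `c ↦ c + Σ ℓ_k(dc) X_k` -/
noncomputable def tau1 : B →ₐ[A] (MvPolynomial κ B ⧸ (MvPolynomial.idealOfVars κ B) ^ 2) where
  toFun c := Ideal.Quotient.mk _ (MvPolynomial.C c + Lam e (i (KaehlerDifferential.D A B c)))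
  map_one' := by simp
  map_zero' := by simp
  map_add' c c' := by
    rw [← map_add]
    congr 1
    simp only [map_add]
    ring
  map_mul' c c' := by
    rw [← map_mul, Ideal.Quotient.eq]
    have h1 : Lam e (i (KaehlerDifferential.D A B (c * c'))) =
        MvPolynomial.C c * Lam e (i (KaehlerDifferential.D A B c')) +
          MvPolynomial.C c' * Lam e (i (KaehlerDifferential.D A B c)) := by
      rw [Derivation.leibniz, map_add, map_add, map_smul, map_smul, map_smul, map_smul,
        MvPolynomial.smul_eq_C_mul, MvPolynomial.smul_eq_C_mul]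
    have h2 : MvPolynomial.C (c * c') + Lam e (i (KaehlerDifferential.D A B (c * c'))) -
        (MvPolynomial.C c + Lam e (i (KaehlerDifferential.D A B c))) *
          (MvPolynomial.C c' + Lam e (i (KaehlerDifferential.D A B c'))) =
        -(Lam e (i (KaehlerDifferential.D A B c)) * Lam e (i (KaehlerDifferential.D A B c'))) := by
      rw [h1, map_mul]
      ring
    rw [h2, neg_mem_iff, pow_two]
    exact Ideal.mul_mem_mul (Lam_mem e _) (Lam_mem e _)
  commutes' a := by
    rw [Derivation.map_algebraMap, map_zero, map_zero, add_zero]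
    rfl

lemma tau1_apply (c : B) :
    tau1 e i c = Ideal.Quotient.mk _ (MvPolynomial.C c + Lam e (i (KaehlerDifferential.D A B c))) :=
  rfl

variable (A κ B) in
/-- the quotient map between truncated polynomial rings -/
noncomputable def gmap (N : ℕ) :
    (MvPolynomial κ B ⧸ (MvPolynomial.idealOfVars κ B) ^ (N + 2)) →ₐ[A]
      (MvPolynomial κ B ⧸ (MvPolynomial.idealOfVars κ B) ^ 2) :=
  Ideal.Quotient.factorₐ A (Ideal.pow_le_pow_right (by omega : 2 ≤ N + 2))

lemma gmap_mk (N : ℕ) (P : MvPolynomial κ B) :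
    gmap A B κ N (Ideal.Quotient.mk _ P) = Ideal.Quotient.mk _ P := rfl

lemma gmap_surjective (N : ℕ) : Function.Surjective (gmap A B κ N) :=
  Ideal.Quotient.factor_surjective
    (show (MvPolynomial.idealOfVars κ B) ^ (N + 2) ≤ (MvPolynomial.idealOfVars κ B) ^ 2 from
      Ideal.pow_le_pow_right (by omega : 2 ≤ N + 2))

lemma ker_gmap_le (N : ℕ) :
    RingHom.ker (gmap A B κ N : MvPolynomial κ B ⧸ vars ^ (N + 2) →+* MvPolynomial κ B ⧸ vars ^ 2) ≤
      ((MvPolynomial.idealOfVars κ B) ^ 2).map
        (Ideal.Quotient.mk ((MvPolynomial.idealOfVars κ B) ^ (N + 2))) := by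
  intro x hx
  obtain ⟨P, rfl⟩ := Ideal.Quotient.mk_surjective x
  rw [RingHom.mem_ker] at hx
  have h1 : (Ideal.Quotient.mk ((MvPolynomial.idealOfVars κ B) ^ 2)) P = 0 := hx
  rw [Ideal.Quotient.eq_zero_iff_mem] at h1
  exact Ideal.mem_map_of_mem _ h1

lemma ker_gmap_nilpotent (N : ℕ) : IsNilpotent (RingHom.ker (gmap A B κ N : MvPolynomial κ B ⧸ vars ^ (N + 2) →+* MvPolynomial κ B ⧸ vars ^ 2)) := by
  refine ⟨N + 2, ?_⟩
  rw [Ideal.zero_eq_bot, eq_bot_iff]
  refine (Ideal.pow_right_mono (ker_gmap_le N) (N + 2)).trans ?_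
  rw [← Ideal.map_pow, ← pow_mul]
  rw [Ideal.map_le_iff_le_comap]
  intro P hP
  rw [Ideal.mem_comap, Ideal.mem_bot, Ideal.Quotient.eq_zero_iff_mem]
  exact Ideal.pow_le_pow_right (by nlinarith) hP

variable [Algebra.FormallySmooth A B]

/-- the Taylor map of order `N + 1` -/
noncomputable def tau (N : ℕ) :
    B →ₐ[A] (MvPolynomial κ B ⧸ (MvPolynomial.idealOfVars κ B) ^ (N + 2)) :=
  Algebra.FormallySmooth.liftOfSurjective (tau1 e i) (gmap A B κ N) (gmap_surjective N)
    (ker_gmap_nilpotent N)

lemma gmap_tau (N : ℕ) (c : B) : gmap A B κ N (tau e i N c) = tau1 e i c :=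
  Algebra.FormallySmooth.liftOfSurjective_apply _ _ _ _ c

lemma tau_sub_mem (N : ℕ) (c : B) :
    tau e i N c - Ideal.Quotient.mk _
        (MvPolynomial.C c + Lam e (i (KaehlerDifferential.D A B c))) ∈
      ((MvPolynomial.idealOfVars κ B) ^ 2).map
        (Ideal.Quotient.mk ((MvPolynomial.idealOfVars κ B) ^ (N + 2))) := by
  apply ker_gmap_le (A := A) N
  rw [RingHom.mem_ker]
  change gmap A B κ N _ = 0
  rw [map_sub, gmap_tau, gmap_mk, tau1_apply, sub_self]

/-- the `B`-algebra map `B ⊗ B → B[X]/(X)^(N+2)` induced by the Taylor map -/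
noncomputable def Tmap (N : ℕ) :
    B ⊗[A] B →ₐ[B] (MvPolynomial κ B ⧸ (MvPolynomial.idealOfVars κ B) ^ (N + 2)) :=
  Algebra.TensorProduct.lift (Algebra.ofId B _) (tau e i N) (fun _ _ => Commute.all _ _)

lemma Tmap_tmul (N : ℕ) (b c : B) :
    Tmap e i N (b ⊗ₜ[A] c) = algebraMap B _ b * tau e i N c := by
  unfold Tmap
  rw [Algebra.TensorProduct.lift_tmul]
  rfl

/-- the derivation `i ∘ d` -/
noncomputable def derF : Derivation A B F := i.compDer (KaehlerDifferential.D A B)

omit [DecidableEq κ] [Algebra.FormallySmooth A B] in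
lemma tensorProductTo_derF (x : ↥(KaehlerDifferential.ideal A B)) :
    (derF i).tensorProductTo (x : B ⊗[A] B) =
      i ((KaehlerDifferential.ideal A B).toCotangent x) := by
  rw [← Derivation.liftKaehlerDifferential_apply]
  congr 1
  apply Derivation.liftKaehlerDifferential_unique
  rw [Derivation.liftKaehlerDifferential_comp]
  rfl

lemma Tmap_sub_mem (N : ℕ) (x : B ⊗[A] B) :
    Tmap e i N x - algebraMap B _ (Algebra.TensorProduct.lmul' A x) -
        Ideal.Quotient.mk _ (Lam e ((derF i).tensorProductTo x)) ∈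
      ((MvPolynomial.idealOfVars κ B) ^ 2).map
        (Ideal.Quotient.mk ((MvPolynomial.idealOfVars κ B) ^ (N + 2))) := by
  induction x using TensorProduct.induction_on with
  | zero => simp
  | add x y hx hy =>
    have : ∀ a b c a' b' c' : MvPolynomial κ B ⧸ (MvPolynomial.idealOfVars κ B) ^ (N + 2),
        (a + a') - (b + b') - (c + c') = (a - b - c) + (a' - b' - c') := by intros; ring
    rw [map_add, map_add, map_add, map_add, map_add, map_add, this]
    exact Ideal.add_mem _ hx hy
  | tmul b c =>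
    rw [Tmap_tmul, Algebra.TensorProduct.lmul'_apply_tmul, Derivation.tensorProductTo_tmul,
      map_smul, MvPolynomial.smul_eq_C_mul, map_mul, map_mul]
    have h1 : algebraMap B (MvPolynomial κ B ⧸ (MvPolynomial.idealOfVars κ B) ^ (N + 2)) b *
        tau e i N c - algebraMap B _ b * algebraMap B _ c -
          Ideal.Quotient.mk _ (MvPolynomial.C b) * Ideal.Quotient.mk _ (Lam e (derF i c)) =
        algebraMap B _ b * (tau e i N c - Ideal.Quotient.mk _
          (MvPolynomial.C c + Lam e (i (KaehlerDifferential.D A B c)))) := by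
      rw [map_add]
      change _ = algebraMap B _ b * (tau e i N c - (algebraMap B _ c +
        Ideal.Quotient.mk _ (Lam e (i (KaehlerDifferential.D A B c)))))
      change _ - _ - algebraMap B _ b * Ideal.Quotient.mk _ (Lam e (i (KaehlerDifferential.D A B c)))
        = _
      ring
    rw [h1]
    exact Ideal.mul_mem_left _ _ (tau_sub_mem e i N c)

lemma Tmap_sub_mem_of_mem (N : ℕ) (x : ↥(KaehlerDifferential.ideal A B)) :
    Tmap e i N (x : B ⊗[A] B) -
        Ideal.Quotient.mk _ (Lam e (i ((KaehlerDifferential.ideal A B).toCotangent x))) ∈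
      ((MvPolynomial.idealOfVars κ B) ^ 2).map
        (Ideal.Quotient.mk ((MvPolynomial.idealOfVars κ B) ^ (N + 2))) := by
  have h1 := Tmap_sub_mem e i N (x : B ⊗[A] B)
  have h2 : Algebra.TensorProduct.lmul' A (x : B ⊗[A] B) = 0 := x.2
  rw [h2, map_zero, sub_zero, tensorProductTo_derF] at h1
  exact h1

lemma Tmap_mem (N : ℕ) (x : B ⊗[A] B) (hx : x ∈ KaehlerDifferential.ideal A B) :
    Tmap e i N x ∈ (MvPolynomial.idealOfVars κ B).map
      (Ideal.Quotient.mk ((MvPolynomial.idealOfVars κ B) ^ (N + 2))) := by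
  have h1 := Tmap_sub_mem_of_mem e i N ⟨x, hx⟩
  have h2 : ((MvPolynomial.idealOfVars κ B) ^ 2).map
      (Ideal.Quotient.mk ((MvPolynomial.idealOfVars κ B) ^ (N + 2))) ≤
      (MvPolynomial.idealOfVars κ B).map
        (Ideal.Quotient.mk ((MvPolynomial.idealOfVars κ B) ^ (N + 2))) :=
    Ideal.map_mono (Ideal.pow_le_self (by norm_num))
  have h3 : Ideal.Quotient.mk ((MvPolynomial.idealOfVars κ B) ^ (N + 2))
      (Lam e (i ((KaehlerDifferential.ideal A B).toCotangent ⟨x, hx⟩))) ∈
      (MvPolynomial.idealOfVars κ B).map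
        (Ideal.Quotient.mk ((MvPolynomial.idealOfVars κ B) ^ (N + 2))) :=
    Ideal.mem_map_of_mem _ (Lam_mem e _)
  have := Ideal.add_mem _ (h2 h1) h3
  simpa using this

lemma Tmap_mem_pow (N m : ℕ) (x : B ⊗[A] B) (hx : x ∈ (KaehlerDifferential.ideal A B) ^ m) :
    Tmap e i N x ∈ ((MvPolynomial.idealOfVars κ B) ^ m).map
      (Ideal.Quotient.mk ((MvPolynomial.idealOfVars κ B) ^ (N + 2))) := by
  have h1 : (KaehlerDifferential.ideal A B).map (Tmap e i N) ≤
      (MvPolynomial.idealOfVars κ B).map
        (Ideal.Quotient.mk ((MvPolynomial.idealOfVars κ B) ^ (N + 2))) := by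
    rw [Ideal.map_le_iff_le_comap]
    intro x hx
    exact Tmap_mem e i N x hx
  have h2 := Ideal.pow_right_mono h1 m
  rw [← Ideal.map_pow, ← Ideal.map_pow] at h2
  exact h2 (Ideal.mem_map_of_mem _ hx)

end taylor

end Groth.Agent.LibPP29
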