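import Mathlib.RingTheory.IsTensorProduct
import Mathlib.RingTheory.Ideal.Quotient.Operations
import Mathlib.RingTheory.Kaehler.Basic
import Groth.Prelude.Def_PP16

/-!
# Base change of principal parts: the abstract inverse map
-/

set_option autoImplicit false
set_option linter.unusedSectionVars false
universe u

namespace Groth.Agent.LibPP29m

open scoped TensorProduct

section

variable (n : ℕ) (A B A' B' : Type u) [CommRing A] [CommRing B] [Algebra A B]
    [CommRing A'] [CommRing B'] [Algebra A' B'] [Algebra A A'] [Algebra B B'] [Algebra A B']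
    [IsScalarTower A A' B'] [IsScalarTower A B B'] [Algebra.IsPushout A B A' B']
variable (Q : Type u) [CommRing Q] [Algebra B Q] [Algebra A Q] [IsScalarTower A B Q]
variable (d : B →ₐ[A] Q) (aug : Ideal Q)

lemma mulC (x y : B' ⊗[B] Q) : x * y = y * x := mul_comm x y

/-- the map `b ↦ 1 ⊗ d b` -/
noncomputable def fB : B →ₐ[A] B' ⊗[B] Q :=
  ((Algebra.TensorProduct.includeRight : Q →ₐ[B] B' ⊗[B] Q).restrictScalars A).comp d

lemma fB_apply (b : B) : fB A B B' Q d b = (1 : B') ⊗ₜ[B] d b := rfl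

/-- the second-factor map `B' → B' ⊗_B Q` -/
noncomputable def g₂ : B' →ₐ[A] B' ⊗[B] Q :=
  Algebra.pushoutDesc B' (fB A B B' Q d) (IsScalarTower.toAlgHom A A' (B' ⊗[B] Q))
    (fun _ _ => mulC B B' Q _ _)

lemma g₂_algebraMap_B (b : B) :
    g₂ A B A' B' Q d (algebraMap B B' b) = (1 : B') ⊗ₜ[B] d b := by
  unfold g₂
  rw [Algebra.pushoutDesc_left]
  rfl

lemma g₂_algebraMap_A' (a' : A') :
    g₂ A B A' B' Q d (algebraMap A' B' a') = algebraMap A' (B' ⊗[B] Q) a' := by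
  unfold g₂
  rw [Algebra.pushoutDesc_right]
  rfl

/-- `g₂` as an `A'`-algebra map -/
noncomputable def g₂' : B' →ₐ[A'] B' ⊗[B] Q :=
  { (g₂ A B A' B' Q d).toRingHom with
    commutes' := fun a' => g₂_algebraMap_A' A B A' B' Q d a' }

lemma g₂'_apply (b' : B') : g₂' A B A' B' Q d b' = g₂ A B A' B' Q d b' := rfl

/-- the map `B' ⊗_{A'} B' → B' ⊗_B Q` -/
noncomputable def psi : B' ⊗[A'] B' →ₐ[B'] B' ⊗[B] Q :=
  Algebra.TensorProduct.lift (Algebra.ofId B' (B' ⊗[B] Q)) (g₂' A B A' B' Q d)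
    (fun _ _ => mulC B B' Q _ _)

lemma psi_tmul (b₁ b₂ : B') :
    psi A B A' B' Q d (b₁ ⊗ₜ[A'] b₂) = (b₁ ⊗ₜ[B] (1 : Q)) * g₂ A B A' B' Q d b₂ := by
  unfold psi
  rw [Algebra.TensorProduct.lift_tmul]
  rfl

/-- the ideal generated by `1 ⊗ aug` -/
noncomputable def Jid : Ideal (B' ⊗[B] Q) :=
  aug.map (Algebra.TensorProduct.includeRight : Q →ₐ[B] B' ⊗[B] Q)

lemma Jid_pow (haug : aug ^ (n + 1) = ⊥) : Jid B B' Q aug ^ (n + 1) = ⊥ := by
  unfold Jid
  rw [← Ideal.map_pow, haug, Ideal.map_bot]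

lemma g₂_sub_mem (hd : ∀ b, d b - algebraMap B Q b ∈ aug) (b' : B') :
    g₂ A B A' B' Q d b' - b' ⊗ₜ[B] (1 : Q) ∈ Jid B B' Q aug := by
  have key : (Ideal.Quotient.mkₐ A (Jid B B' Q aug)).comp (g₂ A B A' B' Q d) =
      (Ideal.Quotient.mkₐ A (Jid B B' Q aug)).comp
        ((Algebra.ofId B' (B' ⊗[B] Q)).restrictScalars A) := by
    apply Algebra.IsPushout.algHom_ext (R := A) (S := B) (R' := A') (S' := B')
    · ext a'
      simp only [AlgHom.comp_apply, IsScalarTower.coe_toAlgHom', AlgHom.restrictScalars_apply]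
      rw [g₂_algebraMap_A']
      congr 1
    · ext b
      simp only [AlgHom.comp_apply, IsScalarTower.coe_toAlgHom', AlgHom.restrictScalars_apply]
      rw [g₂_algebraMap_B]
      rw [Ideal.Quotient.mkₐ_eq_mk, Ideal.Quotient.eq]
      have h1 : (Algebra.ofId B' (B' ⊗[B] Q)) (algebraMap B B' b) =
          (1 : B') ⊗ₜ[B] algebraMap B Q b := by
        change (algebraMap B B' b) ⊗ₜ[B] (1 : Q) = _
        rw [Algebra.algebraMap_eq_smul_one, TensorProduct.smul_tmul, ← Algebra.algebraMap_eq_smul_one]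
      rw [h1, ← TensorProduct.tmul_sub]
      exact Ideal.mem_map_of_mem _ (hd b)
  have h := AlgHom.congr_fun key b'
  simp only [AlgHom.comp_apply, AlgHom.restrictScalars_apply, Ideal.Quotient.mkₐ_eq_mk] at h
  exact Ideal.Quotient.eq.1 h

lemma psi_mem (hd : ∀ b, d b - algebraMap B Q b ∈ aug) (t : B' ⊗[A'] B')
    (ht : t ∈ KaehlerDifferential.ideal A' B') :
    psi A B A' B' Q d t ∈ Jid B B' Q aug := by
  have h1 : KaehlerDifferential.ideal A' B' ≤ (Jid B B' Q aug).comap (psi A B A' B' Q d) := by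
    rw [← KaehlerDifferential.span_range_eq_ideal, Ideal.span_le]
    rintro _ ⟨b', rfl⟩
    rw [SetLike.mem_coe, Ideal.mem_comap, map_sub, psi_tmul, psi_tmul, map_one, mul_one]
    have h2 : ((1 : B') ⊗ₜ[B] (1 : Q)) = 1 := rfl
    rw [h2, one_mul]
    exact g₂_sub_mem A B A' B' Q d aug hd b'
  exact h1 ht

lemma psi_pow (haug : aug ^ (n + 1) = ⊥) (hd : ∀ b, d b - algebraMap B Q b ∈ aug)
    (t : B' ⊗[A'] B') (ht : t ∈ KaehlerDifferential.ideal A' B' ^ (n + 1)) :
    psi A B A' B' Q d t = 0 := by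
  have h1 : (KaehlerDifferential.ideal A' B').map (psi A B A' B' Q d) ≤ Jid B B' Q aug := by
    rw [Ideal.map_le_iff_le_comap]
    intro t ht
    exact psi_mem A B A' B' Q d aug hd t ht
  have h2 := Ideal.pow_right_mono h1 (n + 1)
  rw [← Ideal.map_pow, Jid_pow n B B' Q aug haug] at h2
  have h3 := h2 (Ideal.mem_map_of_mem _ ht)
  simpa using h3

/-- the inverse map `P^n_{B'/A'} → B' ⊗_B Q` -/
noncomputable def inv (haug : aug ^ (n + 1) = ⊥) (hd : ∀ b, d b - algebraMap B Q b ∈ aug) :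
    PP16.P n A' B' →ₐ[B'] B' ⊗[B] Q :=
  Ideal.Quotient.liftₐ ((KaehlerDifferential.ideal A' B') ^ (n + 1)) (psi A B A' B' Q d)
    (fun t ht => psi_pow n A B A' B' Q d aug haug hd t ht)

lemma inv_mk (haug : aug ^ (n + 1) = ⊥) (hd : ∀ b, d b - algebraMap B Q b ∈ aug)
    (t : B' ⊗[A'] B') :
    inv n A B A' B' Q d aug haug hd (Ideal.Quotient.mk _ t) = psi A B A' B' Q d t := rfl

variable (h : Q →ₐ[B] PP16.P n A' B')

/-- the canonical map `B' ⊗_B Q → P^n_{B'/A'}` -/
noncomputable def fwd : B' ⊗[B] Q →ₐ[B'] PP16.P n A' B' :=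
  Algebra.TensorProduct.lift (Algebra.ofId B' (PP16.P n A' B')) h (fun _ _ => Commute.all _ _)

lemma fwd_tmul (b' : B') (x : Q) :
    fwd n B A' B' Q h (b' ⊗ₜ[B] x) = algebraMap B' (PP16.P n A' B') b' * h x := by
  unfold fwd
  rw [Algebra.TensorProduct.lift_tmul]
  rfl

lemma fwd_g₂ (hh : ∀ b, h (d b) = PP16.dn n A' B' (algebraMap B B' b)) (b' : B') :
    fwd n B A' B' Q h (g₂ A B A' B' Q d b') = PP16.dn n A' B' b' := by
  have key : ((fwd n B A' B' Q h).restrictScalars A).comp (g₂ A B A' B' Q d) =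
      (PP16.dn n A' B').restrictScalars A := by
    apply Algebra.IsPushout.algHom_ext (R := A) (S := B) (R' := A') (S' := B')
    · ext a'
      simp only [AlgHom.comp_apply, IsScalarTower.coe_toAlgHom', AlgHom.restrictScalars_apply]
      rw [g₂_algebraMap_A', AlgHom.commutes]
      rw [IsScalarTower.algebraMap_apply A' B' (B' ⊗[B] Q), AlgHom.commutes]
      rfl
    · ext b
      simp only [AlgHom.comp_apply, IsScalarTower.coe_toAlgHom', AlgHom.restrictScalars_apply]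
      rw [g₂_algebraMap_B, fwd_tmul, map_one, one_mul, hh]
  exact AlgHom.congr_fun key b'

theorem fwd_comp_inv (haug : aug ^ (n + 1) = ⊥) (hd : ∀ b, d b - algebraMap B Q b ∈ aug)
    (hh : ∀ b, h (d b) = PP16.dn n A' B' (algebraMap B B' b)) :
    (fwd n B A' B' Q h).comp (inv n A B A' B' Q d aug haug hd) = AlgHom.id B' _ := by
  apply Ideal.Quotient.algHom_ext
  apply Algebra.TensorProduct.ext'
  intro b₁ b₂
  simp only [AlgHom.comp_apply, Ideal.Quotient.mkₐ_eq_mk, AlgHom.id_apply]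
  rw [inv_mk, psi_tmul, map_mul, fwd_tmul, map_one, mul_one, fwd_g₂ n A B A' B' Q d h hh]
  change Ideal.Quotient.mk _ (b₁ ⊗ₜ[A'] (1 : B')) * Ideal.Quotient.mk _ ((1 : B') ⊗ₜ[A'] b₂) = _
  rw [← map_mul, Algebra.TensorProduct.tmul_mul_tmul, mul_one, one_mul]

theorem inv_comp_fwd (haug : aug ^ (n + 1) = ⊥) (hd : ∀ b, d b - algebraMap B Q b ∈ aug)
    (hh : ∀ b, h (d b) = PP16.dn n A' B' (algebraMap B B' b))
    (hspan : Submodule.span B (Set.range d) = ⊤) :
    (inv n A B A' B' Q d aug haug hd).comp (fwd n B A' B' Q h) = AlgHom.id B' _ := by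
  have h1 : ∀ x : Q, inv n A B A' B' Q d aug haug hd (h x) = (1 : B') ⊗ₜ[B] x := by
    have h2 : ((inv n A B A' B' Q d aug haug hd).toLinearMap.restrictScalars B) ∘ₗ h.toLinearMap =
        (Algebra.TensorProduct.includeRight : Q →ₐ[B] B' ⊗[B] Q).toLinearMap := by
      apply LinearMap.ext_on_range hspan
      intro b
      simp only [LinearMap.comp_apply, AlgHom.toLinearMap_apply, LinearMap.restrictScalars_apply]
      rw [hh]
      change inv n A B A' B' Q d aug haug hd (Ideal.Quotient.mk _ ((1 : B') ⊗ₜ[A'] algebraMap B B' b))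
        = _
      rw [inv_mk, psi_tmul, g₂_algebraMap_B]
      have : ((1 : B') ⊗ₜ[B] (1 : Q)) = 1 := rfl
      rw [this, one_mul]
      rfl
    intro x
    exact LinearMap.congr_fun h2 x
  apply Algebra.TensorProduct.ext'
  intro b' x
  simp only [AlgHom.comp_apply, AlgHom.id_apply]
  rw [fwd_tmul, map_mul, h1]
  change inv n A B A' B' Q d aug haug hd (Ideal.Quotient.mk _ (b' ⊗ₜ[A'] (1 : B'))) * _ = _
  rw [inv_mk, psi_tmul, map_one, mul_one, Algebra.TensorProduct.tmul_mul_tmul, mul_one, one_mul]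

/-- `P^n_{B'/A'}` is the base change of `Q` -/
theorem isBaseChange (haug : aug ^ (n + 1) = ⊥) (hd : ∀ b, d b - algebraMap B Q b ∈ aug)
    (hh : ∀ b, h (d b) = PP16.dn n A' B' (algebraMap B B' b))
    (hspan : Submodule.span B (Set.range d) = ⊤) : IsBaseChange B' h.toLinearMap := by
  let e : (B' ⊗[B] Q) ≃ₐ[B'] PP16.P n A' B' :=
    AlgEquiv.ofAlgHom (fwd n B A' B' Q h) (inv n A B A' B' Q d aug haug hd)
      (fwd_comp_inv n A B A' B' Q d aug h haug hd hh)
      (inv_comp_fwd n A B A' B' Q d aug h haug hd hh hspan)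
  refine IsBaseChange.of_equiv e.toLinearEquiv ?_
  intro x
  change fwd n B A' B' Q h ((1 : B') ⊗ₜ[B] x) = h x
  rw [fwd_tmul, map_one, one_mul]

end

end Groth.Agent.LibPP29m
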