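import Mathlib.RingTheory.IsTensorProduct
import Mathlib.RingTheory.Ideal.Quotient.Operations
import Mathlib.RingTheory.Kaehler.Basic
import Groth.Prelude.Def_PP16

/-!
# Base change of principal parts: the abstract inverse map, parametrised by the second-factor map
-/

set_option autoImplicit false
set_option linter.unusedSectionVars false
universe u

namespace Groth.Agent.LibPP29n

open scoped TensorProduct

section

variable (n : ℕ) (A B A' B' : Type u) [CommRing A] [CommRing B] [Algebra A B]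
    [CommRing A'] [CommRing B'] [Algebra A' B'] [Algebra A A'] [Algebra B B'] [Algebra A B']
    [IsScalarTower A A' B'] [IsScalarTower A B B']
variable (Q : Type u) [CommRing Q] [Algebra B Q] [Algebra A Q] [IsScalarTower A B Q]
variable (d : B →ₐ[A] Q) (aug : Ideal Q)
variable (g₂ : B' →ₐ[A'] B' ⊗[B] Q)

lemma mulC (x y : B' ⊗[B] Q) : x * y = y * x := mul_comm x y

/-- the map `B' ⊗_{A'} B' → B' ⊗_B Q` -/
noncomputable def psi : B' ⊗[A'] B' →ₐ[B'] B' ⊗[B] Q :=
  Algebra.TensorProduct.lift (Algebra.ofId B' (B' ⊗[B] Q)) g₂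
    (fun _ _ => mulC B B' Q _ _)

lemma psi_tmul (b₁ b₂ : B') :
    psi B A' B' Q g₂ (b₁ ⊗ₜ[A'] b₂) = (b₁ ⊗ₜ[B] (1 : Q)) * g₂ b₂ := by
  unfold psi
  rw [Algebra.TensorProduct.lift_tmul]
  rfl

/-- the ideal generated by `1 ⊗ aug` -/
noncomputable def Jid : Ideal (B' ⊗[B] Q) :=
  aug.map (Algebra.TensorProduct.includeRight : Q →ₐ[B] B' ⊗[B] Q)

lemma Jid_pow (haug : aug ^ (n + 1) = ⊥) : Jid B B' Q aug ^ (n + 1) = ⊥ := by
  unfold Jid
  rw [← Ideal.map_pow, haug, Ideal.map_bot]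

/-- the extension principle for algebra maps out of `B'` -/
def ExtPrinciple : Prop :=
  ∀ (X : Type u) [CommRing X] [Algebra A X] (f g : B' →ₐ[A] X),
    (∀ b, f (algebraMap B B' b) = g (algebraMap B B' b)) →
    (∀ a', f (algebraMap A' B' a') = g (algebraMap A' B' a')) → f = g

lemma g₂_sub_mem (hext : ExtPrinciple A B A' B')
    (hg₂ : ∀ b, g₂ (algebraMap B B' b) = (1 : B') ⊗ₜ[B] d b)
    (hd : ∀ b, d b - algebraMap B Q b ∈ aug) (b' : B') :
    g₂ b' - b' ⊗ₜ[B] (1 : Q) ∈ Jid B B' Q aug := by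
  have key : (Ideal.Quotient.mkₐ A (Jid B B' Q aug)).comp (g₂.restrictScalars A) =
      (Ideal.Quotient.mkₐ A (Jid B B' Q aug)).comp
        ((Algebra.ofId B' (B' ⊗[B] Q)).restrictScalars A) := by
    apply hext
    · intro b
      simp only [AlgHom.comp_apply, AlgHom.restrictScalars_apply]
      rw [hg₂]
      rw [Ideal.Quotient.mkₐ_eq_mk, Ideal.Quotient.eq]
      have h1 : (Algebra.ofId B' (B' ⊗[B] Q)) (algebraMap B B' b) =
          (1 : B') ⊗ₜ[B] algebraMap B Q b := by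
        change (algebraMap B B' b) ⊗ₜ[B] (1 : Q) = _
        rw [Algebra.algebraMap_eq_smul_one, TensorProduct.smul_tmul, ← Algebra.algebraMap_eq_smul_one]
      rw [h1, ← TensorProduct.tmul_sub]
      exact Ideal.mem_map_of_mem _ (hd b)
    · intro a'
      simp only [AlgHom.comp_apply, AlgHom.restrictScalars_apply]
      rw [AlgHom.commutes]
      congr 1
  have h := AlgHom.congr_fun key b'
  simp only [AlgHom.comp_apply, AlgHom.restrictScalars_apply, Ideal.Quotient.mkₐ_eq_mk] at h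
  exact Ideal.Quotient.eq.1 h

lemma psi_mem (hext : ExtPrinciple A B A' B')
    (hg₂ : ∀ b, g₂ (algebraMap B B' b) = (1 : B') ⊗ₜ[B] d b)
    (hd : ∀ b, d b - algebraMap B Q b ∈ aug) (t : B' ⊗[A'] B')
    (ht : t ∈ KaehlerDifferential.ideal A' B') :
    psi B A' B' Q g₂ t ∈ Jid B B' Q aug := by
  have h1 : KaehlerDifferential.ideal A' B' ≤ (Jid B B' Q aug).comap (psi B A' B' Q g₂) := by
    rw [← KaehlerDifferential.span_range_eq_ideal, Ideal.span_le]
    rintro _ ⟨b', rfl⟩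
    rw [SetLike.mem_coe, Ideal.mem_comap, map_sub, psi_tmul, psi_tmul, map_one, mul_one]
    have h2 : ((1 : B') ⊗ₜ[B] (1 : Q)) = 1 := rfl
    rw [h2, one_mul]
    exact g₂_sub_mem A B A' B' Q d aug g₂ hext hg₂ hd b'
  exact h1 ht

lemma psi_pow (hext : ExtPrinciple A B A' B')
    (hg₂ : ∀ b, g₂ (algebraMap B B' b) = (1 : B') ⊗ₜ[B] d b)
    (haug : aug ^ (n + 1) = ⊥) (hd : ∀ b, d b - algebraMap B Q b ∈ aug)
    (t : B' ⊗[A'] B') (ht : t ∈ KaehlerDifferential.ideal A' B' ^ (n + 1)) :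
    psi B A' B' Q g₂ t = 0 := by
  have h1 : (KaehlerDifferential.ideal A' B').map (psi B A' B' Q g₂) ≤ Jid B B' Q aug := by
    rw [Ideal.map_le_iff_le_comap]
    intro t ht
    exact psi_mem A B A' B' Q d aug g₂ hext hg₂ hd t ht
  have h2 := Ideal.pow_right_mono h1 (n + 1)
  rw [← Ideal.map_pow, Jid_pow n B B' Q aug haug] at h2
  have h3 := h2 (Ideal.mem_map_of_mem _ ht)
  simpa using h3

/-- the inverse map `P^n_{B'/A'} → B' ⊗_B Q` -/
noncomputable def inv (hext : ExtPrinciple A B A' B')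
    (hg₂ : ∀ b, g₂ (algebraMap B B' b) = (1 : B') ⊗ₜ[B] d b)
    (haug : aug ^ (n + 1) = ⊥) (hd : ∀ b, d b - algebraMap B Q b ∈ aug) :
    PP16.P n A' B' →ₐ[B'] B' ⊗[B] Q :=
  Ideal.Quotient.liftₐ ((KaehlerDifferential.ideal A' B') ^ (n + 1)) (psi B A' B' Q g₂)
    (fun t ht => psi_pow n A B A' B' Q d aug g₂ hext hg₂ haug hd t ht)

lemma inv_mk (hext : ExtPrinciple A B A' B')
    (hg₂ : ∀ b, g₂ (algebraMap B B' b) = (1 : B') ⊗ₜ[B] d b)
    (haug : aug ^ (n + 1) = ⊥) (hd : ∀ b, d b - algebraMap B Q b ∈ aug)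
    (t : B' ⊗[A'] B') :
    inv n A B A' B' Q d aug g₂ hext hg₂ haug hd (Ideal.Quotient.mk _ t) = psi B A' B' Q g₂ t := rfl

variable (h : Q →ₐ[B] PP16.P n A' B')

/-- the canonical map `B' ⊗_B Q → P^n_{B'/A'}` -/
noncomputable def fwd : B' ⊗[B] Q →ₐ[B'] PP16.P n A' B' :=
  Algebra.TensorProduct.lift (Algebra.ofId B' (PP16.P n A' B')) h (fun _ _ => Commute.all _ _)

lemma fwd_tmul (b' : B') (x : Q) :
    fwd n B A' B' Q h (b' ⊗ₜ[B] x) = algebraMap B' (PP16.P n A' B') b' * h x := by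
  unfold fwd
  rw [Algebra.TensorProduct.lift_tmul]
  rfl

lemma fwd_g₂ (hext : ExtPrinciple A B A' B')
    (hg₂ : ∀ b, g₂ (algebraMap B B' b) = (1 : B') ⊗ₜ[B] d b)
    (hh : ∀ b, h (d b) = PP16.dn n A' B' (algebraMap B B' b)) (b' : B') :
    fwd n B A' B' Q h (g₂ b') = PP16.dn n A' B' b' := by
  have key : ((fwd n B A' B' Q h).restrictScalars A).comp (g₂.restrictScalars A) =
      (PP16.dn n A' B').restrictScalars A := by
    apply hext
    · intro b
      simp only [AlgHom.comp_apply, AlgHom.restrictScalars_apply]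
      rw [hg₂, fwd_tmul, map_one, one_mul, hh]
    · intro a'
      simp only [AlgHom.comp_apply, AlgHom.restrictScalars_apply]
      rw [AlgHom.commutes, AlgHom.commutes]
      rw [IsScalarTower.algebraMap_apply A' B' (B' ⊗[B] Q), AlgHom.commutes]
      rfl
  exact AlgHom.congr_fun key b'

theorem fwd_comp_inv (hext : ExtPrinciple A B A' B')
    (hg₂ : ∀ b, g₂ (algebraMap B B' b) = (1 : B') ⊗ₜ[B] d b)
    (haug : aug ^ (n + 1) = ⊥) (hd : ∀ b, d b - algebraMap B Q b ∈ aug)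
    (hh : ∀ b, h (d b) = PP16.dn n A' B' (algebraMap B B' b)) :
    (fwd n B A' B' Q h).comp (inv n A B A' B' Q d aug g₂ hext hg₂ haug hd) = AlgHom.id B' _ := by
  apply Ideal.Quotient.algHom_ext
  apply Algebra.TensorProduct.ext'
  intro b₁ b₂
  simp only [AlgHom.comp_apply, Ideal.Quotient.mkₐ_eq_mk, AlgHom.id_apply]
  rw [inv_mk, psi_tmul, map_mul, fwd_tmul, map_one, mul_one,
    fwd_g₂ n A B A' B' Q d g₂ h hext hg₂ hh]
  change Ideal.Quotient.mk _ (b₁ ⊗ₜ[A'] (1 : B')) * Ideal.Quotient.mk _ ((1 : B') ⊗ₜ[A'] b₂) = _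
  rw [← map_mul, Algebra.TensorProduct.tmul_mul_tmul, mul_one, one_mul]

theorem inv_comp_fwd (hext : ExtPrinciple A B A' B')
    (hg₂ : ∀ b, g₂ (algebraMap B B' b) = (1 : B') ⊗ₜ[B] d b)
    (haug : aug ^ (n + 1) = ⊥) (hd : ∀ b, d b - algebraMap B Q b ∈ aug)
    (hh : ∀ b, h (d b) = PP16.dn n A' B' (algebraMap B B' b))
    (hspan : Submodule.span B (Set.range d) = ⊤) :
    (inv n A B A' B' Q d aug g₂ hext hg₂ haug hd).comp (fwd n B A' B' Q h) = AlgHom.id B' _ := by
  have h1 : ∀ x : Q, inv n A B A' B' Q d aug g₂ hext hg₂ haug hd (h x) = (1 : B') ⊗ₜ[B] x := by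
    have h2 : ((inv n A B A' B' Q d aug g₂ hext hg₂ haug hd).toLinearMap.restrictScalars B) ∘ₗ
        h.toLinearMap =
        (Algebra.TensorProduct.includeRight : Q →ₐ[B] B' ⊗[B] Q).toLinearMap := by
      apply LinearMap.ext_on_range hspan
      intro b
      simp only [LinearMap.comp_apply, AlgHom.toLinearMap_apply, LinearMap.restrictScalars_apply]
      rw [hh]
      change inv n A B A' B' Q d aug g₂ hext hg₂ haug hd
        (Ideal.Quotient.mk _ ((1 : B') ⊗ₜ[A'] algebraMap B B' b)) = _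
      rw [inv_mk, psi_tmul, hg₂]
      have : ((1 : B') ⊗ₜ[B] (1 : Q)) = 1 := rfl
      rw [this, one_mul]
      rfl
    intro x
    exact LinearMap.congr_fun h2 x
  apply Algebra.TensorProduct.ext'
  intro b' x
  simp only [AlgHom.comp_apply, AlgHom.id_apply]
  rw [fwd_tmul, map_mul, h1]
  change inv n A B A' B' Q d aug g₂ hext hg₂ haug hd
    (Ideal.Quotient.mk _ (b' ⊗ₜ[A'] (1 : B'))) * _ = _
  rw [inv_mk, psi_tmul, map_one, mul_one, Algebra.TensorProduct.tmul_mul_tmul, mul_one, one_mul]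

/-- `P^n_{B'/A'}` is the base change of `Q` -/
theorem isBaseChange (hext : ExtPrinciple A B A' B')
    (hg₂ : ∀ b, g₂ (algebraMap B B' b) = (1 : B') ⊗ₜ[B] d b)
    (haug : aug ^ (n + 1) = ⊥) (hd : ∀ b, d b - algebraMap B Q b ∈ aug)
    (hh : ∀ b, h (d b) = PP16.dn n A' B' (algebraMap B B' b))
    (hspan : Submodule.span B (Set.range d) = ⊤) : IsBaseChange B' h.toLinearMap := by
  let e : (B' ⊗[B] Q) ≃ₐ[B'] PP16.P n A' B' :=
    AlgEquiv.ofAlgHom (fwd n B A' B' Q h) (inv n A B A' B' Q d aug g₂ hext hg₂ haug hd)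
      (fwd_comp_inv n A B A' B' Q d aug g₂ h hext hg₂ haug hd hh)
      (inv_comp_fwd n A B A' B' Q d aug g₂ h hext hg₂ haug hd hh hspan)
  refine IsBaseChange.of_equiv e.toLinearEquiv ?_
  intro x
  change fwd n B A' B' Q h ((1 : B') ⊗ₜ[B] x) = h x
  rw [fwd_tmul, map_one, one_mul]

end

section loc

variable (n : ℕ) (A B B' : Type u) [CommRing A] [CommRing B] [Algebra A B]
    [CommRing B'] [Algebra B B'] [Algebra A B'] [IsScalarTower A B B']
    (S : Submonoid B) [IsLocalization S B']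
variable (Q : Type u) [CommRing Q] [Algebra B Q] [Algebra A Q] [IsScalarTower A B Q]
variable (d : B →ₐ[A] Q) (aug : Ideal Q)

include S in
lemma extPrinciple_of_isLocalization : ExtPrinciple A B A B' := by
  intro X _ _ f g h1 _
  apply AlgHom.coe_ringHom_injective
  apply IsLocalization.ringHom_ext S
  ext b
  exact h1 b

/-- the map `b ↦ 1 ⊗ d b` -/
noncomputable def fB : B →ₐ[A] B' ⊗[B] Q :=
  ((Algebra.TensorProduct.includeRight : Q →ₐ[B] B' ⊗[B] Q).restrictScalars A).comp d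

lemma fB_apply (b : B) : fB A B B' Q d b = (1 : B') ⊗ₜ[B] d b := rfl

lemma isUnit_fB (haug : aug ^ (n + 1) = ⊥) (hd : ∀ b, d b - algebraMap B Q b ∈ aug) (s : S) :
    IsUnit (fB A B B' Q d s) := by
  have h0 : (algebraMap B B' s) ⊗ₜ[B] (1 : Q) = (1 : B') ⊗ₜ[B] algebraMap B Q s := by
    rw [Algebra.algebraMap_eq_smul_one, TensorProduct.smul_tmul, ← Algebra.algebraMap_eq_smul_one]
  have h1 : fB A B B' Q d s = (algebraMap B B' s) ⊗ₜ[B] (1 : Q) +
      (1 : B') ⊗ₜ[B] (d s - algebraMap B Q s) := by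
    rw [fB_apply, h0, ← TensorProduct.tmul_add]
    congr 1
    ring
  rw [h1]
  have hu : IsUnit ((algebraMap B B' s) ⊗ₜ[B] (1 : Q) : B' ⊗[B] Q) :=
    (IsLocalization.map_units B' s).map
      (Algebra.TensorProduct.includeLeft : B' →ₐ[B] B' ⊗[B] Q)
  have hn : IsNilpotent ((1 : B') ⊗ₜ[B] (d s - algebraMap B Q s) : B' ⊗[B] Q) := by
    refine ⟨n + 1, ?_⟩
    have hmem : (1 : B') ⊗ₜ[B] (d s - algebraMap B Q s) ∈ Jid B B' Q aug :=
      Ideal.mem_map_of_mem _ (hd s)
    have := Ideal.pow_mem_pow hmem (n + 1)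
    rw [Jid_pow n B B' Q aug haug] at this
    simpa using this
  exact hn.isUnit_add_left_of_commute hu (Commute.all _ _)

/-- the second-factor map for a localization -/
noncomputable def g₂loc (haug : aug ^ (n + 1) = ⊥) (hd : ∀ b, d b - algebraMap B Q b ∈ aug) :
    B' →ₐ[A] B' ⊗[B] Q :=
  { IsLocalization.lift (M := S) (g := (fB A B B' Q d).toRingHom)
      (fun s => isUnit_fB n A B B' S Q d aug haug hd s) with
    commutes' := fun a => by
      simp only [RingHom.toMonoidHom_eq_coe, OneHom.toFun_eq_coe, MonoidHom.toOneHom_coe,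
        MonoidHom.coe_coe]
      rw [IsScalarTower.algebraMap_apply A B B', IsLocalization.lift_eq]
      exact (fB A B B' Q d).commutes a }

lemma g₂loc_algebraMap (haug : aug ^ (n + 1) = ⊥) (hd : ∀ b, d b - algebraMap B Q b ∈ aug)
    (b : B) :
    g₂loc n A B B' S Q d aug haug hd (algebraMap B B' b) = (1 : B') ⊗ₜ[B] d b := by
  change IsLocalization.lift (M := S) (g := (fB A B B' Q d).toRingHom) _ (algebraMap B B' b) = _
  rw [IsLocalization.lift_eq]
  rfl

include S in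
/-- principal parts of a localization are the base change of principal parts -/
theorem isBaseChange_loc (h : Q →ₐ[B] PP16.P n A B')
    (haug : aug ^ (n + 1) = ⊥) (hd : ∀ b, d b - algebraMap B Q b ∈ aug)
    (hh : ∀ b, h (d b) = PP16.dn n A B' (algebraMap B B' b))
    (hspan : Submodule.span B (Set.range d) = ⊤) : IsBaseChange B' h.toLinearMap :=
  isBaseChange n A B A B' Q d aug (g₂loc n A B B' S Q d aug haug hd) h
    (extPrinciple_of_isLocalization A B B' S)
    (g₂loc_algebraMap n A B B' S Q d aug haug hd) haug hd hh hspan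

end loc

end Groth.Agent.LibPP29n
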