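import Groth.Agent.LibPP29l

/-!
# Principal parts XII: injectivity of the canonical map from an abstract Taylor map
-/

set_option autoImplicit false
set_option linter.unusedSectionVars false
universe u v w

namespace Groth.Agent.LibPP29

open Diff16 Groth.Agent.LibDiff29
open scoped TensorProduct BigOperators Pointwise

section abstractTau

variable {A B : Type u} [CommRing A] [CommRing B] [Algebra A B]
variable {κ : Type w} [DecidableEq κ] {F : Type u} [AddCommGroup F] [Module B F]
  [Module A F] [IsScalarTower A B F]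
variable (e : Module.Basis κ B F)
variable (i : KaehlerDifferential A B →ₗ[B] F)
variable (N : ℕ) (τ : B →ₐ[A] (MvPolynomial κ B ⧸ (MvPolynomial.idealOfVars κ B) ^ (N + 2)))

/-- `τ` is a Taylor map of order `N + 1`: it is `c ↦ c + Σ ℓ_k(dc) X_k` modulo terms of degree
`≥ 2` -/
def IsTaylor : Prop :=
  ∀ c : B, τ c - Ideal.Quotient.mk _
      (MvPolynomial.C c + Lam e (i (KaehlerDifferential.D A B c))) ∈
    ((MvPolynomial.idealOfVars κ B) ^ 2).map
      (Ideal.Quotient.mk ((MvPolynomial.idealOfVars κ B) ^ (N + 2)))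

/-- the `B`-algebra map `B ⊗ B → B[X]/(X)^(N+2)` induced by the Taylor map -/
noncomputable def TmapT :
    B ⊗[A] B →ₐ[B] (MvPolynomial κ B ⧸ (MvPolynomial.idealOfVars κ B) ^ (N + 2)) :=
  Algebra.TensorProduct.lift (Algebra.ofId B _) τ (fun _ _ => Commute.all _ _)

lemma TmapT_tmul (b c : B) :
    TmapT N τ (b ⊗ₜ[A] c) = algebraMap B _ b * τ c := by
  unfold TmapT
  rw [Algebra.TensorProduct.lift_tmul]
  rfl

lemma TmapT_sub_mem (hτ : IsTaylor e i N τ) (x : B ⊗[A] B) :
    TmapT N τ x - algebraMap B _ (Algebra.TensorProduct.lmul' A x) -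
        Ideal.Quotient.mk _ (Lam e ((derF i).tensorProductTo x)) ∈
      ((MvPolynomial.idealOfVars κ B) ^ 2).map
        (Ideal.Quotient.mk ((MvPolynomial.idealOfVars κ B) ^ (N + 2))) := by
  induction x using TensorProduct.induction_on with
  | zero => simp
  | add x y hx hy =>
    have : ∀ a b c a' b' c' : MvPolynomial κ B ⧸ (MvPolynomial.idealOfVars κ B) ^ (N + 2),
        (a + a') - (b + b') - (c + c') = (a - b - c) + (a' - b' - c') := by intros; ring
    rw [map_add, map_add, map_add, map_add, map_add, map_add, this]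
    exact Ideal.add_mem _ hx hy
  | tmul b c =>
    rw [TmapT_tmul, Algebra.TensorProduct.lmul'_apply_tmul, Derivation.tensorProductTo_tmul,
      map_smul, MvPolynomial.smul_eq_C_mul, map_mul, map_mul]
    have h1 : algebraMap B (MvPolynomial κ B ⧸ (MvPolynomial.idealOfVars κ B) ^ (N + 2)) b *
        τ c - algebraMap B _ b * algebraMap B _ c -
          Ideal.Quotient.mk _ (MvPolynomial.C b) * Ideal.Quotient.mk _ (Lam e (derF i c)) =
        algebraMap B _ b * (τ c - Ideal.Quotient.mk _
          (MvPolynomial.C c + Lam e (i (KaehlerDifferential.D A B c)))) := by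
      rw [map_add]
      change _ = algebraMap B _ b * (τ c - (algebraMap B _ c +
        Ideal.Quotient.mk _ (Lam e (i (KaehlerDifferential.D A B c)))))
      change _ - _ - algebraMap B _ b * Ideal.Quotient.mk _ (Lam e (i (KaehlerDifferential.D A B c)))
        = _
      ring
    rw [h1]
    exact Ideal.mul_mem_left _ _ (hτ c)

lemma TmapT_sub_mem_of_mem (hτ : IsTaylor e i N τ) (x : ↥(KaehlerDifferential.ideal A B)) :
    TmapT N τ (x : B ⊗[A] B) -
        Ideal.Quotient.mk _ (Lam e (i ((KaehlerDifferential.ideal A B).toCotangent x))) ∈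
      ((MvPolynomial.idealOfVars κ B) ^ 2).map
        (Ideal.Quotient.mk ((MvPolynomial.idealOfVars κ B) ^ (N + 2))) := by
  have h1 := TmapT_sub_mem e i N τ hτ (x : B ⊗[A] B)
  have h2 : Algebra.TensorProduct.lmul' A (x : B ⊗[A] B) = 0 := x.2
  rw [h2, map_zero, sub_zero, tensorProductTo_derF] at h1
  exact h1

lemma TmapT_mem (hτ : IsTaylor e i N τ) (x : B ⊗[A] B)
    (hx : x ∈ KaehlerDifferential.ideal A B) :
    TmapT N τ x ∈ (MvPolynomial.idealOfVars κ B).map
      (Ideal.Quotient.mk ((MvPolynomial.idealOfVars κ B) ^ (N + 2))) := by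
  have h1 := TmapT_sub_mem_of_mem e i N τ hτ ⟨x, hx⟩
  have h2 : ((MvPolynomial.idealOfVars κ B) ^ 2).map
      (Ideal.Quotient.mk ((MvPolynomial.idealOfVars κ B) ^ (N + 2))) ≤
      (MvPolynomial.idealOfVars κ B).map
        (Ideal.Quotient.mk ((MvPolynomial.idealOfVars κ B) ^ (N + 2))) :=
    Ideal.map_mono (Ideal.pow_le_self (by norm_num))
  have h3 : Ideal.Quotient.mk ((MvPolynomial.idealOfVars κ B) ^ (N + 2))
      (Lam e (i ((KaehlerDifferential.ideal A B).toCotangent ⟨x, hx⟩))) ∈
      (MvPolynomial.idealOfVars κ B).map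
        (Ideal.Quotient.mk ((MvPolynomial.idealOfVars κ B) ^ (N + 2))) :=
    Ideal.mem_map_of_mem _ (Lam_mem e _)
  have := Ideal.add_mem _ (h2 h1) h3
  simpa using this

lemma TmapT_mem_pow (hτ : IsTaylor e i N τ) (m : ℕ) (x : B ⊗[A] B)
    (hx : x ∈ (KaehlerDifferential.ideal A B) ^ m) :
    TmapT N τ x ∈ ((MvPolynomial.idealOfVars κ B) ^ m).map
      (Ideal.Quotient.mk ((MvPolynomial.idealOfVars κ B) ^ (N + 2))) := by
  have h1 : (KaehlerDifferential.ideal A B).map (TmapT N τ) ≤
      (MvPolynomial.idealOfVars κ B).map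
        (Ideal.Quotient.mk ((MvPolynomial.idealOfVars κ B) ^ (N + 2))) := by
    rw [Ideal.map_le_iff_le_comap]
    intro x hx
    exact TmapT_mem e i N τ hτ x hx
  have h2 := Ideal.pow_right_mono h1 m
  rw [← Ideal.map_pow, ← Ideal.map_pow] at h2
  exact h2 (Ideal.mem_map_of_mem _ hx)

end abstractTau

section inj

variable {A B : Type u} [CommRing A] [CommRing B] [Algebra A B]
variable {κ : Type w} [DecidableEq κ] {F : Type u} [AddCommGroup F] [Module B F]
  [Module A F] [IsScalarTower A B F]
variable (e : Module.Basis κ B F) (π : F →ₗ[B] KaehlerDifferential A B)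
variable (i : KaehlerDifferential A B →ₗ[B] F)
variable (w : κ → B ⊗[A] B)
variable {ι' : Type u} [Fintype ι'] [DecidableEq ι']

local notation "I" => KaehlerDifferential.ideal A B

/-- a tensor of differentials whose polynomial vanishes has zero class in the symmetric power -/
theorem mk_eq_zero_of_Theta_eq_zero (hπi : ∀ ω, π (i ω) = ω)
    (y : PiTensorProduct B (fun _ : ι' => KaehlerDifferential A B))
    (h6 : Theta e (PiTensorProduct.map (fun _ : ι' => i) y) = 0) :
    SymmetricPower.mk B ι' _ y = 0 := by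
  set y' := PiTensorProduct.map (fun _ : ι' => i) y with hy'def
  set eT := Basis.piTensorProduct fun _ : ι' => e with heT
  set c := eT.repr y' with hc
  have hy' : y' = ∑ f ∈ c.support, c f • eT f := by
    conv_lhs => rw [← eT.linearCombination_repr y']
    rw [Finsupp.linearCombination_apply, Finsupp.sum]
  set cm : (ι' → κ) → Multiset κ := fun f => Finset.univ.val.map f with hcm
  have h7 : ∀ s : Multiset κ, ∑ f ∈ c.support.filter (fun f => cm f = s), c f = 0 := by
    intro s
    have h8 := congrArg (MvPolynomial.coeff (Multiset.toFinsupp s)) h6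
    rw [hy', map_sum, MvPolynomial.coeff_sum, MvPolynomial.coeff_zero] at h8
    rw [← h8, Finset.sum_filter]
    refine Finset.sum_congr rfl fun f _ => ?_
    rw [map_smul, heT, Basis.piTensorProduct_apply, Theta_basis, MvPolynomial.coeff_smul,
      MvPolynomial.coeff_monomial]
    by_cases h : cm f = s
    · rw [if_pos h, if_pos (by rw [← h]), smul_eq_mul, mul_one]
    · rw [if_neg h, if_neg (fun h' => h (Multiset.toFinsupp.injective h')), smul_zero]
  have hy : y = PiTensorProduct.map (fun _ : ι' => π) y' := by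
    rw [hy'def, ← LinearMap.comp_apply, ← PiTensorProduct.map_comp]
    have : (fun _ : ι' => π ∘ₗ i) = fun _ => LinearMap.id := funext fun _ => LinearMap.ext hπi
    rw [this, PiTensorProduct.map_id]
    rfl
  rw [hy, hy', map_sum, map_sum]
  rw [← Finset.sum_fiberwise_of_maps_to (s := c.support) (t := c.support.image cm) (g := cm)
    (fun f hf => Finset.mem_image_of_mem _ hf)]
  refine Finset.sum_eq_zero fun s hs => ?_
  obtain ⟨f₀, hf₀, hf₀s⟩ := Finset.mem_image.1 hs
  have h8 : ∀ f ∈ c.support.filter (fun f => cm f = s),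
      SymmetricPower.mk B ι' _ (PiTensorProduct.map (fun _ : ι' => π) (c f • eT f)) =
        c f • SymmetricPower.tprod B (fun j => π (e (f₀ j))) := by
    intro f hf
    rw [map_smul, map_smul, heT, Basis.piTensorProduct_apply, PiTensorProduct.map_tprod]
    congr 1
    obtain ⟨σ, hσ⟩ := exists_perm_of_cnt_eq' f₀ f (cnt_eq_of_map_eq f₀ f (by
      have := (Finset.mem_filter.1 hf).2
      simp only [hcm] at this hf₀s
      rw [hf₀s, this]))
    subst hσ
    exact SymmetricPower.tprod_equiv σ (fun j => π (e (f₀ j)))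
  rw [Finset.sum_congr rfl h8, ← Finset.sum_smul, h7 s, zero_smul]

variable (N : ℕ) (τ : B →ₐ[A] (MvPolynomial κ B ⧸ (MvPolynomial.idealOfVars κ B) ^ (N + 2)))

lemma exists_repT (hτ : IsTaylor e i N τ) (hπi : ∀ ω, π (i ω) = ω)
    (hwI : ∀ k, w k ∈ KaehlerDifferential.ideal A B)
    (hw : ∀ k, (KaehlerDifferential.ideal A B).toCotangent ⟨w k, hwI k⟩ = π (e k))
    (y : PiTensorProduct B (fun _ : ι' => KaehlerDifferential A B)) :
    ∃ (W : B ⊗[A] B) (hW : W ∈ ((I) ^ (Fintype.card ι')).restrictScalars B),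
      gLinΩ e i w hwI y = grmk A B (Fintype.card ι') ⟨W, hW⟩ ∧
      TmapT N τ W - Ideal.Quotient.mk _ (Theta e (PiTensorProduct.map (fun _ : ι' => i) y)) ∈
        ((MvPolynomial.idealOfVars κ B) ^ (Fintype.card ι' + 1)).map
          (Ideal.Quotient.mk ((MvPolynomial.idealOfVars κ B) ^ (N + 2))) := by
  induction y using PiTensorProduct.induction_on with
  | smul_tprod r ω =>
    have hsurj := Ideal.toCotangent_surjective (KaehlerDifferential.ideal A B)
    choose x hx using fun j => hsurj (ω j)
    have hprod : ∏ j, (x j : B ⊗[A] B) ∈ ((I) ^ (Fintype.card ι')).restrictScalars B := by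
      have := PP16.prod_mem_pow (KaehlerDifferential.ideal A B) Finset.univ
        (fun j => (x j : B ⊗[A] B)) (fun j _ => (x j).2)
      rw [Finset.card_univ] at this
      exact this
    refine ⟨r • ∏ j, (x j : B ⊗[A] B), Submodule.smul_mem _ r hprod, ?_, ?_⟩
    · rw [map_smul, gLinΩ_tprod,
        gLinF_tprod e π w hwI hw (fun j => i (ω j)) x (fun j => by rw [hx, hπi]) hprod, ← map_smul]
      rfl
    · have hA : TmapT N τ (r • ∏ j, (x j : B ⊗[A] B)) =
          algebraMap B (MvPolynomial κ B ⧸ (MvPolynomial.idealOfVars κ B) ^ (N + 2)) r *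
            ∏ j, TmapT N τ (x j : B ⊗[A] B) := by
        rw [map_smul, map_prod]
        exact Algebra.smul_def (R := B)
          (A := MvPolynomial κ B ⧸ (MvPolynomial.idealOfVars κ B) ^ (N + 2)) r _
      have hB : Ideal.Quotient.mk ((MvPolynomial.idealOfVars κ B) ^ (N + 2))
          (Theta e (PiTensorProduct.map (fun _ : ι' => i) (r • PiTensorProduct.tprod B ω))) =
          algebraMap B (MvPolynomial κ B ⧸ (MvPolynomial.idealOfVars κ B) ^ (N + 2)) r *
            ∏ j, Ideal.Quotient.mk ((MvPolynomial.idealOfVars κ B) ^ (N + 2))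
              (Lam e (i (ω j))) := by
        rw [map_smul, PiTensorProduct.map_tprod, map_smul, Theta_tprod,
          MvPolynomial.smul_eq_C_mul, map_mul, map_prod]
        rfl
      have h1 := prod_sub_prod_mem
        ((MvPolynomial.idealOfVars κ B).map
          (Ideal.Quotient.mk ((MvPolynomial.idealOfVars κ B) ^ (N + 2)))) Finset.univ
        (fun j => TmapT N τ (x j : B ⊗[A] B))
        (fun j => Ideal.Quotient.mk ((MvPolynomial.idealOfVars κ B) ^ (N + 2)) (Lam e (i (ω j))))
        (fun j _ => TmapT_mem e i N τ hτ _ (x j).2)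
        (fun j _ => Ideal.mem_map_of_mem _ (Lam_mem e _))
        (fun j _ => by
          rw [← Ideal.map_pow]
          have := TmapT_sub_mem_of_mem e i N τ hτ (x j)
          rw [hx] at this
          exact this)
      rw [Finset.card_univ, ← Ideal.map_pow] at h1
      rw [hA, hB, ← mul_sub]
      exact Ideal.mul_mem_left _ _ h1
  | add y₁ y₂ h₁ h₂ =>
    obtain ⟨W₁, hW₁, h11, h12⟩ := h₁
    obtain ⟨W₂, hW₂, h21, h22⟩ := h₂
    refine ⟨W₁ + W₂, add_mem hW₁ hW₂, ?_, ?_⟩
    · rw [map_add, h11, h21, ← map_add]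
      rfl
    · rw [map_add, map_add, map_add, map_add]
      have : ∀ a b c d : MvPolynomial κ B ⧸ (MvPolynomial.idealOfVars κ B) ^ (N + 2),
          a + b - (c + d) = (a - c) + (b - d) := by intros; ring
      rw [this]
      exact Ideal.add_mem _ h12 h22

/-- injectivity of the canonical map from the symmetric power, given a Taylor map of high enough
order -/
theorem phiF_injective_of_isTaylor (hτ : IsTaylor e i N τ) (hN : Fintype.card ι' ≤ N)
    (hπi : ∀ ω, π (i ω) = ω)
    (hwI : ∀ k, w k ∈ KaehlerDifferential.ideal A B)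
    (hw : ∀ k, (KaehlerDifferential.ideal A B).toCotangent ⟨w k, hwI k⟩ = π (e k)) :
    Function.Injective (phiF e i w hwI (ι' := ι')) := by
  rw [injective_iff_map_eq_zero]
  intro x hx
  obtain ⟨y, rfl⟩ : ∃ y, SymmetricPower.mk B ι' _ y = x := AddCon.mk'_surjective x
  rw [phiF_mk] at hx
  obtain ⟨W, hW, h1, h2⟩ := exists_repT e π i w N τ hτ hπi hwI hw y
  rw [h1, grmk_eq_zero_iff] at hx
  have h3 := TmapT_mem_pow e i N τ hτ (Fintype.card ι' + 1) W hx
  set y' := PiTensorProduct.map (fun _ : ι' => i) y with hy'def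
  have h4 : Ideal.Quotient.mk ((MvPolynomial.idealOfVars κ B) ^ (N + 2))
      (Theta e y') ∈ ((MvPolynomial.idealOfVars κ B) ^ (Fintype.card ι' + 1)).map
        (Ideal.Quotient.mk ((MvPolynomial.idealOfVars κ B) ^ (N + 2))) := by
    have := Ideal.sub_mem _ h3 h2
    simpa using this
  have h5 : Theta e y' ∈ (MvPolynomial.idealOfVars κ B) ^ (Fintype.card ι' + 1) := by
    rw [Ideal.mem_map_iff_of_surjective _ Ideal.Quotient.mk_surjective] at h4
    obtain ⟨Q, hQ, hQP⟩ := h4
    rw [Ideal.Quotient.eq] at hQP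
    have : Theta e y' = Q - (Q - Theta e y') := by ring
    rw [this]
    exact Ideal.sub_mem _ hQ (Ideal.pow_le_pow_right (by omega) hQP)
  have h6 : Theta e y' = 0 :=
    eq_zero_of_isHomogeneous_of_mem (Fintype.card ι') _ (Theta_isHomogeneous e y') h5
  exact mk_eq_zero_of_Theta_eq_zero e π i hπi y h6

end inj

end Groth.Agent.LibPP29
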