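import Groth.Agent.LibPP29o

/-!
# Principal parts XIII: the Taylor map of a differentially smooth algebra
-/

set_option autoImplicit false
set_option linter.unusedSectionVars false
universe u v w

namespace Groth.Agent.LibPP29

open Diff16 Groth.Agent.LibDiff29
open scoped TensorProduct BigOperators Pointwise

section Pl

variable {B ι' : Type u} [CommRing B] [Fintype ι'] [DecidableEq ι']
  {M : Type v} [AddCommGroup M] [Module B M]
  {Λ : Type w} [CommRing Λ] [Algebra B Λ]

/-- the product map `m₁ ⊗ ⋯ ⊗ m_d ↦ ∏ ℓ(m_j)` -/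
noncomputable def Pl (ℓ : M →ₗ[B] Λ) : PiTensorProduct B (fun _ : ι' => M) →ₗ[B] Λ :=
  PiTensorProduct.lift ((MultilinearMap.mkPiAlgebra B ι' Λ).compLinearMap (fun _ => ℓ))

lemma Pl_tprod (ℓ : M →ₗ[B] Λ) (v : ι' → M) :
    Pl ℓ (PiTensorProduct.tprod B v) = ∏ j, ℓ (v j) := by
  unfold Pl
  rw [PiTensorProduct.lift.tprod]
  simp

lemma Pl_map {M' : Type v} [AddCommGroup M'] [Module B M'] (ℓ : M →ₗ[B] Λ) (g : M' →ₗ[B] M)
    (y : PiTensorProduct B (fun _ : ι' => M')) :
    Pl ℓ (PiTensorProduct.map (fun _ : ι' => g) y) = Pl (ℓ ∘ₗ g) y := by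
  induction y using PiTensorProduct.induction_on with
  | smul_tprod r v =>
    rw [map_smul, map_smul, map_smul, PiTensorProduct.map_tprod, Pl_tprod, Pl_tprod]
    rfl
  | add x y hx hy => rw [map_add, map_add, map_add, hx, hy]

lemma algHom_Pl {Λ' : Type*} [CommRing Λ'] [Algebra B Λ'] (ψ : Λ →ₐ[B] Λ') (ℓ : M →ₗ[B] Λ)
    (y : PiTensorProduct B (fun _ : ι' => M)) :
    ψ (Pl ℓ y) = Pl (ψ.toLinearMap ∘ₗ ℓ) y := by
  induction y using PiTensorProduct.induction_on with
  | smul_tprod r v =>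
    rw [map_smul, map_smul, map_smul, Pl_tprod, Pl_tprod, map_prod]
    rfl
  | add x y hx hy => rw [map_add, map_add, map_add, hx, hy]

lemma Pl_eq_zero_of_mk_eq_zero (ℓ : M →ₗ[B] Λ) (y : PiTensorProduct B (fun _ : ι' => M))
    (h : SymmetricPower.mk B ι' M y = 0) : Pl ℓ y = 0 := by
  have h1 : Pl ℓ y = symLift ((MultilinearMap.mkPiAlgebra B ι' Λ).compLinearMap (fun _ => ℓ))
      (fun σ f => by
        simp only [MultilinearMap.compLinearMap_apply, MultilinearMap.mkPiAlgebra_apply]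
        exact Equiv.prod_comp σ (fun j => ℓ (f j))) (SymmetricPower.mk B ι' M y) := by
    rw [symLift_mk]
    rfl
  rw [h1, h, map_zero]

end Pl

section maps

variable {A B : Type u} [CommRing A] [CommRing B] [Algebra A B]
variable {κ : Type w} [DecidableEq κ] {F : Type u} [AddCommGroup F] [Module B F]
variable (e : Module.Basis κ B F) (π : F →ₗ[B] KaehlerDifferential A B)
variable (i : KaehlerDifferential A B →ₗ[B] F)
variable (w : κ → B ⊗[A] B)

local notation "I" => KaehlerDifferential.ideal A B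

/-- the linear lift `F → B ⊗ B` sending `e k` to `w k` -/
noncomputable def sF : F →ₗ[B] B ⊗[A] B := e.constr B w

lemma sF_basis (k : κ) : sF e w (e k) = w k := by
  unfold sF
  rw [Module.Basis.constr_basis]

lemma sF_eq_sum (f : F) : sF e w f = ∑ k ∈ (e.repr f).support, e.repr f k • w k := by
  unfold sF
  rw [Module.Basis.constr_apply, Finsupp.sum]

lemma sF_mem (hwI : ∀ k, w k ∈ KaehlerDifferential.ideal A B) (f : F) :
    sF e w f ∈ KaehlerDifferential.ideal A B := by
  rw [sF_eq_sum]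
  exact Ideal.sum_mem _ fun k _ => Submodule.smul_of_tower_mem (I) _ (hwI k)

lemma toCotangent_sF (hwI : ∀ k, w k ∈ KaehlerDifferential.ideal A B)
    (hw : ∀ k, (KaehlerDifferential.ideal A B).toCotangent ⟨w k, hwI k⟩ = π (e k)) (f : F)
    (h : sF e w f ∈ KaehlerDifferential.ideal A B) :
    (KaehlerDifferential.ideal A B).toCotangent ⟨sF e w f, h⟩ = π f := by
  obtain ⟨x, hx⟩ := Ideal.toCotangent_surjective _ (π f)
  rw [← hx, Ideal.toCotangent_eq]
  have h1 := lift_sub_mem_sq' e π w hwI hw x (e.repr f).support (fun k => e.repr f k) (by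
    rw [hx]
    conv_lhs => rw [← e.linearCombination_repr f]
    rw [Finsupp.linearCombination_apply, Finsupp.sum, map_sum]
    refine Finset.sum_congr rfl fun k _ => ?_
    rw [map_smul])
  change sF e w f - (x : B ⊗[A] B) ∈ I ^ 2
  rw [sF_eq_sum]
  have := neg_mem h1
  rwa [neg_sub] at this

/-- the evaluation `X_k ↦ s(π e_k)` -/
noncomputable def alpha0 : MvPolynomial κ B →ₐ[B] B ⊗[A] B :=
  MvPolynomial.aeval (fun k => sF e w (i (π (e k))))

/-- the idempotent endomorphism `X_k ↦ Λ(i π e_k)` -/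
noncomputable def E0 : MvPolynomial κ B →ₐ[B] MvPolynomial κ B :=
  MvPolynomial.aeval (fun k => Lam e (i (π (e k))))

lemma alpha0_comp_Lam :
    (alpha0 e π i w).toLinearMap ∘ₗ Lam e = sF e w ∘ₗ i ∘ₗ π := by
  refine e.ext fun k => ?_
  simp only [LinearMap.comp_apply, AlgHom.toLinearMap_apply]
  rw [Lam_basis]
  unfold alpha0
  rw [MvPolynomial.aeval_X]

lemma alpha0_Lam (f : F) : alpha0 e π i w (Lam e f) = sF e w (i (π f)) :=
  LinearMap.congr_fun (alpha0_comp_Lam e π i w) f

lemma E0_comp_Lam :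
    (E0 e π i).toLinearMap ∘ₗ Lam e = Lam e ∘ₗ i ∘ₗ π := by
  refine e.ext fun k => ?_
  simp only [LinearMap.comp_apply, AlgHom.toLinearMap_apply]
  rw [Lam_basis]
  unfold E0
  rw [MvPolynomial.aeval_X]

lemma E0_Lam (f : F) : E0 e π i (Lam e f) = Lam e (i (π f)) :=
  LinearMap.congr_fun (E0_comp_Lam e π i) f

lemma alpha0_mem_pow (hwI : ∀ k, w k ∈ KaehlerDifferential.ideal A B) (m : ℕ)
    (P : MvPolynomial κ B) (hP : P ∈ (MvPolynomial.idealOfVars κ B) ^ m) :
    alpha0 e π i w P ∈ (KaehlerDifferential.ideal A B) ^ m := by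
  have h1 : (MvPolynomial.idealOfVars κ B).map (alpha0 e π i w) ≤ I := by
    rw [Ideal.map_span, Ideal.span_le]
    rintro _ ⟨_, ⟨k, rfl⟩, rfl⟩
    change alpha0 e π i w (MvPolynomial.X k) ∈ I
    unfold alpha0
    rw [MvPolynomial.aeval_X]
    exact sF_mem e w hwI _
  have h2 := Ideal.pow_right_mono h1 m
  rw [← Ideal.map_pow] at h2
  exact h2 (Ideal.mem_map_of_mem _ hP)

lemma E0_mem_pow (m : ℕ)
    (P : MvPolynomial κ B) (hP : P ∈ (MvPolynomial.idealOfVars κ B) ^ m) :
    E0 e π i P ∈ (MvPolynomial.idealOfVars κ B) ^ m := by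
  have h1 : (MvPolynomial.idealOfVars κ B).map (E0 e π i) ≤ MvPolynomial.idealOfVars κ B := by
    rw [Ideal.map_span, Ideal.span_le]
    rintro _ ⟨_, ⟨k, rfl⟩, rfl⟩
    change E0 e π i (MvPolynomial.X k) ∈ MvPolynomial.idealOfVars κ B
    unfold E0
    rw [MvPolynomial.aeval_X]
    exact Lam_mem e _
  have h2 := Ideal.pow_right_mono h1 m
  rw [← Ideal.map_pow] at h2
  exact h2 (Ideal.mem_map_of_mem _ hP)

variable {ι' : Type u} [Fintype ι'] [DecidableEq ι']

lemma Theta_eq_Pl : (Theta e : PiTensorProduct B (fun _ : ι' => F) →ₗ[B] _) = Pl (Lam e) := rfl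

lemma alpha0_Theta (y : PiTensorProduct B (fun _ : ι' => F)) :
    alpha0 e π i w (Theta e y) = Pl (sF e w ∘ₗ i) (PiTensorProduct.map (fun _ : ι' => π) y) := by
  rw [Theta_eq_Pl, algHom_Pl, alpha0_comp_Lam, Pl_map]
  rfl

lemma E0_Theta (y : PiTensorProduct B (fun _ : ι' => F)) :
    E0 e π i (Theta e y) =
      Theta e (PiTensorProduct.map (fun _ : ι' => i) (PiTensorProduct.map (fun _ : ι' => π) y)) := by
  rw [Theta_eq_Pl, algHom_Pl, E0_comp_Lam, Pl_map, Pl_map]
  rfl

end maps

section rep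

variable {A B : Type u} [CommRing A] [CommRing B] [Algebra A B]
variable {κ : Type w} [DecidableEq κ] {F : Type u} [AddCommGroup F] [Module B F]
variable (e : Module.Basis κ B F) (π : F →ₗ[B] KaehlerDifferential A B)
variable (i : KaehlerDifferential A B →ₗ[B] F)
variable (w : κ → B ⊗[A] B)
variable {ι' : Type u} [Fintype ι'] [DecidableEq ι']

local notation "I" => KaehlerDifferential.ideal A B

lemma Pl_sF_mem (hwI : ∀ k, w k ∈ KaehlerDifferential.ideal A B)
    (t : PiTensorProduct B (fun _ : ι' => KaehlerDifferential A B)) :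
    Pl (sF e w ∘ₗ i) t ∈ ((I) ^ (Fintype.card ι')).restrictScalars B := by
  induction t using PiTensorProduct.induction_on with
  | smul_tprod r ω =>
    rw [map_smul, Pl_tprod]
    refine Submodule.smul_mem _ r ?_
    have := PP16.prod_mem_pow (KaehlerDifferential.ideal A B) Finset.univ
      (fun j => (sF e w ∘ₗ i) (ω j)) (fun j _ => sF_mem e w hwI _)
    rw [Finset.card_univ] at this
    exact this
  | add x y hx hy =>
    rw [map_add]
    exact add_mem hx hy

lemma gLinΩ_eq_grmk_Pl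
    (hwI : ∀ k, w k ∈ KaehlerDifferential.ideal A B)
    (hw : ∀ k, (KaehlerDifferential.ideal A B).toCotangent ⟨w k, hwI k⟩ = π (e k))
    (t : PiTensorProduct B (fun _ : ι' => KaehlerDifferential A B)) :
    gLinΩ e i w hwI t =
      grmk A B (Fintype.card ι') ⟨Pl (sF e w ∘ₗ i) t, Pl_sF_mem e i w hwI t⟩ := by
  induction t using PiTensorProduct.induction_on with
  | smul_tprod r ω =>
    have hprod : ∏ j, ((⟨sF e w (i (ω j)), sF_mem e w hwI _⟩ :
        ↥(KaehlerDifferential.ideal A B)) : B ⊗[A] B) ∈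
        ((I) ^ (Fintype.card ι')).restrictScalars B := by
      have := PP16.prod_mem_pow (KaehlerDifferential.ideal A B) Finset.univ
        (fun j => sF e w (i (ω j))) (fun j _ => sF_mem e w hwI _)
      rw [Finset.card_univ] at this
      exact this
    rw [map_smul, gLinΩ_tprod,
      gLinF_tprod e π w hwI hw (fun j => i (ω j))
        (fun j => ⟨sF e w (i (ω j)), sF_mem e w hwI _⟩)
        (fun j => toCotangent_sF e π w hwI hw _ _) hprod, ← map_smul]
    congr 1
    apply Subtype.ext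
    rw [Submodule.coe_smul]
    simp only [map_smul, Pl_tprod, LinearMap.comp_apply]
  | add x y hx hy =>
    rw [map_add, hx, hy, ← map_add]
    congr 1
    apply Subtype.ext
    simp only [map_add, Submodule.coe_add]

end rep

section surj

variable {A B : Type u} [CommRing A] [CommRing B] [Algebra A B]
variable {κ : Type w} [DecidableEq κ] {F : Type u} [AddCommGroup F] [Module B F]
variable (e : Module.Basis κ B F) (π : F →ₗ[B] KaehlerDifferential A B)
variable (i : KaehlerDifferential A B →ₗ[B] F)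
variable (w : κ → B ⊗[A] B)

local notation "I" => KaehlerDifferential.ideal A B

lemma sub_alpha0_Lam_mem (hπi : ∀ ω, π (i ω) = ω)
    (hwI : ∀ k, w k ∈ KaehlerDifferential.ideal A B)
    (hw : ∀ k, (KaehlerDifferential.ideal A B).toCotangent ⟨w k, hwI k⟩ = π (e k))
    (x : B ⊗[A] B) (hx : x ∈ KaehlerDifferential.ideal A B) :
    x - alpha0 e π i w (Lam e (i ((KaehlerDifferential.ideal A B).toCotangent ⟨x, hx⟩))) ∈
      I ^ 2 := by
  rw [alpha0_Lam, hπi]
  have h1 := toCotangent_sF e π w hwI hw (i ((I).toCotangent ⟨x, hx⟩)) (sF_mem e w hwI _)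
  rw [hπi] at h1
  exact (Ideal.toCotangent_eq _).1 h1.symm

lemma exists_alpha0_sub_mem_one (hπi : ∀ ω, π (i ω) = ω)
    (hwI : ∀ k, w k ∈ KaehlerDifferential.ideal A B)
    (hw : ∀ k, (KaehlerDifferential.ideal A B).toCotangent ⟨w k, hwI k⟩ = π (e k))
    (x : B ⊗[A] B) (hx : x ∈ KaehlerDifferential.ideal A B) :
    ∃ Q ∈ MvPolynomial.idealOfVars κ B, x - alpha0 e π i w Q ∈ I ^ 2 :=
  ⟨Lam e (i ((I).toCotangent ⟨x, hx⟩)), Lam_mem e _, sub_alpha0_Lam_mem e π i w hπi hwI hw x hx⟩

lemma exists_alpha0_sub_mem_succ (hπi : ∀ ω, π (i ω) = ω)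
    (hwI : ∀ k, w k ∈ KaehlerDifferential.ideal A B)
    (hw : ∀ k, (KaehlerDifferential.ideal A B).toCotangent ⟨w k, hwI k⟩ = π (e k)) (m : ℕ) :
    ∀ x ∈ (I) ^ m, ∃ Q ∈ (MvPolynomial.idealOfVars κ B) ^ m,
      x - alpha0 e π i w Q ∈ I ^ (m + 1) := by
  induction m with
  | zero =>
    intro x _
    refine ⟨MvPolynomial.C (Algebra.TensorProduct.lmul' A x), by simp, ?_⟩
    rw [zero_add, pow_one]
    change Algebra.TensorProduct.lmul' A (x - alpha0 e π i w _) = 0
    unfold alpha0
    rw [map_sub, MvPolynomial.aeval_C, Algebra.TensorProduct.algebraMap_apply,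
      Algebra.TensorProduct.lmul'_apply_tmul]
    simp
  | succ m ih =>
    intro x hx
    rw [pow_succ] at hx
    induction hx using Submodule.mul_induction_on' with
    | mem_mul_mem y hy z hz =>
      obtain ⟨Y, hY, hyY⟩ := ih y hy
      obtain ⟨Z, hZ, hzZ⟩ := exists_alpha0_sub_mem_one e π i w hπi hwI hw z hz
      refine ⟨Y * Z, ?_, ?_⟩
      · rw [pow_succ]
        exact Ideal.mul_mem_mul hY hZ
      · have h1 : y * z - alpha0 e π i w (Y * Z) =
            (y - alpha0 e π i w Y) * z + alpha0 e π i w Y * (z - alpha0 e π i w Z) := by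
          rw [map_mul]
          ring
        rw [h1]
        refine Ideal.add_mem _ ?_ ?_
        · have := Ideal.mul_mem_mul hyY hz
          rwa [← pow_succ] at this
        · have := Ideal.mul_mem_mul (alpha0_mem_pow e π i w hwI m Y hY) hzZ
          rwa [← pow_add] at this
    | add y _ z _ hy hz =>
      obtain ⟨Y, hY, hyY⟩ := hy
      obtain ⟨Z, hZ, hzZ⟩ := hz
      refine ⟨Y + Z, Ideal.add_mem _ hY hZ, ?_⟩
      have h1 : y + z - alpha0 e π i w (Y + Z) =
          (y - alpha0 e π i w Y) + (z - alpha0 e π i w Z) := by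
        rw [map_add]
        ring
      rw [h1]
      exact Ideal.add_mem _ hyY hzZ

lemma exists_alpha0_sub_mem (hπi : ∀ ω, π (i ω) = ω)
    (hwI : ∀ k, w k ∈ KaehlerDifferential.ideal A B)
    (hw : ∀ k, (KaehlerDifferential.ideal A B).toCotangent ⟨w k, hwI k⟩ = π (e k)) (M : ℕ) :
    ∀ (n m : ℕ), m + n = M → ∀ x ∈ (I) ^ m, ∃ Q ∈ (MvPolynomial.idealOfVars κ B) ^ m,
      x - alpha0 e π i w Q ∈ I ^ M := by
  intro n
  induction n with
  | zero =>
    intro m hm x hx
    refine ⟨0, zero_mem _, ?_⟩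
    rw [map_zero, sub_zero, ← hm, add_zero]
    exact hx
  | succ n ih =>
    intro m hm x hx
    obtain ⟨Q₁, hQ₁, h1⟩ := exists_alpha0_sub_mem_succ e π i w hπi hwI hw m x hx
    obtain ⟨Q₂, hQ₂, h2⟩ := ih (m + 1) (by omega) _ h1
    refine ⟨Q₁ + Q₂, Ideal.add_mem _ hQ₁ (Ideal.pow_le_pow_right (Nat.le_succ m) hQ₂), ?_⟩
    have h3 : x - alpha0 e π i w (Q₁ + Q₂) = x - alpha0 e π i w Q₁ - alpha0 e π i w Q₂ := by
      rw [map_add]
      ring
    rw [h3]
    exact h2

end surj

section decomp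

variable {B : Type u} [CommRing B]
variable {κ : Type w} [DecidableEq κ] {F : Type u} [AddCommGroup F] [Module B F]
variable (e : Module.Basis κ B F)

lemma exists_fun_of_degree (p : κ →₀ ℕ) (d : ℕ) (h : p.degree = d) :
    ∃ f : ULift.{u} (Fin d) → κ, Multiset.toFinsupp (Finset.univ.val.map f) = p := by
  set l := (Finsupp.toMultiset p).toList with hl
  have hlen : l.length = d := by
    rw [hl, Multiset.length_toList, Finsupp.card_toMultiset, ← h]
    rfl
  refine ⟨fun j => l.get (Fin.cast hlen.symm j.down), ?_⟩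
  have h1 : (Finset.univ : Finset (ULift.{u} (Fin d))).val.map
      (fun j => l.get (Fin.cast hlen.symm j.down)) = (l : Multiset κ) := by
    have h2 : (fun j : ULift.{u} (Fin d) => l.get (Fin.cast hlen.symm j.down)) =
        (fun j : Fin l.length => l.get j) ∘ ((Equiv.ulift.{u}).trans (finCongr hlen.symm)) := by
      funext j
      rfl
    rw [h2, ← Multiset.map_map, Multiset.map_univ_val_equiv, Fin.univ_val_map]
    simp
  rw [h1, hl, Multiset.coe_toList, Finsupp.toMultiset_toFinsupp]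

/-- every polynomial is, modulo high degree, a sum of polynomials attached to tensors -/
lemma exists_decomp (M : ℕ) (P : MvPolynomial κ B) :
    ∃ y : ∀ d : Fin M, PiTensorProduct B (fun _ : ULift.{u} (Fin d) => F),
      P - ∑ d : Fin M, Theta e (y d) ∈ (MvPolynomial.idealOfVars κ B) ^ M := by
  induction P using MvPolynomial.induction_on' with
  | monomial p a =>
    by_cases hd : p.degree < M
    · obtain ⟨f, hf⟩ := exists_fun_of_degree.{u} p p.degree rfl
      refine ⟨Pi.single (⟨p.degree, hd⟩ : Fin M)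
        (a • PiTensorProduct.tprod B fun j => e (f j)), ?_⟩
      rw [Finset.sum_eq_single (⟨p.degree, hd⟩ : Fin M)]
      · rw [Pi.single_eq_same, map_smul, Theta_basis, hf, MvPolynomial.smul_monomial, smul_eq_mul,
          mul_one, sub_self]
        exact zero_mem _
      · intro d _ hne
        rw [Pi.single_eq_of_ne hne, map_zero]
      · intro h
        exact absurd (Finset.mem_univ _) h
    · refine ⟨0, ?_⟩
      simp only [Pi.zero_apply, map_zero, Finset.sum_const_zero, sub_zero]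
      rw [MvPolynomial.mem_pow_idealOfVars_iff']
      intro x hx
      rw [MvPolynomial.coeff_monomial, if_neg]
      rintro rfl
      exact hd hx
  | add P Q hP hQ =>
    obtain ⟨y₁, h₁⟩ := hP
    obtain ⟨y₂, h₂⟩ := hQ
    refine ⟨y₁ + y₂, ?_⟩
    have h3 : P + Q - ∑ d : Fin M, Theta e ((y₁ + y₂) d) =
        (P - ∑ d : Fin M, Theta e (y₁ d)) + (Q - ∑ d : Fin M, Theta e (y₂ d)) := by
      simp only [Pi.add_apply, map_add, Finset.sum_add_distrib]
      ring
    rw [h3]
    exact Ideal.add_mem _ h₁ h₂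

end decomp

section key

variable {A B : Type u} [CommRing A] [CommRing B] [Algebra A B]
variable {κ : Type w} [DecidableEq κ] {F : Type u} [AddCommGroup F] [Module B F]
variable (e : Module.Basis κ B F) (π : F →ₗ[B] KaehlerDifferential A B)
variable (i : KaehlerDifferential A B →ₗ[B] F)
variable (w : κ → B ⊗[A] B)

local notation "I" => KaehlerDifferential.ideal A B

lemma Pl_sF_mem' (hwI : ∀ k, w k ∈ KaehlerDifferential.ideal A B) (d : ℕ)
    (t : PiTensorProduct B (fun _ : ULift.{u} (Fin d) => KaehlerDifferential A B)) :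
    Pl (sF e w ∘ₗ i) t ∈ (I) ^ d := by
  have := Pl_sF_mem e i w hwI t
  simpa using this

/-- the key claim: the kernel of `α` is contained in the kernel of `E` -/
theorem E0_mem_of_alpha0_mem
    (hwI : ∀ k, w k ∈ KaehlerDifferential.ideal A B)
    (hw : ∀ k, (KaehlerDifferential.ideal A B).toCotangent ⟨w k, hwI k⟩ = π (e k)) (N : ℕ)
    (hinj : ∀ d : Fin (N + 2),
      Function.Injective (phiF e i w hwI (ι' := ULift.{u} (Fin d))))
    (P : MvPolynomial κ B) (hP : alpha0 e π i w P ∈ I ^ (N + 2)) :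
    E0 e π i P ∈ (MvPolynomial.idealOfVars κ B) ^ (N + 2) := by
  classical
  obtain ⟨y, hy⟩ := exists_decomp.{u} e (N + 2) P
  set t : ∀ d : Fin (N + 2), PiTensorProduct B
      (fun _ : ULift.{u} (Fin d) => KaehlerDifferential A B) :=
    fun d => PiTensorProduct.map (fun _ => π) (y d) with ht
  set a : Fin (N + 2) → B ⊗[A] B := fun d => Pl (sF e w ∘ₗ i) (t d) with ha
  have hsum : ∑ d, a d ∈ I ^ (N + 2) := by
    have h1 := alpha0_mem_pow e π i w hwI (N + 2) _ hy
    rw [map_sub, map_sum] at h1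
    have h2 : ∑ d, a d = alpha0 e π i w P -
        (alpha0 e π i w P - ∑ d : Fin (N + 2), alpha0 e π i w (Theta e (y d))) := by
      rw [sub_sub_cancel]
      refine Finset.sum_congr rfl fun d _ => ?_
      rw [alpha0_Theta]
    rw [h2]
    exact Ideal.sub_mem _ hP h1
  have hmem : ∀ d : Fin (N + 2), a d ∈ I ^ (d : ℕ) := fun d => Pl_sF_mem' e i w hwI d (t d)
  have key : ∀ n : ℕ, ∀ d : Fin (N + 2), (d : ℕ) = n →
      SymmetricPower.mk B (ULift.{u} (Fin d)) _ (t d) = 0 := by
    intro n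
    induction n using Nat.strong_induction_on with
    | _ n ih =>
      intro d hd
      have h1 : a d ∈ I ^ ((d : ℕ) + 1) := by
        have h2 : a d = ∑ k, a k - ∑ k ∈ Finset.univ.erase d, a k := by
          rw [← Finset.add_sum_erase Finset.univ a (Finset.mem_univ d)]
          ring
        rw [h2]
        refine Ideal.sub_mem _ (Ideal.pow_le_pow_right (by omega) hsum) ?_
        refine Ideal.sum_mem _ fun k hk => ?_
        have hne : k ≠ d := Finset.ne_of_mem_erase hk
        rcases lt_or_gt_of_ne (fun h => hne (Fin.ext h) : (k : ℕ) ≠ (d : ℕ)) with hlt | hgt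
        · have h3 := ih k (by omega) k rfl
          have h4 : a k = 0 := Pl_eq_zero_of_mk_eq_zero _ _ h3
          rw [h4]
          exact zero_mem _
        · exact Ideal.pow_le_pow_right (by omega) (hmem k)
      apply hinj d
      rw [map_zero, phiF_mk, gLinΩ_eq_grmk_Pl e π i w hwI hw, grmk_eq_zero_iff]
      have h5 : Fintype.card (ULift.{u} (Fin d)) = (d : ℕ) := by simp
      change a d ∈ _
      rw [h5]
      exact h1
  have h6 : E0 e π i P = E0 e π i (P - ∑ d : Fin (N + 2), Theta e (y d)) := by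
    rw [map_sub, map_sum]
    have h7 : ∑ d : Fin (N + 2), E0 e π i (Theta e (y d)) = 0 := by
      refine Finset.sum_eq_zero fun d _ => ?_
      rw [E0_Theta, Theta_eq_Pl, Pl_map]
      exact Pl_eq_zero_of_mk_eq_zero _ _ (key d d rfl)
    rw [h7, sub_zero]
  rw [h6]
  exact E0_mem_pow e π i (N + 2) _ hy

end key

section tau

variable {A B : Type u} [CommRing A] [CommRing B] [Algebra A B]
variable {κ : Type w} [DecidableEq κ] {F : Type u} [AddCommGroup F] [Module B F]
variable (e : Module.Basis κ B F) (π : F →ₗ[B] KaehlerDifferential A B)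
variable (i : KaehlerDifferential A B →ₗ[B] F)
variable (w : κ → B ⊗[A] B) (N : ℕ)

local notation "I" => KaehlerDifferential.ideal A B

/-- the surjection `B[X] → P^(N+1)` -/
noncomputable def fmap : MvPolynomial κ B →+* (B ⊗[A] B) ⧸ (KaehlerDifferential.ideal A B) ^ (N + 2) :=
  (Ideal.Quotient.mk ((KaehlerDifferential.ideal A B) ^ (N + 2))).comp (alpha0 e π i w).toRingHom

lemma fmap_apply (P : MvPolynomial κ B) :
    fmap e π i w N P = Ideal.Quotient.mk _ (alpha0 e π i w P) := rfl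

lemma fmap_surjective (hπi : ∀ ω, π (i ω) = ω)
    (hwI : ∀ k, w k ∈ KaehlerDifferential.ideal A B)
    (hw : ∀ k, (KaehlerDifferential.ideal A B).toCotangent ⟨w k, hwI k⟩ = π (e k)) :
    Function.Surjective (fmap e π i w N) := by
  intro x
  obtain ⟨x, rfl⟩ := Ideal.Quotient.mk_surjective x
  obtain ⟨Q, -, hQ⟩ := exists_alpha0_sub_mem e π i w hπi hwI hw (N + 2) (N + 2) 0 (by omega) x
    (by simp)
  refine ⟨Q, ?_⟩
  rw [fmap_apply]
  exact ((Ideal.Quotient.eq).2 hQ).symm

/-- the map `B[X] → B[X]/(X)^(N+2)` induced by the idempotent -/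
noncomputable def gmapE :
    MvPolynomial κ B →+* MvPolynomial κ B ⧸ (MvPolynomial.idealOfVars κ B) ^ (N + 2) :=
  (Ideal.Quotient.mk ((MvPolynomial.idealOfVars κ B) ^ (N + 2))).comp (E0 e π i).toRingHom

lemma gmapE_apply (P : MvPolynomial κ B) :
    gmapE e π i N P = Ideal.Quotient.mk _ (E0 e π i P) := rfl

lemma ker_fmap_le
    (hwI : ∀ k, w k ∈ KaehlerDifferential.ideal A B)
    (hw : ∀ k, (KaehlerDifferential.ideal A B).toCotangent ⟨w k, hwI k⟩ = π (e k))
    (hinj : ∀ d : Fin (N + 2),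
      Function.Injective (phiF e i w hwI (ι' := ULift.{u} (Fin d)))) :
    RingHom.ker (fmap e π i w N) ≤ RingHom.ker (gmapE e π i N) := by
  intro P hP
  rw [RingHom.mem_ker, fmap_apply, Ideal.Quotient.eq_zero_iff_mem] at hP
  rw [RingHom.mem_ker, gmapE_apply, Ideal.Quotient.eq_zero_iff_mem]
  exact E0_mem_of_alpha0_mem e π i w hwI hw N hinj P hP

/-- the map `P^(N+1) → B[X]/(X)^(N+2)` -/
noncomputable def betaMap (hπi : ∀ ω, π (i ω) = ω)
    (hwI : ∀ k, w k ∈ KaehlerDifferential.ideal A B)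
    (hw : ∀ k, (KaehlerDifferential.ideal A B).toCotangent ⟨w k, hwI k⟩ = π (e k))
    (hinj : ∀ d : Fin (N + 2),
      Function.Injective (phiF e i w hwI (ι' := ULift.{u} (Fin d)))) :
    (B ⊗[A] B) ⧸ (KaehlerDifferential.ideal A B) ^ (N + 2) →+*
      MvPolynomial κ B ⧸ (MvPolynomial.idealOfVars κ B) ^ (N + 2) :=
  (fmap e π i w N).liftOfSurjective (fmap_surjective e π i w N hπi hwI hw)
    ⟨gmapE e π i N, ker_fmap_le e π i w N hwI hw hinj⟩

lemma betaMap_mk_alpha0 (hπi : ∀ ω, π (i ω) = ω)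
    (hwI : ∀ k, w k ∈ KaehlerDifferential.ideal A B)
    (hw : ∀ k, (KaehlerDifferential.ideal A B).toCotangent ⟨w k, hwI k⟩ = π (e k))
    (hinj : ∀ d : Fin (N + 2),
      Function.Injective (phiF e i w hwI (ι' := ULift.{u} (Fin d)))) (P : MvPolynomial κ B) :
    betaMap e π i w N hπi hwI hw hinj (Ideal.Quotient.mk _ (alpha0 e π i w P)) =
      Ideal.Quotient.mk _ (E0 e π i P) := by
  unfold betaMap
  rw [← fmap_apply, RingHom.liftOfSurjective_comp_apply]
  rfl

lemma betaMap_mk_of_sub_mem (hπi : ∀ ω, π (i ω) = ω)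
    (hwI : ∀ k, w k ∈ KaehlerDifferential.ideal A B)
    (hw : ∀ k, (KaehlerDifferential.ideal A B).toCotangent ⟨w k, hwI k⟩ = π (e k))
    (hinj : ∀ d : Fin (N + 2),
      Function.Injective (phiF e i w hwI (ι' := ULift.{u} (Fin d)))) (x : B ⊗[A] B)
    (P : MvPolynomial κ B) (h : x - alpha0 e π i w P ∈ I ^ (N + 2)) :
    betaMap e π i w N hπi hwI hw hinj (Ideal.Quotient.mk _ x) =
      Ideal.Quotient.mk _ (E0 e π i P) := by
  rw [← betaMap_mk_alpha0 e π i w N hπi hwI hw hinj]
  congr 1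
  exact (Ideal.Quotient.eq).2 h

end tau

section tauDS

variable {A B : Type u} [CommRing A] [CommRing B] [Algebra A B]
variable {κ : Type w} [DecidableEq κ] {F : Type u} [AddCommGroup F] [Module B F]
  [Module A F] [IsScalarTower A B F]
variable (e : Module.Basis κ B F) (π : F →ₗ[B] KaehlerDifferential A B)
variable (i : KaehlerDifferential A B →ₗ[B] F)
variable (w : κ → B ⊗[A] B) (N : ℕ)

local notation "I" => KaehlerDifferential.ideal A B

/-- the Taylor map of a differentially smooth algebra -/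
noncomputable def tauDS (hπi : ∀ ω, π (i ω) = ω)
    (hwI : ∀ k, w k ∈ KaehlerDifferential.ideal A B)
    (hw : ∀ k, (KaehlerDifferential.ideal A B).toCotangent ⟨w k, hwI k⟩ = π (e k))
    (hinj : ∀ d : Fin (N + 2),
      Function.Injective (phiF e i w hwI (ι' := ULift.{u} (Fin d)))) :
    B →ₐ[A] (MvPolynomial κ B ⧸ (MvPolynomial.idealOfVars κ B) ^ (N + 2)) :=
  { (betaMap e π i w N hπi hwI hw hinj).comp
      ((Ideal.Quotient.mk ((KaehlerDifferential.ideal A B) ^ (N + 2))).comp
        (Algebra.TensorProduct.includeRight : B →ₐ[A] B ⊗[A] B).toRingHom) with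
    commutes' := fun a => by
      simp only [RingHom.toMonoidHom_eq_coe, OneHom.toFun_eq_coe, MonoidHom.toOneHom_coe,
        MonoidHom.coe_coe, RingHom.comp_apply]
      have h1 : ((Algebra.TensorProduct.includeRight : B →ₐ[A] B ⊗[A] B).toRingHom
          (algebraMap A B a) : B ⊗[A] B) =
          alpha0 e π i w (MvPolynomial.C (algebraMap A B a)) := by
        unfold alpha0
        rw [MvPolynomial.aeval_C]
        exact ((Algebra.TensorProduct.includeRight : B →ₐ[A] B ⊗[A] B).commutes a).trans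
          (IsScalarTower.algebraMap_apply A B (B ⊗[A] B) a)
      rw [h1, betaMap_mk_alpha0]
      unfold E0
      rw [MvPolynomial.aeval_C]
      rfl }

lemma tauDS_apply (hπi : ∀ ω, π (i ω) = ω)
    (hwI : ∀ k, w k ∈ KaehlerDifferential.ideal A B)
    (hw : ∀ k, (KaehlerDifferential.ideal A B).toCotangent ⟨w k, hwI k⟩ = π (e k))
    (hinj : ∀ d : Fin (N + 2),
      Function.Injective (phiF e i w hwI (ι' := ULift.{u} (Fin d)))) (c : B) :
    tauDS e π i w N hπi hwI hw hinj c =
      betaMap e π i w N hπi hwI hw hinj (Ideal.Quotient.mk _ ((1 : B) ⊗ₜ[A] c)) := rfl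

theorem isTaylor_tauDS (hπi : ∀ ω, π (i ω) = ω)
    (hwI : ∀ k, w k ∈ KaehlerDifferential.ideal A B)
    (hw : ∀ k, (KaehlerDifferential.ideal A B).toCotangent ⟨w k, hwI k⟩ = π (e k))
    (hinj : ∀ d : Fin (N + 2),
      Function.Injective (phiF e i w hwI (ι' := ULift.{u} (Fin d)))) :
    IsTaylor e i N (tauDS e π i w N hπi hwI hw hinj) := by
  intro c
  have hζ : (1 : B) ⊗ₜ[A] c - c ⊗ₜ[A] (1 : B) ∈ KaehlerDifferential.ideal A B :=
    KaehlerDifferential.one_smul_sub_smul_one_mem_ideal A c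
  have hD : (KaehlerDifferential.ideal A B).toCotangent ⟨(1 : B) ⊗ₜ[A] c - c ⊗ₜ[A] (1 : B), hζ⟩ =
      KaehlerDifferential.D A B c := rfl
  have h1 := sub_alpha0_Lam_mem e π i w hπi hwI hw _ hζ
  rw [hD] at h1
  obtain ⟨Q₂, hQ₂, h2⟩ := exists_alpha0_sub_mem e π i w hπi hwI hw (N + 2) N 2 (by omega) _ h1
  have h3 : ((1 : B) ⊗ₜ[A] c : B ⊗[A] B) - alpha0 e π i w
      (MvPolynomial.C c + Lam e (i (KaehlerDifferential.D A B c)) + Q₂) ∈ I ^ (N + 2) := by
    have h4 : alpha0 e π i w (MvPolynomial.C c) = c ⊗ₜ[A] (1 : B) := by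
      unfold alpha0
      rw [MvPolynomial.aeval_C]
      rfl
    convert h2 using 1
    rw [map_add, map_add, h4]
    ring
  have h5 := betaMap_mk_of_sub_mem e π i w N hπi hwI hw hinj _ _ h3
  have h6 : E0 e π i (MvPolynomial.C c) = MvPolynomial.C c := by
    unfold E0
    rw [MvPolynomial.aeval_C]
    rfl
  have h7 : E0 e π i (MvPolynomial.C c + Lam e (i (KaehlerDifferential.D A B c)) + Q₂) =
      MvPolynomial.C c + Lam e (i (KaehlerDifferential.D A B c)) + E0 e π i Q₂ := by
    rw [map_add, map_add, E0_Lam, hπi, h6]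
  rw [tauDS_apply, h5, h7, ← map_sub, add_sub_cancel_left]
  exact Ideal.mem_map_of_mem _ (E0_mem_pow e π i 2 Q₂ hQ₂)

end tauDS

end Groth.Agent.LibPP29
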