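import Groth.Agent.LibPP29p
import Mathlib.RingTheory.Kaehler.TensorProduct

/-!
# Principal parts XIV: base change of Taylor maps
-/

set_option autoImplicit false
set_option linter.unusedSectionVars false
universe u v w

namespace Groth.Agent.LibPP29

open Diff16 Groth.Agent.LibDiff29
open scoped TensorProduct BigOperators Pointwise

section taylorAt

variable {A B : Type u} [CommRing A] [CommRing B] [Algebra A B]
variable {κ : Type w} [DecidableEq κ] {F : Type u} [AddCommGroup F] [Module B F]
  [Module A F] [IsScalarTower A B F]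
variable (e : Module.Basis κ B F)
variable (i : KaehlerDifferential A B →ₗ[B] F)
variable (N : ℕ) (τ : B →ₐ[A] (MvPolynomial κ B ⧸ (MvPolynomial.idealOfVars κ B) ^ (N + 2)))

/-- the Taylor condition at one element -/
def TaylorAt (c : B) : Prop :=
  τ c - Ideal.Quotient.mk _
      (MvPolynomial.C c + Lam e (i (KaehlerDifferential.D A B c))) ∈
    ((MvPolynomial.idealOfVars κ B) ^ 2).map
      (Ideal.Quotient.mk ((MvPolynomial.idealOfVars κ B) ^ (N + 2)))

lemma isTaylor_iff : IsTaylor e i N τ ↔ ∀ c, TaylorAt e i N τ c := Iff.rfl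

lemma taylorAt_zero : TaylorAt e i N τ 0 := by
  unfold TaylorAt
  simp

lemma taylorAt_add {c c' : B} (h : TaylorAt e i N τ c) (h' : TaylorAt e i N τ c') :
    TaylorAt e i N τ (c + c') := by
  unfold TaylorAt at h h' ⊢
  have h1 : τ (c + c') - Ideal.Quotient.mk _
      (MvPolynomial.C (c + c') + Lam e (i (KaehlerDifferential.D A B (c + c')))) =
      (τ c - Ideal.Quotient.mk _ (MvPolynomial.C c + Lam e (i (KaehlerDifferential.D A B c)))) +
      (τ c' - Ideal.Quotient.mk _
        (MvPolynomial.C c' + Lam e (i (KaehlerDifferential.D A B c')))) := by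
    simp only [map_add]
    ring
  rw [h1]
  exact Ideal.add_mem _ h h'

lemma taylorAt_mul {c c' : B} (h : TaylorAt e i N τ c) (h' : TaylorAt e i N τ c') :
    TaylorAt e i N τ (c * c') := by
  unfold TaylorAt at h h' ⊢
  set L : B → MvPolynomial κ B := fun x => Lam e (i (KaehlerDifferential.D A B x)) with hL
  have hLmul : L (c * c') = MvPolynomial.C c * L c' + MvPolynomial.C c' * L c := by
    simp only [hL]
    rw [Derivation.leibniz, map_add, map_add, map_smul, map_smul, map_smul, map_smul,
      MvPolynomial.smul_eq_C_mul, MvPolynomial.smul_eq_C_mul]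
  have h1 : τ (c * c') - Ideal.Quotient.mk _ (MvPolynomial.C (c * c') + L (c * c')) =
      (τ c - Ideal.Quotient.mk _ (MvPolynomial.C c + L c)) * τ c' +
      Ideal.Quotient.mk _ (MvPolynomial.C c + L c) *
        (τ c' - Ideal.Quotient.mk _ (MvPolynomial.C c' + L c')) +
      Ideal.Quotient.mk ((MvPolynomial.idealOfVars κ B) ^ (N + 2)) (L c * L c') := by
    rw [hLmul]
    simp only [map_mul, map_add]
    ring
  rw [h1]
  refine Ideal.add_mem _ (Ideal.add_mem _ (Ideal.mul_mem_right _ _ h) (Ideal.mul_mem_left _ _ h'))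
    ?_
  refine Ideal.mem_map_of_mem _ ?_
  rw [pow_two]
  exact Ideal.mul_mem_mul (Lam_mem e _) (Lam_mem e _)

lemma taylorAt_algebraMap (a : A) : TaylorAt e i N τ (algebraMap A B a) := by
  unfold TaylorAt
  rw [Derivation.map_algebraMap, map_zero, map_zero, add_zero, AlgHom.commutes]
  have : algebraMap A (MvPolynomial κ B ⧸ (MvPolynomial.idealOfVars κ B) ^ (N + 2)) a =
      Ideal.Quotient.mk _ (MvPolynomial.C (algebraMap A B a)) := rfl
  rw [this, sub_self]
  exact zero_mem _

end taylorAt

section baseChange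

variable {A B A' B' : Type u} [CommRing A] [CommRing B] [Algebra A B]
    [CommRing A'] [CommRing B'] [Algebra A' B'] [Algebra A A'] [Algebra B B'] [Algebra A B']
    [IsScalarTower A A' B'] [IsScalarTower A B B'] [Algebra.IsPushout A B A' B']
variable {κ : Type u} [DecidableEq κ] {F : Type u} [AddCommGroup F] [Module B F]
  [Module A F] [IsScalarTower A B F]
variable (e : Module.Basis κ B F) (π : F →ₗ[B] KaehlerDifferential A B)
variable (i : KaehlerDifferential A B →ₗ[B] F)

variable (A B A' B') in
/-- base change of differentials -/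
noncomputable def tke : B' ⊗[B] KaehlerDifferential A B ≃ₗ[B'] KaehlerDifferential A' B' :=
  haveI : Algebra.IsPushout A A' B B' := Algebra.IsPushout.symm inferInstance
  KaehlerDifferential.tensorKaehlerEquiv A A' B B'

lemma tke_tmul_D (b' : B') (b : B) :
    tke A B A' B' (b' ⊗ₜ[B] KaehlerDifferential.D A B b) =
      b' • KaehlerDifferential.D A' B' (algebraMap B B' b) := by
  unfold tke
  have : Algebra.IsPushout A A' B B' := Algebra.IsPushout.symm inferInstance
  exact KaehlerDifferential.tensorKaehlerEquiv_tmul_D A A' B B' b' b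

lemma tke_symm_D (b : B) :
    (tke A B A' B').symm (KaehlerDifferential.D A' B' (algebraMap B B' b)) =
      (1 : B') ⊗ₜ[B] KaehlerDifferential.D A B b := by
  rw [LinearEquiv.symm_apply_eq, tke_tmul_D, one_smul]

variable (A' B') in
/-- the base-changed projection of the free cover -/
noncomputable def piB : (κ →₀ B') →ₗ[B'] KaehlerDifferential A' B' :=
  (tke A B A' B').toLinearMap ∘ₗ (π.baseChange B') ∘ₗ (e.baseChange B').repr.symm.toLinearMap

variable (A' B') in
/-- the base-changed section of the free cover -/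
noncomputable def iB : KaehlerDifferential A' B' →ₗ[B'] (κ →₀ B') :=
  (e.baseChange B').repr.toLinearMap ∘ₗ (i.baseChange B') ∘ₗ (tke A B A' B').symm.toLinearMap

lemma piB_iB (hπi : ∀ ω, π (i ω) = ω) (ω' : KaehlerDifferential A' B') :
    piB A' B' e π (iB A' B' e i ω') = ω' := by
  unfold piB iB
  simp only [LinearMap.comp_apply, LinearEquiv.coe_coe, LinearEquiv.symm_apply_apply]
  rw [← LinearMap.comp_apply, ← LinearMap.baseChange_comp]
  have : π ∘ₗ i = LinearMap.id := LinearMap.ext hπi
  rw [this, LinearMap.baseChange_id, LinearMap.id_apply, LinearEquiv.apply_symm_apply]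

lemma iB_D_algebraMap (b : B) :
    iB A' B' e i (KaehlerDifferential.D A' B' (algebraMap B B' b)) =
      Finsupp.mapRange (algebraMap B B') (map_zero _)
        (e.repr (i (KaehlerDifferential.D A B b))) := by
  unfold iB
  simp only [LinearMap.comp_apply, LinearEquiv.coe_coe]
  rw [tke_symm_D, LinearMap.baseChange_tmul]
  ext k
  rw [Module.Basis.baseChange_repr_tmul, Finsupp.mapRange_apply, Algebra.smul_def, mul_one]

lemma Lam_mapRange (f : F) :
    Lam (Finsupp.basisSingleOne : Module.Basis κ B' (κ →₀ B'))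
        (Finsupp.mapRange (algebraMap B B') (map_zero _) (e.repr f)) =
      MvPolynomial.map (algebraMap B B') (Lam e f) := by
  unfold Lam
  rw [Module.Basis.constr_apply, Module.Basis.constr_apply, Finsupp.basisSingleOne_repr,
    LinearEquiv.refl_apply, Finsupp.sum_mapRange_index (fun k => by rw [zero_smul]), Finsupp.sum,
    Finsupp.sum, map_sum]
  refine Finset.sum_congr rfl fun k _ => ?_
  rw [MvPolynomial.smul_eq_C_mul, MvPolynomial.smul_eq_C_mul, map_mul, MvPolynomial.map_C,
    MvPolynomial.map_X]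

end baseChange

section tauB

variable {A B A' B' : Type u} [CommRing A] [CommRing B] [Algebra A B]
    [CommRing A'] [CommRing B'] [Algebra A' B'] [Algebra A A'] [Algebra B B'] [Algebra A B']
    [IsScalarTower A A' B'] [IsScalarTower A B B'] [Algebra.IsPushout A B A' B']
variable {κ : Type u} [DecidableEq κ] {F : Type u} [AddCommGroup F] [Module B F]
  [Module A F] [IsScalarTower A B F]
variable (e : Module.Basis κ B F) (π : F →ₗ[B] KaehlerDifferential A B)
variable (i : KaehlerDifferential A B →ₗ[B] F)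
variable (N : ℕ) (τ : B →ₐ[A] (MvPolynomial κ B ⧸ (MvPolynomial.idealOfVars κ B) ^ (N + 2)))

variable (A B B' κ) in
/-- coefficient change on truncated polynomial rings -/
noncomputable def cmap : (MvPolynomial κ B ⧸ (MvPolynomial.idealOfVars κ B) ^ (N + 2)) →ₐ[A]
    (MvPolynomial κ B' ⧸ (MvPolynomial.idealOfVars κ B') ^ (N + 2)) :=
  Ideal.quotientMapₐ ((MvPolynomial.idealOfVars κ B') ^ (N + 2))
    (MvPolynomial.mapAlgHom (IsScalarTower.toAlgHom A B B')) (by
      rw [← Ideal.map_le_iff_le_comap, Ideal.map_pow]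
      refine Ideal.pow_right_mono ?_ _
      rw [Ideal.map_span, Ideal.span_le]
      rintro _ ⟨_, ⟨k, rfl⟩, rfl⟩
      have : (MvPolynomial.mapAlgHom (IsScalarTower.toAlgHom A B B'))
          (MvPolynomial.X k : MvPolynomial κ B) = MvPolynomial.X k := by simp
      rw [this]
      exact Ideal.subset_span ⟨k, rfl⟩)

lemma cmap_mk (P : MvPolynomial κ B) :
    cmap A B B' κ N (Ideal.Quotient.mk _ P) =
      Ideal.Quotient.mk _ (MvPolynomial.map (algebraMap B B') P) := rfl

lemma cmap_mem (m : ℕ) (x : MvPolynomial κ B ⧸ (MvPolynomial.idealOfVars κ B) ^ (N + 2))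
    (hx : x ∈ ((MvPolynomial.idealOfVars κ B) ^ m).map
      (Ideal.Quotient.mk ((MvPolynomial.idealOfVars κ B) ^ (N + 2)))) :
    cmap A B B' κ N x ∈ ((MvPolynomial.idealOfVars κ B') ^ m).map
      (Ideal.Quotient.mk ((MvPolynomial.idealOfVars κ B') ^ (N + 2))) := by
  rw [Ideal.mem_map_iff_of_surjective _ Ideal.Quotient.mk_surjective] at hx
  obtain ⟨P, hP, rfl⟩ := hx
  rw [cmap_mk]
  refine Ideal.mem_map_of_mem _ ?_
  have h1 : ((MvPolynomial.idealOfVars κ B) ^ m).map (MvPolynomial.map (algebraMap B B')) ≤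
      (MvPolynomial.idealOfVars κ B') ^ m := by
    rw [Ideal.map_pow]
    refine Ideal.pow_right_mono ?_ _
    rw [Ideal.map_span, Ideal.span_le]
    rintro _ ⟨_, ⟨k, rfl⟩, rfl⟩
    rw [MvPolynomial.map_X]
    exact Ideal.subset_span ⟨k, rfl⟩
  exact h1 (Ideal.mem_map_of_mem _ hP)

variable (A' B') in
/-- the base-changed Taylor map -/
noncomputable def tauB :
    B' →ₐ[A'] (MvPolynomial κ B' ⧸ (MvPolynomial.idealOfVars κ B') ^ (N + 2)) :=
  { Algebra.pushoutDesc B' ((cmap A B B' κ N).comp τ)
      (IsScalarTower.toAlgHom A A' (MvPolynomial κ B' ⧸ (MvPolynomial.idealOfVars κ B') ^ (N + 2)))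
      (fun _ _ => mul_comm _ _) with
    commutes' := fun a' => by
      simp only [AlgHom.toRingHom_eq_coe, RingHom.toMonoidHom_eq_coe, OneHom.toFun_eq_coe,
        MonoidHom.toOneHom_coe, MonoidHom.coe_coe, RingHom.coe_coe]
      rw [Algebra.pushoutDesc_right]
      rfl }

lemma tauB_algebraMap (b : B) :
    tauB A' B' N τ (algebraMap B B' b) = cmap A B B' κ N (τ b) := by
  change Algebra.pushoutDesc B' ((cmap A B B' κ N).comp τ) _ _ (algebraMap B B' b) = _
  rw [Algebra.pushoutDesc_left]
  rfl

theorem isTaylor_tauB (hτ : IsTaylor e i N τ) :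
    IsTaylor (Finsupp.basisSingleOne : Module.Basis κ B' (κ →₀ B')) (iB A' B' e i) N
      (tauB A' B' N τ) := by
  rw [isTaylor_iff]
  intro c'
  have H : Algebra.IsPushout A B A' B' := inferInstance
  refine H.out.inductionOn c' _ (taylorAt_zero _ _ _ _) ?_ ?_ ?_
  · intro a'
    exact taylorAt_algebraMap _ _ _ _ a'
  · intro b n hn
    rw [Algebra.smul_def]
    refine taylorAt_mul _ _ _ _ ?_ hn
    unfold TaylorAt
    rw [tauB_algebraMap, iB_D_algebraMap, Lam_mapRange]
    have h1 := cmap_mem (A := A) (B' := B') N 2 _ (hτ b)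
    rw [map_sub, cmap_mk, map_add, MvPolynomial.map_C] at h1
    exact h1
  · intro n₁ n₂ h₁ h₂
    exact taylorAt_add _ _ _ _ h₁ h₂

end tauB

end Groth.Agent.LibPP29
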