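import Groth.Agent.LibPP29q

/-!
# Principal parts XV: descent of the injectivity of the canonical maps along an injective
base change
-/

set_option autoImplicit false
set_option linter.unusedSectionVars false
universe u v w

namespace Groth.Agent.LibPP29

open Diff16 Groth.Agent.LibDiff29
open scoped TensorProduct BigOperators Pointwise

section descent

variable {A B A' B' : Type u} [CommRing A] [CommRing B] [Algebra A B]
    [CommRing A'] [CommRing B'] [Algebra A' B'] [Algebra A A'] [Algebra B B'] [Algebra A B']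
    [IsScalarTower A A' B'] [IsScalarTower A B B'] [Algebra.IsPushout A B A' B']
variable {κ : Type u} [DecidableEq κ] {F : Type u} [AddCommGroup F] [Module B F]
  [Module A F] [IsScalarTower A B F]
variable (e : Module.Basis κ B F) (π : F →ₗ[B] KaehlerDifferential A B)
variable (i : KaehlerDifferential A B →ₗ[B] F)
variable (w : κ → B ⊗[A] B)

lemma tensorMap_smul (b : B) (x : B ⊗[A] B) :
    PP16.tensorMap A B A' B' (b • x) = algebraMap B B' b • PP16.tensorMap A B A' B' x := by
  rw [Algebra.smul_def, Algebra.smul_def, map_mul, Algebra.TensorProduct.algebraMap_apply,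
    Algebra.TensorProduct.algebraMap_apply, PP16.tensorMap_tmul, map_one]
  rfl

lemma tensorMap_mem (x : B ⊗[A] B) (hx : x ∈ KaehlerDifferential.ideal A B) :
    PP16.tensorMap A B A' B' x ∈ KaehlerDifferential.ideal A' B' :=
  PP16.ideal_map_tensorMap_le A B A' B' (Ideal.mem_map_of_mem _ hx)

lemma tensorMap_mem_pow (m : ℕ) (x : B ⊗[A] B) (hx : x ∈ (KaehlerDifferential.ideal A B) ^ m) :
    PP16.tensorMap A B A' B' x ∈ (KaehlerDifferential.ideal A' B') ^ m := by
  have h1 := Ideal.pow_right_mono (PP16.ideal_map_tensorMap_le A B A' B') m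
  rw [← Ideal.map_pow] at h1
  exact h1 (Ideal.mem_map_of_mem _ hx)

lemma tensorProductTo_tensorMap (x : B ⊗[A] B) :
    (KaehlerDifferential.D A' B').tensorProductTo (PP16.tensorMap A B A' B' x) =
      tke A B A' B' ((1 : B') ⊗ₜ[B] (KaehlerDifferential.D A B).tensorProductTo x) := by
  induction x using TensorProduct.induction_on with
  | zero => simp
  | tmul b c =>
    rw [PP16.tensorMap_tmul, Derivation.tensorProductTo_tmul, Derivation.tensorProductTo_tmul,
      ← TensorProduct.smul_tmul, tke_tmul_D, Algebra.smul_def, mul_one]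
  | add x y hx hy =>
    rw [map_add, map_add, hx, hy, map_add, TensorProduct.tmul_add, map_add]

lemma toCotangent_tensorMap (x : B ⊗[A] B) (hx : x ∈ KaehlerDifferential.ideal A B) :
    (KaehlerDifferential.ideal A' B').toCotangent
        ⟨PP16.tensorMap A B A' B' x, tensorMap_mem x hx⟩ =
      tke A B A' B' ((1 : B') ⊗ₜ[B] (KaehlerDifferential.ideal A B).toCotangent ⟨x, hx⟩) := by
  rw [← KaehlerDifferential.D_tensorProductTo, ← KaehlerDifferential.D_tensorProductTo]
  exact tensorProductTo_tensorMap x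

lemma piB_basis (k : κ) :
    piB A' B' e π (Finsupp.single k 1) = tke A B A' B' ((1 : B') ⊗ₜ[B] π (e k)) := by
  unfold piB
  simp only [LinearMap.comp_apply, LinearEquiv.coe_coe]
  rw [Module.Basis.repr_symm_single_one, Module.Basis.baseChange_apply, LinearMap.baseChange_tmul]

lemma iB_tke (ω : KaehlerDifferential A B) :
    iB A' B' e i (tke A B A' B' ((1 : B') ⊗ₜ[B] ω)) =
      Finsupp.mapRange (algebraMap B B') (map_zero _) (e.repr (i ω)) := by
  unfold iB
  simp only [LinearMap.comp_apply, LinearEquiv.coe_coe, LinearEquiv.symm_apply_apply]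
  rw [LinearMap.baseChange_tmul]
  ext k
  rw [Module.Basis.baseChange_repr_tmul, Finsupp.mapRange_apply, Algebra.smul_def, mul_one]

lemma sF_mapRange (f : F) :
    sF (Finsupp.basisSingleOne : Module.Basis κ B' (κ →₀ B'))
        (fun k => PP16.tensorMap A B A' B' (w k))
        (Finsupp.mapRange (algebraMap B B') (map_zero _) (e.repr f)) =
      PP16.tensorMap A B A' B' (sF e w f) := by
  unfold sF
  rw [Module.Basis.constr_apply, Module.Basis.constr_apply, Finsupp.basisSingleOne_repr,
    LinearEquiv.refl_apply, Finsupp.sum_mapRange_index (fun k => by rw [zero_smul]), Finsupp.sum,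
    Finsupp.sum, map_sum]
  refine Finset.sum_congr rfl fun k _ => ?_
  rw [tensorMap_smul]

variable {ι' : Type u} [Fintype ι'] [DecidableEq ι']

/-- every tensor of differentials of `B / A` has a companion over `B' / A'` -/
lemma exists_companion (y : PiTensorProduct B (fun _ : ι' => KaehlerDifferential A B)) :
    ∃ y' : PiTensorProduct B' (fun _ : ι' => KaehlerDifferential A' B'),
      Pl (Lam (Finsupp.basisSingleOne : Module.Basis κ B' (κ →₀ B')) ∘ₗ iB A' B' e i) y' =
        MvPolynomial.map (algebraMap B B') (Pl (Lam e ∘ₗ i) y) ∧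
      Pl (sF (Finsupp.basisSingleOne : Module.Basis κ B' (κ →₀ B'))
          (fun k => PP16.tensorMap A B A' B' (w k)) ∘ₗ iB A' B' e i) y' =
        PP16.tensorMap A B A' B' (Pl (sF e w ∘ₗ i) y) := by
  induction y using PiTensorProduct.induction_on with
  | smul_tprod r ω =>
    refine ⟨algebraMap B B' r • PiTensorProduct.tprod B'
      (fun j => tke A B A' B' ((1 : B') ⊗ₜ[B] ω j)), ?_, ?_⟩
    · rw [map_smul, map_smul, Pl_tprod, Pl_tprod, MvPolynomial.smul_eq_C_mul,
        MvPolynomial.smul_eq_C_mul, map_mul, MvPolynomial.map_C, map_prod]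
      congr 1
      refine Finset.prod_congr rfl fun j _ => ?_
      rw [LinearMap.comp_apply, LinearMap.comp_apply, iB_tke, Lam_mapRange]
    · rw [map_smul, map_smul, Pl_tprod, Pl_tprod, tensorMap_smul, map_prod]
      congr 1
      refine Finset.prod_congr rfl fun j _ => ?_
      rw [LinearMap.comp_apply, LinearMap.comp_apply, iB_tke, sF_mapRange]
  | add y₁ y₂ h₁ h₂ =>
    obtain ⟨y₁', h11, h12⟩ := h₁
    obtain ⟨y₂', h21, h22⟩ := h₂
    refine ⟨y₁' + y₂', ?_, ?_⟩
    · rw [map_add, map_add, map_add, h11, h21]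
    · rw [map_add, map_add, map_add, h12, h22]

/-- descent of injectivity of the canonical map -/
theorem phiF_injective_of_baseChange (hπi : ∀ ω, π (i ω) = ω)
    (hwI : ∀ k, w k ∈ KaehlerDifferential.ideal A B)
    (hw : ∀ k, (KaehlerDifferential.ideal A B).toCotangent ⟨w k, hwI k⟩ = π (e k))
    (halg : Function.Injective (algebraMap B B'))
    (hinj' : Function.Injective
      (phiF (Finsupp.basisSingleOne : Module.Basis κ B' (κ →₀ B')) (iB A' B' e i)
        (fun k => PP16.tensorMap A B A' B' (w k)) (fun k => tensorMap_mem _ (hwI k))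
        (ι' := ι'))) :
    Function.Injective (phiF e i w hwI (ι' := ι')) := by
  have hw' : ∀ k, (KaehlerDifferential.ideal A' B').toCotangent
      ⟨PP16.tensorMap A B A' B' (w k), tensorMap_mem _ (hwI k)⟩ =
      piB A' B' e π ((Finsupp.basisSingleOne : Module.Basis κ B' (κ →₀ B')) k) := by
    intro k
    rw [toCotangent_tensorMap _ (hwI k), hw, Finsupp.coe_basisSingleOne, piB_basis]
  rw [injective_iff_map_eq_zero]
  intro x hx
  obtain ⟨y, rfl⟩ : ∃ y, SymmetricPower.mk B ι' _ y = x := AddCon.mk'_surjective x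
  rw [phiF_mk, gLinΩ_eq_grmk_Pl e π i w hwI hw, grmk_eq_zero_iff] at hx
  obtain ⟨y', h1, h2⟩ := exists_companion (A' := A') (B' := B') e i w y
  have h3 : SymmetricPower.mk B' ι' _ y' = 0 := by
    apply hinj'
    rw [map_zero, phiF_mk, gLinΩ_eq_grmk_Pl _ (piB A' B' e π) _ _ _ hw', grmk_eq_zero_iff]
    change Pl _ y' ∈ _
    rw [h2]
    exact tensorMap_mem_pow _ _ hx
  have h4 := Pl_eq_zero_of_mk_eq_zero
    (Lam (Finsupp.basisSingleOne : Module.Basis κ B' (κ →₀ B')) ∘ₗ iB A' B' e i) y' h3
  rw [h1] at h4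
  have h5 : Pl (Lam e ∘ₗ i) y = 0 :=
    MvPolynomial.map_injective _ halg (by rw [h4, map_zero])
  apply mk_eq_zero_of_Theta_eq_zero e π i hπi
  rw [Theta_eq_Pl, Pl_map]
  exact h5

end descent

end Groth.Agent.LibPP29
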