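import Mathlib.RingTheory.PowerSeries.Expand
import Mathlib.FieldTheory.Perfect

/-!
# LibPS29a: `p`-th powers of power series over a perfect field of characteristic `p`;
the decomposition `g = ∑_{i<p} (g_i)^p X^i`
-/

set_option autoImplicit false

namespace Groth.Agent.LibPS29

open PowerSeries

section

variable (p : ℕ) [hp : Fact p.Prime] (k : Type*) [Field k] [CharP k p]

lemma coeff_pow_p (f : k⟦X⟧) (m : ℕ) :
    coeff m (f ^ p) = if p ∣ m then (coeff (m / p) f) ^ p else 0 := by
  have : ExpChar k p := ExpChar.prime hp.out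
  have h := MvPowerSeries.map_frobenius_expand p hp.out.ne_zero (f := f)
  have h2 : f ^ p = PowerSeries.map (frobenius k p) (PowerSeries.expand p hp.out.ne_zero f) :=
    h.symm
  rw [h2, PowerSeries.coeff_map, PowerSeries.coeff_expand]
  split_ifs
  · simp [frobenius_def]
  · simp

variable [PerfectField k]

/-- the `i`-th component of `g` : the `p`-th root of `∑ₙ g_{pn+i} X^{pn}` -/
noncomputable def comp (g : k⟦X⟧) (i : ℕ) : k⟦X⟧ :=
  PowerSeries.mk fun n => (frobeniusEquiv k p).symm (coeff (p * n + i) g)

lemma coeff_comp_pow (g : k⟦X⟧) (i m : ℕ) :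
    coeff m ((comp p k g i) ^ p) = if p ∣ m then coeff (m + i) g else 0 := by
  rw [coeff_pow_p]
  split_ifs with h
  · rw [comp, coeff_mk, frobeniusEquiv_symm_pow_p, Nat.mul_div_cancel' h]
  · rfl

/-- every power series over a perfect field of characteristic `p` is `∑_{i<p} (g_i)^p X^i` -/
theorem decomp (g : k⟦X⟧) :
    g = ∑ i ∈ Finset.range p, (comp p k g i) ^ p * X ^ i := by
  ext n
  rw [map_sum]
  have hppos : 0 < p := hp.out.pos
  rw [Finset.sum_eq_single (n % p)]
  · rw [coeff_mul_X_pow', if_pos (Nat.mod_le n p), coeff_comp_pow,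
      if_pos (Nat.dvd_sub_mod n), Nat.sub_add_cancel (Nat.mod_le n p)]
  · intro i hi hne
    rw [coeff_mul_X_pow']
    split_ifs with hle
    · rw [coeff_comp_pow, if_neg]
      intro hdvd
      apply hne
      rw [Finset.mem_range] at hi
      have h1 : n % p = i % p := by
        obtain ⟨c, hc⟩ := hdvd
        have : n = i + p * c := by omega
        rw [this, Nat.add_mul_mod_self_left]
      rw [h1, Nat.mod_eq_of_lt hi]
    · rfl
  · intro h
    exact absurd (Finset.mem_range.2 (Nat.mod_lt n hppos)) h

end

end Groth.Agent.LibPS29
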