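import Mathlib.RingTheory.IntegralClosure.IsIntegralClosure.Basic
import Mathlib.RingTheory.FiniteType
import Mathlib.Algebra.CharP.Frobenius
import Mathlib.RingTheory.Localization.Basic

/-!
# LibPS29b: `F`-finiteness from finitely many ring generators over the image of Frobenius
-/

set_option autoImplicit false

namespace Groth.Agent.LibPS29

section

variable (p : ℕ) [hp : Fact p.Prime] (R : Type*) [CommRing R] [CharP R p]

/-- `R` is generated as a ring by `R^p` and finitely many elements -/
def FGen : Prop := ∃ X : Finset R, Subring.closure (Set.range (frobenius R p) ∪ (X : Set R)) = ⊤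

variable {R}

theorem frobenius_finite_of_fGen (h : FGen p R) : (frobenius R p).Finite := by
  obtain ⟨X, hX⟩ := h
  apply RingHom.IsIntegral.to_finite
  · intro x
    refine ⟨Polynomial.X ^ p - Polynomial.C x,
      Polynomial.monic_X_pow_sub_C _ hp.out.ne_zero, ?_⟩
    simp [Polynomial.eval₂_sub, frobenius_def]
  · let _ := (frobenius R p).toAlgebra
    refine ⟨⟨X, ?_⟩⟩
    rw [eq_top_iff]
    intro x _
    have hx : x ∈ Subring.closure (Set.range (frobenius R p) ∪ (X : Set R)) := by
      rw [hX]; trivial
    have hle : Subring.closure (Set.range (frobenius R p) ∪ (X : Set R)) ≤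
        (Algebra.adjoin R (X : Set R)).toSubring := by
      refine Subring.closure_le.2 ?_
      rintro y (⟨z, rfl⟩ | hy)
      · exact (Algebra.adjoin R (X : Set R)).algebraMap_mem z
      · exact Algebra.subset_adjoin hy
    exact hle hx

/-- transfer along a ring hom `φ : R → S` such that `S` is generated as a ring by `φ R`, `S^p` and
finitely many elements -/
theorem fGen_of_hom {S : Type*} [CommRing S] [CharP S p] (φ : R →+* S) (Y : Finset S)
    (hS : Subring.closure (Set.range φ ∪ Set.range (frobenius S p) ∪ (Y : Set S)) = ⊤)
    (h : FGen p R) : FGen p S := by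
  classical
  obtain ⟨X, hX⟩ := h
  refine ⟨X.image φ ∪ Y, ?_⟩
  rw [eq_top_iff, ← hS]
  set T := Subring.closure (Set.range (frobenius S p) ∪ ((X.image φ ∪ Y : Finset S) : Set S))
    with hT
  have hφ : ∀ a : R, φ a ∈ T := by
    intro a
    have ha : a ∈ Subring.closure (Set.range (frobenius R p) ∪ (X : Set R)) := by
      rw [hX]; trivial
    induction ha using Subring.closure_induction with
    | mem x hx =>
      rcases hx with ⟨z, rfl⟩ | hx
      · apply Subring.subset_closure
        left
        exact ⟨φ z, by simp [frobenius_def]⟩
      · apply Subring.subset_closure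
        right
        rw [Finset.coe_union, Finset.coe_image]
        exact Or.inl ⟨x, hx, rfl⟩
    | zero => rw [map_zero]; exact zero_mem _
    | one => rw [map_one]; exact one_mem _
    | add x y _ _ hx hy => rw [map_add]; exact add_mem hx hy
    | neg x _ hx => rw [map_neg]; exact neg_mem hx
    | mul x y _ _ hx hy => rw [map_mul]; exact mul_mem hx hy
  refine Subring.closure_le.2 ?_
  rintro s ((⟨a, rfl⟩ | hs) | hs)
  · exact hφ a
  · exact Subring.subset_closure (Or.inl hs)
  · apply Subring.subset_closure
    right
    rw [Finset.coe_union]
    exact Or.inr hs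

end

end Groth.Agent.LibPS29
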