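import Groth.Agent.LibPS29a
import Groth.Agent.LibAdm29b
import Mathlib.RingTheory.LaurentSeries

/-!
# LibPS29c: Laurent series over a perfect field of characteristic `p`:
`Ω_{k((t))/ℤ}` is one-dimensional, generated by `dt`
-/

set_option autoImplicit false
universe u

namespace Groth.Agent.LibPS29

open PowerSeries

section

variable (p : ℕ) [hp : Fact p.Prime] (k : Type u) [Field k] [CharP k p] [PerfectField k]

/-- the variable `t` of `k((t))` -/
noncomputable abbrev tt : LaurentSeries k := HahnSeries.single (1 : ℤ) (1 : k)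

/-- every Laurent series is `∑_{i<p} u_i^p t^i` -/
theorem laurent_decomp (f : LaurentSeries k) :
    ∃ u : ℕ → LaurentSeries k, f = ∑ i ∈ Finset.range p, (u i) ^ p * (tt k) ^ i := by
  obtain ⟨g, ⟨_, N, rfl⟩, rfl⟩ :=
    IsLocalization.exists_mk'_eq (Submonoid.powers (PowerSeries.X : PowerSeries k)) f
  set φ := algebraMap (PowerSeries k) (LaurentSeries k) with hφ
  set w : LaurentSeries k := IsLocalization.mk' (LaurentSeries k) (1 : PowerSeries k)
    (⟨PowerSeries.X ^ N, N, rfl⟩ : Submonoid.powers (PowerSeries.X : PowerSeries k)) with hw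
  have hw1 : w * φ (PowerSeries.X ^ N) = 1 := by
    have := IsLocalization.mk'_spec (LaurentSeries k) (1 : PowerSeries k)
      (⟨PowerSeries.X ^ N, N, rfl⟩ : Submonoid.powers (PowerSeries.X : PowerSeries k))
    rw [map_one] at this
    exact this
  have hp1 : p - 1 + 1 = p := Nat.sub_add_cancel hp.out.one_le
  set g' : PowerSeries k := g * (PowerSeries.X ^ N) ^ (p - 1) with hg'
  have hf : IsLocalization.mk' (LaurentSeries k) g
      (⟨PowerSeries.X ^ N, N, rfl⟩ : Submonoid.powers (PowerSeries.X : PowerSeries k)) =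
      φ g' * w ^ p := by
    rw [IsLocalization.mk'_eq_iff_eq_mul]
    change φ g = φ g' * w ^ p * φ (PowerSeries.X ^ N)
    calc φ g = φ g * (w * φ (PowerSeries.X ^ N)) ^ p := by rw [hw1, one_pow, mul_one]
      _ = φ g' * w ^ p * φ (PowerSeries.X ^ N) := by
        rw [hg', map_mul, map_pow φ (PowerSeries.X ^ N) (p - 1), mul_pow]
        conv_lhs => rw [← hp1, pow_succ (φ (PowerSeries.X ^ N)), hp1]
        ring
  have hX : φ PowerSeries.X = tt k := by
    rw [hφ, LaurentSeries.coe_algebraMap]
    exact HahnSeries.ofPowerSeries_X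
  refine ⟨fun i => φ (comp p k g' i) * w, ?_⟩
  rw [hf]
  conv_lhs => rw [decomp p k g']
  rw [map_sum, Finset.sum_mul]
  refine Finset.sum_congr rfl (fun i _ => ?_)
  rw [map_mul, map_pow, map_pow, hX, mul_pow]
  ring

omit hp [CharP k p] [PerfectField k] in
/-- `t` is not a `p`-th power -/
theorem tt_ne_pow (hp1 : 1 < p) (u : LaurentSeries k) : u ^ p ≠ tt k := by
  intro h
  have h1 := congrArg HahnSeries.order h
  rw [HahnSeries.order_pow, HahnSeries.order_single one_ne_zero] at h1
  have h2 : (p : ℤ) ∣ 1 := ⟨u.order, by rw [← h1]; simp⟩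
  have h3 : (p : ℤ) ≤ 1 := Int.le_of_dvd one_pos h2
  omega

include p

omit hp [PerfectField k] in
lemma charP_laurent : CharP (LaurentSeries k) p :=
  charP_of_injective_algebraMap (algebraMap k (LaurentSeries k)).injective p

end

section abstract

variable (p : ℕ) [hp : Fact p.Prime] (k : Type u) [Field k] [PerfectField k]
  {F : Type u} [Field F] [CharP F p] [Algebra k F] (t : F)
  (hdec : ∀ f : F, ∃ u : ℕ → F, f = ∑ i ∈ Finset.range p, (u i) ^ p * t ^ i)
  (ht : ∀ u : F, u ^ p ≠ t)

include hdec in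
omit hp in
/-- `Ω_{F/ℤ}` is spanned by `dt` -/
theorem span_D_of_decomp :
    Submodule.span F {KaehlerDifferential.D ℤ F t} = ⊤ := by
  rw [eq_top_iff, ← KaehlerDifferential.span_range_derivation, Submodule.span_le]
  rintro _ ⟨f, rfl⟩
  obtain ⟨u, rfl⟩ := hdec f
  rw [map_sum]
  refine sum_mem (fun i _ => ?_)
  have hpow : KaehlerDifferential.D ℤ F (u i ^ p) = 0 := by
    rw [Derivation.leibniz_pow, ← Nat.cast_smul_eq_nsmul F p, CharP.cast_eq_zero,
      zero_smul]
  rw [Derivation.leibniz, hpow, smul_zero, add_zero, Derivation.leibniz_pow]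
  refine Submodule.smul_mem _ _ ?_
  rw [← Nat.cast_smul_eq_nsmul F i]
  exact (Submodule.smul_mem _ _
    (Submodule.smul_mem _ _ (Submodule.subset_span rfl)))

include k ht in
/-- `dt ≠ 0` in `Ω_{F/ℤ}` -/
theorem D_ne_zero_of_ne_pow : KaehlerDifferential.D ℤ F t ≠ 0 := by
  have hck : CharP k p := (algebraMap k F).charP (algebraMap k F).injective p
  have hk : KaehlerDifferential.D k F t ≠ 0 := by
    apply Groth.Agent.LibAdm29.D_ne_zero_of_notMem p
    intro hmem
    let E : IntermediateField k F :=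
      Subfield.toIntermediateField (frobenius F p).fieldRange (by
        intro a
        refine ⟨algebraMap k F ((frobeniusEquiv k p).symm a), ?_⟩
        rw [frobenius_def, ← map_pow, frobeniusEquiv_symm_pow_p])
    have hle : IntermediateField.adjoin k (Set.range fun y : F => y ^ p) ≤ E := by
      rw [IntermediateField.adjoin_le_iff]
      rintro _ ⟨y, rfl⟩
      exact ⟨y, rfl⟩
    obtain ⟨u, hu⟩ := hle hmem
    exact ht u hu
  intro h0
  apply hk
  have hst := IsScalarTower.of_algebraMap_eq' (R := ℤ) (S := k) (A := F)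
    (Subsingleton.elim _ _)
  have := congrArg (KaehlerDifferential.map ℤ k F F) h0
  rw [KaehlerDifferential.map_D, map_zero] at this
  simpa using this

include k hdec ht in
/-- `Ω_{F/ℤ}` is one-dimensional -/
theorem finrank_kaehler_of_decomp :
    Module.Finite F (Ω[F⁄ℤ]) ∧ Module.finrank F (Ω[F⁄ℤ]) = 1 := by
  have hspan := span_D_of_decomp p t hdec
  have hfin : Module.Finite F (Ω[F⁄ℤ]) :=
    ⟨⟨{KaehlerDifferential.D ℤ F t}, by
      rw [Finset.coe_singleton, hspan]⟩⟩
  refine ⟨hfin, ?_⟩
  rw [← finrank_top F (Ω[F⁄ℤ]), ← hspan]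
  exact finrank_span_singleton (D_ne_zero_of_ne_pow p k t ht)

end abstract

end Groth.Agent.LibPS29
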