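import Mathlib.RingTheory.MvPowerSeries.NoZeroDivisors
import Mathlib.RingTheory.Localization.FractionRing
import Mathlib.LinearAlgebra.Dual.Lemmas
import Mathlib.Algebra.Field.Subfield.Basic

/-!
# LibPS29d: intersections of fraction fields of subrings of a domain; power series with
coefficients in a subfield
-/

set_option autoImplicit false

namespace Groth.Agent.LibPS29

section general

variable {A K : Type*} [CommRing A] [IsDomain A] [Field K] [Algebra A K] [IsFractionRing A K]

lemma mem_closure_image_iff (S : Subring A) (z : K) :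
    z ∈ Subfield.closure (algebraMap A K '' (S : Set A)) ↔
      ∃ a ∈ S, ∃ b ∈ S, b ≠ 0 ∧ z * algebraMap A K b = algebraMap A K a := by
  have hcl : Subring.closure (algebraMap A K '' (S : Set A)) = S.map (algebraMap A K) := by
    rw [← Subring.coe_map]
    exact Subring.closure_eq _
  constructor
  · intro hz
    rw [Subfield.mem_closure_iff, hcl] at hz
    obtain ⟨y, ⟨a, ha, rfl⟩, w, ⟨b, hb, rfl⟩, rfl⟩ := hz
    by_cases hb0 : b = 0
    · refine ⟨0, zero_mem _, 1, one_mem _, one_ne_zero, ?_⟩
      simp [hb0]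
    · refine ⟨a, ha, b, hb, hb0, ?_⟩
      have : algebraMap A K b ≠ 0 := by
        rwa [Ne, map_eq_zero_iff _ (IsFractionRing.injective A K)]
      rw [div_mul_cancel₀ _ this]
  · rintro ⟨a, ha, b, hb, hb0, h⟩
    have hbK : algebraMap A K b ≠ 0 := by
      rwa [Ne, map_eq_zero_iff _ (IsFractionRing.injective A K)]
    have hz : z = algebraMap A K a / algebraMap A K b := by
      rw [eq_div_iff hbK, h]
    rw [hz]
    exact div_mem (Subfield.subset_closure ⟨a, ha, rfl⟩) (Subfield.subset_closure ⟨b, hb, rfl⟩)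

/-- `⋂ Frac(A_α) = Frac(⋂ A_α)` for subrings `A_α` of a domain `A` that are "saturated"
(`K_α ∩ A = A_α`) provided every nonzero element of `A` has a nonzero multiple in `⋂ A_α` -/
theorem iInf_closure_eq {ι : Type*} (S : ι → Subring A) (S0 : Subring A)
    (hS0 : ∀ f, f ∈ S0 ↔ ∀ i, f ∈ S i)
    (h1 : ∀ i (a b f : A), a ∈ S i → b ∈ S i → b ≠ 0 → b * f = a → f ∈ S i)
    (h2 : ∀ g : A, g ≠ 0 → ∃ h : A, g * h ∈ S0 ∧ g * h ≠ 0) :
    (⨅ i, Subfield.closure (algebraMap A K '' (S i : Set A))) =
      Subfield.closure (algebraMap A K '' (S0 : Set A)) := by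
  apply le_antisymm
  · intro z hz
    rw [Subfield.mem_iInf] at hz
    obtain ⟨f, g, hg, rfl⟩ := IsFractionRing.div_surjective (A := A) z
    have hg0 : g ≠ 0 := nonZeroDivisors.ne_zero hg
    obtain ⟨h, hs, hs0⟩ := h2 g hg0
    rw [mem_closure_image_iff]
    refine ⟨f * h, ?_, g * h, hs, hs0, ?_⟩
    · rw [hS0]
      intro i
      have hzi := hz i
      rw [mem_closure_image_iff] at hzi
      obtain ⟨a, ha, b, hb, hb0, hab⟩ := hzi
      have hsi : g * h ∈ S i := (hS0 _).1 hs i
      have hgK : algebraMap A K g ≠ 0 := by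
        rwa [Ne, map_eq_zero_iff _ (IsFractionRing.injective A K)]
      have hfb : f * b = a * g := by
        apply IsFractionRing.injective A K
        rw [map_mul, map_mul, ← hab]
        field_simp
      refine h1 i (a * (g * h)) b (f * h) (mul_mem ha hsi) hb hb0 ?_
      calc b * (f * h) = (f * b) * h := by ring
        _ = a * (g * h) := by rw [hfb]; ring
    · have hgK : algebraMap A K g ≠ 0 := by
        rwa [Ne, map_eq_zero_iff _ (IsFractionRing.injective A K)]
      rw [map_mul, map_mul, div_mul_eq_mul_div, div_eq_iff hgK]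
      ring
  · refine le_iInf (fun i => Subfield.closure_mono (Set.image_mono ?_))
    intro f hf
    exact (hS0 f).1 hf i

end general

section coeff

variable {σ : Type*} {k : Type*} [Field k]

/-- power series all of whose coefficients lie in the subfield `F` -/
def coeffSubring (F : Subfield k) : Subring (MvPowerSeries σ k) where
  carrier := {f | ∀ n, MvPowerSeries.coeff n f ∈ F}
  mul_mem' := by
    classical
    intro f g hf hg n
    rw [MvPowerSeries.coeff_mul]
    exact sum_mem (fun x _ => mul_mem (hf _) (hg _))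
  one_mem' := by
    classical
    intro n
    rw [MvPowerSeries.coeff_one]
    split_ifs
    · exact one_mem _
    · exact zero_mem _
  add_mem' := by
    intro f g hf hg n
    rw [map_add]
    exact add_mem (hf _) (hg _)
  zero_mem' := by
    intro n
    rw [map_zero]
    exact zero_mem _
  neg_mem' := by
    intro f hf n
    rw [map_neg]
    exact neg_mem (hf _)

lemma mem_coeffSubring (F : Subfield k) (f : MvPowerSeries σ k) :
    f ∈ coeffSubring F ↔ ∀ n, MvPowerSeries.coeff n f ∈ F := Iff.rfl

/-- `K_F ∩ A = A_F` : if `b f = a` with `a, b` having coefficients in `F` and `b ≠ 0`, then `f`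
has coefficients in `F` -/
theorem mem_coeffSubring_of_mul (F : Subfield k) (a b f : MvPowerSeries σ k)
    (ha : a ∈ coeffSubring F) (hb : b ∈ coeffSubring F) (hb0 : b ≠ 0) (h : b * f = a) :
    f ∈ coeffSubring F := by
  classical
  by_contra hf
  rw [mem_coeffSubring] at hf
  push Not at hf
  obtain ⟨n₀, hn₀⟩ := hf
  -- the `F`-line in `k`
  let W : Submodule F k := LinearMap.range (Algebra.linearMap F k)
  have hW : ∀ x : k, x ∈ W ↔ x ∈ F := by
    intro x
    constructor
    · rintro ⟨y, rfl⟩
      exact y.2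
    · intro hx
      exact ⟨⟨x, hx⟩, rfl⟩
  have hc : MvPowerSeries.coeff n₀ f ∉ W := fun hmem => hn₀ ((hW _).1 hmem)
  obtain ⟨lam, hlam, hlamW⟩ := Submodule.exists_dual_map_eq_bot_of_notMem hc inferInstance
  have hlam0 : ∀ x : k, x ∈ F → lam x = 0 := by
    intro x hx
    have : lam x ∈ W.map lam := ⟨x, (hW x).2 hx, rfl⟩
    rw [hlamW] at this
    exact this
  -- apply `lam` coefficientwise
  let Lam : MvPowerSeries σ k → MvPowerSeries σ F := fun g n => lam (MvPowerSeries.coeff n g)
  let b' : MvPowerSeries σ F := fun n => ⟨MvPowerSeries.coeff n b, hb n⟩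
  have hLam : ∀ (g : MvPowerSeries σ k) (n : σ →₀ ℕ),
      MvPowerSeries.coeff n (Lam g) = lam (MvPowerSeries.coeff n g) := fun g n => rfl
  have hb' : ∀ n : σ →₀ ℕ, MvPowerSeries.coeff n b' = ⟨MvPowerSeries.coeff n b, hb n⟩ :=
    fun n => rfl
  have hmul : Lam (b * f) = b' * Lam f := by
    refine MvPowerSeries.ext (fun n => ?_)
    rw [hLam, MvPowerSeries.coeff_mul, MvPowerSeries.coeff_mul, map_sum]
    refine Finset.sum_congr rfl (fun x _ => ?_)
    have : MvPowerSeries.coeff x.1 b * MvPowerSeries.coeff x.2 f =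
        (⟨MvPowerSeries.coeff x.1 b, hb x.1⟩ : F) • MvPowerSeries.coeff x.2 f := rfl
    rw [this, map_smul, hLam, hb']
    rfl
  have hLa : Lam a = 0 := by
    refine MvPowerSeries.ext (fun n => ?_)
    rw [hLam, map_zero]
    exact hlam0 _ (ha n)
  have hb'0 : b' ≠ 0 := by
    intro h0
    apply hb0
    refine MvPowerSeries.ext (fun n => ?_)
    have := congrArg (MvPowerSeries.coeff n) h0
    rw [hb', map_zero] at this
    rw [map_zero]
    exact congrArg Subtype.val this
  rw [h, hLa] at hmul
  have hLf : Lam f = 0 := by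
    rcases mul_eq_zero.1 hmul.symm with h' | h'
    · exact absurd h' hb'0
    · exact h'
  apply hlam
  have := congrArg (MvPowerSeries.coeff n₀) hLf
  rw [hLam, map_zero] at this
  exact this

end coeff

end Groth.Agent.LibPS29
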