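import Groth.Agent.LibPS29d
import Mathlib.RingTheory.MvPowerSeries.Expand
import Mathlib.LinearAlgebra.Basis.Basic
import Mathlib.LinearAlgebra.FreeModule.Finite.Basic

/-!
# LibPS29e: the subring `L[[T^p]]` of `k[[T]]` for a subfield `L` of `k`; `k[[T]]` is finite free
over it when `[k : L] < ∞`
-/

set_option autoImplicit false

namespace Groth.Agent.LibPS29

section comb

variable (p : ℕ) {σ : Type*}

/-- all exponents divisible by `p` -/
def IsP (n : σ →₀ ℕ) : Prop := ∀ i, p ∣ n i

variable {p}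

lemma IsP.add {n m : σ →₀ ℕ} (hn : IsP p n) (hm : IsP p m) : IsP p (n + m) := fun i => by
  rw [Finsupp.add_apply]; exact dvd_add (hn i) (hm i)

lemma isP_smul (q : σ →₀ ℕ) : IsP p (p • q) := fun i => by
  rw [Finsupp.smul_apply, smul_eq_mul]; exact dvd_mul_right _ _

variable (p)

/-- componentwise quotient by `p` -/
noncomputable def ndiv (n : σ →₀ ℕ) : σ →₀ ℕ := n.mapRange (· / p) (Nat.zero_div p)

lemma ndiv_apply (n : σ →₀ ℕ) (i : σ) : ndiv p n i = n i / p := by
  simp [ndiv]

lemma IsP.smul_ndiv {n : σ →₀ ℕ} (hn : IsP p n) : p • ndiv p n = n := by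
  ext i
  rw [Finsupp.smul_apply, smul_eq_mul, ndiv_apply, Nat.mul_div_cancel' (hn i)]

variable [Fintype σ] [hp : NeZero p]

/-- componentwise residue mod `p` -/
def nmod (n : σ →₀ ℕ) : σ → Fin p := fun i => ⟨n i % p, Nat.mod_lt _ (Nat.pos_of_ne_zero hp.out)⟩

/-- a residue vector as an exponent vector -/
noncomputable def emb (m : σ → Fin p) : σ →₀ ℕ := Finsupp.equivFunOnFinite.symm (fun i => (m i : ℕ))

omit hp in
lemma emb_apply (m : σ → Fin p) (i : σ) : emb p m i = (m i : ℕ) := by
  simp [emb]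

lemma emb_nmod_le (n : σ →₀ ℕ) : emb p (nmod p n) ≤ n := by
  intro i
  rw [emb_apply]
  exact Nat.mod_le _ _

lemma sub_emb_nmod (n : σ →₀ ℕ) : n - emb p (nmod p n) = p • ndiv p n := by
  ext i
  rw [Finsupp.tsub_apply, emb_apply, Finsupp.smul_apply, smul_eq_mul, ndiv_apply]
  change n i - n i % p = _
  have := Nat.div_add_mod (n i) p
  omega

lemma isP_sub_emb_nmod (n : σ →₀ ℕ) : IsP p (n - emb p (nmod p n)) := by
  rw [sub_emb_nmod]; exact isP_smul _

lemma eq_nmod_of_isP {n : σ →₀ ℕ} {m : σ → Fin p} (hle : emb p m ≤ n)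
    (hP : IsP p (n - emb p m)) : m = nmod p n := by
  funext i
  apply Fin.ext
  change (m i : ℕ) = n i % p
  have h1 := hle i
  have h2 := hP i
  rw [Finsupp.tsub_apply] at h2
  rw [emb_apply] at h1 h2
  obtain ⟨t, ht⟩ := h2
  have : n i = (m i : ℕ) + p * t := by omega
  rw [this, Nat.add_mul_mod_self_left, Nat.mod_eq_of_lt (m i).2]

lemma nmod_smul_add (q : σ →₀ ℕ) (m : σ → Fin p) : nmod p (p • q + emb p m) = m := by
  funext i
  apply Fin.ext
  change (p • q + emb p m) i % p = (m i : ℕ)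
  rw [Finsupp.add_apply, Finsupp.smul_apply, smul_eq_mul, emb_apply, Nat.mul_add_mod,
    Nat.mod_eq_of_lt (m i).2]

omit hp in
lemma smul_add_emb_sub (q : σ →₀ ℕ) (m : σ → Fin p) : p • q + emb p m - emb p m = p • q :=
  add_tsub_cancel_right _ _

end comb

section subring

variable (p : ℕ) {σ : Type*} {k : Type*} [Field k]

/-- `L[[T^p]]`: power series with coefficients in `L` involving only monomials `T^{pn}` -/
def SL (L : Subfield k) : Subring (MvPowerSeries σ k) where
  carrier := {f | (∀ n, MvPowerSeries.coeff n f ∈ L) ∧ ∀ n, ¬ IsP p n → MvPowerSeries.coeff n f = 0}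
  mul_mem' := by
    classical
    rintro f g ⟨hf1, hf2⟩ ⟨hg1, hg2⟩
    refine ⟨(coeffSubring L).mul_mem hf1 hg1, fun n hn => ?_⟩
    rw [MvPowerSeries.coeff_mul]
    apply Finset.sum_eq_zero
    intro x hx
    rw [Finset.mem_antidiagonal] at hx
    by_cases h1 : IsP p x.1
    · by_cases h2 : IsP p x.2
      · exact absurd (hx ▸ h1.add h2) hn
      · rw [hg2 _ h2, mul_zero]
    · rw [hf2 _ h1, zero_mul]
  one_mem' := by
    classical
    refine ⟨(coeffSubring L).one_mem, fun n hn => ?_⟩
    rw [MvPowerSeries.coeff_one, if_neg]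
    rintro rfl
    exact hn (fun i => by simp)
  add_mem' := by
    rintro f g ⟨hf1, hf2⟩ ⟨hg1, hg2⟩
    refine ⟨(coeffSubring L).add_mem hf1 hg1, fun n hn => ?_⟩
    rw [map_add, hf2 n hn, hg2 n hn, add_zero]
  zero_mem' := ⟨(coeffSubring L).zero_mem, fun n _ => by rw [map_zero]⟩
  neg_mem' := by
    rintro f ⟨hf1, hf2⟩
    refine ⟨(coeffSubring L).neg_mem hf1, fun n hn => ?_⟩
    rw [map_neg, hf2 n hn, neg_zero]

lemma mem_SL (L : Subfield k) (f : MvPowerSeries σ k) :
    f ∈ SL p L ↔ (∀ n, MvPowerSeries.coeff n f ∈ L) ∧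
      ∀ n, ¬ IsP p n → MvPowerSeries.coeff n f = 0 := Iff.rfl

lemma SL_mono {L L' : Subfield k} (h : L ≤ L') : SL (σ := σ) p L ≤ SL p L' :=
  fun _ hf => ⟨fun n => h (hf.1 n), hf.2⟩

end subring

section free

variable (p : ℕ) [hp : NeZero p] {σ : Type*} [Fintype σ] [DecidableEq σ] {k : Type*} [Field k]
  (L : Subfield k) {d : ℕ} (c : Module.Basis (Fin d) L k)

/-- the candidate basis `c_j T^m` -/
noncomputable def vv : Fin d × (σ → Fin p) → MvPowerSeries σ k :=
  fun jm => MvPowerSeries.monomial (emb p jm.2) (c jm.1)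

/-- the comparison map `L[[T^p]]^{d p^r} → k[[T]]` -/
noncomputable def Psi : (Fin d × (σ → Fin p) → SL (σ := σ) p L) →ₗ[SL (σ := σ) p L] MvPowerSeries σ k :=
  Fintype.linearCombination (SL (σ := σ) p L) (vv p L c)

lemma coeff_Psi (s : Fin d × (σ → Fin p) → SL (σ := σ) p L) (n : σ →₀ ℕ) :
    MvPowerSeries.coeff n (Psi p L c s) =
      ∑ j, MvPowerSeries.coeff (p • ndiv p n) (s (j, nmod p n) : MvPowerSeries σ k) * c j := by
  rw [Psi, Fintype.linearCombination_apply, map_sum, Fintype.sum_prod_type]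
  refine Finset.sum_congr rfl (fun j _ => ?_)
  rw [Finset.sum_eq_single (nmod p n)]
  · rw [Subring.smul_def, smul_eq_mul, vv, MvPowerSeries.coeff_mul_monomial,
      if_pos (emb_nmod_le p n), sub_emb_nmod]
  · intro m _ hm
    rw [Subring.smul_def, smul_eq_mul, vv, MvPowerSeries.coeff_mul_monomial]
    split_ifs with hle
    · have : ¬ IsP p (n - emb p m) := fun hP => hm (eq_nmod_of_isP p hle hP)
      rw [(s (j, m)).2.2 _ this, zero_mul]
    · rfl
  · intro h
    exact absurd (Finset.mem_univ _) h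

lemma Psi_injective : Function.Injective (Psi (σ := σ) p L c) := by
  rw [← LinearMap.ker_eq_bot, LinearMap.ker_eq_bot']
  intro s hs
  funext ⟨j, m⟩
  apply Subtype.ext
  refine MvPowerSeries.ext (fun n => ?_)
  change MvPowerSeries.coeff n (s (j, m) : MvPowerSeries σ k) =
    MvPowerSeries.coeff n (0 : MvPowerSeries σ k)
  rw [map_zero]
  by_cases hn : IsP p n
  · have hq := hn.smul_ndiv
    have h0 := congrArg (MvPowerSeries.coeff (n + emb p m)) hs
    rw [coeff_Psi, map_zero] at h0
    have h1 : nmod p (n + emb p m) = m := by rw [← hq, nmod_smul_add]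
    have h2 : p • ndiv p (n + emb p m) = n := by
      rw [← sub_emb_nmod, h1, add_tsub_cancel_right]
    rw [h1, h2] at h0
    have hli := c.linearIndependent
    rw [Fintype.linearIndependent_iff] at hli
    have := hli (fun j => ⟨MvPowerSeries.coeff n (s (j, m) : MvPowerSeries σ k),
      (s (j, m)).2.1 n⟩) (by
        refine Eq.trans (Finset.sum_congr rfl (fun j _ => ?_)) h0
        rw [Subfield.smul_def]
        rfl) j
    exact congrArg Subtype.val this
  · exact (s (j, m)).2.2 n hn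

lemma Psi_surjective : Function.Surjective (Psi (σ := σ) p L c) := by
  classical
  intro f
  let s : Fin d × (σ → Fin p) → SL (σ := σ) p L := fun jm =>
    ⟨fun n => if IsP p n then (c.repr (MvPowerSeries.coeff (n + emb p jm.2) f) jm.1 : k) else 0,
      by
        classical
        refine ⟨fun n => ?_, fun n hn => ?_⟩
        · change (if IsP p n then
            (c.repr (MvPowerSeries.coeff (n + emb p jm.2) f) jm.1 : k) else 0) ∈ L
          split_ifs
          · exact (c.repr _ jm.1).2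
          · exact zero_mem _
        · change (if IsP p n then
            (c.repr (MvPowerSeries.coeff (n + emb p jm.2) f) jm.1 : k) else 0) = 0
          rw [if_neg hn]⟩
  refine ⟨s, ?_⟩
  refine MvPowerSeries.ext (fun n => ?_)
  rw [coeff_Psi]
  have hs : ∀ j, MvPowerSeries.coeff (p • ndiv p n) (s (j, nmod p n) : MvPowerSeries σ k) =
      (c.repr (MvPowerSeries.coeff n f) j : k) := by
    intro j
    change (if IsP p (p • ndiv p n) then
      (c.repr (MvPowerSeries.coeff (p • ndiv p n + emb p (nmod p n)) f) j : k) else 0) = _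
    rw [if_pos (isP_smul _), ← sub_emb_nmod, tsub_add_cancel_of_le (emb_nmod_le p n)]
  simp_rw [hs]
  conv_rhs => rw [← c.sum_repr (MvPowerSeries.coeff n f)]
  refine Finset.sum_congr rfl (fun j _ => ?_)
  rw [Subfield.smul_def]
  rfl

/-- `k[[T]] ≃ L[[T^p]]^{d p^r}` -/
noncomputable def PsiEquiv :
    (Fin d × (σ → Fin p) → SL (σ := σ) p L) ≃ₗ[SL (σ := σ) p L] MvPowerSeries σ k :=
  LinearEquiv.ofBijective (Psi p L c) ⟨Psi_injective p L c, Psi_surjective p L c⟩

end free

end Groth.Agent.LibPS29
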