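import Groth.Agent.LibPS29e
import Mathlib.RingTheory.MvPowerSeries.Equiv
import Mathlib.FieldTheory.Perfect

/-!
# LibPS29f: more on `L[[T^p]] ⊆ k[[T]]`: Noetherianity, saturation, `p`-th powers
-/

set_option autoImplicit false

namespace Groth.Agent.LibPS29

section noeth

variable (p : ℕ) [hp : NeZero p] {σ : Type*} [Finite σ] {k : Type*} [Field k] (L : Subfield k)

omit hp [Finite σ] in
lemma exists_not_dvd_of_not_isP {n : σ →₀ ℕ} (hn : ¬ IsP p n) : ∃ i, ¬ p ∣ n i := by
  unfold IsP at hn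
  push Not at hn
  exact hn

lemma expand_map_mem_SL (g : MvPowerSeries σ L) :
    MvPowerSeries.expand p hp.out (MvPowerSeries.map L.subtype g) ∈ SL p L := by
  refine ⟨fun n => ?_, fun n hn => ?_⟩
  · by_cases hP : IsP p n
    · rw [← hP.smul_ndiv, MvPowerSeries.coeff_expand_smul, MvPowerSeries.coeff_map]
      exact (MvPowerSeries.coeff _ g).2
    · obtain ⟨i, hi⟩ := exists_not_dvd_of_not_isP p hP
      rw [MvPowerSeries.coeff_expand_of_not_dvd p hp.out _ hi]
      exact zero_mem _
  · obtain ⟨i, hi⟩ := exists_not_dvd_of_not_isP p hn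
    exact MvPowerSeries.coeff_expand_of_not_dvd p hp.out _ hi

/-- `L[[T]] → L[[T^p]] ⊆ k[[T]]` -/
noncomputable def PhiL : MvPowerSeries σ L →+* SL (σ := σ) p L :=
  RingHom.codRestrict
    (((MvPowerSeries.expand p hp.out : MvPowerSeries σ k →ₐ[k] MvPowerSeries σ k) :
      MvPowerSeries σ k →+* MvPowerSeries σ k).comp (MvPowerSeries.map L.subtype))
    (SL p L) (fun g => expand_map_mem_SL p L g)

lemma PhiL_surjective : Function.Surjective (PhiL (σ := σ) p L) := by
  rintro ⟨f, hf⟩
  refine ⟨fun q => ⟨MvPowerSeries.coeff (p • q) f, hf.1 _⟩, Subtype.ext ?_⟩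
  refine MvPowerSeries.ext (fun n => ?_)
  change MvPowerSeries.coeff n (MvPowerSeries.expand p hp.out (MvPowerSeries.map L.subtype _)) = _
  by_cases hP : IsP p n
  · rw [← hP.smul_ndiv, MvPowerSeries.coeff_expand_smul, MvPowerSeries.coeff_map]
    rfl
  · obtain ⟨i, hi⟩ := exists_not_dvd_of_not_isP p hP
    rw [MvPowerSeries.coeff_expand_of_not_dvd p hp.out _ hi, hf.2 n hP]

theorem isNoetherianRing_SL : IsNoetherianRing (SL (σ := σ) p L) :=
  isNoetherianRing_of_surjective _ _ (PhiL p L) (PhiL_surjective p L)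

end noeth

section sat

variable (p : ℕ) [hp : NeZero p] {σ : Type*} [Fintype σ] {k : Type*} [Field k]

lemma nmod_add_of_isP {i j : σ →₀ ℕ} (hi : IsP p i) : nmod p (i + j) = nmod p j := by
  funext x
  apply Fin.ext
  change (i + j) x % p = j x % p
  obtain ⟨t, ht⟩ := hi x
  rw [Finsupp.add_apply, ht, Nat.mul_add_mod]

lemma isP_iff_nmod (n : σ →₀ ℕ) : IsP p n ↔ nmod p n = fun _ => ⟨0, Nat.pos_of_ne_zero hp.out⟩ := by
  constructor
  · intro h
    funext x
    apply Fin.ext
    change n x % p = 0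
    exact Nat.mod_eq_zero_of_dvd (h x)
  · intro h x
    have := congrArg (fun f => ((f x : Fin p) : ℕ)) h
    exact Nat.dvd_of_mod_eq_zero this

/-- if `b f = a` where `a, b` only involve monomials `T^{pn}` and `b ≠ 0`, then so does `f` -/
theorem support_isP_of_mul (a b f : MvPowerSeries σ k)
    (ha : ∀ n, ¬ IsP p n → MvPowerSeries.coeff n a = 0)
    (hb : ∀ n, ¬ IsP p n → MvPowerSeries.coeff n b = 0) (hb0 : b ≠ 0) (h : b * f = a) :
    ∀ n, ¬ IsP p n → MvPowerSeries.coeff n f = 0 := by
  classical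
  intro n₀ hn₀
  set m := nmod p n₀ with hm
  let pr : MvPowerSeries σ k → MvPowerSeries σ k :=
    fun g n => if nmod p n = m then MvPowerSeries.coeff n g else 0
  have hpr : ∀ g n, MvPowerSeries.coeff n (pr g) =
      if nmod p n = m then MvPowerSeries.coeff n g else 0 := fun g n => rfl
  have hmul : pr (b * f) = b * pr f := by
    refine MvPowerSeries.ext (fun n => ?_)
    rw [hpr, MvPowerSeries.coeff_mul, MvPowerSeries.coeff_mul]
    have hterm : ∀ x ∈ Finset.antidiagonal n,
        MvPowerSeries.coeff x.1 b * MvPowerSeries.coeff x.2 (pr f) =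
          if nmod p n = m then MvPowerSeries.coeff x.1 b * MvPowerSeries.coeff x.2 f else 0 := by
      intro x hx
      rw [Finset.mem_antidiagonal] at hx
      rw [hpr]
      by_cases hP : IsP p x.1
      · have : nmod p n = nmod p x.2 := by rw [← hx, nmod_add_of_isP p hP]
        rw [this]
        split_ifs
        · rfl
        · rw [mul_zero]
      · rw [hb _ hP, zero_mul, zero_mul, ite_self]
    rw [Finset.sum_congr rfl hterm]
    split_ifs
    · rfl
    · rw [Finset.sum_const_zero]
  have hpa : pr a = 0 := by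
    refine MvPowerSeries.ext (fun n => ?_)
    rw [hpr, map_zero]
    split_ifs with hnm
    · apply ha
      intro hP
      apply hn₀
      rw [isP_iff_nmod] at hP ⊢
      rw [← hm, ← hnm, hP]
    · rfl
  rw [h, hpa] at hmul
  have hpf : pr f = 0 := by
    rcases mul_eq_zero.1 hmul.symm with h' | h'
    · exact absurd h' hb0
    · exact h'
  have := congrArg (MvPowerSeries.coeff n₀) hpf
  rw [hpr, if_pos hm.symm, map_zero] at this
  exact this

/-- saturation of `L[[T^p]]` -/
theorem mem_SL_of_mul (L : Subfield k) (a b f : MvPowerSeries σ k)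
    (ha : a ∈ SL p L) (hb : b ∈ SL p L) (hb0 : b ≠ 0) (h : b * f = a) : f ∈ SL p L :=
  ⟨mem_coeffSubring_of_mul L a b f ha.1 hb.1 hb0 h,
    support_isP_of_mul p a b f ha.2 hb.2 hb0 h⟩

end sat

section frob

variable (p : ℕ) [hpp : Fact p.Prime] {σ : Type*} [Finite σ] {k : Type*} [Field k] [CharP k p]

open Classical in
lemma coeff_pow_p_mv (g : MvPowerSeries σ k) (n : σ →₀ ℕ) :
    MvPowerSeries.coeff n (g ^ p) =
      if IsP p n then (MvPowerSeries.coeff (ndiv p n) g) ^ p else 0 := by
  classical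
  have : ExpChar k p := ExpChar.prime hpp.out
  rw [← MvPowerSeries.map_frobenius_expand p hpp.out.ne_zero (f := g), MvPowerSeries.coeff_map]
  split_ifs with hP
  · conv_lhs => rw [← hP.smul_ndiv]
    rw [MvPowerSeries.coeff_expand_smul, frobenius_def]
  · obtain ⟨i, hi⟩ := exists_not_dvd_of_not_isP p hP
    rw [MvPowerSeries.coeff_expand_of_not_dvd p hpp.out.ne_zero _ hi, map_zero]

lemma pow_p_mem_SL (g : MvPowerSeries σ k) : g ^ p ∈ SL p (frobenius k p).fieldRange := by
  classical
  refine ⟨fun n => ?_, fun n hn => ?_⟩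
  · rw [coeff_pow_p_mv]
    split_ifs
    · exact ⟨_, rfl⟩
    · exact zero_mem _
  · rw [coeff_pow_p_mv, if_neg hn]

lemma exists_pow_eq_of_mem_SL (f : MvPowerSeries σ k)
    (hf : f ∈ SL p (frobenius k p).fieldRange) : ∃ g : MvPowerSeries σ k, g ^ p = f := by
  classical
  have hroot : ∀ q : σ →₀ ℕ, ∃ y : k, y ^ p = MvPowerSeries.coeff (p • q) f := by
    intro q
    obtain ⟨y, hy⟩ := hf.1 (p • q)
    exact ⟨y, hy⟩
  choose y hy using hroot
  refine ⟨fun q => y q, MvPowerSeries.ext (fun n => ?_)⟩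
  rw [coeff_pow_p_mv]
  split_ifs with hP
  · change (y (ndiv p n)) ^ p = _
    rw [hy, hP.smul_ndiv]
  · exact (hf.2 n hP).symm

end frob

end Groth.Agent.LibPS29
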