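import Groth.Agent.LibPB29c
import Mathlib.FieldTheory.IntermediateField.Adjoin.Basic

/-!
# LibPS29g: the subfields `k^p(B ∖ α)` for a `p`-basis `B` of `k` and finite `α ⊆ B`
-/

set_option autoImplicit false
universe u

namespace Groth.Agent.LibPS29

open EGA41 Groth.Agent.LibPB29

section

variable (p : ℕ) [hp : Fact p.Prime] (k : Type u) [Field k] [CharP k p]

/-- the subfield `k^p` -/
abbrev kp : Subfield k := (frobenius k p).fieldRange

variable {k} (B : Set k)

/-- `k^p(B ∖ α)` -/
noncomputable def kal (α : Finset B) : IntermediateField (kp p k) k :=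
  IntermediateField.adjoin (kp p k)
    ((Set.range fun y : k => y ^ p) ∪ Subtype.val '' {b : B | b ∉ α})

lemma kal_anti {α β : Finset B} (h : α ⊆ β) : kal p B β ≤ kal p B α := by
  apply IntermediateField.adjoin.mono
  apply Set.union_subset_union_right
  apply Set.image_mono
  intro b hb hbα
  exact hb (h hbα)

theorem finite_kal (hB : IsPGenerating p (kp p k) (Subtype.val : B → k)) (α : Finset B) :
    FiniteDimensional (kal p B α) k := by
  classical
  set E := kal p B α with hE
  have hint : ∀ z ∈ (Subtype.val '' (α : Set B) : Set k), IsIntegral E z := by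
    intro z _
    refine ⟨Polynomial.X ^ p - Polynomial.C
      (⟨z ^ p, IntermediateField.subset_adjoin _ _ (Or.inl ⟨z, rfl⟩)⟩ : E),
      Polynomial.monic_X_pow_sub_C _ hp.out.ne_zero, ?_⟩
    simp [Polynomial.eval₂_sub]
  have hfinS : (Subtype.val '' (α : Set B) : Set k).Finite := (α.finite_toSet).image _
  have := hfinS.to_subtype
  have hfd : FiniteDimensional E
      (IntermediateField.adjoin E (Subtype.val '' (α : Set B) : Set k)) :=
    IntermediateField.finiteDimensional_adjoin hint
  have htop : IntermediateField.adjoin E (Subtype.val '' (α : Set B) : Set k) = ⊤ := by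
    rw [eq_top_iff]
    intro y hytop
    clear hytop
    have hy : y ∈ Submodule.span (pPowerSubalgebra p (kp p k) k)
        (Set.range fun e : {e : B →₀ ℕ // ∀ i, e i < p} => pMonomial Subtype.val e.1) := by
      rw [hB]; trivial
    induction hy using Submodule.span_induction with
    | mem z hz =>
      obtain ⟨e, rfl⟩ := hz
      unfold pMonomial Finsupp.prod
      refine prod_mem (fun b _ => pow_mem ?_ _)
      by_cases hb : b ∈ α
      · exact IntermediateField.subset_adjoin _ _ ⟨b, hb, rfl⟩
      · exact IntermediateField.algebraMap_mem _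
          (⟨b.1, IntermediateField.subset_adjoin _ _ (Or.inr ⟨b, hb, rfl⟩)⟩ : E)
    | zero => exact zero_mem _
    | add _ _ _ _ h1 h2 => exact add_mem h1 h2
    | smul r z _ hz =>
      have hr : (r : k) ∈ E := R_le_adjoin p (kp p k) _ r
      rw [Algebra.smul_def]
      exact mul_mem (IntermediateField.algebraMap_mem _ (⟨r, hr⟩ : E)) hz
  rw [htop] at hfd
  exact Module.Finite.equiv (IntermediateField.topEquiv (F := E) (E := k)).toLinearEquiv

lemma R_le_kp (r : pPowerSubalgebra p (kp p k) k) : (r : k) ∈ kp p k := by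
  have h : pPowerSubalgebra p (kp p k) k ≤ (⊥ : Subalgebra (kp p k) k) := by
    apply Algebra.adjoin_le
    rintro _ ⟨y, rfl⟩
    exact Algebra.mem_bot.2 ⟨⟨y ^ p, ⟨y, rfl⟩⟩, rfl⟩
  obtain ⟨a, ha⟩ := Algebra.mem_bot.1 (h r.2)
  rw [← ha]
  exact a.2

theorem mem_kp_of_forall_mem_kal (hB : IsPBasis p (kp p k) (Subtype.val : B → k)) (x : k)
    (hx : ∀ α : Finset B, x ∈ kal p B α) : x ∈ kp p k := by
  classical
  let _ : Field (pPowerSubalgebra p (kp p k) k) := (isField_R p (kp p k) k).toField
  let b := Groth.Agent.Lib.helper17.PBasis.basis hB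
  set c := b.repr x with hc
  let α : Finset B := c.support.biUnion (fun e => e.1.support)
  have h1 := (mem_adjoin_iff_mem_V p (kp p k) (Subtype.val : B → k) {b : B | b ∉ α} x).1 (hx α)
  have h2 : x ∈ Submodule.span (pPowerSubalgebra p (kp p k) k)
      (b '' {e | (e.1.support : Set B) ⊆ {b : B | b ∉ α}}) := by
    refine Submodule.span_mono ?_ h1
    rintro _ ⟨e, rfl⟩
    refine ⟨⟨e.1, e.2.1⟩, e.2.2, ?_⟩
    rw [Groth.Agent.Lib.helper17.PBasis.basis_apply]
    rfl
  have h3 := (b.mem_span_image).1 h2
  have h0 : ∀ e ∈ c.support, e.1 = 0 := by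
    intro e he
    have hs1 : (e.1.support : Set B) ⊆ {b : B | b ∉ α} := h3 he
    ext i
    by_contra hi
    have hi' : i ∈ e.1.support := Finsupp.mem_support_iff.2 hi
    have hiα : i ∈ α := Finset.mem_biUnion.2 ⟨e, he, hi'⟩
    exact hs1 hi' hiα
  let e0 : {e : B →₀ ℕ // ∀ i, e i < p} := ⟨0, fun _ => hp.out.pos⟩
  have hxe : x = ((c e0 : pPowerSubalgebra p (kp p k) k) : k) := by
    conv_lhs => rw [← b.linearCombination_repr x, Finsupp.linearCombination_apply, Finsupp.sum]
    rw [Finset.sum_eq_single e0]
    · rw [Groth.Agent.Lib.helper17.PBasis.basis_apply]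
      simp [e0, Algebra.smul_def, hc]
    · intro e he hne
      exact absurd (Subtype.ext (h0 e he)) hne
    · intro he
      rw [Finsupp.notMem_support_iff.1 he, zero_smul]
  rw [hxe]
  exact R_le_kp p _

end

end Groth.Agent.LibPS29
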