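import Mathlib.RingTheory.KrullDimension.Polynomial
import Mathlib.Algebra.MvPolynomial.Equiv
import Mathlib.RingTheory.Ideal.Height

/-! helper29: the maximal ideal of a rational point of affine space has height `n`. -/

set_option autoImplicit false

namespace Groth.Agent.LibPt29

open MvPolynomial

variable {k : Type*} [Field k]

/-- the ideal of the rational point `c` of affine `n`-space -/
noncomputable def ptIdeal {n : ℕ} (c : Fin n → k) : Ideal (MvPolynomial (Fin n) k) :=
  Ideal.span (Set.range fun j => X j - C (c j))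

lemma X_sub_C_mem {n : ℕ} (c : Fin n → k) (j : Fin n) : X j - C (c j) ∈ ptIdeal c :=
  Ideal.subset_span ⟨j, rfl⟩

lemma sub_C_eval_mem {n : ℕ} (c : Fin n → k) (f : MvPolynomial (Fin n) k) :
    f - C (eval c f) ∈ ptIdeal c := by
  induction f using MvPolynomial.induction_on with
  | C a => simp
  | add p q hp hq =>
    have : p + q - C (eval c (p + q)) = (p - C (eval c p)) + (q - C (eval c q)) := by
      rw [map_add, map_add]; ring
    rw [this]
    exact add_mem hp hq
  | mul_X p j hp =>
    have : p * X j - C (eval c (p * X j)) =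
        (p - C (eval c p)) * X j + C (eval c p) * (X j - C (c j)) := by
      rw [map_mul, eval_X, map_mul]; ring
    rw [this]
    exact add_mem (Ideal.mul_mem_right _ _ hp) (Ideal.mul_mem_left _ _ (X_sub_C_mem c j))

lemma ptIdeal_eq_ker {n : ℕ} (c : Fin n → k) : ptIdeal c = RingHom.ker (eval c) := by
  apply le_antisymm
  · unfold ptIdeal
    rw [Ideal.span_le]
    rintro _ ⟨j, rfl⟩
    simp [RingHom.mem_ker]
  · intro f hf
    have := sub_C_eval_mem c f
    rw [RingHom.mem_ker] at hf
    rwa [hf, map_zero, sub_zero] at this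

lemma mem_ptIdeal_iff {n : ℕ} (c : Fin n → k) (f : MvPolynomial (Fin n) k) :
    f ∈ ptIdeal c ↔ eval c f = 0 := by
  rw [ptIdeal_eq_ker, RingHom.mem_ker]

instance isMaximal_ptIdeal {n : ℕ} (c : Fin n → k) : (ptIdeal c).IsMaximal := by
  rw [ptIdeal_eq_ker]
  apply RingHom.ker_isMaximal_of_surjective
  intro a
  exact ⟨C a, eval_C a⟩

theorem height_ptIdeal {n : ℕ} (c : Fin n → k) : (ptIdeal c).height = n := by
  induction n with
  | zero =>
    have : ptIdeal c = ⊥ := by
      unfold ptIdeal
      rw [Ideal.span_eq_bot]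
      rintro _ ⟨j, rfl⟩
      exact j.elim0
    rw [this, Ideal.height_bot]
    rfl
  | succ n ih =>
    let e : MvPolynomial (Fin (n + 1)) k ≃+* Polynomial (MvPolynomial (Fin n) k) :=
      (finSuccEquiv k n).toRingEquiv
    have heX0 : e (X 0) = Polynomial.X := finSuccEquiv_X_zero
    have heXs : ∀ j : Fin n, e (X j.succ) = Polynomial.C (X j) := fun j => finSuccEquiv_X_succ
    have heC : ∀ a : k, e (C a) = Polynomial.C (C a) := by
      intro a
      change finSuccEquiv k n (C a) = _
      rw [finSuccEquiv_apply, eval₂Hom_C]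
      rfl
    set P : Ideal (Polynomial (MvPolynomial (Fin n) k)) := (ptIdeal c).map e with hP
    set p : Ideal (MvPolynomial (Fin n) k) := ptIdeal (fun j => c j.succ) with hp
    have hPmax : P.IsMaximal := Ideal.map_isMaximal_of_equiv e
    have hle : p ≤ P.comap Polynomial.C := by
      rw [hp]
      unfold ptIdeal
      rw [Ideal.span_le]
      rintro _ ⟨j, rfl⟩
      change Polynomial.C (X j - C (c j.succ)) ∈ P
      have : Polynomial.C (X j - C (c j.succ)) = e (X j.succ - C (c j.succ)) := by
        rw [map_sub, map_sub, heXs, heC]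
      rw [this]
      exact Ideal.mem_map_of_mem _ (X_sub_C_mem c j.succ)
    have hne : P.comap Polynomial.C ≠ ⊤ := Ideal.comap_ne_top _ hPmax.ne_top
    have hover : P.LiesOver p :=
      ⟨(isMaximal_ptIdeal _).eq_of_le hne hle⟩
    have h1 := Polynomial.height_eq_height_add_one p P
    rw [← e.height_map, ← hP, h1, hp, ih]
    push_cast
    rfl

end Groth.Agent.LibPt29
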