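import Mathlib

/-!
# A one-parameter family splitting off a point from a fat point (seat helper29), abstract core

`A` a `k`-algebra which is a domain, `𝔞` an ideal, `y, f : A` with `f ∈ 𝔞`, `𝔞 ⊆ (f) + (y)`, and `𝔟 = (𝔞 : y)`.
The ideal `𝔞' = (f) + (y - T) 𝔟[T]` of `A[T]` has fibre `(f) + (y - c) 𝔟` at `T = c`, fibre `𝔞` at `T = 0`,
equals `𝔟[T] ∩ (f, y - T)`, and `A[T]/𝔞'` is torsion free and finite over `k[T]` as soon as `A/(f)` is torsion free
and finite over `k[y]` and `A/𝔟` is finite over `k`.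
-/

set_option autoImplicit false
universe u

namespace Groth.Agent.LibPunct29

open Polynomial

section Core

variable {k A : Type u} [Field k] [CommRing A] [IsDomain A] [Algebra k A]
  (𝔞 𝔟 : Ideal A) (f y : A)

/-- the family `(f) + (y - T) 𝔟[T]` -/
noncomputable def fam : Ideal A[X] := Ideal.span {C f} ⊔ Ideal.span {C y - X} * Ideal.map C 𝔟

lemma map_eval_fam (a₀ : A) :
    Ideal.map (evalRingHom a₀) (fam 𝔟 f y) = Ideal.span {f} ⊔ Ideal.span {y - a₀} * 𝔟 := by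
  have h : (evalRingHom a₀).comp C = RingHom.id A := RingHom.ext fun a => eval_C
  rw [fam, Ideal.map_sup, Ideal.map_mul, Ideal.map_span, Ideal.map_span, Set.image_singleton,
    Set.image_singleton, Ideal.map_map, h, Ideal.map_id, coe_evalRingHom, eval_C, eval_sub, eval_C, eval_X]

variable (hf : f ∈ 𝔞) (hdiv : ∀ a ∈ 𝔞, ∃ q, a - q * f ∈ Ideal.span {y}) (hb : ∀ b, b ∈ 𝔟 ↔ y * b ∈ 𝔞)

include hf hdiv hb in
lemma map_eval_zero_fam : Ideal.map (evalRingHom (0 : A)) (fam 𝔟 f y) = 𝔞 := by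
  rw [map_eval_fam, sub_zero]
  refine le_antisymm (sup_le ?_ ?_) ?_
  · rw [Ideal.span_singleton_le_iff_mem]
    exact hf
  · rw [Ideal.span_singleton_mul_le_iff]
    intro b hb'
    exact (hb b).mp hb'
  · intro a ha
    obtain ⟨q, hq⟩ := hdiv a ha
    obtain ⟨b, hb'⟩ := Ideal.mem_span_singleton'.mp hq
    have h1 : y * b ∈ 𝔞 := by
      rw [mul_comm, hb']
      exact 𝔞.sub_mem ha (𝔞.mul_mem_left q hf)
    have h2 : a = q * f + y * b := by
      rw [mul_comm y b, hb']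
      ring
    rw [h2]
    exact Ideal.add_mem _ (Ideal.mem_sup_left (Ideal.mul_mem_left _ q (Ideal.mem_span_singleton_self f)))
      (Ideal.mem_sup_right (Ideal.mul_mem_mul (Ideal.mem_span_singleton_self y) ((hb b).mpr h1)))

include hf hb in
lemma f_mem_b : f ∈ 𝔟 := (hb f).mpr (𝔞.mul_mem_left y hf)

lemma mem_map_C_iff_map_eq_zero (F : A[X]) :
    F ∈ Ideal.map C 𝔟 ↔ Polynomial.map (Ideal.Quotient.mk 𝔟) F = 0 := by
  have h := Polynomial.ker_mapRingHom (Ideal.Quotient.mk 𝔟)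
  rw [Ideal.mk_ker] at h
  rw [← h, RingHom.mem_ker, coe_mapRingHom]

/-- `y - T` is a nonzerodivisor modulo `𝔟[T]` -/
lemma mem_map_C_of_mul_mem (v : A[X]) (h : v * (C y - X) ∈ Ideal.map C 𝔟) : v ∈ Ideal.map C 𝔟 := by
  rw [mem_map_C_iff_map_eq_zero] at h ⊢
  rw [Polynomial.map_mul, Polynomial.map_sub, Polynomial.map_C, Polynomial.map_X] at h
  have h1 : Polynomial.map (Ideal.Quotient.mk 𝔟) v * (X - C (Ideal.Quotient.mk 𝔟 y)) = 0 := by
    have : X - C (Ideal.Quotient.mk 𝔟 y) = -(C (Ideal.Quotient.mk 𝔟 y) - X) := by ring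
    rw [this, mul_neg, h, neg_zero]
  exact (monic_X_sub_C _).mul_left_eq_zero_iff.mp h1

include hf hb in
/-- `𝔞' = 𝔟[T] ∩ (f, y - T)` -/
lemma mem_fam_iff (F : A[X]) :
    F ∈ fam 𝔟 f y ↔ F ∈ Ideal.map C 𝔟 ∧ F ∈ Ideal.span {C f, C y - X} := by
  have hfb : C f ∈ Ideal.map C 𝔟 := Ideal.mem_map_of_mem C (f_mem_b 𝔞 𝔟 f y hf hb)
  constructor
  · intro hF
    constructor
    · refine (sup_le ?_ ?_ : fam 𝔟 f y ≤ Ideal.map C 𝔟) hF
      · rw [Ideal.span_singleton_le_iff_mem]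
        exact hfb
      · exact Ideal.mul_le_right (I := Ideal.span {C y - X}) (J := Ideal.map C 𝔟)
    · refine (sup_le ?_ ?_ : fam 𝔟 f y ≤ Ideal.span {C f, C y - X}) hF
      · exact Ideal.span_mono (Set.singleton_subset_iff.mpr (Set.mem_insert _ _))
      · exact (Ideal.mul_le_left (I := Ideal.span {C y - X}) (J := Ideal.map C 𝔟)).trans
          (Ideal.span_mono (Set.singleton_subset_iff.mpr (Set.mem_insert_of_mem _ rfl)))
  · rintro ⟨h1, h2⟩
    obtain ⟨u, v, huv⟩ := Ideal.mem_span_pair.mp h2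
    have h3 : v * (C y - X) ∈ Ideal.map C 𝔟 := by
      have : v * (C y - X) = F - u * C f := by rw [← huv]; ring
      rw [this]
      exact Ideal.sub_mem _ h1 (Ideal.mul_mem_left _ u hfb)
    have h4 := mem_map_C_of_mul_mem 𝔟 y v h3
    rw [← huv]
    refine Ideal.add_mem _ (Ideal.mem_sup_left (Ideal.mul_mem_left _ u (Ideal.mem_span_singleton_self _))) ?_
    rw [mul_comm]
    exact Ideal.mem_sup_right (Ideal.mul_mem_mul (Ideal.mem_span_singleton_self _) h4)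

end Core

section Torsion

variable {k A : Type u} [Field k] [CommRing A] [IsDomain A] [Algebra k A]
  (𝔞 𝔟 : Ideal A) (f y : A)

variable (k A) in
/-- the structure map `k[T] → A[T]` -/
noncomputable abbrev ι : k[X] →+* A[X] := mapRingHom (algebraMap k A)

lemma eval_ι (g : k[X]) : eval y (ι k A g) = aeval y g := by
  rw [coe_mapRingHom, eval_map_algebraMap]

lemma mem_map_C_of_ι_mul_mem (g : k[X]) (hg : g ≠ 0) (F : A[X]) (h : ι k A g * F ∈ Ideal.map C 𝔟) :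
    F ∈ Ideal.map C 𝔟 := by
  have hmon : (C (g.leadingCoeff⁻¹) * g).Monic :=
    monic_C_mul_of_mul_leadingCoeff_eq_one (inv_mul_cancel₀ (leadingCoeff_ne_zero.mpr hg))
  have h1 : ι k A (C (g.leadingCoeff⁻¹) * g) * F ∈ Ideal.map C 𝔟 := by
    rw [map_mul, mul_assoc]
    exact Ideal.mul_mem_left _ _ h
  rw [mem_map_C_iff_map_eq_zero] at h1 ⊢
  rw [Polynomial.map_mul] at h1
  have h2 : (Polynomial.map (Ideal.Quotient.mk 𝔟) (ι k A (C (g.leadingCoeff⁻¹) * g))).Monic := by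
    rw [coe_mapRingHom]
    exact (hmon.map _).map _
  exact h2.mul_right_eq_zero_iff.mp h1

variable (h5 : ∀ (g : k[X]) (F₀ : A), g ≠ 0 → aeval y g * F₀ ∈ Ideal.span {f} → F₀ ∈ Ideal.span {f})

lemma mem_span_pair_of_eval_mem (F : A[X]) (h : eval y F ∈ Ideal.span {f}) :
    F ∈ Ideal.span {C f, C y - X} := by
  obtain ⟨q, hq⟩ := Ideal.mem_span_singleton'.mp h
  have h3 : F - C q * C f ∈ RingHom.ker (evalRingHom y) := by
    rw [RingHom.mem_ker, coe_evalRingHom, eval_sub, eval_mul, eval_C, eval_C, hq, sub_self]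
  rw [ker_evalRingHom] at h3
  obtain ⟨w, hw⟩ := Ideal.mem_span_singleton'.mp h3
  have h4 : F = C q * C f + (-w) * (C y - X) := by
    have : (-w) * (C y - X) = w * (X - C y) := by ring
    rw [this, hw]
    ring
  rw [h4]
  exact Ideal.mem_span_pair.mpr ⟨C q, -w, rfl⟩

include h5 in
lemma mem_span_pair_of_ι_mul_mem (g : k[X]) (hg : g ≠ 0) (F : A[X])
    (h : ι k A g * F ∈ Ideal.span {C f, C y - X}) : F ∈ Ideal.span {C f, C y - X} := by
  obtain ⟨u, v, huv⟩ := Ideal.mem_span_pair.mp h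
  have h1 : aeval y g * eval y F = eval y u * f := by
    have := congrArg (eval y) huv
    rw [eval_add, eval_mul, eval_mul, eval_C, eval_sub, eval_C, eval_X, sub_self, mul_zero, add_zero, eval_mul,
      eval_ι] at this
    exact this.symm
  have h2 : eval y F ∈ Ideal.span {f} := h5 g _ hg (by
    rw [h1]
    exact Ideal.mul_mem_left _ _ (Ideal.mem_span_singleton_self f))
  exact mem_span_pair_of_eval_mem f y F h2

variable (hf : f ∈ 𝔞) (hb : ∀ b, b ∈ 𝔟 ↔ y * b ∈ 𝔞)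

include hf hb h5 in
/-- `A[T]/𝔞'` has no `k[T]`-torsion -/
theorem mem_fam_of_ι_mul_mem (g : k[X]) (hg : g ≠ 0) (F : A[X]) (h : ι k A g * F ∈ fam 𝔟 f y) :
    F ∈ fam 𝔟 f y := by
  rw [mem_fam_iff 𝔞 𝔟 f y hf hb] at h ⊢
  exact ⟨mem_map_C_of_ι_mul_mem 𝔟 g hg F h.1, mem_span_pair_of_ι_mul_mem f y h5 g hg F h.2⟩

/-- reduction of polynomials modulo `𝔟[T]` to a finite spanning family -/
lemma exists_sum_sub_mem_map_C {ι₂ : Type*} (B : Finset ι₂) (β : ι₂ → A)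
    (hB : ∀ a : A, ∃ c : ι₂ → k, a - ∑ i ∈ B, algebraMap k A (c i) * β i ∈ 𝔟) (F : A[X]) :
    ∃ h : ι₂ → k[X], F - ∑ i ∈ B, ι k A (h i) * C (β i) ∈ Ideal.map C 𝔟 := by
  induction F using Polynomial.induction_on' with
  | add F G hF hG =>
    obtain ⟨h₁, hh₁⟩ := hF
    obtain ⟨h₂, hh₂⟩ := hG
    refine ⟨fun b => h₁ b + h₂ b, ?_⟩
    have : F + G - ∑ b ∈ B, ι k A (h₁ b + h₂ b) * C (β b) =
        (F - ∑ b ∈ B, ι k A (h₁ b) * C (β b)) + (G - ∑ b ∈ B, ι k A (h₂ b) * C (β b)) := by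
      simp only [map_add, add_mul, Finset.sum_add_distrib]
      ring
    rw [this]
    exact Ideal.add_mem _ hh₁ hh₂
  | monomial n a =>
    obtain ⟨c, hc⟩ := hB a
    refine ⟨fun b => monomial n (c b), ?_⟩
    have h1 : monomial n a - ∑ b ∈ B, ι k A (monomial n (c b)) * C (β b) =
        monomial n (a - ∑ b ∈ B, algebraMap k A (c b) * β b) := by
      rw [map_sub, map_sum]
      congr 1
      refine Finset.sum_congr rfl fun b _ => ?_
      rw [coe_mapRingHom, map_monomial, monomial_mul_C]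
    rw [h1, Ideal.mem_map_C_iff]
    intro m
    rw [coeff_monomial]
    split_ifs
    · exact hc
    · exact zero_mem _

/-- reduction of polynomials modulo `(f, y - T)` to a finite spanning family -/
lemma exists_sum_sub_mem_span_pair {ι₁ : Type*} (S₀ : Finset ι₁) (σ : ι₁ → A)
    (hS : ∀ a : A, ∃ g : ι₁ → k[X], a - ∑ s ∈ S₀, aeval y (g s) * σ s ∈ Ideal.span {f}) (F : A[X]) :
    ∃ g : ι₁ → k[X], F - ∑ s ∈ S₀, ι k A (g s) * C (σ s) ∈ Ideal.span {C f, C y - X} := by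
  obtain ⟨g, hg⟩ := hS (eval y F)
  refine ⟨g, mem_span_pair_of_eval_mem f y _ ?_⟩
  rw [eval_sub, eval_finset_sum]
  have : ∑ s ∈ S₀, eval y (ι k A (g s) * C (σ s)) = ∑ s ∈ S₀, aeval y (g s) * σ s :=
    Finset.sum_congr rfl fun s _ => by rw [eval_mul, eval_C, eval_ι]
  rw [this]
  exact hg

/-- reduction of polynomials modulo `𝔞'` to a finite spanning family -/
lemma exists_sum_sub_mem_fam {ι₁ ι₂ : Type*} (S₀ : Finset ι₁) (σ : ι₁ → A) (B : Finset ι₂) (β : ι₂ → A)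
    (hB : ∀ a : A, ∃ c : ι₂ → k, a - ∑ i ∈ B, algebraMap k A (c i) * β i ∈ 𝔟)
    (hS : ∀ a : A, ∃ g : ι₁ → k[X], a - ∑ s ∈ S₀, aeval y (g s) * σ s ∈ Ideal.span {f}) (F : A[X]) :
    ∃ (g : ι₁ → k[X]) (h : ι₂ → k[X]),
      F - ∑ s ∈ S₀, ι k A (g s) * C (σ s) - ∑ b ∈ B, ι k A (h b) * ((C y - X) * C (β b)) ∈ fam 𝔟 f y := by
  obtain ⟨g, hg⟩ := exists_sum_sub_mem_span_pair f y S₀ σ hS F
  obtain ⟨u, v, huv⟩ := Ideal.mem_span_pair.mp hg
  obtain ⟨h, hh⟩ := exists_sum_sub_mem_map_C 𝔟 B β hB v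
  refine ⟨g, h, ?_⟩
  have h1 : F - ∑ s ∈ S₀, ι k A (g s) * C (σ s) - ∑ b ∈ B, ι k A (h b) * ((C y - X) * C (β b)) =
      u * C f + (C y - X) * (v - ∑ b ∈ B, ι k A (h b) * C (β b)) := by
    have hsum : ∑ b ∈ B, ι k A (h b) * ((C y - X) * C (β b)) =
        (C y - X) * ∑ b ∈ B, ι k A (h b) * C (β b) := by
      rw [Finset.mul_sum]
      exact Finset.sum_congr rfl fun b _ => by ring
    rw [← huv, hsum]
    ring
  rw [h1]
  exact Ideal.add_mem _ (Ideal.mem_sup_left (Ideal.mul_mem_left _ u (Ideal.mem_span_singleton_self _)))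
    (Ideal.mem_sup_right (Ideal.mul_mem_mul (Ideal.mem_span_singleton_self _) hh))

end Torsion

section Finite

variable {k P : Type u} [Field k] [CommRing P]

/-- a quotient of a `k[T]`-algebra spanned by two finite families is finite -/
theorem finite_quotient_of_spanning {ι₁ ι₂ : Type*} (φ₀ : k[X] →+* P) (I : Ideal P)
    (G₁ : Finset ι₁) (x₁ : ι₁ → P) (G₂ : Finset ι₂) (x₂ : ι₂ → P)
    (h : ∀ F : P, ∃ (c₁ : ι₁ → k[X]) (c₂ : ι₂ → k[X]),
      F - ∑ i ∈ G₁, φ₀ (c₁ i) * x₁ i - ∑ i ∈ G₂, φ₀ (c₂ i) * x₂ i ∈ I) :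
    ((Ideal.Quotient.mk I).comp φ₀).Finite := by
  classical
  letI := ((Ideal.Quotient.mk I).comp φ₀).toAlgebra
  change Module.Finite k[X] (P ⧸ I)
  refine ⟨⟨G₁.image (fun i => Ideal.Quotient.mk I (x₁ i)) ∪ G₂.image (fun i => Ideal.Quotient.mk I (x₂ i)), ?_⟩⟩
  rw [eq_top_iff]
  intro m _
  obtain ⟨F, rfl⟩ := Ideal.Quotient.mk_surjective m
  obtain ⟨c₁, c₂, hc⟩ := h F
  have h1 : Ideal.Quotient.mk I F =
      ∑ i ∈ G₁, c₁ i • Ideal.Quotient.mk I (x₁ i) + ∑ i ∈ G₂, c₂ i • Ideal.Quotient.mk I (x₂ i) := by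
    rw [← sub_eq_zero]
    have e1 : ∑ i ∈ G₁, c₁ i • Ideal.Quotient.mk I (x₁ i) = Ideal.Quotient.mk I (∑ i ∈ G₁, φ₀ (c₁ i) * x₁ i) := by
      rw [map_sum]
      refine Finset.sum_congr rfl fun x _ => ?_
      rw [map_mul]
      rfl
    have e2 : ∑ i ∈ G₂, c₂ i • Ideal.Quotient.mk I (x₂ i) = Ideal.Quotient.mk I (∑ i ∈ G₂, φ₀ (c₂ i) * x₂ i) := by
      rw [map_sum]
      refine Finset.sum_congr rfl fun x _ => ?_
      rw [map_mul]
      rfl
    rw [e1, e2, ← map_add, ← map_sub, ← sub_sub]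
    exact Ideal.Quotient.eq_zero_iff_mem.mpr hc
  rw [h1]
  refine Submodule.add_mem _ (Submodule.sum_mem _ fun i hi => Submodule.smul_mem _ _ (Submodule.subset_span ?_))
    (Submodule.sum_mem _ fun i hi => Submodule.smul_mem _ _ (Submodule.subset_span ?_))
  · rw [Finset.coe_union, Finset.coe_image]
    exact Or.inl ⟨i, hi, rfl⟩
  · rw [Finset.coe_union, Finset.coe_image, Finset.coe_image]
    exact Or.inr ⟨i, hi, rfl⟩

/-- a quotient of a `k[T]`-algebra without torsion is flat -/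
theorem flat_quotient_of_torsionFree (φ₀ : k[X] →+* P) (I : Ideal P)
    (h : ∀ (g : k[X]) (F : P), g ≠ 0 → φ₀ g * F ∈ I → F ∈ I) :
    ((Ideal.Quotient.mk I).comp φ₀).Flat := by
  letI := ((Ideal.Quotient.mk I).comp φ₀).toAlgebra
  change Module.Flat k[X] (P ⧸ I)
  rw [Module.Flat.flat_iff_torsion_eq_bot_of_isBezout, eq_bot_iff]
  rintro m ⟨⟨g, hg⟩, hgm⟩
  obtain ⟨F, rfl⟩ := Ideal.Quotient.mk_surjective m
  have hg0 : g ≠ 0 := nonZeroDivisors.ne_zero hg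
  have h1 : Ideal.Quotient.mk I (φ₀ g * F) = 0 := by
    rw [map_mul]
    exact hgm
  rw [Submodule.mem_bot]
  exact Ideal.Quotient.eq_zero_iff_mem.mpr (h g F hg0 (Ideal.Quotient.eq_zero_iff_mem.mp h1))

end Finite

end Groth.Agent.LibPunct29
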