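import Mathlib

/-!
# A fat point of the plane in the coordinates `k[y][x]` (seat helper29)

`J` an ideal of `k[y][x]` containing powers of `x` and of `y`, not containing `1` modulo `y`.  There is a monic
`f ∈ J` (in `x`) with `J ⊆ (f) + (y)`; `k[y][x]/(f)` is torsion free and finite over `k[y]`.
-/

set_option autoImplicit false
universe u

namespace Groth.Agent.LibPunct29

open Polynomial

section Monic

variable {R : Type u} [CommRing R] [IsDomain R]

/-- a monic polynomial dividing a nonzero constant multiple divides -/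
lemma dvd_of_monic_dvd_C_mul (p F : R[X]) (hp : p.Monic) (c : R) (hc : c ≠ 0) (h : p ∣ C c * F) : p ∣ F := by
  have h1 : p ∣ C c * (F %ₘ p) := by
    have h2 : C c * (F %ₘ p) = C c * F - p * (C c * (F /ₘ p)) := by
      have e := modByMonic_add_div F p
      linear_combination (C c) * e
    rw [h2]
    exact dvd_sub h (dvd_mul_right _ _)
  have h3' : (C c * (F %ₘ p)).degree ≤ (F %ₘ p).degree := by
    rw [C_mul']
    exact degree_smul_le _ _
  have h3 : (C c * (F %ₘ p)).degree < p.degree := lt_of_le_of_lt h3' (degree_modByMonic_lt F hp)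
  have h4 := eq_zero_of_dvd_of_degree_lt h1 h3
  have h5 : F %ₘ p = 0 := by
    rcases mul_eq_zero.mp h4 with h | h
    · exact absurd (C_eq_zero.mp h) hc
    · exact h
  exact (modByMonic_eq_zero_iff_dvd hp).mp h5

end Monic

section Fat

variable {k : Type u} [Field k] (J : Ideal k[X][X]) (N : ℕ)
  (hX : (X : k[X][X]) ^ N ∈ J) (hY : (C X : k[X][X]) ^ N ∈ J)
  (h1 : (1 : k[X][X]) ∉ J ⊔ Ideal.span {C X})

include hX in
lemma exists_X_pow_mem : ∃ m : ℕ, (X : k[X][X]) ^ m ∈ J ⊔ Ideal.span {C X} := ⟨N, Ideal.mem_sup_left hX⟩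

open Classical in
/-- the order of `J` along `y = 0` -/
noncomputable def ordX : ℕ := Nat.find (exists_X_pow_mem J N hX)

lemma X_pow_ordX_mem : (X : k[X][X]) ^ ordX J N hX ∈ J ⊔ Ideal.span {C X} := by
  classical
  exact Nat.find_spec (exists_X_pow_mem J N hX)

lemma ordX_le (e : ℕ) (he : (X : k[X][X]) ^ e ∈ J ⊔ Ideal.span {C X}) : ordX J N hX ≤ e := by
  classical
  exact Nat.find_min' (exists_X_pow_mem J N hX) he

include h1 in
lemma ordX_pos : 0 < ordX J N hX := by
  rcases Nat.eq_zero_or_pos (ordX J N hX) with h | h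
  · exfalso
    apply h1
    have := X_pow_ordX_mem J N hX
    rwa [h, pow_zero] at this
  · exact h

/-- reduction to `x`-degree `< m` modulo `J + (y^n)` -/
lemma exists_reduce (n : ℕ) (a : k[X][X]) :
    ∃ r : k[X][X], r.degree < (ordX J N hX : WithBot ℕ) ∧ a - r ∈ J ⊔ Ideal.span {(C X : k[X][X]) ^ n} := by
  induction n generalizing a with
  | zero =>
    refine ⟨0, ?_, ?_⟩
    · rw [degree_zero]
      exact WithBot.bot_lt_coe _
    · rw [pow_zero, Ideal.span_singleton_one, sup_top_eq]
      exact Submodule.mem_top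
  | succ n ih =>
    obtain ⟨r, hr, hra⟩ := ih a
    obtain ⟨α, hα, β, hβ, hαβ⟩ := Submodule.mem_sup.mp hra
    obtain ⟨w, rfl⟩ := Ideal.mem_span_singleton'.mp hβ
    obtain ⟨α', hα', β', hβ', hαβ'⟩ := Submodule.mem_sup.mp (X_pow_ordX_mem J N hX)
    obtain ⟨w', rfl⟩ := Ideal.mem_span_singleton'.mp hβ'
    have hmon : (X ^ ordX J N hX : k[X][X]).Monic := monic_X_pow _
    refine ⟨r + C (X ^ n) * (w %ₘ X ^ ordX J N hX), ?_, ?_⟩
    · refine lt_of_le_of_lt (degree_add_le _ _) (max_lt hr ?_)
      have h5 : (C (X ^ n) * (w %ₘ X ^ ordX J N hX)).degree ≤ (w %ₘ X ^ ordX J N hX).degree := by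
        rw [C_mul']
        exact degree_smul_le _ _
      refine lt_of_le_of_lt h5 ?_
      have := degree_modByMonic_lt w hmon
      rwa [degree_X_pow] at this
    · have hw : w = w %ₘ X ^ ordX J N hX + X ^ ordX J N hX * (w /ₘ X ^ ordX J N hX) :=
        (modByMonic_add_div w _).symm
      have h2 : a - (r + C (X ^ n) * (w %ₘ X ^ ordX J N hX)) =
          (α + (C X) ^ n * (w /ₘ X ^ ordX J N hX) * α') +
            (w /ₘ X ^ ordX J N hX) * w' * (C X) ^ (n + 1) := by
        have e1 : a - r = α + w * (C X) ^ n := hαβ.symm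
        rw [C_pow]
        linear_combination e1 + ((C X) ^ n) * hw - ((C X) ^ n * (w /ₘ X ^ ordX J N hX)) * hαβ'
      rw [h2]
      exact Ideal.add_mem _
        (Ideal.mem_sup_left (Ideal.add_mem _ hα (Ideal.mul_mem_left _ _ hα')))
        (Ideal.mem_sup_right (Ideal.mul_mem_left _ _ (Ideal.mem_span_singleton_self _)))

include hY in
lemma exists_reduce' (a : k[X][X]) :
    ∃ r : k[X][X], r.degree < (ordX J N hX : WithBot ℕ) ∧ a - r ∈ J := by
  obtain ⟨r, hr, hra⟩ := exists_reduce J N hX N a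
  refine ⟨r, hr, ?_⟩
  have : J ⊔ Ideal.span {(C X : k[X][X]) ^ N} ≤ J :=
    sup_le le_rfl ((Ideal.span_singleton_le_iff_mem _).mpr hY)
  exact this hra

/-- the monic generator modulo `y` -/
noncomputable def fS : k[X][X] :=
  X ^ ordX J N hX - (exists_reduce' J N hX hY (X ^ ordX J N hX)).choose

lemma fS_mem : fS J N hX hY ∈ J := (exists_reduce' J N hX hY (X ^ ordX J N hX)).choose_spec.2

lemma fS_monic : (fS J N hX hY).Monic := by
  refine (monic_X_pow _).sub_of_left ?_
  rw [degree_X_pow]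
  exact (exists_reduce' J N hX hY (X ^ ordX J N hX)).choose_spec.1

lemma degree_fS : (fS J N hX hY).degree = (ordX J N hX : WithBot ℕ) := by
  rw [fS, degree_sub_eq_left_of_degree_lt, degree_X_pow]
  rw [degree_X_pow]
  exact (exists_reduce' J N hX hY (X ^ ordX J N hX)).choose_spec.1

/-- reduction modulo `y` -/
noncomputable def πY : k[X][X] →+* k[X] := mapRingHom (evalRingHom (0 : k))

lemma πY_X : πY (X : k[X][X]) = X := by
  rw [πY, coe_mapRingHom, Polynomial.map_X]

lemma πY_surjective : Function.Surjective (πY (k := k)) := by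
  intro p
  refine ⟨Polynomial.map C p, ?_⟩
  rw [πY, coe_mapRingHom, Polynomial.map_map]
  have : (evalRingHom (0 : k)).comp C = RingHom.id k := RingHom.ext fun a => eval_C
  rw [this, Polynomial.map_id]

lemma ker_πY : RingHom.ker (πY (k := k)) = Ideal.span {C X} := by
  rw [πY, Polynomial.ker_mapRingHom, ker_evalRingHom, Ideal.map_span, Set.image_singleton, map_zero, sub_zero]

include h1 in
/-- `J ⊆ (f) + (y)` -/
theorem exists_sub_mul_fS_mem (a : k[X][X]) (ha : a ∈ J) :
    ∃ q, a - q * fS J N hX hY ∈ Ideal.span {C X} := by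
  have hmon := fS_monic J N hX hY
  refine ⟨a /ₘ fS J N hX hY, ?_⟩
  have hr : a - (a /ₘ fS J N hX hY) * fS J N hX hY = a %ₘ fS J N hX hY := by
    have e := modByMonic_add_div a (fS J N hX hY)
    linear_combination (-1 : k[X][X]) * e
  rw [hr]
  have hrJ : a %ₘ fS J N hX hY ∈ J := by
    rw [← hr]
    exact J.sub_mem ha (J.mul_mem_left _ (fS_mem J N hX hY))
  have hdeg : (a %ₘ fS J N hX hY).degree < (ordX J N hX : WithBot ℕ) := by
    have := degree_modByMonic_lt a hmon
    rwa [degree_fS] at this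
  rw [← ker_πY, RingHom.mem_ker]
  by_contra hρ
  set ρ := πY (a %ₘ fS J N hX hY) with hρdef
  have hρdeg : ρ.degree < (ordX J N hX : WithBot ℕ) := by
    refine lt_of_le_of_lt ?_ hdeg
    rw [hρdef, πY, coe_mapRingHom]
    exact degree_map_le
  obtain ⟨u, hu, hXu⟩ := exists_eq_pow_rootMultiplicity_mul_and_not_dvd ρ hρ 0
  rw [map_zero, sub_zero] at hu hXu
  set e := rootMultiplicity 0 ρ with he
  -- `e < m`
  have hem : e < ordX J N hX := by
    have hu0 : u ≠ 0 := by
      rintro rfl
      rw [mul_zero] at hu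
      exact hρ hu
    have h2 : ρ.natDegree = e + u.natDegree := by
      have := congrArg natDegree hu
      rwa [natDegree_mul (pow_ne_zero _ X_ne_zero) hu0, natDegree_pow, natDegree_X, mul_one] at this
    have h3 : (ρ.natDegree : WithBot ℕ) < (ordX J N hX : WithBot ℕ) := by
      rwa [← degree_eq_natDegree hρ]
    have h4 : ρ.natDegree < ordX J N hX := by exact_mod_cast h3
    omega
  -- `X^e ∈ π(J)`
  have hcop : IsCoprime ((X : k[X]) ^ N) u :=
    IsCoprime.pow_left ((irreducible_X.coprime_iff_not_dvd).mpr hXu)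
  obtain ⟨a', b', hab⟩ := hcop
  have hρJ : ρ ∈ Ideal.map (πY (k := k)) J := Ideal.mem_map_of_mem _ hrJ
  have hXN : (X : k[X]) ^ N ∈ Ideal.map (πY (k := k)) J := by
    have := Ideal.mem_map_of_mem (πY (k := k)) hX
    rwa [map_pow, πY_X] at this
  have hXe : (X : k[X]) ^ e ∈ Ideal.map (πY (k := k)) J := by
    have : (X : k[X]) ^ e = (a' * X ^ e) * X ^ N + b' * ρ := by
      conv_rhs => rw [hu]
      have : a' * X ^ e * X ^ N + b' * (X ^ e * u) = X ^ e * (a' * X ^ N + b' * u) := by ring
      rw [this, hab, mul_one]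
    rw [this]
    exact Ideal.add_mem _ (Ideal.mul_mem_left _ _ hXN) (Ideal.mul_mem_left _ _ hρJ)
  obtain ⟨α, hα, hαe⟩ := (Ideal.mem_map_iff_of_surjective _ πY_surjective).mp hXe
  have h3 : (X : k[X][X]) ^ e - α ∈ Ideal.span {C X} := by
    rw [← ker_πY, RingHom.mem_ker, map_sub, map_pow, πY_X, hαe, sub_self]
  have h4 : (X : k[X][X]) ^ e ∈ J ⊔ Ideal.span {C X} := by
    have : (X : k[X][X]) ^ e = α + (X ^ e - α) := by ring
    rw [this]
    exact Ideal.add_mem _ (Ideal.mem_sup_left hα) (Ideal.mem_sup_right h3)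
  exact absurd (ordX_le J N hX e h4) (not_le.mpr hem)

/-- `k[y][x]/(f)` is torsion free over `k[y]` -/
theorem mem_span_fS_of_C_mul_mem (g : k[X]) (hg : g ≠ 0) (F : k[X][X])
    (h : C g * F ∈ Ideal.span {fS J N hX hY}) : F ∈ Ideal.span {fS J N hX hY} := by
  rw [Ideal.mem_span_singleton] at h ⊢
  exact dvd_of_monic_dvd_C_mul _ F (fS_monic J N hX hY) g hg h

include h1 in
/-- `k[y][x]/(f)` is spanned by `1, …, x^{m-1}` over `k[y]` -/
theorem exists_sum_sub_mem_span_fS (a : k[X][X]) :
    ∃ g : ℕ → k[X], a - ∑ i ∈ Finset.range (ordX J N hX), C (g i) * X ^ i ∈ Ideal.span {fS J N hX hY} := by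
  have hmon := fS_monic J N hX hY
  refine ⟨fun i => (a %ₘ fS J N hX hY).coeff i, ?_⟩
  have hdeg : (a %ₘ fS J N hX hY).degree < (ordX J N hX : WithBot ℕ) := by
    have := degree_modByMonic_lt a hmon
    rwa [degree_fS] at this
  have h2 : a %ₘ fS J N hX hY = ∑ i ∈ Finset.range (ordX J N hX), C ((a %ₘ fS J N hX hY).coeff i) * X ^ i := by
    have hnat : (a %ₘ fS J N hX hY).natDegree < ordX J N hX := by
      by_cases h0 : a %ₘ fS J N hX hY = 0
      · rw [h0, natDegree_zero]
        exact ordX_pos J N hX h1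
      · exact (natDegree_lt_iff_degree_lt h0).mpr hdeg
    conv_lhs => rw [as_sum_range' (a %ₘ fS J N hX hY) (ordX J N hX) hnat]
    exact Finset.sum_congr rfl fun i _ => (C_mul_X_pow_eq_monomial).symm
  rw [← h2, Ideal.mem_span_singleton]
  have : a - a %ₘ fS J N hX hY = fS J N hX hY * (a /ₘ fS J N hX hY) := by
    have e := modByMonic_add_div a (fS J N hX hY)
    linear_combination (-1 : k[X][X]) * e
  rw [this]
  exact dvd_mul_right _ _

include h1 in
/-- the restriction of `f` to the line `y = c` has a root -/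
theorem exists_root_fS [IsAlgClosed k] (c : k) :
    ∃ x₀ : k, eval x₀ (Polynomial.map (evalRingHom c) (fS J N hX hY)) = 0 := by
  have hmon := (fS_monic J N hX hY).map (evalRingHom c)
  refine IsAlgClosed.exists_root _ ?_
  rw [(fS_monic J N hX hY).degree_map, degree_fS]
  have := ordX_pos J N hX h1
  exact_mod_cast this.ne'

end Fat

end Groth.Agent.LibPunct29
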