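import Groth.Agent.LibPunct29a
import Groth.Agent.LibPunct29b

/-!
# Splitting a point off a fat point of the plane (seat helper29): coordinates

The ring isomorphism `k[x₀, x₁] ≃ k[y][x]` sending `x_j ↦ y`, `x_i ↦ x` (given as two inverse ring homs), the
transport of the facts of `LibPunct29b` along it, and the maximal ideals of rational points of affine space.
-/

set_option autoImplicit false
universe u

namespace Groth.Agent.LibPunct29

open Polynomial

section Coord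

variable {k : Type u} [Field k] (i j : Fin 2)

lemma fin2_eq_of_ne : ∀ (i j l : Fin 2), i ≠ j → l ≠ j → l = i := by decide

lemma fin2_exists_ne : ∀ j : Fin 2, ∃ i : Fin 2, i ≠ j := by decide

variable (k) in
/-- `k[x₀, x₁] → k[y][x]`, `x_j ↦ y`, the other variable `↦ x` -/
noncomputable def toS : MvPolynomial (Fin 2) k →+* k[X][X] :=
  MvPolynomial.eval₂Hom ((C : k[X] →+* k[X][X]).comp (C : k →+* k[X])) (fun l => if l = j then C X else X)

variable (k) in
/-- `k[y][x] → k[x₀, x₁]`, `y ↦ x_j`, `x ↦ x_i` -/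
noncomputable def ofS : k[X][X] →+* MvPolynomial (Fin 2) k :=
  Polynomial.eval₂RingHom (Polynomial.eval₂RingHom MvPolynomial.C (MvPolynomial.X j)) (MvPolynomial.X i)

lemma toS_C (a : k) : toS k j (MvPolynomial.C a) = C (C a) := by
  rw [toS, MvPolynomial.eval₂Hom_C]
  rfl

lemma toS_X_self : toS k j (MvPolynomial.X j) = C X := by
  rw [toS, MvPolynomial.eval₂Hom_X', if_pos rfl]

lemma toS_X_of_ne (l : Fin 2) (hl : l ≠ j) : toS k j (MvPolynomial.X l) = X := by
  rw [toS, MvPolynomial.eval₂Hom_X', if_neg hl]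

lemma ofS_X : ofS k i j X = MvPolynomial.X i := by
  rw [ofS, coe_eval₂RingHom, eval₂_X]

lemma ofS_C (g : k[X]) : ofS k i j (C g) = eval₂ MvPolynomial.C (MvPolynomial.X j) g := by
  rw [ofS, coe_eval₂RingHom, eval₂_C, coe_eval₂RingHom]

lemma ofS_C_X : ofS k i j (C X) = MvPolynomial.X j := by
  rw [ofS_C, eval₂_X]

lemma ofS_C_C (a : k) : ofS k i j (C (C a)) = MvPolynomial.C a := by
  rw [ofS_C, eval₂_C]

lemma ofS_C_eq_aeval (g : k[X]) : ofS k i j (C g) = aeval (MvPolynomial.X j : MvPolynomial (Fin 2) k) g := by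
  rw [ofS_C, aeval_def, MvPolynomial.algebraMap_eq]

variable (hij : i ≠ j)

include hij in
lemma ofS_toS (a : MvPolynomial (Fin 2) k) : ofS k i j (toS k j a) = a := by
  have h : (ofS k i j).comp (toS k j) = RingHom.id _ := by
    refine MvPolynomial.ringHom_ext (fun a => ?_) (fun l => ?_)
    · rw [RingHom.comp_apply, toS_C, ofS_C_C, RingHom.id_apply]
    · rw [RingHom.comp_apply, RingHom.id_apply]
      by_cases hl : l = j
      · rw [hl, toS_X_self, ofS_C_X]
      · rw [toS_X_of_ne j l hl, ofS_X, fin2_eq_of_ne i j l hij hl]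
  exact RingHom.congr_fun h a

include hij in
lemma toS_ofS (F : k[X][X]) : toS k j (ofS k i j F) = F := by
  have h : (toS k j).comp (ofS k i j) = RingHom.id _ := by
    refine Polynomial.ringHom_ext' ?_ ?_
    · refine Polynomial.ringHom_ext (fun a => ?_) ?_
      · simp only [RingHom.comp_apply, RingHom.id_apply]
        rw [ofS_C_C, toS_C]
      · simp only [RingHom.comp_apply, RingHom.id_apply]
        rw [ofS_C_X, toS_X_self]
    · rw [RingHom.comp_apply, RingHom.id_apply, ofS_X, toS_X_of_ne j i hij]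
  exact RingHom.congr_fun h F

include hij in
/-- evaluation at the point with `j`-th coordinate `c` and the other coordinate `x₀` -/
lemma eval_ofS (c x₀ : k) (F : k[X][X]) :
    MvPolynomial.eval (fun l => if l = j then c else x₀) (ofS k i j F) =
      eval x₀ (Polynomial.map (evalRingHom c) F) := by
  have h : (MvPolynomial.eval (fun l => if l = j then c else x₀)).comp (ofS k i j) =
      (evalRingHom x₀).comp (mapRingHom (evalRingHom c)) := by
    refine Polynomial.ringHom_ext' ?_ ?_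
    · refine Polynomial.ringHom_ext (fun a => ?_) ?_
      · simp only [RingHom.comp_apply]
        rw [ofS_C_C, MvPolynomial.eval_C, coe_mapRingHom, Polynomial.map_C, coe_evalRingHom, eval_C,
          coe_evalRingHom, eval_C]
      · simp only [RingHom.comp_apply]
        rw [ofS_C_X, MvPolynomial.eval_X, if_pos rfl, coe_mapRingHom, Polynomial.map_C, coe_evalRingHom, eval_C,
          coe_evalRingHom, eval_X]
    · simp only [RingHom.comp_apply]
      rw [ofS_X, MvPolynomial.eval_X, if_neg hij, coe_mapRingHom, Polynomial.map_X, coe_evalRingHom, eval_X]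
  exact RingHom.congr_fun h F

end Coord

section Transport

variable {k : Type u} [Field k] (i j : Fin 2) (hij : i ≠ j)
  (𝔞 : Ideal (MvPolynomial (Fin 2) k)) (N : ℕ)
  (hXN : (MvPolynomial.X i : MvPolynomial (Fin 2) k) ^ N ∈ 𝔞)
  (hYN : (MvPolynomial.X j : MvPolynomial (Fin 2) k) ^ N ∈ 𝔞)
  (h1 : (1 : MvPolynomial (Fin 2) k) ∉ 𝔞 ⊔ Ideal.span {MvPolynomial.X j})

/-- the fat point in the coordinates `k[y][x]` -/
noncomputable def JS : Ideal k[X][X] := Ideal.comap (ofS k i j) 𝔞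

include hXN in
lemma JS_hX : (X : k[X][X]) ^ N ∈ JS i j 𝔞 := by
  rw [JS, Ideal.mem_comap, map_pow, ofS_X]
  exact hXN

include hYN in
lemma JS_hY : (C X : k[X][X]) ^ N ∈ JS i j 𝔞 := by
  rw [JS, Ideal.mem_comap, map_pow, ofS_C_X]
  exact hYN

include h1 in
lemma JS_h1 : (1 : k[X][X]) ∉ JS i j 𝔞 ⊔ Ideal.span {C X} := by
  intro h
  apply h1
  obtain ⟨α, hα, β, hβ, hαβ⟩ := Submodule.mem_sup.mp h
  obtain ⟨w, rfl⟩ := Ideal.mem_span_singleton'.mp hβ
  have h2 : (1 : MvPolynomial (Fin 2) k) = ofS k i j α + ofS k i j w * MvPolynomial.X j := by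
    rw [← ofS_C_X i j, ← map_mul, ← map_add, hαβ, map_one]
  rw [h2]
  exact Ideal.add_mem _ (Ideal.mem_sup_left hα)
    (Ideal.mem_sup_right (Ideal.mul_mem_left _ _ (Ideal.mem_span_singleton_self _)))

/-- the monic (in `x_i`) element of `𝔞` generating it modulo `x_j` -/
noncomputable def fA : MvPolynomial (Fin 2) k :=
  ofS k i j (fS (JS i j 𝔞) N (JS_hX i j 𝔞 N hXN) (JS_hY i j 𝔞 N hYN))

lemma fA_mem : fA i j 𝔞 N hXN hYN ∈ 𝔞 :=
  fS_mem (JS i j 𝔞) N (JS_hX i j 𝔞 N hXN) (JS_hY i j 𝔞 N hYN)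

include hij in
lemma toS_fA : toS k j (fA i j 𝔞 N hXN hYN) = fS (JS i j 𝔞) N (JS_hX i j 𝔞 N hXN) (JS_hY i j 𝔞 N hYN) :=
  toS_ofS i j hij _

include hij h1 in
theorem fA_div (a : MvPolynomial (Fin 2) k) (ha : a ∈ 𝔞) :
    ∃ q, a - q * fA i j 𝔞 N hXN hYN ∈ Ideal.span {(MvPolynomial.X j : MvPolynomial (Fin 2) k)} := by
  have ha' : toS k j a ∈ JS i j 𝔞 := by
    rw [JS, Ideal.mem_comap, ofS_toS i j hij]
    exact ha
  obtain ⟨q, hq⟩ := exists_sub_mul_fS_mem (JS i j 𝔞) N (JS_hX i j 𝔞 N hXN) (JS_hY i j 𝔞 N hYN)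
    (JS_h1 i j 𝔞 h1) (toS k j a) ha'
  obtain ⟨w, hw⟩ := Ideal.mem_span_singleton'.mp hq
  refine ⟨ofS k i j q, Ideal.mem_span_singleton'.mpr ⟨ofS k i j w, ?_⟩⟩
  have := congrArg (ofS k i j) hw
  rw [map_mul, ofS_C_X, map_sub, map_mul, ofS_toS i j hij] at this
  exact this

include hij in
theorem fA_torsionFree (g : k[X]) (F₀ : MvPolynomial (Fin 2) k) (hg : g ≠ 0)
    (h : aeval (MvPolynomial.X j : MvPolynomial (Fin 2) k) g * F₀ ∈ Ideal.span {fA i j 𝔞 N hXN hYN}) :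
    F₀ ∈ Ideal.span {fA i j 𝔞 N hXN hYN} := by
  obtain ⟨u, hu⟩ := Ideal.mem_span_singleton'.mp h
  have h2 : C g * toS k j F₀ ∈ Ideal.span {fS (JS i j 𝔞) N (JS_hX i j 𝔞 N hXN) (JS_hY i j 𝔞 N hYN)} := by
    refine Ideal.mem_span_singleton'.mpr ⟨toS k j u, ?_⟩
    have := congrArg (toS k j) hu
    rw [map_mul, map_mul, toS_fA i j hij, ← ofS_C_eq_aeval i j, toS_ofS i j hij] at this
    exact this
  have h3 := mem_span_fS_of_C_mul_mem (JS i j 𝔞) N (JS_hX i j 𝔞 N hXN) (JS_hY i j 𝔞 N hYN) g hg _ h2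
  obtain ⟨v, hv⟩ := Ideal.mem_span_singleton'.mp h3
  refine Ideal.mem_span_singleton'.mpr ⟨ofS k i j v, ?_⟩
  have := congrArg (ofS k i j) hv
  rw [map_mul, ofS_toS i j hij] at this
  exact this

/-- the order of `𝔞` along `x_j = 0` -/
noncomputable def ordA : ℕ := ordX (JS i j 𝔞) N (JS_hX i j 𝔞 N hXN)

include hij h1 hYN in
theorem fA_spanning (a : MvPolynomial (Fin 2) k) :
    ∃ g : ℕ → k[X], a - ∑ n ∈ Finset.range (ordA i j 𝔞 N hXN),
      aeval (MvPolynomial.X j : MvPolynomial (Fin 2) k) (g n) * (MvPolynomial.X i) ^ n ∈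
        Ideal.span {fA i j 𝔞 N hXN hYN} := by
  obtain ⟨g, hg⟩ := exists_sum_sub_mem_span_fS (JS i j 𝔞) N (JS_hX i j 𝔞 N hXN) (JS_hY i j 𝔞 N hYN)
    (JS_h1 i j 𝔞 h1) (toS k j a)
  obtain ⟨v, hv⟩ := Ideal.mem_span_singleton'.mp hg
  refine ⟨g, Ideal.mem_span_singleton'.mpr ⟨ofS k i j v, ?_⟩⟩
  have := congrArg (ofS k i j) hv
  rw [map_mul, map_sub, ofS_toS i j hij, map_sum] at this
  rw [ordA, fA, this]
  congr 1
  refine Finset.sum_congr rfl fun n _ => ?_
  rw [map_mul, map_pow, ofS_X, ofS_C_eq_aeval]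

include hij h1 in
theorem fA_root [IsAlgClosed k] (c : k) :
    ∃ p : Fin 2 → k, p j = c ∧ MvPolynomial.eval p (fA i j 𝔞 N hXN hYN) = 0 := by
  obtain ⟨x₀, hx₀⟩ := exists_root_fS (JS i j 𝔞) N (JS_hX i j 𝔞 N hXN) (JS_hY i j 𝔞 N hYN)
    (JS_h1 i j 𝔞 h1) c
  refine ⟨fun l => if l = j then c else x₀, if_pos rfl, ?_⟩
  rw [fA, eval_ofS i j hij]
  exact hx₀

end Transport

end Groth.Agent.LibPunct29
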