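import Groth.Agent.LibPunct29c

/-!
# Splitting a point off a fat point of the plane (seat helper29): the family

A punctual ideal `𝔞 ⊆ k[x₀, x₁]` of colength `≥ 2`, `k` algebraically closed, is the fibre at `t = 0` of a finite flat
family over `k[t]` whose other fibres are contained in the maximal ideal of the origin and of a second point.
-/

set_option autoImplicit false
universe u

namespace Groth.Agent.LibPunct29

open Polynomial

section Max

variable {k : Type u} [Field k] {σ : Type*}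

/-- `q ≡ q(p)` modulo the maximal ideal of the point `p` -/
lemma sub_C_eval_mem (p : σ → k) (q : MvPolynomial σ k) :
    q - MvPolynomial.C (MvPolynomial.eval p q) ∈
      Ideal.span (Set.range fun l : σ => (MvPolynomial.X l - MvPolynomial.C (p l) : MvPolynomial σ k)) := by
  induction q using MvPolynomial.induction_on with
  | C a =>
    rw [MvPolynomial.eval_C, sub_self]
    exact zero_mem _
  | add q₁ q₂ h₁ h₂ =>
    have : q₁ + q₂ - MvPolynomial.C (MvPolynomial.eval p (q₁ + q₂)) =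
        (q₁ - MvPolynomial.C (MvPolynomial.eval p q₁)) + (q₂ - MvPolynomial.C (MvPolynomial.eval p q₂)) := by
      rw [map_add, map_add]
      ring
    rw [this]
    exact Ideal.add_mem _ h₁ h₂
  | mul_X q l h =>
    have : q * MvPolynomial.X l - MvPolynomial.C (MvPolynomial.eval p (q * MvPolynomial.X l)) =
        (q - MvPolynomial.C (MvPolynomial.eval p q)) * MvPolynomial.X l +
          MvPolynomial.C (MvPolynomial.eval p q) * (MvPolynomial.X l - MvPolynomial.C (p l)) := by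
      rw [map_mul, MvPolynomial.eval_X, map_mul]
      ring
    rw [this]
    exact Ideal.add_mem _ (Ideal.mul_mem_right _ _ h)
      (Ideal.mul_mem_left _ _ (Ideal.subset_span ⟨l, rfl⟩))

lemma mem_of_eval_eq_zero (p : σ → k) (q : MvPolynomial σ k) (h : MvPolynomial.eval p q = 0) :
    q ∈ Ideal.span (Set.range fun l : σ => (MvPolynomial.X l - MvPolynomial.C (p l) : MvPolynomial σ k)) := by
  have := sub_C_eval_mem p q
  rwa [h, map_zero, sub_zero] at this

lemma range_sub_C_zero :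
    (Set.range fun l : Fin 2 => (MvPolynomial.X l - MvPolynomial.C ((0 : Fin 2 → k) l) : MvPolynomial (Fin 2) k)) =
      {MvPolynomial.X 0, MvPolynomial.X 1} := by
  ext q
  simp only [Pi.zero_apply, map_zero, sub_zero, Set.mem_range, Fin.exists_fin_two, Set.mem_insert_iff,
    Set.mem_singleton_iff, eq_comm]

/-- `q ≡ q(0)` modulo `(x₀, x₁)` -/
lemma sub_C_eval_zero_mem (q : MvPolynomial (Fin 2) k) :
    q - MvPolynomial.C (MvPolynomial.eval (0 : Fin 2 → k) q) ∈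
      Ideal.span {(MvPolynomial.X 0 : MvPolynomial (Fin 2) k), MvPolynomial.X 1} := by
  have := sub_C_eval_mem (0 : Fin 2 → k) q
  rwa [range_sub_C_zero] at this

lemma X_mem_m0 (l : Fin 2) :
    (MvPolynomial.X l : MvPolynomial (Fin 2) k) ∈
      Ideal.span {(MvPolynomial.X 0 : MvPolynomial (Fin 2) k), MvPolynomial.X 1} := by
  refine Ideal.subset_span ?_
  rcases Fin.exists_fin_two.mp ⟨l, rfl⟩ with h | h
  · exact Or.inl (by rw [h])
  · exact Or.inr (by rw [h]; rfl)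

lemma m0_eq_ker :
    Ideal.span {(MvPolynomial.X 0 : MvPolynomial (Fin 2) k), MvPolynomial.X 1} =
      RingHom.ker (MvPolynomial.eval (0 : Fin 2 → k)) := by
  refine le_antisymm ?_ ?_
  · rw [Ideal.span_le]
    rintro q (rfl | rfl)
    · exact (RingHom.mem_ker).mpr (by rw [MvPolynomial.eval_X]; rfl)
    · exact (RingHom.mem_ker).mpr (by rw [MvPolynomial.eval_X]; rfl)
  · intro q hq
    have := sub_C_eval_zero_mem q
    rwa [RingHom.mem_ker.mp hq, map_zero, sub_zero] at this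

lemma m0_isMaximal :
    (Ideal.span {(MvPolynomial.X 0 : MvPolynomial (Fin 2) k), MvPolynomial.X 1}).IsMaximal := by
  rw [m0_eq_ker]
  exact RingHom.ker_isMaximal_of_surjective _ fun a => ⟨MvPolynomial.C a, MvPolynomial.eval_C _⟩

end Max

section Main

variable (k : Type u) [Field k]

/-- a punctual ideal of colength `≥ 2` misses a coordinate function -/
lemma exists_X_notMem (𝔞 : Ideal (MvPolynomial (Fin 2) k)) [Module.Finite k (MvPolynomial (Fin 2) k ⧸ 𝔞)]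
    (hn : 2 ≤ Module.finrank k (MvPolynomial (Fin 2) k ⧸ 𝔞)) :
    ∃ j : Fin 2, (MvPolynomial.X j : MvPolynomial (Fin 2) k) ∉ 𝔞 := by
  by_contra hcon
  push Not at hcon
  have h1 : Ideal.span {(MvPolynomial.X 0 : MvPolynomial (Fin 2) k), MvPolynomial.X 1} ≤ 𝔞 := by
    rw [Ideal.span_le]
    rintro q (rfl | rfl)
    · exact hcon 0
    · exact hcon 1
  have h2 : Module.finrank k (MvPolynomial (Fin 2) k ⧸ 𝔞) ≤ 1 := by
    refine finrank_le_one (Ideal.Quotient.mk 𝔞 1) fun w => ?_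
    obtain ⟨q, rfl⟩ := Ideal.Quotient.mk_surjective w
    refine ⟨MvPolynomial.eval (0 : Fin 2 → k) q, ?_⟩
    have h3 : MvPolynomial.eval (0 : Fin 2 → k) q • Ideal.Quotient.mk 𝔞 1 =
        Ideal.Quotient.mk 𝔞 (MvPolynomial.C (MvPolynomial.eval (0 : Fin 2 → k) q)) := by
      have e : (MvPolynomial.C (MvPolynomial.eval (0 : Fin 2 → k) q) : MvPolynomial (Fin 2) k) =
          MvPolynomial.eval (0 : Fin 2 → k) q • (1 : MvPolynomial (Fin 2) k) := by
        rw [MvPolynomial.smul_eq_C_mul, mul_one]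
      rw [e]
      exact (Submodule.Quotient.mk_smul 𝔞 _ (1 : MvPolynomial (Fin 2) k)).symm
    rw [h3, eq_comm, ← sub_eq_zero, ← map_sub]
    exact Ideal.Quotient.eq_zero_iff_mem.mpr (h1 (sub_C_eval_zero_mem q))
  omega

variable [IsAlgClosed k]

theorem punctual_split
    (𝔞 : Ideal (MvPolynomial (Fin 2) k)) [Module.Finite k (MvPolynomial (Fin 2) k ⧸ 𝔞)]
    (hn : 2 ≤ Module.finrank k (MvPolynomial (Fin 2) k ⧸ 𝔞))
    (hsupp : 𝔞.radical = Ideal.span {MvPolynomial.X 0, MvPolynomial.X 1}) :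
    ∃ 𝔞' : Ideal (MvPolynomial (Fin 2) k)[X],
      RingHom.Flat (R := k[X]) (S := (MvPolynomial (Fin 2) k)[X] ⧸ 𝔞')
        ((Ideal.Quotient.mk 𝔞').comp (Polynomial.mapRingHom (algebraMap k (MvPolynomial (Fin 2) k)))) ∧
      RingHom.Finite (A := k[X]) (B := (MvPolynomial (Fin 2) k)[X] ⧸ 𝔞')
        ((Ideal.Quotient.mk 𝔞').comp (Polynomial.mapRingHom (algebraMap k (MvPolynomial (Fin 2) k)))) ∧
      Ideal.map (Polynomial.evalRingHom (0 : MvPolynomial (Fin 2) k)) 𝔞' = 𝔞 ∧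
      ∀ c : k, c ≠ 0 →
        Ideal.map (Polynomial.evalRingHom (MvPolynomial.C c)) 𝔞' ≤ Ideal.span {MvPolynomial.X 0, MvPolynomial.X 1} ∧
        ∃ p : Fin 2 → k, p ≠ 0 ∧
          Ideal.map (Polynomial.evalRingHom (MvPolynomial.C c)) 𝔞' ≤
            Ideal.span (Set.range (fun i : Fin 2 => MvPolynomial.X i - MvPolynomial.C (p i))) := by
  classical
  -- the origin
  have hmax := m0_isMaximal (k := k)
  have h𝔞le : 𝔞 ≤ Ideal.span {MvPolynomial.X 0, MvPolynomial.X 1} := hsupp ▸ Ideal.le_radical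
  -- coordinates
  obtain ⟨j, hj⟩ := exists_X_notMem k 𝔞 hn
  obtain ⟨i, hij⟩ := fin2_exists_ne j
  have hpow : ∀ l : Fin 2, ∃ n : ℕ, (MvPolynomial.X l : MvPolynomial (Fin 2) k) ^ n ∈ 𝔞 := fun l => by
    have : (MvPolynomial.X l : MvPolynomial (Fin 2) k) ∈ 𝔞.radical := hsupp ▸ X_mem_m0 l
    exact this
  obtain ⟨ni, hni⟩ := hpow i
  obtain ⟨nj, hnj⟩ := hpow j
  have hXN : (MvPolynomial.X i : MvPolynomial (Fin 2) k) ^ (ni + nj) ∈ 𝔞 :=
    𝔞.pow_mem_of_pow_mem hni (Nat.le_add_right _ _)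
  have hYN : (MvPolynomial.X j : MvPolynomial (Fin 2) k) ^ (ni + nj) ∈ 𝔞 :=
    𝔞.pow_mem_of_pow_mem hnj (Nat.le_add_left _ _)
  have h1 : (1 : MvPolynomial (Fin 2) k) ∉ 𝔞 ⊔ Ideal.span {MvPolynomial.X j} := by
    intro h
    have hle : 𝔞 ⊔ Ideal.span {(MvPolynomial.X j : MvPolynomial (Fin 2) k)} ≤
        Ideal.span {MvPolynomial.X 0, MvPolynomial.X 1} :=
      sup_le h𝔞le ((Ideal.span_singleton_le_iff_mem _).mpr (X_mem_m0 j))
    exact (Ideal.ne_top_iff_one _).mp hmax.ne_top (hle h)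
  -- the colon ideal
  set y : MvPolynomial (Fin 2) k := MvPolynomial.X j with hy
  set 𝔟 : Ideal (MvPolynomial (Fin 2) k) := Submodule.comap (LinearMap.mulLeft (MvPolynomial (Fin 2) k) y) 𝔞
    with h𝔟
  have hb : ∀ b, b ∈ 𝔟 ↔ y * b ∈ 𝔞 := fun b => by
    rw [h𝔟, Submodule.mem_comap, LinearMap.mulLeft_apply]
  have h𝔞𝔟 : 𝔞 ≤ 𝔟 := fun a ha => (hb a).mpr (𝔞.mul_mem_left y ha)
  have h𝔟le : 𝔟 ≤ Ideal.span {MvPolynomial.X 0, MvPolynomial.X 1} := by
    have hne : 𝔟 ≠ ⊤ := by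
      rw [Ideal.ne_top_iff_one, hb, mul_one]
      exact hj
    obtain ⟨M, hM, h𝔟M⟩ := Ideal.exists_le_maximal 𝔟 hne
    have h3 : Ideal.span {MvPolynomial.X 0, MvPolynomial.X 1} ≤ M := by
      rw [← hsupp, hM.isPrime.radical_le_iff]
      exact h𝔞𝔟.trans h𝔟M
    rw [hmax.eq_of_le hM.ne_top h3]
    exact h𝔟M
  -- the element `f`
  set f := fA i j 𝔞 (ni + nj) hXN hYN with hfdef
  have hf : f ∈ 𝔞 := fA_mem i j 𝔞 (ni + nj) hXN hYN
  have hdiv : ∀ a ∈ 𝔞, ∃ q, a - q * f ∈ Ideal.span {y} := fA_div i j hij 𝔞 (ni + nj) hXN hYN h1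
  have h5 : ∀ (g : k[X]) (F₀ : MvPolynomial (Fin 2) k), g ≠ 0 → aeval y g * F₀ ∈ Ideal.span {f} →
      F₀ ∈ Ideal.span {f} := fA_torsionFree i j hij 𝔞 (ni + nj) hXN hYN
  have hS := fA_spanning i j hij 𝔞 (ni + nj) hXN hYN h1
  -- a finite spanning family of `A/𝔟`
  obtain ⟨B, hBtop⟩ := (Module.Finite.fg_top : (⊤ : Submodule k (MvPolynomial (Fin 2) k ⧸ 𝔞)).FG)
  set β : (MvPolynomial (Fin 2) k ⧸ 𝔞) → MvPolynomial (Fin 2) k :=
    Function.surjInv Ideal.Quotient.mk_surjective with hβ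
  have hβmk : ∀ w, Ideal.Quotient.mk 𝔞 (β w) = w := Function.surjInv_eq Ideal.Quotient.mk_surjective
  have hB : ∀ a : MvPolynomial (Fin 2) k, ∃ c : (MvPolynomial (Fin 2) k ⧸ 𝔞) → k,
      a - ∑ w ∈ B, algebraMap k (MvPolynomial (Fin 2) k) (c w) * β w ∈ 𝔟 := fun a => by
    have hmem : Ideal.Quotient.mk 𝔞 a ∈ Submodule.span k (B : Set (MvPolynomial (Fin 2) k ⧸ 𝔞)) := by
      rw [hBtop]
      exact Submodule.mem_top
    obtain ⟨c, -, hc⟩ := Submodule.mem_span_finset.mp hmem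
    refine ⟨c, h𝔞𝔟 (Ideal.Quotient.eq_zero_iff_mem.mp ?_)⟩
    rw [map_sub, map_sum, ← hc, sub_eq_zero]
    refine Finset.sum_congr rfl fun w _ => ?_
    have e : algebraMap k (MvPolynomial (Fin 2) k) (c w) * β w = c w • β w := (Algebra.smul_def _ _).symm
    have e2 : Ideal.Quotient.mk 𝔞 (c w • β w) = c w • Ideal.Quotient.mk 𝔞 (β w) :=
      Submodule.Quotient.mk_smul 𝔞 (c w) (β w)
    rw [e, e2, hβmk]
  refine ⟨fam 𝔟 f y, ?_, ?_, ?_, ?_⟩
  · exact flat_quotient_of_torsionFree (ι k (MvPolynomial (Fin 2) k)) (fam 𝔟 f y)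
      fun g F hg h => mem_fam_of_ι_mul_mem 𝔞 𝔟 f y h5 hf hb g hg F h
  · exact finite_quotient_of_spanning (ι k (MvPolynomial (Fin 2) k)) (fam 𝔟 f y)
      (Finset.range (ordA i j 𝔞 (ni + nj) hXN)) (fun n => C ((MvPolynomial.X i) ^ n))
      B (fun w => (C y - X) * C (β w))
      (exists_sum_sub_mem_fam 𝔟 f y (Finset.range (ordA i j 𝔞 (ni + nj) hXN)) (fun n => (MvPolynomial.X i) ^ n)
        B β hB hS)
  · exact map_eval_zero_fam 𝔞 𝔟 f y hf hdiv hb
  · intro c hc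
    rw [map_eval_fam]
    refine ⟨sup_le ((Ideal.span_singleton_le_iff_mem _).mpr (h𝔞le hf)) (Ideal.mul_le_right.trans h𝔟le), ?_⟩
    obtain ⟨p, hpj, hpf⟩ := fA_root i j hij 𝔞 (ni + nj) hXN hYN h1 c
    refine ⟨p, ?_, sup_le ((Ideal.span_singleton_le_iff_mem _).mpr (mem_of_eval_eq_zero p f hpf))
      (Ideal.mul_le_left.trans ((Ideal.span_singleton_le_iff_mem _).mpr ?_))⟩
    · intro h0
      apply hc
      rw [← hpj, h0]
      rfl
    · rw [← hpj]
      exact Ideal.subset_span ⟨j, rfl⟩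

end Main

end Groth.Agent.LibPunct29
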