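import Groth.Statements.S2035
import Mathlib
import Groth.Agent.Lib.Helper19.CohenK2
import Groth.Agent.S0548
import Groth.Agent.S9318
import Groth.Agent.S0542

set_option autoImplicit false
universe u
open CAlg

namespace Groth.Agent.S2035

-- MARK



/-- Let `k` be a field of characteristic zero and `A` a Noetherian local `k`-algebra. Then `A` is a
regular local ring if and only if `k → A` is formally smooth for the adic topology of the maximal
ideal. -/
theorem result {k A : Type u} [Field k] [CharZero k]
    [CommRing A] [IsLocalRing A] [IsNoetherianRing A] [Algebra k A] :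
    IsRegularLocalRing A ↔ CAlgX.IsAdicFormallySmooth k A (IsLocalRing.maximalIdeal A) := by
  have hfg : (IsLocalRing.maximalIdeal A).FG := (IsLocalRing.maximalIdeal A).fg_of_isNoetherianRing
  have hN : IsNoetherianRing (AdicCompletion (IsLocalRing.maximalIdeal A) A) :=
    Groth.Agent.S0542.result A _ hfg
  have hfs : Algebra.FormallySmooth k
      (IsLocalRing.ResidueField (AdicCompletion (IsLocalRing.maximalIdeal A) A)) :=
    Groth.Agent.Lib.helper17.FieldLift.formallySmooth_of_charZero
  rw [Groth.Agent.S0548.result A, Groth.Agent.S9318.result (IsLocalRing.maximalIdeal A) hfg,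
    ← AdicCompletion.maximalIdeal_eq_map]
  constructor
  · intro h
    exact Groth.Agent.Lib.helper19.CohenK.isAdicFormallySmooth_of_regular k _
  · exact Groth.Agent.Lib.helper19.CohenK.isRegularLocalRing_of_isAdicFormallySmooth k _

end Groth.Agent.S2035
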