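import Groth.Statements.S9317
import Mathlib
import Groth.Agent.S3874

set_option autoImplicit false
set_option linter.style.haveILetI false
universe u
open CAlg

namespace Groth.Agent.S9317

section aux

variable {T : Type u} [CommRing T] (I : Ideal T)

/-- Extension of a ring map killing `I ^ n` to the completion. -/
noncomputable def ext {A : Type u} [CommRing A] (φ : T →+* A) (n : ℕ)
    (h : ∀ x ∈ I ^ n, φ x = 0) : AdicCompletion I T →+* A :=
  (Ideal.Quotient.lift (I ^ n) φ h).comp (AdicCompletion.evalₐ I n).toRingHom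

theorem ext_algebraMap {A : Type u} [CommRing A] (φ : T →+* A) (n : ℕ)
    (h : ∀ x ∈ I ^ n, φ x = 0) (t : T) :
    ext I φ n h (algebraMap T (AdicCompletion I T) t) = φ t := by
  change (Ideal.Quotient.lift (I ^ n) φ h) (AdicCompletion.evalₐ I n (algebraMap T _ t)) = φ t
  rw [AlgHom.commutes]
  exact Ideal.Quotient.lift_mk _ _ _

theorem ext_kills {A : Type u} [CommRing A] (hI : I.FG) (φ : T →+* A) (n : ℕ)
    (h : ∀ x ∈ I ^ n, φ x = 0) (x : AdicCompletion I T)
    (hx : x ∈ (I.map (algebraMap T (AdicCompletion I T))) ^ n) : ext I φ n h x = 0 := by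
  rw [← Groth.Agent.S3874.ker_evalₐ_eq I hI n] at hx
  change (Ideal.Quotient.lift (I ^ n) φ h) (AdicCompletion.evalₐ I n x) = 0
  have : AdicCompletion.evalₐ I n x = 0 := hx
  rw [this, map_zero]

/-- Ring maps out of the completion killing a power of `I` are determined on `T`. -/
theorem hom_ext_of_kills {A : Type u} [CommRing A] (hI : I.FG) (f g : AdicCompletion I T →+* A)
    (n : ℕ)
    (hf : ∀ x ∈ (I.map (algebraMap T (AdicCompletion I T))) ^ n, f x = 0)
    (hg : ∀ x ∈ (I.map (algebraMap T (AdicCompletion I T))) ^ n, g x = 0)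
    (hfg : ∀ t : T, f (algebraMap T _ t) = g (algebraMap T _ t)) : f = g := by
  ext x
  obtain ⟨t, ht⟩ := Ideal.Quotient.mk_surjective (AdicCompletion.evalₐ I n x)
  have hmem : x - algebraMap T (AdicCompletion I T) t ∈
      (I.map (algebraMap T (AdicCompletion I T))) ^ n := by
    rw [← Groth.Agent.S3874.ker_evalₐ_eq I hI n, RingHom.mem_ker]
    change AdicCompletion.evalₐ I n (x - algebraMap T _ t) = 0
    rw [map_sub, AlgHom.commutes, ← ht]
    exact sub_self _
  have h1 : x = algebraMap T (AdicCompletion I T) t + (x - algebraMap T (AdicCompletion I T) t) := by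
    ring
  rw [h1, map_add, map_add, hf _ hmem, hg _ hmem, hfg]

/-- If a ring map sends `K` into a square-zero ideal then it kills `K ^ 2`. -/
theorem kills_sq {S A : Type u} [CommRing S] [CommRing A] (J : Ideal A) (hJ : J ^ 2 = ⊥)
    (f : S →+* A) (K : Ideal S) (h : ∀ x ∈ K, f x ∈ J) (x : S) (hx : x ∈ K ^ 2) : f x = 0 := by
  have h1 : K.map f ≤ J := by
    rw [Ideal.map_le_iff_le_comap]
    exact h
  have h2 : (K ^ 2).map f ≤ ⊥ := by
    rw [Ideal.map_pow, ← hJ]
    exact Ideal.pow_right_mono h1 2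
  exact (Ideal.mem_bot).mp (h2 (Ideal.mem_map_of_mem f hx))

end aux

/-- Let `R → S` be a ring map, let `𝔪 ⊆ R` and `𝔫 ⊆ S` be finitely generated ideals such that some power
of `𝔪` maps into `𝔫`, and let `R^`, `S^` be the `𝔪`-adic and `𝔫`-adic completions. Let `ψ : R^ → S^`
be a ring map whose composite with `R → R^` is the composite `R → S → S^` (there is exactly one such
map, the canonical one, since any such map is continuous for the adic topologies). Then `R → S` is
formally smooth for the `𝔫`-adic topology if and only if `R^ → S^`, i.e. `S^` viewed as an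
`R^`-algebra through `ψ`, is formally smooth for the adic topology of the extension of `𝔫` to `S^`. -/
theorem result {R S : Type u} [CommRing R] [CommRing S]
    [Algebra R S] (𝔪 : Ideal R) (𝔫 : Ideal S) (h𝔪 : 𝔪.FG) (h𝔫 : 𝔫.FG)
    (hc : ∃ c : ℕ, (𝔪 ^ c).map (algebraMap R S) ≤ 𝔫)
    (ψ : AdicCompletion 𝔪 R →+* AdicCompletion 𝔫 S)
    (hψ : ψ.comp (algebraMap R (AdicCompletion 𝔪 R)) =
      (algebraMap S (AdicCompletion 𝔫 S)).comp (algebraMap R S)) :
    CAlgX.IsAdicFormallySmooth R S 𝔫 ↔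
      letI : Algebra (AdicCompletion 𝔪 R) (AdicCompletion 𝔫 S) := ψ.toAlgebra
      CAlgX.IsAdicFormallySmooth (AdicCompletion 𝔪 R) (AdicCompletion 𝔫 S)
        (𝔫.map (algebraMap S (AdicCompletion 𝔫 S))) := by
  classical
  obtain ⟨c, hc⟩ := hc
  have hmap : ∀ j : ℕ, ((𝔪.map (algebraMap R (AdicCompletion 𝔪 R))) ^ (c * j)).map ψ ≤
      (𝔫.map (algebraMap S (AdicCompletion 𝔫 S))) ^ j := by
    intro j
    rw [pow_mul, Ideal.map_pow, ← Ideal.map_pow (algebraMap R (AdicCompletion 𝔪 R)), Ideal.map_map,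
      hψ, ← Ideal.map_map]
    exact Ideal.pow_right_mono (Ideal.map_mono hc) j
  have hmap' : ∀ (j : ℕ) (y : AdicCompletion 𝔪 R),
      y ∈ (𝔪.map (algebraMap R (AdicCompletion 𝔪 R))) ^ (c * j) →
      ψ y ∈ (𝔫.map (algebraMap S (AdicCompletion 𝔫 S))) ^ j := fun j y hy =>
    hmap j (Ideal.mem_map_of_mem ψ hy)
  have hψ' : ∀ r : R, ψ (algebraMap R (AdicCompletion 𝔪 R) r) =
      algebraMap S (AdicCompletion 𝔫 S) (algebraMap R S r) := fun r => RingHom.congr_fun hψ r
  constructor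
  · intro hS
    letI algRS : Algebra (AdicCompletion 𝔪 R) (AdicCompletion 𝔫 S) := ψ.toAlgebra
    intro A _ _ J hJ φ hφ
    obtain ⟨k, hk⟩ := hφ
    letI algRA : Algebra R A :=
      ((algebraMap (AdicCompletion 𝔪 R) A).comp (algebraMap R (AdicCompletion 𝔪 R))).toAlgebra
    haveI : IsScalarTower R (AdicCompletion 𝔪 R) A := IsScalarTower.of_algebraMap_eq' rfl
    -- the restriction of `φ` to `S`
    let φ' : S →ₐ[R] A ⧸ J :=
      { (φ.toRingHom.comp (algebraMap S (AdicCompletion 𝔫 S))) with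
        commutes' := fun r => by
          change φ (algebraMap S (AdicCompletion 𝔫 S) (algebraMap R S r)) = _
          rw [← hψ' r]
          exact φ.commutes (algebraMap R (AdicCompletion 𝔪 R) r) }
    have hφ' : ∀ x ∈ 𝔫 ^ k, φ' x = 0 := by
      intro x hx
      apply hk
      rw [← Ideal.map_pow]
      exact Ideal.mem_map_of_mem _ hx
    obtain ⟨χ', hχ'⟩ := hS A J hJ φ' ⟨k, hφ'⟩
    have hχ'mk : ∀ s : S, Ideal.Quotient.mk J (χ' s) = φ' s := fun s =>
      AlgHom.congr_fun hχ' s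
    -- `χ'` kills `𝔫 ^ (2k)`
    have hχ'kill : ∀ x ∈ 𝔫 ^ (k * 2), χ'.toRingHom x = 0 := by
      intro x hx
      rw [pow_mul] at hx
      refine kills_sq J hJ χ'.toRingHom (𝔫 ^ k) (fun y hy => ?_) x hx
      rw [← Ideal.Quotient.eq_zero_iff_mem]
      exact (hχ'mk y).trans (hφ' y hy)
    let χ0 : AdicCompletion 𝔫 S →+* A := ext 𝔫 χ'.toRingHom (k * 2) hχ'kill
    have hχ0 : ∀ s : S, χ0 (algebraMap S (AdicCompletion 𝔫 S) s) = χ' s :=
      ext_algebraMap 𝔫 χ'.toRingHom (k * 2) hχ'kill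
    have hχ0kill : ∀ x ∈ (𝔫.map (algebraMap S (AdicCompletion 𝔫 S))) ^ (k * 2), χ0 x = 0 :=
      ext_kills 𝔫 h𝔫 χ'.toRingHom (k * 2) hχ'kill
    -- `algebraMap R^ A` kills a power of `𝔪 R^`
    have hAkill : ∀ y ∈ (𝔪.map (algebraMap R (AdicCompletion 𝔪 R))) ^ (c * k * 2),
        algebraMap (AdicCompletion 𝔪 R) A y = 0 := by
      intro y hy
      rw [pow_mul] at hy
      refine kills_sq J hJ (algebraMap (AdicCompletion 𝔪 R) A) _ (fun z hz => ?_) y hy
      rw [← Ideal.Quotient.eq_zero_iff_mem]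
      have h1 : Ideal.Quotient.mk J (algebraMap (AdicCompletion 𝔪 R) A z) =
          φ (algebraMap (AdicCompletion 𝔪 R) (AdicCompletion 𝔫 S) z) := (φ.commutes z).symm
      rw [h1]
      exact hk _ (hmap' k z hz)
    -- `χ0` is `R^`-linear
    have hcomm : χ0.comp ψ = algebraMap (AdicCompletion 𝔪 R) A := by
      refine hom_ext_of_kills 𝔪 h𝔪 _ _ (c * k * 2) (fun y hy => ?_) hAkill (fun r => ?_)
      · change χ0 (ψ y) = 0
        apply hχ0kill
        rw [mul_assoc] at hy
        exact hmap' (k * 2) y hy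
      · change χ0 (ψ (algebraMap R (AdicCompletion 𝔪 R) r)) = _
        rw [hψ' r, hχ0, χ'.commutes]
        rfl
    let χ : AdicCompletion 𝔫 S →ₐ[AdicCompletion 𝔪 R] A :=
      { χ0 with commutes' := fun y => RingHom.congr_fun hcomm y }
    refine ⟨χ, ?_⟩
    apply AlgHom.coe_ringHom_injective
    refine hom_ext_of_kills 𝔫 h𝔫 _ _ (k * 2) (fun x hx => ?_) (fun x hx => ?_) (fun s => ?_)
    · change Ideal.Quotient.mk J (χ0 x) = 0
      rw [hχ0kill x hx, map_zero]
    · apply hk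
      rw [pow_mul] at hx
      exact Ideal.pow_le_self (by norm_num) hx
    · change Ideal.Quotient.mk J (χ0 (algebraMap S (AdicCompletion 𝔫 S) s)) = φ _
      rw [hχ0, hχ'mk]
      rfl
  · intro hS
    letI algRS : Algebra (AdicCompletion 𝔪 R) (AdicCompletion 𝔫 S) := ψ.toAlgebra
    intro A _ _ J hJ φ hφ
    obtain ⟨k, hk⟩ := hφ
    have hρkill : ∀ x ∈ 𝔪 ^ (c * k * 2), algebraMap R A x = 0 := by
      intro x hx
      rw [pow_mul] at hx
      refine kills_sq J hJ (algebraMap R A) _ (fun z hz => ?_) x hx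
      rw [← Ideal.Quotient.eq_zero_iff_mem]
      have h1 : Ideal.Quotient.mk J (algebraMap R A z) = φ (algebraMap R S z) :=
        (φ.commutes z).symm
      rw [h1]
      apply hk
      rw [pow_mul] at hz
      have h2 : ((𝔪 ^ c) ^ k).map (algebraMap R S) ≤ 𝔫 ^ k := by
        rw [Ideal.map_pow]
        exact Ideal.pow_right_mono hc k
      exact h2 (Ideal.mem_map_of_mem _ hz)
    let ρ : AdicCompletion 𝔪 R →+* A := ext 𝔪 (algebraMap R A) (c * k * 2) hρkill
    have hρ : ∀ r : R, ρ (algebraMap R (AdicCompletion 𝔪 R) r) = algebraMap R A r :=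
      ext_algebraMap 𝔪 (algebraMap R A) (c * k * 2) hρkill
    have hρkill' : ∀ y ∈ (𝔪.map (algebraMap R (AdicCompletion 𝔪 R))) ^ (c * k * 2), ρ y = 0 :=
      ext_kills 𝔪 h𝔪 (algebraMap R A) (c * k * 2) hρkill
    letI algRA : Algebra (AdicCompletion 𝔪 R) A := ρ.toAlgebra
    haveI : IsScalarTower R (AdicCompletion 𝔪 R) A :=
      IsScalarTower.of_algebraMap_eq (fun r => (hρ r).symm)
    have hk' : ∀ x ∈ 𝔫 ^ k, φ.toRingHom x = 0 := hk
    let φ0 : AdicCompletion 𝔫 S →+* A ⧸ J := ext 𝔫 φ.toRingHom k hk'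
    have hφ0 : ∀ s : S, φ0 (algebraMap S (AdicCompletion 𝔫 S) s) = φ s :=
      ext_algebraMap 𝔫 φ.toRingHom k hk'
    have hφ0kill : ∀ x ∈ (𝔫.map (algebraMap S (AdicCompletion 𝔫 S))) ^ k, φ0 x = 0 :=
      ext_kills 𝔫 h𝔫 φ.toRingHom k hk'
    have hcomm : φ0.comp ψ = algebraMap (AdicCompletion 𝔪 R) (A ⧸ J) := by
      refine hom_ext_of_kills 𝔪 h𝔪 _ _ (c * k * 2) (fun y hy => ?_) (fun y hy => ?_) (fun r => ?_)
      · change φ0 (ψ y) = 0
        apply hφ0kill
        have h3 : y ∈ (𝔪.map (algebraMap R (AdicCompletion 𝔪 R))) ^ (c * k) := by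
          rw [pow_mul] at hy
          exact Ideal.pow_le_self (by norm_num) hy
        exact hmap' k y h3
      · change Ideal.Quotient.mk J (ρ y) = 0
        rw [hρkill' y hy, map_zero]
      · change φ0 (ψ (algebraMap R (AdicCompletion 𝔪 R) r)) =
          Ideal.Quotient.mk J (ρ (algebraMap R (AdicCompletion 𝔪 R) r))
        rw [hψ' r, hφ0, hρ]
        exact φ.commutes r
    let φ1 : AdicCompletion 𝔫 S →ₐ[AdicCompletion 𝔪 R] A ⧸ J :=
      { φ0 with commutes' := fun y => RingHom.congr_fun hcomm y }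
    obtain ⟨χ1, hχ1⟩ := hS A J hJ φ1 ⟨k, hφ0kill⟩
    let χ : S →ₐ[R] A :=
      { (χ1.toRingHom.comp (algebraMap S (AdicCompletion 𝔫 S))) with
        commutes' := fun r => by
          change χ1 (algebraMap S (AdicCompletion 𝔫 S) (algebraMap R S r)) = _
          rw [← hψ' r]
          exact (χ1.commutes (algebraMap R (AdicCompletion 𝔪 R) r)).trans (hρ r) }
    refine ⟨χ, ?_⟩
    ext s
    have h4 := AlgHom.congr_fun hχ1 (algebraMap S (AdicCompletion 𝔫 S) s)
    exact h4.trans (hφ0 s)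

end Groth.Agent.S9317
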