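import Groth.Statements.S2038
import Mathlib
import Groth.Agent.S2035
import Groth.Agent.S2036
import Groth.Agent.S9317
import Groth.Agent.Lib.Helper24.FSFlat3
import Groth.Agent.Lib.Helper24.FSConv
import Groth.Agent.Lib.Helper24.FSExist
import Groth.Agent.Lib.Helper24.FSUniq
import Groth.Agent.Lib.Helper24.FSTwoWay
import Groth.Agent.Lib.Helper24.CplCofinal
import Groth.Agent.Lib.Helper24.FFComp
import Groth.Agent.Lib.Helper24.N2Reg

set_option autoImplicit false
set_option linter.style.haveILetI false
universe u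
open CAlg

namespace Groth.Agent.S2038

open IsLocalRing

theorem fs_completion {R S : Type u} [CommRing R] [CommRing S] [Algebra R S] (𝔫 : Ideal S)
    (h𝔫 : 𝔫.FG) (hS : CAlgX.IsAdicFormallySmooth R S 𝔫) :
    CAlgX.IsAdicFormallySmooth R (AdicCompletion 𝔫 S)
      (𝔫.map (algebraMap S (AdicCompletion 𝔫 S))) := by
  classical
  intro A _ _ J hJ φ hφ
  obtain ⟨k, hk⟩ := hφ
  let φ' : S →ₐ[R] A ⧸ J := φ.comp (IsScalarTower.toAlgHom R S (AdicCompletion 𝔫 S))
  have hφ'a : ∀ s : S, φ' s = φ (algebraMap S (AdicCompletion 𝔫 S) s) := fun s => rfl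
  have hφ' : ∀ x ∈ 𝔫 ^ k, φ' x = 0 := by
    intro x hx
    rw [hφ'a]
    apply hk
    rw [← Ideal.map_pow]
    exact Ideal.mem_map_of_mem _ hx
  obtain ⟨χ', hχ'⟩ := hS A J hJ φ' ⟨k, hφ'⟩
  have hχ'mk : ∀ s : S, Ideal.Quotient.mk J (χ' s) = φ' s := fun s => AlgHom.congr_fun hχ' s
  have hχ'kill : ∀ x ∈ 𝔫 ^ (k * 2), χ'.toRingHom x = 0 := by
    intro x hx
    rw [pow_mul] at hx
    refine Groth.Agent.S9317.kills_sq J hJ χ'.toRingHom (𝔫 ^ k) (fun y hy => ?_) x hx
    rw [← Ideal.Quotient.eq_zero_iff_mem]
    exact (hχ'mk y).trans (hφ' y hy)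
  let χ0 : AdicCompletion 𝔫 S →+* A := Groth.Agent.S9317.ext 𝔫 χ'.toRingHom (k * 2) hχ'kill
  have hχ0 : ∀ s : S, χ0 (algebraMap S (AdicCompletion 𝔫 S) s) = χ' s :=
    Groth.Agent.S9317.ext_algebraMap 𝔫 χ'.toRingHom (k * 2) hχ'kill
  have hχ0kill : ∀ x ∈ (𝔫.map (algebraMap S (AdicCompletion 𝔫 S))) ^ (k * 2), χ0 x = 0 :=
    Groth.Agent.S9317.ext_kills 𝔫 h𝔫 χ'.toRingHom (k * 2) hχ'kill
  let χ : AdicCompletion 𝔫 S →ₐ[R] A :=
    { χ0 with
      commutes' := fun r => by
        show χ0 (algebraMap R (AdicCompletion 𝔫 S) r) = _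
        rw [IsScalarTower.algebraMap_apply R S (AdicCompletion 𝔫 S), hχ0, χ'.commutes] }
  refine ⟨χ, ?_⟩
  apply AlgHom.coe_ringHom_injective
  refine Groth.Agent.S9317.hom_ext_of_kills 𝔫 h𝔫 _ _ (k * 2) (fun x hx => ?_) (fun x hx => ?_)
    (fun s => ?_)
  · change Ideal.Quotient.mk J (χ0 x) = 0
    rw [hχ0kill x hx, map_zero]
  · apply hk
    rw [pow_mul] at hx
    exact Ideal.pow_le_self (by norm_num) hx
  · change Ideal.Quotient.mk J (χ0 (algebraMap S (AdicCompletion 𝔫 S) s)) = φ _
    rw [hχ0, hχ'mk]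
    rfl

theorem geomReg_iff_fs (k C : Type u) [Field k] [CommRing C] [IsLocalRing C] [IsNoetherianRing C]
    [Algebra k C] :
    CAlg.IsGeometricallyRegular k C ↔ CAlgX.IsAdicFormallySmooth k C (maximalIdeal C) := by
  obtain ⟨p, hp⟩ := CharP.exists k
  rcases CharP.char_is_prime_or_zero k p with hp' | hp'
  · haveI := Fact.mk hp'
    exact Groth.Agent.S2036.result p
  · subst hp'
    haveI : CharZero k := CharP.charP_to_charZero k
    rw [← Groth.Agent.S2035.result]
    constructor
    · intro h
      haveI := h k (Module.Finite.self k)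
      haveI : IsRegularRing C := IsRegularRing.of_ringEquiv (Algebra.TensorProduct.lid k C).toRingEquiv
      exact IsRegularLocalRing.of_isRegularRing_of_isLocalRing C
    · intro h
      exact Groth.Agent.Lib.helper19.CohenK.isGeometricallyRegular_of_isAdicFormallySmooth k C
        ((Groth.Agent.S2035.result).1 h)


theorem flat_of_fs_complete {A S : Type u} [CommRing A] [CommRing S]
    [IsLocalRing A] [IsLocalRing S] [IsNoetherianRing A] [IsNoetherianRing S] [Algebra A S]
    [IsAdicComplete (maximalIdeal S) S]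
    (hle : (maximalIdeal A).map (algebraMap A S) ≤ maximalIdeal S)
    (h : CAlgX.IsAdicFormallySmooth A S (maximalIdeal S)) : Module.Flat A S := by
  classical
  have hKne : (maximalIdeal A).map (algebraMap A S) ≠ ⊤ := fun h' =>
    (IsLocalRing.maximalIdeal.isMaximal S).ne_top (top_le_iff.1 (h' ▸ hle))
  haveI : IsLocalRing (S ⧸ (maximalIdeal A).map (algebraMap A S)) :=
    Groth.Agent.Lib.helper15.isLocalRing_quotient _ hKne
  haveI : IsAdicComplete (maximalIdeal (S ⧸ (maximalIdeal A).map (algebraMap A S)))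
      (S ⧸ (maximalIdeal A).map (algebraMap A S)) :=
    Groth.Agent.Lib.Helper24.N2Reg.isAdicComplete_quotient S _
  have hfs0 : CAlgX.IsAdicFormallySmooth (A ⧸ maximalIdeal A)
      (S ⧸ (maximalIdeal A).map (algebraMap A S))
      ((maximalIdeal S).map (Ideal.Quotient.mk ((maximalIdeal A).map (algebraMap A S)))) :=
    Groth.Agent.Lib.Helper24.FSConv.fs_of_surjective (maximalIdeal S)
      (Ideal.Quotient.mk (maximalIdeal A))
      (Ideal.Quotient.mk ((maximalIdeal A).map (algebraMap A S)))
      Ideal.Quotient.mk_surjective Ideal.Quotient.mk_surjective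
      (by rw [Ideal.mk_ker, Ideal.mk_ker]) rfl h
  rw [IsLocalRing.map_maximalIdeal_of_surjective _ Ideal.Quotient.mk_surjective] at hfs0
  have hloc : ((maximalIdeal A).map (Ideal.Quotient.mk (maximalIdeal A))).map
      (algebraMap (A ⧸ maximalIdeal A) (S ⧸ (maximalIdeal A).map (algebraMap A S))) ≤
      maximalIdeal (S ⧸ (maximalIdeal A).map (algebraMap A S)) := by
    rw [Ideal.map_quotient_self, Ideal.map_bot]
    exact bot_le
  obtain ⟨C, _, _, _, _, _, hCc, hCf, ⟨e⟩⟩ :=
    Groth.Agent.Lib.Helper24.FSExist.exists_flat_lift_fs (maximalIdeal A) le_rfl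
      (S ⧸ (maximalIdeal A).map (algebraMap A S)) hloc hfs0
  have hCle : (maximalIdeal A).map (algebraMap A C) ≤ maximalIdeal C :=
    IsLocalRing.map_maximalIdeal_le (algebraMap A C)
  have hmkC : ∀ a : A, Ideal.Quotient.mk ((maximalIdeal A).map (algebraMap A C)) (algebraMap A C a) =
      algebraMap (A ⧸ maximalIdeal A) (C ⧸ (maximalIdeal A).map (algebraMap A C))
        (Ideal.Quotient.mk (maximalIdeal A) a) := fun a => rfl
  have hmkS : ∀ a : A, Ideal.Quotient.mk ((maximalIdeal A).map (algebraMap A S)) (algebraMap A S a) =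
      algebraMap (A ⧸ maximalIdeal A) (S ⧸ (maximalIdeal A).map (algebraMap A S))
        (Ideal.Quotient.mk (maximalIdeal A) a) := fun a => rfl
  have hCfs : CAlgX.IsAdicFormallySmooth A C (maximalIdeal C) := by
    refine Groth.Agent.Lib.Helper24.FSUniq.fs_of_flat_lift (B₀ := S ⧸ (maximalIdeal A).map (algebraMap A S))
      (maximalIdeal A) (maximalIdeal A) le_rfl
      (maximalIdeal C) hCle
      ((e : (C ⧸ (maximalIdeal A).map (algebraMap A C)) →+* _).comp (Ideal.Quotient.mk _))
      (e.surjective.comp Ideal.Quotient.mk_surjective) ?_ ?_ ?_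
    · ext x
      rw [RingHom.mem_ker]
      show e (Ideal.Quotient.mk _ x) = 0 ↔ _
      rw [map_eq_zero_iff e e.injective, Ideal.Quotient.eq_zero_iff_mem]
    · ext a
      show e (Ideal.Quotient.mk _ (algebraMap A C a)) = _
      rw [hmkC, e.commutes]
      rfl
    · have h5 : (maximalIdeal C).map ((e : (C ⧸ (maximalIdeal A).map (algebraMap A C)) →+*
          (S ⧸ (maximalIdeal A).map (algebraMap A S))).comp (Ideal.Quotient.mk _)) =
          maximalIdeal (S ⧸ (maximalIdeal A).map (algebraMap A S)) :=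
        IsLocalRing.map_maximalIdeal_of_surjective
          ((e : (C ⧸ (maximalIdeal A).map (algebraMap A C)) →+*
          (S ⧸ (maximalIdeal A).map (algebraMap A S))).comp (Ideal.Quotient.mk _))
          (e.surjective.comp Ideal.Quotient.mk_surjective)
      rw [h5]
      exact hfs0
  let ρ : S →+* C ⧸ (maximalIdeal A).map (algebraMap A C) :=
    (e.symm : (S ⧸ (maximalIdeal A).map (algebraMap A S)) →+* _).comp (Ideal.Quotient.mk _)
  have hρa : ∀ s, ρ s = e.symm (Ideal.Quotient.mk _ s) := fun s => rfl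
  obtain ⟨w, -⟩ := Groth.Agent.Lib.Helper24.FSTwoWay.exists_algEquiv_of_fibre (maximalIdeal A) hle
    hCle h hCfs ρ (e.symm.surjective.comp Ideal.Quotient.mk_surjective) (by
      ext x
      rw [RingHom.mem_ker, hρa, map_eq_zero_iff e.symm e.symm.injective,
        Ideal.Quotient.eq_zero_iff_mem]) (by
      ext a
      show ρ (algebraMap A S a) = Ideal.Quotient.mk _ (algebraMap A C a)
      rw [hρa, hmkS, e.symm.commutes, hmkC])
  exact Module.Flat.of_linearEquiv w.toLinearEquiv

theorem flat_of_fs {A B : Type u} [CommRing A] [CommRing B]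
    [IsLocalRing A] [IsLocalRing B] [IsNoetherianRing A] [IsNoetherianRing B] [Algebra A B]
    [IsLocalHom (algebraMap A B)]
    (h : CAlgX.IsAdicFormallySmooth A B (maximalIdeal B)) : Module.Flat A B := by
  classical
  have fg : (maximalIdeal B).FG := (maximalIdeal B).fg_of_isNoetherianRing
  haveI : IsNoetherianRing (AdicCompletion (maximalIdeal B) B) :=
    Groth.Agent.S0542.result B (maximalIdeal B) fg
  have hB' : CAlgX.IsAdicFormallySmooth A (AdicCompletion (maximalIdeal B) B)
      (maximalIdeal (AdicCompletion (maximalIdeal B) B)) := by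
    have := fs_completion (maximalIdeal B) fg h
    rwa [← AdicCompletion.maximalIdeal_eq_map] at this
  haveI : IsAdicComplete (maximalIdeal (AdicCompletion (maximalIdeal B) B))
    (AdicCompletion (maximalIdeal B) B) := inferInstance
  have hK'le : (maximalIdeal A).map (algebraMap A (AdicCompletion (maximalIdeal B) B)) ≤
      maximalIdeal (AdicCompletion (maximalIdeal B) B) := by
    rw [IsScalarTower.algebraMap_eq A B (AdicCompletion (maximalIdeal B) B), ← Ideal.map_map,
      AdicCompletion.maximalIdeal_eq_map]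
    exact Ideal.map_mono (IsLocalRing.map_maximalIdeal_le (algebraMap A B))
  haveI : Module.Flat A (AdicCompletion (maximalIdeal B) B) := flat_of_fs_complete hK'le hB'
  haveI : Module.FaithfullyFlat B (AdicCompletion (maximalIdeal B) B) :=
    Module.FaithfullyFlat.of_flat_of_isLocalHom
  exact Groth.Agent.Lib.Helper24.FFComp.flat_of_flat_comp A B (AdicCompletion (maximalIdeal B) B)

/-- Let `A → B` be a local homomorphism of Noetherian local rings with residue field `k` of `A`. Then `A
→ B` is flat with special fibre `B ⊗ k` geometrically regular over `k` if and only if `A → B` is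
formally smooth for the adic topology of the maximal ideal of `B`. -/
theorem result {A B : Type u} [CommRing A] [CommRing B]
    [IsLocalRing A] [IsLocalRing B] [IsNoetherianRing A] [IsNoetherianRing B] [Algebra A B]
    [IsLocalHom (algebraMap A B)] :
    (Module.Flat A B ∧ CAlg.IsGeometricallyRegular (IsLocalRing.maximalIdeal A).ResidueField
        ((IsLocalRing.maximalIdeal A).Fiber B)) ↔
      CAlgX.IsAdicFormallySmooth A B (IsLocalRing.maximalIdeal B) := by
  classical
  have hsurj := Groth.Agent.Lib.Helper24.CplCofinal.fibreMap_surjective A B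
  have hker := Groth.Agent.Lib.Helper24.CplCofinal.ker_fibreMap A B
  have hle : (maximalIdeal A).map (algebraMap A B) ≤ maximalIdeal B :=
    IsLocalRing.map_maximalIdeal_le (algebraMap A B)
  haveI : Nontrivial ((maximalIdeal A).Fiber B) := by
    by_contra hnt
    rw [not_nontrivial_iff_subsingleton] at hnt
    have h1 : RingHom.ker (Groth.Agent.Lib.Helper24.CplCofinal.fibreMap A B) = ⊤ := by
      rw [Ideal.eq_top_iff_one, RingHom.mem_ker]
      exact Subsingleton.elim _ _
    rw [hker] at h1
    exact (IsLocalRing.maximalIdeal.isMaximal B).ne_top (top_le_iff.1 (h1 ▸ hle))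
  haveI : IsLocalRing ((maximalIdeal A).Fiber B) :=
    IsLocalRing.of_surjective' (Groth.Agent.Lib.Helper24.CplCofinal.fibreMap A B) hsurj
  haveI : IsNoetherianRing ((maximalIdeal A).Fiber B) :=
    isNoetherianRing_of_surjective _ _ (Groth.Agent.Lib.Helper24.CplCofinal.fibreMap A B) hsurj
  have hmax : (maximalIdeal B).map (Groth.Agent.Lib.Helper24.CplCofinal.fibreMap A B) =
      maximalIdeal ((maximalIdeal A).Fiber B) :=
    IsLocalRing.map_maximalIdeal_of_surjective _ hsurj
  have hπsurj : Function.Surjective (algebraMap A (maximalIdeal A).ResidueField) :=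
    Ideal.algebraMap_residueField_surjective (maximalIdeal A)
  have hπker : RingHom.ker (algebraMap A (maximalIdeal A).ResidueField) = maximalIdeal A :=
    Ideal.ker_algebraMap_residueField (maximalIdeal A)
  have hρπ : (Groth.Agent.Lib.Helper24.CplCofinal.fibreMap A B).comp (algebraMap A B) =
      (algebraMap (maximalIdeal A).ResidueField ((maximalIdeal A).Fiber B)).comp
        (algebraMap A (maximalIdeal A).ResidueField) := by
    ext a
    show Groth.Agent.Lib.Helper24.CplCofinal.fibreMap A B (algebraMap A B a) =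
      algebraMap (maximalIdeal A).ResidueField ((maximalIdeal A).Fiber B)
        (algebraMap A (maximalIdeal A).ResidueField a)
    rw [Groth.Agent.Lib.Helper24.CplCofinal.fibreMap_apply, Algebra.TensorProduct.algebraMap_apply,
      Algebra.algebraMap_eq_smul_one (A := B), TensorProduct.tmul_smul, TensorProduct.smul_tmul',
      Algebra.smul_def, mul_one]
    rfl
  rw [geomReg_iff_fs]
  constructor
  · rintro ⟨hflat, hfs⟩
    exact Groth.Agent.Lib.Helper24.FSFlat.isAdicFormallySmooth_of_flat (maximalIdeal A)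
      (maximalIdeal B) (algebraMap A (maximalIdeal A).ResidueField)
      (Groth.Agent.Lib.Helper24.CplCofinal.fibreMap A B) hle hπsurj hπker.le hsurj hker hρπ
      (by rw [hmax]; exact hfs)
  · intro h
    refine ⟨flat_of_fs h, ?_⟩
    have h2 := Groth.Agent.Lib.Helper24.FSConv.fs_of_surjective (maximalIdeal B)
      (algebraMap A (maximalIdeal A).ResidueField)
      (Groth.Agent.Lib.Helper24.CplCofinal.fibreMap A B) hπsurj hsurj
      (by rw [hker, hπker]) hρπ h
    rwa [hmax] at h2

end Groth.Agent.S2038
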