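import Mathlib
import Groth.Prelude
import Groth.Agent.S2038
import Groth.Agent.Lib.Helper19.CohenK4
import Groth.Agent.Lib.Helper24.RegHomLoc
import Groth.Agent.Lib.Helper17.RegSmooth

/-!
# Formally smooth maps of Noetherian rings are regular (helper29)

* `isRegularLocalRing_of_formallySmooth_field`: a Noetherian local algebra over a field which is
  formally smooth (discrete topologies) is regular.
* `isRegularRing_of_formallySmooth_field`: a Noetherian formally smooth algebra over a field is a
  regular ring.
* `isGeometricallyRegular_of_formallySmooth`: … and geometrically regular.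
* `flat_of_formallySmooth`: a formally smooth algebra `A → B` of Noetherian rings is flat.
* `isRegularHom_of_formallySmooth`: … and a regular homomorphism.
-/

set_option autoImplicit false
universe u

open TensorProduct IsLocalRing

namespace Groth.Agent.LibRegHom29

theorem isRegularLocalRing_of_formallySmooth_field (k C : Type u) [Field k] [CommRing C]
    [Algebra k C] [IsNoetherianRing C] [IsLocalRing C] [Algebra.FormallySmooth k C] :
    IsRegularLocalRing C :=
  Groth.Agent.Lib.helper19.CohenK.isRegularLocalRing_of_isAdicFormallySmooth_field k C
    (Groth.Agent.Lib.helper17.RegSmooth.isAdicFormallySmooth_of_formallySmooth k C _)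

theorem isRegularRing_of_formallySmooth_field (k C : Type u) [Field k] [CommRing C]
    [Algebra k C] [IsNoetherianRing C] [Algebra.FormallySmooth k C] :
    IsRegularRing C := by
  rw [isRegularRing_iff]
  intro q hq
  haveI : Algebra.FormallySmooth k (Localization.AtPrime q) := inferInstance
  exact isRegularLocalRing_of_formallySmooth_field k (Localization.AtPrime q)

theorem isGeometricallyRegular_of_formallySmooth (k C : Type u) [Field k] [CommRing C]
    [Algebra k C] [IsNoetherianRing C] [Algebra.FormallySmooth k C] :
    CAlg.IsGeometricallyRegular k C := by
  intro k' _ _ hfin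
  haveI : Module.Finite C (C ⊗[k] k') := inferInstance
  haveI : IsNoetherianRing (C ⊗[k] k') := IsNoetherianRing.of_finite C (C ⊗[k] k')
  haveI : IsNoetherianRing (k' ⊗[k] C) :=
    isNoetherianRing_of_ringEquiv _ (Algebra.TensorProduct.comm k C k').toRingEquiv
  haveI : Algebra.FormallySmooth k' (k' ⊗[k] C) := inferInstance
  exact isRegularRing_of_formallySmooth_field k' (k' ⊗[k] C)

section

variable (A B : Type u) [CommRing A] [CommRing B] [Algebra A B]
  [IsNoetherianRing A] [IsNoetherianRing B] [Algebra.FormallySmooth A B]

theorem flat_of_formallySmooth : Module.Flat A B := by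
  refine Module.flat_of_isLocalized_maximal B B (fun P _ => Localization.AtPrime P)
    (fun P _ => Algebra.linearMap B (Localization.AtPrime P)) ?_
  intro n _
  letI : Algebra (Localization.AtPrime (n.comap (algebraMap A B))) (Localization.AtPrime n) :=
    (Localization.localRingHom (n.comap (algebraMap A B)) n (algebraMap A B) rfl).toAlgebra
  haveI : IsScalarTower A (Localization.AtPrime (n.comap (algebraMap A B)))
      (Localization.AtPrime n) := IsScalarTower.of_algebraMap_eq (by
    intro x
    rw [RingHom.algebraMap_toAlgebra, Localization.localRingHom_to_map,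
      ← IsScalarTower.algebraMap_apply])
  haveI : IsLocalHom (algebraMap (Localization.AtPrime (n.comap (algebraMap A B)))
      (Localization.AtPrime n)) := by
    rw [RingHom.algebraMap_toAlgebra]; infer_instance
  haveI : Algebra.FormallySmooth A (Localization.AtPrime n) :=
    Algebra.FormallySmooth.comp A B (Localization.AtPrime n)
  haveI : Algebra.FormallySmooth (Localization.AtPrime (n.comap (algebraMap A B)))
      (Localization.AtPrime n) :=
    Algebra.FormallySmooth.localization_base (n.comap (algebraMap A B)).primeCompl
  have hadic := Groth.Agent.Lib.helper17.RegSmooth.isAdicFormallySmooth_of_formallySmooth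
    (Localization.AtPrime (n.comap (algebraMap A B))) (Localization.AtPrime n)
    (maximalIdeal (Localization.AtPrime n))
  haveI : Module.Flat (Localization.AtPrime (n.comap (algebraMap A B)))
      (Localization.AtPrime n) := (Groth.Agent.S2038.result.mpr hadic).1
  exact Module.Flat.trans A (Localization.AtPrime (n.comap (algebraMap A B)))
    (Localization.AtPrime n)

theorem isRegularHom_of_formallySmooth : CAlg.IsRegularHom A B := by
  refine ⟨flat_of_formallySmooth A B, fun p _ => ?_⟩
  haveI : IsNoetherianRing (p.ResidueField ⊗[A] B) :=
    Groth.Agent.Lib.Helper24.RegHomLoc.isNoetherianRing_fibre A B p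
  haveI : Algebra.FormallySmooth p.ResidueField (p.ResidueField ⊗[A] B) := inferInstance
  exact ⟨inferInstanceAs (IsNoetherianRing (p.ResidueField ⊗[A] B)),
    isGeometricallyRegular_of_formallySmooth p.ResidueField (p.ResidueField ⊗[A] B)⟩

end

end Groth.Agent.LibRegHom29
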