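import Mathlib
import Groth.Prelude.Def_RegImm
import Groth.Agent.LibRegImmComp29

/-!
# Composition of regular immersions, kind `regular` (helper29)

* `isWeaklyRegular_append_of_surjective`: `fs` weakly regular in `A`, `π : A → B` surjective with
  kernel `(fs)`, `π(gs)` weakly regular in `B` ⇒ `fs ++ gs` weakly regular in `A`.
* `comp_at_regular`: local form of the composition of regular immersions (kind regular).
* `comp_regular`: the composite of two regular immersions (kind regular) is one.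
-/

set_option autoImplicit false
universe u
open CategoryTheory CategoryTheory.Limits AlgebraicGeometry RingTheory.Sequence

namespace Groth.Agent.LibRegImmCompReg29

theorem isWeaklyRegular_append_of_surjective {A B : Type u} [CommRing A] [CommRing B]
    (π : A →+* B) (hπ : Function.Surjective π) (fs gs : List A)
    (hker : RingHom.ker π = Ideal.ofList fs) (hfs : IsWeaklyRegular A fs)
    (hgs : IsWeaklyRegular B (gs.map π)) : IsWeaklyRegular A (fs ++ gs) := by
  rw [isWeaklyRegular_append_iff]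
  refine ⟨hfs, ?_⟩
  letI := π.toAlgebra
  have h1 : IsWeaklyRegular B gs :=
    (isWeaklyRegular_map_algebraMap_iff (R := A) (S := B) (M := B) gs).mp hgs
  have hk : (Ideal.ofList fs • ⊤ : Submodule A A) = LinearMap.ker (Algebra.linearMap A B) := by
    rw [smul_eq_mul, Ideal.mul_top, ← hker]
    ext x
    simp [RingHom.mem_ker, RingHom.algebraMap_toAlgebra]
  let e : (A ⧸ (Ideal.ofList fs • ⊤ : Submodule A A)) ≃ₗ[A] B :=
    (Submodule.quotEquivOfEq _ _ hk).trans
      (LinearMap.quotKerEquivOfSurjective (Algebra.linearMap A B) hπ)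
  exact (e.isWeaklyRegular_congr gs).mpr h1

open Groth.Agent.LibRegImmComp29 in
/-- local form of the composition of regular immersions (kind regular). -/
theorem comp_at_regular {X Y Z : Scheme.{u}} (i : Y ⟶ X) (j : Z ⟶ Y) (z : Z)
    (U₀ : X.affineOpens) (hxU : i (j z) ∈ U₀.1) (hclU : IsClosedImmersion (i ∣_ U₀.1))
    (fs₀ : List Γ(X, U₀.1)) (hfs₀ : IsWeaklyRegular Γ(X, U₀.1) fs₀)
    (hkerU : RingHom.ker (i.app U₀.1).hom = Ideal.ofList fs₀)
    (V₀ : Y.affineOpens) (hyV : j z ∈ V₀.1) (hclV : IsClosedImmersion (j ∣_ V₀.1))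
    (gs₀ : List Γ(Y, V₀.1)) (hgs₀ : IsWeaklyRegular Γ(Y, V₀.1) gs₀)
    (hkerV : RingHom.ker (j.app V₀.1).hom = Ideal.ofList gs₀) :
    ∃ W : X.affineOpens, (j ≫ i) z ∈ W.1 ∧ IsClosedImmersion ((j ≫ i) ∣_ W.1) ∧
      ∃ rs : List Γ(X, W.1), rs.length = fs₀.length + gs₀.length ∧
        IsRegular Γ(X, W.1) rs ∧
          RingHom.ker ((j ≫ i).app W.1).hom = Ideal.ofList rs := by
  obtain ⟨hVU, hsU⟩ :=
    Groth.Agent.LibRegImmStalk29.affine_and_app_surjective_of_restrict i U₀.1 U₀.2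
  have hy : j z ∈ i ⁻¹ᵁ U₀.1 ⊓ V₀.1 := ⟨hxU, hyV⟩
  obtain ⟨f, g, hfg, hyf⟩ := exists_basicOpen_le_affine_inter hVU V₀.2 (j z) hy
  obtain ⟨a, rfl⟩ := hsU f
  have hW : IsAffineOpen (X.basicOpen a) := U₀.2.basicOpen a
  have hWU : X.basicOpen a ≤ U₀.1 := X.basicOpen_le a
  have hpre : i ⁻¹ᵁ (X.basicOpen a) = Y.basicOpen ((i.app U₀.1).hom a) :=
    Scheme.preimage_basicOpen i a
  have hVV : i ⁻¹ᵁ (X.basicOpen a) ≤ V₀.1 := by
    rw [hpre, hfg]
    exact Y.basicOpen_le g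
  obtain ⟨hclW, hkerW⟩ := restrict_of_le i U₀.1 U₀.2 (X.basicOpen a) hW hWU
  have := hclW
  obtain ⟨hV, hsW⟩ :=
    Groth.Agent.LibRegImmStalk29.affine_and_app_surjective_of_restrict i (X.basicOpen a) hW
  obtain ⟨hclV', hkerV'⟩ := restrict_of_le j V₀.1 V₀.2 (i ⁻¹ᵁ (X.basicOpen a)) hV hVV
  have hfs : IsWeaklyRegular Γ(X, X.basicOpen a)
      (fs₀.map (X.presheaf.map (homOfLE hWU).op).hom) := by
    have hflat := flat_restrict U₀.1 (X.basicOpen a) U₀.2 hW hWU
    let _ := (X.presheaf.map (homOfLE hWU).op).hom.toAlgebra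
    have : Module.Flat Γ(X, U₀.1) Γ(X, X.basicOpen a) := hflat
    exact IsWeaklyRegular.of_flat (S := Γ(X, X.basicOpen a)) hfs₀
  have hgs' : IsWeaklyRegular Γ(Y, i ⁻¹ᵁ (X.basicOpen a))
      (gs₀.map (Y.presheaf.map (homOfLE hVV).op).hom) := by
    have hflat := flat_restrict V₀.1 _ V₀.2 hV hVV
    let _ := (Y.presheaf.map (homOfLE hVV).op).hom.toAlgebra
    have : Module.Flat Γ(Y, V₀.1) Γ(Y, i ⁻¹ᵁ (X.basicOpen a)) := hflat
    exact IsWeaklyRegular.of_flat (S := Γ(Y, i ⁻¹ᵁ (X.basicOpen a))) hgs₀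
  rw [hkerU, Ideal.map_ofList] at hkerW
  rw [hkerV, Ideal.map_ofList] at hkerV'
  obtain ⟨gs, hgs⟩ := (List.map_surjective_iff.mpr hsW)
    (gs₀.map (Y.presheaf.map (homOfLE hVV).op).hom)
  rw [← hgs] at hgs' hkerV'
  have hzW : (j ≫ i) z ∈ X.basicOpen a := by
    rw [Scheme.Hom.comp_apply]
    change j z ∈ i ⁻¹ᵁ (X.basicOpen a)
    rw [hpre]
    exact hyf
  have hker : RingHom.ker ((j ≫ i).app (X.basicOpen a)).hom =
      Ideal.ofList (fs₀.map (X.presheaf.map (homOfLE hWU).op).hom ++ gs) := by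
    rw [Scheme.Hom.comp_app]
    change RingHom.ker ((j.app (i ⁻¹ᵁ (X.basicOpen a))).hom.comp
      (i.app (X.basicOpen a)).hom) = _
    rw [← RingHom.comap_ker, hkerV', ← Ideal.map_ofList,
      Ideal.comap_map_of_surjective _ hsW, Ideal.ofList_append, sup_comm]
    congr 1
  refine ⟨⟨X.basicOpen a, hW⟩, hzW, ?_, fs₀.map (X.presheaf.map (homOfLE hWU).op).hom ++ gs,
    ?_, ⟨?_, ?_⟩, hker⟩
  · change IsClosedImmersion ((j ≫ i) ∣_ (X.basicOpen a))
    rw [morphismRestrict_comp]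
    exact MorphismProperty.comp_mem @IsClosedImmersion _ _ hclV' hclW
  · rw [List.length_append, List.length_map]
    have := congrArg List.length hgs
    rw [List.length_map, List.length_map] at this
    rw [this]
  · exact isWeaklyRegular_append_of_surjective _ hsW _ gs hkerW hfs hgs'
  · intro h'
    rw [smul_eq_mul, Ideal.mul_top] at h'
    have htop : RingHom.ker ((j ≫ i).app (X.basicOpen a)).hom = ⊤ := by
      rw [hker]
      exact h'.symm
    have hne : Nonempty ((j ≫ i) ⁻¹ᵁ (X.basicOpen a) : Z.Opens) := ⟨⟨z, hzW⟩⟩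
    have hnt : Nontrivial Γ(Z, (j ≫ i) ⁻¹ᵁ (X.basicOpen a)) := Scheme.component_nontrivial _ _
    have h1 : (1 : Γ(X, X.basicOpen a)) ∈ RingHom.ker ((j ≫ i).app (X.basicOpen a)).hom := by
      rw [htop]
      trivial
    rw [RingHom.mem_ker, map_one] at h1
    exact one_ne_zero h1

/-- the composite of two regular immersions (kind regular) is a regular immersion. -/
theorem comp_regular {X Y Z : Scheme.{u}} (i : Y ⟶ X) (j : Z ⟶ Y)
    (hi : RegImm.IsRegularImmersion .regular i) (hj : RegImm.IsRegularImmersion .regular j) :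
    RegImm.IsRegularImmersion .regular (j ≫ i) := by
  haveI := hi.1
  haveI := hj.1
  refine ⟨inferInstance, fun z => ?_⟩
  obtain ⟨U₀, hxU, hclU, fs₀, hfs₀, hkerU⟩ := hi.2 (j z)
  obtain ⟨V₀, hyV, hclV, gs₀, hgs₀, hkerV⟩ := hj.2 z
  obtain ⟨W, h1, h2, rs, -, h3, h4⟩ := comp_at_regular i j z U₀ hxU hclU fs₀ hfs₀.toIsWeaklyRegular
    hkerU V₀ hyV hclV gs₀ hgs₀.toIsWeaklyRegular hkerV
  exact ⟨W, h1, h2, rs, h3, h4⟩

end Groth.Agent.LibRegImmCompReg29
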