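import Mathlib
import Groth.Prelude.Def_LCI2
import Groth.Prelude.Def_RegImm
import Groth.Agent.LibSeqClass29
import Groth.Agent.LibQuasiSeq29
import Groth.Agent.LibH1Seq29
import Groth.Agent.LibKoszulFFDescentPi29

/-!
# The `SeqClass` of each non-plain kind of regular sequence; product rings and finite flat
families (helper29)

* `koszulClass`, `kindClass k hk` (`k ≠ .regular`) with `(kindClass k hk).P R l ↔ k.Seq R l`.
* `SeqClass.isLocally_pi`, `SeqClass.isLocally_of_faithfullyFlat_family`: generic versions of
  `LibKoszulFFDescentPi29`.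
-/

set_option autoImplicit false
universe u

namespace Groth.Agent.LibSeqClassKind29

open Groth.Agent.LibSeqClass29 Groth.Agent.LibKoszulFFDescent29 Groth.Agent.LibKoszulFlat29

/-- the class of Koszul-regular sequences. -/
def koszulClass : SeqClass.{u} where
  P R _ l := LCI.IsKoszulRegularSeq R l
  map_flat φ hφ l h := isKoszulRegularSeq_map_of_flat φ hφ l h
  of_faithfullyFlat φ hφ l h := isKoszulRegularSeq_of_faithfullyFlat φ hφ l h
  of_forall_away l h := isKoszulRegularSeq_of_forall_away l h
  of_isUnit_mem l x hx hu := isKoszulRegularSeq_of_isUnit_mem l x hx hu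
  of_ofList_eq l l' hl hJ hlen :=
    Groth.Agent.LibKoszulIndep29.isKoszulRegularSeq_of_ofList_eq l l' hl hJ hlen
  coord_mem l hl ρ hρ k := by
    have hH1 := Groth.Agent.Lib.helper7.KoszulLow.isH1Regular_of_isKoszulRegularSeq _ l hl
    have h1 := Groth.Agent.Lib.helper17.LciH1.coord_mem_of_mem_B l.get ρ (hH1 ρ hρ) k
    rwa [Ideal.ofList, ← Set.range_list_get]

/-- the class of sequences of kind `k`, for the three kinds other than plain regular. -/
def kindClass : (k : RegImm.Kind) → k ≠ RegImm.Kind.regular → SeqClass.{u}
  | .regular, h => absurd rfl h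
  | .koszul, _ => koszulClass
  | .h1, _ => Groth.Agent.LibH1Seq29.h1Class
  | .quasi, _ => Groth.Agent.LibQuasiSeq29.quasiClass

theorem kindClass_P (k : RegImm.Kind) (hk : k ≠ RegImm.Kind.regular) (R : Type u) [CommRing R]
    (l : List R) : (kindClass k hk).P R l ↔ k.Seq R l := by
  cases k with
  | regular => exact absurd rfl hk
  | koszul => exact Iff.rfl
  | h1 => exact Iff.rfl
  | quasi => exact Iff.rfl

end Groth.Agent.LibSeqClassKind29

namespace Groth.Agent.LibSeqClass29.SeqClass

open Groth.Agent.LibKoszulFFDescent29

variable (C : SeqClass.{u})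

section Transfer

variable {R : Type u} [CommRing R]

/-- transfer of a local generating sequence of class `C` from an abstract localization away
from `g` to `Localization.Away g`. -/
theorem exists_list_away_of_isLocalization (J : Ideal R) (g : R) (R' : Type u) [CommRing R']
    (ρ : R →+* R') (hloc : @IsLocalization.Away R _ g R' _ ρ.toAlgebra)
    (l' : List R') (hl' : C.P R' l') (hJ : J.map ρ = Ideal.ofList l') :
    ∃ l : List (Localization.Away g), C.P (Localization.Away g) l ∧
      J.map (algebraMap R (Localization.Away g)) = Ideal.ofList l := by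
  letI := ρ.toAlgebra
  haveI := hloc
  let e : R' ≃ₐ[R] Localization.Away g :=
    IsLocalization.algEquiv (Submonoid.powers g) R' (Localization.Away g)
  have he : (e : R' →+* Localization.Away g).comp ρ = algebraMap R (Localization.Away g) := by
    ext x
    exact e.commutes x
  refine ⟨l'.map (e : R' →+* Localization.Away g), ?_, ?_⟩
  · exact C.map_flat _ (RingHom.Flat.of_bijective e.bijective) l' hl'
  · rw [← he, ← Ideal.map_map, hJ, ← Ideal.map_ofList]

/-- transfer of a local generating sequence of class `C` from `Localization.Away a` to an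
abstract localization away from `a`. -/
theorem exists_list_of_away (I : Ideal R) (a : R)
    (l : List (Localization.Away a)) (hl : C.P (Localization.Away a) l)
    (hI : I.map (algebraMap R (Localization.Away a)) = Ideal.ofList l)
    (R' : Type u) [CommRing R'] (ρ : R →+* R')
    (hloc : @IsLocalization.Away R _ a R' _ ρ.toAlgebra) :
    ∃ l' : List R', C.P R' l' ∧ I.map ρ = Ideal.ofList l' := by
  letI := ρ.toAlgebra
  haveI := hloc
  let e : Localization.Away a ≃ₐ[R] R' :=
    IsLocalization.algEquiv (Submonoid.powers a) (Localization.Away a) R'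
  have he : (e : Localization.Away a →+* R').comp (algebraMap R (Localization.Away a)) = ρ := by
    ext x
    exact e.commutes x
  refine ⟨l.map (e : Localization.Away a →+* R'), ?_, ?_⟩
  · exact C.map_flat _ (RingHom.Flat.of_bijective e.bijective) l hl
  · rw [← he, ← Ideal.map_map, hI, ← Ideal.map_ofList]

end Transfer

section Pi

variable {n : ℕ} (Bk : Fin n → Type u) [∀ k, CommRing (Bk k)]

/-- an ideal of a finite product ring is locally of class `C` if all its components are. -/
theorem isLocally_pi (J : Ideal (∀ k, Bk k))
    (h : ∀ k, C.IsLocally (J.map (Pi.evalRingHom Bk k))) :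
    C.IsLocally J := by
  classical
  intro 𝔮 h𝔮
  obtain ⟨k, 𝔮k, rfl⟩ := PrimeSpectrum.exists_comap_evalRingHom_eq 𝔮
  have hle : J.map (Pi.evalRingHom Bk k) ≤ 𝔮k.asIdeal := Ideal.map_le_iff_le_comap.2 h𝔮
  obtain ⟨gk, hgk, l, hl, hspan⟩ := h k 𝔮k hle
  refine ⟨Pi.single k gk, ?_, ?_⟩
  · change Pi.evalRingHom Bk k (Pi.single k gk) ∉ 𝔮k.asIdeal
    rw [Pi.evalRingHom_apply, Pi.single_eq_same]
    exact hgk
  · set ρ : (∀ k, Bk k) →+* Localization.Away gk :=
      (algebraMap (Bk k) (Localization.Away gk)).comp (Pi.evalRingHom Bk k) with hρ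
    have hloc : @IsLocalization.Away (∀ k, Bk k) _ (Pi.single k gk) (Localization.Away gk) _
        ρ.toAlgebra := by
      letI a1 : Algebra (∀ k, Bk k) (Bk k) := (Pi.evalRingHom Bk k).toAlgebra
      have e : ρ.toAlgebra = (OreLocalization.instAlgebra :
          Algebra (∀ k, Bk k) (Localization.Away gk)) :=
        Algebra.algebra_ext _ _ fun x =>
          (IsScalarTower.algebraMap_apply (∀ k, Bk k) (Bk k) (Localization.Away gk) x).symm
      rw [e]
      haveI h1 : IsLocalization.Away (Pi.single k 1 : ∀ k, Bk k) (Bk k) := by
        refine IsLocalization.away_of_isIdempotentElem_of_mul ?_ ?_ ?_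
        · change (Pi.single k 1 : ∀ k, Bk k) * Pi.single k 1 = Pi.single k 1
          rw [← Pi.single_mul, one_mul]
        · intro x y
          change x k = y k ↔ _
          constructor
          · intro hxy
            ext j
            by_cases hj : j = k
            · subst hj
              simp [hxy]
            · simp [Pi.single_eq_of_ne hj]
          · intro hxy
            have := congrFun hxy k
            simpa using this
        · intro b
          exact ⟨Pi.single k b, by change (Pi.single k b : ∀ k, Bk k) k = b; simp⟩
      haveI h2 : IsLocalization.Away (algebraMap (∀ k, Bk k) (Bk k) (Pi.single k gk))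
          (Localization.Away gk) := by
        have : algebraMap (∀ k, Bk k) (Bk k) (Pi.single k gk) = gk := by
          change (Pi.single k gk : ∀ k, Bk k) k = gk
          simp
        rw [this]
        infer_instance
      have h3 := IsLocalization.Away.mul' (Bk k) (Localization.Away gk)
        (Pi.single k 1 : ∀ k, Bk k) (Pi.single k gk)
      rwa [← Pi.single_mul, one_mul] at h3
    refine C.exists_list_away_of_isLocalization J (Pi.single k gk) (Localization.Away gk) ρ hloc l
      hl ?_
    rw [hρ, ← Ideal.map_map, hspan]

end Pi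

section Family

variable {A : Type u} [CommRing A] {n : ℕ} (Bk : Fin n → Type u) [∀ k, CommRing (Bk k)]

open Groth.Agent.LibKoszulFFDescentPi29 in
/-- **Descent of ideals locally of class `C` along a finite jointly surjective family of flat
ring maps.** -/
theorem isLocally_of_faithfullyFlat_family (ρ : ∀ k, A →+* Bk k)
    (hflat : ∀ k, (ρ k).Flat)
    (hsurj : ∀ 𝔭 : PrimeSpectrum A, ∃ k, 𝔭 ∈ Set.range (PrimeSpectrum.comap (ρ k)))
    (I : Ideal A) (h : ∀ k, C.IsLocally (I.map (ρ k))) :
    C.IsLocally I := by
  apply C.isLocally_of_faithfullyFlat_ringHom (RingHom.pi ρ)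
    (faithfullyFlat_pi_ringHom Bk ρ hflat hsurj) I
  apply C.isLocally_pi
  intro k
  rw [Ideal.map_map]
  exact h k

end Family

end Groth.Agent.LibSeqClass29.SeqClass
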