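import Mathlib
import Groth.Prelude.Def_LCI2
import Groth.Prelude.Def_RegImm
import Groth.Agent.LibSeqClassKind29
import Groth.Agent.LibLCIBridge29
import Groth.Agent.LibRegImmFpqc29

/-!
# Regular immersions of kind `k ≠ regular` versus ideals locally of class `kindClass k`;
fpqc descent of regular immersions of the kinds Koszul, `H_1`, quasi (helper29)
-/

set_option autoImplicit false
universe u

open AlgebraicGeometry CategoryTheory CategoryTheory.Limits

namespace Groth.Agent.LibRegImmKindFpqc29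

open Groth.Agent.LibSeqClass29 Groth.Agent.LibSeqClassKind29 Groth.Agent.LibRegImmComp29
  Groth.Agent.LibRegImmSmoothDesc29 Groth.Agent.LibLCIBridge29

variable {X V : Scheme.{u}} (k : RegImm.Kind) (hk : k ≠ RegImm.Kind.regular)

/-- from a kernel locally of class `k` to a regular immersion of kind `k` at a point. -/
theorem isRegularImmersionAt_of_isLocally (i : X ⟶ V) (x : X) (U : V.Opens)
    (hU : IsAffineOpen U) [IsClosedImmersion (i ∣_ U)] (hx : i x ∈ U)
    (h : (kindClass k hk).IsLocally (RingHom.ker (i.app U).hom)) :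
    RegImm.IsRegularImmersionAt k i x := by
  have hle : RingHom.ker (i.app U).hom ≤ (hU.primeIdealOf ⟨i x, hx⟩).asIdeal := by
    intro a ha
    rw [Groth.Agent.Lib.helper4.LocImm.mem_primeIdealOf_iff hU (i x) hx a]
    intro hmem
    have h1 : x ∈ i ⁻¹ᵁ (V.basicOpen a) := hmem
    rw [Scheme.preimage_basicOpen, (RingHom.mem_ker.1 ha : (i.app U).hom a = 0),
      Scheme.basicOpen_zero] at h1
    exact h1
  obtain ⟨a, ha, l, hl, hI⟩ := h (hU.primeIdealOf ⟨i x, hx⟩) hle
  have hxa : i x ∈ V.basicOpen a := by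
    by_contra hcon
    exact ha ((Groth.Agent.Lib.helper4.LocImm.mem_primeIdealOf_iff hU (i x) hx a).2 hcon)
  have hW : IsAffineOpen (V.basicOpen a) := hU.basicOpen a
  have hWU : V.basicOpen a ≤ U := V.basicOpen_le a
  obtain ⟨hclW, hkerW⟩ := restrict_of_le i U hU (V.basicOpen a) hW hWU
  have hloc := hU.isLocalization_of_eq_basicOpen a (homOfLE hWU) rfl
  obtain ⟨l', hl', hIl'⟩ := (kindClass k hk).exists_list_of_away _ a l hl hI Γ(V, V.basicOpen a)
    (V.presheaf.map (homOfLE hWU).op).hom hloc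
  exact ⟨⟨V.basicOpen a, hW⟩, hxa, hclW, l', (kindClass_P k hk _ l').1 hl', hkerW.trans hIl'⟩

/-- **scheme ⇒ ring**: if `i` restricts to a closed immersion over the affine open `U` and is a
regular immersion of kind `k` at all points over `U`, the kernel of `i.app U` is locally of class
`k`. -/
theorem isLocally_ker_of_isRegularImmersionAt (i : X ⟶ V) (U : V.Opens)
    (hU : IsAffineOpen U) [IsClosedImmersion (i ∣_ U)]
    (h : ∀ x : X, i x ∈ U → RegImm.IsRegularImmersionAt k i x) :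
    (kindClass k hk).IsLocally (RingHom.ker (i.app U).hom) := by
  intro 𝔭 h𝔭
  obtain ⟨x, hx⟩ := exists_preimage_of_ker_le i U hU 𝔭 h𝔭
  have hxU : i x ∈ U := by
    rw [hx]
    have : hU.fromSpec 𝔭 ∈ Set.range hU.fromSpec := ⟨𝔭, rfl⟩
    rwa [hU.range_fromSpec] at this
  obtain ⟨W, hxW, hclW, rs, hrs, hker⟩ := h x hxU
  obtain ⟨a, haW, hxa⟩ := hU.exists_basicOpen_le (V := W.1) ⟨i x, hxW⟩ hxU
  have ha𝔭 : a ∉ 𝔭.asIdeal := by
    have h1 : 𝔭 ∈ hU.fromSpec ⁻¹ᵁ V.basicOpen a := by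
      change hU.fromSpec 𝔭 ∈ V.basicOpen a
      rw [← hx]
      exact hxa
    rw [hU.fromSpec_preimage_basicOpen] at h1
    exact h1
  refine ⟨a, ha𝔭, ?_⟩
  have hD : IsAffineOpen (V.basicOpen a) := hU.basicOpen a
  have hDU : V.basicOpen a ≤ U := V.basicOpen_le a
  obtain ⟨hclD, hkerDU⟩ := restrict_of_le i U hU (V.basicOpen a) hD hDU
  haveI := hclW
  obtain ⟨-, hkerDW⟩ := restrict_of_le i W.1 W.2 (V.basicOpen a) hD haW
  have hloc := hU.isLocalization_of_eq_basicOpen a (homOfLE hDU) rfl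
  letI := (V.presheaf.map (homOfLE hDU).op).hom.toAlgebra
  let e : Γ(V, V.basicOpen a) ≃ₐ[Γ(V, U)] Localization.Away a :=
    IsLocalization.algEquiv (Submonoid.powers a) _ _
  have he : (e : Γ(V, V.basicOpen a) →+* Localization.Away a).comp
      (V.presheaf.map (homOfLE hDU).op).hom = algebraMap Γ(V, U) (Localization.Away a) := by
    ext y
    exact e.commutes y
  refine ⟨(rs.map (V.presheaf.map (homOfLE haW).op).hom).map
    (e : Γ(V, V.basicOpen a) →+* Localization.Away a), ?_, ?_⟩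
  · apply (kindClass k hk).map_flat _ (RingHom.Flat.of_bijective e.bijective)
    exact (kindClass k hk).map_flat _ (flat_restrict W.1 (V.basicOpen a) W.2 hD haW) rs
      ((kindClass_P k hk _ rs).2 hrs)
  · rw [← he, ← Ideal.map_map, ← hkerDU, hkerDW, hker, Ideal.map_ofList, Ideal.map_ofList]

include hk in
/-- **fpqc descent of regular immersions of kind `k ≠ regular`.** -/
theorem isRegularImmersion_of_fpqc {X Y X' Y' : Scheme.{u}} (i : Y ⟶ X) [IsImmersion i]
    (g : X' ⟶ X) [Flat g] [Surjective g] [QuasiCompact g]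
    (i' : Y' ⟶ X') (g' : Y' ⟶ Y) (hsq : IsPullback g' i' i g)
    (hi' : RegImm.IsRegularImmersion k i') : RegImm.IsRegularImmersion k i := by
  refine ⟨inferInstance, fun y => ?_⟩
  obtain ⟨O, hyO, hO⟩ := exists_forall_isClosedImmersion_restrict i y
  obtain ⟨U, hU, hyU, hUO⟩ :=
    TopologicalSpace.Opens.isBasis_iff_nbhd.mp X.isBasis_affineOpens hyO
  haveI : IsClosedImmersion (i ∣_ U) := hO U hUO
  apply isRegularImmersionAt_of_isLocally k hk i y U hU hyU
  have hcpt : IsCompact ((g ⁻¹ᵁ U : X'.Opens) : Set X') :=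
    QuasiCompact.isCompact_preimage _ U.isOpen hU.isCompact
  obtain ⟨s, hs, hsU⟩ := isCompact_iff_finite_and_eq_biUnion_affineOpens.mp hcpt
  haveI : Finite s := hs.to_subtype
  let eq := Finite.equivFin s
  let f : Fin (Nat.card s) → X'.affineOpens := fun j => (eq.symm j).1
  have hfle : ∀ j, (f j).1 ≤ g ⁻¹ᵁ U := fun j => by
    rw [hsU]
    exact le_iSup₂ (f := fun (V : X'.affineOpens) (_ : V ∈ s) => (V : X'.Opens))
      (eq.symm j).1 (eq.symm j).2
  have hcover : ∀ x' : X', g x' ∈ U → ∃ j, x' ∈ (f j).1 := by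
    intro x' hx'
    have h1 : x' ∈ g ⁻¹ᵁ U := hx'
    rw [hsU] at h1
    simp only [TopologicalSpace.Opens.mem_iSup] at h1
    obtain ⟨V, hV, hxV⟩ := h1
    refine ⟨eq ⟨V, hV⟩, ?_⟩
    change x' ∈ ((eq.symm (eq ⟨V, hV⟩)).1 : X'.Opens)
    rw [Equiv.symm_apply_apply]
    exact hxV
  apply (kindClass k hk).isLocally_of_faithfullyFlat_family (fun j => Γ(X', (f j).1))
    (fun j => (g.appLE U (f j).1 (hfle j)).hom)
  · intro j
    exact Scheme.Hom.flat_appLE g hU (f j).2 (hfle j)
  · intro 𝔭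
    obtain ⟨x', hx'⟩ := g.surjective (hU.fromSpec 𝔭)
    have hx'U : g x' ∈ U := by
      rw [hx']
      have : hU.fromSpec 𝔭 ∈ Set.range hU.fromSpec := ⟨𝔭, rfl⟩
      rwa [hU.range_fromSpec] at this
    obtain ⟨j, hj⟩ := hcover x' hx'U
    refine ⟨j, (f j).2.primeIdealOf ⟨x', hj⟩, ?_⟩
    have h1 := IsAffineOpen.SpecMap_appLE_fromSpec g hU (f j).2 (hfle j)
    have h2 : hU.fromSpec (Spec.map (g.appLE U (f j).1 (hfle j))
        ((f j).2.primeIdealOf ⟨x', hj⟩)) = hU.fromSpec 𝔭 := by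
      rw [← Scheme.Hom.comp_apply, h1, Scheme.Hom.comp_apply, (f j).2.fromSpec_primeIdealOf,
        hx']
    exact hU.fromSpec.isOpenEmbedding.injective h2
  · intro j
    obtain ⟨hcl, hker⟩ := restrict_of_isPullback i g i' g' hsq U hU (f j).1 (f j).2 (hfle j)
    rw [← hker]
    haveI := hcl
    exact isLocally_ker_of_isRegularImmersionAt k hk i' (f j).1 (f j).2
      (fun x _ => hi'.2 x)

end Groth.Agent.LibRegImmKindFpqc29
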