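import Mathlib
import Groth.Agent.LibRegImmKindFpqc29

/-!
# fppf descent (more generally: descent along flat surjective open maps) of regular immersions of
the kinds Koszul, `H_1`, quasi (helper29)
-/

set_option autoImplicit false
universe u

open AlgebraicGeometry CategoryTheory CategoryTheory.Limits

namespace Groth.Agent.LibRegImmKindFppf29

open Groth.Agent.LibSeqClass29 Groth.Agent.LibSeqClassKind29 Groth.Agent.LibRegImmComp29
  Groth.Agent.LibRegImmSmoothDesc29 Groth.Agent.LibLCIBridge29 Groth.Agent.LibRegImmKindFpqc29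

/-- for an open surjective map `g` and a quasi-compact open `U` of the target, finitely many affine
opens of `g ⁻¹ U` have images covering `U`. -/
theorem exists_finite_affine_cover_of_isOpenMap {X' X : Scheme.{u}} (g : X' ⟶ X)
    (hg : IsOpenMap g) [Surjective g] (U : X.Opens) (hU : IsCompact (U : Set X)) :
    ∃ (n : ℕ) (f : Fin n → X'.affineOpens), (∀ j, (f j).1 ≤ g ⁻¹ᵁ U) ∧
      ∀ x ∈ U, ∃ j, ∃ x' ∈ (f j).1, g x' = x := by
  let ι := {V : X'.affineOpens // V.1 ≤ g ⁻¹ᵁ U}
  obtain ⟨t, ht⟩ := hU.elim_finite_subcover (fun V : ι => g '' (V.1.1 : Set X'))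
    (fun V => hg _ V.1.1.isOpen) (by
      intro x hx
      obtain ⟨x', rfl⟩ := g.surjective x
      have hx' : x' ∈ g ⁻¹ᵁ U := hx
      obtain ⟨V, hV, hxV, hVU⟩ :=
        TopologicalSpace.Opens.isBasis_iff_nbhd.mp X'.isBasis_affineOpens hx'
      exact Set.mem_iUnion.2 ⟨⟨⟨V, hV⟩, hVU⟩, x', hxV, rfl⟩)
  refine ⟨t.card, fun j => (t.equivFin.symm j).1.1, fun j => (t.equivFin.symm j).1.2, ?_⟩
  intro x hx
  have := ht hx
  simp only [Set.mem_iUnion] at this
  obtain ⟨V, hVt, x', hx'V, rfl⟩ := this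
  refine ⟨t.equivFin ⟨V, hVt⟩, x', ?_, rfl⟩
  change x' ∈ ((t.equivFin.symm (t.equivFin ⟨V, hVt⟩)).1.1 : X'.Opens)
  rw [Equiv.symm_apply_apply]
  exact hx'V

variable (k : RegImm.Kind) (hk : k ≠ RegImm.Kind.regular)

include hk in
/-- descent of regular immersions of kind `k` along flat, surjective, open morphisms. -/
theorem isRegularImmersion_of_flat_open {X Y X' Y' : Scheme.{u}} (i : Y ⟶ X) [IsImmersion i]
    (g : X' ⟶ X) [Flat g] [Surjective g] (hgo : IsOpenMap g)
    (i' : Y' ⟶ X') (g' : Y' ⟶ Y) (hsq : IsPullback g' i' i g)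
    (hi' : RegImm.IsRegularImmersion k i') : RegImm.IsRegularImmersion k i := by
  refine ⟨inferInstance, fun y => ?_⟩
  obtain ⟨O, hyO, hO⟩ := exists_forall_isClosedImmersion_restrict i y
  obtain ⟨U, hU, hyU, hUO⟩ :=
    TopologicalSpace.Opens.isBasis_iff_nbhd.mp X.isBasis_affineOpens hyO
  haveI : IsClosedImmersion (i ∣_ U) := hO U hUO
  apply isRegularImmersionAt_of_isLocally k hk i y U hU hyU
  obtain ⟨n, f, hfle, hcover⟩ := exists_finite_affine_cover_of_isOpenMap g hgo U hU.isCompact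
  apply (kindClass k hk).isLocally_of_faithfullyFlat_family (fun j => Γ(X', (f j).1))
    (fun j => (g.appLE U (f j).1 (hfle j)).hom)
  · intro j
    exact Scheme.Hom.flat_appLE g hU (f j).2 (hfle j)
  · intro 𝔭
    have hxU : hU.fromSpec 𝔭 ∈ U := by
      have : hU.fromSpec 𝔭 ∈ Set.range hU.fromSpec := ⟨𝔭, rfl⟩
      rwa [hU.range_fromSpec] at this
    obtain ⟨j, x', hj, hx'⟩ := hcover _ hxU
    refine ⟨j, (f j).2.primeIdealOf ⟨x', hj⟩, ?_⟩
    have h1 := IsAffineOpen.SpecMap_appLE_fromSpec g hU (f j).2 (hfle j)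
    have h2 : hU.fromSpec (Spec.map (g.appLE U (f j).1 (hfle j))
        ((f j).2.primeIdealOf ⟨x', hj⟩)) = hU.fromSpec 𝔭 := by
      rw [← Scheme.Hom.comp_apply, h1, Scheme.Hom.comp_apply, (f j).2.fromSpec_primeIdealOf,
        hx']
    exact hU.fromSpec.isOpenEmbedding.injective h2
  · intro j
    obtain ⟨hcl, hker⟩ := restrict_of_isPullback i g i' g' hsq U hU (f j).1 (f j).2 (hfle j)
    rw [← hker]
    haveI := hcl
    exact isLocally_ker_of_isRegularImmersionAt k hk i' (f j).1 (f j).2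
      (fun x _ => hi'.2 x)

include hk in
/-- fppf descent of regular immersions of kind `k`. -/
theorem isRegularImmersion_of_fppf {X Y X' Y' : Scheme.{u}} (i : Y ⟶ X) [IsImmersion i]
    (g : X' ⟶ X) [Flat g] [Surjective g] [LocallyOfFinitePresentation g]
    (i' : Y' ⟶ X') (g' : Y' ⟶ Y) (hsq : IsPullback g' i' i g)
    (hi' : RegImm.IsRegularImmersion k i') : RegImm.IsRegularImmersion k i :=
  isRegularImmersion_of_flat_open k hk i g g.isOpenMap i' g' hsq hi'

end Groth.Agent.LibRegImmKindFppf29
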