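import Mathlib
import Groth.Prelude.Def_LCI2
import Groth.Prelude.Def_CAlgX
import Groth.Agent.LibSeqClassKind29
import Groth.Agent.LibLciSrcCore29

/-!
# Two further permanence properties of sequence classes: retracts and descent along flat maps
with a retraction modulo the ideal (helper29)

* `SeqClass.Retract C`: if `s : A → R` has a retraction `π` killing `l'` and `l.map s ++ l'` is of
  class `C` in `R`, then `l` is of class `C` in `A`.
* `SeqClass.Desc C`: the local-descent step of `LibKoszulDescent29.exists_koszul_descent`.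
Both are proved for `quasiClass` and `h1Class`.
-/

set_option autoImplicit false
universe u

namespace Groth.Agent.LibSeqClassDesc29

open Groth.Agent.LibSeqClass29 Groth.Agent.LibQuasiSeq29 Groth.Agent.LibH1Seq29
  Groth.Agent.LibKoszulDescent29 Groth.Agent.LibKoszulFFDescent29

/-- retract property of a sequence class. -/
def Retract (C : SeqClass.{u}) : Prop :=
  ∀ {A R : Type u} [CommRing A] [CommRing R] (s : A →+* R) (π : R →+* A), (∀ a, π (s a) = a) →
    ∀ (l : List A) (l' : List R), (∀ x ∈ l', π x = 0) → C.P R (l.map s ++ l') → C.P A l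

/-- descent along a flat map with a retraction modulo the ideal. -/
def Desc (C : SeqClass.{u}) : Prop :=
  ∀ {P Cd : Type u} [CommRing P] [CommRing Cd] (χ : P →+* Cd), χ.Flat →
    ∀ (I : Ideal P) (ε : Cd →+* P ⧸ I), (∀ p, ε (χ p) = Ideal.Quotient.mk I p) →
    ∀ (F : List P), (∀ f ∈ F, f ∈ I) → I.map χ = Ideal.ofList (F.map χ) →
    ∀ p : P, p - 1 ∈ I → (∀ x ∈ I, p * x ∈ Ideal.ofList F) → C.P Cd (F.map χ) →
      C.P (Localization.Away p) (F.map (algebraMap P (Localization.Away p)))

section AppendIdx

variable {A R : Type u} [CommRing A] [CommRing R] (s : A →+* R) (l : List A) (l' : List R)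

theorem lt_length_append (i : Fin l.length) : i.1 < (l.map s ++ l').length := by
  rw [List.length_append, List.length_map]
  exact Nat.lt_add_right _ i.2

/-- the inclusion of the indices of `l` into those of `l.map s ++ l'`. -/
def ι (i : Fin l.length) : Fin (l.map s ++ l').length := ⟨i.1, lt_length_append s l l' i⟩

theorem ι_injective : Function.Injective (ι s l l') := by
  intro i j h
  have h1 : (ι s l l' i).1 = (ι s l l' j).1 := congrArg Fin.val h
  exact Fin.ext h1

theorem get_ι (i : Fin l.length) : (l.map s ++ l').get (ι s l l' i) = s (l.get i) := by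
  simp [ι, List.getElem_append_left]

theorem get_mem_of_not_lt (k : Fin (l.map s ++ l').length) (hk : ¬ k.1 < l.length) :
    (l.map s ++ l').get k ∈ l' := by
  have h1 : (l.map s).length ≤ k.1 := by
    rw [List.length_map]
    omega
  rw [List.get_eq_getElem, List.getElem_append_right h1]
  exact List.getElem_mem _

theorem sum_eq_sum_ι {M : Type*} [AddCommMonoid M] (g : Fin (l.map s ++ l').length → M)
    (hg : ∀ k, ¬ k.1 < l.length → g k = 0) : ∑ k, g k = ∑ i, g (ι s l l' i) := by
  classical
  rw [← Finset.sum_image (f := g) (s := Finset.univ) (g := ι s l l')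
    (fun i _ j _ h => ι_injective s l l' h)]
  symm
  apply Finset.sum_subset (Finset.subset_univ _)
  intro k _ hk
  apply hg
  intro hlt
  apply hk
  rw [Finset.mem_image]
  exact ⟨⟨k.1, hlt⟩, Finset.mem_univ _, rfl⟩

end AppendIdx

section QuasiRetract

open MvPolynomial

theorem quasi_retract : Retract quasiClass.{u} := by
  intro A R _ _ s π hπ l l' hl' h
  change CAlgX.IsQuasiRegular l.get
  have h' : CAlgX.IsQuasiRegular (l.map s ++ l').get := h
  intro n G hG hmem d
  set L := l.map s ++ l' with hL
  set J := Ideal.span (Set.range l.get) with hJ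
  set J' := Ideal.span (Set.range L.get) with hJ'
  have hsJ : J.map s ≤ J' := by
    rw [hJ, Ideal.map_span, Ideal.span_le]
    rintro _ ⟨_, ⟨i, rfl⟩, rfl⟩
    exact Ideal.subset_span ⟨ι s l l' i, get_ι s l l' i⟩
  have hπJ : J'.map π ≤ J := by
    rw [hJ', Ideal.map_span, Ideal.span_le]
    rintro _ ⟨_, ⟨k, rfl⟩, rfl⟩
    by_cases hk : k.1 < l.length
    · have : L.get k = s (l.get ⟨k.1, hk⟩) := get_ι s l l' ⟨k.1, hk⟩
      rw [this, hπ]
      exact Ideal.subset_span ⟨_, rfl⟩
    · rw [hl' _ (get_mem_of_not_lt s l l' k hk)]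
      exact Ideal.zero_mem _
  set G' : MvPolynomial (Fin L.length) R := rename (ι s l l') (map s G) with hG'
  have hG'hom : G'.IsHomogeneous n := (hG.map s).rename_isHomogeneous
  have heval : eval L.get G' = s (eval l.get G) := by
    rw [hG', eval_rename, eval_map]
    have h1 : L.get ∘ ι s l l' = s ∘ l.get := funext fun i => get_ι s l l' i
    rw [h1]
    have := eval₂_comp_left s (RingHom.id A) l.get G
    rw [RingHom.comp_id] at this
    rw [← this]
    rfl
  have hmem' : eval L.get G' ∈ J' ^ (n + 1) := by
    rw [heval]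
    have h1 : s (eval l.get G) ∈ (J ^ (n + 1)).map s := Ideal.mem_map_of_mem _ hmem
    rw [Ideal.map_pow] at h1
    exact Ideal.pow_right_mono hsJ _ h1
  have h2 := h' n G' hG'hom hmem' (d.mapDomain (ι s l l'))
  rw [hG', coeff_rename_mapDomain _ (ι_injective s l l'), coeff_map] at h2
  have h3 := hπJ (Ideal.mem_map_of_mem π h2)
  rwa [hπ] at h3

end QuasiRetract

section H1Retract

theorem h1_retract : Retract h1Class.{u} := by
  classical
  intro A R _ _ s π hπ l l' hl' h
  change CAlgX.IsH1Regular l.get
  have h' : CAlgX.IsH1Regular (l.map s ++ l').get := h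
  intro a ha
  set L := l.map s ++ l' with hL
  let a' : Fin L.length → R := fun k => if hk : k.1 < l.length then s (a ⟨k.1, hk⟩) else 0
  have ha'ι : ∀ i, a' (ι s l l' i) = s (a i) := by
    intro i
    have h1 : (ι s l l' i).1 < l.length := i.2
    change (if hk : (ι s l l' i).1 < l.length then s (a ⟨(ι s l l' i).1, hk⟩) else 0) = _
    rw [dif_pos h1]
    rfl
  have ha'0 : ∀ k : Fin L.length, ¬ k.1 < l.length → a' k = 0 := by
    intro k hk
    change (if hk : k.1 < l.length then s (a ⟨k.1, hk⟩) else 0) = 0
    rw [dif_neg hk]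
  have hsum : ∑ k, a' k * L.get k = 0 := by
    rw [sum_eq_sum_ι s l l' (fun k => a' k * L.get k)
      (fun k hk => by rw [ha'0 k hk, zero_mul])]
    have h1 : ∀ i, a' (ι s l l' i) * L.get (ι s l l' i) = s (a i * l.get i) := by
      intro i
      have h2 : L.get (ι s l l' i) = s (l.get i) := get_ι s l l' i
      rw [ha'ι, h2, map_mul]
    simp_rw [h1]
    rw [← map_sum, ha, map_zero]
  have hmem := h' a' hsum
  -- the semilinear map `Ψ`
  let Ψ : (Fin L.length → R) → (Fin l.length → A) := fun v i => π (v (ι s l l' i))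
  have hΨa : Ψ a' = a := by
    funext i
    change π (a' (ι s l l' i)) = a i
    rw [ha'ι, hπ]
  have hΨsingle : ∀ (p : Fin L.length) (x : R), Ψ (Pi.single p x) =
      if hp : p.1 < l.length then Pi.single ⟨p.1, hp⟩ (π x) else 0 := by
    intro p x
    funext i
    change π ((Pi.single p x : Fin L.length → R) (ι s l l' i)) = _
    by_cases hp : p.1 < l.length
    · rw [dif_pos hp]
      by_cases hi : i = ⟨p.1, hp⟩
      · subst hi
        have : ι s l l' ⟨p.1, hp⟩ = p := Fin.ext rfl
        rw [this, Pi.single_eq_same, Pi.single_eq_same]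
      · have hne : ι s l l' i ≠ p := by
          intro heq
          apply hi
          have h1 : (ι s l l' i).1 = p.1 := congrArg Fin.val heq
          exact Fin.ext h1
        rw [Pi.single_eq_of_ne hne, Pi.single_eq_of_ne hi, map_zero]
    · rw [dif_neg hp]
      have hne : ι s l l' i ≠ p := by
        intro heq
        apply hp
        rw [← heq]
        exact i.2
      rw [Pi.single_eq_of_ne hne, map_zero]
      rfl
  have hπL : ∀ k : Fin L.length, π (L.get k) =
      if hk : k.1 < l.length then l.get ⟨k.1, hk⟩ else 0 := by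
    intro k
    by_cases hk : k.1 < l.length
    · rw [dif_pos hk]
      have : L.get k = s (l.get ⟨k.1, hk⟩) := get_ι s l l' ⟨k.1, hk⟩
      rw [this, hπ]
    · rw [dif_neg hk]
      exact hl' _ (get_mem_of_not_lt s l l' k hk)
  have hΨadd : ∀ v w, Ψ (v + w) = Ψ v + Ψ w := by
    intro v w
    funext i
    change π ((v + w) (ι s l l' i)) = _
    rw [Pi.add_apply, map_add]
    rfl
  have hΨsub : ∀ v w, Ψ (v - w) = Ψ v - Ψ w := by
    intro v w
    funext i
    change π ((v - w) (ι s l l' i)) = _
    rw [Pi.sub_apply, map_sub]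
    rfl
  have hΨsmul : ∀ (r : R) v, Ψ (r • v) = π r • Ψ v := by
    intro r v
    funext i
    change π ((r • v) (ι s l l' i)) = _
    rw [Pi.smul_apply, smul_eq_mul, map_mul]
    rfl
  have hΨzero : Ψ 0 = 0 := by
    funext i
    change π ((0 : Fin L.length → R) (ι s l l' i)) = 0
    rw [Pi.zero_apply, map_zero]
  set T := Submodule.span A
    {v : Fin l.length → A | ∃ i j : Fin l.length,
      v = Pi.single i (l.get j) - Pi.single j (l.get i)} with hT
  have key : ∀ v ∈ Submodule.span R {v : Fin L.length → R | ∃ i j : Fin L.length,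
      v = Pi.single i (L.get j) - Pi.single j (L.get i)}, Ψ v ∈ T := by
    intro v hv
    induction hv using Submodule.span_induction with
    | mem v hv =>
      obtain ⟨p, q, rfl⟩ := hv
      rw [hΨsub, hΨsingle, hΨsingle, hπL, hπL]
      by_cases hp : p.1 < l.length <;> by_cases hq : q.1 < l.length
      · rw [dif_pos hp, dif_pos hq, dif_pos hp, dif_pos hq]
        exact Submodule.subset_span ⟨⟨p.1, hp⟩, ⟨q.1, hq⟩, rfl⟩
      · rw [dif_pos hp, dif_neg hq, dif_neg hq, Pi.single_zero, sub_zero]
        exact Submodule.zero_mem _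
      · rw [dif_neg hp, dif_pos hq, dif_neg hp, Pi.single_zero, sub_zero]
        exact Submodule.zero_mem _
      · rw [dif_neg hp, dif_neg hq, sub_zero]
        exact Submodule.zero_mem _
    | zero =>
      rw [hΨzero]
      exact Submodule.zero_mem _
    | add v w _ _ hv hw =>
      rw [hΨadd]
      exact Submodule.add_mem _ hv hw
    | smul r v _ hv =>
      rw [hΨsmul]
      exact Submodule.smul_mem _ _ hv
  have := key a' hmem
  rwa [hΨa] at this

end H1Retract

section QuasiDesc

variable {R R' : Type u} [CommRing R] [CommRing R']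

/-- quasi-regularity descends along a ring map for which the ideal is contracted. -/
theorem isQuasiRegular_of_comap_le (φ : R →+* R') {c : ℕ} (f : Fin c → R)
    (h : CAlgX.IsQuasiRegular (φ ∘ f))
    (hc : ((Ideal.span (Set.range f)).map φ).comap φ ≤ Ideal.span (Set.range f)) :
    CAlgX.IsQuasiRegular f := by
  intro n P hP hmem d
  exact hc (coeff_mem_map_of_isQuasiRegular_comp φ f h n P hP hmem d)

theorem quasi_desc : Desc quasiClass.{u} := by
  intro P Cd _ _ χ hχ I ε hε F hFI hIχ p hp1 hp hreg
  change CAlgX.IsQuasiRegular (F.map (algebraMap P (Localization.Away p))).get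
  rw [isQuasiRegular_get_map_iff]
  have hreg' : CAlgX.IsQuasiRegular (χ ∘ F.get) := (isQuasiRegular_get_map_iff χ F).1 hreg
  set Pp := Localization.Away p with hPp
  set C' := Localization.Away (χ p) with hC'
  set φ' : Pp →+* C' := IsLocalization.Away.map Pp C' χ p with hφ'
  have hcomm : φ'.comp (algebraMap P Pp) = (algebraMap Cd C').comp χ := awayMap_comp χ p
  have hεp : ε (χ p) = 1 := by
    rw [hε, ← map_one (Ideal.Quotient.mk I)]
    exact Ideal.Quotient.eq.2 hp1
  have hu : IsUnit (ε (χ p)) := by
    rw [hεp]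
    exact isUnit_one
  let ε' : C' →+* P ⧸ I := IsLocalization.Away.lift (χ p) (g := ε) hu
  have hε' : ∀ c, ε' (algebraMap Cd C' c) = ε c := fun c => IsLocalization.Away.lift_eq _ hu c
  have hflatC : (algebraMap Cd C').Flat := RingHom.flat_algebraMap_iff.2 inferInstance
  have hpu : IsUnit (algebraMap P Pp p) := IsLocalization.Away.algebraMap_isUnit p
  -- the ideal generated by the sequence in `P_p`
  have hJ : Ideal.span (Set.range (algebraMap P Pp ∘ F.get)) = I.map (algebraMap P Pp) := by
    rw [Set.range_comp, ← Ideal.map_span, Set.range_list_get]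
    symm
    exact map_eq_map_of_pow_mul_mem (algebraMap P Pp) p hpu I (Ideal.ofList F)
      (by rw [Ideal.ofList, Ideal.span_le]; exact fun f hf => hFI f hf)
      (fun x hx => ⟨1, by rw [pow_one]; exact hp x hx⟩)
  apply isQuasiRegular_of_comap_le φ'
  · have h1 : φ' ∘ (algebraMap P Pp ∘ F.get) = algebraMap Cd C' ∘ (χ ∘ F.get) := by
      funext i
      exact congr($hcomm (F.get i))
    rw [h1]
    exact Groth.Agent.LibSeqFlat29.isQuasiRegular_map_of_flat _ hflatC _ hreg'
  · rw [hJ]
    intro x hx
    rw [Ideal.mem_comap, Ideal.map_map, hcomm] at hx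
    have hkill : ∀ y ∈ I.map ((algebraMap Cd C').comp χ), ε' y = 0 := by
      intro y hy
      have hle : I.map ((algebraMap Cd C').comp χ) ≤ RingHom.ker ε' := by
        rw [Ideal.map_le_iff_le_comap]
        intro a ha
        rw [Ideal.mem_comap, RingHom.mem_ker, RingHom.comp_apply, hε', hε]
        exact Ideal.Quotient.eq_zero_iff_mem.2 ha
      exact hle hy
    obtain ⟨k, a, hka⟩ := IsLocalization.Away.surj p x
    have h2 : ε' (φ' (algebraMap P Pp a)) = Ideal.Quotient.mk I a := by
      have : φ' (algebraMap P Pp a) = algebraMap Cd C' (χ a) := congr($hcomm a)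
      rw [this, hε', hε]
    have h3 : ε' (φ' (algebraMap P Pp a)) = 0 := by
      rw [← hka, map_mul, map_mul, hkill _ hx, zero_mul]
    have haI : a ∈ I := Ideal.Quotient.eq_zero_iff_mem.1 (h2.symm.trans h3)
    have h4 : x * algebraMap P Pp p ^ k ∈ I.map (algebraMap P Pp) := by
      rw [hka]
      exact Ideal.mem_map_of_mem _ haI
    rwa [mul_comm, Ideal.unit_mul_mem_iff_mem _ (hpu.pow k)] at h4

end QuasiDesc

section H1Desc

open Groth.Agent.LibH1Bridge29 Groth.Agent.LibKoszulDeg29 Groth.Agent.LibKoszulIndep29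

theorem h1_desc : Desc h1Class.{u} := by
  intro P Cd _ _ χ hχ I ε hε F hFI hIχ p hp1 hp hreg
  change CAlgX.IsH1Regular (F.map (algebraMap P (Localization.Away p))).get
  rw [isH1Regular_iff_isZero_homology]
  have hreg' : CategoryTheory.Limits.IsZero ((Koszul.koszul Cd (F.map χ)).homology (-1)) :=
    (isH1Regular_iff_isZero_homology _).1 hreg
  set ρ := algebraMap P (Localization.Away p) with hρdef
  have hρ : ρ.Flat := RingHom.flat_algebraMap_iff.2 inferInstance
  have hρp : IsUnit (ρ p) := IsLocalization.Away.algebraMap_isUnit p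
  have hstep6 : ∀ m : (Koszul.koszul P F).homology (-1),
      m ∈ I • (⊤ : Submodule P ((Koszul.koszul P F).homology (-1))) := by
    intro m
    have h0 := one_tmul_eq_zero_of_isZero_homology_map χ hχ F (-1) hreg' m
    letI := χ.toAlgebra
    exact mem_smul_top_of_one_tmul_eq_zero I ε hε m h0
  have hmapI : I.map ρ = (Ideal.ofList F).map ρ :=
    map_eq_map_of_pow_mul_mem ρ p hρp I (Ideal.ofList F)
      (by rw [Ideal.ofList, Ideal.span_le]; exact fun f hf => hFI f hf)
      (fun x hx => ⟨1, by rw [pow_one]; exact hp x hx⟩)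
  have hsub : Subsingleton ((Koszul.koszul (Localization.Away p) (F.map ρ)).homology (-1)) := by
    refine subsingleton_homology_map_of_eq_smul ρ hρ F (-1) I hstep6 ?_
    intro a ha z
    refine smul_homology_eq_zero (F.map ρ) (ρ a) ?_ (-1) z
    rw [← Ideal.map_ofList, ← hmapI]
    exact Ideal.mem_map_of_mem _ ha
  exact ModuleCat.isZero_of_subsingleton _

end H1Desc

end Groth.Agent.LibSeqClassDesc29
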