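import Mathlib
import Groth.Prelude.Def_LCI2
import Groth.Agent.LibSeqClassDesc29
import Groth.Agent.LibKoszulSmoothDescent29

/-!
# Descent of ideals locally of class `C` along smooth ring maps with a section modulo the ideal
(helper29)

Generic versions (for a `SeqClass` with the `Retract` and `Desc` properties) of
`LibKoszulDescent29.exists_koszul_descent`, `LibKoszulSmoothDescent29.isKoszulRegularIdeal_of_descent`
and `isKoszulRegularIdeal_comap_of_etale_mvPolynomial`.
-/

set_option autoImplicit false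
universe u

namespace Groth.Agent.LibSeqClassSmooth29

open MvPolynomial
open Groth.Agent.LibSeqClass29 Groth.Agent.LibSeqClassDesc29 Groth.Agent.LibKoszulDescent29
  Groth.Agent.LibKoszulExchange29 Groth.Agent.LibKoszulSmoothDescent29
  Groth.Agent.LibLciSrcCore29

variable (𝒮 : SeqClass.{u})

section Away

variable {Q : Type u} [CommRing Q]

/-- a sequence of `Q` that is of class `C` in `Q[1/g]` is of class `C` in every flat
`Q`-algebra in which `g` is invertible. -/
theorem map_of_away (g : Q) (hs : List Q)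
    (h : 𝒮.P (Localization.Away g) (hs.map (algebraMap Q (Localization.Away g))))
    (R' : Type u) [CommRing R'] (ρ : Q →+* R') (hρ : ρ.Flat) (hu : IsUnit (ρ g)) :
    𝒮.P R' (hs.map ρ) := by
  have h1 := 𝒮.map_flat
    (IsLocalization.Away.lift (S := Localization.Away g) g hu) (flat_lift_away g ρ hρ hu) _ h
  rw [List.map_map] at h1
  have h2 : (⇑(IsLocalization.Away.lift (S := Localization.Away g) g hu) ∘
      ⇑(algebraMap Q (Localization.Away g))) = ρ := by
    funext x
    exact IsLocalization.Away.lift_eq g hu x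
  rwa [h2] at h1

end Away

section Descent

variable {P Cc : Type u} [CommRing P] [CommRing Cc]

/-- **Descent of generators of class `C` along a flat map with a retraction modulo `I`.** -/
theorem exists_descent (hD : Desc 𝒮) (φ : P →+* Cc) (hφ : φ.Flat) (I : Ideal P) (hfg : I.FG)
    (hsurj : ∀ c : Cc, ∃ p : P, c - φ p ∈ I.map φ)
    (hinj : (I.map φ).comap φ ≤ I)
    (hs : List Cc) (hreg : 𝒮.P Cc hs) (hgen : I.map φ = Ideal.ofList hs) :
    ∃ (p : P) (F : List P), p - 1 ∈ I ∧ F.length = hs.length ∧ (∀ f ∈ F, f ∈ I) ∧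
      (∀ x ∈ I, p * x ∈ Ideal.ofList F) ∧
      ∀ (R' : Type u) [CommRing R'] (ρ : P →+* R'), ρ.Flat → IsUnit (ρ p) →
        𝒮.P R' (F.map ρ) := by
  classical
  set K : Ideal Cc := I.map φ with hK
  have hlift : ∀ x : Cc, ∃ f : P, f ∈ I ∧ (x ∈ K → x - φ f ∈ K * K) := by
    intro x
    by_cases hx : x ∈ K
    · obtain ⟨f, hf, h⟩ := exists_sub_mem_mul_self φ I hsurj x hx
      exact ⟨f, hf, fun _ => h⟩
    · exact ⟨0, I.zero_mem, fun h => absurd h hx⟩
  choose Fn hFnI hFn using hlift
  let F : List P := hs.map Fn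
  have hFI : ∀ f ∈ F, f ∈ I := by
    intro f hf
    obtain ⟨h, -, rfl⟩ := List.mem_map.1 hf
    exact hFnI h
  have hhsK : ∀ h ∈ hs, h ∈ K := fun h hh => hgen ▸ Ideal.subset_span hh
  let G : List Cc := F.map φ
  have hGK : Ideal.ofList G ≤ K := by
    rw [Ideal.ofList, Ideal.span_le]
    intro g hg
    obtain ⟨f, hf, rfl⟩ := List.mem_map.1 hg
    exact Ideal.mem_map_of_mem _ (hFI f hf)
  have hKG : K ≤ Ideal.ofList G ⊔ K * K := by
    refine hgen.le.trans ?_
    rw [Ideal.ofList, Ideal.span_le]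
    intro h hh
    have h1 : h = φ (Fn h) + (h - φ (Fn h)) := by ring
    rw [h1]
    refine Ideal.add_mem _ (Ideal.mem_sup_left (Ideal.subset_span ?_))
      (Ideal.mem_sup_right (hFn h (hhsK h hh)))
    exact List.mem_map.2 ⟨Fn h, List.mem_map.2 ⟨h, hh, rfl⟩, rfl⟩
  have hKfg : K.FG := hfg.map φ
  obtain ⟨d, hd1, hd⟩ := exists_mul_mem_of_le_sup_mul K (Ideal.ofList G) hKfg hKG
  let Cd := Localization.Away d
  let ψ : Cc →+* Cd := algebraMap Cc Cd
  have hψ : ψ.Flat := RingHom.flat_algebraMap_iff.2 (IsLocalization.flat Cd (Submonoid.powers d))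
  let χ : P →+* Cd := ψ.comp φ
  have hχ : χ.Flat := hφ.comp hψ
  have hmapeq : K.map ψ = (Ideal.ofList G).map ψ :=
    map_eq_map_of_mul_mem (S := Cd) d K (Ideal.ofList G) hGK hd
  have hFχ : F.map χ = G.map ψ := by
    simp only [G, List.map_map]
    rfl
  have hregχ : 𝒮.P Cd (F.map χ) := by
    refine 𝒮.of_ofList_eq (hs.map ψ) (F.map χ) (𝒮.map_flat ψ hψ hs hreg) ?_ ?_
    · rw [hFχ, ← Ideal.map_ofList ψ G, ← Ideal.map_ofList ψ hs, ← hmapeq, hgen]
    · simp only [F, List.length_map]
  have hIχ : I.map χ = Ideal.ofList (F.map χ) := by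
    rw [hFχ, ← Ideal.map_ofList ψ G, ← hmapeq, hK, Ideal.map_map]
  have hIK : I ≤ K.comap φ := Ideal.le_comap_map
  let qm : P ⧸ I →+* Cc ⧸ K := Ideal.quotientMap K φ hIK
  have hqm : Function.Bijective qm := by
    refine ⟨Ideal.quotientMap_injective' hinj, fun y => ?_⟩
    obtain ⟨c, rfl⟩ := Ideal.Quotient.mk_surjective y
    obtain ⟨p, hp⟩ := hsurj c
    refine ⟨Ideal.Quotient.mk I p, ?_⟩
    rw [Ideal.quotientMap_mk]
    exact (Ideal.Quotient.eq.2 hp).symm
  let eqv : P ⧸ I ≃+* Cc ⧸ K := RingEquiv.ofBijective qm hqm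
  let ε₀ : Cc →+* P ⧸ I := (eqv.symm : Cc ⧸ K →+* P ⧸ I).comp (Ideal.Quotient.mk K)
  have hε₀φ : ∀ p, ε₀ (φ p) = Ideal.Quotient.mk I p := by
    intro p
    change eqv.symm (Ideal.Quotient.mk K (φ p)) = _
    rw [RingEquiv.symm_apply_eq]
    change _ = qm (Ideal.Quotient.mk I p)
    rw [Ideal.quotientMap_mk]
  have hε₀K : ∀ x ∈ K, ε₀ x = 0 := by
    intro x hx
    change eqv.symm (Ideal.Quotient.mk K x) = 0
    rw [Ideal.Quotient.eq_zero_iff_mem.2 hx, map_zero]
  have hε₀d : ε₀ d = 1 := by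
    have h1 : d = 1 + (d - 1) := by ring
    rw [h1, map_add, map_one, hε₀K _ hd1, add_zero]
  let ε : Cd →+* P ⧸ I := IsLocalization.Away.lift d (g := ε₀) (by rw [hε₀d]; exact isUnit_one)
  have hε : ∀ p, ε (χ p) = Ideal.Quotient.mk I p := by
    intro p
    change ε (algebraMap Cc Cd (φ p)) = _
    rw [IsLocalization.Away.lift_eq, hε₀φ]
  obtain ⟨p, hp1, hp⟩ := exists_mul_mem_ofList_of_flat χ hχ I hfg ε hε F hIχ.le
  refine ⟨p, F, hp1, by simp only [F, List.length_map], hFI, hp, ?_⟩
  have hloc := hD χ hχ I ε hε F hFI hIχ p hp1 hp hregχ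
  intro R' _ ρ hρ hρp
  exact map_of_away 𝒮 p F hloc R' ρ hρ hρp

end Descent

section PartA

variable {A : Type u} [CommRing A] (n : ℕ)

/-- **Part A (generic).**  If the ideal `Ĩ = I A[y] + (y)` of `A[y]` is, near `V(Ĩ)`, generated
by a sequence that is of class `C` in every flat `A[y]`-algebra in which `p` is invertible, then
`I` is locally of class `C`. -/
theorem isLocally_of_descent (hR : Retract 𝒮) (I : Ideal A) (p : MvPolynomial (Fin n) A)
    (F : List (MvPolynomial (Fin n) A))
    (hp1 : p - 1 ∈ I.comap (constantCoeff : MvPolynomial (Fin n) A →+* A))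
    (hFI : ∀ f ∈ F, f ∈ I.comap (constantCoeff : MvPolynomial (Fin n) A →+* A))
    (hp : ∀ x ∈ I.comap (constantCoeff : MvPolynomial (Fin n) A →+* A), p * x ∈ Ideal.ofList F)
    (hreg : ∀ (R' : Type u) [CommRing R'] (ρ : MvPolynomial (Fin n) A →+* R'), ρ.Flat →
      IsUnit (ρ p) → 𝒮.P R' (F.map ρ)) :
    𝒮.IsLocally I := by
  classical
  intro 𝔭 h𝔭
  set cc : MvPolynomial (Fin n) A →+* A := constantCoeff with hcc
  set Q : Ideal (MvPolynomial (Fin n) A) := 𝔭.asIdeal.comap cc with hQ
  set I' : Ideal (MvPolynomial (Fin n) A) := I.comap cc with hI'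
  haveI : Q.IsPrime := Ideal.comap_isPrime cc 𝔭.asIdeal
  have hI'Q : I' ≤ Q := Ideal.comap_mono h𝔭
  have hpQ : p ∉ Q := by
    intro hpQ
    have h1 : cc p - 1 ∈ 𝔭.asIdeal := by
      have := hI'Q hp1
      rwa [hQ, Ideal.mem_comap, map_sub, map_one] at this
    have h2 : (1 : A) ∈ 𝔭.asIdeal := by
      have : (1 : A) = cc p - (cc p - 1) := by ring
      rw [this]
      exact 𝔭.asIdeal.sub_mem hpQ h1
    exact 𝔭.isPrime.ne_top ((Ideal.eq_top_iff_one _).2 h2)
  have hXI' : ∀ i : Fin n, (X i : MvPolynomial (Fin n) A) ∈ I' := by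
    intro i
    rw [hI', Ideal.mem_comap, hcc, constantCoeff_X]
    exact I.zero_mem
  -- exchange
  obtain ⟨μ, g, hμQ, hpμ, hlen, hgI', hspan⟩ := exists_exchange_list I' Q
    (fun i : Fin n => (X i : MvPolynomial (Fin n) A)) hXI' F hFI p hpQ
    (fun x hx => ⟨1, by rw [pow_one]; exact hp x hx⟩)
    (fun c hc i => constantCoeff_mem_of_sum_mul_X_mem n 𝔭.asIdeal I h𝔭 c hc i)
  set Xs : List (MvPolynomial (Fin n) A) := List.ofFn (fun i : Fin n => X i) with hXs
  set L : List (MvPolynomial (Fin n) A) := g ++ Xs with hL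
  have hXsspan : Ideal.ofList Xs = Ideal.span (Set.range (X : Fin n → MvPolynomial (Fin n) A)) := by
    rw [Ideal.ofList]
    congr 1
    ext y
    simp [hXs, List.mem_ofFn']
  have hLI' : Ideal.ofList L ≤ I' := by
    rw [Ideal.ofList, Ideal.span_le]
    intro x hx
    rcases List.mem_append.1 hx with h | h
    · exact hgI' x h
    · obtain ⟨i, rfl⟩ := (List.mem_ofFn' _ _).1 h
      exact hXI' i
  set a : A := cc μ with ha
  have ha𝔭 : a ∉ 𝔭.asIdeal := hμQ
  -- constants instead of `g`
  set b : List A := g.map cc with hb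
  set L' : List (MvPolynomial (Fin n) A) := b.map C ++ Xs with hL'
  have hLL' : Ideal.ofList L' = Ideal.ofList L := by
    rw [hL', hL, Ideal.ofList_append, Ideal.ofList_append]
    apply le_antisymm
    · rw [sup_le_iff]
      refine ⟨?_, le_sup_right⟩
      rw [Ideal.ofList, Ideal.span_le]
      intro y hy
      rw [hb, List.map_map] at hy
      obtain ⟨f, hf, rfl⟩ := List.mem_map.1 hy
      have h1 : (C (cc f) : MvPolynomial (Fin n) A) = f - (f - C (cc f)) := by ring
      change C (cc f) ∈ _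
      rw [h1]
      refine Ideal.sub_mem _ (Ideal.mem_sup_left (Ideal.subset_span hf)) (Ideal.mem_sup_right ?_)
      rw [hXsspan]
      exact sub_C_constantCoeff_mem n f
    · rw [sup_le_iff]
      refine ⟨?_, le_sup_right⟩
      rw [Ideal.ofList, Ideal.span_le]
      intro f hf
      have h1 : f = C (cc f) + (f - C (cc f)) := by ring
      rw [SetLike.mem_coe, h1]
      refine Ideal.add_mem _ (Ideal.mem_sup_left (Ideal.subset_span ?_)) (Ideal.mem_sup_right ?_)
      · rw [hb, List.map_map]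
        exact List.mem_map.2 ⟨f, hf, rfl⟩
      · rw [hXsspan]
        exact sub_C_constantCoeff_mem n f
  -- the localization `R' = A[y]_{μ C(a)}`
  set μ' : MvPolynomial (Fin n) A := μ * C a with hμ'
  let R' := Localization.Away μ'
  let ρ : MvPolynomial (Fin n) A →+* R' := algebraMap _ R'
  have hρ : ρ.Flat :=
    RingHom.flat_algebraMap_iff.2 (IsLocalization.flat R' (Submonoid.powers μ'))
  have hρμ' : IsUnit (ρ μ') := IsLocalization.Away.algebraMap_isUnit μ'
  have hρmul : ρ μ' = ρ μ * ρ (C a) := map_mul ρ μ (C a)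
  have hρμ : IsUnit (ρ μ) := by
    rw [hρmul] at hρμ'
    exact isUnit_of_mul_isUnit_left hρμ'
  have hρCa : IsUnit (ρ (C a)) := by
    rw [hρmul] at hρμ'
    exact isUnit_of_mul_isUnit_right hρμ'
  have hρp : IsUnit (ρ p) := by
    obtain ⟨r, hr⟩ := hpμ
    have h1 : ρ μ = ρ p * ρ r := (congrArg ρ hr).trans (map_mul ρ p r)
    rw [h1] at hρμ
    exact isUnit_of_mul_isUnit_left hρμ
  have hregF : 𝒮.P R' (F.map ρ) := hreg R' ρ hρ hρp
  have hmapF : I'.map ρ = (Ideal.ofList F).map ρ :=
    map_eq_map_of_pow_mul_mem ρ p hρp I' (Ideal.ofList F)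
      (by rw [Ideal.ofList, Ideal.span_le]; exact fun f hf => hFI f hf)
      (fun x hx => ⟨1, by rw [pow_one]; exact hp x hx⟩)
  have hmapL : I'.map ρ = (Ideal.ofList L).map ρ :=
    map_eq_map_of_pow_mul_mem ρ μ hρμ I' (Ideal.ofList L) hLI' hspan
  have hregL' : 𝒮.P R' (L'.map ρ) := by
    refine 𝒮.of_ofList_eq (F.map ρ) (L'.map ρ) hregF ?_ ?_
    · rw [← Ideal.map_ofList, ← Ideal.map_ofList, hLL', ← hmapL, ← hmapF]
    · rw [List.length_map, List.length_map, hL', List.length_append, List.length_map, hb,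
        List.length_map, hXs, List.length_ofFn]
      exact hlen
  -- the maps `s : A_a → R'` and `π : R' → A_a`
  let Aa := Localization.Away a
  have hunit : IsUnit (((algebraMap A Aa).comp cc) μ') := by
    have h1 : ((algebraMap A Aa).comp cc) μ' = algebraMap A Aa a * algebraMap A Aa a := by
      have h2 : cc μ' = cc μ * cc (C a) := map_mul cc μ (C a)
      rw [RingHom.comp_apply, h2, hcc, constantCoeff_C, map_mul]
    rw [h1]
    exact (IsLocalization.Away.algebraMap_isUnit a).mul (IsLocalization.Away.algebraMap_isUnit a)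
  let π : R' →+* Aa := IsLocalization.Away.lift μ' hunit
  have hπρ : ∀ f, π (ρ f) = algebraMap A Aa (cc f) := fun f =>
    IsLocalization.Away.lift_eq μ' hunit f
  have hunit' : IsUnit ((ρ.comp (C : A →+* MvPolynomial (Fin n) A)) a) := hρCa
  let s : Aa →+* R' := IsLocalization.Away.lift a hunit'
  have hs : ∀ x, s (algebraMap A Aa x) = ρ (C x) := fun x =>
    IsLocalization.Away.lift_eq a hunit' x
  have hπs : ∀ y, π (s y) = y := by
    have h1 : (π.comp s) = RingHom.id Aa := by
      apply IsLocalization.ringHom_ext (Submonoid.powers a)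
      ext x
      rw [RingHom.comp_apply, RingHom.comp_apply, hs, hπρ, hcc, constantCoeff_C]
      rfl
    intro y
    exact congr($h1 y)
  set fs : List R' := Xs.map ρ with hfs
  have hfsπ : ∀ x ∈ fs, π x = 0 := by
    intro x hx
    obtain ⟨y, hy, rfl⟩ := List.mem_map.1 hx
    obtain ⟨i, rfl⟩ := (List.mem_ofFn' _ _).1 hy
    rw [hπρ, hcc, constantCoeff_X, map_zero]
  set bl : List Aa := b.map (algebraMap A Aa) with hbl
  have hL'map : L'.map ρ = bl.map s ++ fs := by
    have h1 : ∀ b₀ : List A, (b₀.map C).map ρ = (b₀.map (algebraMap A Aa)).map s := by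
      intro b₀
      rw [List.map_map, List.map_map]
      apply List.map_congr_left
      intro x _
      exact (hs x).symm
    rw [hL', List.map_append, h1 b]
  rw [hL'map] at hregL'
  have hfinal : 𝒮.P Aa bl := hR s π hπs bl fs hfsπ hregL'
  refine ⟨a, ha𝔭, bl, hfinal, ?_⟩
  have h1 : I.map (algebraMap A Aa) = (I'.map ρ).map π := by
    rw [Ideal.map_map]
    have : π.comp ρ = (algebraMap A Aa).comp cc := RingHom.ext hπρ
    rw [this, ← Ideal.map_map, hI', Ideal.map_comap_of_surjective cc (constantCoeff_surjective n)]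
  rw [h1, hmapL, ← hLL', Ideal.map_ofList, Ideal.map_ofList, hL'map, List.map_append,
    Ideal.ofList_append, ofList_eq_bot_of_forall_eq_zero (fs.map π), sup_bot_eq, List.map_map]
  · congr 1
    conv_rhs => rw [← List.map_id bl]
    apply List.map_congr_left
    intro y _
    exact hπs y
  · intro x hx
    obtain ⟨y, hy, rfl⟩ := List.mem_map.1 hx
    exact hfsπ y hy

end PartA

section PartB

variable {A D : Type u} [CommRing A] [CommRing D] (n : ℕ)

open Groth.Agent.LibSecReg29 in
/-- **Descent of ideals locally of class `C` along smooth ring maps with a section modulo the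
ideal.** -/
theorem isLocally_comap_of_etale_mvPolynomial (hR : Retract 𝒮) (hD : Desc 𝒮)
    (g : MvPolynomial (Fin n) A →+* D) (hflat : g.Flat) (hunr : g.FormallyUnramified)
    (J : Ideal D) (hs : List D) (hreg : 𝒮.P D hs) (hJ : J = Ideal.ofList hs)
    (hsurj : ∀ c : D, ∃ a : A, c - g (C a) ∈ J)
    (hIfg : (J.comap (g.comp (C : A →+* MvPolynomial (Fin n) A))).FG) :
    𝒮.IsLocally (J.comap (g.comp (C : A →+* MvPolynomial (Fin n) A))) := by
  classical
  set φ : A →+* D := g.comp (C : A →+* MvPolynomial (Fin n) A) with hφ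
  set I : Ideal A := J.comap φ with hI
  set cc : MvPolynomial (Fin n) A →+* A := constantCoeff with hcc
  -- translation of the variables
  choose a ha using fun i : Fin n => hsurj (g (X i))
  let g' : MvPolynomial (Fin n) A →+* D := g.comp (transl a).toRingHom
  have hg'C : ∀ β : A, g' (C β) = φ β := by
    intro β
    change g (transl a (C β)) = _
    rw [← MvPolynomial.algebraMap_eq, AlgHom.commutes]
    rfl
  have hg'X : ∀ i, g' (X i) ∈ J := by
    intro i
    change g (transl a (X i)) ∈ J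
    simp only [transl, MvPolynomial.aeval_X, map_sub]
    exact ha i
  have hflat' : g'.Flat := RingHom.Flat.comp (.of_bijective (transl_bijective a)) hflat
  have hunr' : g'.FormallyUnramified :=
    RingHom.FormallyUnramified.comp (.of_surjective (transl_bijective a).2) hunr
  -- the ideal `Ĩ`
  set I' : Ideal (MvPolynomial (Fin n) A) := I.comap cc with hI'
  have hXJ : (Ideal.span (Set.range (X : Fin n → MvPolynomial (Fin n) A))).map g' ≤ J := by
    rw [Ideal.map_span, Ideal.span_le]
    rintro _ ⟨_, ⟨i, rfl⟩, rfl⟩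
    exact hg'X i
  have hcomap : J.comap g' = I' := by
    ext f
    have h1 : g' f - φ (cc f) ∈ J := by
      rw [← hg'C, ← map_sub]
      exact hXJ (Ideal.mem_map_of_mem _ (sub_C_constantCoeff_mem n f))
    rw [Ideal.mem_comap, hI', Ideal.mem_comap, hI, Ideal.mem_comap]
    constructor
    · intro h
      have : φ (cc f) = g' f - (g' f - φ (cc f)) := by ring
      rw [this]
      exact J.sub_mem h h1
    · intro h
      have : g' f = (g' f - φ (cc f)) + φ (cc f) := by ring
      rw [this]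
      exact J.add_mem h1 h
  have hJfg : J.FG := by
    rw [hJ]
    exact ⟨hs.toFinset, by rw [Ideal.ofList]; congr 1; ext x; simp⟩
  -- F2
  obtain ⟨c, hc1, hc⟩ : ∃ c : D, c - 1 ∈ J ∧ ∀ x ∈ J, c * x ∈ I'.map g' := by
    letI := g'.toAlgebra
    haveI : Algebra.FormallyUnramified (MvPolynomial (Fin n) A) D := hunr'
    obtain ⟨c, hc1, hc⟩ := exists_mul_mem_map_comap_of_formallyUnramified
      (P := MvPolynomial (Fin n) A) J hJfg (fun x => by
        obtain ⟨b, hb⟩ := hsurj x
        refine ⟨C b, ?_⟩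
        change x - g' (C b) ∈ J
        rw [hg'C]
        exact hb)
    refine ⟨c, hc1, fun x hx => ?_⟩
    have := hc x hx
    change c * x ∈ (J.comap g').map g' at this
    rwa [hcomap] at this
  have hI'J : I'.map g' ≤ J := by
    rw [← hcomap]
    exact Ideal.map_comap_le
  have hcpow : ∀ (N : ℕ) (y : D), c ^ N * y ∈ J → y ∈ J := by
    intro N y hy
    have h1 : Ideal.Quotient.mk J c = 1 := by
      rw [← map_one (Ideal.Quotient.mk J)]
      exact Ideal.Quotient.eq.2 hc1
    rw [← Ideal.Quotient.eq_zero_iff_mem] at hy ⊢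
    rwa [map_mul, map_pow, h1, one_pow, one_mul] at hy
  -- localize at `c`
  let Cc := Localization.Away c
  let ψ : D →+* Cc := algebraMap D Cc
  have hψ : ψ.Flat := RingHom.flat_algebraMap_iff.2 (IsLocalization.flat Cc (Submonoid.powers c))
  let φc : MvPolynomial (Fin n) A →+* Cc := ψ.comp g'
  have hφc : φc.Flat := hflat'.comp hψ
  have hψc : IsUnit (ψ c) := IsLocalization.Away.algebraMap_isUnit c
  have hmapJ : J.map ψ = (I'.map g').map ψ :=
    map_eq_map_of_pow_mul_mem ψ c hψc J (I'.map g') hI'J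
      (fun x hx => ⟨1, by rw [pow_one]; exact hc x hx⟩)
  have hI'φc : I'.map φc = Ideal.ofList (hs.map ψ) := by
    rw [← Ideal.map_map, ← hmapJ, hJ, Ideal.map_ofList]
  have hregc : 𝒮.P Cc (hs.map ψ) := 𝒮.map_flat ψ hψ hs hreg
  -- `Ĩ` is finitely generated
  have hI'fg : I'.FG := by
    have h1 : I' = I.map (C : A →+* MvPolynomial (Fin n) A) ⊔
        Ideal.span (Set.range (X : Fin n → MvPolynomial (Fin n) A)) := by
      apply le_antisymm
      · intro f hf
        have : f = C (cc f) + (f - C (cc f)) := by ring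
        rw [this]
        exact Ideal.add_mem _ (Ideal.mem_sup_left (Ideal.mem_map_of_mem _ hf))
          (Ideal.mem_sup_right (sub_C_constantCoeff_mem n f))
      · rw [sup_le_iff]
        constructor
        · rw [Ideal.map_le_iff_le_comap]
          intro b hb
          rw [Ideal.mem_comap, hI', Ideal.mem_comap, hcc, constantCoeff_C]
          exact hb
        · rw [Ideal.span_le]
          rintro _ ⟨i, rfl⟩
          rw [SetLike.mem_coe, hI', Ideal.mem_comap, hcc, constantCoeff_X]
          exact I.zero_mem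
    rw [h1]
    exact Submodule.FG.sup (hIfg.map _) ⟨Finset.univ.image X, by simp⟩
  have hsurjc : ∀ x : Cc, ∃ f : MvPolynomial (Fin n) A, x - φc f ∈ I'.map φc := by
    intro x
    obtain ⟨k, y, hy⟩ := IsLocalization.Away.surj c x
    obtain ⟨b, hb⟩ := hsurj y
    refine ⟨C b, ?_⟩
    rw [← Ideal.map_map, ← hmapJ]
    have h1 : Ideal.Quotient.mk (J.map ψ) (ψ c) = 1 := by
      rw [← map_one (Ideal.Quotient.mk (J.map ψ)), ← map_one ψ]
      refine Ideal.Quotient.eq.2 ?_
      rw [← map_sub]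
      exact Ideal.mem_map_of_mem _ hc1
    have h2 : Ideal.Quotient.mk (J.map ψ) (ψ y) = Ideal.Quotient.mk (J.map ψ) (ψ (φ b)) := by
      refine Ideal.Quotient.eq.2 ?_
      rw [← map_sub]
      exact Ideal.mem_map_of_mem _ hb
    refine Ideal.Quotient.eq.1 ?_
    change _ = Ideal.Quotient.mk (J.map ψ) (ψ (g' (C b)))
    rw [hg'C, ← h2, ← show x * ψ c ^ k = ψ y from hy, map_mul, map_pow, h1, one_pow, mul_one]
  have hinjc : (I'.map φc).comap φc ≤ I' := by
    intro f hf
    rw [Ideal.mem_comap, ← Ideal.map_map, ← hmapJ] at hf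
    change ψ (g' f) ∈ J.map ψ at hf
    rw [IsLocalization.mem_map_algebraMap_iff (Submonoid.powers c) Cc] at hf
    obtain ⟨⟨⟨j, hj⟩, ⟨_, k, rfl⟩⟩, hjk⟩ := hf
    simp only at hjk
    rw [← map_mul, IsLocalization.eq_iff_exists (Submonoid.powers c) Cc] at hjk
    obtain ⟨⟨_, k', rfl⟩, hk'⟩ := hjk
    simp only at hk'
    have h1 : c ^ (k' + k) * g' f ∈ J := by
      have : c ^ (k' + k) * g' f = c ^ k' * (g' f * c ^ k) := by rw [pow_add]; ring
      rw [this, hk']
      exact J.mul_mem_left _ hj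
    rw [← hcomap, Ideal.mem_comap]
    exact hcpow _ _ h1
  obtain ⟨p, F, hp1, -, hFI, hp, hregF⟩ :=
    exists_descent 𝒮 hD φc hφc I' hI'fg hsurjc hinjc (hs.map ψ) hregc hI'φc
  exact isLocally_of_descent 𝒮 n hR I p F hp1 hFI hp hregF

end PartB

end Groth.Agent.LibSeqClassSmooth29
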