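import Mathlib
import Groth.Prelude.Def_LCI2
import Groth.Prelude.Def_RegImm
import Groth.Agent.LibSeqClassSmooth29
import Groth.Agent.LibRegImmKindFpqc29
import Groth.Agent.LibRegImmSmoothDesc29

/-!
# Regular immersions of the kinds Koszul, `H_1`, quasi descend along smooth morphisms (helper29)

`isRegularImmersion_of_comp_smooth`: `p : V' ⟶ V` smooth, `j : X ⟶ V'` a regular immersion of kind
`k ≠ regular` with `j ≫ p` an immersion ⇒ `j ≫ p` is a regular immersion of kind `k`.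
-/

set_option autoImplicit false
universe u

open AlgebraicGeometry CategoryTheory

namespace Groth.Agent.LibRegImmKindSmooth29

open Groth.Agent.LibSeqClass29 Groth.Agent.LibSeqClassKind29 Groth.Agent.LibSeqClassDesc29
  Groth.Agent.LibSeqClassSmooth29 Groth.Agent.LibRegImmKindFpqc29
  Groth.Agent.LibKoszulFlat29 Groth.Agent.LibRegImmComp29 Groth.Agent.LibRegImmSmoothDesc29

open Groth.Agent.LibSecReg29 Groth.Agent.LibKoszulSmoothDescent29 in
/-- **Regular immersions of kind `k` descend along smooth morphisms (pointwise version)**, for a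
kind whose class has the `Retract` and `Desc` properties. -/
theorem isRegularImmersionAt_of_comp_smooth (k : RegImm.Kind) (hk : k ≠ RegImm.Kind.regular)
    (hR : Retract (kindClass.{u} k hk)) (hD : Desc (kindClass.{u} k hk))
    {X V V' : Scheme.{u}} (j : X ⟶ V')
    (p : V' ⟶ V) [Smooth p] [IsImmersion (j ≫ p)] (x : X)
    (hj : RegImm.IsRegularImmersionAt k j x) :
    RegImm.IsRegularImmersionAt k (j ≫ p) x := by
  classical
  -- (a)
  obtain ⟨O, hxO, hO⟩ := exists_forall_isClosedImmersion_restrict (j ≫ p) x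
  -- (b)
  obtain ⟨U', hxU', hclU', hs', hreg', hker'⟩ := hj
  -- (c)
  obtain ⟨U, hU, V₁, hV₁, hx₀, e, hψ⟩ := Smooth.exists_isStandardSmooth p (j x)
  obtain ⟨n, g₀, hg₀C, hg₀⟩ := hψ.exists_etale_mvPolynomial
  obtain ⟨hg₀f, hg₀u, -⟩ := RingHom.Etale.iff_flat_and_formallyUnramified.mp hg₀
  have hixU : (j ≫ p) x ∈ U := e hx₀
  -- (d)
  obtain ⟨f, g, hfg, hxf⟩ := exists_basicOpen_le_affine_inter hV₁ U'.2 (j x) ⟨hx₀, hxU'⟩
  have hV₂ : IsAffineOpen (V'.basicOpen f) := hV₁.basicOpen f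
  have hV₂V₁ : V'.basicOpen f ≤ V₁ := V'.basicOpen_le f
  have hV₂U' : V'.basicOpen f ≤ U'.1 := hfg ▸ V'.basicOpen_le g
  generalize hV₂def : V'.basicOpen f = V₂ at hV₂ hV₂V₁ hV₂U' hxf
  -- (e)
  obtain ⟨N, hN⟩ : ∃ N : V.Opens, (j ≫ p) ⁻¹ᵁ N = j ⁻¹ᵁ V₂ := by
    obtain ⟨t, ht, hpre⟩ := (j ≫ p).isEmbedding.isInducing.isOpen_iff.1 (j ⁻¹ᵁ V₂).isOpen
    exact ⟨⟨t, ht⟩, TopologicalSpace.Opens.ext hpre⟩
  have hxN : (j ≫ p) x ∈ N := by
    change x ∈ (j ≫ p) ⁻¹ᵁ N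
    rw [hN]
    exact hxf
  obtain ⟨b, hb1, hb2⟩ := hU.exists_basicOpen_le (V := O ⊓ N ⊓ U)
    ⟨(j ≫ p) x, ⟨hxO, hxN⟩, hixU⟩ hixU
  have hU₁ : IsAffineOpen (V.basicOpen b) := hU.basicOpen b
  have hU₁U : V.basicOpen b ≤ U := V.basicOpen_le b
  -- (f)
  have e₂ : V₂ ≤ p ⁻¹ᵁ U := hV₂V₁.trans e
  have hV₃ : IsAffineOpen (V'.basicOpen ((p.appLE U V₂ e₂).hom b)) := hV₂.basicOpen _
  have hV₃V₂ : V'.basicOpen ((p.appLE U V₂ e₂).hom b) ≤ V₂ := V'.basicOpen_le _
  have hV₃eq : V'.basicOpen ((p.appLE U V₂ e₂).hom b) = V₂ ⊓ p ⁻¹ᵁ (V.basicOpen b) :=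
    Scheme.basicOpen_appLE p V₂ U e₂ b
  have hloc₂ : ∀ (V₃ : V'.Opens) (hle : V₃ ≤ V₂), V₃ = V'.basicOpen ((p.appLE U V₂ e₂).hom b) →
      @IsLocalization.Away _ _ ((p.appLE U V₂ e₂).hom b) Γ(V', V₃) _
        (V'.presheaf.map (homOfLE hle).op).hom.toAlgebra :=
    fun V₃ hle h3 => hV₂.isLocalization_of_eq_basicOpen _ (homOfLE hle) h3
  generalize hV₃def : V'.basicOpen ((p.appLE U V₂ e₂).hom b) = V₃ at hV₃ hV₃V₂ hV₃eq hloc₂
  have hloc₂' := hloc₂ V₃ hV₃V₂ rfl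
  have hpre : j ⁻¹ᵁ V₃ = (j ≫ p) ⁻¹ᵁ (V.basicOpen b) := by
    rw [hV₃eq, Scheme.Hom.preimage_inf, ← Scheme.Hom.comp_preimage, ← hN]
    exact inf_eq_right.2
      (Scheme.Hom.preimage_mono (j ≫ p) (hb1.trans (inf_le_left.trans inf_le_right)))
  have hV₃V₁ : V₃ ≤ V₁ := hV₃V₂.trans hV₂V₁
  have e₃ : V₃ ≤ p ⁻¹ᵁ (V.basicOpen b) := hV₃eq ▸ inf_le_right
  -- (g) the rings
  let ρB : Γ(V, U) →+* Γ(V, V.basicOpen b) := (V.presheaf.map (homOfLE hU₁U).op).hom
  have hloc : @IsLocalization.Away _ _ b Γ(V, V.basicOpen b) _ ρB.toAlgebra :=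
    hU.isLocalization_of_eq_basicOpen b (homOfLE hU₁U) rfl
  let ρC : Γ(V', V₁) →+* Γ(V', V₃) := (V'.presheaf.map (homOfLE hV₃V₁).op).hom
  have hρf : ρC.Flat := flat_restrict V₁ V₃ hV₁ hV₃ hV₃V₁
  have hρu : ρC.FormallyUnramified := by
    let ρ1 : Γ(V', V₁) →+* Γ(V', V₂) := (V'.presheaf.map (homOfLE hV₂V₁).op).hom
    let ρ2 : Γ(V', V₂) →+* Γ(V', V₃) := (V'.presheaf.map (homOfLE hV₃V₂).op).hom
    have h12 : ρC = ρ2.comp ρ1 := by
      change (V'.presheaf.map (homOfLE hV₃V₁).op).hom =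
        (V'.presheaf.map (homOfLE hV₂V₁).op ≫ V'.presheaf.map (homOfLE hV₃V₂).op).hom
      rw [← Functor.map_comp]
      rfl
    have hu1 : ρ1.FormallyUnramified := by
      have hl : @IsLocalization.Away _ _ f Γ(V', V₂) _ ρ1.toAlgebra :=
        hV₁.isLocalization_of_eq_basicOpen f (homOfLE hV₂V₁) hV₂def.symm
      letI := ρ1.toAlgebra
      have : Algebra.FormallyUnramified Γ(V', V₁) Γ(V', V₂) :=
        Algebra.FormallyUnramified.of_isLocalization (Submonoid.powers f)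
      exact this
    have hu2 : ρ2.FormallyUnramified := by
      letI := ρ2.toAlgebra
      haveI := hloc₂'
      have : Algebra.FormallyUnramified Γ(V', V₂) Γ(V', V₃) :=
        Algebra.FormallyUnramified.of_isLocalization
          (Submonoid.powers ((p.appLE U V₂ e₂).hom b))
      exact this
    rw [h12]
    exact RingHom.FormallyUnramified.comp hu1 hu2
  let f₁ : Γ(V, V.basicOpen b) →+* Γ(V', V₃) := (p.appLE (V.basicOpen b) V₃ e₃).hom
  have hcomp : ∀ β, f₁ (ρB β) = ρC (g₀ (MvPolynomial.C β)) := by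
    intro β
    have h1 : g₀ (MvPolynomial.C β) = (p.appLE U V₁ e).hom β := by
      rw [← hg₀C]
      rfl
    rw [h1]
    change (V.presheaf.map (homOfLE hU₁U).op ≫ p.appLE (V.basicOpen b) V₃ e₃) β =
      (p.appLE U V₁ e ≫ V'.presheaf.map (homOfLE hV₃V₁).op) β
    rw [Scheme.Hom.map_appLE, Scheme.Hom.appLE_map]
  obtain ⟨hflat, hunr⟩ := locMap_flat_unramified' ρB (Submonoid.powers b) hloc g₀ ρC f₁ hcomp
    hg₀f hg₀u hρf hρu
  -- the ideal `J`
  obtain ⟨hclV₃, hkerV₃⟩ := restrict_of_le j U'.1 U'.2 V₃ hV₃ (hV₃V₂.trans hV₂U')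
  set res : Γ(V', U'.1) →+* Γ(V', V₃) :=
    (V'.presheaf.map (homOfLE (hV₃V₂.trans hV₂U')).op).hom with hres
  have hresf : res.Flat := flat_restrict U'.1 V₃ U'.2 hV₃ (hV₃V₂.trans hV₂U')
  have hreg₃ : (kindClass.{u} k hk).P Γ(V', V₃) (hs'.map res) :=
    (kindClass.{u} k hk).map_flat res hresf hs' ((kindClass_P k hk _ hs').2 hreg')
  have hJ : RingHom.ker (j.app V₃).hom = Ideal.ofList (hs'.map res) := by
    rw [hkerV₃, hker', Ideal.map_ofList]
  -- the relation between `i.app U₁` and `j.app V₃`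
  haveI : IsClosedImmersion ((j ≫ p) ∣_ V.basicOpen b) :=
    hO _ (hb1.trans (inf_le_left.trans inf_le_left))
  obtain ⟨-, hisurj⟩ :=
    Groth.Agent.LibRegImmStalk29.affine_and_app_surjective_of_restrict (j ≫ p) (V.basicOpen b) hU₁
  let r : Γ(X, (j ≫ p) ⁻¹ᵁ (V.basicOpen b)) →+* Γ(X, j ⁻¹ᵁ V₃) :=
    (X.presheaf.map (homOfLE hpre.le).op).hom
  have hr : Function.Bijective r := presheaf_map_bijective_of_eq hpre
  have hrel : ∀ a, (j.app V₃).hom (f₁ a) = r (((j ≫ p).app (V.basicOpen b)).hom a) := by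
    intro a
    change (p.appLE (V.basicOpen b) V₃ e₃ ≫ j.app V₃) a =
      ((j ≫ p).app (V.basicOpen b) ≫ X.presheaf.map (homOfLE hpre.le).op) a
    rw [Scheme.Hom.app_eq_appLE, Scheme.Hom.appLE_comp_appLE, Scheme.Hom.appLE]
  have hIJ : RingHom.ker ((j ≫ p).app (V.basicOpen b)).hom =
      (RingHom.ker (j.app V₃).hom).comap f₁ := by
    ext a
    rw [Ideal.mem_comap, RingHom.mem_ker, RingHom.mem_ker, hrel, map_eq_zero_iff r hr.1]
  have hsurj : ∀ d : Γ(V', V₃), ∃ a : Γ(V, V.basicOpen b),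
      d - f₁ a ∈ RingHom.ker (j.app V₃).hom := by
    intro d
    obtain ⟨y, hy⟩ := hr.2 ((j.app V₃).hom d)
    obtain ⟨a, ha⟩ := hisurj y
    refine ⟨a, ?_⟩
    rw [RingHom.mem_ker, map_sub, hrel, ha, hy, sub_self]
  have hJfg : (RingHom.ker (j.app V₃).hom).FG := by
    rw [hJ]
    exact ⟨(hs'.map res).toFinset, by rw [Ideal.ofList]; congr 1; ext y; simp⟩
  have hIfg : (RingHom.ker ((j ≫ p).app (V.basicOpen b)).hom).FG := by
    have hfp : f₁.FinitePresentation := p.finitePresentation_appLE hU₁ hV₃ e₃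
    letI := f₁.toAlgebra
    haveI : Algebra.FinitePresentation Γ(V, V.basicOpen b) Γ(V', V₃) := hfp
    haveI : Algebra.FinitePresentation Γ(V, V.basicOpen b)
        (Γ(V', V₃) ⧸ RingHom.ker (j.app V₃).hom) :=
      Algebra.FinitePresentation.quotient hJfg
    have hs2 : Function.Surjective
        (Algebra.ofId Γ(V, V.basicOpen b) (Γ(V', V₃) ⧸ RingHom.ker (j.app V₃).hom)) := by
      intro y
      obtain ⟨d, rfl⟩ := Ideal.Quotient.mk_surjective y
      obtain ⟨a, ha⟩ := hsurj d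
      exact ⟨a, (Ideal.Quotient.eq.2 ha).symm⟩
    have := Algebra.FinitePresentation.ker_fG_of_surjective _ hs2
    convert this using 1
    rw [hIJ]
    ext a
    rw [Ideal.mem_comap, RingHom.mem_ker]
    exact (Ideal.Quotient.eq_zero_iff_mem (I := RingHom.ker (j.app V₃).hom) (a := f₁ a)).symm
  -- the ring-level theorem
  have hgC : (locMap g₀ ρC f₁).comp (MvPolynomial.C : _ →+* MvPolynomial (Fin n) _) = f₁ :=
    RingHom.ext fun β => locMap_C g₀ ρC f₁ β
  have hmain := isLocally_comap_of_etale_mvPolynomial (kindClass.{u} k hk) n hR hD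
    (locMap g₀ ρC f₁) hflat hunr
    (RingHom.ker (j.app V₃).hom) (hs'.map res) hreg₃ hJ
    (fun d => by
      obtain ⟨a, ha⟩ := hsurj d
      exact ⟨a, by rw [locMap_C]; exact ha⟩)
    (by rw [hgC, ← hIJ]; exact hIfg)
  rw [hgC, ← hIJ] at hmain
  exact isRegularImmersionAt_of_isLocally k hk (j ≫ p) x (V.basicOpen b) hU₁ hb2 hmain


/-- **Regular immersions of kind `k ≠ regular` descend along smooth morphisms.** -/
theorem isRegularImmersion_of_comp_smooth (k : RegImm.Kind) (hk : k ≠ RegImm.Kind.regular)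
    {X V V' : Scheme.{u}} (j : X ⟶ V')
    (p : V' ⟶ V) [Smooth p] (i : X ⟶ V) [IsImmersion i] (h : j ≫ p = i)
    (hj : RegImm.IsRegularImmersion k j) : RegImm.IsRegularImmersion k i := by
  cases k with
  | regular => exact absurd rfl hk
  | koszul => exact isRegularImmersion_koszul_of_comp_smooth j p i h hj
  | h1 =>
    subst h
    exact ⟨inferInstance, fun x => isRegularImmersionAt_of_comp_smooth .h1 hk h1_retract h1_desc
      j p x (hj.2 x)⟩
  | quasi =>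
    subst h
    exact ⟨inferInstance, fun x => isRegularImmersionAt_of_comp_smooth .quasi hk quasi_retract
      quasi_desc j p x (hj.2 x)⟩

end Groth.Agent.LibRegImmKindSmooth29
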