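import Mathlib
import Groth.Prelude.Def_RegImm

/-!
# The kernel of the stalk map of `Spec` of a surjection (helper29)
-/

set_option autoImplicit false
universe u
open CategoryTheory AlgebraicGeometry

namespace Groth.Agent.LibRegImmSpec29

set_option backward.isDefEq.respectTransparency.types false in
theorem ker_stalkMap_SpecMap_of_surjective {R S : CommRingCat.{u}} (f : R ⟶ S)
    (hf : Function.Surjective f.hom) (p : PrimeSpectrum S) :
    letI : Algebra R ((Spec R).presheaf.stalk ((Spec.map f) p)) :=
      StructureSheaf.stalkAlgebra R (p.comap f.hom)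
    RingHom.ker ((Spec.map f).stalkMap p).hom =
      (RingHom.ker f.hom).map
        (algebraMap R ((Spec R).presheaf.stalk ((Spec.map f) p))) := by
  let a1 : Algebra R ((Spec R).presheaf.stalk ((Spec.map f) p)) :=
    StructureSheaf.stalkAlgebra R (p.comap f.hom)
  have l1 : IsLocalization.AtPrime ((Spec R).presheaf.stalk ((Spec.map f) p))
      (p.comap f.hom).asIdeal := StructureSheaf.IsLocalization.to_stalk R (p.comap f.hom)
  let a2 : Algebra S ((Spec S).presheaf.stalk p) := StructureSheaf.stalkAlgebra S p
  have l2 : IsLocalization.AtPrime ((Spec S).presheaf.stalk p) p.asIdeal :=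
    StructureSheaf.IsLocalization.to_stalk S p
  have hT : Submonoid.map f.hom (p.comap f.hom).asIdeal.primeCompl = p.asIdeal.primeCompl := by
    ext b
    constructor
    · rintro ⟨a, ha, rfl⟩
      exact ha
    · intro hb
      obtain ⟨a, rfl⟩ := hf b
      exact ⟨a, hb, rfl⟩
  have hmap : ((Spec.map f).stalkMap p).hom =
      IsLocalization.map ((Spec S).presheaf.stalk p) f.hom
        (hT.symm ▸ Submonoid.le_comap_map _) := by
    apply IsLocalization.ringHom_ext (p.comap f.hom).asIdeal.primeCompl
    ext a
    simp only [RingHom.comp_apply, IsLocalization.map_eq]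
    exact AlgebraicGeometry.stalkMap_toStalk_apply f p a
  rw [hmap, IsLocalization.ker_map _ _ hT]

end Groth.Agent.LibRegImmSpec29
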