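import Groth.Agent.Lib.Helper15.Regular
import Mathlib.RingTheory.Ideal.Quotient.Operations

/-!
# Parts of regular systems of parameters (helper29)

`Indep f` : the family `f` in the maximal ideal of a local ring is linearly independent modulo `m²`.
* `isRegularLocalRing_quotient_of_indep` : quotient of a regular local ring by such a family is
  regular local, of embedding dimension `embdim R - n`.
-/

set_option autoImplicit false

namespace Groth.Agent.LibRegPar29

open IsLocalRing

universe u

/-- `f` is linearly independent modulo `m²`. -/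
def Indep {R : Type u} [CommRing R] [IsLocalRing R] {n : ℕ} (f : Fin n → R) : Prop :=
  ∀ c : Fin n → R, ∑ j, c j * f j ∈ maximalIdeal R ^ 2 → ∀ j, c j ∈ maximalIdeal R

lemma Indep.notMem_sq {R : Type u} [CommRing R] [IsLocalRing R] {n : ℕ} {f : Fin n → R}
    (h : Indep f) (j : Fin n) : f j ∉ maximalIdeal R ^ 2 := by
  classical
  intro hj
  have h1 := h (Pi.single j 1) (by
    rw [Finset.sum_eq_single j]
    · simpa using hj
    · intro b _ hb
      simp [hb]
    · intro h'
      exact absurd (Finset.mem_univ j) h') j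
  rw [Pi.single_eq_same] at h1
  exact (Ideal.ne_top_iff_one _).1 (Ideal.IsMaximal.ne_top inferInstance) h1

lemma spanFinrank_maximalIdeal_eq_of_ringEquiv {A B : Type u} [CommRing A] [CommRing B]
    [IsLocalRing A] [IsLocalRing B] (e : A ≃+* B) :
    (maximalIdeal A).spanFinrank = (maximalIdeal B).spanFinrank := by
  rw [← map_ringEquiv_maximalIdeal e, Ideal.spanFinrank_map_eq_of_ringEquiv]

lemma mk_mem_maximalIdeal {R : Type u} [CommRing R] [IsLocalRing R] (I : Ideal R)
    [IsLocalRing (R ⧸ I)] {y : R} (hy : y ∈ maximalIdeal R) :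
    Ideal.Quotient.mk I y ∈ maximalIdeal (R ⧸ I) := by
  rw [← map_maximalIdeal_of_surjective (Ideal.Quotient.mk I) Ideal.Quotient.mk_surjective]
  exact Ideal.mem_map_of_mem _ hy

theorem isRegularLocalRing_quotient_of_indep : ∀ (n : ℕ) (R : Type u) [CommRing R]
    [IsRegularLocalRing R] (f : Fin n → R) (_ : ∀ j, f j ∈ maximalIdeal R) (_ : Indep f)
    (I : Ideal R) (_ : I = Ideal.span (Set.range f)),
    ∃ _ : IsRegularLocalRing (R ⧸ I),
      (maximalIdeal (R ⧸ I)).spanFinrank + n = (maximalIdeal R).spanFinrank := by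
  intro n
  induction n with
  | zero =>
    intro R _ _ f _ _ I hI
    have hbot : I = ⊥ := by
      rw [hI, Set.range_eq_empty, Ideal.span_empty]
    subst hbot
    have e : R ≃+* R ⧸ (⊥ : Ideal R) := (RingEquiv.quotientBot R).symm
    have hreg : IsRegularLocalRing (R ⧸ (⊥ : Ideal R)) := IsRegularLocalRing.of_ringEquiv e
    exact ⟨hreg, by rw [add_zero, ← spanFinrank_maximalIdeal_eq_of_ringEquiv e]⟩
  | succ n ih =>
    intro R _ _ f hf hind I hI
    obtain ⟨hreg1, hdim1⟩ := Groth.Agent.Lib.helper15.isRegularLocalRing_quotient_singleton (f 0)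
      (hf 0) (hind.notMem_sq 0)
    have hsurj : Function.Surjective (Ideal.Quotient.mk (Ideal.span {f 0})) :=
      Ideal.Quotient.mk_surjective
    -- the induced family
    have hg : ∀ j : Fin n, Ideal.Quotient.mk (Ideal.span {f 0}) (f j.succ) ∈
        maximalIdeal (R ⧸ Ideal.span {f 0}) := fun j => mk_mem_maximalIdeal _ (hf _)
    have hindg : Indep (fun j : Fin n => Ideal.Quotient.mk (Ideal.span {f 0}) (f j.succ)) := by
      intro c' hc'
      choose c hc using fun j => hsurj (c' j)
      have h1 : Ideal.Quotient.mk (Ideal.span {f 0}) (∑ j, c j * f j.succ) ∈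
          (maximalIdeal R ^ 2).map (Ideal.Quotient.mk (Ideal.span {f 0})) := by
        rw [Ideal.map_pow, map_maximalIdeal_of_surjective _ hsurj, map_sum]
        simpa [map_mul, hc] using hc'
      rw [Ideal.mem_map_iff_of_surjective _ hsurj] at h1
      obtain ⟨z, hz, hzy⟩ := h1
      have h2 : (∑ j, c j * f j.succ) - z ∈ Ideal.span {f 0} := by
        rw [← Ideal.Quotient.eq_zero_iff_mem, map_sub, hzy, sub_self]
      obtain ⟨a, ha⟩ := Ideal.mem_span_singleton'.1 h2
      have h3 : ∑ j : Fin (n + 1), (Fin.cons (-a) c : Fin (n + 1) → R) j * f j ∈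
          maximalIdeal R ^ 2 := by
        rw [Fin.sum_univ_succ]
        simp only [Fin.cons_zero, Fin.cons_succ]
        have h4 : -a * f 0 + ∑ j, c j * f j.succ = z := by
          rw [neg_mul, ha]; ring
        rw [h4]
        exact hz
      intro j
      have h5 := hind _ h3 j.succ
      rw [Fin.cons_succ] at h5
      rw [← hc j]
      exact mk_mem_maximalIdeal _ h5
    obtain ⟨hreg2, hdim2⟩ := ih (R ⧸ Ideal.span {f 0})
      (fun j : Fin n => Ideal.Quotient.mk (Ideal.span {f 0}) (f j.succ)) hg hindg
      ((Ideal.span (Set.range fun j : Fin n => f j.succ)).map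
        (Ideal.Quotient.mk (Ideal.span {f 0}))) (by
        rw [Ideal.map_span, ← Set.range_comp]
        rfl)
    have hI' : Ideal.span {f 0} ⊔ Ideal.span (Set.range fun j : Fin n => f j.succ) = I := by
      rw [hI, ← Ideal.span_union]
      congr 1
      ext y
      simp only [Set.singleton_union, Set.mem_insert_iff, Set.mem_range]
      constructor
      · rintro (rfl | ⟨j, rfl⟩)
        · exact ⟨0, rfl⟩
        · exact ⟨j.succ, rfl⟩
      · rintro ⟨j, rfl⟩
        refine Fin.cases ?_ (fun i => ?_) j
        · exact Or.inl rfl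
        · exact Or.inr ⟨i, rfl⟩
    let e : ((R ⧸ Ideal.span {f 0}) ⧸ (Ideal.span (Set.range fun j : Fin n => f j.succ)).map
        (Ideal.Quotient.mk (Ideal.span {f 0}))) ≃+* R ⧸ I :=
      (DoubleQuot.quotQuotEquivQuotSup _ _).trans (Ideal.quotEquivOfEq hI')
    have hreg : IsRegularLocalRing (R ⧸ I) := IsRegularLocalRing.of_ringEquiv e
    refine ⟨hreg, ?_⟩
    rw [← spanFinrank_maximalIdeal_eq_of_ringEquiv e]
    omega

lemma Indep.castLE {R : Type u} [CommRing R] [IsLocalRing R] {n : ℕ} {f : Fin n → R}
    (hind : Indep f) {i : ℕ} (h : i ≤ n) : Indep (fun j : Fin i => f (Fin.castLE h j)) := by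
  classical
  intro c hc
  let c' : Fin n → R := fun k => if hk : (k : ℕ) < i then c ⟨k, hk⟩ else 0
  have hsum : ∑ k, c' k * f k = ∑ j, c j * f (Fin.castLE h j) := by
    have h1 : ∑ j, c j * f (Fin.castLE h j) =
        ∑ k ∈ Finset.univ.map (Fin.castLEEmb h), c' k * f k := by
      rw [Finset.sum_map]
      refine Finset.sum_congr rfl fun j _ => ?_
      simp [c']
    rw [h1]
    symm
    refine Finset.sum_subset (Finset.subset_univ _) ?_
    intro k _ hk
    have hki : ¬ (k : ℕ) < i := by
      intro hki
      apply hk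
      rw [Finset.mem_map]
      exact ⟨⟨k, hki⟩, Finset.mem_univ _, by ext; simp⟩
    simp [c', hki]
  rw [← hsum] at hc
  intro j
  have h2 := hind c' hc (Fin.castLE h j)
  simpa [c'] using h2

/-- A family independent modulo `m²` in a regular local ring is a regular sequence. -/
theorem isRegular_ofFn_of_indep (R : Type u) [CommRing R] [IsRegularLocalRing R] {n : ℕ}
    (f : Fin n → R) (hf : ∀ j, f j ∈ maximalIdeal R) (hind : Indep f) :
    RingTheory.Sequence.IsRegular R (List.ofFn f) := by
  classical
  constructor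
  · rw [RingTheory.Sequence.isWeaklyRegular_iff]
    intro i hi
    have hin : i < n := by simpa using hi
    have hJ : (Ideal.ofList ((List.ofFn f).take i) • ⊤ : Submodule R R) =
        Ideal.span (Set.range fun j : Fin i => f (Fin.castLE hin.le j)) := by
      rw [smul_eq_mul, Ideal.mul_top]
      change Ideal.span {r | r ∈ (List.ofFn f).take i} = _
      congr 1
      ext z
      simp only [Set.mem_ofPred_eq, List.mem_take_iff_getElem, List.getElem_ofFn, List.length_ofFn,
        Set.mem_range]
      constructor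
      · rintro ⟨j, hj, rfl⟩
        have hj' : j < i := lt_of_lt_of_le hj (min_le_left _ _)
        exact ⟨⟨j, hj'⟩, rfl⟩
      · rintro ⟨j, rfl⟩
        exact ⟨j.1, lt_min j.2 (j.2.trans hin), rfl⟩
    obtain ⟨hreg, -⟩ := isRegularLocalRing_quotient_of_indep i R _ (fun j => hf _)
      (hind.castLE hin.le) _ rfl
    have hdom : IsDomain (R ⧸ Ideal.span (Set.range fun j : Fin i => f (Fin.castLE hin.le j))) :=
      Groth.Agent.Lib.helper15.isDomain_of_isRegularLocalRing _
    have hprime := (Ideal.Quotient.isDomain_iff_prime _).mp hdom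
    have hnot : f ⟨i, hin⟩ ∉ Ideal.span (Set.range fun j : Fin i => f (Fin.castLE hin.le j)) := by
      intro hmem
      obtain ⟨a, ha⟩ := Ideal.mem_span_range_iff_exists_fun.1 hmem
      -- `∑ a j f j - f i = 0`
      have hsucc : i + 1 ≤ n := hin
      have h1 := (hind.castLE hsucc) (Fin.snoc a (-1)) (by
        rw [Fin.sum_univ_castSucc]
        simp only [Fin.snoc_castSucc, Fin.snoc_last]
        have h2 : ∑ j : Fin i, a j * f (Fin.castLE hsucc j.castSucc) +
            -1 * f (Fin.castLE hsucc (Fin.last i)) = 0 := by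
          have h3 : f (Fin.castLE hsucc (Fin.last i)) = f ⟨i, hin⟩ := rfl
          have h4 : ∀ j : Fin i, f (Fin.castLE hsucc j.castSucc) = f (Fin.castLE hin.le j) :=
            fun j => rfl
          simp only [h3, h4]
          rw [ha]
          ring
        rw [h2]
        exact Ideal.zero_mem _) (Fin.last i)
      rw [Fin.snoc_last] at h1
      have h5 : (1 : R) ∈ maximalIdeal R := by simpa using (maximalIdeal R).neg_mem h1
      exact (Ideal.ne_top_iff_one _).1 (Ideal.IsMaximal.ne_top inferInstance) h5
    rw [List.getElem_ofFn]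
    rw [isSMulRegular_iff_right_eq_zero_of_smul]
    intro y hy
    obtain ⟨y, rfl⟩ := Submodule.Quotient.mk_surjective _ y
    rw [← Submodule.Quotient.mk_smul, Submodule.Quotient.mk_eq_zero, hJ, smul_eq_mul] at hy
    rw [Submodule.Quotient.mk_eq_zero, hJ]
    exact (hprime.mem_or_mem hy).resolve_left hnot
  · rw [smul_eq_mul, Ideal.mul_top]
    intro htop
    have hle : Ideal.ofList (List.ofFn f) ≤ maximalIdeal R := by
      rw [Ideal.ofList, Ideal.span_le]
      intro x hx
      obtain ⟨j, rfl⟩ := (List.mem_ofFn' f x).1 hx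
      exact hf j
    exact (Ideal.IsMaximal.ne_top (inferInstance : (maximalIdeal R).IsMaximal))
      (top_le_iff.1 (htop ▸ hle))

end Groth.Agent.LibRegPar29
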