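import Mathlib
import Groth.Prelude.Def_RegImm
import Groth.Agent.LibAwayPres29

/-!
# helper29: regular-sequence presentations of principal localizations
-/

set_option autoImplicit false
set_option linter.style.haveILetI false
set_option linter.unusedSectionVars false

namespace Groth.Agent.LibRegPres29

universe u

open MvPolynomial RingTheory.Sequence

section Regular

variable {A : Type u} [CommRing A] {σ : Type*}

/-- `g·x_i - 1` is a nonzerodivisor of `A[x]`. -/
theorem isSMulRegular_mul_X_sub_one (g : MvPolynomial σ A) (i : σ) :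
    IsSMulRegular (MvPolynomial σ A) (g * X i - 1) := by
  classical
  rw [isSMulRegular_iff_right_eq_zero_of_smul]
  intro f hf
  rw [smul_eq_mul, sub_mul, one_mul, sub_eq_zero] at hf
  have hpow : ∀ k : ℕ, f = g ^ k * f * X i ^ k := by
    intro k
    induction k with
    | zero => simp
    | succ k ih =>
      calc f = g ^ k * f * X i ^ k := ih
        _ = g ^ k * (g * X i * f) * X i ^ k := by rw [hf]
        _ = g ^ (k + 1) * f * X i ^ (k + 1) := by ring
  ext m
  rw [coeff_zero]
  by_cases hm : m ∈ f.support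
  · have h1 := hpow (degreeOf i f + 1)
    have h2 : coeff m f = coeff m (g ^ (degreeOf i f + 1) * f * X i ^ (degreeOf i f + 1)) := by
      rw [← h1]
    rw [h2, X_pow_eq_monomial, coeff_mul_monomial', if_neg]
    intro hle
    have h3 := Finsupp.le_def.mp hle i
    rw [Finsupp.single_eq_same] at h3
    have h4 := monomial_le_degreeOf i hm
    omega
  · exact notMem_support_iff.mp hm

end Regular

section Away

variable {R : Type u} [CommRing R] {n c : ℕ} (f : Fin c → MvPolynomial (Fin n) R)
  (I : Ideal (MvPolynomial (Fin n) R)) (hJI : Ideal.span (Set.range f) ≤ I)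
  (h : MvPolynomial (Fin n) R)
  (hmul : ∀ b ∈ I, ∃ k : ℕ, h ^ k * b ∈ Ideal.span (Set.range f))

include hmul in
/-- if `I_h = J_h` for `J ⊆ I` then `(P/I)_h` is the localization of `P/J` away from `h`. -/
lemma isLocalization_away_of_pow_mul_mem :
    @IsLocalization.Away (MvPolynomial (Fin n) R ⧸ Ideal.span (Set.range f)) _
      (Ideal.Quotient.mk (Ideal.span (Set.range f)) h)
      (Localization.Away (Ideal.Quotient.mk I h)) _
      ((algebraMap (MvPolynomial (Fin n) R ⧸ I) (Localization.Away (Ideal.Quotient.mk I h))).comp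
        (Ideal.Quotient.factor hJI)).toAlgebra := by
  letI : Algebra (MvPolynomial (Fin n) R ⧸ Ideal.span (Set.range f))
      (Localization.Away (Ideal.Quotient.mk I h)) :=
    ((algebraMap (MvPolynomial (Fin n) R ⧸ I) (Localization.Away (Ideal.Quotient.mk I h))).comp
      (Ideal.Quotient.factor hJI)).toAlgebra
  have halg : ∀ a : MvPolynomial (Fin n) R,
      algebraMap (MvPolynomial (Fin n) R ⧸ Ideal.span (Set.range f))
        (Localization.Away (Ideal.Quotient.mk I h)) (Ideal.Quotient.mk _ a) =
      algebraMap (MvPolynomial (Fin n) R ⧸ I) (Localization.Away (Ideal.Quotient.mk I h))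
        (Ideal.Quotient.mk I a) := fun a => rfl
  refine IsLocalization.Away.mk _ ?_ ?_ ?_
  · rw [halg]
    exact IsLocalization.Away.algebraMap_isUnit _
  · intro z
    obtain ⟨k, a, hka⟩ := IsLocalization.Away.surj (Ideal.Quotient.mk I h) z
    obtain ⟨a, rfl⟩ := Ideal.Quotient.mk_surjective a
    refine ⟨k, Ideal.Quotient.mk _ a, ?_⟩
    rw [halg, halg]
    exact hka
  · intro a b hab
    obtain ⟨a, rfl⟩ := Ideal.Quotient.mk_surjective a
    obtain ⟨b, rfl⟩ := Ideal.Quotient.mk_surjective b
    rw [halg, halg] at hab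
    obtain ⟨k, hk⟩ := IsLocalization.Away.exists_of_eq (Ideal.Quotient.mk I h) hab
    rw [← map_pow, ← map_mul, ← map_mul, Ideal.Quotient.eq] at hk
    obtain ⟨k', hk'⟩ := hmul _ hk
    refine ⟨k' + k, ?_⟩
    rw [← map_pow, ← map_mul, ← map_mul, Ideal.Quotient.eq]
    have : h ^ (k' + k) * a - h ^ (k' + k) * b = h ^ k' * (h ^ k * a - h ^ k * b) := by ring
    rw [this]
    exact hk'

include hmul hJI in
theorem nonempty_away_equiv' :
    Nonempty (Localization.Away (Ideal.Quotient.mk I h) ≃ₐ[R]
      Synt.RelGCIRing R (n + 1) (c + 1) (Groth.Agent.LibAwayPres29.eqsPlus f h)) := by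
  letI : Algebra (MvPolynomial (Fin n) R ⧸ Ideal.span (Set.range f))
      (Localization.Away (Ideal.Quotient.mk I h)) :=
    ((algebraMap (MvPolynomial (Fin n) R ⧸ I) (Localization.Away (Ideal.Quotient.mk I h))).comp
      (Ideal.Quotient.factor hJI)).toAlgebra
  haveI : IsScalarTower R (MvPolynomial (Fin n) R ⧸ Ideal.span (Set.range f))
      (Localization.Away (Ideal.Quotient.mk I h)) :=
    ⟨fun r x y => by
      rw [Algebra.smul_def (r • x) y, Algebra.smul_def x y, Algebra.smul_def r x, map_mul,
        Algebra.smul_def r (_ * y), mul_assoc]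
      congr 1⟩
  haveI := isLocalization_away_of_pow_mul_mem f I hJI h hmul
  let e1 : Localization.Away (Ideal.Quotient.mk (Ideal.span (Set.range f)) h)
      ≃ₐ[MvPolynomial (Fin n) R ⧸ Ideal.span (Set.range f)]
      Localization.Away (Ideal.Quotient.mk I h) :=
    IsLocalization.algEquiv (Submonoid.powers (Ideal.Quotient.mk (Ideal.span (Set.range f)) h)) _ _
  exact ⟨(e1.restrictScalars R).symm.trans (Groth.Agent.LibAwayPres29.awayEquiv f h)⟩

end Away

section AwayBot

variable {P : Type u} [CommRing P] (J : Ideal P) (hJ : J = ⊥) (h : P)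

include hJ in
/-- for `J = ⊥`, `(P/J)_h` is the localization of `P` away from `h`. -/
lemma isLocalization_away_quotient_bot :
    IsLocalization.Away h (Localization.Away (Ideal.Quotient.mk J h)) := by
  have halg : ∀ a : P, algebraMap P (Localization.Away (Ideal.Quotient.mk J h)) a =
      algebraMap (P ⧸ J) (Localization.Away (Ideal.Quotient.mk J h)) (Ideal.Quotient.mk J a) :=
    fun a => rfl
  refine IsLocalization.Away.mk _ ?_ ?_ ?_
  · rw [halg]
    exact IsLocalization.Away.algebraMap_isUnit _
  · intro z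
    obtain ⟨k, a, hka⟩ := IsLocalization.Away.surj (Ideal.Quotient.mk J h) z
    obtain ⟨a, rfl⟩ := Ideal.Quotient.mk_surjective a
    refine ⟨k, a, ?_⟩
    rw [halg, halg]
    exact hka
  · intro a b hab
    rw [halg, halg] at hab
    obtain ⟨k, hk⟩ := IsLocalization.Away.exists_of_eq (Ideal.Quotient.mk J h) hab
    rw [← map_pow, ← map_mul, ← map_mul, Ideal.Quotient.eq, hJ, Ideal.mem_bot, sub_eq_zero] at hk
    exact ⟨k, hk⟩

end AwayBot

section AwayAway

variable {A B : Type u} [CommRing A] [CommRing B] [Algebra A B]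

/-- a basic open of a basic open is a basic open. -/
theorem exists_away_equiv_away (q : Ideal B) [q.IsPrime] (h : B)
    (qT : Ideal (Localization.Away h)) [hqTp : qT.IsPrime]
    (hqT : qT.comap (algebraMap B (Localization.Away h)) = q) (hg : h ∉ q)
    (x : Localization.Away h) (hx : x ∉ qT) :
    ∃ g : B, g ∉ q ∧ Nonempty (Localization.Away g ≃ₐ[A] Localization.Away x) := by
  obtain ⟨k, a, hka⟩ := IsLocalization.Away.surj h x
  have hu : IsUnit (algebraMap B (Localization.Away h) h) := IsLocalization.Away.algebraMap_isUnit h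
  have hgT : algebraMap B (Localization.Away h) h ∉ qT := by
    intro hmem
    apply hg
    rw [← hqT, Ideal.mem_comap]
    exact hmem
  have ha : a ∉ q := by
    intro haq
    rw [← hqT, Ideal.mem_comap, ← hka] at haq
    rcases hqTp.mem_or_mem haq with h' | h'
    · exact hx h'
    · exact hgT (hqTp.mem_of_pow_mem _ h')
  have hassoc : Associated (algebraMap B (Localization.Away h) a) x := by
    refine Associated.symm ⟨(hu.unit) ^ k, ?_⟩
    rw [← hka]
    simp
  haveI : IsLocalization.Away (h * a) (Localization.Away x) :=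
    IsLocalization.Away.mul_of_associated h a x hassoc
  refine ⟨h * a, ?_, ⟨?_⟩⟩
  · intro hmem
    rcases (inferInstance : q.IsPrime).mem_or_mem hmem with h' | h'
    · exact hg h'
    · exact ha h'
  · exact (IsLocalization.algEquiv (Submonoid.powers (h * a)) (Localization.Away (h * a))
      (Localization.Away x)).restrictScalars A

end AwayAway

section Core

open Groth.Agent.LibAwayPres29 Pointwise

variable {A : Type u} [CommRing A] {n : ℕ} (g₀ : MvPolynomial (Fin n) A)
  (ks : List (MvPolynomial (Fin n) A))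

/-- the relation `g₀·x_{n+1} - 1`. -/
noncomputable def rel : MvPolynomial (Fin (n + 1)) A :=
  rename Fin.castSucc g₀ * X (Fin.last n) - 1

/-- a sequence which is regular on `A[x]_{g₀}` gives the regular sequence
`(g₀ y - 1, ks)` of `A[x, y]`. -/
theorem isRegular_cons_rename
    (hreg : ∀ (B : Type u) [CommRing B] [Algebra (MvPolynomial (Fin n) A) B]
      [IsLocalization.Away g₀ B], IsRegular B (ks.map (algebraMap (MvPolynomial (Fin n) A) B))) :
    IsRegular (MvPolynomial (Fin (n + 1)) A) (rel g₀ :: ks.map (rename Fin.castSucc)) := by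
  rw [isRegular_cons_iff]
  refine ⟨isSMulRegular_mul_X_sub_one _ _, ?_⟩
  let F₀ : Fin 0 → MvPolynomial (Fin n) A := Fin.elim0
  have hJ₀ : Ideal.span (Set.range F₀) = ⊥ := by
    rw [Set.range_eq_empty, Ideal.span_empty]
  haveI : IsLocalization.Away g₀
      (Localization.Away (Ideal.Quotient.mk (Ideal.span (Set.range F₀)) g₀)) :=
    isLocalization_away_quotient_bot _ hJ₀ g₀
  have hL := hreg (Localization.Away (Ideal.Quotient.mk (Ideal.span (Set.range F₀)) g₀))
  have hrange : Ideal.span (Set.range (eqsPlus F₀ g₀)) = Ideal.span {rel g₀} := by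
    congr 1
    ext x
    constructor
    · rintro ⟨i, rfl⟩
      have : i = Fin.last 0 := Fin.ext (by have := i.isLt; simp only [Fin.val_last]; omega)
      subst this
      rw [eqsPlus_last]
      rfl
    · intro hx
      rw [Set.mem_singleton_iff] at hx
      subst hx
      exact ⟨Fin.last 0, eqsPlus_last F₀ g₀⟩
  have hsub : (rel g₀ • ⊤ : Submodule (MvPolynomial (Fin (n + 1)) A)
      (MvPolynomial (Fin (n + 1)) A)) = Ideal.span (Set.range (eqsPlus F₀ g₀)) := by
    rw [hrange, ← Submodule.ideal_span_singleton_smul, smul_eq_mul, Ideal.mul_top]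
  let e₁ : QuotSMulTop (rel g₀) (MvPolynomial (Fin (n + 1)) A) ≃ₗ[MvPolynomial (Fin (n + 1)) A]
      (MvPolynomial (Fin (n + 1)) A ⧸ Ideal.span (Set.range (eqsPlus F₀ g₀))) :=
    Submodule.quotEquivOfEq _ _ hsub
  let e : QuotSMulTop (rel g₀) (MvPolynomial (Fin (n + 1)) A) ≃+
      Localization.Away (Ideal.Quotient.mk (Ideal.span (Set.range F₀)) g₀) :=
    e₁.toAddEquiv.trans (awayEquiv F₀ g₀).symm.toAddEquiv
  refine (e.isRegular_congr ?_).mpr hL
  rw [List.forall₂_map_left_iff, List.forall₂_map_right_iff]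
  apply List.forall₂_same.mpr
  intro k _ x
  obtain ⟨y, rfl⟩ := Submodule.Quotient.mk_surjective _ x
  have hk : (awayEquiv F₀ g₀).symm (Ideal.Quotient.mk _ (rename Fin.castSucc k)) =
      algebraMap (MvPolynomial (Fin n) A)
        (Localization.Away (Ideal.Quotient.mk (Ideal.span (Set.range F₀)) g₀)) k := by
    rw [AlgEquiv.symm_apply_eq]
    change _ = fwd F₀ g₀ (algebraMap (Synt.RelGCIRing A n 0 F₀) _ (Ideal.Quotient.mk _ k))
    rw [fwd_algebraMap, alpha_mk]
  change (awayEquiv F₀ g₀).symm (e₁ (rename Fin.castSucc k • Submodule.Quotient.mk y)) =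
    algebraMap _ _ k • (awayEquiv F₀ g₀).symm (e₁ (Submodule.Quotient.mk y))
  rw [← Submodule.Quotient.mk_smul, smul_eq_mul (a := rename Fin.castSucc k)]
  change (awayEquiv F₀ g₀).symm (Ideal.Quotient.mk _ (rename Fin.castSucc k * y)) =
    algebraMap _ _ k • (awayEquiv F₀ g₀).symm (Ideal.Quotient.mk _ y)
  rw [map_mul, map_mul, hk, smul_eq_mul]

end Core

end Groth.Agent.LibRegPres29
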