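import Mathlib
import Groth.Agent.Lib.Helper26.AffEquidim

/-!
# Dimension count for local generators of a complete intersection ideal over a field (helper29)

`le_card_of_local_generators` : if `k[x₁..xₙ]/(F₁..F_c)` has dimension `n - c` (`c ≤ n`), `Q ⊇ (F)`
is a prime and `(F)` is generated near `Q` by `m` elements, then `c ≤ m`.
-/

set_option autoImplicit false
universe u

namespace Groth.Agent.LibRelGCIDim29

open Groth.Agent.Lib.helper26.DimFormula

theorem le_card_of_local_generators (k : Type u) [Field k] (n c : ℕ) (hcn : c ≤ n)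
    (Fb : Fin c → MvPolynomial (Fin n) k)
    (hdim : ringKrullDim (MvPolynomial (Fin n) k ⧸ Ideal.span (Set.range Fb)) =
      ((n - c : ℕ) : WithBot ℕ∞))
    (Q : Ideal (MvPolynomial (Fin n) k)) [Q.IsPrime] (hQ : Ideal.span (Set.range Fb) ≤ Q)
    (m : ℕ) (f : Fin m → MvPolynomial (Fin n) k) (hf : ∀ i, f i ∈ Ideal.span (Set.range Fb))
    (g : MvPolynomial (Fin n) k) (hg : g ∉ Q)
    (hgF : ∀ l, g * Fb l ∈ Ideal.span (Set.range f)) : c ≤ m := by
  classical
  have hJ : Ideal.span (Set.range f) ≤ Ideal.span (Set.range Fb) := by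
    rw [Ideal.span_le]; rintro _ ⟨i, rfl⟩; exact hf i
  obtain ⟨r, hrmin, hrQ⟩ := Ideal.exists_minimalPrimes_le (hJ.trans hQ)
  have hrp : r.IsPrime := hrmin.1.1
  -- height bound
  have hht : r.height ≤ m := by
    have h1 : r ∈ (Ideal.span ((Finset.univ.image f : Finset _) : Set (MvPolynomial (Fin n) k))).minimalPrimes := by
      convert hrmin using 2
      ext x; simp
    refine (Ideal.height_le_card_of_mem_minimalPrimes_span_finset h1).trans ?_
    exact_mod_cast (Finset.card_image_le.trans (by simp))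
  -- `(F) ≤ r`
  have hgr : g ∉ r := fun h => hg (hrQ h)
  have hIr : Ideal.span (Set.range Fb) ≤ r := by
    rw [Ideal.span_le]
    rintro _ ⟨l, rfl⟩
    have h2 : g * Fb l ∈ r := hrmin.1.2 (hgF l)
    exact (hrp.mem_or_mem h2).resolve_left hgr
  -- dimension of the quotient by `r`
  have hsurj : ringKrullDim (MvPolynomial (Fin n) k ⧸ r) ≤
      ringKrullDim (MvPolynomial (Fin n) k ⧸ Ideal.span (Set.range Fb)) :=
    ringKrullDim_le_of_surjective (Ideal.Quotient.factor hIr)
      (Ideal.Quotient.factor_surjective hIr)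
  have hform := height_add_dim_quotient_of_domain k (MvPolynomial (Fin n) k) r
  have hdimP : ringKrullDim (MvPolynomial (Fin n) k) = (n : WithBot ℕ∞) := by
    rw [MvPolynomial.ringKrullDim_of_isNoetherianRing, ringKrullDim_eq_zero_of_field]
    simp
  rw [hdimP] at hform
  rw [hdim] at hsurj
  obtain ⟨h, hh⟩ := ENat.ne_top_iff_exists.mp (Ideal.height_ne_top_of_isPrime (I := r))
  rw [← hh] at hform hht
  have hht' : h ≤ m := by exact_mod_cast hht
  -- `n = h + dim ≤ h + (n - c)`
  have h3 : (n : WithBot ℕ∞) ≤ ((h + (n - c) : ℕ) : WithBot ℕ∞) := by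
    rw [← hform]
    push_cast
    gcongr
  have h4 : n ≤ h + (n - c) := by exact_mod_cast h3
  omega

end Groth.Agent.LibRelGCIDim29
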