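import Mathlib
import Groth.Prelude.Def_RegImm
import Groth.Prelude.Def_Flat
import Groth.Agent.LibRelGCI29
import Groth.Agent.LibEquidimCI29
import Groth.Agent.LibEquidimLocalDim29
import Groth.Agent.LibFibreDimBridge29

/-!
# Local dimension of the fibres of `R[x]/(F)` (helper29)
-/

set_option autoImplicit false
universe u

namespace Groth.Agent.LibRelGCIFibreDim29

open AlgebraicGeometry CategoryTheory FlatMor Groth.Agent.LibRelGCI29
  Groth.Agent.Lib.helper5.FibreDimLocal

variable (R : Type u) [CommRing R] (n c : ℕ) (F : Fin c → MvPolynomial (Fin n) R)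

/-- if the fibre of `R[x]/(F)` over `p` has dimension `n - c`, then it has local dimension
`n - c` at every point. -/
theorem localDim_fiber_eq (p : Ideal R) [p.IsPrime]
    (hdim : ringKrullDim (p.Fiber (Synt.RelGCIRing R n c F)) = ((n - c : ℕ) : WithBot ℕ∞))
    (Q : PrimeSpectrum (p.Fiber (Synt.RelGCIRing R n c F))) :
    localDim (PrimeSpectrum (p.Fiber (Synt.RelGCIRing R n c F))) Q = ((n - c : ℕ) : WithBot ℕ∞) := by
  let e := tensorEquiv p.ResidueField F
  let φ : PrimeSpectrum (p.Fiber (Synt.RelGCIRing R n c F)) ≃ₜ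
      PrimeSpectrum (MvPolynomial (Fin n) p.ResidueField ⧸
        Ideal.span (Set.range (Fbar p.ResidueField F))) :=
    PrimeSpectrum.homeomorphOfRingEquiv e.toRingEquiv
  rw [localDim_eq_of_isOpenEmbedding φ φ.isOpenEmbedding Q]
  have hdim' : ringKrullDim (MvPolynomial (Fin n) p.ResidueField ⧸
      Ideal.span (Set.range (Fbar p.ResidueField F))) = ((n - c : ℕ) : WithBot ℕ∞) := by
    rw [← hdim]
    exact (ringKrullDim_eq_of_ringEquiv e.toRingEquiv).symm
  exact Groth.Agent.LibEquidimLocalDim29.localDim_eq_of_equidim p.ResidueField _ (n - c)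
    (Groth.Agent.LibEquidimCI29.dim_quotient_minimalPrimes_eq p.ResidueField n c _ hdim') (φ Q)

/-- the fibre dimension of a relative global complete intersection is `n - c` everywhere. -/
theorem fibreDimAt_eq (hF : Synt.IsRelGCI R n c F)
    (x : PrimeSpectrum (Synt.RelGCIRing R n c F)) :
    fibreDimAt (Spec.map (CommRingCat.ofHom (algebraMap R (Synt.RelGCIRing R n c F)))) x =
      ((n - c : ℕ) : WithBot ℕ∞) := by
  rw [Groth.Agent.LibFibreDimBridge29.fibreDimAt_eq_localDim_fiber]
  set Q := PrimeSpectrum.preimageHomeomorphFiber R (Synt.RelGCIRing R n c F)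
    (PrimeSpectrum.comap (algebraMap R (Synt.RelGCIRing R n c F)) x) ⟨x, rfl⟩
  have hnt : Nontrivial ((PrimeSpectrum.comap (algebraMap R (Synt.RelGCIRing R n c F)) x).asIdeal.Fiber
      (Synt.RelGCIRing R n c F)) := by
    refine ⟨⟨0, 1, fun h01 => Q.2.ne_top ((Ideal.eq_top_iff_one _).mpr ?_)⟩⟩
    rw [← h01]
    exact Q.asIdeal.zero_mem
  obtain ⟨-, hdim⟩ := hF _ hnt
  exact localDim_fiber_eq R n c F _ hdim Q

end Groth.Agent.LibRelGCIFibreDim29
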