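import Mathlib
import Groth.Prelude.Def_Exal
import Groth.Agent.LibRigid29a

/-!
# Rigid algebras: every flat deformation over an Artinian base has a section (ring level; seat helper29)
-/

set_option autoImplicit false
universe u
open Module

namespace Groth.Agent.LibRigid29

variable {k A B B' : Type u} [Field k] [CommRing A] [Algebra k A] [CommRing B] [Algebra k B]
  [CommRing B'] [Algebra A B'] [Algebra k B'] [IsScalarTower k A B']

/-- the extended ideal -/
abbrev J (B' : Type u) [CommRing B'] [Algebra A B'] (𝔞 : Ideal A) : Ideal B' := 𝔞.map (algebraMap A B')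

/-- the property: there is a section modulo `𝔞 B'` -/
def P (β : B' →ₐ[k] B) (𝔞 : Ideal A) : Prop :=
  ∃ s : B →ₐ[k] (B' ⧸ J B' 𝔞), ∀ b, ∃ b', Ideal.Quotient.mk (J B' 𝔞) b' = s b ∧ β b' = b

section

variable (e : A →ₐ[k] k) (β : B' →ₐ[k] B) (hβ : Function.Surjective β)
  (hker : RingHom.ker β ≤ (RingHom.ker e).map (algebraMap A B'))
  (hcomm : ∀ a, β (algebraMap A B' a) = algebraMap k B (e a))

include hker hcomm in
lemma ker_eq : RingHom.ker β = J B' (RingHom.ker e) := by
  refine le_antisymm hker ?_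
  rw [Ideal.map_le_iff_le_comap]
  intro a ha
  rw [Ideal.mem_comap, RingHom.mem_ker]
  change β (algebraMap A B' a) = 0
  rw [hcomm, (RingHom.mem_ker).mp ha, map_zero]

include hker hcomm in
lemma beta_eq_of_mk_eq (𝔞 : Ideal A) (h𝔞 : 𝔞 ≤ RingHom.ker e) (x y : B')
    (h : Ideal.Quotient.mk (J B' 𝔞) x = Ideal.Quotient.mk (J B' 𝔞) y) : β x = β y := by
  rw [Ideal.Quotient.eq] at h
  have h1 : x - y ∈ RingHom.ker β := by
    rw [ker_eq e β hker hcomm]
    exact Ideal.map_mono h𝔞 h
  rw [RingHom.mem_ker, map_sub, sub_eq_zero] at h1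
  exact h1

include hβ hker hcomm in
/-- the base case: a section modulo the maximal ideal -/
lemma P_ker : P β (RingHom.ker e : Ideal A) := by
  have hmk : ∀ x y : B', β x = β y →
      Ideal.Quotient.mk (J B' (RingHom.ker e : Ideal A)) x = Ideal.Quotient.mk (J B' (RingHom.ker e : Ideal A)) y := by
    intro x y hxy
    rw [Ideal.Quotient.eq, ← ker_eq e β hker hcomm, RingHom.mem_ker, map_sub, hxy, sub_self]
  have hinv : ∀ b, β (Function.surjInv hβ b) = b := Function.surjInv_eq hβ
  let s : B →ₐ[k] (B' ⧸ J B' (RingHom.ker e : Ideal A)) :=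
    { toFun := fun b => Ideal.Quotient.mk _ (Function.surjInv hβ b)
      map_one' := by
        rw [← map_one (Ideal.Quotient.mk (J B' (RingHom.ker e : Ideal A)))]
        apply hmk
        rw [hinv, map_one]
      map_mul' := fun b c => by
        rw [← map_mul (Ideal.Quotient.mk (J B' (RingHom.ker e : Ideal A)))]
        apply hmk
        rw [map_mul, hinv, hinv, hinv]
      map_zero' := by
        rw [← map_zero (Ideal.Quotient.mk (J B' (RingHom.ker e : Ideal A)))]
        apply hmk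
        rw [hinv, map_zero]
      map_add' := fun b c => by
        rw [← map_add (Ideal.Quotient.mk (J B' (RingHom.ker e : Ideal A)))]
        apply hmk
        rw [map_add, hinv, hinv, hinv]
      commutes' := fun c => by
        change Ideal.Quotient.mk _ (Function.surjInv hβ (algebraMap k B c)) =
          Ideal.Quotient.mk (J B' (RingHom.ker e : Ideal A)) (algebraMap k B' c)
        apply hmk
        rw [hinv, AlgHom.commutes] }
  exact ⟨s, fun b => ⟨Function.surjInv hβ b, rfl, hinv b⟩⟩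

include hβ hker hcomm in
/-- the inductive step: lifting a section through a one-step thickening, using rigidity -/
theorem P_step [Module.Flat A B'] (hT : ∀ E : Exal.Ext k B B, E.IsTrivial)
    (𝔞 𝔞' : Ideal A) (t : A) (h𝔞 : 𝔞 ≤ RingHom.ker e) (h' : 𝔞' ≤ 𝔞) (ht : t ∈ 𝔞) (ht' : t ∉ 𝔞')
    (hsup : 𝔞 ≤ 𝔞' ⊔ Ideal.span {t}) (hm : ∀ a ∈ RingHom.ker e, a * t ∈ 𝔞')
    (hP : P β 𝔞) : P β 𝔞' := by
  obtain ⟨s, hs⟩ := hP
  have hJ : J B' 𝔞' ≤ J B' 𝔞 := Ideal.map_mono h'
  let fac : (B' ⧸ J B' 𝔞') →ₐ[k] (B' ⧸ J B' 𝔞) := Ideal.Quotient.factorₐ k hJ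
  have hfac : ∀ x, fac (Ideal.Quotient.mk (J B' 𝔞') x) = Ideal.Quotient.mk (J B' 𝔞) x := fun x => rfl
  -- the colon property
  have hcolon : ∀ a, t * a ∈ 𝔞' → a ∈ RingHom.ker e := by
    intro a ha
    by_contra hne
    have hea : e a ≠ 0 := hne
    have h1 : a - algebraMap k A (e a) ∈ RingHom.ker e := by
      rw [RingHom.mem_ker, map_sub, AlgHom.commutes, Algebra.algebraMap_self, RingHom.id_apply, sub_self]
    have h2 : (a - algebraMap k A (e a)) * t ∈ 𝔞' := hm _ h1
    have h3 : algebraMap k A (e a) * t ∈ 𝔞' := by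
      have h5 : algebraMap k A (e a) * t = t * a - (a - algebraMap k A (e a)) * t := by ring
      rw [h5]
      exact 𝔞'.sub_mem ha h2
    apply ht'
    have h4 : t = algebraMap k A (e a)⁻¹ * (algebraMap k A (e a) * t) := by
      rw [← mul_assoc, ← map_mul, inv_mul_cancel₀ hea, map_one, one_mul]
    rw [h4]
    exact 𝔞'.mul_mem_left _ h3
  have hinv : ∀ b, β (Function.surjInv hβ b) = b := Function.surjInv_eq hβ
  have hle : Ideal.span {t} * RingHom.ker e ≤ 𝔞' := by
    rw [Ideal.mul_le]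
    intro r hr a ha
    obtain ⟨c, rfl⟩ := Ideal.mem_span_singleton'.mp hr
    have h1 : c * t * a = c * (a * t) := by ring
    rw [h1]
    exact 𝔞'.mul_mem_left _ (hm a ha)
  have htJ : ∀ z ∈ J B' (RingHom.ker e : Ideal A), algebraMap A B' t * z ∈ J B' 𝔞' := by
    intro z hz
    have h1 : algebraMap A B' t * z ∈ (Ideal.span {t}).map (algebraMap A B') * J B' (RingHom.ker e : Ideal A) :=
      Ideal.mul_mem_mul (Ideal.mem_map_of_mem _ (Ideal.mem_span_singleton_self t)) hz
    rw [← Ideal.map_mul] at h1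
    exact Ideal.map_mono hle h1
  have hτ0 : ∀ x y : B', β x = β y →
      Ideal.Quotient.mk (J B' 𝔞') (algebraMap A B' t * x) = Ideal.Quotient.mk (J B' 𝔞') (algebraMap A B' t * y) := by
    intro x y hxy
    rw [Ideal.Quotient.eq, ← mul_sub]
    apply htJ
    rw [← ker_eq e β hker hcomm, RingHom.mem_ker, map_sub, hxy, sub_self]
  let τ : B →+ (B' ⧸ J B' 𝔞') :=
    AddMonoidHom.mk' (fun b => Ideal.Quotient.mk (J B' 𝔞') (algebraMap A B' t * Function.surjInv hβ b))
      (fun b c => by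
        rw [← map_add, ← mul_add]
        apply hτ0
        rw [map_add, hinv, hinv, hinv])
  have hτ : ∀ b', τ (β b') = Ideal.Quotient.mk (J B' 𝔞') (algebraMap A B' t * b') :=
    fun b' => hτ0 _ _ (hinv (β b'))
  have hfacτ : ∀ b, fac (τ b) = 0 := by
    intro b
    change fac (Ideal.Quotient.mk (J B' 𝔞') (algebraMap A B' t * Function.surjInv hβ b)) = 0
    rw [hfac, Ideal.Quotient.eq_zero_iff_mem]
    exact Ideal.mul_mem_right _ _ (Ideal.mem_map_of_mem _ ht)
  -- the fibre product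
  let φ1 : (B × (B' ⧸ J B' 𝔞')) →ₐ[k] (B' ⧸ J B' 𝔞) := s.comp (AlgHom.fst k B (B' ⧸ J B' 𝔞'))
  let φ2 : (B × (B' ⧸ J B' 𝔞')) →ₐ[k] (B' ⧸ J B' 𝔞) := fac.comp (AlgHom.snd k B (B' ⧸ J B' 𝔞'))
  let E : Subalgebra k (B × (B' ⧸ J B' 𝔞')) := AlgHom.equalizer φ1 φ2
  have hmemE : ∀ z : B × (B' ⧸ J B' 𝔞'), z ∈ E ↔ s z.1 = fac z.2 := fun z => Iff.rfl
  let proj : E →ₐ[k] B := (AlgHom.fst k B (B' ⧸ J B' 𝔞')).comp E.val
  let incl : B →+ E :=
    { toFun := fun b => ⟨(0, τ b), (hmemE _).mpr (by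
        change s 0 = fac (τ b)
        rw [hfacτ, map_zero])⟩
      map_zero' := Subtype.ext (Prod.ext rfl (map_zero τ))
      map_add' := fun b c => Subtype.ext (Prod.ext (zero_add (0 : B)).symm (map_add τ b c)) }
  have hβE : ∀ (z : E) (y' : B'), Ideal.Quotient.mk (J B' 𝔞') y' = (z : B × (B' ⧸ J B' 𝔞')).2 →
      β y' = (z : B × (B' ⧸ J B' 𝔞')).1 := by
    intro z y' hy'
    have hz : s (z : B × (B' ⧸ J B' 𝔞')).1 = fac (z : B × (B' ⧸ J B' 𝔞')).2 := (hmemE _).mp z.2
    obtain ⟨b'', hb1, hb2⟩ := hs (z : B × (B' ⧸ J B' 𝔞')).1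
    rw [← hy', hfac, ← hb1] at hz
    rw [← hb2]
    exact (beta_eq_of_mk_eq e β hker hcomm 𝔞 h𝔞 _ _ hz).symm
  let X : Exal.Ext k B B :=
    { E := E
      proj := proj
      incl := incl
      isExtension :=
        { proj_surjective := by
            intro b
            obtain ⟨b', hb1, hb2⟩ := hs b
            refine ⟨⟨(b, Ideal.Quotient.mk (J B' 𝔞') b'), (hmemE _).mpr ?_⟩, rfl⟩
            change s b = fac (Ideal.Quotient.mk (J B' 𝔞') b')
            rw [hfac, hb1]
          incl_injective := by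
            intro b c hbc
            have h1 : τ b = τ c := congrArg (fun z : E => (z : B × (B' ⧸ J B' 𝔞')).2) hbc
            have h2 : τ (b - c) = 0 := by rw [map_sub, h1, sub_self]
            obtain ⟨d, hd⟩ := hβ (b - c)
            rw [← hd, hτ, Ideal.Quotient.eq_zero_iff_mem] at h2
            have h3 : t • d ∈ 𝔞' • (⊤ : Submodule A B') := by
              rw [Ideal.smul_top_eq_map, Algebra.smul_def]
              exact h2
            have h4 := mem_smul_top_of_flat 𝔞' (RingHom.ker e : Ideal A) t hcolon d h3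
            rw [Ideal.smul_top_eq_map] at h4
            have h5 : d ∈ RingHom.ker β := by
              rw [ker_eq e β hker hcomm]
              exact h4
            rw [RingHom.mem_ker] at h5
            have h6 : b - c = 0 := by rw [← hd]; exact h5
            exact sub_eq_zero.mp h6
          exact := by
            intro z
            constructor
            · intro hz
              have hz1 : (z : B × (B' ⧸ J B' 𝔞')).1 = 0 := hz
              obtain ⟨y', hy'⟩ := Ideal.Quotient.mk_surjective (z : B × (B' ⧸ J B' 𝔞')).2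
              have hz2 : s (z : B × (B' ⧸ J B' 𝔞')).1 = fac (z : B × (B' ⧸ J B' 𝔞')).2 := (hmemE _).mp z.2
              rw [hz1, map_zero, ← hy', hfac] at hz2
              have h1 : y' ∈ J B' 𝔞 := Ideal.Quotient.eq_zero_iff_mem.mp hz2.symm
              have h2 : y' ∈ J B' 𝔞' ⊔ Ideal.span {algebraMap A B' t} := by
                have h3 := Ideal.map_mono (f := algebraMap A B') hsup h1
                rw [Ideal.map_sup, Ideal.map_span, Set.image_singleton] at h3
                exact h3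
              obtain ⟨u, hu, w, hw, huw⟩ := Submodule.mem_sup.mp h2
              obtain ⟨d, rfl⟩ := Ideal.mem_span_singleton'.mp hw
              refine ⟨β d, Subtype.ext (Prod.ext hz1.symm ?_)⟩
              change τ (β d) = (z : B × (B' ⧸ J B' 𝔞')).2
              rw [hτ, ← hy', ← huw, map_add, Ideal.Quotient.eq_zero_iff_mem.mpr hu, zero_add, mul_comm]
            · rintro ⟨b, rfl⟩
              rfl
          mul_incl := by
            intro z b
            apply Subtype.ext
            apply Prod.ext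
            · change (z : B × (B' ⧸ J B' 𝔞')).1 * 0 = 0
              rw [mul_zero]
            · change (z : B × (B' ⧸ J B' 𝔞')).2 * τ b = τ ((z : B × (B' ⧸ J B' 𝔞')).1 * b)
              obtain ⟨y', hy'⟩ := Ideal.Quotient.mk_surjective (z : B × (B' ⧸ J B' 𝔞')).2
              obtain ⟨d, rfl⟩ := hβ b
              have h1 := hβE z y' hy'
              rw [← h1, ← map_mul, hτ, hτ, ← hy', ← map_mul]
              congr 1
              ring } }
  obtain ⟨σ, hσ⟩ := hT X
  refine ⟨(AlgHom.snd k B (B' ⧸ J B' 𝔞')).comp (E.val.comp σ), fun b => ?_⟩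
  obtain ⟨y', hy'⟩ := Ideal.Quotient.mk_surjective ((σ b : E) : B × (B' ⧸ J B' 𝔞')).2
  refine ⟨y', hy', ?_⟩
  rw [hβE (σ b) y' hy']
  exact hσ b

include hβ hker hcomm in
/-- descending induction over ideals: from a section modulo `𝔞 B'` to a section modulo `0` -/
theorem P_bot_of_P [IsArtinianRing A] [Module.Flat A B'] (hT : ∀ E : Exal.Ext k B B, E.IsTrivial)
    (n : ℕ) (hn : (RingHom.ker e : Ideal A) ^ n = ⊥) :
    ∀ 𝔞 : Ideal A, 𝔞 ≤ RingHom.ker e → P β 𝔞 → P β (⊥ : Ideal A) := by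
  intro 𝔞
  induction 𝔞 using WellFoundedLT.induction with
  | ind 𝔞 ih =>
    intro h𝔞 hP
    by_cases h0 : 𝔞 = ⊥
    · rw [h0] at hP
      exact hP
    · have hlt : (RingHom.ker e : Ideal A) * 𝔞 < 𝔞 := by
        refine lt_of_le_of_ne Ideal.mul_le_right ?_
        intro heq
        apply h0
        have hj : ∀ j : ℕ, (RingHom.ker e : Ideal A) ^ j * 𝔞 = 𝔞 := by
          intro j
          induction j with
          | zero => rw [pow_zero, Ideal.one_eq_top, Ideal.top_mul]
          | succ j ihj => rw [pow_succ, mul_assoc, heq, ihj]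
        rw [← hj n, hn, Ideal.bot_mul]
      let S : Set (Ideal A) := {𝔠 | (RingHom.ker e : Ideal A) * 𝔞 ≤ 𝔠 ∧ 𝔠 < 𝔞}
      have hS : S.Nonempty := ⟨(RingHom.ker e : Ideal A) * 𝔞, le_rfl, hlt⟩
      obtain ⟨𝔞', h𝔞'S, hmax⟩ := wellFounded_gt.has_min S hS
      obtain ⟨t, ht, ht'⟩ := SetLike.exists_of_lt h𝔞'S.2
      have hsup : 𝔞 ≤ 𝔞' ⊔ Ideal.span {t} := by
        by_contra hns
        have h1 : 𝔞' ⊔ Ideal.span {t} ≤ 𝔞 :=
          sup_le h𝔞'S.2.le ((Ideal.span_singleton_le_iff_mem _).mpr ht)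
        have h2 : 𝔞' ⊔ Ideal.span {t} < 𝔞 := lt_of_le_not_ge h1 hns
        have h3 : 𝔞' ⊔ Ideal.span {t} ∈ S := ⟨le_trans h𝔞'S.1 le_sup_left, h2⟩
        apply hmax _ h3
        exact lt_of_le_not_ge le_sup_left
          (fun h => ht' (h (Ideal.mem_sup_right (Ideal.mem_span_singleton_self t))))
      have hm : ∀ a ∈ RingHom.ker e, a * t ∈ 𝔞' := fun a ha => h𝔞'S.1 (Ideal.mul_mem_mul ha ht)
      have hP' := P_step e β hβ hker hcomm hT 𝔞 𝔞' t h𝔞 h𝔞'S.2.le ht ht' hsup hm hP
      exact ih 𝔞' h𝔞'S.2 (le_trans h𝔞'S.2.le h𝔞) hP'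

include hβ hker hcomm in
/-- **Rigid algebras**: if every square-zero extension of `B` by `B` is trivial, then every flat deformation `B'` of `B`
over an Artinian base `A` with nilpotent augmentation ideal has a `k`-algebra section. -/
theorem exists_section_of_rigid [IsArtinianRing A] [Module.Flat A B'] (hT : ∀ E : Exal.Ext k B B, E.IsTrivial)
    (n : ℕ) (hn : (RingHom.ker e : Ideal A) ^ n = ⊥) :
    ∃ s : B →ₐ[k] B', ∀ b, β (s b) = b := by
  obtain ⟨s, hs⟩ := P_bot_of_P e β hβ hker hcomm hT n hn (RingHom.ker e) le_rfl (P_ker e β hβ hker hcomm)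
  have hbot : J B' (⊥ : Ideal A) = ⊥ := Ideal.map_bot
  let ε : (B' ⧸ J B' (⊥ : Ideal A)) ≃ₐ[k] B' :=
    (Ideal.quotientEquivAlgOfEq k hbot).trans (AlgEquiv.quotientBot k B')
  refine ⟨ε.toAlgHom.comp s, fun b => ?_⟩
  obtain ⟨b', hb1, hb2⟩ := hs b
  change β (ε (s b)) = b
  rw [← hb1]
  change β b' = b
  exact hb2

end

end Groth.Agent.LibRigid29
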