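import Groth.Agent.LibAffDef29f
import Groth.Agent.LibRigid29b

/-!
# Rigid affine schemes: every flat deformation over an Artinian base is trivial (scheme level; seat helper29)
-/

set_option autoImplicit false
universe u
open CategoryTheory CategoryTheory.Limits AlgebraicGeometry

namespace Groth.Agent.LibRigid29

open Groth.Agent.LibAffDef29

lemma toΓ_SpecMap_comp_ΓSpecIso {R S : Type u} [CommRing R] [CommRing S] (φ : CommRingCat.of R ⟶ CommRingCat.of S) :
    toΓ (Spec.map φ) ≫ (Scheme.ΓSpecIso (CommRingCat.of S)).hom = φ := by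
  rw [toΓ, Category.assoc, Scheme.ΓSpecIso_naturality, Iso.inv_hom_id_assoc]

theorem exists_retraction_of_rigid {k : Type u} [Field k] (B₀ : Type u) [CommRing B₀] [Algebra k B₀]
    (hT : ∀ E : Exal.Ext k B₀ B₀, E.IsTrivial)
    {A : Type u} [CommRing A] [Algebra k A] [IsArtinianRing A] (e : A →ₐ[k] k) (n : ℕ)
    (hn : (RingHom.ker e) ^ n = ⊥)
    {X' : Scheme.{u}} (g : X' ⟶ Spec (CommRingCat.of A)) [Flat g] (i : Spec (CommRingCat.of B₀) ⟶ X')
    (hsq : IsPullback i (Spec.map (CommRingCat.ofHom (algebraMap k B₀))) g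
      (Spec.map (CommRingCat.ofHom e.toRingHom))) :
    ∃ ρ : X' ⟶ Spec (CommRingCat.of B₀), i ≫ ρ = 𝟙 _ ∧
      IsPullback ρ g (Spec.map (CommRingCat.ofHom (algebraMap k B₀)))
        (Spec.map (CommRingCat.ofHom (algebraMap k A))) := by
  set hX : Spec (CommRingCat.of B₀) ⟶ Spec (CommRingCat.of k) :=
    Spec.map (CommRingCat.ofHom (algebraMap k B₀)) with hXdef
  have he : Function.Surjective e.toRingHom := fun c => ⟨algebraMap k A c, by simp⟩
  have hnil : RingHom.ker e.toRingHom ≤ nilradical A := by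
    intro x hx
    have h1 : x ^ n ∈ (RingHom.ker e) ^ n := Ideal.pow_mem_pow hx n
    rw [hn] at h1
    exact ⟨n, h1⟩
  haveI : IsAffine X' := isAffine_total e.toRingHom hX g i hsq he hnil
  have hpo := isPushout_rings e.toRingHom hX g i hsq
  -- algebra structures
  letI : Algebra A Γ(X', ⊤) := (toΓ g).hom.toAlgebra
  letI : Algebra k Γ(X', ⊤) := ((toΓ g).hom.comp (algebraMap k A)).toAlgebra
  haveI : IsScalarTower k A Γ(X', ⊤) := IsScalarTower.of_algebraMap_eq' rfl
  have hw : ∀ a : A, i.appTop.hom ((toΓ g).hom a) = (toΓ hX).hom (e a) := by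
    intro a
    have := congrArg (fun φ => φ.hom a) hpo.w
    exact this
  haveI : Module.Flat A Γ(X', ⊤) := by
    have h1 : g.appTop.hom.Flat := Scheme.Hom.flat_appTop g
    have h2 : (Scheme.ΓSpecIso (CommRingCat.of A)).inv.hom.Flat :=
      RingHom.Flat.of_bijective (ConcreteCategory.bijective_of_isIso _)
    exact RingHom.Flat.comp h2 h1
  have hγ : ∀ c : k, (Scheme.ΓSpecIso (CommRingCat.of B₀)).hom.hom ((toΓ hX).hom c) = algebraMap k B₀ c := by
    intro c
    have h1 := toΓ_SpecMap_comp_ΓSpecIso (CommRingCat.ofHom (algebraMap k B₀))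
    exact congrArg (fun φ => φ.hom c) h1
  have hγinj : Function.Injective (Scheme.ΓSpecIso (CommRingCat.of B₀)).hom.hom :=
    (ConcreteCategory.bijective_of_isIso (Scheme.ΓSpecIso (CommRingCat.of B₀)).hom).1
  have hγsurj : Function.Surjective (Scheme.ΓSpecIso (CommRingCat.of B₀)).hom.hom :=
    (ConcreteCategory.bijective_of_isIso (Scheme.ΓSpecIso (CommRingCat.of B₀)).hom).2
  let β : Γ(X', ⊤) →ₐ[k] B₀ :=
    { (i.appTop ≫ (Scheme.ΓSpecIso (CommRingCat.of B₀)).hom).hom with
      commutes' := fun c => by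
        change (Scheme.ΓSpecIso (CommRingCat.of B₀)).hom.hom
          (i.appTop.hom ((toΓ g).hom (algebraMap k A c))) = algebraMap k B₀ c
        rw [hw, AlgHom.commutes]
        exact hγ c }
  have hβapp : ∀ x, β x = (Scheme.ΓSpecIso (CommRingCat.of B₀)).hom.hom (i.appTop.hom x) := fun x => rfl
  haveI := isClosedImmersion_i e.toRingHom hX g i hsq he
  have hβ : Function.Surjective β := by
    intro b
    obtain ⟨y, hy⟩ := hγsurj b
    obtain ⟨x, hx⟩ := (IsClosedImmersion.isAffine_surjective_of_isAffine i).2 y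
    exact ⟨x, by rw [hβapp, hx, hy]⟩
  have hker0 : RingHom.ker i.appTop.hom ≤
      Ideal.map (toΓ g).hom (RingHom.ker (CommRingCat.ofHom e.toRingHom).hom) :=
    ker_le_map_of_isPushout (toΓ g) (CommRingCat.ofHom e.toRingHom) i.appTop (toΓ hX) hpo he
  have hker : RingHom.ker β ≤ (RingHom.ker e).map (algebraMap A Γ(X', ⊤)) := by
    intro x hx
    have hx' : x ∈ RingHom.ker i.appTop.hom := by
      rw [RingHom.mem_ker] at hx ⊢
      apply hγinj
      rw [map_zero]
      exact hx
    exact hker0 hx'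
  have hcomm : ∀ a, β (algebraMap A Γ(X', ⊤) a) = algebraMap k B₀ (e a) := by
    intro a
    change (Scheme.ΓSpecIso (CommRingCat.of B₀)).hom.hom (i.appTop.hom ((toΓ g).hom a)) = _
    rw [hw]
    exact hγ (e a)
  obtain ⟨s, hs⟩ := exists_section_of_rigid e β hβ hker hcomm hT n hn
  refine exists_retraction_of_section hX g i e n hn hsq
    (s.toRingHom.comp (Scheme.ΓSpecIso (CommRingCat.of B₀)).hom.hom) ?_ ?_
  · intro b
    apply hγinj
    exact hs _
  · intro c
    change s ((Scheme.ΓSpecIso (CommRingCat.of B₀)).hom.hom ((toΓ hX).hom c)) = _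
    rw [hγ c, AlgHom.commutes]
    rfl

end Groth.Agent.LibRigid29
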