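import Mathlib
import Groth.Agent.Lib.Helper2.CplDVR

/-!
# The fibre ring at a section with principal regular ideal is a DVR (helper29)

`R → A → R'` local rings, `ψ : A → R'` surjective with kernel generated by a nonzerodivisor `t`,
`ψ ∘ φ` bijective.  Then `A / m_R A` has maximal ideal generated by the nonzerodivisor `t̄`; if it is
Noetherian it is a discrete valuation ring.
-/

set_option autoImplicit false
universe u
open IsLocalRing

namespace Groth.Agent.LibSectionDVR29

section
variable {R A R' : Type*} [CommRing R] [CommRing A] [CommRing R'] [IsLocalRing R] [IsLocalRing A]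
  (φ : R →+* A) (ψ : A →+* R') (t : A)
  (hker : RingHom.ker ψ = Ideal.span {t}) (hbij : Function.Bijective (ψ.comp φ))

omit [IsLocalRing A] in
include hbij in
lemma nontrivial_target : Nontrivial R' :=
  (RingEquiv.ofBijective (ψ.comp φ) hbij).injective.nontrivial

include hker hbij in
lemma t_mem_maximalIdeal : t ∈ maximalIdeal A := by
  haveI := nontrivial_target φ ψ hbij
  rw [mem_maximalIdeal, mem_nonunits_iff]
  intro hu
  have h0 : ψ t = 0 := by
    have : t ∈ RingHom.ker ψ := by rw [hker]; exact Ideal.subset_span rfl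
    exact this
  have := hu.map ψ
  rw [h0] at this
  exact not_isUnit_zero this

include hbij in
lemma map_le_maximalIdeal : (maximalIdeal R).map φ ≤ maximalIdeal A := by
  rw [Ideal.map_le_iff_le_comap]
  intro r hr
  rw [Ideal.mem_comap, mem_maximalIdeal, mem_nonunits_iff]
  intro hu
  have h1 : IsUnit ((ψ.comp φ) r) := hu.map ψ
  have h2 : IsUnit r := by
    have := h1.map (RingEquiv.ofBijective (ψ.comp φ) hbij).symm
    rwa [show (RingEquiv.ofBijective (ψ.comp φ) hbij).symm ((ψ.comp φ) r) = r from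
      (RingEquiv.ofBijective (ψ.comp φ) hbij).symm_apply_apply r] at this
  exact hr h2

include hker hbij in
/-- decomposition `A = φ(R) + t A`. -/
lemma exists_decomp (a : A) : ∃ (r : R) (b : A), a = φ r + t * b ∧ (a ∈ maximalIdeal A → r ∈ maximalIdeal R) := by
  let e := RingEquiv.ofBijective (ψ.comp φ) hbij
  let r := e.symm (ψ a)
  have hr : ψ (φ r) = ψ a := e.apply_symm_apply (ψ a)
  have hmem : a - φ r ∈ RingHom.ker ψ := by
    rw [RingHom.mem_ker, map_sub, hr, sub_self]
  rw [hker, Ideal.mem_span_singleton] at hmem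
  obtain ⟨b, hb⟩ := hmem
  refine ⟨r, b, by rw [← hb]; ring, ?_⟩
  intro ha
  rw [mem_maximalIdeal, mem_nonunits_iff] at ha ⊢
  intro hu
  apply ha
  -- `a = φ r + t b` with `φ r` a unit and `t b` in the maximal ideal
  have h1 : IsUnit (φ r) := hu.map φ
  have h2 : t * b ∈ maximalIdeal A :=
    Ideal.mul_mem_right _ _ (t_mem_maximalIdeal φ ψ t hker hbij)
  have h3 : a = φ r + t * b := by rw [← hb]; ring
  rw [h3]
  by_contra hnu
  have h4 : φ r + t * b ∈ maximalIdeal A := hnu
  have h5 : φ r ∈ maximalIdeal A := by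
    have := Ideal.sub_mem _ h4 h2
    rwa [add_sub_cancel_right] at this
  exact h5 h1

include hker hbij in
lemma maximalIdeal_eq : maximalIdeal A = (maximalIdeal R).map φ ⊔ Ideal.span {t} := by
  apply le_antisymm
  · intro a ha
    obtain ⟨r, b, hab, hr⟩ := exists_decomp φ ψ t hker hbij a
    rw [hab]
    exact Ideal.add_mem _ (Ideal.mem_sup_left (Ideal.mem_map_of_mem φ (hr ha)))
      (Ideal.mem_sup_right (Ideal.mul_mem_right _ _ (Ideal.subset_span rfl)))
  · refine sup_le (map_le_maximalIdeal φ ψ hbij) ?_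
    rw [Ideal.span_singleton_le_iff_mem]
    exact t_mem_maximalIdeal φ ψ t hker hbij

include hker hbij in
/-- elements of `m_R A` have the form `φ r + t b` with `r ∈ m_R`, `b ∈ m_R A`. -/
lemma exists_decomp_of_mem {x : A} (hx : x ∈ (maximalIdeal R).map φ) :
    ∃ r ∈ maximalIdeal R, ∃ b ∈ (maximalIdeal R).map φ, x = φ r + t * b := by
  unfold Ideal.map at hx
  induction hx using Submodule.span_induction with
  | mem x hx =>
    obtain ⟨m, hm, rfl⟩ := hx
    exact ⟨m, hm, 0, Ideal.zero_mem _, by rw [mul_zero, add_zero]⟩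
  | zero => exact ⟨0, Ideal.zero_mem _, 0, Ideal.zero_mem _, by rw [map_zero, mul_zero, add_zero]⟩
  | add x y _ _ hx hy =>
    obtain ⟨r, hr, b, hb, rfl⟩ := hx
    obtain ⟨r', hr', b', hb', rfl⟩ := hy
    exact ⟨r + r', Ideal.add_mem _ hr hr', b + b', Ideal.add_mem _ hb hb', by rw [map_add]; ring⟩
  | smul a x _ hx =>
    obtain ⟨r, hr, b, hb, rfl⟩ := hx
    obtain ⟨r', b', hab, -⟩ := exists_decomp φ ψ t hker hbij a
    refine ⟨r' * r, Ideal.mul_mem_left _ _ hr, b' * φ r + a * b, ?_, ?_⟩
    · exact Ideal.add_mem _ (Ideal.mul_mem_left _ _ (Ideal.mem_map_of_mem φ hr))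
        (Ideal.mul_mem_left _ _ hb)
    · have h1 : a * φ r = φ r' * φ r + t * b' * φ r := by
        conv_lhs => rw [hab]
        ring
      rw [smul_eq_mul, map_mul]
      calc a * (φ r + t * b) = a * φ r + t * (a * b) := by ring
        _ = φ r' * φ r + t * (b' * φ r + a * b) := by rw [h1]; ring

include hker hbij in
lemma mem_of_mul_mem (ht : t ∈ nonZeroDivisors A) {a : A} (h : t * a ∈ (maximalIdeal R).map φ) :
    a ∈ (maximalIdeal R).map φ := by
  obtain ⟨r, hr, b, hb, hab⟩ := exists_decomp_of_mem φ ψ t hker hbij h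
  have h1 : φ r = t * (a - b) := by rw [mul_sub, hab]; ring
  have h2 : (ψ.comp φ) r = 0 := by
    change ψ (φ r) = 0
    rw [h1, map_mul]
    have : t ∈ RingHom.ker ψ := by rw [hker]; exact Ideal.subset_span rfl
    rw [(RingHom.mem_ker).1 this, zero_mul]
  have h3 : r = 0 := hbij.1 (by rw [h2, map_zero])
  rw [h3, map_zero] at h1
  have h4 : a - b = 0 := by
    have := (mem_nonZeroDivisors_iff_left.mp ht) (a - b)
    exact this (by rw [← h1])
  rw [sub_eq_zero] at h4
  rw [h4]; exact hb

end

section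
variable {R A R' : Type*} [CommRing R] [CommRing A] [CommRing R'] [IsLocalRing R] [IsLocalRing A]
  (φ : R →+* A) (ψ : A →+* R') (t : A)
  (hker : RingHom.ker ψ = Ideal.span {t}) (hbij : Function.Bijective (ψ.comp φ))

include hker hbij in
/-- The fibre ring `A / m_R A`, if Noetherian, is a discrete valuation ring. -/
theorem isDVR_of_equiv (ht : t ∈ nonZeroDivisors A) {B : Type u} [CommRing B] [IsLocalRing B]
    [IsNoetherianRing B] (e : (A ⧸ (maximalIdeal R).map φ) ≃+* B) :
    ∃ _ : IsDomain B, IsDiscreteValuationRing B := by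
  set I := (maximalIdeal R).map φ with hI
  have hsurj : ∀ x : B, ∃ a : A, x = e (Ideal.Quotient.mk I a) := by
    intro x
    obtain ⟨y, rfl⟩ := e.surjective x
    obtain ⟨a, rfl⟩ := Ideal.Quotient.mk_surjective y
    exact ⟨a, rfl⟩
  have htm := t_mem_maximalIdeal φ ψ t hker hbij
  have hIm : I ≤ maximalIdeal A := map_le_maximalIdeal φ ψ hbij
  refine Groth.Agent.Lib.helper2.CplDVR.isDVR_of_principal (e (Ideal.Quotient.mk I t)) ?_ ?_
  · apply le_antisymm
    · intro x hx
      obtain ⟨a, rfl⟩ := hsurj x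
      have ha : a ∈ maximalIdeal A := by
        rw [mem_maximalIdeal, mem_nonunits_iff]
        intro hu
        rw [mem_maximalIdeal, mem_nonunits_iff] at hx
        exact hx ((hu.map (Ideal.Quotient.mk I)).map e)
      rw [maximalIdeal_eq φ ψ t hker hbij, Submodule.mem_sup] at ha
      obtain ⟨i, hi, c, hc, rfl⟩ := ha
      rw [Ideal.mem_span_singleton'] at hc
      obtain ⟨c', rfl⟩ := hc
      rw [map_add, (Ideal.Quotient.eq_zero_iff_mem).2 hi, zero_add, map_mul, map_mul]
      exact Ideal.mul_mem_left _ _ (Ideal.subset_span rfl)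
    · rw [Ideal.span_singleton_le_iff_mem, mem_maximalIdeal, mem_nonunits_iff]
      intro hu
      have hu' : IsUnit (Ideal.Quotient.mk I t) := by
        have := hu.map e.symm
        rwa [RingEquiv.symm_apply_apply] at this
      obtain ⟨y, hy⟩ := hu'.exists_right_inv
      obtain ⟨c, rfl⟩ := Ideal.Quotient.mk_surjective y
      rw [← map_mul, ← map_one (Ideal.Quotient.mk I), Ideal.Quotient.eq] at hy
      have h1 : t * c - 1 ∈ maximalIdeal A := hIm hy
      have h2 : t * c ∈ maximalIdeal A := Ideal.mul_mem_right _ _ htm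
      have h3 : (1 : A) ∈ maximalIdeal A := by
        have := Ideal.sub_mem _ h2 h1
        rwa [sub_sub_cancel] at this
      exact (Ideal.ne_top_iff_one _).1 (maximalIdeal.isMaximal A).ne_top h3
  · rw [mem_nonZeroDivisors_iff_right]
    intro x hx
    obtain ⟨a, rfl⟩ := hsurj x
    rw [← map_mul, ← map_mul, map_eq_zero_iff e e.injective, Ideal.Quotient.eq_zero_iff_mem,
      mul_comm] at hx
    have := mem_of_mul_mem φ ψ t hker hbij ht hx
    rw [(Ideal.Quotient.eq_zero_iff_mem).2 this, map_zero]

end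

end Groth.Agent.LibSectionDVR29
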