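import Mathlib

/-!
# Artinian local rings: finite type from the residue field, and small steps (seat helper29)

* `finiteType_of_residue_generated`: an Artinian local `R`-algebra whose residue field is generated over `R` by
  the classes of finitely many elements is of finite type over `R`.
* `exists_small_step`: below a non-zero ideal `I` killed by the maximal ideal there is `I' < I` with
  `I = I' + (t)`.
-/

set_option autoImplicit false
universe u

namespace Groth.Agent.LibSmallLift29

open IsLocalRing

section FiniteType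

variable {R A' : Type u} [CommRing R] [CommRing A'] [Algebra R A'] [IsLocalRing A'] [IsArtinianRing A']

/-- an Artinian local algebra with finitely generated residue field is of finite type -/
theorem finiteType_of_residue_generated (T : Finset A')
    (hT : ∀ a : A', ∃ c ∈ Algebra.adjoin R (T : Set A'), a - c ∈ maximalIdeal A') :
    Algebra.FiniteType R A' := by
  classical
  have hfg : (maximalIdeal A').FG := IsNoetherian.noetherian _
  obtain ⟨G, hG⟩ := hfg
  set A'' : Subalgebra R A' := Algebra.adjoin R ((T ∪ G : Finset A') : Set A') with hA''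
  have hA''fg : A''.FG := ⟨T ∪ G, rfl⟩
  have hTle : Algebra.adjoin R (T : Set A') ≤ A'' := by
    apply Algebra.adjoin_mono
    intro x hx
    exact Finset.mem_coe.mpr (Finset.mem_union_left _ (Finset.mem_coe.mp hx))
  have hGmem : ∀ g ∈ G, g ∈ A'' := fun g hg =>
    Algebra.subset_adjoin (Finset.mem_coe.mpr (Finset.mem_union_right _ hg))
  -- the key step
  have hQ : ∀ n : ℕ, ∀ z ∈ (maximalIdeal A') ^ n, ∃ c ∈ A'', z - c ∈ (maximalIdeal A') ^ (n + 1) := by
    intro n
    induction n with
    | zero =>
      intro z _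
      obtain ⟨c, hc, hzc⟩ := hT z
      exact ⟨c, hTle hc, by rwa [zero_add, pow_one]⟩
    | succ n ih =>
      intro z hz
      rw [pow_succ'] at hz
      refine Submodule.smul_induction_on (p := fun z => ∃ c ∈ A'', z - c ∈ (maximalIdeal A') ^ (n + 1 + 1)) hz ?_ ?_
      · intro r hr w hw
        rw [← hG] at hr
        obtain ⟨cf, -, hcf⟩ := Submodule.mem_span_finset.mp hr
        choose! c' hc' hc'' using fun g : A' => ih (cf g * w) (Ideal.mul_mem_left _ _ hw)
        refine ⟨∑ g ∈ G, g * c' g, ?_, ?_⟩
        · exact Subalgebra.sum_mem _ fun g hg => Subalgebra.mul_mem _ (hGmem g hg) (hc' g)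
        · have h1 : r • w - ∑ g ∈ G, g * c' g = ∑ g ∈ G, g * (cf g * w - c' g) := by
            rw [← hcf, smul_eq_mul, Finset.sum_mul, ← Finset.sum_sub_distrib]
            refine Finset.sum_congr rfl fun g _ => ?_
            rw [smul_eq_mul]
            ring
          rw [h1]
          refine Ideal.sum_mem _ fun g hg => ?_
          rw [pow_succ' _ (n + 1)]
          refine Ideal.mul_mem_mul ?_ (hc'' g)
          rw [← hG]
          exact Ideal.subset_span (Finset.mem_coe.mpr hg)
      · rintro x y ⟨c, hc, hxc⟩ ⟨d, hd, hyd⟩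
        refine ⟨c + d, Subalgebra.add_mem _ hc hd, ?_⟩
        have : x + y - (c + d) = (x - c) + (y - d) := by ring
        rw [this]
        exact Ideal.add_mem _ hxc hyd
  have hall : ∀ n : ℕ, ∀ a : A', ∃ c ∈ A'', a - c ∈ (maximalIdeal A') ^ n := by
    intro n
    induction n with
    | zero =>
      intro a
      exact ⟨0, Subalgebra.zero_mem _, by rw [pow_zero, Ideal.one_eq_top]; trivial⟩
    | succ n ih =>
      intro a
      obtain ⟨c, hc, hac⟩ := ih a
      obtain ⟨c', hc', h'⟩ := hQ n _ hac
      refine ⟨c + c', Subalgebra.add_mem _ hc hc', ?_⟩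
      have : a - (c + c') = a - c - c' := by ring
      rw [this]
      exact h'
  obtain ⟨N, hN⟩ : IsNilpotent (maximalIdeal A') := by
    have h := IsArtinianRing.isNilpotent_jacobson_bot (R := A')
    rwa [IsLocalRing.jacobson_eq_maximalIdeal ⊥ bot_ne_top] at h
  have htop : A'' = ⊤ := by
    rw [eq_top_iff]
    intro a _
    obtain ⟨c, hc, hac⟩ := hall N a
    rw [hN, Ideal.zero_eq_bot, Ideal.mem_bot, sub_eq_zero] at hac
    rw [hac]
    exact hc
  exact ⟨htop ▸ hA''fg⟩

end FiniteType

section Step

variable {A' : Type u} [CommRing A'] [IsLocalRing A'] [IsArtinianRing A']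

/-- below a non-zero ideal there is a maximal strictly smaller ideal; the difference is generated by one element -/
lemma exists_small_step (I : Ideal A') (hI0 : I ≠ ⊥) :
    ∃ (I' : Ideal A') (t : A'), I' < I ∧ t ∈ I ∧ I' ⊔ Ideal.span {t} = I := by
  classical
  have hne : {K'' : Ideal A' | K'' < I}.Nonempty := ⟨⊥, bot_lt_iff_ne_bot.mpr hI0⟩
  obtain ⟨I', hI'I, hmax⟩ := wellFounded_gt.has_min {K'' : Ideal A' | K'' < I} hne
  have hlt : I' < I := hI'I
  obtain ⟨t, htI, htI'⟩ := SetLike.exists_of_lt hlt
  refine ⟨I', t, hlt, htI, ?_⟩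
  have h1 : I' ⊔ Ideal.span {t} ≤ I := sup_le hlt.le ((Ideal.span_singleton_le_iff_mem _).mpr htI)
  by_contra h
  have h5 : I' ⊔ Ideal.span {t} < I := lt_of_le_of_ne h1 h
  have h6 : ¬ (I' ⊔ Ideal.span {t} > I') := hmax _ h5
  apply h6
  refine lt_of_le_of_ne le_sup_left ?_
  intro h7
  apply htI'
  rw [h7]
  exact Ideal.mem_sup_right (Ideal.mem_span_singleton_self t)

end Step

end Groth.Agent.LibSmallLift29
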