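import Groth.Agent.LibSmallLift29a

/-!
# Lifting along semismall extensions from lifting along small extensions (seat helper29)
-/

set_option autoImplicit false
universe u
open CategoryTheory CategoryTheory.Limits AlgebraicGeometry

namespace Groth.Agent.LibSmallLift29

open IsLocalRing

/-- the lifting property along small extensions of Artinian local rings, with finite type test maps to the base -/
def SmallLift {X S : Scheme.{u}} (f : X ⟶ S) : Prop :=
  ∀ (B B' : Type u) [CommRing B] [CommRing B'] [IsArtinianRing B] [IsArtinianRing B'] [IsLocalRing B] [IsLocalRing B']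
    (φ : B' →+* B) (ε : B'), Function.Surjective φ → RingHom.ker φ = Ideal.span {ε} →
    (∀ m ∈ IsLocalRing.maximalIdeal B', ε * m = 0) →
    ∀ (α : Spec (CommRingCat.of B) ⟶ X) (β : Spec (CommRingCat.of B') ⟶ S), LocallyOfFiniteType β →
      Spec.map (CommRingCat.ofHom φ) ≫ β = α ≫ f →
      ∃ γ : Spec (CommRingCat.of B') ⟶ X, Spec.map (CommRingCat.ofHom φ) ≫ γ = α ∧ γ ≫ f = β

variable {X S : Scheme.{u}} (f : X ⟶ S)

lemma isLocalRing_quotient {A' : Type u} [CommRing A'] [IsLocalRing A'] (I : Ideal A') (hI : I ≠ ⊤) :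
    IsLocalRing (A' ⧸ I) := by
  haveI : Nontrivial (A' ⧸ I) := Ideal.Quotient.nontrivial_iff.mpr hI
  exact IsLocalRing.of_surjective' (Ideal.Quotient.mk I) Ideal.Quotient.mk_surjective

/-- lifting along semismall extensions -/
theorem semismall_lift (H : SmallLift f)
    (A' : Type u) [CommRing A'] [IsLocalRing A'] [IsArtinianRing A'] (I : Ideal A') (hI : I ≠ ⊤)
    (hIm : I * maximalIdeal A' = ⊥)
    (α : Spec (CommRingCat.of (A' ⧸ I)) ⟶ X) (β : Spec (CommRingCat.of A') ⟶ S) (hβ : LocallyOfFiniteType β)
    (comm : Spec.map (CommRingCat.ofHom (Ideal.Quotient.mk I)) ≫ β = α ≫ f) :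
    ∃ γ : Spec (CommRingCat.of A') ⟶ X,
      Spec.map (CommRingCat.ofHom (Ideal.Quotient.mk I)) ≫ γ = α ∧ γ ≫ f = β := by
  induction I using WellFoundedLT.induction with
  | ind I ih =>
    by_cases hI0 : I = ⊥
    · subst hI0
      let e : A' ≃+* A' ⧸ (⊥ : Ideal A') := (RingEquiv.quotientBot A').symm
      have he : ∀ a, e a = Ideal.Quotient.mk ⊥ a := fun a => rfl
      have h1 : CommRingCat.ofHom e.symm.toRingHom ≫ CommRingCat.ofHom (Ideal.Quotient.mk (⊥ : Ideal A')) = 𝟙 _ := by
        ext x
        change Ideal.Quotient.mk ⊥ (e.symm x) = x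
        rw [← he, e.apply_symm_apply]
      have h2 : CommRingCat.ofHom (Ideal.Quotient.mk (⊥ : Ideal A')) ≫ CommRingCat.ofHom e.symm.toRingHom = 𝟙 _ := by
        ext a
        change e.symm (Ideal.Quotient.mk ⊥ a) = a
        rw [← he, e.symm_apply_apply]
      refine ⟨Spec.map (CommRingCat.ofHom e.symm.toRingHom) ≫ α, ?_, ?_⟩
      · rw [← Category.assoc, ← Spec.map_comp, h1, Spec.map_id, Category.id_comp]
      · rw [Category.assoc, ← comm, ← Category.assoc, ← Spec.map_comp, h2, Spec.map_id, Category.id_comp]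
    · obtain ⟨I', t, hlt, htI, hsup⟩ := exists_small_step I hI0
      have hI'top : I' ≠ ⊤ := fun h => hI (top_le_iff.mp (h ▸ hlt.le))
      have hI'm : I' * maximalIdeal A' = ⊥ := by
        rw [eq_bot_iff, ← hIm]
        exact Ideal.mul_mono_left hlt.le
      haveI := isLocalRing_quotient I hI
      haveI := isLocalRing_quotient I' hI'top
      let q : A' ⧸ I' →+* A' ⧸ I := Ideal.Quotient.factor hlt.le
      have hq : ∀ a, q (Ideal.Quotient.mk I' a) = Ideal.Quotient.mk I a := fun a => rfl
      have hqsurj : Function.Surjective q := Ideal.Quotient.factor_surjective hlt.le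
      have hker : RingHom.ker q = Ideal.span {Ideal.Quotient.mk I' t} := by
        apply le_antisymm
        · intro x hx
          obtain ⟨b, rfl⟩ := Ideal.Quotient.mk_surjective x
          have hb : b ∈ I := by
            rw [RingHom.mem_ker, hq] at hx
            exact Ideal.Quotient.eq_zero_iff_mem.mp hx
          rw [← hsup] at hb
          obtain ⟨y, hy, z, hz, rfl⟩ := Submodule.mem_sup.mp hb
          obtain ⟨c, rfl⟩ := Ideal.mem_span_singleton'.mp hz
          rw [map_add, Ideal.Quotient.eq_zero_iff_mem.mpr hy, zero_add, map_mul]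
          exact Ideal.mul_mem_left _ _ (Ideal.mem_span_singleton_self _)
        · rw [Ideal.span_singleton_le_iff_mem, RingHom.mem_ker, hq]
          exact Ideal.Quotient.eq_zero_iff_mem.mpr htI
      have hkill : ∀ m ∈ maximalIdeal (A' ⧸ I'), Ideal.Quotient.mk I' t * m = 0 := by
        intro m hm
        obtain ⟨a, rfl⟩ := Ideal.Quotient.mk_surjective m
        have ha : a ∈ maximalIdeal A' := by
          rw [mem_maximalIdeal, mem_nonunits_iff] at hm ⊢
          exact fun hu => hm (hu.map _)
        rw [← map_mul]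
        have : t * a ∈ I * maximalIdeal A' := Ideal.mul_mem_mul htI ha
        rw [hIm, Ideal.mem_bot] at this
        rw [this, map_zero]
      have hfac : CommRingCat.ofHom (Ideal.Quotient.mk I') ≫ CommRingCat.ofHom q =
          CommRingCat.ofHom (Ideal.Quotient.mk I) := by
        ext a
        rfl
      haveI : LocallyOfFiniteType (Spec.map (CommRingCat.ofHom (Ideal.Quotient.mk I'))) := by
        haveI : IsClosedImmersion (Spec.map (CommRingCat.ofHom (Ideal.Quotient.mk I'))) :=
          IsClosedImmersion.spec_of_surjective _ Ideal.Quotient.mk_surjective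
        infer_instance
      haveI := hβ
      obtain ⟨γ', hγ'1, hγ'2⟩ := H (A' ⧸ I) (A' ⧸ I') q (Ideal.Quotient.mk I' t) hqsurj hker hkill α
        (Spec.map (CommRingCat.ofHom (Ideal.Quotient.mk I')) ≫ β) inferInstance (by
          rw [← Category.assoc, ← Spec.map_comp, hfac, comm])
      obtain ⟨γ, hγ1, hγ2⟩ := ih I' hlt hI'top hI'm γ' hγ'2.symm
      refine ⟨γ, ?_, hγ2⟩
      rw [← hfac, Spec.map_comp, Category.assoc, hγ1, hγ'1]

end Groth.Agent.LibSmallLift29
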