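import Groth.Agent.LibSmallLift29b
import Groth.Agent.Lib.Helper17.StalkSmooth

/-!
# Test maps for the Artinian lifting criterion at a closed point of an affine open are of finite type
(seat helper29)
-/

set_option autoImplicit false
universe u
open CategoryTheory CategoryTheory.Limits AlgebraicGeometry

namespace Groth.Agent.LibSmallLift29

open IsLocalRing

section Closed

variable {X : Scheme.{u}} {W : X.Opens} (hW : IsAffineOpen W)

include hW in
/-- the prime ideal of a closed point of an affine open is maximal -/
lemma primeIdealOf_isMaximal (x : W) (hx : IsClosed ({x} : Set W)) :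
    (hW.primeIdealOf x).asIdeal.IsMaximal := by
  apply (hW.primeIdealOf x).isClosed_singleton_iff_isMaximal.mp
  rw [IsAffineOpen.primeIdealOf, ← Set.image_singleton]
  refine (Topology.IsClosedEmbedding.isClosed_iff_image_isClosed <|
    IsHomeomorph.isClosedEmbedding ?_).mp hx
  apply (TopCat.isIso_iff_isHomeomorph _).mp
  infer_instance

include hW in
/-- at a closed point of an affine open every germ is congruent to the germ of a section modulo the maximal ideal -/
lemma exists_section_sub_mem (x : W) (hx : IsClosed ({x} : Set W)) (b : X.presheaf.stalk (x : X)) :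
    ∃ σ : Γ(X, W), b - X.presheaf.germ W x x.2 σ ∈ maximalIdeal (X.presheaf.stalk (x : X)) := by
  haveI hmax := primeIdealOf_isMaximal hW x hx
  letI : Algebra Γ(X, W) (X.presheaf.stalk (x : X)) := TopCat.Presheaf.algebra_section_stalk X.presheaf x
  haveI hloc : IsLocalization.AtPrime (X.presheaf.stalk (x : X)) (hW.primeIdealOf x).asIdeal :=
    hW.isLocalization_stalk x
  have halg : ∀ σ : Γ(X, W), algebraMap Γ(X, W) (X.presheaf.stalk (x : X)) σ = X.presheaf.germ W x x.2 σ :=
    fun σ => rfl
  obtain ⟨⟨σ, t⟩, hbt⟩ := IsLocalization.surj (hW.primeIdealOf x).asIdeal.primeCompl b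
  obtain ⟨t', i, hi, hti⟩ := hmax.exists_inv t.2
  refine ⟨σ * t', ?_⟩
  have h1 : b - X.presheaf.germ W x x.2 (σ * t') =
      b * algebraMap Γ(X, W) (X.presheaf.stalk (x : X)) (1 - (t : Γ(X, W)) * t') := by
    rw [← halg, map_mul, ← hbt, map_sub, map_one, map_mul]
    ring
  rw [h1]
  refine Ideal.mul_mem_left _ _ ?_
  rw [IsLocalization.AtPrime.to_map_mem_maximal_iff (X.presheaf.stalk (x : X)) (hW.primeIdealOf x).asIdeal]
  have : 1 - (t : Γ(X, W)) * t' = i := by
    rw [← hti]
    ring
  rw [this]
  exact hi

end Closed

end Groth.Agent.LibSmallLift29
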