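import Groth.Agent.LibSmallLift29c

/-!
# Test maps for the Artinian lifting criterion at a closed point of an affine open are of finite type, II
(seat helper29)
-/

set_option autoImplicit false
universe u
open CategoryTheory CategoryTheory.Limits AlgebraicGeometry

namespace Groth.Agent.LibSmallLift29

open IsLocalRing

theorem locallyOfFiniteType_test {X S : Scheme.{u}} (f : X ⟶ S) [LocallyOfFiniteType f]
    {V : S.Opens} (hV : IsAffineOpen V) {W : X.Opens} (hW : IsAffineOpen W) (hWV : W ≤ f ⁻¹ᵁ V)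
    (x : W) (hx : IsClosed ({x} : Set W))
    (A' : Type u) [CommRing A'] [IsLocalRing A'] [IsArtinianRing A']
    (h : S.presheaf.stalk (f (x : X)) →+* A') (I : Ideal A') (hI : I ≠ ⊤)
    (g₀ : X.presheaf.stalk (x : X) →+* A' ⧸ I)
    (hcomp : g₀.comp (f.stalkMap x).hom = (Ideal.Quotient.mk I).comp h)
    (hmax : ∀ b ∈ maximalIdeal (X.presheaf.stalk (x : X)), g₀ b ∈ (maximalIdeal A').map (Ideal.Quotient.mk I))
    (hres : ∀ a' : A', ∃ b : X.presheaf.stalk (x : X),
      g₀ b - Ideal.Quotient.mk I a' ∈ (maximalIdeal A').map (Ideal.Quotient.mk I)) :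
    LocallyOfFiniteType (Spec.map (CommRingCat.ofHom h) ≫ S.fromSpecStalk (f (x : X))) := by
  classical
  have hyV : f (x : X) ∈ V := hWV x.2
  rw [← hV.fromSpecStalk_eq_fromSpecStalk hyV, IsAffineOpen.fromSpecStalk, ← Category.assoc, ← Spec.map_comp]
  set ψ : Γ(S, V) ⟶ CommRingCat.of A' := S.presheaf.germ V _ hyV ≫ CommRingCat.ofHom h with hψdef
  suffices hψ : ψ.hom.FiniteType by
    haveI : LocallyOfFiniteType (Spec.map ψ) := HasRingHomProperty.Spec_iff.mpr hψ
    infer_instance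
  letI iA : Algebra Γ(S, V) A' := ψ.hom.toAlgebra
  change Algebra.FiniteType Γ(S, V) A'
  have hft : (f.appLE V W hWV).hom.FiniteType := Scheme.Hom.finiteType_appLE f hV hW hWV
  letI iW : Algebra Γ(S, V) Γ(X, W) := (f.appLE V W hWV).hom.toAlgebra
  have hft' : Algebra.FiniteType Γ(S, V) Γ(X, W) := hft
  obtain ⟨s, hs⟩ := hft'.out
  let θ : Γ(X, W) →+* A' ⧸ I := g₀.comp (X.presheaf.germ W x x.2).hom
  choose τ hτ using fun σ : Γ(X, W) => Ideal.Quotient.mk_surjective (I := I) (θ σ)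
  have hgerm : ∀ r : Γ(S, V), X.presheaf.germ W x x.2 (f.appLE V W hWV r) =
      f.stalkMap x (S.presheaf.germ V _ hyV r) := by
    intro r
    rw [Scheme.Hom.germ_stalkMap_apply]
    simp only [Scheme.Hom.appLE, homOfLE_leOfHom, CommRingCat.hom_comp, RingHom.coe_comp, Function.comp_apply,
      X.presheaf.germ_res_apply]
  refine finiteType_of_residue_generated (s.image τ) ?_
  have hstar : ∀ σ : Γ(X, W), ∃ c ∈ Algebra.adjoin Γ(S, V) ((s.image τ : Finset A') : Set A'),
      Ideal.Quotient.mk I c = θ σ := by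
    intro σ
    have hσ : σ ∈ Algebra.adjoin Γ(S, V) (s : Set Γ(X, W)) := by rw [hs]; trivial
    induction hσ using Algebra.adjoin_induction with
    | mem σ hσ =>
      refine ⟨τ σ, Algebra.subset_adjoin ?_, hτ σ⟩
      exact Finset.mem_coe.mpr (Finset.mem_image_of_mem τ (Finset.mem_coe.mp hσ))
    | algebraMap r =>
      refine ⟨algebraMap Γ(S, V) A' r, Subalgebra.algebraMap_mem _ r, ?_⟩
      change Ideal.Quotient.mk I (h (S.presheaf.germ V _ hyV r)) = g₀ (X.presheaf.germ W x x.2 (f.appLE V W hWV r))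
      rw [hgerm]
      exact (RingHom.congr_fun hcomp _).symm
    | add σ σ' _ _ h1 h2 =>
      obtain ⟨c, hc, hcσ⟩ := h1
      obtain ⟨c', hc', hcσ'⟩ := h2
      exact ⟨c + c', Subalgebra.add_mem _ hc hc', by rw [map_add, map_add, hcσ, hcσ']⟩
    | mul σ σ' _ _ h1 h2 =>
      obtain ⟨c, hc, hcσ⟩ := h1
      obtain ⟨c', hc', hcσ'⟩ := h2
      exact ⟨c * c', Subalgebra.mul_mem _ hc hc', by rw [map_mul, map_mul, hcσ, hcσ']⟩
  intro a
  obtain ⟨b, hb⟩ := hres a
  obtain ⟨σ, hσ⟩ := exists_section_sub_mem hW x hx b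
  obtain ⟨c, hc, hcσ⟩ := hstar σ
  refine ⟨c, hc, ?_⟩
  have h1 : Ideal.Quotient.mk I (a - c) ∈ (maximalIdeal A').map (Ideal.Quotient.mk I) := by
    have h2 := hmax _ hσ
    rw [map_sub] at h2
    have h3 : Ideal.Quotient.mk I (a - c) =
        -(g₀ b - Ideal.Quotient.mk I a) + (g₀ b - g₀ (X.presheaf.germ W x x.2 σ)) := by
      rw [map_sub, hcσ]
      change _ - g₀ (X.presheaf.germ W x x.2 σ) = _
      ring
    rw [h3]
    exact Ideal.add_mem _ (Ideal.neg_mem_iff _ |>.mpr hb) h2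
  obtain ⟨z, hz, hzeq⟩ := (Ideal.mem_map_iff_of_surjective _ Ideal.Quotient.mk_surjective).mp h1
  have h3 : a - c - z ∈ I := by
    rw [← Ideal.Quotient.eq_zero_iff_mem, map_sub, hzeq, sub_self]
  have h4 := Ideal.add_mem _ (IsLocalRing.le_maximalIdeal hI h3) hz
  rwa [sub_add_cancel] at h4

end Groth.Agent.LibSmallLift29
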