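import Groth.Statements.S5008
import Mathlib

set_option autoImplicit false
set_option linter.style.haveILetI false
universe u
open CategoryTheory CategoryTheory.Limits AlgebraicGeometry TopologicalSpace
open Unram17

namespace Groth.Agent.S5008

lemma factor_affine {X : Scheme.{u}} {R : CommRingCat.{u}} [IsLocalRing R] (α : Spec R ⟶ X)
    {V : X.Opens} (hV : IsAffineOpen V) (h : α (IsLocalRing.closedPoint R) ∈ V) :
    ∃ a : Γ(X, V) ⟶ R, Spec.map a ≫ hV.fromSpec = α := by
  have := IsAffineOpen.SpecMap_appLE_fromSpec α hV (isAffineOpen_top _)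
    (Scheme.preimage_eq_top_of_closedPoint_mem α h).ge
  rw [IsAffineOpen.fromSpec_top, Iso.eq_inv_comp, Scheme.isoSpec_Spec_hom] at this
  refine ⟨α.appLE V ⊤ (Scheme.preimage_eq_top_of_closedPoint_mem α h).ge ≫ (Scheme.ΓSpecIso R).hom, ?_⟩
  rw [Spec.map_comp, Category.assoc]
  exact this

lemma spec_map_fromSpec_injective {X : Scheme.{u}} {R : CommRingCat.{u}}
    {V : X.Opens} (hV : IsAffineOpen V) {a a' : Γ(X, V) ⟶ R}
    (h : Spec.map a ≫ hV.fromSpec = Spec.map a' ≫ hV.fromSpec) : a = a' := by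
  have h2 := (cancel_mono hV.fromSpec).mp h
  exact Spec.map_injective h2

/-- A surjective ring hom with square-zero kernel is a local hom. -/
lemma isLocalHom_of_surjective_of_sq_zero {B B' : Type u} [CommRing B] [CommRing B'] (φ : B' →+* B)
    (hφ : Function.Surjective φ) (hker : RingHom.ker φ ^ 2 = ⊥) : IsLocalHom φ := by
  constructor
  intro b hb
  obtain ⟨c, hc⟩ := hb
  obtain ⟨b', hb'⟩ := hφ (c⁻¹ : Bˣ)
  have hmem : b * b' - 1 ∈ RingHom.ker φ := by
    rw [RingHom.mem_ker, map_sub, map_mul, hb', ← hc, map_one]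
    simp
  have hnil : IsNilpotent (b * b' - 1) := by
    refine ⟨2, ?_⟩
    have : (b * b' - 1) ^ 2 ∈ RingHom.ker φ ^ 2 := Ideal.pow_mem_pow hmem 2
    rwa [hker] at this
  have hu : IsUnit (b * b') := by
    have := hnil.isUnit_add_one
    simpa using this
  exact isUnit_of_mul_isUnit_left hu

theorem forward {X Y : Scheme.{u}} (f : X ⟶ Y) [LocallyOfFinitePresentation f] (x : X)
    (hx : (f.stalkMap x).hom.FormallySmooth)
    (B B' : Type u) [CommRing B] [CommRing B'] [IsLocalRing B] [IsLocalRing B'] (φ : B' →+* B)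
    (hφ : Function.Surjective φ) (hker : RingHom.ker φ ^ 2 = ⊥)
    (α : Spec (CommRingCat.of B) ⟶ X) (β : Spec (CommRingCat.of B') ⟶ Y)
    (hα : α.base (IsLocalRing.closedPoint B) = x)
    (comm : Spec.map (CommRingCat.ofHom φ) ≫ β = α ≫ f) :
    ∃ γ : Spec (CommRingCat.of B') ⟶ X, Spec.map (CommRingCat.ofHom φ) ≫ γ = α ∧ γ ≫ f = β := by
  obtain ⟨U, hU, V, hV, hVU, hxV, H⟩ := exists_smooth_of_formallySmooth_stalk f x hx
  haveI : IsLocalHom (CommRingCat.ofHom φ).hom := isLocalHom_of_surjective_of_sq_zero φ hφ hker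
  have hαV : α (IsLocalRing.closedPoint (CommRingCat.of B)) ∈ V := by
    change α.base (IsLocalRing.closedPoint B) ∈ V
    rw [hα]; exact hxV
  have hβU : β (IsLocalRing.closedPoint (CommRingCat.of B')) ∈ U := by
    have h1 : (Spec.map (CommRingCat.ofHom φ)) (IsLocalRing.closedPoint (CommRingCat.of B)) =
        IsLocalRing.closedPoint (CommRingCat.of B') := Spec_closedPoint
    rw [← h1, ← Scheme.Hom.comp_apply, comm, Scheme.Hom.comp_apply]
    exact hVU hαV
  obtain ⟨a, ha⟩ := factor_affine α hV hαV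
  obtain ⟨b, hb⟩ := factor_affine β hU hβU
  -- the ring-level square
  have hsq : f.appLE U V hVU ≫ a = b ≫ CommRingCat.ofHom φ := by
    apply spec_map_fromSpec_injective hU
    rw [Spec.map_comp, Spec.map_comp, Category.assoc, Category.assoc,
      IsAffineOpen.SpecMap_appLE_fromSpec f hU hV hVU, reassoc_of% ha, hb, comm]
  algebraize [(f.appLE U V hVU).hom]
  letI : Algebra Γ(Y, U) B' := b.hom.toAlgebra
  letI : Algebra Γ(Y, U) B := (φ.comp b.hom).toAlgebra
  let φA : B' →ₐ[Γ(Y, U)] B := { φ with commutes' := fun r => rfl }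
  let aA : Γ(X, V) →ₐ[Γ(Y, U)] B :=
    { a.hom with commutes' := fun r => congr($(hsq).hom r) }
  have hnil : IsNilpotent (RingHom.ker φA) := ⟨2, hker⟩
  let c := Algebra.FormallySmooth.liftOfSurjective aA φA hφ hnil
  have hc1 : CommRingCat.ofHom c.toRingHom ≫ CommRingCat.ofHom φ = a := by
    ext t
    exact Algebra.FormallySmooth.liftOfSurjective_apply aA φA hφ hnil t
  have hc2 : f.appLE U V hVU ≫ CommRingCat.ofHom c.toRingHom = b := by
    ext r
    exact c.commutes r
  refine ⟨Spec.map (CommRingCat.ofHom c.toRingHom) ≫ hV.fromSpec, ?_, ?_⟩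
  · rw [← Spec.map_comp_assoc, hc1, ha]
  · rw [Category.assoc, ← IsAffineOpen.SpecMap_appLE_fromSpec f hU hV hVU, ← Spec.map_comp_assoc,
      hc2, hb]

lemma exists_local_hom {X : Scheme.{u}} {R : CommRingCat.{u}} [IsLocalRing R] (γ : Spec R ⟶ X)
    (x : X) (h : γ (IsLocalRing.closedPoint R) = x) :
    ∃ g : X.presheaf.stalk x ⟶ R, Spec.map g ≫ X.fromSpecStalk x = γ := by
  subst h
  exact ⟨_, Scheme.Spec_stalkClosedPointTo_fromSpecStalk γ⟩

lemma spec_map_fromSpecStalk_injective {X : Scheme.{u}} {R : CommRingCat.{u}} (x : X)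
    {a a' : X.presheaf.stalk x ⟶ R}
    (h : Spec.map a ≫ X.fromSpecStalk x = Spec.map a' ≫ X.fromSpecStalk x) : a = a' := by
  have h2 := (cancel_mono (X.fromSpecStalk x)).mp h
  exact Spec.map_injective h2

theorem backward {X Y : Scheme.{u}} (f : X ⟶ Y) [LocallyOfFinitePresentation f] (x : X)
    (H : ∀ (B B' : Type u) [CommRing B] [CommRing B'] [IsLocalRing B] [IsLocalRing B'] (φ : B' →+* B),
      Function.Surjective φ → RingHom.ker φ ^ 2 = ⊥ →
      ∀ (α : Spec (CommRingCat.of B) ⟶ X) (β : Spec (CommRingCat.of B') ⟶ Y),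
        α.base (IsLocalRing.closedPoint B) = x → Spec.map (CommRingCat.ofHom φ) ≫ β = α ≫ f →
        ∃ γ : Spec (CommRingCat.of B') ⟶ X, Spec.map (CommRingCat.ofHom φ) ≫ γ = α ∧ γ ≫ f = β) :
    (f.stalkMap x).hom.FormallySmooth := by
  algebraize [(f.stalkMap x).hom]
  rw [RingHom.FormallySmooth]
  let f₀ : MvPolynomial (X.presheaf.stalk x) (Y.presheaf.stalk (f x)) →ₐ[Y.presheaf.stalk (f x)]
      X.presheaf.stalk x := MvPolynomial.aeval id
  have hf₀ : Function.Surjective f₀ := fun c => ⟨MvPolynomial.X c, by simp [f₀]⟩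
  have hφ : Function.Surjective f₀.kerSquareLift :=
    Ideal.Quotient.lift_surjective_of_surjective _ _ hf₀
  have hker : RingHom.ker f₀.kerSquareLift.toRingHom ^ 2 = ⊥ := by
    rw [AlgHom.ker_kerSquareLift, Ideal.cotangentIdeal_square]
  haveI : IsLocalHom f₀.kerSquareLift.toRingHom :=
    isLocalHom_of_surjective_of_sq_zero _ hφ hker
  haveI : IsLocalRing (MvPolynomial (X.presheaf.stalk x) (Y.presheaf.stalk (f x)) ⧸
      RingHom.ker f₀.toRingHom ^ 2) := RingHom.domain_isLocalRing f₀.kerSquareLift.toRingHom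
  obtain ⟨γ, h1, h2⟩ := H (X.presheaf.stalk x) _ f₀.kerSquareLift.toRingHom hφ hker
    (X.fromSpecStalk x)
    (Spec.map (CommRingCat.ofHom (algebraMap (Y.presheaf.stalk (f x))
      (MvPolynomial (X.presheaf.stalk x) (Y.presheaf.stalk (f x)) ⧸
      RingHom.ker f₀.toRingHom ^ 2))) ≫ Y.fromSpecStalk (f x))
    Scheme.fromSpecStalk_closedPoint (by
      rw [← Scheme.SpecMap_stalkMap_fromSpecStalk, ← Spec.map_comp_assoc]
      congr 2
      ext r
      exact f₀.kerSquareLift.commutes r)
  have hγ : γ (IsLocalRing.closedPoint (CommRingCat.of (MvPolynomial (X.presheaf.stalk x)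
      (Y.presheaf.stalk (f x)) ⧸ RingHom.ker f₀.toRingHom ^ 2))) = x := by
    have h3 : (Spec.map (CommRingCat.ofHom f₀.kerSquareLift.toRingHom))
        (IsLocalRing.closedPoint (X.presheaf.stalk x)) = IsLocalRing.closedPoint _ :=
      Spec_closedPoint
    rw [← h3, ← Scheme.Hom.comp_apply, h1]
    exact Scheme.fromSpecStalk_closedPoint
  obtain ⟨g, hg⟩ := exists_local_hom γ x hγ
  have hg1 : g ≫ CommRingCat.ofHom f₀.kerSquareLift.toRingHom = 𝟙 _ := by
    apply spec_map_fromSpecStalk_injective x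
    rw [Spec.map_comp, Category.assoc, hg, h1, Spec.map_id]
    exact (Category.id_comp _).symm
  have hg2 : f.stalkMap x ≫ g = CommRingCat.ofHom (algebraMap (Y.presheaf.stalk (f x))
      (MvPolynomial (X.presheaf.stalk x) (Y.presheaf.stalk (f x)) ⧸
      RingHom.ker f₀.toRingHom ^ 2)) := by
    apply spec_map_fromSpecStalk_injective (f x)
    rw [Spec.map_comp, Category.assoc, Scheme.SpecMap_stalkMap_fromSpecStalk, reassoc_of% hg, h2]
  exact Algebra.FormallySmooth.of_split f₀
    { g.hom with commutes' := fun r => congr($(hg2).hom r) }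
    (AlgHom.ext fun t => congr($(hg1).hom t))

/-- Let f : X ⟶ Y be locally of finite presentation and x a point of X. Then f is smooth at x if and
only if for every surjection of local rings B' → B with square-zero kernel, every morphism Spec B ⟶
X sending the closed point to x and every morphism Spec B' ⟶ Y making the square commute, there is a
lift Spec B' ⟶ X compatible with both. (No Noetherian hypothesis on Y.) -/
theorem result {X Y : Scheme.{u}} (f : X ⟶ Y)
    [LocallyOfFinitePresentation f] (x : ↥X) :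
    x ∈ f.smoothLocus ↔ ∀ (B B' : Type u) [CommRing B] [CommRing B'] [IsLocalRing B] [IsLocalRing B'] (φ : B' →+* B),
      Function.Surjective φ → RingHom.ker φ ^ 2 = ⊥ →
      ∀ (α : Spec (CommRingCat.of B) ⟶ X) (β : Spec (CommRingCat.of B') ⟶ Y),
        α.base (IsLocalRing.closedPoint B) = x → Spec.map (CommRingCat.ofHom φ) ≫ β = α ≫ f →
        ∃ γ : Spec (CommRingCat.of B') ⟶ X, Spec.map (CommRingCat.ofHom φ) ≫ γ = α ∧ γ ≫ f = β := by
  refine ⟨fun hx B B' _ _ _ _ φ hφ hker α β hα comm =>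
    forward f x hx B B' φ hφ hker α β hα comm, fun H => backward f x H⟩

end Groth.Agent.S5008
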