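import Groth.Agent.LibSmallLift29d
import Groth.Agent.S2793
import Groth.Agent.S5008

/-!
# Smoothness is equivalent to lifting along small extensions of Artinian local rings (seat helper29)

For `f : X ⟶ S` locally of finite type over a locally Noetherian base: `f` is smooth iff it has the lifting property along
small extensions of Artinian local rings with test map to `S` locally of finite type (EGA IV 17.14.2 / Stacks 02HX).
-/

set_option autoImplicit false
universe u
open CategoryTheory CategoryTheory.Limits AlgebraicGeometry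

namespace Groth.Agent.LibSmallLift29

open IsLocalRing Groth.Agent.Lib.helper17.StalkSmooth

theorem smallLift_of_smooth {X S : Scheme.{u}} (f : X ⟶ S) [Smooth f] : SmallLift f := by
  intro B B' _ _ _ _ _ _ φ ε hφ hker hε α β _ comm
  have hx : α (closedPoint B) ∈ f.smoothLocus := by
    rw [Scheme.Hom.smoothLocus_eq_top f]
    trivial
  have hεm : ε ∈ maximalIdeal B' := by
    by_contra hnot
    have hu : IsUnit ε := by
      by_contra h
      exact hnot ((mem_maximalIdeal ε).mpr h)
    have h1 : (1 : B') ∈ RingHom.ker φ := by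
      rw [hker]
      obtain ⟨u, rfl⟩ := hu
      have : (1 : B') = (↑u⁻¹ : B') * (u : B') := by simp
      rw [this]
      exact Ideal.mul_mem_left _ _ (Ideal.mem_span_singleton_self _)
    rw [RingHom.mem_ker, map_one] at h1
    exact one_ne_zero h1
  have hsq : RingHom.ker φ ^ 2 = ⊥ := by
    rw [hker, Ideal.span_singleton_pow, pow_two, hε ε hεm]
    exact Ideal.span_singleton_eq_bot.mpr rfl
  exact (Groth.Agent.S5008.result f (α (closedPoint B))).mp hx B B' φ hφ hsq α β rfl comm

theorem smooth_of_smallLift {X S : Scheme.{u}} (f : X ⟶ S) [IsLocallyNoetherian S] [LocallyOfFiniteType f]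
    (H : SmallLift f) : Smooth f := by
  haveI : LocallyOfFinitePresentation f :=
    Groth.Agent.Lib.Helper18.NilThick.locallyOfFinitePresentation_of_isLocallyNoetherian f
  rw [← Scheme.Hom.smoothLocus_eq_top_iff]
  by_contra hne
  obtain ⟨x, hx⟩ : ∃ x, x ∉ f.smoothLocus := by
    by_contra h
    push Not at h
    exact hne (eq_top_iff.mpr fun x _ => h x)
  -- affine opens
  obtain ⟨_, ⟨V, hV, rfl⟩, hyV, -⟩ := S.isBasis_affineOpens.exists_subset_of_mem_open
    (Set.mem_univ (f x)) isOpen_univ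
  obtain ⟨_, ⟨W, hW, rfl⟩, hxW, hWV⟩ := X.isBasis_affineOpens.exists_subset_of_mem_open
    (show x ∈ (f ⁻¹ᵁ V : Set X) from hyV) (f ⁻¹ᵁ V).2
  have hWV' : W ≤ f ⁻¹ᵁ V := hWV
  -- a closed point of `W` outside the smooth locus
  haveI : CompactSpace W := isCompact_iff_compactSpace.mp hW.isCompact
  have hZ : IsClosed (Subtype.val ⁻¹' ((f.smoothLocus : Set X)ᶜ) : Set W) :=
    (f.smoothLocus.isOpen.isClosed_compl).preimage continuous_subtype_val
  obtain ⟨x₁, hx₁Z, hx₁cl⟩ := hZ.exists_closed_singleton ⟨⟨x, hxW⟩, hx⟩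
  apply hx₁Z
  change x₁.1 ∈ f.smoothLocus
  rw [Scheme.Hom.mem_smoothLocus, ← Groth.Agent.Lib.Helper18.SmoothDescent.exists_smooth_nhd_iff,
    Groth.Agent.S2793.result]
  intro A' _ _ _ h _ I hI hIm g₀ hcomp hmax hres
  have hβ := locallyOfFiniteType_test f hV hW hWV' x₁ hx₁cl A' h I hI g₀ hcomp hmax hres
  have hcomm : Spec.map (CommRingCat.ofHom (Ideal.Quotient.mk I)) ≫
      (Spec.map (CommRingCat.ofHom h) ≫ S.fromSpecStalk (f x₁.1)) =
      (Spec.map (CommRingCat.ofHom g₀) ≫ X.fromSpecStalk x₁.1) ≫ f := by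
    rw [Category.assoc, ← Scheme.SpecMap_stalkMap_fromSpecStalk, ← Category.assoc, ← Category.assoc,
      ← Spec.map_comp, ← Spec.map_comp]
    congr 2
    ext r
    exact (RingHom.congr_fun hcomp r).symm
  obtain ⟨γ, hγ1, hγ2⟩ := semismall_lift f H A' I hI hIm _ _ hβ hcomm
  -- the closed point of `Spec A'` goes to `x₁`
  haveI := isLocalRing_quotient I hI
  haveI : IsLocalHom (Ideal.Quotient.mk I) := IsLocalHom.of_surjective _ Ideal.Quotient.mk_surjective
  have hnonunit : ∀ y ∈ (maximalIdeal A').map (Ideal.Quotient.mk I), y ∈ maximalIdeal (A' ⧸ I) := by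
    intro y hy
    obtain ⟨z, hz, rfl⟩ := (Ideal.mem_map_iff_of_surjective _ Ideal.Quotient.mk_surjective).mp hy
    rw [mem_maximalIdeal, mem_nonunits_iff] at hz ⊢
    exact fun hu => hz (isUnit_of_map_unit (Ideal.Quotient.mk I) z hu)
  haveI : IsLocalHom g₀ := by
    refine ⟨fun b hb => ?_⟩
    by_contra hnu
    have h1 := hnonunit _ (hmax b ((mem_maximalIdeal b).mpr hnu))
    exact (mem_maximalIdeal _).mp h1 hb
  have hγx : γ (closedPoint (CommRingCat.of A')) = x₁.1 := by
    have h1 : (Spec.map (CommRingCat.ofHom (Ideal.Quotient.mk I))) (closedPoint (CommRingCat.of (A' ⧸ I))) =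
        closedPoint (CommRingCat.of A') :=
      Spec_closedPoint (f := CommRingCat.ofHom (Ideal.Quotient.mk I))
    have h2 : (Spec.map (CommRingCat.ofHom g₀)) (closedPoint (CommRingCat.of (A' ⧸ I))) =
        closedPoint (X.presheaf.stalk x₁.1) :=
      Spec_closedPoint (f := CommRingCat.ofHom g₀)
    rw [← h1, ← Scheme.Hom.comp_apply, hγ1, Scheme.Hom.comp_apply, h2]
    exact Scheme.fromSpecStalk_closedPoint
  obtain ⟨g, hg⟩ := exists_local_hom γ x₁.1 hγx
  refine ⟨g.hom, ?_, ?_⟩
  · have h1 : f.stalkMap x₁.1 ≫ g = CommRingCat.ofHom h := by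
      apply spec_map_fromSpecStalk_injective (f x₁.1)
      rw [Spec.map_comp, Category.assoc, Scheme.SpecMap_stalkMap_fromSpecStalk, reassoc_of% hg, hγ2]
    exact congrArg CommRingCat.Hom.hom h1
  · have h1 : g ≫ CommRingCat.ofHom (Ideal.Quotient.mk I) = CommRingCat.ofHom g₀ := by
      apply spec_map_fromSpecStalk_injective x₁.1
      rw [Spec.map_comp, Category.assoc, hg, hγ1]
    exact congrArg CommRingCat.Hom.hom h1

theorem smooth_iff_smallLift {X S : Scheme.{u}} (f : X ⟶ S) [IsLocallyNoetherian S] [LocallyOfFiniteType f] :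
    Smooth f ↔ SmallLift f :=
  ⟨fun _ => smallLift_of_smooth f, smooth_of_smallLift f⟩

end Groth.Agent.LibSmallLift29
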