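import Mathlib
import Groth.Prelude.Def_CInt
import Groth.Agent.Lib.Helper24.SmoothRegular

/-!
# The local rings of the fibres of a smooth morphism are regular (helper29)

* `isRegularLocalRing_stalk_of_smooth`: `q : F ⟶ Spec K` smooth with `K` a regular ring; then all
  local rings of `F` are regular.
* `isRegularLocalRing_fiberStalk_of_smooth`: for `p : X ⟶ S` smooth, `CInt.fiberStalk p x` is a
  regular local ring.
-/

set_option autoImplicit false
set_option linter.style.haveILetI false
universe u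
open CategoryTheory CategoryTheory.Limits AlgebraicGeometry

namespace Groth.Agent.LibSmoothFibReg29

theorem isRegularLocalRing_stalk_of_smooth {F : Scheme.{u}} {K : CommRingCat.{u}}
    [IsRegularRing K] (q : F ⟶ Spec K) [Smooth q] (z : F) :
    IsRegularLocalRing (F.presheaf.stalk z) := by
  obtain ⟨W, hW, hz, -⟩ := exists_isAffineOpen_mem_and_subset (X := F) (x := z) (U := ⊤) trivial
  have hφ : (q.appLE ⊤ W le_top).hom.Smooth :=
    HasRingHomProperty.appLE (P := @Smooth) q inferInstance ⟨⊤, isAffineOpen_top _⟩ ⟨W, hW⟩ le_top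
  letI alg : Algebra Γ(Spec K, ⊤) Γ(F, W) := (q.appLE ⊤ W le_top).hom.toAlgebra
  haveI : Algebra.Smooth Γ(Spec K, ⊤) Γ(F, W) := hφ
  haveI : IsRegularRing Γ(Spec K, ⊤) :=
    IsRegularRing.of_ringEquiv (Scheme.ΓSpecIso K).symm.commRingCatIsoToRingEquiv
  haveI : IsRegularRing Γ(F, W) :=
    Groth.Agent.Lib.Helper24.SmoothRegular.isRegularRing_of_smooth Γ(Spec K, ⊤) Γ(F, W)
  letI := F.presheaf.algebra_section_stalk (⟨z, hz⟩ : W)
  haveI := hW.isLocalization_stalk ⟨z, hz⟩
  exact IsRegularLocalRing.of_ringEquiv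
    (IsLocalization.algEquiv (hW.primeIdealOf ⟨z, hz⟩).asIdeal.primeCompl
      (Localization.AtPrime (hW.primeIdealOf ⟨z, hz⟩).asIdeal) (F.presheaf.stalk z)).toRingEquiv

theorem isRegularLocalRing_fiberStalk_of_smooth {X S : Scheme.{u}} (p : X ⟶ S) [Smooth p] (x : X) :
    IsRegularLocalRing (CInt.fiberStalk p x) := by
  haveI : Smooth (p.fiberToSpecResidueField (p x)) :=
    MorphismProperty.pullback_snd (P := @Smooth) _ _ inferInstance
  exact isRegularLocalRing_stalk_of_smooth (p.fiberToSpecResidueField (p x)) (p.asFiber x)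

end Groth.Agent.LibSmoothFibReg29
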