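import Groth.Statements.S9721
-- import your own Groth.Agent.* helpers here

set_option autoImplicit false
universe u
open CategoryTheory AlgebraicGeometry
open Mor

namespace Groth.Agent.S9721

lemma smooth_appLE_iff {X S : Scheme.{u}} (f : X ⟶ S) {V : S.Opens} (hV : IsAffineOpen V)
    {U : X.Opens} (hU : IsAffineOpen U) (e : U ≤ f ⁻¹ᵁ V) :
    (f.appLE V U e).hom.Smooth ↔ Smooth (U.ι ≫ f) := by
  have : IsAffine U := hU
  have : IsAffine V := hV
  rw [← Scheme.Hom.resLE_comp_ι f e,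
    MorphismProperty.postcomp_iff (W := @Smooth) (W' := @IsOpenImmersion) _ _ inferInstance,
    HasRingHomProperty.iff_of_isAffine (P := @Smooth)]
  have : (RingHom.toMorphismProperty RingHom.Smooth).RespectsIso :=
    RingHom.toMorphismProperty_respectsIso_iff.mp RingHom.Smooth.propertyIsLocal.respectsIso
  exact (MorphismProperty.arrow_mk_iso_iff (RingHom.toMorphismProperty RingHom.Smooth)
    (arrowResLEAppIso f V U e)).symm

/-- Let f : X ⟶ S be a morphism, x a point of X and V an affine open neighbourhood of f(x) in S. Then f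
is smooth on some open neighbourhood of x if and only if there is an affine open neighbourhood U of
x with f(U) ⊆ V such that the induced ring map Γ(S, V) ⟶ Γ(X, U) is standard smooth. -/
theorem result {X S : Scheme.{u}} (f : X ⟶ S) (x : X)
    (V : S.Opens) (hV : IsAffineOpen V) (hxV : f x ∈ V) :
    (∃ W : X.Opens, x ∈ W ∧ Smooth (W.ι ≫ f)) ↔
      ∃ (U : X.Opens) (_ : IsAffineOpen U) (_ : x ∈ U) (e : U ≤ f ⁻¹ᵁ V),
        (f.appLE V U e).hom.IsStandardSmooth := by
  constructor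
  · rintro ⟨W, hxW, hW⟩
    obtain ⟨V₀, hV₀, hxV₀, hle⟩ : ∃ V₀ : X.Opens, IsAffineOpen V₀ ∧ x ∈ V₀ ∧ V₀ ≤ W ⊓ f ⁻¹ᵁ V :=
      TopologicalSpace.Opens.isBasis_iff_nbhd.mp X.isBasis_affineOpens
        (show x ∈ W ⊓ f ⁻¹ᵁ V from ⟨hxW, hxV⟩)
    have e₀ : V₀ ≤ f ⁻¹ᵁ V := hle.trans inf_le_right
    have hsm : (f.appLE V V₀ e₀).hom.Smooth := by
      rw [smooth_appLE_iff f hV hV₀ e₀]
      have : V₀.ι ≫ f = X.homOfLE (hle.trans inf_le_left) ≫ (W.ι ≫ f) := by simp
      rw [this]
      infer_instance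
    obtain ⟨s, hs, hfs⟩ := (RingHom.locally_iff_isLocalization
      RingHom.isStandardSmooth_respectsIso _).mp hsm.locally_isStandardSmooth
    apply iSup_basicOpen_of_span_eq_top at hs
    have : x ∈ (⨆ i ∈ s, X.basicOpen i) := hs.symm ▸ hxV₀
    have : ∃ r ∈ s, x ∈ X.basicOpen r := by simpa using this
    obtain ⟨r, hr, hrs⟩ := this
    refine ⟨X.basicOpen r, hV₀.basicOpen r, hrs, (X.basicOpen_le r).trans e₀, ?_⟩
    rw [← f.appLE_map e₀ (homOfLE (X.basicOpen_le r)).op]
    have : IsLocalization.Away r Γ(X, X.basicOpen r) := hV₀.isLocalization_basicOpen r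
    exact hfs r hr _
  · rintro ⟨U, hU, hxU, e, h⟩
    exact ⟨U, hxU, (smooth_appLE_iff f hV hU e).mp h.smooth⟩

end Groth.Agent.S9721
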