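import Mathlib
import Groth.Prelude.Def_RegImm
import Groth.Agent.LibFibRegSeq29
import Groth.Agent.LibFibRegInvRing29
import Groth.Agent.Lib.Helper24.SmoothRegular
import Groth.Agent.Lib.Helper24.FibreRegular
import Groth.Agent.Lib.Helper15.Regular
import Groth.Agent.S9721

/-!
# Slicing smooth morphisms: scheme-level helpers (helper29)

* `exists_basicOpen_regFlat_of_fibModel_seq'`: the chart form of EGA IV 11.3.8 of
  `LibFibRegSeq29`, with finite presentation of the chart assumed instead of `φ` being globally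
  locally of finite presentation.
* `isDomain_fibModel_of_smooth`: a model of the local ring of a fibre of a smooth ring map is a
  domain (it is a regular local ring).
* `smooth_appLE_of_le`: `f` smooth on the open `W`; charts `U ≤ W ⊓ f⁻¹ V` are smooth ring maps.
-/

set_option autoImplicit false
set_option linter.style.haveILetI false
universe u
open CategoryTheory CategoryTheory.Limits AlgebraicGeometry IsLocalRing RingTheory.Sequence

namespace Groth.Agent.LibSmoothSlice29

open Groth.Agent.LibFibReg29 Groth.Agent.LibH1Flat29 Groth.Agent.Lib.helper3.FlatLocus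
  Groth.Agent.LibFibStalk29

/-- **EGA IV 11.3.8 on a chart** (finite presentation only assumed for the chart). -/
theorem exists_basicOpen_regFlat_of_fibModel_seq' {X S : Scheme.{u}} (φ : X ⟶ S)
    (x : X) {U : X.Opens} (hU : IsAffineOpen U)
    {V : S.Opens} (hV : IsAffineOpen V) (e : U ≤ φ ⁻¹ᵁ V) (hx : x ∈ U)
    (hB : (φ.appLE V U e).hom.Flat) (hfp' : (φ.appLE V U e).hom.FinitePresentation)
    (L : Type u) [CommRing L] (ψ : X.presheaf.stalk x →+* L) (hψ : Function.Surjective ψ)
    (hkerψ : RingHom.ker ψ = (maximalIdeal (S.presheaf.stalk (φ x))).map (φ.stalkMap x).hom)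
    (ys : List Γ(X, U))
    (h : IsWeaklyRegular L (ys.map (ψ.comp (X.presheaf.germ U x hx).hom))) :
    ∃ g : Γ(X, U), x ∈ X.basicOpen g ∧
      (letI := (φ.appLE V (X.basicOpen g) ((X.basicOpen_le g).trans e)).hom.toAlgebra
       RegFlat Γ(S, V) Γ(X, X.basicOpen g)
        (ys.map (X.presheaf.map (homOfLE (X.basicOpen_le g)).op).hom)) := by
  letI algAB : Algebra Γ(S, V) Γ(X, U) := (φ.appLE V U e).hom.toAlgebra
  haveI hflatB : Module.Flat Γ(S, V) Γ(X, U) := by
    rw [← RingHom.flat_algebraMap_iff]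
    exact hB
  haveI hfp : Algebra.FinitePresentation Γ(S, V) Γ(X, U) := hfp'
  let r : Ideal Γ(X, U) := (hU.primeIdealOf ⟨x, hx⟩).asIdeal
  let p : Ideal Γ(S, V) := (hV.primeIdealOf ⟨φ x, e hx⟩).asIdeal
  haveI : r.LiesOver p := ⟨by
    have := IsAffineOpen.comap_primeIdealOf_appLE (f := φ) (x := x) V hV U hU e hx
    exact (congrArg PrimeSpectrum.asIdeal this).symm⟩
  letI a1 : Algebra Γ(X, U) (X.presheaf.stalk x) := X.presheaf.algebra_section_stalk (⟨x, hx⟩ : U)
  haveI l1 : IsLocalization.AtPrime (X.presheaf.stalk x) r := hU.isLocalization_stalk ⟨x, hx⟩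
  have hker : RingHom.ker ψ = (p.map (algebraMap Γ(S, V) Γ(X, U))).map
      (algebraMap Γ(X, U) (X.presheaf.stalk x)) := by
    rw [hkerψ]
    exact fibIdeal_eq φ x hV e hx
  obtain ⟨g, hg, H⟩ := exists_away_regFlat_of_surjective p r (X.presheaf.stalk x) L ψ hψ hker ys h
  have hxg : x ∈ X.basicOpen g := by
    rw [Scheme.mem_basicOpen _ _ x hx]
    exact (IsLocalization.AtPrime.isUnit_to_map_iff (X.presheaf.stalk x) r g).mpr hg
  refine ⟨g, hxg, ?_⟩
  letI algAB' : Algebra Γ(S, V) Γ(X, X.basicOpen g) :=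
    (φ.appLE V (X.basicOpen g) ((X.basicOpen_le g).trans e)).hom.toAlgebra
  haveI : IsScalarTower Γ(S, V) Γ(X, U) Γ(X, X.basicOpen g) := by
    apply IsScalarTower.of_algebraMap_eq'
    have := Scheme.Hom.appLE_map φ e (homOfLE (X.basicOpen_le g)).op
    exact (congrArg CommRingCat.Hom.hom this).symm
  haveI : IsLocalization.Away g Γ(X, X.basicOpen g) := hU.isLocalization_basicOpen g
  exact H Γ(X, X.basicOpen g)

open TensorProduct in
/-- a model of the local ring of a fibre of a smooth algebra is a domain. -/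
theorem isDomain_fibModel_of_smooth {A B : Type u} [CommRing A] [CommRing B] [Algebra A B]
    [Algebra.Smooth A B] (p : Ideal A) [p.IsPrime] (r : Ideal B) [r.IsPrime] [r.LiesOver p]
    (Sr : Type u) [CommRing Sr] [Algebra B Sr] [IsLocalization.AtPrime Sr r]
    (L : Type u) [CommRing L] (ψ : Sr →+* L) (hψ : Function.Surjective ψ)
    (hker : RingHom.ker ψ = (p.map (algebraMap A B)).map (algebraMap B Sr)) : IsDomain L := by
  obtain ⟨q, hq, hqr⟩ := Groth.Agent.Lib.Helper24.FibreRegular.exists_fiber_prime A B p r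
  obtain ⟨E, -⟩ := Groth.Agent.LibFibRegInvRing29.exists_equiv_localization_fiber p q r hqr Sr L ψ
    hψ hker
  haveI : Algebra.Smooth p.ResidueField (p.Fiber B) := inferInstance
  haveI : IsRegularRing (p.Fiber B) :=
    Groth.Agent.Lib.Helper24.SmoothRegular.isRegularRing_of_smooth p.ResidueField (p.Fiber B)
  haveI : IsRegularLocalRing (Localization.AtPrime q) :=
    IsRegularRing.isRegularLocalRing_localization q
  haveI hdom := Groth.Agent.Lib.helper15.isDomain_of_isRegularLocalRing (Localization.AtPrime q)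
  exact E.toMulEquiv.isDomain (Localization.AtPrime q)

/-- `f` smooth on the open `W`: affine charts inside `W` are smooth ring maps. -/
theorem smooth_appLE_of_le {X S : Scheme.{u}} (f : X ⟶ S) (W : X.Opens) (hW : Smooth (W.ι ≫ f))
    {V : S.Opens} (hV : IsAffineOpen V) {U : X.Opens} (hU : IsAffineOpen U) (hUW : U ≤ W)
    (e : U ≤ f ⁻¹ᵁ V) : (f.appLE V U e).hom.Smooth := by
  rw [Groth.Agent.S9721.smooth_appLE_iff f hV hU e]
  have : U.ι ≫ f = X.homOfLE hUW ≫ (W.ι ≫ f) := by simp
  rw [this]
  infer_instance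

end Groth.Agent.LibSmoothSlice29
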