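import Mathlib
import Groth.Agent.LibFibRegInvRing29
import Groth.Agent.Lib.Helper24.FibreRegular

/-!
# Models of local rings of fibres of finite type algebras are Noetherian (helper29)
-/

set_option autoImplicit false
universe u
open TensorProduct

namespace Groth.Agent.LibSmoothSlice29b

/-- a model of the local ring of a fibre of a finite type algebra is Noetherian. -/
theorem isNoetherianRing_fibModel {A B : Type u} [CommRing A] [CommRing B] [Algebra A B]
    [Algebra.FiniteType A B] (p : Ideal A) [p.IsPrime] (r : Ideal B) [r.IsPrime] [r.LiesOver p]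
    (Sr : Type u) [CommRing Sr] [Algebra B Sr] [IsLocalization.AtPrime Sr r]
    (L : Type u) [CommRing L] (ψ : Sr →+* L) (hψ : Function.Surjective ψ)
    (hker : RingHom.ker ψ = (p.map (algebraMap A B)).map (algebraMap B Sr)) :
    IsNoetherianRing L := by
  obtain ⟨q, hq, hqr⟩ := Groth.Agent.Lib.Helper24.FibreRegular.exists_fiber_prime A B p r
  obtain ⟨E, -⟩ := Groth.Agent.LibFibRegInvRing29.exists_equiv_localization_fiber p q r hqr Sr L ψ
    hψ hker
  haveI : IsNoetherianRing (p.Fiber B) :=
    Algebra.FiniteType.isNoetherianRing p.ResidueField (p.Fiber B)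
  haveI : IsNoetherianRing (Localization.AtPrime q) :=
    IsLocalization.isNoetherianRing q.primeCompl _ inferInstance
  exact isNoetherianRing_of_ringEquiv (Localization.AtPrime q) E.symm

end Groth.Agent.LibSmoothSlice29b
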