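import Mathlib

/-!
# Slicing smooth algebras by an element with nonvanishing differential: ring level (helper29)

* `formallySmooth_quotient_span_singleton`: `A → B` formally smooth, `h : B` and a functional
  `l : Ω[B⁄A] → B` with `l (d h)` a unit; then `B ⧸ (h)` is formally smooth over `A`.
* `exists_functional_of_isLocalization`: functionals on `Ω[B⁄A]` extend to localizations of `B`.
* `exists_functional_isUnit`: if `d h ≠ 0` in `κ ⊗ Ω[B'⁄A']` for a local ring `B'` over `B`, and
  `Ω[B⁄A]` is finite projective, there is a functional `l` with `l (d h)` a unit in `B'`.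
* `tmul_D_eq_zero_of_mem_map`: for a local homomorphism `A' → B'`, `d h` vanishes in
  `κ ⊗ Ω[B'⁄A']` for `h ∈ 𝔪_{A'} B'`.
-/

set_option autoImplicit false
universe u
open TensorProduct KaehlerDifferential

namespace Groth.Agent.LibSmoothSliceRing29

section Quot

variable {A B : Type u} [CommRing A] [CommRing B] [Algebra A B]

theorem formallySmooth_quotient_span_singleton [Algebra.FormallySmooth A B] (h : B)
    (l : Ω[B⁄A] →ₗ[B] B) (hl : IsUnit (l (D A B h))) :
    Algebra.FormallySmooth A (B ⧸ Ideal.span {h}) := by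
  obtain ⟨u, hu⟩ := hl
  set l' : Ω[B⁄A] →ₗ[B] B := (↑u⁻¹ : B) • l with hl'
  have hl1 : l' (D A B h) = 1 := by
    simp [hl', ← hu]
  refine Algebra.FormallySmooth.of_comp_surjective ?_
  intro C _ _ I hI ψ
  obtain ⟨φ, hφ⟩ := Algebra.FormallySmooth.comp_surjective A B I hI
    (ψ.comp (Ideal.Quotient.mkₐ A (Ideal.span {h})))
  have hφb : ∀ b : B, Ideal.Quotient.mk I (φ b) = ψ (Ideal.Quotient.mk _ b) := fun b =>
    congrArg (fun F : B →ₐ[A] C ⧸ I => F b) hφ
  have hφh : φ h ∈ I := by
    rw [← Ideal.Quotient.eq_zero_iff_mem, hφb]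
    have : (Ideal.Quotient.mk (Ideal.span {h})) h = 0 :=
      Ideal.Quotient.eq_zero_iff_mem.mpr (Ideal.mem_span_singleton_self h)
    rw [this, map_zero]
  have hsq : φ h * φ h = 0 := by
    have : φ h * φ h ∈ I ^ 2 := by
      rw [pow_two]
      exact Ideal.mul_mem_mul hφh hφh
    rw [hI] at this
    simpa using this
  let φ' : B →ₐ[A] C :=
    { toFun := fun b => φ b - φ (l' (D A B b)) * φ h
      map_one' := by simp
      map_zero' := by simp
      map_add' := by
        intro a b
        simp only [map_add]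
        ring
      map_mul' := by
        intro a b
        simp only [Derivation.leibniz, map_add, map_smul, smul_eq_mul, map_mul]
        linear_combination (-(φ (l' (D A B a)) * φ (l' (D A B b)))) * hsq
      commutes' := by
        intro a
        simp }
  have hφ'h : φ' h = 0 := by
    change φ h - φ (l' (D A B h)) * φ h = 0
    rw [hl1, map_one, one_mul, sub_self]
  refine ⟨Ideal.Quotient.liftₐ (Ideal.span {h}) φ' ?_, ?_⟩
  · intro a ha
    obtain ⟨c, rfl⟩ := Ideal.mem_span_singleton'.mp ha
    rw [map_mul, hφ'h, mul_zero]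
  · apply AlgHom.ext
    intro y
    obtain ⟨b, rfl⟩ := Ideal.Quotient.mk_surjective y
    change Ideal.Quotient.mk I (φ b - φ (l' (D A B b)) * φ h) = _
    rw [map_sub, map_mul, Ideal.Quotient.eq_zero_iff_mem.mpr hφh, mul_zero, sub_zero, hφb]

end Quot

section Loc

variable {A B B₁ : Type u} [CommRing A] [CommRing B] [CommRing B₁] [Algebra A B] [Algebra B B₁]
  [Algebra A B₁] [IsScalarTower A B B₁]

theorem exists_functional_of_isLocalization (M : Submonoid B) [IsLocalization M B₁]
    (l : Ω[B⁄A] →ₗ[B] B) :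
    ∃ l₁ : Ω[B₁⁄A] →ₗ[B₁] B₁, ∀ b : B,
      l₁ (D A B₁ (algebraMap B B₁ b)) = algebraMap B B₁ (l (D A B b)) := by
  haveI : Algebra.FormallyEtale B B₁ := Algebra.FormallyEtale.of_isLocalization (Rₘ := B₁) M
  refine ⟨(LinearMap.liftBaseChange B₁ ((Algebra.linearMap B B₁) ∘ₗ l)) ∘ₗ
    (tensorKaehlerEquivOfFormallyEtale A B B₁).symm.toLinearMap, fun b => ?_⟩
  rw [LinearMap.comp_apply, LinearEquiv.coe_coe,
    tensorKaehlerEquivOfFormallyEtale_symm_D_algebraMap, LinearMap.liftBaseChange_tmul, one_smul]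
  rfl

end Loc

section Functional

variable {A B A' B' : Type u} [CommRing A] [CommRing B] [CommRing A'] [CommRing B']
  [Algebra A B] [Algebra A' B'] [Algebra A A'] [Algebra B B'] [Algebra A B']
  [IsScalarTower A A' B'] [IsScalarTower A B B'] [IsLocalRing B']

attribute [local instance] SMulCommClass.of_commMonoid in
theorem exists_functional_isUnit [Module.Finite B Ω[B⁄A]] [Module.Projective B Ω[B⁄A]] (h₀ : B)
    (hd : (1 : IsLocalRing.ResidueField B') ⊗ₜ[B'] D A' B' (algebraMap B B' h₀) ≠ 0) :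
    ∃ l : Ω[B⁄A] →ₗ[B] B, IsUnit (algebraMap B B' (l (D A B h₀))) := by
  by_contra hcon
  push Not at hcon
  apply hd
  obtain ⟨n, f, g, -, -, hfg⟩ := Module.Finite.exists_comp_eq_id_of_projective B Ω[B⁄A]
  have hexp : D A B h₀ = ∑ i : Fin n, (g (D A B h₀) i) • f (Pi.single i 1) := by
    conv_lhs => rw [← LinearMap.id_apply (R := B) (D A B h₀), ← hfg, LinearMap.comp_apply]
    conv_lhs => rw [← Finset.univ_sum_single (g (D A B h₀))]
    rw [map_sum]
    refine Finset.sum_congr rfl fun i _ => ?_
    rw [← map_smul]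
    congr 1
    ext j
    by_cases hij : j = i
    · subst hij
      simp
    · simp [hij]
  have hmem : ∀ i, algebraMap B B' (g (D A B h₀) i) ∈ IsLocalRing.maximalIdeal B' := fun i => by
    rw [IsLocalRing.mem_maximalIdeal, mem_nonunits_iff]
    exact hcon ((LinearMap.proj i : (Fin n → B) →ₗ[B] B) ∘ₗ g)
  rw [← map_D A A' B B', hexp, map_sum, tmul_sum]
  refine Finset.sum_eq_zero fun i _ => ?_
  rw [map_smul, ← algebraMap_smul B' (g (D A B h₀) i), ← smul_tmul, Algebra.smul_def, mul_one,
    IsLocalRing.ResidueField.algebraMap_eq, (IsLocalRing.residue_eq_zero_iff _).mpr (hmem i),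
    zero_tmul]

end Functional

section Vanish

variable {A' B' : Type u} [CommRing A'] [CommRing B'] [Algebra A' B'] [IsLocalRing A']
  [IsLocalRing B'] [IsLocalHom (algebraMap A' B')]

theorem smul_eq_zero_of_mem_maximalIdeal {M : Type u} [AddCommGroup M] [Module B' M] (c : B')
    (hc : c ∈ IsLocalRing.maximalIdeal B') (t : IsLocalRing.ResidueField B' ⊗[B'] M) :
    c • t = 0 := by
  induction t with
  | zero => simp
  | tmul k m =>
    rw [smul_tmul', Algebra.smul_def, IsLocalRing.ResidueField.algebraMap_eq,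
      (IsLocalRing.residue_eq_zero_iff _).mpr hc, zero_mul, zero_tmul]
  | add a b ha hb => rw [smul_add, ha, hb, add_zero]

theorem tmul_D_eq_zero_of_mem_map (h : B')
    (hh : h ∈ (IsLocalRing.maximalIdeal A').map (algebraMap A' B')) :
    (1 : IsLocalRing.ResidueField B') ⊗ₜ[B'] D A' B' h = 0 := by
  let K : Ideal B' :=
    { carrier := {b | b ∈ IsLocalRing.maximalIdeal B' ∧
        (1 : IsLocalRing.ResidueField B') ⊗ₜ[B'] D A' B' b = 0}
      add_mem' := by
        rintro a b ⟨ha, ha'⟩ ⟨hb, hb'⟩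
        exact ⟨Ideal.add_mem _ ha hb, by rw [map_add, tmul_add, ha', hb', add_zero]⟩
      zero_mem' := ⟨Ideal.zero_mem _, by rw [map_zero, tmul_zero]⟩
      smul_mem' := by
        rintro c b ⟨hb, hb'⟩
        refine ⟨Ideal.mul_mem_left _ c hb, ?_⟩
        rw [smul_eq_mul, Derivation.leibniz, tmul_add, tmul_smul, hb', smul_zero, zero_add,
          tmul_smul]
        exact smul_eq_zero_of_mem_maximalIdeal b hb _ }
  have hle : (IsLocalRing.maximalIdeal A').map (algebraMap A' B') ≤ K := by
    rw [Ideal.map_le_iff_le_comap]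
    intro a ha
    refine ⟨?_, ?_⟩
    · rw [IsLocalRing.mem_maximalIdeal, mem_nonunits_iff] at ha ⊢
      exact fun hu => ha (isUnit_of_map_unit (algebraMap A' B') a hu)
    · rw [Derivation.map_algebraMap, tmul_zero]
  exact (hle hh).2

end Vanish

end Groth.Agent.LibSmoothSliceRing29
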