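import Mathlib

/-!
# Elements with nonvanishing differential at a point: ring level (helper29)

* `exists_mem_maximalIdeal_tmul_D_ne_zero_of_ker_ne_bot`: `B'` local with residue field `K`, over
  `A'`; if `K ⊗ Ω[B'⁄A'] → Ω[K⁄A']` is not injective, there is `h ∈ 𝔪` with `1 ⊗ d h ≠ 0`.
-/

set_option autoImplicit false
universe u
open TensorProduct KaehlerDifferential

namespace Groth.Agent.LibSmoothSliceRing29b

section Ker

variable {A' B' : Type u} [CommRing A'] [CommRing B'] [Algebra A' B'] [IsLocalRing B']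
  [Algebra A' (IsLocalRing.ResidueField B')] [IsScalarTower A' B' (IsLocalRing.ResidueField B')]

theorem exists_mem_maximalIdeal_tmul_D_ne_zero_of_ker_ne_bot
    (hker : LinearMap.ker (mapBaseChange A' B' (IsLocalRing.ResidueField B')) ≠ ⊥) :
    ∃ h ∈ IsLocalRing.maximalIdeal B',
      (1 : IsLocalRing.ResidueField B') ⊗ₜ[B'] D A' B' h ≠ 0 := by
  obtain ⟨t, ht, ht0⟩ := (Submodule.ne_bot_iff _).mp hker
  have hsurj : Function.Surjective (algebraMap B' (IsLocalRing.ResidueField B')) :=
    IsLocalRing.residue_surjective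
  obtain ⟨c, rfl⟩ := (exact_kerCotangentToTensor_mapBaseChange A' B'
    (IsLocalRing.ResidueField B') hsurj t).mp ht
  obtain ⟨⟨h, hh⟩, rfl⟩ := Ideal.toCotangent_surjective _ c
  refine ⟨h, ?_, ?_⟩
  · have : h ∈ RingHom.ker (IsLocalRing.residue B') := hh
    rwa [IsLocalRing.ker_residue] at this
  · rwa [kerCotangentToTensor_toCotangent] at ht0

end Ker

end Groth.Agent.LibSmoothSliceRing29b
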