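import Mathlib

/-!
# A uniform derivation from generic smoothness (seat helper29)

Let `π : P = A[X₁..X_r] → B` be a surjection of `A`-algebras with finitely generated kernel `I`, and `t : A` such that
`B[1/t]` is formally smooth over `A`.  Then there are `N` and an `A`-derivation `D : P → I/I²` with
`D F = t^N • [F]` for all `F ∈ I` (`exists_derivation_cotangent`).
-/
set_option autoImplicit false
universe u
open MvPolynomial
namespace Groth.Agent.LibSmoothing29
variable {A B : Type u} [CommRing A] [CommRing B] [Algebra A B] (t : A)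
  {r : ℕ} (π : MvPolynomial (Fin r) A →ₐ[A] B)

/-- `P/I²` -/
abbrev Qsq : Type u := MvPolynomial (Fin r) A ⧸ RingHom.ker π.toRingHom ^ 2

/-- `(P/I²)[1/t]` -/
abbrev Qloc : Type u := Localization.Away (algebraMap A (Qsq π) t)

/-- `B[1/t]` -/
abbrev Bloc (B : Type u) [CommRing B] [Algebra A B] : Type u := Localization.Away (algebraMap A B t)

lemma kerSquareLift_surjective (hπ : Function.Surjective π) : Function.Surjective π.kerSquareLift := by
  intro b
  obtain ⟨p, rfl⟩ := hπ b
  exact ⟨Ideal.Quotient.mk _ p, rfl⟩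

instance isLoc_map : IsLocalization ((Submonoid.powers (algebraMap A (Qsq π) t)).map π.kerSquareLift.toRingHom)
    (Bloc t B) := by
  have h1 : (Submonoid.powers (algebraMap A (Qsq π) t)).map π.kerSquareLift.toRingHom =
      Submonoid.powers (algebraMap A B t) := by
    rw [Submonoid.map_powers]
    congr 1
    exact π.kerSquareLift.commutes t
  rw [h1]
  infer_instance

/-- the localized map `(P/I²)[1/t] → B[1/t]` -/
noncomputable def gloc₀ : Qloc t π →+* Bloc t B :=
  IsLocalization.map (Bloc t B) π.kerSquareLift.toRingHom (Submonoid.powers (algebraMap A (Qsq π) t)).le_comap_map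

lemma gloc₀_algebraMap (q : Qsq π) : gloc₀ t π (algebraMap (Qsq π) (Qloc t π) q) = algebraMap B (Bloc t B) (π.kerSquareLift q) :=
  IsLocalization.map_eq _ q

end Groth.Agent.LibSmoothing29
namespace Groth.Agent.LibSmoothing29
variable {A B : Type u} [CommRing A] [CommRing B] [Algebra A B] (t : A)
  {r : ℕ} (π : MvPolynomial (Fin r) A →ₐ[A] B)

/-- the localized map as an `A`-algebra map -/
noncomputable def gloc : Qloc t π →ₐ[A] Bloc t B :=
  { gloc₀ t π with
    commutes' := fun a => by
      change gloc₀ t π (algebraMap A _ a) = algebraMap A _ a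
      rw [IsScalarTower.algebraMap_apply A (Qsq π) (Qloc t π), gloc₀_algebraMap, AlgHom.commutes,
        ← IsScalarTower.algebraMap_apply] }

lemma gloc_apply (x : Qloc t π) : gloc t π x = gloc₀ t π x := rfl

lemma gloc_surjective (hπ : Function.Surjective π) : Function.Surjective (gloc t π) :=
  IsLocalization.map_surjective_of_surjective (Submonoid.powers (algebraMap A (Qsq π) t)) (Qloc t π)
    (Bloc t B) (kerSquareLift_surjective π hπ)

lemma ker_gloc₀ : RingHom.ker (gloc₀ t π) =
    ((RingHom.ker π.toRingHom).cotangentIdeal).map (algebraMap (Qsq π) (Qloc t π)) := by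
  have h1 : RingHom.ker (gloc₀ t π) = (RingHom.ker π.kerSquareLift.toRingHom).map (algebraMap (Qsq π) (Qloc t π)) :=
    IsLocalization.ker_map (Bloc t B) π.kerSquareLift.toRingHom rfl
  rw [h1, AlgHom.ker_kerSquareLift]

lemma ker_gloc₀_sq : RingHom.ker (gloc₀ t π) ^ 2 = ⊥ := by
  rw [ker_gloc₀, ← Ideal.map_pow, Ideal.cotangentIdeal_square, Ideal.map_bot]

end Groth.Agent.LibSmoothing29
namespace Groth.Agent.LibSmoothing29
variable {A B : Type u} [CommRing A] [CommRing B] [Algebra A B] (t : A)
  {r : ℕ} (π : MvPolynomial (Fin r) A →ₐ[A] B)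

lemma mul_eq_zero_of_gloc (x y : Qloc t π) (hx : gloc t π x = 0) (hy : gloc t π y = 0) : x * y = 0 := by
  have h1 : x * y ∈ RingHom.ker (gloc₀ t π) * RingHom.ker (gloc₀ t π) := Ideal.mul_mem_mul hx hy
  have h2 : RingHom.ker (gloc₀ t π) * RingHom.ker (gloc₀ t π) = ⊥ :=
    (pow_two (RingHom.ker (gloc₀ t π))).symm.trans (ker_gloc₀_sq t π)
  rw [h2] at h1
  exact h1

lemma exists_of_gloc_eq_zero (x : Qloc t π) (hx : gloc t π x = 0) :
    ∃ (m : ℕ) (F : RingHom.ker π.toRingHom),
      (algebraMap A (Qloc t π) t) ^ m * x =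
        algebraMap (Qsq π) (Qloc t π) (Ideal.Quotient.mk _ (F : MvPolynomial (Fin r) A)) := by
  have hx' : x ∈ ((RingHom.ker π.toRingHom).cotangentIdeal).map (algebraMap (Qsq π) (Qloc t π)) := by
    rw [← ker_gloc₀]
    exact hx
  rw [IsLocalization.mem_map_algebraMap_iff (Submonoid.powers (algebraMap A (Qsq π) t))] at hx'
  obtain ⟨⟨⟨y, hy⟩, ⟨_, m, rfl⟩⟩, hxy⟩ := hx'
  obtain ⟨F, hF, rfl⟩ := hy
  refine ⟨m, ⟨F, hF⟩, ?_⟩
  rw [mul_comm]
  simp only at hxy
  refine Eq.trans ?_ hxy
  rw [map_pow, IsScalarTower.algebraMap_apply A (Qsq π) (Qloc t π)]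

/-- the section given by formal smoothness -/
noncomputable def sloc (hπ : Function.Surjective π) [Algebra.FormallySmooth A (Bloc t B)] :
    Bloc t B →ₐ[A] Qloc t π :=
  Algebra.FormallySmooth.liftOfSurjective (AlgHom.id A (Bloc t B)) (gloc t π) (gloc_surjective t π hπ)
    ⟨2, ker_gloc₀_sq t π⟩

lemma gloc_sloc (hπ : Function.Surjective π) [Algebra.FormallySmooth A (Bloc t B)] (x : Bloc t B) :
    gloc t π (sloc t π hπ x) = x :=
  Algebra.FormallySmooth.liftOfSurjective_apply (AlgHom.id A (Bloc t B)) (gloc t π) (gloc_surjective t π hπ)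
    ⟨2, ker_gloc₀_sq t π⟩ x

end Groth.Agent.LibSmoothing29
namespace Groth.Agent.LibSmoothing29
variable {A B : Type u} [CommRing A] [CommRing B] [Algebra A B] (t : A)
  {r : ℕ} (π : MvPolynomial (Fin r) A →ₐ[A] B)

/-- the canonical map `P → (P/I²)[1/t]` -/
noncomputable def cmap : MvPolynomial (Fin r) A →ₐ[A] Qloc t π :=
  (IsScalarTower.toAlgHom A (Qsq π) (Qloc t π)).comp (Ideal.Quotient.mkₐ A (RingHom.ker π.toRingHom ^ 2))

lemma cmap_apply (G : MvPolynomial (Fin r) A) :
    cmap t π G = algebraMap (Qsq π) (Qloc t π) (Ideal.Quotient.mk _ G) := rfl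

/-- the map `P → B → B[1/t] → (P/I²)[1/t]` through the section -/
noncomputable def cmap' (hπ : Function.Surjective π) [Algebra.FormallySmooth A (Bloc t B)] :
    MvPolynomial (Fin r) A →ₐ[A] Qloc t π :=
  (sloc t π hπ).comp ((IsScalarTower.toAlgHom A B (Bloc t B)).comp π)

lemma cmap'_apply (hπ : Function.Surjective π) [Algebra.FormallySmooth A (Bloc t B)] (G : MvPolynomial (Fin r) A) :
    cmap' t π hπ G = sloc t π hπ (algebraMap B (Bloc t B) (π G)) := rfl

lemma gloc_cmap (G : MvPolynomial (Fin r) A) : gloc t π (cmap t π G) = algebraMap B (Bloc t B) (π G) := by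
  rw [cmap_apply, gloc_apply, gloc₀_algebraMap]
  rfl

lemma gloc_cmap' (hπ : Function.Surjective π) [Algebra.FormallySmooth A (Bloc t B)] (G : MvPolynomial (Fin r) A) :
    gloc t π (cmap' t π hπ G) = algebraMap B (Bloc t B) (π G) := by
  rw [cmap'_apply, gloc_sloc]

lemma gloc_sub (hπ : Function.Surjective π) [Algebra.FormallySmooth A (Bloc t B)] (G : MvPolynomial (Fin r) A) :
    gloc t π (cmap t π G - cmap' t π hπ G) = 0 := by
  rw [map_sub, gloc_cmap, gloc_cmap', sub_self]

/-- the inclusion of `I/I²` into `(P/I²)[1/t]` -/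
noncomputable def iota : (RingHom.ker π.toRingHom).Cotangent →ₗ[A] Qloc t π :=
  ((IsScalarTower.toAlgHom A (Qsq π) (Qloc t π)).toLinearMap).comp
    ((RingHom.ker π.toRingHom).cotangentToQuotientSquare.restrictScalars A)

lemma iota_apply (z : (RingHom.ker π.toRingHom).Cotangent) :
    iota t π z = algebraMap (Qsq π) (Qloc t π) ((RingHom.ker π.toRingHom).cotangentToQuotientSquare z) := rfl

lemma iota_toCotangent (F : RingHom.ker π.toRingHom) :
    iota t π ((RingHom.ker π.toRingHom).toCotangent F) = cmap t π (F : MvPolynomial (Fin r) A) := rfl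

lemma iota_smul (G : MvPolynomial (Fin r) A) (z : (RingHom.ker π.toRingHom).Cotangent) :
    iota t π (G • z) = cmap t π G * iota t π z := by
  rw [iota_apply, map_smul, iota_apply, cmap_apply, ← map_mul]
  rfl

end Groth.Agent.LibSmoothing29
namespace Groth.Agent.LibSmoothing29
variable {A B : Type u} [CommRing A] [CommRing B] [Algebra A B] (t : A)
  {r : ℕ} (π : MvPolynomial (Fin r) A →ₐ[A] B)

/-- two "derivation-like" functions agreeing on the variables agree -/
lemma iota_derivation_eq (hπ : Function.Surjective π) [Algebra.FormallySmooth A (Bloc t B)]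
    (D₁ : Derivation A (MvPolynomial (Fin r) A) (RingHom.ker π.toRingHom).Cotangent) (m : ℕ)
    (hX : ∀ j, iota t π (D₁ (X j)) = (algebraMap A (Qloc t π) t) ^ m * (cmap t π (X j) - cmap' t π hπ (X j)))
    (G : MvPolynomial (Fin r) A) :
    iota t π (D₁ G) = (algebraMap A (Qloc t π) t) ^ m * (cmap t π G - cmap' t π hπ G) := by
  induction G using MvPolynomial.induction_on with
  | C a =>
    rw [MvPolynomial.derivation_C, map_zero]
    have h1 : cmap t π (C a) = algebraMap A _ a := (cmap t π).commutes a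
    have h2 : cmap' t π hπ (C a) = algebraMap A _ a := (cmap' t π hπ).commutes a
    rw [h1, h2, sub_self, mul_zero]
  | add p q hp hq =>
    rw [map_add, map_add, hp, hq, map_add, map_add]
    ring
  | mul_X p j hp =>
    rw [Derivation.leibniz, map_add, iota_smul, iota_smul, hp, hX j, map_mul, map_mul]
    have h0 := mul_eq_zero_of_gloc t π _ _ (gloc_sub t π hπ p) (gloc_sub t π hπ (X j))
    have h3 : cmap t π p * cmap t π (X j) - cmap' t π hπ p * cmap' t π hπ (X j) =
        cmap t π p * (cmap t π (X j) - cmap' t π hπ (X j)) + cmap t π (X j) * (cmap t π p - cmap' t π hπ p)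
          - (cmap t π p - cmap' t π hπ p) * (cmap t π (X j) - cmap' t π hπ (X j)) := by ring
    rw [h3, h0, sub_zero]
    ring

end Groth.Agent.LibSmoothing29
namespace Groth.Agent.LibSmoothing29
variable {A B : Type u} [CommRing A] [CommRing B] [Algebra A B] (t : A)
  {r : ℕ} (π : MvPolynomial (Fin r) A →ₐ[A] B)

lemma exists_smul_eq_zero_of_iota (z : (RingHom.ker π.toRingHom).Cotangent) (hz : iota t π z = 0) :
    ∃ m' : ℕ, (t ^ m') • z = 0 := by
  rw [iota_apply, IsLocalization.map_eq_zero_iff (Submonoid.powers (algebraMap A (Qsq π) t))] at hz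
  obtain ⟨⟨_, m', rfl⟩, hm'⟩ := hz
  refine ⟨m', ?_⟩
  apply (RingHom.ker π.toRingHom).cotangentToQuotientSquare_injective
  rw [map_zero]
  have h1 : (RingHom.ker π.toRingHom).cotangentToQuotientSquare ((t ^ m') • z) =
      (t ^ m') • (RingHom.ker π.toRingHom).cotangentToQuotientSquare z :=
    ((RingHom.ker π.toRingHom).cotangentToQuotientSquare.restrictScalars A).map_smul (t ^ m') z
  rw [h1, Algebra.smul_def, map_pow]
  exact hm'

theorem exists_derivation_cotangent (hπ : Function.Surjective π) (hfg : (RingHom.ker π.toRingHom).FG)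
    [Algebra.FormallySmooth A (Bloc t B)] :
    ∃ (N : ℕ) (D : Derivation A (MvPolynomial (Fin r) A) (RingHom.ker π.toRingHom).Cotangent),
      ∀ F : RingHom.ker π.toRingHom,
        D (F : MvPolynomial (Fin r) A) = (t ^ N) • (RingHom.ker π.toRingHom).toCotangent F := by
  classical
  have h1 : ∀ j : Fin r, ∃ (m : ℕ) (F : RingHom.ker π.toRingHom),
      (algebraMap A (Qloc t π) t) ^ m * (cmap t π (X j) - cmap' t π hπ (X j)) =
        cmap t π (F : MvPolynomial (Fin r) A) :=
    fun j => exists_of_gloc_eq_zero t π _ (gloc_sub t π hπ (X j))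
  choose mj Fj hFj using h1
  let m : ℕ := ∑ j, mj j
  have hmj : ∀ j, mj j ≤ m := fun j => Finset.single_le_sum (fun _ _ => Nat.zero_le _) (Finset.mem_univ j)
  let ρ : Fin r → RingHom.ker π.toRingHom := fun j => (C (t ^ (m - mj j)) : MvPolynomial (Fin r) A) • Fj j
  have hρ : ∀ j, (algebraMap A (Qloc t π) t) ^ m * (cmap t π (X j) - cmap' t π hπ (X j)) =
      cmap t π (ρ j : MvPolynomial (Fin r) A) := by
    intro j
    have h2 : ((ρ j : RingHom.ker π.toRingHom) : MvPolynomial (Fin r) A) = C (t ^ (m - mj j)) * (Fj j : MvPolynomial (Fin r) A) := rfl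
    rw [h2, map_mul, ← hFj j, ← mul_assoc]
    congr 1
    have h3 : cmap t π (C (t ^ (m - mj j))) = algebraMap A _ (t ^ (m - mj j)) := (cmap t π).commutes _
    rw [h3, map_pow, ← pow_add, Nat.sub_add_cancel (hmj j)]
  let D₁ : Derivation A (MvPolynomial (Fin r) A) (RingHom.ker π.toRingHom).Cotangent :=
    mkDerivation A (fun j => (RingHom.ker π.toRingHom).toCotangent (ρ j))
  have hX : ∀ j, iota t π (D₁ (X j)) =
      (algebraMap A (Qloc t π) t) ^ m * (cmap t π (X j) - cmap' t π hπ (X j)) := by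
    intro j
    rw [mkDerivation_X, iota_toCotangent, hρ]
  have key := iota_derivation_eq t π hπ D₁ m hX
  -- the defect
  let Ψ : RingHom.ker π.toRingHom → (RingHom.ker π.toRingHom).Cotangent :=
    fun F => D₁ (F : MvPolynomial (Fin r) A) - (t ^ m) • (RingHom.ker π.toRingHom).toCotangent F
  have hΨ0 : ∀ F, iota t π (Ψ F) = 0 := by
    intro F
    have h4 : cmap' t π hπ (F : MvPolynomial (Fin r) A) = 0 := by
      have h5 : π (F : MvPolynomial (Fin r) A) = 0 := F.2
      rw [cmap'_apply, h5, map_zero, map_zero]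
    change iota t π (D₁ (F : MvPolynomial (Fin r) A) - (t ^ m) • (RingHom.ker π.toRingHom).toCotangent F) = 0
    rw [map_sub, key, map_smul, iota_toCotangent, h4, sub_zero, Algebra.smul_def, map_pow, sub_self]
  have hΨ1 : ∀ F, ∃ m' : ℕ, (t ^ m') • Ψ F = 0 := fun F => exists_smul_eq_zero_of_iota t π _ (hΨ0 F)
  choose m' hm' using hΨ1
  have hΨadd : ∀ F G, Ψ (F + G) = Ψ F + Ψ G := by
    intro F G
    change D₁ ((F : MvPolynomial (Fin r) A) + G) - (t ^ m) • (RingHom.ker π.toRingHom).toCotangent (F + G) =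
      (D₁ (F : MvPolynomial (Fin r) A) - (t ^ m) • (RingHom.ker π.toRingHom).toCotangent F) +
      (D₁ (G : MvPolynomial (Fin r) A) - (t ^ m) • (RingHom.ker π.toRingHom).toCotangent G)
    rw [map_add, map_add, smul_add]
    abel
  have hΨsmul : ∀ (G : MvPolynomial (Fin r) A) F, Ψ (G • F) = G • Ψ F := by
    intro G F
    change D₁ (G * (F : MvPolynomial (Fin r) A)) - (t ^ m) • (RingHom.ker π.toRingHom).toCotangent (G • F) =
      G • (D₁ (F : MvPolynomial (Fin r) A) - (t ^ m) • (RingHom.ker π.toRingHom).toCotangent F)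
    rw [Derivation.leibniz, map_smul, Ideal.Cotangent.smul_eq_zero_of_mem F.2, add_zero, smul_comm (t ^ m) G,
      ← smul_sub]
  obtain ⟨S, hS⟩ := (Submodule.fg_top (RingHom.ker π.toRingHom)).mpr hfg
  let M' : ℕ := ∑ F ∈ S, m' F
  have hall : ∀ F : RingHom.ker π.toRingHom, (t ^ M') • Ψ F = 0 := by
    intro F
    have hF : F ∈ Submodule.span (MvPolynomial (Fin r) A) (S : Set (RingHom.ker π.toRingHom)) := by
      rw [hS]
      exact Submodule.mem_top
    induction hF using Submodule.span_induction with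
    | mem F hFS =>
      have h6 : m' F ≤ M' := Finset.single_le_sum (fun _ _ => Nat.zero_le _) hFS
      rw [← Nat.sub_add_cancel h6, pow_add, mul_smul, hm', smul_zero]
    | zero =>
      have : Ψ 0 = 0 := by
        have := hΨadd 0 0
        rw [add_zero] at this
        exact left_eq_add.mp this
      rw [this, smul_zero]
    | add F G _ _ hF hG => rw [hΨadd, smul_add, hF, hG, add_zero]
    | smul G F _ hF => rw [hΨsmul, smul_comm, hF, smul_zero]
  refine ⟨M' + m, (t ^ M') • D₁, fun F => ?_⟩
  have h7 := hall F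
  change (t ^ M') • (D₁ (F : MvPolynomial (Fin r) A) - (t ^ m) • (RingHom.ker π.toRingHom).toCotangent F) = 0 at h7
  rw [smul_sub, sub_eq_zero] at h7
  rw [Derivation.smul_apply, h7, pow_add, mul_smul]

end Groth.Agent.LibSmoothing29
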