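import Groth.Agent.LibAffDef29d
import Groth.Agent.LibRigid29b

/-!
# Rigidity trivializes all infinitesimal neighbourhoods of the special fibre (seat helper29)

`B` flat over `A`, `t : A` with `A/(t) = k`, `B/tB = B₀` rigid.  Then for every `n` there is a surjective `A`-algebra map
`B → (A/t^{n+1}) ⊗_k B₀` with kernel `t^{n+1} B`.
-/

set_option autoImplicit false
universe u
open TensorProduct

namespace Groth.Agent.LibSmoothing29

section Aug

variable {k A : Type u} [Field k] [CommRing A] [Algebra k A] (t : A) (eA : A →ₐ[k] k)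
  (heA : RingHom.ker eA = Ideal.span {t}) (n : ℕ)

include heA in
lemma eA_t : eA t = 0 := by
  have h : t ∈ RingHom.ker eA := by
    rw [heA]
    exact Ideal.mem_span_singleton_self t
  exact h

/-- the augmentation of `A/t^{n+1}` -/
noncomputable def augN : (A ⧸ Ideal.span {t ^ (n + 1)}) →ₐ[k] k :=
  Ideal.Quotient.liftₐ (Ideal.span {t ^ (n + 1)}) eA (by
    intro a ha
    obtain ⟨c, rfl⟩ := Ideal.mem_span_singleton'.mp ha
    rw [map_mul, map_pow, eA_t t eA heA, zero_pow (Nat.succ_ne_zero n), mul_zero])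

lemma augN_mk (a : A) : augN t eA heA n (Ideal.Quotient.mk _ a) = eA a := rfl

lemma ker_augN : RingHom.ker (augN t eA heA n) = Ideal.span {Ideal.Quotient.mk (Ideal.span {t ^ (n + 1)}) t} := by
  apply le_antisymm
  · intro x hx
    obtain ⟨a, rfl⟩ := Ideal.Quotient.mk_surjective x
    rw [RingHom.mem_ker] at hx
    have h1 : a ∈ RingHom.ker eA := hx
    rw [heA] at h1
    obtain ⟨c, rfl⟩ := Ideal.mem_span_singleton'.mp h1
    rw [map_mul]
    exact Ideal.mul_mem_left _ _ (Ideal.mem_span_singleton_self _)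
  · rw [Ideal.span_singleton_le_iff_mem, RingHom.mem_ker]
    exact eA_t t eA heA

lemma ker_augN_pow : RingHom.ker (augN t eA heA n) ^ (n + 1) = ⊥ := by
  rw [ker_augN, Ideal.span_singleton_pow, ← map_pow]
  rw [Ideal.span_singleton_eq_bot, Ideal.Quotient.eq_zero_iff_mem]
  exact Ideal.mem_span_singleton_self _

include heA in
lemma isArtinianRing_quot [IsNoetherianRing A] : IsArtinianRing (A ⧸ Ideal.span {t ^ (n + 1)}) := by
  rw [isArtinianRing_iff_krullDimLE_zero, Ring.krullDimLE_zero_iff]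
  intro P hP
  have hmax : (RingHom.ker (augN t eA heA n)).IsMaximal :=
    RingHom.ker_isMaximal_of_surjective _ (fun c => ⟨algebraMap k _ c, (augN t eA heA n).commutes c⟩)
  have hle : RingHom.ker (augN t eA heA n) ≤ P := by
    rw [ker_augN, Ideal.span_singleton_le_iff_mem]
    apply hP.mem_of_pow_mem (n + 1)
    rw [← map_pow, Ideal.Quotient.eq_zero_iff_mem.mpr (Ideal.mem_span_singleton_self _)]
    exact P.zero_mem
  rw [← hmax.eq_of_le hP.ne_top hle]
  exact hmax

end Aug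

section Triv

variable {k A B B₀ : Type u} [Field k] [CommRing A] [Algebra k A] [IsNoetherianRing A]
  [CommRing B] [Algebra A B] [Algebra k B] [IsScalarTower k A B] [Module.Flat A B]
  [CommRing B₀] [Algebra k B₀]
  (t : A) (eA : A →ₐ[k] k) (heA : RingHom.ker eA = Ideal.span {t})
  (ε₀ : B →ₐ[k] B₀) (hε₀ : Function.Surjective ε₀) (hkε₀ : RingHom.ker ε₀ = Ideal.span {algebraMap A B t})
  (hT : ∀ E : Exal.Ext k B₀ B₀, E.IsTrivial) (n : ℕ)

include heA hkε₀ in
lemma eps_algebraMap (a : A) : ε₀ (algebraMap A B a) = algebraMap k B₀ (eA a) := by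
  have h1 : a - algebraMap k A (eA a) ∈ RingHom.ker eA := by
    rw [RingHom.mem_ker, map_sub, AlgHom.commutes, Algebra.algebraMap_self, RingHom.id_apply, sub_self]
  rw [heA] at h1
  obtain ⟨c, hc⟩ := Ideal.mem_span_singleton'.mp h1
  have h2 : a = algebraMap k A (eA a) + c * t := by rw [hc]; ring
  have h3 : ε₀ (algebraMap A B t) = 0 := by
    have : algebraMap A B t ∈ RingHom.ker ε₀ := by
      rw [hkε₀]
      exact Ideal.mem_span_singleton_self _
    exact this
  conv_lhs => rw [h2]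
  rw [map_add, map_mul, map_add, map_mul, h3, mul_zero, add_zero, ← IsScalarTower.algebraMap_apply,
    AlgHom.commutes]

lemma one_tmul_surjective (x : (A ⧸ Ideal.span {t ^ (n + 1)}) ⊗[A] B) :
    ∃ b : B, x = (1 : A ⧸ Ideal.span {t ^ (n + 1)}) ⊗ₜ[A] b := by
  induction x using TensorProduct.induction_on with
  | zero => exact ⟨0, (TensorProduct.tmul_zero _ _).symm⟩
  | tmul a b =>
    obtain ⟨a, rfl⟩ := Ideal.Quotient.mk_surjective a
    refine ⟨a • b, ?_⟩
    rw [← TensorProduct.smul_tmul]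
    congr 1
    rw [Algebra.smul_def, mul_one]
    rfl
  | add x y hx hy =>
    obtain ⟨b, rfl⟩ := hx
    obtain ⟨c, rfl⟩ := hy
    exact ⟨b + c, (TensorProduct.tmul_add _ _ _).symm⟩

lemma one_tmul_eq_zero_iff (b : B) :
    (1 : A ⧸ Ideal.span {t ^ (n + 1)}) ⊗ₜ[A] b = 0 ↔ b ∈ Ideal.span {(algebraMap A B t) ^ (n + 1)} := by
  have h1 := TensorProduct.quotTensorEquivQuotSMul_mk_one_tmul (M := B) (Ideal.span {t ^ (n + 1)}) b
  have h2 : (Ideal.span {t ^ (n + 1)} • (⊤ : Submodule A B)) =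
      (Ideal.span {(algebraMap A B t) ^ (n + 1)}).restrictScalars A := by
    rw [Ideal.smul_top_eq_map, Ideal.map_span, Set.image_singleton, map_pow]
  constructor
  · intro h
    rw [h, map_zero] at h1
    have h3 := (Submodule.Quotient.mk_eq_zero _).mp h1.symm
    rw [h2] at h3
    exact h3
  · intro h
    apply (TensorProduct.quotTensorEquivQuotSMul B (Ideal.span {t ^ (n + 1)})).injective
    rw [h1, map_zero, Submodule.Quotient.mk_eq_zero, h2]
    exact h

include heA hε₀ hkε₀ hT in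
theorem exists_trivialization :
    ∃ q : B →ₐ[A] ((A ⧸ Ideal.span {t ^ (n + 1)}) ⊗[k] B₀), Function.Surjective q ∧
      RingHom.ker q = Ideal.span {(algebraMap A B t) ^ (n + 1)} := by
  haveI : IsArtinianRing (A ⧸ Ideal.span {t ^ (n + 1)}) := isArtinianRing_quot t eA heA n
  -- `B₀` as an `A`-algebra
  letI algAB₀ : Algebra A B₀ := ((algebraMap k B₀).comp (eA : A →+* k)).toAlgebra
  have halg : ∀ a : A, algebraMap A B₀ a = algebraMap k B₀ (eA a) := fun a => rfl
  let f : (A ⧸ Ideal.span {t ^ (n + 1)}) →ₐ[A] B₀ :=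
    Ideal.Quotient.liftₐ (Ideal.span {t ^ (n + 1)}) (Algebra.ofId A B₀) (by
      intro a ha
      obtain ⟨c, rfl⟩ := Ideal.mem_span_singleton'.mp ha
      change algebraMap A B₀ (c * t ^ (n + 1)) = 0
      rw [halg, map_mul, map_pow, eA_t t eA heA, zero_pow (Nat.succ_ne_zero n), mul_zero, map_zero])
  have hf : ∀ a : A, f (Ideal.Quotient.mk _ a) = algebraMap k B₀ (eA a) := fun a => rfl
  let g : B →ₐ[A] B₀ :=
    { (ε₀ : B →+* B₀) with
      commutes' := fun a => eps_algebraMap t eA heA ε₀ hkε₀ a }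
  have hg : ∀ b, g b = ε₀ b := fun b => rfl
  let β₀ : (A ⧸ Ideal.span {t ^ (n + 1)}) ⊗[A] B →ₐ[A] B₀ := Algebra.TensorProduct.productMap f g
  have hβ₀ : ∀ a b, β₀ (a ⊗ₜ[A] b) = f a * ε₀ b := fun a b => rfl
  let β : (A ⧸ Ideal.span {t ^ (n + 1)}) ⊗[A] B →ₐ[k] B₀ :=
    { (β₀ : (A ⧸ Ideal.span {t ^ (n + 1)}) ⊗[A] B →+* B₀) with
      commutes' := fun c => by
        change β₀ (algebraMap k (A ⧸ Ideal.span {t ^ (n + 1)}) c ⊗ₜ[A] (1 : B)) = algebraMap k B₀ c
        rw [hβ₀, map_one, mul_one]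
        change f (Ideal.Quotient.mk _ (algebraMap k A c)) = _
        rw [hf, AlgHom.commutes]
        rfl }
  have hββ₀ : ∀ x, β x = β₀ x := fun x => rfl
  have hβsurj : Function.Surjective β := by
    intro b₀
    obtain ⟨b, rfl⟩ := hε₀ b₀
    exact ⟨(1 : A ⧸ Ideal.span {t ^ (n + 1)}) ⊗ₜ[A] b, by rw [hββ₀, hβ₀, map_one, one_mul]⟩
  have hker : RingHom.ker β ≤ (RingHom.ker (augN t eA heA n)).map
      (algebraMap (A ⧸ Ideal.span {t ^ (n + 1)}) ((A ⧸ Ideal.span {t ^ (n + 1)}) ⊗[A] B)) := by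
    intro x hx
    obtain ⟨b, rfl⟩ := one_tmul_surjective t n x
    rw [RingHom.mem_ker, hββ₀, hβ₀, map_one, one_mul] at hx
    have hb : b ∈ RingHom.ker ε₀ := hx
    rw [hkε₀] at hb
    obtain ⟨c, rfl⟩ := Ideal.mem_span_singleton'.mp hb
    have h1 : (1 : A ⧸ Ideal.span {t ^ (n + 1)}) ⊗ₜ[A] (c * algebraMap A B t) =
        algebraMap (A ⧸ Ideal.span {t ^ (n + 1)}) ((A ⧸ Ideal.span {t ^ (n + 1)}) ⊗[A] B)
          (Ideal.Quotient.mk _ t) * ((1 : A ⧸ Ideal.span {t ^ (n + 1)}) ⊗ₜ[A] c) := by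
      rw [Algebra.TensorProduct.algebraMap_apply, Algebra.TensorProduct.tmul_mul_tmul, one_mul, mul_one,
        mul_comm c, ← Algebra.smul_def, ← TensorProduct.smul_tmul]
      congr 1
      rw [Algebra.smul_def, mul_one]
      rfl
    rw [h1]
    refine Ideal.mul_mem_right _ _ (Ideal.mem_map_of_mem _ ?_)
    rw [ker_augN]
    exact Ideal.mem_span_singleton_self _
  have hcomm : ∀ a, β (algebraMap (A ⧸ Ideal.span {t ^ (n + 1)}) ((A ⧸ Ideal.span {t ^ (n + 1)}) ⊗[A] B) a) =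
      algebraMap k B₀ (augN t eA heA n a) := by
    intro a
    obtain ⟨a, rfl⟩ := Ideal.Quotient.mk_surjective a
    rw [Algebra.TensorProduct.algebraMap_apply, hββ₀, hβ₀, map_one, mul_one]
    rfl
  obtain ⟨s, hs⟩ := Groth.Agent.LibRigid29.exists_section_of_rigid (augN t eA heA n) β hβsurj hker hcomm hT
    (n + 1) (ker_augN_pow t eA heA n)
  have hbij := Groth.Agent.LibAffDef29.bijective_of_section (augN t eA heA n) (n + 1) (ker_augN_pow t eA heA n)
    β hker hcomm s hs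
  let Θ : (A ⧸ Ideal.span {t ^ (n + 1)}) ⊗[k] B₀ ≃ₐ[A ⧸ Ideal.span {t ^ (n + 1)}]
      (A ⧸ Ideal.span {t ^ (n + 1)}) ⊗[A] B :=
    AlgEquiv.ofBijective _ hbij
  let incl : B →ₐ[A] (A ⧸ Ideal.span {t ^ (n + 1)}) ⊗[A] B := Algebra.TensorProduct.includeRight
  have hincl : ∀ b, incl b = (1 : A ⧸ Ideal.span {t ^ (n + 1)}) ⊗ₜ[A] b := fun b => rfl
  let q : B →ₐ[A] ((A ⧸ Ideal.span {t ^ (n + 1)}) ⊗[k] B₀) :=
    ((Θ.symm.toAlgHom).restrictScalars A).comp incl
  have hq : ∀ b, q b = Θ.symm (incl b) := fun b => rfl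
  refine ⟨q, ?_, ?_⟩
  · intro y
    obtain ⟨b, hb⟩ := one_tmul_surjective t n (Θ y)
    refine ⟨b, ?_⟩
    rw [hq, hincl, ← hb, AlgEquiv.symm_apply_apply]
  · ext b
    rw [RingHom.mem_ker, hq, ← one_tmul_eq_zero_iff t n b, ← hincl]
    constructor
    · intro h
      have := congrArg Θ h
      rw [AlgEquiv.apply_symm_apply, map_zero] at this
      exact this
    · intro h
      rw [h, map_zero]

end Triv

end Groth.Agent.LibSmoothing29
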