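import Mathlib

/-!
# Coefficient maps on `R ⊗_k E` (seat helper29)

For a `k`-algebra `R` with augmentation `e : R → k`, a `k`-linear functional `c : R → k` and `τ : R` with
`c (τ * a) = e a`: the maps `ev = e ⊗ id : R ⊗ E → E` (an algebra map) and `C = c ⊗ id : R ⊗ E → E` (linear).
-/

set_option autoImplicit false
universe u
open TensorProduct

namespace Groth.Agent.LibSmoothing29

variable {k R E E' : Type u} [Field k] [CommRing R] [Algebra k R] [CommRing E] [Algebra k E]
  [CommRing E'] [Algebra k E']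

/-- `e ⊗ id : R ⊗ E → E` -/
noncomputable def evT (e : R →ₐ[k] k) : R ⊗[k] E →ₐ[k] E :=
  (Algebra.TensorProduct.lid k E).toAlgHom.comp (Algebra.TensorProduct.map e (AlgHom.id k E))

lemma evT_tmul (e : R →ₐ[k] k) (a : R) (y : E) : evT e (a ⊗ₜ[k] y) = e a • y := rfl

/-- `c ⊗ id : R ⊗ E → E` -/
noncomputable def coefT (c : R →ₗ[k] k) : R ⊗[k] E →ₗ[k] E :=
  (TensorProduct.lid k E).toLinearMap ∘ₗ (LinearMap.rTensor E c)

lemma coefT_tmul (c : R →ₗ[k] k) (a : R) (y : E) : coefT c (a ⊗ₜ[k] y) = c a • y := rfl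

lemma coefT_smul (e : R →ₐ[k] k) (c : R →ₗ[k] k) (τ : R) (h : ∀ a, c (τ * a) = e a) (x : R ⊗[k] E) :
    coefT c (τ • x) = evT e x := by
  induction x using TensorProduct.induction_on with
  | zero => rw [smul_zero, map_zero, map_zero]
  | tmul a y =>
    rw [TensorProduct.smul_tmul', smul_eq_mul, coefT_tmul, evT_tmul, h]
  | add x y hx hy => rw [smul_add, map_add, map_add, hx, hy]

lemma coefT_mul (c : R →ₗ[k] k) (y : E) (x : R ⊗[k] E) :
    coefT c (((1 : R) ⊗ₜ[k] y) * x) = y * coefT c x := by
  induction x using TensorProduct.induction_on with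
  | zero => rw [mul_zero, map_zero, mul_zero]
  | tmul a z =>
    rw [Algebra.TensorProduct.tmul_mul_tmul, one_mul, coefT_tmul, coefT_tmul, mul_smul_comm]
  | add x z hx hz => rw [mul_add, map_add, map_add, hx, hz, mul_add]

lemma evT_map (e : R →ₐ[k] k) (p : E →ₐ[k] E') (x : R ⊗[k] E) :
    p (evT e x) = evT e (Algebra.TensorProduct.map (AlgHom.id k R) p x) := by
  induction x using TensorProduct.induction_on with
  | zero => rw [map_zero, map_zero, map_zero, map_zero]
  | tmul a y =>
    rw [Algebra.TensorProduct.map_tmul, evT_tmul, evT_tmul, map_smul]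
    rfl
  | add x z hx hz => rw [map_add, map_add, map_add, map_add, hx, hz]

lemma coefT_map (c : R →ₗ[k] k) (p : E →ₐ[k] E') (x : R ⊗[k] E) :
    p (coefT c x) = coefT c (Algebra.TensorProduct.map (AlgHom.id k R) p x) := by
  induction x using TensorProduct.induction_on with
  | zero => rw [map_zero, map_zero, map_zero, map_zero]
  | tmul a y =>
    rw [Algebra.TensorProduct.map_tmul, coefT_tmul, coefT_tmul, map_smul]
    rfl
  | add x z hx hz => rw [map_add, map_add, map_add, map_add, hx, hz]

/-- the kernel of `id ⊗ p` has square zero when `ker p` does -/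
lemma mul_eq_zero_of_map_eq_zero (p : E →ₐ[k] E') (hp : Function.Surjective p)
    (hsq : ∀ y z : E, p y = 0 → p z = 0 → y * z = 0) (x x' : R ⊗[k] E)
    (hx : Algebra.TensorProduct.map (AlgHom.id k R) p x = 0)
    (hx' : Algebra.TensorProduct.map (AlgHom.id k R) p x' = 0) : x * x' = 0 := by
  have hker := Algebra.TensorProduct.lTensor_ker (A := R) p hp
  have h1 : x ∈ (RingHom.ker p).map (Algebra.TensorProduct.includeRight : E →ₐ[k] R ⊗[k] E) := by
    rw [← hker]
    exact hx
  have h2 : x' ∈ (RingHom.ker p).map (Algebra.TensorProduct.includeRight : E →ₐ[k] R ⊗[k] E) := by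
    rw [← hker]
    exact hx'
  have h3 : x * x' ∈ ((RingHom.ker p) * (RingHom.ker p)).map
      (Algebra.TensorProduct.includeRight : E →ₐ[k] R ⊗[k] E) := by
    rw [Ideal.map_mul]
    exact Ideal.mul_mem_mul h1 h2
  have h4 : (RingHom.ker p) * (RingHom.ker p) = ⊥ := by
    rw [← le_bot_iff, Ideal.mul_le]
    intro y hy z hz
    rw [hsq y z hy hz]
    exact Ideal.zero_mem _
  rw [h4, Ideal.map_bot] at h3
  exact h3

end Groth.Agent.LibSmoothing29
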