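import Groth.Agent.LibSmoothing29c

/-!
# From a uniform derivation and a trivialization to a section of `P₀/I₀² → B₀` (seat helper29)
-/

set_option autoImplicit false
universe u
open TensorProduct MvPolynomial

namespace Groth.Agent.LibSmoothing29

variable {k A B B₀ : Type u} [Field k] [CommRing A] [Algebra k A]
  [CommRing B] [Algebra A B]
  [CommRing B₀] [Algebra k B₀]

set_option maxHeartbeats 1000000 in
theorem exists_section_of_derivation (t : A) (N : ℕ)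
    {r : ℕ} (π : MvPolynomial (Fin r) A →ₐ[A] B) (hπ : Function.Surjective π)
    (D : Derivation A (MvPolynomial (Fin r) A) (RingHom.ker π.toRingHom).Cotangent)
    (hD : ∀ F : RingHom.ker π.toRingHom,
      D (F : MvPolynomial (Fin r) A) = (t ^ N) • (RingHom.ker π.toRingHom).toCotangent F)
    (q : B →ₐ[A] ((A ⧸ Ideal.span {t ^ (N + 1)}) ⊗[k] B₀)) (hq : Function.Surjective q)
    (hkq : RingHom.ker q = Ideal.span {(algebraMap A B t) ^ (N + 1)})
    (eN : (A ⧸ Ideal.span {t ^ (N + 1)}) →ₐ[k] k) (cN : (A ⧸ Ideal.span {t ^ (N + 1)}) →ₗ[k] k)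
    (hcN : ∀ a, cN (Ideal.Quotient.mk _ t ^ N * a) = eN a)
    {r₀ : ℕ} (π₀ : MvPolynomial (Fin r₀) k →ₐ[k] B₀) (hπ₀ : Function.Surjective π₀) :
    ∃ σ : B₀ →ₐ[k] (MvPolynomial (Fin r₀) k ⧸ RingHom.ker π₀.toRingHom ^ 2),
      π₀.kerSquareLift.comp σ = AlgHom.id k B₀ := by
  classical
  -- notation
  let p₀ : (MvPolynomial (Fin r₀) k ⧸ RingHom.ker π₀.toRingHom ^ 2) →ₐ[k] B₀ := π₀.kerSquareLift
  have hp₀surj : Function.Surjective p₀ := by
    intro b
    obtain ⟨G, rfl⟩ := hπ₀ b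
    exact ⟨Ideal.Quotient.mk _ G, rfl⟩
  have hp₀sq : ∀ y z, p₀ y = 0 → p₀ z = 0 → y * z = 0 := by
    intro y z hy hz
    have h1 : y * z ∈ RingHom.ker p₀.toRingHom * RingHom.ker p₀.toRingHom := Ideal.mul_mem_mul hy hz
    have h2 : RingHom.ker p₀.toRingHom * RingHom.ker p₀.toRingHom = ⊥ := by
      have h3 : RingHom.ker p₀.toRingHom = (RingHom.ker π₀.toRingHom).cotangentIdeal := AlgHom.ker_kerSquareLift π₀
      rw [h3]
      exact (pow_two _).symm.trans (Ideal.cotangentIdeal_square _)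
    rw [h2] at h1
    exact h1
  -- the big extension
  let ψ : (A ⧸ Ideal.span {t ^ (N + 1)}) ⊗[k] (MvPolynomial (Fin r₀) k ⧸ RingHom.ker π₀.toRingHom ^ 2) →ₐ[k]
      (A ⧸ Ideal.span {t ^ (N + 1)}) ⊗[k] B₀ :=
    Algebra.TensorProduct.map (AlgHom.id k _) p₀
  have hψsurj : Function.Surjective ψ := Algebra.TensorProduct.map_surjective (AlgHom.id k _) p₀ (fun a => ⟨a, rfl⟩) hp₀surj
  have hψsq : ∀ x x', ψ x = 0 → ψ x' = 0 → x * x' = 0 :=
    fun x x' hx hx' => mul_eq_zero_of_map_eq_zero p₀ hp₀surj hp₀sq x x' hx hx'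
  have hψA : ∀ a : A, ψ (algebraMap A _ a) = algebraMap A _ a := by
    intro a
    rw [Algebra.TensorProduct.algebraMap_apply, Algebra.TensorProduct.algebraMap_apply]
    change ψ (_ ⊗ₜ[k] 1) = _
    rw [Algebra.TensorProduct.map_tmul, map_one]
    rfl
  -- the lift `w`
  have hy : ∀ j : Fin r, ∃ y, ψ y = q (π (X j)) := fun j => hψsurj _
  choose y hy using hy
  let w : MvPolynomial (Fin r) A →ₐ[A]
      (A ⧸ Ideal.span {t ^ (N + 1)}) ⊗[k] (MvPolynomial (Fin r₀) k ⧸ RingHom.ker π₀.toRingHom ^ 2) :=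
    MvPolynomial.aeval y
  have hw : ∀ G, ψ (w G) = q (π G) := by
    intro G
    induction G using MvPolynomial.induction_on with
    | C a =>
      have h1 : w (C a) = algebraMap A _ a := w.commutes a
      have h2 : π (C a) = algebraMap A _ a := π.commutes a
      rw [h1, hψA, h2, q.commutes]
    | add G H hG hH => rw [map_add, map_add, hG, hH, map_add, map_add]
    | mul_X G j hG =>
      have h1 : w (X j) = y j := MvPolynomial.aeval_X y j
      rw [map_mul, map_mul, hG, h1, hy, map_mul, map_mul]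
  have hwI : ∀ F : RingHom.ker π.toRingHom, ψ (w (F : MvPolynomial (Fin r) A)) = 0 := by
    intro F
    have h1 : π (F : MvPolynomial (Fin r) A) = 0 := F.2
    rw [hw, h1, map_zero]
  -- `w` factors through `P/I²`
  have hwI2 : ∀ G ∈ RingHom.ker π.toRingHom ^ 2, w G = 0 := by
    intro G hG
    rw [pow_two] at hG
    refine Submodule.mul_induction_on hG ?_ ?_
    · intro F hF F' hF'
      rw [map_mul]
      exact hψsq _ _ (hwI ⟨F, hF⟩) (hwI ⟨F', hF'⟩)
    · intro G H hG hH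
      rw [map_add, hG, hH, add_zero]
  let wbar : (MvPolynomial (Fin r) A ⧸ RingHom.ker π.toRingHom ^ 2) →ₐ[A]
      (A ⧸ Ideal.span {t ^ (N + 1)}) ⊗[k] (MvPolynomial (Fin r₀) k ⧸ RingHom.ker π₀.toRingHom ^ 2) :=
    Ideal.Quotient.liftₐ (RingHom.ker π.toRingHom ^ 2) w hwI2
  have hwbar : ∀ G, wbar (Ideal.Quotient.mk _ G) = w G := fun G => rfl
  -- the map on the cotangent module
  let φ : (RingHom.ker π.toRingHom).Cotangent →ₗ[A]
      (A ⧸ Ideal.span {t ^ (N + 1)}) ⊗[k] (MvPolynomial (Fin r₀) k ⧸ RingHom.ker π₀.toRingHom ^ 2) :=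
    wbar.toLinearMap ∘ₗ ((RingHom.ker π.toRingHom).cotangentToQuotientSquare.restrictScalars A)
  have hφ : ∀ F : RingHom.ker π.toRingHom, φ ((RingHom.ker π.toRingHom).toCotangent F) =
      w (F : MvPolynomial (Fin r) A) := fun F => rfl
  have hφsmul : ∀ (G : MvPolynomial (Fin r) A) z, φ (G • z) = w G * φ z := by
    intro G z
    change wbar ((RingHom.ker π.toRingHom).cotangentToQuotientSquare (G • z)) = _
    rw [map_smul]
    change wbar (Ideal.Quotient.mk _ G * _) = _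
    rw [map_mul, hwbar]
    rfl
  have hφker : ∀ z, ψ (φ z) = 0 := by
    intro z
    obtain ⟨F, rfl⟩ := (RingHom.ker π.toRingHom).toCotangent_surjective z
    rw [hφ]
    exact hwI F
  -- the derivation-like map `Δ`
  let Δ : MvPolynomial (Fin r) A →ₗ[A]
      (A ⧸ Ideal.span {t ^ (N + 1)}) ⊗[k] (MvPolynomial (Fin r₀) k ⧸ RingHom.ker π₀.toRingHom ^ 2) :=
    φ ∘ₗ D.toLinearMap
  have hΔ : ∀ G, Δ G = φ (D G) := fun G => rfl
  have hΔmul : ∀ G H, Δ (G * H) = w G * Δ H + w H * Δ G := by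
    intro G H
    rw [hΔ, Derivation.leibniz, map_add, hφsmul, hφsmul]
    rfl
  have hΔker : ∀ G, ψ (Δ G) = 0 := fun G => hφker _
  have hΔI : ∀ F : RingHom.ker π.toRingHom, Δ (F : MvPolynomial (Fin r) A) =
      (t ^ N) • w (F : MvPolynomial (Fin r) A) := by
    intro F
    rw [hΔ, hD, map_smul, hφ]
  -- the comparison of presentations
  have hl : ∀ i : Fin r₀, ∃ G : MvPolynomial (Fin r) A,
      q (π G) = (1 : A ⧸ Ideal.span {t ^ (N + 1)}) ⊗ₜ[k] π₀ (X i) := fun i => by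
    obtain ⟨b, hb⟩ := hq ((1 : A ⧸ Ideal.span {t ^ (N + 1)}) ⊗ₜ[k] π₀ (X i))
    obtain ⟨G, rfl⟩ := hπ b
    exact ⟨G, hb⟩
  choose l hl using hl
  let lam : MvPolynomial (Fin r₀) k →ₐ[k] MvPolynomial (Fin r) A := MvPolynomial.aeval l
  have hlamC : ∀ c : k, lam (C c) = C (algebraMap k A c) := fun c => lam.commutes c
  have hlam : ∀ G, q (π (lam G)) = (1 : A ⧸ Ideal.span {t ^ (N + 1)}) ⊗ₜ[k] π₀ G := by
    intro G
    induction G using MvPolynomial.induction_on with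
    | C c =>
      have h2 : π (C (algebraMap k A c)) = algebraMap A _ (algebraMap k A c) := π.commutes _
      have h3 : π₀ (C c) = algebraMap k B₀ c := π₀.commutes c
      rw [hlamC, h2, q.commutes, h3, Algebra.TensorProduct.algebraMap_apply,
        Algebra.algebraMap_eq_smul_one (A := B₀), ← TensorProduct.smul_tmul, ← Algebra.algebraMap_eq_smul_one,
        ← IsScalarTower.algebraMap_apply]
    | add G H hG hH => rw [map_add, map_add, map_add, hG, hH, map_add, TensorProduct.tmul_add]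
    | mul_X G i hG =>
      have h1 : lam (X i) = l i := MvPolynomial.aeval_X l i
      rw [map_mul, map_mul, map_mul, hG, h1, hl, map_mul, Algebra.TensorProduct.tmul_mul_tmul, one_mul]
  -- maps over `k`
  let w₁ : MvPolynomial (Fin r₀) k →ₐ[k]
      (A ⧸ Ideal.span {t ^ (N + 1)}) ⊗[k] (MvPolynomial (Fin r₀) k ⧸ RingHom.ker π₀.toRingHom ^ 2) :=
    (w.restrictScalars k).comp lam
  have hw₁ : ∀ G, w₁ G = w (lam G) := fun G => rfl
  have hψw₁ : ∀ G, ψ (w₁ G) = (1 : A ⧸ Ideal.span {t ^ (N + 1)}) ⊗ₜ[k] π₀ G := by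
    intro G
    rw [hw₁, hw, hlam]
  let w₀ : MvPolynomial (Fin r₀) k →ₐ[k] (MvPolynomial (Fin r₀) k ⧸ RingHom.ker π₀.toRingHom ^ 2) :=
    (evT eN).comp w₁
  have hw₀ : ∀ G, w₀ G = evT eN (w₁ G) := fun G => rfl
  have hp₀w₀ : ∀ G, p₀ (w₀ G) = π₀ G := by
    intro G
    rw [hw₀, evT_map eN p₀]
    change evT eN (ψ (w₁ G)) = _
    rw [hψw₁, evT_tmul, map_one, one_smul]
  -- the derivation over `k`
  have hD₁mul : ∀ G H, Δ (lam (G * H)) = w₁ G * Δ (lam H) + w₁ H * Δ (lam G) := by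
    intro G H
    rw [map_mul, hΔmul]
    rfl
  have hcoefker : ∀ x, ψ x = 0 → p₀ (coefT cN x) = 0 := by
    intro x hx
    rw [coefT_map cN p₀]
    change coefT cN (ψ x) = 0
    rw [hx, map_zero]
  -- key compatibility of the coefficient map with multiplication
  have hF5 : ∀ G x, ψ x = 0 → coefT cN (w₁ G * x) = w₀ G * coefT cN x := by
    intro G x hx
    obtain ⟨y, hy⟩ := hp₀surj (π₀ G)
    have h1 : ψ (w₁ G - (1 : A ⧸ Ideal.span {t ^ (N + 1)}) ⊗ₜ[k] y) = 0 := by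
      rw [map_sub, hψw₁]
      change _ - (1 : A ⧸ Ideal.span {t ^ (N + 1)}) ⊗ₜ[k] p₀ y = 0
      rw [hy, sub_self]
    have h2 : w₁ G * x = ((1 : A ⧸ Ideal.span {t ^ (N + 1)}) ⊗ₜ[k] y) * x := by
      have := hψsq _ _ h1 hx
      rw [sub_mul, sub_eq_zero] at this
      exact this
    have h3 : p₀ (w₀ G - y) = 0 := by rw [map_sub, hp₀w₀, hy, sub_self]
    have h4 : w₀ G * coefT cN x = y * coefT cN x := by
      have := hp₀sq _ _ h3 (hcoefker x hx)
      rw [sub_mul, sub_eq_zero] at this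
      exact this
    rw [h2, coefT_mul, h4]
  let D₀ : MvPolynomial (Fin r₀) k →ₗ[k] (MvPolynomial (Fin r₀) k ⧸ RingHom.ker π₀.toRingHom ^ 2) :=
    (coefT cN) ∘ₗ (Δ.restrictScalars k) ∘ₗ lam.toLinearMap
  have hD₀ : ∀ G, D₀ G = coefT cN (Δ (lam G)) := fun G => rfl
  have hD₀mul : ∀ G H, D₀ (G * H) = w₀ G * D₀ H + w₀ H * D₀ G := by
    intro G H
    rw [hD₀, hD₁mul, map_add, hF5 G _ (hΔker _), hF5 H _ (hΔker _), hD₀, hD₀]
  have hD₀ker : ∀ G, p₀ (D₀ G) = 0 := fun G => hcoefker _ (hΔker _)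
  have hD₀C : ∀ c : k, D₀ (C c) = 0 := by
    intro c
    rw [hD₀, hlamC, hΔ, MvPolynomial.derivation_C, map_zero, map_zero]
  -- the corrected lift
  have hD₀one : D₀ 1 = 0 := by
    have := hD₀C 1
    rwa [map_one] at this
  let σ₀ : MvPolynomial (Fin r₀) k →ₐ[k] (MvPolynomial (Fin r₀) k ⧸ RingHom.ker π₀.toRingHom ^ 2) :=
    { toFun := fun G => w₀ G - D₀ G
      map_one' := by rw [map_one, hD₀one, sub_zero]
      map_mul' := fun G H => by
        have h0 := hp₀sq _ _ (hD₀ker G) (hD₀ker H)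
        rw [map_mul, hD₀mul]
        have : (w₀ G - D₀ G) * (w₀ H - D₀ H) = w₀ G * w₀ H - (w₀ G * D₀ H + w₀ H * D₀ G) + D₀ G * D₀ H := by ring
        rw [this, h0, add_zero]
      map_zero' := by rw [map_zero, map_zero, sub_zero]
      map_add' := fun G H => by
        rw [map_add, map_add]
        ring
      commutes' := fun c => by
        change w₀ (algebraMap k _ c) - D₀ (algebraMap k _ c) = _
        have h1 : (algebraMap k (MvPolynomial (Fin r₀) k) c) = C c := rfl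
        rw [h1, hD₀C, sub_zero, ← h1, AlgHom.commutes] }
  have hσ₀ : ∀ G, σ₀ G = w₀ G - D₀ G := fun G => rfl
  have hσ₀p : ∀ G, p₀ (σ₀ G) = π₀ G := by
    intro G
    rw [hσ₀, map_sub, hp₀w₀, hD₀ker, sub_zero]
  -- `σ₀` kills `I₀`
  have hσ₀I : ∀ G, π₀ G = 0 → σ₀ G = 0 := by
    intro G hG
    have h1 : π (lam G) ∈ RingHom.ker q := by
      rw [RingHom.mem_ker, hlam, hG, TensorProduct.tmul_zero]
    rw [hkq] at h1
    obtain ⟨b, hb⟩ := Ideal.mem_span_singleton'.mp h1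
    obtain ⟨R, rfl⟩ := hπ b
    have h2 : lam G - C (t ^ (N + 1)) * R ∈ RingHom.ker π.toRingHom := by
      rw [RingHom.mem_ker]
      change π (lam G - C (t ^ (N + 1)) * R) = 0
      have h3 : π (C (t ^ (N + 1))) = (algebraMap A B t) ^ (N + 1) := by
        rw [← map_pow]
        exact π.commutes _
      rw [map_sub, map_mul, h3, ← hb, mul_comm, sub_self]
    have h4 : ∀ x : (A ⧸ Ideal.span {t ^ (N + 1)}) ⊗[k] (MvPolynomial (Fin r₀) k ⧸ RingHom.ker π₀.toRingHom ^ 2),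
        (t ^ (N + 1)) • x = 0 := by
      intro x
      rw [← algebraMap_smul (A ⧸ Ideal.span {t ^ (N + 1)}) (t ^ (N + 1)) x]
      have : algebraMap A (A ⧸ Ideal.span {t ^ (N + 1)}) (t ^ (N + 1)) = 0 :=
        Ideal.Quotient.eq_zero_iff_mem.mpr (Ideal.mem_span_singleton_self _)
      rw [this, zero_smul]
    have h5 : lam G = (⟨_, h2⟩ : RingHom.ker π.toRingHom) + (t ^ (N + 1)) • R := by
      rw [MvPolynomial.smul_eq_C_mul]
      change lam G = (lam G - C (t ^ (N + 1)) * R) + C (t ^ (N + 1)) * R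
      ring
    have h6 : w (lam G) = w ((⟨_, h2⟩ : RingHom.ker π.toRingHom) : MvPolynomial (Fin r) A) := by
      conv_lhs => rw [h5]
      rw [map_add, map_smul, h4, add_zero]
    have h7 : Δ (lam G) = (t ^ N) • w (lam G) := by
      conv_lhs => rw [h5]
      rw [map_add, map_smul, h4, add_zero, hΔI, ← h6]
    have h8 : (t ^ N) • w (lam G) = (Ideal.Quotient.mk (Ideal.span {t ^ (N + 1)}) t ^ N) • w (lam G) := by
      rw [← algebraMap_smul (A ⧸ Ideal.span {t ^ (N + 1)}) (t ^ N) (w (lam G)), map_pow]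
      rfl
    rw [hσ₀, hD₀, h7, h8, coefT_smul eN cN _ hcN, hw₀, hw₁, sub_self]
  -- descend to `B₀`
  let σ₁ : (MvPolynomial (Fin r₀) k ⧸ RingHom.ker π₀) →ₐ[k]
      (MvPolynomial (Fin r₀) k ⧸ RingHom.ker π₀.toRingHom ^ 2) :=
    Ideal.Quotient.liftₐ (RingHom.ker π₀) σ₀ (fun G hG => hσ₀I G hG)
  let σ : B₀ →ₐ[k] (MvPolynomial (Fin r₀) k ⧸ RingHom.ker π₀.toRingHom ^ 2) :=
    σ₁.comp (Ideal.quotientKerAlgEquivOfSurjective hπ₀).symm.toAlgHom
  refine ⟨σ, AlgHom.ext fun b => ?_⟩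
  obtain ⟨G, rfl⟩ := hπ₀ b
  have h1 : (Ideal.quotientKerAlgEquivOfSurjective hπ₀).symm (π₀ G) = Ideal.Quotient.mk _ G := by
    rw [AlgEquiv.symm_apply_eq]
    rfl
  change p₀ (σ₁ ((Ideal.quotientKerAlgEquivOfSurjective hπ₀).symm (π₀ G))) = π₀ G
  rw [h1]
  exact hσ₀p G

end Groth.Agent.LibSmoothing29
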