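import Groth.Agent.LibSmoothing29a
import Groth.Agent.LibSmoothing29b
import Groth.Agent.LibSmoothing29d
import Groth.Agent.S12292

/-!
# A singular rigid algebra admits no smoothing over a curve (assembly; seat helper29)
-/

set_option autoImplicit false
universe u
open TensorProduct MvPolynomial

namespace Groth.Agent.LibSmoothing29

attribute [local instance] Exal.opModule Exal.isCentralScalar_opModule in
/-- vanishing of `T¹(B₀/k, B₀)` makes every extension of `B₀` by `B₀` trivial -/
theorem isTrivial_of_subsingleton_T1 {k : Type u} [Field k] (B₀ : Type u) [CommRing B₀] [Algebra k B₀]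
    (hrigid : Subsingleton (CotT.T1 (CotT.canon k B₀) B₀)) (X : Exal.Ext k B₀ B₀) : X.IsTrivial := by
  obtain ⟨e, -⟩ := Groth.Agent.S12292.result k B₀ B₀
  haveI : Subsingleton (Exal.Exalcom k B₀ B₀) := e.subsingleton
  have h1 : X.cl = (Exal.Ext.trivial k B₀ B₀).cl := Subsingleton.elim _ _
  obtain ⟨ε⟩ : Nonempty (Exal.Ext.Equiv X (Exal.Ext.trivial k B₀ B₀)) := Quotient.exact h1
  let s₀ : B₀ →ₐ[k] (Exal.Ext.trivial k B₀ B₀).E :=
    { toFun := fun b => TrivSqZeroExt.inl b
      map_one' := rfl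
      map_mul' := fun b c => (TrivSqZeroExt.inl_mul B₀ b c)
      map_zero' := rfl
      map_add' := fun b c => TrivSqZeroExt.inl_add B₀ b c
      commutes' := fun c => rfl }
  refine ⟨ε.symm.toAlgEquiv.toAlgHom.comp s₀, fun b => ?_⟩
  change X.proj (ε.symm.toAlgEquiv (s₀ b)) = b
  rw [ε.symm.proj_apply]
  rfl

/-- the augmentation `A → A/(t) = k` over an algebraically closed field -/
theorem exists_augmentation {k A : Type u} [Field k] [IsAlgClosed k] [CommRing A] [Algebra k A]
    [Algebra.FiniteType k A] (t : A) (ht : (Ideal.span {t}).IsMaximal) :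
    ∃ eA : A →ₐ[k] k, RingHom.ker eA = Ideal.span {t} := by
  letI : Field (A ⧸ Ideal.span {t}) := Ideal.Quotient.field _
  haveI : Algebra.FiniteType k (A ⧸ Ideal.span {t}) :=
    Algebra.FiniteType.of_surjective (Ideal.Quotient.mkₐ k (Ideal.span {t})) (Ideal.Quotient.mkₐ_surjective k _)
  haveI : Module.Finite k (A ⧸ Ideal.span {t}) := finite_of_finite_type_of_isJacobsonRing k _
  haveI : Algebra.IsIntegral k (A ⧸ Ideal.span {t}) := Algebra.IsIntegral.of_finite k _
  have hbij : Function.Bijective (algebraMap k (A ⧸ Ideal.span {t})) :=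
    IsAlgClosed.algebraMap_bijective_of_isIntegral
  let ε : k ≃ₐ[k] (A ⧸ Ideal.span {t}) := AlgEquiv.ofBijective (Algebra.ofId k _) hbij
  refine ⟨ε.symm.toAlgHom.comp (Ideal.Quotient.mkₐ k (Ideal.span {t})), ?_⟩
  ext a
  rw [RingHom.mem_ker]
  change ε.symm (Ideal.Quotient.mk _ a) = 0 ↔ _
  rw [← Ideal.Quotient.eq_zero_iff_mem]
  constructor
  · intro h
    have := congrArg ε h
    rwa [AlgEquiv.apply_symm_apply, map_zero] at this
  · intro h
    rw [h, map_zero]

/-- a coefficient functional for `t^N` -/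
theorem exists_coefficient {k A : Type u} [Field k] [CommRing A] [IsDomain A] [Algebra k A]
    (t : A) (ht0 : t ≠ 0) (htu : ¬ IsUnit t) (eA : A →ₐ[k] k) (heA : RingHom.ker eA = Ideal.span {t}) (N : ℕ) :
    ∃ cN : (A ⧸ Ideal.span {t ^ (N + 1)}) →ₗ[k] k,
      ∀ a, cN (Ideal.Quotient.mk _ t ^ N * a) = augN t eA heA N a := by
  have hne : (Ideal.Quotient.mk (Ideal.span {t ^ (N + 1)}) t ^ N) ≠ 0 := by
    rw [← map_pow, Ne, Ideal.Quotient.eq_zero_iff_mem, Ideal.mem_span_singleton']
    rintro ⟨c, hc⟩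
    apply htu
    have h1 : t ^ N * (c * t - 1) = 0 := by
      have h0 : t ^ N * (c * t - 1) = c * t ^ (N + 1) - t ^ N := by ring
      rw [h0, hc, sub_self]
    rcases mul_eq_zero.mp h1 with h2 | h2
    · exact absurd (pow_eq_zero_iff (n := N) (by
        rintro rfl
        rw [pow_zero] at h2
        exact one_ne_zero h2) |>.mp h2) ht0
    · exact IsUnit.of_mul_eq_one c (by rw [mul_comm]; exact sub_eq_zero.mp h2)
  obtain ⟨f, hf⟩ := Module.Projective.exists_dual_eq_one k hne
  refine ⟨f, fun a => ?_⟩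
  have h1 : a - algebraMap k _ (augN t eA heA N a) ∈ RingHom.ker (augN t eA heA N) := by
    rw [RingHom.mem_ker, map_sub, AlgHom.commutes, Algebra.algebraMap_self, RingHom.id_apply, sub_self]
  rw [ker_augN] at h1
  obtain ⟨c, hc⟩ := Ideal.mem_span_singleton'.mp h1
  have h2 : Ideal.Quotient.mk (Ideal.span {t ^ (N + 1)}) t ^ N * a =
      (augN t eA heA N a) • (Ideal.Quotient.mk (Ideal.span {t ^ (N + 1)}) t ^ N) := by
    have h3 : a = algebraMap k _ (augN t eA heA N a) + c * Ideal.Quotient.mk (Ideal.span {t ^ (N + 1)}) t := by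
      rw [hc]; ring
    have h4 : Ideal.Quotient.mk (Ideal.span {t ^ (N + 1)}) t ^ N *
        (c * Ideal.Quotient.mk (Ideal.span {t ^ (N + 1)}) t) = 0 := by
      have h5 : Ideal.Quotient.mk (Ideal.span {t ^ (N + 1)}) t ^ (N + 1) = 0 := by
        rw [← map_pow, Ideal.Quotient.eq_zero_iff_mem]
        exact Ideal.mem_span_singleton_self _
      calc _ = c * Ideal.Quotient.mk (Ideal.span {t ^ (N + 1)}) t ^ (N + 1) := by ring
        _ = 0 := by rw [h5, mul_zero]
    conv_lhs => rw [h3]
    rw [mul_add, h4, add_zero, Algebra.smul_def, mul_comm]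
  rw [h2, map_smul, hf, smul_eq_mul, mul_one]

/-- **No smoothing of rigid singularities** (abstract form): if `B` is a flat finite type algebra over a one-dimensional
domain `A` of finite type over an algebraically closed field `k`, `(t)` is maximal, `B/tB ≅ B₀` is rigid and `B[1/t]`
is formally smooth over `A`, then `B₀` is formally smooth over `k`. -/
theorem formallySmooth_of_smoothing {k : Type u} [Field k] [IsAlgClosed k] (B₀ : Type u) [CommRing B₀]
    [Algebra k B₀] [Algebra.FiniteType k B₀] (hT : ∀ X : Exal.Ext k B₀ B₀, X.IsTrivial)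
    (A B : Type u) [CommRing A] [CommRing B] [IsDomain A] [Algebra k A] [Algebra.FiniteType k A]
    (t : A) (ht0 : t ≠ 0) (ht : (Ideal.span {t}).IsMaximal)
    [Algebra A B] [Algebra.FiniteType A B] [Module.Flat A B] [Algebra k B] [IsScalarTower k A B]
    (e : (B ⧸ Ideal.span {algebraMap A B t}) ≃ₐ[k] B₀)
    [Algebra.FormallySmooth A (Localization.Away (algebraMap A B t))] : Algebra.FormallySmooth k B₀ := by
  haveI : IsNoetherianRing A := Algebra.FiniteType.isNoetherianRing k A
  -- presentation of `B` over `A`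
  obtain ⟨r, π, hπ⟩ := Algebra.FiniteType.iff_quotient_mvPolynomial''.mp (inferInstance : Algebra.FiniteType A B)
  have hfg : (RingHom.ker π.toRingHom).FG := IsNoetherian.noetherian _
  obtain ⟨N, D, hD⟩ := exists_derivation_cotangent t π hπ hfg
  -- augmentation
  obtain ⟨eA, heA⟩ := exists_augmentation (k := k) t ht
  have htu : ¬ IsUnit t := by
    intro hu
    exact ht.ne_top (Ideal.span_singleton_eq_top.mpr hu)
  -- the special fibre
  let ε₀ : B →ₐ[k] B₀ := e.toAlgHom.comp (Ideal.Quotient.mkₐ k (Ideal.span {algebraMap A B t}))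
  have hε₀ : Function.Surjective ε₀ := e.surjective.comp (Ideal.Quotient.mkₐ_surjective k _)
  have hkε₀ : RingHom.ker ε₀ = Ideal.span {algebraMap A B t} := by
    ext b
    rw [RingHom.mem_ker]
    change e (Ideal.Quotient.mk _ b) = 0 ↔ _
    rw [← Ideal.Quotient.eq_zero_iff_mem]
    constructor
    · intro h
      have := congrArg e.symm h
      rwa [AlgEquiv.symm_apply_apply, map_zero] at this
    · intro h
      rw [h, map_zero]
  obtain ⟨q, hq, hkq⟩ := exists_trivialization t eA heA ε₀ hε₀ hkε₀ hT N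
  obtain ⟨cN, hcN⟩ := exists_coefficient t ht0 htu eA heA N
  -- presentation of `B₀` over `k`
  obtain ⟨r₀, π₀, hπ₀⟩ := Algebra.FiniteType.iff_quotient_mvPolynomial''.mp (inferInstance : Algebra.FiniteType k B₀)
  obtain ⟨σ, hσ⟩ := exists_section_of_derivation t N π hπ D hD q hq hkq (augN t eA heA N) cN hcN π₀ hπ₀
  exact Algebra.FormallySmooth.of_split π₀ σ hσ

end Groth.Agent.LibSmoothing29
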