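import Groth.Agent.LibASysGood29
import Groth.Agent.LibSyntStd29
import Groth.Agent.S9146
import Groth.Agent.S9147
import Groth.Agent.LibSyntTransport29

/-!
# Syntomic algebras descend along elementary filtered systems (helper29)

`ASys.exists_isSyntomic_presentation`: for `hS : ASys R G g` with colimit `A` and equations
`r_1..r_m ∈ R[x_1..x_n]`, if `A[x]/(r)` is syntomic over `A` then `(G i)[x]/(r)` is syntomic over
`G i` for some `i`.
-/

set_option autoImplicit false
set_option linter.style.haveILetI false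
universe u

namespace Groth.Agent.LibASys29

open MvPolynomial Groth.Agent.LibRelGCI29 Groth.Agent.LibAwayPres29

namespace ASys

section Prelim

lemma eqsPlus_map {T T' : Type u} [CommRing T] [CommRing T'] (ψ : T →+* T') {n c : ℕ}
    (f : Fin c → MvPolynomial (Fin n) T) (h : MvPolynomial (Fin n) T) (l : Fin (c + 1)) :
    map ψ (eqsPlus f h l) = eqsPlus (fun i => map ψ (f i)) (map ψ h) l := by
  induction l using Fin.lastCases with
  | last =>
    rw [eqsPlus_last, eqsPlus_last]
    simp only [map_sub, map_mul, map_rename, map_X, map_one]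
  | cast i =>
    rw [eqsPlus_castSucc, eqsPlus_castSucc, map_rename]

lemma map_span_range {R : Type u} [CommRing R] (T : Type u) [CommRing T] [Algebra R T] {n m : ℕ}
    (r : Fin m → MvPolynomial (Fin n) R) :
    (Ideal.span (Set.range r)).map (map (algebraMap R T)) = Ideal.span (Set.range (Fbar T r)) := by
  rw [Ideal.map_span, ← Set.range_comp]
  rfl

end Prelim

variable {R : Type u} [CommRing R] {A : Type u} [CommRing A] [Algebra R A] {ι : Type*}
  {G : ι → Type u} [∀ i, CommRing (G i)] [∀ i, Algebra R (G i)] {g : ∀ i, G i →ₐ[R] A}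
  (hS : ASys R G g) (n m : ℕ) (r : Fin m → MvPolynomial (Fin n) R)

/-- syntomicity from standard data on a finite cover. -/
theorem isSyntomic_of_std_data (T : Type u) [CommRing T] [Algebra R T] {Z : Type*} [Fintype Z]
    (c : Z → ℕ) (f : ∀ z, Fin (c z) → MvPolynomial (Fin n) T) (h u : Z → MvPolynomial (Fin n) T)
    (h1 : ∀ z l, f z l ∈ Ideal.span (Set.range (Fbar T r)))
    (h2 : ∀ z j, h z * Fbar T r j ∈ Ideal.span (Set.range (f z)))
    (h3 : 1 - ∑ z, u z * h z ∈ Ideal.span (Set.range (Fbar T r)))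
    (h4 : ∀ z, Synt.IsRelGCI T (n + 1) (c z + 1) (eqsPlus (f z) (h z))) :
    Synt.IsSyntomic T (Synt.RelGCIRing T n m (Fbar T r)) := by
  classical
  set I := Ideal.span (Set.range (Fbar T r)) with hI
  let s : Finset (Synt.RelGCIRing T n m (Fbar T r)) :=
    Finset.univ.image fun z => Ideal.Quotient.mk I (h z)
  refine Groth.Agent.S9146.result T _ s ?_ ?_
  · rw [Ideal.eq_top_iff_one]
    have h5 : Ideal.Quotient.mk I (1 - ∑ z, u z * h z) = 0 := Ideal.Quotient.eq_zero_iff_mem.mpr h3
    rw [map_sub, map_one, sub_eq_zero] at h5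
    rw [h5, map_sum]
    refine Submodule.sum_mem _ fun z _ => ?_
    rw [map_mul]
    refine Ideal.mul_mem_left _ _ (Ideal.subset_span ?_)
    exact Finset.mem_coe.mpr (Finset.mem_image.mpr ⟨z, Finset.mem_univ z, rfl⟩)
  · intro gg hgg
    obtain ⟨z, -, rfl⟩ := Finset.mem_image.mp hgg
    have hJI : Ideal.span (Set.range (f z)) ≤ I := by
      rw [Ideal.span_le]
      rintro _ ⟨l, rfl⟩
      exact h1 z l
    have hmul : ∀ b ∈ I, h z * b ∈ Ideal.span (Set.range (f z)) := by
      intro b hb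
      induction hb using Submodule.span_induction with
      | mem x hx =>
        obtain ⟨j, rfl⟩ := hx
        exact h2 z j
      | zero => rw [mul_zero]; exact Ideal.zero_mem _
      | add x y _ _ hx hy => rw [mul_add]; exact Ideal.add_mem _ hx hy
      | smul a x _ hx =>
        rw [smul_eq_mul, mul_left_comm]
        exact Ideal.mul_mem_left _ _ hx
    obtain ⟨e⟩ := Groth.Agent.LibSyntLocal29.nonempty_away_equiv (f z) I hJI (h z) hmul
    exact Groth.Agent.LibSyntTransport29.isSyntomic_of_algEquiv e.symm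
      (Groth.Agent.S9147.result T (n + 1) (c z + 1) _ (h4 z))


section Stage

variable {Z : Type*} (c : Z → ℕ)

/-- index type for standard syntomic data on a finite cover -/
abbrev StdIdx (c : Z → ℕ) : Type _ := (Σ z : Z, Fin (c z)) ⊕ (Z ⊕ Z)

omit [∀ i, Algebra R (G i)] [Algebra R A] in
theorem isNat1 (x : Σ z : Z, Fin (c z)) : IsNat (R := R) (μ := Unit)
    (fun T _ _ (d : StdIdx c → MvPolynomial (Fin n) T) _ => d (Sum.inl x)) :=
  fun _ _ _ _ _ _ _ _ _ => rfl

omit [∀ i, Algebra R (G i)] [Algebra R A] in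
theorem isNat2 (y : Z × Fin m) : IsNat (R := R) (μ := Unit)
    (fun T _ _ (d : StdIdx c → MvPolynomial (Fin n) T) _ =>
      d (Sum.inr (Sum.inl y.1)) * map (algebraMap R T) (r y.2)) := by
  intro T T' _ _ _ _ ψ d _
  rw [map_mul, map_algebraMap_apply ψ]

omit [∀ i, Algebra R (G i)] [Algebra R A] in
theorem isNat2' (z : Z) : IsNat (R := R) (μ := Fin (c z))
    (fun T _ _ (d : StdIdx c → MvPolynomial (Fin n) T) l => d (Sum.inl ⟨z, l⟩)) :=
  fun _ _ _ _ _ _ _ _ _ => rfl

omit [∀ i, Algebra R (G i)] [Algebra R A] in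
theorem isNat3 [Fintype Z] : IsNat (R := R) (μ := Unit)
    (fun T _ _ (d : StdIdx c → MvPolynomial (Fin n) T) _ =>
      1 - ∑ z : Z, d (Sum.inr (Sum.inr z)) * d (Sum.inr (Sum.inl z))) := by
  intro T T' _ _ _ _ ψ d _
  simp only [map_sub, map_one, map_sum, map_mul]

omit [∀ i, Algebra R (G i)] [Algebra R A] in
theorem isNat4 (z : Z) : IsNat (R := R) (μ := Fin (c z + 1))
    (fun T _ _ (d : StdIdx c → MvPolynomial (Fin n) T) =>
      eqsPlus (fun l => d (Sum.inl ⟨z, l⟩)) (d (Sum.inr (Sum.inl z)))) :=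
  fun T T' _ _ _ _ ψ _ l => eqsPlus_map (ψ : T →+* T') _ _ l

/-- the standard data property. -/
def StdQ [Fintype Z] (T : Type u) [CommRing T] [Algebra R T]
    (d : StdIdx c → MvPolynomial (Fin n) T) : Prop :=
  (∀ x : (Σ z : Z, Fin (c z)),
    d (Sum.inl x) ∈ (Ideal.span (Set.range r)).map (map (algebraMap R T))) ∧
  (∀ y : Z × Fin m, d (Sum.inr (Sum.inl y.1)) * map (algebraMap R T) (r y.2) ∈
    Ideal.span (Set.range fun l : Fin (c y.1) => d (Sum.inl ⟨y.1, l⟩))) ∧
  (1 - ∑ z : Z, d (Sum.inr (Sum.inr z)) * d (Sum.inr (Sum.inl z)) ∈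
    (Ideal.span (Set.range r)).map (map (algebraMap R T))) ∧
  (∀ z : Z, Synt.IsRelGCI T (n + 1) (c z + 1)
    (eqsPlus (fun l => d (Sum.inl ⟨z, l⟩)) (d (Sum.inr (Sum.inl z)))))

include hS in
theorem good_stdQ [Fintype Z] : Good g (fun T _ _ d => StdQ n m r c T d) := by
  have good1 : ∀ x : (Σ z : Z, Fin (c z)), Good g
      (fun T _ _ (d : StdIdx c → MvPolynomial (Fin n) T) =>
        d (Sum.inl x) ∈ (Ideal.span (Set.range r)).map (map (algebraMap R T))) := fun x =>
    hS.good_mem_map _ (isNat1 n c x) _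
  have good2 : ∀ y : Z × Fin m, Good g
      (fun T _ _ (d : StdIdx c → MvPolynomial (Fin n) T) =>
        d (Sum.inr (Sum.inl y.1)) * map (algebraMap R T) (r y.2) ∈
          Ideal.span (Set.range fun l : Fin (c y.1) => d (Sum.inl ⟨y.1, l⟩))) := fun y =>
    hS.good_mem_span (μ := Fin (c y.1)) _ (isNat2 n m r c y) _ (isNat2' n c y.1)
  have good3 : Good g
      (fun T _ _ (d : StdIdx c → MvPolynomial (Fin n) T) =>
        1 - ∑ z : Z, d (Sum.inr (Sum.inr z)) * d (Sum.inr (Sum.inl z)) ∈
          (Ideal.span (Set.range r)).map (map (algebraMap R T))) :=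
    hS.good_mem_map _ (isNat3 n c) _
  have good4 : ∀ z : Z, Good g
      (fun T _ _ (d : StdIdx c → MvPolynomial (Fin n) T) =>
        Synt.IsRelGCI T (n + 1) (c z + 1)
          (eqsPlus (fun l => d (Sum.inl ⟨z, l⟩)) (d (Sum.inr (Sum.inl z))))) := fun z =>
    hS.good_isRelGCI (n + 1) (c z + 1) _ (isNat4 n c z)
  exact ((Good.forall _ good1).and ((Good.forall _ good2).and
    (good3.and (Good.forall _ good4))))


include hS in
/-- standard syntomic data over the colimit descends to a finite stage. -/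
theorem exists_isSyntomic_of_std_data [Fintype Z]
    (f : ∀ z, Fin (c z) → MvPolynomial (Fin n) A) (h u : Z → MvPolynomial (Fin n) A)
    (h1 : ∀ z l, f z l ∈ Ideal.span (Set.range (Fbar A r)))
    (h2 : ∀ z j, h z * Fbar A r j ∈ Ideal.span (Set.range (f z)))
    (h3 : 1 - ∑ z, u z * h z ∈ Ideal.span (Set.range (Fbar A r)))
    (h4 : ∀ z, Synt.IsRelGCI A (n + 1) (c z + 1) (eqsPlus (f z) (h z))) :
    ∃ i, Synt.IsSyntomic (G i) (Synt.RelGCIRing (G i) n m (Fbar (G i) r)) := by
  classical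
  let dA : StdIdx c → MvPolynomial (Fin n) A :=
    Sum.elim (fun x => f x.1 x.2) (Sum.elim h u)
  have hA : StdQ n m r c A dA := by
    refine ⟨fun x => ?_, fun y => ?_, ?_, fun z => h4 z⟩
    · rw [map_span_range A r]
      exact h1 x.1 x.2
    · exact h2 y.1 y.2
    · rw [map_span_range A r]
      exact h3
  obtain ⟨i, d', -, hd1, hd2, hd3, hd4⟩ := hS.exists_stage (hS.good_stdQ n m r c) dA hA
  refine ⟨i, isSyntomic_of_std_data n m r (G i) c
    (fun z l => d' (Sum.inl ⟨z, l⟩)) (fun z => d' (Sum.inr (Sum.inl z)))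
    (fun z => d' (Sum.inr (Sum.inr z))) ?_ ?_ ?_ hd4⟩
  · intro z l
    rw [← map_span_range (G i) r]
    exact hd1 ⟨z, l⟩
  · intro z j
    exact hd2 (z, j)
  · rw [← map_span_range (G i) r]
    exact hd3

end Stage

include hS in
/-- **Descent of syntomicity** for a presentation defined over the base ring. -/
theorem exists_isSyntomic_presentation
    (hsyn : Synt.IsSyntomic A (Synt.RelGCIRing A n m (Fbar A r))) :
    ∃ i, Synt.IsSyntomic (G i) (Synt.RelGCIRing (G i) n m (Fbar (G i) r)) := by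
  classical
  -- local data over `A`
  choose c f h hfI hhq hmul hgci using fun q : PrimeSpectrum (Synt.RelGCIRing A n m (Fbar A r)) =>
    Groth.Agent.LibSyntStd29.exists_std_data A n m (Fbar A r) hsyn q
  have hspan : Ideal.span (Set.range fun q =>
      Ideal.Quotient.mk (Ideal.span (Set.range (Fbar A r))) (h q)) = ⊤ := by
    by_contra hne
    obtain ⟨M, hM, hle⟩ := Ideal.exists_le_maximal _ hne
    exact hhq ⟨M, hM.isPrime⟩ (hle (Ideal.subset_span ⟨⟨M, hM.isPrime⟩, rfl⟩))
  obtain ⟨s', hs'sub, hs'top⟩ := (Ideal.span_eq_top_iff_finite _).mp hspan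
  have hz : ∀ z : ↥s', ∃ q : PrimeSpectrum (Synt.RelGCIRing A n m (Fbar A r)),
      Ideal.Quotient.mk (Ideal.span (Set.range (Fbar A r))) (h q) = (z : _) := fun z => hs'sub z.2
  choose qz hqz using hz
  have h1 : (1 : Synt.RelGCIRing A n m (Fbar A r)) ∈
      Ideal.span (Set.range fun z : ↥s' => (z : Synt.RelGCIRing A n m (Fbar A r))) := by
    rw [Subtype.range_coe_subtype]
    change (1 : Synt.RelGCIRing A n m (Fbar A r)) ∈ Ideal.span (s' : Set _)
    rw [hs'top]
    trivial
  obtain ⟨u, hu⟩ := Ideal.mem_span_range_iff_exists_fun.mp h1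
  choose ut hut using fun z => Ideal.Quotient.mk_surjective (u z)
  refine hS.exists_isSyntomic_of_std_data n m r (fun z : ↥s' => c (qz z))
    (fun z => f (qz z)) (fun z => h (qz z)) ut (fun z l => hfI (qz z) l)
    (fun z j => hmul (qz z) _ (Ideal.subset_span ⟨j, rfl⟩)) ?_ (fun z => hgci (qz z))
  have h0 : Ideal.Quotient.mk (Ideal.span (Set.range (Fbar A r)))
      (1 - ∑ z : ↥s', ut z * h (qz z)) = 0 := by
    rw [map_sub, map_one, map_sum, sub_eq_zero, ← hu]
    refine Finset.sum_congr rfl fun z _ => ?_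
    rw [map_mul, hut, hqz]
  exact Ideal.Quotient.eq_zero_iff_mem.mp h0

end ASys

end Groth.Agent.LibASys29
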