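import Groth.Statements.S9429
import Mathlib
import Groth.Agent.Lib.Helper17.CIField8
import Groth.Agent.Lib.Helper24.SmoothRegular

set_option autoImplicit false
set_option linter.style.haveILetI false
universe u
open Synt

namespace Groth.Agent.S9429

open RingTheory.Sequence in
theorem isCIOver_of_isRegularLocalRing (k : Type u) [Field k] (S : Type u) [CommRing S]
    [IsRegularLocalRing S] [Algebra k S] [Algebra.EssFiniteType k S] : Synt.IsCIOver k S := by
  refine ⟨S, inferInstance, inferInstance, inferInstance, inferInstance, [], ?_, ?_, ⟨?_⟩⟩
  · intro r hr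
    simp at hr
  · refine ⟨IsWeaklyRegular.nil S S, ?_⟩
    rw [Ideal.ofList_nil, Submodule.bot_smul]
    exact (bot_ne_top : (⊥ : Submodule S S) ≠ ⊤).symm
  · have h0 : Ideal.ofList ([] : List S) = ⊥ := Ideal.ofList_nil
    exact (AlgEquiv.quotientBot k S).symm.trans (Ideal.quotientEquivAlgOfEq k h0.symm)

/-- A smooth algebra over a field k is a local complete intersection over k (finite type, and locally on
Spec S by principal opens a global complete intersection). -/
theorem result (k : Type u) [Field k] (S : Type u) [CommRing S] [Algebra k S]
    [Algebra.Smooth k S] : Synt.IsLCIOver k S := by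
  haveI : Algebra.FinitePresentation k S := inferInstance
  haveI hft : Algebra.FiniteType k S := inferInstance
  haveI : IsRegularRing S := Groth.Agent.Lib.Helper24.SmoothRegular.isRegularRing_of_smooth k S
  rw [Groth.Agent.Lib.helper17.CIField.isLCIOver_iff_forall_isCIOver k]
  intro p
  haveI : IsRegularLocalRing (Localization.AtPrime p.asIdeal) :=
    IsRegularRing.isRegularLocalRing_localization p.asIdeal
  exact isCIOver_of_isRegularLocalRing k _

end Groth.Agent.S9429
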