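import Groth.Statements.S9699
import Groth.Agent.LibSyntHomProp29
import Groth.Agent.S9429
-- import your own Groth.Agent.* helpers here

set_option autoImplicit false
universe u
open CategoryTheory CategoryTheory.Limits AlgebraicGeometry
open Synt

namespace Groth.Agent.S9699

open Groth.Agent.LibSyntHomProp29

/-- a smooth algebra is syntomic. -/
theorem isSyntomic_of_smooth (A B : Type u) [CommRing A] [CommRing B] [Algebra A B]
    [Algebra.Smooth A B] : Synt.IsSyntomic A B :=
  ⟨inferInstance, inferInstance, fun p => Groth.Agent.S9429.result p.asIdeal.ResidueField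
    (p.asIdeal.Fiber B)⟩


/-- A smooth morphism of schemes is syntomic (flat, locally of finite presentation, with local complete
intersection fibres, in the affine-local sense of Synt.IsSyntomicMor). -/
theorem result {X S : Scheme.{u}} (f : X ⟶ S) [Smooth f] :
    Synt.IsSyntomicMor f := by
  rw [isSyntomicMor_iff_forall]
  intro U V e
  have h : (f.appLE V.1 U.1 e).hom.Smooth :=
    HasRingHomProperty.appLE (P := @Smooth) f inferInstance V U e
  let := (f.appLE V.1 U.1 e).hom.toAlgebra
  have : Algebra.Smooth Γ(S, V.1) Γ(X, U.1) := h
  exact isSyntomic_of_smooth _ _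

end Groth.Agent.S9699
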