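import Groth.Agent.LibSyntFPModel29
import Groth.Agent.LibSyntBC29
import Groth.Agent.LibSyntComp29
import Groth.Agent.S9699
import Groth.Agent.Lib.Helper9.ModelDescendGen

/-!
# Syntomic morphisms descend to a finite stage of a cofiltered limit (helper29)

* `hasFPModel_syntP`: syntomic morphisms of affine schemes have finitely presented models.
* `exists_syntP_stageMap`, `isSyntomicMor_iff_exists_stage`.
-/

set_option autoImplicit false
set_option linter.style.haveILetI false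
universe u

namespace Groth.Agent.LibSyntStage29

open AlgebraicGeometry CategoryTheory Limits
open Groth.Agent.LibSyntHomProp29 Groth.Agent.Lib.helper9 Groth.Agent.Lib.helper9.ModelAlg

theorem hasFPModel_syntP : HasFPModel SyntP.{u} := by
  refine hasFPModel_of_alg SyntP @Q ?_
  intro B C _ _ _ h
  obtain ⟨B₀, C₀, _, _, h1, h2, h3⟩ :=
    Groth.Agent.LibSyntFPModel29.exists_fg_model (Q_algebraMap_iff.mp h)
  exact ⟨B₀, C₀, inferInstance, inferInstance, h1, Q_algebraMap_iff.mpr h2, h2.2.1, h3⟩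

theorem syntP_of_isOpenImmersion {X Y : Scheme.{u}} (j : X ⟶ Y) [IsOpenImmersion j] : SyntP j :=
  (isSyntomicMor_iff_syntP j).mp (Groth.Agent.S9699.result j)

section general

variable {I : Type u} [SmallCategory I] [IsCofiltered I] (D : I ⥤ Scheme.{u}) (c : Cone D)
  (hc : IsLimit c) [hD : ∀ (i j : I) (f : i ⟶ j), IsAffineHom (D.map f)]

include hc in
/-- Syntomic morphisms descend along cofiltered limits with affine transition maps. -/
theorem exists_syntP_stageMap (i₀ : I) {X₀ Y₀ : Scheme.{u}} (f₀ : X₀ ⟶ Y₀) (g₀ : Y₀ ⟶ D.obj i₀)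
    [CompactSpace X₀] [LocallyOfFinitePresentation f₀]
    (h : SyntP (stageMap (c.π.app i₀) f₀ g₀)) :
    ∃ l : Over i₀, SyntP (stageMap (D.map l.hom) f₀ g₀) :=
  (affineDescent_of_hasFPModel D c hc SyntP hasFPModel_syntP).exists_stageMap_of_local D c
    (fun f j _ hf => MorphismProperty.comp_mem _ f j hf (syntP_of_isOpenImmersion j)) i₀ f₀ g₀ h

include hc in
/-- Stage form of syntomic descent. -/
theorem exists_stage_of_isSyntomicMor (i₀ : I) {X₀ Y₀ : Scheme.{u}} (f₀ : X₀ ⟶ Y₀)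
    (g₀ : Y₀ ⟶ D.obj i₀) [CompactSpace X₀] [LocallyOfFinitePresentation f₀]
    {X Y : Scheme.{u}} (f : X ⟶ Y) (g : Y ⟶ c.pt) (qY : Y ⟶ Y₀) (qX : X ⟶ X₀)
    (hY : IsPullback qY g g₀ (c.π.app i₀)) (hX : IsPullback qX f f₀ qY)
    (hf : Synt.IsSyntomicMor f) :
    ∃ (j : I) (φ : j ⟶ i₀) (Xj Yj : Scheme.{u}) (fj : Xj ⟶ Yj) (gj : Yj ⟶ D.obj j)
      (pY : Yj ⟶ Y₀) (pX : Xj ⟶ X₀), IsPullback pY gj g₀ (D.map φ) ∧ IsPullback pX fj f₀ pY ∧
        Synt.IsSyntomicMor fj := by
  have h' : SyntP (stageMap (c.π.app i₀) f₀ g₀) :=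
    (stageMap_iff_of_isPullback SyntP hY hX).mpr ((isSyntomicMor_iff_syntP f).mp hf)
  obtain ⟨l, hl⟩ := exists_syntP_stageMap D c hc i₀ f₀ g₀ h'
  exact ⟨l.left, l.hom, _, _, stageMap (D.map l.hom) f₀ g₀,
    pullback.fst (D.map l.hom) g₀, pullback.snd (D.map l.hom) g₀,
    pullback.snd (D.map l.hom) (f₀ ≫ g₀),
    isPullback_stage_base (D.map l.hom) g₀,
    isPullback_stageMap (D.map l.hom) f₀ g₀, (isSyntomicMor_iff_syntP _).mpr hl⟩

end general

end Groth.Agent.LibSyntStage29
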