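import Groth.Agent.LibNine29g

/-!
# `T²(C/A) = 0 ↔ T²(C/B) = 0` when `T¹(B/A) = T²(B/A) = 0` (seat helper29)
-/

set_option autoImplicit false
universe u m

open TensorProduct CotT

namespace Groth.Agent.LibT2CI29

variable (A B C : Type u) [CommRing A] [CommRing B] [CommRing C] [Algebra A B] [Algebra B C] [Algebra A C]
  [IsScalarTower A B C]
variable (M : Type m) [AddCommGroup M] [Module C M] [Module B M] [IsScalarTower B C M]

theorem T2pull_bijective_of_vanishing
    (h1 : Subsingleton (CotT.T1 (CotT.canon A B) M)) (h2 : Subsingleton (CotT.T2 (CotT.canon A B) M)) :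
    Function.Bijective ((CotT.canonHom A C B C).T2pull M) := by
  obtain ⟨-, -, -, hex2, δ₀, δ₁, -, -, -, hd4⟩ := Groth.Agent.LibNine29.nine_term_canon A B C M
  constructor
  · rw [injective_iff_map_eq_zero]
    intro x hx
    obtain ⟨y, rfl⟩ := (hd4 x).mp hx
    rw [Subsingleton.elim y 0, map_zero]
  · intro y
    exact (hex2 y).mp (Subsingleton.elim _ _)

theorem subsingleton_T2_iff
    (h1 : Subsingleton (CotT.T1 (CotT.canon A B) M)) (h2 : Subsingleton (CotT.T2 (CotT.canon A B) M)) :
    Subsingleton (CotT.T2 (CotT.canon A C) M) ↔ Subsingleton (CotT.T2 (CotT.canon B C) M) := by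
  have hb := T2pull_bijective_of_vanishing A B C M h1 h2
  exact (Equiv.ofBijective _ hb).subsingleton_congr.symm

end Groth.Agent.LibT2CI29
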