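import Groth.Agent.LibCotT29d
import Groth.Agent.LibCotT29h
import Groth.Agent.LibNine29e
import Groth.Agent.Lib.Helper11.KoszulH1

/-!
# `T²(B/A, -) = 0` for `B = A/I`, `A` local Noetherian, forces minimal generators of `I` to be a regular sequence
(seat helper29)
-/

set_option autoImplicit false
universe u

open TensorProduct CotT

namespace Groth.Agent.LibT2CI29

open Groth.Agent.Lib.helper11.KoszulH1 Groth.Agent.LibCotT29

section Koszul

variable {A : Type u} [CommRing A]

lemma koszul_mem_Triv {n : ℕ} (f : Fin n → A) (a b : Fin n → A) :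
    (fun i => (∑ l, a l * f l) * b i - (∑ l, b l * f l) * a i) ∈ Triv f A := by
  have h : (fun i => (∑ l, a l * f l) * b i - (∑ l, b l * f l) * a i) =
      ∑ l, ∑ i', (f l • (Pi.single i' (a l * b i') : Fin n → A) -
        f i' • (Pi.single l (a l * b i') : Fin n → A)) := by
    funext i
    simp only [Finset.sum_apply, Pi.sub_apply, Pi.smul_apply, Pi.single_apply, smul_eq_mul,
      Finset.sum_sub_distrib, mul_ite, mul_zero, Finset.sum_ite_eq, Finset.mem_univ, if_true]
    congr 1
    · rw [Finset.sum_mul]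
      exact Finset.sum_congr rfl fun l _ => by ring
    · rw [Finset.sum_comm]
      simp only [Finset.sum_ite_eq, Finset.mem_univ, if_true]
      rw [Finset.sum_mul]
      exact Finset.sum_congr rfl fun l _ => by ring
  rw [h]
  exact Submodule.sum_mem _ fun l _ => Submodule.sum_mem _ fun i' _ =>
    Submodule.subset_span ⟨i', l, _, rfl⟩

lemma drop_generator {n : ℕ} (f a : Fin (n + 1) → A) (ha : ∑ i, a i * f i = 0) (j : Fin (n + 1))
    (hu : IsUnit (a j)) :
    Ideal.span (Set.range (f ∘ j.succAbove)) = Ideal.span (Set.range f) := by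
  apply le_antisymm
  · exact Ideal.span_mono (Set.range_comp_subset_range _ _)
  · rw [Ideal.span_le]
    rintro _ ⟨i, rfl⟩
    by_cases hij : i = j
    · subst hij
      obtain ⟨u, hu⟩ := hu
      rw [Fin.sum_univ_succAbove _ i, ← hu] at ha
      have h1 : f i = -(↑u⁻¹ * ∑ i', a (i.succAbove i') * f (i.succAbove i')) := by
        have h2 : (↑u⁻¹ : A) * (↑u * f i + ∑ i', a (i.succAbove i') * f (i.succAbove i')) = 0 := by
          rw [ha, mul_zero]
        rw [mul_add, ← mul_assoc, Units.inv_mul, one_mul] at h2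
        exact eq_neg_of_add_eq_zero_left h2
      rw [SetLike.mem_coe, h1]
      refine Ideal.neg_mem_iff _ |>.mpr (Ideal.mul_mem_left _ _ (Ideal.sum_mem _ fun i' _ => ?_))
      exact Ideal.mul_mem_left _ _ (Ideal.subset_span ⟨i', rfl⟩)
    · obtain ⟨i', rfl⟩ := Fin.exists_succAbove_eq hij
      exact Ideal.subset_span ⟨i', rfl⟩

theorem exists_minimal_generators [IsLocalRing A] (I : Ideal A) (hfg : I.FG) :
    ∃ (n : ℕ) (f : Fin n → A), Ideal.span (Set.range f) = I ∧
      ∀ a : Fin n → A, ∑ i, a i * f i = 0 → ∀ i, a i ∈ IsLocalRing.maximalIdeal A := by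
  classical
  have hex : ∃ n, ∃ f : Fin n → A, Ideal.span (Set.range f) = I :=
    (Submodule.fg_iff_exists_fin_generating_family).mp hfg
  obtain ⟨n, f, hf, hmin⟩ : ∃ (n : ℕ) (f : Fin n → A), Ideal.span (Set.range f) = I ∧
      ∀ n' < n, ¬ ∃ f' : Fin n' → A, Ideal.span (Set.range f') = I := by
    obtain ⟨f, hf⟩ := Nat.find_spec hex
    exact ⟨Nat.find hex, f, hf, fun n' hn' => Nat.find_min hex hn'⟩
  refine ⟨n, f, hf, fun a ha j => ?_⟩
  by_contra hj
  have hu : IsUnit (a j) := by
    rwa [IsLocalRing.mem_maximalIdeal, mem_nonunits_iff, not_not] at hj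
  cases n with
  | zero => exact j.elim0
  | succ n' =>
    exact hmin n' (Nat.lt_succ_self _) ⟨f ∘ j.succAbove, (drop_generator f a ha j hu).trans hf⟩

end Koszul

end Groth.Agent.LibT2CI29
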