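import Groth.Agent.LibT2CI29b

/-!
# `T²(B/A, -) = 0` for `B = A/I`, `A` local, forces minimal generators of `I` to have no non-Koszul relations
(seat helper29)
-/

set_option autoImplicit false
universe u

open TensorProduct CotT

namespace Groth.Agent.LibT2CI29

open Groth.Agent.Lib.helper11.KoszulH1 Groth.Agent.LibCotT29 Groth.Agent.LibNine29

variable (A B : Type u) [CommRing A] [CommRing B] [Algebra A B]

/-- the presentation with no variables and the given family as relations -/
noncomputable def funPres (hs : Function.Surjective (algebraMap A B)) {n : ℕ} (f : Fin n → A)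
    (hI : RingHom.ker (algebraMap A B) = Ideal.span (Set.range f)) :
    Algebra.Presentation A B PEmpty.{u+1} (Fin n) where
  __ := Algebra.Generators.ofSurjective (PEmpty.elim : PEmpty.{u+1} → B) (by
      intro b
      obtain ⟨a, rfl⟩ := hs b
      exact ⟨MvPolynomial.C a, by simp⟩)
  relation k := MvPolynomial.C (f k)
  span_range_relation_eq_ker := by
    apply le_antisymm
    · rw [Ideal.span_le]
      rintro _ ⟨k, rfl⟩
      rw [SetLike.mem_coe, Algebra.Generators.ker_eq_ker_aeval_val, RingHom.mem_ker]
      change MvPolynomial.aeval _ (MvPolynomial.C (f k)) = 0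
      rw [MvPolynomial.aeval_C]
      have : f k ∈ RingHom.ker (algebraMap A B) := by
        rw [hI]
        exact Ideal.subset_span ⟨k, rfl⟩
      exact this
    · intro x hx
      rw [Algebra.Generators.ker_eq_ker_aeval_val, RingHom.mem_ker] at hx
      let e := MvPolynomial.isEmptyRingEquiv A PEmpty.{u+1}
      have hx1 : x = MvPolynomial.C (e x) := by
        rw [← MvPolynomial.isEmptyRingEquiv_symm_apply A PEmpty.{u+1} (e x)]
        exact (e.symm_apply_apply x).symm
      rw [hx1] at hx
      change MvPolynomial.aeval _ (MvPolynomial.C (e x)) = 0 at hx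
      rw [MvPolynomial.aeval_C] at hx
      have hx2 : e x ∈ Ideal.span (Set.range f) := by
        rw [← hI]
        exact hx
      have hx3 : MvPolynomial.C (e x) ∈ Ideal.map (MvPolynomial.C : A →+* MvPolynomial PEmpty.{u+1} A)
          (Ideal.span (Set.range f)) := Ideal.mem_map_of_mem _ hx2
      rw [hx1]
      refine (Ideal.map_le_iff_le_comap.mpr ?_) hx3
      rw [Ideal.span_le]
      rintro _ ⟨k, rfl⟩
      exact Ideal.subset_span ⟨k, rfl⟩

theorem H1Z_of_subsingleton_T2 [IsLocalRing A] [Nontrivial B]
    (hs : Function.Surjective (algebraMap A B)) {n : ℕ} (f : Fin n → A)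
    (hI : RingHom.ker (algebraMap A B) = Ideal.span (Set.range f))
    (hmin : ∀ a : Fin n → A, ∑ i, a i * f i = 0 → ∀ i, a i ∈ IsLocalRing.maximalIdeal A)
    (hT : ∀ (M : Type u) [AddCommGroup M] [Module B M], Subsingleton (CotT.T2 (CotT.canon A B) M)) :
    H1Z f A := by
  haveI : IsLocalRing B := IsLocalRing.of_surjective' (algebraMap A B) hs
  haveI : IsLocalHom (algebraMap A B) := IsLocalHom.of_surjective _ hs
  let P₀ := funPres A B hs f hI
  let e : P₀.toExtension.Ring ≃+* A := MvPolynomial.isEmptyRingEquiv A PEmpty.{u+1}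
  have heC : ∀ a : A, e (MvPolynomial.C a : MvPolynomial PEmpty.{u+1} A) = a := by
    intro a
    rw [← MvPolynomial.isEmptyRingEquiv_symm_apply A PEmpty.{u+1} a]
    exact e.apply_symm_apply _
  have hC : ∀ x : P₀.toExtension.Ring, x = (MvPolynomial.C (e x) : MvPolynomial PEmpty.{u+1} A) := by
    intro x
    rw [← MvPolynomial.isEmptyRingEquiv_symm_apply A PEmpty.{u+1} (e x)]
    exact (e.symm_apply_apply x).symm
  have halg : ∀ x : P₀.toExtension.Ring, algebraMap P₀.toExtension.Ring B x = algebraMap A B (e x) := by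
    intro x
    rw [CotT.algebraMap_toExtension]
    conv_lhs => rw [hC x]
    exact MvPolynomial.aeval_C _ _
  have hrel : ∀ i, e (rel P₀ i) = f i := fun i => heC (f i)
  have hj : ∀ q : relMod P₀, e (jmap P₀ q) = ∑ i, e (q i) * f i := by
    intro q
    rw [jmap, Finsupp.linearCombination_apply, Finsupp.sum_fintype _ _ (by simp), map_sum]
    refine Finset.sum_congr rfl fun i _ => ?_
    rw [smul_eq_mul, map_mul, hrel]
  -- the retraction
  obtain ⟨e2⟩ := nonempty_T2_equiv (CotT.canon A B) P₀ (L2 P₀)
  have hsub : Subsingleton (T2 P₀ (L2 P₀)) := by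
    haveI := hT (L2 P₀)
    exact e2.symm.toEquiv.subsingleton
  obtain ⟨r, hr⟩ := exists_retraction_of_subsingleton_T2 P₀ hsub
  have hmem : ∀ q : relKer P₀, ∀ i,
      algebraMap P₀.toExtension.Ring B ((q : relMod P₀) i) ∈ IsLocalRing.maximalIdeal B := by
    intro q i
    rw [halg]
    apply map_nonunit (algebraMap A B)
    apply hmin (fun i => e ((q : relMod P₀) i))
    rw [← hj]
    have : jmap P₀ (q : relMod P₀) = 0 := q.2
    rw [this, map_zero]
  have hd2 : ∀ q : relKer P₀,
      d2 P₀ (nu P₀ q) ∈ (IsLocalRing.maximalIdeal B • ⊤ : Submodule B (L1 P₀)) := by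
    intro q
    rw [nu_apply, d2_mk_tmul]
    have hq : (q : relMod P₀) =
        ∑ i, (q : relMod P₀) i • Finsupp.single i (1 : P₀.toExtension.Ring) := by
      conv_lhs => rw [← Finsupp.univ_sum_single (q : relMod P₀)]
      refine Finset.sum_congr rfl fun i _ => ?_
      rw [Finsupp.smul_single, smul_eq_mul, mul_one]
    rw [hq, TensorProduct.tmul_sum]
    refine Submodule.sum_mem _ fun i _ => ?_
    have h3 : (1 : B) ⊗ₜ[P₀.toExtension.Ring]
          ((q : relMod P₀) i • Finsupp.single i (1 : P₀.toExtension.Ring)) =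
        algebraMap P₀.toExtension.Ring B ((q : relMod P₀) i) •
          ((1 : B) ⊗ₜ[P₀.toExtension.Ring] Finsupp.single i (1 : P₀.toExtension.Ring)) := by
      rw [TensorProduct.tmul_smul, algebraMap_smul]
    rw [h3]
    exact Submodule.smul_mem_smul (hmem q i) Submodule.mem_top
  have htop : (⊤ : Submodule B (L2 P₀)) ≤ IsLocalRing.maximalIdeal B • ⊤ := by
    intro z _
    obtain ⟨q, rfl⟩ := exists_nu_eq P₀ z
    have h1 : nu P₀ q = r (d2 P₀ (nu P₀ q)) := (LinearMap.congr_fun hr (nu P₀ q)).symm
    rw [h1]
    have h2 := Submodule.mem_map_of_mem (f := r) (hd2 q)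
    rw [Submodule.map_smul''] at h2
    exact Submodule.smul_mono le_rfl le_top h2
  haveI : Module.Finite B (L1 P₀) := Module.Finite.of_basis (L1basis P₀)
  have hsurj : Function.Surjective r := fun z => ⟨d2 P₀ z, LinearMap.congr_fun hr z⟩
  haveI : Module.Finite B (L2 P₀) := Module.Finite.of_surjective r hsurj
  have hbot : (⊤ : Submodule B (L2 P₀)) = ⊥ :=
    Submodule.eq_bot_of_le_smul_of_le_jacobson_bot (IsLocalRing.maximalIdeal B) ⊤ Module.Finite.fg_top htop
      (by rw [IsLocalRing.jacobson_eq_maximalIdeal ⊥ bot_ne_top])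
  have hker : ∀ q : relKer P₀, (q : relMod P₀) ∈ trivRel P₀ := by
    intro q
    apply mem_trivRel_of_nu_eq_zero P₀ q
    have : nu P₀ q ∈ (⊤ : Submodule B (L2 P₀)) := Submodule.mem_top
    rw [hbot] at this
    exact (Submodule.mem_bot B).mp this
  -- translation to Koszul relations
  have htr : ∀ y ∈ trivRel P₀, (fun i => e (y i)) ∈ Triv f A := by
    intro y hy
    induction hy using Submodule.span_induction with
    | mem y hy =>
      obtain ⟨a, b, rfl⟩ := hy
      have := koszul_mem_Triv f (fun i => e (a i)) (fun i => e (b i))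
      convert this using 1
      funext i
      rw [Finsupp.sub_apply, Finsupp.smul_apply, Finsupp.smul_apply, smul_eq_mul, smul_eq_mul, map_sub,
        map_mul, map_mul, hj, hj]
    | zero =>
      convert Submodule.zero_mem (Triv f A) using 1
      funext i
      simp
    | add x y _ _ hx hy =>
      convert Submodule.add_mem _ hx hy using 1
      funext i
      simp
    | smul r x _ hx =>
      convert Submodule.smul_mem _ (e r) hx using 1
      funext i
      simp
  intro m hm
  let q : relMod P₀ :=
    Finsupp.equivFunOnFinite.symm (fun i => (MvPolynomial.C (m i) : MvPolynomial PEmpty.{u+1} A))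
  have hqi : ∀ i, e (q i) = m i := fun i => heC (m i)
  have hq : jmap P₀ q = 0 := by
    apply e.injective
    rw [hj, map_zero, ← hm]
    refine Finset.sum_congr rfl fun i _ => ?_
    rw [hqi, smul_eq_mul, mul_comm]
  have := htr q (hker ⟨q, hq⟩)
  convert this using 1
  funext i
  exact (hqi i).symm

end Groth.Agent.LibT2CI29
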