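import Groth.Agent.LibCotT29g
import Groth.Agent.LibCotT29h
import Groth.Agent.LibNine29e
import Groth.Agent.LibQuotLoc29
import Groth.Agent.Lib.Helper15.Regular
import Groth.Agent.S12290

/-!
# `ker d₂` is killed generically for presentations of reduced algebras over regular rings (seat helper29)
-/

set_option autoImplicit false

universe u v

open TensorProduct CotT

namespace Groth.Agent.LibCotT29

open Finsupp

section LG

variable {R : Type u} [CommRing R] {σ : Type v} (f : σ → R)

/-- prime-local version of `mem_triv_of_locally`: if at the prime `𝔫` the ideal `(f_s)` is generated by a regular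
sequence, a relation with coefficients in `I` becomes Koszul after multiplication by some `w ∉ 𝔫`. -/
theorem exists_smul_mem_triv_of_regular_at (𝔫 : Ideal R) [𝔫.IsPrime]
    (hloc : ∃ (c : ℕ) (g : Fin c → Localization.AtPrime 𝔫),
        Ideal.span (Set.range fun s => algebraMap R (Localization.AtPrime 𝔫) (f s)) =
          Ideal.span (Set.range g) ∧
        ∀ k : Fin c, ∀ x, x * g k ∈ Ideal.span (g '' {i | i < k}) →
          x ∈ Ideal.span (g '' {i | i < k}))
    (q : σ →₀ R) (hq : linearCombination R f q = 0)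
    (hqI : ∀ s, q s ∈ Ideal.span (Set.range f)) :
    ∃ w, w ∉ 𝔫 ∧ w • q ∈ triv (linearCombination R f) := by
  classical
  obtain ⟨c, g, hfg, hreg⟩ := hloc
  have hq' : linearCombination (Localization.AtPrime 𝔫)
      (fun s => algebraMap R (Localization.AtPrime 𝔫) (f s)) (locMap (Localization.AtPrime 𝔫) q) = 0 := by
    rw [linearCombination_locMap, hq, map_zero]
  have hqI' : ∀ s, locMap (Localization.AtPrime 𝔫) q s ∈
      Ideal.span (Set.range fun s => algebraMap R (Localization.AtPrime 𝔫) (f s)) := by
    intro s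
    have h1 : Ideal.span (Set.range fun s => algebraMap R (Localization.AtPrime 𝔫) (f s)) =
        (Ideal.span (Set.range f)).map (algebraMap R (Localization.AtPrime 𝔫)) := by
      rw [Ideal.map_span, ← Set.range_comp]
      rfl
    rw [h1, locMap_apply]
    exact Ideal.mem_map_of_mem _ (hqI s)
  have h2 := mem_triv_of_regular_generators
    (fun s => algebraMap R (Localization.AtPrime 𝔫) (f s)) g hfg hreg _ hq' hqI'
  obtain ⟨s, hs, t, ht, hst⟩ := exists_smul_eq_locMap_of_mem_triv 𝔫.primeCompl
    (Localization.AtPrime 𝔫) f _ h2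
  have h3 : locMap (Localization.AtPrime 𝔫) (s • q - t) = 0 := by
    rw [map_sub, map_smul, hst, sub_self]
  obtain ⟨u, hu, hu0⟩ := exists_smul_eq_zero_of_locMap_eq_zero 𝔫.primeCompl
    (Localization.AtPrime 𝔫) _ h3
  refine ⟨u * s, 𝔫.primeCompl.mul_mem hu hs, ?_⟩
  rw [mul_smul]
  have : u • s • q = u • t := by
    rw [smul_sub, sub_eq_zero] at hu0
    exact hu0
  rw [this]
  exact Submodule.smul_mem _ _ ht

end LG

/-- local regular generators of the kernel of a surjection from a regular ring, at a prime where the quotient is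
regular -/
theorem exists_regular_generators_at (R : Type u) [CommRing R] [IsRegularRing R] (I : Ideal R)
    (𝔫 : Ideal R) [𝔫.IsPrime] (hI : I ≤ 𝔫) [hp : (𝔫.map (Ideal.Quotient.mk I)).IsPrime]
    (hreg' : IsRegularLocalRing (Localization.AtPrime (𝔫.map (Ideal.Quotient.mk I)))) :
    ∃ (c : ℕ) (g : Fin c → Localization.AtPrime 𝔫),
      I.map (algebraMap R (Localization.AtPrime 𝔫)) = Ideal.span (Set.range g) ∧
      ∀ k : Fin c, ∀ x, x * g k ∈ Ideal.span (g '' {i | i < k}) →
        x ∈ Ideal.span (g '' {i | i < k}) := by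
  have : IsRegularLocalRing (Localization.AtPrime 𝔫 ⧸
      I.map (algebraMap R (Localization.AtPrime 𝔫))) :=
    IsRegularLocalRing.of_ringEquiv (Groth.Agent.LibQuotLoc29.quotLocEquiv R I 𝔫 hI)
  obtain ⟨x, c, hc, hxm, hxI⟩ :=
    Groth.Agent.Lib.helper15.exists_generators_of_regular_quotient (Localization.AtPrime 𝔫) _ rfl
      (I.map (algebraMap R (Localization.AtPrime 𝔫)))
  have hw := Groth.Agent.Lib.helper15.isWeaklyRegular_ofFn (Localization.AtPrime 𝔫) _ rfl x hxm
  refine ⟨c, fun i => x (Fin.castLE hc i), hxI, ?_⟩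
  intro kk y hy
  rw [← Groth.Agent.S12290.ofList_take_ofFn x hc kk] at hy ⊢
  refine Groth.Agent.S12288.mem_of_mul_mem (List.ofFn x) hw kk
    (by rw [List.length_ofFn]; exact lt_of_lt_of_le kk.2 hc) y ?_
  have : (List.ofFn x)[(kk : ℕ)]'(by rw [List.length_ofFn]; exact lt_of_lt_of_le kk.2 hc) =
      x (Fin.castLE hc kk) := by
    simp only [List.getElem_ofFn]
    rfl
  rw [this]
  exact hy

section Pres

variable {A : Type u} {B : Type u} {ι : Type u} {σ : Type u}
variable [CommRing A] [CommRing B] [Algebra A B]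
variable (P : Algebra.Presentation A B ι σ)

/-- an element of `ker d₂` is killed by an element outside any prime at which `I` is generated by a regular
sequence -/
theorem exists_smul_eq_zero_of_d2_eq_zero (𝔫 : Ideal P.toExtension.Ring) [𝔫.IsPrime]
    (hloc : ∃ (c : ℕ) (g : Fin c → Localization.AtPrime 𝔫),
        Ideal.span (Set.range fun s => algebraMap P.toExtension.Ring (Localization.AtPrime 𝔫) (rel P s)) =
          Ideal.span (Set.range g) ∧
        ∀ k : Fin c, ∀ x, x * g k ∈ Ideal.span (g '' {i | i < k}) →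
          x ∈ Ideal.span (g '' {i | i < k}))
    (z : L2 P) (hz : d2 P z = 0) :
    ∃ w : P.toExtension.Ring, w ∉ 𝔫 ∧ algebraMap P.toExtension.Ring B w • z = 0 := by
  obtain ⟨q, rfl⟩ := exists_nu_eq P z
  rw [nu_apply, d2_mk_tmul] at hz
  have hspan : Ideal.span (Set.range (rel P)) = P.toExtension.ker := P.span_range_relation_eq_ker
  have hqI : ∀ s, (q : relMod P) s ∈ Ideal.span (Set.range (rel P)) := fun s =>
    hspan ▸ mem_ker_of_one_tmul_eq_zero P _ hz s
  have hq : Finsupp.linearCombination P.toExtension.Ring (rel P) (q : relMod P) = 0 := q.2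
  obtain ⟨w, hw, hwq⟩ := exists_smul_mem_triv_of_regular_at (rel P) 𝔫 hloc (q : relMod P) hq hqI
  refine ⟨w, hw, ?_⟩
  have h1 : nu P (w • q) = 0 := nu_eq_zero_of_mem P (w • q) hwq
  rw [map_smul] at h1
  rw [algebraMap_smul]
  exact h1

end Pres

end Groth.Agent.LibCotT29
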