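import Groth.Agent.LibT2Ext29a

/-!
# For a reduced algebra presented over a regular ring, every linear form on `L₂` kills `ker d₂` (seat helper29)
-/

set_option autoImplicit false

universe u

open TensorProduct CotT

namespace Groth.Agent.LibCotT29

variable {A : Type u} {B : Type u} {ι : Type u} {σ : Type u}
variable [CommRing A] [CommRing B] [Algebra A B]
variable (P : Algebra.Presentation A B ι σ)

/-- the key local step -/
theorem mem_of_minimal [IsRegularRing P.toExtension.Ring] [IsReduced B]
    (𝔫 : Ideal P.toExtension.Ring) [𝔫.IsPrime] (hI : P.toExtension.ker ≤ 𝔫)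
    (hmin : 𝔫.map (Ideal.Quotient.mk P.toExtension.ker) ∈ minimalPrimes (P.toExtension.Ring ⧸ P.toExtension.ker))
    (z : L2 P) (hz : d2 P z = 0) (φ : L2 P →ₗ[B] B) (r : P.toExtension.Ring)
    (hr : algebraMap P.toExtension.Ring B r = φ z) : r ∈ 𝔫 := by
  haveI : IsReduced (P.toExtension.Ring ⧸ P.toExtension.ker) :=
    isReduced_of_injective (RingHom.kerLift (algebraMap P.toExtension.Ring B))
      (RingHom.kerLift_injective _)
  haveI hp := hmin.1.1
  haveI : Ring.KrullDimLE 0 (Localization.AtPrime (𝔫.map (Ideal.Quotient.mk P.toExtension.ker))) :=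
    .of_isLocalization _ hmin _
  have hF : IsField (Localization.AtPrime (𝔫.map (Ideal.Quotient.mk P.toExtension.ker))) :=
    Ring.KrullDimLE.isField_of_isReduced
  haveI : IsDomain (Localization.AtPrime (𝔫.map (Ideal.Quotient.mk P.toExtension.ker))) := hF.isDomain
  haveI : IsPrincipalIdealRing (Localization.AtPrime (𝔫.map (Ideal.Quotient.mk P.toExtension.ker))) :=
    hF.isPrincipalIdealRing
  have hreg' : IsRegularLocalRing (Localization.AtPrime (𝔫.map (Ideal.Quotient.mk P.toExtension.ker))) :=
    inferInstance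
  obtain ⟨c, g, hg1, hg2⟩ := exists_regular_generators_at P.toExtension.Ring P.toExtension.ker 𝔫 hI hreg'
  have hspan : Ideal.span (Set.range (rel P)) = P.toExtension.ker := P.span_range_relation_eq_ker
  have hloc : ∃ (c : ℕ) (g : Fin c → Localization.AtPrime 𝔫),
      Ideal.span (Set.range fun s => algebraMap P.toExtension.Ring (Localization.AtPrime 𝔫) (rel P s)) =
        Ideal.span (Set.range g) ∧
      ∀ k : Fin c, ∀ x, x * g k ∈ Ideal.span (g '' {i | i < k}) →
        x ∈ Ideal.span (g '' {i | i < k}) := by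
    refine ⟨c, g, ?_, hg2⟩
    rw [← hg1, ← hspan, Ideal.map_span, ← Set.range_comp]
    rfl
  obtain ⟨w, hw, hwz⟩ := exists_smul_eq_zero_of_d2_eq_zero P 𝔫 hloc z hz
  have h1 : algebraMap P.toExtension.Ring B (w * r) = 0 := by
    rw [map_mul, hr, ← smul_eq_mul, ← map_smul, hwz, map_zero]
  have h2 : w * r ∈ 𝔫 := hI h1
  exact (Ideal.IsPrime.mem_or_mem ‹_› h2).resolve_left hw

/-- For a reduced algebra presented over a regular ring, every linear form on `L₂` kills `ker d₂`. -/
theorem apply_eq_zero_of_d2_eq_zero [IsRegularRing P.toExtension.Ring] [IsReduced B]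
    (φ : L2 P →ₗ[B] B) (z : L2 P) (hz : d2 P z = 0) : φ z = 0 := by
  obtain ⟨r, hr⟩ := P.toExtension.algebraMap_surjective (φ z)
  haveI : IsReduced (P.toExtension.Ring ⧸ P.toExtension.ker) :=
    isReduced_of_injective (RingHom.kerLift (algebraMap P.toExtension.Ring B))
      (RingHom.kerLift_injective _)
  have hmem : Ideal.Quotient.mk P.toExtension.ker r ∈
      sInf (minimalPrimes (P.toExtension.Ring ⧸ P.toExtension.ker)) := by
    rw [Ideal.mem_sInf]
    intro 𝔮 h𝔮
    haveI := h𝔮.1.1
    have e : (𝔮.comap (Ideal.Quotient.mk P.toExtension.ker)).map (Ideal.Quotient.mk P.toExtension.ker) = 𝔮 :=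
      Ideal.map_comap_of_surjective _ Ideal.Quotient.mk_surjective 𝔮
    have hI : P.toExtension.ker ≤ 𝔮.comap (Ideal.Quotient.mk P.toExtension.ker) := by
      intro x hx
      rw [Ideal.mem_comap, Ideal.Quotient.eq_zero_iff_mem.mpr hx]
      exact zero_mem _
    have h1 := mem_of_minimal P (𝔮.comap (Ideal.Quotient.mk P.toExtension.ker)) hI (e.symm ▸ h𝔮) z hz φ r hr
    exact h1
  have h0 : Ideal.Quotient.mk P.toExtension.ker r = 0 := by
    have h2 : sInf (minimalPrimes (P.toExtension.Ring ⧸ P.toExtension.ker)) = ⊥ := by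
      rw [minimalPrimes, Ideal.sInf_minimalPrimes]
      exact nilradical_eq_zero _
    rw [h2] at hmem
    exact hmem
  rw [← hr]
  exact Ideal.Quotient.eq_zero_iff_mem.mp h0

end Groth.Agent.LibCotT29
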