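import Mathlib

/-!
# Extending linear forms from the relation module: a local-to-global lemma (seat helper29)

`R` a Noetherian ring, `rel : σ → R` a finite family generating the ideal `I`, `j : F = R^σ → R` the corresponding
map, `Q = ker j` the module of relations and `T ⊆ Q` the trivial (Koszul) relations `j(a) b - j(b) a`.
If around every prime containing `I` the ideal becomes, after inverting some `g`, generated by a sequence all of
whose relations are trivial up to `g`-torsion (`LocData`), then every linear map `φ : Q → N` killing `T`, `N` killed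
by `I`, extends to `F`.
-/

set_option autoImplicit false
universe u v w

namespace Groth.Agent.LibT2LCI29

section Setup

variable {R : Type u} [CommRing R] {σ : Type v} (rel : σ → R)

/-- `j : F → R` -/
noncomputable abbrev jj : (σ →₀ R) →ₗ[R] R := Finsupp.linearCombination R rel

/-- the trivial relations -/
noncomputable def triv : Submodule R (σ →₀ R) :=
  Submodule.span R {y | ∃ a b : σ →₀ R, y = jj rel a • b - jj rel b • a}

lemma jj_single (s : σ) (a : R) : jj rel (Finsupp.single s a) = a * rel s := by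
  rw [jj, Finsupp.linearCombination_single, smul_eq_mul]

/-- the Koszul relations of a finite sequence -/
noncomputable def trivSeq {r : ℕ} (ε : Fin r → R) : Submodule R (Fin r → R) :=
  Submodule.span R {v | ∃ i l : Fin r, v = Pi.single i (ε l) - Pi.single l (ε i)}

/-- local data at `g`: the ideal is generated, after inverting `g`, by `ε`, all of whose relations are trivial up
to `g`-torsion -/
structure LocData (g : R) (r : ℕ) where
  /-- exponent -/
  n : ℕ
  /-- local generators -/
  ε : Fin r → R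
  /-- `g^n rel s = Σ A s i ε i` -/
  A : σ → Fin r → R
  /-- `ε i = j (Bm i)` -/
  Bm : Fin r → (σ →₀ R)
  hB : ∀ i, jj rel (Bm i) = ε i
  hA : ∀ s, g ^ n * rel s = ∑ i, A s i * ε i
  hreg : ∀ c : Fin r → R, ∑ i, c i * ε i = 0 → ∃ m : ℕ, g ^ m • c ∈ trivSeq ε

end Setup

section Step1

variable {R : Type u} [CommRing R] {σ : Type v} (rel : σ → R) {g : R} {r : ℕ} (D : LocData rel g r)

/-- `F → R^r` -/
noncomputable def alpha : (σ →₀ R) →ₗ[R] (Fin r → R) := Finsupp.linearCombination R (fun s => D.A s)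

/-- `R^r → F` -/
noncomputable def beta : (Fin r → R) →ₗ[R] (σ →₀ R) := Fintype.linearCombination R D.Bm

/-- `R^r → R` -/
noncomputable def jeps : (Fin r → R) →ₗ[R] R := Fintype.linearCombination R D.ε

lemma jeps_apply (c : Fin r → R) : jeps rel D c = ∑ i, c i * D.ε i := by
  rw [jeps, Fintype.linearCombination_apply]
  rfl

lemma jj_beta (c : Fin r → R) : jj rel (beta rel D c) = jeps rel D c := by
  rw [beta, Fintype.linearCombination_apply, map_sum, jeps_apply]
  refine Finset.sum_congr rfl fun i _ => ?_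
  rw [map_smul, D.hB, smul_eq_mul]

lemma jeps_alpha (x : σ →₀ R) : jeps rel D (alpha rel D x) = g ^ D.n * jj rel x := by
  classical
  induction x using Finsupp.induction_linear with
  | zero => rw [map_zero, map_zero, map_zero, mul_zero]
  | add x y hx hy => rw [map_add, map_add, hx, hy, map_add, mul_add]
  | single s a =>
    rw [alpha, Finsupp.linearCombination_single, map_smul, jeps_apply, jj_single, smul_eq_mul, ← D.hA]
    ring

lemma beta_mem_triv (c : Fin r → R) (hc : c ∈ trivSeq D.ε) : beta rel D c ∈ triv rel := by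
  classical
  refine Submodule.span_induction (p := fun c _ => beta rel D c ∈ triv rel) ?_ ?_ ?_ ?_ hc
  · rintro _ ⟨i, l, rfl⟩
    have h1 : beta rel D (Pi.single i (D.ε l) - Pi.single l (D.ε i)) =
        jj rel (D.Bm l) • D.Bm i - jj rel (D.Bm i) • D.Bm l := by
      rw [map_sub, beta, Fintype.linearCombination_apply_single, Fintype.linearCombination_apply_single,
        D.hB, D.hB]
    rw [h1]
    exact Submodule.subset_span ⟨D.Bm l, D.Bm i, rfl⟩
  · rw [map_zero]
    exact zero_mem _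
  · intro x y _ _ hx hy
    rw [map_add]
    exact add_mem hx hy
  · intro a x _ hx
    rw [map_smul]
    exact Submodule.smul_mem _ _ hx

/-- `θ = g^n - β α : F → Q` -/
noncomputable def theta : (σ →₀ R) →ₗ[R] LinearMap.ker (jj rel) :=
  LinearMap.codRestrict (LinearMap.ker (jj rel)) ((g ^ D.n) • LinearMap.id - (beta rel D) ∘ₗ (alpha rel D))
    (fun x => by
      rw [LinearMap.mem_ker, LinearMap.sub_apply, LinearMap.smul_apply, LinearMap.id_apply, LinearMap.comp_apply,
        map_sub, map_smul, jj_beta, jeps_alpha, smul_eq_mul, sub_self])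

lemma coe_theta (x : σ →₀ R) :
    ((theta rel D x : LinearMap.ker (jj rel)) : σ →₀ R) = g ^ D.n • x - beta rel D (alpha rel D x) := rfl

variable {N : Type w} [AddCommGroup N] [Module R N] (φ : LinearMap.ker (jj rel) →ₗ[R] N)
  (hφ : ∀ q : LinearMap.ker (jj rel), (q : σ →₀ R) ∈ triv rel → φ q = 0)

include hφ in
/-- pointwise: `φ (θ q) = g^n φ q` up to `g`-torsion -/
lemma exists_pow_smul_phi_theta (q : LinearMap.ker (jj rel)) :
    ∃ m : ℕ, g ^ m • (φ (theta rel D q) - g ^ D.n • φ q) = 0 := by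
  have hq : jj rel (q : σ →₀ R) = 0 := q.2
  have h1 : ∑ i, (alpha rel D q) i * D.ε i = 0 := by
    rw [← jeps_apply, jeps_alpha, hq, mul_zero]
  obtain ⟨m, hm⟩ := D.hreg _ h1
  have h2 : beta rel D (g ^ m • alpha rel D q) ∈ triv rel := beta_mem_triv rel D _ hm
  have h3 : beta rel D (alpha rel D q) ∈ LinearMap.ker (jj rel) := by
    rw [LinearMap.mem_ker, jj_beta, jeps_alpha, hq, mul_zero]
  have h4 : theta rel D q = g ^ D.n • q - ⟨beta rel D (alpha rel D q), h3⟩ := Subtype.ext (coe_theta rel D q)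
  have h5 : g ^ m • φ ⟨beta rel D (alpha rel D q), h3⟩ = 0 := by
    rw [← map_smul]
    apply hφ
    change g ^ m • beta rel D (alpha rel D q) ∈ triv rel
    rw [← map_smul]
    exact h2
  have h6 : φ (theta rel D q) = g ^ D.n • φ q - φ ⟨beta rel D (alpha rel D q), h3⟩ := by
    rw [h4]
    exact (map_sub φ _ _).trans (by rw [map_smul])
  refine ⟨m, ?_⟩
  rw [h6, sub_sub_cancel_left, smul_neg, h5, neg_zero]

/-- a linear map from a finitely generated module which is pointwise `g`-power torsion is `g`-power torsion -/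
lemma exists_pow_smul_eq_zero {Q : Type*} [AddCommGroup Q] [Module R Q] (hQ : (⊤ : Submodule R Q).FG)
    (δ : Q →ₗ[R] N) (g : R) (h : ∀ q, ∃ m : ℕ, g ^ m • δ q = 0) : ∃ M : ℕ, ∀ q, g ^ M • δ q = 0 := by
  classical
  obtain ⟨S, hS⟩ := hQ
  choose m hm using h
  refine ⟨S.sup m, fun q => ?_⟩
  have hq : q ∈ Submodule.span R (S : Set Q) := by
    rw [hS]
    exact Submodule.mem_top
  refine Submodule.span_induction (p := fun q _ => g ^ S.sup m • δ q = 0) ?_ ?_ ?_ ?_ hq
  · intro x hx
    have hle : m x ≤ S.sup m := Finset.le_sup (f := m) hx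
    obtain ⟨d, hd⟩ := Nat.exists_eq_add_of_le hle
    rw [hd, pow_add, mul_comm, mul_smul, hm, smul_zero]
  · rw [map_zero, smul_zero]
  · intro x y _ _ hx hy
    rw [map_add, smul_add, hx, hy, add_zero]
  · intro a x _ hx
    rw [map_smul, smul_comm, hx, smul_zero]

include D hφ in
/-- Step 1: a power of `g` times `φ` extends to `F` -/
theorem exists_pow_extends [Finite σ] [IsNoetherianRing R] :
    ∃ (K : ℕ) (ψ : (σ →₀ R) →ₗ[R] N), ∀ q : LinearMap.ker (jj rel), ψ q = g ^ K • φ q := by
  haveI : IsNoetherian R (σ →₀ R) := isNoetherian_of_isNoetherianRing_of_finite R (σ →₀ R)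
  have hfg : (⊤ : Submodule R (LinearMap.ker (jj rel))).FG := by
    have : IsNoetherian R (LinearMap.ker (jj rel)) := inferInstance
    exact Module.Finite.fg_top
  let δ : LinearMap.ker (jj rel) →ₗ[R] N :=
    φ ∘ₗ (theta rel D) ∘ₗ (LinearMap.ker (jj rel)).subtype - (g ^ D.n) • φ
  have hδ : ∀ q, ∃ m : ℕ, g ^ m • δ q = 0 := fun q => exists_pow_smul_phi_theta rel D φ hφ q
  obtain ⟨M, hM⟩ := exists_pow_smul_eq_zero (Q := LinearMap.ker (jj rel)) hfg δ g hδ
  refine ⟨M + D.n, (g ^ M) • (φ ∘ₗ theta rel D), fun q => ?_⟩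
  have h1 := hM q
  have h2 : δ q = φ (theta rel D q) - g ^ D.n • φ q := rfl
  rw [h2, smul_sub, sub_eq_zero] at h1
  rw [LinearMap.smul_apply, LinearMap.comp_apply, h1, pow_add, mul_smul]

end Step1

section Step2

variable {R : Type u} [CommRing R] [IsNoetherianRing R] {σ : Type v} [Finite σ] (rel : σ → R)
  {N : Type w} [AddCommGroup N] [Module R N]

/-- **Local-to-global extension of linear forms on the relation module.** -/
theorem exists_extends
    (hloc : ∀ 𝔭 : Ideal R, 𝔭.IsPrime → Ideal.span (Set.range rel) ≤ 𝔭 →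
      ∃ g : R, g ∉ 𝔭 ∧ ∃ r : ℕ, Nonempty (LocData rel g r))
    (hIN : ∀ (s : σ) (x : N), rel s • x = 0)
    (φ : LinearMap.ker (jj rel) →ₗ[R] N)
    (hφ : ∀ q : LinearMap.ker (jj rel), (q : σ →₀ R) ∈ triv rel → φ q = 0) :
    ∃ ψ : (σ →₀ R) →ₗ[R] N, ∀ q : LinearMap.ker (jj rel), ψ q = φ q := by
  let 𝔞 : Ideal R :=
    { carrier := {a | ∃ ψ : (σ →₀ R) →ₗ[R] N, ∀ q : LinearMap.ker (jj rel), ψ q = a • φ q}
      add_mem' := by
        rintro a b ⟨ψ₁, h₁⟩ ⟨ψ₂, h₂⟩
        exact ⟨ψ₁ + ψ₂, fun q => by rw [LinearMap.add_apply, h₁, h₂, add_smul]⟩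
      zero_mem' := ⟨0, fun q => by rw [LinearMap.zero_apply, zero_smul]⟩
      smul_mem' := by
        rintro c a ⟨ψ, h⟩
        exact ⟨c • ψ, fun q => by rw [LinearMap.smul_apply, h, smul_eq_mul, mul_smul]⟩ }
  have hI : Ideal.span (Set.range rel) ≤ 𝔞 := by
    rw [Ideal.span_le]
    rintro _ ⟨s, rfl⟩
    exact ⟨0, fun q => by rw [LinearMap.zero_apply, hIN]⟩
  have htop : 𝔞 = ⊤ := by
    by_contra hne
    obtain ⟨𝔪, h𝔪, hle⟩ := Ideal.exists_le_maximal 𝔞 hne
    obtain ⟨g, hg, r, ⟨D⟩⟩ := hloc 𝔪 h𝔪.isPrime (hI.trans hle)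
    obtain ⟨K, ψ, hψ⟩ := exists_pow_extends rel D φ hφ
    have h1 : g ^ K ∈ 𝔞 := ⟨ψ, hψ⟩
    exact hg (h𝔪.isPrime.mem_of_pow_mem K (hle h1))
  have h1 : (1 : R) ∈ 𝔞 := by
    rw [htop]
    exact Submodule.mem_top
  obtain ⟨ψ, hψ⟩ := h1
  exact ⟨ψ, fun q => by rw [hψ, one_smul]⟩

end Step2

end Groth.Agent.LibT2LCI29
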