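import Groth.Agent.LibT2LCI29a
import Groth.Prelude.Def_CAlgX

/-!
# Local data from an `H₁`-regular sequence generating the localized ideal (seat helper29)
-/

set_option autoImplicit false
universe u v

namespace Groth.Agent.LibT2LCI29

section Loc

variable {R : Type u} [CommRing R] (g : R)

/-- a common denominator putting a finite family of elements of `I_g` into `I` -/
lemma exists_common_num {r : ℕ} (I : Ideal R) (e : Fin r → Localization.Away g)
    (he : ∀ i, e i ∈ Ideal.map (algebraMap R (Localization.Away g)) I) :
    ∃ (t : Submonoid.powers g) (ε : Fin r → R), (∀ i, ε i ∈ I) ∧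
      ∀ i, e i * algebraMap R (Localization.Away g) (t : R) = algebraMap R (Localization.Away g) (ε i) := by
  classical
  choose x hx using fun i =>
    (IsLocalization.mem_map_algebraMap_iff (Submonoid.powers g) (Localization.Away g)).mp (he i)
  refine ⟨∏ i, (x i).2, fun i => ((x i).1 : R) * ∏ l ∈ Finset.univ.erase i, (((x l).2 : Submonoid.powers g) : R),
    fun i => I.mul_mem_right _ (x i).1.2, fun i => ?_⟩
  have h1 : ((∏ l, (x l).2 : Submonoid.powers g) : R) =
      (((x i).2 : Submonoid.powers g) : R) * ∏ l ∈ Finset.univ.erase i, (((x l).2 : Submonoid.powers g) : R) := by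
    rw [Submonoid.coe_finset_prod]
    exact (Finset.mul_prod_erase _ _ (Finset.mem_univ i)).symm
  rw [h1, map_mul, ← mul_assoc, hx, map_mul]

/-- the coordinatewise localization map `R^r → (R_g)^r` -/
noncomputable def locPi (r : ℕ) : (Fin r → R) →ₗ[R] (Fin r → Localization.Away g) :=
  LinearMap.pi fun i => (Algebra.linearMap R (Localization.Away g)) ∘ₗ (LinearMap.proj i)

instance (r : ℕ) : IsLocalizedModule (Submonoid.powers g) (locPi g r) := by
  unfold locPi
  infer_instance

lemma locPi_apply (r : ℕ) (v : Fin r → R) (i : Fin r) :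
    locPi g r v i = algebraMap R (Localization.Away g) (v i) := rfl

lemma locPi_single (r : ℕ) (i : Fin r) (a : R) :
    locPi g r (Pi.single i a) = Pi.single i (algebraMap R (Localization.Away g) a) := by
  funext l
  rw [locPi_apply]
  by_cases h : l = i
  · subst h
    rw [Pi.single_eq_same, Pi.single_eq_same]
  · rw [Pi.single_eq_of_ne h, Pi.single_eq_of_ne h, map_zero]

/-- relations among the numerators are trivial up to `g`-torsion -/
lemma exists_pow_smul_mem_trivSeq {r : ℕ} (e : Fin r → Localization.Away g) (hreg : CAlgX.IsH1Regular e)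
    (t : Submonoid.powers g) (ε : Fin r → R)
    (hε : ∀ i, e i * algebraMap R (Localization.Away g) (t : R) = algebraMap R (Localization.Away g) (ε i))
    (c : Fin r → R) (hc : ∑ i, c i * ε i = 0) : ∃ m : ℕ, g ^ m • c ∈ trivSeq ε := by
  classical
  have hu : IsUnit (algebraMap R (Localization.Away g) (t : R)) :=
    IsLocalization.map_units (Localization.Away g) t
  -- the relation over the localization
  have h1 : ∑ i, (locPi g r ((t : R) • c)) i * e i = 0 := by
    have : ∀ i, (locPi g r ((t : R) • c)) i * e i = algebraMap R (Localization.Away g) (c i * ε i) := by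
      intro i
      rw [locPi_apply, Pi.smul_apply, smul_eq_mul, map_mul, map_mul, ← hε]
      ring
    rw [Finset.sum_congr rfl fun i _ => this i, ← map_sum, hc, map_zero]
  have h2 := hreg _ h1
  -- the Koszul relations of `e` lie in the localized Koszul relations of `ε`
  have h3 : Submodule.span (Localization.Away g)
      {v : Fin r → Localization.Away g | ∃ i j : Fin r, v = Pi.single i (e j) - Pi.single j (e i)} ≤
      (trivSeq ε).localized' (Localization.Away g) (Submonoid.powers g) (locPi g r) := by
    rw [Submodule.span_le]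
    rintro _ ⟨i, l, rfl⟩
    have h4 : locPi g r (Pi.single i (ε l) - Pi.single l (ε i)) ∈
        (trivSeq ε).localized' (Localization.Away g) (Submonoid.powers g) (locPi g r) :=
      ⟨_, Submodule.subset_span ⟨i, l, rfl⟩, 1, IsLocalizedModule.mk'_one _ _ _⟩
    have h5 : (Pi.single i (e l) - Pi.single l (e i) : Fin r → Localization.Away g) =
        (↑(hu.unit⁻¹) : Localization.Away g) • locPi g r (Pi.single i (ε l) - Pi.single l (ε i)) := by
      rw [map_sub, locPi_single, locPi_single, ← hε, ← hε]
      funext k
      simp only [Pi.sub_apply, Pi.smul_apply, Pi.single_apply, smul_eq_mul]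
      have hinv : (↑(hu.unit⁻¹) : Localization.Away g) * algebraMap R (Localization.Away g) (t : R) = 1 :=
        hu.val_inv_mul
      split_ifs
      · linear_combination (-(e l - e i)) * hinv
      · linear_combination (-(e l)) * hinv
      · linear_combination (e i) * hinv
      · ring
    rw [h5]
    exact Submodule.smul_mem _ _ h4
  obtain ⟨w, hw, s, hws⟩ := (Submodule.mem_localized' _ _ _ _ _).mp (h3 h2)
  rw [IsLocalizedModule.mk'_eq_iff] at hws
  have h6 : locPi g r w = locPi g r ((s : R) • (t : R) • c) := by
    rw [hws, Submonoid.smul_def, ← map_smul]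
  obtain ⟨s', hs'⟩ := (IsLocalizedModule.eq_iff_exists (Submonoid.powers g) (locPi g r)).mp h6
  obtain ⟨m, hm⟩ := (Submonoid.mem_powers_iff _ _).mp (s' * s * t).2
  refine ⟨m, ?_⟩
  have h7 : g ^ m • c = s' • w := by
    rw [hs', hm, Submonoid.smul_def, Submonoid.coe_mul, Submonoid.coe_mul, mul_smul, mul_smul]
  rw [h7, Submonoid.smul_def]
  exact Submodule.smul_mem _ _ hw

variable {σ : Type v} [Finite σ] (rel : σ → R)

/-- the given generators in terms of the numerators -/
lemma exists_A {r : ℕ} (e : Fin r → Localization.Away g)
    (t : Submonoid.powers g) (ε : Fin r → R)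
    (hε : ∀ i, e i * algebraMap R (Localization.Away g) (t : R) = algebraMap R (Localization.Away g) (ε i))
    (hrel : ∀ s, algebraMap R (Localization.Away g) (rel s) ∈ Ideal.span (Set.range e)) :
    ∃ (n : ℕ) (A : σ → Fin r → R), ∀ s, g ^ n * rel s = ∑ i, A s i * ε i := by
  classical
  cases nonempty_fintype σ
  choose c hc using fun s => Ideal.mem_span_range_iff_exists_fun.mp (hrel s)
  obtain ⟨b, hb⟩ := IsLocalization.exist_integer_multiples_of_finite (Submonoid.powers g)
    (fun p : σ × Fin r => c p.1 p.2)
  choose A' hA' using hb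
  have h1 : ∀ s, algebraMap R (Localization.Away g) ((b : R) * (t : R) * rel s) =
      algebraMap R (Localization.Away g) (∑ i, A' (s, i) * ε i) := by
    intro s
    rw [map_sum, map_mul, map_mul, ← hc s, Finset.mul_sum]
    refine Finset.sum_congr rfl fun i _ => ?_
    rw [map_mul, hA' (s, i), ← hε, Algebra.smul_def]
    ring
  choose d hd using fun s => (IsLocalization.eq_iff_exists (Submonoid.powers g) (Localization.Away g)).mp (h1 s)
  obtain ⟨n, hn⟩ := (Submonoid.mem_powers_iff _ _).mp ((∏ s, d s) * b * t).2
  refine ⟨n, fun s i => ((∏ s', d s' : Submonoid.powers g) : R) * A' (s, i), fun s => ?_⟩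
  have h2 : ((∏ s', d s' : Submonoid.powers g) : R) =
      (∏ s' ∈ Finset.univ.erase s, ((d s' : Submonoid.powers g) : R)) * ((d s : Submonoid.powers g) : R) := by
    rw [Submonoid.coe_finset_prod]
    exact (Finset.prod_erase_mul _ _ (Finset.mem_univ s)).symm
  have h3 : g ^ n * rel s = ((∏ s', d s' : Submonoid.powers g) : R) * ((b : R) * (t : R) * rel s) := by
    rw [hn, Submonoid.coe_mul, Submonoid.coe_mul]
    ring
  rw [h3, h2, mul_assoc, hd s, ← mul_assoc, Finset.mul_sum]
  refine Finset.sum_congr rfl fun i _ => ?_
  ring

/-- **Local data from an `H₁`-regular sequence generating the localized ideal.** -/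
theorem nonempty_locData {r : ℕ} (e : Fin r → Localization.Away g) (hreg : CAlgX.IsH1Regular e)
    (hI : Ideal.map (algebraMap R (Localization.Away g)) (Ideal.span (Set.range rel)) =
      Ideal.span (Set.range e)) : Nonempty (LocData rel g r) := by
  have he : ∀ i, e i ∈ Ideal.map (algebraMap R (Localization.Away g)) (Ideal.span (Set.range rel)) := by
    intro i
    rw [hI]
    exact Ideal.subset_span ⟨i, rfl⟩
  have hrel : ∀ s, algebraMap R (Localization.Away g) (rel s) ∈ Ideal.span (Set.range e) := by
    intro s
    rw [← hI]
    exact Ideal.mem_map_of_mem _ (Ideal.subset_span ⟨s, rfl⟩)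
  obtain ⟨t, ε, hεI, hε⟩ := exists_common_num g _ e he
  obtain ⟨n, A, hA⟩ := exists_A g rel e t ε hε hrel
  choose Bm hBm using fun i => Finsupp.mem_span_range_iff_exists_finsupp.mp (hεI i)
  exact ⟨{ n := n
           ε := ε
           A := A
           Bm := Bm
           hB := fun i => by rw [jj, Finsupp.linearCombination_apply]; exact hBm i
           hA := hA
           hreg := fun c hc => exists_pow_smul_mem_trivSeq g e hreg t ε hε c hc }⟩

end Loc

end Groth.Agent.LibT2LCI29
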