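import Mathlib
import Groth.Agent.LibCotT29f

/-!
# Relations among the elements `s • Y_s - 1` of a polynomial ring are Koszul (seat helper29)
-/

set_option autoImplicit false
universe u v

namespace Groth.Agent.LibT2Loc29

open Groth.Agent.LibCotT29

section Poly

lemma mem_map_C_of_mul_mem {D : Type*} [CommRing D] (J : Ideal D) (s : D) (x : Polynomial D)
    (h : x * (Polynomial.C s * Polynomial.X - 1) ∈ J.map (Polynomial.C : D →+* Polynomial D)) :
    x ∈ J.map (Polynomial.C : D →+* Polynomial D) := by
  rw [Ideal.mem_map_C_iff] at h ⊢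
  have e : x * (Polynomial.C s * Polynomial.X - 1) = x * Polynomial.C s * Polynomial.X - x := by ring
  rw [e] at h
  intro n
  induction n with
  | zero =>
    have h0 := h 0
    rw [Polynomial.coeff_sub, Polynomial.coeff_mul_X_zero, zero_sub] at h0
    exact (Ideal.neg_mem_iff J).mp h0
  | succ n ih =>
    have h1 := h (n + 1)
    rw [Polynomial.coeff_sub, Polynomial.coeff_mul_X, Polynomial.coeff_mul_C] at h1
    have h2 : x.coeff (n + 1) = x.coeff n * s - (x.coeff n * s - x.coeff (n + 1)) := by ring
    rw [h2]
    exact J.sub_mem (J.mul_mem_right _ ih) h1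

end Poly

section MvPoly

open MvPolynomial

variable {σ : Type u} {A : Type v} [CommRing A]

/-- `a • X_{s₀} - 1` is a non-zero-divisor modulo any ideal generated by polynomials not involving `X_{s₀}`. -/
lemma mem_span_of_mul_mem (s₀ : σ) (a : A) (G : Set (MvPolynomial {y // y ≠ s₀} A)) (x : MvPolynomial σ A)
    (h : x * (C a * X s₀ - 1) ∈ Ideal.span (rename (Subtype.val : {y // y ≠ s₀} → σ) '' G)) :
    x ∈ Ideal.span (rename (Subtype.val : {y // y ≠ s₀} → σ) '' G) := by
  classical
  let Φ : MvPolynomial σ A ≃ₐ[A] Polynomial (MvPolynomial {y // y ≠ s₀} A) :=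
    (renameEquiv A (Equiv.optionSubtypeNe s₀).symm).trans (optionEquivLeft A {y // y ≠ s₀})
  have hΦX : Φ (X s₀) = Polynomial.X := by
    simp only [Φ, AlgEquiv.trans_apply, renameEquiv_apply, rename_X, Equiv.optionSubtypeNe_symm_self,
      optionEquivLeft_X_none]
  have hΦC : ∀ c : A, Φ (C c) = Polynomial.C (C c) := by
    intro c
    simp only [Φ, AlgEquiv.trans_apply, renameEquiv_apply, rename_C, optionEquivLeft_C]
  have hΦr : ∀ g : MvPolynomial {y // y ≠ s₀} A, Φ (rename Subtype.val g) = Polynomial.C g := by
    intro g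
    induction g using MvPolynomial.induction_on with
    | C c => rw [rename_C, hΦC]
    | add p q hp hq => rw [map_add, map_add, hp, hq, map_add]
    | mul_X p i hp =>
      rw [map_mul, map_mul, hp, map_mul, rename_X]
      congr 1
      simp only [Φ, AlgEquiv.trans_apply, renameEquiv_apply, rename_X,
        Equiv.optionSubtypeNe_symm_of_ne i.2, optionEquivLeft_X_some]
  have hmap : ∀ y : MvPolynomial σ A,
      y ∈ Ideal.span (rename (Subtype.val : {y // y ≠ s₀} → σ) '' G) ↔
        Φ y ∈ (Ideal.span G).map (Polynomial.C : _ →+* Polynomial (MvPolynomial {y // y ≠ s₀} A)) := by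
    intro y
    have h1 : (Ideal.span (rename (Subtype.val : {y // y ≠ s₀} → σ) '' G)).map
        (Φ : MvPolynomial σ A →+* Polynomial (MvPolynomial {y // y ≠ s₀} A)) =
        (Ideal.span G).map (Polynomial.C : _ →+* Polynomial (MvPolynomial {y // y ≠ s₀} A)) := by
      rw [Ideal.map_span, Ideal.map_span, Set.image_image]
      congr 1
      exact Set.image_congr fun g _ => hΦr g
    rw [← h1]
    constructor
    · intro hy
      exact Ideal.mem_map_of_mem _ hy
    · intro hy
      have := Ideal.mem_map_of_mem (Φ.symm : Polynomial (MvPolynomial {y // y ≠ s₀} A) →+* MvPolynomial σ A) hy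
      rw [Ideal.map_map] at this
      have h2 : ((Φ.symm : Polynomial (MvPolynomial {y // y ≠ s₀} A) →+* MvPolynomial σ A).comp
          (Φ : MvPolynomial σ A →+* Polynomial (MvPolynomial {y // y ≠ s₀} A))) = RingHom.id _ := by
        exact RingHom.ext fun z => by simp
      rw [h2, Ideal.map_id] at this
      simpa using this
  rw [hmap] at h ⊢
  rw [map_mul, map_sub, map_mul, hΦX, hΦC, map_one] at h
  exact mem_map_C_of_mul_mem _ (C a) _ h

end MvPoly

section Family

variable {R : Type u} [CommRing R] {σ : Type v} (f : σ → R)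

/-- A family all of whose finite subfamilies are regular sequences (in every order) has only Koszul relations. -/
theorem ker_le_triv_of_regular_family
    (hreg : ∀ (n : ℕ) (ι : Fin n ↪ σ) (k : Fin n) (x : R),
      x * f (ι k) ∈ Ideal.span ((f ∘ ι) '' {i | i < k}) → x ∈ Ideal.span ((f ∘ ι) '' {i | i < k})) :
    LinearMap.ker (Finsupp.linearCombination R f) ≤ triv (Finsupp.linearCombination R f) := by
  classical
  intro q hq
  let T := q.support
  let ι : Fin T.card ↪ σ := T.equivFin.symm.toEmbedding.trans (Function.Embedding.subtype _)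
  let c : Fin T.card →₀ R := q.comapDomain ι ι.injective.injOn
  have hc : Finsupp.mapDomain ι c = q := by
    apply Finsupp.mapDomain_comapDomain ι ι.injective
    intro s hs
    exact ⟨T.equivFin ⟨s, hs⟩, by simp [ι]⟩
  have hlc : ∀ a : Fin T.card →₀ R, Finsupp.linearCombination R f (Finsupp.mapDomain ι a) =
      Finsupp.linearCombination R (f ∘ ι) a := fun a => Finsupp.linearCombination_mapDomain R (v' := f) ι a
  have hker : c ∈ LinearMap.ker (Finsupp.linearCombination R (f ∘ ι)) := by
    rw [LinearMap.mem_ker, ← hlc, hc]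
    exact hq
  have h1 := ker_le_triv_of_regular (f ∘ ι) (fun k x hx => hreg _ ι k x hx) hker
  have h2 : triv (Finsupp.linearCombination R (f ∘ ι)) ≤
      (triv (Finsupp.linearCombination R f)).comap (Finsupp.lmapDomain R R ι) := by
    refine Submodule.span_le.mpr ?_
    rintro _ ⟨a, b, rfl⟩
    rw [SetLike.mem_coe, Submodule.mem_comap, map_sub, map_smul, map_smul]
    refine Submodule.subset_span ⟨Finsupp.lmapDomain R R ι a, Finsupp.lmapDomain R R ι b, ?_⟩
    rw [Finsupp.lmapDomain_apply, Finsupp.lmapDomain_apply, hlc, hlc]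
  have h3 := h2 h1
  rw [Submodule.mem_comap, Finsupp.lmapDomain_apply, hc] at h3
  exact h3

end Family

end Groth.Agent.LibT2Loc29
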