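import Groth.Agent.LibT2Loc29a
import Groth.Agent.LibCotT29d

/-!
# `T²(S⁻¹A/A, M) = 0` (seat helper29)
-/

set_option autoImplicit false
universe u v w t m

open TensorProduct CotT

namespace Groth.Agent.LibT2Loc29

open Groth.Agent.LibCotT29

section General

variable {A : Type u} {B : Type v} {ι : Type w} {σ : Type t}
variable [CommRing A] [CommRing B] [Algebra A B]
variable (P : Algebra.Presentation A B ι σ)

/-- if all relations are Koszul, `L₂ = 0` and hence `T² = 0`. -/
theorem subsingleton_T2_of_relKer_le (hker : relKer P ≤ trivRel P) (M : Type m) [AddCommGroup M] [Module B M] :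
    Subsingleton (T2 P M) := by
  have hL2 : Subsingleton (L2 P) := by
    refine ⟨fun a b => ?_⟩
    have h0 : ∀ z : L2 P, z = 0 := by
      intro z
      induction z using Submodule.Quotient.induction_on with
      | H z =>
        induction z using TensorProduct.induction_on with
        | zero => rfl
        | add x y hx hy => rw [Submodule.Quotient.mk_add, hx, hy, add_zero]
        | tmul b q =>
          rw [Submodule.Quotient.mk_eq_zero]
          exact ⟨b ⊗ₜ ⟨q, hker q.2⟩, rfl⟩
    rw [h0 a, h0 b]
  have : Subsingleton (L2 P →ₗ[B] M) := ⟨fun f g => LinearMap.ext fun x => by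
    rw [Subsingleton.elim x 0, map_zero, map_zero]⟩
  exact inferInstance

end General

section Loc

open MvPolynomial

variable (A B : Type u) [CommRing A] [CommRing B] [Algebra A B] (S : Submonoid A) [IsLocalization S B]

/-- the relation `s • Y_s - 1` -/
noncomputable def locRel (s : S) : MvPolynomial S A := C (s : A) * X s - 1

/-- the generator `1/s` -/
noncomputable def locVal (s : S) : B := IsLocalization.mk' B (1 : A) s

lemma aeval_locRel (s : S) : aeval (locVal A B S) (locRel A S s) = 0 := by
  rw [locRel, map_sub, map_mul, aeval_C, aeval_X, map_one, locVal, IsLocalization.mk'_spec', map_one, sub_self]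

lemma aeval_locVal_surjective : Function.Surjective (aeval (R := A) (locVal A B S)) := by
  intro b
  obtain ⟨a, s, rfl⟩ := IsLocalization.exists_mk'_eq S b
  refine ⟨C a * X s, ?_⟩
  rw [map_mul, aeval_C, aeval_X, locVal, ← IsLocalization.mk'_eq_mul_mk'_one]

lemma ker_aeval_locVal_le :
    RingHom.ker (aeval (R := A) (locVal A B S)) ≤ Ideal.span (Set.range (locRel A S)) := by
  set I₀ := Ideal.span (Set.range (locRel A S)) with hI₀
  let g : A →+* (MvPolynomial S A ⧸ I₀) := (Ideal.Quotient.mk I₀).comp C
  have hone : ∀ s : S, g s * Ideal.Quotient.mk I₀ (X s) = 1 := by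
    intro s
    have h1 : locRel A S s ∈ I₀ := Ideal.subset_span ⟨s, rfl⟩
    have h2 : Ideal.Quotient.mk I₀ (C (s : A) * X s) = Ideal.Quotient.mk I₀ 1 := by
      rw [Ideal.Quotient.eq]
      exact h1
    rw [map_mul, map_one] at h2
    exact h2
  have hg : ∀ s : S, IsUnit (g s) := fun s => IsUnit.of_mul_eq_one _ (hone s)
  let ψ : B →+* (MvPolynomial S A ⧸ I₀) := IsLocalization.lift hg
  have hψ : ∀ x : MvPolynomial S A, ψ (aeval (locVal A B S) x) = Ideal.Quotient.mk I₀ x := by
    intro x
    induction x using MvPolynomial.induction_on with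
    | C a =>
      rw [aeval_C]
      exact IsLocalization.lift_eq hg a
    | add p q hp hq => rw [map_add, map_add, hp, hq, map_add]
    | mul_X p s hp =>
      rw [map_mul, map_mul, hp, map_mul, aeval_X]
      congr 1
      rw [locVal, IsLocalization.lift_mk'_spec, map_one]
      exact (hone s).symm
  intro x hx
  rw [RingHom.mem_ker] at hx
  have := hψ x
  rw [hx, map_zero] at this
  exact Ideal.Quotient.eq_zero_iff_mem.mp this.symm

/-- the standard presentation of a localization: a variable `Y_s` for each `s ∈ S`, relations `s • Y_s - 1`. -/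
noncomputable def locPres : Algebra.Presentation A B S S where
  __ := Algebra.Generators.ofSurjective (locVal A B S) (aeval_locVal_surjective A B S)
  relation := locRel A S
  span_range_relation_eq_ker := by
    apply le_antisymm
    · rw [Ideal.span_le]
      rintro _ ⟨s, rfl⟩
      rw [SetLike.mem_coe, Algebra.Generators.ker_eq_ker_aeval_val, RingHom.mem_ker]
      exact aeval_locRel A B S s
    · intro x hx
      rw [Algebra.Generators.ker_eq_ker_aeval_val] at hx
      exact ker_aeval_locVal_le A B S hx

lemma locRel_regular (n : ℕ) (ι : Fin n ↪ S) (k : Fin n) (x : MvPolynomial S A)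
    (hx : x * locRel A S (ι k) ∈ Ideal.span ((locRel A S ∘ ι) '' {i | i < k})) :
    x ∈ Ideal.span ((locRel A S ∘ ι) '' {i | i < k}) := by
  have hne : ∀ i : {i : Fin n // i < k}, ι i ≠ ι k := fun i h => (ne_of_lt i.2) (ι.injective h)
  let G : Set (MvPolynomial {y // y ≠ ι k} A) :=
    Set.range fun i : {i : Fin n // i < k} => C ((ι i : S) : A) * X ⟨ι i, hne i⟩ - 1
  have hG : rename (Subtype.val : {y // y ≠ ι k} → S) '' G = (locRel A S ∘ ι) '' {i | i < k} := by
    ext y
    constructor
    · rintro ⟨_, ⟨i, rfl⟩, rfl⟩
      refine ⟨i.1, i.2, ?_⟩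
      simp [locRel]
    · rintro ⟨i, hi, rfl⟩
      refine ⟨_, ⟨⟨i, hi⟩, rfl⟩, ?_⟩
      simp [locRel]
  rw [← hG] at hx ⊢
  exact mem_span_of_mul_mem (ι k) ((ι k : S) : A) G x hx

theorem relKer_locPres_le : relKer (locPres A B S) ≤ trivRel (locPres A B S) :=
  ker_le_triv_of_regular_family (f := rel (locPres A B S)) (fun n ι k x hx => locRel_regular A S n ι k x hx)

include S in
/-- `T²(S⁻¹A/A, M) = 0`. -/
theorem subsingleton_T2_of_isLocalization (M : Type u) [AddCommGroup M] [Module B M] :
    Subsingleton (CotT.T2 (CotT.canon A B) M) := by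
  have h1 := subsingleton_T2_of_relKer_le (locPres A B S) (relKer_locPres_le A B S) M
  obtain ⟨e2⟩ := nonempty_T2_equiv (CotT.canon A B) (locPres A B S) M
  exact e2.toEquiv.subsingleton

end Loc

end Groth.Agent.LibT2Loc29
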