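import Groth.Agent.LibT2Loc29b
import Groth.Agent.LibNine29g

/-!
# Transitivity consequences for `T²` (seat helper29)
-/

set_option autoImplicit false
universe u m

open TensorProduct CotT

namespace Groth.Agent.LibT2Loc29

variable (A B C : Type u) [CommRing A] [CommRing B] [CommRing C] [Algebra A B] [Algebra B C] [Algebra A C]
  [IsScalarTower A B C]
variable (M : Type m) [AddCommGroup M] [Module C M] [Module B M] [IsScalarTower B C M]

/-- `T²(C/B, M) = 0` and `T²(B/A, M) = 0` imply `T²(C/A, M) = 0`. -/
theorem subsingleton_T2_trans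
    (h1 : Subsingleton (CotT.T2 (CotT.canon B C) M)) (h2 : Subsingleton (CotT.T2 (CotT.canon A B) M)) :
    Subsingleton (CotT.T2 (CotT.canon A C) M) := by
  obtain ⟨-, -, -, hex2, -⟩ := Groth.Agent.LibNine29.nine_term_canon A B C M
  refine ⟨fun x y => ?_⟩
  have h0 : ∀ z : CotT.T2 (CotT.canon A C) M, z = 0 := by
    intro z
    obtain ⟨w, rfl⟩ := (hex2 z).mp (Subsingleton.elim _ _)
    rw [Subsingleton.elim w 0, map_zero]
  rw [h0 x, h0 y]

/-- `T²` of a localization of `B` over `A` vanishes as soon as `T²(B/A, -)` does. -/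
theorem subsingleton_T2_of_isLocalization_of_subsingleton {M : Type u} [AddCommGroup M] [Module C M] [Module B M]
    [IsScalarTower B C M] (S : Submonoid B) [IsLocalization S C]
    (h2 : Subsingleton (CotT.T2 (CotT.canon A B) M)) :
    Subsingleton (CotT.T2 (CotT.canon A C) M) :=
  subsingleton_T2_trans A B C M (subsingleton_T2_of_isLocalization B C S M) h2

end Groth.Agent.LibT2Loc29
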