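import Mathlib
import Groth.Agent.Lib.Helper15.NilFlat

/-!
# Lifting generators and relations modulo a nilpotent ideal (seat helper29)

* `flat_ker`: the kernel of a surjection of flat modules is flat.
* `surjective_of_nilpotent`: nilpotent Nakayama for linear maps.
* `exists_mem_smul_top_of_surjective`: for `f` surjective, `I P = f (I N)`.
* `mem_smul_top_ker`: for `f : N → P` surjective with `P` flat, `ker f ∩ I N = I (ker f)`, in the subtype form.
-/

set_option autoImplicit false
universe u

namespace Groth.Agent.LibT2Obs29

open TensorProduct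

section General

variable {A : Type*} [CommRing A]

/-- the kernel of a surjection of flat modules is flat -/
theorem flat_ker {N P : Type u} [AddCommGroup N] [Module A N] [AddCommGroup P] [Module A P]
    [Small.{u} A] [Module.Flat A N] [Module.Flat A P] (f : N →ₗ[A] P) (hf : Function.Surjective f) :
    Module.Flat A (LinearMap.ker f) := by
  rw [Module.Flat.iff_lTensor_preserves_injective_linearMap']
  intro Q Q' _ _ _ _ g hg
  -- `K ⊗ Q → K ⊗ Q'` injective
  have h1 : Function.Injective ((LinearMap.ker f).subtype.rTensor Q) := by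
    rw [← LinearMap.lTensor_inj_iff_rTensor_inj]
    exact LinearMap.lTensor_injective_of_exact_of_flat f hf (LinearMap.ker f).subtype
      (LinearMap.ker f).injective_subtype (LinearMap.exact_subtype_ker_map f) Q
  have h2 : Function.Injective (g.lTensor N) := Module.Flat.lTensor_preserves_injective_linearMap g hg
  have h3 : (g.lTensor N) ∘ₗ ((LinearMap.ker f).subtype.rTensor Q) =
      ((LinearMap.ker f).subtype.rTensor Q') ∘ₗ (g.lTensor (LinearMap.ker f)) := by
    ext x q
    simp
  have h4 : Function.Injective (((LinearMap.ker f).subtype.rTensor Q') ∘ₗ (g.lTensor (LinearMap.ker f))) := by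
    rw [← h3]
    exact h2.comp h1
  exact Function.Injective.of_comp h4

/-- nilpotent Nakayama for linear maps -/
theorem surjective_of_nilpotent (I : Ideal A) (n : ℕ) (hn : I ^ n = ⊥)
    {N P : Type*} [AddCommGroup N] [Module A N] [AddCommGroup P] [Module A P] (f : N →ₗ[A] P)
    (hstep : (⊤ : Submodule A P) ≤ LinearMap.range f ⊔ I • ⊤) : Function.Surjective f := by
  have hind : ∀ j : ℕ, (⊤ : Submodule A P) ≤ LinearMap.range f ⊔ I ^ j • ⊤ := by
    intro j
    induction j with
    | zero => simp
    | succ j ih =>
      refine ih.trans (sup_le le_sup_left ?_)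
      calc I ^ j • (⊤ : Submodule A P) ≤ I ^ j • (LinearMap.range f ⊔ I • ⊤) :=
            Submodule.smul_mono le_rfl hstep
        _ = I ^ j • LinearMap.range f ⊔ I ^ j • (I • ⊤) := Submodule.smul_sup _ _ _
        _ ≤ LinearMap.range f ⊔ I ^ (j + 1) • ⊤ := by
            refine sup_le_sup Submodule.smul_le_right ?_
            rw [← Submodule.mul_smul, ← pow_succ]
  have h := hind n
  rw [hn, Submodule.bot_smul, sup_bot_eq] at h
  exact LinearMap.range_eq_top.mp (top_le_iff.mp h)

/-- for `f` surjective, `I P = f (I N)` -/
theorem exists_mem_smul_top_of_surjective (I : Ideal A)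
    {N P : Type*} [AddCommGroup N] [Module A N] [AddCommGroup P] [Module A P] (f : N →ₗ[A] P)
    (hf : Function.Surjective f) (z : P) (hz : z ∈ I • (⊤ : Submodule A P)) :
    ∃ y ∈ I • (⊤ : Submodule A N), f y = z := by
  have h1 : Submodule.map f (I • (⊤ : Submodule A N)) = I • (⊤ : Submodule A P) := by
    rw [Submodule.map_smul'', Submodule.map_top, LinearMap.range_eq_top.mpr hf]
  rw [← h1] at hz
  exact hz

/-- `ker f ∩ I N = I (ker f)` for `f` surjective onto a flat module, in the subtype form -/
theorem mem_smul_top_ker (I : Ideal A)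
    {N P : Type*} [AddCommGroup N] [Module A N] [AddCommGroup P] [Module A P] [Module.Flat A P]
    (f : N →ₗ[A] P) (hf : Function.Surjective f) (x : LinearMap.ker f)
    (hx : (x : N) ∈ I • (⊤ : Submodule A N)) : x ∈ I • (⊤ : Submodule A (LinearMap.ker f)) := by
  have h1 := Groth.Agent.Lib.helper15.NilFlat.mem_smul_ker_of_flat I f hf (x : N) x.2 hx
  have h2 : Submodule.map (LinearMap.ker f).subtype (I • (⊤ : Submodule A (LinearMap.ker f))) =
      I • LinearMap.ker f := by
    rw [Submodule.map_smul'', Submodule.map_subtype_top]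
  rw [← h2] at h1
  obtain ⟨y, hy, hyx⟩ := h1
  have : y = x := Subtype.ext hyx
  rw [← this]
  exact hy

end General

end Groth.Agent.LibT2Obs29
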