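import Groth.Agent.LibT2Obs29a
import Groth.Prelude.Def_CotT

/-!
# Lifting a presentation of the closed fibre of a flat algebra over a ring with nilpotent augmentation ideal
(seat helper29)

`A → k` surjective with nilpotent kernel `𝔪`, `B` a flat `A`-algebra, `B → B₀` surjective with kernel `𝔪 B`,
`P` a presentation of `B₀` over `k`.  Then generators and relations of `P` lift to `B` over `A`, and the relations
among the lifted relations reduce onto the relations of `P`, with kernel `𝔪 ·` relations.
-/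

set_option autoImplicit false
universe u

namespace Groth.Agent.LibT2Obs29

open MvPolynomial

section Lift

variable {k A B B₀ : Type u} [Field k] [CommRing A] [CommRing B] [CommRing B₀]
  [Algebra A k] [Algebra A B] [Algebra k B₀] [Algebra B B₀] [Algebra A B₀]
  [IsScalarTower A B B₀] [IsScalarTower A k B₀]
  {ι σ : Type u}

variable (k A ι) in
/-- coefficientwise reduction `A[X] → k[X]` -/
noncomputable def ρA : MvPolynomial ι A →+* MvPolynomial ι k := MvPolynomial.map (algebraMap A k)

lemma ρA_surjective (hres : Function.Surjective (algebraMap A k)) : Function.Surjective (ρA k A ι) :=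
  MvPolynomial.map_surjective _ hres

lemma ker_ρA : RingHom.ker (ρA k A ι) = Ideal.map C (RingHom.ker (algebraMap A k)) :=
  MvPolynomial.ker_map _

/-- `𝔪 A[X]` as an `A`-submodule -/
lemma mem_smul_top_iff (I : Ideal A) (x : MvPolynomial ι A) :
    x ∈ I • (⊤ : Submodule A (MvPolynomial ι A)) ↔ x ∈ Ideal.map C I := by
  constructor
  · intro hx
    refine Submodule.smul_induction_on hx ?_ ?_
    · intro a ha y _
      rw [Algebra.smul_def, MvPolynomial.algebraMap_eq]
      exact Ideal.mul_mem_right _ _ (Ideal.mem_map_of_mem _ ha)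
    · intro y z hy hz
      exact Ideal.add_mem _ hy hz
  · intro hx
    rw [MvPolynomial.mem_map_C_iff] at hx
    rw [MvPolynomial.as_sum x]
    refine Submodule.sum_mem _ fun α _ => ?_
    have : monomial α (coeff α x) = coeff α x • monomial α (1 : A) := by
      rw [MvPolynomial.smul_monomial, smul_eq_mul, mul_one]
    rw [this]
    exact Submodule.smul_mem_smul (hx α) Submodule.mem_top

variable (P : Algebra.Presentation k B₀ ι σ) (b : ι → B)

/-- compatibility of the two evaluations -/
lemma algebraMap_aeval (hb : ∀ i, algebraMap B B₀ (b i) = P.val i) (x : MvPolynomial ι A) :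
    algebraMap B B₀ (aeval b x) = aeval P.val (ρA k A ι x) := by
  induction x using MvPolynomial.induction_on with
  | C a =>
    rw [aeval_C, ρA, map_C, aeval_C, ← IsScalarTower.algebraMap_apply A B B₀,
      IsScalarTower.algebraMap_apply A k B₀]
  | add p q hp hq => rw [map_add, map_add, hp, hq, map_add, map_add]
  | mul_X p i hp => rw [map_mul, map_mul, hp, aeval_X, hb, map_mul, map_mul, ρA, map_X, aeval_X]

variable (hb : ∀ i, algebraMap B B₀ (b i) = P.val i)
  (hres : Function.Surjective (algebraMap A k))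
  (hkerπ : RingHom.ker (algebraMap B B₀) ≤ Ideal.map (algebraMap A B) (RingHom.ker (algebraMap A k)))
  (n : ℕ) (hn : (RingHom.ker (algebraMap A k)) ^ n = ⊥)

include hkerπ in
lemma mem_smul_top_of_algebraMap_eq_zero (y : B) (hy : algebraMap B B₀ y = 0) :
    y ∈ (RingHom.ker (algebraMap A k)) • (⊤ : Submodule A B) := by
  rw [Ideal.smul_top_eq_map]
  exact hkerπ ((RingHom.mem_ker).mpr hy)

include hb hres hkerπ hn in
/-- the lifted generators generate -/
theorem aeval_surjective : Function.Surjective (aeval b : MvPolynomial ι A →ₐ[A] B) := by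
  refine surjective_of_nilpotent (RingHom.ker (algebraMap A k)) n hn (aeval b : MvPolynomial ι A →ₐ[A] B).toLinearMap ?_
  intro y _
  obtain ⟨g, hg⟩ := ρA_surjective (ι := ι) hres (P.σ (algebraMap B B₀ y))
  have h1 : algebraMap B B₀ (y - aeval b g) = 0 := by
    rw [map_sub, algebraMap_aeval P b hb, hg, P.aeval_val_σ, sub_self]
  have h2 : y = (aeval b : MvPolynomial ι A →ₐ[A] B).toLinearMap g + (y - aeval b g) := by
    rw [AlgHom.toLinearMap_apply]
    abel
  rw [h2]
  exact Submodule.add_mem_sup (LinearMap.mem_range_self _ g)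
    (mem_smul_top_of_algebraMap_eq_zero hkerπ _ h1)

include hb hres hkerπ hn in
/-- elements of the kernel of `k[X] → B₀` lift to the kernel of `A[X] → B` -/
theorem exists_lift_ker (g : MvPolynomial ι k) (hg : aeval P.val g = 0) :
    ∃ G : MvPolynomial ι A, ρA k A ι G = g ∧ aeval b G = 0 := by
  obtain ⟨g', hg'⟩ := ρA_surjective (ι := ι) hres g
  have h1 : algebraMap B B₀ (aeval b g') = 0 := by
    rw [algebraMap_aeval P b hb, hg', hg]
  obtain ⟨y, hy, hyg⟩ := exists_mem_smul_top_of_surjective (RingHom.ker (algebraMap A k))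
    (aeval b : MvPolynomial ι A →ₐ[A] B).toLinearMap (aeval_surjective P b hb hres hkerπ n hn) _
    (mem_smul_top_of_algebraMap_eq_zero hkerπ _ h1)
  refine ⟨g' - y, ?_, ?_⟩
  · have h2 : ρA k A ι y = 0 := by
      rw [← RingHom.mem_ker, ker_ρA, ← mem_smul_top_iff]
      exact hy
    rw [map_sub, hg', h2, sub_zero]
  · rw [map_sub, sub_eq_zero]
    exact hyg.symm

end Lift

section Relations

variable {k A B B₀ : Type u} [Field k] [CommRing A] [CommRing B] [CommRing B₀]
  [Algebra A k] [Algebra A B] [Algebra k B₀] [Algebra B B₀] [Algebra A B₀]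
  [IsScalarTower A B B₀] [IsScalarTower A k B₀]
  {ι σ : Type u}
  (P : Algebra.Presentation k B₀ ι σ) (b : ι → B) (F : σ → MvPolynomial ι A)

/-- `e_s ↦ F_s` -/
noncomputable def ΨA : (σ →₀ MvPolynomial ι A) →ₗ[MvPolynomial ι A] MvPolynomial ι A :=
  Finsupp.linearCombination (MvPolynomial ι A) F

lemma ΨA_single (s : σ) (r : MvPolynomial ι A) : ΨA F (Finsupp.single s r) = r * F s := by
  rw [ΨA, Finsupp.linearCombination_single, smul_eq_mul]

variable (k A ι σ) in
/-- componentwise reduction -/
noncomputable def ρσ : (σ →₀ MvPolynomial ι A) →+ (σ →₀ MvPolynomial ι k) :=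
  Finsupp.mapRange.addMonoidHom (ρA k A ι).toAddMonoidHom

lemma ρσ_apply (r : σ →₀ MvPolynomial ι A) (s : σ) : ρσ k A ι σ r s = ρA k A ι (r s) := rfl

lemma ρσ_single (s : σ) (r : MvPolynomial ι A) :
    ρσ k A ι σ (Finsupp.single s r) = Finsupp.single s (ρA k A ι r) := by
  rw [ρσ, Finsupp.mapRange.addMonoidHom_apply, Finsupp.mapRange_single]
  rfl

lemma ρσ_smul (x : MvPolynomial ι A) (r : σ →₀ MvPolynomial ι A) :
    ρσ k A ι σ (x • r) = ρA k A ι x • ρσ k A ι σ r := by
  ext s : 1
  rw [ρσ_apply, Finsupp.smul_apply, Finsupp.smul_apply, ρσ_apply, smul_eq_mul, smul_eq_mul, map_mul]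

lemma ρσ_surjective (hres : Function.Surjective (algebraMap A k)) :
    Function.Surjective (ρσ k A ι σ) := by
  classical
  intro q
  induction q using Finsupp.induction_linear with
  | zero => exact ⟨0, map_zero _⟩
  | add q q' hq hq' =>
    obtain ⟨r, rfl⟩ := hq
    obtain ⟨r', rfl⟩ := hq'
    exact ⟨r + r', map_add _ _ _⟩
  | single s c =>
    obtain ⟨c', rfl⟩ := ρA_surjective (ι := ι) hres c
    exact ⟨Finsupp.single s c', ρσ_single s c'⟩

/-- `ρA` with values in the ring of the presentation -/
noncomputable def ρP : MvPolynomial ι A →+* P.toExtension.Ring := ρA k A ι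

/-- `ρσ` with values in the relation module of the presentation -/
noncomputable def ρσP : (σ →₀ MvPolynomial ι A) →+ CotT.relMod P := ρσ k A ι σ

lemma ρσP_apply (r : σ →₀ MvPolynomial ι A) (s : σ) : ρσP P r s = ρP P (r s) := rfl

lemma ρσP_single (s : σ) (r : MvPolynomial ι A) :
    ρσP P (Finsupp.single s r) = Finsupp.single s (ρP P r) := ρσ_single s r

lemma ρσP_smul (x : MvPolynomial ι A) (r : σ →₀ MvPolynomial ι A) :
    ρσP P (x • r) = ρP P x • ρσP P r := ρσ_smul x r

lemma ρσP_surjective (hres : Function.Surjective (algebraMap A k)) : Function.Surjective (ρσP (A := A) P) :=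
  ρσ_surjective hres

lemma ρP_surjective (hres : Function.Surjective (algebraMap A k)) : Function.Surjective (ρP (A := A) P) :=
  ρA_surjective hres

variable (hFρ : ∀ s, ρP P (F s) = P.relation s)

include hFρ in
lemma jmap_ρσP (r : σ →₀ MvPolynomial ι A) : CotT.jmap P (ρσP P r) = ρP P (ΨA F r) := by
  classical
  induction r using Finsupp.induction_linear with
  | zero => rw [map_zero, map_zero, map_zero, map_zero]
  | add r r' hr hr' => rw [map_add, map_add, hr, hr', map_add, map_add]
  | single s c =>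
    rw [ρσP_single, CotT.jmap_single, ΨA_single, map_mul, hFρ]

variable (hFev : ∀ s, aeval b (F s) = 0)

include hFev in
lemma aeval_ΨA (r : σ →₀ MvPolynomial ι A) : aeval b (ΨA F r) = 0 := by
  classical
  induction r using Finsupp.induction_linear with
  | zero => rw [map_zero, map_zero]
  | add r r' hr hr' => rw [map_add, map_add, hr, hr', add_zero]
  | single s c => rw [ΨA_single, map_mul, hFev, mul_zero]

/-- the `A`-linear map `(σ →₀ A[X]) → ker (A[X] → B)` -/
noncomputable def ΨK :
    (σ →₀ MvPolynomial ι A) →ₗ[A] LinearMap.ker (aeval b : MvPolynomial ι A →ₐ[A] B).toLinearMap :=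
  LinearMap.codRestrict _ ((ΨA F).restrictScalars A) (fun r => aeval_ΨA b F hFev r)

lemma coe_ΨK (r : σ →₀ MvPolynomial ι A) : (ΨK b F hFev r : MvPolynomial ι A) = ΨA F r := rfl

lemma ρP_eq_zero_of_mem_smul_top (x : MvPolynomial ι A)
    (hx : x ∈ (RingHom.ker (algebraMap A k)) • (⊤ : Submodule A (MvPolynomial ι A))) : ρP P x = 0 := by
  change ρA k A ι x = 0
  rw [← RingHom.mem_ker, ker_ρA, ← mem_smul_top_iff]
  exact hx

lemma mem_smul_top_of_ρP_eq_zero (x : MvPolynomial ι A) (hx : ρP P x = 0) :
    x ∈ (RingHom.ker (algebraMap A k)) • (⊤ : Submodule A (MvPolynomial ι A)) := by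
  rw [mem_smul_top_iff, ← ker_ρA, RingHom.mem_ker]
  exact hx

lemma ρσP_eq_zero_of_mem_smul_top (y : σ →₀ MvPolynomial ι A)
    (hy : y ∈ (RingHom.ker (algebraMap A k)) • (⊤ : Submodule A (σ →₀ MvPolynomial ι A))) :
    ρσP P y = 0 := by
  refine Submodule.smul_induction_on hy ?_ ?_
  · intro a ha z _
    ext s : 1
    rw [ρσP_apply, Finsupp.smul_apply, Finsupp.zero_apply]
    apply ρP_eq_zero_of_mem_smul_top
    exact Submodule.smul_mem_smul ha Submodule.mem_top
  · intro y z hy hz
    rw [map_add, hy, hz, add_zero]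

lemma mem_smul_top_of_ρσP_eq_zero (y : σ →₀ MvPolynomial ι A) (hy : ρσP P y = 0) :
    y ∈ (RingHom.ker (algebraMap A k)) • (⊤ : Submodule A (σ →₀ MvPolynomial ι A)) := by
  classical
  have h1 : ∀ s, y s ∈ (RingHom.ker (algebraMap A k)) • (⊤ : Submodule A (MvPolynomial ι A)) := by
    intro s
    apply mem_smul_top_of_ρP_eq_zero P
    rw [← ρσP_apply, hy, Finsupp.zero_apply]
  have h2 : ∀ s, Finsupp.single s (y s) ∈
      (RingHom.ker (algebraMap A k)) • (⊤ : Submodule A (σ →₀ MvPolynomial ι A)) := by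
    intro s
    have h3 : Submodule.map (Finsupp.lsingle (R := A) s : MvPolynomial ι A →ₗ[A] σ →₀ MvPolynomial ι A)
        ((RingHom.ker (algebraMap A k)) • (⊤ : Submodule A (MvPolynomial ι A))) ≤
        (RingHom.ker (algebraMap A k)) • (⊤ : Submodule A (σ →₀ MvPolynomial ι A)) := by
      rw [Submodule.map_smul'']
      exact Submodule.smul_mono le_rfl le_top
    exact h3 ⟨y s, h1 s, rfl⟩
  rw [← Finsupp.sum_single y]
  exact Submodule.sum_mem _ fun s _ => h2 s

variable [Module.Flat A B]
  (hb : ∀ i, algebraMap B B₀ (b i) = P.val i)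
  (hres : Function.Surjective (algebraMap A k))
  (hkerπ : RingHom.ker (algebraMap B B₀) ≤ Ideal.map (algebraMap A B) (RingHom.ker (algebraMap A k)))
  (n : ℕ) (hn : (RingHom.ker (algebraMap A k)) ^ n = ⊥)

include hb hres hkerπ hn hFρ in
/-- the lifted relations generate the kernel -/
theorem ΨK_surjective : Function.Surjective (ΨK b F hFev) := by
  have hsurj := aeval_surjective P b hb hres hkerπ n hn
  refine surjective_of_nilpotent (RingHom.ker (algebraMap A k)) n hn (ΨK b F hFev) ?_
  intro x _
  have hx : aeval b (x : MvPolynomial ι A) = 0 := x.2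
  have h1 : ρA k A ι (x : MvPolynomial ι A) ∈ P.ker := by
    rw [P.ker_eq_ker_aeval_val, RingHom.mem_ker]
    have := algebraMap_aeval P b hb (x : MvPolynomial ι A)
    rw [hx, map_zero] at this
    exact this.symm
  rw [← P.span_range_relation_eq_ker, Finsupp.mem_ideal_span_range_iff_exists_finsupp] at h1
  obtain ⟨q, hq⟩ := h1
  obtain ⟨r, hr⟩ := ρσ_surjective (A := A) hres q
  have h2 : ρP P (ΨA F r) = ρP P (x : MvPolynomial ι A) := by
    rw [← jmap_ρσP P F hFρ]
    have hr' : ρσP P r = q := hr
    rw [hr']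
    exact hq
  have h3 : ρP P ((x - ΨK b F hFev r : LinearMap.ker (aeval b : MvPolynomial ι A →ₐ[A] B).toLinearMap) :
      MvPolynomial ι A) = 0 := by
    rw [Submodule.coe_sub, coe_ΨK, map_sub, h2, sub_self]
  have h4 := mem_smul_top_ker (RingHom.ker (algebraMap A k))
    (aeval b : MvPolynomial ι A →ₐ[A] B).toLinearMap hsurj (x - ΨK b F hFev r)
    (mem_smul_top_of_ρP_eq_zero P _ h3)
  have h5 : x = ΨK b F hFev r + (x - ΨK b F hFev r) := by abel
  rw [h5]
  exact Submodule.add_mem_sup (LinearMap.mem_range_self _ r) h4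

include hb hres hkerπ hn hFρ hFev in
/-- relations among the relations of `P` lift to relations among the `F s` -/
theorem exists_lift_rel (q : CotT.relMod P) (hq : CotT.jmap P q = 0) :
    ∃ r : σ →₀ MvPolynomial ι A, ρσP P r = q ∧ ΨA F r = 0 := by
  have hsurj := aeval_surjective P b hb hres hkerπ n hn
  obtain ⟨q', hq'⟩ := ρσP_surjective (A := A) P hres q
  have h1 : ρP P ((ΨK b F hFev q' : LinearMap.ker (aeval b : MvPolynomial ι A →ₐ[A] B).toLinearMap) :
      MvPolynomial ι A) = 0 := by
    rw [coe_ΨK, ← jmap_ρσP P F hFρ, hq', hq]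
  have h2 := mem_smul_top_ker (RingHom.ker (algebraMap A k))
    (aeval b : MvPolynomial ι A →ₐ[A] B).toLinearMap hsurj (ΨK b F hFev q')
    (mem_smul_top_of_ρP_eq_zero P _ h1)
  obtain ⟨y, hy, hyq⟩ := exists_mem_smul_top_of_surjective (RingHom.ker (algebraMap A k))
    (ΨK b F hFev) (ΨK_surjective P b F hFρ hFev hb hres hkerπ n hn) _ h2
  refine ⟨q' - y, ?_, ?_⟩
  · rw [map_sub, hq', ρσP_eq_zero_of_mem_smul_top P y hy, sub_zero]
  · have h3 : ΨK b F hFev (q' - y) = 0 := by rw [map_sub, hyq, sub_self]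
    have h4 := congrArg (Subtype.val) h3
    rw [coe_ΨK] at h4
    exact h4

include hb hres hkerπ hn hFρ hFev in
/-- a relation among the `F s` which reduces to zero is in `𝔪 ·` relations -/
theorem mem_smul_ker_ΨA (r : σ →₀ MvPolynomial ι A) (hr : ΨA F r = 0) (hrρ : ρσP P r = 0) :
    r ∈ (RingHom.ker (algebraMap A k)) • LinearMap.ker ((ΨA F).restrictScalars A) := by
  have hsurj := aeval_surjective P b hb hres hkerπ n hn
  haveI : Module.Flat A (LinearMap.ker (aeval b : MvPolynomial ι A →ₐ[A] B).toLinearMap) :=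
    flat_ker _ hsurj
  have h1 : ΨK b F hFev r = 0 := Subtype.ext hr
  have h2 := Groth.Agent.Lib.helper15.NilFlat.mem_smul_ker_of_flat (RingHom.ker (algebraMap A k))
    (ΨK b F hFev) (ΨK_surjective P b F hFρ hFev hb hres hkerπ n hn) r h1
    (mem_smul_top_of_ρσP_eq_zero P r hrρ)
  have h3 : LinearMap.ker (ΨK b F hFev) = LinearMap.ker ((ΨA F).restrictScalars A) := by
    rw [ΨK, LinearMap.ker_codRestrict]
  rw [← h3]
  exact h2

end Relations

end Groth.Agent.LibT2Obs29
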