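import Mathlib
import Groth.Prelude.Def_CotT

/-!
# Concrete meaning of `T² = 0` for a presentation (seat helper29)

If `CotT.T2 P N` is a subsingleton, then every additive map `h` from the relation module `Q = relKer P` to `N` which
is semilinear along `R → B` and kills the trivial relations is of the form `q ↦ Σ_s q_s • m_s`.
-/

set_option autoImplicit false
universe u v w t m

namespace Groth.Agent.LibT2Obs29

open TensorProduct

section T2

variable {A : Type u} {B : Type v} {ι : Type w} {σ : Type t} [CommRing A] [CommRing B] [Algebra A B]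
  (P : Algebra.Presentation A B ι σ) {N : Type m} [AddCommGroup N] [Module B N]

theorem exists_of_subsingleton_T2 (hT2 : Subsingleton (CotT.T2 P N))
    (h : CotT.relKer P → N) (h_add : ∀ q q', h (q + q') = h q + h q')
    (h_smul : ∀ (x : P.toExtension.Ring) q, h (x • q) = algebraMap P.toExtension.Ring B x • h q)
    (h_triv : ∀ q ∈ CotT.trivRelKer P, h q = 0) :
    ∃ m : σ → N, ∀ q : CotT.relKer P,
      h q = (q : CotT.relMod P).sum fun s c => algebraMap P.toExtension.Ring B c • m s := by
  classical
  letI : Module P.toExtension.Ring N := Module.compHom N (algebraMap P.toExtension.Ring B)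
  haveI : IsScalarTower P.toExtension.Ring B N := IsScalarTower.of_algebraMap_smul (fun r m => rfl)
  let h' : CotT.relKer P →ₗ[P.toExtension.Ring] N :=
    { toFun := h
      map_add' := h_add
      map_smul' := fun x q => h_smul x q }
  let ht : B ⊗[P.toExtension.Ring] (CotT.relKer P) →ₗ[B] N := LinearMap.liftBaseChange B h'
  have hker : LinearMap.range ((CotT.trivRelKer P).subtype.baseChange B) ≤ LinearMap.ker ht := by
    rw [LinearMap.range_le_ker_iff]
    refine TensorProduct.AlgebraTensorModule.ext fun b q => ?_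
    simp only [LinearMap.coe_comp, Function.comp_apply, LinearMap.baseChange_tmul, Submodule.coe_subtype,
      LinearMap.zero_apply]
    change ht (b ⊗ₜ (q : CotT.relKer P)) = 0
    rw [LinearMap.liftBaseChange_tmul]
    change b • h (q : CotT.relKer P) = 0
    rw [h_triv _ q.2, smul_zero]
  let hh : CotT.L2 P →ₗ[B] N := Submodule.liftQ _ ht hker
  have h0 : (Submodule.Quotient.mk hh : CotT.T2 P N) = Submodule.Quotient.mk 0 := Subsingleton.elim _ _
  rw [Submodule.Quotient.mk_zero, Submodule.Quotient.mk_eq_zero] at h0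
  obtain ⟨ψ, hψ⟩ := h0
  rw [CotT.d2Star_apply] at hψ
  refine ⟨fun s => ψ ((1 : B) ⊗ₜ Finsupp.single s (1 : P.toExtension.Ring)), fun q => ?_⟩
  have h1 : h q = hh (Submodule.Quotient.mk ((1 : B) ⊗ₜ q)) := by
    change h q = Submodule.liftQ _ ht hker (Submodule.Quotient.mk ((1 : B) ⊗ₜ q))
    rw [Submodule.liftQ_apply, LinearMap.liftBaseChange_tmul, one_smul]
    rfl
  rw [h1, ← hψ, LinearMap.comp_apply, CotT.d2_mk_tmul]
  conv_lhs => rw [← Finsupp.sum_single (q : CotT.relMod P)]
  rw [Finsupp.sum, TensorProduct.tmul_sum, map_sum, Finsupp.sum]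
  refine Finset.sum_congr rfl fun s _ => ?_
  have h2 : Finsupp.single s ((q : CotT.relMod P) s) =
      ((q : CotT.relMod P) s) • Finsupp.single s (1 : P.toExtension.Ring) := by
    rw [Finsupp.smul_single, smul_eq_mul, mul_one]
  have h3 : (1 : B) ⊗ₜ[P.toExtension.Ring] (((q : CotT.relMod P) s) • Finsupp.single s (1 : P.toExtension.Ring)) =
      algebraMap P.toExtension.Ring B ((q : CotT.relMod P) s) •
        ((1 : B) ⊗ₜ[P.toExtension.Ring] Finsupp.single s (1 : P.toExtension.Ring)) := by
    rw [TensorProduct.tmul_smul, TensorProduct.smul_tmul', TensorProduct.smul_tmul', Algebra.smul_def, mul_one,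
      smul_eq_mul, mul_one]
  rw [h2, h3, map_smul]

end T2

end Groth.Agent.LibT2Obs29
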