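import Groth.Agent.LibT2Obs29b
import Groth.Agent.LibT2Obs29c
import Groth.Agent.LibLift29f

/-!
# The obstruction to lifting a flat algebra along a small surjection lies in `T²` (seat helper29), part 1

`C' → C₁` surjective with kernel `J` killed by `𝔪' = ker (C' → k)`, `B` flat over `C₁` with `B/𝔪'B = B₀`,
`P` a presentation of `B₀` over `k` lifted to generators `b₁` of `B` over `C₁` and relations `F₁`, themselves
lifted to `F'` over `C'`.  This file: the maps `mult`, `mu` on `C'[X] ⊗ J` are semilinear, the two reductions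
`C'[X] → C₁[X] → k[X]`, and the lemmas saying that the obstruction map is well defined.
-/

set_option autoImplicit false
universe u

namespace Groth.Agent.LibT2Obs29

open TensorProduct MvPolynomial Groth.Agent.LibLift29 Groth.Agent.LibExal29

section Mult

variable {C' : Type u} [CommRing C'] (J : Ideal C') {E : Type u} [CommRing E] [Algebra C' E]

lemma mult_injective [Module.Flat C' E] : Function.Injective (mult (E := E) J) := by
  refine (TensorProduct.rid C' E).injective.comp ?_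
  exact Module.Flat.lTensor_preserves_injective_linearMap (M := E) J.subtype Subtype.val_injective

lemma mult_smul (x : E) (w : E ⊗[C'] J) : mult J (x • w) = x * mult J w := by
  induction w using TensorProduct.induction_on with
  | zero => rw [smul_zero, map_zero, mul_zero]
  | add w w' hw hw' => rw [smul_add, map_add, hw, hw', map_add, mul_add]
  | tmul e j =>
    rw [smul_tmul', mult_tmul, mult_tmul, smul_eq_mul]
    ring

end Mult

section MultMu

variable {k C' B B₀ : Type u} [Field k] [CommRing C'] [CommRing B] [CommRing B₀]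
  [Algebra k C'] [Algebra C' k] [Algebra C' B] [Algebra k B₀] [Algebra B B₀] [Algebra C' B₀]
  [IsScalarTower C' B B₀] [IsScalarTower C' k B₀] [IsScalarTower k C' B₀]
  (J : Ideal C')
  {E : Type u} [CommRing E] [Algebra C' E] (β : E →ₐ[C'] B)

lemma mu_smul (hJm : ∀ a : C', algebraMap C' k a = 0 → ∀ j ∈ J, a * j = 0)
    (hsec : ∀ r : k, algebraMap C' k (algebraMap k C' r) = r) (x : E) (w : E ⊗[C'] J) :
    mu (B₀ := B₀) J β hJm hsec (x • w) = gam (B₀ := B₀) β x • mu (B₀ := B₀) J β hJm hsec w := by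
  induction w using TensorProduct.induction_on with
  | zero => rw [smul_zero, map_zero, smul_zero]
  | add w w' hw hw' => rw [smul_add, map_add, hw, hw', map_add, smul_add]
  | tmul e j =>
    rw [smul_tmul', mu_tmul, mu_tmul, smul_eq_mul, map_mul, smul_tmul', smul_eq_mul]

end MultMu

section Q

variable (C' C₁ ι σ : Type u) [CommRing C'] [CommRing C₁] [Algebra C' C₁]

/-- coefficientwise reduction `C'[X] → C₁[X]` -/
noncomputable def Qm : MvPolynomial ι C' →+* MvPolynomial ι C₁ := MvPolynomial.map (algebraMap C' C₁)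

/-- componentwise reduction -/
noncomputable def Qσ : (σ →₀ MvPolynomial ι C') →+ (σ →₀ MvPolynomial ι C₁) :=
  Finsupp.mapRange.addMonoidHom (Qm C' C₁ ι).toAddMonoidHom

variable {C' C₁ ι σ}

lemma Qm_surjective (hp : Function.Surjective (algebraMap C' C₁)) : Function.Surjective (Qm C' C₁ ι) :=
  MvPolynomial.map_surjective _ hp

lemma ker_Qm : RingHom.ker (Qm C' C₁ ι) = Ideal.map C (RingHom.ker (algebraMap C' C₁)) :=
  MvPolynomial.ker_map _

lemma Qm_C (c : C') : Qm C' C₁ ι (C c) = C (algebraMap C' C₁ c) := MvPolynomial.map_C _ _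

lemma Qσ_apply (r : σ →₀ MvPolynomial ι C') (s : σ) : Qσ C' C₁ ι σ r s = Qm C' C₁ ι (r s) := rfl

lemma Qσ_single (s : σ) (r : MvPolynomial ι C') :
    Qσ C' C₁ ι σ (Finsupp.single s r) = Finsupp.single s (Qm C' C₁ ι r) := by
  rw [Qσ, Finsupp.mapRange.addMonoidHom_apply, Finsupp.mapRange_single]
  rfl

lemma Qσ_smul (x : MvPolynomial ι C') (r : σ →₀ MvPolynomial ι C') :
    Qσ C' C₁ ι σ (x • r) = Qm C' C₁ ι x • Qσ C' C₁ ι σ r := by
  ext s : 1
  rw [Qσ_apply, Finsupp.smul_apply, Finsupp.smul_apply, Qσ_apply, smul_eq_mul, smul_eq_mul, map_mul]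

lemma Qσ_surjective (hp : Function.Surjective (algebraMap C' C₁)) :
    Function.Surjective (Qσ C' C₁ ι σ) := by
  classical
  intro q
  induction q using Finsupp.induction_linear with
  | zero => exact ⟨0, map_zero _⟩
  | add q q' hq hq' =>
    obtain ⟨r, rfl⟩ := hq
    obtain ⟨r', rfl⟩ := hq'
    exact ⟨r + r', map_add _ _ _⟩
  | single s c =>
    obtain ⟨c', rfl⟩ := Qm_surjective (ι := ι) hp c
    exact ⟨Finsupp.single s c', Qσ_single s c'⟩

lemma Qm_ΨA (F' : σ → MvPolynomial ι C') (F₁ : σ → MvPolynomial ι C₁) (hF' : ∀ s, Qm C' C₁ ι (F' s) = F₁ s)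
    (r : σ →₀ MvPolynomial ι C') : Qm C' C₁ ι (ΨA F' r) = ΨA F₁ (Qσ C' C₁ ι σ r) := by
  classical
  induction r using Finsupp.induction_linear with
  | zero => rw [map_zero, map_zero, map_zero, map_zero]
  | add r r' hr hr' => rw [map_add, map_add, hr, hr', map_add, map_add]
  | single s c => rw [Qσ_single, ΨA_single, ΨA_single, map_mul, hF']

lemma aeval_Qm {B : Type u} [CommRing B] [Algebra C' B] [Algebra C₁ B] [IsScalarTower C' C₁ B] (b₁ : ι → B)
    (x : MvPolynomial ι C') : aeval b₁ (Qm C' C₁ ι x) = aeval b₁ x :=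
  MvPolynomial.aeval_map_algebraMap C₁ b₁ x

/-- `J C'[X]` is the image of `C'[X] ⊗ J` -/
lemma Qm_mult (J : Ideal C') (hJ : ∀ c : C', c ∈ J ↔ algebraMap C' C₁ c = 0) (w : MvPolynomial ι C' ⊗[C'] J) :
    Qm C' C₁ ι (mult J w) = 0 := by
  induction w using TensorProduct.induction_on with
  | zero => rw [map_zero, map_zero]
  | add w w' hw hw' => rw [map_add, map_add, hw, hw', add_zero]
  | tmul e j =>
    rw [mult_tmul, map_mul, MvPolynomial.algebraMap_eq, Qm_C, (hJ _).mp j.2, map_zero, zero_mul]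

lemma exists_mult_eq (J : Ideal C') (hJ : ∀ c : C', c ∈ J ↔ algebraMap C' C₁ c = 0) (x : MvPolynomial ι C')
    (hx : Qm C' C₁ ι x = 0) : ∃ w : MvPolynomial ι C' ⊗[C'] J, mult J w = x := by
  have hJeq : RingHom.ker (algebraMap C' C₁) = J := by
    ext c
    rw [hJ, RingHom.mem_ker]
  rw [← RingHom.mem_ker, ker_Qm, hJeq, Ideal.map] at hx
  refine Submodule.span_induction (p := fun x _ => ∃ w : MvPolynomial ι C' ⊗[C'] J, mult J w = x) ?_ ?_ ?_ ?_ hx
  · rintro x ⟨j, hj, rfl⟩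
    refine ⟨1 ⊗ₜ ⟨j, hj⟩, ?_⟩
    rw [mult_tmul, mul_one, MvPolynomial.algebraMap_eq]
  · exact ⟨0, map_zero _⟩
  · rintro x y _ _ ⟨w, rfl⟩ ⟨w', rfl⟩
    exact ⟨w + w', map_add _ _ _⟩
  · rintro a x _ ⟨w, rfl⟩
    exact ⟨a • w, by rw [mult_smul, smul_eq_mul]⟩

end Q

section Core

variable {k C' C₁ B B₀ : Type u} [Field k] [CommRing C'] [CommRing C₁] [CommRing B] [CommRing B₀]
  [Algebra k C'] [Algebra C' k] [Algebra C' B] [Algebra k B₀] [Algebra B B₀] [Algebra C' B₀]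
  [IsScalarTower C' B B₀] [IsScalarTower C' k B₀] [IsScalarTower k C' B₀]
  [Algebra C' C₁] [Algebra C₁ B] [IsScalarTower C' C₁ B]
  [Algebra C₁ k] [IsScalarTower C' C₁ k] [Algebra C₁ B₀] [IsScalarTower C₁ B B₀] [IsScalarTower C₁ k B₀]
  {ι σ : Type u} (P : Algebra.Presentation k B₀ ι σ)
  (J : Ideal C') (b₁ : ι → B) (F₁ : σ → MvPolynomial ι C₁) (F' : σ → MvPolynomial ι C')

lemma ρP_Qm (x : MvPolynomial ι C') : ρP P (Qm C' C₁ ι x) = ρP P x := by
  change MvPolynomial.map (algebraMap C₁ k) (MvPolynomial.map (algebraMap C' C₁) x) =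
    MvPolynomial.map (algebraMap C' k) x
  rw [MvPolynomial.map_map, ← IsScalarTower.algebraMap_eq]

lemma ρσP_Qσ (r : σ →₀ MvPolynomial ι C') : ρσP P (Qσ C' C₁ ι σ r) = ρσP P r := by
  ext s : 1
  rw [ρσP_apply, ρσP_apply, Qσ_apply, ρP_Qm]

lemma gam_aeval (hb : ∀ i, algebraMap B B₀ (b₁ i) = P.val i) (x : MvPolynomial ι C') :
    gam (B₀ := B₀) (aeval b₁ : MvPolynomial ι C' →ₐ[C'] B) x = algebraMap P.toExtension.Ring B₀ (ρP P x) := by
  rw [gam_apply, algebraMap_aeval P b₁ hb, CotT.algebraMap_toExtension]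
  rfl

variable (hJ : ∀ c : C', c ∈ J ↔ algebraMap C' C₁ c = 0)
  (hJm : ∀ a : C', algebraMap C' k a = 0 → ∀ j ∈ J, a * j = 0)
  (hsec : ∀ r : k, algebraMap C' k (algebraMap k C' r) = r)

include hJ in
/-- the value of `mu` only depends on the reduction to `C₁` -/
lemma mu_eq_of_Qσ_eq (hF'ev : ∀ s, aeval b₁ (F' s) = 0)
    (r r₀ : σ →₀ MvPolynomial ι C') (w w₀ : MvPolynomial ι C' ⊗[C'] J)
    (hr : Qσ C' C₁ ι σ r = Qσ C' C₁ ι σ r₀) (hw : mult J w = ΨA F' r) (hw₀ : mult J w₀ = ΨA F' r₀) :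
    mu (B₀ := B₀) J (aeval b₁ : MvPolynomial ι C' →ₐ[C'] B) hJm hsec w =
      mu (B₀ := B₀) J (aeval b₁ : MvPolynomial ι C' →ₐ[C'] B) hJm hsec w₀ := by
  classical
  have hd : ∀ s, Qm C' C₁ ι (r s - r₀ s) = 0 := by
    intro s
    rw [map_sub, ← Qσ_apply, ← Qσ_apply, hr, sub_self]
  choose w'' hw'' using fun s => exists_mult_eq J hJ (r s - r₀ s) (hd s)
  have h1 : mult J (w - w₀) = mult J (∑ s ∈ (r - r₀).support, F' s • w'' s) := by
    rw [map_sub, hw, hw₀, ← map_sub, ΨA, Finsupp.linearCombination_apply, Finsupp.sum, map_sum]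
    refine Finset.sum_congr rfl fun s _ => ?_
    rw [mult_smul, hw'', Finsupp.sub_apply, smul_eq_mul, mul_comm]
  have h2 := mult_injective J h1
  rw [← sub_eq_zero, ← map_sub, h2, map_sum]
  refine Finset.sum_eq_zero fun s _ => ?_
  rw [mu_smul, gam_apply, hF'ev, map_zero, zero_smul]

variable [Module.Flat C₁ B]
  (hb : ∀ i, algebraMap B B₀ (b₁ i) = P.val i)
  (hp : Function.Surjective (algebraMap C' C₁))
  (hres₁ : Function.Surjective (algebraMap C₁ k))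
  (hkerπ₁ : RingHom.ker (algebraMap B B₀) ≤ Ideal.map (algebraMap C₁ B) (RingHom.ker (algebraMap C₁ k)))
  (n : ℕ) (hn : (RingHom.ker (algebraMap C₁ k)) ^ n = ⊥)
  (hF₁ρ : ∀ s, ρP P (F₁ s) = P.relation s) (hF₁ev : ∀ s, aeval b₁ (F₁ s) = 0)
  (hF' : ∀ s, Qm C' C₁ ι (F' s) = F₁ s)

include hF₁ev hF' in
lemma aeval_F' (s : σ) : aeval b₁ (F' s) = 0 := by
  rw [← aeval_Qm (C₁ := C₁), hF', hF₁ev]

include hJ hb hp hres₁ hkerπ₁ hn hF₁ρ hF₁ev hF' in
/-- the obstruction map is well defined: the kernel condition -/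
lemma mu_eq_zero_of_ρσP_eq_zero (r : σ →₀ MvPolynomial ι C') (w : MvPolynomial ι C' ⊗[C'] J)
    (hr : ρσP P r = 0) (hw : mult J w = ΨA F' r) :
    mu (B₀ := B₀) J (aeval b₁ : MvPolynomial ι C' →ₐ[C'] B) hJm hsec w = 0 := by
  have h1 : ΨA F₁ (Qσ C' C₁ ι σ r) = 0 := by
    rw [← Qm_ΨA F' F₁ hF', ← hw, Qm_mult J hJ]
  have h2 : ρσP P (Qσ C' C₁ ι σ r) = 0 := by rw [ρσP_Qσ, hr]
  have h3 := mem_smul_ker_ΨA P b₁ F₁ hF₁ρ hF₁ev hb hres₁ hkerπ₁ n hn _ h1 h2
  have h4 : ∃ (r₀ : σ →₀ MvPolynomial ι C') (w₀ : MvPolynomial ι C' ⊗[C'] J),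
      Qσ C' C₁ ι σ r₀ = Qσ C' C₁ ι σ r ∧ mult J w₀ = ΨA F' r₀ ∧
      mu (B₀ := B₀) J (aeval b₁ : MvPolynomial ι C' →ₐ[C'] B) hJm hsec w₀ = 0 := by
    refine Submodule.smul_induction_on (p := fun rb => ∃ (r₀ : σ →₀ MvPolynomial ι C')
      (w₀ : MvPolynomial ι C' ⊗[C'] J), Qσ C' C₁ ι σ r₀ = rb ∧ mult J w₀ = ΨA F' r₀ ∧
      mu (B₀ := B₀) J (aeval b₁ : MvPolynomial ι C' →ₐ[C'] B) hJm hsec w₀ = 0) h3 ?_ ?_
    · intro a ha t ht
      obtain ⟨a', rfl⟩ := hp a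
      obtain ⟨t', rfl⟩ := Qσ_surjective (ι := ι) (σ := σ) hp t
      have ht' : ΨA F₁ (Qσ C' C₁ ι σ t') = 0 := ht
      have h5 : Qm C' C₁ ι (ΨA F' t') = 0 := by rw [Qm_ΨA F' F₁ hF', ht']
      obtain ⟨wt, hwt⟩ := exists_mult_eq J hJ _ h5
      have ha' : algebraMap C' k a' = 0 := by
        rw [IsScalarTower.algebraMap_apply C' C₁ k]
        exact ha
      refine ⟨(C a' : MvPolynomial ι C') • t', (C a' : MvPolynomial ι C') • wt, ?_, ?_, ?_⟩
      · rw [Qσ_smul, Qm_C]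
        ext s : 1
        rw [Finsupp.smul_apply, Finsupp.smul_apply, smul_eq_mul, MvPolynomial.C_mul']
      · rw [mult_smul, hwt, map_smul, smul_eq_mul]
      · rw [mu_smul, gam_apply, aeval_C, ← IsScalarTower.algebraMap_apply C' B B₀,
          IsScalarTower.algebraMap_apply C' k B₀, ha', map_zero, zero_smul]
    · rintro _ _ ⟨r₀, w₀, rfl, h5, h6⟩ ⟨r₀', w₀', rfl, h5', h6'⟩
      exact ⟨r₀ + r₀', w₀ + w₀', map_add _ _ _, by rw [map_add, map_add, h5, h5'],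
        by rw [map_add, h6, h6', add_zero]⟩
  obtain ⟨r₀, w₀, h5, h6, h7⟩ := h4
  rw [mu_eq_of_Qσ_eq J b₁ F' hJ hJm hsec (aeval_F' b₁ F₁ F' hF₁ev hF') r r₀ w w₀ h5.symm hw h6, h7]

include hJ hb hp hres₁ hkerπ₁ hn hF₁ρ hF₁ev hF' in
/-- the obstruction map is well defined -/
lemma mu_eq_of_ρσP_eq (r r' : σ →₀ MvPolynomial ι C') (w w' : MvPolynomial ι C' ⊗[C'] J)
    (hr : ρσP P r = ρσP P r') (hw : mult J w = ΨA F' r) (hw' : mult J w' = ΨA F' r') :
    mu (B₀ := B₀) J (aeval b₁ : MvPolynomial ι C' →ₐ[C'] B) hJm hsec w =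
      mu (B₀ := B₀) J (aeval b₁ : MvPolynomial ι C' →ₐ[C'] B) hJm hsec w' := by
  rw [← sub_eq_zero, ← map_sub]
  refine mu_eq_zero_of_ρσP_eq_zero P J b₁ F₁ F' hJ hJm hsec hb hp hres₁ hkerπ₁ n hn hF₁ρ hF₁ev hF' (r - r') (w - w')
    ?_ ?_
  · rw [map_sub, hr, sub_self]
  · rw [map_sub, map_sub, hw, hw']

include hJ hb hp hres₁ hkerπ₁ hn hF₁ρ hF₁ev hF' in
/-- the kernel of `C'[X] → B` is generated by the `F' s` and `J` -/
lemma exists_decomp (x : MvPolynomial ι C') (hx : aeval b₁ x = 0) :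
    ∃ (r : σ →₀ MvPolynomial ι C') (w : MvPolynomial ι C' ⊗[C'] J), ΨA F' r + mult J w = x := by
  have h1 : aeval b₁ (Qm C' C₁ ι x) = 0 := by rw [aeval_Qm, hx]
  obtain ⟨rb, hrb⟩ := ΨK_surjective P b₁ F₁ hF₁ρ hF₁ev hb hres₁ hkerπ₁ n hn ⟨Qm C' C₁ ι x, h1⟩
  have h2 : ΨA F₁ rb = Qm C' C₁ ι x := by
    rw [← coe_ΨK b₁ F₁ hF₁ev, hrb]
  obtain ⟨r, rfl⟩ := Qσ_surjective (ι := ι) (σ := σ) hp rb
  have h3 : Qm C' C₁ ι (x - ΨA F' r) = 0 := by
    rw [map_sub, Qm_ΨA F' F₁ hF', h2, sub_self]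
  obtain ⟨w, hw⟩ := exists_mult_eq J hJ _ h3
  exact ⟨r, w, by rw [hw]; abel⟩

include hJ hb hp hres₁ hkerπ₁ hn hF₁ρ hF₁ev hF' in
/-- relations among the relations of `P` lift to relations among the `F' s` modulo `J` -/
lemma exists_lift_rel' (q : CotT.relMod P) (hq : CotT.jmap P q = 0) :
    ∃ (r : σ →₀ MvPolynomial ι C') (w : MvPolynomial ι C' ⊗[C'] J), ρσP P r = q ∧ mult J w = ΨA F' r := by
  obtain ⟨rb, hrb, hrb0⟩ := exists_lift_rel P b₁ F₁ hF₁ρ hF₁ev hb hres₁ hkerπ₁ n hn q hq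
  obtain ⟨r, rfl⟩ := Qσ_surjective (ι := ι) (σ := σ) hp rb
  have h3 : Qm C' C₁ ι (ΨA F' r) = 0 := by rw [Qm_ΨA F' F₁ hF', hrb0]
  obtain ⟨w, hw⟩ := exists_mult_eq J hJ _ h3
  exact ⟨r, w, by rw [← hrb, ρσP_Qσ], hw⟩

end Core

end Groth.Agent.LibT2Obs29
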