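import Groth.Agent.LibT2Obs29d

/-!
# The obstruction to lifting a flat algebra along a small surjection lies in `T²` (seat helper29), part 2

The obstruction map `ob₀ : Q → B₀ ⊗_k J` on the relation module of the presentation, and, when `T² = 0`,
the resulting `C'[X]`-linear map `ker (C'[X] → B) → B₀ ⊗_k J` extending the tautological map on `J`.
-/

set_option autoImplicit false
universe u

namespace Groth.Agent.LibT2Obs29

open TensorProduct MvPolynomial Groth.Agent.LibLift29 Groth.Agent.LibExal29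

section Obs

variable {k C' C₁ B B₀ : Type u} [Field k] [CommRing C'] [CommRing C₁] [CommRing B] [CommRing B₀]
  [Algebra k C'] [Algebra C' k] [Algebra C' B] [Algebra k B₀] [Algebra B B₀] [Algebra C' B₀]
  [IsScalarTower C' B B₀] [IsScalarTower C' k B₀] [IsScalarTower k C' B₀]
  [Algebra C' C₁] [Algebra C₁ B] [IsScalarTower C' C₁ B]
  [Algebra C₁ k] [IsScalarTower C' C₁ k] [Algebra C₁ B₀] [IsScalarTower C₁ B B₀] [IsScalarTower C₁ k B₀]
  {ι σ : Type u}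

/-- the data and hypotheses of the lifting problem -/
structure Setup (P : Algebra.Presentation k B₀ ι σ) (J : Ideal C') (b₁ : ι → B) (F₁ : σ → MvPolynomial ι C₁)
    (F' : σ → MvPolynomial ι C') : Prop where
  hJ : ∀ c : C', c ∈ J ↔ algebraMap C' C₁ c = 0
  hJm : ∀ a : C', algebraMap C' k a = 0 → ∀ j ∈ J, a * j = 0
  hsec : ∀ r : k, algebraMap C' k (algebraMap k C' r) = r
  hb : ∀ i, algebraMap B B₀ (b₁ i) = P.val i
  hp : Function.Surjective (algebraMap C' C₁)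
  hres₁ : Function.Surjective (algebraMap C₁ k)
  hkerπ₁ : RingHom.ker (algebraMap B B₀) ≤ Ideal.map (algebraMap C₁ B) (RingHom.ker (algebraMap C₁ k))
  hnil : ∃ n : ℕ, (RingHom.ker (algebraMap C₁ k)) ^ n = ⊥
  hF₁ρ : ∀ s, ρP P (F₁ s) = P.relation s
  hF₁ev : ∀ s, aeval b₁ (F₁ s) = 0
  hF' : ∀ s, Qm C' C₁ ι (F' s) = F₁ s
  flat : Module.Flat C₁ B

variable {P : Algebra.Presentation k B₀ ι σ} {J : Ideal C'} {b₁ : ι → B} {F₁ : σ → MvPolynomial ι C₁}
  {F' : σ → MvPolynomial ι C'} (S : Setup P J b₁ F₁ F')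

/-- `mu` for the setup -/
noncomputable abbrev Setup.mu : MvPolynomial ι C' ⊗[C'] J →ₗ[C'] B₀ ⊗[k] J :=
  Groth.Agent.LibLift29.mu (B₀ := B₀) J (aeval b₁ : MvPolynomial ι C' →ₐ[C'] B) S.hJm S.hsec

include S in
lemma Setup.hres : Function.Surjective (algebraMap C' k) := by
  rw [IsScalarTower.algebraMap_eq C' C₁ k]
  exact S.hres₁.comp S.hp

include S in
lemma Setup.hF'ρ (s : σ) : ρP P (F' s) = P.relation s := by
  rw [← ρP_Qm (C₁ := C₁), S.hF', S.hF₁ρ]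

include S in
lemma Setup.hF'ev (s : σ) : aeval b₁ (F' s) = 0 := by
  haveI := S.flat
  exact aeval_F' b₁ F₁ F' S.hF₁ev S.hF' s

lemma Setup.wd (r r' : σ →₀ MvPolynomial ι C') (w w' : MvPolynomial ι C' ⊗[C'] J)
    (hr : ρσP P r = ρσP P r') (hw : mult J w = ΨA F' r) (hw' : mult J w' = ΨA F' r') :
    S.mu w = S.mu w' := by
  haveI := S.flat
  obtain ⟨n, hn⟩ := S.hnil
  exact mu_eq_of_ρσP_eq P J b₁ F₁ F' S.hJ S.hJm S.hsec S.hb S.hp S.hres₁ S.hkerπ₁ n hn S.hF₁ρ S.hF₁ev S.hF'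
    r r' w w' hr hw hw'

include S in
lemma Setup.decomp (x : MvPolynomial ι C') (hx : aeval b₁ x = 0) :
    ∃ (r : σ →₀ MvPolynomial ι C') (w : MvPolynomial ι C' ⊗[C'] J), ΨA F' r + mult J w = x := by
  haveI := S.flat
  obtain ⟨n, hn⟩ := S.hnil
  exact exists_decomp P J b₁ F₁ F' S.hJ S.hb S.hp S.hres₁ S.hkerπ₁ n hn S.hF₁ρ S.hF₁ev S.hF' x hx

include S in
lemma Setup.lift (q : CotT.relMod P) (hq : CotT.jmap P q = 0) :
    ∃ (r : σ →₀ MvPolynomial ι C') (w : MvPolynomial ι C' ⊗[C'] J), ρσP P r = q ∧ mult J w = ΨA F' r := by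
  haveI := S.flat
  obtain ⟨n, hn⟩ := S.hnil
  exact exists_lift_rel' P J b₁ F₁ F' S.hJ S.hb S.hp S.hres₁ S.hkerπ₁ n hn S.hF₁ρ S.hF₁ev S.hF' q hq

include S in
lemma Setup.ρP_mult (w : MvPolynomial ι C' ⊗[C'] J) : ρP P (mult J w) = 0 := by
  rw [← ρP_Qm (C₁ := C₁), Qm_mult J S.hJ, map_zero]

/-- the obstruction map -/
noncomputable def Setup.ob (q : CotT.relKer P) : B₀ ⊗[k] J :=
  S.mu (S.lift q.1 (LinearMap.mem_ker.mp q.2)).choose_spec.choose

lemma Setup.ob_eq (q : CotT.relKer P) (r : σ →₀ MvPolynomial ι C') (w : MvPolynomial ι C' ⊗[C'] J)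
    (hr : ρσP P r = q.1) (hw : mult J w = ΨA F' r) : S.ob q = S.mu w := by
  have h := (S.lift q.1 (LinearMap.mem_ker.mp q.2)).choose_spec.choose_spec
  exact S.wd _ _ _ _ (h.1.trans hr.symm) h.2 hw

lemma Setup.ob_add (q q' : CotT.relKer P) : S.ob (q + q') = S.ob q + S.ob q' := by
  obtain ⟨r, w, hr, hw⟩ := S.lift q.1 (LinearMap.mem_ker.mp q.2)
  obtain ⟨r', w', hr', hw'⟩ := S.lift q'.1 (LinearMap.mem_ker.mp q'.2)
  rw [S.ob_eq q r w hr hw, S.ob_eq q' r' w' hr' hw', S.ob_eq (q + q') (r + r') (w + w') ?_ ?_, map_add]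
  · rw [map_add, hr, hr']
    rfl
  · rw [map_add, map_add, hw, hw']

lemma Setup.ob_smul (x : P.toExtension.Ring) (q : CotT.relKer P) :
    S.ob (x • q) = algebraMap P.toExtension.Ring B₀ x • S.ob q := by
  obtain ⟨r, w, hr, hw⟩ := S.lift q.1 (LinearMap.mem_ker.mp q.2)
  obtain ⟨x', rfl⟩ := ρP_surjective (A := C') P S.hres x
  rw [S.ob_eq q r w hr hw, S.ob_eq (ρP P x' • q) (x' • r) (x' • w) ?_ ?_, Setup.mu, mu_smul,
    gam_aeval P b₁ S.hb]
  · rw [ρσP_smul, hr]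
    rfl
  · rw [mult_smul, hw, map_smul, smul_eq_mul]

lemma Setup.ob_zero : S.ob 0 = 0 := by
  rw [S.ob_eq 0 0 0 (map_zero _) (by rw [map_zero, map_zero]), map_zero]

lemma Setup.ob_triv (q : CotT.relKer P) (hq : q ∈ CotT.trivRelKer P) : S.ob q = 0 := by
  have hq' : (q : CotT.relMod P) ∈ CotT.trivRel P := hq
  have key : ∃ hy : (q : CotT.relMod P) ∈ CotT.relKer P, S.ob ⟨q, hy⟩ = 0 := by
    rw [CotT.trivRel] at hq'
    refine Submodule.span_induction (p := fun y _ => ∃ hy : y ∈ CotT.relKer P, S.ob ⟨y, hy⟩ = 0) ?_ ?_ ?_ ?_ hq'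
    · rintro y ⟨a, b, rfl⟩
      have hy : CotT.jmap P a • b - CotT.jmap P b • a ∈ CotT.relKer P :=
        CotT.trivRel_le_relKer P (Submodule.subset_span ⟨a, b, rfl⟩)
      refine ⟨hy, ?_⟩
      obtain ⟨a', rfl⟩ := ρσP_surjective (A := C') P S.hres a
      obtain ⟨b', rfl⟩ := ρσP_surjective (A := C') P S.hres b
      rw [S.ob_eq _ (ΨA F' a' • b' - ΨA F' b' • a') 0 ?_ ?_, map_zero]
      · rw [map_sub, ρσP_smul, ρσP_smul, ← jmap_ρσP P F' S.hF'ρ, ← jmap_ρσP P F' S.hF'ρ]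
      · rw [map_zero, map_sub, map_smul, map_smul, smul_eq_mul, smul_eq_mul, mul_comm, sub_self]
    · exact ⟨zero_mem _, S.ob_zero⟩
    · rintro y y' _ _ ⟨hy, h⟩ ⟨hy', h'⟩
      refine ⟨add_mem hy hy', ?_⟩
      have : (⟨y + y', add_mem hy hy'⟩ : CotT.relKer P) = ⟨y, hy⟩ + ⟨y', hy'⟩ := rfl
      rw [this, S.ob_add, h, h', add_zero]
    · rintro x y _ ⟨hy, h⟩
      refine ⟨Submodule.smul_mem _ x hy, ?_⟩
      have : (⟨x • y, Submodule.smul_mem _ x hy⟩ : CotT.relKer P) = x • ⟨y, hy⟩ := rfl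
      rw [this, S.ob_smul, h, smul_zero]
  obtain ⟨hy, h⟩ := key
  exact h

end Obs

section Phi

variable {k C' C₁ B B₀ : Type u} [Field k] [CommRing C'] [CommRing C₁] [CommRing B] [CommRing B₀]
  [Algebra k C'] [Algebra C' k] [Algebra C' B] [Algebra k B₀] [Algebra B B₀] [Algebra C' B₀]
  [IsScalarTower C' B B₀] [IsScalarTower C' k B₀] [IsScalarTower k C' B₀]
  [Algebra C' C₁] [Algebra C₁ B] [IsScalarTower C' C₁ B]
  [Algebra C₁ k] [IsScalarTower C' C₁ k] [Algebra C₁ B₀] [IsScalarTower C₁ B B₀] [IsScalarTower C₁ k B₀]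
  {ι σ : Type u}
  {P : Algebra.Presentation k B₀ ι σ} {J : Ideal C'} {b₁ : ι → B} {F₁ : σ → MvPolynomial ι C₁}
  {F' : σ → MvPolynomial ι C'} (S : Setup P J b₁ F₁ F')

variable (J b₁) in
/-- `r ↦ Σ_s r_s • m_s` -/
noncomputable def gmap (m : σ → B₀ ⊗[k] J) : (σ →₀ MvPolynomial ι C') →+ B₀ ⊗[k] J :=
  letI : Module (MvPolynomial ι C') (B₀ ⊗[k] J) :=
    Module.compHom _ (gam (B₀ := B₀) (aeval b₁ : MvPolynomial ι C' →ₐ[C'] B)).toRingHom
  (Finsupp.linearCombination (MvPolynomial ι C') m).toAddMonoidHom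

lemma gmap_apply (m : σ → B₀ ⊗[k] J) (r : σ →₀ MvPolynomial ι C') :
    gmap J b₁ m r = r.sum fun s c => gam (B₀ := B₀) (aeval b₁ : MvPolynomial ι C' →ₐ[C'] B) c • m s := by
  letI : Module (MvPolynomial ι C') (B₀ ⊗[k] J) :=
    Module.compHom _ (gam (B₀ := B₀) (aeval b₁ : MvPolynomial ι C' →ₐ[C'] B)).toRingHom
  exact Finsupp.linearCombination_apply (MvPolynomial ι C') r

lemma gmap_smul (m : σ → B₀ ⊗[k] J) (x : MvPolynomial ι C') (r : σ →₀ MvPolynomial ι C') :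
    gmap J b₁ m (x • r) = gam (B₀ := B₀) (aeval b₁ : MvPolynomial ι C' →ₐ[C'] B) x • gmap J b₁ m r := by
  letI : Module (MvPolynomial ι C') (B₀ ⊗[k] J) :=
    Module.compHom _ (gam (B₀ := B₀) (aeval b₁ : MvPolynomial ι C' →ₐ[C'] B)).toRingHom
  exact map_smul (Finsupp.linearCombination (MvPolynomial ι C') m) x r

/-- if the obstruction map comes from the free module, `g + mu` kills the kernel of `(r, w) ↦ Ψ r + mult w` -/
lemma Setup.key (m : σ → B₀ ⊗[k] J)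
    (hm : ∀ q : CotT.relKer P, S.ob q = (q : CotT.relMod P).sum fun s c => algebraMap P.toExtension.Ring B₀ c • m s)
    (r : σ →₀ MvPolynomial ι C') (w : MvPolynomial ι C' ⊗[C'] J) (h : ΨA F' r + mult J w = 0) :
    gmap J b₁ m r + S.mu w = 0 := by
  have h1 : mult J (-w) = ΨA F' r := by
    rw [map_neg]
    exact (eq_neg_of_add_eq_zero_left h).symm
  have h2 : ρσP P r ∈ CotT.relKer P := by
    change CotT.jmap P (ρσP P r) = 0
    rw [jmap_ρσP P F' S.hF'ρ, ← h1, S.ρP_mult]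
  have h3 := S.ob_eq ⟨ρσP P r, h2⟩ r (-w) rfl h1
  rw [hm, map_neg] at h3
  have h4 : gmap J b₁ m r = ((⟨ρσP P r, h2⟩ : CotT.relKer P) : CotT.relMod P).sum
      fun s c => algebraMap P.toExtension.Ring B₀ c • m s := by
    rw [gmap_apply]
    change _ = (Finsupp.mapRange (ρP (A := C') P) (map_zero _) r).sum _
    rw [Finsupp.sum_mapRange_index (fun s => by rw [map_zero, zero_smul])]
    refine Finsupp.sum_congr fun s _ => ?_
    rw [gam_aeval P b₁ S.hb]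
  rw [h4, h3, neg_add_cancel]

/-- the map `ker (C'[X] → B) → B₀ ⊗ J` -/
noncomputable def Setup.phi (m : σ → B₀ ⊗[k] J) (x : MvPolynomial ι C') (hx : aeval b₁ x = 0) : B₀ ⊗[k] J :=
  gmap J b₁ m (S.decomp x hx).choose + S.mu (S.decomp x hx).choose_spec.choose

lemma Setup.phi_eq (m : σ → B₀ ⊗[k] J)
    (hm : ∀ q : CotT.relKer P, S.ob q = (q : CotT.relMod P).sum fun s c => algebraMap P.toExtension.Ring B₀ c • m s)
    (x : MvPolynomial ι C') (hx : aeval b₁ x = 0)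
    (r : σ →₀ MvPolynomial ι C') (w : MvPolynomial ι C' ⊗[C'] J) (h : ΨA F' r + mult J w = x) :
    S.phi m x hx = gmap J b₁ m r + S.mu w := by
  have h0 := (S.decomp x hx).choose_spec.choose_spec
  have h1 := S.key m hm ((S.decomp x hx).choose - r) ((S.decomp x hx).choose_spec.choose - w) (by
    rw [map_sub, map_sub, sub_add_sub_comm, h0, h, sub_self])
  rw [map_sub, map_sub, sub_add_sub_comm, sub_eq_zero] at h1
  exact h1

lemma Setup.phi_add (m : σ → B₀ ⊗[k] J)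
    (hm : ∀ q : CotT.relKer P, S.ob q = (q : CotT.relMod P).sum fun s c => algebraMap P.toExtension.Ring B₀ c • m s)
    (x y : MvPolynomial ι C') (hx : aeval b₁ x = 0) (hy : aeval b₁ y = 0) (hxy : aeval b₁ (x + y) = 0) :
    S.phi m (x + y) hxy = S.phi m x hx + S.phi m y hy := by
  obtain ⟨r, w, h⟩ := S.decomp x hx
  obtain ⟨r', w', h'⟩ := S.decomp y hy
  rw [S.phi_eq m hm x hx r w h, S.phi_eq m hm y hy r' w' h', S.phi_eq m hm (x + y) hxy (r + r') (w + w') ?_,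
    map_add, map_add]
  · abel
  · rw [map_add, map_add, ← h, ← h']
    abel

lemma Setup.phi_smul (m : σ → B₀ ⊗[k] J)
    (hm : ∀ q : CotT.relKer P, S.ob q = (q : CotT.relMod P).sum fun s c => algebraMap P.toExtension.Ring B₀ c • m s)
    (a x : MvPolynomial ι C') (hx : aeval b₁ x = 0) (hax : aeval b₁ (a * x) = 0) :
    S.phi m (a * x) hax = aeval b₁ a • S.phi m x hx := by
  obtain ⟨r, w, h⟩ := S.decomp x hx
  rw [S.phi_eq m hm x hx r w h, S.phi_eq m hm (a * x) hax (a • r) (a • w) ?_, gmap_smul, Setup.mu, mu_smul,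
    ← smul_add, gam_apply, algebraMap_smul]
  · rw [map_smul, mult_smul, smul_eq_mul, ← mul_add, h]

lemma Setup.phi_C (m : σ → B₀ ⊗[k] J)
    (hm : ∀ q : CotT.relKer P, S.ob q = (q : CotT.relMod P).sum fun s c => algebraMap P.toExtension.Ring B₀ c • m s)
    (j : J) (hj : aeval b₁ (C (j : C') : MvPolynomial ι C') = 0) :
    S.phi m (C (j : C')) hj = (1 : B₀) ⊗ₜ[k] j := by
  rw [S.phi_eq m hm _ hj 0 (1 ⊗ₜ j) ?_, map_zero, zero_add, Setup.mu, mu_tmul, map_one]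
  · rw [map_zero, zero_add, mult_tmul, mul_one, MvPolynomial.algebraMap_eq]

end Phi

end Groth.Agent.LibT2Obs29
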