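import Groth.Agent.LibT2Obs29e

/-!
# The obstruction to lifting a flat algebra along a small surjection lies in `T²` (seat helper29), part 3

If `T²(B₀/k, B₀ ⊗_k J) = 0` there is a `J`-compatible extension of `B` by `B₀ ⊗_k J`, hence a flat lift of `B`.
-/

set_option autoImplicit false
universe u

namespace Groth.Agent.LibT2Obs29

open TensorProduct MvPolynomial Groth.Agent.LibLift29 Groth.Agent.LibExal29

section General

variable {C' C₁ R B M : Type u} [CommRing C'] [CommRing C₁] [CommRing R] [CommRing B]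
  [Algebra C' R] [Algebra C' B] [Algebra C' C₁] [Algebra C₁ B] [IsScalarTower C' C₁ B]
  [AddCommGroup M] [Module B M] [Module C' M] [IsScalarTower C' B M]

/-- `J`-compatibility can be read off on the classifying map of any lift of a surjection `R → B` -/
theorem jcompat_of_cf [Algebra R B] [IsScalarTower C' R B] [Module R M] [IsScalarTower R B M]
    [IsScalarTower C' R M]
    (τ : RingHom.ker (algebraMap C' C₁) → M) {X : Exal.Ext C' B M} {f : R →ₐ[C'] X.E} (hf : IsLift X f)
    (hsurj : Function.Surjective (algebraMap R B))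
    (h : ∀ (j : RingHom.ker (algebraMap C' C₁))
      (hj : algebraMap C' R (j : C') ∈ RingHom.ker (algebraMap R B)),
      cf hf ⟨algebraMap C' R (j : C'), hj⟩ = τ j) : JCompat τ X := by
  intro j x
  have hj : algebraMap C' R (j : C') ∈ RingHom.ker (algebraMap R B) := by
    rw [RingHom.mem_ker, ← IsScalarTower.algebraMap_apply, algebraMap_ker_eq_zero]
  obtain ⟨t, rfl⟩ := alpha_surjective hf hsurj x
  rw [alpha_apply, mul_add, map_add, proj_incl, add_zero, hf]
  have h1 : algebraMap C' X.E (j : C') * X.incl t.snd = 0 := by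
    rw [X.isExtension.mul_incl, AlgHom.commutes, algebraMap_ker_eq_zero, zero_smul, map_zero]
  have h2 : algebraMap C' X.E (j : C') * f t.fst =
      X.incl (t.fst • cf hf ⟨algebraMap C' R (j : C'), hj⟩) := by
    rw [← map_smul, incl_cf]
    change _ = f (t.fst * algebraMap C' R (j : C'))
    rw [map_mul, AlgHom.commutes, mul_comm]
  rw [h1, h2, add_zero, h j hj, algebraMap_smul]

/-- a semilinear map on the kernel of a surjection `R → B` extending `τ` gives a `J`-compatible extension -/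
theorem exists_jcompat_of_phi (ev : R →ₐ[C'] B) (hev : Function.Surjective ev)
    (τ : RingHom.ker (algebraMap C' C₁) → M) (φ₀ : ∀ x : R, ev x = 0 → M)
    (hadd : ∀ x y hx hy hxy, φ₀ (x + y) hxy = φ₀ x hx + φ₀ y hy)
    (hsmul : ∀ a x hx hax, φ₀ (a * x) hax = ev a • φ₀ x hx)
    (hτ : ∀ (j : RingHom.ker (algebraMap C' C₁)) hj, φ₀ (algebraMap C' R (j : C')) hj = τ j) :
    ∃ X : Exal.Ext C' B M, JCompat τ X := by
  letI iRB : Algebra R B := ev.toRingHom.toAlgebra
  haveI t1 : IsScalarTower C' R B := IsScalarTower.of_algebraMap_eq (fun c => (ev.commutes c).symm)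
  letI iRM : Module R M := Module.compHom M (algebraMap R B)
  haveI t2 : IsScalarTower R B M := IsScalarTower.of_compHom _ _ _
  haveI t3 : IsScalarTower C' R M := ⟨fun c r z => by
    change ev (c • r) • z = c • (ev r • z)
    rw [map_smul, smul_assoc]⟩
  let φ : RingHom.ker (algebraMap R B) →ₗ[R] M :=
    { toFun := fun x => φ₀ x.1 x.2
      map_add' := fun x y => hadd _ _ _ _ _
      map_smul' := fun a x => hsmul _ _ _ _ }
  have hsurj : Function.Surjective (algebraMap R B) := hev
  refine ⟨pushExt C' B φ hsurj, jcompat_of_cf τ (isLift_pushLift C' B φ hsurj) hsurj ?_⟩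
  intro j hj
  rw [cf_pushLift]
  exact hτ j _

end General

section Main

variable {k C' C₁ B B₀ : Type u} [Field k] [CommRing C'] [CommRing C₁] [CommRing B] [CommRing B₀]
  [Algebra k C'] [Algebra C' k] [Algebra C' B] [Algebra k B₀] [Algebra B B₀] [Algebra C' B₀]
  [IsScalarTower C' B B₀] [IsScalarTower C' k B₀] [IsScalarTower k C' B₀]
  [Algebra C' C₁] [Algebra C₁ B] [IsScalarTower C' C₁ B]
  [Algebra C₁ k] [IsScalarTower C' C₁ k] [Algebra C₁ B₀] [IsScalarTower C₁ B B₀] [IsScalarTower C₁ k B₀]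
  {ι σ : Type u}
  {P : Algebra.Presentation k B₀ ι σ} {J : Ideal C'} {b₁ : ι → B} {F₁ : σ → MvPolynomial ι C₁}
  {F' : σ → MvPolynomial ι C'} (S : Setup P J b₁ F₁ F')

include S in
lemma Setup.aeval_surjective : Function.Surjective (aeval b₁ : MvPolynomial ι C' →ₐ[C'] B) := by
  obtain ⟨n, hn⟩ := S.hnil
  intro y
  obtain ⟨x₁, rfl⟩ := Groth.Agent.LibT2Obs29.aeval_surjective P b₁ S.hb S.hres₁ S.hkerπ₁ n hn y
  obtain ⟨x, rfl⟩ := Qm_surjective (ι := ι) S.hp x₁
  exact ⟨x, (aeval_Qm b₁ x).symm⟩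

/-- if `T²` with coefficients in `B₀ ⊗ J` vanishes, a `J`-compatible extension exists -/
theorem exists_jcompat_ext (hT2 : Subsingleton (CotT.T2 P (B₀ ⊗[k] J))) :
    ∃ X : Exal.Ext C' B (B₀ ⊗[k] J), JCompat (tauJ (k := k) (B₀ := B₀) J S.hJ) X := by
  obtain ⟨m, hm⟩ := exists_of_subsingleton_T2 P hT2 S.ob S.ob_add S.ob_smul S.ob_triv
  refine exists_jcompat_of_phi (aeval b₁ : MvPolynomial ι C' →ₐ[C'] B) S.aeval_surjective _ (S.phi m)
    (fun x y hx hy hxy => S.phi_add m hm x y hx hy hxy)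
    (fun a x hx hax => S.phi_smul m hm a x hx hax) ?_
  intro j hj
  exact S.phi_C m hm ⟨j.1, (S.hJ _).mpr (RingHom.mem_ker.mp j.2)⟩ hj

end Main

section Retract

variable {A : Type u} {B : Type u} {ι σ : Type u} [CommRing A] [CommRing B] [Algebra A B]
  (P : Algebra.Presentation A B ι σ) {M N : Type u} [AddCommGroup M] [Module B M] [AddCommGroup N] [Module B N]

/-- vanishing of `T²` passes to retracts of the coefficient module -/
lemma subsingleton_T2_of_retract (u : M →ₗ[B] N) (v : N →ₗ[B] M) (h : ∀ x, v (u x) = x)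
    (hN : Subsingleton (CotT.T2 P N)) : Subsingleton (CotT.T2 P M) := by
  refine ⟨fun a b => ?_⟩
  have key : ∀ f : CotT.L2 P →ₗ[B] M, (Submodule.Quotient.mk f : CotT.T2 P M) = 0 := by
    intro f
    have h0 : (Submodule.Quotient.mk (u ∘ₗ f) : CotT.T2 P N) = 0 := Subsingleton.elim _ _
    rw [Submodule.Quotient.mk_eq_zero] at h0 ⊢
    obtain ⟨ψ, hψ⟩ := h0
    rw [CotT.d2Star_apply] at hψ
    refine ⟨v ∘ₗ ψ, ?_⟩
    rw [CotT.d2Star_apply, LinearMap.comp_assoc, hψ]
    refine LinearMap.ext fun x => ?_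
    exact h (f x)
  obtain ⟨f, rfl⟩ := Submodule.Quotient.mk_surjective _ a
  obtain ⟨g, rfl⟩ := Submodule.Quotient.mk_surjective _ b
  rw [key f, key g]

end Retract

section Span

variable {k B₀ V : Type u} [Field k] [CommRing B₀] [Algebra k B₀] [AddCommGroup V] [Module k V]

/-- for a one-dimensional `V`, `B₀ ⊗ V` is a retract of `B₀` -/
lemma exists_retract (t : V) (ht0 : t ≠ 0) (ht : ∀ x : V, ∃ c : k, x = c • t) :
    ∃ (u : B₀ ⊗[k] V →ₗ[B₀] B₀) (v : B₀ →ₗ[B₀] B₀ ⊗[k] V), ∀ x, v (u x) = x := by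
  have hinj : Function.Injective (LinearMap.toSpanSingleton k V t) := by
    rw [← LinearMap.ker_eq_bot]
    exact LinearMap.ker_toSpanSingleton (R := k) (M := V) ht0
  obtain ⟨g, hg⟩ := LinearMap.exists_leftInverse_of_injective (LinearMap.toSpanSingleton k V t)
    (LinearMap.ker_eq_bot.mpr hinj)
  have hgt : g t = 1 := by
    have := congrArg (fun f => f 1) hg
    simpa using this
  refine ⟨(TensorProduct.AlgebraTensorModule.rid k B₀ B₀).toLinearMap ∘ₗ
      TensorProduct.AlgebraTensorModule.lTensor B₀ B₀ g,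
    LinearMap.toSpanSingleton B₀ (B₀ ⊗[k] V) ((1 : B₀) ⊗ₜ t), fun x => ?_⟩
  induction x using TensorProduct.induction_on with
  | zero => rw [map_zero, map_zero]
  | add x y hx hy => rw [map_add, map_add, hx, hy]
  | tmul b x =>
    obtain ⟨c, rfl⟩ := ht x
    rw [LinearMap.comp_apply, TensorProduct.AlgebraTensorModule.lTensor_tmul, LinearEquiv.coe_coe,
      TensorProduct.AlgebraTensorModule.rid_tmul, LinearMap.toSpanSingleton_apply, map_smul, hgt,
      smul_tmul']
    simp only [smul_eq_mul, mul_one]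
    rw [smul_tmul]

end Span

end Groth.Agent.LibT2Obs29
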