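import Groth.Agent.LibT2Obs29d
import Groth.Agent.LibLiftL29f

/-!
# The obstruction to lifting a flat algebra along a small surjection lies in `T²`, mixed characteristic version
(seat helper29), part 1

Copy of the second half of `LibT2Obs29d` in which `C'` is no longer a `k`-algebra: the kernel `J` of `C' → C₁`
carries an abstract `k`-module structure compatible with `C' → k`.
-/

set_option autoImplicit false
universe u

namespace Groth.Agent.LibT2ObsL29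

open TensorProduct MvPolynomial Groth.Agent.LibExal29 Groth.Agent.LibT2Obs29 Groth.Agent.LibLiftL29
open Groth.Agent.LibLift29 (gam gam_apply mult mult_tmul LiftDatum)

section MultMu

variable {k C' B B₀ : Type u} [Field k] [CommRing C'] [CommRing B] [CommRing B₀]
  [Algebra C' k] [Algebra C' B] [Algebra k B₀] [Algebra B B₀] [Algebra C' B₀]
  [IsScalarTower C' B B₀] [IsScalarTower C' k B₀]
  (J : Ideal C') [Module k J] [IsScalarTower C' k J]
  {E : Type u} [CommRing E] [Algebra C' E] (β : E →ₐ[C'] B)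

lemma mu_smul (x : E) (w : E ⊗[C'] J) :
    mu (k := k) (B₀ := B₀) J β (x • w) = gam (B₀ := B₀) β x • mu (k := k) (B₀ := B₀) J β w := by
  induction w using TensorProduct.induction_on with
  | zero => rw [smul_zero, map_zero, smul_zero]
  | add w w' hw hw' => rw [smul_add, map_add, hw, hw', map_add, smul_add]
  | tmul e j =>
    rw [smul_tmul', mu_tmul, mu_tmul, smul_eq_mul, map_mul, smul_tmul', smul_eq_mul]

end MultMu

section Core

variable {k C' C₁ B B₀ : Type u} [Field k] [CommRing C'] [CommRing C₁] [CommRing B] [CommRing B₀]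
  [Algebra C' k] [Algebra C' B] [Algebra k B₀] [Algebra B B₀] [Algebra C' B₀]
  [IsScalarTower C' B B₀] [IsScalarTower C' k B₀]
  [Algebra C' C₁] [Algebra C₁ B] [IsScalarTower C' C₁ B]
  [Algebra C₁ k] [IsScalarTower C' C₁ k] [Algebra C₁ B₀] [IsScalarTower C₁ B B₀] [IsScalarTower C₁ k B₀]
  {ι σ : Type u} (P : Algebra.Presentation k B₀ ι σ)
  (J : Ideal C') [Module k J] [IsScalarTower C' k J]
  (b₁ : ι → B) (F₁ : σ → MvPolynomial ι C₁) (F' : σ → MvPolynomial ι C')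

lemma ρP_Qm (x : MvPolynomial ι C') : ρP P (Qm C' C₁ ι x) = ρP P x := by
  change MvPolynomial.map (algebraMap C₁ k) (MvPolynomial.map (algebraMap C' C₁) x) =
    MvPolynomial.map (algebraMap C' k) x
  rw [MvPolynomial.map_map, ← IsScalarTower.algebraMap_eq]

lemma ρσP_Qσ (r : σ →₀ MvPolynomial ι C') : ρσP P (Qσ C' C₁ ι σ r) = ρσP P r := by
  ext s : 1
  rw [ρσP_apply, ρσP_apply, Qσ_apply, ρP_Qm]

lemma gam_aeval (hb : ∀ i, algebraMap B B₀ (b₁ i) = P.val i) (x : MvPolynomial ι C') :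
    gam (B₀ := B₀) (aeval b₁ : MvPolynomial ι C' →ₐ[C'] B) x = algebraMap P.toExtension.Ring B₀ (ρP P x) := by
  rw [gam_apply, algebraMap_aeval P b₁ hb, CotT.algebraMap_toExtension]
  rfl

variable (hJ : ∀ c : C', c ∈ J ↔ algebraMap C' C₁ c = 0)

include hJ in
/-- the value of `mu` only depends on the reduction to `C₁` -/
lemma mu_eq_of_Qσ_eq (hF'ev : ∀ s, aeval b₁ (F' s) = 0)
    (r r₀ : σ →₀ MvPolynomial ι C') (w w₀ : MvPolynomial ι C' ⊗[C'] J)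
    (hr : Qσ C' C₁ ι σ r = Qσ C' C₁ ι σ r₀) (hw : mult J w = ΨA F' r) (hw₀ : mult J w₀ = ΨA F' r₀) :
    mu (k := k) (B₀ := B₀) J (aeval b₁ : MvPolynomial ι C' →ₐ[C'] B) w =
      mu (k := k) (B₀ := B₀) J (aeval b₁ : MvPolynomial ι C' →ₐ[C'] B) w₀ := by
  classical
  have hd : ∀ s, Qm C' C₁ ι (r s - r₀ s) = 0 := by
    intro s
    rw [map_sub, ← Qσ_apply, ← Qσ_apply, hr, sub_self]
  choose w'' hw'' using fun s => exists_mult_eq J hJ (r s - r₀ s) (hd s)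
  have h1 : mult J (w - w₀) = mult J (∑ s ∈ (r - r₀).support, F' s • w'' s) := by
    rw [map_sub, hw, hw₀, ← map_sub, ΨA, Finsupp.linearCombination_apply, Finsupp.sum, map_sum]
    refine Finset.sum_congr rfl fun s _ => ?_
    rw [mult_smul, hw'', Finsupp.sub_apply, smul_eq_mul, mul_comm]
  have h2 := mult_injective J h1
  rw [← sub_eq_zero, ← map_sub, h2, map_sum]
  refine Finset.sum_eq_zero fun s _ => ?_
  rw [mu_smul, gam_apply, hF'ev, map_zero, zero_smul]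

variable [Module.Flat C₁ B]
  (hb : ∀ i, algebraMap B B₀ (b₁ i) = P.val i)
  (hp : Function.Surjective (algebraMap C' C₁))
  (hres₁ : Function.Surjective (algebraMap C₁ k))
  (hkerπ₁ : RingHom.ker (algebraMap B B₀) ≤ Ideal.map (algebraMap C₁ B) (RingHom.ker (algebraMap C₁ k)))
  (n : ℕ) (hn : (RingHom.ker (algebraMap C₁ k)) ^ n = ⊥)
  (hF₁ρ : ∀ s, ρP P (F₁ s) = P.relation s) (hF₁ev : ∀ s, aeval b₁ (F₁ s) = 0)
  (hF' : ∀ s, Qm C' C₁ ι (F' s) = F₁ s)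

include hF₁ev hF' in
lemma aeval_F' (s : σ) : aeval b₁ (F' s) = 0 := by
  rw [← aeval_Qm (C₁ := C₁), hF', hF₁ev]

include hJ hb hp hres₁ hkerπ₁ hn hF₁ρ hF₁ev hF' in
/-- the obstruction map is well defined: the kernel condition -/
lemma mu_eq_zero_of_ρσP_eq_zero (r : σ →₀ MvPolynomial ι C') (w : MvPolynomial ι C' ⊗[C'] J)
    (hr : ρσP P r = 0) (hw : mult J w = ΨA F' r) :
    mu (k := k) (B₀ := B₀) J (aeval b₁ : MvPolynomial ι C' →ₐ[C'] B) w = 0 := by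
  have h1 : ΨA F₁ (Qσ C' C₁ ι σ r) = 0 := by
    rw [← Qm_ΨA F' F₁ hF', ← hw, Qm_mult J hJ]
  have h2 : ρσP P (Qσ C' C₁ ι σ r) = 0 := by rw [ρσP_Qσ, hr]
  have h3 := mem_smul_ker_ΨA P b₁ F₁ hF₁ρ hF₁ev hb hres₁ hkerπ₁ n hn _ h1 h2
  have h4 : ∃ (r₀ : σ →₀ MvPolynomial ι C') (w₀ : MvPolynomial ι C' ⊗[C'] J),
      Qσ C' C₁ ι σ r₀ = Qσ C' C₁ ι σ r ∧ mult J w₀ = ΨA F' r₀ ∧
      mu (k := k) (B₀ := B₀) J (aeval b₁ : MvPolynomial ι C' →ₐ[C'] B) w₀ = 0 := by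
    refine Submodule.smul_induction_on (p := fun rb => ∃ (r₀ : σ →₀ MvPolynomial ι C')
      (w₀ : MvPolynomial ι C' ⊗[C'] J), Qσ C' C₁ ι σ r₀ = rb ∧ mult J w₀ = ΨA F' r₀ ∧
      mu (k := k) (B₀ := B₀) J (aeval b₁ : MvPolynomial ι C' →ₐ[C'] B) w₀ = 0) h3 ?_ ?_
    · intro a ha t ht
      obtain ⟨a', rfl⟩ := hp a
      obtain ⟨t', rfl⟩ := Qσ_surjective (ι := ι) (σ := σ) hp t
      have ht' : ΨA F₁ (Qσ C' C₁ ι σ t') = 0 := ht
      have h5 : Qm C' C₁ ι (ΨA F' t') = 0 := by rw [Qm_ΨA F' F₁ hF', ht']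
      obtain ⟨wt, hwt⟩ := exists_mult_eq J hJ _ h5
      have ha' : algebraMap C' k a' = 0 := by
        rw [IsScalarTower.algebraMap_apply C' C₁ k]
        exact ha
      refine ⟨(C a' : MvPolynomial ι C') • t', (C a' : MvPolynomial ι C') • wt, ?_, ?_, ?_⟩
      · rw [Qσ_smul, Qm_C]
        ext s : 1
        rw [Finsupp.smul_apply, Finsupp.smul_apply, smul_eq_mul, MvPolynomial.C_mul']
      · rw [mult_smul, hwt, map_smul, smul_eq_mul]
      · rw [mu_smul, gam_apply, aeval_C, ← IsScalarTower.algebraMap_apply C' B B₀,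
          IsScalarTower.algebraMap_apply C' k B₀, ha', map_zero, zero_smul]
    · rintro _ _ ⟨r₀, w₀, rfl, h5, h6⟩ ⟨r₀', w₀', rfl, h5', h6'⟩
      exact ⟨r₀ + r₀', w₀ + w₀', map_add _ _ _, by rw [map_add, map_add, h5, h5'],
        by rw [map_add, h6, h6', add_zero]⟩
  obtain ⟨r₀, w₀, h5, h6, h7⟩ := h4
  rw [mu_eq_of_Qσ_eq (k := k) (B₀ := B₀) J b₁ F' hJ (aeval_F' b₁ F₁ F' hF₁ev hF') r r₀ w w₀ h5.symm hw h6, h7]

include hJ hb hp hres₁ hkerπ₁ hn hF₁ρ hF₁ev hF' in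
/-- the obstruction map is well defined -/
lemma mu_eq_of_ρσP_eq (r r' : σ →₀ MvPolynomial ι C') (w w' : MvPolynomial ι C' ⊗[C'] J)
    (hr : ρσP P r = ρσP P r') (hw : mult J w = ΨA F' r) (hw' : mult J w' = ΨA F' r') :
    mu (k := k) (B₀ := B₀) J (aeval b₁ : MvPolynomial ι C' →ₐ[C'] B) w =
      mu (k := k) (B₀ := B₀) J (aeval b₁ : MvPolynomial ι C' →ₐ[C'] B) w' := by
  rw [← sub_eq_zero, ← map_sub]
  refine mu_eq_zero_of_ρσP_eq_zero P J b₁ F₁ F' hJ hb hp hres₁ hkerπ₁ n hn hF₁ρ hF₁ev hF' (r - r') (w - w')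
    ?_ ?_
  · rw [map_sub, hr, sub_self]
  · rw [map_sub, map_sub, hw, hw']

omit [Module k J] [IsScalarTower C' k J] in
include hJ hb hp hres₁ hkerπ₁ hn hF₁ρ hF₁ev hF' in
/-- the kernel of `C'[X] → B` is generated by the `F' s` and `J` -/
lemma exists_decomp (x : MvPolynomial ι C') (hx : aeval b₁ x = 0) :
    ∃ (r : σ →₀ MvPolynomial ι C') (w : MvPolynomial ι C' ⊗[C'] J), ΨA F' r + mult J w = x := by
  have h1 : aeval b₁ (Qm C' C₁ ι x) = 0 := by rw [aeval_Qm, hx]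
  obtain ⟨rb, hrb⟩ := ΨK_surjective P b₁ F₁ hF₁ρ hF₁ev hb hres₁ hkerπ₁ n hn ⟨Qm C' C₁ ι x, h1⟩
  have h2 : ΨA F₁ rb = Qm C' C₁ ι x := by
    rw [← coe_ΨK b₁ F₁ hF₁ev, hrb]
  obtain ⟨r, rfl⟩ := Qσ_surjective (ι := ι) (σ := σ) hp rb
  have h3 : Qm C' C₁ ι (x - ΨA F' r) = 0 := by
    rw [map_sub, Qm_ΨA F' F₁ hF', h2, sub_self]
  obtain ⟨w, hw⟩ := exists_mult_eq J hJ _ h3
  exact ⟨r, w, by rw [hw]; abel⟩

omit [Module k J] [IsScalarTower C' k J] in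
include hJ hb hp hres₁ hkerπ₁ hn hF₁ρ hF₁ev hF' in
/-- relations among the relations of `P` lift to relations among the `F' s` modulo `J` -/
lemma exists_lift_rel' (q : CotT.relMod P) (hq : CotT.jmap P q = 0) :
    ∃ (r : σ →₀ MvPolynomial ι C') (w : MvPolynomial ι C' ⊗[C'] J), ρσP P r = q ∧ mult J w = ΨA F' r := by
  obtain ⟨rb, hrb, hrb0⟩ := exists_lift_rel P b₁ F₁ hF₁ρ hF₁ev hb hres₁ hkerπ₁ n hn q hq
  obtain ⟨r, rfl⟩ := Qσ_surjective (ι := ι) (σ := σ) hp rb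
  have h3 : Qm C' C₁ ι (ΨA F' r) = 0 := by rw [Qm_ΨA F' F₁ hF', hrb0]
  obtain ⟨w, hw⟩ := exists_mult_eq J hJ _ h3
  exact ⟨r, w, by rw [← hrb, ρσP_Qσ], hw⟩

end Core

end Groth.Agent.LibT2ObsL29
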