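import Groth.Agent.LibT2ObsL29e
import Groth.Agent.LibT2Obs29f

/-!
# The obstruction to lifting a flat algebra along a small surjection lies in `T²`, mixed characteristic version
(seat helper29), part 3

If `T²(B₀/k, B₀ ⊗_k J) = 0` there is a `J`-compatible extension of `B` by `B₀ ⊗_k J`, hence a flat lift of `B`.
Copy of the main section of `LibT2Obs29f` in which `C'` is no longer a `k`-algebra.
-/

set_option autoImplicit false
universe u

namespace Groth.Agent.LibT2ObsL29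

open TensorProduct MvPolynomial Groth.Agent.LibExal29 Groth.Agent.LibT2Obs29 Groth.Agent.LibLiftL29
open Groth.Agent.LibLift29 (gam gam_apply mult mult_tmul LiftDatum JCompat)

section Main

variable {k C' C₁ B B₀ : Type u} [Field k] [CommRing C'] [CommRing C₁] [CommRing B] [CommRing B₀]
  [Algebra C' k] [Algebra C' B] [Algebra k B₀] [Algebra B B₀] [Algebra C' B₀]
  [IsScalarTower C' B B₀] [IsScalarTower C' k B₀]
  [Algebra C' C₁] [Algebra C₁ B] [IsScalarTower C' C₁ B]
  [Algebra C₁ k] [IsScalarTower C' C₁ k] [Algebra C₁ B₀] [IsScalarTower C₁ B B₀] [IsScalarTower C₁ k B₀]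
  {ι σ : Type u}
  {P : Algebra.Presentation k B₀ ι σ} {J : Ideal C'} [Module k J] [IsScalarTower C' k J]
  {b₁ : ι → B} {F₁ : σ → MvPolynomial ι C₁}
  {F' : σ → MvPolynomial ι C'} (S : Setup P J b₁ F₁ F')

include S in
lemma Setup.aeval_surjective : Function.Surjective (aeval b₁ : MvPolynomial ι C' →ₐ[C'] B) := by
  obtain ⟨n, hn⟩ := S.hnil
  intro y
  obtain ⟨x₁, rfl⟩ := Groth.Agent.LibT2Obs29.aeval_surjective P b₁ S.hb S.hres₁ S.hkerπ₁ n hn y
  obtain ⟨x, rfl⟩ := Qm_surjective (ι := ι) S.hp x₁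
  exact ⟨x, (aeval_Qm b₁ x).symm⟩

/-- if `T²` with coefficients in `B₀ ⊗ J` vanishes, a `J`-compatible extension exists -/
theorem exists_jcompat_ext (hT2 : Subsingleton (CotT.T2 P (B₀ ⊗[k] J))) :
    ∃ X : Exal.Ext C' B (B₀ ⊗[k] J), JCompat (tauJ (k := k) (B₀ := B₀) J S.hJ) X := by
  obtain ⟨m, hm⟩ := exists_of_subsingleton_T2 P hT2 S.ob S.ob_add S.ob_smul S.ob_triv
  refine exists_jcompat_of_phi (aeval b₁ : MvPolynomial ι C' →ₐ[C'] B) S.aeval_surjective _ (S.phi m)
    (fun x y hx hy hxy => S.phi_add m hm x y hx hy hxy)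
    (fun a x hx hax => S.phi_smul m hm a x hx hax) ?_
  intro j hj
  exact S.phi_C m hm ⟨j.1, (S.hJ _).mpr (RingHom.mem_ker.mp j.2)⟩ hj

end Main

end Groth.Agent.LibT2ObsL29
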