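import Mathlib.Algebra.Homology.Monoidal
import Mathlib.Algebra.Category.ModuleCat.Monoidal.Basic
import Mathlib.Algebra.Category.ModuleCat.Abelian
import Mathlib.Algebra.Homology.QuasiIso
import Mathlib.Algebra.Homology.Single
import Mathlib.LinearAlgebra.FreeModule.Basic
import Mathlib.Algebra.Category.ModuleCat.Colimits
import Mathlib.RingTheory.Flat.Basic
import Mathlib.Algebra.Homology.SingleHomology
import Mathlib.Algebra.Homology.ShortComplex.ModuleCat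
import Groth.Agent.Lib.Helper18.ModHomology

/-!
# helper29: H_1(C ⊗ P) → H_1(C ⊗ Q) for chain complexes of modules (tensor product of complexes)

Elementwise API for the monoidal structure on `ChainComplex (ModuleCat R) ℕ` in low degrees
(`ι`, `ι_d_*`, `d_ι_*`, `map_ι`, `exists_decomp_one/two`) and `isIso_homologyMap_one` / `main`:
if `C_0` is flat and `π : P ⟶ G[0]` is a quasi-isomorphism then `H_1(C ◁ π)` is an isomorphism.
-/

set_option autoImplicit false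
universe v
open CategoryTheory MonoidalCategory HomologicalComplex

namespace Groth.Agent.LibTensorH1Res29

variable {R : Type v} [CommRing R] (C P : ChainComplex (ModuleCat.{v} R) ℕ)

/-- the inclusion of a summand -/
noncomputable abbrev ι (a b n : ℕ) (h : a + b = n) : C.X a ⊗ P.X b ⟶ (C ⊗ P).X n :=
  HomologicalComplex.ιTensorObj C P a b n h

instance (a b n : ℕ) (h : a + b = n) : Mono (ι C P a b n h) := by
  dsimp [ι, ιTensorObj, ιMapBifunctor, HomologicalComplex₂.ιTotal, GradedObject.ιMapObj]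
  have h1 := Limits.isSplitMono_sigma_ι
    ((((GradedObject.mapBifunctor (curriedTensor (ModuleCat R)) ℕ ℕ).obj C.X).obj P.X).mapObjFun
        ((ComplexShape.down ℕ).π (ComplexShape.down ℕ) (ComplexShape.down ℕ)) n) ⟨(a, b), h⟩
  exact @IsSplitMono.mono _ _ _ _ _ h1

lemma ι_d_succ_zero (a : ℕ) :
    ι C P (a+1) 0 (a+1) rfl ≫ (C ⊗ P).d (a+1) a =
      (C.d (a+1) a ▷ P.X 0) ≫ ι C P a 0 a rfl := by
  change ιMapBifunctor C P (curriedTensor _) _ (a+1) 0 (a+1) rfl ≫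
    (mapBifunctor C P (curriedTensor _) _).d (a+1) a = _
  rw [mapBifunctor.d_eq, Preadditive.comp_add, mapBifunctor.ι_D₁, mapBifunctor.ι_D₂,
    mapBifunctor.d₂_eq_zero, add_zero, mapBifunctor.d₁_eq C P _ _ (i₁' := a) (by simp) 0 a rfl]
  · simp
  · simp

lemma ι_d_zero_succ (b : ℕ) :
    ι C P 0 (b+1) (b+1) (by simp) ≫ (C ⊗ P).d (b+1) b =
      (C.X 0 ◁ P.d (b+1) b) ≫ ι C P 0 b b (by simp) := by
  change ιMapBifunctor C P (curriedTensor _) _ 0 (b+1) (b+1) (by simp) ≫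
    (mapBifunctor C P (curriedTensor _) _).d (b+1) b = _
  rw [mapBifunctor.d_eq, Preadditive.comp_add, mapBifunctor.ι_D₁, mapBifunctor.ι_D₂,
    mapBifunctor.d₁_eq_zero, zero_add, mapBifunctor.d₂_eq C P _ _ 0 (i₂' := b) (by simp) b (by simp)]
  · simp
  · simp

lemma ι_d_one_one :
    ι C P 1 1 2 rfl ≫ (C ⊗ P).d 2 1 =
      (C.d 1 0 ▷ P.X 1) ≫ ι C P 0 1 1 rfl - (C.X 1 ◁ P.d 1 0) ≫ ι C P 1 0 1 rfl := by
  change ιMapBifunctor C P (curriedTensor _) _ 1 1 2 rfl ≫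
    (mapBifunctor C P (curriedTensor _) _).d 2 1 = _
  rw [mapBifunctor.d_eq, Preadditive.comp_add, mapBifunctor.ι_D₁, mapBifunctor.ι_D₂,
    mapBifunctor.d₁_eq C P _ _ (i₁' := 0) (by simp) 1 1 rfl,
    mapBifunctor.d₂_eq C P _ _ 1 (i₂' := 0) (by simp) 1 rfl]
  simp [sub_eq_add_neg]

variable {P} {Q : ChainComplex (ModuleCat.{v} R) ℕ} (π : P ⟶ Q)

lemma ι_map (a b n : ℕ) (h : a + b = n) :
    ι C P a b n h ≫ (C ◁ π).f n = (C.X a ◁ π.f b) ≫ ι C Q a b n h := by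
  change ιMapBifunctor C P (curriedTensor _) _ a b n h ≫
    (mapBifunctorMap (𝟙 C) π (curriedTensor _) _).f n = _
  rw [ι_mapBifunctorMap]
  simp

variable (P)

lemma mkQ_eq_zero_of_forall {n : ℕ} (S : Submodule R ((C ⊗ P).X n))
    (H : ∀ (a b : ℕ) (h : a + b = n) (u : (C.X a ⊗ P.X b : ModuleCat R)),
      (ι C P a b n h).hom u ∈ S) : S = ⊤ := by
  have hq : (ModuleCat.ofHom S.mkQ : (C ⊗ P).X n ⟶ ModuleCat.of R (_ ⧸ S)) = 0 := by
    refine mapBifunctor.hom_ext (K₁ := C) (K₂ := P) (F := curriedTensor _)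
      (c := ComplexShape.down ℕ) ?_
    intro i₁ i₂ h
    ext u
    have := H i₁ i₂ h u
    exact (Submodule.Quotient.mk_eq_zero S).2 this
  rw [← Submodule.ker_mkQ S]
  have : S.mkQ = 0 := congrArg ModuleCat.Hom.hom hq
  rw [this, LinearMap.ker_zero]

lemma exists_decomp_one (x : ((C ⊗ P).X 1 : ModuleCat R)) :
    ∃ (a : (C.X 1 ⊗ P.X 0 : ModuleCat R)) (b : (C.X 0 ⊗ P.X 1 : ModuleCat R)),
      x = (ι C P 1 0 1 rfl).hom a + (ι C P 0 1 1 rfl).hom b := by
  let S : Submodule R ((C ⊗ P).X 1) :=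
    LinearMap.range (ι C P 1 0 1 rfl).hom ⊔ LinearMap.range (ι C P 0 1 1 rfl).hom
  have hS : S = ⊤ := by
    apply mkQ_eq_zero_of_forall
    intro a b h u
    obtain ⟨rfl, rfl⟩ | ⟨rfl, rfl⟩ : (a = 1 ∧ b = 0) ∨ (a = 0 ∧ b = 1) := by omega
    · exact Submodule.mem_sup_left ⟨u, rfl⟩
    · exact Submodule.mem_sup_right ⟨u, rfl⟩
  have hx : x ∈ S := hS ▸ Submodule.mem_top
  obtain ⟨y, ⟨a, rfl⟩, z, ⟨b, rfl⟩, rfl⟩ := Submodule.mem_sup.1 hx
  exact ⟨a, b, rfl⟩

lemma exists_decomp_two (x : ((C ⊗ P).X 2 : ModuleCat R)) :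
    ∃ (a : (C.X 2 ⊗ P.X 0 : ModuleCat R)) (b : (C.X 1 ⊗ P.X 1 : ModuleCat R))
      (c : (C.X 0 ⊗ P.X 2 : ModuleCat R)),
      x = (ι C P 2 0 2 rfl).hom a + (ι C P 1 1 2 rfl).hom b + (ι C P 0 2 2 rfl).hom c := by
  let S : Submodule R ((C ⊗ P).X 2) :=
    (LinearMap.range (ι C P 2 0 2 rfl).hom ⊔ LinearMap.range (ι C P 1 1 2 rfl).hom) ⊔
      LinearMap.range (ι C P 0 2 2 rfl).hom
  have hS : S = ⊤ := by
    apply mkQ_eq_zero_of_forall
    intro a b h u
    obtain ⟨rfl, rfl⟩ | ⟨rfl, rfl⟩ | ⟨rfl, rfl⟩ :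
      (a = 2 ∧ b = 0) ∨ (a = 1 ∧ b = 1) ∨ (a = 0 ∧ b = 2) := by omega
    · exact Submodule.mem_sup_left (Submodule.mem_sup_left ⟨u, rfl⟩)
    · exact Submodule.mem_sup_left (Submodule.mem_sup_right ⟨u, rfl⟩)
    · exact Submodule.mem_sup_right ⟨u, rfl⟩
  have hx : x ∈ S := hS ▸ Submodule.mem_top
  obtain ⟨y, hy, z, ⟨c, rfl⟩, rfl⟩ := Submodule.mem_sup.1 hx
  obtain ⟨y1, ⟨a, rfl⟩, y2, ⟨b, rfl⟩, rfl⟩ := Submodule.mem_sup.1 hy
  exact ⟨a, b, c, rfl⟩

lemma d_ι_succ_zero (a : ℕ) (u : (C.X (a+1) ⊗ P.X 0 : ModuleCat R)) :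
    ((C ⊗ P).d (a+1) a).hom ((ι C P (a+1) 0 (a+1) rfl).hom u) =
      (ι C P a 0 a rfl).hom ((C.d (a+1) a ▷ P.X 0).hom u) := by
  have := congrArg (fun m => m.hom u) (ι_d_succ_zero C P a)
  simpa only [ModuleCat.hom_comp, LinearMap.comp_apply] using this

lemma d_ι_zero_succ (b : ℕ) (u : (C.X 0 ⊗ P.X (b+1) : ModuleCat R)) :
    ((C ⊗ P).d (b+1) b).hom ((ι C P 0 (b+1) (b+1) (by simp)).hom u) =
      (ι C P 0 b b (by simp)).hom ((C.X 0 ◁ P.d (b+1) b).hom u) := by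
  have := congrArg (fun m => m.hom u) (ι_d_zero_succ C P b)
  simpa only [ModuleCat.hom_comp, LinearMap.comp_apply] using this

lemma d_ι_one_one (u : (C.X 1 ⊗ P.X 1 : ModuleCat R)) :
    ((C ⊗ P).d 2 1).hom ((ι C P 1 1 2 rfl).hom u) =
      (ι C P 0 1 1 rfl).hom ((C.d 1 0 ▷ P.X 1).hom u) -
        (ι C P 1 0 1 rfl).hom ((C.X 1 ◁ P.d 1 0).hom u) := by
  have := congrArg (fun m => m.hom u) (ι_d_one_one C P)
  simpa only [ModuleCat.hom_comp, LinearMap.comp_apply, ModuleCat.hom_sub,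
    LinearMap.sub_apply] using this

variable {P} in
lemma map_ι {Q : ChainComplex (ModuleCat.{v} R) ℕ} (π : P ⟶ Q) (a b n : ℕ) (h : a + b = n)
    (u : (C.X a ⊗ P.X b : ModuleCat R)) :
    ((C ◁ π).f n).hom ((ι C P a b n h).hom u) = (ι C Q a b n h).hom ((C.X a ◁ π.f b).hom u) := by
  have := congrArg (fun m => m.hom u) (ι_map C π a b n h)
  simpa only [ModuleCat.hom_comp, LinearMap.comp_apply] using this

lemma ι_injective (a b n : ℕ) (h : a + b = n) : Function.Injective (ι C P a b n h).hom :=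
  (ModuleCat.mono_iff_injective _).1 inferInstance

lemma eq_zero_of_subsingleton_right (M N : ModuleCat.{v} R) [Subsingleton N]
    (w : (M ⊗ N : ModuleCat R)) : w = 0 := by
  induction w using TensorProduct.induction_on with
  | zero => rfl
  | tmul x y => rw [Subsingleton.elim y 0, TensorProduct.tmul_zero]
  | add x y hx hy => rw [hx, hy, add_zero]

lemma exch {W X Y Z : ModuleCat.{v} R} (f : W ⟶ X) (g : Y ⟶ Z) (t : (W ⊗ Y : ModuleCat R)) :
    (f ▷ Z).hom ((W ◁ g).hom t) = (X ◁ g).hom ((f ▷ Y).hom t) := by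
  have := congrArg (fun m => m.hom t) (whisker_exchange f g)
  simpa only [ModuleCat.hom_comp, LinearMap.comp_apply] using this

lemma dd_whiskerRight (Z : ModuleCat.{v} R) (t : (C.X 2 ⊗ Z : ModuleCat R)) :
    (C.d 1 0 ▷ Z).hom ((C.d 2 1 ▷ Z).hom t) = 0 := by
  have h : C.d 2 1 ▷ Z ≫ C.d 1 0 ▷ Z = 0 := by
    rw [← comp_whiskerRight, C.d_comp_d, MonoidalPreadditive.zero_whiskerRight]
  have := congrArg (fun m => m.hom t) h
  simpa only [ModuleCat.hom_comp, LinearMap.comp_apply, ModuleCat.hom_zero,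
    LinearMap.zero_apply] using this

variable {P} in
theorem isIso_homologyMap_one {Q : ChainComplex (ModuleCat.{v} R) ℕ} (π : P ⟶ Q)
    [Module.Flat R (C.X 0)]
    [hQ1 : Subsingleton (Q.X 1)] [hQ2 : Subsingleton (Q.X 2)]
    (hsurj : Function.Surjective (π.f 0).hom)
    (hex0 : Function.Exact (P.d 1 0).hom (π.f 0).hom)
    (hex1 : Function.Exact (P.d 2 1).hom (P.d 1 0).hom) :
    IsIso (HomologicalComplex.homologyMap (C ◁ π) 1) := by
  have E3 : ∀ a, Function.Surjective (C.X a ◁ π.f 0).hom :=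
    fun a => LinearMap.lTensor_surjective _ hsurj
  have E12 : ∀ a, Function.Exact (C.X a ◁ P.d 1 0).hom (C.X a ◁ π.f 0).hom :=
    fun a => lTensor_exact _ hex0 hsurj
  have E4 : Function.Exact (C.X 0 ◁ P.d 2 1).hom (C.X 0 ◁ P.d 1 0).hom :=
    Module.Flat.lTensor_exact _ hex1
  haveI : Mono (HomologicalComplex.homologyMap (C ◁ π) 1) := by
    rw [Groth.Agent.Lib.helper18.mono_homologyMap_iff_elementwise (C ◁ π) 2 1 0 (by simp) (by simp)]
    intro x hx y hxy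
    obtain ⟨a, b, rfl⟩ := exists_decomp_one C P x
    obtain ⟨y2, y11, y02, rfl⟩ := exists_decomp_two C Q y
    obtain rfl := eq_zero_of_subsingleton_right _ _ y11
    obtain rfl := eq_zero_of_subsingleton_right _ _ y02
    have h1 : ((C ◁ π).f 1).hom ((ι C P 1 0 1 rfl).hom a + (ι C P 0 1 1 rfl).hom b) =
        (ι C Q 1 0 1 rfl).hom ((C.X 1 ◁ π.f 0).hom a) := by
      rw [map_add, map_ι, map_ι, eq_zero_of_subsingleton_right _ _ ((C.X 0 ◁ π.f 1).hom b),
        map_zero, add_zero]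
    have h2 : ((C ⊗ Q).d 2 1).hom ((ι C Q 2 0 2 rfl).hom y2 + (ι C Q 1 1 2 rfl).hom 0 +
        (ι C Q 0 2 2 rfl).hom 0) = (ι C Q 1 0 1 rfl).hom ((C.d 2 1 ▷ Q.X 0).hom y2) := by
      rw [map_zero, map_zero, add_zero, add_zero, d_ι_succ_zero]
    rw [h1, h2] at hxy
    have h3 := ι_injective C Q 1 0 1 rfl hxy
    obtain ⟨y', hy'⟩ := E3 2 y2
    have h4 : (C.X 1 ◁ π.f 0).hom (a - (C.d 2 1 ▷ P.X 0).hom y') = 0 := by
      rw [map_sub, h3, ← hy', exch, sub_self]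
    obtain ⟨u, hu⟩ := ((E12 1) _).1 h4
    -- the cycle condition
    have hx' : (C.d 1 0 ▷ P.X 0).hom a + (C.X 0 ◁ P.d 1 0).hom b = 0 := by
      rw [map_add, d_ι_succ_zero, d_ι_zero_succ, ← map_add] at hx
      exact ι_injective C P 0 0 0 rfl (hx.trans (map_zero _).symm)
    have h5 : (C.X 0 ◁ P.d 1 0).hom (b + (C.d 1 0 ▷ P.X 1).hom u) = 0 := by
      rw [map_add, ← exch, hu, map_sub, dd_whiskerRight, sub_zero, add_comm]
      exact hx'
    obtain ⟨v, hv⟩ := (E4 _).1 h5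
    refine ⟨(ι C P 2 0 2 rfl).hom y' - (ι C P 1 1 2 rfl).hom u + (ι C P 0 2 2 rfl).hom v, ?_⟩
    rw [map_add, map_sub, d_ι_succ_zero, d_ι_one_one, d_ι_zero_succ, hv, hu, map_add, map_sub]
    abel
  haveI : Epi (HomologicalComplex.homologyMap (C ◁ π) 1) := by
    rw [Groth.Agent.Lib.helper18.epi_homologyMap_iff_elementwise (C ◁ π) 2 1 0 (by simp) (by simp)]
    intro y hy
    obtain ⟨u, w, rfl⟩ := exists_decomp_one C Q y
    obtain rfl := eq_zero_of_subsingleton_right _ _ w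
    rw [map_zero, add_zero] at hy ⊢
    rw [d_ι_succ_zero] at hy
    have hu : (C.d 1 0 ▷ Q.X 0).hom u = 0 :=
      ι_injective C Q 0 0 0 rfl (hy.trans (map_zero _).symm)
    obtain ⟨u', hu'⟩ := E3 1 u
    have ht : (C.X 0 ◁ π.f 0).hom ((C.d 1 0 ▷ P.X 0).hom u') = 0 := by
      rw [← exch, hu', hu]
    obtain ⟨w, hw⟩ := ((E12 0) _).1 ht
    refine ⟨(ι C P 1 0 1 rfl).hom u' - (ι C P 0 1 1 rfl).hom w, ?_, 0, ?_⟩
    · rw [map_sub, d_ι_succ_zero, d_ι_zero_succ, hw, sub_self]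
    · rw [map_zero]
      refine Eq.trans ?_ (add_zero _).symm
      rw [map_sub, map_ι, map_ι, hu',
        eq_zero_of_subsingleton_right _ _ ((C.X 0 ◁ π.f 1).hom w), map_zero, sub_zero]
  exact isIso_of_mono_of_epi _

theorem main (G : ModuleCat.{v} R) [Module.Flat R (C.X 0)]
    (π : P ⟶ (ChainComplex.single₀ (ModuleCat.{v} R)).obj G) [QuasiIso π] :
    IsIso (HomologicalComplex.homologyMap (C ◁ π) 1) := by
  haveI hQ1 : Subsingleton (((ChainComplex.single₀ (ModuleCat.{v} R)).obj G).X 1) :=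
    ModuleCat.subsingleton_of_isZero (isZero_single_obj_X _ _ _ _ (by simp))
  haveI hQ2 : Subsingleton (((ChainComplex.single₀ (ModuleCat.{v} R)).obj G).X 2) :=
    ModuleCat.subsingleton_of_isZero (isZero_single_obj_X _ _ _ _ (by simp))
  -- degree 1 exactness
  have hex1 : Function.Exact (P.d 2 1).hom (P.d 1 0).hom := by
    have hE : ((ChainComplex.single₀ (ModuleCat.{v} R)).obj G).ExactAt 1 :=
      exactAt_single_obj _ _ _ _ (by simp)
    have hP : P.ExactAt 1 := (quasiIsoAt_iff_exactAt' π 1 hE).1 inferInstance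
    rw [P.exactAt_iff' 2 1 0 (by simp) (by simp)] at hP
    exact (ShortComplex.ShortExact.moduleCat_exact_iff_function_exact _).1 hP
  -- degree 0
  have hiso : IsIso (HomologicalComplex.homologyMap π 0) := by
    have : QuasiIsoAt π 0 := inferInstance
    exact (quasiIsoAt_iff_isIso_homologyMap π 0).1 this
  have hmono := (Groth.Agent.Lib.helper18.mono_homologyMap_iff_elementwise π 1 0 0
    (by simp) (by simp)).1 inferInstance
  have hepi := (Groth.Agent.Lib.helper18.epi_homologyMap_iff_elementwise π 1 0 0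
    (by simp) (by simp)).1 inferInstance
  have hsurj : Function.Surjective (π.f 0).hom := by
    intro y
    obtain ⟨x, -, y₁, hy⟩ := hepi y (by rw [HomologicalComplex.shape _ 0 0 (by simp)]; rfl)
    refine ⟨x, ?_⟩
    rw [hy, Subsingleton.elim y₁ 0, map_zero, add_zero]
  have hex0 : Function.Exact (P.d 1 0).hom (π.f 0).hom := by
    intro x
    constructor
    · intro hx
      obtain ⟨x₁, hx₁⟩ := hmono x (by rw [P.shape 0 0 (by simp)]; rfl) 0 (by rw [hx, map_zero])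
      exact ⟨x₁, hx₁.symm⟩
    · rintro ⟨x₁, rfl⟩
      have := congrArg (fun m => m.hom x₁) (π.comm 1 0)
      simp only [ModuleCat.hom_comp, LinearMap.comp_apply] at this
      rw [← this, Subsingleton.elim ((π.f 1).hom x₁) 0, map_zero]
  exact isIso_homologyMap_one C π hsurj hex0 hex1

end Groth.Agent.LibTensorH1Res29
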