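import Groth.Agent.S9161
import Mathlib.RingTheory.Extension.Cotangent.Basic
import Mathlib.RingTheory.Kaehler.Polynomial

/-!
# The cotangent modules of two extensions with projective-like lifting (helper29)

For two extensions `P`, `Q` of `S` over `R` admitting homs in both directions, the two-term
naive cotangent complexes are homotopy equivalent, hence
`P.Cotangent × Q.CotangentSpace ≃ Q.Cotangent × P.CotangentSpace`.
-/

set_option autoImplicit false

namespace Groth.Agent.LibTwoPres29

open Algebra TensorProduct

universe u

variable {R S : Type u} [CommRing R] [CommRing S] [Algebra R S]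

theorem nonempty_equiv_of_homs (P Q : Algebra.Extension.{u} R S) (f : P.Hom Q) (g : Q.Hom P) :
    Nonempty ((P.Cotangent × Q.CotangentSpace) ≃ₗ[S] (Q.Cotangent × P.CotangentSpace)) := by
  refine Groth.Agent.S9161.result S P.Cotangent P.CotangentSpace Q.Cotangent Q.CotangentSpace
    P.cotangentComplex Q.cotangentComplex
    (Extension.Cotangent.map f) (Extension.CotangentSpace.map f)
    (Extension.Cotangent.map g) (Extension.CotangentSpace.map g) ?_ ?_
    ((Extension.Hom.id P).sub (g.comp f)) ?_ ?_
    ((Extension.Hom.id Q).sub (f.comp g)) ?_ ?_
  · exact (Extension.CotangentSpace.map_comp_cotangentComplex f).symm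
  · exact (Extension.CotangentSpace.map_comp_cotangentComplex g).symm
  · have := Extension.Cotangent.map_sub_map (Extension.Hom.id P) (g.comp f)
    rw [Extension.Cotangent.map_id, Extension.Cotangent.map_comp] at this
    exact this
  · have := Extension.CotangentSpace.map_sub_map (Extension.Hom.id P) (g.comp f)
    rw [Extension.CotangentSpace.map_id, Extension.CotangentSpace.map_comp] at this
    exact this
  · have := Extension.Cotangent.map_sub_map (Extension.Hom.id Q) (f.comp g)
    rw [Extension.Cotangent.map_id, Extension.Cotangent.map_comp] at this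
    exact this
  · have := Extension.CotangentSpace.map_sub_map (Extension.Hom.id Q) (f.comp g)
    rw [Extension.CotangentSpace.map_id, Extension.CotangentSpace.map_comp] at this
    exact this

/-- a hom of extensions out of a polynomial presentation -/
noncomputable def homOfMvPolynomial {σ : Type} (α : MvPolynomial σ R →ₐ[R] S)
    (hα : Function.Surjective α) (Q : Algebra.Extension.{u} R S) :
    (Extension.ofSurjective α hα).Hom Q where
  toRingHom := (MvPolynomial.aeval (fun i => Q.σ (α (MvPolynomial.X i))) :
    MvPolynomial σ R →ₐ[R] Q.Ring).toRingHom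
  toRingHom_algebraMap x := by
    change (MvPolynomial.aeval (fun i => Q.σ (α (MvPolynomial.X i))) :
      MvPolynomial σ R →ₐ[R] Q.Ring) (algebraMap R (MvPolynomial σ R) x) = _
    rw [AlgHom.commutes]
    rfl
  algebraMap_toRingHom x := by
    change algebraMap Q.Ring S ((MvPolynomial.aeval (fun i => Q.σ (α (MvPolynomial.X i))) :
      MvPolynomial σ R →ₐ[R] Q.Ring) x) = α x
    have : (IsScalarTower.toAlgHom R Q.Ring S).comp
        (MvPolynomial.aeval (fun i => Q.σ (α (MvPolynomial.X i))) :
          MvPolynomial σ R →ₐ[R] Q.Ring) = α := by
      apply MvPolynomial.algHom_ext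
      intro i
      simp
    exact AlgHom.congr_fun this x

/-- the cotangent space of an extension whose ring has free differentials -/
noncomputable def cotangentSpaceEquivFun (P : Algebra.Extension.{u} R S) {ι : Type*} [Finite ι]
    (b : Module.Basis ι P.Ring Ω[P.Ring⁄R]) : P.CotangentSpace ≃ₗ[S] (ι → S) :=
  (b.baseChange S).equivFun

end Groth.Agent.LibTwoPres29
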