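import Mathlib
import Groth.Prelude.Def_W4stkdualitygroupp2Univ

open MvPolynomial Synt

namespace Groth.Agent.LibUnivAlg29

variable (n d : ℕ)

/-- The zero exponent vector. -/
def E0 : UnivIdx n d := ⟨fun _ => 0, by simp⟩

lemma E0_exponent : (E0 n d).exponent = 0 := by
  ext j
  simp [E0, UnivIdx.exponent]

/-- Index set of the variables of the polynomial ring isomorphic to the universal algebra. -/
abbrev Idx := {p : Fin n × UnivIdx n d // p.2 ≠ E0 n d} ⊕ Fin n

/-- The polynomial ring over `ℤ` isomorphic to the universal algebra. -/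
abbrev P := MvPolynomial (Idx n d) ℤ

/-- The monomial `x^E` in `P`. -/
noncomputable def xmon (E : UnivIdx n d) : P n d :=
  E.exponent.prod fun j e => (X (Sum.inr j) : P n d) ^ e

lemma xmon_E0 : xmon n d (E0 n d) = 1 := by
  simp [xmon, E0_exponent]

/-- The image of the variable `a_{i,E}` in `P`. -/
noncomputable def aImg (p : Fin n × UnivIdx n d) : P n d :=
  if h : p.2 = E0 n d then
    - ∑ E : {E : UnivIdx n d // E ≠ E0 n d}, X (Sum.inl ⟨(p.1, E.1), E.2⟩) * xmon n d E.1
  else X (Sum.inl ⟨p, h⟩)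

/-- The map on coefficients. -/
noncomputable def φ0 : UnivBase n d →+* P n d :=
  (aeval (aImg n d) : UnivBase n d →ₐ[ℤ] P n d).toRingHom

/-- The map `A[x] → P`. -/
noncomputable def φ : MvPolynomial (Fin n) (UnivBase n d) →+* P n d :=
  eval₂Hom (φ0 n d) (fun j => X (Sum.inr j))

lemma φ_univPoly (i : Fin n) : φ n d (univPoly n d i) = 0 := by
  classical
  simp only [univPoly, map_sum, φ, coe_eval₂Hom, eval₂_monomial]
  rw [Fintype.sum_eq_add_sum_subtype_ne _ (E0 n d)]
  have h1 : ∀ E : UnivIdx n d, (φ0 n d) (X (i, E)) = aImg n d (i, E) := by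
    intro E
    simp [φ0]
  simp only [h1]
  have h2 : aImg n d (i, E0 n d) = - ∑ E : {E : UnivIdx n d // E ≠ E0 n d},
      X (Sum.inl ⟨(i, E.1), E.2⟩) * xmon n d E.1 := by
    simp [aImg]
  have h3 : ∀ E : {E : UnivIdx n d // E ≠ E0 n d},
      aImg n d (i, E.1) = X (Sum.inl ⟨(i, E.1), E.2⟩) := by
    intro E
    simp [aImg, E.2]
  rw [h2]
  simp only [h3]
  have h4 : ((E0 n d).exponent.prod fun j e => (X (Sum.inr j) : P n d) ^ e) = 1 := xmon_E0 n d
  rw [h4, mul_one]
  simp only [xmon]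
  exact neg_add_cancel _

lemma univIdeal_le_ker : univIdeal n d ≤ RingHom.ker (φ n d) := by
  rw [univIdeal, Ideal.span_le]
  rintro _ ⟨i, rfl⟩
  exact φ_univPoly n d i

/-- The descended map `B → P`. -/
noncomputable def φbar : UnivAlg n d →+* P n d :=
  Ideal.Quotient.lift (univIdeal n d) (φ n d) (fun _ ha => univIdeal_le_ker n d ha)

lemma φbar_mk (a : MvPolynomial (Fin n) (UnivBase n d)) :
    φbar n d (UnivAlg.mk n d a) = φ n d a := by
  simp [φbar, UnivAlg.mk]
  exact Ideal.Quotient.lift_mk _ _ _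

/-- The inverse map `P → B`. -/
noncomputable def ψ : P n d →+* UnivAlg n d :=
  (aeval (Sum.elim (fun p : {p : Fin n × UnivIdx n d // p.2 ≠ E0 n d} =>
      UnivAlg.mk n d (C (X p.1)))
    (fun j => UnivAlg.mk n d (X j))) : P n d →ₐ[ℤ] UnivAlg n d).toRingHom

lemma ψ_inl (p : {p : Fin n × UnivIdx n d // p.2 ≠ E0 n d}) :
    ψ n d (X (Sum.inl p)) = UnivAlg.mk n d (C (X p.1)) := by
  simp [ψ]

lemma ψ_inr (j : Fin n) : ψ n d (X (Sum.inr j)) = UnivAlg.mk n d (X j) := by
  simp [ψ]

lemma mk_univPoly (i : Fin n) : UnivAlg.mk n d (univPoly n d i) = 0 := by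
  simp only [UnivAlg.mk]
  exact Ideal.Quotient.eq_zero_iff_mem.mpr (Ideal.subset_span ⟨i, rfl⟩)

lemma ψ_xmon (E : UnivIdx n d) :
    ψ n d (xmon n d E) = UnivAlg.mk n d (monomial E.exponent 1) := by
  simp only [xmon, Finsupp.prod, map_prod, map_pow, ψ_inr]
  rw [← prod_X_pow_eq_monomial, map_prod]
  simp only [map_pow]

lemma φ_C_X_of_ne (p : Fin n × UnivIdx n d) (h : p.2 ≠ E0 n d) :
    φ n d (C (X p)) = X (Sum.inl ⟨p, h⟩) := by
  simp [φ, φ0, aImg, h]

lemma φ_X (j : Fin n) : φ n d (X j) = X (Sum.inr j) := by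
  simp [φ]

lemma φbar_ψ (a : P n d) : φbar n d (ψ n d a) = a := by
  have : (φbar n d).comp (ψ n d) = RingHom.id _ := by
    apply MvPolynomial.ringHom_ext
    · intro r
      simp
    · rintro (p | j)
      · simp only [RingHom.comp_apply, ψ_inl, φbar_mk, RingHom.id_apply]
        exact φ_C_X_of_ne n d p.1 p.2
      · simp only [RingHom.comp_apply, ψ_inr, φbar_mk, RingHom.id_apply]
        exact φ_X n d j
  exact RingHom.congr_fun this a

lemma ψ_φ_C_X (p : Fin n × UnivIdx n d) :
    ψ n d (φ n d (C (X p))) = UnivAlg.mk n d (C (X p)) := by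
  classical
  by_cases h : p.2 = E0 n d
  · obtain ⟨i, E⟩ := p
    simp only at h
    subst h
    have h1 : φ n d (C (X (i, E0 n d))) = - ∑ E : {E : UnivIdx n d // E ≠ E0 n d},
        X (Sum.inl ⟨(i, E.1), E.2⟩) * xmon n d E.1 := by
      simp [φ, φ0, aImg]
    rw [h1, map_neg, map_sum]
    simp only [map_mul, ψ_inl, ψ_xmon]
    have h2 := mk_univPoly n d i
    rw [univPoly, map_sum, Fintype.sum_eq_add_sum_subtype_ne _ (E0 n d)] at h2
    have h3 : ∀ E : UnivIdx n d, (monomial E.exponent (X (i, E)) :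
        MvPolynomial (Fin n) (UnivBase n d)) = C (X (i, E)) * monomial E.exponent 1 := by
      intro E
      rw [C_mul_monomial, mul_one]
    have h4 : (monomial (E0 n d).exponent (X (i, E0 n d)) :
        MvPolynomial (Fin n) (UnivBase n d)) = C (X (i, E0 n d)) := by
      rw [E0_exponent]; rfl
    rw [h4] at h2
    simp only [h3, map_mul] at h2
    exact (eq_neg_of_add_eq_zero_left h2).symm
  · rw [φ_C_X_of_ne n d p h, ψ_inl]

lemma ψ_φ (a : MvPolynomial (Fin n) (UnivBase n d)) :
    ψ n d (φ n d a) = UnivAlg.mk n d a := by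
  have : (ψ n d).comp (φ n d) = (UnivAlg.mk n d).toRingHom := by
    apply MvPolynomial.ringHom_ext
    · intro r
      have : ((ψ n d).comp (φ n d)).comp C = (UnivAlg.mk n d).toRingHom.comp C := by
        apply MvPolynomial.ringHom_ext
        · intro z
          simp
        · intro p
          exact ψ_φ_C_X n d p
      exact RingHom.congr_fun this r
    · intro j
      simp only [RingHom.comp_apply, φ_X, ψ_inr]
      rfl
  exact RingHom.congr_fun this a

lemma ψ_φbar (b : UnivAlg n d) : ψ n d (φbar n d b) = b := by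
  obtain ⟨a, rfl⟩ : ∃ a, UnivAlg.mk n d a = b := Ideal.Quotient.mk_surjective b
  rw [φbar_mk, ψ_φ]

/-- The universal algebra is a polynomial ring over `ℤ`. -/
noncomputable def equivP : UnivAlg n d ≃+* P n d :=
  RingEquiv.ofRingHom (φbar n d) (ψ n d)
    (RingHom.ext fun a => φbar_ψ n d a) (RingHom.ext fun b => ψ_φbar n d b)

theorem isDomain_univAlg : IsDomain (UnivAlg n d) :=
  (equivP n d).toMulEquiv.isDomain (P n d)

theorem isRegularRing_univAlg : IsRegularRing (UnivAlg n d) :=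
  IsRegularRing.of_ringEquiv (equivP n d).symm

end Groth.Agent.LibUnivAlg29
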