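import Mathlib
import Groth.Agent.LibUnivAlg29a

open MvPolynomial Synt

namespace Groth.Agent.LibUnivAlg29

open Algebra

universe u v t w

/-- Localizing at the jacobian of a pre-submersive presentation of dimension `0` gives an étale
algebra. -/
theorem etale_away_jacobian {R : Type u} {S : Type v} {ι : Type w} {σ : Type t}
    [CommRing R] [CommRing S] [Algebra R S] [Finite ι] [Finite σ]
    (P : PreSubmersivePresentation R S ι σ) (hdim : P.dimension = 0) :
    Algebra.Etale R (Localization.Away P.jacobian) := by
  let Q := SubmersivePresentation.localizationAway (Localization.Away P.jacobian) P.jacobian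
  let PQ : SubmersivePresentation R (Localization.Away P.jacobian) (Unit ⊕ ι) (Unit ⊕ σ) :=
    { toPreSubmersivePresentation := Q.toPreSubmersivePresentation.comp P
      jacobian_isUnit := by
        rw [PreSubmersivePresentation.comp_jacobian_eq_jacobian_smul_jacobian]
        have h1 : IsUnit (algebraMap S (Localization.Away P.jacobian) P.jacobian) :=
          IsLocalization.map_units _ (⟨P.jacobian, 1, by simp⟩ : Submonoid.powers P.jacobian)
        have h2 : IsUnit Q.jacobian := Q.jacobian_isUnit
        rw [Algebra.smul_def]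
        exact h1.mul h2 }
  have hd : PQ.dimension = 0 := by
    have := PreSubmersivePresentation.dimension_comp_eq_dimension_add_dimension
      Q.toPreSubmersivePresentation P
    have h2 : Q.dimension = 0 := Presentation.localizationAway_dimension_zero P.jacobian
    change (Q.toPreSubmersivePresentation.comp P).dimension = 0
    rw [this, hdim, h2]
  haveI := PQ.isStandardSmoothOfRelativeDimension hd
  infer_instance

theorem isEtaleAt_of_jacobian_notMem {R : Type u} {S : Type v} {ι : Type w} {σ : Type t}
    [CommRing R] [CommRing S] [Algebra R S] [Finite ι] [Finite σ]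
    (P : PreSubmersivePresentation R S ι σ) (hdim : P.dimension = 0)
    (q : Ideal S) [q.IsPrime] (hq : P.jacobian ∉ q) : Algebra.IsEtaleAt R q := by
  haveI := etale_away_jacobian P hdim
  have h : ↑(PrimeSpectrum.basicOpen P.jacobian) ⊆ Algebra.etaleLocus R S :=
    Algebra.basicOpen_subset_etaleLocus_iff.mpr inferInstance
  exact h (show (⟨q, ‹_›⟩ : PrimeSpectrum S) ∈ PrimeSpectrum.basicOpen P.jacobian from hq)

theorem quasiFiniteAt_of_jacobian_notMem {R : Type u} {S : Type v} {ι : Type w} {σ : Type t}
    [CommRing R] [CommRing S] [Algebra R S] [Finite ι] [Finite σ]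
    (P : PreSubmersivePresentation R S ι σ) (hdim : P.dimension = 0)
    (q : Ideal S) [q.IsPrime] (hq : P.jacobian ∉ q) : Algebra.QuasiFiniteAt R q := by
  haveI : Algebra.IsEtaleAt R q := isEtaleAt_of_jacobian_notMem P hdim q hq
  haveI : Algebra.FinitePresentation R S := P.finitePresentation_of_isFinite
  haveI : Algebra.EssFiniteType R (Localization.AtPrime q) :=
    Algebra.EssFiniteType.comp R S (Localization.AtPrime q)
  haveI : Algebra.FormallyUnramified R (Localization.AtPrime q) := inferInstance
  show Algebra.QuasiFinite R (Localization.AtPrime q)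
  infer_instance

section point

variable (n d : ℕ)

/-- The unit exponent vector `e_i` as an index (needs `1 ≤ d`). -/
def eIdx (hd : 1 ≤ d) (i : Fin n) : UnivIdx n d :=
  ⟨fun j => if j = i then ⟨1, by omega⟩ else ⟨0, by omega⟩, by
    have : ∀ j : Fin n, (((if j = i then (⟨1, by omega⟩ : Fin (d + 1)) else ⟨0, by omega⟩) :
        Fin (d + 1)) : ℕ) = if j = i then 1 else 0 := by
      intro j; split_ifs <;> rfl
    simp only [this, Finset.sum_ite_eq', Finset.mem_univ, if_true]
    exact hd⟩

lemma eIdx_exponent (hd : 1 ≤ d) (i : Fin n) :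
    (eIdx n d hd i).exponent = Finsupp.single i 1 := by
  ext j
  simp only [UnivIdx.exponent, eIdx, Finsupp.equivFunOnFinite_symm_apply_apply,
    Finsupp.single_apply]
  by_cases h : j = i
  · simp [h]
  · have h' : ¬ i = j := fun e => h e.symm
    simp [h, h']

/-- The point of `Spec A`: `a_{i,E} ↦ 1` if `E = e_i`, `0` otherwise (so that `f_i = x_i`). -/
noncomputable def pt (hd : 1 ≤ d) (p : Fin n × UnivIdx n d) : ℤ :=
  open Classical in if p.2 = eIdx n d hd p.1 then 1 else 0

/-- Evaluation `A → ℤ` at `pt`. -/
noncomputable def evA (hd : 1 ≤ d) : UnivBase n d →+* ℤ := MvPolynomial.eval (pt n d hd)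

/-- Evaluation `A[x] → ℤ` at `pt` and `x = 0`. -/
noncomputable def ev (hd : 1 ≤ d) : MvPolynomial (Fin n) (UnivBase n d) →+* ℤ :=
  eval₂Hom (evA n d hd) (fun _ => 0)

lemma ev_monomial (hd : 1 ≤ d) (t : Fin n →₀ ℕ) (c : UnivBase n d) :
    ev n d hd (monomial t c) = if t = 0 then evA n d hd c else 0 := by
  simp only [ev, coe_eval₂Hom, eval₂_monomial]
  split_ifs with h
  · subst h; simp
  · obtain ⟨k, hk⟩ : ∃ k, t k ≠ 0 := by
      by_contra hcon
      push Not at hcon
      exact h (Finsupp.ext hcon)
    have : (t.prod fun _ e => (0 : ℤ) ^ e) = 0 := by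
      rw [Finsupp.prod]
      exact Finset.prod_eq_zero (Finsupp.mem_support_iff.mpr hk) (zero_pow hk)
    rw [this, mul_zero]

lemma ev_univPoly (hd : 1 ≤ d) (i : Fin n) : ev n d hd (univPoly n d i) = 0 := by
  classical
  simp only [univPoly, map_sum, ev_monomial]
  apply Finset.sum_eq_zero
  intro E _
  split_ifs with h
  · simp only [evA, eval_X, pt]
    rw [if_neg]
    intro hE
    rw [hE, eIdx_exponent] at h
    have := DFunLike.congr_fun h i
    simp at this
  · rfl

lemma ev_pderiv_univPoly (hd : 1 ≤ d) (i j : Fin n) :
    ev n d hd (pderiv i (univPoly n d j)) = if i = j then 1 else 0 := by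
  classical
  simp only [univPoly, map_sum, pderiv_monomial, ev_monomial]
  rw [Finset.sum_eq_single (eIdx n d hd j)]
  · rw [eIdx_exponent]
    by_cases hij : i = j
    · subst hij
      simp [evA, pt]
    · have : ¬ j = i := fun e => hij e.symm
      simp [hij, evA]
  · intro E _ hE
    split_ifs with h
    · simp only [evA, map_mul, eval_X, pt]
      rw [if_neg hE, zero_mul]
    · rfl
  · intro h
    exact absurd (Finset.mem_univ _) h

/-- The naive pre-submersive presentation of the universal algebra. -/
noncomputable def pres : PreSubmersivePresentation (UnivBase n d) (UnivAlg n d) (Fin n) (Fin n) :=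
  (PreSubmersivePresentation.naive (v := univPoly n d) id Function.injective_id :
    PreSubmersivePresentation (UnivBase n d)
      (MvPolynomial (Fin n) (UnivBase n d) ⧸ univIdeal n d) (Fin n) (Fin n))

lemma pres_dimension : (pres n d).dimension = 0 := by
  simp [Presentation.dimension]

/-- Evaluation `B → ℤ`. -/
noncomputable def evB (hd : 1 ≤ d) : UnivAlg n d →+* ℤ :=
  Ideal.Quotient.lift (univIdeal n d) (ev n d hd) (by
    have : univIdeal n d ≤ RingHom.ker (ev n d hd) := by
      rw [univIdeal, Ideal.span_le]
      rintro _ ⟨i, rfl⟩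
      exact ev_univPoly n d hd i
    exact fun a ha => this ha)

lemma evB_algebraMap (hd : 1 ≤ d) (a : (pres n d).Ring) :
    evB n d hd (algebraMap (pres n d).Ring (UnivAlg n d) a) = ev n d hd a := by
  have : (evB n d hd).comp (algebraMap (pres n d).Ring (UnivAlg n d)) = ev n d hd := by
    apply MvPolynomial.ringHom_ext
    · intro r
      simp only [RingHom.comp_apply]
      have h1 : algebraMap (pres n d).Ring (UnivAlg n d) (C r) =
          Ideal.Quotient.mk (univIdeal n d) (C r) := by
        refine ((pres n d).toGenerators.algebraMap_apply (C r)).trans ?_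
        rw [aeval_C]
        rfl
      rw [h1]
      exact Ideal.Quotient.lift_mk _ _ _
    · intro i
      simp only [RingHom.comp_apply]
      have h1 : algebraMap (pres n d).Ring (UnivAlg n d) (X i) =
          Ideal.Quotient.mk (univIdeal n d) (X i) := by
        refine ((pres n d).toGenerators.algebraMap_apply (X i)).trans ?_
        rw [aeval_X]
        rfl
      rw [h1]
      exact Ideal.Quotient.lift_mk _ _ _
  exact RingHom.congr_fun this a

lemma evB_jacobian (hd : 1 ≤ d) : evB n d hd (pres n d).jacobian = 1 := by
  classical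
  rw [PreSubmersivePresentation.jacobian_eq_jacobiMatrix_det]
  refine (evB_algebraMap n d hd _).trans ?_
  rw [RingHom.map_det]
  have : (ev n d hd).mapMatrix (pres n d).jacobiMatrix = 1 := by
    ext i j
    rw [RingHom.mapMatrix_apply, Matrix.map_apply, Matrix.one_apply]
    have : (pres n d).jacobiMatrix i j = pderiv i (univPoly n d j) :=
      PreSubmersivePresentation.jacobiMatrix_naive (v := univPoly n d) id
        Function.injective_id _ _ i j
    rw [this]
    exact ev_pderiv_univPoly n d hd i j
  rw [this, Matrix.det_one]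

theorem exists_etale_point (hd : 1 ≤ d) : ∃ q : PrimeSpectrum (UnivAlg n d),
    Algebra.QuasiFiniteAt (UnivBase n d) q.asIdeal ∧ Algebra.IsEtaleAt (UnivBase n d) q.asIdeal := by
  have hq : (RingHom.ker (evB n d hd)).IsPrime := RingHom.ker_isPrime _
  have hj : (pres n d).jacobian ∉ RingHom.ker (evB n d hd) := by
    rw [RingHom.mem_ker, evB_jacobian]
    exact one_ne_zero
  exact ⟨⟨RingHom.ker (evB n d hd), hq⟩,
    quasiFiniteAt_of_jacobian_notMem (pres n d) (pres_dimension n d) _ hj,
    isEtaleAt_of_jacobian_notMem (pres n d) (pres_dimension n d) _ hj⟩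

end point

end Groth.Agent.LibUnivAlg29
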