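import Groth.Statements.S0005
-- import your own Groth.Agent.* helpers here
import Groth.Agent.S0250
import Groth.Agent.S0247
import Groth.Agent.S0259
import Groth.Agent.Lib.Helper26.Depth7

set_option autoImplicit false
universe u
open FEt

namespace Groth.Agent.S0005

open CategoryTheory AlgebraicGeometry in
/-- Purity for finite étale covers, global form: let X be a Noetherian scheme all of whose local rings
are regular and U ⊆ X an open subscheme such that every point of X outside U has local ring of Krull
dimension at least 2. Then restriction of finite étale covers from X to U is an equivalence of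
categories. -/
theorem result (X : Scheme.{u}) [IsNoetherian X]
    (hreg : ∀ x : X, IsRegularLocalRing (X.presheaf.stalk x)) (U : X.Opens)
    (hU : ∀ x : X, x ∉ U → (2 : WithBot ℕ∞) ≤ ringKrullDim (X.presheaf.stalk x)) :
    (FEt.restrict U.ι).IsEquivalence := by
  have hdepth : ∀ x : X, x ∉ U →
      (2 : ℕ∞) ≤ LocCoh.depth (X.presheaf.stalk x) (X.presheaf.stalk x) := by
    intro x hx
    have := hreg x
    have h1 := Groth.Agent.Lib.helper26.Depth.depth_eq_ringKrullDim_of_isRegularLocalRing
      (X.presheaf.stalk x)
    have h2 := hU x hx
    rw [← h1] at h2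
    have h3 : ((2 : ℕ∞) : WithBot ℕ∞) ≤
        ((LocCoh.depth (X.presheaf.stalk x) (X.presheaf.stalk x) : ℕ∞) : WithBot ℕ∞) := h2
    exact WithBot.coe_le_coe.mp h3
  obtain ⟨hfull, hfaith⟩ := Groth.Agent.S0259.main U hdepth
  have hess : (FEt.restrict U.ι).EssSurj :=
    Groth.Agent.S0250.result U (fun x hx => by
      have := hreg x
      exact Groth.Agent.S0247.result _ (hU x hx))
  exact { faithful := hfaith, full := hfull, essSurj := hess }

end Groth.Agent.S0005
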