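import Groth.Statements.S0008
import Groth.Agent.Lib.Helper27.CechSpec
-- import your own Groth.Agent.* helpers here

set_option autoImplicit false
universe u
open Coherent

namespace Groth.Agent.S0008

open AlgebraicGeometry in
/-- For a ring A, an A-module M and elements f_1, …, f_n generating the unit ideal, the Čech cohomology
of the associated module on Spec A with respect to the covering by the basic opens D(f_i) vanishes
in every positive degree. -/
theorem result (A : Type u) [CommRing A] (M : ModuleCat.{u} A)
    (n : ℕ) (f : ULift.{u} (Fin n) → A) (hf : Ideal.span (Set.range f) = ⊤) (p : ℕ) (hp : 0 < p) :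
    CategoryTheory.Limits.IsZero (CohB1.cechH (fun i => PrimeSpectrum.basicOpen (f i)) (tilde (R := CommRingCat.of A) M) p) := by
  obtain ⟨q, rfl⟩ : ∃ q, p = q + 1 := ⟨p - 1, by omega⟩
  have h := Groth.Agent.Lib.helper27.CechSpec.exactAt_of_span_eq_top
    (R := CommRingCat.of A) (tilde (R := CommRingCat.of A) M)
    (isLocalizing_tilde (R := CommRingCat.of A) M) (ι := ULift.{u} (Fin n)) f hf q
  rw [HomologicalComplex.exactAt_iff_isZero_homology] at h
  unfold CohB1.cechH CohB1.cechHTop
  exact h

end Groth.Agent.S0008
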