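import Groth.Statements.S0018
import Mathlib
import Groth.Agent.Lib.Helper16.CohFinite

set_option autoImplicit false
universe u
open Coherent

namespace Groth.Agent.S0018

section helpers
open CategoryTheory CategoryTheory.Limits AlgebraicGeometry TopologicalSpace

open Opposite
open Groth.Agent.Lib.helper16.CohFinite

theorem main (X : Scheme.{u}) [IsLocallyNoetherian X] (M : X.Modules) :
    Coh.IsCoh M ↔ CohB1.IsFP M :=
  ⟨fun h => isFinitePresentation_of_isCoh M h, fun h => isCoh_of_isFinitePresentation M h⟩


end helpers


open AlgebraicGeometry in
/-- On a locally Noetherian scheme an O_X-module is quasi-coherent of finite type if and only if it is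
of finite presentation. (Either condition is what 'coherent' means there.) -/
theorem result (X : Scheme.{u}) [IsLocallyNoetherian X] (M : X.Modules) :
    Coh.IsCoh M ↔ CohB1.IsFP M := by
  exact main X M

end Groth.Agent.S0018
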