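import Groth.Statements.S0023
import Groth.Agent.S0013
import Groth.Agent.Lib.Helper19.ProjSpaceProper
import Groth.Agent.Lib.Helper20.ProjGamma
import Groth.Agent.Lib.Helper20.ProjCechO

set_option autoImplicit false
universe u
open Coherent

namespace Groth.Agent.S0023

open AlgebraicGeometry in
/-- Special case of the twist d = 0 in positive degree: H^q(P^n_R, O) = 0 for all q > 0 and any ring R.
(The full statement computes all H^q(P^n_R, O(d)); only the untwisted part is stated here.) -/
theorem result (n : ℕ) (R : Type u) [CommRing R]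
    (q : ℕ) (hq : 0 < q) :
    Subsingleton (Coh.HH (CohB1.ProjSpace n R) (Coh.structureModule (CohB1.ProjSpace n R)) q) := by
  obtain ⟨p, rfl⟩ : ∃ p, q = p + 1 := ⟨q - 1, by omega⟩
  have hcov : ⨆ k, Groth.Agent.Lib.Helper20.ProjCechO.U n R k = ⊤ := by
    have h1 := Proj.iSup_basicOpen_eq_top (CohB1.polyGrading n R)
      (MvPolynomial.X : Fin (n + 1) → MvPolynomial (Fin (n + 1)) R)
      (Groth.Agent.Lib.Helper20.ProjGamma.irrelevant_le n R)
    rw [← h1]
    apply le_antisymm
    · exact iSup_le fun k => le_iSup (fun i : Fin (n + 1) =>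
        Proj.basicOpen (CohB1.polyGrading n R) (MvPolynomial.X i)) k.down
    · exact iSup_le fun i => le_iSup (Groth.Agent.Lib.Helper20.ProjCechO.U n R) (ULift.up i)
  have hsep : IsSeparated (CohB1.ProjSpace.toSpec n R) := inferInstance
  have hdiag : IsAffineHom (CategoryTheory.Limits.pullback.diagonal (CohB1.ProjSpace.toSpec n R)) :=
    inferInstance
  have hU : ∀ s : Finset (Groth.Agent.Lib.Helper20.ProjCechO.ι n), s.Nonempty →
      IsAffineOpen (⨅ i ∈ s, Groth.Agent.Lib.Helper20.ProjCechO.U n R i) := by
    intro s hs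
    induction hs using Finset.Nonempty.cons_induction with
    | singleton a =>
      simp only [Finset.mem_singleton, iInf_iInf_eq_left]
      exact Proj.isAffineOpen_basicOpen _ _
        (Groth.Agent.Lib.Helper20.ProjGamma.X_mem n R a.down) one_pos
    | cons a s ha hs ih =>
      rw [Finset.cons_eq_insert, Finset.iInf_insert]
      exact isAffineHom_diagonal_iff.mp hdiag ⊤ (isAffineOpen_top _) _
        (by rw [Scheme.Hom.preimage_top]; exact le_top) _
        (by rw [Scheme.Hom.preimage_top]; exact le_top)
        (Proj.isAffineOpen_basicOpen _ _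
          (Groth.Agent.Lib.Helper20.ProjGamma.X_mem n R a.down) one_pos) ih
  have hqc : Coh.IsQCoh (Coh.structureModule (CohB1.ProjSpace n R)) := by
    have h : (SheafOfModules.free (R := (CohB1.ProjSpace n R).ringCatSheaf)
        PUnit.{u + 1}).IsQuasicoherent := inferInstance
    let e : SheafOfModules.free (R := (CohB1.ProjSpace n R).ringCatSheaf) PUnit.{u + 1} ≅
        SheafOfModules.unit (CohB1.ProjSpace n R).ringCatSheaf :=
      CategoryTheory.Limits.coproductUniqueIso
        (fun _ : PUnit.{u + 1} => SheafOfModules.unit (CohB1.ProjSpace n R).ringCatSheaf)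
    exact (SheafOfModules.isQuasicoherent (CohB1.ProjSpace n R).ringCatSheaf).prop_of_iso e h
  obtain ⟨e⟩ := Groth.Agent.S0013.result (CohB1.ProjSpace n R)
    (Groth.Agent.Lib.Helper20.ProjCechO.U n R) hcov hU
    (Coh.structureModule (CohB1.ProjSpace n R)) (p + 1)
  have hex := Groth.Agent.Lib.Helper20.ProjCechO.exactAt_cech n R p
  rw [HomologicalComplex.exactAt_iff_isZero_homology] at hex
  have hsub : Subsingleton (CohB1.cechH (Groth.Agent.Lib.Helper20.ProjCechO.U n R)
      (Coh.structureModule (CohB1.ProjSpace n R)) (p + 1)) :=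
    AddCommGrpCat.subsingleton_of_isZero hex
  exact @Equiv.subsingleton _ _ e.symm.toEquiv hsub

end Groth.Agent.S0023
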