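import Groth.Statements.S0037
import Groth.Agent.Lib.Helper11.StalkZero
import Groth.Agent.Lib.Helper27.RpushVanish

set_option autoImplicit false
universe u
open Coherent

namespace Groth.Agent.S0037

open AlgebraicGeometry CategoryTheory in
/-- Let Y be locally Noetherian, f : X → Y proper and y a point whose fibre f⁻¹{y} is finite. Then for
every coherent F on X and every p > 0 the stalk of R^p f_* F at y vanishes. -/
theorem result {X Y : Scheme.{u}} (f : X ⟶ Y) [IsProper f]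
    [IsLocallyNoetherian Y] (y : Y) (hy : (f.base ⁻¹' {y}).Finite) (M : X.Modules) (hM : Coh.IsCoh M)
    (p : ℕ) (hp : 0 < p) :
    Limits.IsZero (TopCat.Presheaf.stalk ((Coh.RpushAb f p).obj (Coh.toAb M)).obj y) := by
  obtain ⟨V, hyV, hfin⟩ := exists_isFinite_morphismRestrict_of_finite_preimage_singleton f y hy
  obtain ⟨e⟩ := Groth.Agent.Lib.helper27.RpushSheafify.rpush_iso_top f.base (Coh.toAb M) p
  refine Limits.IsZero.of_iso ?_ ((TopCat.Presheaf.stalkFunctor AddCommGrpCat.{u} y).mapIso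
    ((sheafToPresheaf _ _).mapIso e))
  apply Groth.Agent.Lib.helper11.StalkZero.isZero_stalk_sheafify
  intro W hyW
  obtain ⟨W', hW', hyW', hW'le⟩ := (TopologicalSpace.Opens.isBasis_iff_nbhd.1 Y.isBasis_affineOpens)
    (show y ∈ W ⊓ V from ⟨hyW, hyV⟩)
  refine ⟨W', hW'le.trans inf_le_left, hyW', ?_⟩
  have hW'V : W' ≤ V := hW'le.trans inf_le_right
  have e1 : V.ι ''ᵁ (V.ι ⁻¹ᵁ W') = W' := by
    rw [Scheme.Hom.image_preimage_eq_opensRange_inf, Scheme.Opens.opensRange_ι]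
    exact inf_eq_right.mpr hW'V
  have h1 : IsAffineOpen (V.ι ⁻¹ᵁ W') := by
    rw [← V.ι.isAffineOpen_iff_of_isOpenImmersion, e1]
    exact hW'
  have h2 : IsAffineOpen ((f ∣_ V) ⁻¹ᵁ (V.ι ⁻¹ᵁ W')) := h1.preimage (f ∣_ V)
  have haff : IsAffineOpen (f ⁻¹ᵁ W') := by
    have h3 := h2.image_of_isOpenImmersion (f ⁻¹ᵁ V).ι
    rw [image_morphismRestrict_preimage, e1] at h3
    exact h3
  obtain ⟨i, rfl⟩ : ∃ i, p = i + 1 := ⟨p - 1, by omega⟩
  have hq : M.IsQuasicoherent := hM.1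
  exact Groth.Agent.Lib.helper27.SerreVan.subsingleton_HU_of_isAffineOpen M (f ⁻¹ᵁ W') haff i

end Groth.Agent.S0037
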