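import Groth.Statements.S0043
import Groth.Agent.Lib.Helper11.AmpleAffine
import Groth.Agent.Lib.Helper12.AmpleQAff

set_option autoImplicit false
universe u
open Coherent

namespace Groth.Agent.S0043

open AlgebraicGeometry in
/-- If X is quasi-affine and H^p(X, O_X) = 0 for all p > 0, then X is affine. -/
theorem result (X : Scheme.{u}) [X.IsQuasiAffine]
    (h : ∀ p : ℕ, 0 < p → Subsingleton (Coh.HH X (Coh.structureModule X) p)) : IsAffine X := by
  refine Groth.Agent.Lib.helper11.AmpleAffine.isAffine_of_vanishing_inverse_powers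
    (L := Coh.structureModule X) (L' := Coh.structureModule X)
    Groth.Agent.Lib.helper12.AmpleQAff.isAmple_structureModule_of_isQuasiAffine
    Groth.Agent.Lib.Lead.ModTensor.isInverseOf_unit 0 fun n _ p hp => ?_
  exact Groth.Agent.Lib.helper11.RelSerre.subsingleton_HH_of_iso
    (Groth.Agent.Lib.Lead.ModTensor.tensorPowUnit n).symm p (h p hp)

end Groth.Agent.S0043
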