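import Groth.Statements.S0048
import Mathlib
import Groth.Agent.Lib.Helper16.QCohPushLoc
import Groth.Agent.Lib.Helper16.CohFinite

set_option autoImplicit false
universe u
open Coherent

namespace Groth.Agent.S0048

section helpers
open CategoryTheory CategoryTheory.Limits AlgebraicGeometry TopologicalSpace

open Opposite
open Scheme.Modules Groth.Agent.Lib.helper7 Groth.Agent.Lib.helper16 Groth.Agent.Lib.helper16.QCohPush

theorem main (X : Scheme.{u}) (U : X.Opens) (T : Set X)
    (hT : IsClosed T) (hTU : T ⊆ (U : Set X)) (F : (↑U : Scheme.{u}).Modules) (hF : Coh.IsCoh F)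
    (hs : ∀ x : ↥U, x ∈ CohB1.support F → (x : X) ∈ T) : Coh.IsCoh ((Coh.push U.ι).obj F) := by
  haveI : F.IsQuasicoherent := hF.1
  let Tc : X.Opens := ⟨Tᶜ, hT.isOpen_compl⟩
  let ι : Type u := {V : X.affineOpens // V.1 ≤ U ∨ V.1 ≤ Tc}
  let W : ι → X.Opens := fun V => V.1.1
  have hW : ∀ i, IsAffineOpen (W i) := fun i => i.1.2
  have hcov : ⨆ i, W i = ⊤ := by
    rw [eq_top_iff]
    intro x _
    have hx : x ∈ U ∨ x ∈ Tc := by
      by_cases h : x ∈ T
      · exact Or.inl (hTU h)
      · exact Or.inr h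
    rcases hx with hx | hx
    · obtain ⟨V, hV, hxV, hVU⟩ :=
        Opens.isBasis_iff_nbhd.mp X.isBasis_affineOpens hx
      exact Opens.mem_iSup.mpr ⟨⟨⟨V, hV⟩, Or.inl hVU⟩, hxV⟩
    · obtain ⟨V, hV, hxV, hVU⟩ :=
        Opens.isBasis_iff_nbhd.mp X.isBasis_affineOpens hx
      exact Opens.mem_iSup.mpr ⟨⟨⟨V, hV⟩, Or.inr hVU⟩, hxV⟩
  -- sections vanish away from T
  have hzero : ∀ V' : (↑U : Scheme.{u}).Opens, (∀ x ∈ V', x.1 ∉ T) → Subsingleton Γ(F, V') := by
    intro V' hV'
    apply QCohPushLoc.subsingleton_sections_of_stalks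
    intro x hx
    by_contra hne
    exact hV' x hx (hs x hne)
  have haff : ∀ i : ι, i.1.1 ≤ U → IsAffineOpen (U.ι ⁻¹ᵁ W i) := fun i hi =>
    i.1.2.preimage_of_isOpenImmersion U.ι (by rw [Scheme.Opens.opensRange_ι]; exact hi)
  have hqc : ((Scheme.Modules.pushforward U.ι).obj F).IsQuasicoherent := by
    refine QCohPushLoc.isQuasicoherent_push_of_cover U.ι F W hW hcov (fun i => ?_)
    rcases i.2 with hi | hi
    · exact Or.inl ⟨(haff i hi).isCompact, (haff i hi).isQuasiSeparated⟩
    · refine Or.inr (fun V' hV' => hzero V' (fun x hx hxT => ?_))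
      exact (hi (hV' hx)) hxT
  haveI : (push U.ι F).IsQuasicoherent := hqc
  refine CohFinite.isCoh_of_finite_sections (push U.ι F) W hW hcov (fun i => ?_)
  rcases i.2 with hi | hi
  · haveI : Module.Finite Γ(↑U, U.ι ⁻¹ᵁ W i) Γ(F, U.ι ⁻¹ᵁ W i) :=
      CohFinite.finite_sections_of_isCoh F hF (haff i hi)
    refine QCohPushLoc.finite_push_sections_of_surjective U.ι F ?_
    have himg : U.ι ''ᵁ U.ι ⁻¹ᵁ W i = W i := by
      rw [Scheme.Hom.image_preimage_eq_opensRange_inf, Scheme.Opens.opensRange_ι]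
      exact inf_eq_right.mpr hi
    rw [Scheme.Opens.ι_app]
    have hiso : IsIso (X.presheaf.map (homOfLE (x := U.ι ''ᵁ U.ι ⁻¹ᵁ W i)
        (Set.image_preimage_subset _ _)).op) := by
      have : IsIso (homOfLE (x := U.ι ''ᵁ U.ι ⁻¹ᵁ W i) (y := W i)
          (Set.image_preimage_subset _ _)) :=
        ⟨⟨homOfLE himg.ge, rfl, rfl⟩⟩
      infer_instance
    exact ((ConcreteCategory.isIso_iff_bijective _).mp hiso).2
  · haveI : Subsingleton Γ(F, U.ι ⁻¹ᵁ W i) := hzero _ (fun x hx hxT => (hi hx) hxT)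
    haveI : Subsingleton Γ(push U.ι F, W i) := ‹Subsingleton Γ(F, U.ι ⁻¹ᵁ W i)›
    exact Module.Finite.of_surjective (0 : Γ(X, W i) →ₗ[Γ(X, W i)] Γ(push U.ι F, W i))
      (fun y => ⟨0, Subsingleton.elim _ _⟩)


end helpers


open AlgebraicGeometry in
/-- Let U ⊆ X be open and T ⊆ U a subset closed in X. If F is a coherent (quasi-coherent of finite type,
i.e. `Coh.IsCoh`) module on U with support contained in T, then its direct image along U ↪ X is
again coherent in the same sense. (The published statement is for coherent modules in the usual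
sense; here both hypothesis and conclusion use the notion `Coh.IsCoh`.) -/
theorem result (X : Scheme.{u}) (U : X.Opens) (T : Set X)
    (hT : IsClosed T) (hTU : T ⊆ (U : Set X)) (F : (↑U : Scheme.{u}).Modules) (hF : Coh.IsCoh F)
    (hs : ∀ x : ↥U, x ∈ CohB1.support F → (x : X) ∈ T) : Coh.IsCoh ((Coh.push U.ι).obj F) := by
  exact main X U T hT hTU F hF hs

end Groth.Agent.S0048
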