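import Groth.Statements.S0049
import Groth.Agent.Lib.Helper16.Satur1
import Groth.Agent.Lib.Helper7.RestrictSupport
import Groth.Agent.Lib.Helper7.KerSections
import Groth.Agent.Lib.Helper7.CohKer
import Groth.Agent.S0046

set_option autoImplicit false
universe u
open Coherent

namespace Groth.Agent.S0049

open AlgebraicGeometry CategoryTheory in
/-- On a Noetherian scheme, if the support of a coherent module F is the union of closed sets Z and Z',
there is a short exact sequence 0 → G' → F → G → 0 of coherent modules with G' supported in Z' and G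
supported in Z. -/
theorem result (X : Scheme.{u}) [IsNoetherian X] (M : X.Modules) (hM : Coh.IsCoh M)
    (Z Z' : Set X) (hZ : IsClosed Z) (hZ' : IsClosed Z') (h : CohB1.support M = Z ∪ Z') :
    ∃ S : ShortComplex X.Modules, S.ShortExact ∧ Nonempty (S.X₂ ≅ M) ∧ Coh.IsCoh S.X₁ ∧ Coh.IsCoh S.X₃ ∧
      CohB1.support S.X₁ ⊆ Z' ∧ CohB1.support S.X₃ ⊆ Z := by
  open CategoryTheory CategoryTheory.Limits AlgebraicGeometry TopologicalSpace Opposite
    Scheme.Modules Groth.Agent.Lib.helper7 in
  classical
  have hMq : M.IsQuasicoherent := hM.1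
  let U : X.Opens := ⟨Z'ᶜ, hZ'.isOpen_compl⟩
  let W₀ : X.Opens := ⟨(Z ∪ Z')ᶜ, (hZ.union hZ').isOpen_compl⟩
  let Wz : X.Opens := ⟨Zᶜ, hZ.isOpen_compl⟩
  haveI : CompactSpace (U : Scheme.{u}) :=
    isCompact_iff_compactSpace.mp (TopologicalSpace.NoetherianSpace.isCompact (U : Set X))
  haveI : QuasiCompact U.ι := inferInstance
  let P : X.Modules := (pushforward U.ι).obj (M.restrict U.ι)
  haveI : (M.restrict U.ι).IsQuasicoherent := inferInstance
  haveI hP : P.IsQuasicoherent := QCohPushQC.isQuasicoherent_pushforward U.ι (M.restrict U.ι)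
  let η : M ⟶ P := (restrictAdjunction U.ι).unit.app M
  have hM0 : ∀ V : X.Opens, V ≤ W₀ → Subsingleton Γ(M, V) := by
    rw [RestrictSupport.subsingleton_sections_iff_support]
    intro x hx
    rw [h] at hx
    exact fun hx' => hx' hx
  have hG'q : (kernel η).IsQuasicoherent := CohKer.isQuasicoherent_kernel η
  have hG' : Coh.IsCoh (kernel η) :=
    Groth.Agent.S0046.result X M (kernel η) (kernel.ι η) hM hG'q
  have hG : Coh.IsCoh (cokernel (kernel.ι η)) := CohKer.isCoh_cokernel hG' hM (kernel.ι η)
  let S : ShortComplex X.Modules :=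
    ShortComplex.mk (kernel.ι η) (cokernel.π (kernel.ι η)) (cokernel.condition _)
  have hS : S.ShortExact :=
    { exact := ShortComplex.exact_of_g_is_cokernel _ (cokernelIsCokernel (kernel.ι η))
      mono_f := inferInstanceAs (Mono (kernel.ι η))
      epi_g := inferInstanceAs (Epi (cokernel.π (kernel.ι η))) }
  refine ⟨S, hS, ⟨Iso.refl _⟩, hG', hG, ?_, ?_⟩
  · -- support of the kernel
    have : CohB1.support (kernel η) ⊆ ((U : X.Opens) : Set X)ᶜ := by
      rw [← RestrictSupport.subsingleton_sections_iff_support]
      intro V hV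
      refine ⟨fun a b => ?_⟩
      apply KerSections.kernel_ι_app_injective η V
      have e : U.ι ''ᵁ (U.ι ⁻¹ᵁ V) = V := by
        rw [Scheme.Hom.image_preimage_eq_opensRange_inf, Scheme.Opens.opensRange_ι]
        exact inf_eq_right.mpr hV
      have hinj : Function.Injective (η.app V) := by
        change Function.Injective (M.presheaf.map (homOfLE (U.ι.image_preimage_le V)).op)
        exact map_injective_of_eq M e.symm
      apply hinj
      have ha := KerSections.kernel_ι_app_comp η V a
      have hb := KerSections.kernel_ι_app_comp η V b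
      exact ha.trans hb.symm
    simpa [U] using this
  · -- support of the image
    have : CohB1.support (cokernel (kernel.ι η)) ⊆ ((Wz : X.Opens) : Set X)ᶜ := by
      rw [← RestrictSupport.subsingleton_sections_iff_support]
      intro V hV
      have hsub : Subsingleton Γ(P, V) := by
        change Subsingleton Γ(M, U.ι ''ᵁ (U.ι ⁻¹ᵁ V))
        apply hM0
        intro x hx
        have h1 : x ∈ V := U.ι.image_preimage_le V hx
        obtain ⟨y, -, rfl⟩ := hx
        have h2 : (U.ι y) ∈ Zᶜ := hV h1
        have h3 : (U.ι y) ∈ Z'ᶜ := y.2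
        exact fun hh => hh.elim h2 h3
      have hinj := Groth.Agent.Lib.helper16.Satur.injective_app_of_mono
        (Abelian.factorThruCoimage η) V
      exact hinj.subsingleton
    simpa [Wz] using this

end Groth.Agent.S0049
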