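import Groth.Statements.S0064
import Mathlib
-- import your own Groth.Agent.* helpers here

set_option autoImplicit false
open CategoryTheory CategoryTheory.Limits AlgebraicGeometry Opposite
universe u
open EtBase

namespace Groth.Agent.S0064

/-- clopen subsets of a noetherian space form a finite set -/
lemma finite_clopens (α : Type*) [TopologicalSpace α] [TopologicalSpace.NoetherianSpace α] :
    {Z : Set α | IsClopen Z}.Finite := by
  have hfin := TopologicalSpace.NoetherianSpace.finite_irreducibleComponents (α := α)
  have key : ∀ W : Set α, IsClopen W → W = ⋃₀ {C ∈ irreducibleComponents α | C ⊆ W} := by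
    intro W hW
    apply Set.Subset.antisymm
    · intro x hx
      refine ⟨irreducibleComponent x, ⟨irreducibleComponent_mem_irreducibleComponents x, ?_⟩,
        mem_irreducibleComponent⟩
      exact isIrreducible_irreducibleComponent.2.isPreconnected.subset_isClopen hW
        ⟨x, mem_irreducibleComponent, hx⟩
    · exact Set.sUnion_subset fun C hC => hC.2
  refine Set.Finite.of_finite_image (f := fun Z => {C ∈ irreducibleComponents α | C ⊆ Z}) ?_ ?_
  · exact (hfin.finite_subsets).subset (by rintro _ ⟨Z, _, rfl⟩; exact fun C hC => hC.1)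
  · intro Z hZ Z' hZ' h
    simp only at h
    rw [key Z hZ, key Z' hZ', h]

instance : MorphismProperty.HasOfPostcompProperty @IsOpenImmersion
    (@FormallyUnramified ⊓ @LocallyOfFiniteType) :=
  MorphismProperty.hasOfPostcompProperty_iff_le_diagonal.mpr
    fun _ _ f ⟨_, _⟩ ↦ inferInstanceAs (IsOpenImmersion (pullback.diagonal f))

/-- Let S be a Noetherian scheme, X → S a quasi-compact, separated, unramified morphism (formally
unramified and locally of finite type), and Y a Noetherian scheme with a morphism Y → S. Then there
are only finitely many S-morphisms Y → X. The published statement does not assume X → S separated;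
it is stated here in the separated case. -/
theorem result {X S Y : Scheme.{u}} [IsNoetherian S] [IsNoetherian Y]
    (π : X ⟶ S) [FormallyUnramified π] [LocallyOfFiniteType π] [QuasiCompact π] [IsSeparated π]
    (h : Y ⟶ S) : Set.Finite {f : Y ⟶ X | f ≫ π = h} := by
  let p₂ : pullback π h ⟶ Y := pullback.snd π h
  have hp₂u : FormallyUnramified p₂ := MorphismProperty.pullback_snd _ _ ‹_›
  have hp₂f : LocallyOfFiniteType p₂ := MorphismProperty.pullback_snd _ _ ‹_›
  have hp₂s : IsSeparated p₂ := MorphismProperty.pullback_snd _ _ ‹_›
  have hp₂q : QuasiCompact p₂ := MorphismProperty.pullback_snd _ _ ‹_›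
  have : CompactSpace ↥(pullback π h) := QuasiCompact.compactSpace_of_compactSpace p₂
  have : IsNoetherian (pullback π h) := { }
  let s : {f : Y ⟶ X | f ≫ π = h} → (Y ⟶ pullback π h) :=
    fun f => pullback.lift f.1 (𝟙 Y) (by rw [Category.id_comp]; exact f.2)
  have hs : ∀ f, s f ≫ p₂ = 𝟙 Y := fun f => pullback.lift_snd _ _ _
  have hs1 : ∀ f, s f ≫ pullback.fst π h = f.1 := fun f => pullback.lift_fst _ _ _
  have hopen : ∀ f, IsOpenImmersion (s f) := by
    intro f
    refine MorphismProperty.of_postcomp (W := @IsOpenImmersion)
      (W' := @FormallyUnramified ⊓ @LocallyOfFiniteType) (s f) p₂ ⟨inferInstance, inferInstance⟩ ?_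
    rw [hs f]; infer_instance
  have hclosed : ∀ f, IsClosedImmersion (s f) := by
    intro f
    have : IsClosedImmersion (s f ≫ p₂) := by rw [hs f]; infer_instance
    exact IsClosedImmersion.of_comp (s f) p₂
  rw [← Set.finite_coe_iff]
  have : Finite {Z : Set ↥(pullback π h) | IsClopen Z} :=
    Set.finite_coe_iff.mpr (finite_clopens _)
  let Φ : {f : Y ⟶ X | f ≫ π = h} → {Z : Set ↥(pullback π h) | IsClopen Z} :=
    fun f => ⟨Set.range (s f).base, ⟨(Scheme.Hom.isClosedEmbedding (s f)).isClosed_range,
      (Scheme.Hom.isOpenEmbedding (s f)).isOpen_range⟩⟩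
  apply Finite.of_injective Φ
  intro f g hfg
  have hr : Set.range (s f).base = Set.range (s g).base := congrArg Subtype.val hfg
  have := hopen f
  have := hopen g
  have e : s f = IsOpenImmersion.lift (s g) (s f) hr.le ≫ s g :=
    (IsOpenImmersion.lift_fac _ _ _).symm
  have e2 : IsOpenImmersion.lift (s g) (s f) hr.le = 𝟙 Y := by
    have := congrArg (· ≫ p₂) e
    simp only [Category.assoc, hs] at this
    simpa using this.symm
  rw [e2, Category.id_comp] at e
  apply Subtype.ext
  rw [← hs1 f, ← hs1 g, e]

end Groth.Agent.S0064
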