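import Groth.Statements.S0066
import Groth.Agent.Lib.Helper24.SmoothNormal
-- import your own Groth.Agent.* helpers here

set_option autoImplicit false
open CategoryTheory CategoryTheory.Limits AlgebraicGeometry Opposite
universe u
open EtBase

namespace Groth.Agent.S0066

/-- Variant of the smooth ascent lemma with an explicit contracted prime. -/
theorem ascent (A B : Type u) [CommRing A] [CommRing B] [Algebra A B] [Algebra.Smooth A B]
    (q : Ideal B) [q.IsPrime] (p : Ideal A) [p.IsPrime] (hpq : p = q.comap (algebraMap A B))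
    (hdom : IsDomain (Localization.AtPrime p)) (hic : IsIntegrallyClosed (Localization.AtPrime p)) :
    IsDomain (Localization.AtPrime q) ∧ IsIntegrallyClosed (Localization.AtPrime q) := by
  subst hpq
  exact Groth.Agent.Lib.Helper24.SmoothNormal.isDomain_isIntegrallyClosed_atPrime_of_smooth
    A B q hdom hic

/-- Transfer of "normal domain" along a ring isomorphism. -/
theorem transfer {R S : Type u} [CommRing R] [CommRing S] (e : R ≃+* S)
    (h : IsDomain R ∧ IsIntegrallyClosed R) : IsDomain S ∧ IsIntegrallyClosed S := by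
  obtain ⟨hd, hic⟩ := h
  have hdS : IsDomain S := e.symm.injective.isDomain e.symm.toRingHom
  exact ⟨hdS, IsIntegrallyClosed.of_equiv e⟩

/-- For an étale morphism f : X → Y with Y locally Noetherian and a point x of X, the local ring O_{X,x}
is a normal domain (a domain which is integrally closed in its fraction field) if and only if
O_{Y,f(x)} is. -/
theorem result {X Y : Scheme.{u}} (f : X ⟶ Y) [AlgebraicGeometry.Etale f]
    [IsLocallyNoetherian Y] (x : X) :
    (IsDomain (X.presheaf.stalk x) ∧ IsIntegrallyClosed (X.presheaf.stalk x)) ↔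
      (IsDomain (Y.presheaf.stalk (f.base x)) ∧ IsIntegrallyClosed (Y.presheaf.stalk (f.base x))) := by
  constructor
  · -- descent along the faithfully flat stalk map
    rintro ⟨hd, hic⟩
    algebraize [(f.stalkMap x).hom]
    have hloc : IsLocalHom (algebraMap (Y.presheaf.stalk (f x)) (X.presheaf.stalk x)) :=
      inferInstanceAs <| IsLocalHom (f.stalkMap x).hom
    have : Module.Flat (Y.presheaf.stalk (f x)) (X.presheaf.stalk x) := Flat.stalkMap f x
    have : Module.FaithfullyFlat (Y.presheaf.stalk (f x)) (X.presheaf.stalk x) :=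
      Module.FaithfullyFlat.of_flat_of_isLocalHom
    have hinj : Function.Injective
        (algebraMap (Y.presheaf.stalk (f x)) (X.presheaf.stalk x)) :=
      FaithfulSMul.algebraMap_injective _ _
    haveI hdY : IsDomain (Y.presheaf.stalk (f x)) := hinj.isDomain _
    refine ⟨hdY, ?_⟩
    apply Groth.Agent.Lib.Helper24.EtaleNormal.isIntegrallyClosed_of_nf
    exact Groth.Agent.Lib.Helper24.EtaleNormal.nf_of_faithfullyFlat _ (X.presheaf.stalk x)
      (Groth.Agent.Lib.Helper24.EtaleNormal.nf_of_isIntegrallyClosed _)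
  · -- ascent through an étale chart
    intro h
    obtain ⟨U, hU, hyU, -⟩ := exists_isAffineOpen_mem_and_subset (X := Y) (x := f x)
      (U := ⊤) trivial
    obtain ⟨V, hV, hxV, hVU⟩ := exists_isAffineOpen_mem_and_subset (X := X) (x := x)
      (U := f ⁻¹ᵁ U) hyU
    have hφ : (f.appLE U V hVU).hom.Etale := Etale.etale_appLE f hU hV hVU
    algebraize [(f.appLE U V hVU).hom]
    haveI : Algebra.Smooth Γ(Y, U) Γ(X, V) := inferInstance
    let q : Ideal Γ(X, V) := (hV.primeIdealOf ⟨x, hxV⟩).asIdeal
    let p : Ideal Γ(Y, U) := (hU.primeIdealOf ⟨f x, hVU hxV⟩).asIdeal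
    have hpq : p = q.comap (algebraMap Γ(Y, U) Γ(X, V)) :=
      (congrArg PrimeSpectrum.asIdeal
        (IsAffineOpen.comap_primeIdealOf_appLE U hU V hV hVU hxV)).symm
    letI := X.presheaf.algebra_section_stalk (⟨x, hxV⟩ : V)
    letI := Y.presheaf.algebra_section_stalk (⟨f x, hVU hxV⟩ : U)
    haveI iX : IsLocalization.AtPrime (X.presheaf.stalk x) q := hV.isLocalization_stalk ⟨x, hxV⟩
    haveI iY : IsLocalization.AtPrime (Y.presheaf.stalk (f x)) p :=
      hU.isLocalization_stalk ⟨f x, hVU hxV⟩
    let eX : Localization.AtPrime q ≃ₐ[Γ(X, V)] X.presheaf.stalk x :=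
      IsLocalization.algEquiv q.primeCompl _ _
    let eY : Localization.AtPrime p ≃ₐ[Γ(Y, U)] Y.presheaf.stalk (f x) :=
      IsLocalization.algEquiv p.primeCompl _ _
    have h1 := transfer eY.symm.toRingEquiv h
    have h2 := ascent Γ(Y, U) Γ(X, V) q p hpq h1.1 h1.2
    exact transfer eX.toRingEquiv h2

end Groth.Agent.S0066
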