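import Groth.Statements.S0069
import Groth.Agent.Lib.Helper1.EtGerm

set_option autoImplicit false
open CategoryTheory CategoryTheory.Limits AlgebraicGeometry Opposite
universe u
open EtBase

namespace Groth.Agent.S0069

open Groth.Agent.H1.EtGerm Groth.Agent.H1.EtStalk

/-- the open complement of a closed immersion -/
noncomputable def compl {Z X : Scheme.{u}} (i : Z ⟶ X) [IsClosedImmersion i] : X.Opens :=
  ⟨(Set.range i.base)ᶜ, i.isClosedEmbedding.isClosed_range.isOpen_compl⟩

theorem mem_of_preimage {X : Scheme.{u}} (U : X.Etale) (O : X.Opens)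
    (y : ↥(U.hom ⁻¹ᵁ O).toScheme) : ((U.hom ⁻¹ᵁ O).ι ≫ U.hom).base y ∈ (O : Set X) := by
  rw [Scheme.Hom.comp_apply]
  have h3 : (U.hom ⁻¹ᵁ O).ι.base y ∈ Set.range (U.hom ⁻¹ᵁ O).ι.base := ⟨_, rfl⟩
  rw [Scheme.Opens.range_ι] at h3
  exact h3

theorem isEmpty_bc {Z X : Scheme.{u}} (i : Z ⟶ X) [IsClosedImmersion i] (U : X.Etale) :
    IsEmpty ((EtCoh.bc i).obj (restrictOpen U (U.hom ⁻¹ᵁ compl i))).left := by
  constructor
  intro t
  let V := restrictOpen U (U.hom ⁻¹ᵁ compl i)
  change ↥(pullback V.hom i) at t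
  have h1 : V.hom.base ((pullback.fst V.hom i).base t) = i.base ((pullback.snd V.hom i).base t) := by
    rw [← Scheme.Hom.comp_apply, ← Scheme.Hom.comp_apply, pullback.condition]
  have h2 : V.hom.base ((pullback.fst V.hom i).base t) ∈ (compl i : Set X) := by
    exact mem_of_preimage U (compl i) ((pullback.fst V.hom i).base t)
  exact h2 ⟨_, h1.symm⟩

theorem main {Z X : Scheme.{u}} (i : Z ⟶ X) [IsClosedImmersion i] [EtCoh.BCCont i]
    (G : EtCoh.Ab Z) {Ω : Type u} [Field Ω] [IsSepClosed Ω] (ξ : Spec (CommRingCat.of Ω) ⟶ X)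
    (hξ : Disjoint (Set.range ξ.base) (Set.range i.base)) :
    IsZero ((EtCoh.stalk ξ).obj ((EtCoh.push i).obj G)) := by
  have hsub : Subsingleton ((EtCoh.stalk ξ).obj ((EtCoh.push i).obj G)) := by
    suffices h : ∀ p : (EtCoh.stalk ξ).obj ((EtCoh.push i).obj G), p = 0 from
      ⟨fun a b => (h a).trans (h b).symm⟩
    intro p
    obtain ⟨U, x, s, rfl⟩ := germ_surjective ((EtCoh.push i).obj G) p
    rw [germ_eq_zero_iff]
    have hx : x.hom.base default ∈ U.hom ⁻¹ᵁ compl i := by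
      change U.hom.base (x.hom.base default) ∈ (Set.range i.base)ᶜ
      rw [← Scheme.Hom.comp_apply, x.hom_comp]
      exact Set.disjoint_left.mp hξ ⟨default, rfl⟩
    obtain ⟨y, hy⟩ := exists_lift_restrictOpen (U.hom ⁻¹ᵁ compl i) x hx
    refine ⟨_, restrictOpenι U _, y, hy, ?_⟩
    have := isEmpty_bc i U
    have hs := subsingleton_of_isEmpty G ((EtCoh.bc i).obj (restrictOpen U (U.hom ⁻¹ᵁ compl i)))
    exact hs.elim _ _
  exact AddCommGrpCat.isZero_of_subsingleton _

/-- Abelian case, first half — the pushforward along a closed immersion has zero stalk at geometric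
points outside the closed subscheme. -/
theorem result {Z X : Scheme.{u}} (i : Z ⟶ X) [IsClosedImmersion i] [EtCoh.BCCont i]
    (G : EtCoh.Ab Z) {Ω : Type u} [Field Ω] [IsSepClosed Ω] (ξ : Spec (CommRingCat.of Ω) ⟶ X)
    (hξ : Disjoint (Set.range ξ.base) (Set.range i.base)) :
    IsZero ((EtCoh.stalk ξ).obj ((EtCoh.push i).obj G)) := by
  exact main i G ξ hξ

end Groth.Agent.S0069
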