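import Groth.Statements.S0070
import Groth.Agent.Lib.Helper1.ClosedDense
import Groth.Agent.Lib.Helper1.EtStalkPull

set_option autoImplicit false
open CategoryTheory CategoryTheory.Limits AlgebraicGeometry Opposite
universe u
open EtBase

namespace Groth.Agent.S0070

open Groth.Agent.H1.ClosedDense Groth.Agent.H1.EtStalkPull

/-- the counit `i⁻¹ i_* G ⟶ G` is an isomorphism for a closed immersion -/
theorem isIso_counit {Z X : Scheme.{u}} (i : Z ⟶ X) [IsClosedImmersion i] [EtCoh.BCCont i] :
    IsIso (EtCoh.pullPushAdj i).counit := by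
  have : (EtCoh.push i).Full :=
    Functor.IsCoverDense.full_sheafPushforwardContinuous (G := EtCoh.bc i)
      (J := X.smallEtaleTopology) (K := Z.smallEtaleTopology) (A := AddCommGrpCat.{u + 1})
  have : (EtCoh.push i).Faithful :=
    Functor.IsCoverDense.faithful_sheafPushforwardContinuous (G := EtCoh.bc i)
      (J := X.smallEtaleTopology) (K := Z.smallEtaleTopology) (A := AddCommGrpCat.{u + 1})
  infer_instance

theorem main {Z X : Scheme.{u}} (i : Z ⟶ X) [IsClosedImmersion i] [EtCoh.BCCont i]
    (G : EtCoh.Ab Z) {Ω : Type u} [Field Ω] [IsSepClosed Ω] (ζ : Spec (CommRingCat.of Ω) ⟶ Z) :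
    Nonempty ((EtCoh.stalk (ζ ≫ i)).obj ((EtCoh.push i).obj G) ≅ (EtCoh.stalk ζ).obj G) := by
  have := isIso_counit i
  exact ⟨((stalkPullIso i ζ).app ((EtCoh.push i).obj G)).symm ≪≫
    (EtCoh.stalk ζ).mapIso (asIso ((EtCoh.pullPushAdj i).counit.app G))⟩

/-- Let i : Z → X be a closed immersion of schemes, G an abelian sheaf on the small étale site of Z, and
ζ : Spec Ω → Z a geometric point of Z (Ω separably closed). Then the stalk of the direct image i_*G
at the geometric point i ∘ ζ of X is isomorphic to the stalk of G at ζ. Only the existence of an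
isomorphism is asserted; the published statement identifies the two stalks via the canonical map.
(Continuity of the relevant functor of étale sites along i is carried as an instance binder.) -/
theorem result {Z X : Scheme.{u}} (i : Z ⟶ X) [IsClosedImmersion i] [EtCoh.BCCont i]
    (G : EtCoh.Ab Z) {Ω : Type u} [Field Ω] [IsSepClosed Ω] (ζ : Spec (CommRingCat.of Ω) ⟶ Z) :
    Nonempty ((EtCoh.stalk (ζ ≫ i)).obj ((EtCoh.push i).obj G) ≅ (EtCoh.stalk ζ).obj G) := by
  exact main i G ζ

end Groth.Agent.S0070
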