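import Groth.Statements.S0652
import Groth.Agent.Lib.Helper1.EtStalkPull

set_option autoImplicit false
open CategoryTheory CategoryTheory.Limits AlgebraicGeometry Opposite
universe u
open EtCore

namespace Groth.Agent.S0652

open Groth.Agent.H1.EtStalk Groth.Agent.H1.EtGerm Groth.Agent.H1.EtStalkPull

theorem main {U X : Scheme.{u}} (j : U ⟶ X) [IsOpenImmersion j]
    [AlgebraicGeometry.Etale j] [EtShriek.JCont j] (F : EtCoh.Ab U) (G : EtCoh.Ab X)
    (hres : Nonempty ((EtShriek.restrAlong j).obj G ≅ F))
    (hzero : ∀ (Ω : Type u) [Field Ω] [IsSepClosed Ω] (ξ : Spec (CommRingCat.of Ω) ⟶ X),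
      Set.range ξ.base ⊆ (Set.range j.base)ᶜ → IsZero ((EtCoh.stalk ξ).obj G)) :
    Nonempty (G ≅ (EtShriek.extZero j).obj F) := by
  obtain ⟨e⟩ := hres
  let a : (EtShriek.extZero j).obj F ⟶ G := ((EtShriek.extZeroAdj j).homEquiv F G).symm e.inv
  have hunit : IsIso ((EtShriek.extZeroAdj j).unit.app F) := (Groth.Agent.S0651.main j F).2
  have hra : IsIso ((EtShriek.restrAlong j).map a) := by
    have h1 : (EtShriek.extZeroAdj j).unit.app F ≫ (EtShriek.restrAlong j).map a = e.inv := by
      have := (EtShriek.extZeroAdj j).homEquiv_unit (X := F) (Y := G) (f := a)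
      rw [← this]
      exact Equiv.apply_symm_apply _ _
    have h2 : (EtShriek.restrAlong j).map a =
        inv ((EtShriek.extZeroAdj j).unit.app F) ≫ e.inv := by
      rw [← h1, IsIso.inv_hom_id_assoc]
    rw [h2]
    infer_instance
  have hiso : IsIso a := by
    apply isIso_of_stalk
    intro s
    by_cases hs : s ∈ Set.range j.base
    · have : IsIso ((EtCoh.stalk (geomPt X s)).map a) := by
        apply isIso_stalk_of_isIso_restr j a
        apply exists_fac_of_mem_range
        rw [geomPt_default]
        exact hs
      exact (ConcreteCategory.isIso_iff_bijective _).mp this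
    · have hr : Set.range (geomPt X s).base ⊆ (Set.range j.base)ᶜ := by
        rintro _ ⟨t, rfl⟩
        rw [Subsingleton.elim t default, geomPt_default]
        exact hs
      have z1 := isZero_stalk_extZero_of_not_mem j F (geomPt X s) hr
      have z2 := hzero _ (geomPt X s) hr
      have : IsIso ((EtCoh.stalk (geomPt X s)).map a) :=
        ⟨0, z1.eq_of_src _ _, z2.eq_of_src _ _⟩
      exact (ConcreteCategory.isIso_iff_bijective _).mp this
  exact ⟨(asIso a).symm⟩

/-- For an open immersion j : U -> X and an abelian sheaf F on the small etale site of U, an abelian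
sheaf G on X is isomorphic to j_! F as soon as G restricts to a sheaf isomorphic to F on U and has
vanishing stalks at every geometric point of X not in U. (Continuity of the composition functor of
etale sites, which always holds, is carried as an instance hypothesis.) -/
theorem result {U X : Scheme.{u}} (j : U ⟶ X) [IsOpenImmersion j]
    [AlgebraicGeometry.Etale j] [EtShriek.JCont j] (F : EtCoh.Ab U) (G : EtCoh.Ab X)
    (hres : Nonempty ((EtShriek.restrAlong j).obj G ≅ F))
    (hzero : ∀ (Ω : Type u) [Field Ω] [IsSepClosed Ω] (ξ : Spec (CommRingCat.of Ω) ⟶ X),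
      Set.range ξ.base ⊆ (Set.range j.base)ᶜ → IsZero ((EtCoh.stalk ξ).obj G)) :
    Nonempty (G ≅ (EtShriek.extZero j).obj F) := by
  exact main j F G hres hzero

end Groth.Agent.S0652
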