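import Groth.Statements.S0654
import Groth.Agent.S0070
import Groth.Agent.S0069
import Groth.Agent.S0652

set_option autoImplicit false
open CategoryTheory CategoryTheory.Limits AlgebraicGeometry Opposite
universe u
open EtCore

namespace Groth.Agent.S0654

open Groth.Agent.H1.EtStalk Groth.Agent.H1.EtGerm Groth.Agent.H1.EtStalkPull

/-- a geometric point whose image lies in a closed subscheme factors through it -/
theorem exists_fac_closed {Z X : Scheme.{u}} (i : Z ⟶ X) [IsClosedImmersion i]
    {Ω : Type u} [Field Ω] (ξ : Spec (CommRingCat.of Ω) ⟶ X)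
    (hξ : ξ.base default ∈ Set.range i.base) :
    ∃ ζ : Spec (CommRingCat.of Ω) ⟶ Z, ζ ≫ i = ξ := by
  obtain ⟨z, hz⟩ := hξ
  obtain ⟨t, -, -⟩ := Scheme.Pullback.exists_preimage_pullback (f := ξ) (g := i) default z hz.symm
  have : Surjective (pullback.fst ξ i) := ⟨fun a => ⟨t, Subsingleton.elim _ _⟩⟩
  have : IsIso (pullback.fst ξ i) := isIso_of_isClosedImmersion_of_surjective _
  refine ⟨inv (pullback.fst ξ i) ≫ pullback.snd ξ i, ?_⟩
  rw [Category.assoc, ← pullback.condition, IsIso.inv_hom_id_assoc]

theorem shortExact_of_isZero_of_isIso {A : Type*} [Category A] [Abelian A] (S : ShortComplex A)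
    (h1 : IsZero S.X₁) (h2 : IsIso S.g) : S.ShortExact := by
  have hf : S.f = 0 := h1.eq_of_src _ _
  have : Mono S.f := ⟨fun _ _ _ => h1.eq_of_tgt _ _⟩
  have : Epi S.g := inferInstance
  exact ShortComplex.ShortExact.mk ((S.exact_iff_mono hf).mpr inferInstance)

theorem shortExact_of_isIso_of_isZero {A : Type*} [Category A] [Abelian A] (S : ShortComplex A)
    (h1 : IsIso S.f) (h2 : IsZero S.X₃) : S.ShortExact := by
  have hg : S.g = 0 := h2.eq_of_tgt _ _
  have : Epi S.g := ⟨fun _ _ _ => h2.eq_of_src _ _⟩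
  have : Mono S.f := inferInstance
  exact ShortComplex.ShortExact.mk ((S.exact_iff_epi hg).mpr inferInstance)

/-- short exactness can be tested on the standard geometric stalks -/
theorem shortExact_of_stalk {X : Scheme.{u}} (S : ShortComplex (EtCoh.Ab X))
    (h : ∀ (Ω : Type u) [Field Ω] [IsSepClosed Ω] (ξ : Spec (CommRingCat.of Ω) ⟶ X),
      (S.map (EtCoh.stalk ξ)).ShortExact) : S.ShortExact := by
  have h1 : S.Exact := (exact_iff_stalk S).mpr (fun Ω _ _ ξ => (h Ω ξ).exact)
  have h2 : Mono S.f := (mono_iff_stalk S.f).mpr (fun Ω _ _ ξ => by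
    have := (h Ω ξ).mono_f
    exact (AddCommGrpCat.mono_iff_injective _).mp this)
  have h3 : Epi S.g := (epi_iff_stalk S.g).mpr (fun Ω _ _ ξ => by
    have := (h Ω ξ).epi_g
    exact (AddCommGrpCat.epi_iff_surjective _).mp this)
  exact ShortComplex.ShortExact.mk h1


/-- a morphism which becomes an isomorphism after pullback along `f` is an isomorphism on the
stalks at geometric points factoring through `f` -/
theorem isIso_stalk_of_isIso_pull {Y X : Scheme.{u}} (f : Y ⟶ X) [EtCoh.BCCont f]
    {A B : EtCoh.Ab X} (a : A ⟶ B) [IsIso ((EtCoh.pull f).map a)]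
    {Ω : Type u} [Field Ω] [IsSepClosed Ω] (ξ : Spec (CommRingCat.of Ω) ⟶ X)
    (hξ : ∃ ζ : Spec (CommRingCat.of Ω) ⟶ Y, ζ ≫ f = ξ) :
    IsIso ((EtCoh.stalk ξ).map a) := by
  obtain ⟨ζ, rfl⟩ := hξ
  have h := (stalkPullIso f ζ).hom.naturality a
  have e : (EtCoh.stalk (ζ ≫ f)).map a =
      (stalkPullIso f ζ).inv.app A ≫ (EtCoh.pull f ⋙ EtCoh.stalk ζ).map a ≫
        (stalkPullIso f ζ).hom.app B := by
    rw [h, Iso.inv_hom_id_app_assoc]
  rw [e]
  have : IsIso ((EtCoh.pull f ⋙ EtCoh.stalk ζ).map a) := by
    change IsIso ((EtCoh.stalk ζ).map ((EtCoh.pull f).map a))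
    infer_instance
  infer_instance

theorem isZero_sheaf_of_sections {X : Scheme.{u}} (G : EtCoh.Ab X)
    (h : ∀ V : X.Etale, Subsingleton (G.obj.obj (op V))) : IsZero G := by
  rw [IsZero.iff_id_eq_zero]
  apply Sheaf.hom_ext
  ext V x
  have := h V.unop
  exact Subsingleton.elim _ _

theorem isZero_restr_push {Z X : Scheme.{u}} (i : Z ⟶ X) [IsClosedImmersion i]
    (U : X.Opens) (hU : (U : Set X) = (Set.range i.base)ᶜ) [AlgebraicGeometry.Etale U.ι]
    [EtShriek.JCont U.ι] (H : EtCoh.Ab Z) :
    IsZero ((EtShriek.restrAlong U.ι).obj ((EtCoh.push i).obj H)) := by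
  apply isZero_sheaf_of_sections
  intro V
  have : IsEmpty ((EtCoh.bc i).obj ((EtShriek.compEtale U.ι).obj V)).left := by
    constructor
    intro t
    change ↥(pullback (V.hom ≫ U.ι) i) at t
    have h1 : (V.hom ≫ U.ι).base ((pullback.fst (V.hom ≫ U.ι) i).base t) =
        i.base ((pullback.snd (V.hom ≫ U.ι) i).base t) := by
      rw [← Scheme.Hom.comp_apply, ← Scheme.Hom.comp_apply, pullback.condition]
    have h2 : (V.hom ≫ U.ι).base ((pullback.fst (V.hom ≫ U.ι) i).base t) ∈ (U : Set X) := by
      rw [Scheme.Hom.comp_apply]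
      have : U.ι.base (V.hom.base ((pullback.fst (V.hom ≫ U.ι) i).base t)) ∈
          Set.range U.ι.base := ⟨_, rfl⟩
      rwa [Scheme.Opens.range_ι] at this
    rw [hU] at h2
    exact h2 ⟨_, h1.symm⟩
  exact subsingleton_of_isEmpty H ((EtCoh.bc i).obj ((EtShriek.compEtale U.ι).obj V))

theorem main {Z X : Scheme.{u}} (i : Z ⟶ X) [IsClosedImmersion i]
    (U : X.Opens) (hU : (U : Set X) = (Set.range i.base)ᶜ) [AlgebraicGeometry.Etale U.ι]
    [EtShriek.JCont U.ι] (F : EtCoh.Ab X) :
    ∃ w : (EtShriek.extZeroAdj U.ι).counit.app F ≫ (EtCoh.pullPushAdj i).unit.app F = 0,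
      (ShortComplex.mk _ _ w).ShortExact := by
  have w : (EtShriek.extZeroAdj U.ι).counit.app F ≫ (EtCoh.pullPushAdj i).unit.app F = 0 := by
    apply ((EtShriek.extZeroAdj U.ι).homEquiv _ _).injective
    exact (isZero_restr_push i U hU _).eq_of_tgt _ _
  refine ⟨w, ?_⟩
  apply shortExact_of_stalk
  intro Ω _ _ ξ
  by_cases hs : ξ.base default ∈ Set.range i.base
  · -- the point lies in `Z`
    apply shortExact_of_isZero_of_isIso
    · apply isZero_stalk_extZero_of_not_mem
      rintro _ ⟨t, rfl⟩
      rw [Subsingleton.elim t default, Scheme.Opens.range_ι, hU, compl_compl]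
      exact hs
    · have hc := Groth.Agent.S0070.isIso_counit i
      have h1 : IsIso ((EtCoh.pull i).map ((EtCoh.pullPushAdj i).unit.app F)) := by
        have ht := (EtCoh.pullPushAdj i).left_triangle_components F
        have : (EtCoh.pull i).map ((EtCoh.pullPushAdj i).unit.app F) =
            inv ((EtCoh.pullPushAdj i).counit.app ((EtCoh.pull i).obj F)) := by
          rw [← cancel_mono ((EtCoh.pullPushAdj i).counit.app ((EtCoh.pull i).obj F)), ht,
            IsIso.inv_hom_id]
          rfl
        rw [this]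
        infer_instance
      exact isIso_stalk_of_isIso_pull i _ ξ (exists_fac_closed i ξ hs)
  · -- the point lies in `U`
    have hsU : ξ.base default ∈ Set.range U.ι.base := by
      rw [Scheme.Opens.range_ι, hU]
      exact hs
    apply shortExact_of_isIso_of_isZero
    · have hu : IsIso ((EtShriek.extZeroAdj U.ι).unit.app ((EtShriek.restrAlong U.ι).obj F)) :=
        (Groth.Agent.S0651.main U.ι _).2
      have h1 : IsIso ((EtShriek.restrAlong U.ι).map ((EtShriek.extZeroAdj U.ι).counit.app F)) := by
        have ht := (EtShriek.extZeroAdj U.ι).right_triangle_components F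
        have : (EtShriek.restrAlong U.ι).map ((EtShriek.extZeroAdj U.ι).counit.app F) =
            inv ((EtShriek.extZeroAdj U.ι).unit.app ((EtShriek.restrAlong U.ι).obj F)) := by
          rw [← cancel_epi ((EtShriek.extZeroAdj U.ι).unit.app ((EtShriek.restrAlong U.ι).obj F)),
            ht, IsIso.hom_inv_id]
          rfl
        rw [this]
        infer_instance
      exact isIso_stalk_of_isIso_restr U.ι _ ξ (exists_fac_of_mem_range U.ι ξ hsU)
    · apply Groth.Agent.S0069.main
      rw [Set.disjoint_left]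
      rintro _ ⟨t, rfl⟩
      rw [Subsingleton.elim t default]
      exact hs

/-- Let i : Z -> X be a closed immersion and j : U -> X the open immersion of the complement of its
image. For every abelian sheaf F on the small etale site of X, the counit j_! (F|_U) -> F followed
by the unit F -> i_* i^{-1} F composes to zero and the resulting three-term sequence is short exact.
(Continuity of the composition functor of etale sites, which always holds, is carried as an instance
hypothesis.) -/
theorem result {Z X : Scheme.{u}} (i : Z ⟶ X) [IsClosedImmersion i]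
    (U : X.Opens) (hU : (U : Set X) = (Set.range i.base)ᶜ) [AlgebraicGeometry.Etale U.ι] [EtShriek.JCont U.ι]
    (F : EtCoh.Ab X) :
    ∃ w : (EtShriek.extZeroAdj U.ι).counit.app F ≫ (EtCoh.pullPushAdj i).unit.app F = 0,
      (ShortComplex.mk _ _ w).ShortExact := by
  exact main i U hU F

end Groth.Agent.S0654
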