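import Groth.Statements.S0068
import Groth.Agent.S0654

set_option autoImplicit false
open CategoryTheory CategoryTheory.Limits AlgebraicGeometry Opposite
universe u
open EtBase

namespace Groth.Agent.S0068

open Groth.Agent.H1.EtStalk Groth.Agent.H1.EtGerm Groth.Agent.H1.EtStalkPull

/-- the unit `F ⟶ i_* i⁻¹ F` is an isomorphism on stalks at geometric points of `Z` -/
theorem isIso_stalk_unit {Z X : Scheme.{u}} (i : Z ⟶ X) [IsClosedImmersion i] (F : EtCoh.Ab X)
    {Ω : Type u} [Field Ω] [IsSepClosed Ω] (ξ : Spec (CommRingCat.of Ω) ⟶ X)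
    (hs : ξ.base default ∈ Set.range i.base) :
    IsIso ((EtCoh.stalk ξ).map ((EtCoh.pullPushAdj i).unit.app F)) := by
  have hc := Groth.Agent.S0070.isIso_counit i
  have h1 : IsIso ((EtCoh.pull i).map ((EtCoh.pullPushAdj i).unit.app F)) := by
    have ht := (EtCoh.pullPushAdj i).left_triangle_components F
    have : (EtCoh.pull i).map ((EtCoh.pullPushAdj i).unit.app F) =
        inv ((EtCoh.pullPushAdj i).counit.app ((EtCoh.pull i).obj F)) := by
      rw [← cancel_mono ((EtCoh.pullPushAdj i).counit.app ((EtCoh.pull i).obj F)), ht,
        IsIso.inv_hom_id]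
      rfl
    rw [this]
    infer_instance
  exact Groth.Agent.S0654.isIso_stalk_of_isIso_pull i _ ξ (Groth.Agent.S0654.exists_fac_closed i ξ hs)

theorem main {Z X : Scheme.{u}} (i : Z ⟶ X) [IsClosedImmersion i] [EtCoh.BCCont i]
    (F : EtCoh.Ab X) :
    (EtCoh.push i).essImage F ↔
      ∀ U : X.Etale, Disjoint (Set.range U.hom.base) (Set.range i.base) →
        IsZero (F.obj.obj (op U)) := by
  constructor
  · rintro ⟨G, ⟨e⟩⟩ U hU
    have : IsEmpty ((EtCoh.bc i).obj U).left := Scheme.isEmpty_pullback U.hom i hU
    have h1 : Subsingleton (((EtCoh.push i).obj G).obj.obj (op U)) :=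
      subsingleton_of_isEmpty G ((EtCoh.bc i).obj U)
    have e' : ((EtCoh.push i).obj G).obj.obj (op U) ≅ F.obj.obj (op U) :=
      ((sheafToPresheaf _ _).mapIso e).app (op U)
    have h2 : IsZero (((EtCoh.push i).obj G).obj.obj (op U)) :=
      AddCommGrpCat.isZero_of_subsingleton _
    exact h2.of_iso e'.symm
  · intro h
    let O : X.Opens := Groth.Agent.S0069.compl i
    have hO : (O : Set X) = (Set.range i.base)ᶜ := rfl
    -- the restriction of `F` to the open complement vanishes
    have hz : IsZero ((EtShriek.restrAlong O.ι).obj F) := by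
      apply Groth.Agent.S0654.isZero_sheaf_of_sections
      intro V
      have hd : Disjoint (Set.range ((EtShriek.compEtale O.ι).obj V).hom.base)
          (Set.range i.base) := by
        rw [Set.disjoint_left]
        rintro _ ⟨t, rfl⟩ hi
        have : (V.hom ≫ O.ι).base t ∈ (O : Set X) := by
          rw [Scheme.Hom.comp_apply]
          have : O.ι.base (V.hom.base t) ∈ Set.range O.ι.base := ⟨_, rfl⟩
          rwa [Scheme.Opens.range_ι] at this
        exact this hi
      have hzz := h ((EtShriek.compEtale O.ι).obj V) hd
      exact AddCommGrpCat.subsingleton_of_isZero hzz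
    have hiso : IsIso ((EtCoh.pullPushAdj i).unit.app F) := by
      apply isIso_of_stalk
      intro s
      have : IsIso ((EtCoh.stalk (geomPt X s)).map ((EtCoh.pullPushAdj i).unit.app F)) := by
        by_cases hs : s ∈ Set.range i.base
        · apply isIso_stalk_unit
          rw [geomPt_default]
          exact hs
        · have hsO : (geomPt X s).base default ∈ Set.range O.ι.base := by
            rw [geomPt_default, Scheme.Opens.range_ι]
            exact hs
          obtain ⟨ζ, hζ⟩ := exists_fac_of_mem_range O.ι (geomPt X s) hsO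
          have z1 : IsZero ((EtCoh.stalk (geomPt X s)).obj F) := by
            rw [← hζ]
            exact ((EtCoh.stalk ζ).map_isZero hz).of_iso ((stalkRestrIso O.ι ζ).app F).symm
          have z2 : IsZero ((EtCoh.stalk (geomPt X s)).obj
              ((EtCoh.pull i ⋙ EtCoh.push i).obj F)) := by
            apply Groth.Agent.S0069.main
            rw [Set.disjoint_left]
            rintro _ ⟨t, rfl⟩
            rw [Subsingleton.elim t default, geomPt_default]
            exact hs
          exact ⟨0, z1.eq_of_src _ _, z2.eq_of_src _ _⟩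
      exact (ConcreteCategory.isIso_iff_bijective _).mp this
    exact ⟨(EtCoh.pull i).obj F, ⟨(asIso ((EtCoh.pullPushAdj i).unit.app F)).symm⟩⟩

/-- Part (2), second half — an abelian étale sheaf is a pushforward from a closed subscheme exactly when
its sections vanish over every étale scheme mapping into the open complement. -/
theorem result {Z X : Scheme.{u}} (i : Z ⟶ X) [IsClosedImmersion i] [EtCoh.BCCont i]
    (F : EtCoh.Ab X) :
    (EtCoh.push i).essImage F ↔
      ∀ U : X.Etale, Disjoint (Set.range U.hom.base) (Set.range i.base) → IsZero (F.obj.obj (op U)) := by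
  exact main i F

end Groth.Agent.S0068
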