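import Groth.Statements.S0076
-- import your own Groth.Agent.* helpers here
import Groth.Agent.Lib.Helper9.UHomEt1

set_option autoImplicit false
open CategoryTheory CategoryTheory.Limits AlgebraicGeometry Opposite
universe u
open EtBase

namespace Groth.Agent.S0076

open AlgebraicGeometry CategoryTheory Limits in
theorem map_left_fst {S S' : Scheme.{u}} (g : S' ⟶ S) {X Y : Over S} (φ : Y ⟶ X) :
    ((Over.pullback g).map φ).left ≫ pullback.fst X.hom g = pullback.fst Y.hom g ≫ φ.left :=
  pullback.lift_fst _ _ _

open AlgebraicGeometry CategoryTheory Limits in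
theorem map_left_snd {S S' : Scheme.{u}} (g : S' ⟶ S) {X Y : Over S} (φ : Y ⟶ X) :
    ((Over.pullback g).map φ).left ≫ pullback.snd X.hom g = pullback.snd Y.hom g :=
  pullback.lift_snd _ _ _

/-- For X étale over S and any S-scheme Y, base change along an integral, universally injective,
surjective S' → S gives a bijection between S-morphisms Y → X and S'-morphisms of the base changes. -/
theorem result {S S' : Scheme.{u}} (g : S' ⟶ S) [IsIntegralHom g] [UniversallyInjective g]
    [Surjective g] (X Y : Over S) [AlgebraicGeometry.Etale X.hom] :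
    Function.Bijective (fun φ : Y ⟶ X => (Over.pullback g).map φ) := by
  have hI : IsIntegralHom (pullback.fst Y.hom g) := inferInstance
  have hU : UniversallyInjective (pullback.fst Y.hom g) :=
    MorphismProperty.of_isPullback (P := @UniversallyInjective.{u})
      (IsPullback.of_hasPullback Y.hom g).flip ‹_›
  have hS : Surjective (pullback.fst Y.hom g) := inferInstance
  constructor
  · intro φ₁ φ₂ h12
    have h12' : (Over.pullback g).map φ₁ = (Over.pullback g).map φ₂ := h12
    have h1 : pullback.fst Y.hom g ≫ φ₁.left = pullback.fst Y.hom g ≫ φ₂.left := by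
      rw [← map_left_fst, ← map_left_fst, h12']
    ext
    exact Groth.Agent.Lib.helper9.UHomEt.eq_of_comp_surjective Y.hom X.hom φ₁.left φ₂.left
      (Over.w φ₁) (Over.w φ₂) (pullback.fst Y.hom g) h1
  · intro ψ'
    have hw : ψ'.left ≫ pullback.snd X.hom g = pullback.snd Y.hom g := Over.w ψ'
    have hψ : (ψ'.left ≫ pullback.fst X.hom g) ≫ X.hom = pullback.fst Y.hom g ≫ Y.hom := by
      rw [Category.assoc, pullback.condition, ← Category.assoc, hw, pullback.condition]
    obtain ⟨φ, ⟨hφ1, hφ2⟩, -⟩ := Groth.Agent.Lib.helper9.UHomEt.existsUnique_descent X.hom Y.hom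
      (pullback.fst Y.hom g) (ψ'.left ≫ pullback.fst X.hom g) hψ
    refine ⟨Over.homMk φ hφ1, ?_⟩
    show (Over.pullback g).map (Over.homMk φ hφ1) = ψ'
    ext
    apply pullback.hom_ext
    · rw [map_left_fst]
      exact hφ2
    · rw [map_left_snd]
      exact hw.symm

end Groth.Agent.S0076
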