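import Groth.Statements.S0085
import Groth.Agent.S0082
import Mathlib.RingTheory.Finiteness.Descent

set_option autoImplicit false
open CategoryTheory CategoryTheory.Limits AlgebraicGeometry Opposite
universe u
open EtBase

namespace Groth.Agent.S0085

open TensorProduct in
/-- Integrality descends along faithfully flat ring maps. -/
theorem isIntegral_of_isIntegral_tensorProduct_of_faithfullyFlat
    {R : Type*} (S : Type*) {T : Type*} [CommRing R] [CommRing S] [CommRing T]
    [Algebra R S] [Algebra R T] [Module.FaithfullyFlat R S]
    [Algebra.IsIntegral S (S ⊗[R] T)] : Algebra.IsIntegral R T := by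
  refine ⟨fun t ↦ ?_⟩
  let A : Subalgebra R T := Algebra.adjoin R {t}
  have hA : Algebra.FiniteType R A := by
    rw [← Subalgebra.fg_iff_finiteType]
    have := Subalgebra.fg_adjoin_finset (R := R) ({t} : Finset T)
    simpa using this
  let j : S ⊗[R] A →ₐ[S] S ⊗[R] T := Algebra.TensorProduct.map (AlgHom.id S S) A.val
  have hj : Function.Injective j := by
    have := Module.Flat.lTensor_preserves_injective_linearMap (M := S) A.val.toLinearMap
      Subtype.val_injective
    exact this
  have hint : Algebra.IsIntegral S (S ⊗[R] A) :=
    ⟨fun y ↦ (isIntegral_algHom_iff j hj).mp (Algebra.IsIntegral.isIntegral _)⟩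
  have hft : Algebra.FiniteType S (S ⊗[R] A) := inferInstance
  have hfin : Module.Finite S (S ⊗[R] A) := Algebra.IsIntegral.finite
  have : Module.Finite R A := Module.Finite.of_finite_tensorProduct_of_faithfullyFlat S
  have ht : IsIntegral R (⟨t, Algebra.subset_adjoin (Set.mem_singleton t)⟩ : A) :=
    Algebra.IsIntegral.isIntegral _
  exact ht.map A.val

theorem codescendsAlong_isIntegral :
    RingHom.CodescendsAlong RingHom.IsIntegral RingHom.FaithfullyFlat := by
  refine .mk _ RingHom.isIntegral_respectsIso fun R S T _ _ _ _ _ h h' ↦ ?_
  rw [RingHom.faithfullyFlat_algebraMap_iff] at h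
  have : Algebra.IsIntegral S (TensorProduct R S T) := ⟨h'⟩
  exact (isIntegral_of_isIntegral_tensorProduct_of_faithfullyFlat S (R := R) (T := T)).isIntegral

/-- Integrality of a morphism descends along a quasi-compact flat surjective base change: if the base
change of a morphism along a quasi-compact, flat, surjective morphism is integral, then so is the
morphism. (Stated for a single quasi-compact faithfully flat cover; combined with Zariski-locality
on the target this gives the fpqc-local statement.) -/
theorem result :
    MorphismProperty.DescendsAlong @IsIntegralHom (@Surjective ⊓ @Flat ⊓ @QuasiCompact : MorphismProperty Scheme.{u}) :=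
  Groth.Agent.S0082.descendsAlong_of_affineAnd_fpqc (P := @IsIntegralHom)
    (Q := RingHom.IsIntegral)
    IsIntegralHom.hasAffineProperty RingHom.isIntegral_respectsIso
    codescendsAlong_isIntegral

end Groth.Agent.S0085
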