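import Groth.Statements.S0087
import Groth.Agent.S0086
import Mathlib.RingTheory.Finiteness.Descent
import Mathlib.RingTheory.QuasiFinite.Basic

set_option autoImplicit false
open CategoryTheory CategoryTheory.Limits AlgebraicGeometry Opposite
universe u
open EtBase

namespace Groth.Agent.S0087

open TensorProduct in
/-- Quasi-finiteness descends along faithfully flat ring maps. -/
theorem quasiFinite_of_quasiFinite_tensorProduct_of_faithfullyFlat
    {R : Type*} (S : Type*) {T : Type*} [CommRing R] [CommRing S] [CommRing T]
    [Algebra R S] [Algebra R T] [Module.FaithfullyFlat R S]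
    [Algebra.QuasiFinite S (S ⊗[R] T)] : Algebra.QuasiFinite R T := by
  refine ⟨fun p hp ↦ ?_⟩
  obtain ⟨⟨P, hP⟩, hPp⟩ := PrimeSpectrum.comap_surjective_of_faithfullyFlat (A := R) (B := S) ⟨p, hp⟩
  have hPp' : P.under R = p := congr_arg PrimeSpectrum.asIdeal hPp
  subst hPp'
  let := Localization.AtPrime.algebraOfLiesOver (P.under R) P
  let e : P.Fiber (S ⊗[R] T) ≃ₐ[P.ResidueField]
      P.ResidueField ⊗[(P.under R).ResidueField] ((P.under R).Fiber T) :=
    (Algebra.TensorProduct.cancelBaseChange _ _ _ _ _).trans
      (Algebra.TensorProduct.cancelBaseChange _ _ _ _ _).symm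
  have : Module.Finite P.ResidueField
      (P.ResidueField ⊗[(P.under R).ResidueField] ((P.under R).Fiber T)) :=
    .of_surjective e.toLinearMap e.surjective
  exact Module.Finite.of_finite_tensorProduct_of_faithfullyFlat P.ResidueField

theorem codescendsAlong_quasiFinite :
    RingHom.CodescendsAlong RingHom.QuasiFinite RingHom.FaithfullyFlat := by
  refine .mk _ RingHom.QuasiFinite.respectsIso fun R S T _ _ _ _ _ h h' ↦ ?_
  rw [RingHom.faithfullyFlat_algebraMap_iff] at h
  rw [RingHom.quasiFinite_algebraMap] at h' ⊢
  exact quasiFinite_of_quasiFinite_tensorProduct_of_faithfullyFlat S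

theorem descendsAlong_locallyQuasiFinite :
    MorphismProperty.DescendsAlong @LocallyQuasiFinite
      (@Surjective ⊓ @Flat ⊓ @QuasiCompact : MorphismProperty Scheme.{u}) :=
  HasRingHomProperty.descendsAlong_flat (P := @LocallyQuasiFinite)
    codescendsAlong_quasiFinite

/-- Being locally quasi-finite (in the sense that includes being locally of finite type; encoded as the
conjunction of the two properties) descends along a quasi-compact flat surjective base change: if
the base change of a morphism g along a quasi-compact, flat, surjective morphism to its target is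
locally quasi-finite and locally of finite type, then so is g. (Stated for a single quasi-compact
faithfully flat cover; combined with Zariski-locality on the target this gives the fpqc-local form.) -/
theorem result :
    MorphismProperty.DescendsAlong (@LocallyQuasiFinite ⊓ @LocallyOfFiniteType : MorphismProperty Scheme.{u}) (@Surjective ⊓ @Flat ⊓ @QuasiCompact : MorphismProperty Scheme.{u}) := by
  have h1 := descendsAlong_locallyQuasiFinite.{u}
  have h2 := Groth.Agent.S0086.descendsAlong_locallyOfFiniteType.{u}
  infer_instance

end Groth.Agent.S0087
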