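import Groth.Statements.S0088
import Mathlib
import Groth.Prelude.Def_EtCore
import Groth.Agent.Lib.Helper1.FinStalk
import Groth.Agent.Lib.Helper5.HensSection
import Groth.Agent.Lib.Helper4.SpreadLfp

set_option autoImplicit false
open CategoryTheory CategoryTheory.Limits AlgebraicGeometry Opposite
universe u
open EtBase

namespace Groth.Agent.S0088

/-- a local ring whose maximal ideal consists of nilpotents is henselian -/
theorem henselian_of_nil (R : Type u) [CommRing R] [IsLocalRing R]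
    (hnil : ∀ x ∈ IsLocalRing.maximalIdeal R, IsNilpotent x) : HenselianLocalRing R where
  is_henselian f _ a₀ h₁ h₂ := by
    have h := Polynomial.existsUnique_nilpotent_sub_and_aeval_eq_zero (R := R) (S := R) (P := f)
      (x := a₀) (by rw [Polynomial.coe_aeval_eq_eval]; exact hnil _ h₁)
      (by rw [Polynomial.coe_aeval_eq_eval]; exact h₂)
    obtain ⟨r, ⟨hr1, hr2⟩, -⟩ := h
    refine ⟨r, ?_, ?_⟩
    · rw [Polynomial.IsRoot, ← Polynomial.coe_aeval_eq_eval]; exact hr2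
    · have : IsNilpotent (r - a₀) := by
        rw [← neg_sub]; exact hr1.neg
      rw [IsLocalRing.mem_maximalIdeal, mem_nonunits_iff]
      intro hu
      exact (this.not_isUnit hu) 
      


theorem stalk_nil (S : Scheme.{u}) (h1 : ∀ s : S, IsClosed ({s} : Set S)) (s : S)
    (x : S.presheaf.stalk s) (hx : x ∈ IsLocalRing.maximalIdeal (S.presheaf.stalk s)) :
    IsNilpotent x := by
  have hprime : ∀ p : PrimeSpectrum (S.presheaf.stalk s),
      p = IsLocalRing.closedPoint (S.presheaf.stalk s) := by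
    intro p
    have hp : (S.fromSpecStalk s).base p ⤳ s := by
      have h : (S.fromSpecStalk s).base p ∈ Set.range (S.fromSpecStalk s).base := ⟨p, rfl⟩
      rw [Scheme.range_fromSpecStalk] at h
      exact h
    have h2 : s = (S.fromSpecStalk s).base p := hp.mem_closed (h1 _) rfl
    have h3 : (S.fromSpecStalk s).base (IsLocalRing.closedPoint (S.presheaf.stalk s)) = s :=
      Scheme.fromSpecStalk_closedPoint
    exact (S.fromSpecStalk s).isEmbedding.injective (by rw [h3, ← h2])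
  haveI : Ring.KrullDimLE 0 (S.presheaf.stalk s) := by
    refine Ring.KrullDimLE.mk₀ fun I hI => ?_
    have := hprime ⟨I, hI⟩
    have e : I = IsLocalRing.maximalIdeal (S.presheaf.stalk s) :=
      congrArg PrimeSpectrum.asIdeal this
    rw [e]
    infer_instance
  exact Ring.KrullDimLE.isNilpotent_iff_mem_maximalIdeal.2 hx





theorem exists_local_section (S : Scheme.{u}) (h1 : ∀ s : S, IsClosed ({s} : Set S))
    (h2 : ∀ s : S, IsSepClosed (S.residueField s)) {U : Scheme.{u}} (g : U ⟶ S) [Etale g] (u : U) :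
    ∃ (W : S.Opens) (_ : g.base u ∈ W) (σ : W.toScheme ⟶ U), σ ≫ g = W.ι := by
  set s := g.base u with hs
  haveI : HenselianLocalRing (S.presheaf.stalk s) :=
    henselian_of_nil (S.presheaf.stalk s) (stalk_nil S h1 s)
  haveI := h2 s
  obtain ⟨l, hl1, -⟩ := Scheme.exists_fac_of_etale_of_isSepClosed g
    (Ω := S.residueField s) (S.fromSpecResidueField s) u
    (by rw [Scheme.fromSpecResidueField_apply])
  -- base change to the local ring
  let V := pullback g (S.fromSpecStalk s)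
  let q : V ⟶ Spec (CommRingCat.of (S.presheaf.stalk s)) := pullback.snd g (S.fromSpecStalk s)
  haveI : Etale q := inferInstanceAs (Etale (pullback.snd g (S.fromSpecStalk s)))
  let y : Spec (CommRingCat.of (IsLocalRing.ResidueField (S.presheaf.stalk s))) ⟶ V :=
    pullback.lift l (Spec.map (S.residue s)) hl1
  have hy : y ≫ q = Spec.map (CommRingCat.ofHom (IsLocalRing.residue (S.presheaf.stalk s))) :=
    pullback.lift_snd _ _ _
  obtain ⟨σ, hσ, -⟩ := Groth.Agent.Lib.helper5.HensSection.exists_section_of_etale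
    (S.presheaf.stalk s) q y hy
  have hφ : (σ ≫ pullback.fst g (S.fromSpecStalk s)) ≫ g = S.fromSpecStalk s ≫ 𝟙 S := by
    rw [Category.assoc, pullback.condition, ← Category.assoc]
    have : σ ≫ pullback.snd g (S.fromSpecStalk s) = 𝟙 _ := hσ
    rw [this, Category.id_comp, Category.comp_id]
  haveI : LocallyOfFinitePresentation g := inferInstance
  obtain ⟨W, hsW, f, -, hf⟩ := Groth.Agent.Lib.Helper4.SpreadLfp.spread_out_of_lfp' (𝟙 S) g
    (σ ≫ pullback.fst g (S.fromSpecStalk s)) hφ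
  exact ⟨W, hsW, f, by rw [hf, Category.comp_id]⟩




theorem t2 (S : Scheme.{u}) [IsAffine S] (h1 : ∀ s : S, IsClosed ({s} : Set S)) : T2Space S := by
  refine ⟨fun x t hxt => ?_⟩
  have hop : IsOpen ({t}ᶜ : Set S) := (h1 t).isOpen_compl
  obtain ⟨_, ⟨_, ⟨a, rfl⟩, rfl⟩, hxa, hat⟩ :=
    (isBasis_basicOpen S).exists_subset_of_mem_open (show x ∈ ({t}ᶜ : Set S) from hxt) hop
  have hta : t ∉ S.basicOpen a := fun h => hat h rfl
  rw [Scheme.mem_basicOpen_top] at hta
  have hm : S.presheaf.germ ⊤ t trivial a ∈ IsLocalRing.maximalIdeal (S.presheaf.stalk t) := by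
    rw [IsLocalRing.mem_maximalIdeal, mem_nonunits_iff]; exact hta
  obtain ⟨n, hn⟩ := stalk_nil S h1 t _ hm
  rw [← map_pow] at hn
  have h0 : S.presheaf.germ ⊤ t trivial (a ^ n) = S.presheaf.germ ⊤ t trivial 0 := by
    rw [hn, map_zero]
  obtain ⟨N, htN, iU, iV, hN⟩ := TopCat.Presheaf.germ_eq S.presheaf t (U := ⊤) (V := ⊤) trivial trivial _ _ h0
  refine ⟨S.basicOpen a, N, (S.basicOpen a).2, N.2, hxa, htN, ?_⟩
  rw [Set.disjoint_left]
  intro z hza hzN
  have hu : IsUnit (S.presheaf.germ ⊤ z trivial a) := (Scheme.mem_basicOpen_top S a z).1 hza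
  have hz0 : (S.presheaf.germ ⊤ z trivial a) ^ n = 0 := by
    rw [← map_pow, ← TopCat.Presheaf.germ_res_apply S.presheaf iU z hzN, hN, map_zero, map_zero]
  exact not_isUnit_zero (hz0 ▸ hu.pow n)

theorem exists_clopen (S : Scheme.{u}) [IsAffine S] (h1 : ∀ s : S, IsClosed ({s} : Set S)) (s : S)
    (W : S.Opens) (hs : s ∈ W) : ∃ V : S.Opens, IsClosed (V : Set S) ∧ s ∈ V ∧ V ≤ W := by
  haveI := t2 S h1
  obtain ⟨_, ⟨_, ⟨a, rfl⟩, rfl⟩, hsa, haW⟩ :=
    (isBasis_basicOpen S).exists_subset_of_mem_open hs W.2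
  exact ⟨S.basicOpen a, ((isAffineOpen_top S).basicOpen a).isCompact.isClosed, hsa, haW⟩



/-- an open of `S` as an object of the small étale site -/
noncomputable def ofOpen {S : Scheme.{u}} (W : S.Opens) : S.Etale := Scheme.Etale.mk W.ι

noncomputable def ofOpenHom {S : Scheme.{u}} {W' W : S.Opens} (h : W' ≤ W) :
    ofOpen W' ⟶ ofOpen W :=
  MorphismProperty.Over.homMk (S.homOfLE h) (S.homOfLE_ι h) trivial

noncomputable def ofOpenTop {S : Scheme.{u}} (W : S.Opens) : ofOpen W ⟶ EtCoh.top S :=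
  MorphismProperty.Over.homMk W.ι (Category.comp_id _) trivial

theorem ofOpenHom_top {S : Scheme.{u}} {W' W : S.Opens} (h : W' ≤ W) :
    ofOpenHom h ≫ ofOpenTop W = ofOpenTop W' := by
  apply MorphismProperty.Over.Hom.ext
  exact S.homOfLE_ι h

theorem ofOpenHom_comp {S : Scheme.{u}} {W'' W' W : S.Opens} (h : W'' ≤ W') (h' : W' ≤ W) :
    ofOpenHom h ≫ ofOpenHom h' = ofOpenHom (h.trans h') := by
  apply MorphismProperty.Over.Hom.ext
  exact S.homOfLE_homOfLE h h'

theorem mem_range_ofOpenHom {S : Scheme.{u}} {W' W : S.Opens} (h : W' ≤ W) (x : W) :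
    x ∈ Set.range (ofOpenHom h).left.base ↔ x.1 ∈ W' := by
  change x ∈ (S.homOfLE h).opensRange ↔ _
  rw [Scheme.opensRange_homOfLE]
  rfl

theorem glue2 {S : Scheme.{u}} (F : EtCoh.Ab S) (W₁ W₂ W : S.Opens) (h₁ : W₁ ≤ W) (h₂ : W₂ ≤ W)
    (hd : Disjoint W₁ W₂) (hc : W ≤ W₁ ⊔ W₂) (t₁ : F.obj.obj (op (ofOpen W₁)))
    (t₂ : F.obj.obj (op (ofOpen W₂))) :
    ∃! s : F.obj.obj (op (ofOpen W)), F.obj.map (ofOpenHom h₁).op s = t₁ ∧
      F.obj.map (ofOpenHom h₂).op s = t₂ := by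
  have hle : ∀ b : Bool, (bif b then W₁ else W₂) ≤ W := fun b => by cases b <;> assumption
  have key := Groth.Agent.H1.FinStalk.existsUnique_glue F (ofOpen W) (A := Bool)
    (fun b => ofOpen (bif b then W₁ else W₂)) (fun b => ofOpenHom (hle b))
    (fun b => inferInstanceAs (IsOpenImmersion (S.homOfLE (hle b))))
    (by
      intro a b hab
      rw [Set.disjoint_left]
      intro x hxa hxb
      replace hxa := (mem_range_ofOpenHom (hle a) x).1 hxa
      replace hxb := (mem_range_ofOpenHom (hle b) x).1 hxb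
      have hdd := (disjoint_iff.mp hd)
      cases a <;> cases b
      · exact hab rfl
      · exact (hdd.le ⟨hxb, hxa⟩ : x.1 ∈ (⊥ : S.Opens))
      · exact (hdd.le ⟨hxa, hxb⟩ : x.1 ∈ (⊥ : S.Opens))
      · exact hab rfl)
    (by
      intro x
      rcases hc x.2 with hx | hx
      · exact ⟨true, (mem_range_ofOpenHom (hle true) x).2 hx⟩
      · exact ⟨false, (mem_range_ofOpenHom (hle false) x).2 hx⟩)
    (fun b => by cases b; exact t₂; exact t₁)
  obtain ⟨s, hs, hsu⟩ := key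
  refine ⟨s, ⟨hs true, hs false⟩, fun s' hs' => hsu s' ?_⟩
  intro b
  cases b
  · exact hs'.2
  · exact hs'.1



theorem exists_of_mem {Y : Scheme.{u}} (V : Y.Etale) (R : Sieve V)
    (hR : R ∈ Y.smallEtaleTopology V) (x : V.left) :
    ∃ (W : Y.Etale) (f : W ⟶ V) (y : W.left), R f ∧ f.left.base y = x := by
  have eY : Y.smallEtaleTopology =
      (Y.smallPretopology (P := EtCoh.etaleMP) (Q := EtCoh.etaleMP)).toGrothendieck :=
    Scheme.smallGrothendieckTopology_eq_toGrothendieck_smallPretopology Y le_rfl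
  rw [eY] at hR
  obtain ⟨W, f, y, hf, -, hy⟩ := (Scheme.mem_toGrothendieck_smallPretopology V R).1 hR x
  exact ⟨W, f, y, hf, hy⟩

section Lifts

variable {S : Scheme.{u}} {F G : EtCoh.Ab S} (φ : F ⟶ G) (g : G.obj.obj (op (EtCoh.top S)))

/-- `g` lifts to `F` over the open `W` -/
def Lifts (W : S.Opens) : Prop :=
  ∃ f : F.obj.obj (op (ofOpen W)), φ.hom.app (op (ofOpen W)) f = G.obj.map (ofOpenTop W).op g

theorem naturality_apply {U V : S.Etale} (m : U ⟶ V) (t : F.obj.obj (op V)) :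
    φ.hom.app (op U) (F.obj.map m.op t) = G.obj.map m.op (φ.hom.app (op V) t) := by
  have := φ.hom.naturality m.op
  exact congrArg (fun k => k.hom t) this

theorem map_map_apply (H : EtCoh.Ab S) {U V W : S.Etale} (m : U ⟶ V) (k : V ⟶ W)
    (t : H.obj.obj (op W)) : H.obj.map m.op (H.obj.map k.op t) = H.obj.map (m ≫ k).op t := by
  rw [op_comp, H.obj.map_comp]
  rfl

theorem lifts_bot : Lifts φ g ⊥ := by
  haveI : IsEmpty (ofOpen (⊥ : S.Opens)).left := ⟨fun x => x.2⟩
  haveI := Groth.Agent.H1.EtGerm.subsingleton_of_isEmpty G (ofOpen (⊥ : S.Opens))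
  exact ⟨0, Subsingleton.elim _ _⟩

theorem lifts_mono {W' W : S.Opens} (h : W' ≤ W) (hW : Lifts φ g W) : Lifts φ g W' := by
  obtain ⟨f, hf⟩ := hW
  refine ⟨F.obj.map (ofOpenHom h).op f, ?_⟩
  rw [naturality_apply, hf, map_map_apply, ofOpenHom_top]

theorem lifts_sup {W₁ W₂ : S.Opens} (hc : IsClosed (W₁ : Set S)) (h₁ : Lifts φ g W₁)
    (h₂ : Lifts φ g W₂) : Lifts φ g (W₁ ⊔ W₂) := by
  let W₂' : S.Opens := W₂ ⊓ ⟨(W₁ : Set S)ᶜ, hc.isOpen_compl⟩
  have h₂' : Lifts φ g W₂' := lifts_mono φ g inf_le_left h₂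
  obtain ⟨f₁, hf₁⟩ := h₁
  obtain ⟨f₂, hf₂⟩ := h₂'
  have hle₁ : W₁ ≤ W₁ ⊔ W₂ := le_sup_left
  have hle₂ : W₂' ≤ W₁ ⊔ W₂ := inf_le_left.trans le_sup_right
  have hd : Disjoint W₁ W₂' := by
    rw [disjoint_iff]
    ext x
    constructor
    · rintro ⟨hx1, -, hx2⟩
      exact (hx2 hx1).elim
    · intro hx
      exact hx.elim
  have hcov : W₁ ⊔ W₂ ≤ W₁ ⊔ W₂' := by
    intro x hx
    by_cases hx1 : x ∈ W₁
    · exact Or.inl hx1
    · rcases hx with hx | hx
      · exact Or.inl hx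
      · exact Or.inr ⟨hx, hx1⟩
  obtain ⟨f, ⟨hf1, hf2⟩, -⟩ := glue2 F W₁ W₂' (W₁ ⊔ W₂) hle₁ hle₂ hd hcov f₁ f₂
  refine ⟨f, ?_⟩
  obtain ⟨g', -, hu⟩ := glue2 G W₁ W₂' (W₁ ⊔ W₂) hle₁ hle₂ hd hcov
    (G.obj.map (ofOpenTop W₁).op g) (G.obj.map (ofOpenTop W₂').op g)
  rw [hu (φ.hom.app _ f) ⟨by rw [← naturality_apply, hf1, hf₁], by rw [← naturality_apply, hf2, hf₂]⟩,
    hu (G.obj.map (ofOpenTop (W₁ ⊔ W₂)).op g)
      ⟨by rw [map_map_apply, ofOpenHom_top], by rw [map_map_apply, ofOpenHom_top]⟩]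

theorem lifts_finset_sup {ι : Type*} (t : Finset ι) (W : ι → S.Opens)
    (hc : ∀ i ∈ t, IsClosed (W i : Set S)) (hW : ∀ i ∈ t, Lifts φ g (W i)) :
    IsClosed ((t.sup W : S.Opens) : Set S) ∧ Lifts φ g (t.sup W) := by
  classical
  induction t using Finset.induction_on with
  | empty =>
    refine ⟨?_, ?_⟩
    · rw [Finset.sup_empty]; exact isClosed_empty
    · rw [Finset.sup_empty]; exact lifts_bot φ g
  | insert a t hat ih =>
    obtain ⟨ih1, ih2⟩ := ih (fun i hi => hc i (Finset.mem_insert_of_mem hi))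
      (fun i hi => hW i (Finset.mem_insert_of_mem hi))
    rw [Finset.sup_insert]
    refine ⟨?_, lifts_sup φ g (hc a (Finset.mem_insert_self a t)) (hW a (Finset.mem_insert_self a t)) ih2⟩
    exact (hc a (Finset.mem_insert_self a t)).union ih1

theorem exists_lifts_nhd [IsAffine S] (h1 : ∀ s : S, IsClosed ({s} : Set S))
    (h2 : ∀ s : S, IsSepClosed (S.residueField s)) [Epi φ] (s : S) :
    ∃ W : S.Opens, s ∈ W ∧ IsClosed (W : Set S) ∧ Lifts φ g W := by
  have hls : Presheaf.IsLocallySurjective S.smallEtaleTopology φ.hom :=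
    (Sheaf.isLocallySurjective_iff_epi' (φ := φ)).2 inferInstance
  have hR : Presheaf.imageSieve φ.hom g ∈ S.smallEtaleTopology (EtCoh.top S) :=
    hls.imageSieve_mem g
  obtain ⟨V, k, v, hk, hv⟩ := exists_of_mem (EtCoh.top S) _ hR s
  obtain ⟨t, ht⟩ := hk
  haveI : Etale V.hom := V.prop
  obtain ⟨W₀, hsW₀, σ, hσ⟩ := exists_local_section S h1 h2 V.hom v
  have hkV : k.left = V.hom := by
    have := MorphismProperty.Over.w k
    rw [← this]
    exact (Category.comp_id _).symm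
  have hVv : V.hom.base v = s := by rw [← hkV]; exact hv
  obtain ⟨W, hWc, hsW, hWW₀⟩ := exists_clopen S h1 s W₀ (hVv ▸ hsW₀)
  have hcomp : (S.homOfLE hWW₀ ≫ σ) ≫ V.hom = W.ι :=
    (Category.assoc _ _ _).trans ((congrArg (fun z => S.homOfLE hWW₀ ≫ z) hσ).trans
      (S.homOfLE_ι hWW₀))
  let m : ofOpen W ⟶ V := MorphismProperty.Over.homMk (S.homOfLE hWW₀ ≫ σ) hcomp trivial
  have hmk : m ≫ k = ofOpenTop W := by
    apply MorphismProperty.Over.Hom.ext
    change (S.homOfLE hWW₀ ≫ σ) ≫ k.left = W.ι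
    exact (congrArg (fun z => (S.homOfLE hWW₀ ≫ σ) ≫ z) hkV).trans hcomp
  refine ⟨W, hsW, hWc, F.obj.map m.op t, ?_⟩
  rw [naturality_apply, ht, map_map_apply, hmk]

theorem surjective_app_top [IsAffine S] (h1 : ∀ s : S, IsClosed ({s} : Set S))
    (h2 : ∀ s : S, IsSepClosed (S.residueField s)) [Epi φ] :
    Function.Surjective (φ.hom.app (op (EtCoh.top S))) := by
  intro g
  choose W hsW hWc hWl using exists_lifts_nhd φ g h1 h2
  obtain ⟨t, ht⟩ := CompactSpace.elim_nhds_subcover (fun s => (W s : Set S))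
    (fun s => (W s).2.mem_nhds (hsW s))
  obtain ⟨-, hl⟩ := lifts_finset_sup φ g t W (fun i _ => hWc i) (fun i _ => hWl i)
  have htop : (⊤ : S.Opens) ≤ t.sup W := by
    intro x _
    have hx : x ∈ ⋃ s ∈ t, (W s : Set S) := by rw [ht]; trivial
    simp only [Set.mem_iUnion] at hx
    obtain ⟨i, hi, hxi⟩ := hx
    exact (Finset.le_sup (f := W) hi) hxi
  obtain ⟨f₀, hf₀⟩ := lifts_mono φ g htop hl
  have hoi : ∀ _ : Unit, IsOpenImmersion (ofOpenTop (⊤ : S.Opens)).left :=
    fun _ => inferInstanceAs (IsOpenImmersion (⊤ : S.Opens).ι)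
  have hcov : ∀ x : (EtCoh.top S).left, ∃ _ : Unit, x ∈ Set.range (ofOpenTop (⊤ : S.Opens)).left.base := by
    intro x
    refine ⟨(), ?_⟩
    change x ∈ Set.range (⊤ : S.Opens).ι.base
    rw [Scheme.Opens.range_ι]
    trivial
  obtain ⟨f, hf, -⟩ := Groth.Agent.H1.FinStalk.existsUnique_glue F (EtCoh.top S) (A := Unit)
    (fun _ => ofOpen (⊤ : S.Opens)) (fun _ => ofOpenTop ⊤) hoi (fun a b hab => (hab rfl).elim) hcov
    (fun _ => f₀)
  refine ⟨f, ?_⟩
  rw [← sub_eq_zero]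
  apply Groth.Agent.H1.FinStalk.eq_zero_of_cover G (EtCoh.top S) (A := Unit)
    (fun _ => ofOpen (⊤ : S.Opens)) (fun _ => ofOpenTop ⊤) hoi (fun a b hab => (hab rfl).elim) hcov
  intro _
  rw [map_sub, ← naturality_apply, hf (), hf₀, sub_self]

end Lifts

instance projective_ulift_int : Projective (AddCommGrpCat.of (ULift.{u + 1} ℤ)) where
  factors {E X} f e _ := by
    have hs : Function.Surjective e.hom := (AddCommGrpCat.epi_iff_surjective e).1 inferInstance
    obtain ⟨x, hx⟩ := hs (f.hom ⟨1⟩)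
    let d : ULift.{u + 1} ℤ →+ ℤ := AddEquiv.ulift.toAddMonoidHom
    refine ⟨AddCommGrpCat.ofHom ((zmultiplesHom E x).comp d), ?_⟩
    ext ⟨n⟩
    change e.hom (n • x) = f.hom ⟨n⟩
    rw [map_zsmul, hx, ← map_zsmul]
    congr 1
    ext
    simp

theorem main (S : Scheme.{u}) [IsAffine S] (h1 : ∀ s : S, IsClosed ({s} : Set S))
    (h2 : ∀ s : S, IsSepClosed (S.residueField s)) (F : EtCoh.Ab S) (i : ℕ) (hi : 1 ≤ i) :
    Subsingleton (EtCoh.H S F i) := by
  haveI : (EtCore.gsec S).PreservesEpimorphisms :=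
    ⟨fun {F G} φ _ => (AddCommGrpCat.epi_iff_surjective _).2 (surjective_app_top φ h1 h2)⟩
  haveI : Projective ((constantSheaf S.smallEtaleTopology AddCommGrpCat.{u + 1}).obj
      (AddCommGrpCat.of (ULift ℤ))) :=
    (EtCore.constAdj S).map_projective _ inferInstance
  obtain ⟨n, rfl⟩ : ∃ n, i = n + 1 := ⟨i - 1, by omega⟩
  exact ⟨fun a b => by
    rw [Abelian.Ext.eq_zero_of_projective a, Abelian.Ext.eq_zero_of_projective b]⟩

/-- On an affine scheme all of whose points are closed and all of whose residue fields are separably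
closed, every abelian étale sheaf has vanishing cohomology in positive degrees. -/
theorem result (S : Scheme.{u}) [IsAffine S] (h1 : ∀ s : S, IsClosed ({s} : Set S))
    (h2 : ∀ s : S, IsSepClosed (S.residueField s)) (F : EtCoh.Ab S) (i : ℕ) (hi : 1 ≤ i) :
    Subsingleton (EtCoh.H S F i) := by
  exact main S h1 h2 F i hi

end Groth.Agent.S0088
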