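import Groth.Statements.S0098
import Groth.Agent.Lib.Helper3.UnramifiedFibre

set_option autoImplicit false
open CategoryTheory CategoryTheory.Limits AlgebraicGeometry Opposite
universe u
open EtBase

namespace Groth.Agent.S0098

/-- A finite étale morphism whose fibre over a point s is a single point with the same residue field is
an isomorphism over an open neighbourhood of s. -/
theorem result {X S : Scheme.{u}} (f : X ⟶ S) [IsFinite f] [AlgebraicGeometry.Etale f] (s : S) (x : X)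
    (hx : f.base ⁻¹' {s} = {x}) (hκ : Function.Surjective (f.residueFieldMap x)) :
    ∃ U : S.Opens, s ∈ U ∧ IsIso (f ∣_ U) := by
  obtain ⟨U₁, hs, h⟩ := Groth.Agent.Lib.helper3.exists_opens_forall_mono_restrict f s x hx hκ
  let R : S.Opens := ⟨Set.range f.base, f.isOpenMap.isOpen_range⟩
  have hsR : s ∈ R := ⟨x, by
    have : x ∈ f.base ⁻¹' {s} := by rw [hx]; rfl
    exact this⟩
  refine ⟨U₁ ⊓ R, ⟨hs, hsR⟩, ?_⟩
  have hmono : Mono (f ∣_ (U₁ ⊓ R)) := h _ inf_le_left
  have hoi : IsOpenImmersion (f ∣_ (U₁ ⊓ R)) := IsOpenImmersion.of_flat_of_mono _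
  rw [isIso_iff_isOpenImmersion_and_surjective]
  refine ⟨hoi, ⟨?_⟩⟩
  rintro ⟨u, hu1, ⟨y, rfl⟩⟩
  refine ⟨⟨y, ⟨hu1, ⟨y, rfl⟩⟩⟩, ?_⟩
  apply Subtype.ext
  exact morphismRestrict_base_coe f (U₁ ⊓ R) _

end Groth.Agent.S0098
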