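import Groth.Statements.S0099
import Groth.Agent.Lib.Helper1.EtCartanC
import Groth.Agent.Lib.Helper1.FiltExtMain

set_option autoImplicit false
open CategoryTheory CategoryTheory.Limits AlgebraicGeometry Opposite
universe u
open EtBase

namespace Groth.Agent.S0099

open Groth.Agent.H1.EtCartan Groth.Agent.H1.FiltExt CategoryTheory.Abelian

universe w v w'

/-- recognizing filtered colimits of abelian groups -/
theorem isColimit_of_surj_inj {J : Type v} [Category.{w'} J] [IsFiltered J]
    (G : J ⥤ AddCommGrpCat.{w}) [HasColimitsOfShape J AddCommGrpCat.{w}]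
    [PreservesColimitsOfShape J (forget AddCommGrpCat.{w})] (t : Cocone G)
    (hS : ∀ x : t.pt, ∃ (j : J) (y : G.obj j), t.ι.app j y = x)
    (hI : ∀ (j : J) (y : G.obj j), t.ι.app j y = 0 → ∃ (k : J) (f : j ⟶ k), G.map f y = 0) :
    Nonempty (IsColimit t) := by
  haveI : ReflectsColimitsOfShape J (forget AddCommGrpCat.{w}) :=
    reflectsColimitsOfShape_of_reflectsIsomorphisms
  refine ⟨isColimitOfReflects (forget _) (Types.FilteredColimit.isColimitOf' _ _ ?_ ?_)⟩
  · intro x
    obtain ⟨j, y, h⟩ := hS x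
    exact ⟨j, y, h.symm⟩
  · intro i x y h
    obtain ⟨x', hx'⟩ : ∃ x' : G.obj i, x' = x := ⟨x, rfl⟩
    obtain ⟨y', hy'⟩ : ∃ y' : G.obj i, y' = y := ⟨y, rfl⟩
    have h' : t.ι.app i x' = t.ι.app i y' := by rw [hx', hy']; exact h
    obtain ⟨k, f, hf⟩ := hI i (x' - y') (by rw [map_sub, sub_eq_zero]; exact h')
    refine ⟨k, f, ?_⟩
    rw [map_sub, sub_eq_zero] at hf
    rw [← hx', ← hy']
    exact hf

variable {X : Scheme.{u}}

theorem h0S [CompactSpace X] [QuasiSeparatedSpace X] {J : Type u} [SmallCategory J]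
    [IsFiltered J] (K : J ⥤ EtCoh.Ab X) :
    SurjAt (ZZ X) 0 (pt := colimit K) K.obj (colimit.ι K) := by
  intro x
  have hT := EtCore.topIsTerminal X
  obtain ⟨j, t, ht⟩ := sec_rep K (colimit.cocone K) (colimit.isColimit K) (EtCoh.top X) good_top
    (Sheaf.H.equiv₀ (colimit K) hT x)
  refine ⟨j, (Sheaf.H.equiv₀ (K.obj j) hT).symm t, ?_⟩
  apply (Sheaf.H.equiv₀ (colimit K) hT).injective
  have h1 := Sheaf.H.equiv₀_naturality (hT := hT) (colimit.ι K j)
    ((Sheaf.H.equiv₀ (K.obj j) hT).symm t)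
  rw [AddEquiv.apply_symm_apply] at h1
  exact h1.symm.trans ht

theorem h0I [CompactSpace X] [QuasiSeparatedSpace X] {J : Type u} [SmallCategory J]
    [IsFiltered J] (K : J ⥤ EtCoh.Ab X) :
    InjAt (ZZ X) 0 (pt := colimit K) K.obj (fun _ _ f => K.map f) (colimit.ι K) := by
  intro j y hy
  have hT := EtCore.topIsTerminal X
  have h1 := Sheaf.H.equiv₀_naturality (hT := hT) (colimit.ι K j) y
  have hy' : Sheaf.H.map (colimit.ι K j) 0 y = 0 := hy
  rw [hy', map_zero] at h1
  obtain ⟨k, f, hf⟩ := sec_eq K (colimit.cocone K) (colimit.isColimit K) (EtCoh.top X) good_top j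
    (Sheaf.H.equiv₀ (K.obj j) hT y) 0 (h1.trans (map_zero _).symm)
  refine ⟨k, f, ?_⟩
  apply (Sheaf.H.equiv₀ (K.obj k) hT).injective
  have h2 := Sheaf.H.equiv₀_naturality (hT := hT) (K.map f) y
  rw [map_zero] at hf ⊢
  exact h2.symm.trans hf

theorem main (X : Scheme.{u}) [CompactSpace X] [QuasiSeparatedSpace X] (n : ℕ)
    (J : Type u) [SmallCategory J] [IsFiltered J] :
    PreservesColimitsOfShape J (EtCoh.HF X n) := by
  haveI : AB5OfSize.{u, u} (EtCoh.Ab X) := AB5OfSize_of_univLE.{u, u, u + 1, u + 1} _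
  haveI : HasExactColimitsOfShape J (EtCoh.Ab X) := inferInstance
  constructor
  intro K
  apply preservesColimit_of_preserves_colimit_cocone (colimit.isColimit K)
  obtain ⟨hS, hI⟩ := Groth.Agent.H1.FiltExt.main.{u + 1} (ZZ X) h0S h0I
    (fun D hD m x => by
      have hsub : Subsingleton (EtCoh.H X (colimit.cocone D).pt (m + 1)) :=
        subsingleton_H_of_isColimit D (colimit.cocone D) (colimit.isColimit D)
          (fun j => by
            haveI := hD j
            exact cex_of_injective_sheaf (D.obj j)) m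
      exact hsub.elim x 0) n K
  refine (isColimit_of_surj_inj _ _ ?_ ?_).some
  · intro x
    obtain ⟨j, y, h⟩ := hS x
    exact ⟨j, y, h⟩
  · intro j y hy
    obtain ⟨k, f, h⟩ := hI j y hy
    exact ⟨k, f, h⟩

/-- On a quasi-compact quasi-separated scheme, étale cohomology in each degree commutes with filtered
colimits of abelian sheaves (stated for small filtered index categories). -/
theorem result (X : Scheme.{u}) [CompactSpace X] [QuasiSeparatedSpace X] (n : ℕ)
    (J : Type u) [SmallCategory J] [IsFiltered J] :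
    PreservesColimitsOfShape J (EtCoh.HF X n) := by
  exact main X n J

end Groth.Agent.S0099
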