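import Groth.Statements.S6185
import Groth.Agent.Lib.Helper1.SiteCompare
import Groth.Agent.Lib.Helper3.LanFlat
import Groth.Agent.S6688
import Groth.Prelude.Def_EtCore

set_option autoImplicit false
open CategoryTheory CategoryTheory.Limits AlgebraicGeometry Opposite
universe u
open BigSite

namespace Groth.Agent.S6185

instance hasColimitsOfShape_costructuredArrow (X : Scheme.{u}) (K : (Over X)ᵒᵖ) :
    HasColimitsOfShape (CostructuredArrow (EtFppf.a X).op K) AddCommGrpCat.{u + 1} := by
  have : HasColimitsOfSize.{u, u + 1} AddCommGrpCat.{u + 1} :=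
    hasColimitsOfSizeShrink.{u, u + 1, u + 1, u + 1} _
  infer_instance

instance representablyFlat_a (X : Scheme.{u}) : RepresentablyFlat (EtFppf.a X) := by
  have : PreservesFiniteLimits (EtFppf.a X) :=
    inferInstanceAs (PreservesFiniteLimits (Scheme.Etale.forget X))
  exact flat_of_preservesFiniteLimits _

theorem preservesFiniteLimits_piEtPull (X : Scheme.{u}) :
    PreservesFiniteLimits (BigSite.piEtPull Scheme.etalePrecoverage X) := by
  have hfilt : ∀ K : (Over X)ᵒᵖ, IsFiltered (CostructuredArrow (EtFppf.a X).op K) := fun K ↦
    IsFiltered.of_equivalence (structuredArrowOpEquivalence (EtFppf.a X) (unop K))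
  have hcolim : ∀ K : (Over X)ᵒᵖ, PreservesFiniteLimits
      (colim : (CostructuredArrow (EtFppf.a X).op K ⥤ AddCommGrpCat.{u + 1}) ⥤ _) := by
    intro K
    have := hfilt K
    have : PreservesColimitsOfShape (CostructuredArrow (EtFppf.a X).op K)
        (forget AddCommGrpCat.{u + 1}) := by
      have h1 : PreservesFilteredColimitsOfSize.{u, u + 1} (forget AddCommGrpCat.{u + 1}) :=
        preservesFilteredColimitsOfSize_shrink.{u + 1, u + 1, u, u + 1} _
      exact h1.preserves_filtered_colimits _
    infer_instance
  have hlan : PreservesFiniteLimits ((EtFppf.a X).op.lan :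
      ((X.Etale)ᵒᵖ ⥤ AddCommGrpCat.{u + 1}) ⥤ (Over X)ᵒᵖ ⥤ AddCommGrpCat.{u + 1}) :=
    Groth.Agent.Lib.helper3.lan_preservesFiniteLimits_of_flat_gen _ (EtFppf.a X)
  exact Functor.sheafPullbackConstruction.preservesFiniteLimits (EtFppf.a X)
    AddCommGrpCat.{u + 1} X.smallEtaleTopology (QuotSh.J Scheme.etalePrecoverage X)

theorem main (X : Scheme.{u}) (F : BigSite.Ab Scheme.etalePrecoverage X) (p : ℕ) :
    Nonempty (EtCoh.H X ((BigSite.resEt Scheme.etalePrecoverage X).obj F) p ≃+
      BigSite.H Scheme.etalePrecoverage X F p) := by
  have i1 := preservesFiniteLimits_piEtPull X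
  have i2 : PreservesFiniteColimits (BigSite.piEtPull Scheme.etalePrecoverage X) := by
    have : PreservesColimitsOfSize.{0, 0} (BigSite.piEtPull Scheme.etalePrecoverage X) :=
      (BigSite.piEtAdj Scheme.etalePrecoverage X).leftAdjoint_preservesColimits
    exact PreservesColimitsOfSize.preservesFiniteColimits _
  have i3 : (BigSite.piEtPull Scheme.etalePrecoverage X).Additive :=
    (BigSite.piEtAdj Scheme.etalePrecoverage X).left_adjoint_additive
  have i4 := Groth.Agent.S6688.preservesFiniteLimits_resEt X
  have i5 := Groth.Agent.S6688.preservesFiniteColimits_resEt X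
  exact Groth.Agent.H1.SiteCompare.nonempty_H_addEquiv X.smallEtaleTopology
    (QuotSh.J Scheme.etalePrecoverage X) (EtFppf.a X) (BigSite.piEtAdj Scheme.etalePrecoverage X)
    (EtCore.topIsTerminal X) Over.mkIdTerminal F p

/-- For a scheme X and an abelian sheaf F on the big etale site of X, the cohomology groups H^p(X_et,
F|) of the restriction of F to the small etale site and H^p of F on the big etale site are
isomorphic for every p. Existence of an additive isomorphism only (the published statement asserts
that the canonical comparison homomorphism is an isomorphism; that map is not named here). -/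
theorem result (X : Scheme.{u})
    (F : BigSite.Ab Scheme.etalePrecoverage X) (p : ℕ) :
    Nonempty (EtCoh.H X ((BigSite.resEt Scheme.etalePrecoverage X).obj F) p ≃+
      BigSite.H Scheme.etalePrecoverage X F p) := by
  exact main X F p

end Groth.Agent.S6185
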