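import Groth.Statements.S0109
import Groth.Agent.Lib.Helper1.AffCartanC
import Groth.Agent.Lib.Helper1.AmitsurGa
import Groth.Agent.S6185

set_option autoImplicit false
open CategoryTheory CategoryTheory.Limits AlgebraicGeometry Opposite
universe u
open EtBase

namespace Groth.Agent.S0109

open Groth.Agent.H1.AffCartan Groth.Agent.H1.AmitsurGa

/-- the additive group as a sheaf on the big étale site of `S` -/
noncomputable def gaBig (S : Scheme.{u}) : BigSite.Ab Scheme.etalePrecoverage S :=
  ((Over.forget S).sheafPushforwardContinuous AddCommGrpCat.{u + 1}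
    (Scheme.etaleTopology.over S) Scheme.etaleTopology).obj ⟨EtCoh.ΓAdd, EtCoh.isSheaf_ΓAdd⟩

theorem gaBig_obj (S : Scheme.{u}) : (gaBig S).obj = gaPre S := rfl

theorem resEt_gaBig (S : Scheme.{u}) :
    (BigSite.resEt Scheme.etalePrecoverage S).obj (gaBig S) = EtCoh.Ga S := rfl

theorem main (S : Scheme.{u}) [IsAffine S] (p : ℕ) (hp : 1 ≤ p) :
    Subsingleton (EtCoh.H S (EtCoh.Ga S) p) := by
  obtain ⟨n, rfl⟩ : ∃ n, p = n + 1 := ⟨p - 1, by omega⟩
  have hcex : CEx (gaBig S).obj := by
    rw [gaBig_obj]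
    exact cex_gaPre
  haveI := subsingleton_H_of_cex n (gaBig S) (by exact @hcex)
  obtain ⟨e⟩ := Groth.Agent.S6185.result S (gaBig S) (n + 1)
  rw [resEt_gaBig] at e
  exact e.injective.subsingleton

/-- On an affine scheme S, the étale cohomology H^p(S_ét, G_a) of the additive group sheaf (the
structure sheaf) vanishes for every p ≥ 1. -/
theorem result (S : Scheme.{u}) [IsAffine S] (p : ℕ) (hp : 1 ≤ p) : Subsingleton (EtCoh.H S (EtCoh.Ga S) p) := by
  exact main S p hp

end Groth.Agent.S0109
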