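import Groth.Statements.S0103
import Groth.Agent.S0109
import Groth.Agent.Lib.Helper1.ASSheafC

set_option autoImplicit false
open CategoryTheory CategoryTheory.Limits AlgebraicGeometry Opposite
universe u
open EtBase

namespace Groth.Agent.S0103

open Groth.Agent.H1.ASSheafC

theorem main (S : Scheme.{u}) [IsAffine S] (p : ℕ) [Fact p.Prime] [CharP Γ(S, ⊤) p]
    (q : ℕ) (hq : 2 ≤ q) : Subsingleton (EtCoh.H S (EtCoh.const S (ZMod p)) q) := by
  have hp : (p : Γ(S, ⊤)) = 0 := CharP.cast_eq_zero _ p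
  have hT := shortExact_T S p hp
  obtain ⟨n, rfl⟩ : ∃ n, q = n + 2 := ⟨q - 2, by omega⟩
  have h1 : Subsingleton (EtCoh.H S (EtCoh.Ga S) (n + 2)) :=
    Groth.Agent.S0109.result S (n + 2) (by omega)
  have h2 : Subsingleton (EtCoh.H S (EtCoh.Ga S) (n + 1)) :=
    Groth.Agent.S0109.result S (n + 1) (by omega)
  suffices h : ∀ x : EtCoh.H S (EtCoh.const S (ZMod p)) (n + 2), x = 0 by
    constructor
    intro a b
    rw [h a, h b]
  intro x
  obtain ⟨x₃, hx₃⟩ := Abelian.Ext.covariant_sequence_exact₁ _ hT x (h1.elim _ _)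
    (rfl : n + 1 + 1 = n + 2)
  have hz : x₃ = 0 := h2.elim x₃ 0
  rw [← hx₃, hz, Abelian.Ext.zero_comp]
  rfl

/-- Let S be an affine scheme whose ring of global sections has prime characteristic p. Then the étale
cohomology H^q(S, Z/p) with constant Z/p coefficients vanishes for every q ≥ 2. -/
theorem result (S : Scheme.{u}) [IsAffine S] (p : ℕ) [Fact p.Prime] [CharP Γ(S, ⊤) p]
    (q : ℕ) (hq : 2 ≤ q) : Subsingleton (EtCoh.H S (EtCoh.const S (ZMod p)) q) := by
  exact main S p q hq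

end Groth.Agent.S0103
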