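import Groth.Statements.S0108
import Groth.Agent.Lib.Helper1.KummerCover

set_option autoImplicit false
open CategoryTheory CategoryTheory.Limits AlgebraicGeometry Opposite
universe u
open EtBase

namespace Groth.Agent.S0108

open Groth.Agent.H1.GmSec Groth.Agent.H1.KummerCover

theorem subsingleton_Gm_of_isUnit_zero (S : Scheme.{u}) (h : IsUnit ((0 : ℕ) : Γ(S, ⊤)))
    (U : S.Etale) : Subsingleton ((EtCoh.Gm S).obj.obj (op U)) := by
  have h0 : Subsingleton Γ(S, ⊤) := by
    rw [Nat.cast_zero, isUnit_zero_iff] at h
    exact subsingleton_of_zero_eq_one h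
  have h1 : Subsingleton Γ(U.left, ⊤) :=
    @RingHom.codomain_trivial Γ(S, ⊤) Γ(U.left, ⊤) _ _ (U.hom.appTop.hom) h0
  constructor
  intro s t
  have : ofGm U s = ofGm U t := Subsingleton.elim _ _
  exact congrArg (toGm U) this

theorem main (S : Scheme.{u}) (n : ℕ) (hn : IsUnit (n : Γ(S, ⊤))) : Epi (EtCoh.powMap S n) := by
  have : Presheaf.IsLocallySurjective S.smallEtaleTopology (EtCoh.powMap S n).hom := by
    constructor
    intro U s
    apply Groth.Agent.H1.ClosedDense.mem_smallEtaleTopology
    intro x
    by_cases hn0 : 0 < n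
    · obtain ⟨V, k, y, t, hy, ht⟩ := exists_root_cover n hn0 hn U s x
      refine ⟨V, k, y, ⟨t, ?_⟩, hy⟩
      exact (powMap_app n V t).trans ht
    · have hn1 : n = 0 := by omega
      subst hn1
      have := subsingleton_Gm_of_isUnit_zero S hn U
      exact ⟨U, 𝟙 U, x, ⟨0, Subsingleton.elim _ _⟩, rfl⟩
  exact Sheaf.epi_of_isLocallySurjective _

/-- The Kummer sequence — when n is invertible on S, the n-th power map on the multiplicative group
sheaf is an epimorphism of étale sheaves (its kernel μ_n is, by definition in the prelude, the sheaf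
of n-th roots of unity, so the sequence 0 → μ_n → G_m → G_m → 0 is exact). -/
theorem result (S : Scheme.{u}) (n : ℕ) (hn : IsUnit (n : Γ(S, ⊤))) : Epi (EtCoh.powMap S n) := by
  exact main S n hn

end Groth.Agent.S0108
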