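import Groth.Statements.S0110
import Groth.Agent.Lib.Helper1.EtZarLeray
import Groth.Agent.Lib.Helper1.ZarUlift
import Groth.Agent.Lib.Helper1.ZarContProof
import Groth.Agent.S0109

set_option autoImplicit false
open CategoryTheory CategoryTheory.Limits AlgebraicGeometry Opposite
universe u
open EtBase

namespace Groth.Agent.S0110

open Groth.Agent.S17614 Groth.Agent.H1.ZarUlift TopologicalSpace

theorem acyc_Ga (X : Scheme.{u}) : Acyc (EtCoh.Ga X) := by
  intro T hT i hi
  have hE : Etale (T.hom : T.left ⟶ X) := T.prop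
  have e : (EtCoh.pull (Y := X) T.hom).obj (EtCoh.Ga X) ≅ EtCoh.Ga T.left :=
    ((Groth.Agent.H1.EtStalkPull.restrIsoPull (X := X) T.hom).app (EtCoh.Ga X)).symm
  have h0 : Subsingleton ((EtCoh.HF T.left i).obj (EtCoh.Ga T.left)) :=
    Groth.Agent.S0109.result T.left i hi
  exact (((EtCoh.HF T.left i).mapIso e).addCommGroupIsoToAddEquiv).toEquiv.subsingleton

variable (X : Scheme.{u}) [EtZar.ZarCont X]

/-- sections of `π_* G_a` and of `O_X` -/
noncomputable def gaEquiv (U : (X.Opens)ᵒᵖ) :
    ((EtZar.resZar X).obj (EtCoh.Ga X)).obj.obj U ≃+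
      ((Φ X).obj (Coh.toAb (Coh.structureModule X))).obj.obj U :=
  (AddEquiv.ulift (α := Γ(↑U.unop, ⊤))).trans
    (((U.unop.topIso).commRingCatIsoToRingEquiv.toAddEquiv).trans
      (AddEquiv.ulift (α := Γ(X, U.unop))).symm)


theorem gaEquiv_naturality {U V : (X.Opens)ᵒᵖ} (i : U ⟶ V)
    (s : ((EtZar.resZar X).obj (EtCoh.Ga X)).obj.obj U) :
    gaEquiv X V (((EtZar.resZar X).obj (EtCoh.Ga X)).obj.map i s) =
      ((Φ X).obj (Coh.toAb (Coh.structureModule X))).obj.map i (gaEquiv X U s) := by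
  obtain ⟨a⟩ := s
  change (⟨(V.unop.topIso).hom.hom ((X.homOfLE i.unop.le).appTop.hom a)⟩ : ULift Γ(X, V.unop)) =
    ⟨(X.presheaf.map i).hom ((U.unop.topIso).hom.hom a)⟩
  congr 1
  rw [Scheme.homOfLE_appTop, Scheme.Opens.topIso_hom, Scheme.Opens.topIso_hom]
  change (X.presheaf.map _ ≫ X.presheaf.map _).hom a = (X.presheaf.map _ ≫ X.presheaf.map _).hom a
  rw [← Functor.map_comp, ← Functor.map_comp]
  rfl

/-- `π_* G_a` is the structure sheaf, lifted one universe up -/
noncomputable def gaIso :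
    (EtZar.resZar X).obj (EtCoh.Ga X) ≅ (Φ X).obj (Coh.toAb (Coh.structureModule X)) :=
  (fullyFaithfulSheafToPresheaf _ _).preimageIso
    (NatIso.ofComponents (fun U => (gaEquiv X U).toAddCommGrpIso) (by
      intro U V i
      ext s
      exact gaEquiv_naturality X i s))

theorem main' (p : ℕ) :
    Nonempty (EtCoh.H X (EtCoh.Ga X) p ≃+ Coh.HH X (Coh.structureModule X) p) := by
  obtain ⟨e1⟩ := Groth.Agent.H1.EtZarLeray.main (EtCoh.Ga X) (acyc_Ga X) p
  obtain ⟨e3⟩ := nonempty_H_addEquiv (Coh.toAb (Coh.structureModule X)) p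
  let e2 : EtZar.H ((EtZar.resZar X).obj (EtCoh.Ga X)) p ≃+
      EtZar.H ((Φ X).obj (Coh.toAb (Coh.structureModule X))) p :=
    ((Sheaf.functorH (Opens.grothendieckTopology X) p).mapIso (gaIso X)).addCommGroupIsoToAddEquiv
  exact ⟨e1.trans (e2.trans e3.symm)⟩

omit [EtZar.ZarCont X] in
theorem main (p : ℕ) :
    Nonempty (EtCoh.H X (EtCoh.Ga X) p ≃+ Coh.HH X (Coh.structureModule X) p) := by
  haveI := Groth.Agent.H1.ZarContProof.zarCont X
  exact main' X p

/-- For any scheme X and every p, the étale cohomology group H^p(X_ét, G_a) of the additive group sheaf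
is isomorphic, as an additive group, to the Zariski cohomology group H^p(X, O_X) of the structure
sheaf. (Only the existence of an additive isomorphism is asserted; the published statement gives a
canonical identification.) -/
theorem result (X : Scheme.{u}) (p : ℕ) :
    Nonempty (EtCoh.H X (EtCoh.Ga X) p ≃+ Coh.HH X (Coh.structureModule X) p) := by
  exact main X p

end Groth.Agent.S0110
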