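import Groth.Statements.S0111
import Groth.Agent.Lib.Helper5.StrictHensScheme
import Mathlib.AlgebraicGeometry.Sites.EtalePoint

set_option autoImplicit false
open CategoryTheory CategoryTheory.Limits AlgebraicGeometry Opposite
universe u
open EtBase

namespace Groth.Agent.S0111

/-- Let X be a scheme and ξ : Spec Ω → X a geometric point, Ω a separably closed field. Then the étale
local ring of X at ξ (the stalk of the structure sheaf on the small étale site of X at ξ) is a
strictly henselian local ring. The published statement is stronger: it identifies this ring with the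
strict henselization of the Zariski local ring at the underlying point of ξ; only the consequence
that it is strictly henselian is asserted here. -/
theorem result {X : Scheme.{u}} {Ω : Type u} [Field Ω] [IsSepClosed Ω]
    (ξ : Spec (CommRingCat.of Ω) ⟶ X) : EtCoh.IsStrictlyHenselianLocalRing (EtBase.etaleLocalRing ξ) := by
  open Groth.Agent.Lib.helper5.StrictHens in
  refine strictlyHenselian_presheafFiber (Scheme.pointSmallEtale ξ) (EtBase.OO X) Ω
    (fun U x => evPt x.left) ?_ ?_ ?_
  · intro V U g y
    exact (evPt_comp y.left g.left).symm
  · intro U x s hs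
    obtain ⟨V, g, hg, y, hy, hu⟩ := exists_unit_nbhd x.left s hs
    have hU : Etale U.hom := U.prop
    have hw : y ≫ g ≫ U.hom = ξ := by
      rw [← Category.assoc, hy]
      exact Over.w x
    refine ⟨MorphismProperty.Over.mk ⊤ (g ≫ U.hom) (MorphismProperty.comp_mem @Etale g U.hom hg hU),
      MorphismProperty.Over.homMk g rfl, Over.homMk y hw, ?_, hu⟩
    apply Over.OverMorphism.ext
    exact hy
  · intro U x f hf a₀ h0 h0'
    obtain ⟨V, g, hg, y, hy, b, hb1, hb2⟩ := exists_root_nbhd x.left f hf a₀ h0 h0'
    have hU : Etale U.hom := U.prop
    have hw : y ≫ g ≫ U.hom = ξ := by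
      rw [← Category.assoc, hy]
      exact Over.w x
    refine ⟨MorphismProperty.Over.mk ⊤ (g ≫ U.hom) (MorphismProperty.comp_mem @Etale g U.hom hg hU),
      MorphismProperty.Over.homMk g rfl, Over.homMk y hw, ?_, b, hb1, hb2⟩
    apply Over.OverMorphism.ext
    exact hy

end Groth.Agent.S0111
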