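import Groth.Statements.S5075
import Mathlib
import Groth.Agent.Lib.Helper18.EtLift

set_option autoImplicit false
open CategoryTheory AlgebraicGeometry
universe u
open Unram

namespace Groth.Agent.S5075

open Limits in

/-- Let p : X ⟶ S be étale, g : S' ⟶ S a morphism and i : S'₀ ⟶ S' a surjective closed immersion (a
closed subscheme with the same underlying space). Then for every f₀ : S'₀ ⟶ X over S there is
exactly one f : S' ⟶ X over S with i ≫ f = f₀. -/
theorem result {X S S' S'₀ : Scheme.{u}} (p : X ⟶ S) [Etale p]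
    (g : S' ⟶ S) (i : S'₀ ⟶ S') [IsClosedImmersion i] [Surjective i]
    (f₀ : S'₀ ⟶ X) (h₀ : f₀ ≫ p = i ≫ g) :
    ∃! f : S' ⟶ X, f ≫ p = g ∧ i ≫ f = f₀ := by
  obtain ⟨σ, hσ1, hσ2⟩ := Groth.Agent.Lib.Helper18.EtLift.exists_section_of_thickening
    (pullback.snd p g) i (pullback.lift f₀ i h₀) (pullback.lift_snd _ _ _)
  refine ⟨σ ≫ pullback.fst p g, ⟨?_, ?_⟩, ?_⟩
  · rw [Category.assoc, pullback.condition, ← Category.assoc, hσ1, Category.id_comp]
  · rw [← Category.assoc, hσ2, pullback.lift_fst]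
  · rintro f ⟨hf1, hf2⟩
    refine Groth.Agent.Lib.Helper18.EtLift.hom_ext_of_surjective p i ?_ ?_
    · rw [hf1, Category.assoc, pullback.condition, ← Category.assoc, hσ1, Category.id_comp]
    · rw [hf2, ← Category.assoc, hσ2, pullback.lift_fst]

end Groth.Agent.S5075
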