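import Groth.Statements.S0117
import Mathlib
import Groth.Agent.Lib.Helper18.EtLift
import Groth.Agent.S5075

set_option autoImplicit false
open CategoryTheory CategoryTheory.Limits AlgebraicGeometry Opposite
universe u
open EtBase

namespace Groth.Agent.S0117



/-- Topological invariance of étale morphisms, first-order form — for X étale over S and any S-scheme Y,
base change to a closed subscheme S₀ with the same underlying space gives a bijection between
S-morphisms Y → X and S₀-morphisms of the base changes. -/
theorem result {S S₀ : Scheme.{u}} (i : S₀ ⟶ S) [IsClosedImmersion i] [Surjective i]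
    (X Y : Over S) [AlgebraicGeometry.Etale X.hom] :
    Function.Bijective (fun φ : Y ⟶ X => (Over.pullback i).map φ) := by
  let j : pullback Y.hom i ⟶ Y.left := pullback.fst Y.hom i
  have hsq : IsPullback j (pullback.snd Y.hom i) Y.hom i := IsPullback.of_hasPullback _ _
  have : IsClosedImmersion j := MorphismProperty.of_isPullback hsq.flip inferInstance
  have : Surjective j := MorphismProperty.of_isPullback (P := @Surjective) hsq.flip inferInstance
  constructor
  · intro φ₁ φ₂ h
    have h' : ((Over.pullback i).map φ₁).left ≫ pullback.fst X.hom i =
        ((Over.pullback i).map φ₂).left ≫ pullback.fst X.hom i := by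
      simp only at h
      rw [h]
    simp only [Over.pullback_map_left, pullback.lift_fst] at h'
    apply Over.OverMorphism.ext
    exact Groth.Agent.Lib.Helper18.EtLift.hom_ext_of_surjective X.hom j
      (by rw [Over.w φ₁, Over.w φ₂]) h'
  · intro ψ
    have hψ : ψ.left ≫ pullback.snd X.hom i = pullback.snd Y.hom i := Over.w ψ
    obtain ⟨f, ⟨hf1, hf2⟩, -⟩ := Groth.Agent.S5075.result X.hom Y.hom j
      (ψ.left ≫ pullback.fst X.hom i) (by
        rw [Category.assoc, pullback.condition, ← Category.assoc, hψ, ← pullback.condition])
    refine ⟨Over.homMk f hf1, ?_⟩
    apply Over.OverMorphism.ext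
    apply pullback.hom_ext
    · simp only [Over.pullback_map_left, pullback.lift_fst, Over.homMk_left]
      exact hf2
    · simp only [Over.pullback_map_left, pullback.lift_snd]
      exact hψ.symm

end Groth.Agent.S0117
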