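import Groth.Statements.S0118
-- import your own Groth.Agent.* helpers here
import Groth.Agent.Lib.Helper9.ThickLift5
import Groth.Agent.Lib.Helper9.ThickLift6

set_option autoImplicit false
open CategoryTheory CategoryTheory.Limits AlgebraicGeometry Opposite
universe u
open EtBase

namespace Groth.Agent.S0118

/-- Base change to a closed subscheme with the same underlying space is an equivalence between the
categories of étale schemes over the two. -/
theorem result {S S₀ : Scheme.{u}} (i : S₀ ⟶ S) [IsClosedImmersion i] [Surjective i] :
    (EtCoh.bc i).IsEquivalence := by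
  have hP : (EtCoh.etaleMP.{u}) ≤ @Etale := le_rfl
  have h1 : (EtCoh.bc i).Faithful :=
    Groth.Agent.Lib.helper9.ThickLift.faithful_pullback EtCoh.etaleMP.{u} hP i
  have h2 : (EtCoh.bc i).Full :=
    Groth.Agent.Lib.helper9.ThickLift.full_pullback EtCoh.etaleMP.{u} hP i
  have h3 : (EtCoh.bc i).EssSurj := by
    constructor
    intro T₀
    have : Etale T₀.hom := T₀.prop
    obtain ⟨U', u', hu', e, he⟩ :=
      Groth.Agent.Lib.helper9.ThickLift.exists_etale_lift_of_thickening i T₀.hom
    exact ⟨MorphismProperty.Over.mk ⊤ u' hu', ⟨MorphismProperty.Over.isoMk e he⟩⟩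
  exact { }

end Groth.Agent.S0118
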