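import Groth.Statements.S0119
import Mathlib.AlgebraicGeometry.Morphisms.Etale
import Mathlib.AlgebraicGeometry.Morphisms.FormallyUnramified
import Mathlib.AlgebraicGeometry.Morphisms.Flat
import Mathlib.AlgebraicGeometry.Geometrically.Reduced
import Mathlib.RingTheory.Unramified.Field
import Mathlib.RingTheory.Flat.FaithfullyFlat.Algebra

set_option autoImplicit false
open CategoryTheory CategoryTheory.Limits AlgebraicGeometry Opposite
universe u
open EtBase

namespace Groth.Agent.S0119

open TensorProduct in
/-- A flat, formally unramified, essentially finite type algebra over a reduced noetherian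
ring is reduced. -/
theorem isReduced_of_flat_of_formallyUnramified (A B : Type u) [CommRing A] [CommRing B]
    [Algebra A B] [IsNoetherianRing A] [_root_.IsReduced A] [Module.Flat A B]
    [Algebra.FormallyUnramified A B] [Algebra.EssFiniteType A B] : _root_.IsReduced B := by
  let g : Spec (.of B) ⟶ Spec (.of A) := Spec.map (CommRingCat.ofHom (algebraMap A B))
  have hflat : Flat g := by
    rw [Flat.SpecMap_iff]
    exact (RingHom.flat_algebraMap_iff).mpr inferInstance
  have hgr : GeometricallyReduced g := by
    rw [geometricallyReduced_iff, geometrically_iff_of_commRing_of_isClosedUnderIsomorphisms]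
    intro K _ _
    have : _root_.IsReduced (B ⊗[A] K) := by
      have : Algebra.FormallyUnramified K (K ⊗[A] B) := inferInstance
      have : Algebra.EssFiniteType K (K ⊗[A] B) := inferInstance
      have : _root_.IsReduced (K ⊗[A] B) := Algebra.FormallyUnramified.isReduced_of_field K _
      exact isReduced_of_injective (Algebra.TensorProduct.comm A B K).toRingHom
        (Algebra.TensorProduct.comm A B K).injective
    have h2 : IsReduced (Spec (.of (B ⊗[A] K))) := (affine_isReduced_iff _).mpr this
    exact isReduced_of_isOpenImmersion (pullbackSpecIso A B K).hom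
  have : IsReduced (Spec (.of A)) := (affine_isReduced_iff _).mpr ‹_›
  have : IsReduced (Spec (.of B)) :=
    GeometricallyReduced.isReduced_of_flat_of_isLocallyNoetherian g
  exact (affine_isReduced_iff (.of B)).mp this

/-- Let f : X → Y be an étale morphism of schemes with Y locally Noetherian, and let x ∈ X. Then the
local ring O_{X,x} is reduced if and only if the local ring O_{Y,f(x)} is reduced. -/
theorem result {X Y : Scheme.{u}} (f : X ⟶ Y) [AlgebraicGeometry.Etale f]
    [IsLocallyNoetherian Y] (x : X) :
    _root_.IsReduced (X.presheaf.stalk x) ↔ _root_.IsReduced (Y.presheaf.stalk (f.base x)) := by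
  algebraize [(f.stalkMap x).hom]
  have hloc : IsLocalHom (algebraMap (Y.presheaf.stalk (f x)) (X.presheaf.stalk x)) :=
    inferInstanceAs <| IsLocalHom (f.stalkMap x).hom
  have : Algebra.EssFiniteType (Y.presheaf.stalk (f x)) (X.presheaf.stalk x) := by
    rw [← RingHom.essFiniteType_algebraMap, RingHom.algebraMap_toAlgebra]
    exact LocallyOfFiniteType.stalkMap f x
  have : Algebra.FormallyUnramified (Y.presheaf.stalk (f x)) (X.presheaf.stalk x) := by
    rw [← RingHom.formallyUnramified_algebraMap, RingHom.algebraMap_toAlgebra]
    exact FormallyUnramified.stalkMap f x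
  have : Module.Flat (Y.presheaf.stalk (f x)) (X.presheaf.stalk x) := Flat.stalkMap f x
  constructor
  · intro h
    have : Module.FaithfullyFlat (Y.presheaf.stalk (f x)) (X.presheaf.stalk x) :=
      Module.FaithfullyFlat.of_flat_of_isLocalHom
    exact isReduced_of_injective (algebraMap (Y.presheaf.stalk (f x)) (X.presheaf.stalk x))
      (FaithfulSMul.algebraMap_injective _ _)
  · intro h
    exact isReduced_of_flat_of_formallyUnramified (Y.presheaf.stalk (f x)) (X.presheaf.stalk x)

end Groth.Agent.S0119
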