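import Groth.Statements.S0125
import Groth.Agent.Lib.Helper1.EtPushColim

set_option autoImplicit false
universe u
open CategoryTheory CategoryTheory.Limits AlgebraicGeometry Opposite
open EtPBC

namespace Groth.Agent.S0125

open Groth.Agent.H1.EtFiltH Groth.Agent.H1.EtCartan Groth.Agent.H1.EtPushColim

theorem hloc_of_isTorsion {X : Scheme.{u}} (F : EtCoh.Ab X) (hF : EtCoh.IsTorsion F)
    (U : X.Etale) (_ : IsAffine U.left) (t : F.obj.obj (op U)) (e : U.left) (k : ℕ) :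
    ∃ (V : X.Etale) (g : V ⟶ U) (l : ℕ), e ∈ Set.range g.left.base ∧ k ≤ l ∧
      (∏ i ∈ Finset.Ico k l, ((i : ℤ) + 1)) • F.obj.map g.op t = 0 := by
  obtain ⟨V, g, ⟨v, hv⟩, hfin⟩ := hF U t e
  obtain ⟨m, hm0, hm⟩ := isOfFinAddOrder_iff_nsmul_eq_zero.mp hfin
  refine ⟨V, g, m * (k + 1), ⟨v, hv⟩, ?_, ?_⟩
  · nlinarith
  · have hmem : m * (k + 1) - 1 ∈ Finset.Ico k (m * (k + 1)) := by
      rw [Finset.mem_Ico]
      constructor
      · have : k + 1 ≤ m * (k + 1) := by nlinarith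
        omega
      · have : 0 < m * (k + 1) := by positivity
        omega
    have hdvd : (m : ℤ) ∣ ∏ i ∈ Finset.Ico k (m * (k + 1)), ((i : ℤ) + 1) := by
      refine dvd_trans ?_ (Finset.dvd_prod_of_mem (fun i : ℕ => ((i : ℤ) + 1)) hmem)
      have h1 : ((m * (k + 1) - 1 : ℕ) : ℤ) + 1 = (m : ℤ) * ((k : ℤ) + 1) := by
        have : 0 < m * (k + 1) := by positivity
        have h2 : m * (k + 1) - 1 + 1 = m * (k + 1) := by omega
        exact_mod_cast h2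
      rw [h1]
      exact dvd_mul_right _ _
    obtain ⟨q, hq⟩ := hdvd
    rw [hq, mul_comm, mul_smul, natCast_zsmul, hm, smul_zero]

theorem main {X Y : Scheme.{u}} (f : X ⟶ Y) [QuasiCompact f] [QuasiSeparated f]
    (F : EtCoh.Ab X) (hF : EtCoh.IsTorsion F) (n : ℕ) :
    EtCoh.IsTorsion ((EtCoh.Rpush f n).obj F) := by
  haveI := preservesFilteredColimitsOfSize_zero.{u}
  haveI := hasExactColimitsOfShape_nat X
  obtain ⟨a, had⟩ : ∃ a : ℕ → ℤ, a = fun i : ℕ => ((i : ℤ) + 1) := ⟨_, rfl⟩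
  have hz : IsZero (colimit (mulSeq F a)) := by
    rw [had]
    exact isZero_colimit_mulSeq F _ (hloc_of_isTorsion F hF)
  haveI := isIso_post_Rpush f n (mulSeq F a)
  have hz2 : IsZero (colimit (mulSeq F a ⋙ EtCoh.Rpush f n)) :=
    ((EtCoh.Rpush f n).map_isZero hz).of_iso (asIso (colimit.post (mulSeq F a) (EtCoh.Rpush f n)))
  intro U s x
  obtain ⟨W, g, ⟨y, hy⟩, hW⟩ := restrict_affine U x
  refine ⟨W, g, ⟨y, hy⟩, ?_⟩
  obtain ⟨s', hs'⟩ : ∃ s' : ((mulSeq F a ⋙ EtCoh.Rpush f n).obj 0).obj.obj (op W),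
      s' = ((EtCoh.Rpush f n).obj F).obj.map g.op s := ⟨_, rfl⟩
  have h0 : ∀ z : (colimit (mulSeq F a ⋙ EtCoh.Rpush f n)).obj.obj (op W), z = 0 := by
    intro z
    have h1 : (𝟙 (colimit (mulSeq F a ⋙ EtCoh.Rpush f n))) = 0 := hz2.eq_of_src _ _
    have h2 := congrArg (fun φ => φ.hom.app (op W) z) h1
    exact h2
  obtain ⟨k, l, hl⟩ := sec_eq (mulSeq F a ⋙ EtCoh.Rpush f n) (colimit.cocone _)
    (colimit.isColimit _) W (good_of_isAffine W hW) 0 s' 0 ((h0 _).trans (h0 _).symm)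
  rw [map_zero] at hl
  have hmap : (mulSeq F a ⋙ EtCoh.Rpush f n).map l =
      (∏ i ∈ Finset.Ico 0 k, a i) • 𝟙 ((EtCoh.Rpush f n).obj F) := by
    change (EtCoh.Rpush f n).map ((∏ i ∈ Finset.Ico 0 k, a i) • 𝟙 F) = _
    rw [Functor.map_zsmul]
    exact congrArg _ (CategoryTheory.Functor.map_id _ _)
  rw [hmap] at hl
  have hl' : (∏ i ∈ Finset.Ico 0 k, a i) • s' = 0 := hl
  have hcast : (∏ i ∈ Finset.Ico 0 k, a i) = ((∏ i ∈ Finset.Ico 0 k, (i + 1) : ℕ) : ℤ) := by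
    rw [had]
    push_cast
    rfl
  rw [hcast, natCast_zsmul, hs'] at hl'
  exact isOfFinAddOrder_iff_nsmul_eq_zero.mpr
    ⟨_, Finset.prod_pos (fun i _ => Nat.succ_pos i), hl'⟩

/-- Part (1): for f : X -> Y quasi-compact and quasi-separated and F a torsion abelian sheaf on X_et,
each R^n f_* F is a torsion abelian sheaf on Y_et. -/
theorem result {X Y : Scheme.{u}} (f : X ⟶ Y) [QuasiCompact f] [QuasiSeparated f]
    [EtCoh.BCCont f] (F : EtCoh.Ab X) (hF : EtCoh.IsTorsion F) (n : ℕ) :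
    EtCoh.IsTorsion ((EtCoh.Rpush f n).obj F) := by
  exact main f F hF n

end Groth.Agent.S0125
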