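import Groth.Statements.S0136
import Groth.Agent.Lib.Helper1.FinEtPushB
import Groth.Agent.Lib.Helper1.PullConserv
import Groth.Agent.S0129

set_option autoImplicit false
universe u
open CategoryTheory CategoryTheory.Limits AlgebraicGeometry Opposite
open EtPBC

namespace Groth.Agent.S0136

open Groth.Agent.H1.FinEtPush Groth.Agent.H1.FibRank Groth.Agent.H1.ExtZero
  Groth.Agent.H1.EtStalkPull Groth.Agent.Lib.Helper18.JCont

theorem goodProp_constructible :
    GoodProp.{u} (fun {X : Scheme.{u}} (F : EtCoh.Ab X) => EtPBC.IsConstructible F) where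
  iso e h := isConstructible_of_iso e h
  pull f F h := Groth.Agent.S0127.result f F h
  zero {X} _ _ F hZ := by
    haveI : CompactSpace (EtCoh.top X).left := inferInstanceAs (CompactSpace X)
    haveI : QuasiSeparatedSpace (EtCoh.top X).left := inferInstanceAs (QuasiSeparatedSpace X)
    exact isConstructible_of_isZero (isConstructible_ez (EtCoh.top X) (ZMod 1)) hZ
  biprod F G hF hG := Groth.Agent.H1.TorsColim.isConstructible_biprod hF hG
  descent f _ _ _ F h := Groth.Agent.H1.PullConserv.isConstructible_of_pull f F h

theorem main {X Y : Scheme.{u}} (f : X ⟶ Y) [IsFinite f] [Etale f]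
    [EtCoh.BCCont f] (F : EtCoh.Ab X) (hF : EtPBC.IsConstructible F) :
    EtPBC.IsConstructible ((EtCoh.push f).obj F) := by
  have hlc : IsLocallyConstant f.finrank := Scheme.Hom.isLocallyConstant_finrank f
  -- for every point an affine open neighbourhood on which the degree is constant
  have hnb : ∀ y : Y, ∃ W : Y.Opens, y ∈ W ∧ IsAffineOpen W ∧
      ∀ y' ∈ W, f.finrank y' = f.finrank y := by
    intro y
    have ho : IsOpen (f.finrank ⁻¹' {f.finrank y}) := hlc.isOpen_fiber _
    obtain ⟨_, ⟨W, hW, rfl⟩, hyW, hsub⟩ := Y.isBasis_affineOpens.exists_subset_of_mem_open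
      (show y ∈ f.finrank ⁻¹' {f.finrank y} from rfl) ho
    exact ⟨W, hyW, hW, fun y' hy' => hsub hy'⟩
  choose W hyW hWa hWc using hnb
  apply Groth.Agent.S0129.result ((EtCoh.push f).obj F) W
  · apply top_unique
    intro y _
    exact TopologicalSpace.Opens.mem_iSup.2 ⟨y, hyW y⟩
  · intro y
    have sq : IsPullback (pullback.fst f (W y).ι) (pullback.snd f (W y).ι) f (W y).ι :=
      IsPullback.of_hasPullback f (W y).ι
    have e0 : (EtCoh.pull (W y).ι).obj ((EtCoh.push f).obj F) ≅
        (EtCoh.push (pullback.snd f (W y).ι)).obj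
          ((EtShriek.restrAlong (pullback.fst f (W y).ι)).obj F) :=
      ((restrIsoPull (W y).ι).app _).symm ≪≫
        (pushRestrIso (W y).ι f (pullback.fst f (W y).ι) (pullback.snd f (W y).ι) sq).app F
    refine isConstructible_of_iso e0.symm ?_
    haveI : IsAffine (W y : Scheme.{u}) := hWa y
    have hf := finFib_of_isFinite f
    have hdeg : ∀ t, deg (pullback.snd f (W y).ι) t = f.finrank y := by
      intro t
      rw [deg_of_isPullback f hf sq, deg_eq_finrank]
      exact hWc y _ t.2
    exact push_of_deg goodProp_constructible (f.finrank y) (pullback.snd f (W y).ι) hdeg _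
      (goodProp_constructible.restr (pullback.fst f (W y).ι) F hF)

/-- Abelian case: if f : X -> Y is finite etale and F is a constructible abelian sheaf on X_et then f_*
F is constructible on Y_et. -/
theorem result {X Y : Scheme.{u}} (f : X ⟶ Y) [IsFinite f] [Etale f]
    [EtCoh.BCCont f] (F : EtCoh.Ab X) (hF : EtPBC.IsConstructible F) :
    EtPBC.IsConstructible ((EtCoh.push f).obj F) := by
  exact main f F hF

end Groth.Agent.S0136
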