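import Groth.Statements.S0145
import Groth.Agent.Lib.Helper1.ConstrClosure

set_option autoImplicit false
universe u
open CategoryTheory CategoryTheory.Limits AlgebraicGeometry Opposite
open EtPBC

namespace Groth.Agent.S0145

open Groth.Agent.H1.TorsColim Groth.Agent.H1.TorsColimSupp Groth.Agent.H1.ConstrClosure

theorem main (X : Scheme.{u}) [IsNoetherian X]
    (E : Set X) (hE : StableUnderSpecialization E)
    (F : EtCoh.Ab X) (hF : EtCoh.IsTorsion F) (hsupp : EtPBC.supp F ⊆ E) :
    ∃ (J : Type (u + 1)) (_ : SmallCategory J) (_ : IsFiltered J) (D : J ⥤ EtCoh.Ab X)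
      (c : Cocone D) (_ : IsColimit c), Nonempty (c.pt ≅ F) ∧
      ∀ j, EtPBC.IsConstructible (D.obj j) ∧
        ∃ Z : Set X, IsClosed Z ∧ Z ⊆ E ∧ EtPBC.supp (D.obj j) ⊆ Z := by
  classical
  let Q : ObjectProperty (JObj F) := fun j =>
    ∃ Z : Set X, IsClosed Z ∧ Z ⊆ E ∧ EtPBC.supp j.i.G ⊆ Z
  have hcof : ∀ j : JObj F, ∃ j' : Q.FullSubcategory, Nonempty (j ⟶ Q.ι.obj j') := by
    intro j
    obtain ⟨j', a, hj'⟩ := exists_image F j
    refine ⟨⟨j', closure (EtPBC.supp j'.i.G), isClosed_closure, ?_, subset_closure⟩, ⟨a⟩⟩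
    exact closure_subset_of_stableUnderSpecialization hE
      (Groth.Agent.Lib.helper21.SuppConstr.isConstructible_supp _ j'.hc) (hj'.trans hsupp)
  haveI : IsFiltered Q.FullSubcategory :=
    IsFiltered.of_exists_of_isFiltered_of_fullyFaithful Q.ι hcof
  haveI : Q.ι.Final := Functor.final_of_exists_of_isFiltered_of_fullyFaithful Q.ι hcof
  haveI := isIso_ρ F hF
  refine ⟨Q.FullSubcategory, inferInstance, inferInstance, Q.ι ⋙ D F,
    colimit.cocone (Q.ι ⋙ D F), colimit.isColimit _,
    ⟨Functor.Final.colimitIso Q.ι (D F) ≪≫ asIso (ρ F)⟩, ?_⟩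
  intro j
  exact ⟨j.obj.hc, j.property⟩

/-- (1): X Noetherian, E a subset of X stable under specialization, F a torsion abelian sheaf on X_et
supported inside E. Then F is a filtered colimit of constructible abelian sheaves each supported
inside some closed subset contained in E. -/
theorem result (X : Scheme.{u}) [IsNoetherian X]
    (E : Set X) (hE : StableUnderSpecialization E)
    (F : EtCoh.Ab X) (hF : EtCoh.IsTorsion F) (hsupp : EtPBC.supp F ⊆ E) :
    ∃ (J : Type (u + 1)) (_ : SmallCategory J) (_ : IsFiltered J) (D : J ⥤ EtCoh.Ab X)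
      (c : Cocone D) (_ : IsColimit c), Nonempty (c.pt ≅ F) ∧
      ∀ j, EtPBC.IsConstructible (D.obj j) ∧
        ∃ Z : Set X, IsClosed Z ∧ Z ⊆ E ∧ EtPBC.supp (D.obj j) ⊆ Z := by
  exact main X E hE F hF hsupp

end Groth.Agent.S0145
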