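import Groth.Statements.S0149
import Groth.Agent.Lib.Helper1.LimCohMain
import Groth.Agent.Lib.Helper1.TorsColim
import Groth.Agent.Lib.Helper21.Strata

set_option autoImplicit false
universe u
open CategoryTheory CategoryTheory.Limits AlgebraicGeometry Opposite
open EtPBC

namespace Groth.Agent.S0149

open Groth.Agent.Lib.helper27 Groth.Agent.Lib.helper27.PullFunEt
  Groth.Agent.Lib.helper27.HpullHmap Groth.Agent.H1.LimCoh Groth.Agent.H1.EtGerm

theorem compact_bc {X Y : Scheme.{u}} (f : X ⟶ Y) [QuasiCompact f] (V : Y.Etale)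
    [CompactSpace V.left] : CompactSpace ((EtCoh.bc f).obj V).left := by
  let p : ((EtCoh.bc f).obj V).left ⟶ V.left := pullback.fst V.hom f
  haveI : QuasiCompact p := inferInstanceAs (QuasiCompact (pullback.fst V.hom f))
  exact QuasiCompact.compactSpace_of_compactSpace p

/-- direct images of torsion sheaves along quasi-compact morphisms are torsion -/
theorem isTorsion_push {X Y : Scheme.{u}} (f : X ⟶ Y) [QuasiCompact f] (F : EtCoh.Ab X)
    (hF : EtCoh.IsTorsion F) : EtCoh.IsTorsion ((EtCoh.push f).obj F) := by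
  intro U s x
  obtain ⟨U', hxU', -, hU'⟩ := Groth.Agent.Lib.helper21.Strata.exists_affine_nbhd
    (⊤ : U.left.Opens) x trivial
  refine ⟨restrictOpen U U', restrictOpenι U U', ⟨⟨x, hxU'⟩, rfl⟩, ?_⟩
  haveI : IsAffine U'.toScheme := hU'
  haveI : CompactSpace (restrictOpen U U').left := inferInstanceAs (CompactSpace U'.toScheme)
  haveI : CompactSpace ((EtCoh.bc f).obj (restrictOpen U U')).left :=
    compact_bc f (restrictOpen U U')
  obtain ⟨N, hN, hNs⟩ := Groth.Agent.H1.TorsColim.exists_nsmul_eq_zero F hF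
    ((EtCoh.bc f).obj (restrictOpen U U')) (F.obj.map ((EtCoh.bc f).map (restrictOpenι U U')).op s)
  exact isOfFinAddOrder_iff_nsmul_eq_zero.2 ⟨N, hN, hNs⟩

theorem main {I : Type u} [SmallCategory I] [IsCofiltered I] (D : I ⥤ Scheme.{u})
    [∀ {i j : I} (a : i ⟶ j), IsAffineHom (D.map a)]
    [∀ i, CompactSpace (D.obj i)] [∀ i, QuasiSeparatedSpace (D.obj i)]
    (c : Cone D) (hc : IsLimit c) (d : ℕ) (h : ∀ i, EtCoh.CohDimLE (D.obj i) d) :
    EtCoh.CohDimLE c.pt d := by
  intro F hF q hq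
  obtain ⟨α, _, _, _, Φ, _⟩ := IsFiltered.exists_directed Iᵒᵖ
  let G : αᵒᵖ ⥤ I := Φ.leftOp
  let Xs : αᵒᵖ ⥤ Scheme.{u} := G ⋙ D
  let c' : Cone Xs := c.whisker G
  have hc' : IsLimit c' := (Functor.Initial.isLimitWhiskerEquiv G c).symm hc
  have haff' : ∀ ⦃a b : αᵒᵖ⦄ (m : a ⟶ b), IsAffineHom (Xs.map m) :=
    fun a b m => inferInstanceAs (IsAffineHom (D.map (G.map m)))
  haveI : ∀ i : α, CompactSpace (Xs.obj (op i)) :=
    fun i => inferInstanceAs (CompactSpace (D.obj (G.obj (op i))))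
  haveI : ∀ i : α, QuasiSeparatedSpace (Xs.obj (op i)) :=
    fun i => inferInstanceAs (QuasiSeparatedSpace (D.obj (G.obj (op i))))
  have hP : ∀ ξ : EtCoh.H c.pt F q, ∃ (j : α)
      (ξj : EtCoh.H (Xs.obj (op j)) ((EtCoh.push (c'.π.app (op j))).obj F) q),
      Hmap (c'.π.app (op j)) (𝟙 _) q ξj = ξ := (pp_all hc' haff' q F).1
  have hz : ∀ ξ : EtCoh.H c.pt F q, ξ = 0 := by
    intro ξ
    obtain ⟨j, ξj, rfl⟩ := hP ξ
    haveI : IsAffineHom (c'.π.app (op j)) := by
      have hD' : ∀ {a b : αᵒᵖ} (f : a ⟶ b), IsAffineHom (Xs.map f) := fun f => haff' f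
      exact isAffineHom_π_app Xs c' hc' (op j)
    haveI : Subsingleton (EtCoh.H (Xs.obj (op j)) ((EtCoh.push (c'.π.app (op j))).obj F) q) :=
      h (G.obj (op j)) _ (isTorsion_push (c'.π.app (op j)) F hF) q hq
    rw [Subsingleton.elim ξj 0, map_zero]
  exact ⟨fun a b => (hz a).trans (hz b).symm⟩

/-- If X = lim X_i is a cofiltered limit of quasi-compact quasi-separated schemes with affine transition
morphisms and cd(X_i) <= d for all i, then cd(X) <= d. -/
theorem result {I : Type u} [SmallCategory I] [IsCofiltered I] (D : I ⥤ Scheme.{u})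
    [∀ {i j : I} (a : i ⟶ j), IsAffineHom (D.map a)]
    [∀ i, CompactSpace (D.obj i)] [∀ i, QuasiSeparatedSpace (D.obj i)]
    (c : Cone D) (hc : IsLimit c) (d : ℕ) (h : ∀ i, EtCoh.CohDimLE (D.obj i) d) :
    EtCoh.CohDimLE c.pt d := by
  exact main D c hc d h

end Groth.Agent.S0149
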