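import Groth.Statements.S0152
import Groth.Agent.Lib.Helper9.SpectralCons

set_option autoImplicit false
universe u
open EtPBC

namespace Groth.Agent.S0152

/-- Let X be a spectral space and Z a closed subset such that Z meets the closure of every point of X in
a connected (nonempty) set. If Z is the disjoint union of two closed subsets Z_1, Z_2 then X is the
disjoint union of closed subsets X_1, X_2 with Z_i = Z ∩ X_i. -/
theorem result (X : Type u) [TopologicalSpace X] [SpectralSpace X]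
    (Z : Set X) (hZ : IsClosed Z)
    (hconn : ∀ x : X, IsConnected (Z ∩ closure {x}))
    (Z₁ Z₂ : Set X) (h₁ : IsClosed Z₁) (h₂ : IsClosed Z₂) (hdisj : Disjoint Z₁ Z₂) (hunion : Z₁ ∪ Z₂ = Z) :
    ∃ X₁ X₂ : Set X, IsClosed X₁ ∧ IsClosed X₂ ∧ Disjoint X₁ X₂ ∧ X₁ ∪ X₂ = Set.univ ∧
      Z₁ = Z ∩ X₁ ∧ Z₂ = Z ∩ X₂ := by
  classical
  -- the dichotomy: `Z ∩ closure {x}` lies in `Z₁` or in `Z₂`
  have hdich : ∀ x : X, Z ∩ closure {x} ⊆ Z₁ ∨ Z ∩ closure {x} ⊆ Z₂ := by
    intro x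
    have hpre := (hconn x).isPreconnected
    rw [isPreconnected_iff_subset_of_disjoint_closed] at hpre
    refine hpre Z₁ Z₂ h₁ h₂ ?_ ?_
    · rw [hunion]; exact Set.inter_subset_left
    · rw [Set.disjoint_iff_inter_eq_empty.mp hdisj, Set.inter_empty]
  set G : Set X → Set X := fun W => {x | ∃ e ∈ W, x ⤳ e} with hG
  have hZ₁Z : Z₁ ⊆ Z := hunion ▸ Set.subset_union_left
  have hZ₂Z : Z₂ ⊆ Z := hunion ▸ Set.subset_union_right
  have hcover : G Z₁ ∪ G Z₂ = Set.univ := by
    rw [Set.eq_univ_iff_forall]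
    intro x
    obtain ⟨e, heZ, hex⟩ := (hconn x).nonempty
    have hxe : x ⤳ e := specializes_iff_mem_closure.mpr hex
    rw [← hunion] at heZ
    rcases heZ with he | he
    · exact Or.inl ⟨e, he, hxe⟩
    · exact Or.inr ⟨e, he, hxe⟩
  have hdisjG : Disjoint (G Z₁) (G Z₂) := by
    rw [Set.disjoint_left]
    rintro x ⟨e₁, he₁, hx₁⟩ ⟨e₂, he₂, hx₂⟩
    have m₁ : e₁ ∈ Z ∩ closure {x} := ⟨hZ₁Z he₁, specializes_iff_mem_closure.mp hx₁⟩
    have m₂ : e₂ ∈ Z ∩ closure {x} := ⟨hZ₂Z he₂, specializes_iff_mem_closure.mp hx₂⟩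
    rcases hdich x with h | h
    · exact Set.disjoint_left.mp hdisj (h m₂) he₂
    · exact Set.disjoint_left.mp hdisj he₁ (h m₁)
  -- closedness
  have hclosed : ∀ W W' : Set X, IsClosed W → G W ∪ G W' = Set.univ → Disjoint (G W) (G W') →
      IsClosed (G W) := by
    intro W W' hW hcov hdj
    refine Groth.Agent.Lib.helper9.isClosed_of_isClosed_constructibleTopology_of_stableUnderSpecialization
      ?_ ?_
    · have : G W = ⋂₀ {U : Set X | IsOpen U ∧ IsCompact U ∧ W ⊆ U} :=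
        Groth.Agent.Lib.helper9.setOf_generalizations_eq_sInter hW.isCompact
      rw [this]
      refine @isClosed_sInter X (constructibleTopology X) _ ?_
      rintro U ⟨hUo, hUc, -⟩
      exact (Groth.Agent.Lib.helper9.isClopen_constructibleTopology hUo hUc).1
    · intro x x' hxx' hx
      have hx' : x' ∈ G W ∪ G W' := hcov ▸ Set.mem_univ x'
      rcases hx' with hx' | ⟨e, he, hx'e⟩
      · exact hx'
      · exact absurd (⟨e, he, hxx'.trans hx'e⟩ : x ∈ G W') (Set.disjoint_left.mp hdj hx)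
  refine ⟨G Z₁, G Z₂, hclosed Z₁ Z₂ h₁ hcover hdisjG,
    hclosed Z₂ Z₁ h₂ (by rw [Set.union_comm]; exact hcover) hdisjG.symm, hdisjG, hcover, ?_, ?_⟩
  · ext z
    constructor
    · intro hz
      exact ⟨hZ₁Z hz, z, hz, specializes_rfl⟩
    · rintro ⟨hzZ, hzG⟩
      rw [← hunion] at hzZ
      rcases hzZ with hz | hz
      · exact hz
      · exact absurd (⟨z, hz, specializes_rfl⟩ : z ∈ G Z₂) (Set.disjoint_left.mp hdisjG hzG)
  · ext z
    constructor
    · intro hz
      exact ⟨hZ₂Z hz, z, hz, specializes_rfl⟩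
    · rintro ⟨hzZ, hzG⟩
      rw [← hunion] at hzZ
      rcases hzZ with hz | hz
      · exact absurd (⟨z, hz, specializes_rfl⟩ : z ∈ G Z₁) (Set.disjoint_right.mp hdisjG hzG)
      · exact hz

end Groth.Agent.S0152
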