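import Groth.Statements.S0161
import Groth.Agent.S0621
import Groth.Agent.Lib.Helper5.FinitePush

set_option autoImplicit false
universe u
open CategoryTheory CategoryTheory.Limits AlgebraicGeometry Opposite
open EtPBC

namespace Groth.Agent.S0161

/-- `R^0 f_* ≅ f_*` -/
noncomputable def rpushZeroIso {X Y : Scheme.{u}} (f : X ⟶ Y) : EtCoh.Rpush f 0 ≅ EtCoh.push f := by
  have : PreservesFiniteLimits (EtCoh.push f) := by
    have h : PreservesLimitsOfSize.{0, 0} (EtCoh.push f) :=
      (EtCoh.pullPushAdj f).rightAdjoint_preservesLimits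
    exact PreservesLimitsOfSize.preservesFiniteLimits _
  exact (EtCoh.push f).rightDerivedZeroIsoSelf

theorem main {X Y : Scheme.{u}} (f : X ⟶ Y) [IsFinite f] [EtCoh.BCCont f] :
    EtPBC.CohCommutesWithBC f := by
  intro X' Y' f' g' g _ _ _ h F _ q
  have hf' : IsFinite f' := Groth.Agent.S0621.isFinite_of_isPullback f g f' g' h
  rcases Nat.eq_zero_or_pos q with rfl | hq
  · have := Groth.Agent.S0621.main f g f' g' h F
    exact ⟨(EtCoh.pull g).mapIso ((rpushZeroIso f).app F) ≪≫
      asIso (EtCoh.baseChange0 f g f' g' h.w F) ≪≫ ((rpushZeroIso f').app _).symm⟩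
  · have h1 := Groth.Agent.Lib.helper5.FinitePush.isZero_Rpush_of_isFinite f F q hq
    have h2 := Groth.Agent.Lib.helper5.FinitePush.isZero_Rpush_of_isFinite f'
      ((EtCoh.pull g').obj F) q hq
    have : (EtCoh.pull g).Additive := (EtCoh.pullPushAdj g).left_adjoint_additive
    exact ⟨((EtCoh.pull g).map_isZero h1).iso h2⟩

/-- For a finite morphism f : X -> Y, cohomology commutes with base change: for every cartesian square
and torsion abelian F on X_et and every q, g^* R^q f_* F ≅ R^q f'_* g'^* F (abstract-isomorphism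
form). -/
theorem result {X Y : Scheme.{u}} (f : X ⟶ Y) [IsFinite f] [EtCoh.BCCont f] :
    EtPBC.CohCommutesWithBC f := by
  exact main f

end Groth.Agent.S0161
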