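import Groth.Statements.S0169
import Groth.Agent.Lib.Helper9.EtStrat1

set_option autoImplicit false
universe u
open CategoryTheory CategoryTheory.Limits AlgebraicGeometry Opposite
open EtPBC

namespace Groth.Agent.S0169

/-- For j : U -> X an etale morphism of quasi-compact quasi-separated schemes there are finitely many
immersions T_i -> X with pairwise disjoint constructible images covering X such that U x_X T_i ->
T_i is finite (etale) for each i. -/
theorem result {U X : Scheme.{u}} [CompactSpace U] [QuasiSeparatedSpace U]
    [CompactSpace X] [QuasiSeparatedSpace X] (j : U ⟶ X) [Etale j] :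
    ∃ (n : ℕ) (T : Fin n → Scheme.{u}) (g : ∀ i, T i ⟶ X),
      (∀ i, IsImmersion (g i)) ∧ (∀ i, Topology.IsConstructible (Set.range (g i))) ∧
      Pairwise (fun i i' => Disjoint (Set.range (g i)) (Set.range (g i'))) ∧
      (⋃ i, Set.range (g i)) = Set.univ ∧ ∀ i, IsFinite (pullback.snd j (g i)) := by
  obtain ⟨ι, hι, T, g, h1, h1', h2, h3, h4⟩ := Groth.Agent.Lib.helper9.EtStrat.exists_strat j
  let e := Fintype.equivFin ι
  refine ⟨Fintype.card ι, fun k => T (e.symm k), fun k => g (e.symm k), fun k => h1 _,
    fun k => h1' _, ?_, ?_, fun k => h4 _⟩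
  · intro k k' hne
    exact h2 (fun h => hne (e.symm.injective h))
  · rw [← h3]
    exact e.symm.surjective.iUnion_comp (fun i => Set.range (g i))

end Groth.Agent.S0169
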