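import Groth.Statements.S0171
import Groth.Agent.Lib.Helper1.ClosedPtSuppB
import Groth.Agent.Lib.Helper1.SepClosedPts
import Groth.Agent.Lib.Helper5.FinitePush
import Groth.Agent.S0068
import Groth.Agent.S0088
import Groth.Agent.S0099
import Groth.Agent.S0101
import Groth.Agent.S14451

set_option autoImplicit false
universe u
open CategoryTheory CategoryTheory.Limits AlgebraicGeometry Opposite
open EtPBC

namespace Groth.Agent.S0171

open Groth.Agent.H1.ClosedPtSupp Groth.Agent.H1.SepClosedPts

theorem subsingleton_H_sub {K : Type u} [Field K] [IsSepClosed K] {X : Scheme.{u}}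
    (a : X ⟶ Spec (CommRingCat.of K)) [LocallyOfFiniteType a] (F : EtCoh.Ab X)
    (S : Finset (CP X)) (q : ℕ) (hq : 0 < q) :
    Subsingleton (EtCoh.H X (sub F (openOf S)) q) := by
  classical
  let C : TopologicalSpace.Closeds X :=
    ⟨((openOf S : X.Opens) : Set X)ᶜ, (openOf S).isOpen.isClosed_compl⟩
  have hCmem : ∀ y : X, y ∈ (C : Set X) ↔ ∃ x ∈ S, y = x.1 := by
    intro y
    change ¬ (y ∈ openOf S) ↔ _
    rw [mem_openOf]
    push Not
    rfl
  obtain ⟨I, hI⟩ : ∃ I : X.IdealSheafData, I = Scheme.IdealSheafData.vanishingIdeal C := ⟨_, rfl⟩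
  have hr : Set.range I.subschemeι = (C : Set X) := by
    rw [Scheme.IdealSheafData.range_subschemeι, hI,
      Scheme.IdealSheafData.coe_support_vanishingIdeal]
  have hCfin : (C : Set X).Finite := by
    have : (C : Set X) = (fun x : CP X => x.1) '' (S : Set (CP X)) := by
      ext y
      rw [hCmem]
      constructor
      · rintro ⟨x, hx, rfl⟩
        exact ⟨x, hx, rfl⟩
      · rintro ⟨x, hx, rfl⟩
        exact ⟨x, hx, rfl⟩
    rw [this]
    exact S.finite_toSet.image _
  have hinj : Function.Injective I.subschemeι := I.subschemeι.isEmbedding.injective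
  haveI : Finite (C : Set X) := hCfin.to_subtype
  haveI : Finite I.subscheme :=
    Finite.of_injective (fun z => (⟨I.subschemeι z, hr ▸ ⟨z, rfl⟩⟩ : (C : Set X)))
      (fun z z' h => hinj (congrArg (fun w : (C : Set X) => w.1) h))
  have hcl : ∀ z : I.subscheme, IsClosed ({I.subschemeι z} : Set X) := by
    intro z
    have hz : I.subschemeι z ∈ (C : Set X) := hr ▸ ⟨z, rfl⟩
    obtain ⟨x, -, hx⟩ := (hCmem _).1 hz
    rw [hx]
    exact x.2
  have h1 : ∀ z : I.subscheme, IsClosed ({z} : Set I.subscheme) := by
    intro z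
    have : ({z} : Set I.subscheme) = I.subschemeι ⁻¹' {I.subschemeι z} := by
      ext w
      simp [hinj.eq_iff]
    rw [this]
    exact (hcl z).preimage I.subschemeι.continuous
  haveI : T1Space I.subscheme := ⟨h1⟩
  haveI : DiscreteTopology I.subscheme := inferInstance
  haveI : IsAffine I.subscheme := inferInstance
  have h2 : ∀ z : I.subscheme, IsSepClosed (I.subscheme.residueField z) :=
    fun z => isSepClosed_residueField (I.subschemeι ≫ a) z (h1 z)
  have hess : (EtCoh.push I.subschemeι).essImage (sub F (openOf S)) := by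
    rw [Groth.Agent.S0068.result]
    intro U hU
    have hUV : ∀ x : U.left, U.hom.base x ∈ openOf S := by
      intro x
      by_contra h
      have h3 : U.hom.base x ∈ Set.range I.subschemeι := by
        rw [hr]
        exact h
      exact Set.disjoint_left.1 hU ⟨x, rfl⟩ h3
    haveI : Subsingleton ((sub F (openOf S)).obj.obj (op U)) :=
      ⟨fun s t => by rw [sub_eq_zero F _ U hUV s, sub_eq_zero F _ U hUV t]⟩
    exact AddCommGrpCat.isZero_of_subsingleton _
  obtain ⟨G, ⟨e⟩⟩ := hess
  haveI := Groth.Agent.S0101.result I.subschemeι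
  have hR : ∀ q : ℕ, 0 < q → IsZero ((EtCoh.Rpush I.subschemeι q).obj G) := fun q hq =>
    Groth.Agent.Lib.helper5.FinitePush.isZero_Rpush_of_isFinite I.subschemeι G q hq
  have hbij := Groth.Agent.S14451.result I.subschemeι G hR q
  haveI : Subsingleton (EtCoh.H I.subscheme G q) :=
    Groth.Agent.S0088.result I.subscheme h1 h2 G q hq
  haveI h5 : Subsingleton (EtCoh.H X ((EtCoh.push I.subschemeι).obj G) q) := hbij.1.subsingleton
  haveI : Subsingleton ((EtCoh.HF X q).obj ((EtCoh.push I.subschemeι).obj G)) := h5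
  have e' := (EtCoh.HF X q).mapIso e
  have hb : Function.Bijective (ConcreteCategory.hom e'.inv) :=
    (ConcreteCategory.isIso_iff_bijective _).mp inferInstance
  exact hb.1.subsingleton

theorem main {K : Type u} [Field K] [IsSepClosed K] (X : Scheme.{u})
    (a : X ⟶ Spec (CommRingCat.of K)) [LocallyOfFiniteType a] [QuasiCompact a]
    (F : EtCoh.Ab X) (hF : ∀ x ∈ EtPBC.supp F, IsClosed ({x} : Set X)) (q : ℕ) (hq : 0 < q) :
    Subsingleton (EtCoh.H X F q) := by
  classical
  haveI : IsLocallyNoetherian X := LocallyOfFiniteType.isLocallyNoetherian a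
  haveI : CompactSpace X := QuasiCompact.compactSpace_of_compactSpace a
  haveI := isIso_ρ F hF
  haveI : PreservesColimitsOfShape (Finset (CP X)) (EtCoh.HF X q) :=
    Groth.Agent.S0099.result X q (Finset (CP X))
  have hc := isColimitOfPreserves (EtCoh.HF X q) (colimit.isColimit (D F))
  have h0 : ∀ t : (EtCoh.HF X q).obj (colimit (D F)), t = 0 := by
    intro t
    obtain ⟨S, tS, rfl⟩ := Concrete.isColimit_exists_rep _ hc t
    haveI : Subsingleton ((D F ⋙ EtCoh.HF X q).obj S) := subsingleton_H_sub a F S q hq
    rw [Subsingleton.elim tS 0]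
    exact map_zero _
  haveI : Subsingleton ((EtCoh.HF X q).obj (colimit (D F))) :=
    ⟨fun s t => by rw [h0 s, h0 t]⟩
  have e' := (EtCoh.HF X q).mapIso (asIso (ρ F))
  have hb : Function.Bijective (ConcreteCategory.hom e'.inv) :=
    (ConcreteCategory.isIso_iff_bijective _).mp inferInstance
  exact hb.1.subsingleton

/-- K separably closed, X of finite type over K, F an abelian sheaf on X_et whose support consists of
closed points. Then H^q(X, F) = 0 for q > 0. (The source also shows F is globally generated; not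
stated here.) -/
theorem result {K : Type u} [Field K] [IsSepClosed K] (X : Scheme.{u})
    (a : X ⟶ Spec (CommRingCat.of K)) [LocallyOfFiniteType a] [QuasiCompact a]
    (F : EtCoh.Ab X) (hF : ∀ x ∈ EtPBC.supp F, IsClosed ({x} : Set X)) (q : ℕ) (hq : 0 < q) :
    Subsingleton (EtCoh.H X F q) := by
  exact main X a F hF q hq

end Groth.Agent.S0171
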