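import Groth.Statements.S0173
import Groth.Agent.Lib.Helper1.TorsColimSupp

set_option autoImplicit false
universe u
open CategoryTheory CategoryTheory.Limits AlgebraicGeometry Opposite
open EtPBC

namespace Groth.Agent.S0173

open Groth.Agent.H1.TorsColim Groth.Agent.H1.TorsColimSupp Groth.Agent.H1.EtStalk
  Groth.Agent.H1.EtGerm Groth.Agent.Lib.helper21.Constr

theorem range_pt {P : Scheme.{u}} {Ω : Type u} [Field Ω] (ζ : Spec (.of Ω) ⟶ P) :
    Set.range ζ = {ζ default} := by
  ext y
  constructor
  · rintro ⟨a, rfl⟩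
    rw [Subsingleton.elim a default]
    rfl
  · rintro rfl
    exact ⟨default, rfl⟩

theorem main (X : Scheme.{u}) [CompactSpace X] [QuasiSeparatedSpace X]
    [IrreducibleSpace X] (F : EtCoh.Ab X) (hF : EtCoh.IsTorsion F)
    (hη : genericPoint X ∉ EtPBC.supp F) :
    ∃ (J : Type (u + 1)) (_ : SmallCategory J) (_ : IsFiltered J) (D : J ⥤ EtCoh.Ab X)
      (c : Cocone D) (_ : IsColimit c), Nonempty (c.pt ≅ F) ∧
      ∀ j, EtPBC.IsConstructible (D.obj j) ∧
        ∃ Z : Set X, IsClosed Z ∧ genericPoint X ∉ Z ∧ EtPBC.supp (D.obj j) ⊆ Z := by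
  classical
  have hx : IsZero ((EtCoh.stalk (geomPt X (genericPoint X))).obj F) := by
    by_contra hne
    apply hη
    refine ⟨_, _, _, geomPt X (genericPoint X), ?_, hne⟩
    rw [range_pt]
    exact congrArg (fun a => ({a} : Set X)) (geomPt_default X (genericPoint X))
  let Q : ObjectProperty (JObj F) := fun j =>
    ∃ Z : Set X, IsClosed Z ∧ genericPoint X ∉ Z ∧ EtPBC.supp j.i.G ⊆ Z
  have hcof : ∀ j : JObj F, ∃ j' : Q.FullSubcategory, Nonempty (j ⟶ Q.ι.obj j') := by
    intro j
    obtain ⟨j', a, hj'⟩ := exists_quot_away F (genericPoint X) hx j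
    refine ⟨⟨j', closure (EtPBC.supp j'.i.G), isClosed_closure, ?_, subset_closure⟩, ⟨a⟩⟩
    exact not_mem_closure_of_isConstructible (genericPoint X)
      (by simpa using genericPoint_spec X)
      (Groth.Agent.Lib.helper21.SuppConstr.isConstructible_supp _ j'.hc) hj'
  haveI : IsFiltered Q.FullSubcategory :=
    IsFiltered.of_exists_of_isFiltered_of_fullyFaithful Q.ι hcof
  haveI : Q.ι.Final := Functor.final_of_exists_of_isFiltered_of_fullyFaithful Q.ι hcof
  haveI := isIso_ρ F hF
  refine ⟨Q.FullSubcategory, inferInstance, inferInstance, Q.ι ⋙ D F,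
    colimit.cocone (Q.ι ⋙ D F), colimit.isColimit _,
    ⟨Functor.Final.colimitIso Q.ι (D F) ≪≫ asIso (ρ F)⟩, ?_⟩
  intro j
  exact ⟨j.obj.hc, j.property⟩

/-- (1), for X irreducible: X quasi-compact, quasi-separated and irreducible with generic point η, F a
torsion abelian sheaf on X_et whose stalk over η vanishes. Then F is a filtered colimit of
constructible abelian sheaves each supported in a closed subset not containing η. (The source allows
η to be the generic point of any irreducible component.) -/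
theorem result (X : Scheme.{u}) [CompactSpace X] [QuasiSeparatedSpace X]
    [IrreducibleSpace X] (F : EtCoh.Ab X) (hF : EtCoh.IsTorsion F) (hη : genericPoint X ∉ EtPBC.supp F) :
    ∃ (J : Type (u + 1)) (_ : SmallCategory J) (_ : IsFiltered J) (D : J ⥤ EtCoh.Ab X)
      (c : Cocone D) (_ : IsColimit c), Nonempty (c.pt ≅ F) ∧
      ∀ j, EtPBC.IsConstructible (D.obj j) ∧
        ∃ Z : Set X, IsClosed Z ∧ genericPoint X ∉ Z ∧ EtPBC.supp (D.obj j) ⊆ Z := by
  exact main X F hF hη

end Groth.Agent.S0173
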