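import Groth.Statements.S0175
import Groth.Agent.Lib.Helper1.Recoll2
import Groth.Agent.S0101
import Groth.Agent.S0654
import Groth.Agent.S0651

set_option autoImplicit false
universe u
open CategoryTheory CategoryTheory.Limits AlgebraicGeometry Opposite
open EtPBC

namespace Groth.Agent.S0175

open Groth.Agent.H1.EtStalk Groth.Agent.H1.EtGerm Groth.Agent.H1.EtStalkPull

/-- the recollement hypotheses for a closed immersion with open complement -/
theorem recoll_hyps {X Z U : Scheme.{u}}
    (i : Z ⟶ X) [IsClosedImmersion i] (j : U ⟶ X) [IsOpenImmersion j]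
    (hZU : Set.range j.base = (Set.range i.base)ᶜ) :
    IsIso (EtCoh.pullPushAdj i).counit ∧ IsIso (EtCoh.pullPushAdj j).counit ∧
    (∀ G : EtCoh.Ab Z, IsZero ((EtCoh.pull j).obj ((EtCoh.push i).obj G))) ∧
    (∀ {F F' : EtCoh.Ab X} (f : F ⟶ F'), IsIso ((EtCoh.pull i).map f) →
      IsIso ((EtCoh.pull j).map f) → IsIso f) := by
  have ci : IsIso (EtCoh.pullPushAdj i).counit := Groth.Agent.S0070.isIso_counit i
  have cj : IsIso (EtCoh.pullPushAdj j).counit := by
    have : ∀ F, IsIso ((EtCoh.pullPushAdj j).counit.app F) := fun F =>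
      (Groth.Agent.S0651.main j F).1
    exact NatIso.isIso_of_isIso_app _
  have hz : ∀ G : EtCoh.Ab Z, IsZero ((EtCoh.pull j).obj ((EtCoh.push i).obj G)) := by
    intro G
    apply isZero_of_stalk
    intro s
    refine IsZero.of_iso ?_ ((stalkPullIso j (geomPt U s)).app ((EtCoh.push i).obj G))
    apply Groth.Agent.S0069.main
    rw [Set.disjoint_left]
    rintro _ ⟨t, rfl⟩ h2
    have h1 : (geomPt U s ≫ j).base t ∈ Set.range j.base := ⟨(geomPt U s).base t, rfl⟩
    rw [hZU] at h1
    exact h1 h2
  have hc : ∀ {F F' : EtCoh.Ab X} (f : F ⟶ F'), IsIso ((EtCoh.pull i).map f) →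
      IsIso ((EtCoh.pull j).map f) → IsIso f := by
    intro F F' f h1 h2
    rw [isIso_iff_stalk]
    intro Ω _ _ ξ
    have : IsIso ((EtCoh.stalk ξ).map f) := by
      by_cases hs : ξ.base default ∈ Set.range i.base
      · exact Groth.Agent.S0654.isIso_stalk_of_isIso_pull i f ξ
          (Groth.Agent.S0654.exists_fac_closed i ξ hs)
      · have hr : Set.range ξ.base ⊆ Set.range j.base := by
          rintro _ ⟨t, rfl⟩
          rw [Subsingleton.elim t default, hZU]
          exact hs
        exact Groth.Agent.S0654.isIso_stalk_of_isIso_pull j f ξ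
          ⟨IsOpenImmersion.lift j ξ hr, IsOpenImmersion.lift_fac j ξ hr⟩
    exact (ConcreteCategory.isIso_iff_bijective _).mp this
  exact ⟨ci, cj, hz, hc⟩

theorem main {Z X U : Scheme.{u}} (i : Z ⟶ X) [IsClosedImmersion i]
    (j : U ⟶ X) [IsOpenImmersion j] (hZU : Set.range j = (Set.range i)ᶜ)
    [EtCoh.BCCont i] [EtCoh.BCCont j] (I : EtCoh.Ab X) [Injective I] :
    Injective ((EtCoh.pull i).obj (kernel ((EtCoh.pullPushAdj j).unit.app I))) := by
  obtain ⟨ci, cj, hz, hc⟩ := recoll_hyps i j hZU
  have hj : PreservesFiniteLimits (EtCoh.pull j) := Groth.Agent.S0101.result j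
  have : (EtCoh.pull j).Additive := (EtCoh.pullPushAdj j).left_adjoint_additive
  exact Groth.Agent.H1.Recoll.injective_iU_kernel_unit (EtCoh.pullPushAdj i)
    (EtCoh.pullPushAdj j) hz hc I

/-- Let i : Z → X be a closed immersion of schemes with open complement j : U → X, and I an injective
abelian sheaf on X_ét. Then the subsheaf H_Z(I) of sections supported on Z (the kernel of I → j_*
j^* I), viewed on Z_ét via i^*, is an injective abelian sheaf on Z_ét. -/
theorem result {Z X U : Scheme.{u}} (i : Z ⟶ X) [IsClosedImmersion i]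
    (j : U ⟶ X) [IsOpenImmersion j] (hZU : Set.range j = (Set.range i)ᶜ)
    [EtCoh.BCCont i] [EtCoh.BCCont j] (I : EtCoh.Ab X) [Injective I] :
    Injective ((EtCoh.pull i).obj (kernel ((EtCoh.pullPushAdj j).unit.app I))) := by
  exact main i j hZU I

end Groth.Agent.S0175
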