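import Groth.Statements.S0179
import Groth.Agent.Lib.Helper9.SpectralConn
import Mathlib.Order.Disjointed

set_option autoImplicit false
universe u
open EtPBC

namespace Groth.Agent.S0179

/-- For a spectral space X with set of closed points X_0, the following are equivalent: (1) any open
cover of X admits a refinement by finitely many pairwise disjoint open-and-closed pieces; (2) the
map from X_0 to the space of connected components pi_0(X) is a bijection. -/
theorem result (X : Type u) [TopologicalSpace X] [SpectralSpace X] :
    (∀ (ι : Type u) (U : ι → Set X), (∀ i, IsOpen (U i)) → (⋃ i, U i) = Set.univ →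
      ∃ (n : ℕ) (V : Fin n → Set X), (∀ k, IsClopen (V k)) ∧
        Pairwise (fun k l => Disjoint (V k) (V l)) ∧ (⋃ k, V k) = Set.univ ∧ ∀ k, ∃ i, V k ⊆ U i) ↔
    Function.Bijective (fun x : {x : X // IsClosed ({x} : Set X)} => _root_.ConnectedComponents.mk x.1) := by
  classical
  -- surjectivity always holds
  have hsurj : Function.Surjective
      (fun x : {x : X // IsClosed ({x} : Set X)} => _root_.ConnectedComponents.mk x.1) := by
    intro c
    obtain ⟨x, rfl⟩ := ConnectedComponents.surjective_coe c
    obtain ⟨z, hz1, hz2⟩ := (isClosed_connectedComponent (x := x)).exists_closed_singleton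
      ⟨x, mem_connectedComponent⟩
    refine ⟨⟨z, hz2⟩, ?_⟩
    simp only [ConnectedComponents.coe_eq_coe']
    exact hz1
  constructor
  · intro H
    refine ⟨?_, hsurj⟩
    rintro ⟨z, hz⟩ ⟨z', hz'⟩ heq
    by_contra hne
    have hne' : z ≠ z' := fun h => hne (Subtype.ext h)
    simp only [ConnectedComponents.coe_eq_coe'] at heq
    obtain ⟨n, V, hV, -, hVcov, hVU⟩ := H (ULift Bool)
      (fun b => if b.down then ({z} : Set X)ᶜ else ({z'} : Set X)ᶜ)
      (fun b => by
        by_cases hb : b.down
        · simp only [hb, if_true]; exact hz.isOpen_compl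
        · simp only [hb]; exact hz'.isOpen_compl)
      (by
        rw [Set.eq_univ_iff_forall]
        intro y
        by_cases hy : y = z
        · refine Set.mem_iUnion.mpr ⟨⟨false⟩, ?_⟩
          simp only [Bool.false_eq_true, if_false]
          rw [hy]
          exact hne'
        · refine Set.mem_iUnion.mpr ⟨⟨true⟩, ?_⟩
          simpa using hy)
    have hzmem : z' ∈ ⋃ k, V k := hVcov ▸ Set.mem_univ z'
    obtain ⟨k, hk⟩ := Set.mem_iUnion.mp hzmem
    obtain ⟨b, hb⟩ := hVU k
    have hsub := (hV k).connectedComponent_subset hk
    have hzk : z ∈ V k := hsub heq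
    by_cases hbd : b.down
    · simp only [hbd, if_true] at hb
      exact hb hzk rfl
    · simp only [hbd] at hb
      exact hb hk rfl
  · rintro ⟨hinj, -⟩ ι U hU hcov
    -- every point has a clopen neighbourhood inside some member of the cover
    have hA : ∀ y : X, ∃ V : Set X, IsClopen V ∧ y ∈ V ∧ ∃ i, V ⊆ U i := by
      intro y
      obtain ⟨z, hz1, hz2⟩ := (isClosed_connectedComponent (x := y)).exists_closed_singleton
        ⟨y, mem_connectedComponent⟩
      have hzU : z ∈ ⋃ i, U i := hcov ▸ Set.mem_univ z
      obtain ⟨i, hi⟩ := Set.mem_iUnion.mp hzU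
      have hsub : connectedComponent y ⊆ U i := by
        intro w hw
        obtain ⟨z', hz'1, hz'2⟩ := (isClosed_closure (s := ({w} : Set X))).exists_closed_singleton
          ⟨w, subset_closure rfl⟩
        have hcl : closure ({w} : Set X) ⊆ connectedComponent w :=
          (isConnected_singleton.closure).isPreconnected.subset_connectedComponent
            (subset_closure rfl)
        have hz'y : z' ∈ connectedComponent y := connectedComponent_eq hw ▸ hcl hz'1
        have heq : (⟨z', hz'2⟩ : {x : X // IsClosed ({x} : Set X)}) = ⟨z, hz2⟩ := by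
          apply hinj
          simp only [ConnectedComponents.coe_eq_coe']
          rw [← connectedComponent_eq hz1]
          exact hz'y
        have hzz : z' = z := congrArg Subtype.val heq
        have hwz : w ⤳ z := hzz ▸ specializes_iff_mem_closure.mpr hz'1
        exact hwz.mem_open (hU i) hi
      obtain ⟨V, hV, hyV, hVU⟩ :=
        Groth.Agent.Lib.helper9.exists_isClopen_of_connectedComponent_subset y (hU i) hsub
      exact ⟨V, hV, hyV, i, hVU⟩
    choose V hV hyV hVU using hA
    obtain ⟨t, ht⟩ := isCompact_univ.elim_nhds_subcover V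
      (fun y _ => (hV y).2.mem_nhds (hyV y))
    let e := t.equivFin
    refine ⟨t.card, disjointed (fun k => V (e.symm k).1), ?_, ?_, ?_, ?_⟩
    · intro k
      refine disjointedRec (f := fun k => V (e.symm k).1) (p := IsClopen) ?_ (hV _)
      intro s i hs
      exact hs.diff (hV _)
    · exact disjoint_disjointed _
    · rw [iUnion_disjointed, Set.eq_univ_iff_forall]
      intro y
      have : y ∈ ⋃ x ∈ t, V x := ht.2 (Set.mem_univ y)
      simp only [Set.mem_iUnion] at this
      obtain ⟨x, hxt, hyx⟩ := this
      refine Set.mem_iUnion.mpr ⟨e ⟨x, hxt⟩, ?_⟩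
      simpa using hyx
    · intro k
      obtain ⟨i, hi⟩ := hVU (e.symm k).1
      exact ⟨i, (disjointed_subset _ k).trans hi⟩

end Groth.Agent.S0179
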