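import Groth.Statements.S0180
import Groth.Agent.S0152

set_option autoImplicit false
universe u
open EtPBC

namespace Groth.Agent.S0180

/-- Final assertion: if X is spectral, the set X_0 of closed points is closed, and every point of X
specializes to exactly one closed point, then X_0 -> pi_0(X) is bijective (so X satisfies the
equivalent conditions of the lemma; such X are called w-local). -/
theorem result (X : Type u) [TopologicalSpace X]
    [SpectralSpace X] (h0 : IsClosed {x : X | IsClosed ({x} : Set X)})
    (huniq : ∀ x : X, ∃! z : X, IsClosed ({z} : Set X) ∧ x ⤳ z) :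
    Function.Bijective (fun x : {x : X // IsClosed ({x} : Set X)} => _root_.ConnectedComponents.mk x.1) := by
  classical
  set X₀ : Set X := {x : X | IsClosed ({x} : Set X)} with hX₀
  -- hypothesis of S0152
  have hconn : ∀ x : X, IsConnected (X₀ ∩ closure {x}) := by
    intro x
    obtain ⟨z, ⟨hz1, hz2⟩, hzu⟩ := huniq x
    have : X₀ ∩ closure {x} = {z} := by
      ext e
      constructor
      · rintro ⟨he1, he2⟩
        exact hzu e ⟨he1, specializes_iff_mem_closure.mpr he2⟩
      · rintro rfl
        exact ⟨hz1, specializes_iff_mem_closure.mp hz2⟩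
    rw [this]
    exact isConnected_singleton
  constructor
  · -- injectivity
    rintro ⟨z, hz⟩ ⟨z', hz'⟩ heq
    by_contra hne
    have hne' : z ≠ z' := fun h => hne (Subtype.ext h)
    simp only [ConnectedComponents.coe_eq_coe'] at heq
    -- a general separation statement
    have key : ∀ a b : X, IsClosed ({a} : Set X) → IsClosed ({b} : Set X) →
        ∀ U : Set X, IsOpen U → IsCompact U → a ∈ U → b ∉ U →
        ∃ V : Set X, IsClopen V ∧ a ∈ V ∧ b ∉ V := by
      intro a b ha hb U hUo hUc haU hbU
      have hZ₁ : IsClosed (X₀ ∩ U) := by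
        refine Groth.Agent.Lib.helper9.isClosed_of_isClosed_constructibleTopology_of_stableUnderSpecialization
          ?_ ?_
        · exact @IsClosed.inter X _ _ (constructibleTopology X)
            (Groth.Agent.Lib.helper9.isClosed_constructibleTopology_of_isClosed h0)
            (Groth.Agent.Lib.helper9.isClopen_constructibleTopology hUo hUc).1
        · rintro x y hxy ⟨hx0, hxU⟩
          have hmem : y ∈ closure ({x} : Set X) := specializes_iff_mem_closure.mp hxy
          rw [(show IsClosed ({x} : Set X) from hx0).closure_eq] at hmem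
          rw [Set.mem_singleton_iff.mp hmem]
          exact ⟨hx0, hxU⟩
      have hZ₂ : IsClosed (X₀ ∩ Uᶜ) := h0.inter hUo.isClosed_compl
      have hdisj : Disjoint (X₀ ∩ U) (X₀ ∩ Uᶜ) := by
        rw [Set.disjoint_left]
        rintro x ⟨-, hxU⟩ ⟨-, hxU'⟩
        exact hxU' hxU
      have hunion : (X₀ ∩ U) ∪ (X₀ ∩ Uᶜ) = X₀ := by
        rw [← Set.inter_union_distrib_left, Set.union_compl_self, Set.inter_univ]
      obtain ⟨X₁, X₂, hX₁, hX₂, hd, hu, e₁, e₂⟩ :=
        Groth.Agent.S0152.result X X₀ h0 hconn (X₀ ∩ U) (X₀ ∩ Uᶜ) hZ₁ hZ₂ hdisj hunion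
      have hcompl : X₁ = X₂ᶜ := by
        ext x
        constructor
        · intro hx hx2
          exact Set.disjoint_left.mp hd hx hx2
        · intro hx
          have : x ∈ X₁ ∪ X₂ := hu ▸ Set.mem_univ x
          rcases this with h | h
          · exact h
          · exact absurd h hx
      refine ⟨X₁, ⟨hX₁, hcompl ▸ hX₂.isOpen_compl⟩, ?_, ?_⟩
      · have : a ∈ X₀ ∩ U := ⟨ha, haU⟩
        rw [e₁] at this
        exact this.2
      · intro hb1
        have : b ∈ X₀ ∩ Uᶜ := ⟨hb, hbU⟩
        rw [e₂] at this
        exact Set.disjoint_left.mp hd hb1 this.2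
    obtain ⟨U, hUo, hUc, hxor⟩ := Groth.Agent.Lib.helper9.exists_isCompact_isOpen_xor_mem hne'
    rcases hxor with ⟨h1, h2⟩ | ⟨h1, h2⟩
    · obtain ⟨V, hV, hzV, hz'V⟩ := key z z' hz hz' U hUo hUc h1 h2
      have hsub := hV.connectedComponent_subset hzV
      have : z' ∈ connectedComponent z := connectedComponent_eq heq ▸ mem_connectedComponent
      exact hz'V (hsub this)
    · obtain ⟨V, hV, hz'V, hzV⟩ := key z' z hz' hz U hUo hUc h1 h2
      have hsub := hV.connectedComponent_subset hz'V
      exact hzV (hsub heq)
  · -- surjectivity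
    intro c
    obtain ⟨x, rfl⟩ := ConnectedComponents.surjective_coe c
    obtain ⟨z, ⟨hz1, hz2⟩, -⟩ := huniq x
    refine ⟨⟨z, hz1⟩, ?_⟩
    simp only [ConnectedComponents.coe_eq_coe']
    have hsub : closure ({x} : Set X) ⊆ connectedComponent x :=
      (isConnected_singleton.closure).isPreconnected.subset_connectedComponent
        (subset_closure rfl)
    exact hsub (specializes_iff_mem_closure.mp hz2)

end Groth.Agent.S0180
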