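import Groth.Statements.S0195
import Mathlib
import Groth.Agent.Lib.Helper12.CSA5
-- import your own Groth.Agent.* helpers here

set_option autoImplicit false
universe u v w
open scoped TensorProduct
open Curves

namespace Groth.Agent.S0195

section helpers
open Groth.Agent.Lib.helper12.CSA

theorem main (k : Type u) [Field k] (A : CSA.{u, u} k)
    (k' : Type u) [Field k'] [Algebra k k'] [FiniteDimensional k k'] :
    Curves.Splits k A k' ↔ ∃ (B : CSA.{u, u} k) (_ : k' →ₐ[k] B), IsBrauerEquivalent A B ∧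
      Module.finrank k B = Module.finrank k k' ^ 2 := by
  constructor
  · rintro ⟨m, hm, ⟨e⟩⟩
    obtain ⟨B', i1, i2, i3, i4, i5, ι', hdim, n', m', hn', hm', ⟨t⟩⟩ :=
      exists_csa_of_splits k A k' m hm e
    have hfd : FiniteDimensional k B'ᵐᵒᵖ :=
      Module.Finite.equiv (MulOpposite.opLinearEquiv k : B' ≃ₗ[k] B'ᵐᵒᵖ)
    refine ⟨@CSA.mk k _ (AlgCat.of k B'ᵐᵒᵖ) inferInstance inferInstance hfd, ι',
      ⟨n', m', hn', hm', ⟨t⟩⟩, ?_⟩
    change Module.finrank k B'ᵐᵒᵖ = _
    rw [← hdim]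
    exact (MulOpposite.opLinearEquiv k : B' ≃ₗ[k] B'ᵐᵒᵖ).finrank_eq.symm
  · rintro ⟨B, ι, ⟨n, m, hn, hm, ⟨e⟩⟩, hdim⟩
    obtain ⟨d, hd, ⟨eB⟩⟩ := splits_of_algHom k k' B ι hdim
    exact splits_of_matrix_algEquiv k k' A B n m hn hm e d hd eB
end helpers

/-- A finite extension k' of k splits a finite central simple algebra A exactly when some algebra
similar to A contains k' with dim equal to [k':k]^2. Uses Mathlib's bundled CSA and Brauer
equivalence. -/
theorem result (k : Type u) [Field k] (A : CSA.{u, u} k)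
    (k' : Type u) [Field k'] [Algebra k k'] [FiniteDimensional k k'] :
    Curves.Splits k A k' ↔ ∃ (B : CSA.{u, u} k) (_ : k' →ₐ[k] B), IsBrauerEquivalent A B ∧
      Module.finrank k B = Module.finrank k k' ^ 2 := by
  exact main k A k'

end Groth.Agent.S0195
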