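import Groth.Statements.S0197
import Mathlib
-- import your own Groth.Agent.* helpers here

set_option autoImplicit false
universe u v w
open scoped TensorProduct
open Curves

namespace Groth.Agent.S0197

section helpers
theorem main (k : Type u) [Field k]
    (D : Type u) [DivisionRing D] [Algebra k D] [Algebra.IsCentral k D] [FiniteDimensional k D]
    (d : ℕ) (hd : Module.finrank k D = d ^ 2)
    (k' : Type u) [Field k'] [Algebra k k'] [FiniteDimensional k k'] (hs : Curves.Splits k D k') :
    d ∣ Module.finrank k k' := by
  obtain ⟨n, hn, ⟨e⟩⟩ := hs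
  -- n = d
  have h1 : Module.finrank k' (k' ⊗[k] D) = Module.finrank k D := Module.finrank_baseChange
  have h2 : Module.finrank k' (k' ⊗[k] D) = n * n := by
    rw [e.toLinearEquiv.finrank_eq, Module.finrank_matrix]
    simp
  have hnd : n = d := by
    have : n * n = d * d := by rw [← h2, h1, hd, pow_two]
    exact Nat.mul_self_inj.mp this
  subst hnd
  -- the ring hom D → End_k (Fin n → k')
  let φ : D →+* Module.End k (Fin n → k') :=
    { toFun := fun x => (Matrix.toLin' (e (1 ⊗ₜ[k] x))).restrictScalars k
      map_one' := by
        ext v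
        simp [Algebra.TensorProduct.one_def.symm]
      map_mul' := fun x y => by
        have : (1 : k') ⊗ₜ[k] (x * y) = (1 ⊗ₜ[k] x) * (1 ⊗ₜ[k] y) := by
          rw [Algebra.TensorProduct.tmul_mul_tmul, one_mul]
        apply LinearMap.ext
        intro v
        change (Matrix.toLin' (e (1 ⊗ₜ[k] (x * y)))) v =
          (Matrix.toLin' (e (1 ⊗ₜ[k] x))) ((Matrix.toLin' (e (1 ⊗ₜ[k] y))) v)
        rw [this, map_mul, Matrix.toLin'_mul]
        rfl
      map_zero' := by
        ext v
        simp
      map_add' := fun x y => by
        ext v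
        simp [TensorProduct.tmul_add] }
  let _ : Module D (Fin n → k') := Module.compHom (Fin n → k') φ
  have hsmul : ∀ (x : D) (v : Fin n → k'), x • v = (e (1 ⊗ₜ[k] x)).mulVec v := fun x v => rfl
  have : IsScalarTower k D (Fin n → k') := ⟨fun c x v => by
    rw [hsmul, hsmul]
    have : (1 : k') ⊗ₜ[k] (c • x) = algebraMap k k' c • ((1 : k') ⊗ₜ[k] x) := by
      rw [TensorProduct.tmul_smul, algebraMap_smul]
    rw [this, map_smul, Matrix.smul_mulVec, algebraMap_smul]⟩
  have h3 : Module.finrank k D * Module.finrank D (Fin n → k') = Module.finrank k (Fin n → k') :=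
    Module.finrank_mul_finrank k D (Fin n → k')
  have h4 : Module.finrank k (Fin n → k') = n * Module.finrank k k' := by
    rw [Module.finrank_pi_fintype]
    simp
  have hn0 : 0 < n := Nat.pos_of_ne_zero hn
  rw [hd, h4, pow_two, mul_assoc] at h3
  have h5 := Nat.eq_of_mul_eq_mul_left hn0 h3
  exact ⟨_, h5.symm⟩
end helpers

/-- If a finite central skew field D has dimension d^2, the degree of any finite splitting field of D is
divisible by d. -/
theorem result (k : Type u) [Field k]
    (D : Type u) [DivisionRing D] [Algebra k D] [Algebra.IsCentral k D] [FiniteDimensional k D]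
    (d : ℕ) (hd : Module.finrank k D = d ^ 2)
    (k' : Type u) [Field k'] [Algebra k k'] [FiniteDimensional k k'] (hs : Curves.Splits k D k') :
    d ∣ Module.finrank k k' := by
  exact main k D d hd k' hs

end Groth.Agent.S0197
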