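import Groth.Statements.S0207
import Groth.Agent.S0110
import Groth.Agent.S0469
import Groth.Agent.Lib.Helper1.ASSheafC

set_option autoImplicit false
universe u
open CategoryTheory CategoryTheory.Limits AlgebraicGeometry
open Curves

namespace Groth.Agent.S0207

open Groth.Agent.H1.ASSheafC Groth.Agent.H1.ASSheafA Abelian

instance spectral (S : Scheme.{u}) [CompactSpace S] [QuasiSeparatedSpace S] : SpectralSpace S where

theorem ga_vanish (S : Scheme.{u}) [CompactSpace S] [QuasiSeparatedSpace S] (d : ℕ)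
    (hd : topologicalKrullDim S = d) (j : ℕ) (hj : d < j) :
    Subsingleton (EtCoh.H S (EtCoh.Ga S) j) := by
  obtain ⟨e⟩ := Groth.Agent.S0110.result S j
  have h : Subsingleton (Coh.HH S (Coh.structureModule S) j) :=
    @Groth.Agent.S0469.result S.toTopCat (spectral S) d hd.le (Coh.toAb (Coh.structureModule S)) j hj
  exact e.toEquiv.subsingleton

theorem main (p : ℕ) [Fact p.Prime] (S : Scheme.{u}) [CompactSpace S] [QuasiSeparatedSpace S]
    (hp : (p : Γ(S, ⊤)) = 0) (d : ℕ) (hd : topologicalKrullDim S = d) (q : ℕ) (hq : 2 + d ≤ q) :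
    Subsingleton (EtCoh.H S (EtCoh.const S (ZMod p)) q) := by
  obtain ⟨n, rfl⟩ : ∃ n, q = n + 1 := ⟨q - 1, by omega⟩
  have h1 := ga_vanish S d hd n (by omega)
  have h2 := ga_vanish S d hd (n + 1) (by omega)
  have hS := shortExact_T S p hp
  refine ⟨fun x y => ?_⟩
  have key : ∀ x : EtCoh.H S (EtCoh.const S (ZMod p)) (n + 1), x = 0 := by
    intro x
    obtain ⟨x₃, hx₃⟩ := Ext.covariant_sequence_exact₁ _ hS x (h2.elim _ _) rfl
    have h0 : x₃ = 0 := h1.elim x₃ 0
    subst h0
    exact hx₃.symm.trans (Ext.zero_comp _ _ _ _ _)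
  rw [key x, key y]

/-- On a quasi-compact quasi-separated scheme of dimension d on which the prime p is zero, étale
cohomology with Z/p coefficients vanishes from degree d+2 on. -/
theorem result (p : ℕ) [Fact p.Prime] (S : Scheme.{u}) [CompactSpace S] [QuasiSeparatedSpace S]
    (hp : (p : Γ(S, ⊤)) = 0) (d : ℕ) (hd : topologicalKrullDim S = d) (q : ℕ) (hq : 2 + d ≤ q) :
    Subsingleton (EtCoh.H S (EtCoh.const S (ZMod p)) q) := by
  exact main p S hp d hd q hq

end Groth.Agent.S0207
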