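import Groth.Statements.S0218
import Mathlib
-- import your own Groth.Agent.* helpers here

set_option autoImplicit false
universe u
open Curves

namespace Groth.Agent.S0218

section helpers
open Polynomial

section two
variable {k : Type u} [Field k] {A : Type u} [CommRing A] [Algebra k A]

/-- every subalgebra is `⊥` or `⊤`, and they differ -/
theorem dichotomy (h : Nat.card (Subalgebra k A) = 2) :
    (⊥ : Subalgebra k A) ≠ ⊤ ∧ ∀ S : Subalgebra k A, S = ⊥ ∨ S = ⊤ := by
  obtain ⟨x, y, hxy, huniv⟩ := Nat.card_eq_two_iff.mp h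
  have hall : ∀ S : Subalgebra k A, S = x ∨ S = y := by
    intro S
    have : S ∈ ({x, y} : Set (Subalgebra k A)) := huniv ▸ Set.mem_univ S
    simpa using this
  have hne : (⊥ : Subalgebra k A) ≠ ⊤ := by
    intro hbt
    have hS : ∀ S : Subalgebra k A, S = ⊥ := fun S => le_antisymm (hbt ▸ le_top) bot_le
    exact hxy ((hS x).trans (hS y).symm)
  refine ⟨hne, fun S => ?_⟩
  rcases hall ⊥ with hb | hb <;> rcases hall ⊤ with ht | ht <;> rcases hall S with hS | hS
  all_goals first
    | exact absurd (hb.trans ht.symm) hne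
    | (left; exact hS.trans hb.symm)
    | (right; exact hS.trans ht.symm)

/-- structure: if `e * e = μ • e`, `e ∉ ⊥` and `adjoin {e} = ⊤`, then `1, e` is a basis -/
theorem span_one_e {e : A} {μ : k} (he : e * e = μ • e)
    (htop : Algebra.adjoin k {e} = ⊤) (x : A) : ∃ c d : k, x = c • (1 : A) + d • e := by
  have hx : x ∈ Algebra.adjoin k {e} := htop ▸ Algebra.mem_top
  induction hx using Algebra.adjoin_induction with
  | mem x hx =>
    rw [Set.mem_singleton_iff] at hx
    exact ⟨0, 1, by rw [hx]; simp⟩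
  | algebraMap r => exact ⟨r, 0, by simp [Algebra.algebraMap_eq_smul_one]⟩
  | add x y _ _ hx hy =>
    obtain ⟨c1, d1, rfl⟩ := hx
    obtain ⟨c2, d2, rfl⟩ := hy
    exact ⟨c1 + c2, d1 + d2, by simp only [add_smul]; ring⟩
  | mul x y _ _ hx hy =>
    obtain ⟨c1, d1, rfl⟩ := hx
    obtain ⟨c2, d2, rfl⟩ := hy
    refine ⟨c1 * c2, c1 * d2 + d1 * c2 + d1 * d2 * μ, ?_⟩
    have : (c1 • (1 : A) + d1 • e) * (c2 • (1 : A) + d2 • e) =
        (c1 * c2) • (1 : A) + (c1 * d2 + d1 * c2) • e + (d1 * d2) • (e * e) := by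
      simp only [add_mul, mul_add, smul_mul_smul_comm, one_mul, mul_one, add_smul]
      ring_nf
    rw [this, he, smul_smul, add_smul (c1 * d2 + d1 * c2), add_assoc]

theorem coords_unique [Nontrivial A] {e : A} (he : e ∉ (⊥ : Subalgebra k A)) {c d : k}
    (h0 : c • (1 : A) + d • e = 0) : c = 0 ∧ d = 0 := by
  have hd : d = 0 := by
    by_contra hd
    apply he
    rw [Algebra.mem_bot]
    refine ⟨-(d⁻¹ * c), ?_⟩
    have : d • e = -(c • (1 : A)) := eq_neg_of_add_eq_zero_right h0
    have h2 : e = d⁻¹ • (d • e) := by rw [smul_smul, inv_mul_cancel₀ hd, one_smul]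
    rw [h2, this, Algebra.algebraMap_eq_smul_one, smul_neg, smul_smul, neg_smul]
  refine ⟨?_, hd⟩
  rw [hd, zero_smul, add_zero] at h0
  by_contra hc
  have : (1 : A) = 0 := by
    have h2 : (1 : A) = c⁻¹ • (c • (1 : A)) := by rw [smul_smul, inv_mul_cancel₀ hc, one_smul]
    rw [h2, h0, smul_zero]
  exact one_ne_zero this


theorem equiv_prod [Nontrivial A] {e : A} {μ : k} (hμ : μ ≠ 0) (he : e * e = μ • e)
    (hbot : e ∉ (⊥ : Subalgebra k A)) (htop : Algebra.adjoin k {e} = ⊤) :
    Nonempty (A ≃ₐ[k] (k × k)) := by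
  set f : A := μ⁻¹ • e with hf
  have hff : f * f = f := by
    rw [hf, smul_mul_smul_comm, he, smul_smul, mul_assoc, inv_mul_cancel₀ hμ, mul_one]
  have hf1 : f * (1 - f) = 0 := by rw [mul_sub, mul_one, hff, sub_self]
  have hf2 : (1 - f) * (1 - f) = 1 - f := by
    rw [sub_mul, one_mul, hf1, sub_zero]
  let φl : k × k →ₗ[k] A :=
    LinearMap.coprod (LinearMap.toSpanSingleton k A f) (LinearMap.toSpanSingleton k A (1 - f))
  have hφl : ∀ p : k × k, φl p = p.1 • f + p.2 • (1 - f) := fun p => by
    simp [φl, LinearMap.coprod_apply, LinearMap.toSpanSingleton_apply]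
  let φ : k × k →ₐ[k] A := AlgHom.ofLinearMap φl
    (by rw [hφl]; simp)
    (by
      intro p q
      rw [hφl, hφl, hφl]
      simp only [Prod.fst_mul, Prod.snd_mul, add_mul, mul_add, smul_mul_smul_comm, hff, hf1, hf2,
        mul_comm (1 - f) f, smul_zero, add_zero, zero_add])
  have hφ : ∀ p : k × k, φ p = p.1 • f + p.2 • (1 - f) := hφl
  have hinj : Function.Injective φ := by
    rw [injective_iff_map_eq_zero]
    intro p hp
    rw [hφ] at hp
    have h0 : p.2 • (1 : A) + ((p.1 - p.2) * μ⁻¹) • e = 0 := by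
      rw [← hp, hf, smul_sub, smul_smul, smul_smul, sub_mul, sub_smul]
      abel
    obtain ⟨h1, h2⟩ := coords_unique hbot h0
    have h3 : p.1 - p.2 = 0 := by
      rcases mul_eq_zero.mp h2 with h | h
      · exact h
      · exact absurd h (inv_ne_zero hμ)
    ext
    · simp only [Prod.fst_zero]; rw [sub_eq_zero.mp h3, h1]
    · exact h1
  have hsurj : Function.Surjective φ := by
    intro z
    obtain ⟨c, d, rfl⟩ := span_one_e he htop z
    refine ⟨(c + d * μ, c), ?_⟩
    rw [hφ, hf]
    simp only [smul_sub, smul_smul, add_mul, add_smul, mul_assoc, mul_inv_cancel₀ hμ, mul_one]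
    abel
  exact ⟨(AlgEquiv.ofBijective φ ⟨hinj, hsurj⟩).symm⟩

theorem equiv_dual [Nontrivial A] {e : A} (he : e * e = 0)
    (hbot : e ∉ (⊥ : Subalgebra k A)) (htop : Algebra.adjoin k {e} = ⊤) :
    Nonempty (A ≃ₐ[k] DualNumber k) := by
  let ψ : DualNumber k →ₐ[k] A :=
    DualNumber.lift ⟨(Algebra.ofId k A, e), he, fun _ => Commute.all _ _⟩
  have hψ : ∀ a : DualNumber k, ψ a = a.fst • (1 : A) + a.snd • e := by
    intro a
    change Algebra.ofId k A a.fst + Algebra.ofId k A a.snd * e = _
    simp [Algebra.ofId_apply, Algebra.algebraMap_eq_smul_one]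
  have he' : e * e = (0 : k) • e := by rw [he, zero_smul]
  have hinj : Function.Injective ψ := by
    rw [injective_iff_map_eq_zero]
    intro a ha
    rw [hψ] at ha
    obtain ⟨h1, h2⟩ := coords_unique hbot ha
    exact TrivSqZeroExt.ext h1 h2
  have hsurj : Function.Surjective ψ := by
    intro z
    obtain ⟨c, d, rfl⟩ := span_one_e he' htop z
    refine ⟨TrivSqZeroExt.inl c + TrivSqZeroExt.inr d, ?_⟩
    rw [hψ]
    simp
  exact ⟨(AlgEquiv.ofBijective ψ ⟨hinj, hsurj⟩).symm⟩


theorem isAlgebraic_of_dichotomy (hall : ∀ S : Subalgebra k A, S = ⊥ ∨ S = ⊤) (a : A) :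
    IsAlgebraic k a := by
  rcases hall (Algebra.adjoin k {a ^ 2}) with hS | hS
  · have h1 : a ^ 2 ∈ (⊥ : Subalgebra k A) := hS ▸ Algebra.subset_adjoin (Set.mem_singleton _)
    rw [Algebra.mem_bot] at h1
    obtain ⟨c, hc⟩ := h1
    refine ⟨X ^ 2 - C c, X_pow_sub_C_ne_zero (by norm_num) c, ?_⟩
    simp [hc]
  · have h1 : a ∈ Algebra.adjoin k {a ^ 2} := hS ▸ Algebra.mem_top
    rw [Algebra.adjoin_singleton_eq_range_aeval] at h1
    obtain ⟨q, hq⟩ := h1
    refine ⟨expand k 2 q - X, ?_, ?_⟩
    · intro h0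
      have := congrArg (fun p => coeff p 1) h0
      simp only [coeff_sub, coeff_expand (by norm_num : 0 < 2), coeff_X_one, coeff_zero] at this
      norm_num at this
    · rw [map_sub, expand_aeval, aeval_X]
      exact sub_eq_zero.mpr hq

end two

theorem main (k : Type u) [Field k] [IsAlgClosed k] (A : Type u) [CommRing A] [Algebra k A]
    (h : Nat.card (Subalgebra k A) = 2) :
    Nonempty (A ≃ₐ[k] (k × k)) ∨ Nonempty (A ≃ₐ[k] DualNumber k) := by
  obtain ⟨hne, hall⟩ := dichotomy h
  have hnt : Nontrivial A := by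
    by_contra hcon
    rw [not_nontrivial_iff_subsingleton] at hcon
    apply hne
    ext x
    simp only [Algebra.mem_top, iff_true]
    rw [Subsingleton.elim x 0]
    exact zero_mem _
  obtain ⟨a, ha⟩ : ∃ a : A, a ∉ (⊥ : Subalgebra k A) := by
    by_contra hcon
    push Not at hcon
    exact hne (eq_top_iff.mpr fun x _ => hcon x).symm.symm
  have hint : IsIntegral k a := (isAlgebraic_of_dichotomy hall a).isIntegral
  obtain ⟨l, hl⟩ := IsAlgClosed.exists_root (minpoly k a) (ne_of_gt (minpoly.degree_pos hint))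
  set r := minpoly k a /ₘ (X - C l) with hr
  have hpr : (X - C l) * r = minpoly k a := mul_divByMonic_eq_iff_isRoot.mpr hl
  have hr0 : r ≠ 0 := by
    intro h0
    rw [h0, mul_zero] at hpr
    exact minpoly.ne_zero hint hpr.symm
  set e := aeval a r with he
  have hae : (a - algebraMap k A l) * e = 0 := by
    have := minpoly.aeval k a
    rw [← hpr, map_mul, map_sub, aeval_X, aeval_C] at this
    exact this
  have he0 : e ≠ 0 := by
    intro h0
    have h1 := minpoly.degree_le_of_ne_zero k a hr0 h0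
    rw [← hpr, degree_mul, degree_X_sub_C] at h1
    rw [degree_eq_natDegree hr0] at h1
    have h3 : ((1 + r.natDegree : ℕ) : WithBot ℕ) ≤ (r.natDegree : WithBot ℕ) := by
      push_cast
      exact h1
    have h4 := Nat.cast_le.mp h3
    omega
  have hebot : e ∉ (⊥ : Subalgebra k A) := by
    intro hmem
    rw [Algebra.mem_bot] at hmem
    obtain ⟨c, hc⟩ := hmem
    have hc0 : c ≠ 0 := by
      rintro rfl
      rw [map_zero] at hc
      exact he0 hc.symm
    apply ha
    rw [Algebra.mem_bot]
    refine ⟨l, ?_⟩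
    have h1 : (a - algebraMap k A l) * algebraMap k A c = 0 := by rw [hc]; exact hae
    have h2 : a - algebraMap k A l = 0 := by
      have : (a - algebraMap k A l) * algebraMap k A c * algebraMap k A c⁻¹ = 0 := by
        rw [h1, zero_mul]
      rwa [mul_assoc, ← map_mul, mul_inv_cancel₀ hc0, map_one, mul_one] at this
    exact (sub_eq_zero.mp h2).symm
  obtain ⟨s, hs⟩ := X_sub_C_dvd_sub_C_eval (a := l) (p := r)
  set μ := r.eval l with hμ
  have hee : e * e = μ • e := by
    have h1 : e - algebraMap k A μ = (a - algebraMap k A l) * aeval a s := by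
      have := congrArg (aeval a) hs
      rw [map_sub, aeval_C, map_mul, map_sub, aeval_X, aeval_C] at this
      exact this
    have h2 : e = algebraMap k A μ + (a - algebraMap k A l) * aeval a s := by
      rw [← h1]; ring
    calc e * e = (algebraMap k A μ + (a - algebraMap k A l) * aeval a s) * e := by rw [← h2]
      _ = algebraMap k A μ * e + aeval a s * ((a - algebraMap k A l) * e) := by ring
      _ = μ • e := by rw [hae, mul_zero, add_zero, Algebra.smul_def]
  have htop : Algebra.adjoin k {e} = ⊤ := by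
    rcases hall (Algebra.adjoin k {e}) with hS | hS
    · exact absurd (hS ▸ Algebra.subset_adjoin (Set.mem_singleton e)) hebot
    · exact hS
  by_cases hμ0 : μ = 0
  · right
    rw [hμ0, zero_smul] at hee
    exact equiv_dual hee hebot htop
  · left
    exact equiv_prod hμ0 hee hebot htop
end helpers

/-- Over an algebraically closed field k, a commutative k-algebra with exactly two k-subalgebras is
isomorphic to k × k or to the dual numbers over k. -/
theorem result (k : Type u) [Field k] [IsAlgClosed k] (A : Type u) [CommRing A] [Algebra k A]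
    (h : Nat.card (Subalgebra k A) = 2) :
    Nonempty (A ≃ₐ[k] (k × k)) ∨ Nonempty (A ≃ₐ[k] DualNumber k) := by
  exact main k A h

end Groth.Agent.S0218
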