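import Groth.Statements.S0219
import Mathlib
import Groth.Agent.Lib.Lead.DimOneAffine
import Groth.Agent.Lib.Helper20.ZeroDimSupp
import Groth.Agent.Lib.Lead.CurveEuler

set_option autoImplicit false
universe u
open CategoryTheory CategoryTheory.Limits AlgebraicGeometry TopologicalSpace
open Curves

namespace Groth.Agent.S0219

/-- the set of points whose closure is an irreducible component is finite in a Noetherian `T0` space -/
theorem finite_isGen (X : Scheme.{u}) [IsNoetherian X] :
    {x : X | Groth.Agent.Lib.Lead.DimOneAffine.IsGen X x}.Finite := by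
  have hfin : (irreducibleComponents X).Finite := NoetherianSpace.finite_irreducibleComponents
  refine Set.Finite.of_finite_image (f := fun x : X => closure ({x} : Set X)) (hfin.subset ?_) ?_
  · rintro _ ⟨x, hx, rfl⟩
    exact hx
  · intro a _ b _ hab
    exact ((specializes_iff_closure_subset.mpr hab.le).antisymm
      (specializes_iff_closure_subset.mpr hab.ge)).eq.symm

/-- the closure of a non-closed point of a scheme of dimension `≤ 1` has dimension one -/
theorem dim_closure_eq_one (X : Scheme.{u}) (hdim : topologicalKrullDim X ≤ 1) (x : X)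
    (hx : ¬ IsClosed ({x} : Set X)) : topologicalKrullDim (closure ({x} : Set X)) = 1 := by
  apply le_antisymm
  · exact (Topology.IsEmbedding.subtypeVal.isInducing.topologicalKrullDim_le).trans hdim
  · -- a chain of length one
    have hex : ∃ c ∈ closure ({x} : Set X), c ≠ x := by
      by_contra hcon
      push Not at hcon
      apply hx
      have : closure ({x} : Set X) = {x} := by
        ext c
        constructor
        · intro hc; exact hcon c hc
        · rintro rfl; exact subset_closure rfl
      rw [← this]
      exact isClosed_closure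
    obtain ⟨c, hc, hcx⟩ := hex
    unfold topologicalKrullDim
    rw [Order.one_le_krullDim_iff]
    let Z : Set X := closure ({x} : Set X)
    haveI : IrreducibleSpace Z := Subtype.irreducibleSpace isIrreducible_singleton.closure
    let c' : Z := ⟨c, hc⟩
    let x' : Z := ⟨x, subset_closure rfl⟩
    let a : IrreducibleCloseds Z := ⟨closure {c'}, isIrreducible_singleton.closure, isClosed_closure⟩
    let b : IrreducibleCloseds Z := ⟨Set.univ, IrreducibleSpace.isIrreducible_univ Z, isClosed_univ⟩
    refine ⟨a, b, ?_⟩
    rw [SetLike.lt_iff_le_and_exists]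
    refine ⟨fun z _ => Set.mem_univ z, x', Set.mem_univ x', ?_⟩
    intro hxa
    have h1 : x ∈ closure (Subtype.val '' ({c'} : Set Z)) := closure_subtype.mp hxa
    rw [Set.image_singleton] at h1
    have h2 : c ⤳ x := specializes_iff_mem_closure.mpr h1
    have h3 : x ⤳ c := specializes_iff_mem_closure.mpr hc
    exact hcx (h2.antisymm h3).eq

/-- A morphism over a field from a proper scheme of dimension at most one to a separated scheme, which
does not contract any one-dimensional irreducible component to a point, is finite. -/
theorem result (k : Type u) [Field k] (X Y : Scheme.{u}) (p : X ⟶ Spec (CommRingCat.of k)) (q : Y ⟶ Spec (CommRingCat.of k))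
    [IsProper p] [IsSeparated q] (f : X ⟶ Y) (hf : f ≫ q = p) (hdim : topologicalKrullDim X ≤ 1)
    (h : ∀ Z ∈ irreducibleComponents (X : Type u), topologicalKrullDim Z = 1 → (f.base '' Z).Nontrivial) :
    IsFinite f := by
  letI : X.Over (Spec (CommRingCat.of k)) := ⟨p⟩
  haveI : IsProper (X ↘ Spec (CommRingCat.of k)) := ‹IsProper p›
  haveI := Groth.Agent.Lib.Lead.CurveEuler.isNoetherian k X
  haveI : IsProper (f ≫ q) := by rw [hf]; infer_instance
  haveI : IsProper f := IsProper.of_comp f q
  have hcl : IsClosedMap f.base := f.isClosedMap
  -- non-closed points are generic points of one-dimensional components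
  have hgen : ∀ x : X, ¬ IsClosed ({x} : Set X) →
      Groth.Agent.Lib.Lead.DimOneAffine.IsGen X x := fun x hx => by
    by_contra hg
    exact hx (Groth.Agent.Lib.Lead.DimOneAffine.isClosed_singleton_of_dim_le_one X hdim x hg)
  have hfib : ∀ y : Y, (f.base ⁻¹' {y}).Finite := by
    intro y
    by_contra hinf
    have hinf' : (f.base ⁻¹' {y}).Infinite := hinf
    -- a closed point in the fibre
    obtain ⟨c, hcF, hcG⟩ := (hinf'.sdiff (finite_isGen X)).nonempty
    have hcc : IsClosed ({c} : Set X) := by
      by_contra hc
      exact hcG (hgen c hc)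
    have hy : IsClosed ({y} : Set Y) := by
      have := hcl _ hcc
      rw [Set.image_singleton] at this
      rwa [show f.base c = y from hcF] at this
    have hF : IsClosed (f.base ⁻¹' {y}) := hy.preimage f.continuous
    apply hinf
    refine Groth.Agent.Lib.Helper20.ZeroDimSupp.finite_of_isClosed_of_closed_points _ hF ?_
    intro x hxF
    by_contra hx
    have hZ := hgen x hx
    have hZdim := dim_closure_eq_one X hdim x hx
    obtain ⟨a, ⟨a', ha', rfl⟩, b, ⟨b', hb', rfl⟩, hab⟩ := h _ hZ hZdim
    have hsub : closure ({x} : Set X) ⊆ f.base ⁻¹' {y} :=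
      hF.closure_subset_iff.mpr (Set.singleton_subset_iff.mpr hxF)
    exact hab ((hsub ha').trans (hsub hb').symm)
  choose W hxW hW using fun y =>
    exists_isFinite_morphismRestrict_of_finite_preimage_singleton f y (hfib y)
  refine IsZariskiLocalAtTarget.of_iSup_eq_top (P := @IsFinite) W ?_ hW
  exact top_le_iff.mp fun y _ => Opens.mem_iSup.mpr ⟨y, hxW y⟩

end Groth.Agent.S0219
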