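import Groth.Statements.S0223
import Mathlib
import Groth.Agent.S7673
import Groth.Agent.Lib.Helper11.AmpleInv
import Groth.Agent.Lib.Helper11.InvMod

set_option autoImplicit false
universe u
open CategoryTheory CategoryTheory.Limits AlgebraicGeometry
open Curves

namespace Groth.Agent.S0223

open Groth.Agent.Lib.Helper18 in
lemma finrank_eq_of_iso (k : Type u) [Field k] (X : Scheme.{u}) [X.Over (Spec (CommRingCat.of k))]
    {F G : X.Modules} (e : F ≅ G) (i : ℕ) :
    Module.finrank k (Coh.HH X F i) = Module.finrank k (Coh.HH X G i) :=
  LinearEquiv.finrank_eq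
    { HH.mapOver k e.hom i with
      invFun := HH.mapOver k e.inv i
      left_inv := fun x => by
        change HH.map e.inv i (HH.map e.hom i x) = x
        rw [← HH.map_comp_apply, e.hom_inv_id, HH.map_id]
        rfl
      right_inv := fun x => by
        change HH.map e.hom i (HH.map e.inv i x) = x
        rw [← HH.map_comp_apply, e.inv_hom_id, HH.map_id]
        rfl }

/-- For a proper one-dimensional scheme X over a field k with only constant global functions, base
change to a field extension k' keeps the global functions equal to the constants and keeps the genus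
dim H^1(X, O_X). The base change is given as any pullback square. -/
theorem result (k : Type u) [Field k] (X : Scheme.{u}) [X.Over (Spec (CommRingCat.of k))]
    [IsProper (X ↘ Spec (CommRingCat.of k))] (hdim : topologicalKrullDim X = 1)
    (h0 : Module.finrank k (Coh.HH X (Coh.structureModule X) 0) = 1)
    (k' : Type u) [Field k'] [Algebra k k'] (X' : Scheme.{u}) [X'.Over (Spec (CommRingCat.of k'))]
    (g : X' ⟶ X)
    (hpb : IsPullback g (X' ↘ Spec (CommRingCat.of k')) (X ↘ Spec (CommRingCat.of k))
      (Spec.map (CommRingCat.ofHom (algebraMap k k')))) :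
    Module.finrank k' (Coh.HH X' (Coh.structureModule X') 0) = 1 ∧
      Module.finrank k' (Coh.HH X' (Coh.structureModule X') 1) =
        Module.finrank k (Coh.HH X (Coh.structureModule X) 1) := by
  have hOc : Coh.IsCoh (Coh.structureModule X) :=
    Groth.Agent.Lib.helper11.AmpleInv.isCoh_structureModule X
  have e := Groth.Agent.Lib.helper11.InvMod.pullbackUnitIso g
  have key : ∀ i, Module.finrank k' (Coh.HH X' (Coh.structureModule X') i) =
      Module.finrank k (Coh.HH X (Coh.structureModule X) i) := by
    intro i
    rw [← finrank_eq_of_iso k' X' e i]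
    exact Groth.Agent.S7673.finrank_bc k X k' X' g hpb (Coh.structureModule X) hOc.1 i
  exact ⟨(key 0).trans h0, key 1⟩

end Groth.Agent.S0223
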