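import Groth.Statements.S0226
import Mathlib


set_option autoImplicit false
universe u
open Curves

namespace Groth.Agent.S0226


open IsLocalRing in
/-- In a Noetherian local ring whose maximal ideal is principal, every ideal is principal. -/
theorem isPrincipal_of_maximalIdeal_eq_span {B : Type*} [CommRing B] [IsLocalRing B]
    [IsNoetherianRing B] (t : B) (ht : maximalIdeal B = Ideal.span {t}) (J : Ideal B) :
    ∃ g, J = Ideal.span {g} := by
  classical
  by_cases hJ : J = ⊥
  · exact ⟨0, by simp [hJ]⟩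
  have hex : ∃ n : ℕ, ¬ J ≤ maximalIdeal B ^ n := by
    by_contra hcon
    push Not at hcon
    apply hJ
    rw [eq_bot_iff, ← Ideal.iInf_pow_eq_bot_of_isLocalRing (maximalIdeal B)
      (Ideal.IsPrime.ne_top inferInstance)]
    exact le_iInf hcon
  have hn := Nat.find_spec hex
  have hmin := fun k (hk : k < Nat.find hex) => not_not.mp (Nat.find_min hex hk)
  set n := Nat.find hex with hndef
  have hn0 : n ≠ 0 := by
    intro h0
    rw [h0, pow_zero, Ideal.one_eq_top] at hn
    exact hn le_top
  obtain ⟨k, hk⟩ := Nat.exists_eq_succ_of_ne_zero hn0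
  have hJk : J ≤ maximalIdeal B ^ k := hmin k (by omega)
  obtain ⟨g, hgJ, hgn⟩ := SetLike.not_le_iff_exists.mp hn
  have hgk := hJk hgJ
  rw [ht, Ideal.span_singleton_pow, Ideal.mem_span_singleton'] at hgk
  obtain ⟨v, hv⟩ := hgk
  have hvu : IsUnit v := by
    by_contra hnu
    have hvm : v ∈ maximalIdeal B := (mem_maximalIdeal v).mpr hnu
    apply hgn
    rw [hk, pow_succ, ← hv, mul_comm v]
    exact Ideal.mul_mem_mul (by rw [ht, Ideal.span_singleton_pow]; exact Ideal.mem_span_singleton_self _) hvm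
  refine ⟨t ^ k, le_antisymm ?_ ?_⟩
  · rw [← Ideal.span_singleton_pow, ← ht]; exact hJk
  · rw [Ideal.span_singleton_le_iff_mem]
    obtain ⟨u, rfl⟩ := hvu
    have : t ^ k = (↑u⁻¹ : B) * g := by rw [← hv, ← mul_assoc, Units.inv_mul, one_mul]
    rw [this]
    exact J.mul_mem_left _ hgJ


/-- In a regular local ring of dimension two, an ideal inside the maximal ideal with reduced quotient is
zero, the maximal ideal, or principal. -/
theorem result (A : Type u) [CommRing A] [IsRegularLocalRing A] (hdim : ringKrullDim A = 2)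
    (I : Ideal A) (hI : I ≤ IsLocalRing.maximalIdeal A) [IsReduced (A ⧸ I)] :
    I = ⊥ ∨ I = IsLocalRing.maximalIdeal A ∨ ∃ f ∈ IsLocalRing.maximalIdeal A, f ≠ 0 ∧ I = Ideal.span {f} := by
  classical
  have hrad : I.IsRadical := (Ideal.isRadical_iff_quotient_reduced I).mpr inferInstance
  by_cases hIm : I = IsLocalRing.maximalIdeal A
  · exact Or.inr (Or.inl hIm)
  suffices key : ∃ f, I = Ideal.span {f} by
    obtain ⟨f, hf⟩ := key
    by_cases hf0 : f = 0
    · left; rw [hf, hf0]; simp
    · right; right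
      exact ⟨f, hI (hf ▸ Ideal.mem_span_singleton_self f), hf0, hf⟩
  set m := IsLocalRing.maximalIdeal A with hm
  -- the minimal primes of I
  have hfin : I.minimalPrimes.Finite := Ideal.finite_minimalPrimes_of_isNoetherianRing A I
  have hPne : ∀ P ∈ I.minimalPrimes, ¬ m ≤ P := by
    intro P hP hmP
    apply hIm
    refine le_antisymm hI ?_
    have hmmin : m ∈ I.minimalPrimes := by
      have : P = m := le_antisymm (IsLocalRing.le_maximalIdeal hP.1.1.ne_top) hmP
      rwa [← this]
    rw [← hrad.radical, ← Ideal.sInf_minimalPrimes]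
    refine le_sInf fun Q hQ => ?_
    exact hmmin.2 hQ.1 (IsLocalRing.le_maximalIdeal hQ.1.1.ne_top)
  -- m ≠ m²
  have hm2 : ¬ m ≤ m ^ 2 := by
    intro hle
    have hbot : m = ⊥ := by
      refine Submodule.eq_bot_of_le_smul_of_le_jacobson_bot m m (IsNoetherian.noetherian m) ?_
        (IsLocalRing.maximalIdeal_le_jacobson ⊥)
      rwa [smul_eq_mul, ← pow_two]
    have hfield : IsField A := IsLocalRing.isField_iff_maximalIdeal_eq.mpr hbot
    rw [ringKrullDim_eq_zero_of_isField hfield] at hdim
    norm_num at hdim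
  -- prime avoidance
  obtain ⟨x, hxm, hxm2, hxP⟩ : ∃ x ∈ m, x ∉ m ^ 2 ∧ ∀ P ∈ I.minimalPrimes, x ∉ P := by
    by_contra hcon
    push Not at hcon
    have hsub : (m : Set A) ⊆ ⋃ J ∈ ((insert (m ^ 2) hfin.toFinset : Finset (Ideal A)) : Set (Ideal A)),
        ((id J : Ideal A) : Set A) := by
      intro z hz
      by_cases hz2 : z ∈ m ^ 2
      · exact Set.mem_biUnion (by simp) hz2
      · obtain ⟨P, hP, hzP⟩ := hcon z hz hz2
        exact Set.mem_biUnion (by simp [hP]) hzP
    rw [Ideal.subset_union_prime (m ^ 2) (m ^ 2)] at hsub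
    · obtain ⟨J, hJ, hmJ⟩ := hsub
      rw [Finset.mem_insert, Set.Finite.mem_toFinset] at hJ
      rcases hJ with rfl | hJ
      · exact hm2 hmJ
      · exact hPne J hJ hmJ
    · intro J hJ hJa _
      rw [Finset.mem_insert, Set.Finite.mem_toFinset] at hJ
      rcases hJ with rfl | hJ
      · exact absurd rfl hJa
      · exact hJ.1.1
  -- generators of m
  have hsf : m.spanFinrank = 2 := by
    have h1 := IsRegularLocalRing.spanFinrank_maximalIdeal (R := A)
    rw [hdim] at h1
    exact_mod_cast h1
  obtain ⟨s, hscard, hsspan⟩ := Submodule.FG.exists_span_finset_card_eq_spanFinrank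
    (IsNoetherian.noetherian m)
  rw [hsf, Finset.card_eq_two] at hscard
  obtain ⟨a, b, -, rfl⟩ := hscard
  have hab : m = Ideal.span {a, b} := by
    rw [← hsspan]; simp [Ideal.span]
  obtain ⟨y, hy⟩ : ∃ y, m = Ideal.span {x, y} := by
    have hx' := hxm
    rw [hab, Ideal.mem_span_pair] at hx'
    obtain ⟨r, t, hrt⟩ := hx'
    have ham : a ∈ m := hab ▸ Ideal.subset_span (by simp)
    have hbm : b ∈ m := hab ▸ Ideal.subset_span (by simp)
    by_cases hr : IsUnit r
    · refine ⟨b, le_antisymm ?_ ?_⟩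
      · rw [hab, Ideal.span_le]
        rintro z (rfl | rfl)
        · obtain ⟨u, rfl⟩ := hr
          have : z = (↑u⁻¹ : A) * (x - t * b) := by
            rw [← hrt, add_sub_cancel_right, Units.inv_mul_cancel_left]
          rw [this]
          exact Ideal.mul_mem_left _ _ (Ideal.sub_mem _ (Ideal.subset_span (by simp))
            (Ideal.mul_mem_left _ _ (Ideal.subset_span (by simp))))
        · exact Ideal.subset_span (by simp)
      · rw [Ideal.span_le]
        rintro z (rfl | rfl)
        · exact hxm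
        · exact hbm
    by_cases ht : IsUnit t
    · refine ⟨a, le_antisymm ?_ ?_⟩
      · rw [hab, Ideal.span_le]
        rintro z (rfl | rfl)
        · exact Ideal.subset_span (by simp)
        · obtain ⟨u, rfl⟩ := ht
          have : z = (↑u⁻¹ : A) * (x - r * a) := by
            rw [← hrt, add_sub_cancel_left, Units.inv_mul_cancel_left]
          rw [this]
          exact Ideal.mul_mem_left _ _ (Ideal.sub_mem _ (Ideal.subset_span (by simp))
            (Ideal.mul_mem_left _ _ (Ideal.subset_span (by simp))))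
      · rw [Ideal.span_le]
        rintro z (rfl | rfl)
        · exact hxm
        · exact ham
    exfalso
    apply hxm2
    rw [← hrt, pow_two]
    exact Ideal.add_mem _ (Ideal.mul_mem_mul ((IsLocalRing.mem_maximalIdeal r).mpr hr) ham)
      (Ideal.mul_mem_mul ((IsLocalRing.mem_maximalIdeal t).mpr ht) hbm)
  -- the quotient ring B = A / x
  have hxtop : Ideal.span {x} ≠ ⊤ := by
    intro h
    rw [Ideal.span_singleton_eq_top] at h
    exact (IsLocalRing.mem_maximalIdeal x).mp hxm h
  have : Nontrivial (A ⧸ Ideal.span {x}) := Ideal.Quotient.nontrivial_iff.mpr hxtop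
  have hloc : IsLocalRing (A ⧸ Ideal.span {x}) :=
    IsLocalRing.of_surjective' (Ideal.Quotient.mk (Ideal.span {x})) Ideal.Quotient.mk_surjective
  have hqx : Ideal.Quotient.mk (Ideal.span {x}) x = 0 :=
    Ideal.Quotient.eq_zero_iff_mem.mpr (Ideal.mem_span_singleton_self x)
  have hmaxB : IsLocalRing.maximalIdeal (A ⧸ Ideal.span {x}) =
      Ideal.span {Ideal.Quotient.mk (Ideal.span {x}) y} := by
    rw [← IsLocalRing.map_maximalIdeal_of_surjective (Ideal.Quotient.mk (Ideal.span {x}))
      Ideal.Quotient.mk_surjective, ← hm, hy, Ideal.map_span, Set.image_pair, hqx]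
    refine le_antisymm ?_ (Ideal.span_mono (by simp))
    rw [Ideal.span_le]
    rintro z (rfl | rfl)
    · exact zero_mem _
    · exact Ideal.mem_span_singleton_self _
  obtain ⟨g, hg⟩ := isPrincipal_of_maximalIdeal_eq_span _ hmaxB
    (I.map (Ideal.Quotient.mk (Ideal.span {x})))
  obtain ⟨f, hfI, hfg⟩ : ∃ f ∈ I, Ideal.Quotient.mk (Ideal.span {x}) f = g := by
    have : g ∈ I.map (Ideal.Quotient.mk (Ideal.span {x})) := hg ▸ Ideal.mem_span_singleton_self g
    exact (Ideal.mem_map_iff_of_surjective _ Ideal.Quotient.mk_surjective).mp this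
  have hle1 : I ≤ Ideal.span {f} ⊔ Ideal.span {x} := by
    intro z hz
    have hqz : Ideal.Quotient.mk (Ideal.span {x}) z ∈ Ideal.span {g} :=
      hg ▸ Ideal.mem_map_of_mem _ hz
    rw [Ideal.mem_span_singleton'] at hqz
    obtain ⟨c, hc⟩ := hqz
    obtain ⟨c', rfl⟩ := Ideal.Quotient.mk_surjective c
    have h2 : z - c' * f ∈ Ideal.span {x} := by
      rw [← Ideal.Quotient.eq_zero_iff_mem, map_sub, map_mul, hfg, hc, sub_self]
    have h3 : z = c' * f + (z - c' * f) := by ring
    rw [h3]
    exact Ideal.add_mem _ (Ideal.mem_sup_left (Ideal.mul_mem_left _ _ (Ideal.mem_span_singleton_self f)))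
      (Ideal.mem_sup_right h2)
  have hle2 : I ≤ Ideal.span {f} ⊔ Ideal.span {x} • I := by
    intro z hz
    obtain ⟨p, hp, w, hw, rfl⟩ := Submodule.mem_sup.mp (hle1 hz)
    obtain ⟨w', rfl⟩ := Ideal.mem_span_singleton'.mp hw
    have hpI : p ∈ I := ((Ideal.span_singleton_le_iff_mem I).mpr hfI) hp
    have hwI : w' * x ∈ I := by
      have := I.sub_mem hz hpI
      simpa using this
    have hw'I : w' ∈ I := by
      rw [← hrad.radical, ← Ideal.sInf_minimalPrimes, Submodule.mem_sInf]
      intro P hP
      exact (hP.1.1.mem_or_mem (hP.1.2 hwI)).resolve_right (hxP P hP)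
    refine Submodule.add_mem_sup hp ?_
    rw [mul_comm, smul_eq_mul]
    exact Ideal.mul_mem_mul (Ideal.mem_span_singleton_self x) hw'I
  refine ⟨f, le_antisymm ?_ ((Ideal.span_singleton_le_iff_mem I).mpr hfI)⟩
  refine Submodule.le_of_le_smul_of_le_jacobson_bot (IsNoetherian.noetherian I) ?_ hle2
  refine le_trans ?_ (IsLocalRing.maximalIdeal_le_jacobson ⊥)
  rw [Ideal.span_singleton_le_iff_mem]
  exact hxm


end Groth.Agent.S0226
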