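import Groth.Statements.S4436
import Groth.Agent.Lib.Helper16.FLF9

set_option autoImplicit false
universe u
open CategoryTheory CategoryTheory.Limits AlgebraicGeometry
open EGA2

namespace Groth.Agent.S4436

/-- Let f : X' ⟶ X be a finite morphism and F' a locally free O_{X'}-module of rank r. Then every point
of X has an open neighbourhood U over whose inverse image F' is free of rank r; this is the content
of the statement that the direct image of F' is a locally free module of rank r over the direct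
image of O_{X'} (the converse implication being immediate). -/
theorem result {X' X : Scheme.{u}} (f : X' ⟶ X) [IsFinite f] (r : ℕ)
    (F : X'.Modules) (hF : FlatMod.IsFinLocFreeOfRank r F) (x : X) :
    ∃ U : X.Opens, x ∈ U ∧ Nonempty (F.restrict (f ⁻¹ᵁ U).ι ≅ FlatMod.freeMod (↑(f ⁻¹ᵁ U)) r) := by
  open Groth.Agent.Lib.helper16.FLF in
  haveI := isQuasicoherent_of_isFinLocFree F (isFinLocFree_of_isFinLocFreeOfRank hF)
  obtain ⟨V, hV, hxV, -⟩ := TopologicalSpace.Opens.isBasis_iff_nbhd.mp X.isBasis_affineOpens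
    (show x ∈ (⊤ : X.Opens) from trivial)
  have hV' : IsAffineOpen (f ⁻¹ᵁ V) := hV.preimage f
  have hZ : (f ⁻¹' {x}).Finite := f.finite_preimage_singleton x
  have hZV : f ⁻¹' {x} ⊆ (f ⁻¹ᵁ V : X'.Opens) := by
    intro y hy
    have : f y = x := hy
    show f y ∈ V
    rw [this]; exact hxV
  obtain ⟨W, hZW, ⟨iso⟩⟩ : ∃ W : X'.Opens, f ⁻¹' {x} ⊆ W ∧
      Nonempty (F.restrict W.ι ≅ FlatMod.freeMod (↑W) r) := by
    by_cases hne : (f ⁻¹' {x}).Nonempty
    · obtain ⟨s, hs, hiso⟩ := exists_basicOpen_free_of_finite F hF hV' _ hZ hZV hne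
      exact ⟨X'.basicOpen s, hs, hiso⟩
    · refine ⟨⊥, fun y hy => (hne ⟨y, hy⟩).elim, ?_⟩
      haveI : Subsingleton Γ(X', ⊥) := inferInstance
      haveI : Subsingleton Γ(F, ⊥) := Module.subsingleton Γ(X', ⊥) _
      haveI : Subsingleton (Fin r → Γ(X', ⊥)) := inferInstance
      exact restrict_iso_freeMod_of_sections F (isAffineOpen_bot X') r
        (LinearEquiv.ofSubsingleton Γ(F, ⊥) (Fin r → Γ(X', ⊥)))
  have hC : IsClosed (f '' (W : Set X')ᶜ) := f.isClosedMap _ W.isOpen.isClosed_compl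
  let U : X.Opens := ⟨(f '' (W : Set X')ᶜ)ᶜ, hC.isOpen_compl⟩
  have hxU : x ∈ U := by
    rintro ⟨y, hy, hyx⟩
    exact hy (hZW hyx)
  have hle : f ⁻¹ᵁ U ≤ W := by
    intro y hy
    by_contra hyW
    exact hy ⟨y, hyW, rfl⟩
  obtain ⟨iso'⟩ := restrict_iso_freeMod_of_le F hle r iso
  exact ⟨U, hxU, ⟨iso'⟩⟩

end Groth.Agent.S4436
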