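import Groth.Statements.S0235
import Groth.Agent.S4436
import Groth.Agent.Lib.Helper16.FLF5

set_option autoImplicit false
universe u
open CategoryTheory CategoryTheory.Limits AlgebraicGeometry
open Curves

namespace Groth.Agent.S0235

/-- For a finite morphism π : X → Y and an invertible module L on X, every point y of Y has an open
neighbourhood V such that L is trivial on the preimage of V. -/
theorem result {X Y : Scheme.{u}} (π : X ⟶ Y) [IsFinite π]
    (L : X.Modules) (hL : PicF.IsInvertible L) (y : Y) :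
    ∃ V : Y.Opens, y ∈ V ∧ Nonempty (L.restrict (π ⁻¹ᵁ V).ι ≅ Coh.structureModule (↑(π ⁻¹ᵁ V))) := by
  obtain ⟨V, hyV, ⟨e⟩⟩ := Groth.Agent.S4436.result π 1 L
    ((Groth.Agent.Lib.helper16.FLF.isInvertible_iff_isFinLocFreeOfRank_one L).mp hL) y
  exact ⟨V, hyV, ⟨e ≪≫ Groth.Agent.Lib.helper16.FLF.freeModOneIso _⟩⟩

end Groth.Agent.S0235
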