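import Groth.Statements.S0238
-- import your own Groth.Agent.* helpers here
import Groth.Agent.Lib.Helper9.ThickLift5
import Groth.Agent.Lib.Helper9.ThickLift6
import Groth.Agent.Lib.Helper9.ThickLift8

set_option autoImplicit false
universe u
open Pi1

namespace Groth.Agent.S0238

open AlgebraicGeometry CategoryTheory CategoryTheory.Limits in
/-- For a thickening, i.e. a closed immersion which is surjective on points, pulling back finite etale
covers is an equivalence of categories. -/
theorem result {X X' : Scheme.{u}} (i : X ⟶ X') [IsClosedImmersion i] [Surjective i] :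
    (FEt.restrict i).IsEquivalence := by
  have hP : (FEt.prop.{u}) ≤ @Etale := inf_le_right
  have h1 : (FEt.restrict i).Faithful :=
    Groth.Agent.Lib.helper9.ThickLift.faithful_pullback FEt.prop.{u} hP i
  have h2 : (FEt.restrict i).Full :=
    Groth.Agent.Lib.helper9.ThickLift.full_pullback FEt.prop.{u} hP i
  have h3 : (FEt.restrict i).EssSurj := by
    constructor
    intro T₀
    have : IsFinite T₀.hom := T₀.prop.1
    have : Etale T₀.hom := T₀.prop.2
    obtain ⟨U', u', hu', e, he⟩ :=
      Groth.Agent.Lib.helper9.ThickLift.exists_etale_lift_of_thickening i T₀.hom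
    have hf : IsFinite (pullback.snd u' i) := by
      rw [← he]
      infer_instance
    have hu'f : IsFinite u' := Groth.Agent.Lib.helper9.ThickLift.isFinite_of_thickening i u'
    exact ⟨MorphismProperty.Over.mk ⊤ u' ⟨hu'f, hu'⟩, ⟨MorphismProperty.Over.isoMk e he⟩⟩
  exact { }

end Groth.Agent.S0238
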