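import Groth.Statements.S0533
import Mathlib
import Groth.Agent.Lib.Helper26.HenselPairIdem

set_option autoImplicit false
universe u
open Hensel

namespace Groth.Agent.S0533

open Groth.Agent.Lib.helper26.HenselPair TensorProduct


/-- If `A` is Henselian at `I`, base change to `A/I` gives a bijection between `A`-algebra maps of two
finite étale `A`-algebras and `A/I`-algebra maps of their reductions. -/
theorem result (A : Type u) [CommRing A] (I : Ideal A) [HenselianRing A I]
    (B₁ B₂ : Type u) [CommRing B₁] [CommRing B₂] [Algebra A B₁] [Algebra A B₂]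
    [Module.Finite A B₁] [Algebra.Etale A B₁] [Module.Finite A B₂] [Algebra.Etale A B₂] :
    Function.Bijective (fun φ : B₁ →ₐ[A] B₂ =>
      Algebra.TensorProduct.map (AlgHom.id (A ⧸ I) (A ⧸ I)) φ) := by
  have hH : HenselianRing A I := inferInstance
  have hint : Algebra.IsIntegral A B₂ := inferInstance
  set K := I.map (algebraMap A B₂) with hK
  have hKjac : K ≤ Ideal.jacobson ⊥ := map_le_jacobson_of_isIntegral hH.jac B₂
  constructor
  · intro φ ψ hφψ
    refine algHom_eq_of_sub_mem K hKjac φ ψ fun b => ?_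
    apply Groth.Agent.Lib.helper26.EtaleLift.mem_map_of_one_tmul_eq_zero I
    have := congrArg (fun g : (A ⧸ I) ⊗[A] B₁ →ₐ[A ⧸ I] (A ⧸ I) ⊗[A] B₂ => g (1 ⊗ₜ b)) hφψ
    simp only [Algebra.TensorProduct.map_tmul, AlgHom.coe_id, id_eq] at this
    rw [TensorProduct.tmul_sub, this, sub_self]
  · intro g
    have hH₂ : HenselianRing B₂ K := henselianRing_map_of_isIntegral hH B₂
    let e : (B₂ ⧸ K) ≃ₐ[A ⧸ I] (A ⧸ I) ⊗[A] B₂ :=
      Algebra.TensorProduct.quotIdealMapEquivQuotTensor B₂ I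
    let g' : B₁ →ₐ[A] B₂ ⧸ K :=
      ((e.symm.toAlgHom.comp g).restrictScalars A).comp Algebra.TensorProduct.includeRight
    let σ : B₂ ⊗[A] B₁ →ₐ[B₂] B₂ ⧸ K :=
      Algebra.TensorProduct.lift (Algebra.ofId B₂ (B₂ ⧸ K)) g' (fun _ _ => Commute.all _ _)
    obtain ⟨τ, hτ⟩ := exists_lift_of_henselianRing hH₂ (B₂ ⊗[A] B₁) σ
    let φ : B₁ →ₐ[A] B₂ := (τ.restrictScalars A).comp Algebra.TensorProduct.includeRight
    refine ⟨φ, ?_⟩
    apply Algebra.TensorProduct.ext
    · ext
    · ext b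
      simp only [AlgHom.coe_comp, AlgHom.coe_restrictScalars', Function.comp_apply,
        Algebra.TensorProduct.includeRight_apply, Algebra.TensorProduct.map_tmul, AlgHom.coe_id,
        id_eq]
      apply e.symm.injective
      have h1 : e.symm (1 ⊗ₜ[A] φ b) = Ideal.Quotient.mk K (φ b) := by
        rw [AlgEquiv.symm_apply_eq]
        rfl
      rw [h1]
      have h2 : Ideal.Quotient.mk K (φ b) = σ (1 ⊗ₜ b) :=
        congrArg (fun f : B₂ ⊗[A] B₁ →ₐ[B₂] B₂ ⧸ K => f (1 ⊗ₜ b)) hτ
      rw [h2]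
      simp [σ, g']


end Groth.Agent.S0533
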