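import Groth.Statements.S0239
-- import your own Groth.Agent.* helpers here
import Groth.Agent.Lib.Helper9.HensFEt1
import Groth.Agent.S0532
import Groth.Agent.S0533

set_option autoImplicit false
universe u
open Pi1

namespace Groth.Agent.S0239

open AlgebraicGeometry CategoryTheory CategoryTheory.Limits in
/-- For a henselian pair (A, I) in Mathlib's sense, restricting finite etale covers from Spec A to the
closed subscheme Spec (A/I) is an equivalence of categories. -/
theorem result (A : Type u) [CommRing A] (I : Ideal A) [HenselianRing A I] :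
    (FEt.restrict (Spec.map (CommRingCat.ofHom (Ideal.Quotient.mk I)))).IsEquivalence := by
  have hr : Spec.map (CommRingCat.ofHom (Ideal.Quotient.mk I)) =
      Spec.map (CommRingCat.ofHom (algebraMap A (A ⧸ I))) := rfl
  have := Groth.Agent.Lib.helper9.HensFEt.faithful_restrict hr
    (fun S₁ S₂ _ _ _ _ _ _ _ _ => (Groth.Agent.S0533.result A I S₂ S₁).1)
  have := Groth.Agent.Lib.helper9.HensFEt.full_restrict hr
    (fun S₁ S₂ _ _ _ _ _ _ _ _ => (Groth.Agent.S0533.result A I S₂ S₁).2)
  have := Groth.Agent.Lib.helper9.HensFEt.essSurj_restrict hr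
    (fun C _ _ _ _ => Groth.Agent.S0532.result A I C)
  exact { }

end Groth.Agent.S0239
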