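import Groth.Statements.S0245
-- import your own Groth.Agent.* helpers here
import Groth.Agent.Lib.Helper9.EtaleNormalSection2
import Groth.Agent.S0244

set_option autoImplicit false
universe u
open Pi1

namespace Groth.Agent.S0245
open Groth.Agent.Lib.helper9 CategoryTheory CategoryTheory.Limits AlgebraicGeometry

/-- Core of fullness for the generic point: a morphism between the generic fibres of two finite
étale covers of a normal integral scheme comes from a morphism of the covers. -/
theorem core_full_generic {X V : Scheme.{u}} [IsIntegral X] (hX : Pi1.IsNormalScheme X)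
    (j : V ⟶ X) [IsPreimmersion j] (hj : Set.range j = {genericPoint X})
    {Yl Zl : Scheme.{u}} (pY : Yl ⟶ X) (pZ : Zl ⟶ X) (hfY : IsFinite pY) (heY : Etale pY)
    (hfZ : IsFinite pZ) (heZ : Etale pZ) (ψl : pullback pY j ⟶ pullback pZ j)
    (hψw : ψl ≫ pullback.snd pZ j = pullback.snd pY j) :
    ∃ φl : Yl ⟶ Zl, φl ≫ pZ = pY ∧ pullback.fst pY j ≫ φl = ψl ≫ pullback.fst pZ j := by
  have hdom : ∀ (T : Scheme.{u}) (f : T ⟶ X) [Etale f] (t : T), IsDomain (T.presheaf.stalk t) :=
    fun T f _ t => (Groth.Agent.Lib.helper13.Normal.isNormalDomain_stalk_of_smooth f t (hX _)).1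
  have hYdom := hdom Yl pY
  have hWdom := hdom (pullback pY pZ) (pullback.fst pY pZ ≫ pY)
  have hcond : pullback.fst pY j ≫ pY = (ψl ≫ pullback.fst pZ j) ≫ pZ := by
    calc pullback.fst pY j ≫ pY = pullback.snd pY j ≫ j := pullback.condition
      _ = (ψl ≫ pullback.snd pZ j) ≫ j := by rw [hψw]
      _ = ψl ≫ pullback.fst pZ j ≫ pZ := by rw [Category.assoc, ← pullback.condition]
      _ = (ψl ≫ pullback.fst pZ j) ≫ pZ := (Category.assoc _ _ _).symm
  obtain ⟨g, hg⟩ : ∃ g : pullback pY j ⟶ pullback pY pZ,
      g = pullback.lift (pullback.fst pY j) (ψl ≫ pullback.fst pZ j) hcond := ⟨_, rfl⟩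
  have hgq : g ≫ pullback.fst pY pZ = pullback.fst pY j := by rw [hg]; exact pullback.lift_fst _ _ _
  have hgs : g ≫ pullback.snd pY pZ = ψl ≫ pullback.fst pZ j := by
    rw [hg]; exact pullback.lift_snd _ _ _
  haveI : LocallyQuasiFinite pY := Groth.Agent.S5067.locallyQuasiFinite_of_unramified pY
  have hrange : ∀ ζ : Yl, pY ζ = genericPoint X →
      ∃ t : ↥(pullback pY j), pullback.fst pY j t = ζ := by
    intro ζ hζ
    have : ζ ∈ Set.range (pullback.fst pY j) := by
      rw [Scheme.Pullback.range_fst, hj]; exact hζ
    exact this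
  choose tζ htζ using hrange
  have hgen : ∀ t : ↥(pullback pY j), pY (pullback.fst pY j t) = genericPoint X := by
    intro t
    have h1 : pY (pullback.fst pY j t) = j (pullback.snd pY j t) := by
      rw [← Scheme.Hom.comp_apply, ← Scheme.Hom.comp_apply, pullback.condition]
    rw [h1]
    have : j (pullback.snd pY j t) ∈ Set.range j := ⟨_, rfl⟩
    rw [hj] at this
    exact this
  have hinj : Function.Injective (pullback.fst pY j) :=
    (pullback.fst pY j).isEmbedding.injective
  obtain ⟨σ, hσq, hσu⟩ := EtaleNormal.exists_section_of_generic' pY (pullback.fst pY pZ)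
    hYdom hWdom (fun ζ hζ => g (tζ ζ hζ))
    (fun ζ hζ => by rw [← Scheme.Hom.comp_apply, hgq]; exact htζ ζ hζ)
    (fun ζ hζ => by
      apply EtaleNormal.bijective_residueFieldMap_of_comp
      exact EtaleNormal.bijective_residueFieldMap_congr hgq.symm _
        (EtaleNormal.bijective_residueFieldMap_of_surjectiveOnStalks _ _))
  have hag : pullback.fst pY j ≫ σ = g := by
    apply hσu _ _ _ hgq
    intro t ζ hζ hspec
    have hζt : ζ = pullback.fst pY j t :=
      EtaleNormal.eq_of_specializes_of_apply_eq_genericPoint pY (hgen t) hspec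
    have : tζ ζ hζ = t := hinj ((htζ ζ hζ).trans hζt)
    rw [this]
  refine ⟨σ ≫ pullback.snd pY pZ, ?_, ?_⟩
  · rw [Category.assoc, ← pullback.condition, ← Category.assoc, hσq, Category.id_comp]
  · rw [← Category.assoc, hag]; exact hgs

open AlgebraicGeometry CategoryTheory CategoryTheory.Limits in
/-- For a normal integral scheme X, restricting finite étale covers of X along the canonical morphism
from the spectrum of the local ring at the generic point (the spectrum of the function field) is a
full and faithful functor. -/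
theorem result {X : Scheme.{u}} [IsIntegral X] (hX : Pi1.IsNormalScheme X) :
    (FEt.restrict (X.fromSpecStalk (genericPoint X))).Full ∧
    (FEt.restrict (X.fromSpecStalk (genericPoint X))).Faithful := by
  have hrange : Set.range (X.fromSpecStalk (genericPoint X)) = {genericPoint X} := by
    rw [Scheme.range_fromSpecStalk]
    ext y
    simp only [Set.mem_setOf_eq, Set.mem_singleton_iff]
    constructor
    · intro h
      exact (h.antisymm ((genericPoint_spec X).specializes (Set.mem_univ y))).eq
    · rintro rfl
      exact specializes_rfl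
  have hdense : Dense (Set.range (X.fromSpecStalk (genericPoint X))) := by
    rw [hrange, dense_iff_closure_eq]
    exact (genericPoint_spec X).def
  refine ⟨⟨fun {Y Z} ψ => ?_⟩, ⟨fun {Y Z} φ ψ h => ?_⟩⟩
  · -- fullness
    obtain ⟨φl, h1, h2⟩ := core_full_generic hX (X.fromSpecStalk (genericPoint X)) hrange
      Y.hom Z.hom Y.prop.1 Y.prop.2 Z.prop.1 Z.prop.2 ψ.left (Over.w ψ.hom)
    refine ⟨MorphismProperty.Over.homMk φl h1 trivial, ?_⟩
    apply MorphismProperty.Over.Hom.ext
    refine pullback.hom_ext (f := Z.hom) (g := X.fromSpecStalk (genericPoint X)) ?_ ?_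
    · exact (pullback.lift_fst _ _ _).trans h2
    · exact (pullback.lift_snd _ _ _).trans (Over.w ψ.hom).symm
  · -- faithfulness
    have e1 : ((FEt.restrict (X.fromSpecStalk (genericPoint X))).map φ).left ≫
        pullback.fst Z.hom (X.fromSpecStalk (genericPoint X)) =
        pullback.fst Y.hom (X.fromSpecStalk (genericPoint X)) ≫ φ.left := pullback.lift_fst _ _ _
    have e2 : ((FEt.restrict (X.fromSpecStalk (genericPoint X))).map ψ).left ≫
        pullback.fst Z.hom (X.fromSpecStalk (genericPoint X)) =
        pullback.fst Y.hom (X.fromSpecStalk (genericPoint X)) ≫ ψ.left := pullback.lift_fst _ _ _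
    have h1 : pullback.fst Y.hom (X.fromSpecStalk (genericPoint X)) ≫ φ.left =
        pullback.fst Y.hom (X.fromSpecStalk (genericPoint X)) ≫ ψ.left :=
      e1.symm.trans ((congrArg (fun m => m.left ≫
        pullback.fst Z.hom (X.fromSpecStalk (genericPoint X))) h).trans e2)
    apply MorphismProperty.Over.Hom.ext
    exact Groth.Agent.S0244.core_faithful hX (X.fromSpecStalk (genericPoint X)) hdense
      Y.hom Z.hom Y.prop.2 Z.prop.1 φ.left ψ.left
      ((Over.w φ.hom).trans (Over.w ψ.hom).symm) h1

end Groth.Agent.S0245
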