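import Groth.Statements.S0246
import Mathlib
import Groth.Agent.Lib.Helper13.Normal3
-- import your own Groth.Agent.* helpers here

set_option autoImplicit false
universe u
open Pi1

namespace Groth.Agent.S0246

open AlgebraicGeometry CategoryTheory CategoryTheory.Limits in
/-- If Y is finite etale over a normal integral scheme X and Y is connected, then Y is an integral
scheme all of whose local rings are integrally closed domains. -/
theorem result {X : Scheme.{u}} [IsIntegral X] (hX : Pi1.IsNormalScheme X) (Y : FEt.Cat X)
    [ConnectedSpace Y.left] : IsIntegral Y.left ∧ Pi1.IsNormalScheme Y.left := by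
  obtain ⟨f, hf⟩ : ∃ f : Y.left ⟶ X, f = Y.hom := ⟨Y.hom, rfl⟩
  obtain ⟨hfin, het⟩ : IsFinite f ∧ Etale f := hf ▸ Y.prop
  haveI : IsFinite f := hfin
  haveI : Etale f := het
  have hnorm : Pi1.IsNormalScheme Y.left := Groth.Agent.Lib.helper13.Normal.of_etale f hX
  refine ⟨?_, hnorm⟩
  refine Groth.Agent.Lib.helper13.Normal.isIntegral_of_connected hnorm fun U _ => ?_
  exact Groth.Agent.Lib.helper13.Normal.finite_irreducibleComponents_of_finite_generic_fibre f
    (Flat.generalizingMap f) (Scheme.Hom.finite_preimage_singleton f _) U

end Groth.Agent.S0246
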