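import Groth.Statements.S0252
import Groth.Agent.Lib.Helper14.Pi0Spectral

set_option autoImplicit false
universe u
open Pi1

namespace Groth.Agent.S0252

open AlgebraicGeometry CategoryTheory CategoryTheory.Limits in
/-- Let f be a morphism between quasi-compact quasi-separated schemes such that base change of finite
etale covers along f is an equivalence. Then the induced map on connected components is a
homeomorphism. -/
theorem result {X Y : Scheme.{u}} [CompactSpace X] [QuasiSeparatedSpace X] [CompactSpace Y] [QuasiSeparatedSpace Y]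
    (f : X ⟶ Y) (h : (FEt.restrict f).IsEquivalence) :
    IsHomeomorph f.continuous.connectedComponentsMap := by
  haveI := h
  -- the finite étale cover attached to a clopen subset
  have hobj : ∀ {T : Scheme.{u}} (W : T.Opens), IsClosed (W : Set T) → FEt.prop W.ι := by
    intro T W hW
    haveI : IsClosedImmersion W.ι :=
      IsClosedImmersion.of_isPreimmersion _ (by rw [Scheme.Opens.range_ι]; exact hW)
    exact ⟨inferInstance, inferInstance⟩
  refine Groth.Agent.Lib.Helper14.Pi0Spectral.isHomeomorph_connectedComponentsMap f.continuous ?_ ?_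
  · -- a clopen with empty preimage is empty
    intro W hW hpre
    let Wo : Y.Opens := ⟨W, hW.isOpen⟩
    let A : FEt.Cat Y := MorphismProperty.Over.mk ⊤ Wo.ι (hobj Wo hW.isClosed)
    let B : FEt.Cat Y := MorphismProperty.Over.mk ⊤ (⊥ : Y.Opens).ι (hobj ⊥ (by simp))
    haveI hempty : IsEmpty ↥((FEt.restrict f).obj A).left := by
      refine ⟨fun z => ?_⟩
      have hz : (pullback.snd A.hom f).base z ∈ f.base ⁻¹' W := by
        show f.base ((pullback.snd A.hom f).base z) ∈ W
        have h1 : f.base ((pullback.snd A.hom f).base z) =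
            Wo.ι.base ((pullback.fst A.hom f).base z) := by
          have := congrArg (fun ψ : pullback A.hom f ⟶ Y => ψ.base z)
            (pullback.condition (f := A.hom) (g := f))
          exact this.symm
        rw [h1]
        exact ((pullback.fst A.hom f).base z).2
      rw [hpre] at hz
      exact hz
    let φ₀ : ((FEt.restrict f).obj A).left ⟶ ((FEt.restrict f).obj B).left :=
      (isInitialOfIsEmpty (X := ((FEt.restrict f).obj A).left)).to _
    have hφ₀ : φ₀ ≫ ((FEt.restrict f).obj B).hom = ((FEt.restrict f).obj A).hom :=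
      (isInitialOfIsEmpty (X := ((FEt.restrict f).obj A).left)).hom_ext _ _
    let φ : (FEt.restrict f).obj A ⟶ (FEt.restrict f).obj B :=
      MorphismProperty.Over.homMk φ₀ hφ₀ trivial
    obtain ⟨ψ, -⟩ := (FEt.restrict f).map_surjective φ
    rw [Set.eq_empty_iff_forall_notMem]
    intro y hy
    let b : ↥(⊥ : Y.Opens) := ψ.left.base ⟨y, hy⟩
    exact b.2
  · -- every clopen of `X` is a preimage
    intro Z hZ
    let Zo : X.Opens := ⟨Z, hZ.isOpen⟩
    let A : FEt.Cat X := MorphismProperty.Over.mk ⊤ Zo.ι (hobj Zo hZ.isClosed)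
    let V : FEt.Cat Y := (FEt.restrict f).objPreimage A
    let e : (FEt.restrict f).obj V ≅ A := (FEt.restrict f).objObjPreimageIso A
    haveI : IsFinite V.hom := V.prop.1
    haveI : Etale V.hom := V.prop.2
    refine ⟨Set.range V.hom.base, ⟨V.hom.isClosedMap.isClosed_range, V.hom.isOpenMap.isOpen_range⟩, ?_⟩
    have h1 : Set.range (pullback.snd V.hom f).base = f.base ⁻¹' Set.range V.hom.base :=
      Scheme.Pullback.range_snd V.hom f
    rw [← h1]
    have h2 : ((FEt.restrict f).obj V).hom = pullback.snd V.hom f := rfl
    have h3 : e.hom.left ≫ A.hom = ((FEt.restrict f).obj V).hom := MorphismProperty.Over.w e.hom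
    have h4 : e.inv.left ≫ ((FEt.restrict f).obj V).hom = A.hom := MorphismProperty.Over.w e.inv
    rw [← h2]
    apply Set.Subset.antisymm
    · rintro _ ⟨z, rfl⟩
      rw [← h3]
      show Zo.ι.base (e.hom.left.base z) ∈ Z
      exact (e.hom.left.base z).2
    · intro z hz
      refine ⟨e.inv.left.base ⟨z, hz⟩, ?_⟩
      have := congrArg (fun ψ : A.left ⟶ X => ψ.base ⟨z, hz⟩) h4
      exact this

end Groth.Agent.S0252
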