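import Groth.Statements.S0253
import Mathlib

set_option autoImplicit false
universe u
open Pi1

namespace Groth.Agent.S0253

open Polynomial in
/-- Over a separably closed field a polynomial with nonzero derivative has a root. -/
theorem exists_root_of_derivative_ne_zero {K : Type u} [Field K] [IsSepClosed K] :
    ∀ (n : ℕ) (f : K[X]), f.natDegree = n → derivative f ≠ 0 → ∃ x : K, f.eval x = 0 := by
  intro n
  induction n using Nat.strong_induction_on with
  | _ n ih =>
    intro f hn hf'
    have hf0 : f ≠ 0 := by
      rintro rfl
      exact hf' derivative_zero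
    have hnu : ¬ IsUnit f := by
      intro hu
      obtain ⟨c, -, rfl⟩ := Polynomial.isUnit_iff.1 hu
      exact hf' derivative_C
    obtain ⟨m, hm, h, rfl⟩ := WfDvdMonoid.exists_irreducible_factor hnu hf0
    have hh0 : h ≠ 0 := right_ne_zero_of_mul hf0
    by_cases hm' : derivative m = 0
    · -- then `h' ≠ 0`
      have hh' : derivative h ≠ 0 := by
        intro hh'
        apply hf'
        rw [derivative_mul, hm', hh', zero_mul, mul_zero, add_zero]
      have hdeg : h.natDegree < n := by
        rw [← hn, natDegree_mul hm.ne_zero hh0]
        have := hm.natDegree_pos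
        omega
      obtain ⟨x, hx⟩ := ih _ hdeg h rfl hh'
      exact ⟨x, by rw [eval_mul, hx, mul_zero]⟩
    · have hsep : m.Separable := (separable_iff_derivative_ne_zero hm).2 hm'
      have hd := IsSepClosed.degree_eq_one_of_irreducible K hm hsep
      obtain ⟨x, hx⟩ := Polynomial.exists_root_of_degree_eq_one hd
      exact ⟨x, by rw [eval_mul, hx.eq_zero, zero_mul]⟩

open AlgebraicGeometry CategoryTheory CategoryTheory.Limits in
/-- Let A be an integrally closed domain whose fraction field is separably closed. Then the residue
field at any nonzero prime ideal of A is algebraically closed. -/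
theorem result (A : Type u) [CommRing A] [IsDomain A] [IsIntegrallyClosed A] [IsSepClosed (FractionRing A)]
    (p : Ideal A) [p.IsPrime] (hp : p ≠ ⊥) : IsAlgClosed p.ResidueField := by
  have hIC : IsIntegrallyClosed (Localization.AtPrime p) :=
    isIntegrallyClosed_of_isLocalization (Localization.AtPrime p) p.primeCompl
      p.primeCompl_le_nonZeroDivisors
  apply IsAlgClosed.of_exists_root
  intro fbar hmon hirr
  have hsurj : Function.Surjective (algebraMap (Localization.AtPrime p) p.ResidueField) :=
    IsLocalRing.residue_surjective
  have hlift : fbar ∈ Polynomial.lifts (algebraMap (Localization.AtPrime p) p.ResidueField) := by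
    rw [Polynomial.mem_lifts]
    exact Polynomial.map_surjective _ hsurj fbar
  obtain ⟨f, hf, hfdeg, hfmon⟩ := Polynomial.lifts_and_natDegree_eq_and_monic hlift hmon
  obtain ⟨π, hπp, hπ0⟩ : ∃ π ∈ p, π ≠ 0 := Submodule.exists_mem_ne_zero_of_ne_bot hp
  have hinjA : Function.Injective (algebraMap A (Localization.AtPrime p)) :=
    IsLocalization.injective _ p.primeCompl_le_nonZeroDivisors
  have hπ0' : algebraMap A (Localization.AtPrime p) π ≠ 0 := fun h =>
    hπ0 (hinjA (h.trans (map_zero _).symm))
  have hπres : algebraMap (Localization.AtPrime p) p.ResidueField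
      (algebraMap A (Localization.AtPrime p) π) = 0 := by
    rw [← IsScalarTower.algebraMap_apply, Ideal.algebraMap_residueField_eq_zero]
    exact hπp
  obtain ⟨g, hgmap, hgmon, hg'⟩ : ∃ g : Polynomial (Localization.AtPrime p),
      g.map (algebraMap (Localization.AtPrime p) p.ResidueField) = fbar ∧ g.Monic ∧
      Polynomial.derivative g ≠ 0 := by
    by_cases hf' : Polynomial.derivative f = 0
    · have hdeg2 : 2 ≤ f.natDegree := by
        by_contra hlt
        push Not at hlt
        interval_cases hn : f.natDegree
        · have : f = 1 := hfmon.natDegree_eq_zero.1 hn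
          rw [this, Polynomial.map_one] at hf
          exact hirr.not_isUnit (hf ▸ isUnit_one)
        · have h1 := congrArg (fun q => Polynomial.coeff q 0) hf'
          simp only [Polynomial.coeff_derivative, Polynomial.coeff_zero] at h1
          have h2 : f.coeff 1 = 1 := by
            have := hfmon.coeff_natDegree
            rwa [hn] at this
          rw [zero_add, h2] at h1
          simp at h1
      refine ⟨f + Polynomial.C (algebraMap A (Localization.AtPrime p) π) * Polynomial.X, ?_, ?_, ?_⟩
      · rw [Polynomial.map_add, Polynomial.map_mul, Polynomial.map_C, hπres, Polynomial.C_0,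
          zero_mul, add_zero, hf]
      · apply hfmon.add_of_left
        rw [Polynomial.degree_eq_natDegree hfmon.ne_zero]
        refine lt_of_le_of_lt (Polynomial.degree_C_mul_X_le _) ?_
        exact_mod_cast hdeg2
      · rw [Polynomial.derivative_add, hf', zero_add, Polynomial.derivative_C_mul,
          Polynomial.derivative_X, mul_one]
        intro h
        exact hπ0' (Polynomial.C_eq_zero.1 h)
    · exact ⟨f, hf, hfmon, hf'⟩
  have hinjK : Function.Injective (algebraMap (Localization.AtPrime p) (FractionRing A)) :=
    IsFractionRing.injective _ _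
  have hgK' : Polynomial.derivative (g.map (algebraMap (Localization.AtPrime p) (FractionRing A))) ≠ 0 := by
    rw [Polynomial.derivative_map]
    intro h
    apply hg'
    apply Polynomial.map_injective _ hinjK
    rw [h, Polynomial.map_zero]
  obtain ⟨x, hx⟩ := exists_root_of_derivative_ne_zero _ _ rfl hgK'
  have hxint : IsIntegral (Localization.AtPrime p) x := by
    refine ⟨g, hgmon, ?_⟩
    rw [← Polynomial.eval_map]
    exact hx
  obtain ⟨y, rfl⟩ := (isIntegrallyClosed_iff (FractionRing A)).1 hIC hxint
  have hy : g.eval y = 0 := by
    apply hinjK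
    rw [map_zero, ← hx, Polynomial.eval_map, Polynomial.eval₂_at_apply]
  refine ⟨algebraMap (Localization.AtPrime p) p.ResidueField y, ?_⟩
  rw [← hgmap, Polynomial.eval_map, Polynomial.eval₂_at_apply, hy, map_zero]

end Groth.Agent.S0253
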