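import Groth.Statements.S0255
import Mathlib
import Groth.Agent.Lib.Helper17.QFEt3
import Groth.Agent.Lib.Helper18.StalkEtale2

set_option autoImplicit false
universe u
open Pi1

namespace Groth.Agent.S0255

open AlgebraicGeometry CategoryTheory CategoryTheory.Limits in
/-- Let f be a morphism locally of finite type between locally Noetherian schemes and x a point with
image y, such that the local ring at x is a normal domain, the local ring at y is regular of the
same dimension, this dimension is at least 1, f is quasi-finite at x, and f is unramified at every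
point of dimension one specializing to x. Then f is etale on an open neighbourhood of x. -/
theorem result {X Y : Scheme.{u}} (f : X ⟶ Y) [LocallyOfFiniteType f] [IsLocallyNoetherian X]
    [IsLocallyNoetherian Y] (x : X)
    (hx : IsDomain (X.presheaf.stalk x) ∧ IsIntegrallyClosed (X.presheaf.stalk x))
    (hy : IsRegularLocalRing (Y.presheaf.stalk (f.base x)))
    (hq : f.QuasiFiniteAt x)
    (hdim : ringKrullDim (X.presheaf.stalk x) = ringKrullDim (Y.presheaf.stalk (f.base x)))
    (hdim1 : (1 : WithBot ℕ∞) ≤ ringKrullDim (X.presheaf.stalk x))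
    (hunr : ∀ x' : X, x' ⤳ x → ringKrullDim (X.presheaf.stalk x') = 1 →
      (f.stalkMap x').hom.FormallyUnramified) :
    ∃ U : X.Opens, x ∈ U ∧ Etale (U.ι ≫ f) := by
  rw [H18Stalk.exists_etale_nhd_iff]
  obtain ⟨_, ⟨U, hU, rfl⟩, hxU, -⟩ :=
    Y.isBasis_affineOpens.exists_subset_of_mem_open (Set.mem_univ (f x)) isOpen_univ
  obtain ⟨_, ⟨V, hV, rfl⟩, hxV, hVU⟩ :=
    X.isBasis_affineOpens.exists_subset_of_mem_open hxU (U.2.preimage f.continuous)
  have hft := f.finiteType_appLE hU hV hVU
  have : IsNoetherianRing Γ(Y, U) := IsLocallyNoetherian.component_noetherian ⟨U, hU⟩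
  have hqf := hq.quasiFiniteAt hV hU hVU hxV
  algebraize [(f.appLE U V hVU).hom]
  rw [H18Stalk.formallyUnramified_stalkMap_iff U hU V hV hVU hxV,
    H18Stalk.flat_stalkMap_iff U hU V hV hVU hxV]
  set p := (hU.primeIdealOf ⟨f x, hVU hxV⟩).asIdeal with hp
  set q := (hV.primeIdealOf ⟨x, hxV⟩).asIdeal with hq'
  haveI : q.LiesOver p :=
    ⟨congr($(IsAffineOpen.comap_primeIdealOf_appLE U hU V hV hVU hxV).1).symm⟩
  haveI : Algebra.QuasiFiniteAt Γ(Y, U) q := hqf
  letI := TopCat.Presheaf.algebra_section_stalk X.presheaf (⟨x, hxV⟩ : V)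
  letI := TopCat.Presheaf.algebra_section_stalk Y.presheaf (⟨f x, hVU hxV⟩ : U)
  haveI hlocq : IsLocalization.AtPrime (X.presheaf.stalk x) q := hV.isLocalization_stalk ⟨x, hxV⟩
  haveI hlocp : IsLocalization.AtPrime (Y.presheaf.stalk (f x)) p :=
    hU.isLocalization_stalk ⟨f x, hVU hxV⟩
  let eq : X.presheaf.stalk x ≃ₐ[Γ(X, V)] Localization.AtPrime q :=
    IsLocalization.algEquiv q.primeCompl _ _
  let ep : Y.presheaf.stalk (f x) ≃ₐ[Γ(Y, U)] Localization.AtPrime p :=
    IsLocalization.algEquiv p.primeCompl _ _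
  haveI := hx.1
  haveI := hx.2
  have hdom : IsDomain (Localization.AtPrime q) := eq.symm.toRingEquiv.toMulEquiv.isDomain
  have hic : IsIntegrallyClosed (Localization.AtPrime q) :=
    IsIntegrallyClosed.of_equiv eq.toRingEquiv
  have hreg : IsRegularLocalRing (Localization.AtPrime p) :=
    IsRegularLocalRing.of_ringEquiv ep.toRingEquiv
  have hqht : ringKrullDim (X.presheaf.stalk x) = q.height :=
    IsLocalization.AtPrime.ringKrullDim_eq_height q (X.presheaf.stalk x)
  have hpht : ringKrullDim (Y.presheaf.stalk (f x)) = p.height :=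
    IsLocalization.AtPrime.ringKrullDim_eq_height p (Y.presheaf.stalk (f x))
  have hht : q.height = p.height := by
    have : ((q.height : ℕ∞) : WithBot ℕ∞) = p.height := by rw [← hqht, ← hpht]; exact hdim
    exact_mod_cast this
  have hdimq : 1 ≤ q.height := by
    rw [hqht] at hdim1
    exact_mod_cast hdim1
  have hh : ∀ (q' : Ideal Γ(X, V)) [q'.IsPrime], q' ≤ q → q'.height = 1 →
      Algebra.IsUnramifiedAt Γ(Y, U) q' := by
    intro q' hq' hle hht
    set y : PrimeSpectrum Γ(X, V) := ⟨q', hq'⟩ with hy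
    have hmem : hV.fromSpec y ∈ V := by
      have : hV.fromSpec y ∈ Set.range hV.fromSpec := ⟨y, rfl⟩
      rwa [hV.range_fromSpec] at this
    have hprime : hV.primeIdealOf ⟨hV.fromSpec y, hmem⟩ = y := by
      haveI := hV.isOpenImmersion_fromSpec
      apply hV.fromSpec.isOpenEmbedding.injective
      exact hV.fromSpec_primeIdealOf ⟨hV.fromSpec y, hmem⟩
    have hspec : hV.fromSpec y ⤳ x := by
      have h1 : y ⤳ hV.primeIdealOf ⟨x, hxV⟩ := by
        rw [← PrimeSpectrum.le_iff_specializes]
        exact hle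
      have h2 := h1.map hV.fromSpec.continuous
      rwa [hV.fromSpec_primeIdealOf ⟨x, hxV⟩] at h2
    have hdim : ringKrullDim (X.presheaf.stalk (hV.fromSpec y)) = 1 := by
      have hloc := hV.isLocalization_stalk' y hmem
      rw [@IsLocalization.AtPrime.ringKrullDim_eq_height _ _ y.asIdeal _
        (X.presheaf.stalk (hV.fromSpec y)) _
        (TopCat.Presheaf.algebra_section_stalk X.presheaf (⟨hV.fromSpec y, hmem⟩ : V)) hloc]
      show ((q'.height : ℕ∞) : WithBot ℕ∞) = 1
      rw [hht]; rfl
    have h3 := hunr _ hspec hdim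
    rw [H18Stalk.formallyUnramified_stalkMap_iff U hU V hV hVU hmem, hprime] at h3
    exact h3
  obtain ⟨h1, h2⟩ := Groth.Agent.Lib.helper17.QFEt.isUnramifiedAt_and_flat_of_normal_of_regular
    p q hdom hic hreg hht hdimq hh
  refine ⟨?_, h1⟩
  letI := Localization.AtPrime.algebraOfLiesOver p q
  rw [Module.flat_iff_of_isLocalization (Localization.AtPrime p) p.primeCompl]
  exact h2

end Groth.Agent.S0255
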