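import Groth.Statements.S0257
import Mathlib
import Groth.Agent.Lib.Helper17.QFEt2
import Groth.Agent.Lib.Helper18.StalkEtale2

set_option autoImplicit false
universe u
open Pi1

namespace Groth.Agent.S0257

open AlgebraicGeometry CategoryTheory CategoryTheory.Limits in
/-- Let f be flat and locally of finite type between locally Noetherian schemes, x a point of X which is
not a generic point of an irreducible component (its local ring has dimension at least 1), with f
quasi-finite at x and unramified at all points of dimension one specializing to x. Then f is etale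
on an open neighbourhood of x. -/
theorem result {X Y : Scheme.{u}} (f : X ⟶ Y) [LocallyOfFiniteType f] [Flat f] [IsLocallyNoetherian X]
    [IsLocallyNoetherian Y] (x : X) (hq : f.QuasiFiniteAt x)
    (hdim1 : (1 : WithBot ℕ∞) ≤ ringKrullDim (X.presheaf.stalk x))
    (hunr : ∀ x' : X, x' ⤳ x → ringKrullDim (X.presheaf.stalk x') = 1 →
      (f.stalkMap x').hom.FormallyUnramified) :
    ∃ U : X.Opens, x ∈ U ∧ Etale (U.ι ≫ f) := by
  rw [H18Stalk.exists_etale_nhd_iff]
  refine ⟨Flat.stalkMap f x, ?_⟩
  obtain ⟨_, ⟨U, hU, rfl⟩, hxU, -⟩ :=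
    Y.isBasis_affineOpens.exists_subset_of_mem_open (Set.mem_univ (f x)) isOpen_univ
  obtain ⟨_, ⟨V, hV, rfl⟩, hxV, hVU⟩ :=
    X.isBasis_affineOpens.exists_subset_of_mem_open hxU (U.2.preimage f.continuous)
  have hft := f.finiteType_appLE hU hV hVU
  have hfl := f.flat_appLE hU hV hVU
  have : IsNoetherianRing Γ(Y, U) := IsLocallyNoetherian.component_noetherian ⟨U, hU⟩
  have hqf := hq.quasiFiniteAt hV hU hVU hxV
  algebraize [(f.appLE U V hVU).hom]
  rw [H18Stalk.formallyUnramified_stalkMap_iff U hU V hV hVU hxV]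
  haveI : Algebra.QuasiFiniteAt Γ(Y, U) (hV.primeIdealOf ⟨x, hxV⟩).asIdeal := hqf
  refine Groth.Agent.Lib.helper17.QFEt.isUnramifiedAt_of_flat_of_quasiFiniteAt _ ?_ ?_
  · letI := TopCat.Presheaf.algebra_section_stalk X.presheaf (⟨x, hxV⟩ : V)
    have := hV.isLocalization_stalk ⟨x, hxV⟩
    rw [IsLocalization.AtPrime.ringKrullDim_eq_height (hV.primeIdealOf ⟨x, hxV⟩).asIdeal
      (X.presheaf.stalk x)] at hdim1
    exact_mod_cast hdim1
  · intro q' hq' hle hht
    set y : PrimeSpectrum Γ(X, V) := ⟨q', hq'⟩ with hy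
    have hmem : hV.fromSpec y ∈ V := by
      have : hV.fromSpec y ∈ Set.range hV.fromSpec := ⟨y, rfl⟩
      rwa [hV.range_fromSpec] at this
    have hprime : hV.primeIdealOf ⟨hV.fromSpec y, hmem⟩ = y := by
      haveI := hV.isOpenImmersion_fromSpec
      apply hV.fromSpec.isOpenEmbedding.injective
      exact hV.fromSpec_primeIdealOf ⟨hV.fromSpec y, hmem⟩
    have hspec : hV.fromSpec y ⤳ x := by
      have h1 : y ⤳ hV.primeIdealOf ⟨x, hxV⟩ := by
        rw [← PrimeSpectrum.le_iff_specializes]
        exact hle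
      have h2 := h1.map hV.fromSpec.continuous
      rwa [hV.fromSpec_primeIdealOf ⟨x, hxV⟩] at h2
    have hdim : ringKrullDim (X.presheaf.stalk (hV.fromSpec y)) = 1 := by
      letI := TopCat.Presheaf.algebra_section_stalk X.presheaf (⟨hV.fromSpec y, hmem⟩ : V)
      have hloc := hV.isLocalization_stalk' y hmem
      rw [@IsLocalization.AtPrime.ringKrullDim_eq_height _ _ y.asIdeal _
        (X.presheaf.stalk (hV.fromSpec y)) _
        (TopCat.Presheaf.algebra_section_stalk X.presheaf (⟨hV.fromSpec y, hmem⟩ : V)) hloc]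
      show ((q'.height : ℕ∞) : WithBot ℕ∞) = 1
      rw [hht]; rfl
    have h3 := hunr _ hspec hdim
    rw [H18Stalk.formallyUnramified_stalkMap_iff U hU V hV hVU hmem, hprime] at h3
    exact h3

end Groth.Agent.S0257
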