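import Groth.Statements.S0258
import Groth.Agent.S0259
import Groth.Agent.Lib.Helper2.Hartogs5

set_option autoImplicit false
universe u
open Pi1

namespace Groth.Agent.S0258

open CategoryTheory CategoryTheory.Limits AlgebraicGeometry
open Groth.Agent.Lib.helper2.Hartogs Groth.Agent.Lib.helper26.Depth

theorem depth_localization_self (A : Type u) [CommRing A] [IsNoetherianRing A] [IsLocalRing A] :
    LocCoh.depth (Localization.AtPrime (IsLocalRing.maximalIdeal A))
        (Localization.AtPrime (IsLocalRing.maximalIdeal A)) = LocCoh.depth A A := by
  have h0 : IsLocalization.AtPrime A (IsLocalRing.maximalIdeal A) := by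
    refine IsLocalization.of_le_isUnit ?_
    intro x hx
    have : x ∉ IsLocalRing.maximalIdeal A := hx
    rw [IsLocalRing.mem_maximalIdeal, mem_nonunits_iff, not_not] at this
    exact this
  have h1 : IsLocalizedModule (IsLocalRing.maximalIdeal A).primeCompl
      (Algebra.linearMap A A) := (isLocalizedModule_iff_isLocalization' _ _).mpr h0
  have h2 : IsLocalizedModule (IsLocalRing.maximalIdeal A).primeCompl
      (Algebra.linearMap A (Localization.AtPrime (IsLocalRing.maximalIdeal A))) :=
    (isLocalizedModule_iff_isLocalization' _ _).mpr inferInstance
  rw [depth_eq_of_isLocalizedModule (IsLocalRing.maximalIdeal A) A A A (Algebra.linearMap A A),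
    depth_eq_of_isLocalizedModule (IsLocalRing.maximalIdeal A) A
      (Localization.AtPrime (IsLocalRing.maximalIdeal A))
      (Localization.AtPrime (IsLocalRing.maximalIdeal A))
      (Algebra.linearMap A (Localization.AtPrime (IsLocalRing.maximalIdeal A)))]

theorem main (A : Type u) [CommRing A] [IsNoetherianRing A] [IsLocalRing A]
    (hA : (2 : ℕ∞) ≤ LocCoh.depth A A) :
    (FEt.restrict (FEt.puncturedSpec A).ι).Full ∧ (FEt.restrict (FEt.puncturedSpec A).ι).Faithful := by
  apply Groth.Agent.S0259.main
  intro x hx
  have hx1 : x = IsLocalRing.closedPoint A := by
    by_contra hne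
    exact hx hne
  subst hx1
  rw [depth_stalk_Spec A (IsLocalRing.closedPoint A)]
  change (2 : ℕ∞) ≤ LocCoh.depth (Localization.AtPrime (IsLocalRing.maximalIdeal A))
        (Localization.AtPrime (IsLocalRing.maximalIdeal A))
  rw [depth_localization_self]
  exact hA

open AlgebraicGeometry CategoryTheory CategoryTheory.Limits in
/-- For a Noetherian local ring A of depth at least 2, the functor restricting finite étale covers of
Spec A to the punctured spectrum is fully faithful (full and faithful). The published statement
assumes instead that the punctured spectrum of the strict henselization of A is connected; depth at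
least 2 is a sufficient condition for this, and the result is stated here under that hypothesis. -/
theorem result (A : Type u) [CommRing A] [IsNoetherianRing A] [IsLocalRing A] (hA : (2 : ℕ∞) ≤ LocCoh.depth A A) :
    (FEt.restrict (FEt.puncturedSpec A).ι).Full ∧ (FEt.restrict (FEt.puncturedSpec A).ι).Faithful := by
  exact main A hA

end Groth.Agent.S0258
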