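import Groth.Statements.S0263
import Groth.Agent.S0258

set_option autoImplicit false
universe u
open Pi1

namespace Groth.Agent.S0263

open CategoryTheory CategoryTheory.Limits AlgebraicGeometry
open Groth.Agent.H1

theorem closedPoint_depth (A : Type u) [CommRing A] [IsNoetherianRing A] [IsLocalRing A]
    (hA : (2 : ℕ∞) ≤ LocCoh.depth A A) (x : Spec (CommRingCat.of A))
    (hx : x ∉ FEt.puncturedSpec A) :
    (2 : ℕ∞) ≤ LocCoh.depth ((Spec (CommRingCat.of A)).presheaf.stalk x)
      ((Spec (CommRingCat.of A)).presheaf.stalk x) := by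
  have hx1 : x = IsLocalRing.closedPoint A := by
    by_contra hne
    exact hx hne
  subst hx1
  rw [Groth.Agent.Lib.helper2.Hartogs.depth_stalk_Spec A (IsLocalRing.closedPoint A)]
  change (2 : ℕ∞) ≤ LocCoh.depth (Localization.AtPrime (IsLocalRing.maximalIdeal A))
        (Localization.AtPrime (IsLocalRing.maximalIdeal A))
  rw [Groth.Agent.S0258.depth_localization_self]
  exact hA

theorem main (A : Type u) [CommRing A] [IsNoetherianRing A] [IsLocalRing A]
    (hA : (2 : ℕ∞) ≤ LocCoh.depth A A)
    (V : FEt.Cat (FEt.puncturedSpec A : Scheme.{u}))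
    (hV : ∃ Y : FEt.Cat (Spec (CommRingCat.of A)),
      Nonempty ((FEt.restrict (FEt.puncturedSpec A).ι).obj Y ≅ V)) :
    ((Scheme.ΓSpecIso (CommRingCat.of A)).inv ≫ (V.hom ≫ (FEt.puncturedSpec A).ι).appTop).hom.Finite ∧
    ((Scheme.ΓSpecIso (CommRingCat.of A)).inv ≫ (V.hom ≫ (FEt.puncturedSpec A).ι).appTop).hom.Etale := by
  obtain ⟨Y, ⟨e⟩⟩ := hV
  have hY : FEt.prop Y.hom := Y.prop
  let q : Y.left ⟶ Spec (CommRingCat.of A) := Y.hom
  have : IsFinite q := hY.1
  have : Etale q := hY.2
  have : IsAffine Y.left := isAffine_of_isAffineHom q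
  set j := (FEt.puncturedSpec A).ι with hj
  -- the comparison map on global sections is bijective
  have hbij : Function.Bijective (pullback.fst q j).appTop := by
    have h1 := FinProjSec.app_bijective (IsPullback.of_hasPullback q j).flip ⊤
      (isAffineOpen_top _) (Groth.Agent.S0259.bijective_res_structure' (FEt.puncturedSpec A)
        (closedPoint_depth A hA) ⊤)
    exact h1
  have : IsIso (pullback.fst q j).appTop := (ConcreteCategory.isIso_iff_bijective _).mpr hbij
  -- the isomorphism `W ≅ V`
  let ε : pullback q j ⟶ V.left := e.hom.left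
  let ε' : V.left ⟶ pullback q j := e.inv.left
  have hεε' : ε ≫ ε' = 𝟙 _ := by
    have := congrArg (fun t => t.left) e.hom_inv_id
    exact this
  have hε'ε : ε' ≫ ε = 𝟙 _ := by
    have := congrArg (fun t => t.left) e.inv_hom_id
    exact this
  have : IsIso ε.appTop := by
    refine ⟨ε'.appTop, ?_, ?_⟩
    · rw [← Scheme.Hom.comp_appTop, hε'ε]
      rfl
    · rw [← Scheme.Hom.comp_appTop, hεε']
      rfl
  have hε : ε ≫ V.hom = pullback.snd q j := by
    have := MorphismProperty.Over.w e.hom
    exact this
  -- the ring map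
  have key : (Scheme.ΓSpecIso (CommRingCat.of A)).inv ≫ (V.hom ≫ j).appTop =
      ((Scheme.ΓSpecIso (CommRingCat.of A)).inv ≫ q.appTop) ≫
        ((pullback.fst q j).appTop ≫ inv ε.appTop) := by
    have h1 : (V.hom ≫ j).appTop ≫ ε.appTop = q.appTop ≫ (pullback.fst q j).appTop := by
      rw [← Scheme.Hom.comp_appTop, ← Scheme.Hom.comp_appTop, ← Category.assoc, hε,
        pullback.condition]
    rw [Category.assoc, ← Category.assoc q.appTop, ← h1, Category.assoc, IsIso.hom_inv_id,
      Category.comp_id]
  rw [key]
  have hfin : ((Scheme.ΓSpecIso (CommRingCat.of A)).inv ≫ q.appTop).hom.Finite := by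
    have h1 : (q.appTop).hom.Finite := q.finite_appTop
    have h2 : ((Scheme.ΓSpecIso (CommRingCat.of A)).inv).hom.Finite :=
      RingHom.Finite.of_surjective _
        ((ConcreteCategory.bijective_of_isIso (Scheme.ΓSpecIso (CommRingCat.of A)).inv).2)
    exact h1.comp h2
  have het : ((Scheme.ΓSpecIso (CommRingCat.of A)).inv ≫ q.appTop).hom.Etale := by
    have h1 : (q.appTop).hom.Etale := HasRingHomProperty.appTop (P := @Etale) _ inferInstance
    have h2 : ((Scheme.ΓSpecIso (CommRingCat.of A)).inv).hom.Etale :=
      RingHom.Etale.of_bijective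
        (ConcreteCategory.bijective_of_isIso (Scheme.ΓSpecIso (CommRingCat.of A)).inv)
    exact RingHom.Etale.stableUnderComposition _ _ h2 h1
  have hiso : Function.Bijective ((pullback.fst q j).appTop ≫ inv ε.appTop) :=
    ConcreteCategory.bijective_of_isIso _
  constructor
  · exact (RingHom.Finite.of_surjective _ hiso.2).comp hfin
  · exact RingHom.Etale.stableUnderComposition _ _ het (RingHom.Etale.of_bijective hiso)

open AlgebraicGeometry CategoryTheory CategoryTheory.Limits in
/-- Let A be a Noetherian local ring of depth at least 2 and V a finite étale cover of the punctured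
spectrum of A which is isomorphic to the restriction of some finite étale cover of Spec A. Then the
ring of global sections Γ(V, O_V) is finite and étale over A, via the ring map A → Γ(V, O_V) induced
by the composite V → Spec A. (Only this implication of the published statement is asserted here; its
converse is not.) -/
theorem result (A : Type u) [CommRing A] [IsNoetherianRing A] [IsLocalRing A] (hA : (2 : ℕ∞) ≤ LocCoh.depth A A)
    (V : FEt.Cat (FEt.puncturedSpec A : Scheme.{u}))
    (hV : ∃ Y : FEt.Cat (Spec (CommRingCat.of A)),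
      Nonempty ((FEt.restrict (FEt.puncturedSpec A).ι).obj Y ≅ V)) :
    ((Scheme.ΓSpecIso (CommRingCat.of A)).inv ≫ (V.hom ≫ (FEt.puncturedSpec A).ι).appTop).hom.Finite ∧
    ((Scheme.ΓSpecIso (CommRingCat.of A)).inv ≫ (V.hom ≫ (FEt.puncturedSpec A).ι).appTop).hom.Etale := by
  exact main A hA V hV

end Groth.Agent.S0263
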