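import Groth.Statements.S0264
import Groth.Agent.Lib.Helper14.FEtFullFaithful

set_option autoImplicit false
universe u
open Pi1

namespace Groth.Agent.S0264

open AlgebraicGeometry CategoryTheory CategoryTheory.Limits in
/-- Functor form of the surjectivity part of the homotopy exact sequence: Let f : X -> S be flat, proper
and locally of finite presentation with S connected, such that for every algebraically closed field
Ω and every geometric point Spec Ω -> S the fibre X ×_S Spec Ω is connected and reduced. Then the
restriction functor FEt.restrict f, pulling back finite etale covers along f, is full and faithful. -/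
theorem result {X S : Scheme.{u}} (f : X ⟶ S) [IsProper f] [Flat f] [LocallyOfFinitePresentation f]
    [ConnectedSpace S]
    (hfib : ∀ (Ω : Type u) [Field Ω] [IsAlgClosed Ω] (s : Spec (CommRingCat.of Ω) ⟶ S),
      ConnectedSpace ↥(pullback f s) ∧ IsReduced (pullback f s)) :
    (FEt.restrict f).Full ∧ (FEt.restrict f).Faithful := by
  have hsj : Surjective f := by
    constructor
    intro s
    let Ω := AlgebraicClosure (S.residueField s)
    let ξ : Spec (CommRingCat.of Ω) ⟶ S :=
      Spec.map (CommRingCat.ofHom (algebraMap (S.residueField s) Ω)) ≫ S.fromSpecResidueField s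
    obtain ⟨hc, -⟩ := hfib Ω ξ
    obtain ⟨z⟩ := hc.toNonempty
    refine ⟨(pullback.fst f ξ) z, ?_⟩
    have h1 : (pullback.fst f ξ ≫ f) z = (pullback.snd f ξ ≫ ξ) z := by
      rw [pullback.condition]
    have h2 : (pullback.snd f ξ ≫ ξ) z = s := by
      simp only [ξ, Scheme.Hom.comp_apply]
      exact Scheme.fromSpecResidueField_apply _ _
    exact h1.trans h2
  have hsub : SGA1.UnivSubmersive f :=
    Groth.Agent.Lib.Helper14.FEtFullFaithful.univSubmersive_of_universallyClosed_surjective f
  apply Groth.Agent.Lib.Helper14.FEtFullFaithful.full_faithful_of_univSubmersive f hsub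
  intro K _ _ ξ
  exact (hfib K ξ).1

end Groth.Agent.S0264
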