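import Groth.Statements.S3701
import Groth.Agent.Lib.Helper18.EtGR7

set_option autoImplicit false
universe u
open Pi1

namespace Groth.Agent.S3701

open AlgebraicGeometry CategoryTheory CategoryTheory.Limits in
/-- Let f : X -> S be proper, flat and of finite presentation with geometrically reduced fibres. Then in
the Stein factorization X -> S' -> S, where S' is the normalization of S in X, the morphism S' -> S
is finite etale. -/
theorem result {X S : Scheme.{u}} (f : X ⟶ S) [IsProper f] [Flat f]
    [LocallyOfFinitePresentation f]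
    (hred : ∀ (Ω : Type u) [Field Ω] [IsAlgClosed Ω] (σ : Spec (CommRingCat.of Ω) ⟶ S), IsReduced (pullback f σ)) :
    IsFinite f.fromNormalization ∧ Etale f.fromNormalization := by
  have hgr : Groth.Agent.Lib.Helper18.EtGR.EtaleH0 f :=
    Groth.Agent.Lib.Helper18.EtGR.etaleH0_of_forall_isReduced f hred
  have hfl := Groth.Agent.Lib.helper21.GCStein.isFlatOver_structureModule f
  choose V hV C r hyV hJ hK using fun y =>
    Groth.Agent.Lib.Helper18.EtGR.exists_fitt_chart f hgr hfl y
  have hfe := fun y =>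
    Groth.Agent.Lib.Helper18.EtGR.finite_etale_app_of_fitt f hgr (C y) (r y) (hJ y) (hK y)
  let U : S → S.affineOpens := fun y => ⟨V y, hV y⟩
  have hU : ⨆ y, (U y).1 = ⊤ :=
    eq_top_iff.mpr fun y _ => TopologicalSpace.Opens.mem_iSup.mpr ⟨y, hyV y⟩
  constructor
  · refine Groth.Agent.Lib.Helper18.EtGR.fromNormalization_of_cover f @IsFinite U hU (fun y => ?_)
    rw [IsFinite.SpecMap_iff]
    letI := (f.app (V y)).hom.toAlgebra
    haveI : Module.Finite Γ(S, V y) Γ(X, f ⁻¹ᵁ V y) := (hfe y).1
    exact Groth.Agent.Lib.Helper18.EtGR.finite_algebraMap_integralClosure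
  · refine Groth.Agent.Lib.Helper18.EtGR.fromNormalization_of_cover f @Etale U hU (fun y => ?_)
    rw [HasRingHomProperty.Spec_iff (P := @Etale)]
    letI := (f.app (V y)).hom.toAlgebra
    haveI : Module.Finite Γ(S, V y) Γ(X, f ⁻¹ᵁ V y) := (hfe y).1
    haveI : Algebra.Etale Γ(S, V y) Γ(X, f ⁻¹ᵁ V y) := (hfe y).2
    exact Groth.Agent.Lib.Helper18.EtGR.etale_algebraMap_integralClosure

end Groth.Agent.S3701
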