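import Groth.Statements.S0265
import Groth.Agent.S3701
import Groth.Agent.Lib.Helper9.SteinGen3
import Groth.Agent.Lib.Helper18.Pi1Mid2

set_option autoImplicit false
universe u
open Pi1

namespace Groth.Agent.S0265

open AlgebraicGeometry CategoryTheory CategoryTheory.Limits in
/-- (Exactness of the homotopy sequence of etale fundamental groups at the middle term, in functor
form.) Let f : X -> S be flat, proper and of finite presentation with connected reduced geometric
fibres, S connected. If Y is a connected finite etale cover of X which admits a section over some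
geometric fibre of f, then Y is isomorphic to the pullback along f of a finite etale cover of S. -/
theorem result {X S : Scheme.{u}} (f : X ⟶ S) [IsProper f] [Flat f] [LocallyOfFinitePresentation f]
    [ConnectedSpace S]
    (hfib : ∀ (Ω : Type u) [Field Ω] [IsAlgClosed Ω] (s : Spec (CommRingCat.of Ω) ⟶ S),
      ConnectedSpace ↥(pullback f s) ∧ IsReduced (pullback f s))
    (Y : FEt.Cat X) [ConnectedSpace Y.left] (Ω : Type u) [Field Ω] [IsAlgClosed Ω]
    (s : Spec (CommRingCat.of Ω) ⟶ S) (σ : pullback f s ⟶ Y.left)
    (hσ : σ ≫ Y.hom = pullback.fst f s) :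
    (FEt.restrict f).essImage Y := by
  classical
  haveI : IsFinite Y.hom := Y.prop.1
  haveI : Etale Y.hom := Y.prop.2
  have hred : ∀ (Ω' : Type u) [Field Ω'] [IsAlgClosed Ω'] (s' : Spec (CommRingCat.of Ω') ⟶ S),
      IsReduced (pullback (Y.hom ≫ f) s') := by
    intro Ω' _ _ s'
    haveI := (hfib Ω' s').2
    have hsm : Smooth (pullback.snd Y.hom (pullback.fst f s')) :=
      MorphismProperty.pullback_snd (P := @Smooth) _ _ inferInstance
    haveI : IsReduced (pullback Y.hom (pullback.fst f s')) :=
      @Groth.Agent.Lib.Helper18.Pi1Mid.isReduced_of_smooth _ _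
        (pullback.snd Y.hom (pullback.fst f s')) hsm inferInstance
    exact isReduced_of_isOpenImmersion (pullbackRightPullbackFstIso f s' Y.hom).inv
  obtain ⟨hfin, het⟩ := Groth.Agent.S3701.result (Y.hom ≫ f) hred
  haveI := hfin
  haveI := het
  haveI : GeometricallyConnected f :=
    Groth.Agent.Lib.Helper18.Pi1Mid.geometricallyConnected_of_algClosed f
      (fun Ω' _ _ s' => (hfib Ω' s').1)
  haveI := Groth.Agent.Lib.helper9.SteinGen.geometricallyConnected_toNormalization (Y.hom ≫ f)
  haveI := (hfib Ω s).1
  haveI := (hfib Ω s).2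
  have hsq : (Y.hom ≫ f).toNormalization ≫ (Y.hom ≫ f).fromNormalization = Y.hom ≫ f :=
    Scheme.Hom.toNormalization_fromNormalization _
  have hYc : ConnectedSpace ↥Y.left := inferInstance
  obtain ⟨c, hcdef⟩ : ∃ c : Y.left ⟶ pullback (Y.hom ≫ f).fromNormalization f,
      c = pullback.lift _ _ hsq := ⟨_, rfl⟩
  haveI hiso : IsIso c := by
    rw [hcdef]
    exact @Groth.Agent.Lib.Helper18.Pi1Mid.isIso_lift_of_section X S _ Y.left f Y.hom _ _ hsq
      inferInstance inferInstance inferInstance inferInstance inferInstance inferInstance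
      inferInstance hYc Ω _ _ s inferInstance inferInstance σ hσ
  have hc2 : c ≫ pullback.snd (Y.hom ≫ f).fromNormalization f = Y.hom := by
    rw [hcdef]; exact pullback.lift_snd _ _ _
  let T : FEt.Cat S := MorphismProperty.Over.mk ⊤ (Y.hom ≫ f).fromNormalization ⟨hfin, het⟩
  refine ⟨T, ⟨?_⟩⟩
  let e : ((FEt.restrict f).obj T).left ≅ Y.left := (asIso c).symm
  refine MorphismProperty.Over.isoMk e ?_
  show inv c ≫ Y.hom = pullback.snd (Y.hom ≫ f).fromNormalization f
  rw [IsIso.inv_comp_eq, hc2]

end Groth.Agent.S0265
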