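import Groth.Statements.S0267
import Mathlib
import Groth.Agent.Lib.Helper14.Gal4

set_option autoImplicit false
universe u v
open Pi1

namespace Groth.Agent.S0267

open CategoryTheory CategoryTheory.Limits in
/-- For an exact functor H between Galois categories, H is fully faithful exactly when it carries
connected objects to connected objects (both are equivalent to surjectivity of the induced map on
fundamental groups). -/
theorem result {C : Type u} [Category.{v} C]
    [GaloisCategory C] {D : Type u} [Category.{v} D] [GaloisCategory D]
    (H : C ⥤ D) [PreservesFiniteLimits H] [PreservesFiniteColimits H] :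
    (H.Full ∧ H.Faithful) ↔
      ∀ X : C, PreGaloisCategory.IsConnected X → PreGaloisCategory.IsConnected (H.obj X) := by
  let F' := PreGaloisCategory.GaloisCategory.getFiberFunctor D
  let F := PreGaloisCategory.GaloisCategory.getFiberFunctor C
  haveI : PreGaloisCategory.FiberFunctor (H ⋙ F') :=
    Groth.Agent.Lib.Helper14.Gal.fiberFunctor_comp H F' F
  constructor
  · rintro ⟨hfull, -⟩ X hX
    haveI := hX
    haveI : MulAction.IsPretransitive (Aut F') (F'.obj (H.obj X)) :=
      Groth.Agent.Lib.Helper14.Gal.isPretransitive_of_full H F' X
    haveI : Nonempty (F'.obj (H.obj X)) :=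
      PreGaloisCategory.nonempty_fiber_of_isConnected (H ⋙ F') X
    exact Groth.Agent.Lib.Helper14.Gal.isConnected_of_isPretransitive F' (H.obj X)
  · intro h
    refine ⟨?_, Groth.Agent.Lib.Helper14.Gal.faithful_of_comp H F'⟩
    apply Groth.Agent.Lib.Helper14.Gal.full_of_surjective H F'
    apply Groth.Agent.Lib.Helper14.Gal.surjective_of_isPretransitive H F'
    intro X _
    haveI := h X inferInstance
    exact PreGaloisCategory.FiberFunctor.isPretransitive_of_isConnected F' (H.obj X)

end Groth.Agent.S0267
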