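import Groth.Statements.S2916
import Groth.Agent.Lib.Helper14.EtaleSubmDescent2

set_option autoImplicit false
open CategoryTheory CategoryTheory.Limits AlgebraicGeometry Opposite
universe u
open SGA1

namespace Groth.Agent.S2916

/-- Let g : S' ⟶ S be universally submersive with geometrically connected fibres (the base change of S'
to any algebraically closed field valued point of S is connected). Then S' is connected whenever S
is, and for schemes X, Y etale over S every S'-morphism between their base changes comes from
exactly one S-morphism X ⟶ Y. -/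
theorem result {S' S : Scheme.{u}} (g : S' ⟶ S)
    (hg : SGA1.UnivSubmersive g)
    (hconn : ∀ (K : Type u) [Field K] [IsAlgClosed K] (ξ : Spec (CommRingCat.of K) ⟶ S), ConnectedSpace ↑(pullback g ξ)) :
    (ConnectedSpace S → ConnectedSpace S') ∧
    ∀ (X Y : Over S) [Etale X.hom] [Etale Y.hom], Function.Bijective ((Over.pullback g).map : (X ⟶ Y) → _) := by
  refine ⟨fun hS => Groth.Agent.Lib.Helper14.EtaleSubmDescent.connectedSpace_of_univSubmersive
    g hconn hg, fun X Y _ _ => ⟨?_, ?_⟩⟩
  · -- injectivity
    intro φ₁ φ₂ h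
    have hpX : SGA1.UnivSubmersive (pullback.fst X.hom g) :=
      MorphismProperty.of_isPullback (P := SGA1.UnivSubmersive)
        (IsPullback.of_hasPullback X.hom g).flip hg
    have hsurj := Groth.Agent.Lib.Helper14.EtaleSubmDescent.surjective_of_univSubmersive _ hpX
    have h1 : pullback.fst X.hom g ≫ φ₁.left = pullback.fst X.hom g ≫ φ₂.left := by
      have := congrArg (fun m => m.left ≫ pullback.fst Y.hom g) h
      simpa only [Over.pullback_map_left, pullback.lift_fst] using this
    have hw : φ₁.left ≫ Y.hom = φ₂.left ≫ Y.hom := by rw [Over.w φ₁, Over.w φ₂]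
    apply Over.OverMorphism.ext
    refine Groth.Agent.Lib.Helper14.EtaleFixed.eq_of_diag_range Y.hom φ₁.left φ₂.left hw
      fun x => ?_
    obtain ⟨x', rfl⟩ := hsurj x
    exact Groth.Agent.Lib.Helper14.EtaleSubmDescent.mem_range_diag_of_comp_eq Y.hom φ₁.left
      φ₂.left hw (pullback.fst X.hom g) h1 x'
  · -- surjectivity
    intro φ'
    have hpX : SGA1.UnivSubmersive (pullback.fst X.hom g) :=
      MorphismProperty.of_isPullback (P := SGA1.UnivSubmersive)
        (IsPullback.of_hasPullback X.hom g).flip hg
    let ψ : pullback X.hom g ⟶ Y.left := φ'.left ≫ pullback.fst Y.hom g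
    have hφ'w : φ'.left ≫ pullback.snd Y.hom g = pullback.snd X.hom g := Over.w φ'
    have hψ : ψ ≫ Y.hom = pullback.fst X.hom g ≫ X.hom := by
      rw [Category.assoc, pullback.condition, reassoc_of% hφ'w, pullback.condition]
    have hdesc := Groth.Agent.Lib.Helper14.EtaleSubmDescent.fst_comp_eq_snd_comp g hconn
      X.hom Y.hom ψ hψ
    -- the étale X-scheme `E = Y ×_S X`
    let σ' : pullback X.hom g ⟶ pullback Y.hom X.hom :=
      pullback.lift ψ (pullback.fst X.hom g) hψ
    have hσ'1 : σ' ≫ pullback.fst Y.hom X.hom = ψ := pullback.lift_fst _ _ _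
    have hσ'2 : σ' ≫ pullback.snd Y.hom X.hom = pullback.fst X.hom g := pullback.lift_snd _ _ _
    obtain ⟨σ, hσ1, hσ2⟩ := Groth.Agent.Lib.Helper14.EtaleSubmDescent.exists_section_of_descent
      (pullback.fst X.hom g) hpX (pullback.snd Y.hom X.hom) σ' hσ'2 (by
        apply pullback.hom_ext
        · rw [Category.assoc, Category.assoc, hσ'1]; exact hdesc
        · rw [Category.assoc, Category.assoc, hσ'2]; exact pullback.condition)
    refine ⟨Over.homMk (σ ≫ pullback.fst Y.hom X.hom) (by
      rw [Category.assoc, pullback.condition, reassoc_of% hσ1]), ?_⟩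
    apply Over.OverMorphism.ext
    change pullback.lift (pullback.fst X.hom g ≫ (σ ≫ pullback.fst Y.hom X.hom))
      (pullback.snd X.hom g) _ = φ'.left
    apply pullback.hom_ext
    · rw [pullback.lift_fst, reassoc_of% hσ2, hσ'1]
    · rw [pullback.lift_snd, hφ'w]

end Groth.Agent.S2916
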