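import Groth.Statements.S0268
import Groth.Agent.S2916
import Groth.Agent.Lib.Helper3.GeomConnPt

set_option autoImplicit false
universe u
open Pi1

namespace Groth.Agent.S0268

open AlgebraicGeometry CategoryTheory CategoryTheory.Limits in
/-- Functor form of the surjectivity of pi_1(X) -> pi_1(Spec k): Let X be quasi-compact and
quasi-separated over a field k with X_{kbar} connected. Then the functor pulling back finite etale
k-schemes to X is full and faithful. -/
theorem result (k : Type u) [Field k] {X : Scheme.{u}} (f : X ⟶ Spec (CommRingCat.of k)) [CompactSpace X]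
    [QuasiSeparatedSpace X]
    [ConnectedSpace ↥(pullback f (Spec.map (CommRingCat.ofHom (algebraMap k (AlgebraicClosure k)))))] :
    (FEt.restrict f).Full ∧ (FEt.restrict f).Faithful := by
  classical
  have hgc : GeometricallyConnected f :=
    Groth.Agent.Lib.helper3.GeomConnPt.geometricallyConnected_of_gbar f inferInstance
  have hqc : QuasiCompact f := by
    rw [HasAffineProperty.iff_of_isAffine (P := @QuasiCompact)]; infer_instance
  have hfl : Flat f := inferInstance
  have hsj : Surjective f := inferInstance
  have hsub : SGA1.UnivSubmersive f := by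
    intro X' Y' i₁ i₂ f' h
    have h1 : Flat f' := MorphismProperty.of_isPullback h.flip hfl
    have h2 : QuasiCompact f' := MorphismProperty.of_isPullback h.flip hqc
    have h3 : Surjective f' := MorphismProperty.of_isPullback h.flip hsj
    exact Flat.isQuotientMap_of_surjective f'
  have hconn : ∀ (K : Type u) [Field K] [IsAlgClosed K]
      (ξ : Spec (CommRingCat.of K) ⟶ Spec (CommRingCat.of k)), ConnectedSpace ↑(pullback f ξ) := by
    intro K _ _ ξ
    exact pullback_of_geometrically hgc.geometrically_connectedSpace K ξ
  obtain ⟨-, hbij⟩ := Groth.Agent.S2916.result f hsub hconn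
  have key : ∀ (A B : FEt.Cat (Spec (CommRingCat.of k))),
      Function.Bijective ((FEt.restrict f).map : (A ⟶ B) → _) := by
    intro A B
    haveI : Etale (Over.mk A.hom).hom := A.prop.2
    haveI : Etale (Over.mk B.hom).hom := B.prop.2
    have hb := hbij (Over.mk A.hom) (Over.mk B.hom)
    constructor
    · intro φ ψ h
      have h' : (Over.pullback f).map
          (Over.homMk φ.left (MorphismProperty.Over.w φ) : Over.mk A.hom ⟶ Over.mk B.hom) =
          (Over.pullback f).map
          (Over.homMk ψ.left (MorphismProperty.Over.w ψ) : Over.mk A.hom ⟶ Over.mk B.hom) := by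
        ext
        have := congrArg (fun t => t.left) h
        exact this
      have h2 := hb.1 h'
      apply MorphismProperty.Over.Hom.ext
      exact congrArg (fun t => t.left) h2
    · intro φ
      obtain ⟨ψ, hψ⟩ := hb.2 (Over.homMk φ.left (MorphismProperty.Over.w φ))
      refine ⟨MorphismProperty.Over.homMk ψ.left (Over.w ψ) trivial, ?_⟩
      apply MorphismProperty.Over.Hom.ext
      exact congrArg (fun t => t.left) hψ
  exact ⟨⟨fun {A B} φ => (key A B).2 φ⟩, ⟨fun {A B} φ ψ h => (key A B).1 h⟩⟩

end Groth.Agent.S0268
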