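import Groth.Statements.S0271
import Groth.Agent.Lib.Helper22.OrbitEtale
import Groth.Agent.Lib.Helper22.InertiaSep

set_option autoImplicit false
universe u
open Pi1

namespace Groth.Agent.S0271

open AlgebraicGeometry CategoryTheory CategoryTheory.Limits in
/-- Let a finite group G act on a ring R, let q be a prime of R with inertia subgroup I (elements acting
trivially modulo q). Then the ring of I-invariants is etale over the ring of G-invariants at the
prime below q: some principal localization of the I-invariants at an element outside that prime is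
an etale algebra over the G-invariants. -/
theorem result (G R : Type u) [Group G] [Finite G] [CommRing R] [MulSemiringAction G R]
    (q : Ideal R) [q.IsPrime] :
    ∃ g : FixedPoints.subring R (q.inertia G),
      g ∉ q.comap (FixedPoints.subring R (q.inertia G)).subtype ∧
      Algebra.Etale (FixedPoints.subring R G) (Localization.Away g) := by
  classical
  obtain ⟨b, hbfix, hbsep⟩ := Groth.Agent.Lib.helper22.InertiaSep.exists_inertia_separating G q
  let bT : FixedPoints.subring R (q.inertia G) := ⟨b, fun σ => hbfix σ.1 σ.2⟩
  haveI : IsScalarTower (FixedPoints.subring R G) (FixedPoints.subring R (q.inertia G)) R :=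
    IsScalarTower.of_algebraMap_eq (fun x => rfl)
  have hstab : ∀ σ : G, σ • b = b → σ ∈ q.inertia G := by
    intro σ hσ
    by_contra h
    apply hbsep σ h
    rw [hσ, sub_self]
    exact q.zero_mem
  obtain ⟨g, hg, hEt⟩ := Groth.Agent.Lib.helper22.OrbitEtale.exists_etale_away (G := G) (R := R)
    (S := FixedPoints.subring R G) (T := FixedPoints.subring R (q.inertia G))
    Subtype.val_injective Subtype.val_injective
    (fun z => ⟨fun hz => ⟨⟨z, hz⟩, rfl⟩, by rintro ⟨s, rfl⟩; exact s.2⟩) bT
    (fun z => ⟨fun hz => ⟨⟨z, fun σ => hz σ.1 (hbfix σ.1 σ.2)⟩, rfl⟩, by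
      rintro ⟨t, rfl⟩ σ hσ
      exact t.2 ⟨σ, hstab σ hσ⟩⟩)
  refine ⟨g, ?_, hEt⟩
  intro hgq
  refine hg q inferInstance (fun σ hσ => ?_) hgq
  apply hbsep σ
  intro h
  exact hσ (hbfix σ h)

end Groth.Agent.S0271
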