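import Groth.Statements.S0274
import Mathlib

set_option autoImplicit false
universe u
open scoped TensorProduct
open Pi1

namespace Groth.Agent.S0274



/-- Let R -> S be universally injective and M an R-module such that S ⊗_R M is flat over S. Then M is
flat over R. -/
theorem result (R S : Type u) [CommRing R] [CommRing S] [Algebra R S]
    (h : Pi1.UnivInjective R S) (M : Type u) [AddCommGroup M] [Module R M]
    [Module.Flat S (S ⊗[R] M)] : Module.Flat R M := by
  classical
  apply Module.Flat.of_forall_isTrivialRelation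
  intro l f x hfx
  -- Step 1: the relation over `S`
  have hS : ∑ i, (algebraMap R S (f i)) • ((1 : S) ⊗ₜ[R] x i) = 0 := by
    have h1 : ∀ i, (algebraMap R S (f i)) • ((1 : S) ⊗ₜ[R] x i) = (1 : S) ⊗ₜ[R] (f i • x i) := by
      intro i
      rw [TensorProduct.smul_tmul', smul_eq_mul, mul_one, Algebra.algebraMap_eq_smul_one,
        TensorProduct.smul_tmul]
    rw [Finset.sum_congr rfl (fun i _ => h1 i), ← TensorProduct.tmul_sum, hfx,
      TensorProduct.tmul_zero]
  obtain ⟨k, a, y, hxy0, hfa0⟩ := Module.Flat.isTrivialRelation_of_sum_smul_eq_zero hS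
  have hxy : ∀ i, (1 : S) ⊗ₜ[R] x i = ∑ j, a i j • y j := hxy0
  have hfa : ∀ j, ∑ i, algebraMap R S (f i) * a i j = 0 := hfa0
  -- Step 2: expand the `y j`
  have hy : ∀ j, ∃ σ : M →₀ S, y j = σ.sum fun m s => s ⊗ₜ[R] m :=
    fun j => TensorProduct.exists_finsupp_right (y j)
  choose σ hσ using hy
  let T : Finset M := Finset.univ.biUnion (fun j => (σ j).support)
  have hσT : ∀ j, y j = ∑ m ∈ T, (σ j m) ⊗ₜ[R] m := by
    intro j
    rw [hσ j]
    apply Finsupp.sum_of_support_subset _
      (Finset.subset_biUnion_of_mem (fun j => (σ j).support) (Finset.mem_univ j))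
    intro m _
    exact TensorProduct.zero_tmul _ _
  let c : Fin l → M → S := fun i m => ∑ j, a i j * σ j m
  have hc1 : ∀ i, (1 : S) ⊗ₜ[R] x i = ∑ m : ↥T, c i m ⊗ₜ[R] (m : M) := by
    intro i
    rw [hxy i, Finset.sum_coe_sort T (fun m => c i m ⊗ₜ[R] m)]
    have h1 : ∀ j, a i j • y j = ∑ m ∈ T, (a i j * σ j m) ⊗ₜ[R] m := by
      intro j
      rw [hσT j, Finset.smul_sum]
      apply Finset.sum_congr rfl
      intro m _
      rw [TensorProduct.smul_tmul', smul_eq_mul]
    rw [Finset.sum_congr rfl (fun j _ => h1 j), Finset.sum_comm]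
    apply Finset.sum_congr rfl
    intro m _
    rw [TensorProduct.sum_tmul]
  have hc1' : ∀ i, x i ⊗ₜ[R] (1 : S) = ∑ m : ↥T, (m : M) ⊗ₜ[R] c i m := by
    intro i
    have h1 := congrArg (TensorProduct.comm R S M) (hc1 i)
    rw [map_sum] at h1
    simpa using h1
  have hc2 : ∀ m : M, ∑ i, algebraMap R S (f i) * c i m = 0 := by
    intro m
    have h1 : ∀ i, algebraMap R S (f i) * c i m = ∑ j, (algebraMap R S (f i) * a i j) * σ j m := by
      intro i
      show algebraMap R S (f i) * ∑ j, a i j * σ j m = _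
      rw [Finset.mul_sum]
      apply Finset.sum_congr rfl
      intro j _
      rw [mul_assoc]
    rw [Finset.sum_congr rfl (fun i _ => h1 i), Finset.sum_comm]
    apply Finset.sum_eq_zero
    intro j _
    rw [← Finset.sum_mul, hfa j, zero_mul]
  -- Step 3: the auxiliary module
  let r : Fin l × ↥T → (↥T → R) × (Fin l → M) := fun p =>
    f p.1 • LinearMap.inl R (↥T → R) (Fin l → M) (Pi.single p.2 (1 : R)) +
      LinearMap.inr R (↥T → R) (Fin l → M) (Pi.single p.1 (p.2 : M))
  let W : Submodule R ((↥T → R) × (Fin l → M)) := Submodule.span R (Set.range r)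
  let b : (↥T → R) × (Fin l → M) := LinearMap.inr R (↥T → R) (Fin l → M) x
  have hstar : b ⊗ₜ[R] (1 : S) = ∑ p : Fin l × ↥T, r p ⊗ₜ[R] c p.1 p.2 := by
    have h1 : ∀ p : Fin l × ↥T, r p ⊗ₜ[R] c p.1 p.2 =
        LinearMap.inl R (↥T → R) (Fin l → M) (Pi.single p.2 (1 : R)) ⊗ₜ[R]
          (algebraMap R S (f p.1) * c p.1 p.2) +
        LinearMap.inr R (↥T → R) (Fin l → M) (Pi.single p.1 (p.2 : M)) ⊗ₜ[R] c p.1 p.2 := by
      intro p
      show (f p.1 • LinearMap.inl R (↥T → R) (Fin l → M) (Pi.single p.2 (1 : R)) +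
        LinearMap.inr R (↥T → R) (Fin l → M) (Pi.single p.1 (p.2 : M))) ⊗ₜ[R] c p.1 p.2 = _
      rw [TensorProduct.add_tmul, TensorProduct.smul_tmul, Algebra.smul_def]
    rw [Finset.sum_congr rfl (fun p _ => h1 p), Finset.sum_add_distrib]
    have h2 : ∑ p : Fin l × ↥T,
        LinearMap.inl R (↥T → R) (Fin l → M) (Pi.single p.2 (1 : R)) ⊗ₜ[R]
          (algebraMap R S (f p.1) * c p.1 p.2) = 0 := by
      rw [Fintype.sum_prod_type, Finset.sum_comm]
      apply Finset.sum_eq_zero
      intro m _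
      dsimp only
      rw [← TensorProduct.tmul_sum, hc2, TensorProduct.tmul_zero]
    have h3 : ∑ p : Fin l × ↥T,
        LinearMap.inr R (↥T → R) (Fin l → M) (Pi.single p.1 (p.2 : M)) ⊗ₜ[R] c p.1 p.2 =
        b ⊗ₜ[R] (1 : S) := by
      rw [Fintype.sum_prod_type]
      dsimp only
      have h4 : ∀ i : Fin l, ∑ m : ↥T,
          LinearMap.inr R (↥T → R) (Fin l → M) (Pi.single i (m : M)) ⊗ₜ[R] c i m =
          LinearMap.inr R (↥T → R) (Fin l → M) (Pi.single i (x i)) ⊗ₜ[R] (1 : S) := by
        intro i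
        have h5 := congrArg (LinearMap.rTensor S
          ((LinearMap.inr R (↥T → R) (Fin l → M)).comp (LinearMap.single R (fun _ : Fin l => M) i)))
          (hc1' i)
        rw [map_sum] at h5
        simpa using h5.symm
      rw [Finset.sum_congr rfl (fun i _ => h4 i), ← TensorProduct.sum_tmul, ← map_sum,
        Finset.univ_sum_single]
    rw [h2, h3, zero_add]
  have key : (W.mkQ b) ⊗ₜ[R] (1 : S) = 0 := by
    have h1 : (W.mkQ b) ⊗ₜ[R] (1 : S) = LinearMap.rTensor S W.mkQ (b ⊗ₜ[R] (1 : S)) := rfl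
    rw [h1, hstar, map_sum]
    apply Finset.sum_eq_zero
    intro p _
    have h2 : W.mkQ (r p) = 0 := by
      rw [Submodule.mkQ_apply, Submodule.Quotient.mk_eq_zero]
      exact Submodule.subset_span ⟨p, rfl⟩
    rw [LinearMap.rTensor_tmul, h2, TensorProduct.zero_tmul]
  -- Step 4: purity
  have hb : W.mkQ b = 0 := by
    have hinj := h (((↥T → R) × (Fin l → M)) ⧸ W)
    have h1 : LinearMap.lTensor (((↥T → R) × (Fin l → M)) ⧸ W) (Algebra.linearMap R S)
        ((W.mkQ b) ⊗ₜ[R] (1 : R)) = 0 := by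
      rw [LinearMap.lTensor_tmul, Algebra.linearMap_apply, map_one]
      exact key
    have h2 : (W.mkQ b) ⊗ₜ[R] (1 : R) = 0 := hinj (h1.trans (map_zero _).symm)
    have h3 := congrArg (TensorProduct.rid R (((↥T → R) × (Fin l → M)) ⧸ W)) h2
    simpa using h3
  have hbW : b ∈ W := by
    rwa [Submodule.mkQ_apply, Submodule.Quotient.mk_eq_zero] at hb
  obtain ⟨ζ, hζ⟩ := (Submodule.mem_span_range_iff_exists_fun R).mp hbW
  -- Step 5: read off the trivial relation
  have hfst : ∀ m₀ : ↥T, ∑ i, f i * ζ (i, m₀) = 0 := by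
    intro m₀
    have h5 := congrFun (congrArg Prod.fst hζ) m₀
    simp only [r, b, Prod.fst_sum, Prod.smul_fst, Prod.fst_add, LinearMap.inl_apply,
      LinearMap.inr_apply, add_zero, Finset.sum_apply, Pi.smul_apply, smul_eq_mul,
      Pi.zero_apply] at h5
    rw [Fintype.sum_prod_type] at h5
    dsimp only at h5
    rw [← h5]
    apply Finset.sum_congr rfl
    intro i _
    rw [Finset.sum_eq_single m₀]
    · rw [Pi.single_eq_same]; ring
    · intro m _ hne
      rw [Pi.single_eq_of_ne hne.symm]; ring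
    · intro hm; exact absurd (Finset.mem_univ m₀) hm
  have hsnd : ∀ i₀ : Fin l, x i₀ = ∑ m : ↥T, ζ (i₀, m) • (m : M) := by
    intro i₀
    have h5 := congrFun (congrArg Prod.snd hζ) i₀
    simp only [r, b, Prod.snd_sum, Prod.smul_snd, Prod.snd_add, LinearMap.inl_apply,
      LinearMap.inr_apply, zero_add, Finset.sum_apply, Pi.smul_apply, smul_zero] at h5
    rw [Fintype.sum_prod_type] at h5
    dsimp only at h5
    rw [← h5, Finset.sum_eq_single i₀]
    · apply Finset.sum_congr rfl
      intro m _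
      rw [Pi.single_eq_same]
    · intro i _ hne
      apply Finset.sum_eq_zero
      intro m _
      rw [Pi.single_eq_of_ne hne.symm, smul_zero]
    · intro hi; exact absurd (Finset.mem_univ i₀) hi
  let e := Fintype.equivFin ↥T
  refine ⟨Fintype.card ↥T, fun i j => ζ (i, e.symm j), fun j => ((e.symm j : ↥T) : M), ?_, ?_⟩
  · intro i
    rw [hsnd i]
    exact (Equiv.sum_comp e.symm (fun m : ↥T => ζ (i, m) • (m : M))).symm
  · intro j
    exact hfst (e.symm j)


end Groth.Agent.S0274
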