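import Groth.Statements.S0275
import Groth.Agent.Lib.Helper4.PureDescent
import Mathlib

set_option autoImplicit false
universe u
open scoped TensorProduct
open Pi1

namespace Groth.Agent.S0275

/-- Let R -> S be universally injective and M an R-module such that S ⊗_R M is finitely generated over
S. Then M is finitely generated over R. -/
theorem result (R S : Type u) [CommRing R] [CommRing S] [Algebra R S]
    (h : Pi1.UnivInjective R S) (M : Type u) [AddCommGroup M] [Module R M]
    [Module.Finite S (S ⊗[R] M)] : Module.Finite R M := by
  obtain ⟨T, hT⟩ := (Module.finite_def.mp (inferInstance : Module.Finite S (S ⊗[R] M)))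
  obtain ⟨N, hNfin, hTN⟩ := TensorProduct.exists_finite_submodule_right_of_setFinite
    (T : Set (S ⊗[R] M)) T.finite_toSet
  have hN : N = ⊤ := by
    rw [eq_top_iff]
    intro x _
    exact Groth.Agent.Lib.helper4.mem_of_one_tmul_mem_range h N x
      (Groth.Agent.Lib.helper4.range_lTensor_eq_top_of_span _ hT N hTN _)
  rw [Module.finite_def, ← hN]
  exact (Submodule.fg_top N).mp (Module.finite_def.mp hNfin)

end Groth.Agent.S0275
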