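import Groth.Statements.S0276
import Groth.Agent.Lib.Helper4.PureDescent
import Groth.Agent.S0275
import Mathlib

set_option autoImplicit false
universe u
open scoped TensorProduct
open Pi1

namespace Groth.Agent.S0276

/-- Let R -> S be universally injective and M an R-module such that S ⊗_R M is finitely presented over
S. Then M is finitely presented over R. -/
theorem result (R S : Type u) [CommRing R] [CommRing S] [Algebra R S]
    (h : Pi1.UnivInjective R S) (M : Type u) [AddCommGroup M] [Module R M]
    [Module.FinitePresentation S (S ⊗[R] M)] : Module.FinitePresentation R M := by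
  have hfin : Module.Finite R M := Groth.Agent.S0275.result R S h M
  obtain ⟨n, π, hπ⟩ := Module.Finite.exists_fin' R M
  let K : Submodule R (Fin n → R) := LinearMap.ker π
  have hexact : Function.Exact (K.subtype.lTensor S) (π.lTensor S) :=
    lTensor_exact S (LinearMap.exact_subtype_ker_map π) hπ
  have hsurj : Function.Surjective (π.baseChange S) := LinearMap.lTensor_surjective S hπ
  obtain ⟨T, hT⟩ := Module.FinitePresentation.fg_ker (π.baseChange S) hsurj
  have hker : ∀ y, y ∈ LinearMap.ker (π.baseChange S) ↔
      y ∈ LinearMap.range (K.subtype.lTensor S) := by
    intro y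
    rw [LinearMap.mem_ker]
    exact hexact y
  have hKfg : K.FG := by
    refine Groth.Agent.Lib.helper4.fg_of_range_lTensor_fg h K T ?_ ?_
    · intro t ht
      rw [SetLike.mem_coe, ← hker, ← hT]
      exact Submodule.subset_span ht
    · intro y hy
      rw [hT]
      exact (hker y).mpr hy
  exact Module.finitePresentation_of_surjective π hπ hKfg

end Groth.Agent.S0276
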