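import Groth.Statements.S0277
import Groth.Agent.Lib.Helper4.PureDescent
import Mathlib

set_option autoImplicit false
universe u
open scoped TensorProduct
open Pi1

namespace Groth.Agent.S0277

/-- Let R -> S be universally injective and A an R-algebra such that S ⊗_R A is of finite type over S.
Then A is of finite type over R. -/
theorem result (R S : Type u) [CommRing R] [CommRing S] [Algebra R S]
    (h : Pi1.UnivInjective R S) (A : Type u) [CommRing A] [Algebra R A]
    [Algebra.FiniteType S (S ⊗[R] A)] : Algebra.FiniteType R A := by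
  obtain ⟨T, hT⟩ := (inferInstance : Algebra.FiniteType S (S ⊗[R] A)).out
  obtain ⟨N, hNfin, hTN⟩ := TensorProduct.exists_finite_submodule_right_of_setFinite
    (T : Set (S ⊗[R] A)) T.finite_toSet
  obtain ⟨G, hG⟩ := (Submodule.fg_top N).mp (Module.finite_def.mp hNfin)
  let A' : Subalgebra R A := Algebra.adjoin R (G : Set A)
  have hNA' : N ≤ Subalgebra.toSubmodule A' := by
    rw [← hG]
    exact Algebra.span_le_adjoin R _
  let Φ : S ⊗[R] A' →ₐ[S] S ⊗[R] A := Algebra.TensorProduct.map (AlgHom.id S S) A'.val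
  have hΦ : ∀ z, Φ z = (Subalgebra.toSubmodule A').subtype.lTensor S z := by
    intro z
    induction z using TensorProduct.induction_on with
    | zero => simp
    | tmul s a => rfl
    | add x y hx hy => rw [map_add, map_add, hx, hy]
  have hTΦ : (T : Set (S ⊗[R] A)) ⊆ Φ.range := by
    intro t ht
    obtain ⟨z, hz⟩ := hTN ht
    refine ⟨(Submodule.inclusion hNA').lTensor S z, ?_⟩
    change Φ ((Submodule.inclusion hNA').lTensor S z) = t
    rw [hΦ, ← LinearMap.comp_apply, ← LinearMap.lTensor_comp, Submodule.subtype_comp_inclusion]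
    exact hz
  have htop : Φ.range = ⊤ := by
    rw [eq_top_iff, ← hT]
    exact Algebra.adjoin_le hTΦ
  have hA' : A' = ⊤ := by
    rw [eq_top_iff]
    intro x _
    have hx : (1 : S) ⊗ₜ[R] x ∈ Φ.range := by rw [htop]; trivial
    obtain ⟨z, hz⟩ := hx
    exact Groth.Agent.Lib.helper4.mem_of_one_tmul_mem_range h (Subalgebra.toSubmodule A') x
      ⟨z, (hΦ z).symm.trans hz⟩
  exact ⟨⟨G, hA'⟩⟩

end Groth.Agent.S0277
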