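import Groth.Statements.S0278
import Groth.Agent.Lib.Helper4.PureDescent
import Groth.Agent.S0277
import Mathlib

set_option autoImplicit false
universe u
open scoped TensorProduct
open Pi1

namespace Groth.Agent.S0278

/-- Let R -> S be universally injective and A an R-algebra such that S ⊗_R A is of finite presentation
over S. Then A is of finite presentation over R. -/
theorem result (R S : Type u) [CommRing R] [CommRing S] [Algebra R S]
    (h : Pi1.UnivInjective R S) (A : Type u) [CommRing A] [Algebra R A]
    [Algebra.FinitePresentation S (S ⊗[R] A)] : Algebra.FinitePresentation R A := by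
  have hft : Algebra.FiniteType R A := Groth.Agent.S0277.result R S h A
  rw [Algebra.FiniteType.iff_quotient_mvPolynomial''] at hft
  obtain ⟨n, f, hf⟩ := hft
  let fS : S ⊗[R] MvPolynomial (Fin n) R →ₐ[S] S ⊗[R] A :=
    Algebra.TensorProduct.map (AlgHom.id S S) f
  have hfS : Function.Surjective fS := LinearMap.lTensor_surjective S hf
  have hker : (RingHom.ker f.toRingHom).map
      (Algebra.TensorProduct.includeRight : MvPolynomial (Fin n) R →ₐ[R]
        S ⊗[R] MvPolynomial (Fin n) R) = RingHom.ker fS :=
    (Algebra.TensorProduct.lTensor_ker f hf).symm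
  have hfg : (RingHom.ker fS.toRingHom).FG := Algebra.FinitePresentation.ker_fG_of_surjective fS hfS
  refine Algebra.FinitePresentation.of_surjective hf ?_
  apply Groth.Agent.Lib.helper4.ideal_fg_of_map_includeRight_fg h
  rw [hker]
  exact hfg

end Groth.Agent.S0278
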