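import Groth.Statements.S0279
import Mathlib
import Groth.Agent.S0274
import Groth.Agent.S0278
import Groth.Agent.Lib.Helper5.FlatUnramified

set_option autoImplicit false
universe u
open scoped TensorProduct
open Pi1

namespace Groth.Agent.S0279

/-- Let R → S be a universally injective ring map and A an R-algebra such that S ⊗_R A is étale over S.
Then A is étale over R. -/
theorem result (R S : Type u) [CommRing R] [CommRing S] [Algebra R S]
    (h : Pi1.UnivInjective R S) (A : Type u) [CommRing A] [Algebra R A]
    [Algebra.Etale S (S ⊗[R] A)] : Algebra.Etale R A := by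
  have hfp : Algebra.FinitePresentation R A := Groth.Agent.S0278.result R S h A
  have hflatS : Module.Flat S (S ⊗[R] A) := inferInstance
  have hflat : Module.Flat R A := Groth.Agent.S0274.result R S h A
  have hunr : Algebra.FormallyUnramified R A := by
    letI : Algebra A (S ⊗[R] A) := Algebra.TensorProduct.rightAlgebra
    refine ⟨?_⟩
    have e1 : (S ⊗[R] Ω[A⁄R]) ≃ₗ[S] Ω[(S ⊗[R] A)⁄S] :=
      KaehlerDifferential.tensorKaehlerEquivBase R S A (S ⊗[R] A)
    have hs1 : Subsingleton (S ⊗[R] Ω[A⁄R]) := e1.toEquiv.subsingleton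
    have hs2 : Subsingleton (Ω[A⁄R] ⊗[R] S) := (TensorProduct.comm R Ω[A⁄R] S).toEquiv.subsingleton
    have hinj := h Ω[A⁄R]
    have hs3 : Subsingleton (Ω[A⁄R] ⊗[R] R) := hinj.subsingleton
    exact (TensorProduct.rid R Ω[A⁄R]).symm.toEquiv.subsingleton
  have : Algebra.FormallyEtale R A :=
    Groth.Agent.Lib.helper5.FlatUnram.formallyEtale_of_flat_of_formallyUnramified R A
  exact ⟨this, hfp⟩

end Groth.Agent.S0279
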