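import Groth.Statements.S0283
import Groth.Agent.Lib.Helper14.FEtFullFaithful

set_option autoImplicit false
universe u
open Pi1

namespace Groth.Agent.S0283

open AlgebraicGeometry CategoryTheory CategoryTheory.Limits in
/-- Let f : X → Y be a morphism of schemes which is integral, universally injective and surjective (that
is, a universal homeomorphism). Then base change along f, from finite étale covers of Y to finite
étale covers of X, is a full and faithful functor. -/
theorem result {X Y : Scheme.{u}} (f : X ⟶ Y) [IsIntegralHom f] [UniversallyInjective f] [Surjective f] :
    (FEt.restrict f).Full ∧ (FEt.restrict f).Faithful := by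
  have hsub : SGA1.UnivSubmersive f :=
    Groth.Agent.Lib.Helper14.FEtFullFaithful.univSubmersive_of_universallyClosed_surjective f
  apply Groth.Agent.Lib.Helper14.FEtFullFaithful.full_faithful_of_univSubmersive f hsub
  intro K _ _ ξ
  have h1 : UniversallyInjective (pullback.snd f ξ) :=
    MorphismProperty.pullback_snd (P := @UniversallyInjective) f ξ inferInstance
  have h2 : Surjective (pullback.snd f ξ) := inferInstance
  have hinj : Function.Injective (pullback.snd f ξ) := (pullback.snd f ξ).injective
  haveI : Subsingleton ↑(pullback f ξ) := hinj.subsingleton
  haveI : Nonempty ↑(pullback f ξ) := by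
    obtain ⟨x, _⟩ := (pullback.snd f ξ).surjective default
    exact ⟨x⟩
  exact { toPreconnectedSpace := inferInstance, toNonempty := inferInstance }

end Groth.Agent.S0283
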