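import Groth.Statements.S0286
import Groth.Agent.Lib.Helper14.PerfDesc1

set_option autoImplicit false
universe u
open Pi1

namespace Groth.Agent.S0286

open AlgebraicGeometry CategoryTheory CategoryTheory.Limits in
/-- For a scheme X over a field k of characteristic p (p a prime), pulling back finite étale covers
along the projection X ×_{Spec k} Spec(k^perf) → X, where k^perf is the perfect closure of k, is an
equivalence of categories. -/
theorem result (k : Type u) [Field k] (p : ℕ) [Fact p.Prime] [CharP k p] {X : Scheme.{u}}
    (f : X ⟶ Spec (CommRingCat.of k)) :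
    (FEt.restrict (pullback.fst f
      (Spec.map (CommRingCat.ofHom (PerfectClosure.of k p))))).IsEquivalence := by
  letI : Algebra k (PerfectClosure k p) := (PerfectClosure.of k p).toAlgebra
  haveI : ExpChar k p := ExpChar.prime Fact.out
  haveI : IsPurelyInseparable k (PerfectClosure k p) := by
    rw [isPurelyInseparable_iff_pow_mem k p]
    intro x
    obtain ⟨n, y, hy⟩ := IsPRadical.pow_mem (PerfectClosure.of k p) p x
    exact ⟨n, y, hy⟩
  exact Groth.Agent.Lib.helper14.PerfDesc.isEquivalence_restrict k (PerfectClosure k p) f

end Groth.Agent.S0286
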