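import Groth.Statements.S0288
-- import your own Groth.Agent.* helpers here
import Mathlib
import Groth.Agent.Lib.Helper9.UnramNormal

set_option autoImplicit false
universe u
open Pi1

namespace Groth.Agent.S0288

open AlgebraicGeometry CategoryTheory CategoryTheory.Limits in
/-- Let X be a normal integral scheme with function field K, L a finite field extension of K and Y -> X
the normalization of X in Spec L. If Y -> X is unramified (formally unramified and locally of finite
type), then it is etale, and finite. -/
theorem result {X : Scheme.{u}} [IsIntegral X] (hX : Pi1.IsNormalScheme X) (L : Type u) [Field L]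
    [Algebra X.functionField L] [FiniteDimensional X.functionField L]
    [QuasiCompact (Spec.map (CommRingCat.ofHom (algebraMap X.functionField L)) ≫ X.fromSpecStalk (genericPoint X))]
    [QuasiSeparated (Spec.map (CommRingCat.ofHom (algebraMap X.functionField L)) ≫ X.fromSpecStalk (genericPoint X))]
    [FormallyUnramified (Spec.map (CommRingCat.ofHom (algebraMap X.functionField L)) ≫ X.fromSpecStalk (genericPoint X)).fromNormalization]
    [LocallyOfFiniteType (Spec.map (CommRingCat.ofHom (algebraMap X.functionField L)) ≫ X.fromSpecStalk (genericPoint X)).fromNormalization] :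
    Etale (Spec.map (CommRingCat.ofHom (algebraMap X.functionField L)) ≫ X.fromSpecStalk (genericPoint X)).fromNormalization ∧
    IsFinite (Spec.map (CommRingCat.ofHom (algebraMap X.functionField L)) ≫ X.fromSpecStalk (genericPoint X)).fromNormalization := by
  have hsub : Subsingleton (Spec (CommRingCat.of L)) :=
    inferInstanceAs (Subsingleton (PrimeSpectrum L))
  have hne : Nonempty (Spec (CommRingCat.of L)) :=
    inferInstanceAs (Nonempty (PrimeSpectrum L))
  have hsubK : Subsingleton (Spec (X.presheaf.stalk (genericPoint X))) :=
    inferInstanceAs (Subsingleton (PrimeSpectrum X.functionField))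
  have hg : ∀ z : Spec (CommRingCat.of L),
      (Spec.map (CommRingCat.ofHom (algebraMap X.functionField L)) ≫
        X.fromSpecStalk (genericPoint X)) z = genericPoint X := by
    intro z
    rw [Scheme.Hom.comp_apply]
    rw [Subsingleton.elim (Spec.map (CommRingCat.ofHom (algebraMap X.functionField L)) z)
      (IsLocalRing.closedPoint (X.presheaf.stalk (genericPoint X)))]
    exact Scheme.fromSpecStalk_closedPoint
  refine ⟨Groth.Agent.Lib.helper9.UnramGeom.etale_fromNormalization_of_unramified hX _ hg, ?_⟩
  rw [IsFinite.iff_isIntegralHom_and_locallyOfFiniteType]
  exact ⟨inferInstance, inferInstance⟩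

end Groth.Agent.S0288
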