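import Groth.Statements.S0294
import Mathlib.LinearAlgebra.FreeModule.Finite.Matrix
import Mathlib.AlgebraicGeometry.Morphisms.Finite
import Mathlib.AlgebraicGeometry.Morphisms.Affine

set_option autoImplicit false
universe u
open Pi1

namespace Groth.Agent.S0294

open AlgebraicGeometry CategoryTheory CategoryTheory.Limits in
/-- For a finite étale cover Y of a scheme X and a point ξ : Spec Ω → X with values in a field Ω, the
fibre of Y over ξ (the set of Ω-valued points of Y lying over ξ) is finite. -/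
theorem result {X : Scheme.{u}} {Ω : Type u} [Field Ω] (ξ : Spec (CommRingCat.of Ω) ⟶ X) (Y : FEt.Cat X) :
    Finite (FEt.fiberObj ξ Y) := by
  have hfin : IsFinite Y.hom := Y.prop.1
  let P := pullback ξ Y.hom
  let p : P ⟶ Spec (CommRingCat.of Ω) := pullback.fst ξ Y.hom
  haveI : IsFinite p := MorphismProperty.pullback_fst _ _ hfin
  haveI : IsAffine P := isAffine_of_isAffineHom p
  let B := Γ(P, ⊤)
  let φ : Ω →+* B := (p.appTop).hom.comp (Scheme.ΓSpecIso (CommRingCat.of Ω)).inv.hom
  have hφ : φ.Finite := by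
    refine RingHom.Finite.comp (Scheme.Hom.finite_appTop p) ?_
    apply RingHom.Finite.of_surjective
    exact (ConcreteCategory.bijective_of_isIso (Scheme.ΓSpecIso (CommRingCat.of Ω)).inv).2
  letI := φ.toAlgebra
  haveI : Module.Finite Ω B := hφ
  let σ : FEt.fiberObj ξ Y → (Spec (CommRingCat.of Ω) ⟶ P) := fun s =>
    pullback.lift (𝟙 _) s.1 (by rw [Category.id_comp]; exact s.2.symm)
  have hσp : ∀ s, σ s ≫ p = 𝟙 _ := fun s => pullback.lift_fst _ _ _
  have hσs : ∀ s, σ s ≫ pullback.snd ξ Y.hom = s.1 := fun s => pullback.lift_snd _ _ _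
  let Φ : FEt.fiberObj ξ Y → (B →ₐ[Ω] Ω) := fun s =>
    { toRingHom := (Scheme.ΓSpecIso (CommRingCat.of Ω)).hom.hom.comp (σ s).appTop.hom
      commutes' := by
        intro r
        change (Scheme.ΓSpecIso (CommRingCat.of Ω)).hom.hom ((σ s).appTop.hom (p.appTop.hom
          ((Scheme.ΓSpecIso (CommRingCat.of Ω)).inv.hom r))) = r
        have h1 : p.appTop ≫ (σ s).appTop = 𝟙 _ := by
          rw [← Scheme.Hom.comp_appTop, hσp]; rfl
        have h2 := congrArg (fun f => f.hom ((Scheme.ΓSpecIso (CommRingCat.of Ω)).inv.hom r)) h1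
        simp only [CommRingCat.hom_comp, RingHom.comp_apply] at h2
        rw [h2]
        simp }
  apply Finite.of_injective Φ
  intro s s' hss
  have h1 : (σ s).appTop = (σ s').appTop := by
    ext z
    have := congrArg (fun f : B →ₐ[Ω] Ω => (Scheme.ΓSpecIso (CommRingCat.of Ω)).inv.hom (f z)) hss
    simpa [Φ] using this
  have h2 : σ s = σ s' := ext_of_isAffine h1
  apply Subtype.ext
  rw [← hσs s, ← hσs s', h2]

end Groth.Agent.S0294
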