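import Groth.Statements.S0306
import Groth.Agent.S0299
import Groth.Agent.S0303
import Groth.Agent.S0305
import Mathlib

set_option autoImplicit false
universe u v
open InjHull

namespace Groth.Agent.S0306

/-- Over a Noetherian ring every indecomposable injective module is an injective hull of the residue
field of some prime. -/
theorem result (R : Type u) [CommRing R] [IsNoetherianRing R] (E : Type u) [AddCommGroup E] [Module R E] (hE : InjHull.IsIndecomposable R E) (hinj : Module.Injective R E) : ∃ (p : Ideal R) (_ : p.IsPrime) (g : p.ResidueField →ₗ[R] E), InjHull.IsInjectiveHull g := by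
  obtain ⟨hnt, hind⟩ := hE
  obtain ⟨p, hp⟩ := associatedPrimes.nonempty R E
  obtain ⟨hpprime, x, hpx⟩ := (isAssociatedPrime_iff).mp hp
  have hmem : ∀ r : R, r ∈ p ↔ r • x = 0 := by
    intro r
    rw [hpx, Submodule.mem_colon_singleton, Submodule.mem_bot]
  have hx0 : x ≠ 0 := by
    intro h0
    apply hpprime.ne_top
    rw [Ideal.eq_top_iff_one, hmem, h0, smul_zero]
  let i : (R ⧸ p) →ₗ[R] E := Submodule.liftQ p (LinearMap.toSpanSingleton R E x) (by
    intro r hr
    rw [LinearMap.mem_ker, LinearMap.toSpanSingleton_apply]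
    exact (hmem r).mp hr)
  have hi_mk : ∀ r : R, i (Ideal.Quotient.mk p r) = r • x := fun r => rfl
  have hiinj : Function.Injective i := by
    rw [injective_iff_map_eq_zero]
    intro a ha
    obtain ⟨r, rfl⟩ := Ideal.Quotient.mk_surjective a
    rw [hi_mk] at ha
    exact Ideal.Quotient.eq_zero_iff_mem.mpr ((hmem r).mpr ha)
  -- hull of R/p splits off E
  obtain ⟨H, _, _, h, hh⟩ := Groth.Agent.S0299.result R (R ⧸ p)
  obtain ⟨α, hαinj, hαh, I', hcompl⟩ := Groth.Agent.S0303.result R (R ⧸ p) H E h hh i hiinj hinj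
  have htop : LinearMap.range α = ⊤ := by
    rcases hind _ _ hcompl with h0 | h0
    · exfalso
      apply hx0
      have h1 : α (h (Ideal.Quotient.mk p 1)) = x := by
        have := LinearMap.congr_fun hαh (Ideal.Quotient.mk p 1)
        rw [LinearMap.comp_apply, hi_mk, one_smul] at this
        exact this
      have hmem' : x ∈ LinearMap.range α := ⟨_, h1⟩
      rw [h0] at hmem'
      exact hmem'
    · have := hcompl.sup_eq_top
      rwa [h0, sup_bot_eq] at this
  have hi : InjHull.IsInjectiveHull i := by
    refine ⟨⟨hiinj, ?_⟩, hinj⟩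
    intro N hN
    have h1 : N.comap α ≠ ⊥ := by
      intro hb
      apply hN
      rw [eq_bot_iff]
      intro y hy
      obtain ⟨z, rfl⟩ := (LinearMap.range_eq_top.mp htop) y
      have hz : z ∈ N.comap α := hy
      rw [hb, Submodule.mem_bot] at hz
      rw [hz, map_zero]
      exact Submodule.zero_mem _
    obtain ⟨z, hz, hz0⟩ := Submodule.exists_mem_ne_zero_of_ne_bot (hh.essential _ h1)
    obtain ⟨hz1, ⟨a, rfl⟩⟩ := hz
    intro hbot
    have hαa : α (h a) = i a := LinearMap.congr_fun hαh a
    have hmem' : i a ∈ N ⊓ LinearMap.range i := ⟨by rw [← hαa]; exact hz1, ⟨a, rfl⟩⟩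
    rw [hbot, Submodule.mem_bot] at hmem'
    apply hz0
    have ha0 : a = 0 := hiinj (hmem'.trans (map_zero i).symm)
    rw [ha0, map_zero]
  have := hpprime
  obtain ⟨-, g, hg⟩ := Groth.Agent.S0305.result R p E i hi
  exact ⟨p, hpprime, g, hg⟩

end Groth.Agent.S0306
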