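import Groth.Statements.S0313
import Mathlib
import Groth.Agent.Lib.Helper19.MatlisLen
import Groth.Agent.S11663
import Groth.Agent.S0316

set_option autoImplicit false
universe u v
open Matlis

namespace Groth.Agent.S0313

-- MARK
section Aux
open Pointwise

variable {R : Type u} [CommRing R] [IsLocalRing R] [IsNoetherianRing R]
  {E : Type u} [AddCommGroup E] [Module R E] (f : IsLocalRing.ResidueField R →ₗ[R] E)
  (hf : InjHull.IsInjectiveHull f)

local notation "𝔪" => IsLocalRing.maximalIdeal R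

include hf in
/-- `E` is `m`-power torsion -/
lemma exists_pow_kill_elt (e : E) : ∃ n : ℕ, ∀ c ∈ 𝔪 ^ n, c • e = 0 := by
  have : e ∈ DRing.torsionSub 𝔪 E := by
    rw [Groth.Agent.S11663.torsionSub_eq_top 𝔪 f hf]
    trivial
  exact this

omit [IsNoetherianRing R] in
/-- a functional on `R/m^n` sends `1` to an element killed by `m^n` -/
lemma kill_apply_one (n : ℕ) (φ : (R ⧸ (𝔪 ^ n • (⊤ : Submodule R R))) →ₗ[R] E) :
    ∀ c ∈ 𝔪 ^ n, c • φ (Submodule.Quotient.mk 1) = 0 := by
  intro c hc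
  rw [← map_smul, ← Submodule.Quotient.mk_smul]
  have : (Submodule.Quotient.mk (c • (1 : R)) : R ⧸ (𝔪 ^ n • (⊤ : Submodule R R))) = 0 :=
    (Submodule.Quotient.mk_eq_zero _).2 (Submodule.smul_mem_smul hc trivial)
  rw [this, map_zero]

omit [IsNoetherianRing R] in
lemma apply_mk (n : ℕ) (φ : (R ⧸ (𝔪 ^ n • (⊤ : Submodule R R))) →ₗ[R] E) (r : R) :
    φ (Submodule.Quotient.mk r) = r • φ (Submodule.Quotient.mk 1) := by
  have h1 : r • (1 : R) = r := by rw [smul_eq_mul, mul_one]
  rw [← map_smul, ← Submodule.Quotient.mk_smul]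
  exact congrArg (fun z => φ (Submodule.Quotient.mk z)) h1.symm

include hf in
/-- every endomorphism acts on the `m^n`-torsion as a scalar -/
lemma exists_scalar (θ : E →ₗ[R] E) (n : ℕ) :
    ∃ r : R, ∀ e : E, (∀ c ∈ 𝔪 ^ n, c • e = 0) → θ e = r • e := by
  have hfl := Groth.Agent.S0316.isFiniteLength_quot (R := R) R n
  obtain ⟨y, hy⟩ := (Groth.Agent.Lib.helper19.MatlisLen.applyₗ_bijective f hf _ hfl).2
    (θ ∘ₗ (LinearMap.applyₗ (Submodule.Quotient.mk (1 : R)) :
      ((R ⧸ (𝔪 ^ n • (⊤ : Submodule R R))) →ₗ[R] E) →ₗ[R] E))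
  obtain ⟨r, rfl⟩ := Submodule.Quotient.mk_surjective _ y
  refine ⟨r, fun e he => ?_⟩
  have hle : 𝔪 ^ n • (⊤ : Submodule R R) ≤ LinearMap.ker (LinearMap.toSpanSingleton R E e) := by
    intro x hx
    refine Submodule.smul_induction_on hx (fun c hc z _ => ?_) (fun a b ha hb => ?_)
    · rw [LinearMap.mem_ker, LinearMap.toSpanSingleton_apply, smul_eq_mul, mul_comm, mul_smul,
        he c hc, smul_zero]
    · exact Submodule.add_mem _ ha hb
  have h1 := LinearMap.congr_fun hy (Submodule.liftQ _ (LinearMap.toSpanSingleton R E e) hle)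
  have h2 : Submodule.liftQ _ (LinearMap.toSpanSingleton R E e) hle (Submodule.Quotient.mk r) =
      θ (Submodule.liftQ _ (LinearMap.toSpanSingleton R E e) hle (Submodule.Quotient.mk 1)) := h1
  rw [Submodule.liftQ_apply, Submodule.liftQ_apply, LinearMap.toSpanSingleton_apply,
    LinearMap.toSpanSingleton_apply, one_smul] at h2
  exact h2.symm

include hf in
/-- the annihilator of the `m^n`-torsion of `E` is `m^n` -/
lemma mem_pow_of_kill (r : R) (n : ℕ)
    (h : ∀ e : E, (∀ c ∈ 𝔪 ^ n, c • e = 0) → r • e = 0) : r ∈ 𝔪 ^ n := by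
  have hfl := Groth.Agent.S0316.isFiniteLength_quot (R := R) R n
  have hinj := (Groth.Agent.Lib.helper19.MatlisLen.applyₗ_bijective f hf _ hfl).1
  have h0 : (Submodule.Quotient.mk r : R ⧸ (𝔪 ^ n • (⊤ : Submodule R R))) = 0 := by
    apply hinj
    rw [map_zero]
    apply LinearMap.ext
    intro φ
    change φ (Submodule.Quotient.mk r) = 0
    rw [apply_mk]
    exact h _ (kill_apply_one n φ)
  have h1 := (Submodule.Quotient.mk_eq_zero _).1 h0
  rwa [smul_eq_mul, Ideal.mul_top] at h1

/-- a chosen scalar by which `θ` acts on the `m^n`-torsion -/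
noncomputable def rep (θ : E →ₗ[R] E) (n : ℕ) : R := (exists_scalar f hf θ n).choose

lemma rep_spec (θ : E →ₗ[R] E) (n : ℕ) (e : E) (he : ∀ c ∈ 𝔪 ^ n, c • e = 0) :
    θ e = rep f hf θ n • e := (exists_scalar f hf θ n).choose_spec e he

include hf in
lemma mk_eq_of_agree (n : ℕ) (r r' : R)
    (h : ∀ e : E, (∀ c ∈ 𝔪 ^ n, c • e = 0) → r • e = r' • e) :
    Ideal.Quotient.mk (𝔪 ^ n) r = Ideal.Quotient.mk (𝔪 ^ n) r' := by
  rw [Ideal.Quotient.eq]
  apply mem_pow_of_kill f hf
  intro e he
  rw [sub_smul, h e he, sub_self]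

/-- the ring homomorphism `End(E) → R/m^n` -/
noncomputable def φn (n : ℕ) : Module.End R E →+* R ⧸ 𝔪 ^ n where
  toFun θ := Ideal.Quotient.mk _ (rep f hf θ n)
  map_one' := by
    rw [← map_one (Ideal.Quotient.mk (𝔪 ^ n))]
    apply mk_eq_of_agree f hf
    intro e he
    rw [← rep_spec f hf 1 n e he, Module.End.one_apply, one_smul]
  map_mul' θ θ' := by
    rw [← map_mul]
    apply mk_eq_of_agree f hf
    intro e he
    rw [← rep_spec f hf (θ * θ') n e he, Module.End.mul_apply, rep_spec f hf θ' n e he, map_smul,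
      rep_spec f hf θ n e he, smul_smul, mul_comm]
  map_zero' := by
    rw [← map_zero (Ideal.Quotient.mk (𝔪 ^ n))]
    apply mk_eq_of_agree f hf
    intro e he
    rw [← rep_spec f hf 0 n e he, LinearMap.zero_apply, zero_smul]
  map_add' θ θ' := by
    rw [← map_add]
    apply mk_eq_of_agree f hf
    intro e he
    rw [← rep_spec f hf (θ + θ') n e he, LinearMap.add_apply, rep_spec f hf θ n e he,
      rep_spec f hf θ' n e he, add_smul]

lemma φn_apply (n : ℕ) (θ : Module.End R E) :
    φn f hf n θ = Ideal.Quotient.mk _ (rep f hf θ n) := rfl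

lemma φn_compat {m n : ℕ} (hle : m ≤ n) :
    (Ideal.Quotient.factorPow 𝔪 hle).comp (φn f hf n) = φn f hf m := by
  apply RingHom.ext
  intro θ
  rw [RingHom.comp_apply, φn_apply, φn_apply, Ideal.Quotient.factor_mk]
  apply mk_eq_of_agree f hf
  intro e he
  rw [← rep_spec f hf θ m e he, ← rep_spec f hf θ n e
    (fun c hc => he c (Ideal.pow_le_pow_right hle hc))]

/-- the algebra map `End(E) → R^` -/
noncomputable def Ψ : Module.End R E →ₐ[R] AdicCompletion 𝔪 R :=
  { AdicCompletion.liftRingHom 𝔪 (φn f hf) (fun hle => φn_compat f hf hle) with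
    commutes' := by
      intro r
      apply AdicCompletion.ext_evalₐ
      intro n
      change AdicCompletion.evalₐ 𝔪 n (AdicCompletion.liftRingHom 𝔪 (φn f hf)
        (fun hle => φn_compat f hf hle) (algebraMap R (Module.End R E) r)) = _
      rw [AdicCompletion.evalₐ_liftRingHom, AlgHom.commutes, Ideal.Quotient.algebraMap_eq,
        φn_apply]
      apply mk_eq_of_agree f hf
      intro e he
      rw [← rep_spec f hf _ n e he, Module.algebraMap_end_apply] }

lemma evalₐ_Ψ (n : ℕ) (θ : Module.End R E) :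
    AdicCompletion.evalₐ 𝔪 n (Ψ f hf θ) = Ideal.Quotient.mk _ (rep f hf θ n) := by
  change AdicCompletion.evalₐ 𝔪 n (AdicCompletion.liftRingHom 𝔪 (φn f hf)
    (fun hle => φn_compat f hf hle) θ) = _
  rw [AdicCompletion.evalₐ_liftRingHom, φn_apply]

lemma Ψ_injective : Function.Injective (Ψ f hf) := by
  intro θ θ' h
  apply LinearMap.ext
  intro e
  obtain ⟨n, hn⟩ := exists_pow_kill_elt f hf e
  have h1 : AdicCompletion.evalₐ 𝔪 n (Ψ f hf θ) = AdicCompletion.evalₐ 𝔪 n (Ψ f hf θ') := by
    rw [h]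
  rw [evalₐ_Ψ, evalₐ_Ψ, Ideal.Quotient.eq] at h1
  rw [rep_spec f hf θ n e hn, rep_spec f hf θ' n e hn, ← sub_eq_zero, ← sub_smul]
  exact hn _ h1

lemma Ψ_surjective : Function.Surjective (Ψ f hf) := by
  intro a
  obtain ⟨x, rfl⟩ := AdicCompletion.mk_surjective 𝔪 R a
  have hx : ∀ {m n : ℕ}, m ≤ n → x m - x n ∈ 𝔪 ^ m := by
    intro m n hmn
    have h1 := SModEq.sub_mem.mp (x.2 hmn)
    rwa [smul_eq_mul, Ideal.mul_top] at h1
  choose N hN using fun e => exists_pow_kill_elt f hf e
  have key : ∀ (e : E) (n : ℕ), (∀ c ∈ 𝔪 ^ n, c • e = 0) → x n • e = x (N e) • e := by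
    intro e n hn
    rcases le_total n (N e) with h | h
    · rw [← sub_eq_zero, ← sub_smul]
      exact hn _ (hx h)
    · rw [eq_comm, ← sub_eq_zero, ← sub_smul]
      exact hN e _ (hx h)
  let θ : E →ₗ[R] E :=
    { toFun := fun e => x (N e) • e
      map_add' := by
        intro e e'
        have h1 : ∀ c ∈ 𝔪 ^ (max (N e) (max (N e') (N (e + e')))), c • e = 0 := fun c hc =>
          hN e c (Ideal.pow_le_pow_right (le_max_left _ _) hc)
        have h2 : ∀ c ∈ 𝔪 ^ (max (N e) (max (N e') (N (e + e')))), c • e' = 0 := fun c hc =>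
          hN e' c (Ideal.pow_le_pow_right ((le_max_left _ _).trans (le_max_right _ _)) hc)
        have h3 : ∀ c ∈ 𝔪 ^ (max (N e) (max (N e') (N (e + e')))), c • (e + e') = 0 :=
          fun c hc => hN (e + e') c
            (Ideal.pow_le_pow_right ((le_max_right _ _).trans (le_max_right _ _)) hc)
        change x (N (e + e')) • (e + e') = x (N e) • e + x (N e') • e'
        rw [← key _ _ h1, ← key _ _ h2, ← key _ _ h3, smul_add]
      map_smul' := by
        intro r e
        have h1 : ∀ c ∈ 𝔪 ^ (max (N e) (N (r • e))), c • e = 0 := fun c hc =>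
          hN e c (Ideal.pow_le_pow_right (le_max_left _ _) hc)
        have h2 : ∀ c ∈ 𝔪 ^ (max (N e) (N (r • e))), c • (r • e) = 0 := fun c hc =>
          hN (r • e) c (Ideal.pow_le_pow_right (le_max_right _ _) hc)
        change x (N (r • e)) • (r • e) = r • (x (N e) • e)
        rw [← key _ _ h1, ← key _ _ h2, smul_comm] }
  refine ⟨θ, ?_⟩
  apply AdicCompletion.ext_evalₐ
  intro n
  rw [evalₐ_Ψ, AdicCompletion.evalₐ_mk]
  apply mk_eq_of_agree f hf
  intro e he
  rw [← rep_spec f hf θ n e he]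
  exact (key e n he).symm

end Aux



/-- Over a Noetherian local ring, the endomorphism ring of an injective hull of the residue field is
isomorphic, as an algebra over the ring, to the completion at the maximal ideal. -/
theorem result (R : Type u) [CommRing R] [IsLocalRing R] [IsNoetherianRing R] (E : Type u) [AddCommGroup E] [Module R E] (f : IsLocalRing.ResidueField R →ₗ[R] E) (hf : InjHull.IsInjectiveHull f) : Nonempty (Module.End R E ≃ₐ[R] AdicCompletion (IsLocalRing.maximalIdeal R) R) := by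
  exact ⟨AlgEquiv.ofBijective (Ψ f hf) ⟨Ψ_injective f hf, Ψ_surjective f hf⟩⟩

end Groth.Agent.S0313
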