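import Groth.Statements.S0315
import Mathlib
import Groth.Agent.Lib.Helper19.Melkersson

set_option autoImplicit false
universe u v
open Matlis

namespace Groth.Agent.S0315

-- MARK
section Aux
open Groth.Agent.Lib.helper19.Melkersson

variable {R : Type u} [CommRing R] [IsLocalRing R] [IsNoetherianRing R]
  (M : Type u) [AddCommGroup M] [Module R M]

lemma powerTorsion_of_isArtinian [hA : IsArtinian R M] :
    LocCoh.IsPowerTorsion (IsLocalRing.maximalIdeal R) M := by
  intro x
  let f : ℕ →o (Submodule R M)ᵒᵈ :=
    ⟨fun n => OrderDual.toDual ((IsLocalRing.maximalIdeal R) ^ n • Submodule.span R {x}),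
      fun n k h => Submodule.smul_mono_left (Ideal.pow_le_pow_right h)⟩
  obtain ⟨n, hn⟩ := IsArtinian.monotone_stabilizes f
  have h1 : (IsLocalRing.maximalIdeal R) ^ n • Submodule.span R {x} =
      (IsLocalRing.maximalIdeal R) ^ (n + 1) • Submodule.span R {x} := hn (n + 1) (by lia)
  have hfg : ((IsLocalRing.maximalIdeal R) ^ n • Submodule.span R {x}).FG :=
    Submodule.FG.smul (IsNoetherian.noetherian _) (Submodule.fg_span_singleton x)
  have hle : (IsLocalRing.maximalIdeal R) ^ n • Submodule.span R {x} ≤
      IsLocalRing.maximalIdeal R • ((IsLocalRing.maximalIdeal R) ^ n • Submodule.span R {x}) := by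
    rw [← Submodule.mul_smul, ← pow_succ']
    exact le_of_eq h1
  have hbot := Submodule.eq_bot_of_le_smul_of_le_jacobson_bot _ _ hfg hle
    (IsLocalRing.maximalIdeal_le_jacobson ⊥)
  refine ⟨n, fun a ha => ?_⟩
  have : a • x ∈ (IsLocalRing.maximalIdeal R) ^ n • Submodule.span R {x} :=
    Submodule.smul_mem_smul ha (Submodule.mem_span_singleton_self x)
  rw [hbot] at this
  exact (Submodule.mem_bot R).1 this

lemma finite_socle_of_isArtinian [hA : IsArtinian R M] :
    Module.Finite (R ⧸ IsLocalRing.maximalIdeal R)
      ↥(LocCoh.torsionBy (IsLocalRing.maximalIdeal R) M) := by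
  let _ : Field (R ⧸ IsLocalRing.maximalIdeal R) := Ideal.Quotient.field _
  have h1 : IsArtinian R ↥(LocCoh.torsionBy (IsLocalRing.maximalIdeal R) M) := inferInstance
  have h2 : IsArtinian (R ⧸ IsLocalRing.maximalIdeal R)
      ↥(LocCoh.torsionBy (IsLocalRing.maximalIdeal R) M) := isArtinian_of_tower R h1
  exact (IsSemisimpleModule.finite_tfae.out 0 2).2 h2

lemma isArtinian_of_powerTorsion_of_finite_socle
    (h1 : LocCoh.IsPowerTorsion (IsLocalRing.maximalIdeal R) M)
    (h2 : Module.Finite (R ⧸ IsLocalRing.maximalIdeal R)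
      ↥(LocCoh.torsionBy (IsLocalRing.maximalIdeal R) M)) : IsArtinian R M := by
  apply isArtinian_of_ideal (IsLocalRing.maximalIdeal R) M h1
  let _ : Field (R ⧸ IsLocalRing.maximalIdeal R) := Ideal.Quotient.field _
  have : IsArtinian (R ⧸ IsLocalRing.maximalIdeal R)
      ↥(LocCoh.torsionBy (IsLocalRing.maximalIdeal R) M) := inferInstance
  exact isArtinian_of_surjective_algebraMap (S := R) (R := R ⧸ IsLocalRing.maximalIdeal R)
    (M := ↥(LocCoh.torsionBy (IsLocalRing.maximalIdeal R) M)) Ideal.Quotient.mk_surjective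

end Aux



/-- Over a Noetherian local ring a module has the descending chain condition exactly when it is killed
elementwise by powers of the maximal ideal and its socle is finite-dimensional over the residue
field. -/
theorem result (R : Type u) [CommRing R] [IsLocalRing R] [IsNoetherianRing R] (M : Type u) [AddCommGroup M] [Module R M] : IsArtinian R M ↔ (LocCoh.IsPowerTorsion (IsLocalRing.maximalIdeal R) M ∧ Module.Finite (R ⧸ IsLocalRing.maximalIdeal R) ↥(LocCoh.torsionBy (IsLocalRing.maximalIdeal R) M)) := by
  constructor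
  · intro hA
    exact ⟨powerTorsion_of_isArtinian M, finite_socle_of_isArtinian M⟩
  · rintro ⟨h1, h2⟩
    exact isArtinian_of_powerTorsion_of_finite_socle M h1 h2

end Groth.Agent.S0315
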