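import Groth.Statements.S0330
import Mathlib
import Groth.Agent.Lib.Helper19.LCBridge
import Groth.Agent.Lib.Helper19.LCLes
import Groth.Agent.Lib.Helper19.LCLes2
import Groth.Agent.Lib.Helper19.LCZero
import Groth.Agent.Lib.Helper19.LCFactor
import Groth.Agent.Lib.Helper19.LCGroth
import Groth.Agent.S11589
import Groth.Agent.S0329

set_option autoImplicit false
universe u v
open LocCoh

namespace Groth.Agent.S0330

-- MARK
section Aux
open CategoryTheory Groth.Agent.Lib.helper19.LCBridge Groth.Agent.Lib.helper19.LCLes
  Groth.Agent.Lib.helper19.LCLes2 Groth.Agent.Lib.helper19.LCZero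
  Groth.Agent.Lib.helper19.LCFactor Groth.Agent.Lib.helper19.LCGroth
open Pointwise

variable {R : Type u} [CommRing R] [IsNoetherianRing R]

/-- localization of an exact sequence with finite localized ends has finite localized middle -/
lemma finite_localized_mid (S : Submonoid R) {A B C : Type u} [AddCommGroup A] [AddCommGroup B]
    [AddCommGroup C] [Module R A] [Module R B] [Module R C] (g : A →ₗ[R] B) (h : B →ₗ[R] C)
    (ex : Function.Exact g h)
    (hA : Module.Finite (Localization S) (LocalizedModule S A))
    (hC : Module.Finite (Localization S) (LocalizedModule S C)) :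
    Module.Finite (Localization S) (LocalizedModule S B) := by
  have : IsNoetherianRing (Localization S) := IsLocalization.isNoetherianRing S _ inferInstance
  have : IsNoetherian (Localization S) (LocalizedModule S A) :=
    isNoetherian_of_isNoetherianRing_of_finite _ _
  have : IsNoetherian (Localization S) (LocalizedModule S C) :=
    isNoetherian_of_isNoetherianRing_of_finite _ _
  have hex : Function.Exact (LocalizedModule.map S g) (LocalizedModule.map S h) :=
    fun y => LocalizedModule.map_exact S g h ex y
  have : IsNoetherian (Localization S) (LocalizedModule S B) :=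
    isNoetherian_of_range_eq_ker (LocalizedModule.map S g) (LocalizedModule.map S h)
      ((LinearMap.exact_iff.mp hex).symm)
  infer_instance

/-- a module whose `r`-torsion is finite and which is `r`-power torsion has finitely many
associated primes -/
lemma finite_ass_of_torsionBy (H : Type u) [AddCommGroup H] [Module R H] (r : R)
    (hfin : Module.Finite R (Submodule.torsionBy R H r))
    (htors : ∀ y : H, ∃ k : ℕ, r ^ k • y = 0) : (associatedPrimes R H).Finite := by
  refine (associatedPrimes.finite (A := R) (M := Submodule.torsionBy R H r)).subset ?_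
  intro p hp
  rw [AssociatedPrimes.mem_iff, isAssociatedPrime_iff] at hp ⊢
  obtain ⟨hprime, y, hy⟩ := hp
  have hrp : r ∈ p := by
    obtain ⟨k, hk⟩ := htors y
    have : r ^ k ∈ p := by
      rw [hy, Submodule.mem_colon_singleton, Submodule.mem_bot]
      exact hk
    exact hprime.mem_of_pow_mem k this
  have hry : r • y = 0 := by
    rw [hy, Submodule.mem_colon_singleton, Submodule.mem_bot] at hrp
    exact hrp
  refine ⟨hprime, ⟨y, (Submodule.mem_torsionBy_iff _ _).mpr hry⟩, ?_⟩
  rw [hy]
  ext c
  rw [Submodule.mem_colon_singleton, Submodule.mem_colon_singleton, Submodule.mem_bot,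
    Submodule.mem_bot]
  constructor
  · intro h
    exact Subtype.ext h
  · intro h
    exact congrArg Subtype.val h

/-- if `H` is `I`-power torsion and `H_p` is finite then a power of `I` kills `H_p` -/
lemma exists_pow_kill_localized (I : Ideal R) (p : Ideal R) [p.IsPrime] (H : Type u)
    [AddCommGroup H] [Module R H]
    (htors : ∀ y : H, ∃ k : ℕ, ∀ c ∈ I ^ k, c • y = 0)
    (hfin : Module.Finite (Localization.AtPrime p) (LocalizedModule p.primeCompl H)) :
    ∃ k : ℕ, ∀ c ∈ I ^ k, ∀ y : H, ∃ s : R, s ∉ p ∧ s • c • y = 0 := by
  classical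
  obtain ⟨T, hT⟩ := (Module.Finite.fg_top :
    (⊤ : Submodule (Localization.AtPrime p) (LocalizedModule p.primeCompl H)).FG)
  have h1 : ∀ t : LocalizedModule p.primeCompl H, ∃ k : ℕ, ∀ c ∈ I ^ k, c • t = 0 := by
    intro t
    induction t using LocalizedModule.induction_on with
    | h y s =>
      obtain ⟨k, hk⟩ := htors y
      refine ⟨k, fun c hc => ?_⟩
      rw [LocalizedModule.smul'_mk, hk c hc, LocalizedModule.zero_mk]
  choose K hK using h1
  refine ⟨T.sup K, ?_⟩
  intro c hc y
  have h2 : ∀ z : LocalizedModule p.primeCompl H, c • z = 0 := by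
    intro z
    have hz : z ∈ Submodule.span (Localization.AtPrime p) (T : Set _) := by rw [hT]; trivial
    induction hz using Submodule.span_induction with
    | mem g hg => exact hK g c (Ideal.pow_le_pow_right (Finset.le_sup (f := K) hg) hc)
    | zero => rw [smul_zero]
    | add x y _ _ hx hy => rw [smul_add, hx, hy, add_zero]
    | smul a x _ hx => rw [smul_comm, hx, smul_zero]
  have h3 : LocalizedModule.mkLinearMap p.primeCompl H (c • y) = 0 := by
    rw [map_smul]
    exact h2 _
  obtain ⟨s, hs⟩ := (IsLocalizedModule.eq_zero_iff p.primeCompl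
    (LocalizedModule.mkLinearMap p.primeCompl H)).mp h3
  exact ⟨s.1, s.2, hs⟩

/-- a module with finitely many associated primes, locally killed by powers of `I` at each of them,
is killed by a power of `I` -/
lemma exists_pow_kill_of_ass (I : Ideal R) (H : Type u) [AddCommGroup H] [Module R H]
    (hass : (associatedPrimes R H).Finite)
    (hloc : ∀ p ∈ associatedPrimes R H, ∃ k : ℕ, ∀ c ∈ I ^ k, ∀ y : H,
      ∃ s : R, s ∉ p ∧ s • c • y = 0) :
    ∃ k : ℕ, ∀ c ∈ I ^ k, ∀ y : H, c • y = 0 := by
  classical
  have h1 : ∀ p : Ideal R, ∃ k : ℕ, p ∈ associatedPrimes R H → ∀ c ∈ I ^ k, ∀ y : H,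
      ∃ s : R, s ∉ p ∧ s • c • y = 0 := by
    intro p
    by_cases hp : p ∈ associatedPrimes R H
    · obtain ⟨k, hk⟩ := hloc p hp
      exact ⟨k, fun _ => hk⟩
    · exact ⟨0, fun h => absurd h hp⟩
  choose K hK using h1
  refine ⟨hass.toFinset.sup K, ?_⟩
  intro c hc y
  by_contra hne
  have : Nontrivial (Submodule.span R {c • y}) :=
    ⟨⟨⟨c • y, Submodule.mem_span_singleton_self _⟩, 0, fun h => hne (congrArg Subtype.val h)⟩⟩
  obtain ⟨p, hp⟩ := associatedPrimes.nonempty R (Submodule.span R {c • y})
  have hpH : p ∈ associatedPrimes R H :=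
    IsAssociatedPrime.map_of_injective (Submodule.span R {c • y}).subtype hp
      (Submodule.injective_subtype _)
  rw [AssociatedPrimes.mem_iff, isAssociatedPrime_iff] at hp
  obtain ⟨hprime, w, hw⟩ := hp
  obtain ⟨a, ha⟩ := Submodule.mem_span_singleton.mp w.2
  obtain ⟨s, hsp, hs⟩ := hK p hpH c (Ideal.pow_le_pow_right
    (Finset.le_sup (f := K) (hass.mem_toFinset.mpr hpH)) hc) (a • y)
  apply hsp
  rw [hw, Submodule.mem_colon_singleton, Submodule.mem_bot]
  apply Subtype.ext
  rw [Submodule.coe_smul, ← ha, smul_comm a c y]
  exact hs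

omit [IsNoetherianRing R] in
lemma finite_localized_of_surjective (S : Submonoid R) {A B : Type u} [AddCommGroup A]
    [AddCommGroup B] [Module R A] [Module R B] (g : A →ₗ[R] B) (hg : Function.Surjective g)
    (hA : Module.Finite (Localization S) (LocalizedModule S A)) :
    Module.Finite (Localization S) (LocalizedModule S B) :=
  Module.Finite.of_surjective (LocalizedModule.map S g) (LocalizedModule.map_surjective S g hg)

open Groth.Agent.S0329 in
/-- local finiteness passes to the quotient by a regular element -/
lemma finite_localized_quot (I : Ideal R) (S : Submonoid R) (j : ℕ) (N : Type u) [AddCommGroup N]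
    [Module R N] (r : R) (hreg : IsSMulRegular N r)
    (h1 : Module.Finite (Localization S) (LocalizedModule S
      ((localCohomology I j).obj (ModuleCat.of R N) : ModuleCat.{u} R)))
    (h2 : Module.Finite (Localization S) (LocalizedModule S
      ((localCohomology I (j + 1)).obj (ModuleCat.of R N) : ModuleCat.{u} R))) :
    Module.Finite (Localization S) (LocalizedModule S
      ((localCohomology I j).obj (ModuleCat.of R (QuotSMulTop r N)) : ModuleCat.{u} R)) := by
  have hS := smulS_shortExact N r hreg
  have hex : Function.Exact ((localCohomology I j).map (smulS N r).g).hom (δH I j hS) :=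
    LinearMap.exact_iff.mpr (ker_δH I j hS)
  exact finite_localized_mid S _ _ hex h1 h2

open Groth.Agent.S0329 in
omit [IsNoetherianRing R] in
/-- the `r`-torsion of `H^{i+1}(N)` is finite if `H^i(N/rN)` is -/
lemma finite_torsionBy (I : Ideal R) (i : ℕ) (N : Type u) [AddCommGroup N] [Module R N]
    (r : R) (hreg : IsSMulRegular N r)
    (hQ : Module.Finite R ((localCohomology I i).obj (ModuleCat.of R (QuotSMulTop r N)) :
      ModuleCat.{u} R)) :
    Module.Finite R (Submodule.torsionBy R
      ((localCohomology I (i + 1)).obj (ModuleCat.of R N) : ModuleCat.{u} R) r) := by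
  have hS := smulS_shortExact N r hreg
  have hker : Submodule.torsionBy R
      ((localCohomology I (i + 1)).obj (smulS N r).X₁ : ModuleCat.{u} R) r =
        LinearMap.range (δH I i hS) := by
    ext x
    rw [Submodule.mem_torsionBy_iff, LinearMap.mem_range]
    constructor
    · intro hx
      exact exact_at_X₁ I i hS x ((smulS_map I _ r (i + 1) x).trans hx)
    · rintro ⟨y, rfl⟩
      exact (smulS_map I _ r (i + 1) _).symm.trans (f_comp_δH I i hS y)
  have hQr : Module.Finite R ((localCohomology I i).obj (smulS N r).X₃ : ModuleCat.{u} R) := hQ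
  have key : Module.Finite R (Submodule.torsionBy R
      ((localCohomology I (i + 1)).obj (smulS N r).X₁ : ModuleCat.{u} R) r) := by
    rw [hker]
    exact Module.Finite.range (δH I i hS)
  exact key

open Groth.Agent.S0329 in
/-- local-global principle for finiteness of local cohomology -/
theorem main (I : Ideal R) (n : ℕ) :
    ∀ (M : Type u) [AddCommGroup M] [Module R M] [Module.Finite R M],
    (∀ (p : Ideal R) [p.IsPrime], ∀ i : ℕ, i ≤ n →
      Module.Finite (Localization.AtPrime p) (LocalizedModule p.primeCompl
        ((localCohomology I i).obj (ModuleCat.of R M) : ModuleCat.{u} R))) →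
    ∀ i : ℕ, i ≤ n →
      Module.Finite R ((localCohomology I i).obj (ModuleCat.of R M) : ModuleCat.{u} R) := by
  induction n with
  | zero =>
    intro M _ _ _ _ i hi
    obtain rfl : i = 0 := by lia
    exact finite_H_zero I M
  | succ n ih =>
    intro M _ _ _ hloc i hi
    rcases Nat.lt_or_ge i (n + 1) with hlt | hge
    · exact ih M (fun p _ j hj => hloc p j (by lia)) i (by lia)
    obtain rfl : i = n + 1 := by lia
    have hbij := fun j (hj : 0 < j) => Groth.Agent.S11589.result R I M j hj
    -- local finiteness for `N = M/Γ_I(M)`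
    have hlocN : ∀ (p : Ideal R) [p.IsPrime], ∀ j : ℕ, j ≤ n + 1 →
        Module.Finite (Localization.AtPrime p) (LocalizedModule p.primeCompl
          ((localCohomology I j).obj (ModuleCat.of R (M ⧸ DRing.torsionSub I M)) :
            ModuleCat.{u} R)) := by
      intro p _ j hj
      rcases Nat.eq_zero_or_pos j with rfl | hpos
      · have := finite_H_zero I (M ⧸ DRing.torsionSub I M)
        infer_instance
      · exact finite_localized_of_surjective p.primeCompl _ (hbij j hpos).2 (hloc p j hj)
    obtain ⟨r, hr, hreg⟩ := exists_regular I (M ⧸ DRing.torsionSub I M)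
      (torsionSub_quotient_eq_bot I M)
    -- step A
    have hQ : ∀ x : R, IsSMulRegular (M ⧸ DRing.torsionSub I M) x →
        Module.Finite R ((localCohomology I n).obj
          (ModuleCat.of R (QuotSMulTop x (M ⧸ DRing.torsionSub I M))) : ModuleCat.{u} R) := by
      intro x hx
      exact ih (QuotSMulTop x (M ⧸ DRing.torsionSub I M)) (fun p _ j hj =>
        finite_localized_quot I p.primeCompl j _ x hx (hlocN p j (by lia))
          (hlocN p (j + 1) (by lia))) n le_rfl
    -- step B
    have htfin := finite_torsionBy I n (M ⧸ DRing.torsionSub I M) r hreg (hQ r hreg)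
    have hass := finite_ass_of_torsionBy _ r htfin (fun y => by
      obtain ⟨k, hk⟩ := H_powerTorsion I (n + 1) (ModuleCat.of R (M ⧸ DRing.torsionSub I M)) y
      exact ⟨k, hk _ (Ideal.pow_mem_pow hr k)⟩)
    obtain ⟨k, hk⟩ := exists_pow_kill_of_ass I _ hass (fun p hp => by
      have : p.IsPrime := hp.isPrime
      exact exists_pow_kill_localized I p _
        (fun y => H_powerTorsion I (n + 1) (ModuleCat.of R (M ⧸ DRing.torsionSub I M)) y)
        (hlocN p (n + 1) le_rfl))
    -- step C
    have hNfin := finite_H_succ_of_regular I n (M ⧸ DRing.torsionSub I M) (r ^ k) (hreg.pow k)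
      (fun y => hk _ (Ideal.pow_mem_pow hr k) y) (hQ (r ^ k) (hreg.pow k))
    have : IsNoetherian R ((localCohomology I (n + 1)).obj
        (ModuleCat.of R (M ⧸ DRing.torsionSub I M)) : ModuleCat.{u} R) :=
      isNoetherian_of_isNoetherianRing_of_finite R _
    exact Module.Finite.of_injective _ (hbij (n + 1) (by lia)).1

end Aux



/-- For a finite module M over a Noetherian ring, finiteness of the local cohomology modules H^i_I(M)
for i ≤ n can be checked after localizing at each prime. -/
theorem result (R : Type u) [CommRing R] [IsNoetherianRing R] (I : Ideal R) (M : Type u) [AddCommGroup M] [Module R M] [Module.Finite R M] (n : ℕ) : (∀ i : ℕ, i ≤ n → Module.Finite R (LocCoh.H I i M)) ↔ ∀ (p : Ideal R) [p.IsPrime], ∀ i : ℕ, i ≤ n → Module.Finite (Localization.AtPrime p) (LocalizedModule p.primeCompl (LocCoh.H I i M)) := by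
  constructor
  · intro h p _ i hi
    have := h i hi
    infer_instance
  · intro h
    exact main I n M (fun p _ i hi => h p i hi)

end Groth.Agent.S0330
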