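import Groth.Statements.S1743
import Mathlib
import Groth.Agent.Lib.Helper19.LCBridge
import Groth.Agent.Lib.Helper19.LCFactor

set_option autoImplicit false
universe u
open LocCoh

namespace Groth.Agent.S1743

-- MARK
section Aux
open CategoryTheory Groth.Agent.Lib.helper19.LCBridge Groth.Agent.Lib.helper19.LCFactor

/-- if `M_S` is projective then a multiple `s • id_M`, `s ∈ S`, factors through a finite free
module -/
theorem exists_factor_of_projective (R : Type u) [CommRing R] [IsNoetherianRing R]
    (M : Type u) [AddCommGroup M] [Module R M] [Module.Finite R M] (S : Submonoid R)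
    [Module.Projective (Localization S) (LocalizedModule S M)] :
    ∃ (n : ℕ) (s : R) (_ : s ∈ S)
      (l' : M →ₗ[R] (Fin n → R)) (l : (Fin n → R) →ₗ[R] M), l ∘ₗ l' = s • LinearMap.id := by
  classical
  obtain ⟨n, π, hπ⟩ := Module.Finite.exists_fin' R M
  let mkM : M →ₗ[R] LocalizedModule S M := LocalizedModule.mkLinearMap S M
  let mkF : (Fin n → R) →ₗ[R] LocalizedModule S (Fin n → R) :=
    LocalizedModule.mkLinearMap S (Fin n → R)
  have hfp : Module.FinitePresentation R M := Module.finitePresentation_of_finite R M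
  obtain ⟨σ, hσ⟩ := Module.projective_lifting_property (LocalizedModule.map S π)
    (LinearMap.id : LocalizedModule S M →ₗ[Localization S] LocalizedModule S M)
    (LocalizedModule.map_surjective S π hπ)
  let ϕ' : M →ₗ[R] LocalizedModule S (Fin n → R) := (σ.restrictScalars R) ∘ₗ mkM
  obtain ⟨l', s', hl'⟩ := Module.FinitePresentation.exists_lift_of_isLocalizedModule S mkF ϕ'
  have h3 : mkM ∘ₗ (π ∘ₗ l') = mkM ∘ₗ ((s' : R) • LinearMap.id) := by
    apply LinearMap.ext
    intro m
    have e2 : mkF (l' m) = s' • ϕ' m := LinearMap.congr_fun hl' m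
    have e1 : mkM (π (l' m)) = LocalizedModule.map S π (mkF (l' m)) := by
      change LocalizedModule.mk (π (l' m)) 1 = LocalizedModule.map S π (LocalizedModule.mk (l' m) 1)
      rw [LocalizedModule.map_mk]
    rw [LinearMap.comp_apply, LinearMap.comp_apply, e1, e2]
    change LocalizedModule.map S π (s' • σ (mkM m)) = _
    have e3 : LocalizedModule.map S π (s' • σ (mkM m)) =
        (s' : R) • LocalizedModule.map S π (σ (mkM m)) :=
      ((LocalizedModule.map S π).restrictScalars R).map_smul (s' : R) (σ (mkM m))
    have e4 : LocalizedModule.map S π (σ (mkM m)) = mkM m := LinearMap.congr_fun hσ (mkM m)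
    rw [e3, e4, LinearMap.comp_apply, LinearMap.smul_apply, LinearMap.id_apply, map_smul]
  obtain ⟨s'', hs''⟩ := Module.Finite.exists_smul_of_comp_eq_of_isLocalizedModule S mkM _ _ h3
  refine ⟨n, ((s'' * s' : S) : R), (s'' * s').2, l', (s'' : R) • π, ?_⟩
  apply LinearMap.ext
  intro m
  have e4 := LinearMap.congr_fun hs'' m
  simp only [LinearMap.smul_apply, LinearMap.comp_apply, LinearMap.id_apply, Submonoid.smul_def,
    Submonoid.coe_mul] at e4 ⊢
  rw [e4]
  simp only [mul_smul]

section Kill
variable {R : Type u} [CommRing R] (I : Ideal R) (i : ℕ)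

/-- an element killing `H^i_I(R)` kills `H^i_I(Rⁿ)` -/
lemma H_pi_kill (ι : Type) [Fintype ι] (c : R)
    (h : ∀ x : ((localCohomology I i).obj (ModuleCat.of R R) : ModuleCat.{u} R), c • x = 0)
    (y : ((localCohomology I i).obj (ModuleCat.of R (ι → R)) : ModuleCat.{u} R)) : c • y = 0 := by
  classical
  have hid : 𝟙 (ModuleCat.of R (ι → R)) = ∑ j : ι,
      (ModuleCat.ofHom (LinearMap.proj (R := R) (φ := fun _ : ι => R) j) ≫
        ModuleCat.ofHom (LinearMap.single R (fun _ : ι => R) j)) := by
    apply ModuleCat.hom_ext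
    apply LinearMap.ext
    intro v
    rw [ModuleCat.hom_sum, LinearMap.sum_apply]
    simp only [ModuleCat.hom_comp, ModuleCat.hom_ofHom, LinearMap.comp_apply, LinearMap.proj_apply,
      LinearMap.single_apply, ModuleCat.hom_id, LinearMap.id_apply]
    exact (Finset.univ_sum_single v).symm
  have h1 : ((localCohomology I i).map (𝟙 (ModuleCat.of R (ι → R)))).hom y = y := by
    rw [CategoryTheory.Functor.map_id]; rfl
  rw [← h1, hid, H_map_sum, Finset.smul_sum]
  apply Finset.sum_eq_zero
  intro j _
  rw [Functor.map_comp, ModuleCat.hom_comp, LinearMap.comp_apply, ← map_smul,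
    h (((localCohomology I i).map (ModuleCat.ofHom
        (LinearMap.proj (R := R) (φ := fun _ : ι => R) j))).hom y), map_zero]

/-- if `s • id_M` factors through `Rⁿ` and `c` kills `H^i_I(R)` then `c * s` kills `H^i_I(M)` -/
lemma kill_of_factor (M : Type u) [AddCommGroup M] [Module R M] (n : ℕ) (s c : R)
    (l' : M →ₗ[R] (Fin n → R)) (l : (Fin n → R) →ₗ[R] M) (hl : l ∘ₗ l' = s • LinearMap.id)
    (h : ∀ x : ((localCohomology I i).obj (ModuleCat.of R R) : ModuleCat.{u} R), c • x = 0)
    (x : ((localCohomology I i).obj (ModuleCat.of R M) : ModuleCat.{u} R)) :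
    (c * s) • x = 0 := by
  have hcomp : ModuleCat.ofHom l' ≫ ModuleCat.ofHom l = s • 𝟙 (ModuleCat.of R M) := by
    apply ModuleCat.hom_ext
    apply LinearMap.ext
    intro y
    exact LinearMap.congr_fun hl y
  have h1 : s • x = ((localCohomology I i).map (s • 𝟙 (ModuleCat.of R M))).hom x :=
    (H_map_smul_id I i (ModuleCat.of R M) s x).symm
  rw [mul_smul, h1, ← hcomp, Functor.map_comp, ModuleCat.hom_comp,
    LinearMap.comp_apply, ← map_smul, H_pi_kill I i (Fin n) c h, map_zero]

end Kill

end Aux



/-- Let A be a Noetherian ring, J ⊆ I ideals and i ≥ 0. If H^i_I(A) is annihilated by J^n for some n,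
then for every finite A-module M such that M_f is a projective A_f-module for every f in I, the
module H^i_I(M) is annihilated by J^m for some m. (The source allows any ring with finitely
generated ideals and finitely presented M.) -/
theorem result (A : Type u) [CommRing A] [IsNoetherianRing A] (J I : Ideal A) (hJI : J ≤ I) (i n : ℕ) (hA : ∀ a ∈ J ^ n, ∀ x : LocCoh.H I i A, a • x = 0) (M : Type u) [AddCommGroup M] [Module A M] [Module.Finite A M] (hM : ∀ f ∈ I, Module.Projective (Localization.Away f) (LocalizedModule (Submonoid.powers f) M)) : ∃ m : ℕ, ∀ a ∈ J ^ m, ∀ x : LocCoh.H I i M, a • x = 0 := by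
  classical
  let Ann : Ideal A := Module.annihilator A (LocCoh.H I i M)
  let B : Ideal A := Submodule.colon (Ann : Submodule A A) ((J ^ n : Ideal A) : Set A)
  have hIB : I ≤ B.radical := by
    intro f hf
    have := hM f hf
    obtain ⟨k, s, ⟨N, hN⟩, l', l, hl⟩ := exists_factor_of_projective A M (Submonoid.powers f)
    refine ⟨N, ?_⟩
    rw [Submodule.mem_colon]
    intro p hp
    rw [Module.mem_annihilator]
    intro x
    have hN' : f ^ N = s := hN
    rw [hN', smul_eq_mul, mul_comm]
    exact kill_of_factor I i M k s p l' l hl (hA p hp) x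
  obtain ⟨m, hm⟩ := Ideal.exists_pow_le_of_le_radical_of_fg (hJI.trans hIB)
    (IsNoetherian.noetherian J)
  refine ⟨m + n, ?_⟩
  intro a ha x
  rw [pow_add] at ha
  refine Submodule.mul_induction_on ha ?_ ?_
  · intro b hb c hc
    have h1 := hm hb
    rw [Submodule.mem_colon] at h1
    have h2 := h1 c hc
    rw [Module.mem_annihilator] at h2
    exact h2 x
  · intro a b ha hb
    rw [add_smul, ha, hb, add_zero]

end Groth.Agent.S1743
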