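import Groth.Statements.S0331
import Mathlib
import Groth.Agent.S0329
import Groth.Agent.S1743

set_option autoImplicit false
universe u v
open LocCoh

namespace Groth.Agent.S0331



/-- Over a Noetherian ring, if H^i_I(R) is finitely generated for i ≤ n, then so is H^i_I(M) for i ≤ n
for every finite module M that becomes finite projective after inverting any single element of I. -/
theorem result (R : Type u) [CommRing R] [IsNoetherianRing R] (I : Ideal R) (n : ℕ) (hR : ∀ i : ℕ, i ≤ n → Module.Finite R (LocCoh.H I i R)) (M : Type u) [AddCommGroup M] [Module R M] [Module.Finite R M] (hM : ∀ f ∈ I, Module.Projective (Localization.Away f) (LocalizedModule (Submonoid.powers f) M)) (i : ℕ) (hi : i ≤ n) : Module.Finite R (LocCoh.H I i M) := by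
  classical
  obtain ⟨J, hIJ, hJ⟩ := (Groth.Agent.S0329.result R I R n).mp hR
  obtain ⟨k, hk⟩ := Ideal.exists_pow_le_of_le_radical_of_fg hIJ (IsNoetherian.noetherian I)
  have hex : ∀ j : ℕ, ∃ m : ℕ, j ≤ n → ∀ a ∈ I ^ m, ∀ x : LocCoh.H I j M, a • x = 0 := by
    intro j
    by_cases hj : j ≤ n
    · obtain ⟨m, hm⟩ := Groth.Agent.S1743.result R I I le_rfl j k
        (fun a ha x => hJ j hj a (hk ha) x) M hM
      exact ⟨m, fun _ => hm⟩
    · exact ⟨0, fun h => absurd h hj⟩
  choose m hm using hex
  refine (Groth.Agent.S0329.result R I M n).mpr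
    ⟨I ^ ((Finset.range (n + 1)).sup m), ?_, ?_⟩ i hi
  · rcases Nat.eq_zero_or_pos ((Finset.range (n + 1)).sup m) with h0 | hpos
    · rw [h0, pow_zero, Ideal.one_eq_top, Ideal.radical_top]
      exact le_top
    · rw [Ideal.radical_pow I (by lia)]
      exact Ideal.le_radical
  · intro j hj a ha x
    exact hm j hj a (Ideal.pow_le_pow_right
      (Finset.le_sup (f := m) (Finset.mem_range.mpr (by lia))) ha) x

end Groth.Agent.S0331
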