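import Groth.Statements.S0334
import Mathlib
import Groth.Agent.Lib.Helper19.LCBridge
import Groth.Agent.Lib.Helper19.LCLes
import Groth.Agent.Lib.Helper19.LCFactor
import Groth.Agent.Lib.Helper19.LCGroth

set_option autoImplicit false
universe u v
open LocCoh

namespace Groth.Agent.S0334

-- MARK
section Aux
open CategoryTheory Groth.Agent.Lib.helper19.LCBridge Groth.Agent.Lib.helper19.LCLes
  Groth.Agent.Lib.helper19.LCFactor Groth.Agent.Lib.helper19.LCGroth

variable {R : Type u} [CommRing R]

/-- support inside `V(f)` for `f` avoiding the top-dimensional minimal primes has smaller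
dimension -/
theorem supportDim_lt_of_support_subset (d : ℕ) (hd : ringKrullDim R = d) (f : R)
    (hf : ∀ p ∈ minimalPrimes R, ringKrullDim (R ⧸ p) = d → f ∉ p)
    (N : Type u) [AddCommGroup N] [Module R N]
    (hN : Module.support R N ⊆ PrimeSpectrum.zeroLocus {f}) :
    Module.supportDim R N < (d : WithBot ℕ∞) := by
  by_contra hcon
  rw [not_lt] at hcon
  obtain ⟨l, hl⟩ := Order.le_krullDim_iff.1 hcon
  -- the head of the chain
  set p₀ : PrimeSpectrum R := (l.head : PrimeSpectrum R) with hp₀
  have hp₀supp : p₀ ∈ Module.support R N := l.head.2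
  have hfp₀ : f ∈ p₀.asIdeal := by
    have := hN hp₀supp
    rw [PrimeSpectrum.mem_zeroLocus, Set.singleton_subset_iff] at this
    exact this
  let l' : LTSeries (PrimeSpectrum R) := l.map Subtype.val (fun _ _ h => h)
  have hl'head : l'.head = p₀ := rfl
  -- p₀ is minimal
  obtain ⟨q, hq, hqp⟩ := Ideal.exists_minimalPrimes_le (J := p₀.asIdeal) (bot_le : (⊥ : Ideal R) ≤ _)
  have hqeq : q = p₀.asIdeal := by
    by_contra hne
    have hlt : (⟨q, hq.1.1⟩ : PrimeSpectrum R) < l'.head := by
      rw [hl'head]
      exact lt_of_le_of_ne hqp (fun h => hne (congrArg PrimeSpectrum.asIdeal h))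
    have h1 := Order.LTSeries.length_le_krullDim (l'.cons ⟨q, hq.1.1⟩ hlt)
    rw [RelSeries.cons_length] at h1
    have h2 : ((l'.length + 1 : ℕ) : WithBot ℕ∞) ≤ (d : WithBot ℕ∞) := by
      rw [← hd]
      exact h1
    have h3 : l'.length = d := hl
    rw [h3] at h2
    have h4 : d + 1 ≤ d := by exact_mod_cast h2
    lia
  have hmin : p₀.asIdeal ∈ minimalPrimes R := hqeq ▸ hq
  -- dim R/p₀ = d
  have hdim : ringKrullDim (R ⧸ p₀.asIdeal) = d := by
    apply le_antisymm
    · rw [← hd]
      exact ringKrullDim_quotient_le _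
    · rw [ringKrullDim_quotient]
      let l'' : LTSeries (PrimeSpectrum.zeroLocus (R := R) (p₀.asIdeal : Set R)) :=
        { length := l.length
          toFun := fun i => ⟨(l i).1, by
            rw [PrimeSpectrum.mem_zeroLocus, SetLike.coe_subset_coe]
            exact (l.head_le i : l.head ≤ l i)⟩
          step := fun i => l.step i }
      have h1 := Order.LTSeries.length_le_krullDim l''
      have h3 : l''.length = d := hl
      rw [h3] at h1
      exact h1
  exact hf _ hmin hdim hfp₀

end Aux



/-- Over a Noetherian local ring of dimension d, multiplication by an element lying in no minimal prime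
p with dim R/p = d is surjective on H^d_I(M) for every finite module M and every ideal I. -/
theorem result (R : Type u) [CommRing R] [IsLocalRing R] [IsNoetherianRing R] (I : Ideal R) (d : ℕ) (hd : ringKrullDim R = d) (f : R) (hf : ∀ p ∈ minimalPrimes R, ringKrullDim (R ⧸ p) = d → f ∉ p) (M : Type u) [AddCommGroup M] [Module R M] [Module.Finite R M] : Function.Surjective (fun x : LocCoh.H I d M => f • x) := by
  have hsupp : Module.support R (M ⧸ LinearMap.range (LinearMap.lsmul R M f)) ⊆
      PrimeSpectrum.zeroLocus {f} := by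
    intro p hp
    rw [PrimeSpectrum.mem_zeroLocus, Set.singleton_subset_iff]
    apply Module.annihilator_le_of_mem_support hp
    rw [Module.mem_annihilator]
    intro y
    obtain ⟨m, rfl⟩ := Submodule.mkQ_surjective _ y
    rw [← map_smul, Submodule.mkQ_apply, Submodule.Quotient.mk_eq_zero]
    exact ⟨m, rfl⟩
  have hN : Subsingleton ((localCohomology I d).obj
      (ModuleCat.of R (M ⧸ LinearMap.range (LinearMap.lsmul R M f))) : ModuleCat.{u} R) :=
    Groth.Agent.Lib.helper19.LCGroth.vanish I _ d
      (supportDim_lt_of_support_subset d hd f hf _ hsupp)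
  have hK : Subsingleton ((localCohomology I (d + 1)).obj
      (ModuleCat.of R (LinearMap.ker (LinearMap.lsmul R M f).rangeRestrict)) : ModuleCat.{u} R) := by
    apply Groth.Agent.Lib.helper19.LCGroth.vanish I _ (d + 1)
    refine lt_of_le_of_lt ((Module.supportDim_le_ringKrullDim R _).trans hd.le) ?_
    exact_mod_cast Nat.lt_succ_self d
  let S₁ : CategoryTheory.ShortComplex (ModuleCat.{u} R) :=
    CategoryTheory.ShortComplex.mk
      (ModuleCat.ofHom (LinearMap.ker (LinearMap.lsmul R M f).rangeRestrict).subtype)
      (ModuleCat.ofHom (LinearMap.lsmul R M f).rangeRestrict) (by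
        apply ModuleCat.hom_ext
        apply LinearMap.ext
        intro x
        exact x.2)
  have hS₁ : S₁.ShortExact := ModuleCat.shortComplex_shortExact S₁
    (LinearMap.exact_subtype_ker_map _) (Submodule.injective_subtype _)
    (LinearMap.surjective_rangeRestrict _)
  let S₂ : CategoryTheory.ShortComplex (ModuleCat.{u} R) :=
    CategoryTheory.ShortComplex.mk
      (ModuleCat.ofHom (LinearMap.range (LinearMap.lsmul R M f)).subtype)
      (ModuleCat.ofHom (LinearMap.range (LinearMap.lsmul R M f)).mkQ) (by
        apply ModuleCat.hom_ext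
        apply LinearMap.ext
        intro x
        exact (Submodule.Quotient.mk_eq_zero _).2 x.2)
  have hS₂ : S₂.ShortExact := ModuleCat.shortComplex_shortExact S₂
    (LinearMap.exact_subtype_mkQ _) (Submodule.injective_subtype _) (Submodule.mkQ_surjective _)
  have h1 := Groth.Agent.Lib.helper19.LCLes.H_surjective_of_vanish I d hS₁ hK
  have h2 := Groth.Agent.Lib.helper19.LCLes.H_f_surjective_of_vanish I d hS₂ hN
  intro y
  obtain ⟨y₁, rfl⟩ := h2 y
  obtain ⟨x, rfl⟩ := h1 y₁
  refine ⟨x, ?_⟩
  have hφ : CategoryTheory.CategoryStruct.comp S₁.g S₂.f =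
      f • CategoryTheory.CategoryStruct.id (ModuleCat.of R M) := rfl
  have h3 := Groth.Agent.Lib.helper19.LCFactor.H_map_smul_id I d (ModuleCat.of R M) f x
  rw [← hφ, CategoryTheory.Functor.map_comp] at h3
  exact h3.symm

end Groth.Agent.S0334
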