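import Groth.Statements.S0335
import Mathlib
import Groth.Agent.Lib.Helper26.HartshorneConn

set_option autoImplicit false
universe u v
open LocCoh

namespace Groth.Agent.S0335

lemma preconnected_local (R : Type u) [CommRing R] [IsLocalRing R] :
    PreconnectedSpace (PrimeSpectrum R) := by
  refine ⟨isPreconnected_of_forall (IsLocalRing.closedPoint R) ?_⟩
  intro y _
  refine ⟨closure {y}, Set.subset_univ _, ?_, subset_closure (Set.mem_singleton y), ?_⟩
  · exact (IsLocalRing.specializes_closedPoint y).mem_closure
  · exact (isIrreducible_singleton.closure).isPreirreducible.isPreconnected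


/-- For the ring itself; Hartshorne's connectedness: if a Noetherian local ring has depth at least 2
then its punctured spectrum is connected. -/
theorem result (R : Type u) [CommRing R] [IsLocalRing R] [IsNoetherianRing R] (h : 2 ≤ LocCoh.depth R R) : IsConnected {x : PrimeSpectrum R | x.asIdeal ≠ IsLocalRing.maximalIdeal R} := by
  classical
  have _hconn := preconnected_local R
  have hset : {x : PrimeSpectrum R | x.asIdeal ≠ IsLocalRing.maximalIdeal R} =
      (PrimeSpectrum.zeroLocus ((IsLocalRing.maximalIdeal R : Ideal R) : Set R))ᶜ := by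
    ext x
    simp only [Set.mem_setOf_eq, Set.mem_compl_iff, PrimeSpectrum.mem_zeroLocus, SetLike.coe_subset_coe]
    constructor
    · intro hne hle
      exact hne (le_antisymm (IsLocalRing.le_maximalIdeal x.2.ne_top) hle)
    · intro hnle heq
      exact hnle heq.ge
  have h2 : ((2 : ℕ) : ℕ∞) ≤ LocCoh.idealDepth (IsLocalRing.maximalIdeal R) R := by exact_mod_cast h
  refine ⟨?_, ?_⟩
  · -- nonempty: a minimal prime is not the maximal ideal
    have hIM : IsLocalRing.maximalIdeal R • (⊤ : Submodule R R) ≠ ⊤ :=
      Groth.Agent.Lib.helper26.Depth.maximalIdeal_smul_top_ne_top (A := R) R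
    have h1 : ((1 : ℕ) : ℕ∞) ≤ LocCoh.idealDepth (IsLocalRing.maximalIdeal R) R :=
      le_trans (by norm_num) h2
    obtain ⟨rs, hlen, hmem, hreg⟩ :=
      Groth.Agent.Lib.helper26.Depth.exists_isWeaklyRegular_of_le hIM h1
    match rs, hlen with
    | [x], _ =>
      have hx : x ∈ IsLocalRing.maximalIdeal R := hmem x (by simp)
      rw [RingTheory.Sequence.isWeaklyRegular_singleton_iff] at hreg
      obtain ⟨p, hp, hple⟩ := Ideal.exists_minimalPrimes_le
        (show (⊥ : Ideal R) ≤ IsLocalRing.maximalIdeal R from bot_le)
      have hpprime : p.IsPrime := hp.1.1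
      refine ⟨⟨p, hpprime⟩, ?_⟩
      intro heq
      change p = IsLocalRing.maximalIdeal R at heq
      have hxp : x ∈ p := heq ▸ hx
      have hdisj := Ideal.disjoint_nonZeroDivisors_of_mem_minimalPrimes (R := R) hp
      have hxnzd : x ∈ nonZeroDivisors R := by
        rw [mem_nonZeroDivisors_iff_right]
        intro z hz
        apply hreg
        change x • z = x • 0
        rw [smul_zero, smul_eq_mul, mul_comm]
        exact hz
      exact (Set.disjoint_left.mp hdisj) hxp hxnzd
  · rw [hset]
    apply Groth.Agent.Lib.helper26.HConn.isPreconnected_compl_zeroLocus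
    intro p hp hle
    have hpeq : p = IsLocalRing.maximalIdeal R :=
      le_antisymm (IsLocalRing.le_maximalIdeal hp.ne_top) hle
    have h3 := Groth.Agent.Lib.helper26.Depth.idealDepth_le_depth_localization p R
      (IsLocalRing.maximalIdeal R) hle
    rw [Groth.Agent.Lib.helper26.Depth.depth_localizedModule_self] at h3
    exact le_trans h h3


end Groth.Agent.S0335
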