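import Groth.Statements.S0337
import Mathlib
import Groth.Agent.S6890
import Groth.Agent.Lib.Helper15.FittLink

set_option autoImplicit false
universe u v
open CategoryTheory
open LocCoh

namespace Groth.Agent.S0337

open Groth.Agent.Lib.helper15.Fitting Groth.Agent.Lib.helper15.FittLink

theorem fitt_congr {R : Type u} [CommRing R] {M N : Type u} [AddCommGroup M] [Module R M]
    [AddCommGroup N] [Module R N] [Module.Finite R M] [Module.Finite R N] (e : M ≃ₗ[R] N) (k : ℕ) :
    Fitt.ideal R M k = Fitt.ideal R N k :=
  le_antisymm (fitt_le_of_surjective e.toLinearMap e.surjective k)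
    (fitt_le_of_surjective e.symm.toLinearMap e.symm.surjective k)

/-- the Fitting ideals of the Frobenius pullback. -/
theorem fitt_frobenius (p : ℕ) [Fact p.Prime] (R : Type u) [CommRing R] [CharP R p]
    (M : Type u) [AddCommGroup M] [Module R M] [Module.Finite R M] (k : ℕ) :
    Fitt.ideal R ((ModuleCat.extendScalars (frobenius R p)).obj (ModuleCat.of R M)) k =
      (Fitt.ideal R M k).map (frobenius R p) :=
  @Groth.Agent.S6890.result R R _ _ (frobenius R p).toAlgebra M _ _ _ k

/-- Over a Noetherian local ring of prime characteristic p, a finite module isomorphic to its own base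
change along Frobenius is free. -/
theorem result (p : ℕ) [Fact p.Prime] (R : Type u) [CommRing R] [IsLocalRing R] [IsNoetherianRing R] [CharP R p] (M : Type u) [AddCommGroup M] [Module R M] [Module.Finite R M] (h : Nonempty ((ModuleCat.extendScalars (frobenius R p)).obj (ModuleCat.of R M) ≅ ModuleCat.of R M)) : Module.Free R M := by
  obtain ⟨e⟩ := h
  have e' : ((ModuleCat.extendScalars (frobenius R p)).obj (ModuleCat.of R M)) ≃ₗ[R] M :=
    e.toLinearEquiv
  haveI : Module.Finite R ((ModuleCat.extendScalars (frobenius R p)).obj (ModuleCat.of R M)) :=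
    Module.Finite.equiv e'.symm
  have hfix : ∀ k, (Fitt.ideal R M k).map (frobenius R p) = Fitt.ideal R M k := fun k => by
    rw [← fitt_frobenius, fitt_congr e' k]
  have hp2 : 2 ≤ p := (Fact.out : p.Prime).two_le
  have htriv : ∀ k, Fitt.ideal R M k = ⊥ ∨ Fitt.ideal R M k = ⊤ := by
    intro k
    by_cases htop : Fitt.ideal R M k = ⊤
    · exact Or.inr htop
    · left
      have hIm : Fitt.ideal R M k ≤ IsLocalRing.maximalIdeal R := IsLocalRing.le_maximalIdeal htop
      have hle : Fitt.ideal R M k ≤ IsLocalRing.maximalIdeal R • Fitt.ideal R M k := by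
        have h1 : (Fitt.ideal R M k).map (frobenius R p) ≤
            IsLocalRing.maximalIdeal R • Fitt.ideal R M k := by
          rw [Ideal.map_le_iff_le_comap]
          intro a ha
          rw [Ideal.mem_comap, frobenius_def]
          obtain ⟨q, rfl⟩ : ∃ q, p = q + 2 := ⟨p - 2, by omega⟩
          have : a ^ (q + 2) = (a ^ q * a) * a := by ring
          rw [this]
          exact Submodule.smul_mem_smul (Ideal.mul_mem_left _ _ (hIm ha)) ha
        rwa [hfix k] at h1
      exact Submodule.eq_bot_of_le_smul_of_le_jacobson_bot (IsLocalRing.maximalIdeal R) _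
        (IsNoetherian.noetherian _) hle (IsLocalRing.maximalIdeal_le_jacobson ⊥)
  obtain ⟨n, x, hx⟩ := Module.Finite.exists_fin (R := R) (M := M)
  refine free_of_detIdeal_trivial x hx (fun j => ?_)
  by_cases hj : j ≤ n
  · have h1 := fitt_eq x hx (n - j)
    rw [Nat.sub_sub_self hj] at h1
    rw [← h1]
    exact htriv _
  · left
    exact detIdeal_eq_bot_of_card_lt _ (by simpa using hj)

end Groth.Agent.S0337
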