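import Groth.Statements.S0343
import Groth.Agent.Lib.Helper17.GorQuot

set_option autoImplicit false
universe u v
open Goren

namespace Groth.Agent.S0343

/-- For a Noetherian local ring A and a non-zero-divisor f in the maximal ideal, A is Gorenstein exactly
when A/(f) is. -/
theorem result (A : Type u) [CommRing A] [IsLocalRing A] [IsNoetherianRing A] (f : A) (hf : f ∈ IsLocalRing.maximalIdeal A) (hreg : IsSMulRegular A f) : LocCoh.IsGorensteinLocalRing A ↔ LocCoh.IsGorensteinLocalRing (A ⧸ Ideal.span {f}) := by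
  classical
  haveI hloc : IsLocalRing (A ⧸ Ideal.span {f}) :=
    Groth.Agent.Lib.helper17.GorQuot.isLocalRing_quot f hf
  constructor
  · intro h
    obtain ⟨n, hn⟩ := h.exists_hasInjectiveDimensionLT
    have hn' : CategoryTheory.HasInjectiveDimensionLT (ModuleCat.of A A) (n + 2) :=
      CategoryTheory.hasInjectiveDimensionLT_of_ge _ n (n + 2) (by omega)
    exact ⟨⟨n + 1, Groth.Agent.Lib.helper17.GorQuot.injdim_quot f hreg n hn'⟩⟩
  · intro h
    obtain ⟨n, hn⟩ := h.exists_hasInjectiveDimensionLT
    have hn' : CategoryTheory.HasInjectiveDimensionLT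
        (ModuleCat.of (A ⧸ Ideal.span {f}) (A ⧸ Ideal.span {f})) (n + 1) :=
      CategoryTheory.hasInjectiveDimensionLT_of_ge _ n (n + 1) (by omega)
    exact ⟨⟨n + 2, Groth.Agent.Lib.helper17.GorQuot.injdim_of_quot f hf hreg n hn'⟩⟩

end Groth.Agent.S0343
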