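import Groth.Statements.S0345
import Mathlib
import Groth.Agent.Lib.Helper17.GorCM

set_option autoImplicit false
universe u v
open Goren

namespace Groth.Agent.S0345

open CategoryTheory

/-- the localized module of `A` is the localization. -/
noncomputable def locIso {A : Type u} [CommRing A] (S : Submonoid A) :
    (ModuleCat.of A A).localizedModule S ≅ ModuleCat.of (Localization S) (Localization S) :=
  haveI := ModuleCat.localizedModule_isLocalizedModule (ModuleCat.of A A) S
  (LinearEquiv.extendScalarsOfIsLocalization S (Localization S)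
    (IsLocalizedModule.linearEquiv S ((ModuleCat.of A A).localizedModuleMkLinearMap S)
      (Algebra.linearMap A (Localization S)))).toModuleIso

theorem exists_natCast_eq (B : Type u) [CommRing B] [IsLocalRing B] [IsNoetherianRing B] :
    ∃ d : ℕ, ringKrullDim B = d := by
  have h1 : ringKrullDim B ≠ ⊤ := ringKrullDim_ne_top
  have h2 : ringKrullDim B ≠ ⊥ := ringKrullDim_ne_bot
  obtain ⟨b, hb⟩ := WithBot.ne_bot_iff_exists.mp h2
  have h3 : b ≠ ⊤ := by
    rintro rfl
    exact h1 hb.symm
  obtain ⟨m, hm⟩ := ENat.ne_top_iff_exists.mp h3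
  exact ⟨m, by rw [← hb, ← hm]; rfl⟩

/-- For a Noetherian ring A, the A-module A has finite injective dimension exactly when every
localization of A at a prime is Gorenstein and A has finite Krull dimension. -/
theorem result (A : Type u) [CommRing A] [IsNoetherianRing A] : (∃ n : ℕ, CategoryTheory.HasInjectiveDimensionLT (ModuleCat.of A A) n) ↔ (LocCoh.IsGorensteinRing A ∧ ringKrullDim A < ⊤) := by
  constructor
  · rintro ⟨n, hn⟩
    have hn1 : HasInjectiveDimensionLE (ModuleCat.of A A) n :=
      hasInjectiveDimensionLT_of_ge _ n (n + 1) (by omega)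
    have hloc : ∀ (p : Ideal A) [p.IsPrime], HasInjectiveDimensionLT
        (ModuleCat.of (Localization.AtPrime p) (Localization.AtPrime p)) (n + 1) := by
      intro p _
      have := ModuleCat.localizedModule_hasInjectiveDimensionLE n p.primeCompl (ModuleCat.of A A)
      exact hasInjectiveDimensionLT_of_iso (locIso p.primeCompl) (n + 1)
    refine ⟨{ isGorensteinLocalRing_localization := fun p _ => ?_ }, ?_⟩
    · haveI : IsNoetherianRing (Localization.AtPrime p) :=
        IsLocalization.isNoetherianRing p.primeCompl _ inferInstance
      exact { exists_hasInjectiveDimensionLT := ⟨n + 1, hloc p⟩ }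
    · have hle : ringKrullDim A ≤ (n : WithBot ℕ∞) := by
        rw [ringKrullDim_le_iff_height_le]
        intro p hp
        haveI := hp
        haveI : IsNoetherianRing (Localization.AtPrime p) :=
          IsLocalization.isNoetherianRing p.primeCompl _ inferInstance
        obtain ⟨d, hd⟩ := exists_natCast_eq (Localization.AtPrime p)
        have hlow := (Groth.Agent.Lib.helper17.GorCM.main d (Localization.AtPrime p) hd
          ⟨n + 1, hloc p⟩).2.2 (n + 1) (hloc p)
        rw [← IsLocalization.AtPrime.ringKrullDim_eq_height p (Localization.AtPrime p), hd]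
        have : d ≤ n := by omega
        exact_mod_cast this
      exact lt_of_le_of_lt hle (WithBot.coe_lt_coe.mpr (ENat.coe_lt_top n))
  · rintro ⟨hG, hdim⟩
    obtain ⟨d, hd⟩ : ∃ d : ℕ, ringKrullDim A ≤ (d : WithBot ℕ∞) := by
      induction h : ringKrullDim A with
      | bot => exact ⟨0, bot_le⟩
      | coe b =>
        have hb : b ≠ ⊤ := by
          rintro rfl
          rw [h] at hdim
          exact lt_irrefl _ hdim
        obtain ⟨m, hm⟩ := ENat.ne_top_iff_exists.mp hb
        exact ⟨m, by rw [← hm]; rfl⟩
    refine ⟨d + 1, ?_⟩
    change HasInjectiveDimensionLE (ModuleCat.of A A) d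
    rw [ModuleCat.hasInjectiveDimensionLE_iff_forall_primeSpectrum]
    intro p
    haveI := p.2
    haveI := hG.isGorensteinLocalRing_localization p.1
    obtain ⟨dp, hdp⟩ := exists_natCast_eq (Localization.AtPrime p.1)
    have hup := (Groth.Agent.Lib.helper17.GorCM.main dp (Localization.AtPrime p.1) hdp
      LocCoh.IsGorensteinLocalRing.exists_hasInjectiveDimensionLT).2.1
    have hle : dp ≤ d := by
      have h1 : ringKrullDim (Localization.AtPrime p.1) ≤ ringKrullDim A := by
        rw [IsLocalization.AtPrime.ringKrullDim_eq_height p.1 (Localization.AtPrime p.1)]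
        exact Ideal.height_le_ringKrullDim_of_isPrime
      have h2 : (dp : WithBot ℕ∞) ≤ (d : WithBot ℕ∞) := by
        rw [← hdp]; exact h1.trans hd
      exact_mod_cast h2
    have := hasInjectiveDimensionLT_of_ge
      (ModuleCat.of (Localization.AtPrime p.1) (Localization.AtPrime p.1)) (dp + 1) (d + 1) (by omega)
    exact hasInjectiveDimensionLT_of_iso (locIso p.1.primeCompl).symm (d + 1)

end Groth.Agent.S0345
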