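import Groth.Statements.S18383
import Mathlib.CategoryTheory.Monoidal.Grp
import Mathlib.CategoryTheory.MorphismProperty.Limits

set_option autoImplicit false
universe u
open CategoryTheory CategoryTheory.Limits MonoidalCategory CartesianMonoidalCategory MonObj GrpObj AlgebraicGeometry
open GrpSch

namespace Groth.Agent.S18383

/-- The shear map `(x, h) ↦ (x h, h)` of a group object is an isomorphism. -/
theorem shear_isIso {C : Type*} [Category C] [CartesianMonoidalCategory C] (H : C) [GrpObj H] :
    IsIso (lift μ[H] (snd H H)) := by
  refine ⟨lift (lift (fst H H) (snd H H ≫ ι) ≫ μ) (snd H H), ?_, ?_⟩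
  · apply CartesianMonoidalCategory.hom_ext
    · simp only [Category.assoc, lift_fst, comp_lift_assoc, lift_snd_assoc, Category.id_comp]
      have h : lift μ[H] (snd H H ≫ ι) = lift (lift (fst H H) (snd H H) ≫ μ) (snd H H ≫ ι) := by
        simp
      rw [h, lift_lift_assoc]
      simp
    · simp
  · apply CartesianMonoidalCategory.hom_ext
    · simp only [Category.assoc, lift_fst, Category.id_comp]
      rw [lift_lift_assoc]
      simp
    · simp

/-- Let S be a scheme, H an S-group scheme and i : G → H a homomorphism of S-group schemes which is a
closed immersion (G a closed subgroup scheme of H). Then the left-translation action of G on H is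
strictly free: the S-morphism G ×_S H → H ×_S H, (g, h) ↦ (i(g)·h, h), is a closed immersion. -/
theorem result {S : Scheme.{u}} (G H : Over S)
    [GrpObj G] [GrpObj H] (i : G ⟶ H) [IsMonHom i] [IsClosedImmersion i.left] :
    IsClosedImmersion (CartesianMonoidalCategory.lift ((i ▷ H) ≫ μ[H]) (snd G H)).left := by
  have hfac : CartesianMonoidalCategory.lift ((i ▷ H) ≫ μ[H]) (snd G H) =
      (i ▷ H) ≫ CartesianMonoidalCategory.lift μ[H] (snd H H) := by
    apply CartesianMonoidalCategory.hom_ext <;> simp
  rw [hfac, Over.comp_left]
  have h1 : IsClosedImmersion (i ▷ H).left := by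
    rw [Over.whiskerRight_left]
    exact MorphismProperty.pullbackMap (P := @IsClosedImmersion) ‹IsClosedImmersion i.left›
      (inferInstance : IsClosedImmersion (𝟙 H.left)) (Over.w i).symm (Category.id_comp _).symm
  have h2 : IsIso (CartesianMonoidalCategory.lift μ[H] (snd H H)) := shear_isIso H
  have h3 : IsIso (CartesianMonoidalCategory.lift μ[H] (snd H H)).left :=
    inferInstanceAs (IsIso ((Over.forget S).map (CartesianMonoidalCategory.lift μ[H] (snd H H))))
  infer_instance

end Groth.Agent.S18383
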