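import Groth.Statements.S0347
import Groth.Agent.S18383
import Mathlib.AlgebraicGeometry.Morphisms.UniversallyOpen
-- import your own Groth.Agent.* helpers here

set_option autoImplicit false
universe u v
open CategoryTheory MonoidalCategory CartesianMonoidalCategory MonObj GrpObj AlgebraicGeometry
open GrpSch

namespace Groth.Agent.S0347

/-- The multiplication map of a group scheme over a field is an open map of topological spaces. -/
theorem result (K : Type u) [Field K] (G : Over (Spec (CommRingCat.of K))) [GrpObj G] : IsOpenMap (μ[G].left : (G ⊗ G).left ⟶ G.left) := by
  have hfac : μ[G] = CartesianMonoidalCategory.lift μ[G] (snd G G) ≫ fst G G := by simp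
  have h2 : IsIso (CartesianMonoidalCategory.lift μ[G] (snd G G)) := Groth.Agent.S18383.shear_isIso G
  have h3 : IsIso (CartesianMonoidalCategory.lift μ[G] (snd G G)).left :=
    inferInstanceAs (IsIso ((Over.forget _).map (CartesianMonoidalCategory.lift μ[G] (snd G G))))
  have h4 : UniversallyOpen G.hom := inferInstance
  have h5 : UniversallyOpen (fst G G).left := by
    rw [Over.fst_left]
    infer_instance
  have h6 : UniversallyOpen μ[G].left := by
    rw [hfac, Over.comp_left]
    infer_instance
  exact μ[G].left.isOpenMap

end Groth.Agent.S0347
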