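import Groth.Statements.S0349
import Mathlib
import Groth.Agent.S0351
import Groth.Agent.Lib.Helper28.GrpPts
-- import your own Groth.Agent.* helpers here

set_option autoImplicit false
universe u v
open CategoryTheory MonoidalCategory CartesianMonoidalCategory MonObj GrpObj AlgebraicGeometry
open GrpSch

namespace Groth.Agent.S0349

open Groth.Agent.Lib.helper28.GrpPts

/-- An irreducible group scheme over a field is quasi-compact. -/
theorem result (K : Type u) [Field K] (G : Over (Spec (CommRingCat.of K))) [GrpObj G] [IrreducibleSpace G.left] : CompactSpace G.left := by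
  obtain ⟨x₀⟩ := (inferInstance : Nonempty G.left)
  obtain ⟨U, hU, hxU⟩ : ∃ U : G.left.Opens, IsAffineOpen U ∧ x₀ ∈ U := by
    obtain ⟨U', ⟨U, hU, rfl⟩, hxU, -⟩ :=
      (G.left.isBasis_affineOpens).exists_subset_of_mem_open (Set.mem_univ x₀) isOpen_univ
    exact ⟨U, hU, hxU⟩
  have hcover : Set.range ⇑(((Over.homMk U.ι rfl : Over.mk (U.ι ≫ G.hom) ⟶ G) ⊗ₘ
      (Over.homMk U.ι rfl : Over.mk (U.ι ≫ G.hom) ⟶ G)) ≫ μ[G]).left = Set.univ := by
    rw [Set.eq_univ_iff_forall]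
    intro g
    rw [range_tensorHom_mul]
    have h2 : Set.range ⇑(Over.homMk U.ι rfl : Over.mk (U.ι ≫ G.hom) ⟶ G).left = U :=
      Scheme.Opens.range_ι U
    simp only [Set.mem_setOf_eq, h2]
    have hO := Groth.Agent.S0351.translate_open K G (ι[G].left ⁻¹ᵁ U) g
    obtain ⟨g₃', hg₃'⟩ := Mul3.exists_mul G g (ι[G].left x₀)
    have hne : {g₃ | ∃ g₂ ∈ ι[G].left ⁻¹ᵁ U, Mul3 G g g₂ g₃}.Nonempty :=
      ⟨g₃', ι[G].left x₀, by
        show ι[G].left (ι[G].left x₀) ∈ U
        rw [inv_inv_apply]; exact hxU, hg₃'⟩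
    obtain ⟨g₃, ⟨g₂, hg₂, hm⟩, hg₃U⟩ :=
      nonempty_preirreducible_inter hO U.isOpen hne ⟨x₀, hxU⟩
    exact ⟨g₃, hg₃U, ι[G].left g₂, hg₂, hm.rot_right⟩
  have haff : IsAffine U.toScheme := hU
  have hc : CompactSpace ((Over.mk (U.ι ≫ G.hom) ⊗ Over.mk (U.ι ≫ G.hom) :
      Over (Spec (CommRingCat.of K)))).left :=
    inferInstanceAs (CompactSpace ↥(Limits.pullback (U.ι ≫ G.hom) (U.ι ≫ G.hom)))
  rw [← isCompact_univ_iff, ← hcover]
  exact isCompact_range (Scheme.Hom.continuous _)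

end Groth.Agent.S0349
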