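import Groth.Statements.S0350
import Mathlib
import Groth.Agent.Lib.Helper3.GrpIrrPt

set_option autoImplicit false
universe u v
open CategoryTheory MonoidalCategory CartesianMonoidalCategory MonObj GrpObj AlgebraicGeometry
open GrpSch

namespace Groth.Agent.S0350


open Groth.Agent.Lib.helper3

/-- if `x` lies on only one irreducible component, its local ring has only one minimal prime -/
theorem minimalPrimes_subsingleton_of_components {X : Scheme.{u}} (x : X)
    (h : ∀ T₁ ∈ irreducibleComponents X, ∀ T₂ ∈ irreducibleComponents X, x ∈ T₁ → x ∈ T₂ → T₁ = T₂) :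
    (minimalPrimes (X.presheaf.stalk x)).Subsingleton := by
  have hemb : Topology.IsEmbedding (X.fromSpecStalk x) := (X.fromSpecStalk x).isEmbedding
  -- the irreducible component attached to a minimal prime
  have key : ∀ p ∈ minimalPrimes (X.presheaf.stalk x), ∀ hp : p.IsPrime,
      closure {X.fromSpecStalk x ⟨p, hp⟩} ∈ irreducibleComponents X ∧
        x ∈ closure {X.fromSpecStalk x ⟨p, hp⟩} := by
    intro p hpmin hp
    set y := X.fromSpecStalk x ⟨p, hp⟩ with hy
    have hyx : y ⤳ x := by
      have : y ∈ Set.range (X.fromSpecStalk x) := ⟨_, rfl⟩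
      rwa [Scheme.range_fromSpecStalk] at this
    refine ⟨⟨isIrreducible_singleton.closure, ?_⟩, hyx.mem_closure⟩
    intro S hS hle
    obtain ⟨w, hw⟩ := QuasiSober.sober hS.closure isClosed_closure
    have hwy : w ⤳ y := hw.specializes (subset_closure (hle (subset_closure rfl)))
    have hwx : w ⤳ x := hwy.trans hyx
    obtain ⟨q, rfl⟩ : w ∈ Set.range (X.fromSpecStalk x) := by
      rw [Scheme.range_fromSpecStalk]; exact hwx
    have hqp : q ⤳ ⟨p, hp⟩ := hemb.isInducing.specializes_iff.mp hwy
    have hqp' : q.asIdeal ≤ p :=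
      (PrimeSpectrum.le_iff_specializes (R := X.presheaf.stalk x) q ⟨p, hp⟩).mpr hqp
    have hpq : p ≤ q.asIdeal := hpmin.2 ⟨q.isPrime, bot_le⟩ hqp'
    have hq : q = ⟨p, hp⟩ := PrimeSpectrum.ext (le_antisymm hqp' hpq)
    intro z hz
    have : z ∈ closure S := subset_closure hz
    rw [← isGenericPoint_def.mp hw, hq] at this
    exact this
  intro p₁ hp₁ p₂ hp₂
  have hp₁' : p₁.IsPrime := hp₁.1.1
  have hp₂' : p₂.IsPrime := hp₂.1.1
  obtain ⟨h1, hx1⟩ := key p₁ hp₁ hp₁'
  obtain ⟨h2, hx2⟩ := key p₂ hp₂ hp₂'
  have heq := h _ h1 _ h2 hx1 hx2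
  have hgen : IsGenericPoint (X.fromSpecStalk x ⟨p₁, hp₁'⟩)
      (closure {X.fromSpecStalk x ⟨p₂, hp₂'⟩}) := heq ▸ isGenericPoint_closure
  have := hgen.eq isGenericPoint_closure
  have := hemb.injective this
  exact congrArg PrimeSpectrum.asIdeal this

/-- Let G be a group scheme over a field K. Then for every point x of G the local ring O_{G,x} has at
most one (hence exactly one) minimal prime, and there is exactly one irreducible component of G
passing through the identity point. The published statement also asserts that this component is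
geometrically irreducible, which is not asserted here. -/
theorem result (K : Type u) [Field K] (G : Over (Spec (CommRingCat.of K))) [GrpObj G] : (∀ x : G.left, (minimalPrimes (G.left.presheaf.stalk x)).Subsingleton) ∧ ∃! Z : Set G.left, Z ∈ irreducibleComponents (G.left : Type u) ∧ η[G].left (IsLocalRing.closedPoint K) ∈ Z := by
  refine ⟨fun x => minimalPrimes_subsingleton_of_components x
    (fun T₁ h₁ T₂ h₂ hx₁ hx₂ => GrpIrrPt.eq_of_mem_inter G h₁ h₂ x hx₁ hx₂), ?_⟩
  refine ⟨irreducibleComponent (GrpIrr.e G),
    ⟨irreducibleComponent_mem_irreducibleComponents _, mem_irreducibleComponent⟩, ?_⟩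
  rintro Z ⟨hZ, he⟩
  exact GrpIrrPt.eq_of_mem_inter G hZ (irreducibleComponent_mem_irreducibleComponents _)
    (GrpIrr.e G) he mem_irreducibleComponent

end Groth.Agent.S0350
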