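import Groth.Statements.S0352
import Mathlib
import Groth.Agent.S7459
-- import your own Groth.Agent.* helpers here

set_option autoImplicit false
universe u v
open CategoryTheory MonoidalCategory CartesianMonoidalCategory MonObj GrpObj AlgebraicGeometry
open GrpSch

namespace Groth.Agent.S0352

lemma key (K : Type u) [Field K] (H G : Over (Spec (CommRingCat.of K))) [GrpObj H] [GrpObj G]
    (ψ : H ⟶ G) [IsMonHom ψ] (r : G.left) (hr : r ∈ closure (Set.range ψ.left))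
    (T' W' : Over (Spec (CommRingCat.of K))) [Nonempty T'.left] (f' : T' ⟶ G) (wι : W' ⟶ G)
    [IsOpenImmersion wι.left]
    (hζ : ∀ x, f'.left x = r) (hrange : Set.range ⇑wι.left = Set.range ψ.left)
    (hopenm : IsOpen (Set.range ⇑((f' ⊗ₘ wι) ≫ μ[G]).left)) : r ∈ Set.range ψ.left := by
  -- Step 2 : r ∈ range m
  have hone : (toUnit T' ≫ η[G]) = (toUnit T' ≫ η[H]) ≫ ψ := by
    rw [Category.assoc, IsMonHom.one_hom]
  have hwrange : Set.range ⇑(toUnit T' ≫ η[G]).left ⊆ Set.range ⇑wι.left := by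
    rintro _ ⟨x, rfl⟩
    rw [hrange, hone, Over.comp_left]
    simp only [Scheme.Hom.comp_apply]
    exact ⟨_, rfl⟩
  obtain ⟨w₀, hw₀⟩ : ∃ w₀ : T'.left ⟶ W'.left, w₀ ≫ wι.left = (toUnit T' ≫ η[G]).left :=
    ⟨IsOpenImmersion.lift wι.left _ hwrange, IsOpenImmersion.lift_fac _ _ _⟩
  have hw₀' : w₀ ≫ W'.hom = T'.hom := by
    rw [← Over.w wι, ← Category.assoc, hw₀, Over.w]
  obtain ⟨w', hw'⟩ : ∃ w' : T' ⟶ W', w' ≫ wι = toUnit T' ≫ η[G] := by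
    refine ⟨Over.homMk w₀ hw₀', ?_⟩
    apply Over.OverMorphism.ext
    rw [Over.comp_left]
    exact hw₀
  have hpm : lift (𝟙 T') w' ≫ (f' ⊗ₘ wι) ≫ μ[G] = f' := by
    rw [← Category.assoc, lift_map, Category.id_comp, hw', ← Hom.mul_def, ← Hom.one_def,
      _root_.mul_one]
  have hrm : r ∈ Set.range ⇑((f' ⊗ₘ wι) ≫ μ[G]).left := by
    have h1 : (lift (𝟙 T') w').left ≫ ((f' ⊗ₘ wι) ≫ μ[G]).left = f'.left := by
      rw [← Over.comp_left, hpm]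
    obtain ⟨x⟩ := (inferInstance : Nonempty T'.left)
    refine ⟨(lift (𝟙 T') w').left x, ?_⟩
    rw [← Scheme.Hom.comp_apply, h1, hζ]
  -- Step 3
  obtain ⟨y, ⟨q, hq⟩, ⟨r₁, hr₁⟩⟩ := mem_closure_iff.mp hr _ hopenm hrm
  -- Step 4
  obtain ⟨q₁, hq₁, -⟩ := Scheme.Pullback.exists_preimage_pullback
    (f := ((f' ⊗ₘ wι) ≫ μ[G]).left) (g := ψ.left) q r₁ (hq.trans hr₁.symm)
  have hwq : (snd T' W' ≫ wι).left q ∈ Set.range ψ.left := by
    rw [← hrange, Over.comp_left, Scheme.Hom.comp_apply]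
    exact ⟨_, rfl⟩
  obtain ⟨r₂, hr₂⟩ := hwq
  obtain ⟨q₂, hq₂, -⟩ := Scheme.Pullback.exists_preimage_pullback
    (f := Limits.pullback.fst ((f' ⊗ₘ wι) ≫ μ[G]).left ψ.left ≫ (snd T' W' ≫ wι).left)
    (g := ψ.left) q₁ r₂
    (by rw [Scheme.Hom.comp_apply, hq₁, hr₂])
  obtain ⟨T₂, q₂, σ, α, β, hαψ, hβψ⟩ : ∃ (T₂ : Scheme.{u}) (q₂ : T₂) (σ : T₂ ⟶ (T' ⊗ W').left)
      (α β : T₂ ⟶ H.left), α ≫ ψ.left = σ ≫ ((f' ⊗ₘ wι) ≫ μ[G]).left ∧
        β ≫ ψ.left = σ ≫ (snd T' W' ≫ wι).left := by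
    refine ⟨_, q₂, Limits.pullback.fst _ _ ≫ Limits.pullback.fst _ _,
      Limits.pullback.fst _ _ ≫ Limits.pullback.snd _ _, Limits.pullback.snd _ _, ?_, ?_⟩
    · rw [Category.assoc, Category.assoc, Limits.pullback.condition]
    · rw [← Limits.pullback.condition, Category.assoc]
  have hαo : α ≫ H.hom = σ ≫ (T' ⊗ W').hom := by
    rw [← Over.w ψ, ← Category.assoc, hαψ, Category.assoc, Over.w]
  have hβo : β ≫ H.hom = σ ≫ (T' ⊗ W').hom := by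
    rw [← Over.w ψ, ← Category.assoc, hβψ, Category.assoc, Over.w]
  obtain ⟨X, hX⟩ : ∃ X : Over (Spec (CommRingCat.of K)), X = Over.mk (σ ≫ (T' ⊗ W').hom) :=
    ⟨_, rfl⟩
  subst hX
  obtain ⟨σ', hσ'⟩ : ∃ σ' : Over.mk (σ ≫ (T' ⊗ W').hom) ⟶ T' ⊗ W', σ'.left = σ :=
    ⟨Over.homMk σ rfl, rfl⟩
  obtain ⟨α', hα'⟩ : ∃ α' : Over.mk (σ ≫ (T' ⊗ W').hom) ⟶ H, α'.left = α :=
    ⟨Over.homMk α hαo, rfl⟩
  obtain ⟨β', hβ'⟩ : ∃ β' : Over.mk (σ ≫ (T' ⊗ W').hom) ⟶ H, β'.left = β :=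
    ⟨Over.homMk β hβo, rfl⟩
  have e1 : α' ≫ ψ = σ' ≫ (f' ⊗ₘ wι) ≫ μ[G] := by
    apply Over.OverMorphism.ext
    rw [Over.comp_left, Over.comp_left, hα', hσ', hαψ]
  have e2 : β' ≫ ψ = σ' ≫ snd T' W' ≫ wι := by
    apply Over.OverMorphism.ext
    rw [Over.comp_left, Over.comp_left, hβ', hσ', hβψ]
  have e3 : (f' ⊗ₘ wι) ≫ μ[G] = (fst T' W' ≫ f') * (snd T' W' ≫ wι) := by
    rw [Hom.mul_def, lift_fst_comp_snd_comp]
  have e4 : (α' * β'⁻¹) ≫ ψ = σ' ≫ fst T' W' ≫ f' := by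
    rw [MonObj.mul_comp, GrpObj.inv_comp, e1, e2, e3, MonObj.comp_mul, mul_inv_cancel_right]
  refine ⟨(α' * β'⁻¹).left q₂, ?_⟩
  rw [← Scheme.Hom.comp_apply, ← Over.comp_left, e4]
  simp only [Over.comp_left, Scheme.Hom.comp_apply, hζ]

/-- If the image of a homomorphism of group schemes over a field is open, it is also closed. -/
theorem result (K : Type u) [Field K] (H G : Over (Spec (CommRingCat.of K))) [GrpObj H] [GrpObj G] (ψ : H ⟶ G) [IsMonHom ψ] (h : IsOpen (Set.range ψ.left)) : IsClosed (Set.range ψ.left) := by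
  rw [← closure_subset_iff_isClosed]
  intro r hr
  obtain ⟨Wo, hWo⟩ : ∃ Wo : G.left.Opens, (Wo : Set G.left) = Set.range ψ.left :=
    ⟨⟨Set.range ψ.left, h⟩, rfl⟩
  obtain ⟨ζ, hζ⟩ : ∃ ζ : Spec (G.left.residueField r) ⟶ G.left, ∀ x, ζ x = r :=
    ⟨G.left.fromSpecResidueField r, fun x => Scheme.fromSpecResidueField_apply r x⟩
  have hopenm := Groth.Agent.S7459.result K G Wo _ ζ
  have hne : Nonempty (Over.mk (ζ ≫ G.hom)).left :=
    inferInstanceAs (Nonempty (Spec (G.left.residueField r)))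
  have hoi : IsOpenImmersion (Over.homMk Wo.ι rfl : Over.mk (Wo.ι ≫ G.hom) ⟶ G).left :=
    inferInstanceAs (IsOpenImmersion Wo.ι)
  have hrange : Set.range ⇑(Over.homMk Wo.ι rfl : Over.mk (Wo.ι ≫ G.hom) ⟶ G).left =
      Set.range ψ.left := by
    rw [← hWo]
    exact Scheme.Opens.range_ι Wo
  exact key K H G ψ r hr (Over.mk (ζ ≫ G.hom)) (Over.mk (Wo.ι ≫ G.hom))
    (Over.homMk ζ rfl) (Over.homMk Wo.ι rfl) hζ hrange hopenm

end Groth.Agent.S0352
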