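import Groth.Statements.S0353
import Groth.Agent.Lib.Helper7.CartierSmooth
import Groth.Agent.Lib.Helper7.GrpOmega

set_option autoImplicit false
universe u v
open CategoryTheory MonoidalCategory CartesianMonoidalCategory MonObj GrpObj AlgebraicGeometry
open GrpSch

namespace Groth.Agent.S0353

/-- A group scheme locally of finite type over a field of characteristic zero is smooth over the field. -/
theorem result (K : Type u) [Field K] (G : Over (Spec (CommRingCat.of K))) [GrpObj G] [CharZero K] [LocallyOfFiniteType G.hom] : Smooth G.hom := by
  haveI : IsLocallyNoetherian G.left := LocallyOfFiniteType.isLocallyNoetherian G.hom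
  haveI : QuasiSeparatedSpace G.left := inferInstance
  haveI : QuasiSeparated G.hom := inferInstance
  obtain ⟨I, ⟨θ⟩⟩ := Groth.Agent.Lib.helper7.GrpOmega.omega_free (Spec (CommRingCat.of K)) G K
    ⟨Iso.refl _⟩
  exact Groth.Agent.Lib.helper7.CartierSmooth.smooth_of_omega_free G.hom I θ

end Groth.Agent.S0353
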