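import Groth.Statements.S0358
import Groth.Agent.Lib.Helper24.FlatDepth8
-- import your own Groth.Agent.* helpers here

set_option autoImplicit false
universe u v
open LocCoh

namespace Groth.Agent.S0358

/-- For a flat local homomorphism R → S of Noetherian local rings whose closed fibre S/m_R S is
Cohen–Macaulay, and a proper ideal I of S, the I-depth of S is at least dim(S/m_R S) − dim(S/(m_R S
+ I)); stated additively. -/
theorem result (R : Type u) [CommRing R] [IsLocalRing R] [IsNoetherianRing R] (S : Type u) [CommRing S] [IsLocalRing S] [IsNoetherianRing S] [Algebra R S] [IsLocalHom (algebraMap R S)] [Module.Flat R S] (hCM : LocCoh.IsCohenMacaulayLocalRing (S ⧸ (IsLocalRing.maximalIdeal R).map (algebraMap R S))) (I : Ideal S) (hI : I ≠ ⊤) : ringKrullDim (S ⧸ (IsLocalRing.maximalIdeal R).map (algebraMap R S)) ≤ ringKrullDim (S ⧸ ((IsLocalRing.maximalIdeal R).map (algebraMap R S) ⊔ I)) + ((LocCoh.idealDepth I S : ℕ∞) : WithBot ℕ∞) := by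
  haveI hloc : IsLocalRing (S ⧸ (IsLocalRing.maximalIdeal R).map (algebraMap R S)) :=
    hCM.toIsLocalRing
  have hle : (IsLocalRing.maximalIdeal R).map (algebraMap R S) ≤ IsLocalRing.maximalIdeal S :=
    Groth.Agent.Lib.Helper24.FlatDimFormula.map_le_maximalIdeal R S
  have hJtop : I.map (Ideal.Quotient.mk ((IsLocalRing.maximalIdeal R).map (algebraMap R S))) ≠ ⊤ := by
    intro h
    have hc := congrArg (Ideal.comap (Ideal.Quotient.mk
      ((IsLocalRing.maximalIdeal R).map (algebraMap R S)))) h
    rw [Ideal.comap_map_of_surjective _ Ideal.Quotient.mk_surjective, ← RingHom.ker_eq_comap_bot,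
      Ideal.mk_ker, Ideal.comap_top] at hc
    have h2 : I ⊔ (IsLocalRing.maximalIdeal R).map (algebraMap R S) ≤ IsLocalRing.maximalIdeal S :=
      sup_le (IsLocalRing.le_maximalIdeal hI) hle
    rw [hc] at h2
    exact (IsLocalRing.maximalIdeal.isMaximal S).ne_top (top_le_iff.mp h2)
  have h := Groth.Agent.Lib.helper26.Depth.supportDim_eq_supportDim_quotient_add_idealDepth
    (A := S ⧸ (IsLocalRing.maximalIdeal R).map (algebraMap R S))
    (I.map (Ideal.Quotient.mk ((IsLocalRing.maximalIdeal R).map (algebraMap R S)))) hJtop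
    (S ⧸ (IsLocalRing.maximalIdeal R).map (algebraMap R S)) hCM.supportDim_eq_depth
  rw [Module.supportDim_self_eq_ringKrullDim] at h
  have hsm : (I.map (Ideal.Quotient.mk ((IsLocalRing.maximalIdeal R).map (algebraMap R S)))) •
      (⊤ : Submodule (S ⧸ (IsLocalRing.maximalIdeal R).map (algebraMap R S))
        (S ⧸ (IsLocalRing.maximalIdeal R).map (algebraMap R S))) =
      I.map (Ideal.Quotient.mk ((IsLocalRing.maximalIdeal R).map (algebraMap R S))) := by
    rw [smul_eq_mul, Ideal.mul_top]
  have h2 : Module.supportDim (S ⧸ (IsLocalRing.maximalIdeal R).map (algebraMap R S))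
      ((S ⧸ (IsLocalRing.maximalIdeal R).map (algebraMap R S)) ⧸
        ((I.map (Ideal.Quotient.mk ((IsLocalRing.maximalIdeal R).map (algebraMap R S)))) •
          (⊤ : Submodule (S ⧸ (IsLocalRing.maximalIdeal R).map (algebraMap R S))
            (S ⧸ (IsLocalRing.maximalIdeal R).map (algebraMap R S))))) =
      ringKrullDim (S ⧸ ((IsLocalRing.maximalIdeal R).map (algebraMap R S) ⊔ I)) := by
    rw [Module.supportDim_eq_of_equiv (Submodule.quotEquivOfEq _ _ hsm),
      Module.supportDim_quotient_eq_ringKrullDim]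
    exact ringKrullDim_eq_of_ringEquiv (DoubleQuot.quotQuotEquivQuotSup _ I)
  have h3 : LocCoh.idealDepth I (S ⧸ (IsLocalRing.maximalIdeal R).map (algebraMap R S)) =
      LocCoh.idealDepth (I.map (Ideal.Quotient.mk ((IsLocalRing.maximalIdeal R).map (algebraMap R S))))
        (S ⧸ (IsLocalRing.maximalIdeal R).map (algebraMap R S)) :=
    Groth.Agent.Lib.helper26.Depth.idealDepth_map_eq (A := S)
      (B := S ⧸ (IsLocalRing.maximalIdeal R).map (algebraMap R S)) I
      (S ⧸ (IsLocalRing.maximalIdeal R).map (algebraMap R S))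
  have h4 := Groth.Agent.Lib.Helper24.FlatDepth.idealDepth_closedFibre_le R S I hI
  rw [h, h2, ← h3]
  exact add_le_add_right (WithBot.coe_le_coe.mpr h4) _

end Groth.Agent.S0358
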