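import Groth.Statements.S0360
import Mathlib
import Groth.Agent.Lib.Helper10.NatTransDelta
import Groth.Agent.Lib.Helper7.TorAPI3
import Groth.Agent.Lib.Helper10.TorColim
import Groth.Agent.Lib.Helper10.Devissage
import Groth.Agent.Lib.Helper10.ExtShift

set_option autoImplicit false
universe u v
open CategoryTheory
open LocCoh

namespace Groth.Agent.S0360

set_option linter.style.haveILetI false

open CategoryTheory.Limits MonoidalCategory Groth.Agent.Lib.helper7.TorAPI
open Groth.Agent.Lib.helper10.NatTransLESNat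
open scoped TensorProduct

variable {R : Type u} [CommRing R]

/-- core tensor lemma -/
theorem tensor_zero_of_mem (I : Ideal R) {F : Type u} [AddCommGroup F] [Module R F]
    (K : Submodule R F) (a b : ℕ) (hba : b ≤ a)
    (hmem : ∀ k : K, (k : F) ∈ I ^ a • (⊤ : Submodule R F) → (k : F) ∈ I ^ b • K)
    (z : K ⊗[R] (R ⧸ I ^ a)) (hz : (K.subtype.rTensor (R ⧸ I ^ a)) z = 0) :
    (LinearMap.lTensor K (Submodule.factor (Ideal.pow_le_pow_right hba))) z = 0 := by
  have hk : ∀ z : K ⊗[R] (R ⧸ I ^ a), ∃ k : K, k ⊗ₜ[R] (1 : R ⧸ I ^ a) = z := by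
    intro z
    induction z using TensorProduct.induction_on with
    | zero => exact ⟨0, TensorProduct.zero_tmul _ _⟩
    | tmul x y =>
      obtain ⟨r, rfl⟩ := Ideal.Quotient.mk_surjective y
      refine ⟨r • x, ?_⟩
      rw [TensorProduct.smul_tmul]
      congr 1
      rw [Algebra.smul_def, mul_one]
      rfl
    | add a b ha hb =>
      obtain ⟨ka, rfl⟩ := ha
      obtain ⟨kb, rfl⟩ := hb
      exact ⟨ka + kb, TensorProduct.add_tmul _ _ _⟩
  obtain ⟨k, rfl⟩ := hk z
  rw [LinearMap.rTensor_tmul] at hz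
  have h1 : (k : F) ∈ I ^ a • (⊤ : Submodule R F) := by
    have := congrArg (TensorProduct.tensorQuotEquivQuotSMul F (I ^ a)) hz
    rw [map_zero, ← map_one (Ideal.Quotient.mk (I ^ a)),
      TensorProduct.tensorQuotEquivQuotSMul_tmul_mk, one_smul,
      Submodule.Quotient.mk_eq_zero] at this
    exact this
  have h2 : (k : F) ∈ I ^ b • K := hmem k h1
  have h4 : k ∈ I ^ b • (⊤ : Submodule R K) := by
    have : I ^ b • K = (I ^ b • (⊤ : Submodule R K)).map K.subtype := by
      rw [Submodule.map_smul'', Submodule.map_top, Submodule.range_subtype]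
    rw [this] at h2
    obtain ⟨k', hk', hk'k⟩ := h2
    have : k' = k := Subtype.ext hk'k
    rw [← this]
    exact hk'
  rw [LinearMap.lTensor_tmul]
  apply (TensorProduct.tensorQuotEquivQuotSMul K (I ^ b)).injective
  have h5 : Submodule.factor (Ideal.pow_le_pow_right hba) (1 : R ⧸ I ^ a) =
    Ideal.Quotient.mk (I ^ b) 1 := rfl
  rw [map_zero, h5, TensorProduct.tensorQuotEquivQuotSMul_tmul_mk, one_smul,
    Submodule.Quotient.mk_eq_zero]
  exact h4

/-- uniform Artin–Rees in tensor form -/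
theorem ar_tensor [IsNoetherianRing R] (I : Ideal R) {F : Type u} [AddCommGroup F] [Module R F]
    [Module.Finite R F] (K : Submodule R F) :
    ∃ c : ℕ, ∀ (a b : ℕ) (h : b + c ≤ a) (z : K ⊗[R] (R ⧸ I ^ a)),
      (K.subtype.rTensor (R ⧸ I ^ a)) z = 0 →
      (LinearMap.lTensor K (Submodule.factor
        (Ideal.pow_le_pow_right (show b ≤ a by omega)))) z = 0 := by
  obtain ⟨c, hc⟩ := Ideal.exists_pow_inf_eq_pow_smul I K
  refine ⟨c, fun a b h z hz => tensor_zero_of_mem I K a b (by omega) ?_ z hz⟩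
  intro k h1
  have h3 : (k : F) ∈ I ^ a • (⊤ : Submodule R F) ⊓ K := ⟨h1, k.2⟩
  rw [hc a (by omega)] at h3
  have h6 : I ^ (a - c) ≤ I ^ b := Ideal.pow_le_pow_right (by omega)
  exact Submodule.smul_mono h6 inf_le_right h3

/-- the torsion version -/
theorem tors_tensor (I : Ideal R) {F : Type u} [AddCommGroup F] [Module R F]
    (K : Submodule R F) (m : ℕ) (hK : I ^ m • (⊤ : Submodule R F) ≤ K)
    (a b : ℕ) (h : b + m ≤ a) (z : K ⊗[R] (R ⧸ I ^ a))
    (hz : (K.subtype.rTensor (R ⧸ I ^ a)) z = 0) :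
    (LinearMap.lTensor K (Submodule.factor
        (Ideal.pow_le_pow_right (show b ≤ a by omega)))) z = 0 := by
  refine tensor_zero_of_mem I K a b (by omega) ?_ z hz
  intro k h1
  have h2 : I ^ a • (⊤ : Submodule R F) ≤ I ^ b • K := by
    have : a = (a - m) + m := by omega
    rw [this, pow_add, Submodule.mul_smul]
    exact Submodule.smul_mono (Ideal.pow_le_pow_right (by omega)) hK
  exact h2 h1

section framework

variable (I : Ideal R)

/-- the projection `R/I^a → R/I^b` -/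
noncomputable def πab (a b : ℕ) (h : b ≤ a) :
    ModuleCat.of R (R ⧸ I ^ a) ⟶ ModuleCat.of R (R ⧸ I ^ b) :=
  ModuleCat.ofHom (Submodule.factor (Ideal.pow_le_pow_right h))

theorem πab_comp (a b c : ℕ) (h₁ : b ≤ a) (h₂ : c ≤ b) :
    πab I a b h₁ ≫ πab I b c h₂ = πab I a c (h₂.trans h₁) := by
  apply ModuleCat.hom_ext
  apply LinearMap.ext
  intro x
  obtain ⟨r, rfl⟩ := Ideal.Quotient.mk_surjective x
  rfl

/-- the maps `Tor_i(M, R/I^a) → Tor_i(M, R/I^b)` vanish for `a ≥ b + c` -/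
def Zp (M : ModuleCat.{u} R) (i c : ℕ) : Prop :=
  ∀ (a b : ℕ) (h : b + c ≤ a), (T i M).map (πab I a b (by omega)) = 0

variable {S : ShortComplex (ModuleCat.{u} R)} (hS : S.ShortExact)

include hS in
theorem Zp_shift (i c₁ c₂ : ℕ) (h₁ : Zp I S.X₁ i c₁) (h₂ : Zp I S.X₂ (i + 1) c₂) :
    Zp I S.X₃ (i + 1) (c₁ + c₂) := by
  intro a b h
  let α := (tensoringLeft (ModuleCat.{u} R)).map S.f
  let β := (tensoringLeft (ModuleCat.{u} R)).map S.g
  have w : α ≫ β = 0 := tensoringLeft_map_comp_eq_zero S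
  have hex : ∀ (P : ModuleCat.{u} R) [Projective P],
      (ShortComplex.mk (α.app P) (β.app P)
        (Groth.Agent.Lib.helper7.NatTransLES.app_zero α β w P)).ShortExact :=
    fun P _ => tensoringLeft_shortExact hS P
  let D := Δ α β w hex i
  let Na : ModuleCat.{u} R := ModuleCat.of R (R ⧸ I ^ a)
  let Nm : ModuleCat.{u} R := ModuleCat.of R (R ⧸ I ^ (b + c₂))
  let Nb : ModuleCat.{u} R := ModuleCat.of R (R ⧸ I ^ b)
  let ν₁ : Na ⟶ Nm := πab I a (b + c₂) (by omega)
  let ν₂ : Nm ⟶ Nb := πab I (b + c₂) b (by omega)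
  have hν : πab I a b (by omega) = ν₁ ≫ ν₂ := (πab_comp I a (b + c₂) b _ _).symm
  rw [hν, Functor.map_comp]
  let Da : (T (i + 1) S.X₃).obj Na ⟶ (T i S.X₁).obj Na := D.app Na
  let Dm : (T (i + 1) S.X₃).obj Nm ⟶ (T i S.X₁).obj Nm := D.app Nm
  have hnat : (T (i + 1) S.X₃).map ν₁ ≫ Dm = Da ≫ (T i S.X₁).map ν₁ := D.naturality ν₁
  have hz1 : (T (i + 1) S.X₃).map ν₁ ≫ Dm = 0 := by
    rw [hnat, h₁ a (b + c₂) (by omega), comp_zero]
  have hexm := exact_map_Δ α β w hex Nm i
  have hexm' := (ShortComplex.ShortExact.moduleCat_exact_iff_function_exact _).1 hexm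
  apply ModuleCat.hom_ext
  apply LinearMap.ext
  intro ξ
  have h3 : Dm ((T (i + 1) S.X₃).map ν₁ ξ) = 0 := ConcreteCategory.congr_hom hz1 ξ
  obtain ⟨η, hη⟩ := (hexm' _).1 h3
  change (T (i + 1) S.X₃).map ν₂ ((T (i + 1) S.X₃).map ν₁ ξ) = 0
  rw [← hη]
  have hnat2 : T₁map (i + 1) S.g Nm ≫ (T (i + 1) S.X₃).map ν₂ =
      (T (i + 1) S.X₂).map ν₂ ≫ T₁map (i + 1) S.g Nb :=
    (((Tor (ModuleCat.{u} R) (i + 1)).map S.g).naturality ν₂).symm
  have h4 := ConcreteCategory.congr_hom hnat2 η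
  change (T (i + 1) S.X₃).map ν₂ (T₁map (i + 1) S.g Nm η) = _ at h4
  change (T (i + 1) S.X₃).map ν₂ (T₁map (i + 1) S.g Nm η) = 0
  rw [h4]
  have h5 : (T (i + 1) S.X₂).map ν₂ = 0 := h₂ (b + c₂) b (by omega)
  change T₁map (i + 1) S.g Nb ((T (i + 1) S.X₂).map ν₂ η) = 0
  rw [h5]
  exact map_zero _

include hS in
theorem Zp_base [Module.Flat R S.X₂] (c : ℕ)
    (hAR : ∀ (a b : ℕ) (h : b + c ≤ a)
      (z : (S.X₁ ⊗ ModuleCat.of R (R ⧸ I ^ a) : ModuleCat.{u} R)),
      (S.f ▷ ModuleCat.of R (R ⧸ I ^ a)) z = 0 → (S.X₁ ◁ πab I a b (by omega)) z = 0) :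
    Zp I S.X₃ 1 c := by
  intro a b h
  let α := (tensoringLeft (ModuleCat.{u} R)).map S.f
  let β := (tensoringLeft (ModuleCat.{u} R)).map S.g
  have w : α ≫ β = 0 := tensoringLeft_map_comp_eq_zero S
  have hex : ∀ (P : ModuleCat.{u} R) [Projective P],
      (ShortComplex.mk (α.app P) (β.app P)
        (Groth.Agent.Lib.helper7.NatTransLES.app_zero α β w P)).ShortExact :=
    fun P _ => tensoringLeft_shortExact hS P
  let D := Δ α β w hex 0
  let X : ModuleCat.{u} R := ModuleCat.of R (R ⧸ I ^ a)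
  let Y : ModuleCat.{u} R := ModuleCat.of R (R ⧸ I ^ b)
  let π : X ⟶ Y := πab I a b (by omega)
  let DX : (T 1 S.X₃).obj X ⟶ (T 0 S.X₁).obj X := D.app X
  let DY : (T 1 S.X₃).obj Y ⟶ (T 0 S.X₁).obj Y := D.app Y
  have hmono : Mono DY := by
    have hz : IsZero ((T 1 S.X₂).obj Y) := isZero_T_flat S.X₂ Y 0
    exact (exact_map_Δ α β w hex Y 0).mono_g (hz.eq_of_src _ _)
  change (T 1 S.X₃).map π = 0
  rw [← cancel_mono DY, zero_comp]
  have hnat : (T 1 S.X₃).map π ≫ DY = DX ≫ (T 0 S.X₁).map π := D.naturality π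
  rw [hnat]
  let eX : (T 0 S.X₁).obj X ⟶ S.X₁ ⊗ X := (tor0Iso S.X₁).hom.app X
  let eY : (T 0 S.X₁).obj Y ⟶ S.X₁ ⊗ Y := (tor0Iso S.X₁).hom.app Y
  haveI : IsIso eY := inferInstanceAs (IsIso ((tor0Iso S.X₁).hom.app Y))
  haveI : Mono eY := IsIso.mono_of_iso eY
  rw [← cancel_mono eY, zero_comp, Category.assoc]
  have hnat2 : (T 0 S.X₁).map π ≫ eY = eX ≫ (S.X₁ ◁ π) := (tor0Iso S.X₁).hom.naturality π
  rw [hnat2]
  have hzero : (DX ≫ eX) ≫ (S.f ▷ X) = 0 := by
    rw [Category.assoc, ← tor0Iso_naturality₁ S.f X, ← Category.assoc]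
    have := Δ_comp_map α β w hex X 0
    change DX ≫ T₁map 0 S.f X = 0 at this
    rw [this, zero_comp]
  rw [← Category.assoc]
  apply ModuleCat.hom_ext
  apply LinearMap.ext
  intro t
  have h1 := ConcreteCategory.congr_hom hzero t
  exact hAR a b h _ h1

end framework

section additivity

theorem leftDerived_add {C D : Type*} [Category C] [Abelian C] [HasProjectiveResolutions C]
    [Category D] [Abelian D] {F G : C ⥤ D} [F.Additive] [G.Additive] (α β : F ⟶ G) (n : ℕ) :
    NatTrans.leftDerived (α + β) n = NatTrans.leftDerived α n + NatTrans.leftDerived β n := by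
  ext X
  obtain ⟨P⟩ : Nonempty (ProjectiveResolution X) := HasProjectiveResolution.out
  rw [NatTrans.app_add, ProjectiveResolution.leftDerived_app_eq (α + β) P,
    ProjectiveResolution.leftDerived_app_eq α P, ProjectiveResolution.leftDerived_app_eq β P]
  have h : (NatTrans.mapHomologicalComplex (α + β) (ComplexShape.down ℕ)).app P.complex =
      (NatTrans.mapHomologicalComplex α (ComplexShape.down ℕ)).app P.complex +
      (NatTrans.mapHomologicalComplex β (ComplexShape.down ℕ)).app P.complex := by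
    ext i
    simp
    rfl
  rw [h, Functor.map_add, Preadditive.add_comp, Preadditive.comp_add]

theorem T₁map_add (n : ℕ) {M M' : ModuleCat.{u} R} (f g : M ⟶ M') (N : ModuleCat.{u} R) :
    T₁map n (f + g) N = T₁map n f N + T₁map n g N := by
  rw [T₁map_eq, T₁map_eq, T₁map_eq]
  have : (tensoringLeft (ModuleCat.{u} R)).map (f + g) =
      (tensoringLeft (ModuleCat.{u} R)).map f + (tensoringLeft (ModuleCat.{u} R)).map g := by
    ext X : 2
    simp
  rw [this, leftDerived_add, NatTrans.app_add]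
  rfl

theorem T₁map_sum (n : ℕ) {M M' : ModuleCat.{u} R} {ι : Type*} (s : Finset ι)
    (f : ι → (M ⟶ M')) (N : ModuleCat.{u} R) :
    T₁map n (∑ j ∈ s, f j) N = ∑ j ∈ s, T₁map n (f j) N := by
  classical
  induction s using Finset.induction_on with
  | empty =>
    simp only [Finset.sum_empty]
    change ((Tor (ModuleCat.{u} R) n).map (0 : M ⟶ M')).app N = 0
    have h0 : (0 : M ⟶ M') = (0 : M ⟶ M) ≫ (0 : M ⟶ M') := by simp
    have : T₁map n (0 : M ⟶ M') N = T₁map n (0 : M ⟶ M') N + T₁map n (0 : M ⟶ M') N := by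
      conv_lhs => rw [← add_zero (0 : M ⟶ M')]
      exact T₁map_add n 0 0 N
    exact left_eq_add.mp this
  | insert a s ha ih =>
    rw [Finset.sum_insert ha, Finset.sum_insert ha, T₁map_add, ih]

theorem Zp_pi (I : Ideal R) (L : Type u) [AddCommGroup L] [Module R L] (k j c : ℕ)
    (h : Zp I (ModuleCat.of R L) j c) : Zp I (ModuleCat.of R (Fin k → L)) j c := by
  intro a b hab
  let Lk : ModuleCat.{u} R := ModuleCat.of R (Fin k → L)
  let L' : ModuleCat.{u} R := ModuleCat.of R L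
  let ι : Fin k → (L' ⟶ Lk) := fun s => ModuleCat.ofHom (LinearMap.single R (fun _ => L) s)
  let π : Fin k → (Lk ⟶ L') := fun s => ModuleCat.ofHom (LinearMap.proj s)
  have hid : 𝟙 Lk = ∑ s : Fin k, π s ≫ ι s := by
    apply ModuleCat.hom_ext
    apply LinearMap.ext
    intro x
    rw [ModuleCat.hom_sum, LinearMap.sum_apply]
    funext t
    rw [Finset.sum_apply]
    change x t = ∑ s : Fin k, (LinearMap.single R (fun _ => L) s (x s)) t
    simp [Pi.single_apply]
  let Na : ModuleCat.{u} R := ModuleCat.of R (R ⧸ I ^ a)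
  let Nb : ModuleCat.{u} R := ModuleCat.of R (R ⧸ I ^ b)
  let ν : Na ⟶ Nb := πab I a b (by omega)
  have h1 : T₁map j (𝟙 Lk) Na = 𝟙 _ := by
    change ((Tor (ModuleCat.{u} R) j).map (𝟙 Lk)).app Na = _
    rw [CategoryTheory.Functor.map_id]
    rfl
  have h2 : (T j Lk).map ν = T₁map j (𝟙 Lk) Na ≫ (T j Lk).map ν := by
    rw [h1, Category.id_comp]
  change (T j Lk).map ν = 0
  rw [h2, hid, T₁map_sum, Preadditive.sum_comp]
  apply Finset.sum_eq_zero
  intro s _
  have h3 : T₁map j (π s ≫ ι s) Na = T₁map j (π s) Na ≫ T₁map j (ι s) Na := by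
    change ((Tor (ModuleCat.{u} R) j).map (π s ≫ ι s)).app Na = _
    rw [Functor.map_comp]
    rfl
  rw [h3, Category.assoc]
  have h4 : T₁map j (ι s) Na ≫ (T j Lk).map ν = (T j L').map ν ≫ T₁map j (ι s) Nb :=
    (((Tor (ModuleCat.{u} R) j).map (ι s)).naturality ν).symm
  rw [h4, h a b hab, zero_comp, comp_zero]

end additivity

section main

open Groth.Agent.Lib.helper10.ExtShift

variable [IsNoetherianRing R] (I : Ideal R)

omit [IsNoetherianRing R] in
theorem Zp_flat (F : ModuleCat.{u} R) [Module.Flat R F] (j c : ℕ) : Zp I F (j + 1) c := by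
  intro a b h
  exact (isZero_T_flat F _ j).eq_of_src _ _

theorem Zp_fg (i : ℕ) : ∀ (L : Type u) [AddCommGroup L] [Module R L] [Module.Finite R L],
    ∃ c, Zp I (ModuleCat.of R L) (i + 1) c := by
  induction i with
  | zero =>
    intro L _ _ _
    obtain ⟨k, p, hp⟩ := Module.Finite.exists_fin' R L
    let K : Submodule R (Fin k → R) := LinearMap.ker p
    have hip : Function.Exact K.subtype p := LinearMap.exact_subtype_ker_map p
    have hS := sc_shortExact R K.subtype p K.injective_subtype hip hp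
    obtain ⟨c, hc⟩ := ar_tensor I K
    haveI : Module.Flat R (sc R K.subtype p hip).X₂ :=
      inferInstanceAs (Module.Flat R (Fin k → R))
    refine ⟨c, Zp_base I hS c ?_⟩
    intro a b h z hz
    exact hc a b h z hz
  | succ i ih =>
    intro L _ _ _
    obtain ⟨k, p, hp⟩ := Module.Finite.exists_fin' R L
    let K : Submodule R (Fin k → R) := LinearMap.ker p
    have hip : Function.Exact K.subtype p := LinearMap.exact_subtype_ker_map p
    have hS := sc_shortExact R K.subtype p K.injective_subtype hip hp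
    obtain ⟨c, hc⟩ := ih K
    haveI : Module.Flat R (sc R K.subtype p hip).X₂ :=
      inferInstanceAs (Module.Flat R (Fin k → R))
    exact ⟨c + 0, Zp_shift I hS (i + 1) c 0 hc (Zp_flat I _ (i + 1) 0)⟩

theorem Zp_tors_fg (m i : ℕ) : ∃ c, ∀ (M : Type u) [AddCommGroup M] [Module R M]
    [Module.Finite R M], (∀ a ∈ I ^ m, ∀ x : M, a • x = 0) →
    Zp I (ModuleCat.of R M) (i + 1) c := by
  induction i with
  | zero =>
    refine ⟨m, ?_⟩
    intro M _ _ _ hM
    obtain ⟨k, p, hp⟩ := Module.Finite.exists_fin' R M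
    let K : Submodule R (Fin k → R) := LinearMap.ker p
    have hip : Function.Exact K.subtype p := LinearMap.exact_subtype_ker_map p
    have hS := sc_shortExact R K.subtype p K.injective_subtype hip hp
    haveI : Module.Flat R (sc R K.subtype p hip).X₂ :=
      inferInstanceAs (Module.Flat R (Fin k → R))
    have hK : I ^ m • (⊤ : Submodule R (Fin k → R)) ≤ K := by
      rw [Submodule.smul_le]
      intro a ha f _
      change p (a • f) = 0
      rw [map_smul]
      exact hM a ha _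
    refine Zp_base I hS m ?_
    intro a b h z hz
    exact tors_tensor I K m hK a b h z hz
  | succ i ih =>
    obtain ⟨c₁, h₁⟩ := ih
    obtain ⟨c₂, h₂⟩ := Zp_fg I (i + 1) (R ⧸ I ^ m)
    refine ⟨c₁ + c₂, ?_⟩
    intro M _ _ _ hM
    obtain ⟨k, p, hp⟩ := Module.Finite.exists_fin' R M
    -- descend `p` to `(R/I^m)^k`
    let q : Fin k → ((R ⧸ I ^ m) →ₗ[R] M) := fun s =>
      Submodule.liftQ (I ^ m) (LinearMap.toSpanSingleton R M (p (Pi.single s 1))) (by
        intro a ha
        rw [LinearMap.mem_ker, LinearMap.toSpanSingleton_apply]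
        exact hM a ha _)
    let pbar : (Fin k → (R ⧸ I ^ m)) →ₗ[R] M := LinearMap.lsum R (fun _ => R ⧸ I ^ m) R q
    have hpbar : Function.Surjective pbar := by
      intro x
      obtain ⟨f, rfl⟩ := hp x
      refine ⟨fun s => Ideal.Quotient.mk (I ^ m) (f s), ?_⟩
      change (LinearMap.lsum R (fun _ => R ⧸ I ^ m) R q) _ = _
      rw [LinearMap.lsum_apply, LinearMap.sum_apply]
      have hf : f = ∑ s, f s • (Pi.single s 1 : Fin k → R) := by
        funext t
        simp [Finset.sum_apply, Pi.single_apply]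
      conv_rhs => rw [hf, map_sum]
      apply Finset.sum_congr rfl
      intro s _
      rw [map_smul]
      change q s (Ideal.Quotient.mk (I ^ m) (f s)) = _
      change (LinearMap.toSpanSingleton R M (p (Pi.single s 1))) (f s) = _
      rw [LinearMap.toSpanSingleton_apply]
    let Kb : Submodule R (Fin k → (R ⧸ I ^ m)) := LinearMap.ker pbar
    have hip : Function.Exact Kb.subtype pbar := LinearMap.exact_subtype_ker_map pbar
    have hS := sc_shortExact R Kb.subtype pbar Kb.injective_subtype hip hpbar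
    have hKb : ∀ a ∈ I ^ m, ∀ x : Kb, a • x = 0 := by
      intro a ha x
      apply Subtype.ext
      funext t
      change a • (x : Fin k → (R ⧸ I ^ m)) t = 0
      obtain ⟨r, hr⟩ := Ideal.Quotient.mk_surjective ((x : Fin k → (R ⧸ I ^ m)) t)
      rw [← hr]
      change Ideal.Quotient.mk (I ^ m) (a * r) = 0
      exact Ideal.Quotient.eq_zero_iff_mem.2 (Ideal.mul_mem_right _ _ ha)
    exact Zp_shift I hS (i + 1) c₁ c₂ (h₁ Kb hKb) (Zp_pi I (R ⧸ I ^ m) k (i + 2) c₂ h₂)

open Groth.Agent.Lib.helper10.Devissage Groth.Agent.Lib.helper10.TorColim in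
omit [IsNoetherianRing R] in
theorem Zp_of_fg (M : Type u) [AddCommGroup M] [Module R M] (j c : ℕ)
    (h : ∀ α : FGSub (A := R) M, Zp I (ModuleCat.of R α.1) j c) :
    Zp I (ModuleCat.of R M) j c := by
  intro a b hab
  let Na : ModuleCat.{u} R := ModuleCat.of R (R ⧸ I ^ a)
  let Nb : ModuleCat.{u} R := ModuleCat.of R (R ⧸ I ^ b)
  let ν : Na ⟶ Nb := πab I a b (by omega)
  haveI := preservesColimitsOfShape_tor_flip j Na (FGSub (A := R) M)
  have hcol := isColimitOfPreserves ((Tor (ModuleCat.{u} R) j).flip.obj Na)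
    (fgIsColimit (A := R) M)
  apply ModuleCat.hom_ext
  apply LinearMap.ext
  intro ξ
  obtain ⟨α, y, hy⟩ := jointly_surjective_of_isColimit hcol ξ
  let Mα : ModuleCat.{u} R := ModuleCat.of R α.1
  let ια : Mα ⟶ ModuleCat.of R M := ModuleCat.ofHom α.1.subtype
  change T₁map j ια Na y = ξ at hy
  rw [← hy]
  have hnat : T₁map j ια Na ≫ (T j (ModuleCat.of R M)).map ν =
      (T j Mα).map ν ≫ T₁map j ια Nb :=
    (((Tor (ModuleCat.{u} R) j).map ια).naturality ν).symm
  have h1 := ConcreteCategory.congr_hom hnat y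
  change (T j (ModuleCat.of R M)).map ν (T₁map j ια Na y) = _ at h1
  change (T j (ModuleCat.of R M)).map ν (T₁map j ια Na y) = 0
  rw [h1]
  have h2 : (T j Mα).map ν = 0 := h α a b hab
  change T₁map j ια Nb ((T j Mα).map ν y) = 0
  rw [h2]
  exact map_zero _

open Groth.Agent.Lib.helper10.Devissage in
theorem main_final (m i : ℕ) (hi : 0 < i) : ∃ c : ℕ, ∀ (M : Type u) [AddCommGroup M] [Module R M], (∀ a ∈ I ^ m, ∀ x : M, a • x = 0) → ∀ n : ℕ, c ≤ n → (((Tor (ModuleCat.{u} R) i).obj (ModuleCat.of R M)).map (ModuleCat.ofHom (Submodule.mapQ (I ^ n) (I ^ (n - c)) LinearMap.id (Ideal.pow_le_pow_right (Nat.sub_le n c))))) = 0 := by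
  obtain ⟨i', rfl⟩ : ∃ i', i = i' + 1 := ⟨i - 1, by omega⟩
  obtain ⟨c, hc⟩ := Zp_tors_fg I m i'
  refine ⟨c, ?_⟩
  intro M _ _ hM n hn
  have hZ : Zp I (ModuleCat.of R M) (i' + 1) c := by
    apply Zp_of_fg
    intro α
    haveI : Module.Finite R α.1 := Module.Finite.iff_fg.2 α.2
    apply hc
    intro a ha x
    apply Subtype.ext
    exact hM a ha x
  exact hZ n (n - c) (by omega)

end main



/-- For an ideal I of a Noetherian ring and integers m ≥ 0, i > 0 there is c ≥ 0 such that for every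
module M killed by I^m and every n ≥ c the map Tor_i(M, R/I^n) → Tor_i(M, R/I^{n−c}) is zero. -/
theorem result (R : Type u) [CommRing R] [IsNoetherianRing R] (I : Ideal R) (m i : ℕ) (hi : 0 < i) : ∃ c : ℕ, ∀ (M : Type u) [AddCommGroup M] [Module R M], (∀ a ∈ I ^ m, ∀ x : M, a • x = 0) → ∀ n : ℕ, c ≤ n → (((Tor (ModuleCat.{u} R) i).obj (ModuleCat.of R M)).map (ModuleCat.ofHom (Submodule.mapQ (I ^ n) (I ^ (n - c)) LinearMap.id (Ideal.pow_le_pow_right (Nat.sub_le n c))))) = 0 := by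
  exact main_final I m i hi

end Groth.Agent.S0360
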