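import Groth.Statements.S0363
import Mathlib
import Groth.Agent.Lib.Helper19.TorDual2
import Groth.Agent.Lib.Helper19.MatlisLen
import Groth.Agent.S11665

set_option autoImplicit false
universe u v
open CategoryTheory
open Goren

namespace Groth.Agent.S0363

-- MARK
open IsLocalRing Groth.Agent.Lib.helper19.TorDual Groth.Agent.Lib.helper10.MinRes



/-- Over a Gorenstein local ring of dimension d with E an injective hull of the residue field κ,
Tor_i(E, κ) vanishes for i ≠ d and Tor_d(E, κ) is isomorphic to κ. -/
theorem result (A : Type u) [CommRing A] [LocCoh.IsGorensteinLocalRing A] (d : ℕ) (hd : ringKrullDim A = d) (E : Type u) [AddCommGroup E] [Module A E] (f : IsLocalRing.ResidueField A →ₗ[A] E) (hf : InjHull.IsInjectiveHull f) : (∀ i : ℕ, i ≠ d → Limits.IsZero (((Tor (ModuleCat.{u} A) i).obj (ModuleCat.of A E)).obj (ModuleCat.of A (IsLocalRing.ResidueField A)))) ∧ Nonempty ((((Tor (ModuleCat.{u} A) d).obj (ModuleCat.of A E)).obj (ModuleCat.of A (IsLocalRing.ResidueField A))) ≅ ModuleCat.of A (IsLocalRing.ResidueField A)) := by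
  classical
  haveI : IsLocalRing A := inferInstance
  haveI : IsNoetherianRing A := inferInstance
  haveI : Module.Finite A (ResidueField A) :=
    Module.Finite.of_surjective (Algebra.linearMap A (ResidueField A)) residue_surjective
  obtain ⟨F⟩ := exists_res A (ResidueField A)
  have hE : Module.Baer A E := Module.Baer.of_injective hf.isInjective
  let P := F.projRes
  haveI hfin : ∀ j, Module.Finite A (P.complex.X j) :=
    fun j => (inferInstance : Module.Finite A (Fin (F.rk j) → A))
  haveI hfree : ∀ j, Module.Free A (P.complex.X j) :=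
    fun j => (inferInstance : Module.Free A (Fin (F.rk j) → A))
  obtain ⟨hext1, ⟨eK⟩⟩ := Groth.Agent.S11665.ext_residue A d hd
  constructor
  · intro i hi
    have e := torEquiv E P hE i
    haveI : Subsingleton (Abelian.Ext.{u} (ModuleCat.of A (ResidueField A)) (ModuleCat.of A A) i) :=
      hext1 i hi
    haveI : Subsingleton (Abelian.Ext.{u} (ModuleCat.of A (ResidueField A)) (ModuleCat.of A A) i
        →ₗ[A] E) :=
      ⟨fun a b => LinearMap.ext fun x => by rw [Subsingleton.elim x 0, map_zero, map_zero]⟩
    haveI := e.injective.subsingleton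
    exact ModuleCat.isZero_of_subsingleton _
  · refine ⟨LinearEquiv.toModuleIso ?_⟩
    have eK' : Abelian.Ext.{u} (ModuleCat.of A (ResidueField A)) (ModuleCat.of A A) d ≃ₗ[A]
        ResidueField A := eK
    exact (torEquiv E P hE d).trans ((LinearEquiv.arrowCongr eK' (LinearEquiv.refl A E)).trans
      (LinearEquiv.ofBijective (Groth.Agent.Lib.helper19.MatlisLen.Φ f)
        (Groth.Agent.Lib.helper19.MatlisLen.Φ_bijective f hf)).symm)

end Groth.Agent.S0363
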