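import Groth.Statements.S0376
import Mathlib
import Groth.Agent.S11185
import Groth.Agent.S0377
import Groth.Agent.S0564
import Groth.Agent.Lib.Helper24.CplCatenary

set_option autoImplicit false
set_option linter.style.haveILetI false
universe u v
open CategoryTheory
attribute [local instance] HasDerivedCategory.standard
open Dual

namespace Groth.Agent.S0376

/-- A complete Noetherian local ring has a dualizing complex. -/
theorem result (A : Type u) [CommRing A] [IsLocalRing A] [IsNoetherianRing A] [IsAdicComplete (IsLocalRing.maximalIdeal A) A] : ∃ ω : Dual.D A, Dual.IsDualizing A ω := by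
  obtain ⟨P, _, hP, f, hf⟩ := Groth.Agent.Lib.Helper24.CplCatenary.exists_regular_surjective A
  letI : Algebra P A := f.toAlgebra
  haveI : Algebra.FiniteType P A := Algebra.FiniteType.of_surjective (Algebra.ofId P A) hf
  have hdim : ringKrullDim P < ⊤ := ringKrullDim_lt_top
  have hP0 : Dual.IsDualizing P (Dual.inD P P) :=
    Groth.Agent.S11185.result P (fun p => Groth.Agent.S0564.result P p.asIdeal) hdim
  exact Groth.Agent.S0377.result P (Dual.inD P P) hP0 A

end Groth.Agent.S0376
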