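import Groth.Statements.S0378
import Mathlib
import Groth.Agent.Lib.Helper19.LCBridge
import Groth.Agent.Lib.Helper19.LCLes
import Groth.Agent.Lib.Helper19.LCFactor
import Groth.Agent.Lib.Helper19.LCGroth
import Groth.Agent.S0326

set_option autoImplicit false
universe u v
open LocCoh

namespace Groth.Agent.S0378

-- MARK
section Aux
open CategoryTheory Groth.Agent.Lib.helper19.LCBridge Groth.Agent.Lib.helper19.LCLes
  Groth.Agent.Lib.helper19.LCFactor Groth.Agent.Lib.helper19.LCGroth

variable {R : Type u} [CommRing R] [IsNoetherianRing R] (I : Ideal R)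

theorem step (d j : ℕ) (hj : d ≤ j)
    (h0 : ∀ i : ℕ, d < i → Subsingleton (LocCoh.H I i R))
    (hc : LocCoh.CdLE R I (j + 1)) : LocCoh.CdLE R I j := by
  intro M _ _ i hi
  rcases Nat.lt_or_ge (j + 1) i with h | h
  · exact hc M i h
  · obtain rfl : i = j + 1 := by lia
    have hz : ∀ x : ((localCohomology I (j + 1)).obj (ModuleCat.of R M) : ModuleCat.{u} R),
        x = 0 := by
      intro x
      obtain ⟨M', hM', x', rfl⟩ := H_from_fg I M (j + 1) x
      have hfin : Module.Finite R M' := Module.Finite.iff_fg.2 hM'
      obtain ⟨n, f, hf⟩ := Module.Finite.exists_fin' R M'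
      let S : ShortComplex (ModuleCat.{u} R) :=
        ShortComplex.mk (ModuleCat.ofHom (LinearMap.ker f).subtype) (ModuleCat.ofHom f) (by
          apply ModuleCat.hom_ext
          apply LinearMap.ext
          intro y
          exact y.2)
      have hS : S.ShortExact :=
        ModuleCat.shortComplex_shortExact S (LinearMap.exact_subtype_ker_map f)
          (Submodule.injective_subtype _) hf
      have hv : Subsingleton ((localCohomology I (j + 1 + 1)).obj S.X₁ : ModuleCat.{u} R) :=
        hc (LinearMap.ker f) (j + 1 + 1) (by lia)
      have hsurj := H_surjective_of_vanish I (j + 1) hS hv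
      obtain ⟨y, hy⟩ := hsurj x'
      have hpi : Subsingleton ((localCohomology I (j + 1)).obj (ModuleCat.of R (Fin n → R)) :
          ModuleCat.{u} R) := H_pi_subsingleton I (j + 1) (Fin n) (h0 (j + 1) (by lia))
      have hy0 : y = 0 := hpi.elim _ _
      have hx0 : x' = 0 := by
        rw [← hy, hy0, map_zero]
      rw [hx0, map_zero]
    exact ⟨fun x y => by rw [hz x, hz y]⟩

end Aux



/-- (1)⇔(2): local cohomology with support in I vanishes above degree d on every module as soon as it
does so on the ring itself. (Part (3) about the punctured spectrum is not stated.) -/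
theorem result (R : Type u) [CommRing R] [IsNoetherianRing R] (I : Ideal R) (d : ℕ) : (∀ i : ℕ, d < i → Subsingleton (LocCoh.H I i R)) ↔ LocCoh.CdLE R I d := by
  constructor
  · intro h0
    have hup : ∀ k : ℕ, LocCoh.CdLE R I (d + k) → LocCoh.CdLE R I d := by
      intro k
      induction k with
      | zero => intro h; exact h
      | succ k ih =>
        intro h
        exact ih (step I d (d + k) (by lia) h0 h)
    obtain ⟨s, hs⟩ : ∃ s : Finset R, Ideal.span (s : Set R) = I :=
      (IsNoetherian.noetherian I)
    have hcard := Groth.Agent.S0326.result R s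
    rw [hs] at hcard
    apply hup s.card
    intro M _ _ i hi
    exact hcard M i (by lia)
  · intro h i hi
    exact h R i hi

end Groth.Agent.S0378
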