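import Groth.Statements.S0380
import Mathlib
import Groth.Agent.S11617
import Groth.Agent.S0379

set_option autoImplicit false
universe u v
open LocCoh

namespace Groth.Agent.S0380

-- MARK
section Aux
open CategoryTheory
open scoped TensorProduct

variable {R : Type u} [CommRing R] [IsNoetherianRing R] (I : Ideal R)

/-- local cohomology vanishes if it does so after localizing at every prime -/
theorem vanish_of_local (i : ℕ)
    (h : ∀ (p : Ideal R) [p.IsPrime] (N : Type u) [AddCommGroup N]
      [Module (Localization.AtPrime p) N],
      Subsingleton ((localCohomology (I.map (algebraMap R (Localization.AtPrime p))) i).obj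
        (ModuleCat.of (Localization.AtPrime p) N) : ModuleCat.{u} (Localization.AtPrime p)))
    (M : Type u) [AddCommGroup M] [Module R M] :
    Subsingleton ((localCohomology I i).obj (ModuleCat.of R M) : ModuleCat.{u} R) := by
  rw [← Module.support_eq_empty_iff (R := R), Set.eq_empty_iff_forall_notMem]
  intro p
  rw [Module.notMem_support_iff]
  have : Module.Flat R (Localization.AtPrime p.asIdeal) := IsLocalization.flat _ p.asIdeal.primeCompl
  obtain ⟨e⟩ := Groth.Agent.S11617.main (Localization.AtPrime p.asIdeal) I M i
  have := h p.asIdeal ((Localization.AtPrime p.asIdeal) ⊗[R] M)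
  have hsub : Subsingleton ((Localization.AtPrime p.asIdeal) ⊗[R]
      ((localCohomology I i).obj (ModuleCat.of R M) : ModuleCat.{u} R)) := e.toEquiv.subsingleton
  exact (LocalizedModule.equivTensorProduct p.asIdeal.primeCompl
    ((localCohomology I i).obj (ModuleCat.of R M) : ModuleCat.{u} R)).toEquiv.subsingleton

end Aux



/-- Local cohomology with support in I vanishes above degree d on all modules exactly when, for every
prime p, local cohomology over A_p with support in I A_p vanishes above degree d on all A_p-modules. -/
theorem result (R : Type u) [CommRing R] [IsNoetherianRing R] (I : Ideal R) (d : ℕ) : LocCoh.CdLE R I d ↔ ∀ (p : Ideal R) [p.IsPrime], LocCoh.CdLE (Localization.AtPrime p) (I.map (algebraMap R (Localization.AtPrime p))) d := by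
  constructor
  · intro h p _ N _ _ i hi
    exact Groth.Agent.S0379.vanish_map I i (fun M _ _ => h M i hi) N
  · intro h M _ _ i hi
    exact vanish_of_local I i (fun p _ N _ _ => h p N i hi) M

end Groth.Agent.S0380
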