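import Groth.Statements.S0388
-- import your own Groth.Agent.* helpers here
import Groth.Agent.Lib.Helper9.SteinGen3

set_option autoImplicit false
universe u
open FlatMor

namespace Groth.Agent.S0388

open AlgebraicGeometry CategoryTheory Limits in
/-- Stein factorization, general form: let f : X → S be a proper morphism and X → S′ → S its
factorization through the normalization S′ of S in X. Then the morphism X → S′ has geometrically
connected fibres, and for every open U of S′ the induced map O_{S′}(U) → O_X(U ×_{S′} X) is an
isomorphism, that is, O_{S′} → (X → S′)_* O_X is an isomorphism. (That X → S′ is proper and that S′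
→ S is integral also hold, but are not part of this statement.) -/
theorem result {X S : Scheme.{u}} (f : X ⟶ S) [IsProper f] :
    GeometricallyConnected f.toNormalization ∧ ∀ U : f.normalization.Opens, IsIso (f.toNormalization.app U) := by
  haveI : IsProper f.toNormalization := Groth.Agent.Lib.helper8.ZConn.isProper_toNormalization f
  exact ⟨Groth.Agent.Lib.helper9.SteinGen.geometricallyConnected_toNormalization f,
    Groth.Agent.Lib.Lead.SteinUC.isIso_toNormalization_app f⟩

end Groth.Agent.S0388
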