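import Groth.Statements.S0394
import Mathlib.LinearAlgebra.TensorProduct.Quotient
import Mathlib.RingTheory.Nakayama
import Mathlib.RingTheory.Flat.Equalizer
import Mathlib.RingTheory.LocalRing.Module

set_option autoImplicit false
universe u
open FlatMor

namespace Groth.Agent.S0394

open TensorProduct in
/-- elements of `J = m S` kill `(R/m) ⊗_R N` for an `S`-module `N`. -/
lemma tmul_smul_eq_zero {R S N : Type u} [CommRing R] [CommRing S] [Algebra R S]
    [AddCommGroup N] [Module R N] [Module S N] [IsScalarTower R S N] (m : Ideal R)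
    (s : S) (hs : s ∈ m.map (algebraMap R S)) (x : N) :
    (1 : R ⧸ m) ⊗ₜ[R] (s • x) = 0 := by
  revert x
  rw [Ideal.map] at hs
  induction hs using Submodule.span_induction with
  | mem s hs =>
    obtain ⟨r, hr, rfl⟩ := hs
    intro x
    rw [algebraMap_smul, ← TensorProduct.smul_tmul]
    have : r • (1 : R ⧸ m) = 0 := by
      rw [Algebra.smul_def, mul_one]
      exact Ideal.Quotient.eq_zero_iff_mem.2 hr
    rw [this, TensorProduct.zero_tmul]
  | zero => intro x; simp
  | add s t _ _ hs ht => intro x; rw [add_smul, TensorProduct.tmul_add, hs, ht, add_zero]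
  | smul a s _ hs => intro x; rw [smul_eq_mul, mul_comm, mul_smul]; exact hs _


open TensorProduct in
/-- For a local homomorphism R → S of Noetherian local rings and a nonzero finite S-module M flat over R
whose fibre M/mM is free over S/mS (m the maximal ideal of R), M is free over S and S is flat over
R. -/
theorem result {R S M : Type u} [CommRing R] [CommRing S] [IsLocalRing R] [IsLocalRing S] [IsNoetherianRing R] [IsNoetherianRing S] [Algebra R S] [IsLocalHom (algebraMap R S)]
    [AddCommGroup M] [Module R M] [Module S M] [IsScalarTower R S M] [Module.Finite S M] [Nontrivial M] [Module.Flat R M]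
    (h : Module.Free (S ⧸ ((IsLocalRing.maximalIdeal R).map (algebraMap R S))) ((S ⧸ ((IsLocalRing.maximalIdeal R).map (algebraMap R S))) ⊗[S] M)) :
    Module.Free S M ∧ Module.Flat R S := by
  classical
  set m := IsLocalRing.maximalIdeal R with hm
  set J : Ideal S := m.map (algebraMap R S) with hJ
  have hJle : J ≤ IsLocalRing.maximalIdeal S := by
    rw [hJ, Ideal.map_le_iff_le_comap]
    intro x hx
    rw [Ideal.mem_comap]
    exact (IsLocalRing.mem_maximalIdeal _).2 (fun hu => (IsLocalRing.mem_maximalIdeal _).1 hx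
      (isUnit_of_map_unit (algebraMap R S) x hu))
  have hJjac : J ≤ Ideal.jacobson ⊥ := by
    rw [IsLocalRing.jacobson_eq_maximalIdeal ⊥ bot_ne_top]; exact hJle
  have hJne : J ≠ ⊤ := fun h => (IsLocalRing.maximalIdeal.isMaximal S).ne_top (top_le_iff.1 (h ▸ hJle))
  have : Nontrivial (S ⧸ J) := Ideal.Quotient.nontrivial_iff.2 hJne
  let ι := Module.Free.ChooseBasisIndex (S ⧸ J) ((S ⧸ J) ⊗[S] M)
  let b : Module.Basis ι (S ⧸ J) ((S ⧸ J) ⊗[S] M) := Module.Free.chooseBasis _ _
  have : Fintype ι := Module.Free.ChooseBasisIndex.fintype _ _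
  have hmk : Function.Surjective (TensorProduct.mk S (S ⧸ J) M 1) :=
    TensorProduct.mk_surjective S M (S ⧸ J) Ideal.Quotient.mk_surjective
  choose e he using fun i => hmk (b i)
  let φ : (ι →₀ S) →ₗ[S] M := Finsupp.linearCombination S e
  -- (A)
  have hA : ∀ c : ι →₀ S, (1 : S ⧸ J) ⊗ₜ[S] (φ c) = ∑ i, (Ideal.Quotient.mk J (c i)) • b i := by
    intro c
    simp only [φ, Finsupp.linearCombination_apply]
    rw [Finsupp.sum_fintype _ _ (fun i => zero_smul S (e i)), TensorProduct.tmul_sum]
    refine Finset.sum_congr rfl fun i _ => ?_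
    rw [← he i]
    simp only [TensorProduct.mk_apply]
    rw [TensorProduct.tmul_smul, TensorProduct.smul_tmul', TensorProduct.smul_tmul']
    congr 1
  -- kernel of `x ↦ 1 ⊗ x`
  have hker : ∀ x : M, (1 : S ⧸ J) ⊗ₜ[S] x = 0 → x ∈ J • (⊤ : Submodule S M) := by
    intro x hx
    have := congrArg (TensorProduct.quotTensorEquivQuotSMul M J) hx
    rw [TensorProduct.quotTensorEquivQuotSMul_mk_one_tmul, map_zero,
      Submodule.Quotient.mk_eq_zero] at this
    exact this
  -- (B)
  have hB : ∀ c : ι →₀ S, φ c = 0 → ∀ i, c i ∈ J := by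
    intro c hc i
    have h1 := hA c
    rw [hc, TensorProduct.tmul_zero] at h1
    have := Fintype.linearIndependent_iff.1 b.linearIndependent _ h1.symm i
    exact Ideal.Quotient.eq_zero_iff_mem.1 this
  -- (C)
  have hsurj : Function.Surjective φ := by
    rw [← LinearMap.range_eq_top, ← top_le_iff]
    refine Submodule.le_of_le_smul_of_le_jacobson_bot (I := J) (Module.Finite.fg_top) hJjac ?_
    intro x _
    choose c hc using fun i => Ideal.Quotient.mk_surjective (b.repr ((1 : S ⧸ J) ⊗ₜ[S] x) i)
    let c' : ι →₀ S := Finsupp.equivFunOnFinite.symm c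
    have h1 : (1 : S ⧸ J) ⊗ₜ[S] (x - φ c') = 0 := by
      rw [TensorProduct.tmul_sub, hA c', sub_eq_zero]
      conv_lhs => rw [← b.sum_repr ((1 : S ⧸ J) ⊗ₜ[S] x)]
      refine Finset.sum_congr rfl fun i _ => ?_
      simp only [c', Finsupp.equivFunOnFinite_symm_apply_apply, hc]
    have h2 := hker _ h1
    have : x = φ c' + (x - φ c') := by abel
    rw [this]
    exact Submodule.add_mem_sup (LinearMap.mem_range_self _ _) h2
  -- (D)
  have hinj : LinearMap.ker φ = ⊥ := by
    refine Submodule.eq_bot_of_le_smul_of_le_jacobson_bot J _ (IsNoetherian.noetherian _) ?_ hJjac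
    intro k hk
    let K : Submodule R (ι →₀ S) := (LinearMap.ker φ).restrictScalars R
    let g : K →ₗ[R] (ι →₀ S) := K.subtype
    let f : (ι →₀ S) →ₗ[R] M := φ.restrictScalars R
    have hgf : Function.Exact g f := by
      intro x
      constructor
      · intro hx; exact ⟨⟨x, hx⟩, rfl⟩
      · rintro ⟨y, rfl⟩; exact y.2
    have hinj' := LinearMap.lTensor_injective_of_exact_of_flat (M := K) (N := ι →₀ S) (P := M) f hsurj g K.subtype_injective hgf (R ⧸ m)
    have hk0 : (1 : R ⧸ m) ⊗ₜ[R] (⟨k, hk⟩ : K) = 0 := by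
      apply hinj'
      rw [LinearMap.lTensor_tmul, map_zero]
      change (1 : R ⧸ m) ⊗ₜ[R] k = 0
      have hkJ := hB k hk
      have hksum : k = ∑ i, (k i) • (Finsupp.single i (1 : S)) := by
        ext j
        simp
      rw [hksum, TensorProduct.tmul_sum]
      exact Finset.sum_eq_zero fun i _ => tmul_smul_eq_zero m (k i) (hkJ i) _
    have hk1 := congrArg (TensorProduct.quotTensorEquivQuotSMul K m) hk0
    rw [TensorProduct.quotTensorEquivQuotSMul_mk_one_tmul, map_zero,
      Submodule.Quotient.mk_eq_zero] at hk1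
    have key : ∀ z : K, z ∈ m • (⊤ : Submodule R K) → (z : ι →₀ S) ∈ J • LinearMap.ker φ := by
      intro z hz
      refine Submodule.smul_induction_on (p := fun z : K => (z : ι →₀ S) ∈ J • LinearMap.ker φ) hz ?_ ?_
      · intro r hr y _
        have : ((r • y : K) : ι →₀ S) = (algebraMap R S r) • (y : ι →₀ S) := by
          rw [algebraMap_smul]; rfl
        rw [this]
        exact Submodule.smul_mem_smul (Ideal.mem_map_of_mem _ hr) y.2
      · intro x y hx hy
        exact Submodule.add_mem _ hx hy
    exact key _ hk1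
  -- (E)
  let E : (ι →₀ S) ≃ₗ[S] M := LinearEquiv.ofBijective φ ⟨LinearMap.ker_eq_bot.1 hinj, hsurj⟩
  refine ⟨Module.Free.of_equiv E, ?_⟩
  -- (F)
  have hne : Nonempty ι := by
    by_contra hemp
    rw [not_nonempty_iff] at hemp
    have : Subsingleton M := E.symm.injective.subsingleton
    exact not_subsingleton M this
  obtain ⟨i₀⟩ := hne
  let i : S →ₗ[R] M := (E.toLinearMap ∘ₗ Finsupp.lsingle i₀).restrictScalars R
  let r : M →ₗ[R] S := (Finsupp.lapply i₀ ∘ₗ E.symm.toLinearMap).restrictScalars R
  refine Module.Flat.of_retract i r ?_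
  ext s
  simp [i, r]

end Groth.Agent.S0394
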