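import Groth.Statements.S0395
import Mathlib
import Groth.Agent.S0393

set_option autoImplicit false
universe u
open FlatMor

namespace Groth.Agent.S0395

open IsLocalRing Groth.Agent.Lib.Helper19.FlatIndep


open TensorProduct nonZeroDivisors in
/-- For a flat local homomorphism R → S of Noetherian local rings and an element f of S that is regular
on the fibre ring S/mS, the quotient of S by f is again R-flat and f is regular on S. -/
theorem result {R S : Type u} [CommRing R] [CommRing S] [IsLocalRing R] [IsLocalRing S] [IsNoetherianRing R] [IsNoetherianRing S] [Algebra R S] [IsLocalHom (algebraMap R S)] [Module.Flat R S]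
    (f : S) (hf : Ideal.Quotient.mk ((IsLocalRing.maximalIdeal R).map (algebraMap R S)) f ∈ nonZeroDivisors (S ⧸ ((IsLocalRing.maximalIdeal R).map (algebraMap R S)))) :
    Module.Flat R (S ⧸ Ideal.span {f}) ∧ f ∈ nonZeroDivisors S := by
  set u : S →ₗ[R] S := (LinearMap.mulLeft R f) with hu
  have hmem : ∀ s : S, s ∈ maximalIdeal R • (⊤ : Submodule R S) ↔
      s ∈ (maximalIdeal R).map (algebraMap R S) := by
    intro s
    rw [Ideal.smul_top_eq_map, Submodule.restrictScalars_mem]
  have hP : ∀ s, u s ∈ maximalIdeal R • (⊤ : Submodule R S) →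
      s ∈ maximalIdeal R • (⊤ : Submodule R S) := by
    intro s hs
    rw [hmem] at hs ⊢
    rw [← Ideal.Quotient.eq_zero_iff_mem] at hs ⊢
    have : Ideal.Quotient.mk ((maximalIdeal R).map (algebraMap R S)) f *
        Ideal.Quotient.mk ((maximalIdeal R).map (algebraMap R S)) s = 0 := by
      rw [← map_mul]; exact hs
    exact (mul_left_mem_nonZeroDivisors_eq_zero_iff hf).mp this
  have hinj : Function.Injective (LinearMap.lTensor (IsLocalRing.ResidueField R) u) :=
    inj_of_P u (maximalIdeal R) hP
  obtain ⟨h1, h2⟩ := Groth.Agent.S0393.result (R := R) (S := S) (M := S) (N := S) u hinj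
  constructor
  · have hrange : LinearMap.range u = (Ideal.span {f}).restrictScalars R := by
      ext s
      simp only [LinearMap.mem_range, Submodule.restrictScalars_mem, Ideal.mem_span_singleton', hu,
        LinearMap.mulLeft_apply]
      constructor
      · rintro ⟨y, rfl⟩; exact ⟨y, mul_comm _ _⟩
      · rintro ⟨y, rfl⟩; exact ⟨y, mul_comm _ _⟩
    let e : (S ⧸ LinearMap.range u) ≃ₗ[R] (S ⧸ Ideal.span {f}) :=
      Submodule.quotEquivOfEq _ _ hrange
    exact Module.Flat.of_linearEquiv e.symm
  · rw [mem_nonZeroDivisors_iff_right]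
    intro s hs
    apply h1
    rw [map_zero]
    simpa [hu, mul_comm] using hs

end Groth.Agent.S0395
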