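import Groth.Statements.S0396
import Mathlib
import Groth.Agent.Lib.Helper8.LocalFlat

set_option autoImplicit false
universe u
open FlatMor

namespace Groth.Agent.S0396

open TensorProduct Groth.Agent.Lib.helper8.LocalFlat


section
variable {R S : Type*} [CommRing R] [CommRing S] [Algebra R S]
  (L : Type*) [AddCommGroup L] [Module R L]

/-- converse of helper8's `flat_baseChange_of_forall_ideal` -/
theorem forall_ideal_of_flat_baseChange [Module.Flat S (S ⊗[R] L)] (𝔟 : Ideal S) :
    Function.Injective ((𝔟.subtype.restrictScalars R).rTensor L) := by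
  have h := (Module.Flat.iff_rTensor_injective' (R := S) (M := S ⊗[R] L)).mp inferInstance 𝔟
  intro x y hxy
  obtain ⟨x', rfl⟩ := (AlgebraTensorModule.cancelBaseChange R S S 𝔟 L).surjective x
  obtain ⟨y', rfl⟩ := (AlgebraTensorModule.cancelBaseChange R S S 𝔟 L).surjective y
  rw [cancelBaseChange_rTensor, cancelBaseChange_rTensor] at hxy
  rw [h ((AlgebraTensorModule.cancelBaseChange R S S S L).injective hxy)]

end



open TensorProduct in
/-- For a map of Noetherian rings R → S, an ideal I of R and a finite S-module M such that M/IⁿM is flat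
over R/Iⁿ for every n ≥ 1, the localization of M at any prime of S containing IS is flat over R. -/
theorem result {R S M : Type u} [CommRing R] [CommRing S] [IsNoetherianRing R] [IsNoetherianRing S] [Algebra R S]
    [AddCommGroup M] [Module R M] [Module S M] [IsScalarTower R S M] [Module.Finite S M] (I : Ideal R)
    (h : ∀ n : ℕ, 0 < n → Module.Flat (R ⧸ I ^ n) ((R ⧸ I ^ n) ⊗[R] M))
    (q : Ideal S) [q.IsPrime] (hq : I.map (algebraMap R S) ≤ q) :
    Module.Flat R (LocalizedModule q.primeCompl M) := by
  refine flat_of_forall_flat_quotient_pow (R := R) (S := Localization.AtPrime q)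
    (M := LocalizedModule q.primeCompl M) I ?_ ?_
  · -- I S_q ≤ jacobson ⊥
    refine le_trans ?_ (IsLocalRing.maximalIdeal_le_jacobson ⊥)
    rw [IsScalarTower.algebraMap_eq R S (Localization.AtPrime q), ← Ideal.map_map]
    refine le_trans (Ideal.map_mono hq) ?_
    rw [Localization.AtPrime.map_eq_maximalIdeal]
  · intro k hk
    have := h k hk
    apply flat_baseChange_of_forall_ideal
    intro 𝔟
    have hM := forall_ideal_of_flat_baseChange (R := R) (S := R ⧸ I ^ k) M 𝔟
    set f : 𝔟 →ₗ[R] (R ⧸ I ^ k) := 𝔟.subtype.restrictScalars R with hf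
    have hM' : Function.Injective (f.lTensor M) :=
      (LinearMap.lTensor_inj_iff_rTensor_inj _ _).mpr hM
    set ℓ : M →ₗ[S] LocalizedModule q.primeCompl M :=
      LocalizedModule.mkLinearMap q.primeCompl M with hℓ
    have hmap := IsLocalizedModule.map_lTensor (R := R) (A := S) q.primeCompl f ℓ
    have hinj : Function.Injective (AlgebraTensorModule.lTensor S
        (LocalizedModule q.primeCompl M) f) := by
      rw [← hmap]
      exact IsLocalizedModule.map_injective q.primeCompl _ _ _ hM'
    rw [← LinearMap.lTensor_inj_iff_rTensor_inj]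
    exact hinj

end Groth.Agent.S0396
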