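import Groth.Statements.S0397
import Mathlib.RingTheory.LocalRing.Module

set_option autoImplicit false
universe u
open FlatMor

namespace Groth.Agent.S0397


open IsLocalRing TensorProduct in
/-- Nilpotent Nakayama: if `N ⊔ I • ⊤ = ⊤` then `N ⊔ I ^ j • ⊤ = ⊤` for all `j`. -/
theorem sup_pow_smul_top {R M : Type u} [CommRing R] [AddCommGroup M] [Module R M]
    (I : Ideal R) (N : Submodule R M) (h : N ⊔ I • (⊤ : Submodule R M) = ⊤) (j : ℕ) :
    N ⊔ I ^ j • (⊤ : Submodule R M) = ⊤ := by
  induction j with
  | zero => simp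
  | succ j ih =>
    rw [eq_top_iff]
    calc (⊤ : Submodule R M) = N ⊔ I ^ j • (⊤ : Submodule R M) := ih.symm
      _ = N ⊔ I ^ j • (N ⊔ I • (⊤ : Submodule R M)) := by rw [h]
      _ = N ⊔ (I ^ j • N ⊔ I ^ j • (I • (⊤ : Submodule R M))) := by rw [Submodule.smul_sup]
      _ ≤ N ⊔ I ^ (j + 1) • (⊤ : Submodule R M) := by
        rw [← Submodule.mul_smul, ← pow_succ]
        refine sup_le le_sup_left (sup_le ?_ le_sup_right)
        exact le_trans Submodule.smul_le_right le_sup_left

/-- Over a local ring whose maximal ideal is nilpotent, every flat module (not necessarily finitely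
generated) is free. -/
theorem result {R M : Type u} [CommRing R] [IsLocalRing R] (hR : IsNilpotent (IsLocalRing.maximalIdeal R))
    [AddCommGroup M] [Module R M] [Module.Flat R M] : Module.Free R M := by
  classical
  obtain ⟨n, hn⟩ := hR
  let w := Module.Free.chooseBasis (IsLocalRing.ResidueField R)
    (TensorProduct R (IsLocalRing.ResidueField R) M)
  have ⟨v, eq⟩ := (TensorProduct.mk_surjective R M (IsLocalRing.ResidueField R)
    Ideal.Quotient.mk_surjective).comp_left w
  have eq' : ⇑((TensorProduct.mk R (IsLocalRing.ResidueField R) M) 1) ∘ v = ⇑w := eq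
  have hli : LinearIndependent R v :=
    Module.IsLocalRing.linearIndependent_of_flat _ (eq' ▸ w.linearIndependent)
  have hmap : (Submodule.span R (Set.range v)).map
      (TensorProduct.mk R (R ⧸ IsLocalRing.maximalIdeal R) M 1) = ⊤ := by
    rw [Submodule.map_span, ← Submodule.restrictScalars_span R (R ⧸ IsLocalRing.maximalIdeal R)
      Ideal.Quotient.mk_surjective, Submodule.restrictScalars_eq_top_iff, ← Set.range_comp]
    have : (fun i => (TensorProduct.mk R (R ⧸ IsLocalRing.maximalIdeal R) M 1) (v i)) = w := eq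
    simp only [Function.comp_def, this]
    exact w.span_eq
  have h1 : Submodule.span R (Set.range v) ⊔
      IsLocalRing.maximalIdeal R • (⊤ : Submodule R M) = ⊤ := by
    rw [← LinearMap.ker_tensorProductMk, ← Submodule.comap_map_eq, hmap, Submodule.comap_top]
  have h2 := sup_pow_smul_top _ _ h1 n
  rw [hn] at h2
  refine Module.Free.of_basis (Module.Basis.mk hli ?_)
  rw [← h2]
  simp

end Groth.Agent.S0397
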