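import Groth.Statements.S0398
import Groth.Agent.Lib.Helper7.ArtinFlat

set_option autoImplicit false
universe u
open FlatMor

namespace Groth.Agent.S0398


open TensorProduct
attribute [local instance] Algebra.TensorProduct.rightAlgebra

open TensorProduct in
/-- For an injective ring map R → S with R Artinian and an R-module M, if S ⊗ M is flat over S then M is
flat over R. -/
theorem result {R S M : Type u} [CommRing R] [CommRing S] [IsArtinianRing R] [Algebra R S] (hinj : Function.Injective (algebraMap R S))
    [AddCommGroup M] [Module R M] [Module.Flat S (S ⊗[R] M)] : Module.Flat R M := by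
  apply Module.flat_of_localized_maximal
  intro P hP
  have hnil : IsNilpotent (IsLocalRing.maximalIdeal (Localization.AtPrime P)) := by
    have h1 := IsArtinianRing.isNilpotent_jacobson_bot (R := Localization.AtPrime P)
    rwa [IsLocalRing.jacobson_eq_maximalIdeal _ bot_ne_top] at h1
  have hinj' : Function.Injective
      (algebraMap (Localization.AtPrime P) (S ⊗[R] Localization.AtPrime P)) :=
    Algebra.TensorProduct.includeRight_injective (R := R) (A := S)
      (B := Localization.AtPrime P) hinj
  have hflat : Module.Flat (S ⊗[R] Localization.AtPrime P)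
      ((S ⊗[R] Localization.AtPrime P) ⊗[Localization.AtPrime P]
        (Localization.AtPrime P ⊗[R] M)) := by
    have e1 : (S ⊗[R] Localization.AtPrime P) ⊗[Localization.AtPrime P]
        (Localization.AtPrime P ⊗[R] M) ≃ₗ[S ⊗[R] Localization.AtPrime P]
        (S ⊗[R] Localization.AtPrime P) ⊗[R] M :=
      TensorProduct.AlgebraTensorModule.cancelBaseChange R (Localization.AtPrime P)
        (S ⊗[R] Localization.AtPrime P) (S ⊗[R] Localization.AtPrime P) M
    have e2 : (S ⊗[R] Localization.AtPrime P) ⊗[S] (S ⊗[R] M)
        ≃ₗ[S ⊗[R] Localization.AtPrime P] (S ⊗[R] Localization.AtPrime P) ⊗[R] M :=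
      TensorProduct.AlgebraTensorModule.cancelBaseChange R S
        (S ⊗[R] Localization.AtPrime P) (S ⊗[R] Localization.AtPrime P) M
    have : Module.Flat (S ⊗[R] Localization.AtPrime P)
        ((S ⊗[R] Localization.AtPrime P) ⊗[S] (S ⊗[R] M)) := inferInstance
    exact Module.Flat.of_linearEquiv (e1.trans e2.symm)
  have hfree : Module.Free (Localization.AtPrime P) (Localization.AtPrime P ⊗[R] M) :=
    Groth.Agent.Lib.helper7.ArtinFlat.free_of_flat_baseChange
      (S := S ⊗[R] Localization.AtPrime P)
      (IsLocalRing.maximalIdeal (Localization.AtPrime P)) hnil hinj'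
  have : Module.Flat (Localization.AtPrime P) (Localization.AtPrime P ⊗[R] M) := inferInstance
  have h2 : Module.Flat R (Localization.AtPrime P ⊗[R] M) :=
    Module.Flat.trans R (Localization.AtPrime P) _
  exact Module.Flat.of_linearEquiv
    ((LocalizedModule.equivTensorProduct P.primeCompl M).restrictScalars R)

end Groth.Agent.S0398
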