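import Groth.Statements.S0399
import Mathlib
import Groth.Agent.Lib.Helper19.FlatIndep

set_option autoImplicit false
universe u
open FlatMor

namespace Groth.Agent.S0399

open TensorProduct Groth.Agent.Lib.Helper19.FlatIndep


section
variable {A M : Type u} [CommRing A] [AddCommGroup M] [Module A M] (f : A)

lemma aux [Module.Flat (A ⧸ Ideal.span {f}) ((A ⧸ Ideal.span {f}) ⊗[A] M)]
    {K F N : Type u} [AddCommGroup K] [Module A K] [AddCommGroup F] [Module A F]
    [AddCommGroup N] [Module A N] (v : K →ₗ[A] F) (π : F →ₗ[A] N)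
    (hexact : Function.Exact v π) (hv : Function.Injective v) (hN : IsSMulRegular N f) :
    Function.Injective (v.lTensor ((A ⧸ Ideal.span {f}) ⊗[A] M)) := by
  have hK : ∀ k : K, v k ∈ Ideal.span {f} • (⊤ : Submodule A F) →
      k ∈ Ideal.span {f} • (⊤ : Submodule A K) := by
    intro k hk
    rw [Submodule.ideal_span_singleton_smul, Submodule.mem_smul_pointwise_iff_exists] at hk ⊢
    obtain ⟨x, _, hx⟩ := hk
    have hx0 : π x = 0 := by
      apply hN
      show f • π x = f • 0
      rw [← map_smul, hx, smul_zero]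
      exact (hexact (v k)).mpr ⟨k, rfl⟩
    obtain ⟨k', hk'⟩ := (hexact x).mp hx0
    refine ⟨k', trivial, hv ?_⟩
    rw [map_smul, hk', hx]
  have h1 : Function.Injective
      (AlgebraTensorModule.lTensor (A ⧸ Ideal.span {f}) (A ⧸ Ideal.span {f}) v) := by
    rw [AlgebraTensorModule.coe_lTensor]
    exact inj_of_P v (Ideal.span {f}) hK
  have h2 : Function.Injective
      (AlgebraTensorModule.lTensor (A ⧸ Ideal.span {f}) ((A ⧸ Ideal.span {f}) ⊗[A] M)
        (AlgebraTensorModule.lTensor (A ⧸ Ideal.span {f}) (A ⧸ Ideal.span {f}) v)) :=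
    Module.Flat.lTensor_preserves_injective_linearMap (M := (A ⧸ Ideal.span {f}) ⊗[A] M)
      (AlgebraTensorModule.lTensor (A ⧸ Ideal.span {f}) (A ⧸ Ideal.span {f}) v) h1
  have h3 := AlgebraTensorModule.lTensor_comp_cancelBaseChange (R := A)
    (A := A ⧸ Ideal.span {f}) (B := A ⧸ Ideal.span {f})
    (M := (A ⧸ Ideal.span {f}) ⊗[A] M) v
  intro x y hxy
  obtain ⟨x', rfl⟩ := (AlgebraTensorModule.cancelBaseChange A (A ⧸ Ideal.span {f})
    (A ⧸ Ideal.span {f}) ((A ⧸ Ideal.span {f}) ⊗[A] M) K).surjective x
  obtain ⟨y', rfl⟩ := (AlgebraTensorModule.cancelBaseChange A (A ⧸ Ideal.span {f})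
    (A ⧸ Ideal.span {f}) ((A ⧸ Ideal.span {f}) ⊗[A] M) K).surjective y
  have hx := LinearMap.congr_fun h3 x'
  have hy := LinearMap.congr_fun h3 y'
  simp only [LinearMap.coe_comp, Function.comp_apply, LinearEquiv.coe_coe] at hx hy
  have : (AlgebraTensorModule.cancelBaseChange A (A ⧸ Ideal.span {f})
        (A ⧸ Ideal.span {f}) ((A ⧸ Ideal.span {f}) ⊗[A] M) F)
      ((AlgebraTensorModule.lTensor (A ⧸ Ideal.span {f}) ((A ⧸ Ideal.span {f}) ⊗[A] M)
        (AlgebraTensorModule.lTensor (A ⧸ Ideal.span {f}) (A ⧸ Ideal.span {f}) v)) x') =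
      (AlgebraTensorModule.cancelBaseChange A (A ⧸ Ideal.span {f})
        (A ⧸ Ideal.span {f}) ((A ⧸ Ideal.span {f}) ⊗[A] M) F)
      ((AlgebraTensorModule.lTensor (A ⧸ Ideal.span {f}) ((A ⧸ Ideal.span {f}) ⊗[A] M)
        (AlgebraTensorModule.lTensor (A ⧸ Ideal.span {f}) (A ⧸ Ideal.span {f}) v)) y') := by
    rw [← hx, ← hy]; exact hxy
  rw [h2 ((AlgebraTensorModule.cancelBaseChange A (A ⧸ Ideal.span {f})
        (A ⧸ Ideal.span {f}) ((A ⧸ Ideal.span {f}) ⊗[A] M) F).injective this)]

lemma regular_tensor_aux (hM : IsSMulRegular M f)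
    [Module.Flat (A ⧸ Ideal.span {f}) ((A ⧸ Ideal.span {f}) ⊗[A] M)]
    {K F N : Type u} [AddCommGroup K] [Module A K] [AddCommGroup F] [Module A F] [Module.Flat A F]
    [AddCommGroup N] [Module A N] (v : K →ₗ[A] F) (π : F →ₗ[A] N)
    (hex : Function.Exact v π) (hv : Function.Injective v) (hπ : Function.Surjective π)
    (hN : IsSMulRegular N f) :
    Function.Injective ((f • (LinearMap.id : M →ₗ[A] M)).lTensor N) := by
  set g₁ : M →ₗ[A] M := f • LinearMap.id with hg₁def
  set g₂ : M →ₗ[A] (A ⧸ Ideal.span {f}) ⊗[A] M := TensorProduct.mk A (A ⧸ Ideal.span {f}) M 1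
    with hg₂def
  have hg₁ : Function.Injective g₁ := by
    intro x y hxy
    exact hM (by simpa [g₁] using hxy)
  have hexact : Function.Exact g₁ g₂ := by
    intro y
    rw [← LinearMap.mem_ker, LinearMap.ker_tensorProductMk, Submodule.ideal_span_singleton_smul,
      Submodule.mem_smul_pointwise_iff_exists]
    constructor
    · rintro ⟨m, _, rfl⟩; exact ⟨m, by simp [g₁]⟩
    · rintro ⟨m, rfl⟩; exact ⟨m, trivial, by simp [g₁]⟩
  have hsurj : Function.Surjective g₂ :=
    TensorProduct.mk_surjective A M (A ⧸ Ideal.span {f}) Ideal.Quotient.mk_surjective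
  have hfinj := aux (M := M) f v π hex hv hN
  exact lTensor_injective_of_exact_of_exact_of_rTensor_injective
    (f₁ := v) (f₂ := π) (g₁ := g₁) (g₂ := g₂)
    hex hπ hexact hsurj
    ((LinearMap.lTensor_inj_iff_rTensor_inj _ _).mp hfinj)
    (Module.Flat.lTensor_preserves_injective_linearMap g₁ hg₁)

/-- key: if `M/fM` is flat over `A/f` and `f` is `M`-regular, then `f` is regular on `N ⊗ M` for
every `f`-torsion-free `N`. -/
lemma regular_tensor (hM : IsSMulRegular M f)
    [Module.Flat (A ⧸ Ideal.span {f}) ((A ⧸ Ideal.span {f}) ⊗[A] M)]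
    (N : Type u) [AddCommGroup N] [Module A N] (hN : IsSMulRegular N f) :
    Function.Injective ((f • (LinearMap.id : M →ₗ[A] M)).lTensor N) :=
  regular_tensor_aux (K := ↥(LinearMap.ker (Finsupp.linearCombination A (id : N → N))))
    f hM (LinearMap.ker (Finsupp.linearCombination A (id : N → N))).subtype
    (Finsupp.linearCombination A (id : N → N))
    (LinearMap.exact_subtype_ker_map _) (Submodule.injective_subtype _)
    (Finsupp.linearCombination_id_surjective A N) hN


theorem main (hA : f ∈ nonZeroDivisors A) (hM : IsSMulRegular M f)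
    [Module.Flat (Localization.Away f) (LocalizedModule (Submonoid.powers f) M)]
    [Module.Flat (A ⧸ Ideal.span {f}) ((A ⧸ Ideal.span {f}) ⊗[A] M)] : Module.Flat A M := by
  rw [Module.Flat.iff_lTensor_injective']
  intro I
  rw [injective_iff_map_eq_zero]
  intro x hx
  set ℓ : M →ₗ[A] LocalizedModule (Submonoid.powers f) M :=
    LocalizedModule.mkLinearMap (Submonoid.powers f) M with hℓ
  have hflat : Module.Flat A (LocalizedModule (Submonoid.powers f) M) :=
    Module.Flat.trans A (Localization.Away f) _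
  have h1 : (ℓ.rTensor I) x = 0 := by
    apply Module.Flat.lTensor_preserves_injective_linearMap
      (M := LocalizedModule (Submonoid.powers f) M) I.subtype Subtype.val_injective
    rw [map_zero, ← LinearMap.comp_apply, LinearMap.lTensor_comp_rTensor,
      ← LinearMap.rTensor_comp_lTensor, LinearMap.comp_apply, hx, map_zero]
  have hloc : IsLocalizedModule (Submonoid.powers f) (AlgebraTensorModule.rTensor A I ℓ) :=
    inferInstance
  obtain ⟨⟨s, n, rfl⟩, hs⟩ := (IsLocalizedModule.eq_zero_iff (Submonoid.powers f)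
    (AlgebraTensorModule.rTensor A I ℓ)).mp h1
  have hs' : f ^ n • x = 0 := hs
  have hIreg : IsSMulRegular I f := by
    intro a b hab
    apply Subtype.ext
    have h : f * ((a : A) - b) = 0 := by
      have := congrArg Subtype.val hab
      simp only [Submodule.coe_smul, smul_eq_mul] at this
      rw [mul_sub, this, sub_self]
    exact sub_eq_zero.mp ((mul_left_mem_nonZeroDivisors_eq_zero_iff hA).mp h)
  have hreg := regular_tensor f hM I hIreg
  have hreg' : ∀ y : I ⊗[A] M, f • y = 0 → y = 0 := by
    intro y hy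
    apply hreg
    rw [map_zero, LinearMap.lTensor_smul, LinearMap.lTensor_id, LinearMap.smul_apply,
      LinearMap.id_apply, hy]
  have hpow : ∀ (n : ℕ) (y : I ⊗[A] M), f ^ n • y = 0 → y = 0 := by
    intro n
    induction n with
    | zero => intro y hy; simpa using hy
    | succ n ih =>
      intro y hy
      apply ih
      apply hreg'
      rw [smul_smul, ← pow_succ']
      exact hy
  have : TensorProduct.comm A M I x = 0 := by
    apply hpow n
    rw [← map_smul, hs', map_zero]
  simpa using this


end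


open TensorProduct in
/-- For a ring A, a module M and an element f that is a nonzerodivisor on A and on M, if M_f is flat
over A_f and M/fM is flat over A/fA then M is flat over A (the source's companion statement for
faithful flatness is not stated). -/
theorem result {A M : Type u} [CommRing A] [AddCommGroup M] [Module A M] (f : A) (hA : f ∈ nonZeroDivisors A) (hM : IsSMulRegular M f)
    [Module.Flat (Localization.Away f) (LocalizedModule (Submonoid.powers f) M)]
    [Module.Flat (A ⧸ Ideal.span {f}) ((A ⧸ Ideal.span {f}) ⊗[A] M)] : Module.Flat A M := by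
    exact main f hA hM

end Groth.Agent.S0399
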