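import Groth.Statements.S0401


set_option autoImplicit false
universe u
open FlatMor

namespace Groth.Agent.S0401

/-- For a finite type ring map R → S quasi-finite at a prime q lying over p, the dimension of S_q is at
most the dimension of R_p. -/
theorem result {R S : Type u} [CommRing R] [CommRing S] [Algebra R S] [Algebra.FiniteType R S] (q : Ideal S) [q.IsPrime] [Algebra.QuasiFiniteAt R q] :
    ringKrullDim (Localization.AtPrime q) ≤ ringKrullDim (Localization.AtPrime (q.under R)) := by
  have hQF : Algebra.QuasiFinite R (Localization.AtPrime q) := ‹Algebra.QuasiFiniteAt R q›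
  have hmax : (IsLocalRing.maximalIdeal (Localization.AtPrime q)).under R = q.under R := by
    rw [← Ideal.under_under (B := S), Localization.AtPrime.under_maximalIdeal]
  let e := IsLocalization.AtPrime.primeSpectrumOrderIso
    (Localization.AtPrime (q.under R)) (q.under R)
  have hle : ∀ Q : PrimeSpectrum (Localization.AtPrime q), Q.asIdeal.under R ≤ q.under R := by
    intro Q
    rw [← hmax]
    exact Ideal.comap_mono (IsLocalRing.le_maximalIdeal_of_isPrime Q.asIdeal)
  let g : PrimeSpectrum (Localization.AtPrime q) →
      Set.Iic (⟨q.under R, inferInstance⟩ : PrimeSpectrum R) := fun Q =>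
    ⟨⟨Q.asIdeal.under R, inferInstance⟩, hle Q⟩
  have hg : StrictMono g := by
    intro Q₁ Q₂ h
    have h1 : Q₁.asIdeal ≤ Q₂.asIdeal := h.le
    refine lt_of_le_of_ne ?_ ?_
    · exact Ideal.comap_mono h1
    · intro heq
      have h2 : Q₁.asIdeal.under R = Q₂.asIdeal.under R := by
        have := congrArg (fun x => x.1.asIdeal) heq
        exact this
      have := Algebra.QuasiFinite.eq_of_le_of_under_eq (R := R) Q₁.asIdeal Q₂.asIdeal h1 h2
      exact h.ne (PrimeSpectrum.ext this)
  calc ringKrullDim (Localization.AtPrime q)
      = Order.krullDim (PrimeSpectrum (Localization.AtPrime q)) := rfl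
    _ ≤ Order.krullDim (Set.Iic (⟨q.under R, inferInstance⟩ : PrimeSpectrum R)) :=
        Order.krullDim_le_of_strictMono g hg
    _ = Order.krullDim (PrimeSpectrum (Localization.AtPrime (q.under R))) :=
        (Order.krullDim_eq_of_orderIso e).symm
    _ = ringKrullDim (Localization.AtPrime (q.under R)) := rfl

end Groth.Agent.S0401
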