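import Groth.Statements.S0411
import Mathlib

set_option autoImplicit false
universe u
open FlatMor

namespace Groth.Agent.S0411

open AlgebraicGeometry CategoryTheory Limits

/-- Prime avoidance, topological form: a finite set of points of an open subset `W` of a prime
spectrum lies in a basic open contained in `W`. -/
lemma exists_basicOpen_le {R : Type u} [CommRing R] (W : TopologicalSpace.Opens (PrimeSpectrum R))
    (T : Finset (PrimeSpectrum R)) (hT : ∀ t ∈ T, t ∈ W) :
    ∃ r : R, PrimeSpectrum.basicOpen r ≤ W ∧ ∀ t ∈ T, t ∈ PrimeSpectrum.basicOpen r := by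
  classical
  rcases T.eq_empty_or_nonempty with rfl | ⟨a, ha⟩
  · exact ⟨0, by simp, by simp⟩
  obtain ⟨s, hs⟩ := (PrimeSpectrum.isOpen_iff _).1 W.isOpen
  have hI : ∀ q : PrimeSpectrum R, q ∈ W ↔ ¬ Ideal.span s ≤ q.asIdeal := by
    intro q
    have h1 : q ∈ W ↔ q ∉ ((W : Set (PrimeSpectrum R))ᶜ) := by simp
    rw [h1, hs, PrimeSpectrum.mem_zeroLocus, Ideal.span_le]
  have hnot : ¬ ((Ideal.span s : Set R) ⊆
      ⋃ t ∈ (↑T : Set (PrimeSpectrum R)), (t.asIdeal : Set R)) := by
    rw [Ideal.subset_union_prime a a (fun t _ _ _ => t.isPrime)]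
    rintro ⟨t, ht, hle⟩
    exact (hI t).1 (hT t ht) hle
  obtain ⟨r, hrI, hr⟩ := Set.not_subset.1 hnot
  refine ⟨r, ?_, ?_⟩
  · intro q hq
    rw [hI]
    intro hle
    exact hq (hle hrI)
  · intro t ht hrt
    apply hr
    simp only [Set.mem_iUnion]
    exact ⟨t, ht, hrt⟩

lemma exists_affineOpen_le_of_isAffine (N : Scheme.{u}) [IsAffine N] (W : N.Opens) (T : Finset N)
    (hT : ∀ t ∈ T, t ∈ W) :
    ∃ D : N.Opens, IsAffineOpen D ∧ D ≤ W ∧ ∀ t ∈ T, t ∈ D := by
  classical
  obtain ⟨r, hr1, hr2⟩ := exists_basicOpen_le (R := Γ(N, ⊤)) (N.isoSpec.inv ⁻¹ᵁ W)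
    (T.image (fun t => N.isoSpec.hom t)) (by
      intro t ht
      rw [Finset.mem_image] at ht
      obtain ⟨t0, ht0, rfl⟩ := ht
      change N.isoSpec.inv (N.isoSpec.hom t0) ∈ W
      rw [← Scheme.Hom.comp_apply, Iso.hom_inv_id]
      simpa using hT t0 ht0)
  have haff : IsAffineOpen (X := Spec Γ(N, ⊤)) (PrimeSpectrum.basicOpen r) := by
    rw [← basicOpen_eq_of_affine]
    exact (isAffineOpen_top _).basicOpen _
  refine ⟨N.isoSpec.hom ⁻¹ᵁ (PrimeSpectrum.basicOpen r), haff.preimage_of_isIso _, ?_, ?_⟩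
  · intro x hx
    have := hr1 hx
    change N.isoSpec.inv (N.isoSpec.hom x) ∈ W at this
    rw [← Scheme.Hom.comp_apply, Iso.hom_inv_id] at this
    simpa using this
  · intro t ht
    exact hr2 _ (Finset.mem_image_of_mem _ ht)

/-- For a separated, locally quasi-finite morphism (locally of finite type with discrete fibres) to an
affine scheme, every finite set of points of the source lies in an affine open. -/
theorem result {X Y : Scheme.{u}} (f : X ⟶ Y) [IsAffine Y] [IsSeparated f] [LocallyQuasiFinite f] [LocallyOfFiniteType f] (T : Finset ↑X) :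
    ∃ U : X.Opens, IsAffineOpen U ∧ ∀ x ∈ T, x ∈ U := by
  classical
  have hcover : ∀ x : X, ∃ V : X.Opens, IsAffineOpen V ∧ x ∈ V := fun x => by
    obtain ⟨V, hV, hx, -⟩ := (X.isBasis_affineOpens).exists_subset_of_mem_open (Set.mem_univ x)
      isOpen_univ
    obtain ⟨V', hV', rfl⟩ := hV
    exact ⟨V', hV', hx⟩
  choose V hV hxV using hcover
  let X' : X.Opens := T.sup V
  have hcomp : IsCompact (X' : Set X) := by
    have : (X' : Set X) = ⋃ x ∈ T, (V x : Set X) := by
      ext y
      simp [X', TopologicalSpace.Opens.coe_finset_sup]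
    rw [this]
    exact T.isCompact_biUnion (fun x _ => (hV x).isCompact)
  have hTX' : ∀ x ∈ T, x ∈ X' := by
    intro x hx
    exact (Finset.le_sup (f := V) hx) (hxV x)
  haveI : CompactSpace ↥(X'.toScheme) := isCompact_iff_compactSpace.1 hcomp
  let g : ↑X' ⟶ Y := X'.ι ≫ f
  haveI : QuasiSeparatedSpace Y := inferInstance
  haveI : QuasiCompact g := quasiCompact_of_compactSpace g
  haveI : IsOpenImmersion g.toNormalization := inferInstance
  haveI : IsAffine g.normalization := isAffine_of_isAffineHom g.fromNormalization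
  let T' : Finset g.normalization :=
    T.attach.image (fun x => g.toNormalization ⟨x.1, hTX' x.1 x.2⟩)
  obtain ⟨D, hD, hDW, hDT⟩ := exists_affineOpen_le_of_isAffine g.normalization
    g.toNormalization.opensRange T' (by
      intro t ht
      rw [Finset.mem_image] at ht
      obtain ⟨x, -, rfl⟩ := ht
      exact ⟨_, rfl⟩)
  refine ⟨X'.ι ''ᵁ (g.toNormalization ⁻¹ᵁ D), ?_, ?_⟩
  · exact (hD.preimage_of_isOpenImmersion g.toNormalization hDW).image_of_isOpenImmersion X'.ι
  · intro x hx
    refine ⟨⟨x, hTX' x hx⟩, ?_, rfl⟩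
    exact hDT _ (Finset.mem_image.2 ⟨⟨x, hx⟩, Finset.mem_attach _ _, rfl⟩)

end Groth.Agent.S0411
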