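import Groth.Statements.S0423
import Mathlib

set_option autoImplicit false
universe u
open FlatMor

namespace Groth.Agent.S0423

set_option backward.isDefEq.respectTransparency.types false


open AlgebraicGeometry CategoryTheory Limits in
/-- A weakly étale morphism of schemes (flat with flat diagonal) is formally unramified. -/
theorem result {X Y : Scheme.{u}} (f : X ⟶ Y) [WeaklyEtale f] : FormallyUnramified f := by
  wlog hY : ∃ R, Y = Spec R
  · rw [IsZariskiLocalAtTarget.iff_of_openCover (P := @FormallyUnramified) Y.affineCover]
    intro i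
    exact this (pullback.snd _ _) ⟨_, rfl⟩
  obtain ⟨R, rfl⟩ := hY
  wlog hX : ∃ S, X = Spec S generalizing X
  · rw [IsZariskiLocalAtSource.iff_of_openCover (P := @FormallyUnramified) X.affineCover]
    intro i
    have inst : WeaklyEtale (X.affineCover.f i ≫ f) := inferInstance
    exact this (_ ≫ _) ⟨_, rfl⟩
  obtain ⟨S, rfl⟩ := hX
  obtain ⟨φ, rfl : Spec.map φ = f⟩ := Spec.homEquiv.symm.surjective f
  rw [HasRingHomProperty.Spec_iff (P := @FormallyUnramified)]
  algebraize [φ.hom]
  let F := (Algebra.TensorProduct.lmul' R (S := S)).toRingHom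
  have hF : Function.Surjective F := fun x ↦ ⟨.mk _ _ _ x 1, by simp [F]⟩
  have hdiag : Flat (pullback.diagonal (Spec.map φ)) := inferInstance
  have hflat : Flat (Spec.map (CommRingCat.ofHom F)) := by
    rwa [← MorphismProperty.cancel_right_of_respectsIso (P := @Flat) _
      (pullbackSpecIso R S S).inv, ← AlgebraicGeometry.diagonal_SpecMap R S]
  rw [Flat.SpecMap_iff] at hflat
  have hflat' : F.Flat := hflat
  -- ring level
  let : Algebra (TensorProduct R S S) S := F.toAlgebra
  have hmod : Module.Flat (TensorProduct R S S) S := hflat'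
  let f : TensorProduct R S S →ₐ[TensorProduct R S S] S := Algebra.ofId _ _
  have hf : Function.Surjective f := hF
  let e := Ideal.quotientKerAlgEquivOfSurjective hf
  have hpure : Module.Flat (TensorProduct R S S) (TensorProduct R S S ⧸ RingHom.ker f) :=
    Module.Flat.of_linearEquiv e.toLinearEquiv
  have hidem : IsIdempotentElem (RingHom.ker f) := Ideal.isIdempotentElem_of_pure _
  have hker : RingHom.ker f = KaehlerDifferential.ideal R S := rfl
  rw [hker] at hidem
  exact ⟨(Ideal.cotangent_subsingleton_iff _).mpr hidem⟩

end Groth.Agent.S0423
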