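import Groth.Statements.S0425
import Mathlib

set_option autoImplicit false
universe u
open FlatMor

namespace Groth.Agent.S0425

open AlgebraicGeometry CategoryTheory Limits in
/-- An fpqc cover which becomes an isomorphism after base change along itself is an isomorphism. -/
lemma isIso_of_cover {Z W : Scheme.{u}} (g : Z ⟶ W) (hs : Surjective g) (hf : Flat g)
    (hq : QuasiCompact g) (h : IsIso (pullback.fst g g)) : IsIso g :=
  MorphismProperty.of_pullback_fst_of_descendsAlong (P := MorphismProperty.isomorphisms Scheme.{u})
    (Q := @Surjective ⊓ @Flat ⊓ @QuasiCompact) (f := g) (g := g) ⟨⟨hs, hf⟩, hq⟩ h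

open AlgebraicGeometry CategoryTheory Limits in
lemma props_of_isHomeomorph {Z W : Scheme.{u}} (g : Z ⟶ W) (h : IsHomeomorph g) :
    Surjective g ∧ QuasiCompact g := by
  have : IsAffineHom g :=
    isAffineHom_of_isInducing g h.isInducing h.isClosedEmbedding.isClosed_range
  exact ⟨⟨h.surjective⟩, inferInstance⟩

open AlgebraicGeometry CategoryTheory Limits in
/-- A weakly étale universal homeomorphism is an isomorphism. -/
theorem result {X Y : Scheme.{u}} (f : X ⟶ Y) [WeaklyEtale f] (h : FlatMor.IsUnivHomeo f) : IsIso f := by
  have hf : IsHomeomorph f := MorphismProperty.universally_le _ _ h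
  have hpr : IsHomeomorph (pullback.fst f f) := h _ _ _ (IsPullback.of_hasPullback f f)
  have hΔpr : pullback.diagonal f ≫ pullback.fst f f = 𝟙 X := pullback.diagonal_fst f
  have hΔ : IsHomeomorph (pullback.diagonal f) := by
    have h1 : ∀ x, pullback.fst f f (pullback.diagonal f x) = x := by
      intro x
      rw [← Scheme.Hom.comp_apply, hΔpr]
      rfl
    have hsurj : Function.Surjective (pullback.diagonal f) := by
      intro z
      refine ⟨pullback.fst f f z, ?_⟩
      apply hpr.injective
      rw [h1]
    have hinj : Function.Injective (pullback.diagonal f) := by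
      intro a b hab
      rw [← h1 a, ← h1 b, hab]
    have hopen : IsOpenMap (pullback.diagonal f) := by
      intro U hU
      have : (pullback.diagonal f) '' U = (pullback.fst f f) ⁻¹' U := by
        ext z
        constructor
        · rintro ⟨x, hx, rfl⟩
          change pullback.fst f f (pullback.diagonal f x) ∈ U
          rw [h1]
          exact hx
        · intro hz
          obtain ⟨x, rfl⟩ := hsurj z
          refine ⟨x, ?_, rfl⟩
          have : pullback.fst f f (pullback.diagonal f x) ∈ U := hz
          rwa [h1] at this
      rw [this]
      exact hU.preimage (pullback.fst f f).continuous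
    exact ⟨(pullback.diagonal f).continuous, hopen, hinj, hsurj⟩
  obtain ⟨hΔs, hΔq⟩ := props_of_isHomeomorph _ hΔ
  have hΔiso : IsIso (pullback.diagonal f) :=
    isIso_of_cover _ hΔs inferInstance hΔq inferInstance
  have hpriso : IsIso (pullback.fst f f) := by
    have : IsIso (pullback.diagonal f ≫ pullback.fst f f) := by
      rw [hΔpr]
      infer_instance
    exact IsIso.of_isIso_comp_left (pullback.diagonal f) (pullback.fst f f)
  obtain ⟨hfs, hfq⟩ := props_of_isHomeomorph _ hf
  exact isIso_of_cover f hfs inferInstance hfq hpriso

end Groth.Agent.S0425
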