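import Groth.Statements.S0429
import Groth.Agent.Lib.Helper3.DomFlat3

set_option autoImplicit false
universe u
open FlatMor

namespace Groth.Agent.S0429

open AlgebraicGeometry CategoryTheory Limits in
/-- A flat morphism locally of finite type to an integral scheme is locally of finite presentation. -/
theorem result {X S : Scheme.{u}} (f : X ⟶ S) [IsIntegral S] [Flat f] [LocallyOfFiniteType f] : LocallyOfFinitePresentation f := by
  exact Groth.Agent.Lib.helper3.DomFlat.lfp_of_flat_integral f

end Groth.Agent.S0429
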