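import Groth.Statements.S0432
import Groth.Agent.Lib.Helper12.Ferrand4

set_option autoImplicit false
universe u
open FlatMor

namespace Groth.Agent.S0432

section Helpers
open AlgebraicGeometry CategoryTheory Limits TopologicalSpace Groth.Agent.Lib.Helper12

/-- good pairs through every point of `Y` when both maps are closed immersions -/
theorem hcov {X Y Z : Scheme.{u}} (i : Z ⟶ X) (j : Z ⟶ Y) [IsClosedImmersion i]
    [IsClosedImmersion j] (y : Y) :
    ∃ (U : X.Opens) (V : Y.Opens), IsAffineOpen U ∧ IsAffineOpen V ∧ y ∈ V ∧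
      i ⁻¹ᵁ U = j ⁻¹ᵁ V := by
  by_cases hy : y ∈ Set.range j.base
  · obtain ⟨z, rfl⟩ := hy
    obtain ⟨U₀, hU₀, hzU₀, -⟩ := Opens.isBasis_iff_nbhd.mp X.isBasis_affineOpens
      (Opens.mem_top (i.base z))
    obtain ⟨V₀, hV₀, hzV₀, -⟩ := Opens.isBasis_iff_nbhd.mp Y.isBasis_affineOpens
      (Opens.mem_top (j.base z))
    have hU₀' : IsAffineOpen U₀ := hU₀
    have hV₀' : IsAffineOpen V₀ := hV₀
    have hW₁ : IsAffineOpen (i ⁻¹ᵁ U₀) := hU₀'.preimage i
    have hW₂ : IsAffineOpen (j ⁻¹ᵁ V₀) := hV₀'.preimage j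
    obtain ⟨f, g, hfg, hz⟩ := exists_basicOpen_le_affine_inter hW₁ hW₂ z ⟨hzU₀, hzV₀⟩
    obtain ⟨f', rfl⟩ := i.app_surjective U₀ hU₀' f
    obtain ⟨g', rfl⟩ := j.app_surjective V₀ hV₀' g
    refine ⟨X.basicOpen f', Y.basicOpen g', hU₀'.basicOpen f', hV₀'.basicOpen g', ?_, ?_⟩
    · have : z ∈ j ⁻¹ᵁ Y.basicOpen g' := by
        rw [Scheme.preimage_basicOpen, ← hfg]; exact hz
      exact this
    · rw [Scheme.preimage_basicOpen, Scheme.preimage_basicOpen, hfg]
  · have hcl : IsClosed (Set.range j.base) := j.isClosedEmbedding.isClosed_range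
    let O : Y.Opens := ⟨(Set.range j.base)ᶜ, hcl.isOpen_compl⟩
    obtain ⟨V, hV, hyV, hVO⟩ := Opens.isBasis_iff_nbhd.mp Y.isBasis_affineOpens (show y ∈ O from hy)
    refine ⟨⊥, V, isAffineOpen_bot X, hV, hyV, ?_⟩
    ext z
    simp only [Scheme.Hom.preimage_bot, Opens.coe_bot, Set.mem_empty_iff_false, false_iff]
    intro hz
    exact hVO hz ⟨z, rfl⟩

end Helpers

open AlgebraicGeometry CategoryTheory Limits in
/-- The pushout of two closed immersions Z → X and Z → Y exists in schemes, both maps into it are closed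
immersions and the square is cartesian. -/
theorem result {X Y Z : Scheme.{u}} (i : Z ⟶ X) (j : Z ⟶ Y) [IsClosedImmersion i] [IsClosedImmersion j] :
    ∃ (P : Scheme.{u}) (a : X ⟶ P) (b : Y ⟶ P), IsPushout i j a b ∧ IsPullback i j a b ∧ IsClosedImmersion a ∧ IsClosedImmersion b := by
  obtain ⟨P, a, b, h₁, h₂, h₃, -, h₅⟩ :=
    Groth.Agent.Lib.Helper12.Ferrand.exists_pushout i j (hcov i j)
  exact ⟨P, a, b, h₁, h₂, h₅ inferInstance, h₃⟩

end Groth.Agent.S0432
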