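import Groth.Statements.S1379
import Groth.Agent.Lib.Helper5.QFRefineSch
import Groth.Agent.Lib.Helper13.EL2

set_option autoImplicit false
universe u
open FlatMor

namespace Groth.Agent.S1379

open AlgebraicGeometry CategoryTheory Limits in
/-- Let S₁ → S be flat, locally of finite presentation and surjective (an fppf cover by one morphism).
Then for every point s of S there are an étale morphism S' → S whose image contains s and a
surjective, finite, flat morphism of finite presentation V → S' such that V → S factors through S₁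
Zariski locally on V. -/
theorem result {S₁ S : Scheme.{u}} (g : S₁ ⟶ S) [Flat g] [LocallyOfFinitePresentation g] [Surjective g] (s : S) :
    ∃ (S' V : Scheme.{u}) (e : S' ⟶ S) (π : V ⟶ S'), Etale e ∧ s ∈ Set.range ⇑e ∧ Surjective π ∧ IsFinite π ∧ Flat π ∧ LocallyOfFinitePresentation π ∧
      ∀ v : ↑V, ∃ (W : V.Opens) (r : ↑W ⟶ S₁), v ∈ W ∧ r ≫ g = W.ι ≫ π ≫ e := by
  obtain ⟨x, rfl⟩ := g.surjective s
  obtain ⟨A, γ, h, hfac, hfl, hfp, hqf, a, ha⟩ :=
    Groth.Agent.Lib.helper5.QFRefineSch.exists_affine_refinement_at g x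
  haveI : LocallyOfFiniteType γ := inferInstance
  have hqa : γ.QuasiFiniteAt a := γ.quasiFiniteAt a
  obtain ⟨U, e, u, he, heu, -, V, v, hvV, hfin, hsnd, hfst, -, -⟩ :=
    Groth.Agent.Lib.helper13.EL.exists_etale_nbhd_of_quasiFiniteAt γ a hqa
  let π₀ : V.toScheme ⟶ U := V.ι ≫ pullback.snd γ e
  haveI : IsFinite π₀ := hfin
  haveI : Flat π₀ := inferInstance
  haveI : LocallyOfFinitePresentation π₀ := inferInstance
  have hopen : IsOpen (Set.range π₀) := π₀.isOpenMap.isOpen_range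
  let W : U.Opens := ⟨Set.range π₀, hopen⟩
  have hfac' : ((π₀ ⁻¹ᵁ W).ι ≫ V.ι ≫ pullback.fst γ e ≫ h) ≫ g =
      (π₀ ∣_ W) ≫ W.ι ≫ e := by
    rw [← Category.assoc (π₀ ∣_ W), morphismRestrict_ι]
    simp only [Category.assoc, hfac, π₀]
    rw [pullback.condition]
  refine ⟨W.toScheme, (π₀ ⁻¹ᵁ W).toScheme, W.ι ≫ e, π₀ ∣_ W, inferInstance, ?_, ?_, inferInstance,
    inferInstance, inferInstance, ?_⟩
  · refine ⟨⟨u, ⟨⟨v, hvV⟩, ?_⟩⟩, ?_⟩
    · change (V.ι ≫ pullback.snd γ e) ⟨v, hvV⟩ = u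
      rw [Scheme.Hom.comp_apply]
      exact hsnd
    · rw [Scheme.Hom.comp_apply]
      change e u = g x
      rw [heu, ha]
  · refine ⟨fun ⟨w, y, hy⟩ => ?_⟩
    refine ⟨⟨y, ⟨y, rfl⟩⟩, ?_⟩
    apply Subtype.ext
    rw [morphismRestrict_base_coe]
    exact hy
  · intro v'
    exact ⟨⊤, (⊤ : (π₀ ⁻¹ᵁ W).toScheme.Opens).ι ≫ (π₀ ⁻¹ᵁ W).ι ≫ V.ι ≫ pullback.fst γ e ≫ h,
      trivial, by rw [Category.assoc, hfac']⟩

end Groth.Agent.S1379
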