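import Groth.Statements.S0443
import Mathlib

set_option autoImplicit false
universe u
open FlatMor

namespace Groth.Agent.S0443

open AlgebraicGeometry CategoryTheory Limits in
/-- For a finite morphism π : X → Y and a point x of X that is the only point of its fibre, the induced
homomorphism of local rings O_{Y,π(x)} → O_{X,x} is finite. (The published lemma has further parts,
not stated here.) -/
theorem result {X Y : Scheme.{u}} (π : X ⟶ Y) [IsFinite π] (x : X) (hx : ∀ x' : ↑X, π x' = π x → x' = x) :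
    (π.stalkMap x).hom.Finite := by
  obtain ⟨V, hV, hyV, -⟩ := TopologicalSpace.Opens.isBasis_iff_nbhd.mp Y.isBasis_affineOpens
    (TopologicalSpace.Opens.mem_top (π x))
  have hU : IsAffineOpen (π ⁻¹ᵁ V) := hV.preimage π
  have hxU : x ∈ π ⁻¹ᵁ V := hyV
  rw [RingHom.finite_respectsIso.arrow_mk_iso_iff
    (IsAffineOpen.arrowStalkMapIso π V hV (π ⁻¹ᵁ V) hU le_rfl hxU)]
  have hfin : (π.appLE V (π ⁻¹ᵁ V) le_rfl).hom.Finite := by
    rw [← Scheme.Hom.app_eq_appLE]
    exact IsFinite.finite_app π V hV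
  letI : Algebra Γ(Y, V) Γ(X, π ⁻¹ᵁ V) := (π.appLE V (π ⁻¹ᵁ V) le_rfl).hom.toAlgebra
  haveI : Module.Finite Γ(Y, V) Γ(X, π ⁻¹ᵁ V) := hfin
  set p := (hV.primeIdealOf ⟨π x, hyV⟩).asIdeal with hp
  set q := (hU.primeIdealOf ⟨x, hxU⟩).asIdeal with hq
  have hcomap := IsAffineOpen.comap_primeIdealOf_appLE V hV (π ⁻¹ᵁ V) hU le_rfl hxU
  haveI : q.LiesOver p := ⟨congr($(hcomap).1).symm⟩
  have hqs : p.primesOver Γ(X, π ⁻¹ᵁ V) = {q} := by
    ext q'
    simp only [Set.mem_singleton_iff]
    constructor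
    · rintro ⟨hq'prime, hq'over⟩
      let z : Spec Γ(X, π ⁻¹ᵁ V) := ⟨q', hq'prime⟩
      have hzU : hU.fromSpec z ∈ π ⁻¹ᵁ V := by
        have : hU.fromSpec z ∈ Set.range hU.fromSpec := ⟨z, rfl⟩
        rw [hU.range_fromSpec] at this
        exact this
      have hz1 : hU.primeIdealOf ⟨hU.fromSpec z, hzU⟩ = z := by
        apply hU.fromSpec.isOpenEmbedding.injective
        exact hU.fromSpec_primeIdealOf ⟨hU.fromSpec z, hzU⟩
      have hz2 : π (hU.fromSpec z) = π x := by
        rw [← Scheme.Hom.comp_apply, ← IsAffineOpen.SpecMap_appLE_fromSpec π hV hU le_rfl,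
          Scheme.Hom.comp_apply]
        have : Spec.map (π.appLE V (π ⁻¹ᵁ V) le_rfl) z = hV.primeIdealOf ⟨π x, hyV⟩ := by
          apply PrimeSpectrum.ext
          exact hq'over.over.symm
        rw [this]
        exact hV.fromSpec_primeIdealOf ⟨π x, hyV⟩
      have hz3 : hU.fromSpec z = x := hx _ hz2
      have : hU.primeIdealOf ⟨x, hxU⟩ = z := by
        rw [← hz1]
        congr 1
        exact Subtype.ext hz3.symm
      rw [hq, this]
    · rintro rfl
      exact ⟨inferInstance, inferInstance⟩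
  letI := Localization.AtPrime.algebraOfLiesOver p q
  exact Localization.finite_of_primesOver_eq_singleton hqs

end Groth.Agent.S0443
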