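import Groth.Statements.S0445
import Mathlib

set_option autoImplicit false
universe u
open FlatMor

namespace Groth.Agent.S0445

open AlgebraicGeometry CategoryTheory Limits in
/-- Two morphisms over S into an S-scheme unramified over S which agree at a point and induce the same
map on residue fields there agree on an open neighbourhood of that point. -/
theorem result {X Y S : Scheme.{u}} (p : Y ⟶ S) [FormallyUnramified p] [LocallyOfFiniteType p] (f g : X ⟶ Y) (hfg : f ≫ p = g ≫ p)
    (x : X) (h1 : f x = g x) (h2 : f.residueFieldMap x = (Y.residueFieldCongr h1).hom ≫ g.residueFieldMap x) :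
    ∃ U : X.Opens, x ∈ U ∧ U.ι ≫ f = U.ι ≫ g := by
  let Δ := pullback.diagonal p
  let g' : X ⟶ pullback p p := pullback.lift f g hfg
  let e : pullback g' Δ ⟶ X := pullback.fst g' Δ
  have he_open : IsOpenImmersion e := inferInstance
  have hef : e ≫ f = pullback.snd g' Δ := by
    have : e ≫ g' = pullback.snd g' Δ ≫ Δ := pullback.condition
    have := congrArg (· ≫ pullback.fst p p) this
    simpa only [g', Δ, Category.assoc, pullback.lift_fst, pullback.diagonal_fst, Category.comp_id]
      using this
  have heg : e ≫ g = pullback.snd g' Δ := by
    have : e ≫ g' = pullback.snd g' Δ ≫ Δ := pullback.condition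
    have := congrArg (· ≫ pullback.snd p p) this
    simpa only [g', Δ, Category.assoc, pullback.lift_snd, pullback.diagonal_snd, Category.comp_id]
      using this
  -- the residue field point
  have hx : X.fromSpecResidueField x ≫ f = X.fromSpecResidueField x ≫ g := by
    rw [← Scheme.Hom.SpecMap_residueFieldMap_fromSpecResidueField,
      ← Scheme.Hom.SpecMap_residueFieldMap_fromSpecResidueField, h2, Spec.map_comp, Category.assoc,
      Scheme.residueFieldCongr_fromSpecResidueField]
  have hpg : X.fromSpecResidueField x ≫ g' = (X.fromSpecResidueField x ≫ f) ≫ Δ := by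
    apply pullback.hom_ext
    · simp only [g', Δ, Category.assoc, pullback.lift_fst, pullback.diagonal_fst, Category.comp_id]
    · simp only [g', Δ, Category.assoc, pullback.lift_snd, pullback.diagonal_snd, Category.comp_id, hx]
  let l : Spec (X.residueField x) ⟶ pullback g' Δ :=
    pullback.lift (X.fromSpecResidueField x) (X.fromSpecResidueField x ≫ f) hpg
  have hl : l ≫ e = X.fromSpecResidueField x := pullback.lift_fst _ _ _
  refine ⟨e.opensRange, ?_, ?_⟩
  · obtain ⟨s⟩ : Nonempty (Spec (X.residueField x)) := inferInstance
    refine ⟨l s, ?_⟩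
    rw [← Scheme.Hom.comp_apply, hl, Scheme.fromSpecResidueField_apply]
  · rw [← Scheme.Hom.isoOpensRange_inv_comp, Category.assoc, Category.assoc, hef, heg]

end Groth.Agent.S0445
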