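import Groth.Statements.S0446
import Groth.Agent.S1202
import Groth.Agent.Lib.Helper3.EtNhdSpec
import Groth.Agent.Lib.Helper3.FlatLocus5

set_option autoImplicit false
universe u
open FlatMor

namespace Groth.Agent.S0446

open AlgebraicGeometry CategoryTheory Limits in
/-- For a morphism locally of finite presentation which is flat at a point x, there are affine étale
neighbourhoods (X', x') of (X, x) and (S', s') of (S, f x) with trivial residue field extensions and
a compatible morphism X' → S' such that the ring of global sections of X' is a projective module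
over that of S'. -/
theorem result {X S : Scheme.{u}} (f : X ⟶ S) [LocallyOfFinitePresentation f] (x : X) (hx : (f.stalkMap x).hom.Flat) :
    ∃ (X' S' : Scheme.{u}) (g : X' ⟶ X) (e : S' ⟶ S) (f' : X' ⟶ S') (x' : X'),
      IsAffine X' ∧ IsAffine S' ∧ Etale g ∧ Etale e ∧ g ≫ f = f' ≫ e ∧ g x' = x ∧ e (f' x') = f x ∧
      Function.Surjective (g.residueFieldMap x') ∧ Function.Surjective (e.residueFieldMap (f' x')) ∧
      @Module.Projective Γ(S', ⊤) _ Γ(X', ⊤) _ (f'.appTop).hom.toAlgebra.toModule := by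
  obtain ⟨_, ⟨U, hU : IsAffineOpen U, rfl⟩, hfxU, -⟩ :=
    S.isBasis_affineOpens.exists_subset_of_mem_open (Set.mem_univ (f x)) isOpen_univ
  obtain ⟨_, ⟨V, hV : IsAffineOpen V, rfl⟩, hxV, hVU'⟩ :=
    X.isBasis_affineOpens.exists_subset_of_mem_open (show x ∈ (f ⁻¹ᵁ U : Set X) from hfxU)
      (f ⁻¹ᵁ U).isOpen
  have hVU : V ≤ f ⁻¹ᵁ U := hVU'
  have hfp : (f.appLE U V hVU).hom.FinitePresentation := f.finitePresentation_appLE hU hV hVU
  have hfl := (Groth.Agent.Lib.helper3.FlatLocus.flat_stalkMap_iff f U hU V hV hVU hxV).mp hx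
  letI alg : Algebra Γ(S, U) Γ(X, V) := (f.appLE U V hVU).hom.toAlgebra
  haveI : Algebra.FinitePresentation Γ(S, U) Γ(X, V) := hfp
  haveI hlo : (hV.primeIdealOf ⟨x, hxV⟩).asIdeal.LiesOver
      (hU.primeIdealOf ⟨f x, hVU hxV⟩).asIdeal :=
    ⟨congr($(IsAffineOpen.comap_primeIdealOf_appLE U hU V hV hVU hxV).1).symm⟩
  have hflat : FlatCA.FlatAt Γ(S, U) (hV.primeIdealOf ⟨x, hxV⟩).asIdeal Γ(X, V) := hfl
  obtain ⟨R', S₁, _, _, algRR', algBS₁, algR'S₁, algRS₁, tw1, tw2, p', q', hp', hq', hEtR, hEtS,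
    hq'p', hproj⟩ := Groth.Agent.S1202.result (R := Γ(S, U)) (S := Γ(X, V)) Γ(X, V)
      (hU.primeIdealOf ⟨f x, hVU hxV⟩).asIdeal (hV.primeIdealOf ⟨x, hxV⟩).asIdeal hflat
  obtain ⟨hgEt, hgx, hgres⟩ := Groth.Agent.Lib.helper3.EtNhdSpec.etaleNhd_spec hV
    (hV.primeIdealOf ⟨x, hxV⟩) S₁ q' hEtS
  obtain ⟨heEt, hex, heres⟩ := Groth.Agent.Lib.helper3.EtNhdSpec.etaleNhd_spec hU
    (hU.primeIdealOf ⟨f x, hVU hxV⟩) R' p' hEtR
  have hf'x' : (Spec.map (CommRingCat.ofHom (algebraMap R' S₁))) ⟨q', hq'⟩ = ⟨p', hp'⟩ := by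
    apply PrimeSpectrum.ext
    exact hq'p'.over.symm
  have hcomm : (Spec.map (CommRingCat.ofHom (algebraMap Γ(X, V) S₁)) ≫ hV.fromSpec) ≫ f =
      Spec.map (CommRingCat.ofHom (algebraMap R' S₁)) ≫
        (Spec.map (CommRingCat.ofHom (algebraMap Γ(S, U) R')) ≫ hU.fromSpec) := by
    rw [Category.assoc, ← IsAffineOpen.SpecMap_appLE_fromSpec f hU hV hVU, ← Category.assoc,
      ← Category.assoc, ← Spec.map_comp, ← Spec.map_comp]
    congr 2
    ext r
    show algebraMap Γ(X, V) S₁ (algebraMap Γ(S, U) Γ(X, V) r) =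
      algebraMap R' S₁ (algebraMap Γ(S, U) R' r)
    rw [← IsScalarTower.algebraMap_apply, ← IsScalarTower.algebraMap_apply]
  refine ⟨Spec (.of S₁), Spec (.of R'), _, _, Spec.map (CommRingCat.ofHom (algebraMap R' S₁)),
    ⟨q', hq'⟩, inferInstance, inferInstance, hgEt, heEt, hcomm, ?_, ?_, hgres, ?_, ?_⟩
  · rw [hgx, hV.fromSpec_primeIdealOf]
  · rw [hf'x', hex, hU.fromSpec_primeIdealOf]
  · rw [hf'x']
    exact heres
  · haveI := hproj
    haveI : Module.Projective R' S₁ := by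
      let e0 : TensorProduct Γ(X, V) S₁ Γ(X, V) ≃ₗ[S₁] S₁ :=
        TensorProduct.AlgebraTensorModule.rid Γ(X, V) S₁ S₁
      have e : RestrictScalars R' S₁ (TensorProduct Γ(X, V) S₁ Γ(X, V)) ≃ₗ[R'] S₁ :=
        { (RestrictScalars.addEquiv R' S₁ _).trans e0.toAddEquiv with
          map_smul' := fun r m => by
            show e0 (algebraMap R' S₁ r • (RestrictScalars.addEquiv R' S₁ _ m)) = r • e0 _
            rw [map_smul, algebraMap_smul]
            rfl }
      exact Module.Projective.of_equiv' e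
    exact Groth.Agent.Lib.helper3.EtNhdSpec.projective_appTop_SpecMap

end Groth.Agent.S0446
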