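import Groth.Statements.S0447
import Groth.Agent.Lib.Helper3.GIProj4

set_option autoImplicit false
universe u
open FlatMor

namespace Groth.Agent.S0447

open AlgebraicGeometry CategoryTheory Limits in
/-- For a flat morphism of finite presentation between affine schemes whose fibres are geometrically
integral, the coordinate ring of the source is a projective module over that of the target. -/
theorem result {X S : Scheme.{u}} (f : X ⟶ S) [IsAffine X] [IsAffine S] [Flat f] [LocallyOfFinitePresentation f] [GeometricallyIntegral f] :
    @Module.Projective Γ(S, ⊤) _ Γ(X, ⊤) _ (f.appTop).hom.toAlgebra.toModule := by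
  letI alg : Algebra Γ(S, ⊤) Γ(X, ⊤) := f.appTop.hom.toAlgebra
  haveI : Algebra.FinitePresentation Γ(S, ⊤) Γ(X, ⊤) :=
    (HasRingHomProperty.iff_of_isAffine (P := @LocallyOfFinitePresentation) (f := f)).mp
      inferInstance
  haveI : Module.Flat Γ(S, ⊤) Γ(X, ⊤) :=
    (HasRingHomProperty.iff_of_isAffine (P := @Flat) (f := f)).mp inferInstance
  haveI : MorphismProperty.RespectsIso @GeometricallyIntegral.{u} :=
    MorphismProperty.IsStableUnderBaseChange.respectsIso
  have hgi : FlatCA.GeomIntegralFibres Γ(S, ⊤) Γ(X, ⊤) := by
    show GeometricallyIntegral (Spec.map (CommRingCat.ofHom (algebraMap Γ(S, ⊤) Γ(X, ⊤))))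
    have : GeometricallyIntegral (Spec.map f.appTop) :=
      (MorphismProperty.arrow_mk_iso_iff @GeometricallyIntegral
        (arrowIsoSpecΓOfIsAffine f)).mp inferInstance
    exact this
  exact Groth.Agent.Lib.helper3.GIProj.projective_of_geomIntegralFibres hgi

end Groth.Agent.S0447
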