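import Groth.Statements.S0448
import Mathlib
import Groth.Agent.Lib.Helper19.FlatIndep

set_option autoImplicit false
universe u
open FlatMor

namespace Groth.Agent.S0448

open TensorProduct IsLocalRing Groth.Agent.Lib.Helper19.FlatIndep

lemma flat_prod {R : Type*} [CommRing R] {A B : Type*} [AddCommGroup A] [Module R A]
    [AddCommGroup B] [Module R B] [Module.Flat R A] [Module.Flat R B] : Module.Flat R (A × B) := by
  rw [Module.Flat.iff_lTensor_injective']
  intro I
  have h : (TensorProduct.prodLeft R R A B R).toLinearMap ∘ₗ
      (LinearMap.lTensor (A × B) I.subtype) =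
      (LinearMap.prodMap (LinearMap.lTensor A I.subtype) (LinearMap.lTensor B I.subtype)) ∘ₗ
        (TensorProduct.prodLeft R R A B I).toLinearMap := by
    ext <;> simp
  have hinj : Function.Injective
      ((LinearMap.prodMap (LinearMap.lTensor A I.subtype) (LinearMap.lTensor B I.subtype)) ∘ₗ
        (TensorProduct.prodLeft R R A B I).toLinearMap) := by
    rw [LinearMap.coe_comp]
    refine Function.Injective.comp ?_ (LinearEquiv.injective _)
    exact Prod.map_injective.mpr
      ⟨Module.Flat.lTensor_preserves_injective_linearMap _ Subtype.val_injective,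
        Module.Flat.lTensor_preserves_injective_linearMap _ Subtype.val_injective⟩
  rw [← h, LinearMap.coe_comp] at hinj
  exact Function.Injective.of_comp hinj

lemma map_smul_top_le' {R : Type*} [CommRing R] {A B : Type*} [AddCommGroup A] [Module R A]
    [AddCommGroup B] [Module R B] (f : A →ₗ[R] B) (I : Ideal R) {x : A}
    (hx : x ∈ I • (⊤ : Submodule R A)) : f x ∈ I • (⊤ : Submodule R B) := by
  have : Submodule.map f (I • (⊤ : Submodule R A)) ≤ I • (⊤ : Submodule R B) := by
    rw [Submodule.map_smul'']
    exact Submodule.smul_mono le_rfl le_top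
  exact this ⟨x, hx, rfl⟩

theorem main {R M N : Type u} [CommRing R] [IsLocalRing R] [AddCommGroup M] [Module R M]
    [Module.Projective R M]
    [AddCommGroup N] [Module R N] [Module.Flat R N] (u : M →ₗ[R] N)
    (h : Function.Injective (LinearMap.lTensor (IsLocalRing.ResidueField R) u)) :
    ∀ (Q : Type u) [AddCommGroup Q] [Module R Q], Function.Injective (LinearMap.rTensor Q u) := by
  intro Q _ _
  classical
  have H := P_of_inj u (maximalIdeal R) h
  obtain ⟨s, hs⟩ := Module.Projective.out (R := R) (P := M)
  set π : (M →₀ R) →ₗ[R] M := Finsupp.linearCombination R id with hπ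
  have hπs : ∀ m, π (s m) = m := hs
  let U : (M →₀ R) →ₗ[R] N × (M →₀ R) := (u ∘ₗ π).prod (LinearMap.id - s ∘ₗ π)
  have : Module.Flat R (N × (M →₀ R)) := flat_prod
  have HU : ∀ f, U f ∈ maximalIdeal R • (⊤ : Submodule R (N × (M →₀ R))) →
      f ∈ maximalIdeal R • (⊤ : Submodule R (M →₀ R)) := by
    intro f hf
    have h1 : u (π f) ∈ maximalIdeal R • (⊤ : Submodule R N) := by
      have := map_smul_top_le' (LinearMap.fst R N (M →₀ R)) _ hf
      simpa [U] using this
    have h2 : f - s (π f) ∈ maximalIdeal R • (⊤ : Submodule R (M →₀ R)) := by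
      have := map_smul_top_le' (LinearMap.snd R N (M →₀ R)) _ hf
      simpa [U] using this
    have h3 : s (π f) ∈ maximalIdeal R • (⊤ : Submodule R (M →₀ R)) :=
      map_smul_top_le' s _ (H _ h1)
    have : f = (f - s (π f)) + s (π f) := by abel
    rw [this]; exact Submodule.add_mem _ h2 h3
  have hU : Function.Injective (LinearMap.lTensor Q U) := by
    rw [injective_iff_map_eq_zero]
    intro t ht
    set g := TensorProduct.finsuppScalarRight R R Q M t with hg
    have htg : t = ∑ x ∈ g.support, g x ⊗ₜ[R] Finsupp.single x (1:R) := by
      have : t = (TensorProduct.finsuppScalarRight R R Q M).symm g := by simp [hg]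
      rw [this]
      conv_lhs => rw [← Finsupp.sum_single g]
      rw [Finsupp.sum, map_sum]
      simp
    let e := g.support.equivFin.symm
    have hsum : ∑ i, (g (e i)) ⊗ₜ[R] U (Finsupp.single (e i : M) 1) = 0 := by
      have := Equiv.sum_comp e (fun x : g.support => g x ⊗ₜ[R] U (Finsupp.single (x : M) 1))
      rw [this, Finset.sum_coe_sort g.support (fun x => g x ⊗ₜ[R] U (Finsupp.single x 1))]
      rw [← ht]
      conv_rhs => rw [htg]
      rw [map_sum]
      simp
    have hind : IndepMod R (fun i => U (Finsupp.single (e i : M) 1)) := by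
      intro c hc i
      have h1 : ∑ i, c i • U (Finsupp.single (e i : M) 1) =
          U (∑ i, c i • Finsupp.single (e i : M) 1) := by simp only [map_sum, map_smul]
      rw [h1] at hc
      have h2 := HU _ hc
      have h3 : (∑ j, c j • Finsupp.single (e j : M) (1:R)) (e i : M) = c i := by
        rw [Finsupp.finsetSum_apply, Finset.sum_eq_single i]
        · simp
        · intro j _ hj
          have : (e j : M) ≠ (e i : M) := fun h => hj (e.injective (Subtype.ext h))
          simp [Finsupp.single_apply, this]
        · intro h; exact absurd (Finset.mem_univ _) h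
      have h4 := map_smul_top_le' (Finsupp.lapply (R := R) (e i : M)) _ h2
      rw [Finsupp.lapply_apply, h3] at h4
      simpa using h4
    have hq := key _ _ _ hind hsum
    have hg0 : g = 0 := by
      ext x
      by_contra hx
      have hx' : x ∈ g.support := Finsupp.mem_support_iff.mpr hx
      have := hq (e.symm ⟨x, hx'⟩)
      simp at this
      exact hx this
    rw [htg, hg0]; simp
  rw [← LinearMap.lTensor_inj_iff_rTensor_inj]
  rw [injective_iff_map_eq_zero]
  intro t ht
  have h1 : LinearMap.lTensor Q U (LinearMap.lTensor Q s t) =
      LinearMap.lTensor Q (LinearMap.inl R N (M →₀ R)) (LinearMap.lTensor Q u t) := by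
    rw [← LinearMap.comp_apply, ← LinearMap.lTensor_comp, ← LinearMap.comp_apply,
      ← LinearMap.lTensor_comp]
    congr 2
    apply LinearMap.ext
    intro m
    simp [U, hπs]
  rw [ht, map_zero] at h1
  have h2 := hU (h1.trans (map_zero _).symm)
  have h3 : t = LinearMap.lTensor Q π (LinearMap.lTensor Q s t) := by
    rw [← LinearMap.comp_apply, ← LinearMap.lTensor_comp]
    have : π ∘ₗ s = LinearMap.id := LinearMap.ext hπs
    rw [this, LinearMap.lTensor_id, LinearMap.id_apply]
  rw [h3, h2, map_zero]



open TensorProduct in
/-- Over a local ring, a linear map from a projective module to a flat module which is injective modulo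
the maximal ideal is universally injective (injective after tensoring with any module). -/
theorem result {R M N : Type u} [CommRing R] [IsLocalRing R] [AddCommGroup M] [Module R M] [Module.Projective R M]
    [AddCommGroup N] [Module R N] [Module.Flat R N] (u : M →ₗ[R] N)
    (h : Function.Injective (LinearMap.lTensor (IsLocalRing.ResidueField R) u)) :
    ∀ (Q : Type u) [AddCommGroup Q] [Module R Q], Function.Injective (LinearMap.rTensor Q u) := by
    exact main u h

end Groth.Agent.S0448
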