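import Groth.Statements.S0457
import Mathlib
import Groth.Agent.S0453

set_option autoImplicit false
universe u
open CategoryTheory
open CohTop

namespace Groth.Agent.S0457

open TopologicalSpace Opposite CategoryTheory

theorem surj_restrict {X : TopCat.{u}} [IrreducibleSpace X] (A : Type u) [AddCommGroup A]
    {U V : Opens X} (hVU : V ≤ U) :
    Function.Surjective ((CohTop.const X A).obj.map (homOfLE hVU).op) := by
  classical
  intro s
  let F := (CohTop.const X A)
  let J := Opens.grothendieckTopology X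
  let P : (Opens X)ᵒᵖ ⥤ AddCommGrpCat.{u} := (Functor.const _).obj (AddCommGrpCat.of A)
  let η : P ⟶ F.obj := toSheafify J P
  have hsurj : TopCat.Presheaf.IsLocallySurjective η := by
    unfold TopCat.Presheaf.IsLocallySurjective
    show Presheaf.IsLocallySurjective J (toSheafify J P)
    infer_instance
  rw [TopCat.Presheaf.isLocallySurjective_iff] at hsurj
  have hinj : ∀ (W : Opens X) (a b : A), (W : Set X).Nonempty →
      η.app (op W) a = η.app (op W) b → a = b := by
    intro W a b hW h
    obtain ⟨x, hx⟩ := hW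
    have hli : Presheaf.IsLocallyInjective J η := by
      show Presheaf.IsLocallyInjective J (toSheafify J P)
      infer_instance
    have := Presheaf.equalizerSieve_mem J η (X := op W) a b h
    obtain ⟨W', f, hf, _⟩ := this x hx
    simpa [P] using hf
  have hnat : ∀ {W W' : Opens X} (h : W' ≤ W) (a : A),
      F.obj.map (homOfLE h).op (η.app (op W) a) = η.app (op W') a := by
    intro W W' h a
    have := η.naturality (homOfLE h).op
    have h2 := congrArg (fun f => (ConcreteCategory.hom f) a) this
    simpa [P] using h2.symm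
  have hmm : ∀ {W₁ W₂ W₃ : Opens X} (h₁ : W₂ ≤ W₁) (h₂ : W₃ ≤ W₂) (a : F.obj.obj (op W₁)),
      F.obj.map (homOfLE h₂).op (F.obj.map (homOfLE h₁).op a) =
        F.obj.map (homOfLE (h₂.trans h₁)).op a := by
    intro W₁ W₂ W₃ h₁ h₂ a
    rw [← ConcreteCategory.comp_apply, ← F.obj.map_comp]
    rfl
  by_cases hV : (V : Set X).Nonempty
  · obtain ⟨x0, hx0⟩ := hV
    obtain ⟨V0, hV0, ⟨a, ha⟩, hx0V0⟩ := hsurj V s x0 hx0
    refine ⟨η.app (op U) a, ?_⟩
    rw [hnat hVU a]
    refine TopCat.Presheaf.IsSheaf.section_ext F.property (U := op V) (fun x hx => ?_)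
    obtain ⟨Vx, hVx, ⟨b, hb⟩, hxVx⟩ := hsurj V s x hx
    have hne : ((Vx ⊓ V0 : Opens X) : Set X).Nonempty :=
      nonempty_preirreducible_inter Vx.2 V0.2 ⟨x, hxVx⟩ ⟨x0, hx0V0⟩
    have hab : b = a := by
      apply hinj (Vx ⊓ V0) b a hne
      have e1 : η.app (op (Vx ⊓ V0)) b =
          F.obj.map (homOfLE (inf_le_left.trans hVx : Vx ⊓ V0 ≤ V)).op s := by
        rw [← hnat (inf_le_left : Vx ⊓ V0 ≤ Vx) b, hb]
        exact hmm hVx inf_le_left s
      have e2 : η.app (op (Vx ⊓ V0)) a =
          F.obj.map (homOfLE (inf_le_left.trans hVx : Vx ⊓ V0 ≤ V)).op s := by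
        rw [← hnat (inf_le_right : Vx ⊓ V0 ≤ V0) a, ha]
        exact hmm hV0 inf_le_right s
      rw [e1, e2]
    refine ⟨Vx, hVx, hxVx, ?_⟩
    rw [hnat hVx a, ← hab, hb]
    rfl
  · refine ⟨0, ?_⟩
    refine TopCat.Presheaf.IsSheaf.section_ext F.property (U := op V) (fun x hx => ?_)
    exact absurd ⟨x, hx⟩ hV

instance flasque_const {X : TopCat.{u}} [IrreducibleSpace X] (A : Type u) [AddCommGroup A] :
    TopCat.Sheaf.IsFlasque (CohTop.const X A) where
  epi {U V} i := by
    rw [AddCommGrpCat.epi_iff_surjective]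
    have h : V.unop ≤ U.unop := leOfHom i.unop
    exact surj_restrict A h

/-- If X is an irreducible topological space and A an abelian group, then H^(p+1)(X, A) = 0 for the
constant sheaf with value A. -/
theorem result {X : TopCat.{u}} [IrreducibleSpace X]
    (A : Type u) [AddCommGroup A] (p : ℕ) : Subsingleton (CohTop.H (CohTop.const X A) (p + 1)) := by
  exact Groth.Agent.S0453.result (CohTop.const X A) p

end Groth.Agent.S0457
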