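import Groth.Statements.S0466
import Groth.Agent.Lib.Helper27.CechH1
-- import your own Groth.Agent.* helpers here

set_option autoImplicit false
universe u
open CategoryTheory
open CohTop

namespace Groth.Agent.S0466

open TopologicalSpace Opposite in
/-- Consider a short exact sequence of abelian sheaves with kernel F, middle term G and quotient H, and
an open U. If every open covering of U admits a refinement on which the first Cech cohomology of F
vanishes, then sections of G over U map onto sections of H over U. -/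
theorem result {X : TopCat.{u}}
    (S : CategoryTheory.ShortComplex (CohTop.Ab X)) (hS : S.ShortExact) (U : Opens X)
    (h : ∀ (ι : Type u) (V : ι → Opens X), iSup V = U →
      ∃ (κ : Type u) (W : κ → Opens X) (r : κ → ι), iSup W = U ∧ (∀ k, W k ≤ V (r k)) ∧
        CategoryTheory.Limits.IsZero (CohTop.cechH S.X₁.obj W 1)) :
    Function.Surjective (S.g.hom.app (op U)) := by
  intro s
  have hepi : Epi S.g := hS.epi_g
  have hls : Sheaf.IsLocallySurjective S.g := (Sheaf.isLocallySurjective_iff_epi' (φ := S.g)).2 hepi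
  have hT := Presheaf.imageSieve_mem (Opens.grothendieckTopology X) S.g.hom (U := Opposite.op U) s
  let ι : Type u := {p : Opens X // ∃ (hp : p ≤ U),
    (Presheaf.imageSieve S.g.hom s).arrows (homOfLE hp)}
  let V : ι → Opens X := fun p => p.1
  have hV : iSup V = U := by
    apply le_antisymm
    · exact iSup_le fun p => p.2.choose
    · intro x hx
      obtain ⟨V', f, hf, hxV⟩ := hT x hx
      exact Opens.mem_iSup.2 ⟨⟨V', leOfHom f, hf⟩, hxV⟩
  obtain ⟨κ, W, r, hW, hWV, hz⟩ := h ι V hV
  subst hW
  have hlift : ∀ k, ∃ t : S.X₂.obj.obj (Opposite.op (W k)),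
      S.g.hom.app _ t = S.X₃.obj.map (homOfLE (le_iSup W k)).op s := by
    intro k
    obtain ⟨hp, t, ht⟩ := (r k).2
    refine ⟨S.X₂.obj.map (homOfLE (hWV k)).op t, ?_⟩
    have h1 := ConcreteCategory.congr_hom (S.g.hom.naturality (homOfLE (hWV k)).op) t
    rw [ConcreteCategory.comp_apply, ConcreteCategory.comp_apply] at h1
    rw [h1, ht, ← ConcreteCategory.comp_apply, ← S.X₃.obj.map_comp, ← op_comp]
    rfl
  choose t ht using hlift
  exact Groth.Agent.Lib.helper27.CechSite.lift_of_h1 (Opens.grothendieckTopology X)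
    (𝟭 (Opens X)) W (W := iSup W) (fun i => homOfLE (le_iSup W i))
    (fun T s s' => Subsingleton.elim _ _)
    (by
      intro x hx
      obtain ⟨i, hi⟩ := Opens.mem_iSup.1 hx
      exact ⟨W i, homOfLE (le_iSup W i), Sieve.ofArrows_mk _ _ i, hi⟩)
    (fun i j Z gi gj hij => ⟨Z, 𝟙 Z, gi, gj, by simp, by simp⟩)
    S hS ((HomologicalComplex.exactAt_iff_isZero_homology _ _).2 hz) s t ht

end Groth.Agent.S0466
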