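import Groth.Statements.S0468
import Groth.Agent.Lib.Helper27.FiltCohTop
-- import your own Groth.Agent.* helpers here

set_option autoImplicit false
universe u
open CategoryTheory
open CohTop

namespace Groth.Agent.S0468

open TopologicalSpace Opposite CategoryTheory.Limits in
/-- Let X be a space whose compact opens form a basis and are stable under pairwise intersections, U a
compact open and (F_i) a directed system of abelian sheaves. Then colim H^q(U, F_i) → H^q(U, colim
F_i) is an isomorphism; stated as: H^q(U, -) preserves colimits of shape ι for every nonempty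
directed preorder ι. -/
theorem result {X : TopCat.{u}} [PrespectralSpace X] [QuasiSeparatedSpace X]
    (U : Opens X) (hU : IsCompact (U : Set X))
    (ι : Type u) [Preorder ι] [IsDirected ι (· ≤ ·)] [Nonempty ι] (q : ℕ) :
    PreservesColimitsOfShape ι
      ((Sheaf.cohomologyPresheafFunctor (Opens.grothendieckTopology X) q).flip.obj (op U) :
        CohTop.Ab X ⥤ AddCommGrpCat.{u}) := by
  classical
  have : IsFiltered ι := inferInstance
  refine ⟨fun {F} => ?_⟩
  refine Groth.Agent.Lib.helper27.FiltCoh.preservesColimit_H_top
    {W : Opens X | IsCompact (W : Set X)} (fun W hW => hW)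
    (fun W hW W' hW' => ?_) (fun W hW V hVW x hx => ?_) U hU q F
  · exact QuasiSeparatedSpace.inter_isCompact _ _ W.isOpen hW W'.isOpen hW'
  · obtain ⟨W', hW', hxW', hle⟩ :=
      (Opens.isBasis_iff_nbhd.1 (PrespectralSpace.isBasis_opens (X := X))) hx
    exact ⟨W', hW', hxW', hle⟩

end Groth.Agent.S0468
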