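import Groth.Statements.S0471
import Groth.Agent.Lib.Helper7.DimShift
import Mathlib.Topology.Sheaves.LocallySurjective
import Mathlib.Topology.Sheaves.SheafCondition.UniqueGluing
import Mathlib.Topology.Separation.Profinite
import Mathlib.CategoryTheory.Sites.SheafCohomology.Basic

set_option autoImplicit false
universe u
open CategoryTheory
open CohTop

namespace Groth.Agent.S0471

section helpers

open TopologicalSpace Opposite Groth.Agent.Lib.helper7

variable {X : TopCat.{u}}

/-- Any two sections of a sheaf over the empty open agree. -/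
theorem eq_of_bot (G : CohTop.Ab X) {W : Opens X} (hW : W = ⊥) (a b : G.obj.obj (op W)) :
    a = b := by
  subst hW
  exact TopCat.Sheaf.eq_of_locally_eq' G (fun i : PEmpty.{u + 1} => i.elim) ⊥ (fun i => i.elim)
    (by simp) a b (fun i => i.elim)

theorem map_map (G : CohTop.Ab X) {U V W : Opens X} (h₁ : V ≤ U) (h₂ : W ≤ V)
    (a : G.obj.obj (op U)) :
    G.obj.map (homOfLE h₂).op (G.obj.map (homOfLE h₁).op a) =
      G.obj.map (homOfLE (h₂.trans h₁)).op a := by
  rw [← ConcreteCategory.comp_apply, ← G.obj.map_comp]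
  rfl

/-- On a profinite space, an epimorphism of abelian sheaves is surjective on global sections. -/
theorem exists_lift_top [CompactSpace X] [T2Space X] [TotallyDisconnectedSpace X]
    {F G : CohTop.Ab X} (φ : F ⟶ G) [Epi φ] (s : G.obj.obj (op (⊤ : Opens X))) :
    ∃ t : F.obj.obj (op (⊤ : Opens X)), φ.hom.app (op ⊤) t = s := by
  classical
  have hepi : Epi φ := inferInstance
  have hls : TopCat.Presheaf.IsLocallySurjective φ.hom :=
    (TopCat.Sheaf.isLocallySurjective_iff_epi φ).mpr hepi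
  rw [TopCat.Presheaf.isLocallySurjective_iff] at hls
  -- local lifts on clopen neighbourhoods
  have hloc : ∀ x : X, ∃ D : Opens X, IsClosed (D : Set X) ∧ x ∈ D ∧
      ∃ t : F.obj.obj (op D), φ.hom.app (op D) t = G.obj.map (homOfLE (le_top : D ≤ ⊤)).op s := by
    intro x
    obtain ⟨V, hV, ⟨t, ht⟩, hxV⟩ := hls ⊤ s x trivial
    obtain ⟨C, hC, hxC, hCV⟩ := compact_exists_isClopen_in_isOpen V.2 hxV
    refine ⟨⟨C, hC.2⟩, hC.1, hxC, F.obj.map (homOfLE (show (⟨C, hC.2⟩ : Opens X) ≤ V from hCV)).op t,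
      ?_⟩
    rw [NatTrans.naturality_apply, ht]
    exact map_map G hV _ s
  choose D hDc hxD tD htD using hloc
  -- a finite subcover
  obtain ⟨σ, hσ⟩ := CompactSpace.elim_nhds_subcover (fun x => (D x : Set X))
    (fun x => (D x).2.mem_nhds (hxD x))
  -- disjoint refinement
  obtain ⟨C, hCclopen, -, hCD, hcov, hdisj⟩ :=
    exists_clopen_partition_of_clopen_cover (I := σ) (Z := fun _ => (∅ : Set X))
      (D := fun i => (D i.1 : Set X)) (fun _ => isClosed_empty)
      (fun i => ⟨hDc i.1, (D i.1).2⟩) (fun _ => Set.empty_subset _)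
      (fun i _ j _ _ => by simp [Function.onFun])
  let U : σ → Opens X := fun i => ⟨C i, (hCclopen i).2⟩
  have hUD : ∀ i : σ, U i ≤ D i.1 := fun i => hCD i
  have hUcov : (⊤ : Opens X) ≤ iSup U := by
    intro x _
    have hx : x ∈ ⋃ i : σ, (D i.1 : Set X) := by
      have := hσ.ge (Set.mem_univ x)
      simp only [Set.mem_iUnion] at this ⊢
      obtain ⟨y, hy, hxy⟩ := this
      exact ⟨⟨y, hy⟩, hxy⟩
    obtain ⟨i, hi⟩ := Set.mem_iUnion.mp (hcov hx)
    exact Opens.mem_iSup.mpr ⟨i, hi⟩
  -- the sections to glue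
  let sf : ∀ i : σ, F.obj.obj (op (U i)) := fun i => F.obj.map (homOfLE (hUD i)).op (tD i.1)
  have hcompat : TopCat.Presheaf.IsCompatible F.obj U sf := by
    intro i j
    by_cases hij : i = j
    · subst hij
      rfl
    · apply eq_of_bot F
      ext x
      simp only [Opens.coe_inf, Opens.coe_bot, Set.mem_inter_iff, Set.mem_empty_iff_false,
        iff_false, not_and]
      intro hxi hxj
      have := hdisj (Set.mem_univ i) (Set.mem_univ j) hij
      exact Set.disjoint_left.mp this hxi hxj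
  obtain ⟨t, ht, -⟩ := TopCat.Sheaf.existsUnique_gluing' F U ⊤ (fun i => homOfLE le_top) hUcov sf
    hcompat
  refine ⟨t, ?_⟩
  apply TopCat.Sheaf.eq_of_locally_eq' G U ⊤ (fun i => homOfLE le_top) hUcov
  intro i
  rw [← NatTrans.naturality_apply, ht i]
  show φ.hom.app (op (U i)) (F.obj.map (homOfLE (hUD i)).op (tD i.1)) = _
  rw [NatTrans.naturality_apply, htD i.1]
  exact map_map G le_top (hUD i) s

end helpers

/-- If X is profinite (compact, Hausdorff, totally disconnected), then H^(p+1)(X, F) = 0 for every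
abelian sheaf F. -/
theorem result {X : TopCat.{u}} [CompactSpace X] [T2Space X] [TotallyDisconnectedSpace X]
    (F : CohTop.Ab X) (p : ℕ) : Subsingleton (CohTop.H F (p + 1)) := by
  let J := Opens.grothendieckTopology X
  have hT : Limits.IsTerminal (⊤ : TopologicalSpace.Opens X) := Limits.isTerminalTop
  let P : Sheaf J AddCommGrpCat.{u} :=
    (constantSheaf J AddCommGrpCat.{u}).obj (AddCommGrpCat.of (ULift ℤ))
  let e : ∀ G : Sheaf J AddCommGrpCat.{u}, (P ⟶ G) ≃ G.obj.obj (Opposite.op (⊤ : TopologicalSpace.Opens X)) :=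
    fun G =>
    (Abelian.Ext.addEquiv₀ (X := P) (Y := G)).symm.toEquiv.trans (Sheaf.H.equiv₀ G hT).toEquiv
  have he : ∀ {G G' : Sheaf J AddCommGrpCat.{u}} (φ : G ⟶ G') (g : P ⟶ G),
      e G' (g ≫ φ) = φ.hom.app (Opposite.op ⊤) (e G g) := by
    intro G G' φ g
    change Sheaf.H.equiv₀ G' hT ((Abelian.Ext.addEquiv₀ (X := P) (Y := G')).symm (g ≫ φ)) =
      φ.hom.app (Opposite.op ⊤)
        (Sheaf.H.equiv₀ G hT ((Abelian.Ext.addEquiv₀ (X := P) (Y := G)).symm g))
    rw [Sheaf.H.equiv₀_naturality]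
    congr 1
    apply (Abelian.Ext.addEquiv₀ (X := P) (Y := G')).injective
    rw [Sheaf.H.addEquiv₀_map, AddEquiv.apply_symm_apply, AddEquiv.apply_symm_apply]
  have key := Groth.Agent.Lib.helper7.DimShift.ext_succ_eq_zero (A := Sheaf J AddCommGrpCat.{u})
    P (fun _ => True) (fun _ _ => trivial) (fun _ _ _ _ => trivial)
    (fun S hS _ g => by
      have : Epi S.g := hS.epi_g
      obtain ⟨s₂, hs₂⟩ := exists_lift_top S.g (e S.X₃ g)
      refine ⟨(e S.X₂).symm s₂, ?_⟩
      apply (e S.X₃).injective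
      rw [he, Equiv.apply_symm_apply]
      exact hs₂)
    p F trivial
  exact ⟨fun x y => (key x).trans (key y).symm⟩

end Groth.Agent.S0471
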