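import Groth.Statements.S0480
import Mathlib
-- import your own Groth.Agent.* helpers here

set_option autoImplicit false
universe v u
open CategoryTheory
open CohDer

namespace Groth.Agent.S0480

section helpers

open CategoryTheory Limits CochainComplex HomComplex

variable {A : Type u} [Category.{v} A] [Abelian A]

/-- A null-homotopic map factors through the cone of the identity. -/
lemma factor_cone0480 {K L : CochainComplex A ℤ} (f : K ⟶ L) (h : Homotopy f 0) :
    ∃ g : mappingCone (𝟙 K) ⟶ L, mappingCone.inr (𝟙 K) ≫ g = f := by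
  obtain ⟨z, hz⟩ := Cochain.equivHomotopy f 0 h
  refine ⟨mappingCone.desc (𝟙 K) z f ?_, mappingCone.inr_desc _ _ _ _⟩
  rw [Category.id_comp, hz]
  simp

lemma homotopy_of_factor0480 {K L : CochainComplex A ℤ} (f : K ⟶ L)
    (g : mappingCone (𝟙 K) ⟶ L) (hg : mappingCone.inr (𝟙 K) ≫ g = f) : Nonempty (Homotopy f 0) := by
  have h0 := mappingCone.homotopyToZeroOfId K
  have h1 : Homotopy (mappingCone.inr (𝟙 K) ≫ 𝟙 _ ≫ g) (mappingCone.inr (𝟙 K) ≫ 0 ≫ g) :=
    (h0.compRight g).compLeft _
  refine ⟨(Homotopy.ofEq ?_).trans (h1.trans (Homotopy.ofEq ?_))⟩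
  · simp [hg]
  · simp

theorem main0480 {T : Type v} (I : T → CochainComplex A ℤ)
    [HasProduct I] (h : ∀ t, (I t).IsKInjective) : (∏ᶜ I).IsKInjective := by
  constructor
  intro K f hK
  have : ∀ t, ∃ g : mappingCone (𝟙 K) ⟶ I t, mappingCone.inr (𝟙 K) ≫ g = f ≫ Pi.π I t := by
    intro t
    exact factor_cone0480 _ ((h t).nonempty_homotopy_zero (f ≫ Pi.π I t) hK).some
  choose g hg using this
  apply homotopy_of_factor0480 f (Pi.lift g)
  apply Pi.hom_ext
  intro t
  simp [hg]

end helpers

open CategoryTheory.Limits in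
/-- In an abelian category, if the product of a family of K-injective cochain complexes exists (it is
then the termwise product), it is again K-injective. -/
theorem result {A : Type u} [Category.{v} A] [Abelian A] {T : Type v} (I : T → CochainComplex A ℤ)
    [HasProduct I] (h : ∀ t, (I t).IsKInjective) : (∏ᶜ I).IsKInjective := by
  exact main0480 I h

end Groth.Agent.S0480
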