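import Groth.Statements.S0481
import Mathlib
-- import your own Groth.Agent.* helpers here

set_option autoImplicit false
universe v u
open CategoryTheory
open CohDer

namespace Groth.Agent.S0481

section helpers

open CategoryTheory Limits CochainComplex HomComplex

variable {A : Type u} [Category.{v} A] [Abelian A]
    {B : Type u} [Category.{v} B] [Abelian B]

lemma acyclic_map0481 (w : B ⥤ A) [w.Additive] [PreservesFiniteLimits w] [PreservesFiniteColimits w]
    (K : CochainComplex B ℤ) (hK : K.Acyclic) :
    ((w.mapHomologicalComplex (ComplexShape.up ℤ)).obj K).Acyclic := by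
  intro i
  exact (hK i).map w

theorem main0481 (u : A ⥤ B) (w : B ⥤ A) (adj : w ⊣ u)
    [u.Additive] [w.Additive] [PreservesFiniteLimits w] [PreservesFiniteColimits w]
    (I : CochainComplex A ℤ) (h : I.IsKInjective) :
    CochainComplex.IsKInjective ((u.mapHomologicalComplex (ComplexShape.up ℤ)).obj I) := by
  constructor
  intro K f hK
  -- the adjoint map
  let ε : (w.mapHomologicalComplex (ComplexShape.up ℤ)).obj ((u.mapHomologicalComplex (ComplexShape.up ℤ)).obj I) ⟶ I :=
    { f := fun i => adj.counit.app (I.X i)
      comm' := fun i j _ => (adj.counit.naturality (I.d i j)).symm }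
  let η : K ⟶ (u.mapHomologicalComplex (ComplexShape.up ℤ)).obj ((w.mapHomologicalComplex (ComplexShape.up ℤ)).obj K) :=
    { f := fun i => adj.unit.app (K.X i)
      comm' := fun i j _ => (adj.unit.naturality (K.d i j)).symm }
  let f' := (w.mapHomologicalComplex (ComplexShape.up ℤ)).map f ≫ ε
  have hf : f = η ≫ (u.mapHomologicalComplex (ComplexShape.up ℤ)).map f' := by
    ext i
    change f.f i = adj.unit.app (K.X i) ≫ u.map (w.map (f.f i) ≫ adj.counit.app (I.X i))
    rw [Functor.map_comp]
    have := adj.unit.naturality (f.f i)
    dsimp at this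
    rw [← Category.assoc, ← this, Category.assoc]
    erw [adj.right_triangle_components, Category.comp_id]
  have hwK := acyclic_map0481 w K hK
  obtain ⟨h0⟩ := h.nonempty_homotopy_zero f' hwK
  have h1 := (u.mapHomotopy h0 (c := ComplexShape.up ℤ)).compLeft η
  refine ⟨(Homotopy.ofEq hf).trans (h1.trans (Homotopy.ofEq ?_))⟩
  simp

end helpers

open CategoryTheory.Limits in
/-- Let u : A ⥤ B be right adjoint to an exact additive functor w : B ⥤ A between abelian categories.
Then u applied termwise sends K-injective complexes to K-injective complexes. -/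
theorem result {A : Type u} [Category.{v} A] [Abelian A]
    {B : Type u} [Category.{v} B] [Abelian B] (u : A ⥤ B) (w : B ⥤ A) (adj : w ⊣ u)
    [u.Additive] [w.Additive] [PreservesFiniteLimits w] [PreservesFiniteColimits w]
    (I : CochainComplex A ℤ) (h : I.IsKInjective) :
    CochainComplex.IsKInjective ((u.mapHomologicalComplex (ComplexShape.up ℤ)).obj I) := by
  exact main0481 u w adj I h

end Groth.Agent.S0481
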