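import Groth.Statements.S0482
import Mathlib
import Groth.Agent.Lib.Helper21.AbShriekFree
import Groth.Agent.Lib.Helper21.DerivedComm
import Groth.Agent.Lib.Helper27.ExtAdj
-- import your own Groth.Agent.* helpers here

set_option autoImplicit false
universe u
open CategoryTheory
open CohSite

namespace Groth.Agent.S0482

/-- For a sheaf of abelian groups F on a small site and an object U, H^n(U, F) (Ext out of the free
abelian sheaf on U) is isomorphic to the cohomology of the restriction of F to the site of objects
over U (existence of a group isomorphism). -/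
theorem result {C : Type u} [SmallCategory C] (J : GrothendieckTopology C)
    (F : Sheaf J AddCommGrpCat.{u}) (U : C) (n : ℕ) :
    Nonempty (CohSite.HU F n U ≃+ Sheaf.H.{u} (F.over U) n) := by
  have hF : ∀ i : ℕ, 0 < i → Limits.IsZero (((Groth.Agent.Lib.Helper21.AbShriek.jStar U J).rightDerived i).obj F) := by
    intro i hi
    obtain ⟨j, rfl⟩ : ∃ j, i = j + 1 := ⟨i - 1, by omega⟩
    exact Groth.Agent.Lib.Helper21.DerivedComm.isZero_rightDerived_of_exact _ j F
  have e1 := Groth.Agent.Lib.helper27.ExtAdj.extAddEquiv
    (Groth.Agent.Lib.Helper21.AbShriek.jAdj U J) (Groth.Agent.Lib.Helper21.AbShriek.Zc U J) F hF n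
  have e2 := Groth.Agent.Lib.helper27.ExtAdj.extIsoLeft
    (Groth.Agent.Lib.Helper21.AbShriek.shriekZIso U J) F n
  exact ⟨(e1.trans e2).symm⟩

end Groth.Agent.S0482
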