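import Groth.Statements.S0488
import Mathlib
import Groth.Agent.Lib.Helper21.AbShriek
import Groth.Agent.Lib.Helper21.KInjAdj
-- import your own Groth.Agent.* helpers here

set_option autoImplicit false
universe u
open CohTop

namespace Groth.Agent.S0488

open TopologicalSpace in
/-- For an open U of X, restriction to U sends K-injective complexes of abelian sheaves on X to
K-injective complexes on U. -/
theorem result {X : TopCat.{u}} (U : Opens X) (I : CochainComplex (CohTop.Ab X) ℤ)
    (h : I.IsKInjective) :
    CochainComplex.IsKInjective (((CohTop.restrFunctor U).mapHomologicalComplex (ComplexShape.up ℤ)).obj I) := by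
  haveI := h
  let e := U.sheafEquivOver (A := AddCommGrpCat.{u})
  let adj := (e.symm.toAdjunction).comp
    (Groth.Agent.Lib.Helper21.AbShriek.jAdj U (Opens.grothendieckTopology X))
  haveI : e.symm.functor.Additive := CategoryTheory.Functor.additive_of_preserves_binary_products _
  haveI : e.symm.inverse.Additive := CategoryTheory.Functor.additive_of_preserves_binary_products _
  haveI : (CategoryTheory.Functor.comp e.symm.functor (Groth.Agent.Lib.Helper21.AbShriek.jShriek U (Opens.grothendieckTopology X))).PreservesHomology :=
    CategoryTheory.Functor.preservesHomology_of_preservesMonos_and_cokernels _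
  exact Groth.Agent.Lib.Helper21.KInjAdj.isKInjective_obj adj I

end Groth.Agent.S0488
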