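import Groth.Statements.S0495
import Groth.Agent.Lib.Helper12.HenselSqZero
-- import your own Groth.Agent.* helpers here

set_option autoImplicit false
universe u
open Hensel

namespace Groth.Agent.S0495

/-- A local ring whose Krull dimension is zero is henselian. -/
theorem result (R : Type u) [CommRing R] [IsLocalRing R]
    (h : ringKrullDim R = 0) : HenselianLocalRing R := by
  apply Groth.Agent.Lib.helper12.henselianLocalRing_of_forall_isNilpotent
  intro x hx
  have : Ring.KrullDimLE 0 R := by
    rw [Ring.krullDimLE_iff]
    exact h.le
  exact Ring.KrullDimLE.isNilpotent_iff_mem_maximalIdeal.2 hx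

end Groth.Agent.S0495
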