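import Groth.Statements.S0496
import Mathlib
-- import your own Groth.Agent.* helpers here

set_option autoImplicit false
universe u
open Hensel

namespace Groth.Agent.S0496

section helpers
open Polynomial IsLocalRing

theorem mk_mem_smul_top {R : Type u} [CommRing R] (m : Ideal R) (g : R[X]) (t : R[X])
    (ht : t ∈ Ideal.map C m) :
    (Ideal.Quotient.mk (Ideal.span {g}) t) ∈ m • (⊤ : Submodule R (R[X] ⧸ Ideal.span {g})) := by
  rw [Polynomial.as_sum_range_C_mul_X_pow t, map_sum]
  refine Submodule.sum_mem _ fun i _ => ?_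
  have : Ideal.Quotient.mk (Ideal.span {g}) (C (t.coeff i) * X ^ i)
      = t.coeff i • Ideal.Quotient.mk (Ideal.span {g}) (X ^ i) := by
    rw [← Polynomial.smul_eq_C_mul]
    rfl
  rw [this]
  exact Submodule.smul_mem_smul (Ideal.mem_map_C_iff.1 ht i) Submodule.mem_top

theorem main (R : Type u) [CommRing R] [IsLocalRing R]
    (h : ∀ f : Polynomial R, f.Monic →
      ∀ g₀ h₀ : Polynomial (IsLocalRing.ResidueField R), IsCoprime g₀ h₀ →
      Polynomial.map (IsLocalRing.residue R) f = g₀ * h₀ →
      ∃ g h : Polynomial R, f = g * h ∧ Polynomial.map (IsLocalRing.residue R) g = g₀ ∧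
        Polynomial.map (IsLocalRing.residue R) h = h₀) :
    HenselianLocalRing R := by
  apply ((HenselianLocalRing.TFAE R).out 0 1).2
  intro f hf a₀ h₁ h₂
  rw [aeval_def, ResidueField.algebraMap_eq, eval₂_eq_eval_map] at h₁ h₂
  set fb := f.map (residue R) with hfb
  set h₀ := fb /ₘ (X - C a₀) with hh₀
  have hfac : fb = (X - C a₀) * h₀ := (mul_divByMonic_eq_iff_isRoot.2 h₁).symm
  have hh₀a : h₀.eval a₀ ≠ 0 := by
    rw [← derivative_map, ← hfb, hfac] at h₂
    simpa using h₂
  have hcop : IsCoprime (X - C a₀) h₀ := by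
    rw [(Polynomial.irreducible_X_sub_C a₀).coprime_iff_not_dvd, dvd_iff_isRoot]
    exact hh₀a
  obtain ⟨g, hh, hfg, hg, hhh⟩ := h f hf _ _ hcop hfac
  -- the quotient B = R[X]/(g)
  let B := R[X] ⧸ Ideal.span {g}
  have hle : Ideal.span {f} ≤ Ideal.span {g} := by
    rw [Ideal.span_singleton_le_span_singleton]
    exact ⟨hh, hfg⟩
  have : Module.Finite R (R[X] ⧸ Ideal.span {f}) := hf.finite_adjoinRoot
  have : Module.Finite R B :=
    Module.Finite.of_surjective (Ideal.Quotient.factorₐ R hle).toLinearMap
      (Ideal.Quotient.factor_surjective hle)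
  obtain ⟨a₁, ha₁⟩ := residue_surjective a₀
  have hsm : ∀ a : R, a • (1 : B) = Ideal.Quotient.mk (Ideal.span {g}) (C a) := fun a => by
    rw [← mul_one (C a), ← smul_eq_C_mul]
    rfl
  have hδ : g - (X - C a₁) ∈ Ideal.map C (maximalIdeal R) := by
    rw [Ideal.mem_map_C_iff]
    intro n
    rw [← residue_eq_zero_iff, ← coeff_map]
    simp [hg, ha₁]
  have hNak : (⊤ : Submodule R B) ≤ Submodule.span R {(1 : B)} ⊔ maximalIdeal R • ⊤ := by
    intro b _
    obtain ⟨p, rfl⟩ := Ideal.Quotient.mk_surjective b
    have hp : p = C (p.eval a₁) + (X - C a₁) * (p /ₘ (X - C a₁)) := by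
      rw [← modByMonic_X_sub_C_eq_C_eval]
      exact (modByMonic_add_div p (X - C a₁)).symm
    have hp' : p = C (p.eval a₁) + (g * (p /ₘ (X - C a₁))
        - (g - (X - C a₁)) * (p /ₘ (X - C a₁))) := by
      conv_lhs => rw [hp]
      ring
    rw [hp', map_add, map_sub]
    refine Submodule.add_mem_sup ?_ ?_
    · rw [Submodule.mem_span_singleton]
      exact ⟨p.eval a₁, hsm _⟩
    · have h0 : Ideal.Quotient.mk (Ideal.span {g}) (g * (p /ₘ (X - C a₁))) = 0 := by
        rw [Ideal.Quotient.eq_zero_iff_mem]
        exact Ideal.mul_mem_right _ _ (Ideal.mem_span_singleton_self g)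
      rw [h0, zero_sub]
      exact Submodule.neg_mem _ (mk_mem_smul_top _ g _ (Ideal.mul_mem_right _ _ hδ))
  have htop := Submodule.le_of_le_smul_of_le_jacobson_bot (Module.Finite.fg_top)
    (maximalIdeal_le_jacobson ⊥) hNak
  have hX : Ideal.Quotient.mk (Ideal.span {g}) X ∈ Submodule.span R {(1 : B)} :=
    htop Submodule.mem_top
  obtain ⟨a, ha⟩ := Submodule.mem_span_singleton.1 hX
  have hXa : X - C a ∈ Ideal.span {g} := by
    rw [← Ideal.Quotient.eq_zero_iff_mem, map_sub, ← ha, hsm]
    exact sub_self _
  obtain ⟨q, hq⟩ := Ideal.mem_span_singleton.1 hXa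
  -- reductions
  have hred : X - C (residue R a) = (X - C a₀) * q.map (residue R) := by
    have := congrArg (Polynomial.map (residue R)) hq
    simpa [hg] using this
  have hres : residue R a = a₀ := by
    have := congrArg (Polynomial.eval a₀) hred
    simp only [eval_sub, eval_X, eval_C, eval_mul, sub_self, zero_mul] at this
    exact (sub_eq_zero.1 this).symm
  have hq1 : q.map (residue R) = 1 := by
    rw [hres] at hred
    have h' : (X - C a₀) * 1 = (X - C a₀) * q.map (residue R) := by rw [mul_one]; exact hred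
    exact (mul_left_cancel₀ (X_sub_C_ne_zero a₀) h').symm
  have hqu : IsUnit (q.eval a) := by
    rw [← residue_ne_zero_iff_isUnit]
    have : residue R (q.eval a) = (q.map (residue R)).eval (residue R a) := by
      rw [eval_map, eval₂_at_apply]
    rw [this, hq1]
    simp
  refine ⟨a, ?_, hres⟩
  have h3 : f * q = (X - C a) * hh := by
    rw [hq, hfg]; ring
  have h4 := congrArg (Polynomial.eval a) h3
  simp only [eval_mul, eval_sub, eval_X, eval_C, sub_self, zero_mul] at h4
  exact (hqu.mul_left_eq_zero).1 h4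


end helpers

/-- If every factorization of the reduction of a monic polynomial into two coprime factors over the
residue field lifts to a factorization over the local ring, then the local ring is henselian. -/
theorem result (R : Type u) [CommRing R] [IsLocalRing R]
    (h : ∀ f : Polynomial R, f.Monic →
      ∀ g₀ h₀ : Polynomial (IsLocalRing.ResidueField R), IsCoprime g₀ h₀ →
      Polynomial.map (IsLocalRing.residue R) f = g₀ * h₀ →
      ∃ g h : Polynomial R, f = g * h ∧ Polynomial.map (IsLocalRing.residue R) g = g₀ ∧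
        Polynomial.map (IsLocalRing.residue R) h = h₀) :
    HenselianLocalRing R := by
  exact main R h

end Groth.Agent.S0496
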