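import Groth.Statements.S0498
import Mathlib
-- import your own Groth.Agent.* helpers here

set_option autoImplicit false
universe u
open Hensel

namespace Groth.Agent.S0498

section helpers
open Polynomial IsLocalRing

theorem isUnit_add_of_mem {R : Type u} [CommRing R] [IsLocalRing R] {a b : R} (ha : IsUnit a)
    (hb : b ∈ maximalIdeal R) : IsUnit (a + b) := by
  by_contra hnu
  have h3 : a + b ∈ maximalIdeal R := hnu
  have h4 : a ∈ maximalIdeal R := by
    have := (maximalIdeal R).sub_mem h3 hb
    simpa using this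
  exact h4 ha

theorem root_in_max {R : Type u} [CommRing R] [HenselianLocalRing R] (p : R[X])
    (h0 : p.coeff 0 ∈ maximalIdeal R) (h1 : IsUnit (p.coeff 1)) :
    ∃ y ∈ maximalIdeal R, p.eval y = 0 := by
  set c₀ := p.coeff 0 with hc₀
  set c₁ := p.coeff 1 with hc₁
  set r := p.divX.divX with hr
  have hp : p = C c₀ + X * (C c₁ + X * r) := by
    have e1 := divX_mul_X_add p
    have e2 := divX_mul_X_add p.divX
    rw [coeff_divX] at e2
    rw [← hc₀] at e1
    rw [zero_add, ← hc₁, ← hr] at e2
    conv_lhs => rw [← e1, ← e2]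
    ring
  have hpe : ∀ y, p.eval y = c₀ + y * (c₁ + y * r.eval y) := by
    intro y
    conv_lhs => rw [hp]
    simp
  set r' := r.comp (C c₀ * X) with hr'
  have hr'e : ∀ z, r'.eval z = r.eval (c₀ * z) := by
    intro z; simp [hr']
  set N := r'.natDegree with hN
  set Q := r'.reverse with hQ
  set H : R[X] := X ^ (N + 2) + (C c₁ * X ^ (N + 1) + C c₀ * Q) with hH
  have hQdeg : Q.natDegree ≤ N := reverse_natDegree_le r'
  have hHmonic : H.Monic := by
    apply monic_X_pow_add
    refine lt_of_le_of_lt (degree_add_le _ _) (max_lt ?_ ?_)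
    · refine lt_of_le_of_lt (degree_C_mul_X_pow_le _ _) ?_
      exact_mod_cast Nat.lt_succ_self (N + 1)
    · refine lt_of_le_of_lt (degree_mul_le _ _) ?_
      have h1 : (C c₀).degree ≤ 0 := degree_C_le
      have h2 : Q.degree ≤ N := degree_le_of_natDegree_le hQdeg
      calc (C c₀).degree + Q.degree ≤ 0 + (N : WithBot ℕ) := add_le_add h1 h2
        _ = (N : WithBot ℕ) := zero_add _
        _ < ((N + 2 : ℕ) : WithBot ℕ) := by exact_mod_cast (by omega : N < N + 2)
  have hunit : IsUnit ((-c₁) ^ (N + 1)) := (h1.neg).pow _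
  have e1 : H.eval (-c₁) ∈ maximalIdeal R := by
    have : H.eval (-c₁) = c₀ * Q.eval (-c₁) := by
      simp only [hH, eval_add, eval_pow, eval_X, eval_mul, eval_C]
      ring
    rw [this]
    exact Ideal.mul_mem_right _ _ h0
  have e2 : IsUnit (H.derivative.eval (-c₁)) := by
    have : H.derivative.eval (-c₁) = (-c₁) ^ (N + 1) + c₀ * Q.derivative.eval (-c₁) := by
      simp only [hH, derivative_add, derivative_X_pow, derivative_mul, derivative_C, zero_mul,
        zero_add, eval_add, eval_pow, eval_X, eval_mul, eval_C]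
      have e1 : N + 2 - 1 = N + 1 := rfl
      have e2 : N + 1 - 1 = N := rfl
      rw [e1, e2]
      push_cast
      ring
    rw [this]
    exact isUnit_add_of_mem hunit (Ideal.mul_mem_right _ _ h0)
  obtain ⟨w, hw, hw'⟩ := HenselianLocalRing.is_henselian H hHmonic (-c₁) e1 e2
  have hwu : IsUnit w := by
    have : w = -c₁ + (w - -c₁) := by ring
    rw [this]
    exact isUnit_add_of_mem h1.neg hw'
  obtain ⟨z, hwz⟩ := hwu.exists_right_inv
  have hzw : z * w = 1 := by rw [mul_comm]; exact hwz
  let _ : Invertible z := ⟨w, hwz, hzw⟩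
  have hrev := eval₂_reverse_mul_pow (RingHom.id R) z r'
  rw [eval₂_id, eval₂_id] at hrev
  have hrev' : Q.eval w * z ^ N = r.eval (c₀ * z) := by
    rw [← hr'e]
    exact hrev
  have hHw : w ^ (N + 2) + (c₁ * w ^ (N + 1) + c₀ * Q.eval w) = 0 := by
    have := hw
    simp only [IsRoot.def, hH, eval_add, eval_pow, eval_X, eval_mul, eval_C] at this
    exact this
  refine ⟨c₀ * z, Ideal.mul_mem_right _ _ h0, ?_⟩
  rw [hpe]
  have hz1 : z ^ (N + 2) * w ^ (N + 2) = 1 := by rw [← mul_pow, hzw, one_pow]
  have hz2 : z ^ (N + 2) * w ^ (N + 1) = z := by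
    rw [pow_succ z (N + 1), mul_right_comm, ← mul_pow, hzw, one_pow, one_mul]
  have key : 1 + c₁ * z + c₀ * z ^ 2 * r.eval (c₀ * z) = 0 := by
    have := congrArg (fun t => z ^ (N + 2) * t) hHw
    simp only [mul_zero, mul_add] at this
    rw [hz1, mul_left_comm, hz2] at this
    rw [← hrev']
    rw [← this]
    ring
  linear_combination c₀ * key

theorem main (R : Type u) [CommRing R] [HenselianLocalRing R]
    (f : Polynomial R) (a₀ : IsLocalRing.ResidueField R)
    (h₁ : Polynomial.eval₂ (IsLocalRing.residue R) a₀ f = 0)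
    (h₂ : Polynomial.eval₂ (IsLocalRing.residue R) a₀ (Polynomial.derivative f) ≠ 0) :
    ∃ a : R, Polynomial.IsRoot f a ∧ IsLocalRing.residue R a = a₀ := by
  obtain ⟨a₁, rfl⟩ := residue_surjective a₀
  rw [eval₂_at_apply] at h₁ h₂
  have h0 : (taylor a₁ f).coeff 0 ∈ maximalIdeal R := by
    rw [taylor_coeff_zero, ← residue_eq_zero_iff]
    exact h₁
  have h1 : IsUnit ((taylor a₁ f).coeff 1) := by
    rw [taylor_coeff_one, ← residue_ne_zero_iff_isUnit]
    exact h₂
  obtain ⟨y, hy, hy0⟩ := root_in_max (taylor a₁ f) h0 h1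
  refine ⟨y + a₁, ?_, ?_⟩
  · rw [IsRoot.def, ← taylor_eval]
    exact hy0
  · rw [map_add, (residue_eq_zero_iff y).2 hy, zero_add]


end helpers

/-- Over a henselian local ring, a simple root in the residue field of the reduction of an arbitrary
polynomial (monic or not) lifts to a root in the ring. -/
theorem result (R : Type u) [CommRing R] [HenselianLocalRing R]
    (f : Polynomial R) (a₀ : IsLocalRing.ResidueField R)
    (h₁ : Polynomial.eval₂ (IsLocalRing.residue R) a₀ f = 0)
    (h₂ : Polynomial.eval₂ (IsLocalRing.residue R) a₀ (Polynomial.derivative f) ≠ 0) :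
    ∃ a : R, Polynomial.IsRoot f a ∧ IsLocalRing.residue R a = a₀ := by
  exact main R f a₀ h₁ h₂

end Groth.Agent.S0498
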