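import Groth.Statements.S0501
import Groth.Agent.Lib.Helper24.HenselLocal
-- import your own Groth.Agent.* helpers here

set_option autoImplicit false
universe u
open Hensel

namespace Groth.Agent.S0501
open IsLocalRing TensorProduct

/-- Let `S` be a henselian local ring over a ring `R`, let `A` be an étale `R`-algebra with a prime `q`,
and let `τ` be a ring map from the residue field of `q` to the residue field of `S` compatible with
the two structure maps from `R`. Then there is exactly one `R`-algebra map from `A` to `S` pulling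
the maximal ideal back to `q` and inducing `τ`. -/
theorem result (R : Type u) [CommRing R]
    (S : Type u) [CommRing S] [HenselianLocalRing S] [Algebra R S]
    (A : Type u) [CommRing A] [Algebra R A] [Algebra.Etale R A] (q : Ideal A) [q.IsPrime]
    (τ : q.ResidueField →+* IsLocalRing.ResidueField S)
    (hτ : τ.comp (algebraMap R q.ResidueField) = (IsLocalRing.residue S).comp (algebraMap R S)) :
    ∃! f : A →ₐ[R] S, Ideal.comap f.toRingHom (IsLocalRing.maximalIdeal S) = q ∧
      ∀ a : A, IsLocalRing.residue S (f a) = τ (algebraMap A q.ResidueField a) := by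
  classical
  -- κ(S) as an R-algebra and the map A → κ(S)
  let τ' : A →ₐ[R] ResidueField S :=
    { toRingHom := τ.comp (algebraMap A q.ResidueField)
      commutes' := by
        intro r
        have h1 := congrArg (fun φ : R →+* ResidueField S => φ r) hτ
        simp only [RingHom.comp_apply] at h1
        show τ (algebraMap A q.ResidueField (algebraMap R A r)) = _
        rw [← IsScalarTower.algebraMap_apply R A q.ResidueField, h1]
        rfl }
  have hτ'ker : ∀ a : A, τ' a = 0 ↔ a ∈ q := by
    intro a
    show τ (algebraMap A q.ResidueField a) = 0 ↔ a ∈ q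
    rw [map_eq_zero, Ideal.algebraMap_residueField_eq_zero]
  let χ : S ⊗[R] A →ₐ[S] ResidueField S :=
    Algebra.TensorProduct.lift (Algebra.ofId S (ResidueField S)) τ' (fun _ _ => Commute.all _ _)
  have hχS : ∀ s : S, χ (algebraMap S (S ⊗[R] A) s) = residue S s := fun s => χ.commutes s
  have hχA : ∀ a : A, χ (1 ⊗ₜ[R] a) = τ' a := by
    intro a
    simp [χ, Algebra.TensorProduct.lift_tmul]
  have hχsurj : Function.Surjective χ := by
    intro z
    obtain ⟨s, rfl⟩ := residue_surjective z
    exact ⟨algebraMap S (S ⊗[R] A) s, hχS s⟩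
  let Q : Ideal (S ⊗[R] A) := RingHom.ker χ.toRingHom
  have hQmax : Q.IsMaximal := RingHom.ker_isMaximal_of_surjective χ.toRingHom hχsurj
  have hQprime : Q.IsPrime := hQmax.isPrime
  have hlies : Q.LiesOver (maximalIdeal S) := by
    refine ⟨?_⟩
    ext r
    rw [Ideal.under_def, Ideal.mem_comap]
    change r ∈ maximalIdeal S ↔ χ (algebraMap S (S ⊗[R] A) r) = 0
    rw [hχS, residue_eq_zero_iff]
  have hsurj : Function.Surjective (algebraMap S Q.ResidueField) := by
    intro z
    obtain ⟨b, rfl⟩ := Ideal.algebraMap_residueField_surjective Q z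
    obtain ⟨r, hr⟩ := residue_surjective (χ b)
    refine ⟨r, ?_⟩
    rw [IsScalarTower.algebraMap_apply S (S ⊗[R] A) Q.ResidueField, ← sub_eq_zero, ← map_sub,
      Ideal.algebraMap_residueField_eq_zero]
    change χ (algebraMap S (S ⊗[R] A) r - b) = 0
    rw [map_sub, hχS, hr, sub_self]
  obtain ⟨σ, hσ⟩ := Groth.Agent.Lib.helper24.HenselLocal.exists_section_of_etale Q hsurj
  have hσχ : ∀ b : S ⊗[R] A, residue S (σ b) = χ b := by
    intro b
    have h1 : b - algebraMap S (S ⊗[R] A) (σ b) ∈ Q := by
      rw [← hσ, Ideal.mem_comap]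
      show σ (b - algebraMap S (S ⊗[R] A) (σ b)) ∈ maximalIdeal S
      rw [map_sub, σ.commutes]
      simp
    have h2 : χ (b - algebraMap S (S ⊗[R] A) (σ b)) = 0 := h1
    rw [map_sub, hχS, sub_eq_zero] at h2
    exact h2.symm
  let f : A →ₐ[R] S := (σ.restrictScalars R).comp Algebra.TensorProduct.includeRight
  have hfa : ∀ a : A, f a = σ (1 ⊗ₜ[R] a) := fun a => rfl
  have hfres : ∀ a : A, residue S (f a) = τ (algebraMap A q.ResidueField a) := by
    intro a
    rw [hfa, hσχ, hχA]
    rfl
  refine ⟨f, ⟨?_, hfres⟩, ?_⟩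
  · ext a
    rw [Ideal.mem_comap]
    show f a ∈ maximalIdeal S ↔ a ∈ q
    rw [← residue_eq_zero_iff, hfres]
    exact hτ'ker a
  · rintro f₂ ⟨-, hf₂⟩
    apply Groth.Agent.Lib.helper24.HenselLocal.algHom_ext_of_residue
    intro a
    rw [← residue_eq_zero_iff, map_sub, hf₂, hfres, sub_self]

end Groth.Agent.S0501
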