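import Groth.Statements.S0502
import Mathlib.RingTheory.Etale.StandardEtale
import Mathlib.RingTheory.LocalRing.ResidueField.Ideal
import Mathlib.Tactic.Ring
import Mathlib.Tactic.LinearCombination

set_option autoImplicit false
universe u
open Hensel
open Polynomial IsLocalRing

namespace Groth.Agent.S0502

/-- A local ring `R` is henselian as soon as every étale `R`-algebra having a prime over the maximal
ideal with trivial residue field extension admits an `R`-algebra retraction to `R`. -/
theorem result (R : Type u) [CommRing R] [IsLocalRing R]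
    (h : ∀ (S : Type u) [CommRing S] [Algebra R S] [Algebra.Etale R S] (q : Ideal S) [q.IsPrime],
      q.LiesOver (IsLocalRing.maximalIdeal R) → Function.Surjective (algebraMap R q.ResidueField) →
      Nonempty (S →ₐ[R] R)) :
    HenselianLocalRing R := by
  classical
  refine ⟨fun f hf a₀ h0 h1 => ?_⟩
  set g₀ := f /ₘ (X - C a₀) with hgdef
  have hfg : f = (X - C a₀) * g₀ + C (f.eval a₀) := by
    have := modByMonic_add_div f (X - C a₀)
    rw [modByMonic_X_sub_C_eq_C_eval] at this
    rw [hgdef]
    linear_combination -this
  have hg0 : g₀.eval a₀ = f.derivative.eval a₀ := by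
    conv_rhs => rw [hfg]
    simp [derivative_mul]
  let P : StandardEtalePair R := ⟨f, hf, g₀ * derivative f, ⟨g₀, 0, 1, by ring⟩⟩
  have hmap : P.HasMap (residue R a₀ : ResidueField R) := by
    constructor
    · show aeval (residue R a₀) f = 0
      rw [aeval_def, ResidueField.algebraMap_eq, eval₂_at_apply]
      exact (residue_eq_zero_iff _).2 h0
    · show IsUnit (aeval (residue R a₀) (g₀ * derivative f))
      rw [map_mul, aeval_def, aeval_def, ResidueField.algebraMap_eq, eval₂_at_apply,
        eval₂_at_apply, hg0]
      exact (h1.map _).mul (h1.map _)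
  let ψ : P.Ring →ₐ[R] ResidueField R := P.lift _ hmap
  have hψsurj : Function.Surjective ψ := by
    intro z
    obtain ⟨r, rfl⟩ := residue_surjective z
    exact ⟨algebraMap R P.Ring r, by rw [ψ.commutes]; rfl⟩
  let q : Ideal P.Ring := RingHom.ker ψ.toRingHom
  have hqmax : q.IsMaximal := RingHom.ker_isMaximal_of_surjective ψ.toRingHom hψsurj
  have hqprime : q.IsPrime := hqmax.isPrime
  have hlies : q.LiesOver (maximalIdeal R) := by
    refine ⟨?_⟩
    ext r
    rw [Ideal.under_def, Ideal.mem_comap]
    change r ∈ maximalIdeal R ↔ ψ (algebraMap R P.Ring r) = 0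
    rw [ψ.commutes, ResidueField.algebraMap_eq, residue_eq_zero_iff]
  have hsurj : Function.Surjective (algebraMap R q.ResidueField) := by
    intro z
    obtain ⟨s, rfl⟩ := Ideal.algebraMap_residueField_surjective q z
    obtain ⟨r, hr⟩ := residue_surjective (ψ s)
    refine ⟨r, ?_⟩
    rw [IsScalarTower.algebraMap_apply R P.Ring q.ResidueField, ← sub_eq_zero, ← map_sub,
      Ideal.algebraMap_residueField_eq_zero]
    change ψ (algebraMap R P.Ring r - s) = 0
    rw [map_sub, ψ.commutes, ResidueField.algebraMap_eq, hr, sub_self]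
  obtain ⟨ρ⟩ := h P.Ring q hlies hsurj
  have hm : P.HasMap (ρ P.X) := (StandardEtalePair.hasMap_X (P := P)).map ρ
  set a := ρ P.X with ha
  have hfa : f.eval a = 0 := by
    have := hm.1
    rwa [coe_aeval_eq_eval] at this
  have hga : IsUnit (g₀.eval a) := by
    have := hm.2
    change IsUnit (aeval a (g₀ * derivative f)) at this
    rw [coe_aeval_eq_eval, eval_mul] at this
    exact isUnit_of_mul_isUnit_left this
  refine ⟨a, hfa, ?_⟩
  have h2 : (a - a₀) * g₀.eval a = - f.eval a₀ := by
    have := congrArg (eval a) hfg
    rw [hfa, eval_add, eval_mul, eval_sub, eval_X, eval_C, eval_C] at this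
    linear_combination -this
  obtain ⟨v, hv⟩ := hga.exists_right_inv
  have : a - a₀ = -(f.eval a₀) * v := by
    rw [← h2, mul_assoc, hv, mul_one]
  rw [this]
  exact Ideal.mul_mem_right _ _ (neg_mem h0)

end Groth.Agent.S0502
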