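import Groth.Statements.S0507
import Groth.Agent.Lib.Helper12.HenselUniv
-- import your own Groth.Agent.* helpers here

set_option autoImplicit false
universe u
open Hensel

namespace Groth.Agent.S0507

/-- The maximal ideal of the henselization of a local ring `R` is generated by the maximal ideal of `R`. -/
theorem result (R : Type u) [CommRing R] [IsLocalRing R] (S : Type u) [CommRing S] [IsLocalRing S]
    [Algebra R S] [IsLocalHom (algebraMap R S)] [Hensel.IsHenselization R S] :
    Ideal.map (algebraMap R S) (IsLocalRing.maximalIdeal R) = IsLocalRing.maximalIdeal S := by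
  apply le_antisymm (IsLocalRing.map_maximalIdeal_le (algebraMap R S))
  intro s hs
  have hbij := Groth.Agent.Lib.helper12.henselization_quotientMap_pow_bijective R S 1
  rw [pow_one] at hbij
  obtain ⟨x, hx⟩ := hbij.2 (Ideal.Quotient.mk _ s)
  obtain ⟨r, rfl⟩ := Ideal.Quotient.mk_surjective x
  rw [Ideal.quotientMap_mk, Ideal.Quotient.eq] at hx
  have hJle : Ideal.map (algebraMap R S) (IsLocalRing.maximalIdeal R) ≤ IsLocalRing.maximalIdeal S :=
    IsLocalRing.map_maximalIdeal_le (algebraMap R S)
  have h1 : algebraMap R S r ∈ IsLocalRing.maximalIdeal S := by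
    have := (IsLocalRing.maximalIdeal S).add_mem (hJle hx) hs
    simpa using this
  have h2 : r ∈ IsLocalRing.maximalIdeal R := by
    by_contra h
    have hu : IsUnit r := by
      by_contra h'
      exact h h'
    exact h1 (hu.map _)
  have h3 : algebraMap R S r ∈ Ideal.map (algebraMap R S) (IsLocalRing.maximalIdeal R) :=
    Ideal.mem_map_of_mem _ h2
  have := (Ideal.map (algebraMap R S) (IsLocalRing.maximalIdeal R)).sub_mem h3 hx
  simpa using this

end Groth.Agent.S0507
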