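import Groth.Statements.S0508
import Groth.Agent.Lib.Helper12.HenselUniv
-- import your own Groth.Agent.* helpers here

set_option autoImplicit false
universe u
open Hensel

namespace Groth.Agent.S0508

/-- The henselization of a local ring induces an isomorphism on residue fields. -/
theorem result (R : Type u) [CommRing R] [IsLocalRing R] (S : Type u) [CommRing S] [IsLocalRing S]
    [Algebra R S] [IsLocalHom (algebraMap R S)] [Hensel.IsHenselization R S] :
    Function.Bijective (IsLocalRing.ResidueField.map (algebraMap R S)) := by
  refine ⟨(IsLocalRing.ResidueField.map (algebraMap R S)).injective, fun y => ?_⟩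
  obtain ⟨s, rfl⟩ := IsLocalRing.residue_surjective y
  have hbij := Groth.Agent.Lib.helper12.henselization_quotientMap_pow_bijective R S 1
  rw [pow_one] at hbij
  obtain ⟨x, hx⟩ := hbij.2 (Ideal.Quotient.mk _ s)
  obtain ⟨r, rfl⟩ := Ideal.Quotient.mk_surjective x
  rw [Ideal.quotientMap_mk, Ideal.Quotient.eq] at hx
  have hJle : Ideal.map (algebraMap R S) (IsLocalRing.maximalIdeal R) ≤ IsLocalRing.maximalIdeal S :=
    IsLocalRing.map_maximalIdeal_le (algebraMap R S)
  refine ⟨IsLocalRing.residue R r, ?_⟩
  rw [IsLocalRing.ResidueField.map_residue]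
  rw [← sub_eq_zero, ← map_sub, IsLocalRing.residue_eq_zero_iff]
  exact hJle hx

end Groth.Agent.S0508
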