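import Groth.Statements.S0524
import Groth.Agent.Lib.Helper26.HenselPair

set_option autoImplicit false
universe u
open Hensel

namespace Groth.Agent.S0524

open Groth.Agent.Lib.helper26.HenselPair


/-- (1) iff (5) with the uniqueness complement: `A` is Henselian at `I` exactly when `I` lies in the
Jacobson radical and, for every `n ≥ 1` and every polynomial `p` of degree at most `n` with all
coefficients in `I`, the polynomial `Tⁿ(T-1) + p` has exactly one root congruent to `1` modulo `I`. -/
theorem result (A : Type u) [CommRing A] (I : Ideal A) :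
    HenselianRing A I ↔ (I ≤ Ideal.jacobson ⊥ ∧
      ∀ (n : ℕ), 0 < n → ∀ p : Polynomial A, p.natDegree ≤ n → (∀ i, p.coeff i ∈ I) →
        ∃! α : A, α - 1 ∈ I ∧
          Polynomial.IsRoot (Polynomial.X ^ n * (Polynomial.X - 1) + p) α) := by
  constructor
  · intro h
    refine ⟨h.jac, fun n hn p hpdeg hpI => ?_⟩
    obtain ⟨α, hα, hαr⟩ := gabber_of_henselianRing h n hn p hpdeg hpI
    exact ⟨α, ⟨hα, hαr⟩, fun β hβ => (gabber_root_unique h.jac n p hpI α β hα hβ.1 hαr hβ.2).symm⟩
  · rintro ⟨hjac, hG⟩
    refine henselianRing_of_gabber hjac fun n hn p hpdeg hpI => ?_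
    obtain ⟨α, hα, -⟩ := hG n hn p hpdeg hpI
    exact ⟨α, hα.1, hα.2⟩


end Groth.Agent.S0524
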