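import Groth.Statements.S0525
import Groth.Agent.Lib.Helper2.Henselian

set_option autoImplicit false
universe u
open Hensel

namespace Groth.Agent.S0525

/-- If two ideals of a ring have the same radical (the same closed set), the ring is Henselian at one
exactly when it is Henselian at the other. -/
theorem result (A : Type u) [CommRing A] (I J : Ideal A)
    (h : I.radical = J.radical) : HenselianRing A I ↔ HenselianRing A J := by
  have key : ∀ K : Ideal A, HenselianRing A K ↔ HenselianRing A K.radical := by
    intro K
    refine ⟨fun h => ?_, fun h => Groth.Agent.Lib.helper2.henselianRing_of_le Ideal.le_radical h⟩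
    refine Groth.Agent.Lib.helper2.henselianRing_of_quotient Ideal.le_radical h ?_
    apply Groth.Agent.Lib.helper2.henselianRing_of_locally_nilpotent
    intro x hx
    rw [Ideal.mem_map_iff_of_surjective _ Ideal.Quotient.mk_surjective] at hx
    obtain ⟨r, ⟨n, hn⟩, rfl⟩ := hx
    exact ⟨n, by rw [← map_pow, Ideal.Quotient.eq_zero_iff_mem]; exact hn⟩
  rw [key I, key J, h]

end Groth.Agent.S0525
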