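import Groth.Statements.S0534
import Mathlib
import Groth.Agent.Lib.Helper26.HenselPairIdem
import Groth.Agent.Lib.Helper26.IdemRange
import Groth.Agent.S2044

set_option autoImplicit false
universe u
open Hensel

namespace Groth.Agent.S0534

/-- If `R` is Henselian at `I`, every finitely generated projective `R/I`-module is the base change of a
finitely generated projective `R`-module. -/
theorem result (R : Type u) [CommRing R] (I : Ideal R)
    [HenselianRing R I] (Q : Type u) [AddCommGroup Q] [Module (R ⧸ I) Q] [Module.Finite (R ⧸ I) Q]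
    [Module.Projective (R ⧸ I) Q] :
    ∃ (P : Type u) (_ : AddCommGroup P) (_ : Module R P), Module.Finite R P ∧ Module.Projective R P ∧
      Nonempty (TensorProduct R (R ⧸ I) P ≃ₗ[R ⧸ I] Q) := by
  classical
  have hH : HenselianRing R I := inferInstance
  obtain ⟨n, Mb, hMb, ⟨eP⟩⟩ := Groth.Agent.S2044.exists_idem_matrix (R ⧸ I) Q
  -- lift the matrix
  set M : Matrix (Fin n) (Fin n) R := Mb.map (Function.surjInv Ideal.Quotient.mk_surjective) with hM
  have hMmap : M.map (Ideal.Quotient.mk I) = Mb := by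
    ext i j
    simp [hM, Function.surjInv_eq]
  have hz : ∀ i j, (M ^ 2 - M) i j ∈ I := by
    intro i j
    rw [← Ideal.Quotient.eq_zero_iff_mem]
    have : (Ideal.Quotient.mk I).mapMatrix (M ^ 2 - M) = 0 := by
      rw [map_sub, map_pow, RingHom.mapMatrix_apply, hMmap, pow_two, hMb, sub_self]
    have h2 := congrFun (congrFun this i) j
    simpa [RingHom.mapMatrix_apply] using h2
  set p₀ := (M ^ 2 - M).charpoly with hp₀
  have hp₀monic : p₀.Monic := Matrix.charpoly_monic _
  have hp₀z : Polynomial.aeval (M ^ 2 - M) p₀ = 0 := Matrix.aeval_self_charpoly _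
  have hp₀I : ∀ i ≠ p₀.natDegree, p₀.coeff i ∈ I := by
    intro i hi
    have hcoef := Matrix.coeff_charpoly_mem_ideal_pow (I := I) hz i
    by_cases hin : i < Fintype.card (Fin n)
    · exact Ideal.pow_le_self (by omega) hcoef
    · have hle : p₀.natDegree ≤ Fintype.card (Fin n) := by
        rcases subsingleton_or_nontrivial R with h | h
        · rw [Subsingleton.elim p₀ 0]; simp
        · rw [hp₀, Matrix.charpoly_natDegree_eq_dim]
      rw [Polynomial.coeff_eq_zero_of_natDegree_lt (by omega)]
      exact I.zero_mem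
  set f : Polynomial R := (p₀ * Polynomial.X).comp (Polynomial.X ^ 2 - Polynomial.X) with hf
  have hfmonic : f.Monic := Groth.Agent.Lib.helper26.EtaleLift.monic_comp_aux p₀ hp₀monic
  have hfmap := Groth.Agent.Lib.helper26.EtaleLift.map_comp_aux I p₀ hp₀monic hp₀I
  have hfM : Polynomial.aeval M f = 0 := by
    rw [hf, Groth.Agent.Lib.helper26.EtaleLift.aeval_comp_aux, hp₀z, zero_mul]
  obtain ⟨Qp, Rp, Sp, ⟨T, hT⟩, hQ, hS⟩ :=
    Groth.Agent.Lib.helper26.HenselPair.exists_idempotent_polynomial_of_henselianRing hH f hfmonic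
      p₀.natDegree hfmap
  set N : Matrix (Fin n) (Fin n) R := Polynomial.aeval M Qp with hN
  have hNidem : N * N = N := by
    have h2 := congrArg (Polynomial.aeval M) hT
    rw [map_mul, hfM, zero_mul, map_sub, map_pow, sub_eq_zero, pow_two] at h2
    exact h2
  -- reduction of N
  let Ψ : Matrix (Fin n) (Fin n) R →ₐ[R] Matrix (Fin n) (Fin n) (R ⧸ I) :=
    (Ideal.Quotient.mkₐ R I).mapMatrix
  have hΨM : Ψ M = Mb := by
    ext i j
    simp only [Ψ, AlgHom.mapMatrix_apply, Matrix.map_apply, ← hMmap]
    rfl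
  have hΨMidem : (Ψ M) ^ 2 - Ψ M = 0 := by
    rw [hΨM, pow_two, hMb, sub_self]
  have hΨN : Ψ N = Ψ M := by
    have h1 : Ψ N = Polynomial.aeval (Ψ M) Qp :=
      (Polynomial.aeval_algHom_apply Ψ M Qp).symm
    have h2 := congrArg (Polynomial.aeval (Ψ M)) hQ
    rw [map_sub, Polynomial.aeval_X, map_add, map_mul, map_sub, map_pow, Polynomial.aeval_X,
      hΨMidem, zero_mul, zero_add] at h2
    have h3 : Polynomial.aeval (Ψ M) Sp = 0 := by
      rw [Polynomial.aeval_eq_sum_range]
      apply Finset.sum_eq_zero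
      intro i _
      ext a b
      rw [Matrix.smul_apply, Algebra.smul_def, Ideal.Quotient.algebraMap_eq,
        Ideal.Quotient.eq_zero_iff_mem.mpr (hS i), zero_mul]
      rfl
    rw [h3, sub_eq_zero] at h2
    rw [h1, h2]
  have hmat : N.map (algebraMap R (R ⧸ I)) = Mb := by
    rw [← hΨM, ← hΨN]
    rfl
  -- the module
  refine ⟨LinearMap.range N.mulVecLin, inferInstance, inferInstance, inferInstance, ?_, ?_⟩
  · refine Module.Projective.of_split (LinearMap.range N.mulVecLin).subtype
      (N.mulVecLin.codRestrict _ (fun x => LinearMap.mem_range_self _ x)) ?_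
    ext x : 1
    apply Subtype.ext
    change N.mulVec (x : Fin n → R) = x
    exact Groth.Agent.Lib.helper26.IdemRange.mulVec_eq_self_of_mem N hNidem x.2
  · obtain ⟨e1⟩ := Groth.Agent.Lib.helper26.IdemRange.nonempty_baseChange_range_equiv
      (R' := R ⧸ I) N hNidem
    rw [hmat] at e1
    exact ⟨e1 ≪≫ₗ eP.symm⟩


end Groth.Agent.S0534
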