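import Groth.Statements.S0535
import Mathlib.RingTheory.Nakayama
import Mathlib.RingTheory.OrzechProperty
import Mathlib.RingTheory.FiniteType
import Mathlib.LinearAlgebra.TensorProduct.Quotient
import Mathlib.Algebra.Module.Projective

set_option autoImplicit false
universe u
open Hensel

namespace Groth.Agent.S0535

/-- Lifting a surjection `P/IP → Q/IQ` to a surjection `P → Q` when `P` is projective, `Q` is
finite and `I` lies in the Jacobson radical. -/
lemma exists_surjective_lift {R : Type*} [CommRing R] {I : Ideal R} (hI : I ≤ Ideal.jacobson ⊥)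
    {P Q : Type*} [AddCommGroup P] [Module R P] [AddCommGroup Q] [Module R Q]
    [Module.Projective R P] [Module.Finite R Q]
    (g : (P ⧸ (I • ⊤ : Submodule R P)) →ₗ[R] (Q ⧸ (I • ⊤ : Submodule R Q)))
    (hg : Function.Surjective g) :
    ∃ φ : P →ₗ[R] Q, Function.Surjective φ := by
  obtain ⟨φ, hφ⟩ := Module.projective_lifting_property (Submodule.mkQ (I • ⊤ : Submodule R Q))
    (g ∘ₗ Submodule.mkQ (I • ⊤ : Submodule R P)) (Submodule.mkQ_surjective _)
  refine ⟨φ, ?_⟩
  rw [← LinearMap.range_eq_top, eq_top_iff]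
  refine Submodule.le_of_le_smul_of_le_jacobson_bot (Module.Finite.fg_top) hI ?_
  intro y _
  obtain ⟨z, hz⟩ := hg (Submodule.mkQ _ y)
  obtain ⟨x, rfl⟩ := Submodule.mkQ_surjective _ z
  have h1 : Submodule.mkQ (I • ⊤ : Submodule R Q) (φ x) = Submodule.mkQ _ y := by
    rw [← hz, ← LinearMap.comp_apply, hφ]; rfl
  have h2 : y - φ x ∈ (I • ⊤ : Submodule R Q) := by
    rw [← Submodule.Quotient.mk_eq_zero, Submodule.Quotient.mk_sub]
    rw [Submodule.mkQ_apply, Submodule.mkQ_apply] at h1
    rw [h1, sub_self]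
  have h3 : y = φ x + (y - φ x) := by abel
  rw [h3]
  exact Submodule.add_mem_sup (LinearMap.mem_range_self φ x) h2

/-- If `R` is Henselian at `I` and two finitely generated projective `R`-modules become isomorphic after
base change to `R/I`, then they are isomorphic. -/
theorem result (R : Type u) [CommRing R] (I : Ideal R)
    [HenselianRing R I] (P₁ P₂ : Type u) [AddCommGroup P₁] [Module R P₁] [AddCommGroup P₂]
    [Module R P₂] [Module.Finite R P₁] [Module.Projective R P₁] [Module.Finite R P₂]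
    [Module.Projective R P₂]
    (e : TensorProduct R (R ⧸ I) P₁ ≃ₗ[R ⧸ I] TensorProduct R (R ⧸ I) P₂) :
    Nonempty (P₁ ≃ₗ[R] P₂) := by
  have hI : I ≤ Ideal.jacobson ⊥ := HenselianRing.jac
  let e' : (P₁ ⧸ (I • ⊤ : Submodule R P₁)) ≃ₗ[R] (P₂ ⧸ (I • ⊤ : Submodule R P₂)) :=
    (TensorProduct.quotTensorEquivQuotSMul P₁ I).symm ≪≫ₗ (e.restrictScalars R) ≪≫ₗ
      (TensorProduct.quotTensorEquivQuotSMul P₂ I)
  obtain ⟨φ, hφ⟩ := exists_surjective_lift hI e'.toLinearMap e'.surjective
  obtain ⟨ψ, hψ⟩ := exists_surjective_lift hI e'.symm.toLinearMap e'.symm.surjective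
  have hinj : Function.Injective (ψ ∘ₗ φ) :=
    OrzechProperty.injective_of_surjective_endomorphism (ψ ∘ₗ φ) (hψ.comp hφ)
  have hφinj : Function.Injective φ := by
    intro x y hxy
    apply hinj
    simp only [LinearMap.comp_apply, hxy]
  exact ⟨LinearEquiv.ofBijective φ ⟨hφinj, hφ⟩⟩

end Groth.Agent.S0535
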