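import Groth.Statements.S0536
import Mathlib
import Groth.Agent.S2025
import Groth.Agent.Lib.Helper26.HenselPair

set_option autoImplicit false
universe u
open Hensel

namespace Groth.Agent.S0536

section aux
open TensorProduct


theorem exists_etale_factor {A B : Type u} [CommRing A] [CommRing B] [Algebra A B]
    [Algebra.IsStandardSmooth A B] (I : Ideal A) (σ : B →ₐ[A] A ⧸ I) :
    ∃ (A' : Type u) (_ : CommRing A') (_ : Algebra A A') (_ : Algebra.Etale A A')
      (φ : B →ₐ[A] A') (σ' : A' →ₐ[A] A ⧸ I), σ'.comp φ = σ := by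
  obtain ⟨ι, κ, _, _, ⟨P⟩⟩ := Algebra.IsStandardSmooth.out (R := A) (S := B)
  have hdim : Algebra.IsStandardSmoothOfRelativeDimension P.dimension A B :=
    ⟨⟨ι, κ, ‹_›, ‹_›, P, rfl⟩⟩
  generalize P.dimension = n at hdim
  obtain ⟨g, hg⟩ :=
    Algebra.IsStandardSmoothOfRelativeDimension.exists_etale_mvPolynomial n A B
  have hex : ∀ j : Fin n, ∃ a : A, Ideal.Quotient.mk I a = σ (g (MvPolynomial.X j)) :=
    fun j => Ideal.Quotient.mk_surjective _
  choose a ha using hex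
  let ev : MvPolynomial (Fin n) A →ₐ[A] A := MvPolynomial.aeval a
  letI algB : Algebra (MvPolynomial (Fin n) A) B := g.toRingHom.toAlgebra
  letI algA : Algebra (MvPolynomial (Fin n) A) A := ev.toRingHom.toAlgebra
  haveI : Algebra.Etale (MvPolynomial (Fin n) A) B := hg
  have hcomp : σ.comp g = (Ideal.Quotient.mkₐ A I).comp ev := by
    apply MvPolynomial.algHom_ext
    intro j
    simp [ev, ha]
  let f₁ : A →ₐ[MvPolynomial (Fin n) A] A ⧸ I :=
    { Ideal.Quotient.mk I with commutes' := fun p => rfl }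
  let f₂ : B →ₐ[MvPolynomial (Fin n) A] A ⧸ I :=
    { σ.toRingHom with commutes' := fun p => congr($hcomp p) }
  let σ₀ : A ⊗[MvPolynomial (Fin n) A] B →ₐ[MvPolynomial (Fin n) A] A ⧸ I :=
    Algebra.TensorProduct.lift f₁ f₂ (fun _ _ => Commute.all _ _)
  let φ : B →ₐ[A] A ⊗[MvPolynomial (Fin n) A] B :=
    { (Algebra.TensorProduct.includeRight :
        B →ₐ[MvPolynomial (Fin n) A] A ⊗[MvPolynomial (Fin n) A] B).toRingHom with
      commutes' := fun r => by
        change (1 : A) ⊗ₜ[MvPolynomial (Fin n) A] (algebraMap A B r) = r ⊗ₜ 1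
        have h1 : algebraMap A B r = (MvPolynomial.C r : MvPolynomial (Fin n) A) • (1 : B) := by
          rw [Algebra.smul_def, mul_one]
          change _ = g (MvPolynomial.C r)
          rw [← MvPolynomial.algebraMap_eq, AlgHom.commutes]
        have h2 : (MvPolynomial.C r : MvPolynomial (Fin n) A) • (1 : A) = r := by
          rw [Algebra.smul_def, mul_one]
          change ev (MvPolynomial.C r) = r
          simp [ev]
        rw [h1, ← TensorProduct.smul_tmul, h2] }
  let σ' : A ⊗[MvPolynomial (Fin n) A] B →ₐ[A] A ⧸ I :=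
    { σ₀.toRingHom with
      commutes' := fun r => by
        change σ₀ (r ⊗ₜ 1) = _
        simp [σ₀, f₁, f₂] }
  refine ⟨A ⊗[MvPolynomial (Fin n) A] B, inferInstance, inferInstance, inferInstance, φ, σ', ?_⟩
  ext b
  change σ₀ (1 ⊗ₜ b) = σ b
  simp [σ₀, f₁, f₂]


theorem main (R : Type u) [CommRing R] (S : Type u) [CommRing S]
    [Algebra R S] [Algebra.Smooth R S] (A : Type u) [CommRing A] [Algebra R A] (I : Ideal A)
    [HenselianRing A I] (σ : S →ₐ[R] A ⧸ I) :
    ∃ τ : S →ₐ[R] A, (Ideal.Quotient.mkₐ R I).comp τ = σ := by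
  -- base change to `A`
  let σB : A ⊗[R] S →ₐ[A] A ⧸ I :=
    Algebra.TensorProduct.lift (Algebra.ofId A (A ⧸ I)) σ (fun _ _ => Commute.all _ _)
  obtain ⟨B', _, _, _, _, hsm, ⟨r⟩, hstd⟩ := Groth.Agent.S2025.result (R := A) (A := A ⊗[R] S)
  let σ'' : B' →ₐ[A] A ⧸ I := σB.comp (r.restrictScalars A)
  obtain ⟨A', _, _, _, φ, σ', hσ'⟩ := exists_etale_factor I σ''
  obtain ⟨τ', hτ'⟩ := Groth.Agent.Lib.helper26.HenselPair.exists_lift_of_henselianRing
    (inferInstance : HenselianRing A I) A' σ'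
  let τB : A ⊗[R] S →ₐ[A] A := τ'.comp (φ.comp (IsScalarTower.toAlgHom A (A ⊗[R] S) B'))
  refine ⟨(τB.restrictScalars R).comp Algebra.TensorProduct.includeRight, ?_⟩
  ext s
  have h1 : Ideal.Quotient.mk I (τ' (φ (algebraMap (A ⊗[R] S) B' (1 ⊗ₜ s)))) =
      σ' (φ (algebraMap (A ⊗[R] S) B' (1 ⊗ₜ s))) := congr($hτ' _)
  have h2 : σ' (φ (algebraMap (A ⊗[R] S) B' (1 ⊗ₜ s))) =
      σ'' (algebraMap (A ⊗[R] S) B' (1 ⊗ₜ s)) := congr($hσ' _)
  have h3 : σ'' (algebraMap (A ⊗[R] S) B' (1 ⊗ₜ s)) = σ s := by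
    change σB (r (algebraMap (A ⊗[R] S) B' (1 ⊗ₜ s))) = σ s
    rw [r.commutes]
    simp [σB]
  change Ideal.Quotient.mk I (τ' (φ (algebraMap (A ⊗[R] S) B' (1 ⊗ₜ s)))) = σ s
  rw [h1, h2, h3]

end aux


/-- Let `S` be a smooth `R`-algebra and `A` an `R`-algebra Henselian at an ideal `I`. Every `R`-algebra
map `S → A/I` lifts to an `R`-algebra map `S → A`. -/
theorem result (R : Type u) [CommRing R] (S : Type u) [CommRing S]
    [Algebra R S] [Algebra.Smooth R S] (A : Type u) [CommRing A] [Algebra R A] (I : Ideal A)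
    [HenselianRing A I] (σ : S →ₐ[R] A ⧸ I) :
    ∃ τ : S →ₐ[R] A, (Ideal.Quotient.mkₐ R I).comp τ = σ := by
  exact main R S A I σ

end Groth.Agent.S0536
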