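import Groth.Statements.S0544
import Mathlib.RingTheory.AdicCompletion.Functoriality
import Mathlib.RingTheory.Finiteness.Basic

set_option autoImplicit false
universe u
open CAlg

namespace Groth.Agent.S0544

/-- Membership in `K • ⊤` inside a finite power `ι → R` is coordinatewise. -/
lemma mem_smul_top_pi {R : Type*} [CommRing R] {ι : Type*} [Finite ι] (K : Ideal R) (x : ι → R) :
    x ∈ (K • ⊤ : Submodule R (ι → R)) ↔ ∀ i, x i ∈ K := by
  classical
  have := Fintype.ofFinite ι
  constructor
  · intro hx i
    refine Submodule.smul_induction_on (p := fun y => y i ∈ K) hx ?_ ?_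
    · intro r hr m _
      simpa using K.mul_mem_right _ hr
    · intro a b ha hb
      simpa using K.add_mem ha hb
  · intro hx
    rw [pi_eq_sum_univ x]
    refine Submodule.sum_mem _ fun i _ => ?_
    exact Submodule.smul_mem_smul (hx i) Submodule.mem_top

/-- A finite power of a precomplete ring is precomplete. -/
lemma isPrecomplete_pi {R : Type*} [CommRing R] (I : Ideal R) [IsPrecomplete I R]
    (ι : Type*) [Finite ι] : IsPrecomplete I (ι → R) := by
  refine ⟨fun f hf => ?_⟩
  have key : ∀ i, ∃ L : R, ∀ n, f n i ≡ L [SMOD (I ^ n • ⊤ : Submodule R R)] := by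
    intro i
    apply IsPrecomplete.prec ‹IsPrecomplete I R›
    intro m n hmn
    have := (hf hmn)
    rw [SModEq.sub_mem, mem_smul_top_pi] at this
    rw [SModEq.sub_mem, smul_eq_mul, Ideal.mul_top]
    exact this i
  choose L hL using key
  refine ⟨L, fun n => ?_⟩
  rw [SModEq.sub_mem, mem_smul_top_pi]
  intro i
  have := hL i n
  rw [SModEq.sub_mem, smul_eq_mul, Ideal.mul_top] at this
  exact this

/-- Let `R` be complete with respect to an ideal `I` and `M` an `R`-module which is `I`-adically
separated and such that `M/IM` is finitely generated. Then `M` is a finitely generated `R`-module. -/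
theorem result (R : Type u) [CommRing R]
    (I : Ideal R) [IsAdicComplete I R] (M : Type u) [AddCommGroup M] [Module R M] [IsHausdorff I M]
    (h : Module.Finite R (M ⧸ (I • ⊤ : Submodule R M))) : Module.Finite R M := by
  obtain ⟨n, s, hs⟩ := Module.Finite.exists_fin (R := R) (M := M ⧸ (I • ⊤ : Submodule R M))
  have hsurj := Submodule.mkQ_surjective (I • ⊤ : Submodule R M)
  choose t ht using fun i => hsurj (s i)
  let f : (Fin n → R) →ₗ[R] M := Fintype.linearCombination R t
  have : IsPrecomplete I (Fin n → R) := isPrecomplete_pi I (Fin n)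
  have hf : Function.Surjective ((Submodule.mkQ (I • ⊤ : Submodule R M)) ∘ₗ f) := by
    rw [← LinearMap.range_eq_top, eq_top_iff, ← hs, Submodule.span_le]
    rintro _ ⟨i, rfl⟩
    refine ⟨Pi.single i 1, ?_⟩
    rw [LinearMap.comp_apply, ← ht i]
    congr 1
    simp [f]
  have hfs : Function.Surjective f := surjective_of_mkQ_comp_surjective hf
  exact Module.Finite.of_surjective f hfs

end Groth.Agent.S0544
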