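import Groth.Statements.S0549
import Groth.Agent.S0542
import Groth.Agent.Lib.Helper24.HensDepth
import Groth.Agent.Lib.Helper15.Regular
-- import your own Groth.Agent.* helpers here

set_option autoImplicit false
universe u
open CAlg

namespace Groth.Agent.S0549

/-- A Noetherian local ring is a discrete valuation ring exactly when its completion at the maximal
ideal is a discrete valuation ring. -/
theorem result (A : Type u) [CommRing A] [IsLocalRing A]
    [IsNoetherianRing A] :
    (∃ _ : IsDomain A, IsDiscreteValuationRing A) ↔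
      ∃ _ : IsDomain (AdicCompletion (IsLocalRing.maximalIdeal A) A),
        IsDiscreteValuationRing (AdicCompletion (IsLocalRing.maximalIdeal A) A) := by
  haveI hN : IsNoetherianRing (AdicCompletion (IsLocalRing.maximalIdeal A) A) :=
    Groth.Agent.S0542.result A (IsLocalRing.maximalIdeal A)
      (IsLocalRing.maximalIdeal A).fg_of_isNoetherianRing
  have hm : (IsLocalRing.maximalIdeal A).map
      (algebraMap A (AdicCompletion (IsLocalRing.maximalIdeal A) A)) =
      IsLocalRing.maximalIdeal (AdicCompletion (IsLocalRing.maximalIdeal A) A) :=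
    AdicCompletion.maximalIdeal_eq_map.symm
  haveI hff : Module.FaithfullyFlat A (AdicCompletion (IsLocalRing.maximalIdeal A) A) :=
    Module.FaithfullyFlat.of_flat_of_isLocalHom
  have hspan := Groth.Agent.Lib.Helper24.FlatCotangent.spanFinrank_maximalIdeal_eq_of_flat A
    (AdicCompletion (IsLocalRing.maximalIdeal A) A) hm
  have hinj : Function.Injective
      (algebraMap A (AdicCompletion (IsLocalRing.maximalIdeal A) A)) :=
    FaithfulSMul.algebraMap_injective _ _
  have hdim := Groth.Agent.Lib.Helper24.FlatLocalFibre.ringKrullDim_eq_of_flat A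
    (AdicCompletion (IsLocalRing.maximalIdeal A) A) hm
  have hreg := Groth.Agent.Lib.Helper24.FlatCotangent.isRegularLocalRing_iff_of_flat A
    (AdicCompletion (IsLocalRing.maximalIdeal A) A) hm hdim
  constructor
  · rintro ⟨hd, hdvr⟩
    have hnfR : ¬ IsField A := IsDiscreteValuationRing.not_isField A
    haveI hregA : IsRegularLocalRing A := inferInstance
    haveI hregS : IsRegularLocalRing (AdicCompletion (IsLocalRing.maximalIdeal A) A) :=
      hreg.1 hregA
    haveI hdS : IsDomain (AdicCompletion (IsLocalRing.maximalIdeal A) A) :=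
      Groth.Agent.Lib.helper15.isDomain_of_isRegularLocalRing _
    have hnfS : ¬ IsField (AdicCompletion (IsLocalRing.maximalIdeal A) A) := by
      intro h
      apply hnfR
      rw [IsLocalRing.isField_iff_maximalIdeal_eq] at h ⊢
      rw [← hm] at h
      exact (Ideal.map_eq_bot_iff_of_injective hinj).1 h
    have h1 : Module.finrank (IsLocalRing.ResidueField A) (IsLocalRing.CotangentSpace A) = 1 :=
      ((IsDiscreteValuationRing.TFAE A hnfR).out 0 5).1 hdvr
    have h2 : Module.finrank
        (IsLocalRing.ResidueField (AdicCompletion (IsLocalRing.maximalIdeal A) A))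
        (IsLocalRing.CotangentSpace (AdicCompletion (IsLocalRing.maximalIdeal A) A)) = 1 := by
      rw [← IsLocalRing.spanFinrank_maximalIdeal_eq_finrank_cotangentSpace, hspan,
        IsLocalRing.spanFinrank_maximalIdeal_eq_finrank_cotangentSpace, h1]
    exact ⟨hdS, ((IsDiscreteValuationRing.TFAE _ hnfS).out 5 0).1 h2⟩
  · rintro ⟨hd, hdvr⟩
    have hnfS : ¬ IsField (AdicCompletion (IsLocalRing.maximalIdeal A) A) :=
      IsDiscreteValuationRing.not_isField _
    haveI hdA : IsDomain A := hinj.isDomain _
    have hnfR : ¬ IsField A := by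
      intro h
      apply hnfS
      rw [IsLocalRing.isField_iff_maximalIdeal_eq] at h ⊢
      rw [← hm, h, Ideal.map_bot]
    have h1 : Module.finrank
        (IsLocalRing.ResidueField (AdicCompletion (IsLocalRing.maximalIdeal A) A))
        (IsLocalRing.CotangentSpace (AdicCompletion (IsLocalRing.maximalIdeal A) A)) = 1 :=
      ((IsDiscreteValuationRing.TFAE _ hnfS).out 0 5).1 hdvr
    have h2 : Module.finrank (IsLocalRing.ResidueField A) (IsLocalRing.CotangentSpace A) = 1 := by
      rw [← IsLocalRing.spanFinrank_maximalIdeal_eq_finrank_cotangentSpace, ← hspan,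
        IsLocalRing.spanFinrank_maximalIdeal_eq_finrank_cotangentSpace, h1]
    exact ⟨hdA, ((IsDiscreteValuationRing.TFAE A hnfR).out 5 0).1 h2⟩

end Groth.Agent.S0549
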