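import Groth.Statements.S0559
import Mathlib
import Groth.Agent.Lib.Helper15.Regular

set_option autoImplicit false
universe u
open CAlg

namespace Groth.Agent.S0559

/-- In a regular local ring of dimension `d`, any `d` elements generating the maximal ideal form a
regular sequence. -/
theorem result (R : Type u) [CommRing R]
    [IsRegularLocalRing R] (d : ℕ) (hd : ringKrullDim R = d) (x : Fin d → R)
    (hx : Ideal.span (Set.range x) = IsLocalRing.maximalIdeal R) :
    RingTheory.Sequence.IsRegular R (List.ofFn x) := by
  have h1 := IsRegularLocalRing.spanFinrank_maximalIdeal (R := R)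
  rw [hd] at h1
  have h2 : (IsLocalRing.maximalIdeal R).spanFinrank = d := by exact_mod_cast h1
  have hw := Groth.Agent.Lib.helper15.isWeaklyRegular_ofFn R d h2 x hx
  refine (IsLocalRing.isRegular_iff_isWeaklyRegular_of_subset_maximalIdeal ?_).mpr hw
  intro r hr
  rw [List.mem_ofFn] at hr
  obtain ⟨i, rfl⟩ := hr
  rw [← hx]
  exact Ideal.subset_span ⟨i, rfl⟩

end Groth.Agent.S0559
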