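import Groth.Statements.S0567
import Groth.Agent.Lib.Helper24.NagFT10

set_option autoImplicit false
universe u
open CAlg

namespace Groth.Agent.S0567

/-- A ring is Nagata exactly when it is Noetherian and universally Japanese. -/
theorem result (R : Type u) [CommRing R] :
    CAlg.IsNagata R ↔ (IsNoetherianRing R ∧ CAlg.IsUniversallyJapanese R) := by
  constructor
  · intro hR
    refine ⟨hR.1, fun S _ _ _ hft => ?_⟩
    haveI := hft
    exact Groth.Agent.Lib.Helper24.NagFT.isN2_of_isNagata
      (Groth.Agent.Lib.Helper24.NagFT.isNagata_of_finiteType hR S)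
  · rintro ⟨hN, hUJ⟩
    refine ⟨hN, fun p _ => ?_⟩
    exact hUJ (R ⧸ p) (Algebra.FiniteType.of_surjective (Ideal.Quotient.mkₐ R p)
      (Ideal.Quotient.mkₐ_surjective R p))

end Groth.Agent.S0567
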