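import Groth.Statements.S0571
import Groth.Agent.Lib.Helper24.N1Crit

set_option autoImplicit false
universe u
open CAlg

namespace Groth.Agent.S0571

open Groth.Agent.Lib.Helper24.NorOpen Groth.Agent.Lib.Helper24.N1Crit

/-- An N-1 domain has a nonzero `f` with `R_f` integrally closed. -/
theorem exists_away_isIntegrallyClosed {A : Type u} [CommRing A] [IsDomain A]
    (h : Module.Finite A (integralClosure A (FractionRing A))) :
    ∃ f : A, f ≠ 0 ∧ IsIntegrallyClosed (Localization.Away f) := by
  classical
  obtain ⟨s, hs⟩ := h.fg_top
  obtain ⟨b, hb⟩ := IsLocalization.exist_integer_multiples_of_finset (nonZeroDivisors A)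
    (s.image (Subtype.val : integralClosure A (FractionRing A) → FractionRing A))
  have hb0 : (b : A) ≠ 0 := nonZeroDivisors.ne_zero b.2
  have key : ∀ x : integralClosure A (FractionRing A),
      IsLocalization.IsInteger A ((b : A) • (x : FractionRing A)) := by
    intro x
    have hx : x ∈ Submodule.span A (s : Set (integralClosure A (FractionRing A))) := by
      rw [hs]; trivial
    induction hx using Submodule.span_induction with
    | mem x hx => exact hb _ (Finset.mem_image_of_mem _ hx)
    | zero =>
      show IsLocalization.IsInteger A ((b : A) • (0 : FractionRing A))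
      rw [smul_zero]; exact ⟨0, map_zero _⟩
    | add x y _ _ hx hy =>
      show IsLocalization.IsInteger A ((b : A) • ((x : FractionRing A) + (y : FractionRing A)))
      rw [smul_add]; exact IsLocalization.isInteger_add hx hy
    | smul a x _ hx =>
      show IsLocalization.IsInteger A ((b : A) • (a • (x : FractionRing A)))
      rw [smul_comm]; exact IsLocalization.isInteger_smul hx
  refine ⟨b, hb0, ?_⟩
  have hle : Submonoid.powers (b : A) ≤ nonZeroDivisors A :=
    Submonoid.powers_le.mpr b.2
  letI : Algebra (Localization.Away (b : A)) (FractionRing A) :=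
    IsLocalization.localizationAlgebraOfSubmonoidLe (Localization.Away (b : A)) (FractionRing A)
      (Submonoid.powers (b : A)) (nonZeroDivisors A) hle
  haveI : IsScalarTower A (Localization.Away (b : A)) (FractionRing A) :=
    IsLocalization.localization_isScalarTower_of_submonoid_le (Localization.Away (b : A))
      (FractionRing A) (Submonoid.powers (b : A)) (nonZeroDivisors A) hle
  rw [isIntegrallyClosed_iff_denominators (Submonoid.powers (b : A)) (Localization.Away (b : A))
    (FractionRing A)]
  intro z hz
  obtain ⟨a, ha⟩ := key ⟨z, hz⟩
  refine ⟨b, Submonoid.mem_powers _, a, ?_⟩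
  rw [ha, Algebra.smul_def]

/-- A Noetherian domain `R` is N-1 exactly when (a) `R_f` is integrally closed for some nonzero `f`, and
(b) the localization of `R` at every maximal ideal is N-1. -/
theorem result (R : Type u) [CommRing R] [IsDomain R]
    [IsNoetherianRing R] :
    CAlg.IsN1 R ↔ ((∃ f : R, f ≠ 0 ∧ IsIntegrallyClosed (Localization.Away f)) ∧
      ∀ (m : Ideal R) [m.IsMaximal], CAlg.IsN1 (Localization.AtPrime m)) := by
  constructor
  · intro h
    refine ⟨exists_away_isIntegrallyClosed h, fun m hm => ?_⟩
    exact isN1_of_isLocalization h m.primeCompl (Localization.AtPrime m)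
  · rintro ⟨⟨f, hf, hn⟩, hloc⟩
    exact isN1_of_local R f hf hn hloc

end Groth.Agent.S0571
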