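import Groth.Statements.S0574
import Mathlib

set_option autoImplicit false
universe u
open CAlg

namespace Groth.Agent.S0574

lemma n2_of_n1 (R : Type u) [CommRing R] [IsDomain R] [IsNoetherianRing R] [CharZero R]
    (K : Type u) [Field K] [Algebra R K] [IsFractionRing R K]
    (h : Module.Finite R (integralClosure R K))
    (L : Type u) [Field L] [Algebra R L] [Algebra K L] [IsScalarTower R K L]
    [FiniteDimensional K L] : Module.Finite R (integralClosure R L) := by
  have : IsIntegrallyClosed (integralClosure R K) :=
    integralClosure.isIntegrallyClosedOfFiniteExtension (R := R) K (L := K)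
  have : IsFractionRing (integralClosure R K) K :=
    integralClosure.isFractionRing_of_finite_extension (A := R) K K
  have : IsNoetherianRing (integralClosure R K) := IsNoetherianRing.of_finite R _
  have : IsScalarTower (integralClosure R K) K L := inferInstance
  have : IsScalarTower R (integralClosure R K) L := IsScalarTower.of_algebraMap_eq (fun x => by
    rw [IsScalarTower.algebraMap_apply R K L]; rfl)
  have : CharZero K := charZero_of_injective_algebraMap (IsFractionRing.injective R K)
  have hfin : Module.Finite (integralClosure R K) (integralClosure (integralClosure R K) L) :=
    IsIntegralClosure.finite (integralClosure R K) K L (integralClosure (integralClosure R K) L)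
  have hfin2 : Module.Finite R (integralClosure (integralClosure R K) L) :=
    Module.Finite.trans (integralClosure R K) _
  have hle : ∀ x : L, x ∈ integralClosure (integralClosure R K) L → x ∈ integralClosure R L :=
    fun x hx => isIntegral_trans (R := R) (A := integralClosure R K) x hx
  let f : integralClosure (integralClosure R K) L →ₗ[R] integralClosure R L :=
    { toFun := fun x => ⟨x.1, hle x.1 x.2⟩
      map_add' := fun _ _ => rfl
      map_smul' := fun _ _ => rfl }
  have hf : Function.Surjective f := fun y =>
    ⟨⟨y.1, IsIntegral.tower_top y.2⟩, Subtype.ext rfl⟩
  exact Module.Finite.of_surjective f hf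


/-- For Noetherian domains of characteristic zero the conditions N-1 and N-2 coincide. -/
theorem result (R : Type u) [CommRing R] [IsDomain R] [IsNoetherianRing R]
    [CharZero R] : CAlg.IsN1 R ↔ CAlg.IsN2 R := by
  constructor
  · intro h1 L _ _ _ _ hfd
    exact n2_of_n1 R (FractionRing R) h1 L
  · intro h2
    exact h2 (FractionRing R) inferInstance

end Groth.Agent.S0574
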