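import Groth.Statements.S0577
import Mathlib
import Groth.Agent.Lib.Helper24.CplFinAlg

set_option autoImplicit false
set_option linter.style.haveILetI false
universe u
open CAlg TensorProduct

namespace Groth.Agent.S0577

/-- Let `A` be a Noetherian local domain of prime characteristic `p` which is a Nagata ring. If `a ∈ A`
has a `p`-th root in the completion of `A`, then it has a `p`-th root in `A`. -/
theorem result (A : Type u) [CommRing A] [IsDomain A]
    [IsLocalRing A] (hA : CAlg.IsNagata A) (p : ℕ) [Fact p.Prime] [CharP A p] (a : A)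
    (h : ∃ α : AdicCompletion (IsLocalRing.maximalIdeal A) A,
      α ^ p = algebraMap A (AdicCompletion (IsLocalRing.maximalIdeal A) A) a) :
    ∃ b : A, b ^ p = a := by
  classical
  haveI : IsNoetherianRing A := hA.1
  let Ah := AdicCompletion (IsLocalRing.maximalIdeal A) A
  obtain ⟨α, hα⟩ : ∃ α : Ah, α ^ p = algebraMap A Ah a := h
  let K := FractionRing A
  let L := AlgebraicClosure K
  -- a p-th root `b` of `a` in an algebraic closure
  have hp : p.Prime := Fact.out
  obtain ⟨b, hb⟩ : ∃ b : L, b ^ p = algebraMap A L a :=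
    IsAlgClosed.exists_pow_nat_eq _ hp.pos
  have hbint : IsIntegral A b := by
    refine ⟨Polynomial.X ^ p - Polynomial.C a, Polynomial.monic_X_pow_sub_C a hp.ne_zero, ?_⟩
    simp [hb]
  let B : Subalgebra A L := Algebra.adjoin A {b}
  haveI : Module.Finite A B := Module.Finite.iff_fg.mpr hbint.fg_adjoin_singleton
  let b' : B := ⟨b, Algebra.subset_adjoin (Set.mem_singleton b)⟩
  have hb' : b' ^ p = algebraMap A B a := by
    apply Subtype.ext
    simpa using hb
  haveI hred : IsReduced (TensorProduct A B Ah) :=
    Groth.Agent.Lib.Helper24.CplFinAlg.isReduced_tensor_of_isReduced A (fun q _ => hA.2 q) B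
  -- the two p-th roots of `a` in the tensor product agree
  have hp0 : ((p : ℕ) : TensorProduct A B Ah) = 0 := by
    have h1 : ((p : ℕ) : A) = 0 := CharP.cast_eq_zero A p
    have h2 := congrArg (algebraMap A (TensorProduct A B Ah)) h1
    rw [map_natCast, map_zero] at h2
    exact h2
  have hxy : (b' ⊗ₜ[A] (1 : Ah) : TensorProduct A B Ah) = (1 : B) ⊗ₜ[A] α := by
    set x : TensorProduct A B Ah := b' ⊗ₜ[A] (1 : Ah) with hx
    set y : TensorProduct A B Ah := (1 : B) ⊗ₜ[A] α with hy
    have hxp : x ^ p = y ^ p := by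
      rw [hx, hy, Algebra.TensorProduct.tmul_pow, Algebra.TensorProduct.tmul_pow, hb', hα, one_pow,
        one_pow]
      rw [Algebra.algebraMap_eq_smul_one, Algebra.algebraMap_eq_smul_one, TensorProduct.smul_tmul]
    obtain ⟨r, hr⟩ := exists_add_pow_prime_eq hp (x - y) y
    rw [sub_add_cancel, hp0, zero_mul, zero_mul, zero_mul, add_zero, hxp] at hr
    have hd : (x - y) ^ p = 0 := by
      have := hr
      linear_combination (exp := 1) -this
    have : x - y = 0 := IsReduced.eq_zero _ ⟨p, hd⟩
    exact sub_eq_zero.mp this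
  -- descend along the faithfully flat map `A → Ah`
  haveI : Module.FaithfullyFlat A Ah := Module.FaithfullyFlat.of_flat_of_isLocalHom
  let ι : A →ₗ[A] B := Algebra.linearMap A B
  let π : B →ₗ[A] (B ⧸ LinearMap.range ι) := (LinearMap.range ι).mkQ
  let φ : TensorProduct A B Ah →ₗ[A] TensorProduct A Ah (B ⧸ LinearMap.range ι) :=
    (LinearMap.lTensor Ah π).comp (TensorProduct.comm A B Ah).toLinearMap
  have h1 : φ (b' ⊗ₜ[A] (1 : Ah)) = (1 : Ah) ⊗ₜ[A] π b' := by simp [φ]
  have h2 : φ ((1 : B) ⊗ₜ[A] α) = 0 := by
    have : π 1 = 0 := by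
      simp only [π, Submodule.mkQ_apply, Submodule.Quotient.mk_eq_zero]
      exact ⟨1, by simp [ι]⟩
    simp [φ, this]
  have h3 : (TensorProduct.mk A Ah (B ⧸ LinearMap.range ι) 1) (π b') = 0 := by
    rw [TensorProduct.mk_apply, ← h1, hxy, h2]
  have h4 : π b' = 0 := by
    have hinj := Module.FaithfullyFlat.tensorProduct_mk_injective (A := A) (B := Ah)
      (B ⧸ LinearMap.range ι)
    exact hinj (by rw [h3, map_zero])
  have h5 : b' ∈ LinearMap.range ι := by
    simpa [π, Submodule.Quotient.mk_eq_zero] using h4
  obtain ⟨c, hc⟩ := h5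
  refine ⟨c, ?_⟩
  have hinjAB : Function.Injective (algebraMap A B) := by
    have : Function.Injective (algebraMap A L) := by
      rw [IsScalarTower.algebraMap_eq A K L]
      exact (algebraMap K L).injective.comp (IsFractionRing.injective A K)
    intro u v huv
    apply this
    have := congrArg (algebraMap B L) huv
    simpa [← IsScalarTower.algebraMap_apply] using this
  apply hinjAB
  rw [map_pow, ← hb']
  congr 1

end Groth.Agent.S0577
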