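import Groth.Statements.S0579
import Mathlib
-- import your own Groth.Agent.* helpers here

set_option autoImplicit false
universe u
open CAlg

namespace Groth.Agent.S0579

lemma formallySmooth_int (k : Type u) [Field k] [CharZero k] : Algebra.FormallySmooth ℤ k := by
  have h1 : Algebra.FormallySmooth ℤ ℚ := Algebra.FormallySmooth.of_isLocalization (nonZeroDivisors ℤ)
  have h2 : Algebra.FormallySmooth ℚ k := by
    obtain ⟨ι, x, hx⟩ := exists_isTranscendenceBasis' ℚ k
    have halg : Algebra.IsAlgebraic (IntermediateField.adjoin ℚ (Set.range x)) k :=
      hx.isAlgebraic_field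
    have : Algebra.IsSeparable (IntermediateField.adjoin ℚ (Set.range x)) k := inferInstance
    exact Algebra.FormallySmooth.of_algebraicIndependent_of_isSeparable hx.1
  exact Algebra.FormallySmooth.comp ℤ ℚ k


/-- A local ring which is complete with respect to its maximal ideal and whose residue field has
characteristic zero admits a coefficient field: there is a ring homomorphism from the residue field
to the ring which is a section of the residue map. -/
theorem result (R : Type u) [CommRing R] [IsLocalRing R]
    [IsAdicComplete (IsLocalRing.maximalIdeal R) R] [CharZero (IsLocalRing.ResidueField R)] :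
    ∃ s : IsLocalRing.ResidueField R →+* R, (IsLocalRing.residue R).comp s = RingHom.id _ := by
  have : Algebra.FormallySmooth ℤ (IsLocalRing.ResidueField R) :=
    formallySmooth_int (IsLocalRing.ResidueField R)
  let f : IsLocalRing.ResidueField R →ₐ[ℤ] R ⧸ IsLocalRing.maximalIdeal R :=
    (RingHom.id (IsLocalRing.ResidueField R)).toIntAlgHom
  obtain ⟨g, hg⟩ := Algebra.FormallySmooth.exists_mkₐ_comp_eq_of_isAdicComplete
    (I := IsLocalRing.maximalIdeal R) f
  refine ⟨g.toRingHom, ?_⟩
  ext x
  have h2 := congr($hg x)
  exact h2

end Groth.Agent.S0579
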