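import Groth.Statements.S0587
import Mathlib
-- import your own Groth.Agent.* helpers here

set_option autoImplicit false
universe u
open CAlg

namespace Groth.Agent.S0587

open TensorProduct in
lemma exists_sum_tmul {R : Type*} [CommRing R] {M : Type*} [AddCommGroup M] [Module R M]
    {n : ℕ} (x : Fin n → M) (hx : Submodule.span R (Set.range x) = ⊤)
    (Q : Type*) [AddCommGroup Q] [Module R Q] (t : M ⊗[R] Q) :
    ∃ q : Fin n → Q, t = ∑ j, x j ⊗ₜ[R] q j := by
  induction t using TensorProduct.induction_on with
  | zero => exact ⟨0, by simp⟩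
  | tmul m q =>
    have hm : m ∈ Submodule.span R (Set.range x) := by rw [hx]; trivial
    obtain ⟨c, rfl⟩ := (Submodule.mem_span_range_iff_exists_fun R).1 hm
    refine ⟨fun j => c j • q, ?_⟩
    rw [TensorProduct.sum_tmul]
    refine Finset.sum_congr rfl fun j _ => ?_
    rw [TensorProduct.smul_tmul]
  | add a b ha hb =>
    obtain ⟨qa, rfl⟩ := ha
    obtain ⟨qb, rfl⟩ := hb
    refine ⟨qa + qb, ?_⟩
    simp [TensorProduct.tmul_add, Finset.sum_add_distrib]

open TensorProduct in
lemma surj_of_finite (R : Type u) [CommRing R] (M : Type u) [AddCommGroup M] [Module R M]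
    [Module.Finite R M] (ι : Type u) (Q : ι → Type u) [∀ i, AddCommGroup (Q i)]
    [∀ i, Module R (Q i)] : Function.Surjective (TensorProduct.piRightHom R R M Q) := by
  obtain ⟨n, x, hx⟩ := Module.Finite.exists_fin (R := R) (M := M)
  intro y
  choose q hq using fun i => exists_sum_tmul x hx (Q i) (y i)
  refine ⟨∑ j, x j ⊗ₜ[R] (fun i => q i j), ?_⟩
  rw [map_sum]
  ext i
  rw [Finset.sum_apply, hq i]
  refine Finset.sum_congr rfl fun j _ => ?_
  rw [TensorProduct.piRightHom_tmul]

open TensorProduct in
lemma finite_of_mem_range (R : Type u) [CommRing R] (M : Type u) [AddCommGroup M] [Module R M]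
    (h : (fun m : M => m ⊗ₜ[R] (1 : R)) ∈
      Set.range (TensorProduct.piRightHom R R M (fun _ : M => R))) :
    Module.Finite R M := by
  classical
  obtain ⟨s, hs⟩ := h
  obtain ⟨S, rfl⟩ := TensorProduct.exists_finset s
  refine ⟨⟨S.image Prod.fst, ?_⟩⟩
  rw [eq_top_iff]
  rintro m -
  have h1 := congrFun hs m
  rw [map_sum, Finset.sum_apply] at h1
  have h2 := congrArg (TensorProduct.rid R M) h1
  rw [map_sum] at h2
  simp only [TensorProduct.piRightHom_tmul, TensorProduct.rid_tmul, one_smul] at h2
  rw [← h2]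
  refine Submodule.sum_mem _ fun p hp => ?_
  refine Submodule.smul_mem _ _ (Submodule.subset_span ?_)
  exact Finset.mem_coe.2 (Finset.mem_image_of_mem _ hp)


/-- A module `M` is finitely generated exactly when for every family of modules `(Qᵢ)` the natural map
from `M ⊗ ∏ Qᵢ` to `∏ (M ⊗ Qᵢ)` is surjective. -/
theorem result (R : Type u) [CommRing R] (M : Type u)
    [AddCommGroup M] [Module R M] :
    Module.Finite R M ↔ ∀ (ι : Type u) (Q : ι → Type u) [∀ i, AddCommGroup (Q i)]
      [∀ i, Module R (Q i)], Function.Surjective (TensorProduct.piRightHom R R M Q) := by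
  constructor
  · intro _ ι Q _ _
    exact surj_of_finite R M ι Q
  · intro h
    exact finite_of_mem_range R M (h M (fun _ => R) _)

end Groth.Agent.S0587
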