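import Groth.Statements.S0588
import Mathlib
import Groth.Agent.S0587
-- import your own Groth.Agent.* helpers here

set_option autoImplicit false
universe u
open CAlg

namespace Groth.Agent.S0588

open TensorProduct

section
variable {R : Type u} [CommRing R]

/-- naturality of `piRightHom` in the first variable -/
lemma piRightHom_rTensor {N N' : Type u} [AddCommGroup N] [Module R N] [AddCommGroup N']
    [Module R N'] (φ : N →ₗ[R] N') {ι : Type u} (Q : ι → Type u) [∀ i, AddCommGroup (Q i)]
    [∀ i, Module R (Q i)] (t : N ⊗[R] (∀ i, Q i)) (i : ι) :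
    TensorProduct.piRightHom R R N' Q (LinearMap.rTensor (∀ i, Q i) φ t) i =
      LinearMap.rTensor (Q i) φ (TensorProduct.piRightHom R R N Q t i) := by
  induction t using TensorProduct.induction_on with
  | zero => simp
  | tmul n q => simp [TensorProduct.piRightHom_tmul]
  | add a b ha hb => simp only [map_add, Pi.add_apply, ha, hb]

/-- `piRightHom` evaluated at `i` is `lTensor` of the projection -/
lemma piRightHom_apply_eq_lTensor {N : Type u} [AddCommGroup N] [Module R N]
    {ι : Type u} (Q : ι → Type u) [∀ i, AddCommGroup (Q i)]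
    [∀ i, Module R (Q i)] (t : N ⊗[R] (∀ i, Q i)) (i : ι) :
    TensorProduct.piRightHom R R N Q t i =
      LinearMap.lTensor N (LinearMap.proj (R := R) (φ := Q) i) t := by
  induction t using TensorProduct.induction_on with
  | zero => simp
  | tmul n q => simp [TensorProduct.piRightHom_tmul]
  | add a b ha hb => simp only [map_add, Pi.add_apply, ha, hb]

lemma equivFinsupp_lTensor {κ : Type*} [DecidableEq κ] {N : Type u} [AddCommGroup N] [Module R N]
    (𝒷 : Module.Basis κ R N) {X Y : Type u} [AddCommGroup X] [Module R X] [AddCommGroup Y]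
    [Module R Y] (φ : X →ₗ[R] Y) (t : N ⊗[R] X) (j : κ) :
    TensorProduct.equivFinsuppOfBasisLeft 𝒷 (LinearMap.lTensor N φ t) j =
      φ (TensorProduct.equivFinsuppOfBasisLeft 𝒷 t j) := by
  induction t using TensorProduct.induction_on with
  | zero => simp
  | tmul n x => simp
  | add a b ha hb => simp only [map_add, Finsupp.add_apply, ha, hb]

lemma inj_of_basis {κ : Type*} [DecidableEq κ] {N : Type u} [AddCommGroup N] [Module R N]
    (𝒷 : Module.Basis κ R N) {ι : Type u} (Q : ι → Type u) [∀ i, AddCommGroup (Q i)]
    [∀ i, Module R (Q i)] : Function.Injective (TensorProduct.piRightHom R R N Q) := by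
  rw [injective_iff_map_eq_zero]
  intro z hz
  apply (TensorProduct.equivFinsuppOfBasisLeft 𝒷).injective
  rw [map_zero]
  ext j i
  have h1 := congrFun hz i
  rw [piRightHom_apply_eq_lTensor] at h1
  have h2 := equivFinsupp_lTensor 𝒷 (LinearMap.proj (R := R) (φ := Q) i) z j
  rw [h1] at h2
  simpa using h2.symm

end


/-- A module `M` is finitely presented exactly when for every family of modules `(Qᵢ)` the natural map
from `M ⊗ ∏ Qᵢ` to `∏ (M ⊗ Qᵢ)` is bijective. -/
theorem result (R : Type u) [CommRing R] (M : Type u)
    [AddCommGroup M] [Module R M] :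
    Module.FinitePresentation R M ↔ ∀ (ι : Type u) (Q : ι → Type u) [∀ i, AddCommGroup (Q i)]
      [∀ i, Module R (Q i)], Function.Bijective (TensorProduct.piRightHom R R M Q) := by
  constructor
  · intro hfp ι Q _ _
    refine ⟨?_, Groth.Agent.S0587.surj_of_finite R M ι Q⟩
    obtain ⟨n, π, hπ⟩ := Module.Finite.exists_fin' R M
    have hKfg : (LinearMap.ker π).FG := Module.FinitePresentation.fg_ker π hπ
    have : Module.Finite R (LinearMap.ker π) := Module.Finite.iff_fg.2 hKfg
    rw [injective_iff_map_eq_zero]
    intro z hz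
    obtain ⟨z', rfl⟩ := LinearMap.rTensor_surjective (∀ i, Q i) hπ z
    have hex : ∀ i, Function.Exact (LinearMap.rTensor (Q i) (LinearMap.ker π).subtype)
        (LinearMap.rTensor (Q i) π) :=
      fun i => rTensor_exact (Q i) (LinearMap.exact_subtype_ker_map π) hπ
    have h1 : ∀ i, ∃ y : (LinearMap.ker π) ⊗[R] Q i,
        LinearMap.rTensor (Q i) (LinearMap.ker π).subtype y =
          TensorProduct.piRightHom R R (Fin n → R) Q z' i := by
      intro i
      apply (hex i _).1
      rw [← piRightHom_rTensor, hz]
      rfl
    choose y hy using h1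
    obtain ⟨w, hw⟩ := Groth.Agent.S0587.surj_of_finite R (LinearMap.ker π) ι Q y
    have h2 : LinearMap.rTensor (∀ i, Q i) (LinearMap.ker π).subtype w = z' := by
      apply inj_of_basis (Pi.basisFun R (Fin n)) Q
      ext i
      rw [piRightHom_rTensor, hw, hy]
    rw [← h2, ← LinearMap.rTensor_comp_apply]
    have : π ∘ₗ (LinearMap.ker π).subtype = 0 := by
      ext x
      exact x.2
    rw [this]
    simp
  · intro h
    have : Module.Finite R M :=
      Groth.Agent.S0587.finite_of_mem_range R M ((h M (fun _ => R)).2 _)
    obtain ⟨n, π, hπ⟩ := Module.Finite.exists_fin' R M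
    have hKfin : Module.Finite R (LinearMap.ker π) := by
      apply Groth.Agent.S0587.finite_of_mem_range R (LinearMap.ker π)
      let y' : ∀ _ : LinearMap.ker π, (Fin n → R) ⊗[R] R := fun k => (k : Fin n → R) ⊗ₜ 1
      obtain ⟨z, hz⟩ := Groth.Agent.S0587.surj_of_finite R (Fin n → R) (LinearMap.ker π)
        (fun _ => R) y'
      have hz0 : LinearMap.rTensor ((LinearMap.ker π) → R) π z = 0 := by
        apply (h (LinearMap.ker π) (fun _ => R)).1
        rw [map_zero]
        ext k
        rw [piRightHom_rTensor, hz]
        simp only [y', LinearMap.rTensor_tmul, Pi.zero_apply]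
        rw [(LinearMap.mem_ker).1 k.2, TensorProduct.zero_tmul]
      have hex := rTensor_exact ((LinearMap.ker π) → R) (LinearMap.exact_subtype_ker_map π) hπ
      obtain ⟨w, hw⟩ := (hex z).1 hz0
      refine ⟨w, ?_⟩
      funext k
      apply Module.Flat.rTensor_preserves_injective_linearMap (M := R) (LinearMap.ker π).subtype
        (LinearMap.ker π).injective_subtype
      have e1 := piRightHom_rTensor (LinearMap.ker π).subtype (fun _ : LinearMap.ker π => R) w k
      rw [hw, hz] at e1
      exact e1.symm.trans (by simp [y'])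
    exact Module.finitePresentation_of_free_of_surjective π hπ (Module.Finite.iff_fg.1 hKfin)

end Groth.Agent.S0588
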