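import Groth.Statements.S0592
-- import your own Groth.Agent.* helpers here
import Groth.Agent.Lib.Helper9.SeparatedStructure

set_option autoImplicit false
universe u
open CategoryTheory AlgebraicGeometry
open Lim

namespace Groth.Agent.S0592

/-- Let `S` be the limit of a cofiltered system of quasi-compact quasi-separated schemes with affine
transition morphisms. If `S` is separated, then there is an index `i₀` such that every stage mapping
to `i₀` is separated. -/
theorem result {I : Type u} [SmallCategory I] [IsCofiltered I]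
    (D : I ⥤ Scheme.{u}) (c : Limits.Cone D) (hc : Limits.IsLimit c)
    [∀ (i j : I) (f : i ⟶ j), IsAffineHom (D.map f)] [∀ i, CompactSpace (D.obj i)]
    [∀ i, QuasiSeparatedSpace (D.obj i)]
    [IsSeparated (Limits.IsTerminal.from specULiftZIsTerminal c.pt)] :
    ∃ i₀ : I, ∀ (i : I) (_ : i ⟶ i₀),
      IsSeparated (Limits.IsTerminal.from specULiftZIsTerminal (D.obj i)) := by
  let τ : ∀ i : I, D.obj i ⟶ Spec (CommRingCat.of (ULift.{u} ℤ)) := fun i =>
    Limits.IsTerminal.from specULiftZIsTerminal (D.obj i)
  have hτ : ∀ {i j : I} (a : i ⟶ j), D.map a ≫ τ j = τ i := fun a =>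
    specULiftZIsTerminal.hom_ext _ _
  obtain ⟨i₀⟩ := IsCofiltered.nonempty (C := I)
  have e : c.π.app i₀ ≫ τ i₀ = Limits.IsTerminal.from specULiftZIsTerminal c.pt :=
    specULiftZIsTerminal.hom_ext _ _
  have : IsSeparated (c.π.app i₀ ≫ τ i₀) := by
    rw [e]
    infer_instance
  exact Groth.Agent.Lib.helper9.exists_forall_isSeparated_structure _ D c hc τ hτ i₀

end Groth.Agent.S0592
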