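import Groth.Statements.S0600
import Groth.Agent.Lib.Helper24.AdicFibres
import Groth.Agent.Lib.Helper24.FormalFibreDescent
import Groth.Agent.Lib.Helper24.HensFibre
import Groth.Agent.Lib.Helper24.HomComp
import Groth.Agent.S0542
import Mathlib

set_option autoImplicit false
universe u
open CAlg

namespace Groth.Agent.S0600

/-- If `A` is a G-ring and `I` any ideal, then the map from `A` to its `I`-adic completion is regular. -/
theorem result (A : Type u) [CommRing A] (hA : CAlg.IsGRing A)
    (I : Ideal A) : CAlg.IsRegularHom A (AdicCompletion I A) := by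
  haveI hN : IsNoetherianRing A := hA.1
  haveI hNÂ : IsNoetherianRing (AdicCompletion I A) :=
    Groth.Agent.S0542.result A I (IsNoetherian.noetherian I)
  refine ⟨inferInstance, fun p _ => ?_⟩
  haveI hF : IsNoetherianRing (p.Fiber (AdicCompletion I A)) :=
    Groth.Agent.Lib.Helper24.HensFibre.isNoetherianRing_fibre A _ p
  refine ⟨hF, fun K _ _ hfin => ?_⟩
  haveI := hfin
  haveI : IsNoetherianRing (TensorProduct p.ResidueField K (p.Fiber (AdicCompletion I A))) :=
    Groth.Agent.Lib.Helper24.HomComp.isNoetherianRing_tensor_of_finite _ _ _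
  refine { isRegularLocalRing_localization := ?_ }
  refine Groth.Agent.Lib.Helper24.AdicFibres.main
    (fun R _ => IsRegularLocalRing R) ?_ ?_ A I ?_ p K hfin
  · intro R R' _ _ e h
    haveI := h
    exact IsRegularLocalRing.of_ringEquiv e
  · intro R R' _ _ _ _ _ h
    haveI : IsRegularRing R' := { isRegularLocalRing_localization := h }
    haveI : IsRegularRing R :=
      Groth.Agent.Lib.Helper24.FormalFibreDescent.isRegularRing_of_faithfullyFlat R R'
    intro q hq
    infer_instance
  · intro m _ p' _ K' _ _ hfin' q hq
    haveI := ((hA.2 m).2 p').2 K' hfin'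
    infer_instance

end Groth.Agent.S0600
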