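import Groth.Statements.S0615
import Mathlib
-- import your own Groth.Agent.* helpers here

set_option autoImplicit false
universe u
open RRAlg

namespace Groth.Agent.S0615

section helpers
open MvPolynomial
section
variable {A : Type u} [CommRing A] {n : ℕ} (a : Fin (n + 1) → A)

/-- the ideal `(a_0, …, a_{k-1})` of `A` -/
def K (k : ℕ) : Ideal A := Ideal.span (a '' {j | j.val < k})

theorem ofList_take (k : ℕ) : Ideal.ofList ((List.ofFn a).take k) = K a k := by
  unfold K Ideal.ofList
  congr 1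
  ext r
  simp only [Set.mem_ofPred_eq, Set.mem_image, List.mem_take_iff_getElem, List.length_ofFn,
    List.getElem_ofFn]
  constructor
  · rintro ⟨j, hj, rfl⟩
    exact ⟨⟨j, (lt_min_iff.1 hj).2⟩, (lt_min_iff.1 hj).1, rfl⟩
  · rintro ⟨j, hj, rfl⟩
    exact ⟨j.val, lt_min_iff.2 ⟨hj, j.2⟩, rfl⟩

theorem hreg_of (ha : RingTheory.Sequence.IsWeaklyRegular A (List.ofFn a)) (i : Fin (n + 1)) (x : A)
    (hx : a i * x ∈ K a i.val) : x ∈ K a i.val := by
  have h := ha.regular_mod_prev i.val (by simp [i.2])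
  rw [ofList_take, List.getElem_ofFn] at h
  have h2 : (K a i.val • ⊤ : Submodule A A) = K a i.val := by
    rw [smul_eq_mul, Ideal.mul_top]
  rw [h2] at h
  have h3 : a i • (Submodule.Quotient.mk x : A ⧸ K a i.val) = a i • (0 : A ⧸ K a i.val) := by
    rw [smul_zero, ← Submodule.Quotient.mk_smul, Submodule.Quotient.mk_eq_zero]
    exact hx
  have := h h3
  rwa [Submodule.Quotient.mk_eq_zero] at this

/-- the generators -/
noncomputable def g (i : Fin n) : MvPolynomial (Fin n) A := C (a 0) * X i - C (a i.succ)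

/-- partial ideals -/
noncomputable def J (k : ℕ) : Ideal (MvPolynomial (Fin n) A) := Ideal.span (g a '' {i | i.val < k})

theorem J_mono {k l : ℕ} (h : k ≤ l) : J a k ≤ J a l :=
  Ideal.span_mono (Set.image_mono (fun i (hi : i.val < k) => lt_of_lt_of_le hi h))

theorem g_mem_J (i : Fin n) {k : ℕ} (h : i.val < k) : g a i ∈ J a k :=
  Ideal.subset_span ⟨i, h, rfl⟩

theorem J_succ (k : ℕ) (hk : k < n) : J a (k + 1) = J a k ⊔ Ideal.span {g a ⟨k, hk⟩} := by
  apply le_antisymm
  · rw [J, Ideal.span_le]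
    rintro _ ⟨i, hi, rfl⟩
    rcases Nat.lt_succ_iff_lt_or_eq.1 hi with h | h
    · exact Ideal.mem_sup_left (g_mem_J a i h)
    · have : i = ⟨k, hk⟩ := Fin.ext h
      rw [this]
      exact Ideal.mem_sup_right (Ideal.subset_span rfl)
  · refine sup_le (J_mono a (Nat.le_succ k)) ?_
    rw [Ideal.span_le, Set.singleton_subset_iff]
    exact g_mem_J a _ (Nat.lt_succ_self k)

theorem C_mem_map_K {k : ℕ} (j : Fin (n + 1)) (hj : j.val < k) :
    (C (a j) : MvPolynomial (Fin n) A) ∈ Ideal.map C (K a k) :=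
  Ideal.mem_map_of_mem _ (Ideal.subset_span ⟨j, hj, rfl⟩)

theorem sup_eq_map (k : ℕ) :
    Ideal.span {(C (a 0) : MvPolynomial (Fin n) A)} ⊔ J a k = Ideal.map C (K a (k + 1)) := by
  apply le_antisymm
  · refine sup_le ?_ ?_
    · rw [Ideal.span_le, Set.singleton_subset_iff]
      exact C_mem_map_K a 0 (Nat.succ_pos k)
    · rw [J, Ideal.span_le]
      rintro _ ⟨i, hi, rfl⟩
      unfold g
      refine Ideal.sub_mem _ (Ideal.mul_mem_right _ _ (C_mem_map_K a 0 (Nat.succ_pos k))) ?_
      exact C_mem_map_K a i.succ (by simpa using hi)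
  · rw [K, Ideal.map_span, Ideal.span_le]
    rintro _ ⟨_, ⟨j, hj, rfl⟩, rfl⟩
    refine Fin.cases ?_ (fun i hi => ?_) j hj
    · intro _
      exact Ideal.mem_sup_left (Ideal.subset_span rfl)
    · have hi' : i.val < k := by simpa using hi
      have : (C (a i.succ) : MvPolynomial (Fin n) A) = C (a 0) * X i - g a i := by
        unfold g; ring
      rw [this]
      exact Ideal.sub_mem _
        (Ideal.mem_sup_left (Ideal.mul_mem_right _ _ (Ideal.subset_span rfl)))
        (Ideal.mem_sup_right (g_mem_J a i hi'))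

theorem coeff_reg (ha : RingTheory.Sequence.IsWeaklyRegular A (List.ofFn a)) (i : Fin (n + 1))
    (b : MvPolynomial (Fin n) A) (hb : C (a i) * b ∈ Ideal.map C (K a i.val)) :
    b ∈ Ideal.map C (K a i.val) := by
  rw [MvPolynomial.mem_map_C_iff] at hb ⊢
  intro m
  have := hb m
  rw [MvPolynomial.coeff_C_mul] at this
  exact hreg_of a ha i _ this

theorem K_zero : K a 0 = ⊥ := by
  unfold K
  have : {j : Fin (n + 1) | j.val < 0} = ∅ := by
    ext j; simp
  rw [this, Set.image_empty, Ideal.span_empty]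

theorem J_zero : J a 0 = ⊥ := by
  unfold J
  have : {j : Fin n | j.val < 0} = ∅ := by
    ext j; simp
  rw [this, Set.image_empty, Ideal.span_empty]

theorem lemmaB (ha : RingTheory.Sequence.IsWeaklyRegular A (List.ofFn a)) :
    ∀ k, k ≤ n → ∀ c : MvPolynomial (Fin n) A, C (a 0) * c ∈ J a k → c ∈ J a k := by
  intro k
  induction k with
  | zero =>
    intro _ c hc
    rw [J_zero] at hc ⊢
    have h1 : C (a (0 : Fin (n + 1))) * c ∈ Ideal.map C (K a (0 : Fin (n + 1)).val) := by
      rw [Fin.val_zero, K_zero, Ideal.map_bot]; exact hc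
    have := coeff_reg a ha 0 c h1
    rwa [Fin.val_zero, K_zero, Ideal.map_bot] at this
  | succ k ih =>
    intro hk c hc
    have hk' : k < n := hk
    rw [J_succ a k hk'] at hc ⊢
    obtain ⟨j, hj, y, hy, hjy⟩ := Submodule.mem_sup.1 hc
    obtain ⟨b, rfl⟩ := Ideal.mem_span_singleton'.1 hy
    set i : Fin n := ⟨k, hk'⟩ with hi
    -- C a_{k+1} * b ∈ map C (K (k+1))
    have h1 : C (a i.succ) * b ∈ Ideal.map C (K a (i.succ).val) := by
      have hval : (i.succ).val = k + 1 := by simp [hi]
      rw [hval, ← sup_eq_map]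
      have : C (a i.succ) * b = C (a 0) * (X i * b - c) + j := by
        have hg : g a i = C (a 0) * X i - C (a i.succ) := rfl
        rw [hg] at hjy
        linear_combination (-1 : MvPolynomial (Fin n) A) * hjy
      rw [this]
      exact Ideal.add_mem _ (Ideal.mem_sup_left (Ideal.mul_mem_right _ _ (Ideal.subset_span rfl)))
        (Ideal.mem_sup_right hj)
    have h2 := coeff_reg a ha i.succ b h1
    have hval : (i.succ).val = k + 1 := by simp [hi]
    rw [hval, ← sup_eq_map] at h2
    obtain ⟨z, hz, j', hj', hzj⟩ := Submodule.mem_sup.1 h2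
    obtain ⟨e, rfl⟩ := Ideal.mem_span_singleton'.1 hz
    have h3 : C (a 0) * (c - e * g a i) ∈ J a k := by
      have : C (a 0) * (c - e * g a i) = j + j' * g a i := by
        linear_combination hjy.symm - (g a i) * hzj
      rw [this]
      exact Ideal.add_mem _ hj (Ideal.mul_mem_right _ _ hj')
    have h4 := ih (Nat.le_of_succ_le hk) _ h3
    have : c = (c - e * g a i) + e * g a i := by ring
    rw [this]
    exact Ideal.add_mem _ (Ideal.mem_sup_left h4)
      (Ideal.mem_sup_right (Ideal.mul_mem_left _ _ (Ideal.subset_span rfl)))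

theorem J_full : J a n = Ideal.span (Set.range (g a)) := by
  unfold J
  congr 1
  ext x
  constructor
  · rintro ⟨i, _, rfl⟩; exact ⟨i, rfl⟩
  · rintro ⟨i, rfl⟩; exact ⟨i, i.2, rfl⟩

theorem pow_cancel (ha : RingTheory.Sequence.IsWeaklyRegular A (List.ofFn a)) (d : ℕ)
    (c : MvPolynomial (Fin n) A) (hc : C (a 0) ^ d * c ∈ J a n) : c ∈ J a n := by
  induction d with
  | zero => simpa using hc
  | succ d ih =>
    apply ih
    apply lemmaB a ha n le_rfl
    rw [← mul_assoc, ← pow_succ']
    exact hc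

theorem stepD (p : MvPolynomial (Fin n) A) :
    ∃ (d : ℕ) (c : A), C (a 0) ^ d * p - C c ∈ J a n := by
  induction p using MvPolynomial.induction_on with
  | C r => exact ⟨0, r, by simp⟩
  | add p q hp hq =>
    obtain ⟨d1, c1, h1⟩ := hp
    obtain ⟨d2, c2, h2⟩ := hq
    refine ⟨d1 + d2, a 0 ^ d2 * c1 + a 0 ^ d1 * c2, ?_⟩
    have : C (a 0) ^ (d1 + d2) * (p + q) - C (a 0 ^ d2 * c1 + a 0 ^ d1 * c2) =
        C (a 0) ^ d2 * (C (a 0) ^ d1 * p - C c1) + C (a 0) ^ d1 * (C (a 0) ^ d2 * q - C c2) := by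
      simp only [map_add, map_mul, map_pow]
      ring
    rw [this]
    exact Ideal.add_mem _ (Ideal.mul_mem_left _ _ h1) (Ideal.mul_mem_left _ _ h2)
  | mul_X p i hp =>
    obtain ⟨d, c, h⟩ := hp
    refine ⟨d + 1, c * a i.succ, ?_⟩
    have : C (a 0) ^ (d + 1) * (p * X i) - C (c * a i.succ) =
        (C (a 0) ^ d * p - C c) * (C (a 0) * X i) + C c * g a i := by
      simp only [map_mul, g]
      ring
    rw [this]
    exact Ideal.add_mem _ (Ideal.mul_mem_right _ _ h) (Ideal.mul_mem_left _ _ (g_mem_J a i i.2))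

end

theorem pow_mul_eq_zero {A : Type u} [CommRing A] {n : ℕ}
    (a : Fin (n + 1) → A) (ha : RingTheory.Sequence.IsWeaklyRegular A (List.ofFn a))
    (k : ℕ) (c : A) (hk : a 0 ^ k * c = 0) : c = 0 := by
  induction k with
  | zero => simpa using hk
  | succ k ih =>
    apply ih
    have h0 : a 0 * (a 0 ^ k * c) ∈ K a (0 : Fin (n + 1)).val := by
      rw [Fin.val_zero, K_zero, ← mul_assoc, ← pow_succ', hk]
      exact Ideal.zero_mem _
    have := hreg_of a ha 0 _ h0
    rwa [Fin.val_zero, K_zero, Ideal.mem_bot] at this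

theorem main {A : Type u} [CommRing A] {n : ℕ}
    (a : Fin (n + 1) → A) (ha : RingTheory.Sequence.IsWeaklyRegular A (List.ofFn a)) :
    RingHom.ker (MvPolynomial.aeval (R := A) (S₁ := Localization.Away (a 0))
      (fun i : Fin n => IsLocalization.mk' (Localization.Away (a 0)) (a i.succ)
        (⟨a 0, Submonoid.mem_powers (a 0)⟩ : Submonoid.powers (a 0)))) =
      Ideal.span (Set.range fun i : Fin n =>
        MvPolynomial.C (a 0) * MvPolynomial.X i - MvPolynomial.C (a i.succ)) := by
  set φ := (MvPolynomial.aeval (R := A) (S₁ := Localization.Away (a 0))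
      (fun i : Fin n => IsLocalization.mk' (Localization.Away (a 0)) (a i.succ)
        (⟨a 0, Submonoid.mem_powers (a 0)⟩ : Submonoid.powers (a 0)))) with hφ
  have hJ : Ideal.span (Set.range fun i : Fin n =>
        MvPolynomial.C (a 0) * MvPolynomial.X i - MvPolynomial.C (a i.succ)) = J a n :=
    (J_full a).symm
  rw [hJ]
  have hle : J a n ≤ RingHom.ker φ := by
    rw [J_full, Ideal.span_le]
    rintro _ ⟨i, rfl⟩
    rw [SetLike.mem_coe, RingHom.mem_ker]
    simp only [g, hφ, map_sub, map_mul, MvPolynomial.aeval_C, MvPolynomial.aeval_X]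
    rw [sub_eq_zero]
    exact IsLocalization.mk'_spec' (Localization.Away (a 0)) (a i.succ)
      (⟨a 0, Submonoid.mem_powers (a 0)⟩ : Submonoid.powers (a 0))
  refine le_antisymm ?_ hle
  intro p hp
  rw [RingHom.mem_ker] at hp
  obtain ⟨d, c, hdc⟩ := stepD a p
  have h1 := hle hdc
  rw [RingHom.mem_ker, map_sub, map_mul, hp, mul_zero, zero_sub, neg_eq_zero, hφ,
    MvPolynomial.aeval_C] at h1
  obtain ⟨⟨_, k, rfl⟩, hk⟩ := (IsLocalization.map_eq_zero_iff (Submonoid.powers (a 0)) _ c).1 h1
  have hc : c = 0 := pow_mul_eq_zero a ha k c hk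
  rw [hc, map_zero, sub_zero] at hdc
  exact pow_cancel a ha d p hdc
end helpers

/-- Let A be a commutative ring and a_0, a_1, …, a_n a weakly regular sequence in A (for each i, a_i is
a non-zero-divisor on A/(a_0, …, a_{i−1}); the sequence is indexed here by Fin (n+1)). Then the
kernel of the A-algebra homomorphism A[T_1, …, T_n] → A[1/a_0] sending T_i to a_i/a_0 is the ideal
generated by the elements a_0 T_i − a_i for 1 ≤ i ≤ n (a presentation of the affine blow-up algebra
A[a_1/a_0, …, a_n/a_0]). -/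
theorem result {A : Type u} [CommRing A] {n : ℕ}
    (a : Fin (n + 1) → A) (ha : RingTheory.Sequence.IsWeaklyRegular A (List.ofFn a)) :
    RingHom.ker (MvPolynomial.aeval (R := A) (S₁ := Localization.Away (a 0))
      (fun i : Fin n => IsLocalization.mk' (Localization.Away (a 0)) (a i.succ)
        (⟨a 0, Submonoid.mem_powers (a 0)⟩ : Submonoid.powers (a 0)))) =
      Ideal.span (Set.range fun i : Fin n =>
        MvPolynomial.C (a 0) * MvPolynomial.X i - MvPolynomial.C (a i.succ)) := by
  exact main a ha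

end Groth.Agent.S0615
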