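import Groth.Statements.S6186
import Groth.Agent.Lib.Helper1.StrictLocRing
import Groth.Agent.S12237
import Groth.Agent.Lib.Helper24.IndEtaleTrans
import Groth.Agent.Lib.Helper24.IndEtaleCancel

set_option autoImplicit false
open CategoryTheory CategoryTheory.Limits AlgebraicGeometry Opposite
universe u
open EtCore

namespace Groth.Agent.S6186

theorem main {X S : Scheme.{u}} (f : X ⟶ S)
    [QuasiCompact f] [QuasiSeparated f] (s : S) (R : Type u) [CommRing R] [IsLocalRing R]
    [Algebra (S.presheaf.stalk s) R] [IsLocalHom (algebraMap (S.presheaf.stalk s) R)]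
    [Hensel.IsStrictHenselization (S.presheaf.stalk s) R] [IsSepClosed (IsLocalRing.ResidueField R)] (n : ℕ) :
    Nonempty (EtCoh.Rpush f n ⋙ EtCoh.stalk (Hens2.geomPt S s R) ≅
      EtCoh.pull (pullback.fst f (Hens2.specOf S s R)) ⋙ EtCoh.HF (pullback f (Hens2.specOf S s R)) n) := by
  obtain ⟨_, ⟨W, hW, rfl⟩, hsW, -⟩ :=
    S.isBasis_affineOpens.exists_subset_of_mem_open (Set.mem_univ s) isOpen_univ
  haveI : HenselianLocalRing R :=
    Hensel.IsStrictHenselization.henselian (R := S.presheaf.stalk s) (S := R)
  letI algBA : Algebra Γ(S, W) (S.presheaf.stalk s) := (S.presheaf.germ W s hsW).hom.toAlgebra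
  haveI hloc : IsLocalization.AtPrime (S.presheaf.stalk s) (hW.primeIdealOf ⟨s, hsW⟩).asIdeal :=
    hW.isLocalization_stalk ⟨s, hsW⟩
  letI algBR : Algebra Γ(S, W) R :=
    ((algebraMap (S.presheaf.stalk s) R).comp (algebraMap Γ(S, W) (S.presheaf.stalk s))).toAlgebra
  haveI : IsScalarTower Γ(S, W) (S.presheaf.stalk s) R := .of_algebraMap_eq' rfl
  have h1 : EtPBC.IsIndEtale Γ(S, W) (S.presheaf.stalk s) :=
    Groth.Agent.Lib.Helper24.IndEtaleCancel.isIndEtale_of_isLocalization
      (hW.primeIdealOf ⟨s, hsW⟩).asIdeal.primeCompl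
  have h2 : EtPBC.IsIndEtale (S.presheaf.stalk s) R := Groth.Agent.S12237.result _ R
  have h : EtPBC.IsIndEtale Γ(S, W) R :=
    Groth.Agent.Lib.Helper24.IndEtaleTrans.isIndEtale_trans _ _ _ h1 h2
  have key := Groth.Agent.H1.StrictLocRing.strictLoc_main f R hW.fromSpec h n
  have hgeq : Spec.map (CommRingCat.ofHom (algebraMap Γ(S, W) R)) ≫ hW.fromSpec =
      Hens2.specOf S s R := by
    have e1 : CommRingCat.ofHom (algebraMap Γ(S, W) R) =
        S.presheaf.germ W s hsW ≫ CommRingCat.ofHom (algebraMap (S.presheaf.stalk s) R) := rfl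
    rw [e1, Spec.map_comp, Category.assoc]
    have e2 : Spec.map (S.presheaf.germ W s hsW) ≫ hW.fromSpec = S.fromSpecStalk s :=
      hW.fromSpecStalk_eq_fromSpecStalk hsW
    rw [e2]
    rfl
  rw [hgeq] at key
  exact key

/-- With its functoriality in F: let f : X -> S be quasi-compact and quasi-separated, s a point of S, R
a strict henselisation of O_{S,s}, S̄ = Spec R -> S the strict localisation with geometric point s̄
: Spec κ(R) -> S, X̄ = X x_S S̄ and g : X̄ -> X the projection. For every n the functors F ↦ (R^n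
f_* F)_s̄ and F ↦ H^n(X̄, g^* F), from abelian etale sheaves on X to abelian groups, are isomorphic.
(The published statement asserts that a canonical map, built from the colimit description of the
stalk and passage to the limit in cohomology, is an isomorphism; this row asserts only that an
isomorphism of functors exists.) -/
theorem result {X S : Scheme.{u}} (f : X ⟶ S)
    [QuasiCompact f] [QuasiSeparated f] (s : S) (R : Type u) [CommRing R] [IsLocalRing R]
    [Algebra (S.presheaf.stalk s) R] [IsLocalHom (algebraMap (S.presheaf.stalk s) R)]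
    [Hensel.IsStrictHenselization (S.presheaf.stalk s) R] [IsSepClosed (IsLocalRing.ResidueField R)] (n : ℕ) :
    Nonempty (EtCoh.Rpush f n ⋙ EtCoh.stalk (Hens2.geomPt S s R) ≅
      EtCoh.pull (pullback.fst f (Hens2.specOf S s R)) ⋙ EtCoh.HF (pullback f (Hens2.specOf S s R)) n) := by
  exact main f s R n

end Groth.Agent.S6186
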