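import Groth.Statements.S0625
-- import your own Groth.Agent.* helpers here
import Groth.Agent.Lib.Helper9.EtaleClosedSplit
import Groth.Agent.Lib.Helper9.EtaleNormalSection

set_option autoImplicit false
open CategoryTheory CategoryTheory.Limits AlgebraicGeometry Opposite
universe u
open EtCore

namespace Groth.Agent.S0625
open Groth.Agent.Lib.helper9

/-- Let X be an affine integral normal scheme whose function field is separably closed and Z -> X a
closed immersion. Every surjective finite etale morphism V -> Z has a section. -/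
theorem result {V Z X : Scheme.{u}} [IsAffine X] [IsIntegral X]
    (hN : ∀ x : X, IsIntegrallyClosed (X.presheaf.stalk x)) [IsSepClosed X.functionField]
    (i : Z ⟶ X) [IsClosedImmersion i] (φ : V ⟶ Z) [AlgebraicGeometry.Etale φ] [IsFinite φ] [Surjective φ] :
    ∃ s : Z ⟶ V, s ≫ φ = 𝟙 Z := by
  haveI : IsAffine Z := isAffine_of_isAffineHom i
  haveI : IsAffine V := isAffine_of_isAffineHom φ
  obtain ⟨ι, hfin, W, e, he⟩ := EtaleNormal.exists_split_of_closedImmersion hN i φ
  -- the components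
  have hf : ∀ k, (Sigma.ι (fun k => (W k : Scheme.{u})) k ≫ e.hom) ≫ φ = (W k).ι := fun k => by
    rw [Category.assoc]; exact he k
  -- each `W k` is closed
  have hWcl : ∀ k, IsClosed ((W k : Z.Opens) : Set Z) := by
    intro k
    have h1 : IsClosed (Set.range (Sigma.ι (fun k => (W k : Scheme.{u})) k)) := by
      have : Set.range (Sigma.ι (fun k => (W k : Scheme.{u})) k) =
          (sigmaMk (fun k => (W k : Scheme.{u}))) '' Set.range (Sigma.mk k) := by
        ext x
        constructor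
        · rintro ⟨w, rfl⟩
          exact ⟨⟨k, w⟩, ⟨w, rfl⟩, sigmaMk_mk (fun k => (W k : Scheme.{u})) k w⟩
        · rintro ⟨_, ⟨w, rfl⟩, rfl⟩
          exact ⟨w, (sigmaMk_mk (fun k => (W k : Scheme.{u})) k w).symm⟩
      rw [this]
      exact (sigmaMk (fun k => (W k : Scheme.{u}))).isClosedMap _
        isClosed_range_sigmaMk
    have h2 : IsClosed (Set.range (Sigma.ι (fun k => (W k : Scheme.{u})) k ≫ e.hom ≫ φ)) := by
      have : Set.range (Sigma.ι (fun k => (W k : Scheme.{u})) k ≫ e.hom ≫ φ) =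
          φ '' (e.hom '' Set.range (Sigma.ι (fun k => (W k : Scheme.{u})) k)) := by
        ext x
        constructor
        · rintro ⟨w, rfl⟩
          exact ⟨_, ⟨_, ⟨w, rfl⟩, rfl⟩, rfl⟩
        · rintro ⟨_, ⟨_, ⟨w, rfl⟩, rfl⟩, rfl⟩
          exact ⟨w, rfl⟩
      rw [this]
      exact φ.isClosedMap _ (e.hom.homeomorph.isClosedMap _ h1)
    rw [he k, Scheme.Opens.range_ι] at h2
    exact h2
  -- every point lies in some `W k`
  have hWcov : ∀ z : Z, ∃ k, z ∈ W k := by
    intro z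
    obtain ⟨v, rfl⟩ := Surjective.surj (f := φ) z
    obtain ⟨y, rfl⟩ := e.hom.homeomorph.surjective v
    obtain ⟨⟨k, w⟩, rfl⟩ := (sigmaMk (fun k => (W k : Scheme.{u}))).surjective y
    refine ⟨k, ?_⟩
    rw [sigmaMk_mk]
    have := congrArg (fun ψ : ((W k : Z.Opens) : Scheme.{u}) ⟶ Z => ψ w) (he k)
    simp only [Scheme.Hom.comp_apply] at this
    show φ (e.hom (Sigma.ι (fun k => (W k : Scheme.{u})) k w)) ∈ W k
    rw [this]
    exact w.2
  -- an ordering of the finite index set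
  obtain ⟨n, ⟨eqv⟩⟩ := Finite.exists_equiv_fin ι
  let r : ι → ℕ := fun k => (eqv k : ℕ)
  have hr : Function.Injective r := fun a b h => eqv.injective (Fin.ext h)
  -- disjoint clopen refinement
  have hCcl : ∀ k, IsClosed (⋃ j : {j : ι // r j < r k}, ((W j.1 : Z.Opens) : Set Z)) :=
    fun k => isClosed_iUnion_of_finite fun j => hWcl j.1
  let Zk : ι → Z.Opens := fun k =>
    ⟨((W k : Z.Opens) : Set Z) ∩ (⋃ j : {j : ι // r j < r k}, ((W j.1 : Z.Opens) : Set Z))ᶜ,
      (W k).2.inter (hCcl k).isOpen_compl⟩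
  have hZW : ∀ k, Zk k ≤ W k := fun k z hz => hz.1
  have hcov : ⨆ k, Zk k = ⊤ := by
    rw [eq_top_iff]
    intro z _
    have hex : ∃ m, ∃ k, r k = m ∧ z ∈ W k := by
      obtain ⟨k, hk⟩ := hWcov z
      exact ⟨r k, k, rfl, hk⟩
    classical
    obtain ⟨k, hk, hzk⟩ := Nat.find_spec hex
    refine TopologicalSpace.Opens.mem_iSup.mpr ⟨k, hzk, ?_⟩
    simp only [Set.mem_compl_iff, Set.mem_iUnion, not_exists]
    rintro ⟨j, hj⟩ hzj
    exact Nat.find_min hex (hk ▸ hj) ⟨j, rfl, hzj⟩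
  have hdisj : ∀ k l : ι, k ≠ l → IsEmpty ((Zk k ⊓ Zk l : Z.Opens) : Scheme.{u}) := by
    intro k l hne
    refine ⟨fun z => ?_⟩
    rcases lt_or_gt_of_ne (fun h => hne (hr h)) with h | h
    · exact z.2.2.2 (Set.mem_iUnion.mpr ⟨⟨k, h⟩, z.2.1.1⟩)
    · exact z.2.1.2 (Set.mem_iUnion.mpr ⟨⟨l, h⟩, z.2.2.1⟩)
  let sk : ∀ k, ((Zk k : Z.Opens) : Scheme.{u}) ⟶ V := fun k =>
    Z.homOfLE (hZW k) ≫ Sigma.ι (fun k => (W k : Scheme.{u})) k ≫ e.hom
  have compat : ∀ k l : ι, Z.homOfLE (inf_le_left : Zk k ⊓ Zk l ≤ Zk k) ≫ sk k =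
      Z.homOfLE (inf_le_right : Zk k ⊓ Zk l ≤ Zk l) ≫ sk l := by
    intro k l
    by_cases h : k = l
    · subst h; rfl
    · haveI := hdisj k l h
      exact (isInitialOfIsEmpty).hom_ext _ _
  obtain ⟨s, hs, hext⟩ := EtaleNormal.exists_glue_cover Zk hcov sk compat
  refine ⟨s, ?_⟩
  apply hext
  intro k
  rw [← Category.assoc, hs k, Category.comp_id]
  simp only [sk, Category.assoc]
  rw [he k, Scheme.homOfLE_ι]

end Groth.Agent.S0625
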