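import Groth.Statements.S0628
import Mathlib
import Groth.Agent.Lib.Helper21.NormalConst
import Groth.Agent.Lib.Helper21.SepClosedPush
-- import your own Groth.Agent.* helpers here

set_option autoImplicit false
open CategoryTheory CategoryTheory.Limits AlgebraicGeometry Opposite
universe u
open EtCore

namespace Groth.Agent.S0628

/-- Let f : X -> Y be a morphism of schemes with X integral and normal and with separably closed
function field. Then the higher direct images R^q f_* of a constant sheaf vanish for q > 0. -/
theorem result {X Y : Scheme.{u}} (f : X ⟶ Y) [IsIntegral X]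
    (hN : ∀ x : X, IsIntegrallyClosed (X.presheaf.stalk x)) [IsSepClosed X.functionField]
    (M : Type) [AddCommGroup M] (q : ℕ) (hq : 1 ≤ q) :
    IsZero ((EtCoh.Rpush f q).obj (EtCoh.const X M)) := by
  have hX : Pi1.IsNormalScheme X := fun x => ⟨inferInstance, hN x⟩
  haveI := Groth.Agent.Lib.helper21.NormalConst.isIso_unit_fromSpecStalk X hX M
  obtain ⟨q, rfl⟩ : ∃ q' : ℕ, q = q' + 1 := ⟨q - 1, by omega⟩
  let g : Spec (CommRingCat.of X.functionField) ⟶ X := X.fromSpecStalk (genericPoint X)
  have e : EtCoh.const X M ≅ (EtCoh.push g).obj ((EtCoh.pull g).obj (EtCoh.const X M)) :=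
    asIso ((EtCoh.pullPushAdj (X.fromSpecStalk (genericPoint X))).unit.app (EtCoh.const X M))
  exact (Groth.Agent.Lib.helper21.SepClosedPush.isZero_Rpush_push f g _ q).of_iso
    ((EtCoh.Rpush f (q + 1)).mapIso e)

end Groth.Agent.S0628
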