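import Groth.Statements.S0632
import Groth.Agent.Lib.Helper1.ClosedEtLift
import Groth.Agent.S0069

set_option autoImplicit false
open CategoryTheory CategoryTheory.Limits AlgebraicGeometry Opposite
universe u
open EtCore

namespace Groth.Agent.S0632

open Groth.Agent.H1.ClosedEtLift

theorem main {X Y : Scheme.{u}} (f : X ⟶ Y) [IsClosedImmersion f]
    {ι : Type u} (U : ι → X.Etale) (hU : EtCoh.Covers U) :
    ∃ (κ : Type u) (V : κ → Y.Etale), EtCoh.Covers V ∧
      ∀ j, IsEmpty ↥(pullback (V j).hom f) ∨
        ∃ (i : ι) (h : pullback (V j).hom f ⟶ (U i).left),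
          h ≫ (U i).hom = pullback.snd (V j).hom f := by
  have hUe : ∀ i, AlgebraicGeometry.Etale (U i).hom := fun i => (U i).prop
  choose V v hv h h1 h2 h3 using fun p : (Σ i, (U i).left) =>
    exists_etale_lift_nhd f (U p.1).hom p.2
  let O : Y.Opens := Groth.Agent.S0069.compl f
  let W : Option (Σ i, (U i).left) → Y.Etale := fun j =>
    match j with
    | none => Scheme.Etale.mk O.ι
    | some p => @Scheme.Etale.mk _ _ (v p) (hv p)
  refine ⟨Option (Σ i, (U i).left), W, ?_, ?_⟩
  · intro y
    by_cases hy : y ∈ Set.range f.base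
    · obtain ⟨x, rfl⟩ := hy
      obtain ⟨i, u, rfl⟩ := hU x
      obtain ⟨z, hz⟩ := h3 ⟨i, u⟩
      refine ⟨some ⟨i, u⟩, (pullback.fst (v ⟨i, u⟩) f).base z, ?_⟩
      change (v ⟨i, u⟩).base ((pullback.fst (v ⟨i, u⟩) f).base z) = _
      rw [← Scheme.Hom.comp_apply, pullback.condition, ← h1 ⟨i, u⟩, Scheme.Hom.comp_apply,
        Scheme.Hom.comp_apply, hz]
    · have hyO : y ∈ (O : Set Y) := hy
      have : y ∈ Set.range O.ι.base := by rw [Scheme.Opens.range_ι]; exact hyO
      obtain ⟨z, hz⟩ := this
      exact ⟨none, z, hz⟩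
  · intro j
    match j with
    | none =>
      left
      constructor
      intro t
      change ↥(pullback O.ι f) at t
      have e1 : O.ι.base ((pullback.fst O.ι f).base t) = f.base ((pullback.snd O.ι f).base t) := by
        rw [← Scheme.Hom.comp_apply, ← Scheme.Hom.comp_apply, pullback.condition]
      have e2 : O.ι.base ((pullback.fst O.ι f).base t) ∈ (O : Set Y) := by
        have : O.ι.base ((pullback.fst O.ι f).base t) ∈ Set.range O.ι.base := ⟨_, rfl⟩
        rwa [Scheme.Opens.range_ι] at this
      exact e2 ⟨_, e1.symm⟩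
    | some p =>
      right
      exact ⟨p.1, h p, h1 p⟩

/-- Let X -> Y be a closed immersion and U_i -> X (i in ι) a jointly surjective family of etale
morphisms. Then one can find a jointly surjective family of etale Y-schemes V_j each of which either
has empty preimage over X or, after base change to X, maps into one of the U_i over X. -/
theorem result {X Y : Scheme.{u}} (f : X ⟶ Y) [IsClosedImmersion f]
    {ι : Type u} (U : ι → X.Etale) (hU : EtCoh.Covers U) :
    ∃ (κ : Type u) (V : κ → Y.Etale), EtCoh.Covers V ∧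
      ∀ j, IsEmpty ↥(pullback (V j).hom f) ∨
        ∃ (i : ι) (h : pullback (V j).hom f ⟶ (U i).left), h ≫ (U i).hom = pullback.snd (V j).hom f := by
  exact main f U hU

end Groth.Agent.S0632
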