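import Groth.Statements.S0634
import Groth.Agent.Lib.Helper1.FinStalk
import Groth.Agent.Lib.Helper1.FinPushStalk

set_option autoImplicit false
open CategoryTheory CategoryTheory.Limits AlgebraicGeometry Opposite
universe u
open EtCore

namespace Groth.Agent.S0634

open GrothendieckTopology
open Groth.Agent.H1.EtStalk Groth.Agent.H1.EtGerm Groth.Agent.H1.PullGerm
  Groth.Agent.H1.FinStalk Groth.Agent.H1.FinPushStalk

variable {S T : Scheme.{u}} (f : T ⟶ S) (F : EtCoh.Ab S)

/-- if `f` factors through the open `W`, then `W ×_S T ⟶ S ×_S T` is a surjective open immersion -/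
theorem usec_eq_zero_of_range (W : (EtCoh.top S).left.Opens)
    (hW : ∀ x : T, (f.base x : (EtCoh.top S).left) ∈ W) (d : F.obj.obj (op (EtCoh.top S)))
    (hd : F.obj.map (restrictOpenι (EtCoh.top S) W).op d = 0) :
    usec f F (EtCoh.top S) d = 0 := by
  let g := restrictOpenι (EtCoh.top S) W
  have sq := EtCoh.isPullback_bc_map f g
  have hoi : IsOpenImmersion ((EtCoh.bc f).map g).left := by
    have : IsOpenImmersion g.left := inferInstanceAs (IsOpenImmersion W.ι)
    exact MorphismProperty.of_isPullback (P := @IsOpenImmersion) sq.flip this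
  apply eq_zero_of_cover ((EtCoh.pull f).obj F) _ (fun _ : Unit => (EtCoh.bc f).obj (restrictOpen (EtCoh.top S) W))
    (fun _ => (EtCoh.bc f).map g) (fun _ => hoi) (fun a b hab => (hab rfl).elim)
  · intro x
    refine ⟨(), ?_⟩
    have hx : (pullback.fst (EtCoh.top S).hom f : ((EtCoh.bc f).obj (EtCoh.top S)).left ⟶ S).base x ∈
        Set.range g.left.base := by
      have h1 : (pullback.fst (EtCoh.top S).hom f).base x =
          f.base ((pullback.snd (EtCoh.top S).hom f).base x) := by
        have h2 : pullback.fst (EtCoh.top S).hom f = pullback.snd (EtCoh.top S).hom f ≫ f := by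
          have := pullback.condition (f := (EtCoh.top S).hom) (g := f)
          rw [← this]
          exact (Category.comp_id _).symm
        rw [h2]
        rfl
      rw [h1]
      change _ ∈ Set.range W.ι.base
      rw [Scheme.Opens.range_ι]
      exact hW _
    obtain ⟨v, hv⟩ := hx
    obtain ⟨z, hz1, -⟩ := Scheme.Pullback.exists_preimage_pullback
      (f := (pullback.fst (EtCoh.top S).hom f : ((EtCoh.bc f).obj (EtCoh.top S)).left ⟶ S))
      (g := g.left) x v hv.symm
    refine ⟨sq.isoPullback.inv.base z, ?_⟩
    rw [← hz1, ← Scheme.Hom.comp_apply, IsPullback.isoPullback_inv_fst]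
    rfl
  · intro _
    rw [← usec_res, hd, map_zero]

/-- the tautological lift of a geometric point of `S` to `S` -/
noncomputable def topLift' {Ω : Type u} [Field Ω] [IsSepClosed Ω] (η : Spec (CommRingCat.of Ω) ⟶ S) :
    Lift η (EtCoh.top S) := Lift.mk η η (Category.comp_id _)

theorem main (s t : EtCoh.sect F (EtCoh.top S)) :
    ∃ W : S.Opens, ∀ (T : Scheme.{u}) (f : T ⟶ S),
      Set.range f.base ⊆ (W : Set S) ↔
        ((EtCoh.pullPushAdj f).unit.app F).hom.app (op (EtCoh.top S)) s =
          ((EtCoh.pullPushAdj f).unit.app F).hom.app (op (EtCoh.top S)) t := by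
  refine ⟨vanishOpen F (EtCoh.top S) (s - t), ?_⟩
  intro T f
  have hsub : ((EtCoh.pullPushAdj f).unit.app F).hom.app (op (EtCoh.top S)) s =
      ((EtCoh.pullPushAdj f).unit.app F).hom.app (op (EtCoh.top S)) t ↔
      usec f F (EtCoh.top S) (s - t) = 0 := by
    rw [map_sub, sub_eq_zero]
    rfl
  rw [hsub]
  constructor
  · intro h
    apply usec_eq_zero_of_range f F (vanishOpen F (EtCoh.top S) (s - t))
    · intro x
      exact h ⟨x, rfl⟩
    · exact map_restrictOpenι_vanishOpen F (EtCoh.top S) (s - t)
  · rintro h _ ⟨x, rfl⟩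
    let ξ := geomPt T x
    let y : Lift ξ ((EtCoh.bc f).obj (EtCoh.top S)) := liftBc f ξ rfl (topLift' (ξ ≫ f))
    have h0 : pgerm f ξ F (EtCoh.top S) y (s - t) = 0 := by
      change germ ξ _ _ y (usec f F (EtCoh.top S) (s - t)) = 0
      rw [h, map_zero]
    obtain ⟨W₁, g, w, hw, hg⟩ := pgerm_eq_zero f ξ F (EtCoh.top S) y (s - t) h0
    refine ⟨W₁, g, ⟨(fstLift f ξ rfl w).hom.base default, ?_⟩, hg⟩
    have h1 : Lift.map g (fstLift f ξ rfl w) = topLift' (ξ ≫ f) := by
      rw [← fstLift_map, hw, fstLift_liftBc]
    have h2 : ((fstLift f ξ rfl w).hom ≫ g.left).base default = (ξ ≫ f).base default :=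
      congrArg (fun (l : Lift (ξ ≫ f) (EtCoh.top S)) => l.hom.base default) h1
    have h3 : ξ.base default = x := geomPt_default T x
    exact h2.trans (congrArg (fun z => f.base z) h3)

/-- For an abelian sheaf F on the small etale site of S and two global sections s, t there is an open W
of S such that a morphism f : T -> S has image inside W if and only if the pullbacks of s and t
along f (images under the adjunction unit, as sections of the pullback sheaf over T) coincide. -/
theorem result {S : Scheme.{u}} (F : EtCoh.Ab S) (s t : EtCoh.sect F (EtCoh.top S)) :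
    ∃ W : S.Opens, ∀ (T : Scheme.{u}) (f : T ⟶ S),
      Set.range f.base ⊆ (W : Set S) ↔
        ((EtCoh.pullPushAdj f).unit.app F).hom.app (op (EtCoh.top S)) s =
          ((EtCoh.pullPushAdj f).unit.app F).hom.app (op (EtCoh.top S)) t := by
  exact main F s t

end Groth.Agent.S0634
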