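import Groth.Statements.S0643
-- import your own Groth.Agent.* helpers here

set_option autoImplicit false
universe u
open EtCore

namespace Groth.Agent.S0643

theorem unit_aux {B : Type*} [CommRing B] (α β r c' d' : B) (m : ℕ)
    (hroot0 : r ^ (m + 1) + (c' * r ^ m + d') = 0)
    (h1 : α ^ (m + 1) + c' * β * α ^ m + d' * β ^ (m + 1) = 1) : IsUnit (α - β * r) := by
  have h2 : (β * r) ^ (m + 1) + c' * β * (β * r) ^ m + d' * β ^ (m + 1) = 0 := by
    have : (β * r) ^ (m + 1) + c' * β * (β * r) ^ m + d' * β ^ (m + 1) =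
        β ^ (m + 1) * (r ^ (m + 1) + (c' * r ^ m + d')) := by ring
    rw [this, hroot0, mul_zero]
  have h3 : (1 : B) =
      (α ^ (m + 1) - (β * r) ^ (m + 1)) + c' * β * (α ^ m - (β * r) ^ m) := by
    linear_combination h2 - h1
  apply isUnit_of_dvd_one
  rw [h3]
  exact dvd_add (sub_dvd_pow_sub_pow α (β * r) (m + 1))
    (Dvd.dvd.mul_left (sub_dvd_pow_sub_pow α (β * r) m) _)

open Polynomial in
/-- Let A be a ring, assumed nonzero here (the published statement does not say so; over the zero ring
no polynomial has positive degree in Lean's sense), and a, b elements generating the unit ideal such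
that some positive power of a is congruent to 1 modulo b. Then there is a monic polynomial P of
positive degree over A such that in B = A[y]/(P) the element a - b y is a unit. -/
theorem result (A : Type u) [CommRing A] [Nontrivial A] (a b : A) (hab : IsCoprime a b)
    (hroot : ∃ n : ℕ, 0 < n ∧ a ^ n - 1 ∈ Ideal.span ({b} : Set A)) :
    ∃ P : A[X], P.Monic ∧ 0 < P.natDegree ∧
      IsUnit (algebraMap A (AdjoinRoot P) a - algebraMap A (AdjoinRoot P) b * AdjoinRoot.root P) := by
  obtain ⟨n, hn, hmem⟩ := hroot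
  obtain ⟨m, rfl⟩ : ∃ m, n = m + 1 := ⟨n - 1, by omega⟩
  obtain ⟨t, ht⟩ := Ideal.mem_span_singleton'.1 hmem
  obtain ⟨u, v, huv⟩ := (hab.pow (m := m) (n := m))
  have hq : (C (-(t * u)) * X ^ m + C (-(t * v)) : A[X]).degree < ((m + 1 : ℕ) : WithBot ℕ) := by
    refine lt_of_le_of_lt (degree_add_le _ _) ?_
    rw [max_lt_iff]
    constructor
    · exact lt_of_le_of_lt (degree_C_mul_X_pow_le m _) (by exact_mod_cast Nat.lt_succ_self m)
    · exact lt_of_le_of_lt degree_C_le (by exact_mod_cast Nat.succ_pos m)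
  have hmonic : (X ^ (m + 1) + (C (-(t * u)) * X ^ m + C (-(t * v))) : A[X]).Monic :=
    monic_X_pow_add hq
  have hdeg : (X ^ (m + 1) + (C (-(t * u)) * X ^ m + C (-(t * v))) : A[X]).natDegree = m + 1 := by
    rw [natDegree_add_eq_left_of_degree_lt (by rwa [degree_X_pow])]
    exact natDegree_X_pow _
  refine ⟨X ^ (m + 1) + (C (-(t * u)) * X ^ m + C (-(t * v))), hmonic,
    by rw [hdeg]; exact Nat.succ_pos m, ?_⟩
  apply unit_aux _ _ _ (algebraMap A _ (-(t * u))) (algebraMap A _ (-(t * v))) m
  · have h := AdjoinRoot.eval₂_root (X ^ (m + 1) + (C (-(t * u)) * X ^ m + C (-(t * v))) : A[X])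
    simpa [eval₂_add, eval₂_mul, eval₂_pow, eval₂_X, eval₂_C, AdjoinRoot.algebraMap_eq]
      using h
  · have : a ^ (m + 1) + (-(t * u)) * b * a ^ m + (-(t * v)) * b ^ (m + 1) = 1 := by
      linear_combination (-(t * b)) * huv - ht
    have h := congrArg (algebraMap A (AdjoinRoot
      (X ^ (m + 1) + (C (-(t * u)) * X ^ m + C (-(t * v))) : A[X]))) this
    simpa only [map_add, map_mul, map_pow, map_one] using h

end Groth.Agent.S0643
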