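import Groth.Statements.S0644
import Groth.Agent.Lib.Helper1.ClosedDense

set_option autoImplicit false
open CategoryTheory CategoryTheory.Limits AlgebraicGeometry Opposite
universe u
open EtCore

namespace Groth.Agent.S0644

open Groth.Agent.H1.ClosedDense Groth.Agent.H1.EtGerm

variable (S : Scheme.{u}) (F : Sheaf S.smallEtaleTopology (Type u))

/-- the open subset of `S` over which `F` has sections -/
noncomputable def supp : S.Opens :=
  ⟨⋃ (U : S.Etale) (_ : Nonempty (F.obj.obj (op U))), Set.range U.hom.base, by
    apply isOpen_iUnion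
    intro U
    apply isOpen_iUnion
    intro _
    have : AlgebraicGeometry.Etale U.hom := U.prop
    exact U.hom.isOpenMap.isOpen_range⟩

variable {S F}

theorem range_subset_of_nonempty (U : S.Etale) (h : Nonempty (F.obj.obj (op U))) :
    Set.range U.hom.base ⊆ (supp S F : Set S) := by
  intro x hx
  simp only [supp, TopologicalSpace.Opens.coe_mk, Set.mem_iUnion]
  exact ⟨U, h, hx⟩

theorem nonempty_of_range_subset (hF : ∀ U : S.Etale, Subsingleton (F.obj.obj (op U)))
    (U : S.Etale) (h : Set.range U.hom.base ⊆ (supp S F : Set S)) :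
    Nonempty (F.obj.obj (op U)) := by
  have hU : AlgebraicGeometry.Etale U.hom := U.prop
  -- the sieve of all maps from objects with sections
  let R : Sieve U :=
    { arrows := fun V _ => Nonempty (F.obj.obj (op V))
      downward_closed := fun {V W} g ⟨s⟩ k => ⟨F.obj.map k.op s⟩ }
  have hR : R ∈ S.smallEtaleTopology U := by
    apply mem_smallEtaleTopology
    intro x
    have hx : U.hom.base x ∈ (supp S F : Set S) := h ⟨x, rfl⟩
    simp only [supp, TopologicalSpace.Opens.coe_mk, Set.mem_iUnion] at hx
    obtain ⟨U', ⟨s'⟩, x', hx'⟩ := hx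
    have hU' : AlgebraicGeometry.Etale U'.hom := U'.prop
    obtain ⟨z, hz1, hz2⟩ := Scheme.Pullback.exists_preimage_pullback (f := U.hom) (g := U'.hom)
      x x' hx'.symm
    let P : S.Etale := Scheme.Etale.mk (pullback.fst U.hom U'.hom ≫ U.hom)
    let p1 : P ⟶ U := MorphismProperty.Over.homMk (pullback.fst U.hom U'.hom) rfl trivial
    let p2 : P ⟶ U' := MorphismProperty.Over.homMk (pullback.snd U.hom U'.hom)
      pullback.condition.symm trivial
    exact ⟨P, p1, z, ⟨F.obj.map p2.op s'⟩, hz1⟩
  have hsh : Presieve.IsSheafFor F.obj R.arrows :=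
    ((isSheaf_iff_isSheaf_of_type _ _).1 F.property) _ hR
  let x : Presieve.FamilyOfElements F.obj R.arrows := fun V _ hV => hV.some
  have hx : x.Compatible := fun V₁ V₂ W g₁ g₂ f₁ f₂ h₁ h₂ _ => by
    have := hF W
    exact Subsingleton.elim _ _
  obtain ⟨t, -, -⟩ := hsh x hx
  exact ⟨t⟩


theorem subsingleton_hom (W : S.Opens) (U : S.Etale) :
    Subsingleton (U ⟶ Scheme.Etale.mk W.ι) := by
  constructor
  intro g₁ g₂
  apply MorphismProperty.Over.Hom.ext
  have e1 : g₁.left ≫ W.ι = U.hom := MorphismProperty.Over.w g₁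
  have e2 : g₂.left ≫ W.ι = U.hom := MorphismProperty.Over.w g₂
  exact (cancel_mono W.ι).mp (e1.trans e2.symm)

theorem nonempty_hom_iff (W : S.Opens) (U : S.Etale) :
    Nonempty (U ⟶ Scheme.Etale.mk W.ι) ↔ Set.range U.hom.base ⊆ (W : Set S) := by
  constructor
  · rintro ⟨g⟩
    have e1 : g.left ≫ W.ι = U.hom := MorphismProperty.Over.w g
    rintro _ ⟨t, rfl⟩
    have : W.ι.base (g.left.base t) ∈ Set.range W.ι.base := ⟨_, rfl⟩
    rw [Scheme.Opens.range_ι] at this
    have e2 := congrArg (fun (k : U.left ⟶ S) => k.base t) e1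
    simp only [Scheme.Hom.comp_apply] at e2
    rw [← e2]
    exact this
  · intro h
    have hr : Set.range U.hom.base ⊆ Set.range W.ι.base := by
      rw [Scheme.Opens.range_ι]; exact h
    let l : U.left ⟶ W.toScheme := IsOpenImmersion.lift W.ι U.hom hr
    have hl : l ≫ W.ι = U.hom := IsOpenImmersion.lift_fac W.ι U.hom hr
    exact ⟨MorphismProperty.Over.homMk (B := Scheme.Etale.mk W.ι) l hl trivial⟩

theorem main (S : Scheme.{u}) (F : Sheaf S.smallEtaleTopology (Type u))
    (hF : ∀ U : S.Etale, Subsingleton (F.obj.obj (op U))) :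
    ∃! W : S.Opens, Nonempty (F.obj ≅ yoneda.obj (Scheme.Etale.mk W.ι)) := by
  refine ⟨supp S F, ?_, ?_⟩
  · have key : ∀ U : S.Etale, Nonempty (F.obj.obj (op U)) ↔
        Nonempty (U ⟶ Scheme.Etale.mk (supp S F).ι) := by
      intro U
      rw [nonempty_hom_iff]
      exact ⟨range_subset_of_nonempty U, nonempty_of_range_subset hF U⟩
    refine ⟨NatIso.ofComponents (fun U => Equiv.toIso
      { toFun := fun s => ((key U.unop).mp ⟨s⟩).some
        invFun := fun g => ((key U.unop).mpr ⟨g⟩).some
        left_inv := fun s => by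
          have := hF U.unop
          exact Subsingleton.elim _ _
        right_inv := fun g => by
          have := subsingleton_hom (supp S F) U.unop
          exact Subsingleton.elim _ _ }) ?_⟩
    intro U V k
    ext s
    have := subsingleton_hom (supp S F) V.unop
    exact Subsingleton.elim _ _
  · rintro W' ⟨e⟩
    have key : ∀ U : S.Etale, Nonempty (F.obj.obj (op U)) ↔
        Set.range U.hom.base ⊆ (W' : Set S) := by
      intro U
      rw [← nonempty_hom_iff]
      exact ⟨fun ⟨s⟩ => ⟨(e.app (op U)).hom s⟩, fun ⟨g⟩ => ⟨(e.app (op U)).inv g⟩⟩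
    apply le_antisymm
    · have h1 : Nonempty (F.obj.obj (op (Scheme.Etale.mk W'.ι))) := by
        rw [key]
        change Set.range W'.ι.base ⊆ _
        rw [Scheme.Opens.range_ι]
      have h2 := range_subset_of_nonempty (Scheme.Etale.mk W'.ι) h1
      change Set.range W'.ι.base ⊆ _ at h2
      rw [Scheme.Opens.range_ι] at h2
      exact h2
    · intro x hx
      simp only [supp, Set.mem_iUnion, TopologicalSpace.Opens.mem_mk] at hx
      obtain ⟨U, hU, hxU⟩ := hx
      exact (key U).mp hU hxU

/-- Let F be a sheaf of sets on the small etale site of S which is a subsheaf of the final sheaf, i.e.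
every set of sections has at most one element. Then there is exactly one open W of S such that F is
isomorphic to the sheaf represented by W (viewed as a scheme etale over S). -/
theorem result (S : Scheme.{u}) (F : Sheaf S.smallEtaleTopology (Type u))
    (hF : ∀ U : S.Etale, Subsingleton (F.obj.obj (op U))) :
    ∃! W : S.Opens, Nonempty (F.obj ≅ yoneda.obj (Scheme.Etale.mk W.ι)) := by
  exact main S F hF

end Groth.Agent.S0644
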