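import Groth.Statements.S0646
import Groth.Agent.Lib.Helper1.LimCohPullB

set_option autoImplicit false
open CategoryTheory CategoryTheory.Limits AlgebraicGeometry Opposite
universe u
open EtCore

namespace Groth.Agent.S0646

open Groth.Agent.Lib.helper27 Groth.Agent.Lib.helper27.PullFunEt
  Groth.Agent.Lib.helper27.HpullHmap Groth.Agent.H1.LimCoh

theorem main {ι : Type u} [Preorder ι] [IsDirected ι (· ≤ ·)] (Xs : ιᵒᵖ ⥤ Scheme.{u})
    (haff : ∀ ⦃a b : ιᵒᵖ⦄ (h : a ⟶ b), IsAffineHom (Xs.map h))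
    (hqc : ∀ a, CompactSpace ↥(Xs.obj a)) (hqs : ∀ a, QuasiSeparatedSpace ↥(Xs.obj a))
    (c : Cone Xs) (hc : IsLimit c) (i₀ : ι) (F₀ : EtCoh.Ab (Xs.obj (op i₀))) (p : ℕ)
    [∀ a, PreservesFiniteLimits (EtCoh.pull (c.π.app a))]
    [∀ ⦃a b : ιᵒᵖ⦄ (h : a ⟶ b), PreservesFiniteLimits (EtCoh.pull (Xs.map h))] :
    (∀ ξ : EtCoh.H c.pt ((EtCoh.pull (c.π.app (op i₀))).obj F₀) p,
      ∃ (j : ι) (hj : i₀ ≤ j) (ξj : EtCoh.H (Xs.obj (op j)) ((EtCoh.pull (Xs.map (homOfLE hj).op)).obj F₀) p),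
        EtCore.HpullVia (c.π.app (op j)) (Xs.map (homOfLE hj).op) (c.π.app (op i₀)) (c.w (homOfLE hj).op) F₀ p ξj = ξ) ∧
    (∀ (j : ι) (hj : i₀ ≤ j) (ξj : EtCoh.H (Xs.obj (op j)) ((EtCoh.pull (Xs.map (homOfLE hj).op)).obj F₀) p),
      EtCore.HpullVia (c.π.app (op j)) (Xs.map (homOfLE hj).op) (c.π.app (op i₀)) (c.w (homOfLE hj).op) F₀ p ξj = 0 →
        ∃ (k : ι) (hk : j ≤ k), EtCore.Hpull (Xs.map (homOfLE hk).op) _ p ξj = 0) := by
  let ι' := {j : ι // i₀ ≤ j}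
  let incl : ι' ⥤ ι := (Subtype.mono_coe (fun j => i₀ ≤ j)).functor
  haveI : IsDirected ι' (· ≤ ·) := ⟨fun a b => by
    obtain ⟨k, hak, hbk⟩ := exists_ge_ge a.1 b.1
    exact ⟨⟨k, a.2.trans hak⟩, hak, hbk⟩⟩
  haveI : Nonempty ι' := ⟨⟨i₀, le_refl _⟩⟩
  haveI : incl.Final := by
    rw [Monotone.final_functor_iff]
    intro k
    obtain ⟨l, hkl, hil⟩ := exists_ge_ge k i₀
    exact ⟨⟨l, hil⟩, hkl⟩
  let Xs' : ι'ᵒᵖ ⥤ Scheme.{u} := incl.op ⋙ Xs
  let c' : Cone Xs' := c.whisker incl.op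
  have hc' : IsLimit c' := (Functor.Initial.isLimitWhiskerEquiv incl.op c).symm hc
  have haff' : ∀ ⦃a b : ι'ᵒᵖ⦄ (h : a ⟶ b), IsAffineHom (Xs'.map h) :=
    fun a b h => haff (incl.op.map h)
  haveI : ∀ i : ι', CompactSpace (Xs'.obj (op i)) := fun i => hqc (op i.1)
  haveI : ∀ i : ι', QuasiSeparatedSpace (Xs'.obj (op i)) := fun i => hqs (op i.1)
  let i₀' : ι' := ⟨i₀, le_refl _⟩
  have h₀ : ∀ j : ι', i₀' ≤ j := fun j => j.2
  have hP := pull_colim (Xs := Xs') (c := c') i₀' h₀ F₀ hc' haff' p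
  constructor
  · intro ξ
    obtain ⟨j, ξj, h⟩ := hP.1 ξ
    refine ⟨j.1, j.2, ξj, ?_⟩
    exact (HpullVia_eq_Hmap F₀ _ _ _ _ p ξj).trans h
  · intro j hj ξj h
    obtain ⟨k, hk, h2⟩ := hP.2 ⟨j, hj⟩ ξj ((HpullVia_eq_Hmap F₀ _ _ _ _ p ξj).symm.trans h)
    refine ⟨k.1, hk, ?_⟩
    exact Hpull_eq_zero_of_Hmap_θ F₀ _ _ _ _ p ξj h2

/-- For systems of sheaves pulled back from one stage: let ι be a directed preordered set, (X_i) an
inverse system of quasi-compact quasi-separated schemes indexed by ι with affine transition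
morphisms, X a limit with projections f_i, i₀ an index and F₀ an abelian sheaf on the small etale
site of X_{i₀}. Then H^p(X, f_{i₀}^{-1} F₀) is the colimit of the groups H^p(X_j, F₀|_{X_j}) over j
≥ i₀, in the concrete sense: every class on X is pulled back from some X_j, and a class on X_j that
pulls back to zero on X already pulls back to zero on some X_k, k ≥ j. (The source allows general
systems of sheaves (F_i, φ_{i'i}); only systems pulled back from a single stage are stated.)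
(Exactness of pullback of abelian sheaves, which always holds, is carried as an instance
hypothesis.) -/
theorem result {ι : Type u} [Preorder ι] [IsDirected ι (· ≤ ·)] (Xs : ιᵒᵖ ⥤ Scheme.{u})
    (haff : ∀ ⦃a b : ιᵒᵖ⦄ (h : a ⟶ b), IsAffineHom (Xs.map h))
    (hqc : ∀ a, CompactSpace ↥(Xs.obj a)) (hqs : ∀ a, QuasiSeparatedSpace ↥(Xs.obj a))
    (c : Cone Xs) (hc : IsLimit c) (i₀ : ι) (F₀ : EtCoh.Ab (Xs.obj (op i₀))) (p : ℕ)
    [∀ a, PreservesFiniteLimits (EtCoh.pull (c.π.app a))]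
    [∀ ⦃a b : ιᵒᵖ⦄ (h : a ⟶ b), PreservesFiniteLimits (EtCoh.pull (Xs.map h))] :
    (∀ ξ : EtCoh.H c.pt ((EtCoh.pull (c.π.app (op i₀))).obj F₀) p,
      ∃ (j : ι) (hj : i₀ ≤ j) (ξj : EtCoh.H (Xs.obj (op j)) ((EtCoh.pull (Xs.map (homOfLE hj).op)).obj F₀) p),
        EtCore.HpullVia (c.π.app (op j)) (Xs.map (homOfLE hj).op) (c.π.app (op i₀)) (c.w (homOfLE hj).op) F₀ p ξj = ξ) ∧
    (∀ (j : ι) (hj : i₀ ≤ j) (ξj : EtCoh.H (Xs.obj (op j)) ((EtCoh.pull (Xs.map (homOfLE hj).op)).obj F₀) p),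
      EtCore.HpullVia (c.π.app (op j)) (Xs.map (homOfLE hj).op) (c.π.app (op i₀)) (c.w (homOfLE hj).op) F₀ p ξj = 0 →
        ∃ (k : ι) (hk : j ≤ k), EtCore.Hpull (Xs.map (homOfLE hk).op) _ p ξj = 0) := by
  exact main Xs haff hqc hqs c hc i₀ F₀ p

end Groth.Agent.S0646
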