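import Groth.Statements.S0653
import Groth.Agent.Lib.Helper1.FinPushStalk
import Groth.Agent.S0652

set_option autoImplicit false
open CategoryTheory CategoryTheory.Limits AlgebraicGeometry Opposite
universe u
open EtCore

namespace Groth.Agent.S0653

open Groth.Agent.H1.EtStalk Groth.Agent.H1.EtGerm Groth.Agent.H1.EtStalkPull
  Groth.Agent.H1.FinPushStalk

theorem aux {C : Type*} [Category C] {P P' Q Q' W W' X U : C} (a : P' ⟶ P) (e : P ⟶ Q)
    (e' : P' ⟶ Q') (b : Q' ⟶ Q) (fstQ : Q ⟶ W) (sndQ : Q ⟶ X) (fstP : P ⟶ W) (sndP : P ⟶ U)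
    (j' : U ⟶ X) (fstP' : P' ⟶ W') (sndP' : P' ⟶ U) (fstQ' : Q' ⟶ W') (sndQ' : Q' ⟶ X)
    (k : W' ⟶ W) (h1 : e ≫ fstQ = fstP) (h2 : e ≫ sndQ = sndP ≫ j')
    (h3 : a ≫ fstP = fstP' ≫ k) (h4 : a ≫ sndP = sndP') (h5 : b ≫ fstQ = fstQ' ≫ k)
    (h6 : b ≫ sndQ = sndQ') (h7 : e' ≫ fstQ' = fstP') (h8 : e' ≫ sndQ' = sndP' ≫ j') :
    (a ≫ e) ≫ fstQ = (e' ≫ b) ≫ fstQ ∧ (a ≫ e) ≫ sndQ = (e' ≫ b) ≫ sndQ := by
  constructor
  · rw [Category.assoc, h1, h3, Category.assoc, h5, ← Category.assoc, h7]
  · rw [Category.assoc, h2, ← Category.assoc, h4, Category.assoc, h6, h8]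

section Site

variable {U X V Y : Scheme.{u}} (f : X ⟶ Y) (j : V ⟶ Y) [AlgebraicGeometry.Etale j]
  (j' : U ⟶ X) [AlgebraicGeometry.Etale j'] (g : U ⟶ V) (h : IsPullback j' g f j)

omit [AlgebraicGeometry.Etale j] [AlgebraicGeometry.Etale j'] in
include h in
theorem big (W : V.Etale) :
    IsPullback (pullback.fst W.hom g) (pullback.snd W.hom g ≫ j') (W.hom ≫ j) f :=
  (IsPullback.of_hasPullback W.hom g).paste_vert h.flip

/-- the comparison of the two fibre products -/
noncomputable def eW (W : V.Etale) : pullback W.hom g ≅ pullback (W.hom ≫ j) f :=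
  (big f j j' g h W).isoPullback

theorem eW_hom_fst (W : V.Etale) :
    (eW f j j' g h W).hom ≫ pullback.fst (W.hom ≫ j) f = pullback.fst W.hom g :=
  (big f j j' g h W).isoPullback_hom_fst

theorem eW_hom_snd (W : V.Etale) :
    (eW f j j' g h W).hom ≫ pullback.snd (W.hom ≫ j) f = pullback.snd W.hom g ≫ j' :=
  (big f j j' g h W).isoPullback_hom_snd

/-- the comparison as an isomorphism of etale `X`-schemes -/
noncomputable def eObj (W : V.Etale) :
    (EtShriek.compEtale j').obj ((EtCoh.bc g).obj W) ≅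
      (EtCoh.bc f).obj ((EtShriek.compEtale j).obj W) :=
  MorphismProperty.Over.isoMk (eW f j j' g h W) (eW_hom_snd f j j' g h W)

theorem eObj_hom_left (W : V.Etale) : (eObj f j j' g h W).hom.left = (eW f j j' g h W).hom := rfl

/-- Beck–Chevalley for the small etale sites -/
noncomputable def siteIso :
    EtCoh.bc g ⋙ EtShriek.compEtale j' ≅ EtShriek.compEtale j ⋙ EtCoh.bc f :=
  NatIso.ofComponents (fun W => eObj f j j' g h W) (by
    intro W' W k
    apply MorphismProperty.Over.Hom.ext
    change ((EtCoh.bc g).map k).left ≫ (eW f j j' g h W).hom =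
      (eW f j j' g h W').hom ≫ ((EtCoh.bc f).map ((EtShriek.compEtale j).map k)).left
    have A := aux ((EtCoh.bc g).map k).left (eW f j j' g h W).hom (eW f j j' g h W').hom
      ((EtCoh.bc f).map ((EtShriek.compEtale j).map k)).left
      (pullback.fst (W.hom ≫ j) f) (pullback.snd (W.hom ≫ j) f)
      (pullback.fst W.hom g) (pullback.snd W.hom g) j'
      (pullback.fst W'.hom g) (pullback.snd W'.hom g)
      (pullback.fst (W'.hom ≫ j) f) (pullback.snd (W'.hom ≫ j) f) k.left
      (eW_hom_fst f j j' g h W) (eW_hom_snd f j j' g h W)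
      (Groth.Agent.S0649.bc_map_fst g k) (Groth.Agent.S0649.bc_map_snd g k)
      (Groth.Agent.S0649.bc_map_fst f ((EtShriek.compEtale j).map k))
      (Groth.Agent.S0649.bc_map_snd f ((EtShriek.compEtale j).map k))
      (eW_hom_fst f j j' g h W') (eW_hom_snd f j j' g h W')
    exact pullback.hom_ext A.1 A.2)

variable [EtShriek.JCont j] [EtShriek.JCont j']

/-- restriction to an etale scheme commutes with direct image -/
noncomputable def restrPushIso (G' : EtCoh.Ab X) :
    (EtShriek.restrAlong j).obj ((EtCoh.push f).obj G') ≅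
      (EtCoh.push g).obj ((EtShriek.restrAlong j').obj G') :=
  (sheafToPresheaf _ _).preimageIso
    (Functor.isoWhiskerRight (NatIso.op (siteIso f j j' g h)) G'.obj)

end Site

theorem main {U X V Y : Scheme.{u}} (f : X ⟶ Y) [IsFinite f] (j : V ⟶ Y)
    [IsOpenImmersion j] [AlgebraicGeometry.Etale j] [EtShriek.JCont j] (j' : U ⟶ X) [IsOpenImmersion j']
    [AlgebraicGeometry.Etale j'] [EtShriek.JCont j'] (g : U ⟶ V) (h : IsPullback j' g f j) (F : EtCoh.Ab U) :
    Nonempty ((EtCoh.push f).obj ((EtShriek.extZero j').obj F) ≅ (EtShriek.extZero j).obj ((EtCoh.push g).obj F)) := by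
  apply Groth.Agent.S0652.main j
  · have hu : IsIso ((EtShriek.extZeroAdj j').unit.app F) := (Groth.Agent.S0651.main j' F).2
    exact ⟨restrPushIso f j j' g h ((EtShriek.extZero j').obj F) ≪≫
      (EtCoh.push g).mapIso (asIso ((EtShriek.extZeroAdj j').unit.app F)).symm⟩
  · intro Ω _ _ ξ hξ
    apply isZero_stalk_push_of_finite
    intro Ω' _ _ x hx
    apply isZero_stalk_extZero_of_not_mem
    rintro _ ⟨t, rfl⟩ ⟨a, ha⟩
    apply hξ ⟨default, rfl⟩
    refine ⟨g.base a, ?_⟩
    rw [← hx, Subsingleton.elim (default : Spec (CommRingCat.of Ω')) t, Scheme.Hom.comp_base,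
      TopCat.comp_app, ← ha, ← TopCat.comp_app, ← Scheme.Hom.comp_base, ← TopCat.comp_app,
      ← Scheme.Hom.comp_base, h.w]

/-- Consider a cartesian square U = X x_Y V with f : X -> Y finite, j : V -> Y an open immersion, j' : U
-> X and g : U -> V the projections. Then for every abelian sheaf F on the small etale site of U,
f_* j'_! F is isomorphic to j_! g_* F. (The source also asserts functoriality in F; only the
objectwise isomorphism is stated.) (Continuity of the composition functor of etale sites, which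
always holds, is carried as an instance hypothesis.) -/
theorem result {U X V Y : Scheme.{u}} (f : X ⟶ Y) [IsFinite f] (j : V ⟶ Y)
    [IsOpenImmersion j] [AlgebraicGeometry.Etale j] [EtShriek.JCont j] (j' : U ⟶ X) [IsOpenImmersion j']
    [AlgebraicGeometry.Etale j'] [EtShriek.JCont j'] (g : U ⟶ V) (h : IsPullback j' g f j) (F : EtCoh.Ab U) :
    Nonempty ((EtCoh.push f).obj ((EtShriek.extZero j').obj F) ≅ (EtShriek.extZero j).obj ((EtCoh.push g).obj F)) := by
  exact main f j j' g h F

end Groth.Agent.S0653
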