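import Groth.Statements.S0659
import Groth.Agent.Lib.Helper1.MVAbs
import Groth.Agent.Lib.Helper1.MVDeg0
import Groth.Agent.S0101

set_option autoImplicit false
open CategoryTheory CategoryTheory.Limits AlgebraicGeometry Opposite
universe u
open EtCore

namespace Groth.Agent.S0659

open Groth.Agent.H1 Groth.Agent.H1.MVDeg0 Groth.Agent.H1.SuppSect Abelian

section General

variable {X TU TV TW : Scheme.{u}} (jU : TU ⟶ X) (jV : TV ⟶ X) (jW : TW ⟶ X)
  (j'U : TW ⟶ TU) (j'V : TW ⟶ TV)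
  [IsOpenImmersion jU] [IsOpenImmersion jV] [IsOpenImmersion jW]
  [IsOpenImmersion j'U] [IsOpenImmersion j'V]
  (wU : j'U ≫ jU = jW) (wV : j'V ≫ jV = jW)

/-- `T → X` as a morphism to the terminal object of the small etale site -/
noncomputable def π {T : Scheme.{u}} (j : T ⟶ X) [IsOpenImmersion j] :
    (EtShriek.compEtale j).obj (EtCoh.top T) ⟶ EtCoh.top X :=
  MorphismProperty.Over.homMk j (by
    show j ≫ 𝟙 X = 𝟙 T ≫ j
    rw [Category.comp_id, Category.id_comp]) trivial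

theorem π_left {T : Scheme.{u}} (j : T ⟶ X) [IsOpenImmersion j] : (π j).left = j := rfl

instance {T : Scheme.{u}} (j : T ⟶ X) [IsOpenImmersion j] : IsOpenImmersion (π j).left := by
  rw [π_left]; assumption

/-- the inclusion `W → T` over `X` -/
noncomputable def ι {T : Scheme.{u}} (j : T ⟶ X) [IsOpenImmersion j] (j' : TW ⟶ T)
    (w : j' ≫ j = jW) :
    (EtShriek.compEtale jW).obj (EtCoh.top TW) ⟶ (EtShriek.compEtale j).obj (EtCoh.top T) :=
  MorphismProperty.Over.homMk j' (by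
    show j' ≫ 𝟙 T ≫ j = 𝟙 TW ≫ jW
    rw [Category.id_comp, Category.id_comp, w]) trivial

theorem ι_left {T : Scheme.{u}} (j : T ⟶ X) [IsOpenImmersion j] (j' : TW ⟶ T)
    (w : j' ≫ j = jW) : (ι jW j j' w).left = j' := rfl

instance {T : Scheme.{u}} (j : T ⟶ X) [IsOpenImmersion j] (j' : TW ⟶ T) [IsOpenImmersion j']
    (w : j' ≫ j = jW) : IsOpenImmersion (ι jW j j' w).left := by
  rw [ι_left]; assumption

variable (hcov : ∀ x : X, x ∈ Set.range jU.base ∨ x ∈ Set.range jV.base)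
  (hint : ∀ x : X, x ∈ Set.range jU.base → x ∈ Set.range jV.base → x ∈ Set.range jW.base)

include hcov in
theorem hcov' : ∀ t : (EtCoh.top X).left,
    (∃ x, (π jU).left.base x = t) ∨ ∃ y, (π jV).left.base y = t := by
  intro t
  rcases hcov t with ⟨x, hx⟩ | ⟨x, hx⟩
  · exact Or.inl ⟨x, hx⟩
  · exact Or.inr ⟨x, hx⟩

include hint in
theorem hfac {Z : X.Etale} (gi : Z ⟶ (EtShriek.compEtale jU).obj (EtCoh.top TU))
    (gj : Z ⟶ (EtShriek.compEtale jV).obj (EtCoh.top TV)) (_h : gi ≫ π jU = gj ≫ π jV) :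
    ∃ c : Z ⟶ (EtShriek.compEtale jW).obj (EtCoh.top TW),
      c ≫ ι jW jU j'U wU = gi ∧ c ≫ ι jW jV j'V wV = gj := by
  obtain ⟨c, _⟩ := Groth.Agent.S0687.exists_fac_openImm (π jW) (gi ≫ π jU) (by
    intro z
    apply hint
    · exact ⟨gi.left.base z, rfl⟩
    · rw [_h]
      exact ⟨gj.left.base z, rfl⟩)
  exact ⟨c, hom_ext_of_mono _ _, hom_ext_of_mono _ _⟩

/-- the adjunction `j_! ⊣ j^*` for an open immersion -/
noncomputable def adjL {T : Scheme.{u}} (j : T ⟶ X) [IsOpenImmersion j] :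
    EtShriek.extZero j ⊣ EtCoh.pull j :=
  (EtShriek.extZeroAdj j).ofNatIsoRight (pullIsoRestr j).symm

theorem preservesFiniteColimits_extZero {T : Scheme.{u}} (j : T ⟶ X) [IsOpenImmersion j] :
    PreservesFiniteColimits (EtShriek.extZero j) := by
  have : PreservesColimitsOfSize.{0, 0} (EtShriek.extZero j) :=
    (EtShriek.extZeroAdj j).leftAdjoint_preservesColimits
  exact PreservesColimitsOfSize.preservesFiniteColimits _

include hcov hint in
theorem mv_general [PreservesFiniteLimits (EtCoh.pull jU)] [PreservesFiniteLimits (EtCoh.pull jV)]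
    [PreservesFiniteLimits (EtCoh.pull j'U)] [PreservesFiniteLimits (EtCoh.pull j'V)]
    (F : EtCoh.Ab X) :
    ∃ δ : ∀ n : ℕ, EtCoh.H TW ((EtCoh.pull jW).obj F) n →+ EtCoh.H X F (n + 1),
      (∀ e : EtCoh.H X F 0, EtCore.Hpull jU F 0 e = 0 → EtCore.Hpull jV F 0 e = 0 → e = 0) ∧
      (∀ (n : ℕ) (e : EtCoh.H X F (n + 1)),
        (EtCore.Hpull jU F (n + 1) e = 0 ∧ EtCore.Hpull jV F (n + 1) e = 0) ↔ ∃ y, δ n y = e) ∧
      (∀ (n : ℕ) (xU : EtCoh.H TU ((EtCoh.pull jU).obj F) n)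
        (xV : EtCoh.H TV ((EtCoh.pull jV).obj F) n),
        EtCore.HpullVia j'U jU jW wU F n xU - EtCore.HpullVia j'V jV jW wV F n xV = 0 ↔
          ∃ e, EtCore.Hpull jU F n e = xU ∧ EtCore.Hpull jV F n e = xV) ∧
      (∀ (n : ℕ) (y : EtCoh.H TW ((EtCoh.pull jW).obj F) n),
        δ n y = 0 ↔ ∃ xU xV,
          EtCore.HpullVia j'U jU jW wU F n xU - EtCore.HpullVia j'V jV jW wV F n xV = y) := by
  have iLU1 := Groth.Agent.H1.ExtZeroStalk.preservesFiniteLimits_extZero jU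
  have iLV1 := Groth.Agent.H1.ExtZeroStalk.preservesFiniteLimits_extZero jV
  have iLW1 := Groth.Agent.H1.ExtZeroStalk.preservesFiniteLimits_extZero jW
  have iLU2 := preservesFiniteColimits_extZero jU
  have iLV2 := preservesFiniteColimits_extZero jV
  have iLW2 := preservesFiniteColimits_extZero jW
  have ipW : PreservesFiniteLimits (EtCoh.pull jW) := Groth.Agent.S0101.result jW
  -- the hypotheses of the abstract theorem
  have H0 : (EtCore.pullConst j'U ℤ).inv ≫ (EtCoh.pull j'U).map (EtCore.pullConst jU ℤ).inv ≫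
      ((EtCore.pullComp j'U jU).symm ≪≫ EtCore.pullCongr wU).hom.app (EtCoh.const X ℤ) =
      (EtCore.pullConst j'V ℤ).inv ≫ (EtCoh.pull j'V).map (EtCore.pullConst jV ℤ).inv ≫
      ((EtCore.pullComp j'V jV).symm ≪≫ EtCore.pullCongr wV).hom.app (EtCoh.const X ℤ) := by
    apply (β jW (EtCoh.const X ℤ)).injective
    rw [β_HpullVia j'U jU jW wU _ _ (ι jW jU j'U wU), β_HpullVia j'V jV jW wV _ _ (ι jW jV j'V wV)]
    have eU : (EtCore.pullConst jU ℤ).inv =
        (EtCore.pullConst jU ℤ).inv ≫ (EtCoh.pull jU).map (𝟙 (EtCoh.const X ℤ)) := by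
      rw [CategoryTheory.Functor.map_id, Category.comp_id]
    have eV : (EtCore.pullConst jV ℤ).inv =
        (EtCore.pullConst jV ℤ).inv ≫ (EtCoh.pull jV).map (𝟙 (EtCoh.const X ℤ)) := by
      rw [CategoryTheory.Functor.map_id, Category.comp_id]
    rw [eU, eV, β_Hpull jU _ _ (π jU), β_Hpull jV _ _ (π jV), Groth.Agent.S0728.map_map,
      Groth.Agent.S0728.map_map,
      Groth.Agent.S0687.hom_top_ext (ι jW jU j'U wU ≫ π jU) (ι jW jV j'V wV ≫ π jV)]
  have H1a : ∀ (G : EtCoh.Ab X) (e : EtCoh.const X ℤ ⟶ G),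
      (EtCore.pullConst jU ℤ).inv ≫ (EtCoh.pull jU).map e = 0 →
      (EtCore.pullConst jV ℤ).inv ≫ (EtCoh.pull jV).map e = 0 → e = 0 := by
    intro G e hU hV
    apply (ev X G).injective
    rw [map_zero]
    apply eq_zero_of_cover (π jU) (π jV) (hcov' jU jV hcov) G
    · rw [← β_Hpull jU G e (π jU), hU, map_zero]
    · rw [← β_Hpull jV G e (π jV), hV, map_zero]
  have H1b : ∀ (G : EtCoh.Ab X) (xU : EtCoh.const TU ℤ ⟶ (EtCoh.pull jU).obj G)
      (xV : EtCoh.const TV ℤ ⟶ (EtCoh.pull jV).obj G),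
      (EtCore.pullConst j'U ℤ).inv ≫ (EtCoh.pull j'U).map xU ≫
        ((EtCore.pullComp j'U jU).symm ≪≫ EtCore.pullCongr wU).hom.app G =
      (EtCore.pullConst j'V ℤ).inv ≫ (EtCoh.pull j'V).map xV ≫
        ((EtCore.pullComp j'V jV).symm ≪≫ EtCore.pullCongr wV).hom.app G →
      ∃ e : EtCoh.const X ℤ ⟶ G, (EtCore.pullConst jU ℤ).inv ≫ (EtCoh.pull jU).map e = xU ∧
        (EtCore.pullConst jV ℤ).inv ≫ (EtCoh.pull jV).map e = xV := by
    intro G xU xV h
    have h' := congrArg (β jW G) h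
    rw [β_HpullVia j'U jU jW wU G xU (ι jW jU j'U wU),
      β_HpullVia j'V jV jW wV G xV (ι jW jV j'V wV)] at h'
    obtain ⟨s, hsU, hsV⟩ := exists_glue (π jU) (π jV) (ι jW jU j'U wU) (ι jW jV j'V wV)
      (hcov' jU jV hcov) (hfac jU jV jW j'U j'V wU wV hint) G _ _ h'
    refine ⟨(ev X G).symm s, ?_, ?_⟩
    · apply (β jU G).injective
      rw [β_Hpull jU G _ (π jU), AddEquiv.apply_symm_apply, hsU]
    · apply (β jV G).injective
      rw [β_Hpull jV G _ (π jV), AddEquiv.apply_symm_apply, hsV]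
  have H2 : ∀ (I : EtCoh.Ab X) [Injective I] (y : EtCoh.const TW ℤ ⟶ (EtCoh.pull jW).obj I),
      ∃ xU : EtCoh.const TU ℤ ⟶ (EtCoh.pull jU).obj I,
        (EtCore.pullConst j'U ℤ).inv ≫ (EtCoh.pull j'U).map xU ≫
          ((EtCore.pullComp j'U jU).symm ≪≫ EtCore.pullCongr wU).hom.app I = y := by
    intro I _ y
    obtain ⟨t, ht⟩ := Groth.Agent.S14452.surjective_map_of_injective I (ι jW jU j'U wU) (β jW I y)
    refine ⟨(β jU I).symm t, ?_⟩
    apply (β jW I).injective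
    rw [β_HpullVia j'U jU jW wU I _ (ι jW jU j'U wU), AddEquiv.apply_symm_apply, ht]
  exact MVAbs.exists_delta (adjL jU) (adjL jV) (adjL jW) (EtCoh.pull j'U) (EtCoh.pull j'V)
    ((EtCore.pullComp j'U jU).symm ≪≫ EtCore.pullCongr wU).hom
    ((EtCore.pullComp j'V jV).symm ≪≫ EtCore.pullCongr wV).hom
    (EtCore.pullConst jU ℤ).inv (EtCore.pullConst jV ℤ).inv
    (EtCore.pullConst j'U ℤ).inv (EtCore.pullConst j'V ℤ).inv H0 H1a H1b H2 F

end General

theorem main (X : Scheme.{u}) (U V : X.Opens) (hUV : U ⊔ V = ⊤) (F : EtCoh.Ab X)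
    [PreservesFiniteLimits (EtCoh.pull U.ι)] [PreservesFiniteLimits (EtCoh.pull V.ι)]
    [PreservesFiniteLimits (EtCoh.pull (X.homOfLE (inf_le_left : U ⊓ V ≤ U)))]
    [PreservesFiniteLimits (EtCoh.pull (X.homOfLE (inf_le_right : U ⊓ V ≤ V)))] :
    ∃ δ : ∀ n : ℕ, EtCoh.H ↑(U ⊓ V) ((EtCoh.pull (U ⊓ V).ι).obj F) n →+ EtCoh.H X F (n + 1),
      (AddMonoidHom.prod (EtCore.Hpull U.ι F 0) (EtCore.Hpull V.ι F 0)).ker = ⊥ ∧
      (∀ n : ℕ, (AddMonoidHom.prod (EtCore.Hpull U.ι F (n + 1)) (EtCore.Hpull V.ι F (n + 1))).ker = (δ n).range) ∧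
      (∀ n : ℕ, (((EtCore.HpullVia (X.homOfLE (inf_le_left : U ⊓ V ≤ U)) U.ι (U ⊓ V).ι (X.homOfLE_ι inf_le_left) F n)).comp (AddMonoidHom.fst _ _) - ((EtCore.HpullVia (X.homOfLE (inf_le_right : U ⊓ V ≤ V)) V.ι (U ⊓ V).ι (X.homOfLE_ι inf_le_right) F n)).comp (AddMonoidHom.snd _ _)).ker =
        (AddMonoidHom.prod (EtCore.Hpull U.ι F n) (EtCore.Hpull V.ι F n)).range) ∧
      (∀ n : ℕ, (δ n).ker = (((EtCore.HpullVia (X.homOfLE (inf_le_left : U ⊓ V ≤ U)) U.ι (U ⊓ V).ι (X.homOfLE_ι inf_le_left) F n)).comp (AddMonoidHom.fst _ _) - ((EtCore.HpullVia (X.homOfLE (inf_le_right : U ⊓ V ≤ V)) V.ι (U ⊓ V).ι (X.homOfLE_ι inf_le_right) F n)).comp (AddMonoidHom.snd _ _)).range) := by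
  have hcov : ∀ x : X, x ∈ Set.range U.ι.base ∨ x ∈ Set.range V.ι.base := by
    intro x
    rw [Scheme.Opens.range_ι, Scheme.Opens.range_ι]
    have : x ∈ U ⊔ V := by rw [hUV]; trivial
    exact this
  have hint : ∀ x : X, x ∈ Set.range U.ι.base → x ∈ Set.range V.ι.base →
      x ∈ Set.range (U ⊓ V).ι.base := by
    intro x
    rw [Scheme.Opens.range_ι, Scheme.Opens.range_ι, Scheme.Opens.range_ι]
    intro h1 h2
    exact ⟨h1, h2⟩
  obtain ⟨δ, h1, h2, h3, h4⟩ := mv_general U.ι V.ι (U ⊓ V).ι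
    (X.homOfLE (inf_le_left : U ⊓ V ≤ U)) (X.homOfLE (inf_le_right : U ⊓ V ≤ V))
    (X.homOfLE_ι inf_le_left) (X.homOfLE_ι inf_le_right) hcov hint F
  refine ⟨δ, ?_, ?_, ?_, ?_⟩
  · rw [AddSubgroup.eq_bot_iff_forall]
    intro e he
    rw [AddMonoidHom.mem_ker, AddMonoidHom.prod_apply, Prod.mk_eq_zero] at he
    exact h1 e he.1 he.2
  · intro n
    ext e
    rw [AddMonoidHom.mem_ker, AddMonoidHom.prod_apply, Prod.mk_eq_zero, AddMonoidHom.mem_range]
    exact h2 n e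
  · intro n
    ext ⟨xU, xV⟩
    rw [AddMonoidHom.mem_ker, AddMonoidHom.mem_range]
    constructor
    · intro h
      obtain ⟨e, he1, he2⟩ := (h3 n xU xV).1 h
      exact ⟨e, Prod.ext he1 he2⟩
    · rintro ⟨e, he⟩
      have he1 : EtCore.Hpull U.ι F n e = xU := congrArg Prod.fst he
      have he2 : EtCore.Hpull V.ι F n e = xV := congrArg Prod.snd he
      exact (h3 n xU xV).2 ⟨e, he1, he2⟩
  · intro n
    ext y
    rw [AddMonoidHom.mem_ker, AddMonoidHom.mem_range]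
    constructor
    · intro h
      obtain ⟨xU, xV, hx⟩ := (h4 n y).1 h
      exact ⟨(xU, xV), hx⟩
    · rintro ⟨⟨xU, xV⟩, hx⟩
      exact (h4 n y).2 ⟨xU, xV, hx⟩

/-- Let X = U ∪ V be a union of two open subschemes and F an abelian sheaf on the small etale site of X.
Writing r_U, r_V for the pullback maps H^n(X, F) -> H^n(U, F|_U), H^n(V, F|_V) and d for the
difference of the two further pullbacks to H^n(U ∩ V, F|_{U ∩ V}), there are connecting
homomorphisms δ_n : H^n(U ∩ V) -> H^{n+1}(X) making the Mayer-Vietoris sequence exact: (r_U, r_V) is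
injective in degree 0 and has kernel the image of δ in positive degrees, d has kernel the image of
(r_U, r_V), and δ has kernel the image of d. (Functoriality in F is not stated.) (Exactness of
pullback of abelian sheaves, which always holds, is carried as an instance hypothesis.) -/
theorem result (X : Scheme.{u}) (U V : X.Opens) (hUV : U ⊔ V = ⊤) (F : EtCoh.Ab X)
    [PreservesFiniteLimits (EtCoh.pull U.ι)] [PreservesFiniteLimits (EtCoh.pull V.ι)]
    [PreservesFiniteLimits (EtCoh.pull (X.homOfLE (inf_le_left : U ⊓ V ≤ U)))]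
    [PreservesFiniteLimits (EtCoh.pull (X.homOfLE (inf_le_right : U ⊓ V ≤ V)))] :
    ∃ δ : ∀ n : ℕ, EtCoh.H ↑(U ⊓ V) ((EtCoh.pull (U ⊓ V).ι).obj F) n →+ EtCoh.H X F (n + 1),
      (AddMonoidHom.prod (EtCore.Hpull U.ι F 0) (EtCore.Hpull V.ι F 0)).ker = ⊥ ∧
      (∀ n : ℕ, (AddMonoidHom.prod (EtCore.Hpull U.ι F (n + 1)) (EtCore.Hpull V.ι F (n + 1))).ker = (δ n).range) ∧
      (∀ n : ℕ, (((EtCore.HpullVia (X.homOfLE (inf_le_left : U ⊓ V ≤ U)) U.ι (U ⊓ V).ι (X.homOfLE_ι inf_le_left) F n)).comp (AddMonoidHom.fst _ _) - ((EtCore.HpullVia (X.homOfLE (inf_le_right : U ⊓ V ≤ V)) V.ι (U ⊓ V).ι (X.homOfLE_ι inf_le_right) F n)).comp (AddMonoidHom.snd _ _)).ker =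
        (AddMonoidHom.prod (EtCore.Hpull U.ι F n) (EtCore.Hpull V.ι F n)).range) ∧
      (∀ n : ℕ, (δ n).ker = (((EtCore.HpullVia (X.homOfLE (inf_le_left : U ⊓ V ≤ U)) U.ι (U ⊓ V).ι (X.homOfLE_ι inf_le_left) F n)).comp (AddMonoidHom.fst _ _) - ((EtCore.HpullVia (X.homOfLE (inf_le_right : U ⊓ V ≤ V)) V.ι (U ⊓ V).ι (X.homOfLE_ι inf_le_right) F n)).comp (AddMonoidHom.snd _ _)).range) := by
  exact main X U V hUV F

end Groth.Agent.S0659
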