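import Groth.Statements.S12223
import Groth.Agent.Lib.Helper1.SiteCompare
import Groth.Agent.Lib.Helper3.LanFlat

set_option autoImplicit false
open CategoryTheory CategoryTheory.Limits AlgebraicGeometry Opposite
universe u
open BigSite

namespace Groth.Agent.S12223

instance hasColimitsOfShape_costructuredArrow (X : Scheme.{u}) (K : (Over X)ᵒᵖ) :
    HasColimitsOfShape (CostructuredArrow (BigSite.zarIncl X).op K) AddCommGrpCat.{u + 1} := by
  have : HasColimitsOfSize.{u, u + 1} AddCommGrpCat.{u + 1} :=
    hasColimitsOfSizeShrink.{u, u + 1, u + 1, u + 1} _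
  infer_instance

instance hasLimitsOfShape_structuredArrow (X : Scheme.{u}) (K : (Over X)ᵒᵖ) :
    HasLimitsOfShape (StructuredArrow K (BigSite.zarIncl X).op) AddCommGrpCat.{u + 1} := by
  have : HasLimitsOfSize.{u, u + 1} AddCommGrpCat.{u + 1} :=
    hasLimitsOfSizeShrink.{u, u + 1, u + 1, u + 1} _
  infer_instance

theorem zarIncl_obj (X : Scheme.{u}) (U : X.Opens) :
    (BigSite.zarIncl X).obj U = Over.mk U.ι := rfl

/-- the lift of a morphism with range in `U` -/
noncomputable def liftL (X : Scheme.{u}) (K : Over X) (U : X.Opens)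
    (h : Set.range K.hom ⊆ (U : Set X)) : K.left ⟶ U.toScheme :=
  IsOpenImmersion.lift U.ι K.hom (by rw [Scheme.Opens.range_ι]; exact h)

theorem liftL_fac (X : Scheme.{u}) (K : Over X) (U : X.Opens)
    (h : Set.range K.hom ⊆ (U : Set X)) : liftL X K U h ≫ U.ι = K.hom :=
  IsOpenImmersion.lift_fac _ _ _

/-- a morphism into `zarIncl U` exists iff the range lies in `U` -/
noncomputable def liftTo (X : Scheme.{u}) (K : Over X) (U : X.Opens)
    (h : Set.range K.hom ⊆ (U : Set X)) : K ⟶ (BigSite.zarIncl X).obj U :=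
  Over.homMk (V := Over.mk U.ι) (liftL X K U h) (liftL_fac X K U h)

theorem range_subset_of_hom' (X : Scheme.{u}) (K : Over X) (U : X.Opens)
    (f : K ⟶ Over.mk U.ι) : Set.range K.hom ⊆ (U : Set X) := by
  have h : f.left ≫ U.ι = K.hom := Over.w f
  rw [← h]
  rintro _ ⟨x, rfl⟩
  exact (f.left x).2

theorem range_subset_of_hom (X : Scheme.{u}) (K : Over X) (U : X.Opens)
    (f : K ⟶ (BigSite.zarIncl X).obj U) : Set.range K.hom ⊆ (U : Set X) :=
  range_subset_of_hom' X K U f

theorem subsingleton_hom' (X : Scheme.{u}) (K : Over X) (U : X.Opens) :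
    Subsingleton (K ⟶ Over.mk U.ι) := by
  constructor
  intro f g
  ext
  have hf : f.left ≫ U.ι = K.hom := Over.w f
  have hg : g.left ≫ U.ι = K.hom := Over.w g
  exact (cancel_mono U.ι).1 (hf.trans hg.symm)

instance (X : Scheme.{u}) (K : Over X) (U : X.Opens) :
    Subsingleton (K ⟶ (BigSite.zarIncl X).obj U) := subsingleton_hom' X K U

instance (X : Scheme.{u}) (K : Over X) (A B : StructuredArrow K (BigSite.zarIncl X)) :
    Subsingleton (A ⟶ B) := by
  constructor
  intro f g
  apply StructuredArrow.hom_ext
  exact Subsingleton.elim _ _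

instance isCofiltered_structuredArrow (X : Scheme.{u}) (K : Over X) :
    IsCofiltered (StructuredArrow K (BigSite.zarIncl X)) where
  nonempty := ⟨StructuredArrow.mk (Y := (⊤ : X.Opens)) (liftTo X K ⊤ (by simp))⟩
  cone_objs A B := by
    have hA := range_subset_of_hom X K A.right A.hom
    have hB := range_subset_of_hom X K B.right B.hom
    refine ⟨StructuredArrow.mk (Y := A.right ⊓ B.right)
      (liftTo X K (A.right ⊓ B.right) (fun x hx => ⟨hA hx, hB hx⟩)),
      StructuredArrow.homMk (homOfLE inf_le_left) (Subsingleton.elim _ _),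
      StructuredArrow.homMk (homOfLE inf_le_right) (Subsingleton.elim _ _), trivial⟩
  cone_maps A B f g := ⟨A, 𝟙 A, Subsingleton.elim _ _⟩

instance representablyFlat_zarIncl (X : Scheme.{u}) : RepresentablyFlat (BigSite.zarIncl X) :=
  ⟨fun _ => inferInstance⟩

theorem preservesFiniteLimits_piZarPull (K : Precoverage Scheme.{u}) (X : Scheme.{u})
    [BigSite.ZarCont K X] :
    PreservesFiniteLimits (BigSite.piZarPull K X) := by
  have hfilt : ∀ Y : (Over X)ᵒᵖ, IsFiltered (CostructuredArrow (BigSite.zarIncl X).op Y) := fun Y ↦ by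
    have : IsFiltered (StructuredArrow (unop Y) (BigSite.zarIncl X))ᵒᵖ := inferInstance
    exact IsFiltered.of_equivalence (structuredArrowOpEquivalence (BigSite.zarIncl X) (unop Y))
  have hcolim : ∀ Y : (Over X)ᵒᵖ, PreservesFiniteLimits
      (colim : (CostructuredArrow (BigSite.zarIncl X).op Y ⥤ AddCommGrpCat.{u + 1}) ⥤ _) := by
    intro Y
    have := hfilt Y
    have : PreservesColimitsOfShape (CostructuredArrow (BigSite.zarIncl X).op Y)
        (forget AddCommGrpCat.{u + 1}) := by
      have h1 : PreservesFilteredColimitsOfSize.{u, u} (forget AddCommGrpCat.{u + 1}) :=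
        preservesFilteredColimitsOfSize_shrink.{u, u + 1, u, u + 1} _
      exact h1.preserves_filtered_colimits (CostructuredArrow (BigSite.zarIncl X).op Y)
    infer_instance
  have hlan : PreservesFiniteLimits ((BigSite.zarIncl X).op.lan :
      ((X.Opens)ᵒᵖ ⥤ AddCommGrpCat.{u + 1}) ⥤ (Over X)ᵒᵖ ⥤ AddCommGrpCat.{u + 1}) :=
    Groth.Agent.Lib.helper3.lan_preservesFiniteLimits_of_flat_gen _ (BigSite.zarIncl X)
  exact Functor.sheafPullbackConstruction.preservesFiniteLimits (BigSite.zarIncl X)
    AddCommGrpCat.{u + 1} (Opens.grothendieckTopology X) (QuotSh.J K X)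

instance isCocontinuous_zarIncl (X : Scheme.{u}) :
    (BigSite.zarIncl X).IsCocontinuous (Opens.grothendieckTopology X)
      (QuotSh.J Scheme.zariskiPrecoverage X) where
  cover_lift {U S} hS := by
    have hS' : Sieve.overEquiv _ S ∈ Scheme.grothendieckTopology @IsOpenImmersion U.toScheme :=
      (GrothendieckTopology.mem_over_iff _ _).1 hS
    obtain ⟨𝒰, h𝒰⟩ := Scheme.mem_grothendieckTopology_iff.1 hS'
    intro x hx
    obtain ⟨i, y, hy⟩ := 𝒰.exists_eq ⟨x, hx⟩
    have : IsOpenImmersion (𝒰.f i) := 𝒰.map_prop i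
    let V : X.Opens := (𝒰.f i ≫ U.ι).opensRange
    have hVU : V ≤ U := by
      rintro _ ⟨z, rfl⟩
      exact ((𝒰.f i) z).2
    refine ⟨V, homOfLE hVU, ?_, ?_⟩
    · have h1 : Sieve.overEquiv _ S (𝒰.f i) := h𝒰 _ _ (Presieve.ofArrows.mk i)
      have h2 : Sieve.overEquiv _ S ((𝒰.f i ≫ U.ι).isoOpensRange.inv ≫ 𝒰.f i) :=
        Sieve.downward_closed _ h1 _
      rw [Sieve.overEquiv_iff] at h2
      let e : Over.mk V.ι ⟶ Over.mk ((((𝒰.f i ≫ U.ι).isoOpensRange.inv ≫ 𝒰.f i)) ≫
          ((BigSite.zarIncl X).obj U).hom) :=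
        Over.homMk (𝟙 _) (by
          simp only [Over.mk_hom, Over.mk_left, Category.id_comp]
          change _ ≫ U.ι = _
          rw [Category.assoc]
          exact (Scheme.Hom.isoOpensRange_inv_comp (𝒰.f i ≫ U.ι)))
      have h3 := S.downward_closed h2 e
      change S.arrows ((BigSite.zarIncl X).map (homOfLE hVU))
      have h4 : (BigSite.zarIncl X).map (homOfLE hVU) = e ≫ Over.homMk
          ((Scheme.Hom.isoOpensRange (𝒰.f i ≫ U.ι)).inv ≫ 𝒰.f i) rfl :=
        Subsingleton.elim (α := (Over.mk V.ι ⟶ (BigSite.zarIncl X).obj U)) _ _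
      rw [h4]
      exact h3
    · exact ⟨y, by
        have := congrArg Subtype.val hy
        simpa using this⟩

theorem preservesFiniteLimits_resZar (K : Precoverage Scheme.{u}) (X : Scheme.{u})
    [BigSite.ZarCont K X] :
    PreservesFiniteLimits (BigSite.resZar K X) := by
  have : PreservesLimitsOfSize.{0, 0} (BigSite.resZar K X) :=
    (BigSite.piZarAdj K X).rightAdjoint_preservesLimits
  exact PreservesLimitsOfSize.preservesFiniteLimits _

theorem preservesFiniteColimits_resZar (X : Scheme.{u})
    [BigSite.ZarCont Scheme.zariskiPrecoverage X] :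
    PreservesFiniteColimits (BigSite.resZar Scheme.zariskiPrecoverage X) := by
  have : PreservesColimitsOfSize.{0, 0} (BigSite.resZar Scheme.zariskiPrecoverage X) :=
    ((BigSite.zarIncl X).sheafAdjunctionCocontinuous AddCommGrpCat.{u + 1}
      (Opens.grothendieckTopology X) (QuotSh.J Scheme.zariskiPrecoverage X)).leftAdjoint_preservesColimits
  exact PreservesColimitsOfSize.preservesFiniteColimits _

/-- the image of the top open is terminal in `Over X` -/
noncomputable def zarInclTopIsTerminal (X : Scheme.{u}) :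
    IsTerminal ((BigSite.zarIncl X).obj (⊤ : X.Opens)) :=
  IsTerminal.ofUniqueHom (fun K => liftTo X K ⊤ (by simp)) (fun K m => Subsingleton.elim _ _)

theorem main (X : Scheme.{u}) [BigSite.ZarCont Scheme.zariskiPrecoverage X]
    (F : BigSite.Ab Scheme.zariskiPrecoverage X) (p : ℕ) :
    Nonempty (EtZar.H ((BigSite.resZar Scheme.zariskiPrecoverage X).obj F) p ≃+
      BigSite.H Scheme.zariskiPrecoverage X F p) := by
  have i1 := preservesFiniteLimits_piZarPull Scheme.zariskiPrecoverage X
  have i2 : PreservesFiniteColimits (BigSite.piZarPull Scheme.zariskiPrecoverage X) := by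
    have : PreservesColimitsOfSize.{0, 0} (BigSite.piZarPull Scheme.zariskiPrecoverage X) :=
      (BigSite.piZarAdj Scheme.zariskiPrecoverage X).leftAdjoint_preservesColimits
    exact PreservesColimitsOfSize.preservesFiniteColimits _
  have i3 : (BigSite.piZarPull Scheme.zariskiPrecoverage X).Additive :=
    (BigSite.piZarAdj Scheme.zariskiPrecoverage X).left_adjoint_additive
  have i4 := preservesFiniteLimits_resZar Scheme.zariskiPrecoverage X
  have i5 := preservesFiniteColimits_resZar X
  exact Groth.Agent.H1.SiteCompare.nonempty_H_addEquiv (Opens.grothendieckTopology X)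
    (QuotSh.J Scheme.zariskiPrecoverage X) (BigSite.zarIncl X)
    (BigSite.piZarAdj Scheme.zariskiPrecoverage X)
    (isTerminalTop) (zarInclTopIsTerminal X) F p

/-- For a scheme X and an abelian sheaf F on the big Zariski site of X, the cohomology groups of the
restriction of F to the small Zariski site X_Zar agree with the cohomology groups of F on the big
site, in every degree p. Existence of an additive isomorphism only (the canonical comparison map is
not named here). The continuity of the inclusion of the small Zariski site into the big site is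
carried as an instance hypothesis; it always holds. -/
theorem result (X : Scheme.{u}) [BigSite.ZarCont Scheme.zariskiPrecoverage X]
    (F : BigSite.Ab Scheme.zariskiPrecoverage X) (p : ℕ) :
    Nonempty (EtZar.H ((BigSite.resZar Scheme.zariskiPrecoverage X).obj F) p ≃+
      BigSite.H Scheme.zariskiPrecoverage X F p) := by
  exact main X F p

end Groth.Agent.S12223
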