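import Groth.Statements.S0670
import Groth.Agent.Lib.Helper1.SiteCompare
import Groth.Agent.Lib.Helper1.HensLocalSection
import Groth.Agent.Lib.Helper3.LanFlat
import Groth.Agent.S12223

set_option autoImplicit false
open CategoryTheory CategoryTheory.Limits AlgebraicGeometry Opposite
universe u
open EtCore

namespace Groth.Agent.S0670

open Groth.Agent.S12223

instance (S : Scheme.{u}) : (EtFppf.a S).Full := inferInstanceAs (Scheme.Etale.forget S).Full

instance (S : Scheme.{u}) : (EtFppf.a S).Faithful := inferInstanceAs (Scheme.Etale.forget S).Faithful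

theorem a_zarToEt_obj (S : Scheme.{u}) (U : S.Opens) :
    (EtFppf.a S).obj ((EtZar.zarToEt S).obj U) = (BigSite.zarIncl S).obj U := rfl

instance (S : Scheme.{u}) (K : S.Etale) (U : S.Opens) :
    Subsingleton (K ⟶ (EtZar.zarToEt S).obj U) := by
  constructor
  intro f g
  apply (EtFppf.a S).map_injective
  exact Subsingleton.elim (α := ((EtFppf.a S).obj K ⟶ (BigSite.zarIncl S).obj U)) _ _

/-- a morphism into `zarToEt U` exists iff the range lies in `U` -/
noncomputable def liftToEt (S : Scheme.{u}) (K : S.Etale) (U : S.Opens)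
    (h : Set.range K.hom ⊆ (U : Set S)) : K ⟶ (EtZar.zarToEt S).obj U :=
  (EtFppf.a S).preimage (liftTo S ((EtFppf.a S).obj K) U h)

theorem range_subset_of_hom_et (S : Scheme.{u}) (K : S.Etale) (U : S.Opens)
    (f : K ⟶ (EtZar.zarToEt S).obj U) : Set.range K.hom ⊆ (U : Set S) :=
  range_subset_of_hom S ((EtFppf.a S).obj K) U ((EtFppf.a S).map f)

instance (S : Scheme.{u}) (K : S.Etale) (A B : StructuredArrow K (EtZar.zarToEt S)) :
    Subsingleton (A ⟶ B) := by
  constructor
  intro f g
  apply StructuredArrow.hom_ext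
  exact Subsingleton.elim _ _

instance isCofiltered_structuredArrow (S : Scheme.{u}) (K : S.Etale) :
    IsCofiltered (StructuredArrow K (EtZar.zarToEt S)) where
  nonempty := ⟨StructuredArrow.mk (Y := (⊤ : S.Opens)) (liftToEt S K ⊤ (by simp))⟩
  cone_objs A B := by
    have hA := range_subset_of_hom_et S K A.right A.hom
    have hB := range_subset_of_hom_et S K B.right B.hom
    refine ⟨StructuredArrow.mk (Y := A.right ⊓ B.right)
      (liftToEt S K (A.right ⊓ B.right) (fun x hx => ⟨hA hx, hB hx⟩)),
      StructuredArrow.homMk (homOfLE inf_le_left) (Subsingleton.elim _ _),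
      StructuredArrow.homMk (homOfLE inf_le_right) (Subsingleton.elim _ _), trivial⟩
  cone_maps A B f g := ⟨A, 𝟙 A, Subsingleton.elim _ _⟩

instance representablyFlat_zarToEt (S : Scheme.{u}) : RepresentablyFlat (EtZar.zarToEt S) :=
  ⟨fun _ => inferInstance⟩

theorem preservesFiniteLimits_sheafPullback (S : Scheme.{u}) [EtZar.ZarCont S] :
    PreservesFiniteLimits ((EtZar.zarToEt S).sheafPullback AddCommGrpCat.{u + 1}
      (Opens.grothendieckTopology S) S.smallEtaleTopology) := by
  have hfilt : ∀ Y : (S.Etale)ᵒᵖ, IsFiltered (CostructuredArrow (EtZar.zarToEt S).op Y) := fun Y ↦ by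
    have : IsFiltered (StructuredArrow (unop Y) (EtZar.zarToEt S))ᵒᵖ := inferInstance
    exact IsFiltered.of_equivalence (structuredArrowOpEquivalence (EtZar.zarToEt S) (unop Y))
  have hcolim : ∀ Y : (S.Etale)ᵒᵖ, PreservesFiniteLimits
      (colim : (CostructuredArrow (EtZar.zarToEt S).op Y ⥤ AddCommGrpCat.{u + 1}) ⥤ _) := by
    intro Y
    have := hfilt Y
    have : PreservesColimitsOfShape (CostructuredArrow (EtZar.zarToEt S).op Y)
        (forget AddCommGrpCat.{u + 1}) := by
      have h1 : PreservesFilteredColimitsOfSize.{u, u} (forget AddCommGrpCat.{u + 1}) :=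
        preservesFilteredColimitsOfSize_shrink.{u, u + 1, u, u + 1} _
      exact h1.preserves_filtered_colimits (CostructuredArrow (EtZar.zarToEt S).op Y)
    infer_instance
  have hlan : PreservesFiniteLimits ((EtZar.zarToEt S).op.lan :
      ((S.Opens)ᵒᵖ ⥤ AddCommGrpCat.{u + 1}) ⥤ (S.Etale)ᵒᵖ ⥤ AddCommGrpCat.{u + 1}) :=
    Groth.Agent.Lib.helper3.lan_preservesFiniteLimits_of_flat_gen _ (EtZar.zarToEt S)
  exact Functor.sheafPullbackConstruction.preservesFiniteLimits (EtZar.zarToEt S)
    AddCommGrpCat.{u + 1} (Opens.grothendieckTopology S) S.smallEtaleTopology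

theorem zarToEt_obj_hom (S : Scheme.{u}) (U : S.Opens) : ((EtZar.zarToEt S).obj U).hom = U.ι := rfl

theorem isCocontinuous_zarToEt (S : Scheme.{u})
    (hS : ∀ s : S, EtCoh.IsStrictlyHenselianLocalRing (S.presheaf.stalk s)) :
    (EtZar.zarToEt S).IsCocontinuous (Opens.grothendieckTopology S) S.smallEtaleTopology where
  cover_lift {U R} hR := by
    have hR' : R ∈ (S.smallPretopology @Etale @Etale).toGrothendieck ((EtZar.zarToEt S).obj U) := by
      rw [← Scheme.smallGrothendieckTopology_eq_toGrothendieck_smallPretopology S le_rfl]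
      exact hR
    have hR'' := (Scheme.mem_toGrothendieck_smallPretopology _ _).1 hR'
    intro x hx
    obtain ⟨Y, f, y, hRf, -, hy⟩ := hR'' (⟨x, hx⟩ : U.toScheme)
    have hYx : Y.hom y = x := by
      have h1 : f.left ≫ U.ι = Y.hom := MorphismProperty.Over.w f
      rw [← h1, Scheme.Hom.comp_apply, hy]
      rfl
    obtain ⟨h1, h2⟩ := hS (Y.hom y)
    have hE : Etale Y.hom := Y.prop
    obtain ⟨V, hxV, s, hs⟩ :=
      @Groth.Agent.H1.HensLocalSection.exists_local_section Y.left S Y.hom hE y h1 h2
    have hVU : V ≤ U := by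
      have hr : Set.range V.ι ⊆ Set.range U.ι := by
        have h1 : f.left ≫ U.ι = Y.hom := MorphismProperty.Over.w f
        rw [← hs, ← h1, ← Category.assoc]
        rintro _ ⟨z, rfl⟩
        exact ⟨(s ≫ f.left) z, rfl⟩
      rw [Scheme.Opens.range_ι, Scheme.Opens.range_ι] at hr
      exact hr
    refine ⟨V, homOfLE hVU, ?_, hYx ▸ hxV⟩
    let σ : (EtZar.zarToEt S).obj V ⟶ Y := MorphismProperty.Over.homMk s hs
    have h3 := R.downward_closed hRf σ
    change R.arrows ((EtZar.zarToEt S).map (homOfLE hVU))
    rw [Subsingleton.elim ((EtZar.zarToEt S).map (homOfLE hVU)) (σ ≫ f)]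
    exact h3

instance hasLimitsOfShape_structuredArrow (S : Scheme.{u}) (K : (S.Etale)ᵒᵖ) :
    HasLimitsOfShape (StructuredArrow K (EtZar.zarToEt S).op) AddCommGrpCat.{u + 1} := by
  have : HasLimitsOfSize.{u, u} AddCommGrpCat.{u + 1} :=
    hasLimitsOfSizeShrink.{u, u, u + 1, u + 1} _
  infer_instance

/-- the adjunction between the pullback and the restriction to the Zariski site -/
noncomputable abbrev zarAdj (S : Scheme.{u}) [EtZar.ZarCont S] :
    (EtZar.zarToEt S).sheafPullback AddCommGrpCat.{u + 1}
      (Opens.grothendieckTopology S) S.smallEtaleTopology ⊣ EtZar.resZar S :=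
  (EtZar.zarToEt S).sheafAdjunctionContinuous AddCommGrpCat.{u + 1}
    (Opens.grothendieckTopology S) S.smallEtaleTopology

instance (S : Scheme.{u}) [EtZar.ZarCont S] : (EtZar.resZar S).Additive where

theorem preservesFiniteLimits_resZar (S : Scheme.{u}) [EtZar.ZarCont S] :
    PreservesFiniteLimits (EtZar.resZar S) := by
  have : PreservesLimitsOfSize.{0, 0} (EtZar.resZar S) :=
    (zarAdj S).rightAdjoint_preservesLimits
  exact PreservesLimitsOfSize.preservesFiniteLimits _

theorem preservesFiniteColimits_resZar (S : Scheme.{u}) [EtZar.ZarCont S]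
    (hS : ∀ s : S, EtCoh.IsStrictlyHenselianLocalRing (S.presheaf.stalk s)) :
    PreservesFiniteColimits (EtZar.resZar S) := by
  have := isCocontinuous_zarToEt S hS
  have : PreservesColimitsOfSize.{0, 0} (EtZar.resZar S) :=
    ((EtZar.zarToEt S).sheafAdjunctionCocontinuous AddCommGrpCat.{u + 1}
      (Opens.grothendieckTopology S) S.smallEtaleTopology).leftAdjoint_preservesColimits
  exact PreservesColimitsOfSize.preservesFiniteColimits _

/-- the image of the top open is terminal in `S.Etale` -/
noncomputable def zarToEtTopIsTerminal (S : Scheme.{u}) :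
    IsTerminal ((EtZar.zarToEt S).obj (⊤ : S.Opens)) :=
  IsTerminal.ofUniqueHom (fun K => liftToEt S K ⊤ (by simp)) (fun K m => Subsingleton.elim _ _)

theorem main (S : Scheme.{u})
    (hS : ∀ s : S, EtCoh.IsStrictlyHenselianLocalRing (S.presheaf.stalk s)) [EtZar.ZarCont S]
    (F : EtCoh.Ab S) (i : ℕ) :
    Nonempty (EtCoh.H S F i ≃+ EtZar.H ((EtZar.resZar S).obj F) i) := by
  have i1 := preservesFiniteLimits_sheafPullback S
  have i2 : PreservesFiniteColimits ((EtZar.zarToEt S).sheafPullback AddCommGrpCat.{u + 1}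
      (Opens.grothendieckTopology S) S.smallEtaleTopology) := by
    have : PreservesColimitsOfSize.{0, 0} ((EtZar.zarToEt S).sheafPullback AddCommGrpCat.{u + 1}
      (Opens.grothendieckTopology S) S.smallEtaleTopology) :=
      (zarAdj S).leftAdjoint_preservesColimits
    exact PreservesColimitsOfSize.preservesFiniteColimits _
  have i3 : ((EtZar.zarToEt S).sheafPullback AddCommGrpCat.{u + 1}
      (Opens.grothendieckTopology S) S.smallEtaleTopology).Additive :=
    (zarAdj S).left_adjoint_additive
  have i4 := preservesFiniteLimits_resZar S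
  have i5 := preservesFiniteColimits_resZar S hS
  obtain ⟨e⟩ := Groth.Agent.H1.SiteCompare.nonempty_H_addEquiv (Opens.grothendieckTopology S)
    S.smallEtaleTopology (EtZar.zarToEt S) (zarAdj S)
    (isTerminalTop) (zarToEtTopIsTerminal S) F i
  exact ⟨e.symm⟩

/-- Suppose S is a scheme in which every local ring is strictly henselian. For any abelian sheaf F on
the small étale site of S and any degree i, the étale cohomology H^i(S, F) is isomorphic to the
Zariski cohomology in degree i of the restriction of F to the site of opens of S. (Continuity of the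
functor from opens of S to étale S-schemes is carried as an instance binder; only some isomorphism
is claimed to exist, whereas the published statement gives a canonical one.) -/
theorem result (S : Scheme.{u})
    (hS : ∀ s : S, EtCoh.IsStrictlyHenselianLocalRing (S.presheaf.stalk s)) [EtZar.ZarCont S]
    (F : EtCoh.Ab S) (i : ℕ) :
    Nonempty (EtCoh.H S F i ≃+ EtZar.H ((EtZar.resZar S).obj F) i) := by
  exact main S hS F i

end Groth.Agent.S0670
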