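import Groth.Statements.S0671
import Groth.Agent.Lib.Helper1.EtGerm

set_option autoImplicit false
open CategoryTheory CategoryTheory.Limits AlgebraicGeometry Opposite
universe u
open EtCore

namespace Groth.Agent.S0671

open Groth.Agent.H1.EtGerm

theorem isClosed_sectSupp {S : Scheme.{u}} (F : EtCoh.Ab S) (U : S.Etale) (σ : EtCoh.sect F U) :
    IsClosed (EtShriek.sectSupp F U σ) := by
  rw [← isOpen_compl_iff, isOpen_iff_forall_mem_open]
  intro x hx
  simp only [EtShriek.sectSupp, Set.mem_compl_iff, Set.mem_ofPred_eq, not_forall, not_not] at hx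
  obtain ⟨W, g, ⟨w, hw⟩, hσ⟩ := hx
  have := etale_left g
  refine ⟨Set.range g.left.base, ?_, g.left.isOpenMap.isOpen_range, ⟨w, hw⟩⟩
  rintro _ ⟨w', rfl⟩ h'
  exact h' W g ⟨w', rfl⟩ hσ

theorem range_eq_singleton {X : Scheme.{u}} {Ω : Type u} [Field Ω]
    (ξ : Spec (CommRingCat.of Ω) ⟶ X) : Set.range ξ.base = {ξ.base default} := by
  ext y
  constructor
  · rintro ⟨a, rfl⟩
    rw [Subsingleton.elim a default]
    rfl
  · rintro rfl
    exact ⟨default, rfl⟩

theorem main {S : Scheme.{u}} (F : EtCoh.Ab S) :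
    (∀ (U : S.Etale) (σ : EtCoh.sect F U), IsClosed (EtShriek.sectSupp F U σ)) ∧
    EtPBC.supp F = ⋃ (U : S.Etale) (σ : EtCoh.sect F U), U.hom.base '' EtShriek.sectSupp F U σ := by
  refine ⟨isClosed_sectSupp F, ?_⟩
  ext x
  simp only [EtPBC.supp, Set.mem_ofPred_eq, Set.mem_iUnion, Set.mem_image]
  constructor
  · rintro ⟨Ω, _, _, ξ, hξ, hne⟩
    have hex : ∃ t : (EtCoh.stalk ξ).obj F, t ≠ 0 := by
      by_contra hcon
      push Not at hcon
      apply hne
      have : Subsingleton ((EtCoh.stalk ξ).obj F) := ⟨fun a b => (hcon a).trans (hcon b).symm⟩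
      exact AddCommGrpCat.isZero_of_subsingleton _
    obtain ⟨t, ht⟩ := hex
    obtain ⟨U, y, s, rfl⟩ := germ_surjective F t
    refine ⟨U, s, y.hom.base default, ?_, ?_⟩
    · intro W g ⟨w, hw⟩ hs
      obtain ⟨z, hz, -⟩ := exists_lift_of_point g y w hw
      apply ht
      rw [← hz, ← germ_res, hs, map_zero]
    · have h1 : U.hom.base (y.hom.base default) = ξ.base default := by
        rw [← Scheme.Hom.comp_apply, y.hom_comp]
      rw [h1]
      have : ξ.base default ∈ Set.range ξ.base := ⟨default, rfl⟩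
      rw [hξ] at this
      exact this
  · rintro ⟨U, σ, u, hu, rfl⟩
    obtain ⟨ξ, y, hy⟩ := exists_geomPt_lift U u
    refine ⟨_, inferInstance, inferInstance, ξ, ?_, ?_⟩
    · rw [range_eq_singleton]
      congr 1
      rw [← y.hom_comp, Scheme.Hom.comp_apply, hy]
    · intro hz
      have h0 : germ ξ F U y σ = 0 := (AddCommGrpCat.subsingleton_of_isZero hz).elim _ _
      rw [germ_eq_zero_iff] at h0
      obtain ⟨V, g, z, hz', hs⟩ := h0
      refine hu V g ⟨z.hom.base default, ?_⟩ hs
      have h1 : (Lift.map g z).hom.base default = u := by rw [hz']; exact hy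
      exact h1

/-- For an abelian sheaf F on the small etale site of S and a section σ over an etale S-scheme U, the
support of σ is a closed subset of U; and a point of S has a nonzero geometric stalk exactly when it
is the image of a point lying in the support of some section over some etale S-scheme. -/
theorem result {S : Scheme.{u}} (F : EtCoh.Ab S) :
    (∀ (U : S.Etale) (σ : EtCoh.sect F U), IsClosed (EtShriek.sectSupp F U σ)) ∧
    EtPBC.supp F = ⋃ (U : S.Etale) (σ : EtCoh.sect F U), U.hom.base '' EtShriek.sectSupp F U σ := by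
  exact main F

end Groth.Agent.S0671
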