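import Groth.Statements.S0676
import Groth.Agent.Lib.Helper24.EtaleDescent
import Groth.Agent.Lib.Helper24.EtaleRetractions
-- import your own Groth.Agent.* helpers here

set_option autoImplicit false
open CategoryTheory CategoryTheory.Limits AlgebraicGeometry Opposite Topology
universe u
open ProEtW

namespace Groth.Agent.S0676

/-- If every faithfully flat etale A-algebra has an A-algebra retraction, then the same holds for the
quotient ring A/I for every ideal I. -/
theorem result (A : Type u) [CommRing A]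
    (h : ProEtW.HasEtaleRetractions A) (I : Ideal A) :
    ProEtW.HasEtaleRetractions (A ⧸ I) := by
  classical
  intro Bb _ _ hff het
  obtain ⟨Z, -, hZ⟩ := Groth.Agent.Lib.Helper24.EtaleDescent.exists_finite_descent (A ⧸ I) Bb
  obtain ⟨E₀, _, _, hE₀, ⟨θ⟩⟩ := hZ A (by
    intro z _
    exact Ideal.Quotient.mk_surjective z)
  letI : Algebra A Bb := ((algebraMap (A ⧸ I) Bb).comp (algebraMap A (A ⧸ I))).toAlgebra
  haveI : IsScalarTower A (A ⧸ I) Bb := .of_algebraMap_eq' rfl
  let ψ : E₀ →ₐ[A] Bb :=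
    (θ.restrictScalars A).toAlgHom.comp Algebra.TensorProduct.includeRight
  have hψ : ψ.toRingHom.comp (algebraMap A E₀) = algebraMap A Bb := ψ.comp_algebraMap
  -- the image of `Spec E₀` is open and contains `V(I)`
  have hopen : IsOpen (Set.range (PrimeSpectrum.comap (algebraMap A E₀))) :=
    (PrimeSpectrum.isOpenMap_comap_of_hasGoingDown_of_finitePresentation
      (R := A) (S := E₀)).isOpen_range
  set U : Set (PrimeSpectrum A) := Set.range (PrimeSpectrum.comap (algebraMap A E₀)) with hU
  have hIU : PrimeSpectrum.zeroLocus (I : Set A) ⊆ U := by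
    intro p hp
    have hp' : p ∈ Set.range (PrimeSpectrum.comap (Ideal.Quotient.mk I)) := by
      rw [_root_.range_comap_of_surjective _ _ Ideal.Quotient.mk_surjective, Ideal.mk_ker]
      exact hp
    obtain ⟨pb, rfl⟩ := hp'
    obtain ⟨qb, rfl⟩ := PrimeSpectrum.comap_surjective_of_faithfullyFlat (A := A ⧸ I) (B := Bb) pb
    refine ⟨PrimeSpectrum.comap ψ.toRingHom qb, ?_⟩
    rw [← PrimeSpectrum.comap_comp_apply, hψ]
    rfl
  have hclosed : IsClosed Uᶜ := hopen.isClosed_compl
  have hzl : PrimeSpectrum.zeroLocus (PrimeSpectrum.vanishingIdeal Uᶜ : Set A) = Uᶜ := by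
    rw [PrimeSpectrum.zeroLocus_vanishingIdeal_eq_closure, hclosed.closure_eq]
  have htop : I ⊔ PrimeSpectrum.vanishingIdeal Uᶜ = ⊤ := by
    by_contra hne
    obtain ⟨M, hM, hle⟩ := Ideal.exists_le_maximal _ hne
    have h1 : (⟨M, hM.isPrime⟩ : PrimeSpectrum A) ∈ U :=
      hIU ((PrimeSpectrum.mem_zeroLocus _ _).2 (show I ≤ M from le_sup_left.trans hle))
    have h2 : (⟨M, hM.isPrime⟩ : PrimeSpectrum A) ∈ Uᶜ := by
      rw [← hzl, PrimeSpectrum.mem_zeroLocus]
      exact (show PrimeSpectrum.vanishingIdeal Uᶜ ≤ M from le_sup_right.trans hle)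
    exact h2 h1
  obtain ⟨μ, hμI, j, hjJ, hμj⟩ := Submodule.mem_sup.1 ((Ideal.eq_top_iff_one _).1 htop)
  have hcover : ∀ p : PrimeSpectrum A, p ∉ U → μ ∉ p.asIdeal := by
    intro p hp hμp
    have hjp : j ∈ p.asIdeal := by
      have : p ∈ PrimeSpectrum.zeroLocus (PrimeSpectrum.vanishingIdeal Uᶜ : Set A) := by
        rw [hzl]
        exact hp
      exact (PrimeSpectrum.mem_zeroLocus _ _).1 this hjJ
    have : (1 : A) ∈ p.asIdeal := by
      rw [← hμj]
      exact p.asIdeal.add_mem hμp hjp
    exact p.isPrime.ne_top ((Ideal.eq_top_iff_one _).2 this)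
  have hEt : Algebra.Etale A (E₀ × Localization.Away μ) :=
    Groth.Agent.Lib.Helper24.EtaleRetractions.etale_prod E₀ (Localization.Away μ)
  have hflat : Module.Flat A (E₀ × Localization.Away μ) := inferInstance
  have hff' : Module.FaithfullyFlat A (E₀ × Localization.Away μ) := by
    apply Module.FaithfullyFlat.of_comap_surjective
    intro p
    by_cases hp : p ∈ U
    · obtain ⟨q', rfl⟩ := hp
      refine ⟨⟨q'.asIdeal.comap (RingHom.fst E₀ (Localization.Away μ)), inferInstance⟩, ?_⟩
      apply PrimeSpectrum.ext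
      show Ideal.comap (algebraMap A (E₀ × Localization.Away μ))
        (Ideal.comap (RingHom.fst E₀ (Localization.Away μ)) q'.asIdeal) = _
      rw [Ideal.comap_comap]
      rfl
    · have hμp := hcover p hp
      have hdisj : Disjoint (Submonoid.powers μ : Set A) (p.asIdeal : Set A) := by
        rw [Set.disjoint_left]
        rintro x ⟨n, rfl⟩ hx
        exact hμp (p.isPrime.mem_of_pow_mem n hx)
      have hprime := IsLocalization.isPrime_of_isPrime_disjoint (Submonoid.powers μ)
        (Localization.Away μ) p.asIdeal p.isPrime hdisj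
      have hcomap := IsLocalization.under_map_of_isPrime_disjoint (Submonoid.powers μ)
        (Localization.Away μ) p.isPrime hdisj
      refine ⟨⟨(Ideal.map (algebraMap A (Localization.Away μ)) p.asIdeal).comap
        (RingHom.snd E₀ (Localization.Away μ)), ?_⟩, ?_⟩
      · have := hprime
        exact Ideal.comap_isPrime _ _
      · apply PrimeSpectrum.ext
        show Ideal.comap (algebraMap A (E₀ × Localization.Away μ))
          (Ideal.comap (RingHom.snd E₀ (Localization.Away μ)) _) = _
        rw [Ideal.comap_comap]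
        exact hcomap
  obtain ⟨ρ⟩ := h (E₀ × Localization.Away μ) hff' hEt
  let ρm : E₀ × Localization.Away μ →ₐ[A] A ⧸ I := (Algebra.ofId A (A ⧸ I)).comp ρ
  have hsum : ρm (1, 0) + ρm (0, 1) = 1 := by
    rw [← map_add, Prod.mk_add_mk, add_zero, zero_add, ← Prod.one_eq_mk, map_one]
  have h01 : ρm (0, 1) = 0 := by
    obtain ⟨v, hv⟩ :=
      (IsLocalization.Away.algebraMap_isUnit (S := Localization.Away μ) μ).exists_right_inv
    have : ((0, 1) : E₀ × Localization.Away μ) = μ • ((0, v) : E₀ × Localization.Away μ) := by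
      rw [Prod.smul_mk, smul_zero, Algebra.smul_def, hv]
    rw [this, map_smul, Algebra.smul_def]
    have : algebraMap A (A ⧸ I) μ = 0 := Ideal.Quotient.eq_zero_iff_mem.2 hμI
    rw [this, zero_mul]
  have he1 : ρm (1, 0) = 1 := by rw [← hsum, h01, add_zero]
  let L : E₀ →ₗ[A] A ⧸ I := ρm.toLinearMap ∘ₗ LinearMap.inl A E₀ (Localization.Away μ)
  let L' : E₀ →ₐ[A] A ⧸ I := AlgHom.ofLinearMap L he1 (by
    intro x y
    show ρm (x * y, 0) = ρm (x, 0) * ρm (y, 0)
    rw [← map_mul, Prod.mk_mul_mk, mul_zero])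
  let T : TensorProduct A (A ⧸ I) E₀ →ₐ[A ⧸ I] A ⧸ I :=
    Algebra.TensorProduct.lift (Algebra.ofId (A ⧸ I) (A ⧸ I)) L' (fun _ _ => Commute.all _ _)
  exact ⟨T.comp θ.symm.toAlgHom⟩

end Groth.Agent.S0676
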