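import Groth.Statements.S0686
import Groth.Agent.Lib.Helper1.ExtZeroSect
import Groth.Agent.S0649

set_option autoImplicit false
open CategoryTheory CategoryTheory.Limits AlgebraicGeometry Opposite
universe u
open EtShriek

namespace Groth.Agent.S0686

open Groth.Agent.H1.EtGerm Groth.Agent.H1.FinPushStalk Groth.Agent.H1.EtStalkPull Groth.Agent.S0728
  Groth.Agent.S0687 Groth.Agent.H1.ExtZeroSect Groth.Agent.S0649

section

variable {X Xb Y : Scheme.{u}} (j : X ⟶ Xb) (fb : Xb ⟶ Y)

/-- `X ×_Y V → Xb ×_Y V` -/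
noncomputable def πL (V : Y.Etale) : pullback V.hom (j ≫ fb) ⟶ pullback V.hom fb :=
  pullback.lift (pullback.fst _ _) (pullback.snd _ _ ≫ j) (by rw [pullback.condition, Category.assoc])

theorem πL_fst (V : Y.Etale) :
    πL j fb V ≫ pullback.fst V.hom fb = pullback.fst V.hom (j ≫ fb) := pullback.lift_fst _ _ _

theorem πL_snd (V : Y.Etale) :
    πL j fb V ≫ pullback.snd V.hom fb = pullback.snd V.hom (j ≫ fb) ≫ j := pullback.lift_snd _ _ _

theorem isPullback_πL (V : Y.Etale) :
    IsPullback (πL j fb V) (pullback.snd V.hom (j ≫ fb)) (pullback.snd V.hom fb) j := by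
  refine IsPullback.of_right (h₁₂ := pullback.fst V.hom fb) (v₁₃ := V.hom) (h₂₂ := fb) ?_
    (πL_snd j fb V) (IsPullback.of_hasPullback V.hom fb)
  rw [πL_fst]
  exact IsPullback.of_hasPullback V.hom (j ≫ fb)

theorem isOpenImmersion_πL [IsOpenImmersion j] (V : Y.Etale) : IsOpenImmersion (πL j fb V) :=
  MorphismProperty.of_isPullback (P := @IsOpenImmersion) (isPullback_πL j fb V).flip inferInstance

theorem mem_range_πL (V : Y.Etale) (e : ↑(pullback V.hom fb))
    (he : (pullback.snd V.hom fb).base e ∈ Set.range j.base) : e ∈ Set.range (πL j fb V).base := by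
  obtain ⟨x, hx⟩ := he
  obtain ⟨z, hz1, -⟩ := Scheme.Pullback.exists_preimage_pullback
    (f := pullback.snd V.hom fb) (g := j) e x hx.symm
  refine ⟨(isPullback_πL j fb V).isoPullback.inv.base z, ?_⟩
  rw [← hz1, ← Scheme.Hom.comp_apply, IsPullback.isoPullback_inv_fst]

/-- `X ×_Y V` -/
noncomputable abbrev WV (V : Y.Etale) : X.Etale := (EtCoh.bc (j ≫ fb)).obj V

/-- `Xb ×_Y V` -/
noncomputable abbrev EV (V : Y.Etale) : Xb.Etale := (EtCoh.bc fb).obj V

variable [IsOpenImmersion j]

/-- `X ×_Y V → Xb ×_Y V` in the small etale site of `Xb` -/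
noncomputable def πV (V : Y.Etale) : (EtShriek.compEtale j).obj (WV j fb V) ⟶ EV fb V :=
  MorphismProperty.Over.homMk (πL j fb V) (πL_snd j fb V) trivial

theorem πV_left (V : Y.Etale) : (πV j fb V).left = πL j fb V := rfl

theorem πV_naturality {V V' : Y.Etale} (k : V' ⟶ V) :
    (EtShriek.compEtale j).map ((EtCoh.bc (j ≫ fb)).map k) ≫ πV j fb V =
      πV j fb V' ≫ (EtCoh.bc fb).map k := by
  apply MorphismProperty.Over.Hom.ext
  change ((EtCoh.bc (j ≫ fb)).map k).left ≫ πL j fb V = πL j fb V' ≫ ((EtCoh.bc fb).map k).left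
  apply pullback.hom_ext
  · simp only [Category.assoc]
    exact ((congrArg (fun m => ((EtCoh.bc (j ≫ fb)).map k).left ≫ m) (πL_fst j fb V)).trans
      (bc_map_fst (j ≫ fb) k)).trans
      (((congrArg (fun m => πL j fb V' ≫ m) (bc_map_fst fb k)).trans
        ((Category.assoc _ _ _).symm.trans
          (congrArg (fun m => m ≫ k.left) (πL_fst j fb V')))).symm)
  · simp only [Category.assoc]
    exact ((congrArg (fun m => ((EtCoh.bc (j ≫ fb)).map k).left ≫ m) (πL_snd j fb V)).trans
      ((Category.assoc _ _ _).symm.trans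
        (congrArg (fun m => m ≫ j) (bc_map_snd (j ≫ fb) k)))).trans
      (((congrArg (fun m => πL j fb V' ≫ m) (bc_map_snd fb k)).trans (πL_snd j fb V')).symm)


theorem hπV (V : Y.Etale) (e : (EV fb V).left)
    (he : (EV fb V).hom.base e ∈ Set.range j.base) : e ∈ Set.range (πV j fb V).left.base :=
  mem_range_πL j fb V e he

variable [IsProper fb] [EtShriek.JCont j] (F : EtCoh.Ab X)

/-- restriction of sections of `j_! F` over `Xb ×_Y V` to `X ×_Y V` -/
noncomputable def ρ (V : Y.Etale) :
    (G j F).obj.obj (op (EV fb V)) →+ F.obj.obj (op (WV j fb V)) :=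
  (AddEquiv.ofBijective (uA j F (WV j fb V))
    (uA_bijective j F _)).symm.toAddMonoidHom.comp ((G j F).obj.map (πV j fb V).op).hom

omit [IsProper fb] in
theorem uA_ρ (V : Y.Etale) (t : (G j F).obj.obj (op (EV fb V))) :
    uA j F (WV j fb V) (ρ j fb F V t) = (G j F).obj.map (πV j fb V).op t :=
  (AddEquiv.ofBijective (uA j F (WV j fb V)) (uA_bijective j F _)).apply_symm_apply _

omit [IsProper fb] in
theorem ρ_injective (V : Y.Etale) : Function.Injective (ρ j fb F V) := by
  rw [injective_iff_map_eq_zero]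
  intro t ht
  apply eq_zero_of_map_π j F (πV j fb V) (hπV j fb V) t
  rw [← uA_ρ, ht, map_zero]

omit [IsProper fb] in
theorem ρ_naturality {V V' : Y.Etale} (k : V' ⟶ V) (t : (G j F).obj.obj (op (EV fb V))) :
    F.obj.map ((EtCoh.bc (j ≫ fb)).map k).op (ρ j fb F V t) =
      ρ j fb F V' ((G j F).obj.map ((EtCoh.bc fb).map k).op t) := by
  apply (uA_bijective j F _).1
  rw [uA_naturality, uA_ρ, uA_ρ, map_map, map_map, πV_naturality]

theorem ρ_mem (V : Y.Etale) (t : (G j F).obj.obj (op (EV fb V))) :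
    ρ j fb F V t ∈ shriekSubgroup (j ≫ fb) F V := by
  apply AddSubgroup.subset_closure
  intro V' k
  rw [ρ_naturality]
  have := isOpenImmersion_πL j fb V'
  have hoi : IsOpenImmersion (πV j fb V').left := this
  obtain ⟨Z, hZcl, hsub, hcl⟩ := exists_closed_of_map_π j F (πV j fb V') (hπV j fb V')
    ((G j F).obj.map ((EtCoh.bc fb).map k).op t) _ (uA_ρ j fb F V' _)
  exact ⟨Z, hsub, isProperOver_of_isClosed_image (πL j fb V') (pullback.fst V'.hom fb)
    (prV (j ≫ fb) V') (πL_fst j fb V').symm Z hZcl hcl⟩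

theorem exists_ρ_of_mem (V : Y.Etale) (s : F.obj.obj (op (WV j fb V)))
    (hs : s ∈ shriekSubgroup (j ≫ fb) F V) : ∃ t, ρ j fb F V t = s := by
  have hle : shriekSubgroup (j ≫ fb) F V ≤ (ρ j fb F V).range := by
    apply (AddSubgroup.closure_le _).2
    intro s hs
    have h := hs V (𝟙 V)
    have e : F.obj.map ((EtCoh.bc (j ≫ fb)).map (𝟙 V)).op s = s := by
      rw [CategoryTheory.Functor.map_id, op_id, CategoryTheory.Functor.map_id]
      rfl
    rw [e] at h
    obtain ⟨Z, hsub, hprop⟩ := h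
    have hcl := isClosed_image_of_isProperOver (πL j fb V) (pullback.fst V.hom fb)
      (prV (j ≫ fb) V) (πL_fst j fb V).symm Z hprop
    have := isOpenImmersion_πL j fb V
    have hoi : IsOpenImmersion (πV j fb V).left := this
    obtain ⟨t, ht⟩ := exists_of_closed_image j F (πV j fb V) s Z hsub hcl
    refine ⟨t, ?_⟩
    apply (uA_bijective j F _).1
    rw [uA_ρ, ht]
  exact hle hs


theorem uA_app {F F' : EtCoh.Ab X} (α : F ⟶ F') (W : X.Etale) (s : F.obj.obj (op W)) :
    uA j F' W (α.hom.app (op W) s) =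
      ((EtShriek.extZero j).map α).hom.app (op ((EtShriek.compEtale j).obj W)) (uA j F W s) := by
  have h := (EtShriek.extZeroAdj j).unit.naturality α
  have h2 := congrArg (fun m => (ConcreteCategory.hom (m.hom.app (op W))) s) h
  exact h2

omit [IsProper fb] in
theorem ρ_natF {F F' : EtCoh.Ab X} (α : F ⟶ F') (V : Y.Etale)
    (t : (G j F).obj.obj (op (EV fb V))) :
    ρ j fb F' V (((EtShriek.extZero j).map α).hom.app (op (EV fb V)) t) =
      α.hom.app (op (WV j fb V)) (ρ j fb F V t) := by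
  apply (uA_bijective j F' _).1
  rw [uA_ρ, uA_app, uA_ρ]
  have h := ((EtShriek.extZero j).map α).hom.naturality (πV j fb V).op
  exact (congrArg (fun m => (ConcreteCategory.hom m) t) h).symm

/-- the comparison of presheaves `fb_* j_! F → (sections with proper support)` -/
noncomputable def Φ : ((EtShriek.extZero j ⋙ EtCoh.push fb).obj F).obj ⟶
    lowerShriekPre (j ≫ fb) F where
  app V := AddCommGrpCat.ofHom ((ρ j fb F V.unop).codRestrict (shriekSubgroup (j ≫ fb) F V.unop)
    (fun t => ρ_mem j fb F V.unop t))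
  naturality V V' k := by
    ext t
    apply Subtype.ext
    exact (ρ_naturality j fb F k.unop t).symm

theorem isIso_Φ : IsIso (Φ j fb F) := by
  have h : ∀ V, IsIso ((Φ j fb F).app V) := by
    intro V
    apply (ConcreteCategory.isIso_iff_bijective _).mpr
    constructor
    · intro t t' h
      apply ρ_injective j fb F V.unop
      exact congrArg Subtype.val h
    · rintro ⟨s, hs⟩
      obtain ⟨t, ht⟩ := exists_ρ_of_mem j fb F V.unop s hs
      exact ⟨t, Subtype.ext ht⟩
  exact NatIso.isIso_of_isIso_app _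

/-- the comparison as an isomorphism of functors to presheaves -/
noncomputable def Θ : (EtShriek.extZero j ⋙ EtCoh.push fb) ⋙
      sheafToPresheaf Y.smallEtaleTopology AddCommGrpCat.{u + 1} ≅
    lowerShriekPreFunctor (j ≫ fb) :=
  NatIso.ofComponents (fun F => @asIso _ _ _ _ (Φ j fb F) (isIso_Φ j fb F)) (by
    intro F F' α
    ext V t
    apply Subtype.ext
    exact ρ_natF j fb α V.unop t)

theorem main : Nonempty (EtShriek.lowerShriek (j ≫ fb) ≅ EtShriek.extZero j ⋙ EtCoh.push fb) :=
  ⟨Functor.isoWhiskerRight (Θ j fb).symm (presheafToSheaf _ _) ≪≫ Functor.associator _ _ _ ≪≫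
    Functor.isoWhiskerLeft _ (sheafificationNatIso _ _).symm ≪≫ Functor.rightUnitor _⟩

end


theorem main' {X Xb Y : Scheme.{u}} (j : X ⟶ Xb) [IsOpenImmersion j]
    (fb : Xb ⟶ Y) [IsProper fb] (f : X ⟶ Y) (hf : f = j ≫ fb) [EtShriek.JCont j] :
    Nonempty (EtShriek.lowerShriek f ≅ EtShriek.extZero j ⋙ EtCoh.push fb) := by
  subst hf
  exact main j fb

/-- Let j : X -> Xbar be an open immersion and fbar : Xbar -> Y proper, f = fbar o j. Then f_! is
isomorphic to fbar_* o j_! as functors on abelian etale sheaves. (The source's isomorphism is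
canonical; here existence.) -/
theorem result {X Xb Y : Scheme.{u}} (j : X ⟶ Xb) [IsOpenImmersion j]
    (fb : Xb ⟶ Y) [IsProper fb] (f : X ⟶ Y) (hf : f = j ≫ fb) [EtShriek.JCont j] :
    Nonempty (EtShriek.lowerShriek f ≅ EtShriek.extZero j ⋙ EtCoh.push fb) := by
  exact main' j fb f hf

end Groth.Agent.S0686
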