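import Groth.Statements.S0728
import Groth.Agent.Lib.Helper1.ClopenExt
import Mathlib.AlgebraicGeometry.PullbackCarrier
import Mathlib.AlgebraicGeometry.Morphisms.FormallyUnramified

set_option autoImplicit false
open CategoryTheory CategoryTheory.Limits AlgebraicGeometry Opposite
universe u
open EtShriek

namespace Groth.Agent.S0728

open Groth.Agent.H1.EtGerm Groth.Agent.H1.FinPushStalk

variable {X : Scheme.{u}}

/-- a morphism whose image lies in an open factors through the open -/
theorem exists_fac_open {T N : X.Etale} (V : T.left.Opens) (n : N ⟶ T)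
    (hn : ∀ x : N.left, n.left.base x ∈ V) :
    ∃ n' : N ⟶ restrictOpen T V, n' ≫ restrictOpenι T V = n := by
  have hr : Set.range n.left.base ⊆ Set.range V.ι.base := by
    rw [Scheme.Opens.range_ι]
    rintro _ ⟨x, rfl⟩
    exact hn x
  let l : N.left ⟶ V.toScheme := IsOpenImmersion.lift V.ι n.left hr
  have hl : l ≫ V.ι = n.left := IsOpenImmersion.lift_fac _ _ hr
  refine ⟨MorphismProperty.Over.homMk l (by
    change l ≫ V.ι ≫ T.hom = N.hom
    rw [← Category.assoc, hl]
    exact MorphismProperty.Over.w n) trivial, ?_⟩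
  exact MorphismProperty.Over.Hom.ext hl

theorem map_eq_zero_of_fac (F : EtCoh.Ab X) {T N : X.Etale} (V : T.left.Opens)
    (s : F.obj.obj (op T)) (hs : F.obj.map (restrictOpenι T V).op s = 0) (n : N ⟶ T)
    (hn : ∀ x : N.left, n.left.base x ∈ V) : F.obj.map n.op s = 0 := by
  obtain ⟨n', rfl⟩ := exists_fac_open V n hn
  rw [op_comp, Functor.map_comp]
  change F.obj.map n'.op (F.obj.map (restrictOpenι T V).op s) = 0
  rw [hs, map_zero]

theorem ι_mem {T : X.Etale} (V : T.left.Opens) (x : (restrictOpen T V).left) :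
    (restrictOpenι T V).left.base x ∈ V := by
  exact x.2

theorem sectSupp_subset_iff (F : EtCoh.Ab X) (U : X.Etale) (V : U.left.Opens)
    (s : F.obj.obj (op U)) :
    sectSupp F U s ⊆ (V : Set U.left)ᶜ ↔ F.obj.map (restrictOpenι U V).op s = 0 := by
  constructor
  · intro h
    have hV : ∀ x, x ∈ V → x ∈ vanishOpen F U s := by
      intro x hx
      by_contra hx'
      exact h (show x ∈ sectSupp F U s from fun W g ⟨w, hw⟩ h0 => hx' ⟨W, g, ⟨w, hw⟩, h0⟩) hx
    exact map_eq_zero_of_fac F (vanishOpen F U s) s (map_restrictOpenι_vanishOpen F U s) _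
      (fun x => hV _ (ι_mem V x))
  · intro h x hx hxV
    exact hx (restrictOpen U V) (restrictOpenι U V) ⟨⟨x, hxV⟩, rfl⟩ h

theorem subsingleton_tensor {A B S : Scheme.{u}} {f : A ⟶ S} {g : B ⟶ S}
    (T : Scheme.Pullback.Triplet f g)
    (h : Function.Bijective (f.residueFieldMap T.x)) : Subsingleton (Spec T.tensor) := by
  have h1 : IsIso (f.residueFieldMap T.x) := (ConcreteCategory.isIso_iff_bijective _).mpr h
  have h2 : IsIso T.tensorInr := by
    unfold Scheme.Pullback.Triplet.tensorInr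
    have h3 : IsIso ((S.residueFieldCongr T.hx).inv ≫ f.residueFieldMap T.x) := inferInstance
    exact pushout_inr_iso_of_left_iso _ _
  constructor
  intro a b
  have : IsIso (Spec.map T.tensorInr) := inferInstance
  apply (Spec.map T.tensorInr).isOpenEmbedding.injective
  exact Subsingleton.elim _ _

theorem pullback_point_ext {A B S : Scheme.{u}} {f : A ⟶ S} {g : B ⟶ S} (p q : ↑(pullback f g))
    (x : A) (h1 : pullback.fst f g p = x) (h1' : pullback.fst f g q = x)
    (h2 : pullback.snd f g p = pullback.snd f g q)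
    (h : Function.Bijective (f.residueFieldMap x)) : p = q := by
  subst h1'
  apply Scheme.Pullback.carrierEquiv.injective
  apply Scheme.Pullback.carrierEquiv_eq_iff.mpr
  have e : Scheme.Pullback.Triplet.ofPoint p = Scheme.Pullback.Triplet.ofPoint q :=
    Scheme.Pullback.Triplet.ext h1 h2
  refine ⟨e, ?_⟩
  have : Subsingleton (Spec (Scheme.Pullback.carrierEquiv q).fst.tensor) :=
    subsingleton_tensor (Scheme.Pullback.Triplet.ofPoint q) h
  exact Subsingleton.elim _ _


/-- the open locus where two lifts along an etale map agree -/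
theorem exists_eqOpen {U' U W : X.Etale} (φ : U' ⟶ U) (gi gj : W ⟶ U') (h : gi ≫ φ = gj ≫ φ) :
    ∃ E : W.left.Opens, restrictOpenι W E ≫ gi = restrictOpenι W E ≫ gj ∧
      ∀ w : W.left, gi.left.base w = gj.left.base w →
        Function.Bijective (φ.left.residueFieldMap (gi.left.base w)) → w ∈ E := by
  have h' : gi.left ≫ φ.left = gj.left ≫ φ.left := congrArg (fun k => k.left) h
  have : Etale φ.left := etale_left φ
  obtain ⟨Δ, hΔ⟩ : ∃ Δ, Δ = pullback.diagonal φ.left := ⟨_, rfl⟩
  have hΔo : IsOpenImmersion Δ := by rw [hΔ]; infer_instance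
  have hΔ1 : Δ ≫ pullback.fst φ.left φ.left = 𝟙 _ := by rw [hΔ]; exact pullback.diagonal_fst _
  have hΔ2 : Δ ≫ pullback.snd φ.left φ.left = 𝟙 _ := by rw [hΔ]; exact pullback.diagonal_snd _
  obtain ⟨L, hL⟩ : ∃ L, L = pullback.lift gi.left gj.left h' := ⟨_, rfl⟩
  have hL1 : L ≫ pullback.fst φ.left φ.left = gi.left := by rw [hL]; exact pullback.lift_fst _ _ _
  have hL2 : L ≫ pullback.snd φ.left φ.left = gj.left := by rw [hL]; exact pullback.lift_snd _ _ _
  refine ⟨L ⁻¹ᵁ Δ.opensRange, ?_, ?_⟩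
  · have hr : Set.range ((L ⁻¹ᵁ Δ.opensRange).ι ≫ L).base ⊆ Set.range Δ.base := by
      rintro _ ⟨e, rfl⟩
      exact e.2
    obtain ⟨l, hl⟩ : ∃ l, l ≫ Δ = (L ⁻¹ᵁ Δ.opensRange).ι ≫ L :=
      ⟨IsOpenImmersion.lift Δ ((L ⁻¹ᵁ Δ.opensRange).ι ≫ L) hr, IsOpenImmersion.lift_fac _ _ hr⟩
    apply MorphismProperty.Over.Hom.ext
    change (L ⁻¹ᵁ Δ.opensRange).ι ≫ gi.left = (L ⁻¹ᵁ Δ.opensRange).ι ≫ gj.left
    have e1 : (L ⁻¹ᵁ Δ.opensRange).ι ≫ gi.left = l := by
      rw [← hL1, ← Category.assoc, ← hl, Category.assoc, hΔ1, Category.comp_id]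
    have e2 : (L ⁻¹ᵁ Δ.opensRange).ι ≫ gj.left = l := by
      rw [← hL2, ← Category.assoc, ← hl, Category.assoc, hΔ2, Category.comp_id]
    rw [e1, e2]
  · intro w hw hb
    change L.base w ∈ Set.range Δ.base
    refine ⟨gi.left.base w, ?_⟩
    symm
    have a1 : (pullback.fst φ.left φ.left).base (L.base w) = gi.left.base w := by
      rw [← hL1]; rfl
    have a2 : (pullback.snd φ.left φ.left).base (L.base w) = gj.left.base w := by
      rw [← hL2]; rfl
    have b1 : (pullback.fst φ.left φ.left).base (Δ.base (gi.left.base w)) = gi.left.base w := by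
      change (Δ ≫ pullback.fst φ.left φ.left).base (gi.left.base w) = _
      rw [hΔ1]; rfl
    have b2 : (pullback.snd φ.left φ.left).base (Δ.base (gi.left.base w)) = gi.left.base w := by
      change (Δ ≫ pullback.snd φ.left φ.left).base (gi.left.base w) = _
      rw [hΔ2]; rfl
    exact pullback_point_ext _ _ (gi.left.base w) a1 b1 (a2.trans (hw.symm.trans b2.symm)) hb


/-- the two-member family `U' ⊔ (U ∖ Z) → U` -/
noncomputable def fam {U U' : X.Etale} (φ : U' ⟶ U) (V : U.left.Opens) : Bool → X.Etale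
  | true => U'
  | false => restrictOpen U V

/-- the two-member family `U' ⊔ (U ∖ Z) → U` -/
noncomputable def famι {U U' : X.Etale} (φ : U' ⟶ U) (V : U.left.Opens) : ∀ i, fam φ V i ⟶ U
  | true => φ
  | false => restrictOpenι U V

theorem generate_mem {U U' : X.Etale} (φ : U' ⟶ U) (V : U.left.Opens)
    (h : ∀ x : U.left, x ∉ V → x ∈ Set.range φ.left.base) :
    Sieve.generate (Presieve.ofArrows (fam φ V) (famι φ V)) ∈ X.smallEtaleTopology U := by
  apply Groth.Agent.H1.ClosedDense.mem_smallEtaleTopology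
  intro x
  by_cases hx : x ∈ V
  · exact ⟨restrictOpen U V, restrictOpenι U V, ⟨x, hx⟩,
      ⟨_, 𝟙 _, famι φ V false, Presieve.ofArrows.mk (ι := Bool) false, Category.id_comp _⟩, rfl⟩
  · obtain ⟨y, hy⟩ := h x hx
    exact ⟨U', φ, y,
      ⟨_, 𝟙 _, famι φ V true, Presieve.ofArrows.mk (ι := Bool) true, Category.id_comp _⟩, hy⟩

theorem map_map (F : EtCoh.Ab X) {A B C : X.Etale} (f : A ⟶ B) (g : B ⟶ C)
    (s : F.obj.obj (op C)) : F.obj.map f.op (F.obj.map g.op s) = F.obj.map (f ≫ g).op s := by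
  rw [op_comp, Functor.map_comp]
  rfl

theorem comp_base {A B C : X.Etale} (f : A ⟶ B) (g : B ⟶ C) (a : A.left) :
    (f ≫ g).left.base a = g.left.base (f.left.base a) := rfl

theorem compat_tt (F : EtCoh.Ab X) {U U' : X.Etale} (φ : U' ⟶ U) (V : U.left.Opens)
    (hinj : ∀ a b : U'.left, φ.left.base a ∉ V → φ.left.base a = φ.left.base b → a = b)
    (hres : ∀ x, φ.left.base x ∉ V → Function.Bijective (φ.left.residueFieldMap x))
    (s' : F.obj.obj (op U')) (hs' : F.obj.map (restrictOpenι U' (φ.left ⁻¹ᵁ V)).op s' = 0)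
    {W : X.Etale} (gi gj : W ⟶ U') (hg : gi ≫ φ = gj ≫ φ) :
    F.obj.map gi.op s' = F.obj.map gj.op s' := by
  have hpt : ∀ w : W.left, φ.left.base (gi.left.base w) = φ.left.base (gj.left.base w) := by
    intro w
    have := congrArg (fun k => k.left.base w) hg
    exact this
  apply sub_eq_zero.mp
  apply eq_zero_of_locally
  intro w
  by_cases hw : φ.left.base (gi.left.base w) ∈ V
  · refine ⟨restrictOpen W (gi.left ⁻¹ᵁ (φ.left ⁻¹ᵁ V)), restrictOpenι W _, ⟨⟨w, hw⟩, rfl⟩, ?_⟩
    rw [map_sub, map_map, map_map]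
    have z1 : F.obj.map (restrictOpenι W (gi.left ⁻¹ᵁ (φ.left ⁻¹ᵁ V)) ≫ gi).op s' = 0 :=
      map_eq_zero_of_fac F (φ.left ⁻¹ᵁ V) s' hs' _ (fun y => ι_mem (gi.left ⁻¹ᵁ (φ.left ⁻¹ᵁ V)) y)
    have z2 : F.obj.map (restrictOpenι W (gi.left ⁻¹ᵁ (φ.left ⁻¹ᵁ V)) ≫ gj).op s' = 0 := by
      refine map_eq_zero_of_fac F (φ.left ⁻¹ᵁ V) s' hs' _ (fun y => ?_)
      have := ι_mem (gi.left ⁻¹ᵁ (φ.left ⁻¹ᵁ V)) y
      change φ.left.base (gj.left.base _) ∈ V
      rw [← hpt]
      exact this
    rw [z1, z2, sub_zero]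
  · obtain ⟨E, hE, hmem⟩ := exists_eqOpen φ gi gj hg
    have hwE : w ∈ E := hmem w (hinj _ _ hw (hpt w)) (hres _ hw)
    refine ⟨restrictOpen W E, restrictOpenι W E, ⟨⟨w, hwE⟩, rfl⟩, ?_⟩
    rw [map_sub, map_map, map_map, hE, sub_self]

theorem main_aux (F : EtCoh.Ab X) {U U' : X.Etale} (φ : U' ⟶ U) (V : U.left.Opens)
    (hinj : ∀ a b : U'.left, φ.left.base a ∉ V → φ.left.base a = φ.left.base b → a = b)
    (hsurj : ∀ x : U.left, x ∉ V → x ∈ Set.range φ.left.base)
    (hres : ∀ x, φ.left.base x ∉ V → Function.Bijective (φ.left.residueFieldMap x)) :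
    Set.BijOn (F.obj.map φ.op) {s | F.obj.map (restrictOpenι U V).op s = 0}
      {s' | F.obj.map (restrictOpenι U' (φ.left ⁻¹ᵁ V)).op s' = 0} := by
  refine ⟨?_, ?_, ?_⟩
  · intro s hs
    change F.obj.map (restrictOpenι U' (φ.left ⁻¹ᵁ V)).op (F.obj.map φ.op s) = 0
    rw [map_map]
    exact map_eq_zero_of_fac F V s hs _ (fun x => ι_mem (φ.left ⁻¹ᵁ V) x)
  · intro s hs t ht hst
    apply sub_eq_zero.mp
    apply eq_zero_of_locally
    intro e
    by_cases he : e ∈ V
    · refine ⟨restrictOpen U V, restrictOpenι U V, ⟨⟨e, he⟩, rfl⟩, ?_⟩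
      rw [map_sub]
      have h1 : F.obj.map (restrictOpenι U V).op s = 0 := hs
      have h2 : F.obj.map (restrictOpenι U V).op t = 0 := ht
      rw [h1, h2, sub_zero]
    · refine ⟨U', φ, hsurj e he, ?_⟩
      rw [map_sub]
      have h1 : F.obj.map φ.op s = F.obj.map φ.op t := hst
      rw [h1, sub_self]
  · intro s' hs'
    have hs'0 : F.obj.map (restrictOpenι U' (φ.left ⁻¹ᵁ V)).op s' = 0 := hs'
    have hsh : Presieve.IsSheafFor (F.obj ⋙ forget AddCommGrpCat)
        (Presieve.ofArrows (fam φ V) (famι φ V)) := by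
      rw [Presieve.isSheafFor_iff_generate]
      exact ((isSheaf_iff_isSheaf_of_type _ _).1
        ((Presheaf.isSheaf_iff_isSheaf_forget _ F.obj (forget _)).1 F.property)) _
          (generate_mem φ V hsurj)
    rw [Presieve.isSheafFor_arrows_iff] at hsh
    let x : ∀ i, (F.obj ⋙ forget AddCommGrpCat).obj (op (fam φ V i)) := fun i =>
      match i with
      | true => s'
      | false => (0 : F.obj.obj (op (restrictOpen U V)))
    have hx : Presieve.Arrows.Compatible (F.obj ⋙ forget AddCommGrpCat) (famι φ V) x := by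
      intro i j W gi gj hg
      match i, j, gi, gj, hg with
      | true, true, gi, gj, hg => exact compat_tt F φ V hinj hres s' hs'0 gi gj hg
      | false, false, gi, gj, hg =>
        have e1 : ∀ g : W ⟶ restrictOpen U V,
            F.obj.map g.op (0 : F.obj.obj (op (restrictOpen U V))) = 0 := fun g => map_zero _
        exact (e1 gi).trans (e1 gj).symm
      | true, false, gi, gj, hg =>
        have e1 : F.obj.map gj.op (0 : F.obj.obj (op (restrictOpen U V))) = 0 := map_zero _
        have e2 : F.obj.map gi.op s' = 0 := by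
          refine map_eq_zero_of_fac F (φ.left ⁻¹ᵁ V) s' hs'0 gi (fun w => ?_)
          have := congrArg (fun k => k.left.base w) hg
          change φ.left.base (gi.left.base w) ∈ V
          rw [show φ.left.base (gi.left.base w) = (restrictOpenι U V).left.base (gj.left.base w)
            from this]
          exact ι_mem V _
        exact e2.trans e1.symm
      | false, true, gi, gj, hg =>
        have e1 : F.obj.map gi.op (0 : F.obj.obj (op (restrictOpen U V))) = 0 := map_zero _
        have e2 : F.obj.map gj.op s' = 0 := by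
          refine map_eq_zero_of_fac F (φ.left ⁻¹ᵁ V) s' hs'0 gj (fun w => ?_)
          have := congrArg (fun k => k.left.base w) hg
          change φ.left.base (gj.left.base w) ∈ V
          rw [show φ.left.base (gj.left.base w) = (restrictOpenι U V).left.base (gi.left.base w)
            from this.symm]
          exact ι_mem V _
        exact e1.trans e2.symm
    obtain ⟨t, ht, -⟩ := hsh x hx
    exact ⟨t, ht false, ht true⟩

theorem main {X : Scheme.{u}} (F : EtCoh.Ab X) {U U' : X.Etale}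
    (φ : U' ⟶ U) (Z : Set ↥U.left) (hZ : IsClosed Z)
    (hbij : Set.BijOn φ.left.base (φ.left.base ⁻¹' Z) Z)
    (hres : ∀ x ∈ φ.left.base ⁻¹' Z, Function.Bijective (φ.left.residueFieldMap x)) :
    Set.BijOn (F.obj.map φ.op) {s | EtShriek.sectSupp F U s ⊆ Z}
      {s' | EtShriek.sectSupp F U' s' ⊆ φ.left.base ⁻¹' Z} := by
  obtain ⟨V, hV⟩ : ∃ V : U.left.Opens, V = ⟨Zᶜ, hZ.isOpen_compl⟩ := ⟨_, rfl⟩
  have hmem : ∀ x : U.left, x ∉ V ↔ x ∈ Z := by
    intro x
    rw [hV]
    change ¬ (x ∈ Zᶜ) ↔ _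
    rw [Set.notMem_compl_iff]
  have hZV : Z = (V : Set U.left)ᶜ := by
    ext x
    rw [Set.mem_compl_iff]
    exact (hmem x).symm
  have hZV' : φ.left.base ⁻¹' Z = ((φ.left ⁻¹ᵁ V : U'.left.Opens) : Set U'.left)ᶜ := by
    rw [hZV]
    rfl
  have e1 : {s | EtShriek.sectSupp F U s ⊆ Z} =
      {s | F.obj.map (restrictOpenι U V).op s = 0} := by
    ext s
    rw [Set.mem_ofPred_eq, Set.mem_ofPred_eq, hZV, sectSupp_subset_iff]
  have e2 : {s' | EtShriek.sectSupp F U' s' ⊆ φ.left.base ⁻¹' Z} =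
      {s' | F.obj.map (restrictOpenι U' (φ.left ⁻¹ᵁ V)).op s' = 0} := by
    ext s
    rw [Set.mem_ofPred_eq, Set.mem_ofPred_eq, hZV', sectSupp_subset_iff]
  rw [e1, e2]
  refine main_aux F φ V ?_ ?_ ?_
  · intro a b ha hab
    have ha' : a ∈ φ.left.base ⁻¹' Z := (hmem _).1 ha
    have hb' : b ∈ φ.left.base ⁻¹' Z := (hmem _).1 (hab ▸ ha)
    exact hbij.injOn ha' hb' hab
  · intro x hx
    obtain ⟨y, -, hy⟩ := hbij.surjOn ((hmem x).1 hx)
    exact ⟨y, hy⟩
  · intro x hx
    exact hres x ((hmem _).1 hx)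

/-- In the case where the inverse image of Z is Z' (so that the bijection is restriction): let phi : U'
-> U be a morphism of the small etale site of X and Z a closed subset of U such that phi restricted
to the inverse image Z' of Z is a bijection onto Z inducing isomorphisms of residue fields (so Z' ->
U is a closed immersion with image Z, for the reduced structures). Then restriction along phi is a
bijection from the sections of F over U supported in Z to the sections of F over U' supported in Z'. -/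
theorem result {X : Scheme.{u}} (F : EtCoh.Ab X) {U U' : X.Etale}
    (φ : U' ⟶ U) (Z : Set ↥U.left) (hZ : IsClosed Z)
    (hbij : Set.BijOn φ.left.base (φ.left.base ⁻¹' Z) Z)
    (hres : ∀ x ∈ φ.left.base ⁻¹' Z, Function.Bijective (φ.left.residueFieldMap x)) :
    Set.BijOn (F.obj.map φ.op) {s | EtShriek.sectSupp F U s ⊆ Z}
      {s' | EtShriek.sectSupp F U' s' ⊆ φ.left.base ⁻¹' Z} := by
  exact main F φ Z hZ hbij hres

end Groth.Agent.S0728
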