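import Groth.Statements.S0687
import Groth.Agent.S0728
import Groth.Agent.S0651

set_option autoImplicit false
open CategoryTheory CategoryTheory.Limits AlgebraicGeometry Opposite
universe u
open EtShriek

namespace Groth.Agent.S0687

open Groth.Agent.H1.EtGerm Groth.Agent.H1.FinPushStalk Groth.Agent.H1.EtStalkPull Groth.Agent.S0728

theorem range_comp_subschemeι {X Xb : Scheme.{u}} (j : X ⟶ Xb) (Z : Set X) (hZ : IsClosed Z) :
    Set.range ((Scheme.IdealSheafData.vanishingIdeal ⟨Z, hZ⟩).subschemeι ≫ j).base = j.base '' Z := by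
  rw [Scheme.Hom.comp_base, TopCat.coe_comp, Set.range_comp]
  have := Scheme.IdealSheafData.range_subschemeι (Scheme.IdealSheafData.vanishingIdeal ⟨Z, hZ⟩)
  rw [this, Scheme.IdealSheafData.coe_support_vanishingIdeal]
  rfl

theorem isClosed_image_of_isProperOver {k : Type u} [Field k] {X Xb : Scheme.{u}} (j : X ⟶ Xb)
    (pb : Xb ⟶ Spec (CommRingCat.of k)) [IsProper pb]
    (p : X ⟶ Spec (CommRingCat.of k)) (hp : p = j ≫ pb) (Z : Set X)
    (h : ClSub.IsProperOver p Z) : IsClosed (j.base '' Z) := by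
  obtain ⟨hZ, hprop⟩ := h
  rw [hp, ← Category.assoc] at hprop
  have h1 : IsProper ((Scheme.IdealSheafData.vanishingIdeal ⟨Z, hZ⟩).subschemeι ≫ j) :=
    IsProper.of_comp _ pb
  rw [← range_comp_subschemeι j Z hZ]
  exact ((Scheme.IdealSheafData.vanishingIdeal ⟨Z, hZ⟩).subschemeι ≫ j).isClosedMap.isClosed_range

theorem isProperOver_of_isClosed_image {k : Type u} [Field k] {X Xb : Scheme.{u}} (j : X ⟶ Xb)
    [IsOpenImmersion j] (pb : Xb ⟶ Spec (CommRingCat.of k)) [IsProper pb]
    (p : X ⟶ Spec (CommRingCat.of k)) (hp : p = j ≫ pb) (Z : Set X) (hZ : IsClosed Z)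
    (h : IsClosed (j.base '' Z)) : ClSub.IsProperOver p Z := by
  refine ⟨hZ, ?_⟩
  have h1 : IsClosedImmersion ((Scheme.IdealSheafData.vanishingIdeal ⟨Z, hZ⟩).subschemeι ≫ j) := by
    apply IsClosedImmersion.of_isPreimmersion
    rw [range_comp_subschemeι j Z hZ]
    exact h
  rw [hp, ← Category.assoc]
  infer_instance

/-- a section vanishes etale locally around a point where the stalks vanish -/
theorem mem_vanishLocus_of_isZero_stalk {X : Scheme.{u}} (G : EtCoh.Ab X) (E : X.Etale)
    (e : E.left) (s : G.obj.obj (op E))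
    (h : ∀ (Ω : Type u) [Field Ω] [IsSepClosed Ω] (ξ : Spec (CommRingCat.of Ω) ⟶ X) (y : Lift ξ E),
      y.hom.base default = e → IsZero ((EtCoh.stalk ξ).obj G)) :
    e ∈ vanishLocus G E s := by
  obtain ⟨ξ, y, hy⟩ := exists_geomPt_lift E e
  have hz := h _ ξ y hy
  have hg : germ ξ G E y s = 0 := (AddCommGrpCat.subsingleton_of_isZero hz).elim _ _
  obtain ⟨V, g, y', hy', hs⟩ := (germ_eq_zero_iff G E y s).1 hg
  refine ⟨V, g, ⟨y'.hom.base default, ?_⟩, hs⟩
  have h1 : (Lift.map g y').hom.base default = e := by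
    rw [hy']
    exact hy
  exact h1

section

variable {X Xb : Scheme.{u}} (j : X ⟶ Xb) [IsOpenImmersion j] [EtShriek.JCont j] (F : EtCoh.Ab X)

/-- the object `X → Xb` of the small étale site of `Xb` -/
noncomputable abbrev U' : Xb.Etale := (EtShriek.compEtale j).obj (EtCoh.top X)

/-- the morphism `(X → Xb) → Xb` of the small étale site of `Xb` -/
noncomputable def φ : U' j ⟶ EtCoh.top Xb :=
  MorphismProperty.Over.homMk j (by
    change j ≫ 𝟙 Xb = 𝟙 X ≫ j
    rw [Category.comp_id, Category.id_comp]) trivial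

omit [EtShriek.JCont j] in
theorem φ_left : (φ j).left = j := rfl

/-- `j_! F` -/
noncomputable abbrev G : EtCoh.Ab Xb := (EtShriek.extZero j).obj F

theorem mem_vanishLocus_of_not_mem_range (t : (G j F).obj.obj (op (EtCoh.top Xb))) (e : Xb)
    (he : e ∉ Set.range j.base) : e ∈ vanishLocus (G j F) (EtCoh.top Xb) t := by
  apply mem_vanishLocus_of_isZero_stalk
  intro Ω _ _ ξ y hy
  apply isZero_stalk_extZero_of_not_mem j F ξ
  rintro _ ⟨a, rfl⟩
  rw [Subsingleton.elim a default]
  have h1 : y.hom ≫ (EtCoh.top Xb).hom = ξ := y.hom_comp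
  have h2 : ξ.base default = e := by
    rw [← h1, ← hy]
    rfl
  rw [h2]
  exact he


/-- the unit `F → j^{-1} j_! F` -/
noncomputable abbrev un : F ⟶ (EtShriek.restrAlong j).obj (G j F) :=
  (EtShriek.extZeroAdj j).unit.app F

theorem isIso_un : IsIso (un j F) := (Groth.Agent.S0651.main j F).2

/-- the unit on sections -/
noncomputable def uA (V : X.Etale) :
    F.obj.obj (op V) →+ (G j F).obj.obj (op ((EtShriek.compEtale j).obj V)) :=
  ((un j F).hom.app (op V)).hom

theorem uA_bijective (V : X.Etale) : Function.Bijective (uA j F V) := by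
  have := isIso_un j F
  have h0 : IsIso ((sheafToPresheaf _ _).map (un j F)) := inferInstance
  have h1 : IsIso ((un j F).hom.app (op V)) :=
    NatIso.isIso_app_of_isIso ((sheafToPresheaf _ _).map (un j F)) (op V)
  exact (ConcreteCategory.isIso_iff_bijective _).mp h1

theorem uA_naturality {V V' : X.Etale} (k : V' ⟶ V) (s : F.obj.obj (op V)) :
    uA j F V' (F.obj.map k.op s) =
      (G j F).obj.map ((EtShriek.compEtale j).map k).op (uA j F V s) := by
  have h := (un j F).hom.naturality k.op
  exact congrArg (fun f => (ConcreteCategory.hom f) s) h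


/-- a morphism whose image lies in the image of an open immersion of the site factors through it -/
theorem exists_fac_openImm {Y : Scheme.{u}} {T A N : Y.Etale} (a : A ⟶ T) [IsOpenImmersion a.left]
    (n : N ⟶ T) (hn : ∀ x : N.left, n.left.base x ∈ Set.range a.left.base) :
    ∃ n' : N ⟶ A, n' ≫ a = n := by
  have hr : Set.range n.left.base ⊆ Set.range a.left.base := by
    rintro _ ⟨x, rfl⟩
    exact hn x
  obtain ⟨l, hl⟩ : ∃ l : N.left ⟶ A.left, l ≫ a.left = n.left :=
    ⟨IsOpenImmersion.lift a.left n.left hr, IsOpenImmersion.lift_fac _ _ hr⟩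
  refine ⟨MorphismProperty.Over.homMk l (by
    have e : a.left ≫ T.hom = A.hom := MorphismProperty.Over.w a
    rw [← e, ← Category.assoc, hl]
    exact MorphismProperty.Over.w n) trivial, ?_⟩
  exact MorphismProperty.Over.Hom.ext hl

theorem map_eq_zero_of_fac' {Y : Scheme.{u}} (H : EtCoh.Ab Y) {T A N : Y.Etale} (a : A ⟶ T)
    [IsOpenImmersion a.left] (s : H.obj.obj (op T)) (hs : H.obj.map a.op s = 0) (n : N ⟶ T)
    (hn : ∀ x : N.left, n.left.base x ∈ Set.range a.left.base) : H.obj.map n.op s = 0 := by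
  obtain ⟨n', rfl⟩ := exists_fac_openImm a n hn
  rw [← map_map, hs, map_zero]

/-- morphisms to the terminal object of the small etale site agree -/
theorem hom_top_ext {Y : Scheme.{u}} {N : Y.Etale} (a b : N ⟶ EtCoh.top Y) : a = b := by
  apply MorphismProperty.Over.Hom.ext
  have h1 : a.left ≫ 𝟙 Y = N.hom := MorphismProperty.Over.w a
  have h2 : b.left ≫ 𝟙 Y = N.hom := MorphismProperty.Over.w b
  exact ((Category.comp_id a.left).symm.trans h1).trans (h2.symm.trans (Category.comp_id b.left))

/-- the map to the terminal object -/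
noncomputable def toTop {Y : Scheme.{u}} (N : Y.Etale) : N ⟶ EtCoh.top Y :=
  MorphismProperty.Over.homMk N.hom (Category.comp_id _) trivial

/-- the projection `N ×_Xb X → N` as a morphism of the small etale site of `Xb` -/
noncomputable def prN (N : Xb.Etale) : (EtShriek.compEtale j).obj ((EtCoh.bc j).obj N) ⟶ N :=
  MorphismProperty.Over.homMk (pullback.fst N.hom j) pullback.condition trivial


/-- sections of `j_! F` over `Xb` are determined by their restriction to `X` -/
theorem eq_zero_of_map_φ (t : (G j F).obj.obj (op (EtCoh.top Xb)))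
    (h : (G j F).obj.map (φ j).op t = 0) : t = 0 := by
  apply eq_zero_of_locally
  intro e
  by_cases he : e ∈ Set.range j.base
  · exact ⟨U' j, φ j, he, h⟩
  · exact mem_vanishLocus_of_not_mem_range j F t e he

theorem hasProperSupport_of_map_φ {k : Type u} [Field k] (pb : Xb ⟶ Spec (CommRingCat.of k))
    [IsProper pb] (p : X ⟶ Spec (CommRingCat.of k)) (hp : p = j ≫ pb)
    (t : (G j F).obj.obj (op (EtCoh.top Xb))) (s : F.obj.obj (op (EtCoh.top X)))
    (hs : uA j F (EtCoh.top X) s = (G j F).obj.map (φ j).op t) :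
    HasProperSupport F (EtCoh.top X) s p := by
  have hTcl : IsClosed (vanishLocus (G j F) (EtCoh.top Xb) t)ᶜ :=
    (isOpen_vanishLocus _ _ _).isClosed_compl
  have hTsub : (vanishLocus (G j F) (EtCoh.top Xb) t)ᶜ ⊆ Set.range j.base := by
    intro e he
    by_contra h
    exact he (mem_vanishLocus_of_not_mem_range j F t e h)
  refine ⟨j.base ⁻¹' (vanishLocus (G j F) (EtCoh.top Xb) t)ᶜ, ?_, ?_⟩
  · intro x hx
    by_contra hxT
    have hx' : j.base x ∈ vanishLocus (G j F) (EtCoh.top Xb) t := by
      by_contra h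
      exact hxT h
    obtain ⟨N, n, ⟨y, hy⟩, hn⟩ := hx'
    have hnl : n.left = N.hom :=
      (Category.comp_id n.left).symm.trans (MorphismProperty.Over.w n)
    obtain ⟨z, hz1, hz2⟩ := Scheme.Pullback.exists_preimage_pullback (f := N.hom) (g := j) y x
      (by rw [← hnl]; exact hy)
    refine hx ((EtCoh.bc j).obj N) (toTop _) ⟨z, hz2⟩ ?_
    apply (uA_bijective j F _).1
    rw [map_zero, uA_naturality, hs, map_map]
    have e : (EtShriek.compEtale j).map (toTop ((EtCoh.bc j).obj N)) ≫ φ j = prN j N ≫ n :=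
      hom_top_ext _ _
    rw [e, ← map_map, hn, map_zero]
  · apply isProperOver_of_isClosed_image j pb p hp _ (hTcl.preimage j.continuous)
    have e := Set.image_preimage_eq_of_subset hTsub
    exact e.symm ▸ hTcl

theorem exists_of_hasProperSupport {k : Type u} [Field k] (pb : Xb ⟶ Spec (CommRingCat.of k))
    [IsProper pb] (p : X ⟶ Spec (CommRingCat.of k)) (hp : p = j ≫ pb)
    (s : F.obj.obj (op (EtCoh.top X))) (h : HasProperSupport F (EtCoh.top X) s p) :
    ∃ t : (G j F).obj.obj (op (EtCoh.top Xb)),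
      (G j F).obj.map (φ j).op t = uA j F (EtCoh.top X) s := by
  obtain ⟨Z, hsZ, hZ⟩ := h
  have hZcl : IsClosed Z := hZ.1
  have hT : IsClosed (j.base '' Z) := isClosed_image_of_isProperOver j pb p hp Z hZ
  obtain ⟨V, hV⟩ : ∃ V : (EtCoh.top Xb).left.Opens, V = ⟨(j.base '' Z)ᶜ, hT.isOpen_compl⟩ :=
    ⟨_, rfl⟩
  obtain ⟨W₀, hW₀⟩ : ∃ W₀ : (EtCoh.top X).left.Opens, W₀ = ⟨Zᶜ, hZcl.isOpen_compl⟩ := ⟨_, rfl⟩
  have hmemV : ∀ x : Xb, x ∈ V ↔ x ∉ j.base '' Z := by
    intro x
    rw [hV]
    rfl
  have hmemW : ∀ x : X, x ∈ W₀ ↔ x ∉ Z := by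
    intro x
    rw [hW₀]
    rfl
  have hb := main_aux (G j F) (φ j) V
    (fun a b _ hab => j.isOpenEmbedding.injective hab)
    (fun x hx => by
      have hx' : x ∈ j.base '' Z := by
        by_contra h
        exact hx ((hmemV x).2 h)
      obtain ⟨z, -, rfl⟩ := hx'
      exact ⟨z, rfl⟩)
    (fun x _ => by
      change Function.Bijective (j.residueFieldMap x)
      exact (ConcreteCategory.isIso_iff_bijective _).mp inferInstance)
  have hs0 : F.obj.map (restrictOpenι (EtCoh.top X) W₀).op s = 0 := by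
    apply (sectSupp_subset_iff F (EtCoh.top X) W₀ s).1
    intro x hx hxW
    exact (hmemW x).1 hxW (hsZ hx)
  have hs' : (G j F).obj.map (restrictOpenι (U' j) ((φ j).left ⁻¹ᵁ V)).op
      (uA j F (EtCoh.top X) s) = 0 := by
    have h1 : (G j F).obj.map
        ((EtShriek.compEtale j).map (restrictOpenι (EtCoh.top X) W₀)).op
        (uA j F (EtCoh.top X) s) = 0 := by
      rw [← uA_naturality, hs0, map_zero]
    have : IsOpenImmersion
        ((EtShriek.compEtale j).map (restrictOpenι (EtCoh.top X) W₀)).left := by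
      change IsOpenImmersion W₀.ι
      infer_instance
    refine map_eq_zero_of_fac' (G j F) _ _ h1 _ (fun x => ?_)
    change _ ∈ Set.range W₀.ι.base
    rw [Scheme.Opens.range_ι]
    apply (hmemW _).2
    intro hxZ
    have h2 := ι_mem ((φ j).left ⁻¹ᵁ V) x
    exact (hmemV _).1 h2 ⟨_, hxZ, rfl⟩
  obtain ⟨t, -, ht⟩ := hb.surjOn hs'
  exact ⟨t, ht⟩

end

theorem main {k : Type u} [Field k] {X Xb : Scheme.{u}} (j : X ⟶ Xb)
    [IsOpenImmersion j] (pb : Xb ⟶ Spec (CommRingCat.of k)) [IsProper pb]
    (p : X ⟶ Spec (CommRingCat.of k)) (hp : p = j ≫ pb)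
    [EtShriek.JCont j] (F : EtCoh.Ab X) :
    Nonempty ((EtShriek.H0c p F) ≃+ EtCoh.sect ((EtShriek.extZero j).obj F) (EtCoh.top Xb)) := by
  obtain ⟨eA, heA⟩ : ∃ eA : F.obj.obj (op (EtCoh.top X)) ≃+ (G j F).obj.obj (op (U' j)),
      ∀ s, eA s = uA j F (EtCoh.top X) s :=
    ⟨AddEquiv.ofBijective (uA j F (EtCoh.top X)) (uA_bijective j F _), fun _ => rfl⟩
  obtain ⟨Ψ, hΨ⟩ : ∃ Ψ : (G j F).obj.obj (op (EtCoh.top Xb)) →+ F.obj.obj (op (EtCoh.top X)),
      ∀ t, uA j F (EtCoh.top X) (Ψ t) = (G j F).obj.map (φ j).op t :=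
    ⟨eA.symm.toAddMonoidHom.comp ((G j F).obj.map (φ j).op).hom, fun t => by
      rw [← heA]
      exact eA.apply_symm_apply _⟩
  have hinj : Function.Injective Ψ := by
    rw [injective_iff_map_eq_zero]
    intro t ht
    apply eq_zero_of_map_φ j F t
    rw [← hΨ, ht, map_zero]
  have hrange : Ψ.range = EtShriek.H0c p F := by
    apply le_antisymm
    · rintro _ ⟨t, rfl⟩
      exact AddSubgroup.subset_closure (hasProperSupport_of_map_φ j F pb p hp t (Ψ t) (hΨ t))
    · apply (AddSubgroup.closure_le _).2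
      intro s hs
      obtain ⟨t, ht⟩ := exists_of_hasProperSupport j F pb p hp s hs
      refine ⟨t, ?_⟩
      apply (uA_bijective j F _).1
      rw [hΨ, ht]
  exact ⟨((AddMonoidHom.ofInjective hinj).trans (AddEquiv.addSubgroupCongr hrange)).symm⟩

/-- Let k be a field, j : X → X' an open immersion into a scheme X' proper over k, and p : X → Spec k
the composite of j with the structure morphism of X', with p separated and locally of finite type.
Then for every abelian sheaf F on X_ét the group H^0_c(X, F) of sections with compact support (the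
global sections of F whose support is proper over k) is isomorphic to the group of global sections
H^0(X', j_!F) of the extension by zero of F. (Only the existence of an isomorphism of groups is
asserted; the published statement gives a canonical one.) -/
theorem result {k : Type u} [Field k] {X Xb : Scheme.{u}} (j : X ⟶ Xb)
    [IsOpenImmersion j] (pb : Xb ⟶ Spec (CommRingCat.of k)) [IsProper pb]
    (p : X ⟶ Spec (CommRingCat.of k)) (hp : p = j ≫ pb) [IsSeparated p] [LocallyOfFiniteType p]
    [EtShriek.JCont j] (F : EtCoh.Ab X) :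
    Nonempty ((EtShriek.H0c p F) ≃+ EtCoh.sect ((EtShriek.extZero j).obj F) (EtCoh.top Xb)) := by
  exact main j pb p hp F

end Groth.Agent.S0687
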