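import Groth.Statements.S0698
import Groth.Agent.Lib.Helper9.SpectralFibre
import Mathlib.RingTheory.LocalIso
import Mathlib.RingTheory.Spectrum.Prime.Topology
import Mathlib.CategoryTheory.Filtered.Basic
import Mathlib.Topology.Separation.Profinite

set_option autoImplicit false
open CategoryTheory CategoryTheory.Limits AlgebraicGeometry Opposite Topology
universe u
open ProEtW

namespace Groth.Agent.S0698

section helpers

variable (A : Type u) [CommRing A] (T : Set (_root_.ConnectedComponents (PrimeSpectrum A)))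

/-- The idempotents whose basic open contains the preimage of `T`. -/
def J : Type u :=
  {e : A // IsIdempotentElem e ∧
    _root_.ConnectedComponents.mk ⁻¹' T ⊆ (PrimeSpectrum.basicOpen e : Set (PrimeSpectrum A))}

/-- The ideal `(1 - e)`. -/
def idl (e : J A T) : Ideal A := Ideal.span {1 - e.1}

instance : Preorder (J A T) := Preorder.lift (idl A T)

instance : Nonempty (J A T) := ⟨⟨1, IsIdempotentElem.one, by simp⟩⟩

theorem idl_le_mul (e e' : J A T) (h : IsIdempotentElem (e.1 * e'.1))
    (h' : _root_.ConnectedComponents.mk ⁻¹' T ⊆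
      (PrimeSpectrum.basicOpen (e.1 * e'.1) : Set (PrimeSpectrum A))) :
    idl A T e ≤ idl A T ⟨e.1 * e'.1, h, h'⟩ := by
  rw [idl, idl, Ideal.span_le, Set.singleton_subset_iff]
  refine Ideal.mem_span_singleton'.mpr ⟨1 - e.1, ?_⟩
  have he : e.1 * e.1 = e.1 := e.2.1
  show (1 - e.1) * (1 - e.1 * e'.1) = 1 - e.1
  linear_combination e'.1 * he

theorem idl_le_mul' (e e' : J A T) (h : IsIdempotentElem (e.1 * e'.1))
    (h' : _root_.ConnectedComponents.mk ⁻¹' T ⊆
      (PrimeSpectrum.basicOpen (e.1 * e'.1) : Set (PrimeSpectrum A))) :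
    idl A T e' ≤ idl A T ⟨e.1 * e'.1, h, h'⟩ := by
  rw [idl, idl, Ideal.span_le, Set.singleton_subset_iff]
  refine Ideal.mem_span_singleton'.mpr ⟨1 - e'.1, ?_⟩
  have he : e'.1 * e'.1 = e'.1 := e'.2.1
  show (1 - e'.1) * (1 - e.1 * e'.1) = 1 - e'.1
  linear_combination e.1 * he

instance : IsDirected (J A T) (· ≤ ·) := by
  refine ⟨fun e e' => ?_⟩
  have h : IsIdempotentElem (e.1 * e'.1) := e.2.1.mul e'.2.1
  have h' : _root_.ConnectedComponents.mk ⁻¹' T ⊆
      (PrimeSpectrum.basicOpen (e.1 * e'.1) : Set (PrimeSpectrum A)) := by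
    intro x hx
    rw [PrimeSpectrum.basicOpen_mul]
    exact ⟨e.2.2 hx, e'.2.2 hx⟩
  exact ⟨⟨e.1 * e'.1, h, h'⟩, idl_le_mul A T e e' h h', idl_le_mul' A T e e' h h'⟩

/-- The diagram of quotients `A ⧸ (1 - e)`. -/
noncomputable def Dg : J A T ⥤ Under (CommRingCat.of A) where
  obj e := Under.mk (CommRingCat.ofHom (Ideal.Quotient.mk (idl A T e)))
  map {e e'} h := Under.homMk (CommRingCat.ofHom (Ideal.Quotient.factor (leOfHom h)))
    (by ext x; rfl)
  map_id e := by
    ext x
    obtain ⟨x, rfl⟩ := Ideal.Quotient.mk_surjective x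
    rfl
  map_comp f g := by
    ext x
    obtain ⟨x, rfl⟩ := Ideal.Quotient.mk_surjective x
    rfl

/-- The cocone with vertex `A ⧸ ⨆ (1 - e)`. -/
noncomputable def cc : Cocone (Dg A T) where
  pt := Under.mk (CommRingCat.ofHom (Ideal.Quotient.mk (⨆ e, idl A T e)))
  ι :=
  { app := fun e => Under.homMk
      (CommRingCat.ofHom (Ideal.Quotient.factor (le_iSup (idl A T) e))) (by ext x; rfl)
    naturality := by
      intro e e' h
      ext x
      obtain ⟨x, rfl⟩ := Ideal.Quotient.mk_surjective x
      rfl }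

theorem hker (s : Cocone (Dg A T)) : ∀ a ∈ ⨆ e, idl A T e, s.pt.hom.hom a = 0 := by
  suffices h : (⨆ e, idl A T e) ≤ RingHom.ker s.pt.hom.hom from fun a ha => h ha
  refine iSup_le fun e => ?_
  rw [idl, Ideal.span_le, Set.singleton_subset_iff]
  show s.pt.hom.hom (1 - e.1) = 0
  have hw : ((Dg A T).obj e).hom ≫ (s.ι.app e).right = s.pt.hom := Under.w (s.ι.app e)
  have h1 : s.pt.hom.hom (1 - e.1) =
      (s.ι.app e).right.hom (Ideal.Quotient.mk (idl A T e) (1 - e.1)) :=
    (congrArg (fun f => f.hom (1 - e.1)) hw).symm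
  have h2 : (Ideal.Quotient.mk (idl A T e) (1 - e.1) : ((Dg A T).obj e).right) = 0 :=
    Ideal.Quotient.eq_zero_iff_mem.mpr (Ideal.subset_span rfl)
  exact h1.trans ((congrArg (s.ι.app e).right.hom h2).trans (map_zero (s.ι.app e).right.hom))

/-- The cocone is a colimit. -/
noncomputable def isCol : IsColimit (cc A T) where
  desc s := Under.homMk
    (CommRingCat.ofHom (Ideal.Quotient.lift (⨆ e, idl A T e) s.pt.hom.hom (hker A T s)))
    (by ext x; rfl)
  fac s e := by
    ext x
    obtain ⟨x, rfl⟩ := Ideal.Quotient.mk_surjective x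
    have hw : ((Dg A T).obj e).hom ≫ (s.ι.app e).right = s.pt.hom := Under.w (s.ι.app e)
    exact (congrArg (fun f => f.hom x) hw).symm
  uniq s m _ := by
    ext x
    obtain ⟨x, rfl⟩ := Ideal.Quotient.mk_surjective x
    have hw : (cc A T).pt.hom ≫ m.right = s.pt.hom := Under.w m
    exact congrArg (fun f => f.hom x) hw

theorem isLocalIso_obj (e : J A T) :
    letI := ((Dg A T).obj e).hom.hom.toAlgebra
    Algebra.IsLocalIso A ((Dg A T).obj e).right := by
  let _ : Algebra A (A ⧸ idl A T e) := (Ideal.Quotient.mk (idl A T e)).toAlgebra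
  have hloc : IsLocalization.Away e.1 (A ⧸ idl A T e) := by
    apply IsLocalization.away_of_isIdempotentElem e.2.1
    · rw [RingHom.algebraMap_toAlgebra, Ideal.mk_ker]
      rfl
    · rw [RingHom.algebraMap_toAlgebra]
      exact Ideal.Quotient.mk_surjective
  have : Algebra.IsStandardOpenImmersion A (A ⧸ idl A T e) := ⟨e.1, hloc⟩
  show Algebra.IsLocalIso A (A ⧸ idl A T e)
  infer_instance

theorem zeroLocus_iSup_idl (hT : IsClosed T) :
    PrimeSpectrum.zeroLocus ((⨆ e, idl A T e : Ideal A) : Set A) =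
      _root_.ConnectedComponents.mk ⁻¹' T := by
  have hz : ∀ e : J A T, PrimeSpectrum.zeroLocus ((idl A T e : Ideal A) : Set A) =
      (PrimeSpectrum.basicOpen e.1 : Set (PrimeSpectrum A)) := by
    intro e
    rw [idl, PrimeSpectrum.zeroLocus_span,
      PrimeSpectrum.basicOpen_eq_zeroLocus_of_isIdempotentElem e.1 e.2.1]
  rw [PrimeSpectrum.zeroLocus_iSup]
  apply Set.Subset.antisymm
  · intro x hx
    by_contra hxT
    -- separate `mk x` from `T` by a clopen
    have : T2Space (_root_.ConnectedComponents (PrimeSpectrum A)) :=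
      Groth.Agent.Lib.helper9.t2Space_connectedComponents
    obtain ⟨C, hC, hTC, hCx⟩ := exists_clopen_of_closed_subset_open hT
      (isOpen_compl_singleton (x := (_root_.ConnectedComponents.mk x))) (fun t ht h => hxT (show _root_.ConnectedComponents.mk x ∈ T from
        (Set.mem_singleton_iff.mp h) ▸ ht))
    have hC' : IsClopen (_root_.ConnectedComponents.mk ⁻¹' C : Set (PrimeSpectrum A)) :=
      hC.preimage _root_.ConnectedComponents.continuous_coe
    obtain ⟨e, he, hCe⟩ := PrimeSpectrum.isClopen_iff.mp hC'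
    have hJ : _root_.ConnectedComponents.mk ⁻¹' T ⊆
        (PrimeSpectrum.basicOpen e : Set (PrimeSpectrum A)) := by
      rw [← hCe]
      exact Set.preimage_mono hTC
    have hx' := Set.mem_iInter.mp hx ⟨e, he, hJ⟩
    rw [hz, ← hCe] at hx'
    exact hCx hx' rfl
  · intro x hx
    refine Set.mem_iInter.mpr fun e => ?_
    rw [hz]
    exact e.2.2 hx

end helpers

/-- Let A be a ring, X = Spec A and T a closed subset of pi_0(X). Then A has an ind-Zariski quotient
ring B (the map A -> B is surjective) whose spectrum maps homeomorphically onto the preimage of T in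
X. -/
theorem result (A : Type u) [CommRing A]
    (T : Set (_root_.ConnectedComponents (PrimeSpectrum A))) (hT : IsClosed T) :
    ∃ (B : Type u) (_ : CommRing B) (_ : Algebra A B),
      EtPBC.IsIndZariski A B ∧ Function.Surjective (algebraMap A B) ∧
      Topology.IsEmbedding (PrimeSpectrum.comap (algebraMap A B)) ∧
      Set.range (PrimeSpectrum.comap (algebraMap A B)) = _root_.ConnectedComponents.mk ⁻¹' T := by
  refine ⟨A ⧸ (⨆ e, idl A T e), inferInstance, inferInstance, ?_, Ideal.Quotient.mk_surjective,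
    ?_, ?_⟩
  · exact ⟨J A T, inferInstance, inferInstance, Dg A T, cc A T, isCol A T,
      fun e => isLocalIso_obj A T e, ⟨Iso.refl _⟩⟩
  · exact (PrimeSpectrum.isClosedEmbedding_comap_of_surjective _ _
      Ideal.Quotient.mk_surjective).isEmbedding
  · rw [range_comap_of_surjective _ (algebraMap A (A ⧸ (⨆ e, idl A T e))) Ideal.Quotient.mk_surjective]
    have : RingHom.ker (algebraMap A (A ⧸ (⨆ e, idl A T e))) = ⨆ e, idl A T e := Ideal.mk_ker
    rw [this]
    exact zeroLocus_iSup_idl A T hT

end Groth.Agent.S0698
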