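import Groth.Statements.S0699
import Groth.Agent.Lib.Helper9.WLocal
import Mathlib.RingTheory.Spectrum.Prime.Topology
import Mathlib.RingTheory.Localization.AtPrime.Basic

set_option autoImplicit false
open CategoryTheory CategoryTheory.Limits AlgebraicGeometry Opposite Topology
universe u
open ProEtW

namespace Groth.Agent.S0699

section helpers

open Groth.Agent.Lib.helper9

variable {A B : Type u} [CommRing A] [CommRing B] [Algebra A B]

/-- Over a closed point `m` of `Spec A` there is a closed point `n` of `Spec B` to which every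
point lying over a generalization of `m` specializes. -/
theorem exists_over_closed (h2 : ProEtW.IsWLocal (PrimeSpectrum A))
    (h3 : ProEtW.IsWLocal (PrimeSpectrum B))
    (h4 : ProEtW.IsWLocalMap (PrimeSpectrum.comap (algebraMap A B)))
    (h5 : Function.Bijective
      (PrimeSpectrum.continuous_comap (algebraMap A B)).connectedComponentsMap)
    (m : PrimeSpectrum A) (hm : IsClosed ({m} : Set (PrimeSpectrum A))) :
    ∃ n : PrimeSpectrum B, PrimeSpectrum.comap (algebraMap A B) n = m ∧
      ∀ q : PrimeSpectrum B, PrimeSpectrum.comap (algebraMap A B) q ⤳ m → q ⤳ n := by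
  have hf : Continuous (PrimeSpectrum.comap (algebraMap A B)) :=
    PrimeSpectrum.continuous_comap (algebraMap A B)
  obtain ⟨cB, hcB⟩ := h5.2 (_root_.ConnectedComponents.mk m)
  obtain ⟨n, hn1, hn2⟩ := exists_isClosed_singleton_mk_eq h3.2.2 cB
  have hfn : IsClosed ({PrimeSpectrum.comap (algebraMap A B) n} : Set (PrimeSpectrum A)) :=
    h4.2 n hn1
  have hmk : (_root_.ConnectedComponents.mk (PrimeSpectrum.comap (algebraMap A B) n) :
      _root_.ConnectedComponents (PrimeSpectrum A)) = _root_.ConnectedComponents.mk m := by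
    rw [← hcB, ← hn2]
    exact (hf.connectedComponentsMap_mk n).symm
  have hnm : PrimeSpectrum.comap (algebraMap A B) n = m :=
    eq_of_isClosed_singleton_of_mk_eq h2.2.1 h2.2.2 hfn hm hmk
  refine ⟨n, hnm, fun q hq => ?_⟩
  obtain ⟨n', ⟨hn'1, hn'2⟩, -⟩ := h3.2.2 q
  have h6 : PrimeSpectrum.comap (algebraMap A B) q ⤳ PrimeSpectrum.comap (algebraMap A B) n' :=
    hn'2.map hf
  have hfn' : IsClosed ({PrimeSpectrum.comap (algebraMap A B) n'} : Set (PrimeSpectrum A)) :=
    h4.2 n' hn'1
  obtain ⟨c, -, hcu⟩ := h2.2.2 (PrimeSpectrum.comap (algebraMap A B) q)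
  have e1 : PrimeSpectrum.comap (algebraMap A B) n' = c := hcu _ ⟨hfn', h6⟩
  have e2 : m = c := hcu _ ⟨hm, hq⟩
  have e3 : PrimeSpectrum.comap (algebraMap A B) n' = PrimeSpectrum.comap (algebraMap A B) n := by
    rw [e1, ← e2, hnm]
  have e4 : (_root_.ConnectedComponents.mk n' : _root_.ConnectedComponents (PrimeSpectrum B)) =
      _root_.ConnectedComponents.mk n := by
    apply h5.1
    rw [hf.connectedComponentsMap_mk, hf.connectedComponentsMap_mk, e3]
  have e5 : n' = n := eq_of_isClosed_singleton_of_mk_eq h3.2.1 h3.2.2 hn'1 hn1 e4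
  rw [← e5]
  exact hn'2

/-- The ideal of `a` with `a • b` in the image of `A`. -/
def condI (b : B) : Ideal A where
  carrier := {a | ∃ a', algebraMap A B a' = algebraMap A B a * b}
  add_mem' := by
    rintro x y ⟨x', hx⟩ ⟨y', hy⟩
    exact ⟨x' + y', by rw [map_add, map_add, hx, hy, add_mul]⟩
  zero_mem' := ⟨0, by simp⟩
  smul_mem' := by
    rintro c x ⟨x', hx⟩
    exact ⟨c * x', by rw [smul_eq_mul, map_mul, map_mul, hx, mul_assoc]⟩

theorem injective_of (h1 : EtPBC.IdentifiesLocalRings A B)
    (hM : ∀ m : PrimeSpectrum A, IsClosed ({m} : Set (PrimeSpectrum A)) →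
      ∃ n : PrimeSpectrum B, PrimeSpectrum.comap (algebraMap A B) n = m) :
    Function.Injective (algebraMap A B) := by
  rw [injective_iff_map_eq_zero]
  intro a ha
  by_contra hne
  have hann : (Submodule.span A ({a} : Set A)).annihilator ≠ ⊤ := by
    intro h
    have h1' : (1 : A) ∈ (Submodule.span A ({a} : Set A)).annihilator := h ▸ Submodule.mem_top
    rw [Submodule.mem_annihilator_span_singleton, one_smul] at h1'
    exact hne h1'
  obtain ⟨M, hMmax, hle⟩ := Ideal.exists_le_maximal _ hann
  obtain ⟨n, hn⟩ := hM ⟨M, hMmax.isPrime⟩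
    ((PrimeSpectrum.isClosed_singleton_iff_isMaximal _).mpr hMmax)
  have hn' : n.asIdeal.comap (algebraMap A B) = M := congrArg PrimeSpectrum.asIdeal hn
  have hb := (h1 n).1
  have h0 : Localization.localRingHom (n.asIdeal.comap (algebraMap A B)) n.asIdeal
      (algebraMap A B) rfl (algebraMap A _ a) = 0 := by
    rw [Localization.localRingHom_to_map, ha, map_zero]
  have h0' : algebraMap A (Localization.AtPrime (n.asIdeal.comap (algebraMap A B))) a = 0 :=
    hb (h0.trans (map_zero _).symm)
  obtain ⟨s, hs⟩ := (IsLocalization.map_eq_zero_iff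
    (n.asIdeal.comap (algebraMap A B)).primeCompl _ a).mp h0'
  have hsM : (s : A) ∈ M := by
    apply hle
    rw [Submodule.mem_annihilator_span_singleton]
    exact hs
  exact s.2 (hn' ▸ hsM)

theorem surjective_of (h1 : EtPBC.IdentifiesLocalRings A B)
    (hM : ∀ m : PrimeSpectrum A, IsClosed ({m} : Set (PrimeSpectrum A)) →
      ∃ n : PrimeSpectrum B, PrimeSpectrum.comap (algebraMap A B) n = m ∧
        ∀ q : PrimeSpectrum B, PrimeSpectrum.comap (algebraMap A B) q ⤳ m → q ⤳ n) :
    Function.Surjective (algebraMap A B) := by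
  intro b
  by_contra hb
  have hI : condI (A := A) b ≠ ⊤ := by
    intro h
    have h1' : (1 : A) ∈ condI (A := A) b := h ▸ Submodule.mem_top
    obtain ⟨a', ha'⟩ := h1'
    exact hb ⟨a', by rw [ha', map_one, one_mul]⟩
  obtain ⟨M, hMmax, hle⟩ := Ideal.exists_le_maximal _ hI
  have hMprime : M.IsPrime := hMmax.isPrime
  obtain ⟨n, hn, hgen⟩ := hM ⟨M, hMprime⟩
    ((PrimeSpectrum.isClosed_singleton_iff_isMaximal _).mpr hMmax)
  have hn' : n.asIdeal.comap (algebraMap A B) = M := congrArg PrimeSpectrum.asIdeal hn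
  obtain ⟨x, hx⟩ := (h1 n).2 (algebraMap B _ b)
  obtain ⟨a, s, rfl⟩ := IsLocalization.exists_mk'_eq
    (n.asIdeal.comap (algebraMap A B)).primeCompl x
  rw [Localization.localRingHom_mk', IsLocalization.mk'_eq_iff_eq_mul, ← map_mul,
    IsLocalization.eq_iff_exists n.asIdeal.primeCompl] at hx
  obtain ⟨t, ht⟩ := hx
  -- the annihilator of the difference
  set d : B := algebraMap A B s * b - algebraMap A B a with hd
  have htd : (t : B) * d = 0 := by
    have : (t : B) * algebraMap A B a = (t : B) * (b * algebraMap A B s) := ht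
    rw [hd, mul_sub, this]
    ring
  by_cases hdisj : Disjoint (((Submodule.span B ({d} : Set B)).annihilator : Ideal B) : Set B)
      (Algebra.algebraMapSubmonoid B M.primeCompl : Set B)
  · obtain ⟨q, hqprime, hJq, hqdisj⟩ := Ideal.exists_le_prime_disjoint _ _ hdisj
    have hqm : PrimeSpectrum.comap (algebraMap A B) ⟨q, hqprime⟩ ⤳ ⟨M, hMprime⟩ := by
      rw [← PrimeSpectrum.le_iff_specializes]
      intro y hy
      by_contra hyM
      exact Set.disjoint_left.mp hqdisj hy ⟨y, hyM, rfl⟩
    have hqn := hgen ⟨q, hqprime⟩ hqm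
    rw [← PrimeSpectrum.le_iff_specializes] at hqn
    have htq : (t : B) ∈ q := hJq ((Submodule.mem_annihilator_span_singleton _ _).mpr htd)
    exact t.2 (hqn htq)
  · rw [Set.not_disjoint_iff] at hdisj
    obtain ⟨_, hxJ, a', ha'M, rfl⟩ := hdisj
    have h2 : algebraMap A B a' * d = 0 := (Submodule.mem_annihilator_span_singleton _ _).mp hxJ
    have h3 : a' * s ∈ condI (A := A) b := by
      refine ⟨a' * a, ?_⟩
      rw [map_mul, map_mul]
      have : algebraMap A B a' * (algebraMap A B s * b - algebraMap A B a) = 0 := h2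
      linear_combination -this
    have h4 : a' * s ∈ M := hle h3
    rcases hMprime.mem_or_mem h4 with h | h
    · exact ha'M h
    · exact s.2 (hn' ▸ h)

end helpers

/-- Let A -> B identify local rings, with Spec A and Spec B w-local, Spec B -> Spec A w-local, and
pi_0(Spec B) -> pi_0(Spec A) bijective. Then A -> B is bijective. -/
theorem result (A B : Type u) [CommRing A] [CommRing B]
    [Algebra A B] (h1 : EtPBC.IdentifiesLocalRings A B) (h2 : ProEtW.IsWLocal (PrimeSpectrum A))
    (h3 : ProEtW.IsWLocal (PrimeSpectrum B))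
    (h4 : ProEtW.IsWLocalMap (PrimeSpectrum.comap (algebraMap A B)))
    (h5 : Function.Bijective
      (PrimeSpectrum.continuous_comap (algebraMap A B)).connectedComponentsMap) :
    Function.Bijective (algebraMap A B) := by
  have hM := exists_over_closed h2 h3 h4 h5
  refine ⟨injective_of h1 fun m hm => ?_, surjective_of h1 hM⟩
  obtain ⟨n, hn, -⟩ := hM m hm
  exact ⟨n, hn⟩

end Groth.Agent.S0699
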