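import Groth.Statements.S0702
import Groth.Agent.S0701
import Mathlib.RingTheory.Algebraic.Integral
import Mathlib.RingTheory.IntegralClosure.IsIntegralClosure.Basic
import Mathlib.RingTheory.Ideal.Quotient.Operations

set_option autoImplicit false
open CategoryTheory CategoryTheory.Limits AlgebraicGeometry Opposite Topology
universe u
open ProEtW

namespace Groth.Agent.S0702

theorem isMaximal_of_algebraic {A B : Type u} [CommRing A] [CommRing B] [Algebra A B]
    (q : Ideal B) [q.IsPrime] (hp : (q.comap (algebraMap A B)).IsMaximal)
    (halg : Algebra.IsAlgebraic (A ⧸ q.comap (algebraMap A B)) (B ⧸ q)) : q.IsMaximal := by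
  have hF : IsField (A ⧸ q.comap (algebraMap A B)) :=
    (Ideal.Quotient.maximal_ideal_iff_isField_quotient _).mp hp
  let := hF.toField
  have : Algebra.IsIntegral (A ⧸ q.comap (algebraMap A B)) (B ⧸ q) :=
    Algebra.IsAlgebraic.isIntegral
  exact Ideal.Quotient.maximal_of_isField _ (isField_of_isIntegral_of_isField' hF)

/-- Let Spec A be profinite and A -> B induce algebraic extensions of residue fields at all primes. Then
Spec B is profinite. -/
theorem result (A B : Type u) [CommRing A] [CommRing B]
    [Algebra A B] [T2Space (PrimeSpectrum A)] [TotallyDisconnectedSpace (PrimeSpectrum A)]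
    (h : ProEtW.AlgebraicResidueExtensions A B) :
    ProEtW.IsProfinite (PrimeSpectrum B) := by
  apply Groth.Agent.S0701.result A B
  intro q q' hcomap hle
  have hmax : (q.asIdeal.comap (algebraMap A B)).IsMaximal := by
    have h1 : IsClosed ({PrimeSpectrum.comap (algebraMap A B) q} : Set (PrimeSpectrum A)) :=
      isClosed_singleton
    exact (PrimeSpectrum.isClosed_singleton_iff_isMaximal _).mp h1
  have hq : q.asIdeal.IsMaximal := isMaximal_of_algebraic q.asIdeal hmax (h q.asIdeal)
  apply PrimeSpectrum.ext
  exact hq.eq_of_le q'.isPrime.ne_top hle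

end Groth.Agent.S0702
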