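import Groth.Statements.S0704
import Groth.Agent.Lib.Helper9.SpectralFibre

set_option autoImplicit false
open Topology
universe u
open ProEtW

namespace Groth.Agent.S0704

section aux

open Groth.Agent.Lib.helper9

theorem isClosed_singleton_iff_forall {Z : Type*} [TopologicalSpace Z] {z : Z} :
    IsClosed ({z} : Set Z) ↔ ∀ z', z ⤳ z' → z' = z := by
  constructor
  · intro h z' hz'
    exact hz'.mem_closed h rfl
  · intro h
    rw [← closure_eq_iff_isClosed]
    apply subset_antisymm _ subset_closure
    intro z' hz'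
    exact h z' (specializes_iff_mem_closure.mpr hz')

theorem mk_eq_of_specializes {X : Type*} [TopologicalSpace X] {x x' : X} (h : x ⤳ x') :
    (ConnectedComponents.mk x' : ConnectedComponents X) = ConnectedComponents.mk x := by
  rw [ConnectedComponents.coe_eq_coe']
  have h1 : IsPreconnected (closure ({x} : Set X)) := isPreconnected_singleton.closure
  exact h1.subset_connectedComponent (subset_closure rfl) (specializes_iff_mem_closure.mp h)

variable {X T : Type u} [TopologicalSpace X] [TopologicalSpace T] [T2Space T]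
  (g : C(T, ConnectedComponents X))

theorem fibre_specializes_iff (y y' : FibreProd g) :
    y ⤳ y' ↔ y.1.1 ⤳ y'.1.1 ∧ y.1.2 = y'.1.2 := by
  constructor
  · intro h
    have h' : (y.1.1, y.1.2) ⤳ (y'.1.1, y'.1.2) := (subtype_specializes_iff y y').mp h
    rw [specializes_prod] at h'
    exact ⟨h'.1, specializes_iff_eq.mp h'.2⟩
  · rintro ⟨h1, h2⟩
    rw [subtype_specializes_iff]
    have h3 : y.1.2 ⤳ y'.1.2 := specializes_iff_eq.mpr h2
    have : (y.1.1, y.1.2) ⤳ (y'.1.1, y'.1.2) := h1.prod h3
    exact this

theorem isClosed_singleton_fibre_iff (y : FibreProd g) :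
    IsClosed ({y} : Set (FibreProd g)) ↔ IsClosed ({y.1.1} : Set X) := by
  rw [isClosed_singleton_iff_forall, isClosed_singleton_iff_forall]
  constructor
  · intro h x' hx'
    have hmem : ConnectedComponents.mk x' = g y.1.2 := by
      rw [mk_eq_of_specializes hx']
      exact y.2
    have := h ⟨(x', y.1.2), hmem⟩ ((fibre_specializes_iff g _ _).mpr ⟨hx', rfl⟩)
    exact congrArg (fun z : FibreProd g => z.1.1) this
  · intro h y' hy'
    obtain ⟨h1, h2⟩ := (fibre_specializes_iff g _ _).mp hy'
    apply Subtype.ext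
    exact Prod.ext (h _ h1) h2.symm

end aux

/-- With X, T, g and the fibre product Y of X and T over pi_0(X) as in the first part, if X is moreover
w-local then Y is w-local, the projection Y -> X is w-local, and the closed points of Y are exactly
the points mapping to closed points of X. -/
theorem result (X T : Type u) [TopologicalSpace X]
    [TopologicalSpace T] [CompactSpace T] [T2Space T] [TotallyDisconnectedSpace T]
    (hX : ProEtW.IsWLocal X) (g : C(T, _root_.ConnectedComponents X)) :
    ProEtW.IsWLocal {p : X × T // _root_.ConnectedComponents.mk p.1 = g p.2} ∧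
      ProEtW.IsWLocalMap (fun y : {p : X × T // _root_.ConnectedComponents.mk p.1 = g p.2} => y.1.1) ∧
      ProEtW.closedPoints {p : X × T // _root_.ConnectedComponents.mk p.1 = g p.2} =
        (fun y : {p : X × T // _root_.ConnectedComponents.mk p.1 = g p.2} => y.1.1) ⁻¹' ProEtW.closedPoints X := by
  obtain ⟨hXs, hXc, hXu⟩ := hX
  have : SpectralSpace T := Groth.Agent.Lib.helper9.spectralSpace_of_profinite
  have : SpectralSpace (Groth.Agent.Lib.helper9.FibreProd g) :=
    Groth.Agent.Lib.helper9.spectralSpace_fibreProd g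
  have : T2Space (ConnectedComponents X) := Groth.Agent.Lib.helper9.t2Space_connectedComponents
  have hcont : Continuous (fun y : Groth.Agent.Lib.helper9.FibreProd g => y.1.1) :=
    continuous_fst.comp continuous_subtype_val
  have hc : ProEtW.closedPoints (Groth.Agent.Lib.helper9.FibreProd g) =
      (fun y : Groth.Agent.Lib.helper9.FibreProd g => y.1.1) ⁻¹' ProEtW.closedPoints X := by
    ext y
    exact isClosed_singleton_fibre_iff g y
  refine ⟨⟨inferInstance, ?_, ?_⟩, ⟨⟨hcont, ?_⟩, ?_⟩, hc⟩
  · have : {y : Groth.Agent.Lib.helper9.FibreProd g | IsClosed ({y} : Set _)} =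
        (fun y : Groth.Agent.Lib.helper9.FibreProd g => y.1.1) ⁻¹' {x : X | IsClosed ({x} : Set X)} :=
      hc
    rw [this]
    exact hXc.preimage hcont
  · intro y
    obtain ⟨x₀, ⟨hx₀c, hx₀s⟩, hx₀u⟩ := hXu y.1.1
    have hmem : ConnectedComponents.mk x₀ = g y.1.2 := by
      rw [mk_eq_of_specializes hx₀s]
      exact y.2
    refine ⟨⟨(x₀, y.1.2), hmem⟩, ⟨?_, ?_⟩, ?_⟩
    · exact (isClosed_singleton_fibre_iff g _).mpr hx₀c
    · exact (fibre_specializes_iff g _ _).mpr ⟨hx₀s, rfl⟩
    · rintro y' ⟨hy'c, hy's⟩
      obtain ⟨h1, h2⟩ := (fibre_specializes_iff g _ _).mp hy's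
      have h3 := hx₀u y'.1.1 ⟨(isClosed_singleton_fibre_iff g _).mp hy'c, h1⟩
      apply Subtype.ext
      exact Prod.ext h3 h2.symm
  · intro U hU hUc
    have h1 : (fun y : Groth.Agent.Lib.helper9.FibreProd g => y.1.1) ⁻¹' U =
        Subtype.val ⁻¹' (U ×ˢ (Set.univ : Set T)) := by
      ext y
      simp
    rw [h1]
    exact (Groth.Agent.Lib.helper9.isClosedEmbedding_fibreProd_val g).isCompact_preimage
      (hUc.prod isCompact_univ)
  · intro y hy
    exact (isClosed_singleton_fibre_iff g y).mp hy

end Groth.Agent.S0704
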