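import Groth.Statements.S0706
import Mathlib.RingTheory.Spectrum.Prime.Topology
import Mathlib.RingTheory.Localization.Ideal

set_option autoImplicit false
open CategoryTheory CategoryTheory.Limits AlgebraicGeometry Opposite Topology
universe u
open ProEtW

namespace Groth.Agent.S0706

/-- Let f be an element and I an ideal of A, and Z the intersection of D(f) and V(I) in Spec A. There is
a multiplicative subset S of A for which the image of Spec(S^{-1}A) in Spec A consists precisely of
the points having a specialization in Z. -/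
theorem result (A : Type u) [CommRing A] (f : A) (I : Ideal A) :
    ∃ S : Submonoid A,
      Set.range (PrimeSpectrum.comap (algebraMap A (Localization S))) =
        {x | ∃ z : PrimeSpectrum A,
          z ∈ (PrimeSpectrum.basicOpen f : Set (PrimeSpectrum A)) ∩ PrimeSpectrum.zeroLocus I ∧ x ⤳ z} := by
  classical
  let S : Submonoid A :=
    { carrier := {x | ∃ n : ℕ, ∃ j ∈ I, x = f ^ n + j}
      one_mem' := ⟨0, 0, I.zero_mem, by simp⟩
      mul_mem' := by
        rintro _ _ ⟨n, j, hj, rfl⟩ ⟨m, j', hj', rfl⟩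
        refine ⟨n + m, f ^ n * j' + j * f ^ m + j * j', ?_, by ring⟩
        exact I.add_mem (I.add_mem (I.mul_mem_left _ hj') (I.mul_mem_right _ hj))
          (I.mul_mem_left _ hj') }
  refine ⟨S, ?_⟩
  rw [PrimeSpectrum.localization_comap_range (Localization S) S]
  ext x
  simp only [Set.mem_inter_iff, SetLike.mem_coe, PrimeSpectrum.mem_basicOpen,
    PrimeSpectrum.mem_zeroLocus]
  constructor
  · intro hdisj
    change Disjoint (S : Set A) (x.asIdeal : Set A) at hdisj
    have h1 : Disjoint ((x.asIdeal ⊔ I : Ideal A) : Set A) (Submonoid.powers f) := by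
      rw [Set.disjoint_left]
      rintro y hy ⟨n, rfl⟩
      obtain ⟨a, ha, j, hj, hsum⟩ := Submodule.mem_sup.mp hy
      have hsum' : a + j = f ^ n := hsum
      have haS : a ∈ (S : Set A) := ⟨n, -j, I.neg_mem hj, by rw [← hsum']; ring⟩
      exact (Set.disjoint_left.mp hdisj) haS ha
    obtain ⟨q, hq, hle, hqd⟩ := Ideal.exists_le_prime_disjoint _ _ h1
    refine ⟨⟨q, hq⟩, ⟨?_, ?_⟩, ?_⟩
    · intro hfq
      exact (Set.disjoint_left.mp hqd) hfq ⟨1, by simp⟩
    · exact fun y hy => hle (Ideal.mem_sup_right hy)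
    · rw [← PrimeSpectrum.le_iff_specializes]
      exact fun y hy => hle (Ideal.mem_sup_left hy)
  · rintro ⟨z, ⟨hfz, hIz⟩, hxz⟩
    rw [← PrimeSpectrum.le_iff_specializes] at hxz
    change Disjoint (S : Set A) (x.asIdeal : Set A)
    rw [Set.disjoint_left]
    rintro y ⟨n, j, hj, rfl⟩ hy
    have h2 : f ^ n + j ∈ z.asIdeal := hxz hy
    have h3 : f ^ n ∈ z.asIdeal := (Ideal.add_mem_iff_left _ (hIz hj)).mp h2
    exact hfz (z.2.mem_of_pow_mem n h3)

end Groth.Agent.S0706
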