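import Groth.Statements.S0708
import Groth.Agent.Lib.Helper24.EtaleDescent
import Groth.Agent.Lib.Helper24.EtaleRetractions
-- import your own Groth.Agent.* helpers here

set_option autoImplicit false
open CategoryTheory CategoryTheory.Limits AlgebraicGeometry Opposite Topology
universe u
open ProEtW

namespace Groth.Agent.S0708

/-- Let A be a ring all of whose faithfully flat etale algebras have retractions, I an ideal with zero
set Z, and B a localization of A at a multiplicative subset such that the image of Spec B → Spec A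
is precisely the set of points of Spec A specializing to some point of Z. Then every faithfully flat
etale B-algebra has a retraction. -/
theorem result (A B : Type u) [CommRing A] [CommRing B]
    [Algebra A B] (S : Submonoid A) [IsLocalization S B] (I : Ideal A)
    (hB : Set.range (PrimeSpectrum.comap (algebraMap A B)) =
      {x | ∃ z : PrimeSpectrum A, z ∈ PrimeSpectrum.zeroLocus (R := A) I ∧ x ⤳ z})
    (hA : ProEtW.HasEtaleRetractions A) : ProEtW.HasEtaleRetractions B := by
  classical
  intro B' _ _ hff het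
  obtain ⟨Z, hZfin, hZ⟩ := Groth.Agent.Lib.Helper24.EtaleDescent.exists_finite_descent B B'
  -- a common denominator
  obtain ⟨s, hs⟩ := IsLocalization.exist_integer_multiples_of_finset S hZfin.toFinset
  have hsu : IsUnit (algebraMap A B (s : A)) := IsLocalization.map_units B s
  let R₀ := Localization.Away (s : A)
  letI algR₀B : Algebra R₀ B := (IsLocalization.Away.lift (s : A) hsu).toAlgebra
  haveI : IsScalarTower A R₀ B := .of_algebraMap_eq' (IsLocalization.Away.lift_comp (s : A) hsu).symm
  have hZr : Z ⊆ Set.range (algebraMap R₀ B) := by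
    intro z hz
    obtain ⟨a, ha⟩ := hs z (hZfin.mem_toFinset.2 hz)
    refine ⟨IsLocalization.mk' R₀ a (⟨(s : A), 1, pow_one _⟩ : Submonoid.powers (s : A)), ?_⟩
    have h1 := IsLocalization.mk'_spec R₀ a (⟨(s : A), 1, pow_one _⟩ : Submonoid.powers (s : A))
    have h2 := congrArg (algebraMap R₀ B) h1
    rw [map_mul, ← IsScalarTower.algebraMap_apply, ← IsScalarTower.algebraMap_apply] at h2
    rw [Algebra.smul_def, mul_comm] at ha
    exact (hsu.mul_left_inj).1 (h2.trans ha)
  obtain ⟨E₀, _, _, hE₀, ⟨θ⟩⟩ := hZ R₀ hZr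
  letI : Algebra A E₀ := ((algebraMap R₀ E₀).comp (algebraMap A R₀)).toAlgebra
  haveI : IsScalarTower A R₀ E₀ := .of_algebraMap_eq' rfl
  haveI : Algebra.Etale A E₀ := Algebra.Etale.comp A R₀ E₀
  letI : Algebra A B' := ((algebraMap B B').comp (algebraMap A B)).toAlgebra
  haveI : IsScalarTower A B B' := .of_algebraMap_eq' rfl
  let ψ : E₀ →ₐ[A] B' :=
    ((θ.restrictScalars A).toAlgHom.comp
      ((Algebra.TensorProduct.includeRight : E₀ →ₐ[R₀] TensorProduct R₀ B E₀).restrictScalars A))
  have hψ : ψ.toRingHom.comp (algebraMap A E₀) = algebraMap A B' := ψ.comp_algebraMap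
  -- every prime of `B` lies under a prime containing `I`
  have hrange : ∀ p : PrimeSpectrum A, p ∈ PrimeSpectrum.zeroLocus (I : Set A) →
      p ∈ Set.range (PrimeSpectrum.comap (algebraMap A B)) := by
    intro p hp
    rw [hB]
    exact ⟨p, hp, specializes_rfl⟩
  have hopen : IsOpen (Set.range (PrimeSpectrum.comap (algebraMap A E₀))) :=
    (PrimeSpectrum.isOpenMap_comap_of_hasGoingDown_of_finitePresentation
      (R := A) (S := E₀)).isOpen_range
  set U : Set (PrimeSpectrum A) := Set.range (PrimeSpectrum.comap (algebraMap A E₀)) with hU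
  have hIU : PrimeSpectrum.zeroLocus (I : Set A) ⊆ U := by
    intro p hp
    obtain ⟨pb, rfl⟩ := hrange p hp
    obtain ⟨qb, rfl⟩ := PrimeSpectrum.comap_surjective_of_faithfullyFlat (A := B) (B := B') pb
    refine ⟨PrimeSpectrum.comap ψ.toRingHom qb, ?_⟩
    rw [← PrimeSpectrum.comap_comp_apply, hψ]
    rfl
  have hclosed : IsClosed Uᶜ := hopen.isClosed_compl
  have hzl : PrimeSpectrum.zeroLocus (PrimeSpectrum.vanishingIdeal Uᶜ : Set A) = Uᶜ := by
    rw [PrimeSpectrum.zeroLocus_vanishingIdeal_eq_closure, hclosed.closure_eq]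
  have htop : I ⊔ PrimeSpectrum.vanishingIdeal Uᶜ = ⊤ := by
    by_contra hne
    obtain ⟨M, hM, hle⟩ := Ideal.exists_le_maximal _ hne
    have h1 : (⟨M, hM.isPrime⟩ : PrimeSpectrum A) ∈ U :=
      hIU ((PrimeSpectrum.mem_zeroLocus _ _).2 (show I ≤ M from le_sup_left.trans hle))
    have h2 : (⟨M, hM.isPrime⟩ : PrimeSpectrum A) ∈ Uᶜ := by
      rw [← hzl, PrimeSpectrum.mem_zeroLocus]
      exact (show PrimeSpectrum.vanishingIdeal Uᶜ ≤ M from le_sup_right.trans hle)
    exact h2 h1
  obtain ⟨μ, hμI, j, hjJ, hμj⟩ := Submodule.mem_sup.1 ((Ideal.eq_top_iff_one _).1 htop)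
  have hcover : ∀ p : PrimeSpectrum A, p ∉ U → μ ∉ p.asIdeal := by
    intro p hp hμp
    have hjp : j ∈ p.asIdeal := by
      have : p ∈ PrimeSpectrum.zeroLocus (PrimeSpectrum.vanishingIdeal Uᶜ : Set A) := by
        rw [hzl]
        exact hp
      exact (PrimeSpectrum.mem_zeroLocus _ _).1 this hjJ
    have : (1 : A) ∈ p.asIdeal := by
      rw [← hμj]
      exact p.asIdeal.add_mem hμp hjp
    exact p.isPrime.ne_top ((Ideal.eq_top_iff_one _).2 this)
  have hEt : Algebra.Etale A (E₀ × Localization.Away μ) :=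
    Groth.Agent.Lib.Helper24.EtaleRetractions.etale_prod E₀ (Localization.Away μ)
  have hflat : Module.Flat A (E₀ × Localization.Away μ) := inferInstance
  have hff' : Module.FaithfullyFlat A (E₀ × Localization.Away μ) := by
    apply Module.FaithfullyFlat.of_comap_surjective
    intro p
    by_cases hp : p ∈ U
    · obtain ⟨q', rfl⟩ := hp
      refine ⟨⟨q'.asIdeal.comap (RingHom.fst E₀ (Localization.Away μ)), inferInstance⟩, ?_⟩
      apply PrimeSpectrum.ext
      show Ideal.comap (algebraMap A (E₀ × Localization.Away μ))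
        (Ideal.comap (RingHom.fst E₀ (Localization.Away μ)) q'.asIdeal) = _
      rw [Ideal.comap_comap]
      rfl
    · have hμp := hcover p hp
      have hdisj : Disjoint (Submonoid.powers μ : Set A) (p.asIdeal : Set A) := by
        rw [Set.disjoint_left]
        rintro x ⟨n, rfl⟩ hx
        exact hμp (p.isPrime.mem_of_pow_mem n hx)
      have hprime := IsLocalization.isPrime_of_isPrime_disjoint (Submonoid.powers μ)
        (Localization.Away μ) p.asIdeal p.isPrime hdisj
      have hcomap := IsLocalization.under_map_of_isPrime_disjoint (Submonoid.powers μ)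
        (Localization.Away μ) p.isPrime hdisj
      refine ⟨⟨(Ideal.map (algebraMap A (Localization.Away μ)) p.asIdeal).comap
        (RingHom.snd E₀ (Localization.Away μ)), ?_⟩, ?_⟩
      · have := hprime
        exact Ideal.comap_isPrime _ _
      · apply PrimeSpectrum.ext
        show Ideal.comap (algebraMap A (E₀ × Localization.Away μ))
          (Ideal.comap (RingHom.snd E₀ (Localization.Away μ)) _) = _
        rw [Ideal.comap_comap]
        exact hcomap
  obtain ⟨ρ⟩ := hA (E₀ × Localization.Away μ) hff' hEt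
  let ρm : E₀ × Localization.Away μ →ₐ[A] B := (Algebra.ofId A B).comp ρ
  have hsum : ρm (1, 0) + ρm (0, 1) = 1 := by
    rw [← map_add, Prod.mk_add_mk, add_zero, zero_add, ← Prod.one_eq_mk, map_one]
  -- `μ` lies in every maximal ideal of `B`
  have hμmax : ∀ 𝔪 : Ideal B, 𝔪.IsMaximal → algebraMap A B μ ∈ 𝔪 := by
    intro 𝔪 h𝔪
    have hmem : PrimeSpectrum.comap (algebraMap A B) ⟨𝔪, h𝔪.isPrime⟩ ∈
        Set.range (PrimeSpectrum.comap (algebraMap A B)) := ⟨_, rfl⟩
    rw [hB] at hmem
    obtain ⟨z, hzI, hspec⟩ := hmem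
    obtain ⟨⟨𝔫, h𝔫⟩, rfl⟩ := hrange z hzI
    have hle : 𝔪.comap (algebraMap A B) ≤ 𝔫.comap (algebraMap A B) :=
      (PrimeSpectrum.le_iff_specializes _ _).2 hspec
    have hle' : 𝔪 ≤ 𝔫 := by
      rw [← IsLocalization.map_comap S B 𝔪, ← IsLocalization.map_comap S B 𝔫]
      exact Ideal.map_mono hle
    have heq : 𝔪 = 𝔫 := h𝔪.eq_of_le h𝔫.ne_top hle'
    have : μ ∈ 𝔫.comap (algebraMap A B) := (PrimeSpectrum.mem_zeroLocus _ _).1 hzI hμI
    rw [heq]
    exact this
  have h01 : ρm (0, 1) = 0 := by
    obtain ⟨v, hv⟩ :=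
      (IsLocalization.Away.algebraMap_isUnit (S := Localization.Away μ) μ).exists_right_inv
    have h1 : ((0, 1) : E₀ × Localization.Away μ) = μ • ((0, v) : E₀ × Localization.Away μ) := by
      rw [Prod.smul_mk, smul_zero, Algebra.smul_def, hv]
    have hid : IsIdempotentElem (ρm (0, 1)) := by
      have : IsIdempotentElem ((0, 1) : E₀ × Localization.Away μ) := by
        show ((0, 1) : E₀ × Localization.Away μ) * (0, 1) = (0, 1)
        simp
      exact this.map ρm
    have hjac : ρm (0, 1) ∈ Ideal.jacobson (⊥ : Ideal B) := by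
      rw [Ideal.jacobson, Ideal.mem_sInf]
      rintro 𝔪 ⟨-, h𝔪⟩
      rw [h1, map_smul, Algebra.smul_def]
      exact 𝔪.mul_mem_right _ (hμmax 𝔪 h𝔪)
    have hunit : IsUnit (1 - ρm (0, 1)) := by
      have := (Ideal.mem_jacobson_bot.1 hjac) (-1)
      rw [mul_neg, mul_one, neg_add_eq_sub] at this
      exact this
    have hz : ρm (0, 1) * (1 - ρm (0, 1)) = 0 := by
      rw [mul_sub, mul_one, hid.eq, sub_self]
    exact (hunit.mul_left_eq_zero).1 hz
  have he1 : ρm (1, 0) = 1 := by rw [← hsum, h01, add_zero]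
  let L : E₀ →ₗ[A] B := ρm.toLinearMap ∘ₗ LinearMap.inl A E₀ (Localization.Away μ)
  let L' : E₀ →ₐ[A] B := AlgHom.ofLinearMap L he1 (by
    intro x y
    show ρm (x * y, 0) = ρm (x, 0) * ρm (y, 0)
    rw [← map_mul, Prod.mk_mul_mk, mul_zero])
  let L'' : E₀ →ₐ[R₀] B := L'.extendScalarsOfIsLocalization R₀ (Submonoid.powers (s : A))
  let T : TensorProduct R₀ B E₀ →ₐ[B] B :=
    Algebra.TensorProduct.lift (Algebra.ofId B B) L'' (fun _ _ => Commute.all _ _)
  exact ⟨T.comp θ.symm.toAlgHom⟩

end Groth.Agent.S0708
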