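import Groth.Statements.S0729
-- import your own Groth.Agent.* helpers here

set_option autoImplicit false
open CategoryTheory CategoryTheory.Limits AlgebraicGeometry Opposite
universe u
open ProEtS

namespace Groth.Agent.S0729

/-- Every étale covering of a scheme X is a pro-étale covering, in the form used to define the
comparison morphism of sites ε : X_proét → X_ét: the inclusion functor from the small étale site of
X to the small pro-étale site of X is continuous. -/
theorem result (X : Scheme.{u}) : ProEtS.EpsCont X := by
  have hflat : RepresentablyFlat (ProEtS.eps X) := by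
    have : PreservesFiniteLimits (ProEtS.eps X ⋙ Scheme.ProEt.forget X) := by
      change PreservesFiniteLimits (MorphismProperty.Over.forget EtCoh.etaleMP.{u} ⊤ X)
      infer_instance
    have : PreservesFiniteLimits (ProEtS.eps X) :=
      preservesFiniteLimits_of_reflects_of_preserves (ProEtS.eps X) (Scheme.ProEt.forget X)
    exact flat_of_preservesFiniteLimits _
  refine Functor.isContinuous_of_coverPreserving (compatiblePreservingOfFlat _ _) ?_
  constructor
  intro U S hS
  have eX : X.smallEtaleTopology =
      (X.smallPretopology (P := EtCoh.etaleMP) (Q := EtCoh.etaleMP)).toGrothendieck :=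
    Scheme.smallGrothendieckTopology_eq_toGrothendieck_smallPretopology X le_rfl
  rw [eX] at hS
  replace hS := (Scheme.mem_toGrothendieck_smallPretopology U S).1 hS
  choose T g t hg hP ht using hS
  refine GrothendieckTopology.superset_covering _ ?_
    (Precoverage.generate_mem_toGrothendieck (R := Presieve.ofArrows
      (fun v => (ProEtS.eps X).obj (T v)) (fun v => (ProEtS.eps X).map (g v))) ?_)
  · rw [Sieve.generate_le_iff]
    rintro _ _ ⟨v⟩
    exact Sieve.image_mem_functorPushforward _ _ (hg v)
  · rw [Scheme.ProEt.precoverage, Precoverage.mem_comap_iff, Presieve.map_ofArrows]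
    apply Scheme.etalePrecoverage_le_proetalePrecoverage
    rw [Scheme.etalePrecoverage, Scheme.ofArrows_mem_precoverage_iff]
    refine ⟨fun v => ⟨v, t v, ?_⟩, fun v => ?_⟩
    · exact ht v
    · exact hP v

end Groth.Agent.S0729
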