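import Groth.Statements.S0730
-- import your own Groth.Agent.* helpers here

set_option autoImplicit false
open CategoryTheory CategoryTheory.Limits AlgebraicGeometry Opposite
universe u
open ProEtS

namespace Groth.Agent.S0730

set_option backward.isDefEq.respectTransparency.types false in
theorem isPullback_bcP_map {X Y : Scheme.{u}} (f : X ⟶ Y) {V U : Y.ProEt} (g : V ⟶ U) :
    IsPullback ((ProEtS.bcP f).map g).left
      (pullback.fst V.hom f : ((ProEtS.bcP f).obj V).left ⟶ V.left)
      (pullback.fst U.hom f : ((ProEtS.bcP f).obj U).left ⟶ U.left) g.left := by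
  have e1 : ((ProEtS.bcP f).map g).left ≫ pullback.snd U.hom f = pullback.snd V.hom f := by
    dsimp [ProEtS.bcP]
    exact pullback.lift_snd _ _ _
  have e2 : g.left ≫ U.hom = V.hom := Over.w g.hom
  refine IsPullback.of_right (h₁₂ := pullback.snd U.hom f) (v₁₃ := f) (h₂₂ := U.hom) ?_ ?_
    (IsPullback.of_hasPullback U.hom f).flip
  · exact (congrArg₂ (fun a d => IsPullback a (pullback.fst V.hom f) f d) e1 e2).mpr
      (IsPullback.of_hasPullback V.hom f).flip
  · dsimp [ProEtS.bcP]
    exact pullback.lift_fst _ _ _

/-- Base changes of pro-étale coverings are pro-étale coverings, in the form used to define the morphism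
of sites f_proét : X_proét → Y_proét for a morphism of schemes f : X → Y: the base change functor
from the small pro-étale site of Y to that of X is continuous. -/
theorem result {X Y : Scheme.{u}} (f : X ⟶ Y) : ProEtS.PCont f := by
  have hlim : PreservesFiniteLimits (ProEtS.bcP f) := by
    have : PreservesFiniteLimits (ProEtS.bcP f ⋙ Scheme.ProEt.forget X) := by
      have e : ProEtS.bcP f ⋙ Scheme.ProEt.forget X ≅
          Scheme.ProEt.forget Y ⋙ CategoryTheory.Over.pullback f :=
        MorphismProperty.Over.pullbackCompForgetIso (P := @WeaklyEtale) (Q := ⊤) f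
      have : PreservesFiniteLimits (Scheme.ProEt.forget Y ⋙ CategoryTheory.Over.pullback f) :=
        inferInstance
      exact preservesFiniteLimits_of_natIso e.symm
    exact preservesFiniteLimits_of_reflects_of_preserves (ProEtS.bcP f) (Scheme.ProEt.forget X)
  have hle : Scheme.ProEt.precoverage Y ≤ (Scheme.ProEt.precoverage X).comap (ProEtS.bcP f) := by
    intro U R hR
    obtain ⟨ι, V, g, rfl⟩ := R.exists_eq_ofArrows
    rw [Scheme.ProEt.precoverage, Precoverage.mem_comap_iff, Presieve.map_ofArrows] at hR
    rw [Precoverage.mem_comap_iff, Presieve.map_ofArrows, Scheme.ProEt.precoverage,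
      Precoverage.mem_comap_iff, Presieve.map_ofArrows]
    exact Precoverage.mem_coverings_of_isPullback _ hR
      (pullback.fst U.hom f : ((ProEtS.bcP f).obj U).left ⟶ U.left) _
      (fun i => (pullback.fst (V i).hom f : ((ProEtS.bcP f).obj (V i)).left ⟶ (V i).left))
      (fun i => isPullback_bcP_map f (g i))
  have hstab : ∀ S : Scheme.{u}, (Scheme.ProEt.precoverage S).IsStableUnderBaseChange := by
    intro S
    unfold Scheme.ProEt.precoverage
    infer_instance
  have := hstab X
  have := hstab Y
  exact Functor.isContinuous_toGrothendieck_of_pullbacksPreservedBy _ _ _ hle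

end Groth.Agent.S0730
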