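import Groth.Statements.S0736
import Groth.Agent.Lib.Helper1.FilteredFlat

set_option autoImplicit false
open CategoryTheory CategoryTheory.Limits AlgebraicGeometry Opposite Topology
universe u
open ProEtW

namespace Groth.Agent.S0736

theorem weaklyEtale_of_isColimit {A : Type u} [CommRing A] {J : Type u} [SmallCategory J]
    [IsFiltered J] (D : J ⥤ Under (CommRingCat.of A)) (c : Cocone D) (hc : IsColimit c)
    (hD : ∀ j, letI := (D.obj j).hom.hom.toAlgebra; Algebra.Etale A (D.obj j).right) :
    letI := c.pt.hom.hom.toAlgebra; Algebra.WeaklyEtale A c.pt.right := by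
  let R : CommRingCat.{u} := CommRingCat.of A
  let F : J ⥤ CommRingCat.{u} := D ⋙ Under.forget R
  let cF : Cocone F := (Under.forget R).mapCocone c
  have hcF : IsColimit cF := isColimitOfPreserves (Under.forget R) hc
  letI : ∀ j, Algebra A (D.obj j).right := fun j => (D.obj j).hom.hom.toAlgebra
  letI : Algebra A c.pt.right := c.pt.hom.hom.toAlgebra
  haveI : ∀ j, Algebra.Etale A (D.obj j).right := hD
  refine Groth.Agent.Lib.helper1.weaklyEtale_of_filtered (A := A) (J := J)
    (fun j => (D.obj j).right) (B := c.pt.right)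
    (fun f => CommRingCat.toAlgHom (D.map f)) (fun j => CommRingCat.toAlgHom (c.ι.app j)) ?_ ?_ ?_
  · intro j k f
    rw [← CommRingCat.toAlgHom_comp, c.w f]
  · intro b
    exact Concrete.isColimit_exists_rep F hcF b
  · intro j x hx
    obtain ⟨k, f, g, hfg⟩ := Concrete.isColimit_exists_of_rep_eq F hcF x (0 : (D.obj j).right)
      (by
        change (c.ι.app j).right.hom x = (c.ι.app j).right.hom 0
        rw [map_zero]
        exact hx)
    refine ⟨k, f, ?_⟩
    change (D.map f).right.hom x = 0
    have : (D.map g).right.hom (0 : (D.obj j).right) = 0 := map_zero _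
    rw [← this]
    exact hfg

/-- An ind-etale ring map A -> B is weakly etale (A -> B and B (x)_A B -> B flat), in Mathlib's sense
Algebra.WeaklyEtale. -/
theorem result (A B : Type u) [CommRing A] [CommRing B] [Algebra A B]
    (h : EtPBC.IsIndEtale A B) : Algebra.WeaklyEtale A B := by
  obtain ⟨J, hJ, hJf, D, c, hc, hD, ⟨e⟩⟩ := h
  let c' : Cocone D := c.extend e.hom
  have hc' : IsColimit c' := IsColimit.ofIsoColimit hc (Cocone.ext e (fun j => rfl))
  have key := weaklyEtale_of_isColimit D c' hc' hD
  have h1 : (algebraMap A B).toAlgebra = ‹Algebra A B› :=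
    Algebra.algebra_ext _ _ (fun _ => rfl)
  change @Algebra.WeaklyEtale A B _ _ (algebraMap A B).toAlgebra at key
  rw [h1] at key
  exact key

end Groth.Agent.S0736
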