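import Groth.Statements.S0738
-- import your own Groth.Agent.* helpers here

set_option autoImplicit false
open Topology
universe u
open ProEtW

namespace Groth.Agent.S0738

theorem quasiSeparatedSpace_of_isClosedEmbedding {X Y : Type*} [TopologicalSpace X]
    [TopologicalSpace Y] [QuasiSeparatedSpace Y] [PrespectralSpace Y] (f : X → Y)
    (hf : IsClosedEmbedding f) : QuasiSeparatedSpace X := by
  let b : {U : Set Y // IsOpen U ∧ IsCompact U} → Set X := fun U => f ⁻¹' U.1
  have hb : Set.range b = Set.image (Set.preimage f) {U : Set Y | IsOpen U ∧ IsCompact U} := by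
    ext s
    constructor
    · rintro ⟨⟨U, hU⟩, rfl⟩
      exact ⟨U, hU, rfl⟩
    · rintro ⟨U, hU, rfl⟩
      exact ⟨⟨U, hU⟩, rfl⟩
  refine QuasiSeparatedSpace.of_isTopologicalBasis (b := b) ?_ ?_
  · rw [hb]
    exact PrespectralSpace.isTopologicalBasis.isInducing hf.isInducing
  · rintro ⟨U, hU, hU'⟩ ⟨V, hV, hV'⟩
    have : IsCompact (U ∩ V) := QuasiSeparatedSpace.inter_isCompact U V hU hU' hV hV'
    have h2 := hf.isCompact_preimage this
    simpa [b, Set.preimage_inter] using h2

theorem isClosed_singleton_subtype_iff {X : Type*} [TopologicalSpace X] {Y : Set X}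
    (hY : IsClosed Y) (y : Y) : IsClosed ({y} : Set Y) ↔ IsClosed ({(y : X)} : Set X) := by
  have hemb : IsClosedEmbedding (Subtype.val : Y → X) := hY.isClosedEmbedding_subtypeVal
  constructor
  · intro h
    have := hemb.isClosedMap _ h
    simpa using this
  · intro h
    have := h.preimage (continuous_subtype_val (p := (· ∈ Y)))
    convert this using 1
    ext z
    simp [Subtype.ext_iff]

/-- A closed subset of a w-local spectral space is w-local (with the subspace topology). -/
theorem result (X : Type u) [TopologicalSpace X] (hX : ProEtW.IsWLocal X)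
    (Y : Set X) (hY : IsClosed Y) : ProEtW.IsWLocal ↥Y := by
  obtain ⟨hS, hC, hU⟩ := hX
  have hemb : IsClosedEmbedding (Subtype.val : Y → X) := hY.isClosedEmbedding_subtypeVal
  refine ⟨?_, ?_, ?_⟩
  · have : CompactSpace Y := isCompact_iff_compactSpace.mp hY.isCompact
    have : QuasiSober Y := hemb.quasiSober
    have : PrespectralSpace Y := PrespectralSpace.of_isClosedEmbedding _ hemb
    have : QuasiSeparatedSpace Y := quasiSeparatedSpace_of_isClosedEmbedding _ hemb
    have : T0Space Y := hemb.isEmbedding.t0Space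
    exact {}
  · have : {y : Y | IsClosed ({y} : Set Y)} = Subtype.val ⁻¹' {x : X | IsClosed ({x} : Set X)} := by
      ext y
      exact isClosed_singleton_subtype_iff hY y
    rw [this]
    exact hC.preimage continuous_subtype_val
  · intro y
    obtain ⟨z, ⟨hz, hyz⟩, huniq⟩ := hU (y : X)
    have hzY : z ∈ Y := hyz.mem_closed hY y.2
    refine ⟨⟨z, hzY⟩, ⟨(isClosed_singleton_subtype_iff hY ⟨z, hzY⟩).mpr hz, ?_⟩, ?_⟩
    · exact hemb.isInducing.specializes_iff.mp hyz
    · rintro w ⟨hw, hyw⟩
      have h1 := huniq (w : X) ⟨(isClosed_singleton_subtype_iff hY w).mp hw,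
        hemb.isInducing.specializes_iff.mpr hyw⟩
      exact Subtype.ext h1

end Groth.Agent.S0738
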