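import Groth.Statements.S0739
import Mathlib
import Groth.Prelude
import Groth.Agent.Lib.Helper1.WEtaleLift

set_option autoImplicit false
open CategoryTheory CategoryTheory.Limits AlgebraicGeometry Opposite
universe u
open ProEtS

namespace Groth.Agent.S0739

open Groth.Agent.H1.WEtaleLift

theorem isPullback_left {X : Scheme.{u}} {U V Y : X.ProEt} (g : V ⟶ U) (f : Y ⟶ U) :
    IsPullback (pullback.fst g f).left (pullback.snd g f).left g.left f.left := by
  have h := (IsPullback.of_hasPullback g f).map (Scheme.ProEt.forget X ⋙ Over.forget X)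
  exact h

theorem main {X : Scheme.{u}} (U : X.ProEt) (R : Sieve U)
    (hR : R ∈ Scheme.ProEt.topology X U) {k : Type u} [Field k] [IsSepClosed k]
    (ξ : Spec (CommRingCat.of k) ⟶ U.left) :
    ∃ (V : X.ProEt) (g : V ⟶ U) (ξ' : Spec (CommRingCat.of k) ⟶ V.left), R g ∧ ξ' ≫ g.left = ξ := by
  have hR' : (Scheme.ProEt.precoverage X).Saturate U R := hR
  clear hR
  induction hR' with
  | of U S hS =>
    have h1 := hS.2.1
    rw [Scheme.jointlySurjectivePrecoverage,
      Presieve.mem_comap_jointlySurjectivePrecoverage_iff] at h1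
    obtain ⟨Y, f, hf, v, hv⟩ := h1 (ξ.base default)
    obtain @⟨V, g, hg⟩ := hf
    haveI : WeaklyEtale g.left := by
      have h2 : g.left ≫ U.hom = V.hom := MorphismProperty.Over.w g
      haveI : WeaklyEtale (g.left ≫ U.hom) := by rw [h2]; infer_instance
      exact WeaklyEtale.of_comp g.left U.hom
    obtain ⟨ξ', hξ'⟩ := exists_lift g.left ξ v hv
    exact ⟨V, g, ξ', Sieve.le_generate S _ _ hg, hξ'⟩
  | top U =>
    exact ⟨U, 𝟙 U, ξ, trivial, Category.comp_id ξ⟩
  | pullback U S hS Y f ih =>
    obtain ⟨V, g, ξ', hg, h1⟩ := ih (ξ ≫ f.left)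
    have hp := isPullback_left g f
    refine ⟨pullback g f, pullback.snd g f, hp.lift ξ' ξ h1, ?_, hp.lift_snd _ _ _⟩
    change S (pullback.snd g f ≫ f)
    rw [← pullback.condition]
    exact S.downward_closed hg _
  | transitive U S R hS hR ih1 ih2 =>
    obtain ⟨V, g, ξ', hg, h1⟩ := ih1 ξ
    obtain ⟨W, g', ξ'', hg', h2⟩ := ih2 hg ξ'
    refine ⟨W, g' ≫ g, ξ'', hg', ?_⟩
    change ξ'' ≫ g'.left ≫ g.left = ξ
    rw [← Category.assoc, h2, h1]

/-- Let U be an object of X_proet, R a covering sieve on U, and xi : Spec k -> U a geometric point (k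
separably closed). Then there is a morphism V -> U in R and a geometric point of V with the same
field mapping to xi. -/
theorem result {X : Scheme.{u}} (U : X.ProEt) (R : Sieve U)
    (hR : R ∈ Scheme.ProEt.topology X U) {k : Type u} [Field k] [IsSepClosed k]
    (ξ : Spec (CommRingCat.of k) ⟶ U.left) :
    ∃ (V : X.ProEt) (g : V ⟶ U) (ξ' : Spec (CommRingCat.of k) ⟶ V.left), R g ∧ ξ' ≫ g.left = ξ := by
  exact main U R hR ξ

end Groth.Agent.S0739
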