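import Groth.Statements.S0742
import Mathlib.CategoryTheory.Adjunction.Triple
import Mathlib.CategoryTheory.Monad.Adjunction
-- import your own Groth.Agent.* helpers here

set_option autoImplicit false
open CategoryTheory CategoryTheory.Limits AlgebraicGeometry Opposite
universe u
open ProEtS

namespace Groth.Agent.S0742

/-- For an open immersion j : U -> X, the unit F -> j^{-1} j_! F and the counit j^{-1} j_* G -> G are
isomorphisms on abelian pro-etale sheaves (so j_! and j_* are fully faithful; continuity binders
assumed). -/
theorem isIso_lift {U X : Scheme.{u}} (j : U ⟶ X) [Mono j] {V : Scheme.{u}} (a : V ⟶ U) :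
    IsIso (pullback.lift (𝟙 V) a (by simp) : V ⟶ pullback (a ≫ j) j) := by
  refine ⟨pullback.fst _ _, pullback.lift_fst _ _ _, ?_⟩
  apply pullback.hom_ext
  · rw [Category.assoc, pullback.lift_fst, Category.comp_id, Category.id_comp]
  · rw [Category.assoc, pullback.lift_snd, Category.id_comp, ← cancel_mono j, Category.assoc]
    exact pullback.condition

theorem result {U X : Scheme.{u}} (j : U ⟶ X) [IsOpenImmersion j]
    [ProEtS.JPCont j] [ProEtS.PCont j] (F G : ProEtS.AbP U) :
    IsIso ((ProEtS.extZeroPAdj j).unit.app F) ∧ IsIso ((ProEtS.pullPushAdjP j).counit.app G) := by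
  have hj : WeaklyEtale j := inferInstance
  let adj0 : ProEtS.compP j ⊣ ProEtS.bcP j :=
    MorphismProperty.Over.mapPullbackAdj (@WeaklyEtale) ⊤ j hj trivial
  have hunit : ∀ A : U.ProEt, IsIso (adj0.unit.app A) := by
    intro A
    have h1 : IsIso ((Scheme.ProEt.forget U ⋙ CategoryTheory.Over.forget U).map
        (adj0.unit.app A)) := by
      change IsIso (pullback.lift (𝟙 A.left) A.hom (by simp) :
        A.left ⟶ pullback (A.hom ≫ j) j)
      exact isIso_lift j A.hom
    exact isIso_of_reflects_iso _ (Scheme.ProEt.forget U ⋙ CategoryTheory.Over.forget U)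
  let adj3 : ProEtS.restrP j ⊣ ProEtS.pushP j :=
    adj0.sheafPushforwardContinuous (E := AddCommGrpCat.{u + 1}) (Scheme.ProEt.topology U)
      (Scheme.ProEt.topology X)
  have hcounit : IsIso adj3.counit := by
    have h : ∀ P, IsIso (adj3.counit.app P) := by
      intro P
      have h2 : IsIso ((sheafToPresheaf _ _).map (adj3.counit.app P)) := by
        have h3 : ∀ V, IsIso (((sheafToPresheaf _ _).map (adj3.counit.app P)).app V) := by
          intro V
          change IsIso (((adj0.op.whiskerLeft _).counit.app P.obj).app V)
          rw [Adjunction.whiskerLeft_counit_app_app]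
          have : IsIso (adj0.op.counit.app V) := by
            change IsIso (adj0.unit.app V.unop).op
            infer_instance
          infer_instance
        exact NatIso.isIso_of_isIso_app _
      exact isIso_of_reflects_iso _ (sheafToPresheaf _ _)
    exact NatIso.isIso_of_isIso_app _
  constructor
  · have : IsIso (ProEtS.extZeroPAdj j).unit :=
      (Adjunction.Triple.mk (ProEtS.extZeroPAdj j) adj3).isIso_unit_iff_isIso_counit.mpr hcounit
    infer_instance
  · let e : ProEtS.pushP j ⋙ ProEtS.pullP j ≅ 𝟭 _ :=
      Functor.isoWhiskerLeft (ProEtS.pushP j) (adj3.leftAdjointUniq (ProEtS.pullPushAdjP j)).symm ≪≫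
        asIso adj3.counit
    have : IsIso (ProEtS.pullPushAdjP j).counit := (ProEtS.pullPushAdjP j).isIso_counit_of_iso e
    infer_instance

end Groth.Agent.S0742
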