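import Groth.Statements.S0743
-- import your own Groth.Agent.* helpers here

set_option autoImplicit false
open CategoryTheory CategoryTheory.Limits AlgebraicGeometry Opposite
universe u
open ProEtS

namespace Groth.Agent.S0743

/-- For an etale morphism j : U -> X and an abelian sheaf G on U_et, eps^{-1} (j_! G) and j_! (eps^{-1}
G) are isomorphic as abelian sheaves on X_proet (existence of an isomorphism; continuity binders
assumed). -/
theorem result {U X : Scheme.{u}} (j : U ⟶ X) [Etale j] [EtShriek.JCont j]
    [ProEtS.JPCont j] [ProEtS.EpsCont U] [ProEtS.EpsCont X] (G : EtCoh.Ab U) :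
    Nonempty ((ProEtS.epsPull X).obj ((EtShriek.extZero j).obj G) ≅
      (ProEtS.extZeroP j).obj ((ProEtS.epsPull U).obj G)) := by
  let adj1 := (EtShriek.extZeroAdj j).comp (ProEtS.epsAdj X)
  let adj2 := (ProEtS.epsAdj U).comp (ProEtS.extZeroPAdj j)
  let K : U.Etale ⥤ X.ProEt := EtShriek.compEtale j ⋙ ProEtS.eps X
  have : K.IsContinuous U.smallEtaleTopology (Scheme.ProEt.topology X) :=
    Functor.isContinuous_comp _ _ _ X.smallEtaleTopology _
  let eK : ProEtS.eps U ⋙ ProEtS.compP j ≅ K :=
    NatIso.ofComponents (fun V => Iso.refl _) (by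
      intro V W g
      simp only [Iso.refl_hom, Category.comp_id, Category.id_comp]
      rfl)
  let e1 : ProEtS.epsPush X ⋙ EtShriek.restrAlong j ≅
      K.sheafPushforwardContinuous AddCommGrpCat.{u + 1} U.smallEtaleTopology
        (Scheme.ProEt.topology X) :=
    Functor.sheafPushforwardContinuousComp' (Iso.refl K) _ _ _ _
  let e2 : ProEtS.restrP j ⋙ ProEtS.epsPush U ≅
      K.sheafPushforwardContinuous AddCommGrpCat.{u + 1} U.smallEtaleTopology
        (Scheme.ProEt.topology X) :=
    Functor.sheafPushforwardContinuousComp' eK _ _ _ _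
  let adj2' := adj2.ofNatIsoRight (e2 ≪≫ e1.symm)
  exact ⟨(adj1.leftAdjointUniq adj2').app G⟩

end Groth.Agent.S0743
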