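import Groth.Statements.S0745
import Groth.Agent.Lib.Helper1.FppfFinPush
import Groth.Agent.S0161

set_option autoImplicit false
open CategoryTheory CategoryTheory.Limits AlgebraicGeometry Opposite
universe u
open EtFppf

namespace Groth.Agent.S0745

open Groth.Agent.H1.FppfPull Groth.Agent.H1.FppfLC Groth.Agent.H1.CechCE Groth.Agent.H1.FppfFinPush

/-- `R^0 f_big,* ≅ f_big,*` on the big fppf site -/
noncomputable def rpushBigZeroIso {X Y : Scheme.{u}} (f : X ⟶ Y) :
    EtFppf.RpushBig f 0 ≅ EtFppf.pushBig f := by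
  have : PreservesFiniteLimits (EtFppf.pushBig f) := by
    have h : PreservesLimitsOfSize.{0, 0}
        (BigSite.pushBig Scheme.fppfPrecoverage f AddCommGrpCat.{u + 1}) :=
      (BigSite.bigAdj Scheme.fppfPrecoverage f AddCommGrpCat.{u + 1}).rightAdjoint_preservesLimits
    exact PreservesLimitsOfSize.preservesFiniteLimits _
  exact (EtFppf.pushBig f).rightDerivedZeroIsoSelf

/-- finite base change in degree zero, on the big fppf site -/
noncomputable def thetaIso {X Y : Scheme.{u}} (f : X ⟶ Y) [IsFinite f] [EtFppf.ACont X]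
    [EtFppf.ACont Y] (F : EtCoh.Ab X) :
    LF Y ((EtCoh.push f).obj F) ≅ (EtFppf.pushBig f).obj (LF X F) :=
  haveI := Groth.Agent.H1.BigSmallBC.isIso_theta f F
  { hom := ObjectProperty.homMk (Groth.Agent.H1.BigSmallBC.theta f F).hom
    inv := ObjectProperty.homMk (inv (Groth.Agent.H1.BigSmallBC.theta f F)).hom
    hom_inv_id := by
      apply Sheaf.hom_ext
      exact congrArg (fun k => k.hom) (IsIso.hom_inv_id (Groth.Agent.H1.BigSmallBC.theta f F))
    inv_hom_id := by
      apply Sheaf.hom_ext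
      exact congrArg (fun k => k.hom) (IsIso.inv_hom_id (Groth.Agent.H1.BigSmallBC.theta f F)) }

theorem main {X Y : Scheme.{u}} (f : X ⟶ Y) [IsFinite f] [EtFppf.ACont X]
    [EtFppf.ACont Y] (F : EtCoh.Ab X) (i : ℕ) :
    Nonempty ((EtFppf.aPull Y).obj ((EtCoh.Rpush f i).obj F) ≅
      (EtFppf.RpushBig f i).obj ((EtFppf.aPull X).obj F)) := by
  rcases Nat.eq_zero_or_pos i with rfl | hi
  · exact ⟨(EtFppf.aPull Y).mapIso ((Groth.Agent.S0161.rpushZeroIso f).app F) ≪≫
      cmpIso Y ((EtCoh.push f).obj F) ≪≫ thetaIso f F ≪≫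
      (EtFppf.pushBig f).mapIso (cmpIso X F).symm ≪≫ ((rpushBigZeroIso f).app _).symm⟩
  · obtain ⟨n, rfl⟩ : ∃ n, i = n + 1 := ⟨i - 1, by omega⟩
    have h1 := Groth.Agent.Lib.helper5.FinitePush.isZero_Rpush_of_isFinite f F (n + 1) (by omega)
    have hce : CE (LF X F).obj := ce_of_LC_EQ (lc_G₀ F) (eq_G₀ F)
    have hG : CE ((EtFppf.aPull X).obj F).obj :=
      ce_of_iso ((sheafToPresheaf _ _).mapIso (cmpIso X F).symm) @hce
    have h2 := isZero_RpushBig_of_ce f _ @hG n
    have : (EtFppf.aPull Y).Additive := (EtFppf.aAdj Y).left_adjoint_additive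
    exact ⟨((EtFppf.aPull Y).map_isZero h1).iso h2⟩

/-- For a finite morphism f : X -> Y and an abelian sheaf F on X_et, for every i the sheaves a_Y^{-1}
(R^i f_{small,*} F) and R^i f_{big,fppf,*} (a_X^{-1} F) are isomorphic (existence; continuity
binders assumed). -/
theorem result {X Y : Scheme.{u}} (f : X ⟶ Y) [IsFinite f] [EtFppf.ACont X]
    [EtFppf.ACont Y] (F : EtCoh.Ab X) (i : ℕ) :
    Nonempty ((EtFppf.aPull Y).obj ((EtCoh.Rpush f i).obj F) ≅
      (EtFppf.RpushBig f i).obj ((EtFppf.aPull X).obj F)) := by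
  exact main f F i

end Groth.Agent.S0745
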