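import Groth.Statements.S0747
import Groth.Agent.Lib.Helper1.CechFinal

set_option autoImplicit false
open CategoryTheory CategoryTheory.Limits AlgebraicGeometry Opposite
universe u
open EtFppf

namespace Groth.Agent.S0747

open Groth.Agent.H1.FppfPull Groth.Agent.H1.FppfLC Groth.Agent.H1.CechCE

theorem isIso_uF (X : Scheme.{u}) [EtFppf.ACont X] (F : EtCoh.Ab X) : IsIso (uF X F) := by
  haveI : IsIso ((BigSite.piEtAdj Scheme.etalePrecoverage X).unit.app F) :=
    (Groth.Agent.S6184.main X).2 F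
  haveI : IsIso ((sheafToPresheaf _ _).map (uF X F)) :=
    inferInstanceAs (IsIso ((sheafToPresheaf _ _).map
      ((BigSite.piEtAdj Scheme.etalePrecoverage X).unit.app F)))
  exact isIso_of_reflects_iso (uF X F) (sheafToPresheaf _ _)

theorem main (X : Scheme.{u}) [EtFppf.ACont X] (F : EtCoh.Ab X) :
    IsIso ((EtFppf.aAdj X).unit.app F) ∧
      ∀ q : ℕ, 0 < q → IsZero ((EtFppf.RaPush X q).obj ((EtFppf.aPull X).obj F)) := by
  constructor
  · haveI := isIso_uF X F
    haveI : IsIso (cmpInv X F) := ⟨⟨cmp X F, cmpInv_cmp X F, cmp_cmpInv X F⟩⟩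
    rw [← uF_comp X F]
    infer_instance
  · intro q hq
    obtain ⟨n, rfl⟩ : ∃ n, q = n + 1 := ⟨q - 1, by omega⟩
    have hce : CE (LF X F).obj := ce_of_LC_EQ (lc_G₀ F) (eq_G₀ F)
    exact IsZero.of_iso (isZero_RaPush_of_ce (LF X F) @hce n)
      ((EtFppf.RaPush X (n + 1)).mapIso (cmpIso X F))

/-- For an abelian sheaf F on X_et (a complex in degree 0): the unit F -> a_* a^{-1} F is an isomorphism
and R^q a_* (a^{-1} F) = 0 for q > 0, where a compares the big fppf site with the small etale site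
(continuity binder assumed). -/
theorem result (X : Scheme.{u}) [EtFppf.ACont X] (F : EtCoh.Ab X) :
    IsIso ((EtFppf.aAdj X).unit.app F) ∧
      ∀ q : ℕ, 0 < q → IsZero ((EtFppf.RaPush X q).obj ((EtFppf.aPull X).obj F)) := by
  exact main X F

end Groth.Agent.S0747
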