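import Groth.Statements.S0748
import Groth.Agent.Lib.Helper1.CechFinal
import Groth.Agent.Lib.Helper1.ExtAcyc
import Groth.Agent.Lib.Helper1.SiteCompare
import Groth.Agent.Lib.Helper3.LanFlat
import Groth.Agent.S6185
import Groth.Agent.S0747

set_option autoImplicit false
open CategoryTheory CategoryTheory.Limits AlgebraicGeometry Opposite
universe u
open EtFppf

namespace Groth.Agent.S0748

open Groth.Agent.H1.FppfPull Groth.Agent.H1.FppfLC Groth.Agent.H1.CechCE Groth.Agent.H1.CechK
  Groth.Agent.H1.CechPts Groth.Agent.H1.FppfDesc Groth.Agent.H1.ExtCompare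

theorem preservesFiniteLimits_aPull (X : Scheme.{u}) [EtFppf.ACont X] :
    PreservesFiniteLimits (EtFppf.aPull X) := by
  have hfilt : ∀ K : (Over X)ᵒᵖ, IsFiltered (CostructuredArrow (EtFppf.a X).op K) := fun K ↦
    IsFiltered.of_equivalence (structuredArrowOpEquivalence (EtFppf.a X) (unop K))
  have hcolim : ∀ K : (Over X)ᵒᵖ, PreservesFiniteLimits
      (colim : (CostructuredArrow (EtFppf.a X).op K ⥤ AddCommGrpCat.{u + 1}) ⥤ _) := by
    intro K
    have := hfilt K
    have : PreservesColimitsOfShape (CostructuredArrow (EtFppf.a X).op K)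
        (forget AddCommGrpCat.{u + 1}) := by
      have h1 : PreservesFilteredColimitsOfSize.{u, u + 1} (forget AddCommGrpCat.{u + 1}) :=
        preservesFilteredColimitsOfSize_shrink.{u + 1, u + 1, u, u + 1} _
      exact h1.preserves_filtered_colimits _
    infer_instance
  have hlan : PreservesFiniteLimits ((EtFppf.a X).op.lan :
      ((X.Etale)ᵒᵖ ⥤ AddCommGrpCat.{u + 1}) ⥤ (Over X)ᵒᵖ ⥤ AddCommGrpCat.{u + 1}) :=
    Groth.Agent.Lib.helper3.lan_preservesFiniteLimits_of_flat_gen _ (EtFppf.a X)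
  exact Functor.sheafPullbackConstruction.preservesFiniteLimits (EtFppf.a X)
    AddCommGrpCat.{u + 1} X.smallEtaleTopology (EtFppf.J X)

variable {S : Scheme.{u}} [EtFppf.ACont S]

theorem bdSieve_mem_of_ls {A B : EtFppf.AbF S} (δ : A ⟶ B) (hδ : LS δ.hom) (U : S.Etale)
    (x : B.obj.obj (op ((EtFppf.a S).obj U))) : bdSieve δ U x ∈ S.smallEtaleTopology U := by
  apply Groth.Agent.H1.ClosedDense.mem_smallEtaleTopology
  intro u
  obtain ⟨W', c, z', y, hc, hz', hy⟩ := hδ ((EtFppf.a S).obj U) x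
    (AlgebraicClosure (U.left.residueField u)) (geomPtAC U.left u ≫ U.hom)
    (mkPt (geomPtAC U.left u) rfl)
  have hU : Etale U.hom := U.prop
  have hcU : Etale (c.left ≫ U.hom) := etale_comp_aux' _ _ hc hU
  let V : S.Etale := Scheme.Etale.mk (c.left ≫ U.hom)
  let g : V ⟶ U := MorphismProperty.Over.homMk c.left rfl trivial
  let θ : (EtFppf.a S).obj V ⟶ W' := Over.homMk (𝟙 W'.left) (by
    have := Over.w c
    change 𝟙 W'.left ≫ W'.hom = c.left ≫ U.hom
    rw [Category.id_comp, ← this]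
    rfl)
  have hθ : θ ≫ c = (EtFppf.a S).map g := by
    apply Over.OverMorphism.ext
    change 𝟙 W'.left ≫ c.left = c.left
    exact Category.id_comp _
  obtain ⟨zl, hzl⟩ : ∃ zl : Spec (.of (AlgebraicClosure (U.left.residueField u))) ⟶ W'.left,
      zl = z'.left := ⟨_, rfl⟩
  refine ⟨V, g, zl default, ⟨A.obj.map θ.op y, ?_⟩, ?_⟩
  · rw [map_app_apply, hy, pmap_map, hθ]
  · have h1 : zl ≫ c.left = geomPtAC U.left u := by
      rw [hzl]
      exact congrArg (fun k => k.left) hz'
    change c.left (zl default) = u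
    rw [← Scheme.Hom.comp_apply, h1]
    exact geomPtAC_apply _ _ _

theorem epi_aPush_map_of_ls {A B : EtFppf.AbF S} (δ : A ⟶ B) (hδ : LS δ.hom) :
    Epi ((EtFppf.aPush S).map δ) := by
  apply (Sheaf.isLocallySurjective_iff_epi' (φ := (EtFppf.aPush S).map δ)).1
  constructor
  intro U s
  exact S.smallEtaleTopology.superset_covering (fun V g hg => hg) (bdSieve_mem_of_ls δ hδ U s)

theorem shortExact_map_aPush (Sx : ShortComplex (EtFppf.AbF S)) (hS : Sx.ShortExact)
    (hLS : LS Sx.g.hom) : (Sx.map (EtFppf.aPush S)).ShortExact := by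
  haveI : Mono Sx.f := hS.mono_f
  haveI : PreservesLimitsOfSize.{0, 0} (EtFppf.aPush S) :=
    (EtFppf.aAdj S).rightAdjoint_preservesLimits
  exact
    { exact := hS.exact.map_of_mono_of_preservesKernel (EtFppf.aPush S) inferInstance inferInstance
      mono_f := inferInstanceAs (Mono ((EtFppf.aPush S).map Sx.f))
      epi_g := epi_aPush_map_of_ls Sx.g hLS }

/-- the class of étale-locally Čech exact fppf sheaves -/
def isCE (G : EtFppf.AbF S) : Prop := CE G.obj

theorem hstep (G : EtFppf.AbF S) (hG : isCE G) :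
    isCE (injSeq G).X₃ ∧ ((injSeq G).map (EtFppf.aPush S)).ShortExact := by
  haveI : Injective (injSeq G).X₂ := inferInstanceAs (Injective (Injective.under G))
  have h := step_fppf (injSeq G) (injSeq_shortExact G) (by exact @hG)
  exact ⟨h.2, shortExact_map_aPush _ (injSeq_shortExact G) h.1⟩

theorem main (X : Scheme.{u}) [EtFppf.ACont X] (F : EtCoh.Ab X) (q : ℕ) :
    Nonempty (EtCoh.H X F q ≃+ EtFppf.HF X ((EtFppf.aPull X).obj F) q) := by
  haveI := preservesFiniteLimits_aPull X
  haveI : PreservesFiniteColimits (EtFppf.aPull X) := by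
    have : PreservesColimitsOfSize.{0, 0} (EtFppf.aPull X) :=
      (EtFppf.aAdj X).leftAdjoint_preservesColimits
    exact PreservesColimitsOfSize.preservesFiniteColimits _
  haveI : (EtFppf.aPull X).Additive := (EtFppf.aAdj X).left_adjoint_additive
  have hce : CE (LF X F).obj := ce_of_LC_EQ (lc_G₀ F) (eq_G₀ F)
  have hG : isCE ((EtFppf.aPull X).obj F) :=
    ce_of_iso ((sheafToPresheaf _ _).mapIso (cmpIso X F).symm) @hce
  let Z := (constantSheaf X.smallEtaleTopology AddCommGrpCat.{u + 1}).obj (AddCommGrpCat.of (ULift ℤ))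
  have hbij := Groth.Agent.H1.ExtAcyc.Ψ_bijective (EtFppf.aAdj X) isCE hstep q
    ((EtFppf.aPull X).obj F) hG Z
  haveI : IsIso ((EtFppf.aAdj X).unit.app F) := (Groth.Agent.S0747.main X F).1
  let i0 : F ≅ (EtFppf.aPush X).obj ((EtFppf.aPull X).obj F) := asIso ((EtFppf.aAdj X).unit.app F)
  let e0 : EtCoh.H X F q ≃+ Abelian.Ext.{u + 1} Z ((EtFppf.aPush X).obj ((EtFppf.aPull X).obj F)) q :=
    { toFun := fun x => x.comp (Abelian.Ext.mk₀ i0.hom) (add_zero q)
      invFun := fun x => x.comp (Abelian.Ext.mk₀ i0.inv) (add_zero q)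
      left_inv := fun x => by simp
      right_inv := fun x => by simp
      map_add' := fun x y => by simp }
  let e1 : Abelian.Ext.{u + 1} Z ((EtFppf.aPush X).obj ((EtFppf.aPull X).obj F)) q ≃+
      Abelian.Ext.{u + 1} ((EtFppf.aPull X).obj Z) ((EtFppf.aPull X).obj F) q :=
    AddEquiv.ofBijective (Groth.Agent.H1.ExtAcyc.ΨHom (EtFppf.aAdj X) Z _ q) hbij
  let i := (Groth.Agent.H1.SiteCompare.constIso X.smallEtaleTopology (EtFppf.J X) (EtFppf.a X)
    (EtFppf.aAdj X) (EtCore.topIsTerminal X) Over.mkIdTerminal).app (AddCommGrpCat.of (ULift ℤ))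
  let e2 : Abelian.Ext.{u + 1} ((EtFppf.aPull X).obj Z) ((EtFppf.aPull X).obj F) q ≃+
      EtFppf.HF X ((EtFppf.aPull X).obj F) q :=
    { toFun := fun x => (Abelian.Ext.mk₀ i.inv).comp x (zero_add q)
      invFun := fun x => (Abelian.Ext.mk₀ i.hom).comp x (zero_add q)
      left_inv := fun x => by simp
      right_inv := fun x => by simp
      map_add' := fun x y => by simp }
  exact ⟨(e0.trans e1).trans e2⟩

/-- For an abelian sheaf F on X_et and every q, H^q(X_et, F) and H^q_fppf(X, a^{-1} F) are isomorphic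
(continuity binder assumed). -/
theorem result (X : Scheme.{u}) [EtFppf.ACont X] (F : EtCoh.Ab X) (q : ℕ) :
    Nonempty (EtCoh.H X F q ≃+ EtFppf.HF X ((EtFppf.aPull X).obj F) q) := by
  exact main X F q

end Groth.Agent.S0748
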