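import Groth.Statements.S0754
import Groth.Agent.S0736
import Groth.Agent.S12237
-- import your own Groth.Agent.* helpers here

set_option autoImplicit false
open CategoryTheory CategoryTheory.Limits AlgebraicGeometry Opposite
universe u
open ProEtS

namespace Groth.Agent.S0754

theorem flat_fromSpecStalk (X : Scheme.{u}) (x : ↥X) : Flat (X.fromSpecStalk x) := by
  obtain ⟨_, ⟨U, hU : IsAffineOpen U, rfl⟩, hxU, -⟩ :=
    (X.isBasis_affineOpens).exists_subset_of_mem_open (Set.mem_univ x) isOpen_univ
  rw [← hU.fromSpecStalk_eq_fromSpecStalk hxU]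
  unfold IsAffineOpen.fromSpecStalk
  let _ := TopCat.Presheaf.algebra_section_stalk X.presheaf (⟨x, hxU⟩ : U)
  have hloc : IsLocalization.AtPrime (X.presheaf.stalk x) (hU.primeIdealOf ⟨x, hxU⟩).asIdeal :=
    hU.isLocalization_stalk ⟨x, hxU⟩
  have hflat : Module.Flat Γ(X, U) (X.presheaf.stalk x) :=
    IsLocalization.flat _ (hU.primeIdealOf ⟨x, hxU⟩).asIdeal.primeCompl
  have h1 : Flat (Spec.map (X.presheaf.germ U x hxU)) := by
    rw [Flat.SpecMap_iff]
    exact hflat
  infer_instance

theorem weaklyEtale_fromSpecStalk (X : Scheme.{u}) (x : ↥X) : WeaklyEtale (X.fromSpecStalk x) := by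
  have := flat_fromSpecStalk X x
  exact { flat := inferInstance, flat_diagonal := inferInstance }

theorem weaklyEtale_SpecMap (A R : Type u) [CommRing A] [CommRing R] [Algebra A R]
    [Algebra.WeaklyEtale A R] :
    WeaklyEtale (Spec.map (CommRingCat.ofHom (algebraMap A R))) := by
  have h1 : Flat (Spec.map (CommRingCat.ofHom (algebraMap A R))) := by
    rw [Flat.SpecMap_iff]
    exact RingHom.flat_algebraMap_iff.2 inferInstance
  have h2 : Flat (pullback.diagonal (Spec.map (CommRingCat.ofHom (algebraMap A R)))) := by
    rw [diagonal_SpecMap]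
    have : Flat (Spec.map (CommRingCat.ofHom
        (Algebra.TensorProduct.lmul' A : TensorProduct A R R →ₐ[A] R).toRingHom)) := by
      rw [Flat.SpecMap_iff]
      exact Algebra.WeaklyEtale.flat_lmul' A R
    infer_instance
  exact { flat := h1, flat_diagonal := h2 }


/-- For a point x of a scheme X and a strict henselization R of the local ring of X at x, the canonical
morphism Spec R -> X is weakly etale, so that Spec R is an object of the small pro-etale site of X. -/
theorem result (X : Scheme.{u}) (x : ↥X) (R : Type u) [CommRing R]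
    [IsLocalRing R] [Algebra (X.presheaf.stalk x) R] [IsLocalHom (algebraMap (X.presheaf.stalk x) R)]
    [Hensel.IsStrictHenselization (X.presheaf.stalk x) R] :
    WeaklyEtale (Hens2.specOf X x R) := by
  have hind := Groth.Agent.S12237.result (X.presheaf.stalk x) R
  have hwe : Algebra.WeaklyEtale (X.presheaf.stalk x) R := Groth.Agent.S0736.result _ _ hind
  have h1 := weaklyEtale_SpecMap (X.presheaf.stalk x) R
  have h2 := weaklyEtale_fromSpecStalk X x
  show WeaklyEtale
    (Spec.map (CommRingCat.ofHom (algebraMap (X.presheaf.stalk x) R)) ≫ X.fromSpecStalk x)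
  infer_instance

end Groth.Agent.S0754
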