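import Groth.Statements.S0781


set_option autoImplicit false
open CategoryTheory CategoryTheory.Limits AlgebraicGeometry Opposite
universe u
open Desc

namespace Groth.Agent.S0781

/-- If p : X → S is a surjective morphism of schemes, then for schemes U₁, U₂ étale over S, two
S-morphisms U₁ → U₂ whose base changes to X agree, as morphisms of canonical descent data relative
to p, are equal; that is, the canonical-descent-datum functor is faithful on schemes étale over S.
(Descent data are taken in functor-of-points form, equivalent by the Yoneda lemma to an isomorphism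
over X ×_S X satisfying the cocycle condition.) -/
theorem result {X S : Scheme.{u}} (p : X ⟶ S) [Surjective p] (U₁ U₂ : Over S)
    [Etale U₁.hom] [Etale U₂.hom] : Function.Injective ((Desc.toDD p).map : (U₁ ⟶ U₂) → _) := by
  intro a b hab
  have h1 : ((Desc.toDD p).map a).hom.left = ((Desc.toDD p).map b).hom.left := by rw [hab]
  have hm : ∀ c : U₁ ⟶ U₂, ((Desc.toDD p).map c).hom.left ≫ pullback.snd p U₂.hom =
      pullback.snd p U₁.hom ≫ c.left := by
    intro c
    change pullback.map p U₁.hom p U₂.hom (𝟙 X) c.left (𝟙 S) (by simp) (by simp) ≫ pullback.snd p U₂.hom = _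
    exact pullback.lift_snd _ _ _
  have h2 : pullback.snd p U₁.hom ≫ a.left = pullback.snd p U₁.hom ≫ b.left := by
    rw [← hm a, ← hm b, h1]
  have hq : Surjective (pullback.snd p U₁.hom) := inferInstance
  apply Over.OverMorphism.ext
  have hab' : a.left ≫ U₂.hom = b.left ≫ U₂.hom := by rw [Over.w a, Over.w b]
  let Δ : U₂.left ⟶ pullback U₂.hom U₂.hom := pullback.diagonal U₂.hom
  let c : U₁.left ⟶ pullback U₂.hom U₂.hom := pullback.lift a.left b.left hab'
  have hc1 : c ≫ pullback.fst U₂.hom U₂.hom = a.left := pullback.lift_fst _ _ _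
  have hc2 : c ≫ pullback.snd U₂.hom U₂.hom = b.left := pullback.lift_snd _ _ _
  have hΔ1 : Δ ≫ pullback.fst U₂.hom U₂.hom = 𝟙 _ := pullback.diagonal_fst _
  have hΔ2 : Δ ≫ pullback.snd U₂.hom U₂.hom = 𝟙 _ := pullback.diagonal_snd _
  let e : pullback Δ c ⟶ U₁.left := pullback.snd Δ c
  have he : IsOpenImmersion e := MorphismProperty.pullback_snd _ _ (inferInstance : IsOpenImmersion Δ)
  have hfac : (pullback.snd p U₁.hom ≫ a.left) ≫ Δ = pullback.snd p U₁.hom ≫ c := by
    apply pullback.hom_ext
    · simp only [Category.assoc, hΔ1, hc1, Category.comp_id]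
    · simp only [Category.assoc, hΔ2, hc2, Category.comp_id, h2]
  have hqe : pullback.lift (pullback.snd p U₁.hom ≫ a.left) (pullback.snd p U₁.hom) hfac ≫ e =
      pullback.snd p U₁.hom := pullback.lift_snd _ _ _
  have hes : Surjective e := by
    have : Surjective (pullback.lift (pullback.snd p U₁.hom ≫ a.left) (pullback.snd p U₁.hom) hfac ≫ e) := by
      rw [hqe]; exact hq
    exact Surjective.of_comp (pullback.lift (pullback.snd p U₁.hom ≫ a.left) (pullback.snd p U₁.hom) hfac) e
  have hiso : IsIso e := (isIso_iff_isOpenImmersion_and_surjective e).mpr ⟨he, hes⟩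
  have hc : e ≫ c = pullback.fst Δ c ≫ Δ := pullback.condition.symm
  have e1 : e ≫ a.left = pullback.fst Δ c := by
    have := congrArg (· ≫ pullback.fst U₂.hom U₂.hom) hc
    simp only [Category.assoc, hc1, hΔ1, Category.comp_id] at this
    exact this
  have e2 : e ≫ b.left = pullback.fst Δ c := by
    have := congrArg (· ≫ pullback.snd U₂.hom U₂.hom) hc
    simp only [Category.assoc, hc2, hΔ2, Category.comp_id] at this
    exact this
  exact (cancel_epi e).mp (e1.trans e2.symm)

end Groth.Agent.S0781
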