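import Groth.Statements.S0782
import Groth.Agent.Lib.Helper4.EtSubm

set_option autoImplicit false
open CategoryTheory CategoryTheory.Limits AlgebraicGeometry Opposite
universe u
open Desc

namespace Groth.Agent.S0782

/-- Let p : X ⟶ S be a morphism such that for every scheme U étale over S the projection X ×_S U ⟶ U is
a quotient map of topological spaces (submersive; U = S is allowed). Then for U₁, U₂ étale over S,
every morphism between their canonical descent data relative to p comes from an S-morphism U₁ ⟶ U₂:
the canonical-descent-datum functor is full on schemes étale over S (injectivity of this assignment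
is a companion statement). (Descent data are taken in functor-of-points form, equivalent by the
Yoneda lemma to the usual form of an isomorphism over X ×_S X satisfying the cocycle condition.) -/
theorem result {X S : Scheme.{u}} (p : X ⟶ S)
    (hp : ∀ U : Over S, Etale U.hom → Topology.IsQuotientMap (pullback.snd p U.hom).base) (U₁ U₂ : Over S)
    [Etale U₁.hom] [Etale U₂.hom] : Function.Surjective ((Desc.toDD p).map : (U₁ ⟶ U₂) → _) := by
  intro f
  obtain ⟨fl, hfl⟩ : ∃ fl : pullback p U₁.hom ⟶ pullback p U₂.hom, fl = f.hom.left := ⟨_, rfl⟩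
  let q : pullback p U₁.hom ⟶ U₁.left := pullback.snd p U₁.hom
  let g' : pullback p U₁.hom ⟶ U₂.left := fl ≫ pullback.snd p U₂.hom
  have hfw : fl ≫ pullback.fst p U₂.hom = pullback.fst p U₁.hom := by
    rw [hfl]; exact Over.w f.hom
  have hg' : q ≫ U₁.hom = g' ≫ U₂.hom := by
    calc q ≫ U₁.hom = pullback.fst p U₁.hom ≫ p := pullback.condition.symm
      _ = (fl ≫ pullback.fst p U₂.hom) ≫ p := by rw [hfw]
      _ = g' ≫ U₂.hom := by
        simp only [g', Category.assoc]; rw [pullback.condition]
  let r : pullback U₁.hom U₂.hom ⟶ U₁.left := pullback.fst U₁.hom U₂.hom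
  have hr : Etale r := inferInstance
  let σ' : pullback p U₁.hom ⟶ pullback U₁.hom U₂.hom := pullback.lift q g' hg'
  have hσ' : σ' ≫ r = q := pullback.lift_fst _ _ _
  have hσ'2 : σ' ≫ pullback.snd U₁.hom U₂.hom = g' := pullback.lift_snd _ _ _
  have hqsurj : Function.Surjective q := (hp U₁ inferInstance).surjective
  -- quotient map
  have hquot : Topology.IsQuotientMap (pullback.fst r q) := by
    have h1 : IsPullback (pullback.snd r q) (pullback.fst r q) q r :=
      (IsPullback.of_hasPullback r q).flip
    have h2 : IsPullback (pullback.fst p U₁.hom) q p U₁.hom := IsPullback.of_hasPullback _ _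
    have h3 := h1.paste_horiz h2
    have hiso : h3.isoPullback.hom ≫ pullback.snd p (r ≫ U₁.hom) = pullback.fst r q :=
      h3.isoPullback_hom_snd
    have het : Etale (Over.mk (r ≫ U₁.hom)).hom := by
      show Etale (r ≫ U₁.hom); infer_instance
    have hq2 := hp (Over.mk (r ≫ U₁.hom)) het
    have e3 : (pullback.fst r q : _ → _) =
        (pullback.snd p (r ≫ U₁.hom)) ∘ (h3.isoPullback.hom) := by
      funext x
      exact (congrArg (fun m : pullback r q ⟶ pullback U₁.hom U₂.hom => m x) hiso).symm.trans
        (Scheme.Hom.comp_apply _ _ _)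
    rw [e3]
    exact hq2.comp (Scheme.homeoOfIso h3.isoPullback).isQuotientMap
  -- descent condition
  have hdesc : pullback.fst q q ≫ σ' = pullback.snd q q ≫ σ' := by
    apply pullback.hom_ext
    · rw [Category.assoc, Category.assoc]
      show pullback.fst q q ≫ σ' ≫ r = pullback.snd q q ≫ σ' ≫ r
      rw [hσ']; exact pullback.condition
    · rw [Category.assoc, Category.assoc, hσ'2]
      let a₀ := pullback.fst q q
      let a₁ := pullback.snd q q
      have ha : a₀ ≫ q = a₁ ≫ q := pullback.condition
      let x₀ := a₀ ≫ pullback.fst p U₁.hom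
      let x₁ := a₁ ≫ pullback.fst p U₁.hom
      have h : x₀ ≫ p = x₁ ≫ p := by
        simp only [x₀, x₁, Category.assoc]
        rw [pullback.condition]
        show a₀ ≫ q ≫ U₁.hom = a₁ ≫ q ≫ U₁.hom
        rw [reassoc_of% ha]
      let v : Lifts (Over.mk (pullback.fst p U₁.hom)) x₀ := ⟨a₀, rfl⟩
      let w : Lifts (Over.mk (pullback.fst p U₂.hom)) x₀ := ⟨a₀ ≫ fl, by
        show (a₀ ≫ fl) ≫ pullback.fst p U₂.hom = x₀
        rw [Category.assoc, hfw]⟩
      have hc := f.comm x₀ x₁ h v w (by rw [← hfl]; exact rfl)
      have hv : (canMap p U₁ x₀ x₁ h v).1 = a₁ := by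
        apply pullback.hom_ext
        · rw [canMap_val, pullback.lift_fst]
        · rw [canMap_val, pullback.lift_snd]; exact ha
      have hc' : (canMap p U₂ x₀ x₁ h w).1 = a₁ ≫ fl := by
        rw [← hv, hfl]; exact hc
      have := congrArg (· ≫ pullback.snd p U₂.hom) hc'
      simp only [canMap_val, pullback.lift_snd, Category.assoc] at this
      exact this
  obtain ⟨σ, hσ1, hσ2⟩ := Groth.Agent.Lib.Helper4.EtSubm.exists_section_of_descent' q hqsurj r
    hquot σ' hσ' hdesc
  let g : U₁.left ⟶ U₂.left := σ ≫ pullback.snd U₁.hom U₂.hom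
  have hg : g ≫ U₂.hom = U₁.hom := by
    simp only [g, Category.assoc]
    rw [← pullback.condition, ← Category.assoc]
    show (σ ≫ r) ≫ U₁.hom = _
    rw [hσ1, Category.id_comp]
  refine ⟨Over.homMk g hg, ?_⟩
  apply SchDD.hom_ext
  apply Over.OverMorphism.ext
  show pullback.map p U₁.hom p U₂.hom (𝟙 X) g (𝟙 S) (by simp) (by simp [hg]) = f.hom.left
  rw [← hfl]
  apply pullback.hom_ext
  · rw [pullback.lift_fst, hfw, Category.comp_id]
  · rw [pullback.lift_snd]
    show q ≫ σ ≫ pullback.snd U₁.hom U₂.hom = g'
    rw [← Category.assoc, hσ2, hσ'2]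

end Groth.Agent.S0782
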