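import Groth.Statements.S0791
import Mathlib
import Groth.Agent.Lib.Helper13.ProperFamily
-- import your own Groth.Agent.* helpers here

set_option autoImplicit false
universe u
open Coherent

namespace Groth.Agent.S0791

open CategoryTheory AlgebraicGeometry in
/-- Let f : X → S be locally of finite type. A finite union of closed subsets of X that are proper over
S is again proper over S. -/
theorem result {X S : Scheme.{u}} (f : X ⟶ S) [LocallyOfFiniteType f]
    (ι : Type) [Finite ι] (Z : ι → Set X) (hZ : ∀ i, ClSub.IsProperOver f (Z i)) :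
    ClSub.IsProperOver f (Set.iUnion Z) := by
  open Scheme.IdealSheafData in
  have hcl : ∀ i, IsClosed (Z i) := fun i => (hZ i).1
  have hclU : IsClosed (Set.iUnion Z) := isClosed_iUnion_of_finite hcl
  refine ⟨hclU, ?_⟩
  set I := vanishingIdeal ⟨Set.iUnion Z, hclU⟩ with hI
  let J : ι → X.IdealSheafData := fun i => vanishingIdeal ⟨Z i, hcl i⟩
  have hle : ∀ i, I ≤ J i := fun i =>
    vanishingIdeal_antimono (show (⟨Z i, hcl i⟩ : TopologicalSpace.Closeds X) ≤
      ⟨Set.iUnion Z, hclU⟩ from Set.subset_iUnion Z i)
  let c : ∀ i, (J i).subscheme ⟶ I.subscheme := fun i => inclusion (hle i)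
  have hc : ∀ i, c i ≫ I.subschemeι = (J i).subschemeι := fun i => inclusion_subschemeι (hle i)
  have hcu : ∀ i, c i ≫ (I.subschemeι ≫ f) = (J i).subschemeι ≫ f := fun i => by
    rw [← Category.assoc, hc]
  have hproper : ∀ i, IsProper (c i ≫ (I.subschemeι ≫ f)) := fun i => by
    rw [hcu]; exact (hZ i).2
  have hci : ∀ i, IsClosedImmersion (c i) := fun i => by
    have : IsClosedImmersion (c i ≫ I.subschemeι) := by rw [hc]; infer_instance
    exact IsClosedImmersion.of_comp (c i) I.subschemeι
  have hsurj : ∀ w : I.subscheme, ∃ i, ∃ t : (J i).subscheme, (c i) t = w := by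
    intro w
    have hr : Set.range I.subschemeι = Set.iUnion Z := by
      rw [range_subschemeι, hI, coe_support_vanishingIdeal]; rfl
    have h1 : I.subschemeι w ∈ Set.range I.subschemeι := ⟨w, rfl⟩
    rw [hr] at h1
    obtain ⟨i, hi⟩ := Set.mem_iUnion.mp h1
    have hr' : Set.range (J i).subschemeι = Z i := by
      rw [range_subschemeι, coe_support_vanishingIdeal]; rfl
    rw [← hr'] at hi
    obtain ⟨t, ht⟩ := hi
    refine ⟨i, t, ?_⟩
    apply I.subschemeι.isClosedEmbedding.injective
    rw [← Scheme.Hom.comp_apply, hc]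
    exact ht
  have h1 : UniversallyClosed (I.subschemeι ≫ f) :=
    Groth.Agent.Lib.helper13.universallyClosed_of_family _ (fun i => (J i).subscheme) c hsurj
  have h2 : IsSeparated (I.subschemeι ≫ f) :=
    Groth.Agent.Lib.helper13.isSeparated_of_family _ (fun i => (J i).subscheme) c hsurj
  exact { }

end Groth.Agent.S0791
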