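import Groth.Statements.S0792
import Groth.Agent.Lib.Helper8.SupportProper
import Groth.Agent.S0796

set_option autoImplicit false
universe u
open Coherent

namespace Groth.Agent.S0792

open CategoryTheory AlgebraicGeometry in
/-- Let f : X → S be locally of finite type and F a quasi-coherent O_X-module of finite type. The
support of F is proper over S if and only if there are a closed subscheme i : Z → X with Z proper
over S and a quasi-coherent O_Z-module G of finite type with i_* G isomorphic to F. (The published
statement also gives a further equivalent condition, that the scheme-theoretic support of F is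
proper over S; it is not used here.) -/
theorem result {X S : Scheme.{u}} (f : X ⟶ S) [LocallyOfFiniteType f]
    (F : X.Modules) (hq : Coh.IsQCoh F) (hft : CohB1.IsFT F) :
    ClSub.IsProperOver f (CohB1.support F) ↔
      ∃ (Z : Scheme.{u}) (i : Z ⟶ X), IsClosedImmersion i ∧ IsProper (i ≫ f) ∧
        ∃ G : Z.Modules, Coh.IsQCoh G ∧ CohB1.IsFT G ∧
          Nonempty ((Scheme.Modules.pushforward i).obj G ≅ F) := by
  haveI : F.IsQuasicoherent := hq
  constructor
  · intro h
    refine ⟨_, (Groth.Agent.Lib.helper8.SchemeSupport.annIdeal F hft).subschemeι, inferInstance,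
      Groth.Agent.Lib.helper8.SchemeSupport.isProper_annIdeal_subschemeι_comp f F hft h, ?_⟩
    haveI := Groth.Agent.Lib.helper8.SchemeSupport.isIso_unit_annIdeal F hft
    exact ⟨(Scheme.Modules.pullback _).obj F,
      Groth.Agent.Lib.helper16.QCohPullback.isQuasicoherent_pullback _ F,
      Groth.Agent.Lib.helper16.QCohPullback2.isFiniteType_pullback _ F hft,
      ⟨(asIso ((Scheme.Modules.pullbackPushforwardAdjunction
        (Groth.Agent.Lib.helper8.SchemeSupport.annIdeal F hft).subschemeι).unit.app F)).symm⟩⟩
  · rintro ⟨Z, i, hi, hp, G, -, -, ⟨e⟩⟩
    exact Groth.Agent.S0796.isProperOver_of_subset f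
      (Groth.Agent.Lib.helper8.SchemeSupport.isClosed_support F hft)
      (Groth.Agent.Lib.helper8.SchemeSupport.support_subset_range_of_iso F i G e)
      (Groth.Agent.Lib.helper8.isProperOver_range_of_isClosedImmersion f i)

end Groth.Agent.S0792
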