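import Groth.Statements.S0803
import Mathlib
import Groth.Agent.Lib.Helper23.FormalDelta10
-- import your own Groth.Agent.* helpers here

set_option autoImplicit false
universe u
open Formal2

namespace Groth.Agent.S0803

open AlgebraicGeometry in
/-- Let A be a Noetherian ring that is complete for the f-adic topology, where f lies in an ideal 𝔞, let
M be a finite A-module and s ≥ 0, and assume H^i_𝔞(M) is annihilated by a power of f for every i ≤ s
+ 1. Then, with U the complement of V(𝔞), the canonical map H^i(U, M~) → lim_n H^i(U, (M/f^nM)~) is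
bijective for every i < s. -/
theorem result (A : Type u) [CommRing A]
    [IsNoetherianRing A] (𝔞 : Ideal A) (f : A) (hf : f ∈ 𝔞) [IsAdicComplete (Ideal.span {f}) A]
    (M : Type u) [AddCommGroup M] [Module A M] [Module.Finite A M] (s : ℕ)
    (h : ∀ i : ℕ, i ≤ s + 1 → ∃ n : ℕ, ∀ x : LocCoh.H 𝔞 i M, f ^ n • x = 0) (i : ℕ) (hi : i < s) :
    Formal2.FormalCohBijective A (Ideal.span {f}) M i (LocCoh.puncturedOpen A 𝔞) := by
  obtain ⟨n1, hn1⟩ := h (i + 1) (by omega)
  obtain ⟨n2, hn2⟩ := h (i + 2) (by omega)
  refine Groth.Agent.Lib.helper23.FormalDelta.formalCohBijective_of_smul_eq_zero A 𝔞 f M i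
    (n1 + n2) ?_ ?_
  · intro x
    rw [pow_add, mul_comm, mul_smul, hn1 x, smul_zero]
  · intro x
    rw [pow_add, mul_smul, hn2 x, smul_zero]

end Groth.Agent.S0803
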