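import Groth.Statements.S0813
import Mathlib
import Groth.Agent.Lib.Helper12.TrivDescent3
import Groth.Agent.Lib.Helper21.UfdCrit5
-- import your own Groth.Agent.* helpers here

set_option autoImplicit false
universe u
open Formal2

namespace Groth.Agent.S0813

open CategoryTheory AlgebraicGeometry in
theorem main (A : Type u) [CommRing A] [IsNoetherianRing A]
    [IsLocalRing A] (hdepth : (2 : ℕ∞) ≤ LocCoh.depth A A) :
    Formal2.PicPullbackInjective
      (Spec.map (CommRingCat.ofHom (algebraMap A (AdicCompletion (IsLocalRing.maximalIdeal A) A))) ∣_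
        FEt.puncturedSpec A) := by
  intro L hL hε
  obtain ⟨ε⟩ := hε
  haveI : Module.FaithfullyFlat A (AdicCompletion (IsLocalRing.maximalIdeal A) A) :=
    Module.FaithfullyFlat.of_flat_of_isLocalHom
  have hφ : (CommRingCat.ofHom
      (algebraMap A (AdicCompletion (IsLocalRing.maximalIdeal A) A))).hom.Flat :=
    RingHom.flat_algebraMap_iff.mpr inferInstance
  haveI : Flat (Spec.map (CommRingCat.ofHom
      (algebraMap A (AdicCompletion (IsLocalRing.maximalIdeal A) A)))) :=
    (HasRingHomProperty.Spec_iff (P := @Flat)).mpr hφ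
  haveI : Surjective (Spec.map (CommRingCat.ofHom
      (algebraMap A (AdicCompletion (IsLocalRing.maximalIdeal A) A)))) :=
    ⟨PrimeSpectrum.comap_surjective_of_faithfullyFlat⟩
  have H := isPullback_morphismRestrict (Spec.map (CommRingCat.ofHom
      (algebraMap A (AdicCompletion (IsLocalRing.maximalIdeal A) A)))) (FEt.puncturedSpec A)
  haveI : IsLocalRing Γ(Spec (CommRingCat.of A), ⊤) :=
    (Scheme.ΓSpecIso (CommRingCat.of A)).commRingCatIsoToRingEquiv.symm.isLocalRing
  haveI : Finite (MaximalSpectrum Γ(Spec (CommRingCat.of A), ⊤)) := inferInstance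
  have hW : (⊤ : (FEt.puncturedSpec A).toScheme.Opens) ≤ (FEt.puncturedSpec A).ι ⁻¹ᵁ ⊤ := le_top
  have hf : Function.Bijective ((FEt.puncturedSpec A).ι.appLE ⊤ ⊤ hW).hom := by
    have h := Groth.Agent.Lib.helper21.UfdCrit.bijective_res_of_depth A hdepth
    have hU : (FEt.puncturedSpec A).ι ''ᵁ ⊤ = FEt.puncturedSpec A := Scheme.Opens.ι_image_top _
    have e1 : (FEt.puncturedSpec A).ι.appLE ⊤ ⊤ hW =
        (Spec (CommRingCat.of A)).presheaf.map
            (homOfLE (le_top : FEt.puncturedSpec A ≤ ⊤)).op ≫
          (Spec (CommRingCat.of A)).presheaf.map (eqToHom hU).op := by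
      rw [Scheme.Opens.ι_appLE, ← Functor.map_comp]
      rfl
    rw [e1]
    have h2 : Function.Bijective
        ((Spec (CommRingCat.of A)).presheaf.map (eqToHom hU).op) :=
      ConcreteCategory.bijective_of_isIso _
    exact h2.comp h
  obtain ⟨t, ht⟩ := Groth.Agent.Lib.helper12.TrivDescent.exists_isIso_section_of_semilocal H hW hf
    hL ε
  exact ⟨(asIso t).symm⟩


open CategoryTheory AlgebraicGeometry in
/-- Let (A, 𝔪) be a Noetherian local ring of depth at least 2, A^ its 𝔪-adic completion, U the punctured
spectrum of A and U^ its preimage in Spec A^ (the punctured spectrum of A^). Then an invertible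
O_U-module whose pullback to U^ is trivial is trivial. -/
theorem result (A : Type u) [CommRing A] [IsNoetherianRing A]
    [IsLocalRing A] (hdepth : (2 : ℕ∞) ≤ LocCoh.depth A A) :
    Formal2.PicPullbackInjective
      (Spec.map (CommRingCat.ofHom (algebraMap A (AdicCompletion (IsLocalRing.maximalIdeal A) A))) ∣_
        FEt.puncturedSpec A) := by
  exact main A hdepth

end Groth.Agent.S0813
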