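import Groth.Statements.S0816
import Groth.Agent.Lib.Helper16.ExtHom4
import Groth.Agent.Lib.Helper16.CohLoc1

set_option autoImplicit false
universe u
open Coherent

namespace Groth.Agent.S0816

open CategoryTheory AlgebraicGeometry in
/-- Let X be locally Noetherian, F and G coherent O_X-modules, U ⊆ X open and φ : F|_U → G|_U a map of
O_U-modules. Then there are a coherent submodule F' ⊆ F whose inclusion is an isomorphism over U and
a map φ' : F' → G whose restriction to U is φ (composed with that isomorphism). -/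
theorem result (X : Scheme.{u}) [IsLocallyNoetherian X] (F G : X.Modules)
    (hF : Coh.IsCoh F) (hG : Coh.IsCoh G) (U : X.Opens)
    (φ : (Scheme.Modules.restrictFunctor U.ι).obj F ⟶ (Scheme.Modules.restrictFunctor U.ι).obj G) :
    ∃ (F' : X.Modules) (ι : F' ⟶ F) (φ' : F' ⟶ G), Mono ι ∧ Coh.IsCoh F' ∧
      IsIso ((Scheme.Modules.restrictFunctor U.ι).map ι) ∧
      (Scheme.Modules.restrictFunctor U.ι).map φ' = (Scheme.Modules.restrictFunctor U.ι).map ι ≫ φ := by
  classical
  open Groth.Agent.Lib.helper16.Satur Groth.Agent.Lib.helper16.ExtHom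
    Groth.Agent.Lib.helper16.CohLoc CategoryTheory.Limits Scheme.Modules in
  have hX : LocNoeth X := locNoeth_of_isLocallyNoetherian
  haveI : QuasiCompact U.ι := hX.quasiCompact_ι U
  let R := restrictFunctor U.ι
  have hK : Coh.IsCoh (F ⊞ G) := isCoh_biprod X hF hG
  haveI : (F ⊞ G).IsQuasicoherent := hK.1
  haveI : F.IsQuasicoherent := hF.1
  haveI : (R.obj F).IsQuasicoherent := inferInstance
  let i' : R.obj F ⟶ R.obj (F ⊞ G) :=
    R.map (biprod.inl : F ⟶ F ⊞ G) + φ ≫ R.map (biprod.inr : G ⟶ F ⊞ G)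
  have h1 : i' ≫ R.map (biprod.fst : F ⊞ G ⟶ F) = 𝟙 _ := by
    simp only [i', Preadditive.add_comp, Category.assoc, ← R.map_comp, biprod.inl_fst,
      biprod.inr_fst, R.map_id, R.map_zero, comp_zero, add_zero]
  have h2 : i' ≫ R.map (biprod.snd : F ⊞ G ⟶ G) = φ := by
    simp only [i', Preadditive.add_comp, Category.assoc, ← R.map_comp, biprod.inl_snd,
      biprod.inr_snd, R.map_id, R.map_zero, Category.comp_id, zero_add]
    exact Category.comp_id _
  haveI : Mono i' := mono_of_mono_fac h1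
  let E := satur U.ι i'
  let ιE : E ⟶ F ⊞ G := saturι U.ι i'
  haveI : Mono ιE := inferInstanceAs (Mono (saturι U.ι i'))
  haveI : E.IsQuasicoherent := isQuasicoherent_satur U.ι i'
  have hKft : FTOn (F ⊞ G) ⊤ := (ftOn_top_iff _).mpr hK.2
  have hE : FTOn E ⊤ := ftOn_of_mono ιE hKft
  let p : E ⟶ F := ιE ≫ biprod.fst
  have he : (saturRestrictIso U.ι i').hom ≫ i' = R.map ιE := saturRestrictIso_hom_comp U.ι i'
  have hp : R.map p = (saturRestrictIso U.ι i').hom := by
    show R.map (ιE ≫ biprod.fst) = _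
    rw [R.map_comp, ← he, Category.assoc, h1, Category.comp_id]
  have h0 : ∀ W' : X.Opens, W' ≤ U → Function.Injective (p.app W') := by
    intro W' hW'
    haveI : Mono ((restrictFunctor U.ι).map p) := by
      show Mono (R.map p)
      rw [hp]; infer_instance
    exact injective_app_of_mono_restrict U.ι p W' (by rw [Scheme.Opens.opensRange_ι]; exact hW')
  obtain ⟨H, h, hmono, hq, hiso, hmp⟩ := exists_sub_mono E F hE p U h0
  haveI := hmono
  haveI := hq
  have hRh : IsIso (R.map h) := (isoOn_iff_isIso_restrict h U).mp hiso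
  refine ⟨H, h ≫ p, h ≫ ιE ≫ biprod.snd, hmp, ⟨hq, (ftOn_top_iff H).mp (ftOn_of_mono h hE)⟩, ?_, ?_⟩
  · show IsIso (R.map (h ≫ p))
    rw [R.map_comp, hp]
    infer_instance
  · show R.map (h ≫ ιE ≫ biprod.snd) = R.map (h ≫ p) ≫ φ
    rw [R.map_comp, R.map_comp, R.map_comp, hp, ← he, Category.assoc, Category.assoc, h2]

end Groth.Agent.S0816
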