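import Groth.Statements.S0818
import Groth.Agent.Lib.Helper8.DevMaster

set_option autoImplicit false
universe u
open Coherent

namespace Groth.Agent.S0818

open CategoryTheory AlgebraicGeometry in
/-- Let X be a nonempty Noetherian scheme and P an isomorphism-invariant property of O_X-modules such
that (1) in every short exact sequence of coherent O_X-modules, if two of the three terms satisfy P
then so does the third, and (2) for every integral scheme Z and closed immersion i : Z → X, with ξ
the generic point of Z, there is a coherent O_X-module G satisfying P whose support is exactly i(Z)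
and whose stalk at i(ξ) is isomorphic, as a module over the local ring O_{X,i(ξ)}, to the residue
field of that local ring. Then every coherent O_X-module satisfies P. (The published statement
leaves the nonemptiness of X implicit; it is needed to handle the zero module and is assumed
explicitly here.) -/
theorem result (X : Scheme.{u}) [IsNoetherian X] [Nonempty X]
    (P : X.Modules → Prop) (hP : ∀ M N : X.Modules, Nonempty (M ≅ N) → P M → P N)
    (h₁ : ∀ S : ShortComplex X.Modules, S.ShortExact → Coh.IsCoh S.X₁ → Coh.IsCoh S.X₂ → Coh.IsCoh S.X₃ →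
      (P S.X₁ → P S.X₂ → P S.X₃) ∧ (P S.X₁ → P S.X₃ → P S.X₂) ∧ (P S.X₂ → P S.X₃ → P S.X₁))
    (h₂ : ∀ (Z : Scheme.{u}) (i : Z ⟶ X) [IsClosedImmersion i] [IsIntegral Z],
      ∃ G : X.Modules, Coh.IsCoh G ∧ CohB1.support G = Set.range ⇑i ∧
        Nonempty (↑(G.presheaf.stalk (i (genericPoint Z))) ≃ₗ[X.presheaf.stalk (i (genericPoint Z))]
          IsLocalRing.ResidueField (X.presheaf.stalk (i (genericPoint Z)))) ∧ P G)
    (M : X.Modules) (hM : Coh.IsCoh M) : P M := by
  have h0 : ∀ N : X.Modules, CategoryTheory.Limits.IsZero N → P N := by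
    intro N hN
    obtain ⟨Z, i, hi, hZ⟩ := Groth.Agent.Lib.helper8.Dev.exists_integral_closed_subscheme X
    obtain ⟨G, hG, -, -, hPG⟩ := @h₂ Z i hi hZ
    let S : CategoryTheory.ShortComplex X.Modules :=
      CategoryTheory.ShortComplex.mk (𝟙 G) (0 : G ⟶ N) CategoryTheory.Limits.comp_zero
    have hS : S.ShortExact :=
      { exact := CategoryTheory.ShortComplex.exact_of_g_is_cokernel S
          (CategoryTheory.Limits.CokernelCofork.IsColimit.ofEpiOfIsZero _
            (inferInstanceAs (Epi (𝟙 G))) hN)
        mono_f := inferInstanceAs (Mono (𝟙 G))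
        epi_g := ⟨fun a b _ => hN.eq_of_src a b⟩ }
    exact (h₁ S hS hG hG (Groth.Agent.Lib.helper7.CohKer.isCoh_of_isZero hN)).1 hPG hPG
  refine Groth.Agent.Lib.helper8.Dev.devissage_master P hP Set.univ h0
    (fun S hS h1 h2 h3 _ => h₁ S hS h1 h2 h3) ?_ M hM (Set.subset_univ _)
  intro Z i hi hZ _
  obtain ⟨G, hG, hGs, hst, hPG⟩ := @h₂ Z i hi hZ
  exact Or.inr ⟨G, hG, hGs.le, hst, hPG⟩

end Groth.Agent.S0818
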