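import Groth.Statements.S0819
import Groth.Agent.Lib.Helper8.DevMaster

set_option autoImplicit false
universe u
open Coherent

namespace Groth.Agent.S0819

open CategoryTheory AlgebraicGeometry in
/-- Let X be a Noetherian scheme, Z₀ ⊆ X an irreducible closed subset with generic point ξ, and P an
isomorphism-invariant property of O_X-modules such that: (1) in every short exact sequence of
coherent modules supported in Z₀, P for two of the terms implies P for the third; (2) P holds for
i_* I whenever i : Z → X is an integral closed subscheme with i(Z) a proper subset of Z₀ and I ⊆ O_Z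
is a quasi-coherent ideal sheaf; (3) there is a coherent G with support exactly Z₀, stalk at ξ
isomorphic to the residue field over the local ring, and P(G). Then P holds for every coherent
module whose support is contained in Z₀. -/
theorem result (X : Scheme.{u}) [IsNoetherian X]
    (Z₀ : Set X) (hZ₀ : IsClosed Z₀) (hirr : IsIrreducible Z₀) (ξ : X) (hξ : ξ ∈ Z₀ ∧ closure {ξ} = Z₀)
    (P : X.Modules → Prop) (hP : ∀ M N : X.Modules, Nonempty (M ≅ N) → P M → P N)
    (h₁ : ∀ S : ShortComplex X.Modules, S.ShortExact → Coh.IsCoh S.X₁ → Coh.IsCoh S.X₂ → Coh.IsCoh S.X₃ →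
      CohB1.support S.X₂ ⊆ Z₀ →
      (P S.X₁ → P S.X₂ → P S.X₃) ∧ (P S.X₁ → P S.X₃ → P S.X₂) ∧ (P S.X₂ → P S.X₃ → P S.X₁))
    (h₂ : ∀ (Z : Scheme.{u}) (i : Z ⟶ X), IsClosedImmersion i → IsIntegral Z →
      Set.range ⇑i ⊆ Z₀ → Set.range ⇑i ≠ Z₀ →
      ∀ (I : Z.Modules) (ι : I ⟶ Coh.structureModule Z), Mono ι → Coh.IsQCoh I →
        P ((Coh.push i).obj I))
    (h₃ : ∃ G : X.Modules, Coh.IsCoh G ∧ CohB1.support G = Z₀ ∧
      Nonempty (↑(G.presheaf.stalk ξ) ≃ₗ[X.presheaf.stalk ξ] IsLocalRing.ResidueField (X.presheaf.stalk ξ)) ∧ P G)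
    (M : X.Modules) (hM : Coh.IsCoh M) (hsupp : CohB1.support M ⊆ Z₀) : P M := by
  obtain ⟨G, hG, hGs, hst, hPG⟩ := h₃
  have h0 : ∀ N : X.Modules, CategoryTheory.Limits.IsZero N → P N := by
    intro N hN
    let S : CategoryTheory.ShortComplex X.Modules :=
      CategoryTheory.ShortComplex.mk (𝟙 G) (0 : G ⟶ N) CategoryTheory.Limits.comp_zero
    have hS : S.ShortExact :=
      { exact := CategoryTheory.ShortComplex.exact_of_g_is_cokernel S
          (CategoryTheory.Limits.CokernelCofork.IsColimit.ofEpiOfIsZero _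
            (inferInstanceAs (Epi (𝟙 G))) hN)
        mono_f := inferInstanceAs (Mono (𝟙 G))
        epi_g := ⟨fun a b _ => hN.eq_of_src a b⟩ }
    exact (h₁ S hS hG hG (Groth.Agent.Lib.helper7.CohKer.isCoh_of_isZero hN) hGs.le).1 hPG hPG
  refine Groth.Agent.Lib.helper8.Dev.devissage_master P hP Z₀ h0 h₁ ?_ M hM hsupp
  intro Z i hi hZ hrange
  by_cases hne : Set.range ⇑i = Z₀
  · right
    have hcl : closure {i (genericPoint Z)} = Set.range ⇑i := by
      have h1 : closure {genericPoint Z} = (Set.univ : Set Z) := genericPoint_spec Z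
      rw [← Set.image_singleton, i.isClosedEmbedding.closure_image_eq, h1, Set.image_univ]
    have heq : i (genericPoint Z) = ξ := by
      have h1 : IsGenericPoint (i (genericPoint Z)) Z₀ := by rw [← hne]; exact hcl
      have h2 : IsGenericPoint ξ Z₀ := hξ.2
      exact h1.eq h2
    subst heq
    exact ⟨G, hG, by rw [hGs, hne], hst, hPG⟩
  · left
    exact fun I ι hι hI => h₂ Z i hi hZ hrange hne I ι hι hI

end Groth.Agent.S0819
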