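import Groth.Statements.S0834
import Groth.Agent.Lib.Helper8.GEKer

set_option autoImplicit false
universe u
open Formal2

namespace Groth.Agent.S0834

open CategoryTheory CategoryTheory.Limits AlgebraicGeometry in
/-- Let A be a ring, I ⊆ A an ideal and X a Noetherian scheme over Spec A. Then the full subcategory of
inverse systems of 𝒪_X-modules formed by the coherent formal modules for the ideal sheaf I·𝒪_X has
kernels. (This is the kernel half of the statement that this category is abelian; cokernels are
componentwise, and abelianness itself is not asserted here.) -/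
theorem result (A : Type u) [CommRing A] (I : Ideal A) (X : Scheme.{u})
    [X.Over (Spec (CommRingCat.of A))] [IsNoetherian X] : HasKernels (Formal2.CohFormalCat I X) := by
  classical
  refine ⟨fun {P P'} f => ?_⟩
  obtain ⟨K, hK, j, hj, huniv⟩ :=
    Groth.Agent.Lib.helper8.GEKer.exists_kernel I f.hom P.property P'.property
  choose lift hfac huniq using huniv
  let K' : Formal2.CohFormalCat I X := ⟨K, hK⟩
  let j' : K' ⟶ P := ObjectProperty.homMk j
  have hj' : j' ≫ f = 0 := by
    apply ObjectProperty.hom_ext
    exact hj
  have hcond : ∀ {W' : Formal2.CohFormalCat I X} (g' : W' ⟶ P), g' ≫ f = 0 →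
      g'.hom ≫ f.hom = 0 := fun g' h => congrArg (fun τ => τ.hom) h
  exact HasLimit.mk ⟨KernelFork.ofι j' hj', KernelFork.IsLimit.ofι j' hj'
    (fun {W'} g' h => ObjectProperty.homMk (lift W'.obj W'.property g'.hom (hcond g' h)))
    (fun {W'} g' h => by
      apply ObjectProperty.hom_ext
      exact hfac W'.obj W'.property g'.hom (hcond g' h))
    (fun {W'} g' h m hm => by
      apply ObjectProperty.hom_ext
      exact huniq W'.obj W'.property g'.hom (hcond g' h) m.hom (congrArg (fun τ => τ.hom) hm))⟩

end Groth.Agent.S0834
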