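import Groth.Statements.S0840
import Groth.Agent.Lib.Lead.GE8
import Groth.Agent.Lib.Helper11.Bidual1
import Groth.Agent.Lib.Helper16.FLFTensor
import Groth.Agent.Lib.Helper21.FLFDual3
import Groth.Agent.Lib.Helper16.FLF7
-- import your own Groth.Agent.* helpers here

set_option autoImplicit false
set_option backward.isDefEq.respectTransparency false
universe u
open Formal2

namespace Groth.Agent.S0840

open CategoryTheory AlgebraicGeometry Opposite in
/-- Let A be a ring, I ⊆ A an ideal and X a Noetherian scheme over Spec A such that for every finite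
locally free O_X-module E the canonical map H^0(X, E) → lim_n H^0(X, E/I^(n+1)E) is bijective. Then
for all finite locally free O_X-modules E and E', every map of inverse systems ψ : (E/I^(n+1)E)_n →
(E'/I^(n+1)E')_n is induced by exactly one map φ : E → E', in the sense that for every n the
projection E → E/I^(n+1)E followed by ψ_n equals φ followed by the projection E' → E'/I^(n+1)E'.
(The published statement also asserts the converse implication, which is not stated here.) -/
theorem result (A : Type u) [CommRing A] (I : Ideal A) (X : Scheme.{u})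
    [X.Over (Spec (CommRingCat.of A))] [IsNoetherian X]
    (h : ∀ E : X.Modules, FlatMod.IsFinLocFree E → Function.Bijective (Formal.toHHlim I E 0))
    (E E' : X.Modules) (hE : FlatMod.IsFinLocFree E) (hE' : FlatMod.IsFinLocFree E')
    (ψ : Formal.completion I E ⟶ Formal.completion I E') :
    ∃! φ : E ⟶ E', ∀ n : ℕ, Formal.modPowπ I (n + 1) E ≫ ψ.app (op n) = φ ≫ Formal.modPowπ I (n + 1) E' := by
  have : E.IsQuasicoherent := Groth.Agent.Lib.helper16.FLF.isQuasicoherent_of_isFinLocFree E hE
  have hEc : Coh.IsCoh E :=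
    ⟨Groth.Agent.Lib.helper16.FLF.isQuasicoherent_of_isFinLocFree E hE,
      Groth.Agent.Lib.helper16.FLF.isFiniteType_of_isFinLocFree E hE⟩
  have hE'c : Coh.IsCoh E' :=
    ⟨Groth.Agent.Lib.helper16.FLF.isQuasicoherent_of_isFinLocFree E' hE',
      Groth.Agent.Lib.helper16.FLF.isFiniteType_of_isFinLocFree E' hE'⟩
  have h𝓗 : ∀ G : X.Modules, Coh.IsCoh G →
      ((Groth.Agent.Lib.Lead.GE.shHom E).obj G).IsQuasicoherent := fun G hG =>
    (Groth.Agent.Lib.helper21.ShHomCoh.isCoh_sheafHom hEc hG).1
  -- `ℋom(E, E') ≅ E' ⊗ E^∨` is finite locally free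
  have hH : FlatMod.IsFinLocFree ((Groth.Agent.Lib.Lead.GE.shHom E).obj E') := by
    have h1 : FlatMod.IsFinLocFree (CohB1.tensorMod E' (Groth.Agent.Lib.helper12.InvDual.dualMod E)) :=
      Groth.Agent.Lib.helper16.FLFTensor.isFinLocFree_tensor hE'
        (Groth.Agent.Lib.helper11.Bidual.isFinLocFree_dualMod hE)
    exact Groth.Agent.Lib.helper16.FLF.isFinLocFree_of_iso
      ((Groth.Agent.Lib.helper21.FLFDual.tensDualIso hE).app E') h1
  exact Groth.Agent.Lib.Lead.GE.existsUnique_hom_of_dict (Groth.Agent.Lib.Lead.GE.homDict A E)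
    (Groth.Agent.Lib.Lead.GE.globDict E) I hEc E' hE'c h𝓗
    (Groth.Agent.Lib.Lead.GE.limBij_of_bijective_toHHlim I _ (h _ hH)) ψ

end Groth.Agent.S0840
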