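import Groth.Statements.S0846
import Mathlib
import Groth.Agent.Lib.Helper11.SerrePn
import Groth.Agent.Lib.Helper28.TwistCover
import Groth.Agent.Lib.Helper28.TwistTensor2
import Groth.Agent.Lib.Helper12.GradedFT
-- import your own Groth.Agent.* helpers here

set_option autoImplicit false
universe u
open Coherent

namespace Groth.Agent.S0846

open CategoryTheory CategoryTheory.Limits AlgebraicGeometry in
/-- `O(n d) ≅ O(d)^{⊗ n}` when the `D₊(g)`, `g ∈ 𝒜 d`, cover `Proj`. -/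
noncomputable def twistPowIso {R A : Type u} [CommRing R] [CommRing A] [Algebra R A]
    (𝒜 : ℕ → Submodule R A) [GradedAlgebra 𝒜] {d : ℕ} (hd : 0 < d)
    (hcov : ∀ x : ProjectiveSpectrum 𝒜, ∃ g ∈ 𝒜 d, g ∉ x.asHomogeneousIdeal) :
    ∀ n : ℕ, Twist.twist 𝒜 ((n : ℤ) * d) ≅ CohB1.tensorPow (Twist.twist 𝒜 (d : ℤ)) n
  | 0 => eqToIso (by simp) ≪≫ (Groth.Agent.Lib.helper28.TwistZero.twistZeroIso 𝒜).symm
  | n + 1 =>
    eqToIso (by push_cast; ring_nf) ≪≫
      (Groth.Agent.Lib.helper28.TwistTensor2.twistTensorIso 𝒜 hd hcov (n : ℤ) (d : ℤ)).symm ≪≫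
      PicGrp.tensorModIso (twistPowIso 𝒜 hd hcov n) (Iso.refl _)

open CategoryTheory CategoryTheory.Limits AlgebraicGeometry in
theorem isInverseOf_pow {R A : Type u} [CommRing R] [CommRing A] [Algebra R A]
    (𝒜 : ℕ → Submodule R A) [GradedAlgebra 𝒜] {d : ℕ} (hd : 0 < d)
    (hcov : ∀ x : ProjectiveSpectrum 𝒜, ∃ g ∈ 𝒜 d, g ∉ x.asHomogeneousIdeal) (N : ℕ) :
    ClSub.IsInverseOf (CohB1.tensorPow (Twist.twist 𝒜 (d : ℤ)) N)
      (Twist.twist 𝒜 (-((N : ℤ) * d))) :=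
  ⟨PicGrp.tensorModIso (twistPowIso 𝒜 hd hcov N).symm (Iso.refl _) ≪≫
    Groth.Agent.Lib.helper28.TwistTensor2.twistTensorIso 𝒜 hd hcov (N : ℤ) (-((N : ℤ) * d)) ≪≫
    eqToIso (by rw [add_neg_cancel]) ≪≫
    (Groth.Agent.Lib.helper28.TwistZero.twistZeroIso 𝒜).symm⟩

/-- A Noetherian graded ring has a degree `E > 0` such that the `D₊(g)`, `g ∈ 𝒜 E`, cover `Proj`. -/
theorem exists_degree_cover {R A : Type u} [CommRing R] [CommRing A] [Algebra R A]
    (𝒜 : ℕ → Submodule R A) [GradedAlgebra 𝒜] [IsNoetherianRing A] :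
    ∃ E : ℕ, 0 < E ∧ ∀ x : ProjectiveSpectrum 𝒜, ∃ g ∈ 𝒜 E, g ∉ x.asHomogeneousIdeal := by
  classical
  have hfg : (HomogeneousIdeal.irrelevant 𝒜).toIdeal.FG :=
    (isNoetherianRing_iff_ideal_fg A).mp inferInstance _
  obtain ⟨S, e, hS, hspan⟩ := Groth.Agent.Lib.helper12.TildeFT.exists_homogeneous_gens 𝒜 hfg
  refine ⟨∏ s ∈ S, e s, Finset.prod_pos fun s hs => (hS s hs).1, fun x => ?_⟩
  have hex : ∃ s ∈ S, s ∉ x.asHomogeneousIdeal := by
    by_contra hcon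
    simp only [not_exists, not_and, not_not] at hcon
    apply x.not_irrelevant_le
    intro z hz
    have hz' : z ∈ (HomogeneousIdeal.irrelevant 𝒜).toIdeal := hz
    rw [hspan] at hz'
    have hle : Ideal.span (S : Set A) ≤ x.asHomogeneousIdeal.toIdeal :=
      Ideal.span_le.mpr fun g hg => hcon g hg
    exact hle hz'
  obtain ⟨s, hs, hsx⟩ := hex
  obtain ⟨k, hk⟩ := Finset.dvd_prod_of_mem e hs
  refine ⟨s ^ k, ?_, fun h => hsx (x.isPrime.mem_of_pow_mem k h)⟩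
  have := SetLike.pow_mem_graded k (hS s hs).2
  rw [hk, mul_comm]
  simpa [smul_eq_mul] using this


open CategoryTheory CategoryTheory.Limits AlgebraicGeometry in
/-- Let A be a Noetherian graded ring (graded by ℕ as an R-algebra) and X = Proj A. Then every coherent
O_X-module is a quotient of a finite coproduct of twisting modules O_X(d_1), …, O_X(d_r). -/
theorem result {R A : Type u} [CommRing R] [CommRing A] [Algebra R A]
    (𝒜 : ℕ → Submodule R A) [GradedAlgebra 𝒜] [IsNoetherianRing A] (F : (Proj 𝒜).Modules) (hF : Coh.IsCoh F) :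
    ∃ (r : ℕ) (d : Fin r → ℤ) (φ : (∐ fun j : Fin r => Twist.twist 𝒜 (d j)) ⟶ F), Epi φ := by
  obtain ⟨E, hE, hcov⟩ := exists_degree_cover 𝒜
  have : IsNoetherian (Proj 𝒜) := Groth.Agent.Lib.helper12.GradedFT.isNoetherian_proj 𝒜
  have : CompactSpace (Proj 𝒜) := inferInstance
  have hqs : QuasiSeparatedSpace (Proj 𝒜) := inferInstance
  have hamp : CohB1.IsAmple (Twist.twist 𝒜 (E : ℤ)) :=
    Groth.Agent.Lib.helper28.TwistCover.isAmple_twist_of_cover 𝒜 hE hcov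
  obtain ⟨N₀, h⟩ := Groth.Agent.Lib.helper11.TensorEpi.exists_epi_sigma_of_isAmple hamp F hF
  obtain ⟨m, π, hπ⟩ := h N₀ le_rfl _ (isInverseOf_pow 𝒜 hE hcov N₀)
  exact ⟨m, fun _ => -((N₀ : ℤ) * E), π, hπ⟩

end Groth.Agent.S0846
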