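import Groth.Statements.S0847
import Mathlib
import Groth.Agent.S0846
import Groth.Agent.Lib.Helper11.AmpleVan
import Groth.Agent.Lib.Helper2.TensorQCoh
import Groth.Agent.Lib.Helper12.TwistFT
-- import your own Groth.Agent.* helpers here

set_option autoImplicit false
universe u
open Coherent

namespace Groth.Agent.S0847

open CategoryTheory AlgebraicGeometry in
/-- `O(n)` is coherent on `Proj` of a Noetherian graded ring (any degrees). -/
theorem isCoh_twist {R A : Type u} [CommRing R] [CommRing A] [Algebra R A]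
    (𝒜 : ℕ → Submodule R A) [GradedAlgebra 𝒜] [IsNoetherianRing A] (n : ℤ) :
    Coh.IsCoh (Twist.twist 𝒜 n) := by
  classical
  have hq : (Twist.twist 𝒜 n).IsQuasicoherent :=
    Groth.Agent.Lib.helper28.TwistQCoh.twist_isQuasicoherent 𝒜 n
  refine ⟨hq, ?_⟩
  have hfg : (HomogeneousIdeal.irrelevant 𝒜).toIdeal.FG :=
    (isNoetherianRing_iff_ideal_fg A).mp inferInstance _
  obtain ⟨S, e, hS, hspan⟩ := Groth.Agent.Lib.helper12.TildeFT.exists_homogeneous_gens 𝒜 hfg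
  have hspan' : (HomogeneousIdeal.irrelevant 𝒜).toIdeal =
      Ideal.span (Set.range (fun j : S => (j.1 : A))) := by
    rw [hspan, Subtype.range_coe_subtype]
    rfl
  refine Groth.Agent.Lib.helper16.CohFinite.isFiniteType_of_finite_sections
    (X := Proj 𝒜) (Twist.twist 𝒜 n) (ι := S)
    (fun j => Proj.basicOpen 𝒜 (j.1 : A))
    (fun j => Proj.isAffineOpen_basicOpen 𝒜 _ (hS j.1 j.2).2 (hS j.1 j.2).1) ?_ ?_
  · exact Proj.iSup_basicOpen_eq_top 𝒜 (fun j : S => (j.1 : A)) hspan'.le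
  · intro j
    exact Groth.Agent.Lib.helper12.TwistFT.finite_sections_basicOpen 𝒜 n (hS j.1 j.2).1 (hS j.1 j.2).2

open CategoryTheory AlgebraicGeometry in
/-- Let A be a Noetherian graded ring (graded by ℕ as an R-algebra), X = Proj A, F a coherent O_X-module
and p > 0. Then the twists F(d) = F ⊗ O_X(d) have vanishing H^p for every sufficiently large d. -/
theorem result {R A : Type u} [CommRing R] [CommRing A] [Algebra R A]
    (𝒜 : ℕ → Submodule R A) [GradedAlgebra 𝒜] [IsNoetherianRing A] (F : (Proj 𝒜).Modules) (hF : Coh.IsCoh F)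
    (p : ℕ) (hp : 0 < p) :
    ∃ d₀ : ℤ, ∀ d : ℤ, d₀ ≤ d → Subsingleton (Coh.HH (Proj 𝒜) (Twist.twistBy 𝒜 F d) p) := by
  classical
  obtain ⟨E, hE, hcov⟩ := Groth.Agent.S0846.exists_degree_cover 𝒜
  have hN : IsNoetherian (Proj 𝒜) := Groth.Agent.Lib.helper12.GradedFT.isNoetherian_proj 𝒜
  have hamp : CohB1.IsAmple (Twist.twist 𝒜 (E : ℤ)) :=
    Groth.Agent.Lib.helper28.TwistCover.isAmple_twist_of_cover 𝒜 hE hcov
  have hfg : (HomogeneousIdeal.irrelevant 𝒜).toIdeal.FG :=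
    (isNoetherianRing_iff_ideal_fg A).mp inferInstance _
  have hft : Algebra.FiniteType (𝒜 0) A := Groth.Agent.Lib.helper12.GradedFT.finiteType_of_fg 𝒜 hfg
  have hN0 : IsNoetherianRing (𝒜 0) := inferInstance
  -- coherence of `F ⊗ O(r)`
  have hcoh : ∀ r : ℕ, Coh.IsCoh (CohB1.tensorMod F (Twist.twist 𝒜 (r : ℤ))) := by
    intro r
    have h1 := isCoh_twist 𝒜 (r : ℤ)
    have hFq : F.IsQuasicoherent := hF.1
    have hTq : (Twist.twist 𝒜 (r : ℤ)).IsQuasicoherent := h1.1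
    exact ⟨Groth.Agent.Lib.helper2.TensorQCoh.isQuasicoherent_tensorMod F _,
      Groth.Agent.Lib.helper2.TensorQCoh.isFiniteType_tensorMod F _ hF.2 h1.2⟩
  have hvan := fun r : ℕ =>
    Groth.Agent.Lib.helper11.AmpleVan.serre_vanishing_of_isAmple (R := 𝒜 0)
      (Proj.toSpecZero 𝒜) hamp _ (hcoh r)
  choose n₀ hn₀ using hvan
  let D : ℕ := (Finset.range E).sup n₀
  refine ⟨((E * D : ℕ) : ℤ), fun d hd => ?_⟩
  have hd0 : 0 ≤ d := le_trans (by positivity) hd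
  obtain ⟨dn, rfl⟩ := Int.eq_ofNat_of_zero_le hd0
  have hd' : E * D ≤ dn := by exact_mod_cast hd
  let k := dn / E
  let r := dn % E
  have hrE : r < E := Nat.mod_lt _ hE
  have hdn : r + E * k = dn := Nat.mod_add_div dn E
  have hDk : D ≤ k := by
    rw [Nat.le_div_iff_mul_le hE, mul_comm]
    exact hd'
  have hk : n₀ r ≤ k :=
    (Finset.le_sup (f := n₀) (Finset.mem_range.mpr hrE)).trans hDk
  have h0 := hn₀ r k hk p hp
  -- `F ⊗ O(dn) ≅ (F ⊗ O(r)) ⊗ O(E)^{⊗ k}`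
  have e1 : Twist.twist 𝒜 ((dn : ℕ) : ℤ) ≅
      CohB1.tensorMod (Twist.twist 𝒜 (r : ℤ)) (CohB1.tensorPow (Twist.twist 𝒜 (E : ℤ)) k) :=
    eqToIso (by rw [← hdn]; push_cast; ring_nf) ≪≫
      (Groth.Agent.Lib.helper28.TwistTensor2.twistTensorIso 𝒜 hE hcov (k : ℤ) (r : ℤ)).symm ≪≫
      Groth.Agent.Lib.Lead.ModTensor.braid _ _ ≪≫
      PicGrp.tensorModIso (Iso.refl _) (Groth.Agent.S0846.twistPowIso 𝒜 hE hcov k)
  have e2 : CohB1.tensorMod (CohB1.tensorMod F (Twist.twist 𝒜 (r : ℤ)))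
        (CohB1.tensorPow (Twist.twist 𝒜 (E : ℤ)) k) ≅ Twist.twistBy 𝒜 F ((dn : ℕ) : ℤ) :=
    Groth.Agent.Lib.Lead.ModTensor.assoc _ _ _ ≪≫ PicGrp.tensorModIso (Iso.refl F) e1.symm
  exact Groth.Agent.Lib.Helper20.TwistEquivPn.subsingleton_of_iso e2 p h0

end Groth.Agent.S0847
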