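import Groth.Statements.S0854
import Mathlib
import Groth.Agent.Lib.Helper21.TopRestr
import Groth.Agent.Lib.Helper27.DeltaSeq
-- import your own Groth.Agent.* helpers here

set_option autoImplicit false
universe u
open CategoryTheory
open CohTop

namespace Groth.Agent.S0854

open TopologicalSpace in
/-- For abelian sheaves, one degree at a time: for a continuous map f : X -> Y, an abelian sheaf F on X,
an open V of Y and g : f^{-1}(V) -> V the restriction of f, the restriction of R^p f_* F to V is
isomorphic to R^p g_* (F|_{f^{-1} V}). -/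
theorem result {X Y : TopCat.{u}} (f : X ⟶ Y) (F : CohTop.Ab X)
    (V : Opens Y) (p : ℕ) :
    Nonempty (CohTop.restr ((CohTop.Rpush f p).obj F) V ≅
      (CohTop.Rpush (TopCat.ofHom ⟨(V : Set Y).restrictPreimage f, f.hom.continuous.restrictPreimage⟩ :
          TopCat.of ((Opens.map f).obj V) ⟶ TopCat.of V) p).obj
        (CohTop.restr F ((Opens.map f).obj V))) := by
  let g := Groth.Agent.Lib.Helper21.TopRestr.gRestr f V
  let U := (Opens.map f).obj V
  haveI : Limits.PreservesFiniteLimits (CohTop.push f) := by
    haveI : (CohTop.push f).IsRightAdjoint := by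
      dsimp only [CohTop.push, TopCat.Sheaf.pushforward]
      infer_instance
    infer_instance
  haveI : Limits.PreservesFiniteLimits (CohTop.push g) := by
    haveI : (CohTop.push g).IsRightAdjoint := by
      dsimp only [CohTop.push, TopCat.Sheaf.pushforward]
      infer_instance
    infer_instance
  haveI : (CohTop.push g).Additive := ⟨rfl⟩
  let T : ℕ → CohTop.Ab X ⥤ CohTop.Ab (TopCat.of V) := fun p => CohTop.Rpush f p ⋙ CohTop.restrFunctor V
  let T' : ℕ → CohTop.Ab X ⥤ CohTop.Ab (TopCat.of V) := fun p => CohTop.restrFunctor U ⋙ CohTop.Rpush g p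
  have hT : Groth.Agent.Lib.helper27.DeltaSeq.IsExSeq T :=
    (Groth.Agent.Lib.helper27.DeltaSeq.isExSeq_rightDerived (CohTop.push f)).comp (CohTop.restrFunctor V)
  have hT' : Groth.Agent.Lib.helper27.DeltaSeq.IsExSeq T' :=
    (Groth.Agent.Lib.helper27.DeltaSeq.isExSeq_rightDerived (CohTop.push g)).precomp (CohTop.restrFunctor U)
      (fun I hI i => by
        haveI := hI
        exact Functor.isZero_rightDerived_obj_injective_succ (CohTop.push g) i _)
  have e₀ : T 0 ≅ T' 0 :=
    Functor.isoWhiskerRight (CohTop.push f).rightDerivedZeroIsoSelf (CohTop.restrFunctor V) ≪≫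
      Groth.Agent.Lib.Helper21.TopRestr.midIso f V ≪≫
      Functor.isoWhiskerLeft (CohTop.restrFunctor U) (CohTop.push g).rightDerivedZeroIsoSelf.symm
  exact Groth.Agent.Lib.helper27.DeltaSeq.iso hT hT' e₀ p F

end Groth.Agent.S0854
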