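import Groth.Statements.S0856
import Mathlib
import Groth.Agent.Lib.Helper21.InjAcyc4
-- import your own Groth.Agent.* helpers here

set_option autoImplicit false
universe u
open CategoryTheory
open CohSite

namespace Groth.Agent.S0856

open Groth.Agent.Lib.helper21.InjAcyc in
lemma mono_free {C : Type u} [SmallCategory C]
    {J : GrothendieckTopology C} (O : Sheaf J RingCat.{u})
    {X Y : Cᵒᵖ ⥤ Type u} (φ : X ⟶ Y) [Mono φ] : Mono ((freeMod O).map φ) := by
  have h1 : Mono ((PresheafOfModules.free.{u} O.obj).map φ) := by
    apply (PresheafOfModules.toPresheaf O.obj).mono_of_mono_map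
    apply (config := {allowSynthFailures := true}) NatTrans.mono_of_mono_app
    intro V
    rw [AddCommGrpCat.mono_iff_injective]
    have hφ : Function.Injective (φ.app V) := by
      rw [← mono_iff_injective]; infer_instance
    exact Finsupp.mapDomain_injective hφ
  dsimp only [freeMod, Functor.comp_map]
  infer_instance


open Opposite in
/-- Let (C, O) be a ringed site, a : U' -> U a monomorphism of C and I an injective sheaf of O-modules.
Then the restriction map I(U) -> I(U') is surjective. -/
theorem result {C : Type u} [SmallCategory C]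
    {J : GrothendieckTopology C} (O : Sheaf J RingCat.{u}) (I : SheafOfModules.{u} O) [Injective I]
    {U U' : C} (a : U' ⟶ U) [Mono a] : Function.Surjective (I.val.map a.op) := by
  intro s
  let adj := Groth.Agent.Lib.helper21.InjAcyc.freeModAdj O
  let F := Groth.Agent.Lib.helper21.InjAcyc.freeMod O
  haveI : Mono (yoneda.map a) := inferInstance
  haveI := mono_free O (yoneda.map a)
  let f : F.obj (yoneda.obj U') ⟶ I := (adj.homEquiv _ _).symm (yonedaEquiv.symm s)
  let g : F.obj (yoneda.obj U) ⟶ I := Injective.factorThru f (F.map (yoneda.map a))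
  have hg : F.map (yoneda.map a) ≫ g = f := Injective.comp_factorThru f _
  refine ⟨yonedaEquiv (adj.homEquiv _ _ g), ?_⟩
  have h1 : adj.homEquiv _ _ f = yonedaEquiv.symm s := Equiv.apply_symm_apply _ _
  have h2 := adj.homEquiv_naturality_left (yoneda.map a) g
  rw [hg, h1] at h2
  have h3 := congrArg yonedaEquiv h2
  rw [Equiv.apply_symm_apply] at h3
  rw [h3]
  exact (yonedaEquiv_naturality (adj.homEquiv (yoneda.obj U) I g) a)

end Groth.Agent.S0856
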