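import Groth.Statements.S0857
import Groth.Agent.Lib.Helper27.ExtProd
-- import your own Groth.Agent.* helpers here

set_option autoImplicit false
universe u
open CategoryTheory
open CohSite

namespace Groth.Agent.S0857

open Opposite CategoryTheory.Limits in
/-- For a family of abelian sheaves F_i on a site and an object U, the map H^1(U, ∏ F_i) -> ∏ H^1(U,
F_i) induced by the projections is injective. (The degree-zero part of the published statement, that
sections of a product are the product of sections, is not restated.) -/
theorem result {C : Type u} [SmallCategory C] {J : GrothendieckTopology C}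
    {I : Type u} (F : I → Sheaf J AddCommGrpCat.{u}) (U : C) :
    Function.Injective (fun (x : CohSite.HU (∏ᶜ F) 1 U) (i : I) =>
      (((Sheaf.cohomologyPresheafFunctor J 1).map (Pi.π F i)).app (op U)).hom x) := by
  intro x y hxy
  have key : ∀ z : CohSite.HU (∏ᶜ F) 1 U,
      (∀ i, (((Sheaf.cohomologyPresheafFunctor J 1).map (Pi.π F i)).app (op U)).hom z = 0) → z = 0 := by
    intro z hz
    exact Groth.Agent.Lib.helper27.ExtProd.ext_one_eq_zero F _ z hz
  have h := key (x - y) (fun i => by
    rw [map_sub, sub_eq_zero]
    exact congrFun hxy i)
  exact sub_eq_zero.1 h

end Groth.Agent.S0857
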