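import Groth.Statements.S0859
import Groth.Agent.Lib.Helper27.CechH1
-- import your own Groth.Agent.* helpers here

set_option autoImplicit false
universe u
open CategoryTheory
open CohSite

namespace Groth.Agent.S0859

open Opposite CategoryTheory.Limits in
/-- Consider abelian sheaves F ⊂ G with quotient H on a site with fibre products, and an object U. If
every covering sieve of U can be refined by a covering family with respect to which the first Cech
cohomology group of F vanishes, then G(U) -> H(U) is surjective. -/
theorem result {C : Type u} [SmallCategory C] [HasPullbacks C]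
    {J : GrothendieckTopology C} (S : ShortComplex (Sheaf J AddCommGrpCat.{u})) (hS : S.ShortExact)
    (U : C)
    (h : ∀ T ∈ J U, ∃ (ι : Type u) (Y : ι → Over U), (∀ i, T.arrows (Y i).hom) ∧
      Sieve.ofArrows (fun i => (Y i).left) (fun i => (Y i).hom) ∈ J U ∧
      IsZero (CohCx.cechH S.X₁.obj Y 1)) :
    Function.Surjective (S.g.hom.app (op U)) := by
  intro s
  have hepi : Epi S.g := hS.epi_g
  have hls : Sheaf.IsLocallySurjective S.g := (Sheaf.isLocallySurjective_iff_epi' (φ := S.g)).2 hepi
  have hT := Presheaf.imageSieve_mem J S.g.hom (U := Opposite.op U) s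
  obtain ⟨ι, Y, hY, hcov, hz⟩ := h _ hT
  choose t ht using hY
  exact Groth.Agent.Lib.helper27.CechSite.lift_of_h1 J (Over.forget U) Y (fun i => (Y i).hom)
    (fun T s s' => by
      show s.2.left ≫ (Y s.1).hom = s'.2.left ≫ (Y s'.1).hom
      rw [Over.w, Over.w])
    hcov
    (fun i j Z gi gj hij => ⟨Over.mk (gi ≫ (Y i).hom), 𝟙 Z, Over.homMk gi rfl,
      Over.homMk gj hij.symm, by simp, by simp⟩)
    S hS ((HomologicalComplex.exactAt_iff_isZero_homology _ _).2 hz) s t ht

end Groth.Agent.S0859
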