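import Groth.Statements.S0860
import Mathlib
import Groth.Agent.Lib.Helper21.OverPostFlat
import Groth.Agent.Lib.Helper27.CechInj
import Groth.Agent.S0861
-- import your own Groth.Agent.* helpers here

set_option autoImplicit false
universe u
open CategoryTheory
open CohSite

namespace Groth.Agent.S0860

open CategoryTheory.Limits in
/-- Let u : C -> D be a functor between sites with fibre products which sends coverings to coverings,
commutes with fibre products, and is continuous and cocontinuous, and let I be an injective abelian
sheaf on D. Then the sheaf V ↦ I(u(V)) on C (which is the pullback of I along the morphism of topoi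
attached to u) has H^p(U, -) = 0 for all p > 0 and all objects U of C. -/
theorem result {C D : Type u} [SmallCategory C]
    [SmallCategory D] [HasPullbacks C] [HasPullbacks D]
    (J : GrothendieckTopology C) (K : GrothendieckTopology D) (u : C ⥤ D)
    (hu : CoverPreserving J K u) [PreservesLimitsOfShape WalkingCospan u]
    [u.IsContinuous J K] [u.IsCocontinuous J K]
    (I : Sheaf K AddCommGrpCat.{u}) [Injective I] (U : C) (p : ℕ) :
    Subsingleton (CohSite.HU ((CohSite.push K J u).obj I) (p + 1) U) := by
  refine Groth.Agent.S0861.result J Set.univ
    (fun W ι Y => Sieve.ofArrows (fun i => (Y i).left) (fun i => (Y i).hom) ∈ J W)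
    ?_ ?_ ((CohSite.push K J u).obj I) ?_ U (Set.mem_univ _) p
  · intro W ι Y h
    exact ⟨trivial, h, fun _ _ => trivial⟩
  · intro W _ T hT
    refine ⟨(Σ V : C, {f : V ⟶ W // T f}), fun i => Over.mk i.2.1, ?_, fun i => i.2.2⟩
    refine J.superset_covering ?_ hT
    intro V f hf
    exact Sieve.ofArrows_mk _ _ (⟨V, f, hf⟩ : Σ V : C, {f : V ⟶ W // T f})
  · intro W ι Y hY q
    haveI : Injective I.obj :=
      Injective.injective_of_adjoint (sheafificationAdjunction K AddCommGrpCat.{u}) I
    have hinj : Injective ((Over.forget W).op ⋙ ((CohSite.push K J u).obj I).obj) :=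
      Groth.Agent.Lib.Helper21.OverPostFlat.injective_restrict u W I.obj
    exact (HomologicalComplex.exactAt_iff_isZero_homology _ _).1
      (@Groth.Agent.Lib.helper27.Cech.exactAt_of_injective _ _ _ _ Y
        ((Over.forget W).op ⋙ ((CohSite.push K J u).obj I).obj) hinj q)

end Groth.Agent.S0860
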