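import Groth.Statements.S0879
import Groth.Agent.S0878
import Groth.Agent.Lib.Helper1.RlimSheaves

set_option autoImplicit false
universe u
open CategoryTheory
open CohSite

namespace Groth.Agent.S0879

open Opposite CategoryTheory.Limits DerivedCategory Pretriangulated
  Groth.Agent.H1.RlimSheaves Groth.Agent.H1.HDUNat Groth.Agent.H1.AbSheafRlim
  Groth.Agent.H1.AbSheafAcyc Groth.Agent.H1.HDUSections Groth.Agent.Lib.helper7.FreeYoneda

/-- transport of `LimOneIsZero` along isomorphisms of inverse systems -/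
lemma limOneIsZero_of_equiv {A A' : ℕ → Type u} [∀ n, AddCommGroup (A n)]
    [∀ n, AddCommGroup (A' n)]
    (t : ∀ n, A (n + 1) →+ A n) (t' : ∀ n, A' (n + 1) →+ A' n) (e : ∀ n, A n ≃+ A' n)
    (he : ∀ n x, e n (t n x) = t' n (e (n + 1) x)) (h : CohCx.LimOneIsZero A t) :
    CohCx.LimOneIsZero A' t' := by
  intro b
  obtain ⟨a, ha⟩ := h (fun n => (e n).symm (b n))
  refine ⟨fun n => e n (a n), ?_⟩
  funext n
  have h1 : a n - t n (a (n + 1)) = (e n).symm (b n) := congrFun ha n
  change e n (a n) - t' n (e (n + 1) (a (n + 1))) = b n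
  rw [← he, ← map_sub, h1, AddEquiv.apply_symm_apply]

lemma limOneIsZero_of_subsingleton {A : ℕ → Type u} [∀ n, AddCommGroup (A n)]
    (t : ∀ n, A (n + 1) →+ A n) (h : ∀ n, Subsingleton (A n)) : CohCx.LimOneIsZero A t := by
  intro b
  exact ⟨0, funext fun n => Subsingleton.elim _ _⟩

lemma subsingleton_ext_of_isZero {𝒜 : Type*} [Category 𝒜] [Abelian 𝒜] [HasExt 𝒜]
    {X Y : 𝒜} (h : IsZero Y) (k : ℕ) :
    Subsingleton (Abelian.Ext X Y k) := by
  have key : ∀ γ : Abelian.Ext X Y k, γ = 0 := by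
    intro γ
    have h1 := γ.comp_mk₀_id
    rw [← h1, h.eq_of_src (𝟙 Y) 0, Abelian.Ext.mk₀_zero, Abelian.Ext.comp_zero]
  exact ⟨fun α β => by rw [key α, key β]⟩

lemma isRlim_of_iso {T : Type*} [Category T] [Preadditive T] [HasZeroObject T] [HasShift T ℤ]
    [∀ n : ℤ, (shiftFunctor T n).Additive] [Pretriangulated T]
    (K : ℕ → T) (t : ∀ n, K (n + 1) ⟶ K n) [HasProduct K] {L L' : T} (e : L' ≅ L)
    (h : DCoh.IsRlim K t L) : DCoh.IsRlim K t L' := by
  obtain ⟨a, c, hT⟩ := h
  refine ⟨e.hom ≫ a, c ≫ e.inv⟦(1 : ℤ)⟧', ?_⟩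
  refine isomorphic_distinguished _ hT _
    (Triangle.isoMk _ _ e (Iso.refl _) (Iso.refl _) ?_ ?_ ?_)
  · exact (Category.comp_id (e.hom ≫ a))
  · exact (Category.comp_id _).trans (Category.id_comp _).symm
  · have h1 : (c ≫ e.inv⟦(1 : ℤ)⟧') ≫ e.hom⟦(1 : ℤ)⟧' = c := by
      rw [Category.assoc, ← Functor.map_comp, e.inv_hom_id, CategoryTheory.Functor.map_id, Category.comp_id]
    exact h1.trans (Category.id_comp c).symm

lemma isZero_limit_of_isZero {D : Type*} [Category D] [HasZeroMorphisms D] {I : Type*}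
    [Category I] (G : I ⥤ D) [HasLimit G] (h : ∀ i, IsZero (G.obj i)) : IsZero (limit G) := by
  rw [IsZero.iff_id_eq_zero]
  apply limit.hom_ext
  intro i
  exact (h i).eq_of_tgt _ _


section main

variable {C : Type u} [SmallCategory C] {J : GrothendieckTopology C}
  [HasDerivedCategory.{u} (Sheaf J AddCommGrpCat.{u})]

/-- `H^0(single_0 F) ≅ F` -/
noncomputable abbrev hIso (F : Sheaf J AddCommGrpCat.{u}) :
    CohCx.HD ((singleFunctor _ 0).obj F) 0 ≅ F :=
  (singleFunctorCompHomologyFunctorIso (Sheaf J AddCommGrpCat.{u}) 0).app F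

lemma hIso_naturality {F G : Sheaf J AddCommGrpCat.{u}} (f : F ⟶ G) :
    (homologyFunctor _ 0).map ((singleFunctor _ 0).map f) ≫ (hIso G).hom = (hIso F).hom ≫ f :=
  (singleFunctorCompHomologyFunctorIso (Sheaf J AddCommGrpCat.{u}) 0).hom.naturality f

lemma isZero_HD_single (F : Sheaf J AddCommGrpCat.{u}) (q : ℤ) (hq : q ≠ 0) :
    IsZero (CohCx.HD ((singleFunctor _ 0).obj F) q) := by
  rcases lt_or_gt_of_ne hq with h | h
  · exact isZero_of_isGE _ 0 q h
  · exact isZero_of_isLE _ 0 q h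

omit [HasDerivedCategory.{u} (Sheaf J AddCommGrpCat.{u})] in
lemma subsingleton_sections_of_isZero {G : Sheaf J AddCommGrpCat.{u}} (h : IsZero G) (U : C) :
    Subsingleton (G.obj.obj (op U)) := by
  have : Subsingleton ((freeSheaf J).obj U ⟶ G) := ⟨fun f g => h.eq_of_tgt f g⟩
  exact (homEquiv J U G).symm.subsingleton

variable (F : ℕ → Sheaf J AddCommGrpCat.{u}) (t : ∀ n, F (n + 1) ⟶ F n)

/-- the system of `H^0` of the singles is the original system -/
noncomputable def sysIso :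
    Hsys (fun n => (singleFunctor _ 0).obj (F n)) (fun n => (singleFunctor _ 0).map (t n)) 0 ≅
      CohCx.opSequence F t := by
  let α : Hsys (fun n => (singleFunctor _ 0).obj (F n))
      (fun n => (singleFunctor _ 0).map (t n)) 0 ⟶ CohCx.opSequence F t :=
    NatTrans.ofOpSequence (fun n => (hIso (F n)).hom) (fun n => by
      erw [Functor.ofOpSequence_map_homOfLE_succ, Functor.ofOpSequence_map_homOfLE_succ]
      exact hIso_naturality (t n))
  have : IsIso α := by
    apply (config := { allowSynthFailures := true }) NatIso.isIso_of_isIso_app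
    intro n
    change IsIso (hIso (F n.unop)).hom
    infer_instance
  exact asIso α


variable [HasProduct fun n => (singleFunctor (Sheaf J AddCommGrpCat.{u}) 0).obj (F n)]

omit [HasProduct fun n => (singleFunctor (Sheaf J AddCommGrpCat.{u}) 0).obj (F n)] in
lemma h1' (B : Set C)
    (h1 : ∀ U ∈ B, ∀ (p n : ℕ), Subsingleton (CohSite.HU (F n) (p + 1) U)) :
    ∀ U ∈ B, ∀ (p : ℕ) (q : ℤ) (n : ℕ),
      Subsingleton (CohSite.HU (CohCx.HD ((singleFunctor _ 0).obj (F n)) q) (p + 1) U) := by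
  intro U hU p q n
  by_cases hq : q = 0
  · subst hq
    exact subsingleton_HU_of_iso (hIso (F n)).symm (p + 1) U (h1 U hU p n)
  · exact subsingleton_ext_of_isZero (isZero_HD_single (F n) q hq) (p + 1)

omit [HasProduct fun n => (singleFunctor (Sheaf J AddCommGrpCat.{u}) 0).obj (F n)] in
lemma h2' (B : Set C)
    (h2 : ∀ U ∈ B, CohCx.LimOneIsZero (fun n => (F n).obj.obj (op U))
      (fun n => ((t n).hom.app (op U)).hom)) :
    ∀ U ∈ B, ∀ (q : ℤ), CohCx.LimOneIsZero
      (fun n => (CohCx.HD ((singleFunctor _ 0).obj (F n)) q).obj.obj (op U))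
      (fun n => (((homologyFunctor _ q).map ((singleFunctor _ 0).map (t n))).hom.app
        (op U)).hom) := by
  intro U hU q
  by_cases hq : q = 0
  · subst hq
    refine limOneIsZero_of_equiv _ _
      (fun n => (((sheafSections J AddCommGrpCat.{u}).obj (op U)).mapIso
        (hIso (F n)).symm).addCommGroupIsoToAddEquiv) ?_ (h2 U hU)
    intro n x
    have h3 : t n ≫ (hIso (F n)).inv = (hIso (F (n + 1))).inv ≫
        (homologyFunctor _ 0).map ((singleFunctor _ 0).map (t n)) :=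
      (singleFunctorCompHomologyFunctorIso (Sheaf J AddCommGrpCat.{u}) 0).inv.naturality (t n)
    exact congrArg (fun φ => (ConcreteCategory.hom (φ.hom.app (op U))) x) h3
  · exact limOneIsZero_of_subsingleton _
      (fun n => subsingleton_sections_of_isZero (isZero_HD_single (F n) q hq) U)

/-- every map `ℤ_U[-(p+1)] ⟶ single_0 G` vanishes iff `H^{p+1}(U, G) = 0` -/
lemma subsingleton_HU_of_hom_eq_zero (G : Sheaf J AddCommGrpCat.{u}) (U : C) (p : ℕ)
    (h : ∀ σ : X' (J := J) U ((p + 1 : ℕ) : ℤ) ⟶ (singleFunctor _ 0).obj G, σ = 0) :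
    Subsingleton (CohSite.HU G (p + 1) U) := by
  have h3 : Subsingleton (X' (J := J) U ((p + 1 : ℕ) : ℤ) ⟶ (singleFunctor _ 0).obj G) :=
    ⟨fun σ σ' => by rw [h σ, h σ']⟩
  have h4 : Subsingleton ((singleFunctor _ 0).obj ((freeSheaf J).obj U) ⟶
      ((singleFunctor _ 0).obj G)⟦((p + 1 : ℕ) : ℤ)⟧) :=
    (homShiftEquiv (eps U ((p + 1 : ℕ) : ℤ)) ((singleFunctor _ 0).obj G)).symm.toEquiv.subsingleton
  exact (Abelian.Ext.homEquiv (X := (freeSheaf J).obj U) (Y := G) (n := p + 1)).subsingleton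

theorem main (B : Set C)
    (hB : ∀ U : C, ∃ (ι : Type u) (Y : ι → C) (f : ∀ i, Y i ⟶ U),
      Sieve.ofArrows Y f ∈ J U ∧ ∀ i, Y i ∈ B)
    (h1 : ∀ U ∈ B, ∀ (p n : ℕ), Subsingleton (CohSite.HU (F n) (p + 1) U))
    (h2 : ∀ U ∈ B, CohCx.LimOneIsZero (fun n => (F n).obj.obj (op U))
      (fun n => ((t n).hom.app (op U)).hom)) :
    DCoh.IsRlim (fun n => (DerivedCategory.singleFunctor _ 0).obj (F n))
      (fun n => (DerivedCategory.singleFunctor _ 0).map (t n))
      ((DerivedCategory.singleFunctor _ 0).obj (limit (CohCx.opSequence F t))) ∧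
    ∀ U ∈ B, ∀ p : ℕ, Subsingleton (CohSite.HU (limit (CohCx.opSequence F t)) (p + 1) U) := by
  have H1 := h1' F B h1
  have H2 := h2' F t B h2
  -- some derived limit
  obtain ⟨L, a, c, hT⟩ := distinguished_cocone_triangle₁
    (Pi.lift fun n => Pi.π (fun n => (singleFunctor _ 0).obj (F n)) n -
      Pi.π (fun n => (singleFunctor _ 0).obj (F n)) (n + 1) ≫ (singleFunctor _ 0).map (t n))
  have hL : DCoh.IsRlim (fun n => (singleFunctor _ 0).obj (F n))
      (fun n => (singleFunctor _ 0).map (t n)) L := ⟨a, c, hT⟩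
  obtain ⟨a', ha'⟩ := Groth.Agent.S0878.exists_isRlimVia _ _ L hL
  have hiso : ∀ q, IsIso (phi ha' q) := fun q => isIso_phi ha' B hB H1 H2 q
  have hz : ∀ q : ℤ, q ≠ 0 → IsZero (CohCx.HD L q) := by
    intro q hq
    have := hiso q
    refine IsZero.of_iso ?_ (asIso (phi ha' q))
    apply isZero_limit_of_isZero
    intro n
    exact isZero_HD_single (F n.unop) q hq
  have hGE : L.IsGE 0 := by
    rw [isGE_iff]
    intro i hi
    exact hz i (by omega)
  have hLE : L.IsLE 0 := by
    rw [isLE_iff]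
    intro i hi
    exact hz i (by omega)
  obtain ⟨A, ⟨eA⟩⟩ := exists_iso_singleFunctor_obj_of_isGE_of_isLE L 0
  have := hiso 0
  let e1 : A ≅ limit (CohCx.opSequence F t) :=
    (hIso A).symm ≪≫ (homologyFunctor _ 0).mapIso eA.symm ≪≫ asIso (phi ha' 0) ≪≫
      HasLimit.isoOfNatIso (sysIso F t)
  let e2 : (singleFunctor _ 0).obj (limit (CohCx.opSequence F t)) ≅ L :=
    (singleFunctor _ 0).mapIso e1.symm ≪≫ eA.symm
  have hL₀ := isRlim_of_iso _ _ e2 hL
  refine ⟨hL₀, ?_⟩
  obtain ⟨a₀, ha₀⟩ := Groth.Agent.S0878.exists_isRlimVia _ _ _ hL₀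
  intro U hU p
  apply subsingleton_HU_of_hom_eq_zero
  intro σ
  have hbij : ∀ n, Function.Bijective (rhoHom ((singleFunctor _ 0).obj (F n))
      (((p + 1 : ℕ) : ℤ) - 1) U) :=
    fun n => rhoHom_bijective _ B hB (fun V hV p' q' => H1 V hV p' q' n) U hU _
  refine eq_zero_of_comp_a ha₀ U _ hbij (H2 U hU _) σ ?_
  intro n
  apply (homShiftEquiv (eps U ((p + 1 : ℕ) : ℤ)) ((singleFunctor _ 0).obj (F n))).injective
  rw [map_zero]
  exact hom_shift_eq_zero_of_HU (h1 U hU p n) _

end main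

open Opposite CategoryTheory.Limits in
/-- Let (F_n) be an inverse system of abelian sheaves on a site and B a class of objects such that every
object is covered by members of B, H^p(U, F_n) = 0 for p > 0 and U in B, and the system of sections
F_n(U) has vanishing R^1 lim for U in B. Then lim F_n (in degree zero) is a derived limit of (F_n)
in the derived category and H^p(U, lim F_n) = 0 for p > 0 and U in B. -/
theorem result {C : Type u} [SmallCategory C]
    {J : GrothendieckTopology C} [HasDerivedCategory.{u} (Sheaf J AddCommGrpCat.{u})]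
    (F : ℕ → Sheaf J AddCommGrpCat.{u}) (t : ∀ n, F (n + 1) ⟶ F n)
    [HasProduct fun n => (DerivedCategory.singleFunctor (Sheaf J AddCommGrpCat.{u}) 0).obj (F n)]
    (B : Set C)
    (hB : ∀ U : C, ∃ (ι : Type u) (Y : ι → C) (f : ∀ i, Y i ⟶ U), Sieve.ofArrows Y f ∈ J U ∧ ∀ i, Y i ∈ B)
    (h1 : ∀ U ∈ B, ∀ (p n : ℕ), Subsingleton (CohSite.HU (F n) (p + 1) U))
    (h2 : ∀ U ∈ B, CohCx.LimOneIsZero (fun n => (F n).obj.obj (op U)) (fun n => ((t n).hom.app (op U)).hom)) :
    DCoh.IsRlim (fun n => (DerivedCategory.singleFunctor _ 0).obj (F n))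
      (fun n => (DerivedCategory.singleFunctor _ 0).map (t n))
      ((DerivedCategory.singleFunctor _ 0).obj (limit (CohCx.opSequence F t))) ∧
    ∀ U ∈ B, ∀ p : ℕ, Subsingleton (CohSite.HU (limit (CohCx.opSequence F t)) (p + 1) U) := by
  exact main F t B hB h1 h2

end Groth.Agent.S0879
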