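import Groth.Statements.S0871
import Groth.Agent.Lib.Helper21.TopRestr
import Groth.Agent.Lib.Helper21.AbShriekFree
import Groth.Agent.Lib.Helper25.DerivedAdj

set_option autoImplicit false
universe u
open CategoryTheory
open CohTop

namespace Groth.Agent.S0871

open TopologicalSpace CategoryTheory.Limits Opposite
open Groth.Agent.Lib.Helper21 Groth.Agent.Lib

variable {X : TopCat.{u}} (U : Opens X)

/-- the left adjoint of restriction: extension by zero. -/
noncomputable abbrev Lf : CohTop.Ab (TopCat.of U) ⥤ CohTop.Ab X :=
  (U.sheafEquivOver (A := AddCommGrpCat.{u})).inverse ⋙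
    AbShriek.jShriek U (Opens.grothendieckTopology X)

/-- the adjunction `j_! ⊣ j^*`. -/
noncomputable def adj : Lf U ⊣ CohTop.restrFunctor U :=
  ((U.sheafEquivOver (A := AddCommGrpCat.{u})).symm.toAdjunction).comp
    (AbShriek.jAdj U (Opens.grothendieckTopology X))

instance : (Lf U).Additive := (adj U).left_adjoint_additive

instance : PreservesFiniteLimits (Lf U) := by
  dsimp only [Lf]
  infer_instance

instance : PreservesFiniteColimits (Lf U) := by
  dsimp only [Lf]
  infer_instance

/-- sections over `U`, as a set-valued functor. -/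
noncomputable abbrev secU : CohTop.Ab X ⥤ Type u :=
  (sheafSections (Opens.grothendieckTopology X) AddCommGrpCat.{u}).obj (op U) ⋙
    forget AddCommGrpCat.{u}

lemma image_top : U.isOpenEmbedding.isOpenMap.functor.obj ⊤ = U :=
  Opens.isOpenEmbedding_obj_top U

/-- `ℤ[U]` corepresents sections over `U`. -/
noncomputable def corepFree :
    (secU U).CorepresentableBy (CohCx.freeSheaf (Opens.grothendieckTopology X) U) where
  homEquiv {G} := helper7.FreeYoneda.homEquiv (Opens.grothendieckTopology X) U G
  homEquiv_comp g f := helper7.FreeYoneda.homEquiv_naturality_right _ U g f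

/-- the comparison `G(j(⊤)) ≃ G(U)`. -/
noncomputable def topEquiv (G : CohTop.Ab X) :
    ((CohTop.restrFunctor U).obj G).obj.obj (op ⊤) ≃ G.obj.obj (op U) :=
  ((forget AddCommGrpCat.{u}).mapIso
    (G.obj.mapIso (eqToIso (congrArg op (image_top U))))).toEquiv

lemma topEquiv_naturality {G G' : CohTop.Ab X} (φ : G ⟶ G')
    (x : ((CohTop.restrFunctor U).obj G).obj.obj (op ⊤)) :
    topEquiv U G' (((CohTop.restrFunctor U).map φ).hom.app (op ⊤) x) =
      φ.hom.app (op U) (topEquiv U G x) := by
  have := φ.hom.naturality (eqToHom (congrArg op (image_top U)))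
  exact congrArg (fun t => (ConcreteCategory.hom t) x) this.symm

/-- `j_! ℤ[⊤]` corepresents sections over `U`. -/
noncomputable def corepL :
    (secU U).CorepresentableBy
      ((Lf U).obj (CohCx.freeSheaf (Opens.grothendieckTopology (TopCat.of U)) ⊤)) where
  homEquiv {G} := ((adj U).homEquiv _ G).trans
    ((helper7.FreeYoneda.homEquiv (Opens.grothendieckTopology (TopCat.of U)) ⊤
      ((CohTop.restrFunctor U).obj G)).trans (topEquiv U G))
  homEquiv_comp {G G'} g f := by
    dsimp only [Equiv.trans_apply]
    rw [Adjunction.homEquiv_naturality_right, helper7.FreeYoneda.homEquiv_naturality_right]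
    exact topEquiv_naturality U g _

/-- `j_! ℤ[⊤] ≅ ℤ[U]`. -/
noncomputable def shriekIso :
    (Lf U).obj (CohCx.freeSheaf (Opens.grothendieckTopology (TopCat.of U)) ⊤) ≅
      CohCx.freeSheaf (Opens.grothendieckTopology X) U :=
  (corepL U).uniqueUpToIso (corepFree U)

section Gen

variable {D : Type*} [Category D] [Preadditive D]

/-- precomposition with an isomorphism, as an additive equivalence. -/
def preAddEquiv {A B : D} (e : A ≅ B) (Z : D) : (B ⟶ Z) ≃+ (A ⟶ Z) where
  toFun f := e.hom ≫ f
  invFun g := e.inv ≫ g
  left_inv f := by simp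
  right_inv g := by simp
  map_add' _ _ := Preadditive.comp_add _ _ _ _ _ _

/-- postcomposition with an isomorphism, as an additive equivalence. -/
def postAddEquiv {A B : D} (e : A ≅ B) (Z : D) : (Z ⟶ A) ≃+ (Z ⟶ B) where
  toFun f := f ≫ e.hom
  invFun g := g ≫ e.inv
  left_inv f := by simp
  right_inv g := by simp
  map_add' _ _ := Preadditive.add_comp _ _ _ _ _ _

end Gen

theorem main [HasDerivedCategory.{u} (CohTop.Ab X)] [HasDerivedCategory.{u} (CohTop.Ab (TopCat.of U))]
    [PreservesFiniteLimits (CohTop.restrFunctor U)] [PreservesFiniteColimits (CohTop.restrFunctor U)]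
    (K : DerivedCategory (CohTop.Ab X)) (p : ℤ) :
    Nonempty (CohCx.HDU K p U ≃+
      CohCx.HDU ((CohTop.restrFunctor U).mapDerivedCategory.obj K) p ⊤) := by
  let adjD := helper25.DerivedAdj.mapDerivedCategoryAdj (adj U)
  let ZT := CohCx.freeSheaf (Opens.grothendieckTopology (TopCat.of U)) ⊤
  -- step 1: replace `ℤ[U]` by `j_! ℤ[⊤]`
  let e1 := preAddEquiv ((DerivedCategory.singleFunctor (CohTop.Ab X) 0).mapIso (shriekIso U))
    ((shiftFunctor (DerivedCategory (CohTop.Ab X)) p).obj K)
  -- step 2: `single (j_! ℤ[⊤]) ≅ j_! (single ℤ[⊤])`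
  let e2 := preAddEquiv (((Lf U).mapDerivedCategorySingleFunctor 0).app ZT)
    ((shiftFunctor (DerivedCategory (CohTop.Ab X)) p).obj K)
  -- step 3: the derived adjunction
  let e3 := adjD.homAddEquiv ((DerivedCategory.singleFunctor (CohTop.Ab (TopCat.of U)) 0).obj ZT)
    ((shiftFunctor (DerivedCategory (CohTop.Ab X)) p).obj K)
  -- step 4: restriction commutes with shifts
  let e4 := postAddEquiv (((CohTop.restrFunctor U).mapDerivedCategory.commShiftIso p).app K)
    ((DerivedCategory.singleFunctor (CohTop.Ab (TopCat.of U)) 0).obj ZT)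
  exact ⟨((e1.trans e2).trans e3).trans e4⟩

open TopologicalSpace CategoryTheory.Limits in
/-- For an object K of the derived category of abelian sheaves on X and an open U, H^p(U, K) is
isomorphic to H^p(U, K|_U), where K|_U is the image of K under the functor on derived categories
induced by the (exact) restriction to U. Exactness of restriction is assumed through instance
arguments (true, but not recorded by Mathlib in this generality). -/
theorem result {X : TopCat.{u}} (U : Opens X)
    [HasDerivedCategory.{u} (CohTop.Ab X)] [HasDerivedCategory.{u} (CohTop.Ab (TopCat.of U))]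
    [PreservesFiniteLimits (CohTop.restrFunctor U)] [PreservesFiniteColimits (CohTop.restrFunctor U)]
    (K : DerivedCategory (CohTop.Ab X)) (p : ℤ) :
    Nonempty (CohCx.HDU K p U ≃+ CohCx.HDU ((CohTop.restrFunctor U).mapDerivedCategory.obj K) p ⊤) := by
  exact main U K p

end Groth.Agent.S0871
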