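import Groth.Statements.S0936
import Groth.Agent.Lib.Helper1.CompactBdd
import Groth.Agent.Lib.Helper1.AbSheafAcyc

set_option autoImplicit false
universe u
open CategoryTheory
open CohSite

namespace Groth.Agent.S0936

open Opposite CategoryTheory.Limits Groth.Agent.H1.HomSum

variable {C : Type u} [SmallCategory C] (J : GrothendieckTopology C) (U : C)

/-- a colimit of zero objects is zero -/
lemma isZero_of_isColimit {C J : Type*} [Category C] [Category J] [HasZeroMorphisms C]
    {F : J ⥤ C} {c : Cocone F} (hc : IsColimit c) (h : ∀ j, IsZero (F.obj j)) : IsZero c.pt := by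
  rw [IsZero.iff_id_eq_zero]
  apply hc.hom_ext
  intro j
  exact (h j).eq_of_src _ _

/-- `Hom(ℤ_U, -)` commutes with coproducts if `H^0(U, -)` does -/
lemma H0 (h0 : ∀ ι : Type u, PreservesColimitsOfShape (Discrete ι)
      ((Sheaf.cohomologyPresheafFunctor J 0).flip.obj (op U)))
    {ι : Type u} (Y : ι → Sheaf J AddCommGrpCat.{u}) :
    Function.Bijective (homSum (CohCx.freeSheaf J U) Y (Cofan.mk (∐ Y) (Sigma.ι Y))) := by
  have := h0 ι
  exact bijective_homSum_of_preserves ((Sheaf.cohomologyPresheafFunctor J 0).flip.obj (op U))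
    (CohCx.freeSheaf J U) (fun F => Abelian.Ext.addEquiv₀) (by
    intro F F' φ x
    change Abelian.Ext.addEquiv₀ (x.comp (Abelian.Ext.mk₀ φ) (add_zero 0)) =
      Abelian.Ext.addEquiv₀ x ≫ φ
    apply Abelian.Ext.addEquiv₀.symm.injective
    rw [AddEquiv.symm_apply_apply]
    change _ = Abelian.Ext.mk₀ (Abelian.Ext.addEquiv₀ x ≫ φ)
    rw [← Abelian.Ext.mk₀_comp_mk₀, Abelian.Ext.mk₀_addEquiv₀_apply]) Y

/-- coproducts of `ℤ_U`-acyclic sheaves are `ℤ_U`-acyclic if the `H^p(U, -)` commute with coproducts -/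
lemma Hp (h : ∀ (p : ℕ) (ι : Type u), PreservesColimitsOfShape (Discrete ι)
      ((Sheaf.cohomologyPresheafFunctor J p).flip.obj (op U)))
    {ι : Type u} (Y : ι → Sheaf J AddCommGrpCat.{u}) (k : ℕ)
    (hY : ∀ i, Subsingleton (Abelian.Ext.{u} (CohCx.freeSheaf J U) (Y i) k)) :
    Subsingleton (Abelian.Ext.{u} (CohCx.freeSheaf J U) (∐ Y) k) := by
  have := h k ι
  have hc := isColimitOfPreserves ((Sheaf.cohomologyPresheafFunctor J k).flip.obj (op U))
    (colimit.isColimit (Discrete.functor Y))
  have hz := isZero_of_isColimit hc (fun j => by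
    have : Subsingleton ↑((Discrete.functor Y ⋙
      (Sheaf.cohomologyPresheafFunctor J k).flip.obj (op U)).obj j) := hY j.as
    exact AddCommGrpCat.isZero_of_subsingleton _)
  exact AddCommGrpCat.subsingleton_of_isZero hz

theorem main {C : Type u} [SmallCategory C] (J : GrothendieckTopology C)
    (U : C) [HasDerivedCategory.{u} (Sheaf J AddCommGrpCat.{u})]
    (h : ∀ (p : ℕ) (ι : Type u), PreservesColimitsOfShape (Discrete ι)
      ((Sheaf.cohomologyPresheafFunctor J p).flip.obj (op U)))
    {I : Type u} (M : I → DerivedCategory (Sheaf J AddCommGrpCat.{u})) [HasCoproduct M] (a : ℤ)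
    (hM : ∀ i, (M i).IsGE a) :
    Function.Bijective (CohDer.homSumToHomCoprod
      ((DerivedCategory.singleFunctor (Sheaf J AddCommGrpCat.{u}) 0).obj (CohCx.freeSheaf J U)) M) := by
  rw [homSumToHomCoprod_eq]
  exact Groth.Agent.H1.CompactBdd.bijective_homSum_single
    (Groth.Agent.H1.AbSheafAcyc.hKinjAb (J := J)) (CohCx.freeSheaf J U)
    (fun Y => H0 J U (h 0) Y) (fun Y k _ hY => Hp J U h Y k hY) M a hM
    (Cofan.mk (∐ M) (Sigma.ι M)) (coproductIsCoproduct M)

open Opposite CategoryTheory.Limits in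
/-- Abelian sheaves, O = Z: let U be an object of a site such that each functor F ↦ H^p(U, F) on abelian
sheaves preserves direct sums. Then for every family (M_i) of objects of the derived category of
abelian sheaves which is uniformly bounded below and whose direct sum exists, the canonical map ⊕_i
Hom(Z[h_U]^#, M_i) -> Hom(Z[h_U]^#, ⊕_i M_i) is bijective. -/
theorem result {C : Type u} [SmallCategory C] (J : GrothendieckTopology C)
    (U : C) [HasDerivedCategory.{u} (Sheaf J AddCommGrpCat.{u})]
    (h : ∀ (p : ℕ) (ι : Type u), PreservesColimitsOfShape (Discrete ι)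
      ((Sheaf.cohomologyPresheafFunctor J p).flip.obj (op U)))
    {I : Type u} (M : I → DerivedCategory (Sheaf J AddCommGrpCat.{u})) [HasCoproduct M] (a : ℤ)
    (hM : ∀ i, (M i).IsGE a) :
    Function.Bijective (CohDer.homSumToHomCoprod
      ((DerivedCategory.singleFunctor (Sheaf J AddCommGrpCat.{u}) 0).obj (CohCx.freeSheaf J U)) M) := by
  exact main J U h M a hM

end Groth.Agent.S0936
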